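import Mathlib

/-!
# The presentation `⟨x, y | x³, y⁵, (xy)²⟩` of the alternating group of degree 5 (helper28)

A coset enumeration over the trivial subgroup, written out: 60 words `W i`, the 120 edges `W i * g = W j`
of the Cayley graph (59 of them hold by definition, the other 61 are deduced one at a time from the three
relators), and the images of the 60 words in `alternatingGroup (Fin 5)`, which are distinct.
-/

set_option autoImplicit false

namespace Cfsg.Agent.Helper28.A5Pres

/-- The relators. -/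
def rels : Set (FreeGroup (Fin 2)) :=
  {FreeGroup.of (0 : Fin 2) ^ 3, FreeGroup.of (1 : Fin 2) ^ 5, (FreeGroup.of (0 : Fin 2) * FreeGroup.of 1) ^ 2}

/-- The presented group. -/
abbrev P : Type := PresentedGroup rels

/-- First generator. -/
def x : P := PresentedGroup.of 0
/-- Second generator. -/
def y : P := PresentedGroup.of 1

theorem x3 : x * (x * x) = 1 := by
  have h := PresentedGroup.one_of_mem (rels := rels) (x := FreeGroup.of (0 : Fin 2) ^ 3) (by simp [rels])
  rw [map_pow] at h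
  rw [← h]
  show x * (x * x) = x ^ 3
  rw [pow_succ, pow_two, mul_assoc]

theorem y5 : y * (y * (y * (y * y))) = 1 := by
  have h := PresentedGroup.one_of_mem (rels := rels) (x := FreeGroup.of (1 : Fin 2) ^ 5) (by simp [rels])
  rw [map_pow] at h
  rw [← h]
  show y * (y * (y * (y * y))) = y ^ 5
  simp only [pow_succ, pow_zero, one_mul, mul_assoc]

theorem xy2 : x * (y * (x * y)) = 1 := by
  have h := PresentedGroup.one_of_mem (rels := rels)
    (x := (FreeGroup.of (0 : Fin 2) * FreeGroup.of 1) ^ 2) (by simp [rels])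
  rw [map_pow, map_mul] at h
  rw [← h]
  show x * (y * (x * y)) = (x * y) ^ 2
  rw [pow_two, mul_assoc]

theorem yx2 : y * (x * (y * x)) = 1 := by
  have h : x⁻¹ * (x * (y * (x * y))) * x = 1 := by rw [xy2]; simp
  rw [← h]
  simp only [mul_assoc, inv_mul_cancel_left]

theorem dx {a b c : P} (h1 : a * x = b) (h2 : b * x = c) : c * x = a := by
  subst h1; subst h2
  rw [mul_assoc, mul_assoc, x3, mul_one]

theorem dy {a b c d e : P} (h1 : a * y = b) (h2 : b * y = c) (h3 : c * y = d) (h4 : d * y = e) :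
    e * y = a := by
  subst h1; subst h2; subst h3; subst h4
  rw [mul_assoc, mul_assoc, mul_assoc, mul_assoc, y5, mul_one]

theorem dxy1 {a b c d : P} (h2 : b * y = c) (h3 : c * x = d) (h4 : d * y = a) : a * x = b := by
  subst h2; subst h3; subst h4
  rw [mul_assoc, mul_assoc, mul_assoc, yx2, mul_one]

theorem dxy2 {a b c d : P} (h1 : a * x = b) (h3 : c * x = d) (h4 : d * y = a) : b * y = c := by
  subst h3; subst h4; subst h1
  rw [mul_assoc, mul_assoc, mul_assoc, xy2, mul_one]

/-- The generator named by a boolean. -/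
def gen : Bool → P
  | false => x
  | true => y

/-- The value of a word. -/
def ev (l : List Bool) : P := l.foldl (fun acc c => acc * gen c) 1

/-- The 60 words. -/
def paths : List (List Bool) :=
  [[],
   [false],
   [true],
   [false, false],
   [false, true],
   [true, false],
   [true, true],
   [false, false, true],
   [false, true, false],
   [false, true, true],
   [true, false, false],
   [true, true, false],
   [true, true, true],
   [false, false, true, false],
   [false, false, true, true],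
   [false, true, false, false],
   [false, true, true, false],
   [false, true, true, true],
   [true, false, false, true],
   [true, true, false, false],
   [true, true, true, false],
   [false, false, true, false, false],
   [false, false, true, true, false],
   [false, false, true, true, true],
   [false, true, false, false, true],
   [false, true, true, false, false],
   [false, true, true, true, false],
   [true, false, false, true, true],
   [true, true, false, false, true],
   [false, false, true, false, false, true],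
   [false, false, true, true, false, false],
   [false, false, true, true, true, false],
   [false, true, false, false, true, true],
   [false, true, true, false, false, true],
   [true, false, false, true, true, false],
   [true, false, false, true, true, true],
   [true, true, false, false, true, true],
   [false, false, true, false, false, true, true],
   [false, false, true, true, false, false, true],
   [false, true, false, false, true, true, false],
   [false, true, false, false, true, true, true],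
   [false, true, true, false, false, true, true],
   [true, false, false, true, true, false, false],
   [true, false, false, true, true, true, false],
   [true, true, false, false, true, true, false],
   [false, false, true, false, false, true, true, false],
   [false, false, true, false, false, true, true, true],
   [false, false, true, true, false, false, true, true],
   [false, true, false, false, true, true, false, false],
   [false, true, false, false, true, true, true, false],
   [false, true, true, false, false, true, true, false],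
   [true, false, false, true, true, false, false, true],
   [true, true, false, false, true, true, false, false],
   [false, false, true, false, false, true, true, false, false],
   [false, false, true, false, false, true, true, true, false],
   [false, false, true, true, false, false, true, true, false],
   [false, true, true, false, false, true, true, false, false],
   [true, false, false, true, true, false, false, true, true],
   [true, true, false, false, true, true, false, false, true],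
   [false, true, true, false, false, true, true, false, false, true]]

/-- The 60 elements. -/
def W (i : ℕ) : P := ev (paths.getD i [])

theorem ex_0 : W 0 * x = W 1 := rfl
theorem ey_0 : W 0 * y = W 2 := rfl
theorem ex_1 : W 1 * x = W 3 := rfl
theorem ex_3 : W 3 * x = W 0 := dx ex_0 ex_1
theorem ey_1 : W 1 * y = W 4 := rfl
theorem ex_2 : W 2 * x = W 5 := rfl
theorem ey_5 : W 5 * y = W 3 := dxy2 ex_2 ex_3 ey_0
theorem ey_2 : W 2 * y = W 6 := rfl
theorem ey_3 : W 3 * y = W 7 := rfl
theorem ex_4 : W 4 * x = W 8 := rfl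
theorem ey_8 : W 8 * y = W 0 := dxy2 ex_4 ex_0 ey_1
theorem ey_4 : W 4 * y = W 9 := rfl
theorem ex_5 : W 5 * x = W 10 := rfl
theorem ex_10 : W 10 * x = W 2 := dx ex_2 ex_5
theorem ex_6 : W 6 * x = W 11 := rfl
theorem ey_11 : W 11 * y = W 10 := dxy2 ex_6 ex_10 ey_2
theorem ey_6 : W 6 * y = W 12 := rfl
theorem ey_12 : W 12 * y = W 8 := dy ey_8 ey_0 ey_2 ey_6
theorem ex_7 : W 7 * x = W 13 := rfl
theorem ey_13 : W 13 * y = W 1 := dxy2 ex_7 ex_1 ey_3
theorem ey_7 : W 7 * y = W 14 := rfl
theorem ex_8 : W 8 * x = W 15 := rfl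
theorem ex_15 : W 15 * x = W 4 := dx ex_4 ex_8
theorem ex_9 : W 9 * x = W 16 := rfl
theorem ey_16 : W 16 * y = W 15 := dxy2 ex_9 ex_15 ey_4
theorem ey_9 : W 9 * y = W 17 := rfl
theorem ey_17 : W 17 * y = W 13 := dy ey_13 ey_1 ey_4 ey_9
theorem ey_10 : W 10 * y = W 18 := rfl
theorem ex_11 : W 11 * x = W 19 := rfl
theorem ex_19 : W 19 * x = W 6 := dx ex_6 ex_11
theorem ex_12 : W 12 * x = W 20 := rfl
theorem ey_20 : W 20 * y = W 19 := dxy2 ex_12 ex_19 ey_6
theorem ex_13 : W 13 * x = W 21 := rfl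
theorem ex_21 : W 21 * x = W 7 := dx ex_7 ex_13
theorem ex_14 : W 14 * x = W 22 := rfl
theorem ey_22 : W 22 * y = W 21 := dxy2 ex_14 ex_21 ey_7
theorem ey_14 : W 14 * y = W 23 := rfl
theorem ey_23 : W 23 * y = W 5 := dy ey_5 ey_3 ey_7 ey_14
theorem ex_18 : W 18 * x = W 23 := dxy1 ey_23 ex_5 ey_10
theorem ey_15 : W 15 * y = W 24 := rfl
theorem ex_24 : W 24 * x = W 12 := dxy1 ey_12 ex_8 ey_15
theorem ex_20 : W 20 * x = W 24 := dx ex_24 ex_12
theorem ex_16 : W 16 * x = W 25 := rfl
theorem ex_25 : W 25 * x = W 9 := dx ex_9 ex_16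
theorem ex_17 : W 17 * x = W 26 := rfl
theorem ey_26 : W 26 * y = W 25 := dxy2 ex_17 ex_25 ey_9
theorem ey_18 : W 18 * y = W 27 := rfl
theorem ey_19 : W 19 * y = W 28 := rfl
theorem ey_21 : W 21 * y = W 29 := rfl
theorem ex_29 : W 29 * x = W 17 := dxy1 ey_17 ex_13 ey_21
theorem ex_26 : W 26 * x = W 29 := dx ex_29 ex_17
theorem ex_22 : W 22 * x = W 30 := rfl
theorem ex_30 : W 30 * x = W 14 := dx ex_14 ex_22
theorem ex_23 : W 23 * x = W 31 := rfl
theorem ex_31 : W 31 * x = W 18 := dx ex_18 ex_23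
theorem ey_31 : W 31 * y = W 30 := dxy2 ex_23 ex_30 ey_14
theorem ey_24 : W 24 * y = W 32 := rfl
theorem ey_25 : W 25 * y = W 33 := rfl
theorem ex_27 : W 27 * x = W 34 := rfl
theorem ey_34 : W 34 * y = W 31 := dxy2 ex_27 ex_31 ey_18
theorem ey_27 : W 27 * y = W 35 := rfl
theorem ey_35 : W 35 * y = W 11 := dy ey_11 ey_10 ey_18 ey_27
theorem ex_28 : W 28 * x = W 35 := dxy1 ey_35 ex_11 ey_19
theorem ey_28 : W 28 * y = W 36 := rfl
theorem ey_29 : W 29 * y = W 37 := rfl
theorem ey_30 : W 30 * y = W 38 := rfl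
theorem ex_32 : W 32 * x = W 39 := rfl
theorem ey_39 : W 39 * y = W 20 := dxy2 ex_32 ex_20 ey_24
theorem ey_36 : W 36 * y = W 39 := dy ey_39 ey_20 ey_19 ey_28
theorem ey_32 : W 32 * y = W 40 := rfl
theorem ey_40 : W 40 * y = W 16 := dy ey_16 ey_15 ey_24 ey_32
theorem ex_33 : W 33 * x = W 40 := dxy1 ey_40 ex_16 ey_25
theorem ey_33 : W 33 * y = W 41 := rfl
theorem ex_34 : W 34 * x = W 42 := rfl
theorem ex_42 : W 42 * x = W 27 := dx ex_27 ex_34
theorem ex_35 : W 35 * x = W 43 := rfl
theorem ex_43 : W 43 * x = W 28 := dx ex_28 ex_35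
theorem ey_43 : W 43 * y = W 42 := dxy2 ex_35 ex_42 ey_27
theorem ex_36 : W 36 * x = W 44 := rfl
theorem ey_44 : W 44 * y = W 43 := dxy2 ex_36 ex_43 ey_28
theorem ex_37 : W 37 * x = W 45 := rfl
theorem ey_45 : W 45 * y = W 26 := dxy2 ex_37 ex_26 ey_29
theorem ey_41 : W 41 * y = W 45 := dy ey_45 ey_26 ey_25 ey_33
theorem ey_37 : W 37 * y = W 46 := rfl
theorem ey_46 : W 46 * y = W 22 := dy ey_22 ey_21 ey_29 ey_37
theorem ex_38 : W 38 * x = W 46 := dxy1 ey_46 ex_22 ey_30
theorem ey_38 : W 38 * y = W 47 := rfl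
theorem ey_47 : W 47 * y = W 34 := dy ey_34 ey_31 ey_30 ey_38
theorem ex_39 : W 39 * x = W 48 := rfl
theorem ex_48 : W 48 * x = W 32 := dx ex_32 ex_39
theorem ex_40 : W 40 * x = W 49 := rfl
theorem ex_49 : W 49 * x = W 33 := dx ex_33 ex_40
theorem ey_49 : W 49 * y = W 48 := dxy2 ex_40 ex_48 ey_32
theorem ex_41 : W 41 * x = W 50 := rfl
theorem ey_50 : W 50 * y = W 49 := dxy2 ex_41 ex_49 ey_33
theorem ey_42 : W 42 * y = W 51 := rfl
theorem ex_51 : W 51 * x = W 47 := dxy1 ey_47 ex_34 ey_42
theorem ex_44 : W 44 * x = W 52 := rfl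
theorem ex_52 : W 52 * x = W 36 := dx ex_36 ex_44
theorem ey_48 : W 48 * y = W 52 := dxy2 ex_39 ex_52 ey_36
theorem ex_45 : W 45 * x = W 53 := rfl
theorem ex_53 : W 53 * x = W 37 := dx ex_37 ex_45
theorem ex_46 : W 46 * x = W 54 := rfl
theorem ex_54 : W 54 * x = W 38 := dx ex_38 ex_46
theorem ey_54 : W 54 * y = W 53 := dxy2 ex_46 ex_53 ey_37
theorem ex_47 : W 47 * x = W 55 := rfl
theorem ex_55 : W 55 * x = W 51 := dx ex_51 ex_47
theorem ey_55 : W 55 * y = W 54 := dxy2 ex_47 ex_54 ey_38
theorem ex_50 : W 50 * x = W 56 := rfl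
theorem ex_56 : W 56 * x = W 41 := dx ex_41 ex_50
theorem ey_53 : W 53 * y = W 56 := dxy2 ex_45 ex_56 ey_41
theorem ey_51 : W 51 * y = W 57 := rfl
theorem ey_57 : W 57 * y = W 44 := dy ey_44 ey_43 ey_42 ey_51
theorem ey_52 : W 52 * y = W 58 := rfl
theorem ex_58 : W 58 * x = W 57 := dxy1 ey_57 ex_44 ey_52
theorem ey_58 : W 58 * y = W 50 := dy ey_50 ey_49 ey_48 ey_52
theorem ey_56 : W 56 * y = W 59 := rfl
theorem ex_59 : W 59 * x = W 58 := dxy1 ey_58 ex_50 ey_56
theorem ey_59 : W 59 * y = W 55 := dy ey_55 ey_54 ey_53 ey_56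
theorem ex_57 : W 57 * x = W 59 := dxy1 ey_59 ex_55 ey_51

theorem closed_x (i : ℕ) (hi : i < 60) : ∃ j, j < 60 ∧ W i * x = W j := by
  interval_cases i
  · exact ⟨1, by norm_num, ex_0⟩
  · exact ⟨3, by norm_num, ex_1⟩
  · exact ⟨5, by norm_num, ex_2⟩
  · exact ⟨0, by norm_num, ex_3⟩
  · exact ⟨8, by norm_num, ex_4⟩
  · exact ⟨10, by norm_num, ex_5⟩
  · exact ⟨11, by norm_num, ex_6⟩
  · exact ⟨13, by norm_num, ex_7⟩
  · exact ⟨15, by norm_num, ex_8⟩
  · exact ⟨16, by norm_num, ex_9⟩
  · exact ⟨2, by norm_num, ex_10⟩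
  · exact ⟨19, by norm_num, ex_11⟩
  · exact ⟨20, by norm_num, ex_12⟩
  · exact ⟨21, by norm_num, ex_13⟩
  · exact ⟨22, by norm_num, ex_14⟩
  · exact ⟨4, by norm_num, ex_15⟩
  · exact ⟨25, by norm_num, ex_16⟩
  · exact ⟨26, by norm_num, ex_17⟩
  · exact ⟨23, by norm_num, ex_18⟩
  · exact ⟨6, by norm_num, ex_19⟩
  · exact ⟨24, by norm_num, ex_20⟩
  · exact ⟨7, by norm_num, ex_21⟩
  · exact ⟨30, by norm_num, ex_22⟩
  · exact ⟨31, by norm_num, ex_23⟩
  · exact ⟨12, by norm_num, ex_24⟩
  · exact ⟨9, by norm_num, ex_25⟩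
  · exact ⟨29, by norm_num, ex_26⟩
  · exact ⟨34, by norm_num, ex_27⟩
  · exact ⟨35, by norm_num, ex_28⟩
  · exact ⟨17, by norm_num, ex_29⟩
  · exact ⟨14, by norm_num, ex_30⟩
  · exact ⟨18, by norm_num, ex_31⟩
  · exact ⟨39, by norm_num, ex_32⟩
  · exact ⟨40, by norm_num, ex_33⟩
  · exact ⟨42, by norm_num, ex_34⟩
  · exact ⟨43, by norm_num, ex_35⟩
  · exact ⟨44, by norm_num, ex_36⟩
  · exact ⟨45, by norm_num, ex_37⟩
  · exact ⟨46, by norm_num, ex_38⟩
  · exact ⟨48, by norm_num, ex_39⟩
  · exact ⟨49, by norm_num, ex_40⟩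
  · exact ⟨50, by norm_num, ex_41⟩
  · exact ⟨27, by norm_num, ex_42⟩
  · exact ⟨28, by norm_num, ex_43⟩
  · exact ⟨52, by norm_num, ex_44⟩
  · exact ⟨53, by norm_num, ex_45⟩
  · exact ⟨54, by norm_num, ex_46⟩
  · exact ⟨55, by norm_num, ex_47⟩
  · exact ⟨32, by norm_num, ex_48⟩
  · exact ⟨33, by norm_num, ex_49⟩
  · exact ⟨56, by norm_num, ex_50⟩
  · exact ⟨47, by norm_num, ex_51⟩
  · exact ⟨36, by norm_num, ex_52⟩
  · exact ⟨37, by norm_num, ex_53⟩
  · exact ⟨38, by norm_num, ex_54⟩
  · exact ⟨51, by norm_num, ex_55⟩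
  · exact ⟨41, by norm_num, ex_56⟩
  · exact ⟨59, by norm_num, ex_57⟩
  · exact ⟨57, by norm_num, ex_58⟩
  · exact ⟨58, by norm_num, ex_59⟩

theorem closed_y (i : ℕ) (hi : i < 60) : ∃ j, j < 60 ∧ W i * y = W j := by
  interval_cases i
  · exact ⟨2, by norm_num, ey_0⟩
  · exact ⟨4, by norm_num, ey_1⟩
  · exact ⟨6, by norm_num, ey_2⟩
  · exact ⟨7, by norm_num, ey_3⟩
  · exact ⟨9, by norm_num, ey_4⟩
  · exact ⟨3, by norm_num, ey_5⟩
  · exact ⟨12, by norm_num, ey_6⟩
  · exact ⟨14, by norm_num, ey_7⟩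
  · exact ⟨0, by norm_num, ey_8⟩
  · exact ⟨17, by norm_num, ey_9⟩
  · exact ⟨18, by norm_num, ey_10⟩
  · exact ⟨10, by norm_num, ey_11⟩
  · exact ⟨8, by norm_num, ey_12⟩
  · exact ⟨1, by norm_num, ey_13⟩
  · exact ⟨23, by norm_num, ey_14⟩
  · exact ⟨24, by norm_num, ey_15⟩
  · exact ⟨15, by norm_num, ey_16⟩
  · exact ⟨13, by norm_num, ey_17⟩
  · exact ⟨27, by norm_num, ey_18⟩
  · exact ⟨28, by norm_num, ey_19⟩
  · exact ⟨19, by norm_num, ey_20⟩
  · exact ⟨29, by norm_num, ey_21⟩
  · exact ⟨21, by norm_num, ey_22⟩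
  · exact ⟨5, by norm_num, ey_23⟩
  · exact ⟨32, by norm_num, ey_24⟩
  · exact ⟨33, by norm_num, ey_25⟩
  · exact ⟨25, by norm_num, ey_26⟩
  · exact ⟨35, by norm_num, ey_27⟩
  · exact ⟨36, by norm_num, ey_28⟩
  · exact ⟨37, by norm_num, ey_29⟩
  · exact ⟨38, by norm_num, ey_30⟩
  · exact ⟨30, by norm_num, ey_31⟩
  · exact ⟨40, by norm_num, ey_32⟩
  · exact ⟨41, by norm_num, ey_33⟩
  · exact ⟨31, by norm_num, ey_34⟩
  · exact ⟨11, by norm_num, ey_35⟩
  · exact ⟨39, by norm_num, ey_36⟩
  · exact ⟨46, by norm_num, ey_37⟩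
  · exact ⟨47, by norm_num, ey_38⟩
  · exact ⟨20, by norm_num, ey_39⟩
  · exact ⟨16, by norm_num, ey_40⟩
  · exact ⟨45, by norm_num, ey_41⟩
  · exact ⟨51, by norm_num, ey_42⟩
  · exact ⟨42, by norm_num, ey_43⟩
  · exact ⟨43, by norm_num, ey_44⟩
  · exact ⟨26, by norm_num, ey_45⟩
  · exact ⟨22, by norm_num, ey_46⟩
  · exact ⟨34, by norm_num, ey_47⟩
  · exact ⟨52, by norm_num, ey_48⟩
  · exact ⟨48, by norm_num, ey_49⟩
  · exact ⟨49, by norm_num, ey_50⟩
  · exact ⟨57, by norm_num, ey_51⟩
  · exact ⟨58, by norm_num, ey_52⟩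
  · exact ⟨56, by norm_num, ey_53⟩
  · exact ⟨53, by norm_num, ey_54⟩
  · exact ⟨54, by norm_num, ey_55⟩
  · exact ⟨59, by norm_num, ey_56⟩
  · exact ⟨44, by norm_num, ey_57⟩
  · exact ⟨50, by norm_num, ey_58⟩
  · exact ⟨55, by norm_num, ey_59⟩

/-- The image of the first generator. -/
def pa : Equiv.Perm (Fin 5) := ⟨![1, 2, 0, 3, 4], ![2, 0, 1, 3, 4], by decide, by decide⟩
/-- The image of the second generator. -/
def pb : Equiv.Perm (Fin 5) := ⟨![2, 3, 4, 0, 1], ![3, 4, 0, 1, 2], by decide, by decide⟩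

end Cfsg.Agent.Helper28.A5Pres
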