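import Mathlib
import Cfsg.Agent.S2530

set_option autoImplicit false
set_option linter.style.haveILetI false

namespace Cfsg.Agent.Helper28.CarmA

/-! ### generic group lemmas -/
section generic
variable {G : Type*} [Group G]

lemma pow_swap (a b : G) (m : ℕ) (h : (a * b) ^ m = 1) : (b * a) ^ m = 1 := by
  have e : b * a = a⁻¹ * (a * b) * a⁻¹⁻¹ := by group
  rw [e, conj_pow, h]; group

lemma pow_inv_left (a b : G) (m : ℕ) (hb : b * b = 1) (h : (a * b) ^ m = 1) :
    (a⁻¹ * b) ^ m = 1 := by
  have hb' : b⁻¹ = b := inv_eq_of_mul_eq_one_left hb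
  have e : a⁻¹ * b = (b * a)⁻¹ := by rw [mul_inv_rev, hb']
  rw [e, inv_pow, pow_swap a b m h, inv_one]

lemma comm_of_sq (a b : G) (ha : a * a = 1) (hb : b * b = 1) (h : (a * b) ^ 2 = 1) :
    a * b = b * a := by
  have ha' : a⁻¹ = a := inv_eq_of_mul_eq_one_left ha
  have hb' : b⁻¹ = b := inv_eq_of_mul_eq_one_left hb
  have e : a * b = (a * b)⁻¹ := by
    rw [eq_inv_iff_mul_eq_one, ← pow_two]; exact h
  rw [e, mul_inv_rev, ha', hb']

end generic

lemma z2_cases : ∀ g : Multiplicative (ZMod 2), g = 1 ∨ g = Multiplicative.ofAdd 1 := by decide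

lemma z2_gen_mul : (Multiplicative.ofAdd (1 : ZMod 2)) * Multiplicative.ofAdd 1 = 1 := by decide

lemma z2_gen_ne : (Multiplicative.ofAdd (1 : ZMod 2)) ≠ 1 := by decide

lemma z2_gen_inv : (Multiplicative.ofAdd (1 : ZMod 2))⁻¹ = Multiplicative.ofAdd 1 := by decide

/-- the homomorphism from the group of order two determined by an involution -/
def z2Hom {M : Type*} [Monoid M] (a : M) (ha : a * a = 1) : Multiplicative (ZMod 2) →* M where
  toFun g := if g = 1 then 1 else a
  map_one' := by simp
  map_mul' := by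
    intro g h
    rcases z2_cases g with rfl | rfl <;> rcases z2_cases h with rfl | rfl
    · simp
    · simp
    · simp
    · simp [z2_gen_mul, ha]

lemma z2Hom_gen {M : Type*} [Monoid M] (a : M) (ha : a * a = 1) :
    z2Hom a ha (Multiplicative.ofAdd 1) = a := by
  show (if (Multiplicative.ofAdd (1 : ZMod 2)) = 1 then 1 else a) = a
  rw [if_neg z2_gen_ne]

/-! ### the Coxeter matrix of type A -/

lemma A_val (m : ℕ) (i j : Fin m) : CoxeterMatrix.A m i j =
    if i.val = j.val then 1 else if j.val + 1 = i.val ∨ i.val + 1 = j.val then 3 else 2 := by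
  show (if i = j then 1 else if (j : ℕ) + 1 = i ∨ (i : ℕ) + 1 = j then 3 else 2) = _
  simp [Fin.ext_iff]

lemma A_eq_one (m : ℕ) (i j : Fin m) (h : i.val = j.val) : CoxeterMatrix.A m i j = 1 := by
  rw [A_val, if_pos h]

lemma A_eq_three (m : ℕ) (i j : Fin m) (h : j.val + 1 = i.val ∨ i.val + 1 = j.val) :
    CoxeterMatrix.A m i j = 3 := by
  rw [A_val, if_neg (by omega), if_pos h]

lemma A_eq_two (m : ℕ) (i j : Fin m) (h1 : i.val ≠ j.val)
    (h2 : ¬ (j.val + 1 = i.val ∨ i.val + 1 = j.val)) : CoxeterMatrix.A m i j = 2 := by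
  rw [A_val, if_neg h1, if_neg h2]

/-! ### the presented group -/

/-- Carmichael's relators -/
def rels (k : ℕ) : Set (FreeGroup (Fin (k + 1))) :=
  {g : FreeGroup (Fin (k + 1)) | ∃ i : Fin (k + 1), i.val = 0 ∧ g = FreeGroup.of i ^ 3} ∪
   {g | ∃ i : Fin (k + 1), 1 ≤ i.val ∧ g = FreeGroup.of i ^ 2} ∪
   {g | ∃ i j : Fin (k + 1), j.val = i.val + 1 ∧ g = (FreeGroup.of i * FreeGroup.of j) ^ 3} ∪
   {g | ∃ i j : Fin (k + 1), i.val + 1 < j.val ∧ g = (FreeGroup.of i * FreeGroup.of j) ^ 2}

/-- the presented group -/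
abbrev C (k : ℕ) := PresentedGroup (rels k)

/-- the generators -/
def x (k : ℕ) (i : Fin (k + 1)) : C k := PresentedGroup.of i

lemma x0_cube (k : ℕ) (i : Fin (k + 1)) (hi : i.val = 0) : x k i ^ 3 = 1 := by
  have h : (PresentedGroup.mk (rels k)) (FreeGroup.of i ^ 3) = 1 :=
    PresentedGroup.one_of_mem (Or.inl (Or.inl (Or.inl ⟨i, hi, rfl⟩)))
  rw [map_pow] at h; exact h

lemma x_sq (k : ℕ) (i : Fin (k + 1)) (hi : 1 ≤ i.val) : x k i ^ 2 = 1 := by
  have h : (PresentedGroup.mk (rels k)) (FreeGroup.of i ^ 2) = 1 :=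
    PresentedGroup.one_of_mem (Or.inl (Or.inl (Or.inr ⟨i, hi, rfl⟩)))
  rw [map_pow] at h; exact h

lemma x_mul_self (k : ℕ) (i : Fin (k + 1)) (hi : 1 ≤ i.val) : x k i * x k i = 1 := by
  rw [← pow_two]; exact x_sq k i hi

lemma x_adj (k : ℕ) (i j : Fin (k + 1)) (hij : j.val = i.val + 1) : (x k i * x k j) ^ 3 = 1 := by
  have h : (PresentedGroup.mk (rels k)) ((FreeGroup.of i * FreeGroup.of j) ^ 3) = 1 :=
    PresentedGroup.one_of_mem (Or.inl (Or.inr ⟨i, j, hij, rfl⟩))
  rw [map_pow, map_mul] at h; exact h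

lemma x_far (k : ℕ) (i j : Fin (k + 1)) (hij : i.val + 1 < j.val) : (x k i * x k j) ^ 2 = 1 := by
  have h : (PresentedGroup.mk (rels k)) ((FreeGroup.of i * FreeGroup.of j) ^ 2) = 1 :=
    PresentedGroup.one_of_mem (Or.inr ⟨i, j, hij, rfl⟩)
  rw [map_pow, map_mul] at h; exact h

lemma lift_rels {H : Type*} [Group H] (k : ℕ) (f : Fin (k + 1) → H)
    (h0 : ∀ i : Fin (k + 1), i.val = 0 → f i ^ 3 = 1)
    (h1 : ∀ i : Fin (k + 1), 1 ≤ i.val → f i ^ 2 = 1)
    (h2 : ∀ i j : Fin (k + 1), j.val = i.val + 1 → (f i * f j) ^ 3 = 1)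
    (h3 : ∀ i j : Fin (k + 1), i.val + 1 < j.val → (f i * f j) ^ 2 = 1) :
    ∀ r ∈ rels k, FreeGroup.lift f r = 1 := by
  rintro r (((⟨i, hi, rfl⟩ | ⟨i, hi, rfl⟩) | ⟨i, j, hij, rfl⟩) | ⟨i, j, hij, rfl⟩)
  · simpa using h0 i hi
  · simpa using h1 i hi
  · simpa using h2 i j hij
  · simpa using h3 i j hij

/-! ### the involutory automorphism inverting the first generator -/

/-- images of the generators under the twist -/
noncomputable def tauFun (k : ℕ) (i : Fin (k + 1)) : C k :=
  if i.val = 0 then (x k i)⁻¹ else x k i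

lemma tauFun_zero (k : ℕ) (i : Fin (k + 1)) (hi : i.val = 0) : tauFun k i = (x k i)⁻¹ := by
  unfold tauFun; rw [if_pos hi]

lemma tauFun_pos (k : ℕ) (i : Fin (k + 1)) (hi : i.val ≠ 0) : tauFun k i = x k i := by
  unfold tauFun; rw [if_neg hi]

lemma tauFun_rels (k : ℕ) : ∀ r ∈ rels k, FreeGroup.lift (tauFun k) r = 1 := by
  apply lift_rels
  · intro i hi
    rw [tauFun_zero k i hi, inv_pow, x0_cube k i hi, inv_one]
  · intro i hi
    rw [tauFun_pos k i (by omega)]
    exact x_sq k i hi
  · intro i j hij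
    rw [tauFun_pos k j (by omega)]
    by_cases hi : i.val = 0
    · rw [tauFun_zero k i hi]
      exact pow_inv_left _ _ 3 (x_mul_self k j (by omega)) (x_adj k i j hij)
    · rw [tauFun_pos k i hi]
      exact x_adj k i j hij
  · intro i j hij
    rw [tauFun_pos k j (by omega)]
    by_cases hi : i.val = 0
    · rw [tauFun_zero k i hi]
      exact pow_inv_left _ _ 2 (x_mul_self k j (by omega)) (x_far k i j hij)
    · rw [tauFun_pos k i hi]
      exact x_far k i j hij

/-- the twist -/
noncomputable def tau (k : ℕ) : C k →* C k := PresentedGroup.toGroup (tauFun_rels k)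

lemma tau_x (k : ℕ) (i : Fin (k + 1)) : tau k (x k i) = tauFun k i :=
  PresentedGroup.toGroup.of _

lemma tau_x_zero (k : ℕ) (i : Fin (k + 1)) (hi : i.val = 0) : tau k (x k i) = (x k i)⁻¹ := by
  rw [tau_x, tauFun_zero k i hi]

lemma tau_x_pos (k : ℕ) (i : Fin (k + 1)) (hi : i.val ≠ 0) : tau k (x k i) = x k i := by
  rw [tau_x, tauFun_pos k i hi]

lemma tau_tau (k : ℕ) : (tau k).comp (tau k) = MonoidHom.id _ := by
  apply PresentedGroup.ext
  intro i
  show tau k (tau k (x k i)) = x k i
  by_cases hi : i.val = 0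
  · rw [tau_x_zero k i hi, map_inv, tau_x_zero k i hi, inv_inv]
  · rw [tau_x_pos k i hi, tau_x_pos k i hi]

/-- the twist as an automorphism -/
noncomputable def tauAut (k : ℕ) : MulAut (C k) :=
  MonoidHom.toMulEquiv (tau k) (tau k) (tau_tau k) (tau_tau k)

lemma tauAut_apply (k : ℕ) (c : C k) : tauAut k c = tau k c := rfl

lemma tauAut_sq (k : ℕ) : tauAut k * tauAut k = 1 := by
  ext c
  show tau k (tau k c) = c
  exact DFunLike.congr_fun (tau_tau k) c

/-- for distinct generators, the twisted product has the order prescribed by the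
Coxeter matrix -/
lemma tau_mul_pow (k : ℕ) (a b : Fin (k + 1)) (hab : a ≠ b) :
    (tau k (x k a) * x k b) ^ (CoxeterMatrix.A (k + 2) a.succ b.succ) = 1 := by
  have hab' : a.val ≠ b.val := fun h => hab (Fin.ext h)
  by_cases ha : a.val = 0
  · rw [tau_x_zero k a ha]
    by_cases hb : b.val = 1
    · rw [A_eq_three _ _ _ (by simp only [Fin.val_succ]; omega)]
      exact pow_inv_left _ _ 3 (x_mul_self k b (by omega)) (x_adj k a b (by omega))
    · rw [A_eq_two _ _ _ (by simp only [Fin.val_succ]; omega)
        (by simp only [Fin.val_succ]; omega)]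
      exact pow_inv_left _ _ 2 (x_mul_self k b (by omega)) (x_far k a b (by omega))
  · rw [tau_x_pos k a ha]
    rcases Nat.lt_or_gt_of_ne hab' with hlt | hgt
    · by_cases hb : b.val = a.val + 1
      · rw [A_eq_three _ _ _ (by simp only [Fin.val_succ]; omega)]
        exact x_adj k a b hb
      · rw [A_eq_two _ _ _ (by simp only [Fin.val_succ]; omega)
          (by simp only [Fin.val_succ]; omega)]
        exact x_far k a b (by omega)
    · by_cases hb : a.val = b.val + 1
      · rw [A_eq_three _ _ _ (by simp only [Fin.val_succ]; omega)]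
        exact pow_swap _ _ 3 (x_adj k b a hb)
      · rw [A_eq_two _ _ _ (by simp only [Fin.val_succ]; omega)
          (by simp only [Fin.val_succ]; omega)]
        exact pow_swap _ _ 2 (x_far k b a (by omega))

lemma tau_mul_self (k : ℕ) (a : Fin (k + 1)) : tau k (x k a) * x k a = 1 := by
  by_cases ha : a.val = 0
  · rw [tau_x_zero k a ha, inv_mul_cancel]
  · rw [tau_x_pos k a ha]
    exact x_mul_self k a (by omega)

/-! ### the extension by the twist -/

/-- the split extension of the presented group by the twist -/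
abbrev D (k : ℕ) := C k ⋊[z2Hom (tauAut k) (tauAut_sq k)] Multiplicative (ZMod 2)

/-- the complement's generator -/
noncomputable def t (k : ℕ) : D k := SemidirectProduct.inr (Multiplicative.ofAdd 1)

/-- the generators of the kernel -/
noncomputable def X (k : ℕ) (j : Fin (k + 1)) : D k := SemidirectProduct.inl (x k j)

lemma t_mul_t (k : ℕ) : t k * t k = 1 := by
  unfold t
  rw [← map_mul, z2_gen_mul, map_one]

lemma t_inl_t (k : ℕ) (c : C k) :
    t k * SemidirectProduct.inl c * t k = SemidirectProduct.inl (tau k c) := by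
  have h := SemidirectProduct.inl_aut (φ := z2Hom (tauAut k) (tauAut_sq k))
    (Multiplicative.ofAdd 1) c
  rw [z2Hom_gen, z2_gen_inv] at h
  exact h.symm

lemma X_pow (k : ℕ) (j : Fin (k + 1)) (m : ℕ) :
    X k j ^ m = SemidirectProduct.inl (x k j ^ m) := by
  unfold X; rw [map_pow]

/-- images of the Coxeter generators -/
noncomputable def lamFun (k : ℕ) : Fin (k + 2) → D k :=
  Fin.cases (t k) (fun j => t k * X k j)

lemma lamFun_zero (k : ℕ) : lamFun k 0 = t k := rfl

lemma lamFun_succ (k : ℕ) (j : Fin (k + 1)) : lamFun k j.succ = t k * X k j := rfl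

lemma lam_liftable (k : ℕ) : (CoxeterMatrix.A (k + 2)).IsLiftable (lamFun k) := by
  intro i i'
  induction i using Fin.cases with
  | zero =>
    induction i' using Fin.cases with
    | zero =>
      rw [lamFun_zero, t_mul_t, one_pow]
    | succ b =>
      rw [lamFun_zero, lamFun_succ, ← mul_assoc, t_mul_t, one_mul, X_pow]
      by_cases hb : b.val = 0
      · rw [A_eq_three _ _ _ (by simp only [Fin.val_succ, Fin.val_zero]; omega),
          x0_cube k b hb, map_one]
      · rw [A_eq_two _ _ _ (by simp only [Fin.val_succ, Fin.val_zero]; omega)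
          (by simp only [Fin.val_succ, Fin.val_zero]; omega),
          x_sq k b (by omega), map_one]
  | succ a =>
    induction i' using Fin.cases with
    | zero =>
      rw [lamFun_zero, lamFun_succ]
      unfold X
      rw [t_inl_t, ← map_pow, ← map_pow]
      by_cases ha : a.val = 0
      · rw [A_eq_three _ _ _ (by simp only [Fin.val_succ, Fin.val_zero]; omega),
          x0_cube k a ha, map_one, map_one]
      · rw [A_eq_two _ _ _ (by simp only [Fin.val_succ, Fin.val_zero]; omega)
          (by simp only [Fin.val_succ, Fin.val_zero]; omega),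
          x_sq k a (by omega), map_one, map_one]
    | succ b =>
      rw [lamFun_succ, lamFun_succ]
      have e : t k * X k a * (t k * X k b) =
          SemidirectProduct.inl (tau k (x k a) * x k b) := by
        rw [map_mul, ← t_inl_t]
        unfold X
        simp only [mul_assoc]
      rw [e, ← map_pow]
      by_cases hab : a = b
      · subst hab
        rw [tau_mul_self, one_pow, map_one]
      · rw [tau_mul_pow k a b hab, map_one]

/-! ### comparison with the symmetric group -/

section coxeter

variable {k : ℕ} (cs : CoxeterSystem (CoxeterMatrix.A (k + 2)) (Equiv.Perm (Fin (k + 2 + 1))))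

/-- the map from the symmetric group to the extension -/
noncomputable def lam : Equiv.Perm (Fin (k + 2 + 1)) →* D k :=
  cs.lift ⟨lamFun k, lam_liftable k⟩

lemma lam_simple (i : Fin (k + 2)) : lam cs (cs.simple i) = lamFun k i :=
  cs.lift_apply_simple (lam_liftable k) i

lemma s_comm (j : Fin (k + 1)) (hj : j.val ≠ 0) :
    cs.simple 0 * cs.simple j.succ = cs.simple j.succ * cs.simple 0 := by
  apply comm_of_sq _ _ (cs.simple_mul_simple_self 0) (cs.simple_mul_simple_self _)
  have h := cs.simple_mul_simple_pow 0 j.succ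
  rw [A_eq_two _ _ _ (by simp only [Fin.val_succ, Fin.val_zero]; omega)
    (by simp only [Fin.val_succ, Fin.val_zero]; omega)] at h
  exact h

lemma psi_mul_pow (a b : Fin (k + 1)) (hab : a ≠ b) :
    (cs.simple 0 * cs.simple a.succ * (cs.simple 0 * cs.simple b.succ)) ^
      (CoxeterMatrix.A (k + 2) a.succ b.succ) = 1 := by
  have h := cs.simple_mul_simple_pow a.succ b.succ
  have h00 := cs.simple_mul_simple_self 0
  by_cases ha : a.val = 0
  · have hb : b.val ≠ 0 := fun hb => hab (Fin.ext (by omega))
    have e : cs.simple 0 * cs.simple a.succ * (cs.simple 0 * cs.simple b.succ) =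
        cs.simple 0 * (cs.simple a.succ * cs.simple b.succ) * (cs.simple 0)⁻¹ := by
      rw [s_comm cs b hb, cs.inv_simple]
      simp only [mul_assoc]
    rw [e, conj_pow, h, mul_one, mul_inv_cancel]
  · have e : cs.simple 0 * cs.simple a.succ * (cs.simple 0 * cs.simple b.succ) =
        cs.simple a.succ * cs.simple b.succ := by
      rw [s_comm cs a ha, mul_assoc, ← mul_assoc (cs.simple 0), h00, one_mul]
    rw [e, h]

lemma psi_rels : ∀ r ∈ rels k,
    FreeGroup.lift (fun j : Fin (k + 1) => cs.simple 0 * cs.simple j.succ) r = 1 := by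
  apply lift_rels
  · intro i hi
    have h := cs.simple_mul_simple_pow 0 i.succ
    rw [A_eq_three _ _ _ (by simp only [Fin.val_succ, Fin.val_zero]; omega)] at h
    exact h
  · intro i hi
    have h := cs.simple_mul_simple_pow 0 i.succ
    rw [A_eq_two _ _ _ (by simp only [Fin.val_succ, Fin.val_zero]; omega)
      (by simp only [Fin.val_succ, Fin.val_zero]; omega)] at h
    exact h
  · intro i j hij
    have h := psi_mul_pow cs i j (fun e => by rw [e] at hij; omega)
    rw [A_eq_three _ _ _ (by simp only [Fin.val_succ]; omega)] at h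
    exact h
  · intro i j hij
    have h := psi_mul_pow cs i j (fun e => by rw [e] at hij; omega)
    rw [A_eq_two _ _ _ (by simp only [Fin.val_succ]; omega)
      (by simp only [Fin.val_succ]; omega)] at h
    exact h

/-- the map from the presented group to the symmetric group -/
noncomputable def psiC : C k →* Equiv.Perm (Fin (k + 2 + 1)) :=
  PresentedGroup.toGroup (psi_rels cs)

lemma psiC_x (j : Fin (k + 1)) : psiC cs (x k j) = cs.simple 0 * cs.simple j.succ :=
  PresentedGroup.toGroup.of _

lemma psi_compat (g : Multiplicative (ZMod 2)) :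
    (psiC cs).comp (MulEquiv.toMonoidHom (z2Hom (tauAut k) (tauAut_sq k) g)) =
      (MulEquiv.toMonoidHom (MulAut.conj
        (z2Hom (cs.simple 0) (cs.simple_mul_simple_self 0) g))).comp (psiC cs) := by
  rcases z2_cases g with rfl | rfl
  · rw [map_one, map_one, map_one]
    rfl
  · rw [z2Hom_gen, z2Hom_gen]
    apply PresentedGroup.ext
    intro j
    show psiC cs (tau k (x k j)) = cs.simple 0 * psiC cs (x k j) * (cs.simple 0)⁻¹
    rw [psiC_x, cs.inv_simple]
    have e : cs.simple 0 * (cs.simple 0 * cs.simple j.succ) * cs.simple 0 =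
        cs.simple j.succ * cs.simple 0 := by
      rw [← mul_assoc, cs.simple_mul_simple_self 0, one_mul]
    rw [e]
    by_cases hj : j.val = 0
    · rw [tau_x_zero k j hj, map_inv, psiC_x, mul_inv_rev, cs.inv_simple, cs.inv_simple]
    · rw [tau_x_pos k j hj, psiC_x, s_comm cs j hj]

/-- the map from the extension to the symmetric group -/
noncomputable def psiD : D k →* Equiv.Perm (Fin (k + 2 + 1)) :=
  SemidirectProduct.lift (psiC cs) (z2Hom (cs.simple 0) (cs.simple_mul_simple_self 0))
    (psi_compat cs)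

lemma psiD_inl (c : C k) : psiD cs (SemidirectProduct.inl c) = psiC cs c :=
  SemidirectProduct.lift_inl _ _ _ c

lemma psiD_t : psiD cs (t k) = cs.simple 0 := by
  unfold t psiD
  rw [SemidirectProduct.lift_inr, z2Hom_gen]

lemma psiD_lam : (psiD cs).comp (lam cs) = MonoidHom.id _ := by
  apply cs.ext_simple
  intro i
  show psiD cs (lam cs (cs.simple i)) = cs.simple i
  rw [lam_simple]
  induction i using Fin.cases with
  | zero => rw [lamFun_zero, psiD_t]
  | succ j =>
    rw [lamFun_succ, map_mul, psiD_t]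
    unfold X
    rw [psiD_inl, psiC_x, ← mul_assoc, cs.simple_mul_simple_self 0, one_mul]

lemma lam_injective : Function.Injective (lam cs) := by
  intro p q h
  have h1 := DFunLike.congr_fun (psiD_lam cs) p
  have h2 := DFunLike.congr_fun (psiD_lam cs) q
  simp only [MonoidHom.comp_apply, MonoidHom.id_apply] at h1 h2
  rw [← h1, ← h2, h]

lemma lam_surjective : Function.Surjective (lam cs) := by
  have hC : ∀ c : C k, SemidirectProduct.inl c ∈ (lam cs).range := by
    intro c
    have htop : (⊤ : Subgroup (C k)) ≤ (lam cs).range.comap SemidirectProduct.inl := by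
      rw [← PresentedGroup.closure_range_of, Subgroup.closure_le]
      rintro _ ⟨j, rfl⟩
      show SemidirectProduct.inl (x k j) ∈ (lam cs).range
      refine ⟨cs.simple 0 * cs.simple j.succ, ?_⟩
      rw [map_mul, lam_simple, lam_simple, lamFun_zero, lamFun_succ, ← mul_assoc, t_mul_t,
        one_mul]
      rfl
    exact htop (Subgroup.mem_top c)
  intro d
  obtain ⟨p, hp⟩ := hC d.left
  have hd := SemidirectProduct.inl_left_mul_inr_right d
  rcases z2_cases d.right with h | h
  · refine ⟨p, ?_⟩
    rw [h, map_one, mul_one] at hd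
    rw [hp]; exact hd
  · refine ⟨p * cs.simple 0, ?_⟩
    rw [h] at hd
    rw [map_mul, hp, lam_simple, lamFun_zero]; exact hd

lemma psiD_injective : Function.Injective (psiD cs) := by
  intro d e h
  obtain ⟨p, rfl⟩ := lam_surjective cs d
  obtain ⟨q, rfl⟩ := lam_surjective cs e
  have h1 := DFunLike.congr_fun (psiD_lam cs) p
  have h2 := DFunLike.congr_fun (psiD_lam cs) q
  simp only [MonoidHom.comp_apply, MonoidHom.id_apply] at h1 h2
  rw [h1, h2] at h
  rw [h]

lemma psiC_injective : Function.Injective (psiC cs) := by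
  intro c d h
  rw [← psiD_inl, ← psiD_inl] at h
  exact SemidirectProduct.inl_injective (psiD_injective cs h)

include cs in
lemma card_C : Nat.card (C k) * 2 = Nat.card (Equiv.Perm (Fin (k + 2 + 1))) := by
  have h1 : Nat.card (D k) = Nat.card (C k) * Nat.card (Multiplicative (ZMod 2)) :=
    SemidirectProduct.card
  have h2 : Nat.card (Multiplicative (ZMod 2)) = 2 := by
    rw [Nat.card_eq_fintype_card]; rfl
  have h3 : Nat.card (Equiv.Perm (Fin (k + 2 + 1))) = Nat.card (D k) :=
    Nat.card_congr (Equiv.ofBijective _ ⟨lam_injective cs, lam_surjective cs⟩)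
  rw [h3, h1, h2]

lemma psiC_mem (hcs : ∀ i : Fin (k + 2), cs.simple i = Equiv.swap i.castSucc i.succ)
    (c : C k) : psiC cs c ∈ alternatingGroup (Fin (k + 2 + 1)) := by
  rw [Equiv.Perm.mem_alternatingGroup]
  have h : (Equiv.Perm.sign).comp (psiC cs) = 1 := by
    apply PresentedGroup.ext
    intro j
    show Equiv.Perm.sign (psiC cs (x k j)) = 1
    rw [psiC_x, map_mul, hcs, hcs, Equiv.Perm.sign_swap (Fin.castSucc_lt_succ).ne,
      Equiv.Perm.sign_swap (Fin.castSucc_lt_succ).ne]
    rfl
  exact DFunLike.congr_fun h c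

end coxeter

theorem main (k : ℕ) : Nonempty (C k ≃* alternatingGroup (Fin (k + 2 + 1))) := by
  obtain ⟨cs, hcs⟩ := Cfsg.Agent.S2530.result (k + 2)
  let f : C k →* alternatingGroup (Fin (k + 2 + 1)) :=
    (psiC cs).codRestrict (alternatingGroup (Fin (k + 2 + 1))) (psiC_mem cs hcs)
  have hinj : Function.Injective f := by
    intro c d h
    apply psiC_injective cs
    exact congrArg Subtype.val h
  have hcard : Nat.card (C k) = Nat.card (alternatingGroup (Fin (k + 2 + 1))) := by
    have h1 := card_C cs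
    have h2 := two_mul_nat_card_alternatingGroup (α := Fin (k + 2 + 1))
    omega
  have hbij : Function.Bijective f :=
    (Nat.bijective_iff_injective_and_card f).mpr ⟨hinj, hcard⟩
  exact ⟨MulEquiv.ofBijective f hbij⟩

end Cfsg.Agent.Helper28.CarmA
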