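import Mathlib
import Cfsg.Prelude.Def_Sporadic_a

/-!
Abstract binary codes of length 24 with dimension 12 and minimum weight at least 8:
coset leaders (sextets), existence of octads through five points.
-/

set_option autoImplicit false
set_option linter.unusedSectionVars false

namespace Cfsg.Agent.Helper28.Code

open Cfsg

variable {α : Type*} [Fintype α] [DecidableEq α]

/-- binary words indexed by `α` -/
abbrev W (α : Type*) := α → ZMod 2

theorem zmod2_cases (a : ZMod 2) : a = 0 ∨ a = 1 := by
  revert a; decide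

theorem norm_eq (u : W α) : hammingNorm u = (support₂ u).card := rfl

theorem mem_supp (u : W α) (i : α) : i ∈ support₂ u ↔ u i ≠ 0 := by simp [support₂]

theorem mem_supp' (u : W α) (i : α) : i ∈ support₂ u ↔ u i = 1 := by
  rw [mem_supp]; rcases zmod2_cases (u i) with h | h <;> simp [h]

theorem sub_eq_add (u v : W α) : u - v = u + v := by
  ext i
  exact CharTwo.sub_eq_add (u i) (v i)

theorem add_self (u : W α) : u + u = 0 := by
  ext i
  exact CharTwo.add_self_eq_zero (u i)

theorem supp_add (u v : W α) : support₂ (u + v) = symmDiff (support₂ u) (support₂ v) := by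
  ext i
  rw [Finset.mem_symmDiff, mem_supp', mem_supp', mem_supp']
  simp only [Pi.add_apply]
  rcases zmod2_cases (u i) with h | h <;> rcases zmod2_cases (v i) with h' | h' <;>
    rw [h, h'] <;> decide

theorem norm_add (u v : W α) :
    hammingNorm (u + v) + 2 * (support₂ u ∩ support₂ v).card = hammingNorm u + hammingNorm v := by
  rw [norm_eq, norm_eq, norm_eq, supp_add]
  have h1 := Finset.card_sdiff_add_card_inter (support₂ u) (support₂ v)
  have h2 := Finset.card_sdiff_add_card_inter (support₂ v) (support₂ u)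
  have h3 : (symmDiff (support₂ u) (support₂ v)).card
      = (support₂ u \ support₂ v).card + (support₂ v \ support₂ u).card := by
    rw [symmDiff_def, Finset.sup_eq_union, Finset.card_union_of_disjoint]
    exact disjoint_sdiff_sdiff
  rw [Finset.inter_comm (support₂ v)] at h2
  omega

/-- the word with a given support -/
def ofSet (s : Finset α) : W α := fun i => if i ∈ s then 1 else 0

theorem supp_ofSet (s : Finset α) : support₂ (ofSet s) = s := by
  ext i
  rw [mem_supp]
  unfold ofSet
  by_cases h : i ∈ s <;> simp [h]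

theorem ofSet_supp (u : W α) : ofSet (support₂ u) = u := by
  ext i
  unfold ofSet
  by_cases h : i ∈ support₂ u
  · rw [if_pos h]; exact ((mem_supp' u i).mp h).symm
  · rw [if_neg h]; rw [mem_supp] at h; push Not at h; exact h.symm

theorem supp_injective : Function.Injective (support₂ : W α → Finset α) := by
  intro u v h
  rw [← ofSet_supp u, ← ofSet_supp v, h]

theorem ofSet_univ : ofSet (Finset.univ : Finset α) = 1 := by
  ext i; simp [ofSet]

theorem ofSet_empty : ofSet (∅ : Finset α) = 0 := by
  ext i; simp [ofSet]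

theorem ofSet_symmDiff (s t : Finset α) : ofSet (symmDiff s t) = ofSet s + ofSet t := by
  apply supp_injective
  rw [supp_add, supp_ofSet, supp_ofSet, supp_ofSet]

theorem ofSet_compl (s : Finset α) : ofSet sᶜ = 1 + ofSet s := by
  rw [← ofSet_univ, ← ofSet_symmDiff]
  congr 1
  ext i
  simp [Finset.mem_symmDiff]

theorem mem_supports_iff (C : Submodule (ZMod 2) (W α)) (b : Finset α) :
    b ∈ supports (C : Set (α → ZMod 2)) ↔ ofSet b ∈ C := by
  constructor
  · rintro ⟨c, hc, rfl⟩
    rw [ofSet_supp]; exact hc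
  · intro h
    exact ⟨ofSet b, h, supp_ofSet b⟩

theorem card_weight (k : ℕ) :
    (Finset.univ.filter (fun u : W α => hammingNorm u = k)).card
      = Nat.choose (Fintype.card α) k := by
  have h : (Finset.univ.filter (fun u : W α => hammingNorm u = k)).image support₂
      = Finset.powersetCard k Finset.univ := by
    ext s
    rw [Finset.mem_image, Finset.mem_powersetCard]
    constructor
    · rintro ⟨u, hu, rfl⟩
      rw [Finset.mem_filter] at hu
      exact ⟨Finset.subset_univ _, hu.2⟩
    · rintro ⟨-, hs⟩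
      refine ⟨ofSet s, ?_, supp_ofSet s⟩
      rw [Finset.mem_filter]
      exact ⟨Finset.mem_univ _, by rw [norm_eq, supp_ofSet]; exact hs⟩
  rw [← Finset.card_image_of_injective _ supp_injective, h, Finset.card_powersetCard,
    Finset.card_univ]

theorem card_le3 (hα : Fintype.card α = 24) :
    (Finset.univ.filter (fun u : W α => hammingNorm u ≤ 3)).card = 2325 := by
  have hmaps : ((Finset.univ.filter (fun u : W α => hammingNorm u ≤ 3) : Finset (W α)) :
      Set (W α)).MapsTo
      (fun u : W α => hammingNorm u) (Finset.range 4 : Finset ℕ) := by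
    intro u hu
    rw [Finset.mem_coe, Finset.mem_filter] at hu
    rw [Finset.mem_coe, Finset.mem_range]
    show hammingNorm u < 4
    omega
  have h := Finset.card_eq_sum_card_fiberwise hmaps
  have h2 : ∀ k ∈ Finset.range 4, ((Finset.univ.filter (fun u : W α => hammingNorm u ≤ 3)).filter
      (fun u => hammingNorm u = k)).card = Nat.choose 24 k := by
    intro k hk
    rw [← hα]
    rw [Finset.mem_range] at hk
    have e : (Finset.univ.filter (fun u : W α => hammingNorm u ≤ 3)).filter
        (fun u => hammingNorm u = k) = Finset.univ.filter (fun u : W α => hammingNorm u = k) := by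
      ext u
      simp only [Finset.mem_filter, Finset.mem_univ, true_and]
      constructor
      · exact fun h => h.2
      · exact fun h => ⟨by omega, h⟩
    rw [e, card_weight k]
  rw [h, Finset.sum_congr rfl h2, Finset.sum_range_succ, Finset.sum_range_succ,
    Finset.sum_range_succ, Finset.sum_range_one]
  rfl

/-- two distinct words of weight at most 4 in the same coset have weight 4 and disjoint supports -/
theorem k1 (C : Submodule (ZMod 2) (W α)) (hmin : ∀ w ∈ C, w ≠ 0 → 8 ≤ hammingNorm w) {u u' : W α}
    (hu : hammingNorm u ≤ 4) (hu' : hammingNorm u' ≤ 4) (hne : u ≠ u') (hC : u - u' ∈ C) :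
    hammingNorm u = 4 ∧ hammingNorm u' = 4 ∧ Disjoint (support₂ u) (support₂ u') := by
  have h1 := hmin _ hC (sub_ne_zero.mpr hne)
  rw [sub_eq_add] at h1
  have h2 := norm_add u u'
  refine ⟨by omega, by omega, ?_⟩
  rw [Finset.disjoint_iff_inter_eq_empty, ← Finset.card_eq_zero]
  omega

theorem card_quot (hα : Fintype.card α = 24) (C : Submodule (ZMod 2) (W α))
    (hdim : Module.finrank (ZMod 2) C = 12) :
    Nat.card (W α ⧸ C) = 4096 := by
  have h1 := Submodule.card_eq_card_quotient_mul_card C
  have h2 : Nat.card (W α) = 2 ^ 24 := by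
    rw [Nat.card_eq_fintype_card, Fintype.card_fun, hα, ZMod.card]
  have h3 : Nat.card C = 2 ^ 12 := by
    rw [Module.natCard_eq_pow_finrank (K := ZMod 2), hdim, Nat.card_eq_fintype_card, ZMod.card]
  rw [h2, h3] at h1
  have h4 : 2 ^ 12 * Nat.card (W α ⧸ C) = 2 ^ 12 * 4096 := by rw [← h1]; norm_num
  exact Nat.eq_of_mul_eq_mul_left (by norm_num) h4

/-- **Coset leaders** of a `[24, 12, ≥ 8]` binary code. -/
theorem coset_leaders (hα : Fintype.card α = 24) (C : Submodule (ZMod 2) (W α))
    (hdim : Module.finrank (ZMod 2) C = 12)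
    (hmin : ∀ w ∈ C, w ≠ 0 → 8 ≤ hammingNorm w) (w : W α) :
    (∃ u : W α, hammingNorm u ≤ 3 ∧ ∀ u' : W α, (u' - w ∈ C ∧ hammingNorm u' ≤ 4) ↔ u' = u) ∨
    (∃ F : Finset (W α), F.card = 6 ∧ (∀ u ∈ F, hammingNorm u = 4) ∧
      ∀ u' : W α, (u' - w ∈ C ∧ hammingNorm u' ≤ 4) ↔ u' ∈ F) := by
  classical
  let _ : Fintype (W α ⧸ C) := Fintype.ofFinite _
  obtain ⟨π, hπeq⟩ : ∃ π : W α → W α ⧸ C, ∀ u u' : W α, π u = π u' ↔ u - u' ∈ C :=
    ⟨Submodule.Quotient.mk, fun u u' => Submodule.Quotient.eq C⟩
  obtain ⟨A, hA⟩ : ∃ A : Finset (W α), ∀ u, u ∈ A ↔ hammingNorm u ≤ 3 :=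
    ⟨Finset.univ.filter (fun u : W α => hammingNorm u ≤ 3), fun u => by simp⟩
  obtain ⟨B4, hB4⟩ : ∃ B4 : Finset (W α), ∀ u, u ∈ B4 ↔ hammingNorm u = 4 :=
    ⟨Finset.univ.filter (fun u : W α => hammingNorm u = 4), fun u => by simp⟩
  have hAcard : A.card = 2325 := by
    rw [← card_le3 hα]; congr 1; ext u; simp [hA]
  have hBcard : B4.card = 10626 := by
    have h : B4 = Finset.univ.filter (fun u : W α => hammingNorm u = 4) := by ext u; simp [hB4]
    rw [h, card_weight, hα]; rfl
  have hinjA : Set.InjOn π (A : Set (W α)) := by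
    intro u hu u' hu' h
    by_contra hne
    rw [Finset.mem_coe, hA] at hu hu'
    have := k1 C hmin (by omega) (by omega) hne ((hπeq u u').mp h)
    omega
  have hPA : (A.image π).card = 2325 := by rw [Finset.card_image_of_injOn hinjA, hAcard]
  have hBzero : ∀ q ∈ A.image π, (B4.filter (fun u => π u = q)).card = 0 := by
    intro q hq
    rw [Finset.card_eq_zero, Finset.filter_eq_empty_iff]
    intro u hu hπu
    rw [Finset.mem_image] at hq
    obtain ⟨a, ha, rfl⟩ := hq
    rw [hA] at ha
    rw [hB4] at hu
    have hne : u ≠ a := by rintro rfl; omega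
    have := k1 C hmin (by omega) (by omega) hne ((hπeq u a).mp hπu)
    omega
  have hBle : ∀ q : W α ⧸ C, (B4.filter (fun u => π u = q)).card ≤ 6 := by
    intro q
    have hdisj : ((B4.filter (fun u => π u = q) : Finset (W α)) : Set (W α)).PairwiseDisjoint
        support₂ := by
      intro u hu u' hu' hne
      rw [Finset.mem_coe, Finset.mem_filter, hB4] at hu hu'
      exact (k1 C hmin (by omega) (by omega) hne ((hπeq u u').mp (by rw [hu.2, hu'.2]))).2.2
    have h1 := Finset.card_biUnion hdisj
    have h2 : ∑ u ∈ B4.filter (fun u => π u = q), (support₂ u).card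
        = (B4.filter (fun u => π u = q)).card * 4 := by
      apply Finset.sum_const_nat
      intro u hu
      rw [Finset.mem_filter, hB4] at hu
      rw [← norm_eq]; exact hu.1
    have h3 : ((B4.filter (fun u => π u = q)).biUnion support₂).card ≤ 24 := by
      have := Finset.card_le_univ ((B4.filter (fun u => π u = q)).biUnion support₂)
      rw [hα] at this
      exact this
    omega
  have hsum : ∑ q : W α ⧸ C, (B4.filter (fun u => π u = q)).card = 10626 := by
    rw [← hBcard]
    exact (Finset.card_eq_sum_card_fiberwise (fun u _ => Finset.mem_coe.mpr (Finset.mem_univ _))).symm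
  have hQ : (Finset.univ : Finset (W α ⧸ C)).card = 4096 := by
    rw [Finset.card_univ, ← Nat.card_eq_fintype_card]; exact card_quot hα C hdim
  have hcompl : ((A.image π)ᶜ).card = 1771 := by
    rw [Finset.card_compl, ← Finset.card_univ, hQ, hPA]
  have hsum2 : ∑ q ∈ (A.image π)ᶜ, (B4.filter (fun u => π u = q)).card
      = ∑ q ∈ (A.image π)ᶜ, 6 := by
    rw [Finset.sum_const, hcompl, smul_eq_mul]
    have h := Finset.sum_add_sum_compl (A.image π) (fun q => (B4.filter (fun u => π u = q)).card)
    rw [Finset.sum_eq_zero hBzero, hsum, zero_add] at h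
    rw [h]
  have hsix : ∀ q ∈ (A.image π)ᶜ, (B4.filter (fun u => π u = q)).card = 6 :=
    (Finset.sum_eq_sum_iff_of_le (fun q _ => hBle q)).mp hsum2
  by_cases hq : π w ∈ A.image π
  · left
    rw [Finset.mem_image] at hq
    obtain ⟨a, ha, haw⟩ := hq
    have ha' : hammingNorm a ≤ 3 := (hA a).mp ha
    refine ⟨a, ha', fun u' => ⟨?_, ?_⟩⟩
    · rintro ⟨h1, h2⟩
      by_contra hne
      have h3 : u' - a ∈ C := (hπeq u' a).mp (by rw [haw]; exact (hπeq u' w).mpr h1)
      have := k1 C hmin h2 (by omega) hne h3
      omega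
    · rintro rfl
      exact ⟨(hπeq _ _).mp haw, by omega⟩
  · right
    refine ⟨B4.filter (fun u => π u = π w), hsix _ (Finset.mem_compl.mpr hq), ?_, ?_⟩
    · intro u hu
      rw [Finset.mem_filter, hB4] at hu
      exact hu.1
    · intro u'
      rw [Finset.mem_filter, hB4]
      constructor
      · rintro ⟨h1, h2⟩
        have h3 : π u' = π w := (hπeq _ _).mpr h1
        refine ⟨?_, h3⟩
        by_contra h4
        apply hq
        rw [Finset.mem_image]
        exact ⟨u', (hA u').mpr (by omega), h3⟩
      · rintro ⟨h1, h2⟩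
        exact ⟨(hπeq _ _).mp h2, by omega⟩

/-- Through any five coordinates there is a code word of weight 8. -/
theorem exists_octad (hα : Fintype.card α = 24) (C : Submodule (ZMod 2) (W α))
    (hdim : Module.finrank (ZMod 2) C = 12)
    (hmin : ∀ w ∈ C, w ≠ 0 → 8 ≤ hammingNorm w) (s : Finset α) (hs : s.card = 5) :
    ∃ c ∈ C, hammingNorm c = 8 ∧ s ⊆ support₂ c := by
  classical
  have hne : s.Nonempty := by rw [← Finset.card_pos]; omega
  obtain ⟨p, hp⟩ := hne
  have hT : (s.erase p).card = 4 := by rw [Finset.card_erase_of_mem hp, hs]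
  have hwT : hammingNorm (ofSet (s.erase p)) = 4 := by rw [norm_eq, supp_ofSet, hT]
  rcases coset_leaders hα C hdim hmin (ofSet (s.erase p)) with ⟨u, hu, huniq⟩ | ⟨F, hF6, hF4, hFmem⟩
  · exfalso
    have h := (huniq (ofSet (s.erase p))).mp ⟨by rw [sub_self]; exact C.zero_mem, by omega⟩
    rw [← h] at hu
    omega
  · have hTF : ofSet (s.erase p) ∈ F :=
      (hFmem _).mp ⟨by rw [sub_self]; exact C.zero_mem, by omega⟩
    have hsub : ∀ u ∈ F, ∀ u' ∈ F, u - u' ∈ C := by
      intro u hu u' hu'
      have h1 := ((hFmem u).mpr hu).1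
      have h2 := ((hFmem u').mpr hu').1
      have h3 : u - u' = (u - ofSet (s.erase p)) - (u' - ofSet (s.erase p)) := by abel
      rw [h3]
      exact C.sub_mem h1 h2
    have hdisj : (F : Set (W α)).PairwiseDisjoint support₂ := by
      intro u hu u' hu' hne
      rw [Finset.mem_coe] at hu hu'
      exact (k1 C hmin (by rw [hF4 u hu]) (by rw [hF4 u' hu']) hne (hsub u hu u' hu')).2.2
    have h1 := Finset.card_biUnion hdisj
    have h2 : ∑ u ∈ F, (support₂ u).card = F.card * 4 := by
      apply Finset.sum_const_nat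
      intro u hu
      rw [← norm_eq]; exact hF4 u hu
    have h3 : F.biUnion support₂ = Finset.univ := by
      apply Finset.eq_univ_of_card
      rw [h1, h2, hF6, hα]
    have hp' : p ∈ F.biUnion support₂ := by rw [h3]; exact Finset.mem_univ p
    rw [Finset.mem_biUnion] at hp'
    obtain ⟨u', hu'F, hpu'⟩ := hp'
    have hne : ofSet (s.erase p) ≠ u' := by
      intro h
      rw [← h, supp_ofSet] at hpu'
      exact Finset.notMem_erase p s hpu'
    have hk := k1 C hmin (by omega) (by rw [hF4 u' hu'F]) hne (hsub _ hTF _ hu'F)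
    refine ⟨ofSet (s.erase p) + u', ?_, ?_, ?_⟩
    · rw [← sub_eq_add]; exact hsub _ hTF _ hu'F
    · have h5 := norm_add (ofSet (s.erase p)) u'
      have h6 : (support₂ (ofSet (s.erase p)) ∩ support₂ u').card = 0 := by
        rw [Finset.card_eq_zero, ← Finset.disjoint_iff_inter_eq_empty]; exact hk.2.2
      omega
    · intro i hi
      rw [supp_add, Finset.mem_symmDiff, supp_ofSet]
      by_cases hip : i = p
      · right
        rw [hip]
        exact ⟨hpu', Finset.notMem_erase p s⟩
      · left
        have hiT : i ∈ s.erase p := Finset.mem_erase.mpr ⟨hip, hi⟩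
        refine ⟨hiT, fun hiu => ?_⟩
        have := Finset.disjoint_left.mp hk.2.2 (by rw [supp_ofSet]; exact hiT) hiu
        exact this

/-- A `[24, 12, ≥ 8]` binary code is spanned by its words of weight 8. -/
theorem span_octads (hα : Fintype.card α = 24) (C : Submodule (ZMod 2) (W α))
    (hdim : Module.finrank (ZMod 2) C = 12)
    (hmin : ∀ w ∈ C, w ≠ 0 → 8 ≤ hammingNorm w) :
    Submodule.span (ZMod 2) {w : W α | w ∈ C ∧ hammingNorm w = 8} = C := by
  apply le_antisymm
  · rw [Submodule.span_le]
    intro w hw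
    exact hw.1
  · have key : ∀ n : ℕ, ∀ c ∈ C, hammingNorm c = n →
        c ∈ Submodule.span (ZMod 2) {w : W α | w ∈ C ∧ hammingNorm w = 8} := by
      intro n
      induction n using Nat.strong_induction_on with
      | _ n ih =>
        intro c hc hn
        by_cases h0 : c = 0
        · rw [h0]; exact Submodule.zero_mem _
        · have h8 := hmin c hc h0
          obtain ⟨s, hsc, hs5⟩ := Finset.exists_subset_card_eq (s := support₂ c) (n := 5)
            (by rw [← norm_eq]; omega)
          obtain ⟨o, hoC, ho8, hso⟩ := exists_octad hα C hdim hmin s hs5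
          have h1 := norm_add c o
          have h2 : 5 ≤ (support₂ c ∩ support₂ o).card := by
            rw [← hs5]
            exact Finset.card_le_card (Finset.subset_inter hsc hso)
          have h3 : c + o ∈ Submodule.span (ZMod 2) {w : W α | w ∈ C ∧ hammingNorm w = 8} :=
            ih (hammingNorm (c + o)) (by omega) (c + o) (C.add_mem hc hoC) rfl
          have h4 : c = (c + o) + o := by rw [add_assoc, add_self, add_zero]
          rw [h4]
          exact Submodule.add_mem _ h3 (Submodule.subset_span ⟨hoC, ho8⟩)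
    intro c hc
    exact key _ c hc rfl

theorem dot_eq_card (x y : W α) :
    ∑ i, x i * y i = (((support₂ x ∩ support₂ y).card : ℕ) : ZMod 2) := by
  rw [Finset.card_eq_sum_ones, Nat.cast_sum]
  rw [← Finset.sum_subset (Finset.subset_univ (support₂ x ∩ support₂ y))]
  · apply Finset.sum_congr rfl
    intro i hi
    rw [Finset.mem_inter, mem_supp', mem_supp'] at hi
    rw [hi.1, hi.2]; simp
  · intro i _ hi
    rw [Finset.mem_inter, mem_supp, mem_supp] at hi
    by_cases hx : x i = 0
    · rw [hx, zero_mul]
    · have hy : y i = 0 := by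
        by_contra hy
        exact hi ⟨hx, hy⟩
      rw [hy, mul_zero]

/-- A self-orthogonal `[24, 12, ≥ 8]` binary code is doubly even. -/
theorem doubly_even (hα : Fintype.card α = 24) (C : Submodule (ZMod 2) (W α))
    (hdim : Module.finrank (ZMod 2) C = 12)
    (horth : ∀ v ∈ C, ∀ w ∈ C, ∑ i, v i * w i = 0)
    (hmin : ∀ w ∈ C, w ≠ 0 → 8 ≤ hammingNorm w) : ∀ w ∈ C, 4 ∣ hammingNorm w := by
  intro w hw
  have hw' : w ∈ Submodule.span (ZMod 2) {w : W α | w ∈ C ∧ hammingNorm w = 8} := by
    rw [span_octads hα C hdim hmin]; exact hw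
  clear hw
  have key : w ∈ C ∧ 4 ∣ hammingNorm w := by
    induction hw' using Submodule.span_induction with
    | mem x hx => exact ⟨hx.1, by rw [hx.2]; norm_num⟩
    | zero => exact ⟨C.zero_mem, by simp⟩
    | add x y _ _ hx hy =>
      refine ⟨C.add_mem hx.1 hy.1, ?_⟩
      have h1 := norm_add x y
      have h2 := horth x hx.1 y hy.1
      rw [dot_eq_card, ZMod.natCast_eq_zero_iff] at h2
      obtain ⟨a, ha⟩ := hx.2
      obtain ⟨b, hb⟩ := hy.2
      obtain ⟨k, hk⟩ := h2
      omega
    | smul a x _ hx =>
      rcases zmod2_cases a with h | h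
      · rw [h, zero_smul]; exact ⟨C.zero_mem, by simp⟩
      · rw [h, one_smul]; exact hx
  exact key.2

end Cfsg.Agent.Helper28.Code
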