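import Mathlib
import Cfsg.Prelude.Def_Sporadic_a
import Cfsg.Agent.Helper28.Code

/-!
Basics of the rank-24 lattice `leechLattice` of the definitions: `leechSet` is an additive subgroup;
minimal squared length 32 and divisibility of squared lengths by 16, both relative to the two facts
about the length-24 code (`4 ∣ weight`, minimum weight 8), which are hypotheses here.
-/

set_option autoImplicit false
set_option linter.unusedSectionVars false

namespace Cfsg.Agent.Helper28.Leech

open Cfsg Cfsg.Agent.Helper28.Code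

/-- the set of positions whose coordinate is congruent to `k` modulo 4 -/
def res (x : GolayPt → ℤ) (k : ℤ) : Finset GolayPt := Finset.univ.filter fun i => x i ≡ k [ZMOD 4]

theorem mem_res (x : GolayPt → ℤ) (k : ℤ) (i : GolayPt) : i ∈ res x k ↔ x i ≡ k [ZMOD 4] := by
  simp [res]

theorem one_mem : (1 : GolayPt → ZMod 2) ∈ golayCode := Submodule.subset_span (Or.inr rfl)

theorem modEq4_iff (a b : ℤ) : a ≡ b [ZMOD 4] ↔ (a : ZMod 4) = (b : ZMod 4) :=
  (ZMod.intCast_eq_intCast_iff a b 4).symm

theorem key4 : ∀ (a μ κ : ZMod 4), 2 * a = 2 * μ →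
    ((a = κ) ↔ (if κ = μ then a = μ else if κ = μ + 2 then ¬ (a = μ) else False)) := by decide

theorem key4_add : ∀ (a b μ μ' : ZMod 4), 2 * a = 2 * μ → 2 * b = 2 * μ' →
    ((a + b = μ + μ') ↔ ((a = μ) ↔ (b = μ'))) := by decide

theorem parity_cast {x m : ℤ} (h : x ≡ m [ZMOD 2]) : 2 * (x : ZMod 4) = 2 * (m : ZMod 4) := by
  have h2 : 2 * x ≡ 2 * m [ZMOD 2 * 2] := Int.ModEq.mul_left' h
  have h3 := (ZMod.intCast_eq_intCast_iff (2 * x) (2 * m) 4).mpr h2
  push_cast at h3
  exact h3

theorem res_cases (x : GolayPt → ℤ) (m : ℤ) (hm : ∀ i, x i ≡ m [ZMOD 2]) (k : ℤ) :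
    res x k = res x m ∨ res x k = (res x m)ᶜ ∨ res x k = ∅ := by
  by_cases h1 : (k : ZMod 4) = (m : ZMod 4)
  · left
    ext i
    rw [mem_res, mem_res, modEq4_iff, modEq4_iff, h1]
  · by_cases h2 : (k : ZMod 4) = (m : ZMod 4) + 2
    · right; left
      ext i
      rw [Finset.mem_compl, mem_res, mem_res, modEq4_iff, modEq4_iff]
      have h := key4 (x i : ZMod 4) (m : ZMod 4) (k : ZMod 4) (parity_cast (hm i))
      rw [if_neg h1, if_pos h2] at h
      exact h
    · right; right
      ext i
      rw [mem_res, modEq4_iff]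
      have h := key4 (x i : ZMod 4) (m : ZMod 4) (k : ZMod 4) (parity_cast (hm i))
      rw [if_neg h1, if_neg h2] at h
      simp [h]

theorem mem_leechSet_iff (x : GolayPt → ℤ) : x ∈ leechSet ↔
    ∃ m : ℤ, (∀ i, x i ≡ m [ZMOD 2]) ∧ (∑ i, x i ≡ 4 * m [ZMOD 8]) ∧
      ofSet (res x m) ∈ golayCode := by
  constructor
  · rintro ⟨m, h1, h2, h3⟩
    exact ⟨m, h1, h2, (mem_supports_iff golayCode _).mp (h3 m)⟩
  · rintro ⟨m, h1, h2, h3⟩
    refine ⟨m, h1, h2, fun k => ?_⟩
    have hk : (Finset.univ.filter fun i => x i ≡ k [ZMOD 4]) = res x k := rfl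
    rw [hk, mem_supports_iff]
    rcases res_cases x m h1 k with h | h | h
    · rw [h]; exact h3
    · rw [h, ofSet_compl]; exact golayCode.add_mem one_mem h3
    · rw [h, ofSet_empty]; exact golayCode.zero_mem

/-- every residue set of a vector of `leechSet` is the support of a code word -/
theorem res_mem {x : GolayPt → ℤ} (hx : x ∈ leechSet) (k : ℤ) : ofSet (res x k) ∈ golayCode := by
  obtain ⟨m, h1, h2, h3⟩ := hx
  exact (mem_supports_iff golayCode _).mp (h3 k)

theorem add_mem {x y : GolayPt → ℤ} (hx : x ∈ leechSet) (hy : y ∈ leechSet) :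
    x + y ∈ leechSet := by
  rw [mem_leechSet_iff] at hx hy ⊢
  obtain ⟨m, h1, h2, h3⟩ := hx
  obtain ⟨m', h1', h2', h3'⟩ := hy
  refine ⟨m + m', fun i => (h1 i).add (h1' i), ?_, ?_⟩
  · have hs : ∑ i, (x + y) i = ∑ i, x i + ∑ i, y i := by
      simp only [Pi.add_apply, Finset.sum_add_distrib]
    rw [hs, mul_add]
    exact h2.add h2'
  · have hr : res (x + y) (m + m') = (symmDiff (res x m) (res y m'))ᶜ := by
      ext i
      rw [Finset.mem_compl, Finset.mem_symmDiff, mem_res, mem_res, mem_res,
        modEq4_iff, modEq4_iff, modEq4_iff]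
      have h := key4_add (x i : ZMod 4) (y i : ZMod 4) (m : ZMod 4) (m' : ZMod 4)
        (parity_cast (h1 i)) (parity_cast (h1' i))
      simp only [Pi.add_apply]
      push_cast
      rw [h]
      tauto
    rw [hr, ofSet_compl, ofSet_symmDiff]
    exact golayCode.add_mem one_mem (golayCode.add_mem h3 h3')

theorem neg_mem {x : GolayPt → ℤ} (hx : x ∈ leechSet) : -x ∈ leechSet := by
  rw [mem_leechSet_iff] at hx ⊢
  obtain ⟨m, h1, h2, h3⟩ := hx
  refine ⟨-m, fun i => (h1 i).neg, ?_, ?_⟩
  · simp only [Pi.neg_apply, Finset.sum_neg_distrib, mul_neg]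
    exact h2.neg
  · have hr : res (-x) (-m) = res x m := by
      ext i
      rw [mem_res, mem_res]
      simp only [Pi.neg_apply]
      constructor
      · intro h
        have h' := h.neg
        simpa using h'
      · intro h; exact h.neg
    rw [hr]; exact h3

theorem zero_mem : (0 : GolayPt → ℤ) ∈ leechSet := by
  rw [mem_leechSet_iff]
  refine ⟨0, fun i => Int.ModEq.refl _, by simp, ?_⟩
  have hr : res (0 : GolayPt → ℤ) 0 = Finset.univ := by
    ext i; simp [mem_res]
  rw [hr, ofSet_univ]; exact one_mem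

/-- `leechSet` as an additive subgroup -/
def leechSub : AddSubgroup (GolayPt → ℤ) where
  carrier := leechSet
  add_mem' := add_mem
  zero_mem' := zero_mem
  neg_mem' := neg_mem

theorem leechLattice_eq : leechLattice = leechSub := by
  apply le_antisymm
  · exact (AddSubgroup.closure_le _).mpr (fun x hx => hx)
  · exact fun x hx => AddSubgroup.subset_closure hx

theorem mem_leechLattice_iff (x : GolayPt → ℤ) : x ∈ leechLattice ↔ x ∈ leechSet := by
  rw [leechLattice_eq]; rfl

theorem card_pts : Fintype.card GolayPt = 24 := by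
  simp [GolayPt]

/-- the size of a residue set is the weight of a code word -/
theorem card_res_eq (x : GolayPt → ℤ) (k : ℤ) :
    hammingNorm (ofSet (res x k)) = (res x k).card := by
  rw [norm_eq, supp_ofSet]

theorem sq_even (t : ℤ) (h : t % 2 = 0) :
    (16 : ℤ) ∣ t ^ 2 - (if t ≡ 2 [ZMOD 4] then 4 else 0) := by
  have h4 : t % 4 = 0 ∨ t % 4 = 2 := by omega
  rcases h4 with h4 | h4
  · have hn : ¬ (t ≡ 2 [ZMOD 4]) := by unfold Int.ModEq; omega
    rw [if_neg hn]
    have ht : t = 4 * (t / 4) := by omega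
    exact ⟨(t / 4) ^ 2, by
      generalize t / 4 = q at ht
      rw [ht]; ring⟩
  · have hp : t ≡ 2 [ZMOD 4] := by unfold Int.ModEq; omega
    rw [if_pos hp]
    have ht : t = 4 * (t / 4) + 2 := by omega
    exact ⟨(t / 4) ^ 2 + t / 4, by
      generalize t / 4 = q at ht
      rw [ht]; ring⟩

theorem sq_odd (t : ℤ) (h : t % 2 = 1) :
    (16 : ℤ) ∣ t ^ 2 - (2 * t - 1 + (if t ≡ 3 [ZMOD 4] then 4 else 0)) := by
  have h4 : t % 4 = 1 ∨ t % 4 = 3 := by omega
  rcases h4 with h4 | h4
  · have hn : ¬ (t ≡ 3 [ZMOD 4]) := by unfold Int.ModEq; omega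
    rw [if_neg hn]
    have ht : t = 4 * (t / 4) + 1 := by omega
    exact ⟨(t / 4) ^ 2, by
      generalize t / 4 = q at ht
      rw [ht]; ring⟩
  · have hp : t ≡ 3 [ZMOD 4] := by unfold Int.ModEq; omega
    rw [if_pos hp]
    have ht : t = 4 * (t / 4) + 3 := by omega
    exact ⟨(t / 4) ^ 2 + t / 4, by
      generalize t / 4 = q at ht
      rw [ht]; ring⟩

theorem sum_ind (x : GolayPt → ℤ) (k : ℤ) :
    ∑ i, (if x i ≡ k [ZMOD 4] then (4 : ℤ) else 0) = 4 * ((res x k).card : ℤ) := by
  rw [← Finset.sum_filter]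
  have hk : (Finset.univ.filter fun i => x i ≡ k [ZMOD 4]) = res x k := rfl
  rw [hk, Finset.sum_const, nsmul_eq_mul, mul_comm]

/-- squared lengths are divisible by 16, given that the code is doubly even -/
theorem dvd_sqNorm (H1 : ∀ w ∈ golayCode, 4 ∣ hammingNorm w) (x : GolayPt → ℤ)
    (hx : x ∈ leechSet) : (16 : ℤ) ∣ sqNorm x := by
  have hres : ∀ k : ℤ, (4 : ℤ) ∣ ((res x k).card : ℤ) := by
    intro k
    have h := H1 _ (res_mem hx k)
    rw [card_res_eq] at h
    exact Int.natCast_dvd_natCast.mpr h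
  obtain ⟨m, h1, h2, -⟩ := hx
  unfold sqNorm
  rcases Int.emod_two_eq_zero_or_one m with hm | hm
  · have hev : ∀ i, x i % 2 = 0 := by
      intro i
      have := h1 i
      unfold Int.ModEq at this
      omega
    have hd : (16 : ℤ) ∣ ∑ i, (x i ^ 2 - (if x i ≡ 2 [ZMOD 4] then 4 else 0)) :=
      Finset.dvd_sum (fun i _ => sq_even (x i) (hev i))
    rw [Finset.sum_sub_distrib, sum_ind] at hd
    obtain ⟨a, ha⟩ := hd
    obtain ⟨b, hb⟩ := hres 2
    exact ⟨a + b, by rw [hb] at ha; linarith⟩
  · have hodd : ∀ i, x i % 2 = 1 := by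
      intro i
      have := h1 i
      unfold Int.ModEq at this
      omega
    have hd : (16 : ℤ) ∣ ∑ i, (x i ^ 2 - (2 * x i - 1 + (if x i ≡ 3 [ZMOD 4] then 4 else 0))) :=
      Finset.dvd_sum (fun i _ => sq_odd (x i) (hodd i))
    rw [Finset.sum_sub_distrib, Finset.sum_add_distrib, Finset.sum_sub_distrib, sum_ind,
      ← Finset.mul_sum] at hd
    have hc : ∑ i : GolayPt, (1 : ℤ) = 24 := by
      rw [Finset.sum_const, Finset.card_univ, card_pts]; norm_num
    rw [hc] at hd
    obtain ⟨a, ha⟩ := hd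
    obtain ⟨b, hb⟩ := hres 3
    unfold Int.ModEq at h2
    have h2' : (∑ i, x i) % 8 = 4 := by omega
    have h3 : ∑ i, x i = 8 * ((∑ i, x i) / 8) + 4 := by omega
    exact ⟨a + (∑ i, x i) / 8 + b - 1, by rw [hb] at ha; linarith⟩

/-- nonzero vectors have squared length at least 32, given that the code is doubly even with
minimum weight 8 -/
theorem min_norm (H1 : ∀ w ∈ golayCode, 4 ∣ hammingNorm w)
    (H2 : ∀ w ∈ golayCode, w ≠ 0 → 8 ≤ hammingNorm w)
    (x : GolayPt → ℤ) (hx : x ∈ leechSet) (h0 : x ≠ 0) : 32 ≤ sqNorm x := by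
  have hnn : ∀ i ∈ (Finset.univ : Finset GolayPt), 0 ≤ x i ^ 2 := fun i _ => sq_nonneg _
  have hres4 : ∀ k : ℤ, 4 ∣ (res x k).card := by
    intro k
    have h := H1 _ (res_mem hx k)
    rw [card_res_eq] at h
    exact h
  have hres8 : ∀ k : ℤ, res x k ≠ ∅ → 8 ≤ (res x k).card := by
    intro k hk
    have h := H2 _ (res_mem hx k) (by
      intro h
      apply hk
      have h' := congrArg support₂ h
      rw [supp_ofSet] at h'
      rw [h']
      ext i
      simp [support₂])
    rw [card_res_eq] at h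
    exact h
  obtain ⟨m, h1, h2, -⟩ := hx
  unfold sqNorm
  rcases Int.emod_two_eq_zero_or_one m with hm | hm
  · -- even vectors
    have hev : ∀ i, x i % 2 = 0 := by
      intro i
      have := h1 i
      unfold Int.ModEq at this
      omega
    by_cases hS : res x 2 = ∅
    · have h4 : ∀ i, x i % 4 = 0 := by
        intro i
        have hi : i ∉ res x 2 := by rw [hS]; exact Finset.notMem_empty i
        rw [mem_res] at hi
        unfold Int.ModEq at hi
        have := hev i
        omega
      obtain ⟨j, hj⟩ : ∃ j, x j ≠ 0 := by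
        by_contra hcon
        push Not at hcon
        exact h0 (funext hcon)
      have hj16 : 16 ≤ x j ^ 2 := by
        have := h4 j
        have h5 : x j ≤ -4 ∨ 4 ≤ x j := by omega
        rcases h5 with h5 | h5 <;> nlinarith
      by_cases hl : ∃ l, l ≠ j ∧ x l ≠ 0
      · obtain ⟨l, hlj, hl0⟩ := hl
        have hl16 : 16 ≤ x l ^ 2 := by
          have := h4 l
          have h5 : x l ≤ -4 ∨ 4 ≤ x l := by omega
          rcases h5 with h5 | h5 <;> nlinarith
        have hsub : ∑ i ∈ ({j, l} : Finset GolayPt), x i ^ 2 ≤ ∑ i, x i ^ 2 :=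
          Finset.sum_le_sum_of_subset_of_nonneg (Finset.subset_univ _) (fun i hi _ => hnn i hi)
        rw [Finset.sum_pair (Ne.symm hlj)] at hsub
        linarith
      · push Not at hl
        have hsum : ∑ i, x i = x j := by
          apply Finset.sum_eq_single j
          · intro b _ hb; exact hl b hb
          · intro hj'; exact absurd (Finset.mem_univ j) hj'
        rw [hsum] at h2
        unfold Int.ModEq at h2
        have h8 : x j % 8 = 0 := by omega
        have h64 : 64 ≤ x j ^ 2 := by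
          have h5 : x j ≤ -8 ∨ 8 ≤ x j := by omega
          rcases h5 with h5 | h5 <;> nlinarith
        have hle : x j ^ 2 ≤ ∑ i, x i ^ 2 :=
          Finset.single_le_sum hnn (Finset.mem_univ j)
        linarith
    · have h8 := hres8 2 hS
      have hsub : ∑ i ∈ res x 2, x i ^ 2 ≤ ∑ i, x i ^ 2 :=
        Finset.sum_le_sum_of_subset_of_nonneg (Finset.subset_univ _) (fun i hi _ => hnn i hi)
      have hge : ∑ i ∈ res x 2, (4 : ℤ) ≤ ∑ i ∈ res x 2, x i ^ 2 := by
        apply Finset.sum_le_sum
        intro i hi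
        rw [mem_res] at hi
        unfold Int.ModEq at hi
        have h5 : x i ≤ -2 ∨ 2 ≤ x i := by omega
        rcases h5 with h5 | h5 <;> nlinarith
      rw [Finset.sum_const, nsmul_eq_mul] at hge
      have h8' : (8 : ℤ) ≤ ((res x 2).card : ℤ) := by exact_mod_cast h8
      linarith
  · -- odd vectors
    have hodd : ∀ i, x i % 2 = 1 := by
      intro i
      have := h1 i
      unfold Int.ModEq at this
      omega
    by_contra hlt
    push Not at hlt
    have hone : ∀ i, 1 ≤ x i ^ 2 := by
      intro i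
      have := hodd i
      have h5 : x i ≤ -1 ∨ 1 ≤ x i := by omega
      rcases h5 with h5 | h5 <;> nlinarith
    have hsmall : ∀ j, x j ^ 2 ≤ 8 := by
      intro j
      by_contra h9
      push Not at h9
      have hsplit := Finset.add_sum_erase Finset.univ (fun i => x i ^ 2) (Finset.mem_univ j)
      have hrest : ∑ i ∈ (Finset.univ : Finset GolayPt).erase j, (1 : ℤ)
          ≤ ∑ i ∈ (Finset.univ : Finset GolayPt).erase j, x i ^ 2 :=
        Finset.sum_le_sum (fun i _ => hone i)
      have hcard : ((Finset.univ : Finset GolayPt).erase j).card = 23 := by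
        rw [Finset.card_erase_of_mem (Finset.mem_univ j), Finset.card_univ, card_pts]
      have h23 : ∑ i ∈ (Finset.univ : Finset GolayPt).erase j, (1 : ℤ) = 23 := by
        rw [Finset.sum_const, hcard]; norm_num
      rw [h23] at hrest
      have hsplit' : x j ^ 2 + ∑ i ∈ (Finset.univ : Finset GolayPt).erase j, x i ^ 2
          = ∑ i, x i ^ 2 := hsplit
      linarith
    have hpm : ∀ i, x i = 1 ∨ x i = -1 := by
      intro i
      have h9 := hsmall i
      have := hodd i
      have hb1 : x i ≤ 2 := by nlinarith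
      have hb2 : -2 ≤ x i := by nlinarith
      omega
    have hval : ∀ i, x i = 2 * (if x i ≡ 1 [ZMOD 4] then 1 else 0) - 1 := by
      intro i
      rcases hpm i with h | h
      · have hp : x i ≡ 1 [ZMOD 4] := by rw [h]
        rw [if_pos hp, h]; norm_num
      · have hn : ¬ (x i ≡ 1 [ZMOD 4]) := by rw [h]; decide
        rw [if_neg hn, h]; norm_num
    have hsum : ∑ i, x i = 2 * ((res x 1).card : ℤ) - 24 := by
      have hs1 : ∑ i, x i = ∑ i, (2 * (if x i ≡ 1 [ZMOD 4] then (1 : ℤ) else 0) - 1) :=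
        Finset.sum_congr rfl (fun i _ => hval i)
      rw [hs1, Finset.sum_sub_distrib, ← Finset.mul_sum, ← Finset.sum_filter]
      have hk : (Finset.univ.filter fun i => x i ≡ 1 [ZMOD 4]) = res x 1 := rfl
      rw [hk, Finset.sum_const, Finset.sum_const, Finset.card_univ, card_pts]
      norm_num
    obtain ⟨b, hb⟩ := hres4 1
    rw [hsum, hb] at h2
    unfold Int.ModEq at h2
    push_cast at h2
    omega

end Cfsg.Agent.Helper28.Leech
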