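import Mathlib
import Cfsg.Prelude.Def_Sporadic_a
import Cfsg.Agent.Helper3.Golay
import Cfsg.Agent.Helper28.Leech

/-!
The rank-24 lattice of the definitions: minimal squared length 32, squared lengths divisible by 16,
and congruence classes modulo twice the lattice of short vectors.
-/

set_option autoImplicit false

namespace Cfsg.Agent.Helper28.Leech

open Cfsg Cfsg.Agent.Helper28.Code

theorem golay_H1 : ∀ w ∈ golayCode, 4 ∣ hammingNorm w := by
  intro w hw
  rcases Cfsg.Agent.Helper3.golay_weights w hw with h | h | h | h | h <;> rw [h] <;> norm_num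

theorem golay_H2 : ∀ w ∈ golayCode, w ≠ 0 → 8 ≤ hammingNorm w := by
  intro w hw h0
  rcases Cfsg.Agent.Helper3.golay_weights w hw with h | h | h | h | h
  · exact absurd (hammingNorm_eq_zero.mp h) h0
  all_goals omega

/-- nonzero vectors of the lattice have squared length at least 32 -/
theorem leech_min_norm (x : GolayPt → ℤ) (hx : x ∈ leechLattice) (h0 : x ≠ 0) : 32 ≤ sqNorm x :=
  min_norm golay_H1 golay_H2 x ((mem_leechLattice_iff x).mp hx) h0

/-- squared lengths of lattice vectors are divisible by 16 -/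
theorem leech_dvd (x : GolayPt → ℤ) (hx : x ∈ leechLattice) : (16 : ℤ) ∣ sqNorm x :=
  dvd_sqNorm golay_H1 x ((mem_leechLattice_iff x).mp hx)

theorem sqNorm_sub (x y : GolayPt → ℤ) :
    sqNorm (x - y) = sqNorm x + sqNorm y - 2 * dotInt x y := by
  unfold sqNorm dotInt
  rw [Finset.mul_sum, ← Finset.sum_add_distrib, ← Finset.sum_sub_distrib]
  apply Finset.sum_congr rfl
  intro i _
  simp only [Pi.sub_apply]; ring

theorem sqNorm_add (x y : GolayPt → ℤ) :
    sqNorm (x + y) = sqNorm x + sqNorm y + 2 * dotInt x y := by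
  unfold sqNorm dotInt
  rw [Finset.mul_sum, ← Finset.sum_add_distrib, ← Finset.sum_add_distrib]
  apply Finset.sum_congr rfl
  intro i _
  simp only [Pi.add_apply]; ring

theorem sqNorm_neg (x : GolayPt → ℤ) : sqNorm (-x) = sqNorm x := by
  unfold sqNorm
  apply Finset.sum_congr rfl
  intro i _
  simp only [Pi.neg_apply]; ring

theorem sqNorm_two_smul (z : GolayPt → ℤ) : sqNorm (2 • z) = 4 * sqNorm z := by
  unfold sqNorm
  rw [Finset.mul_sum]
  apply Finset.sum_congr rfl
  intro i _
  simp only [Pi.smul_apply, nsmul_eq_mul]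
  push_cast; ring

/-- two short vectors congruent modulo twice the lattice -/
theorem mod_two_key (x y : GolayPt → ℤ) (hx : x ∈ leechLattice) (hy : y ∈ leechLattice)
    (hxn : sqNorm x ≤ 64) (hyn : sqNorm y ≤ 64) (hc : ∃ z ∈ leechLattice, x - y = 2 • z) :
    x = y ∨ x = -y ∨ (sqNorm x = 64 ∧ sqNorm y = 64 ∧ dotInt x y = 0) := by
  obtain ⟨z, hz, hxy⟩ := hc
  by_cases h1 : x = y
  · left; exact h1
  by_cases h2 : x = -y
  · right; left; exact h2
  right; right
  have hz0 : z ≠ 0 := by
    intro h
    rw [h, smul_zero] at hxy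
    exact h1 (sub_eq_zero.mp hxy)
  have hz' : z + y ∈ leechLattice := leechLattice.add_mem hz hy
  have hxy' : x + y = 2 • (z + y) := by
    rw [smul_add, ← hxy, two_nsmul]; abel
  have hz'0 : z + y ≠ 0 := by
    intro h
    rw [h, smul_zero] at hxy'
    exact h2 (eq_neg_of_add_eq_zero_left hxy')
  have n1 := leech_min_norm z hz hz0
  have n2 := leech_min_norm (z + y) hz' hz'0
  have e1 := sqNorm_sub x y
  have e2 := sqNorm_add x y
  rw [hxy, sqNorm_two_smul] at e1
  rw [hxy', sqNorm_two_smul] at e2
  refine ⟨by linarith, by linarith, by linarith⟩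

end Cfsg.Agent.Helper28.Leech
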