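import Mathlib
import Cfsg.Prelude.Def_Sporadic_a
import Cfsg.Agent.Helper28.Code

/-!
Sextets of a binary [24,12,8] code.
-/

set_option autoImplicit false

namespace Cfsg.Agent.Helper28.Code

open Cfsg

variable {α : Type*} [Fintype α] [DecidableEq α]

/-- The **sextet** of a 4-set `T`: six pairwise disjoint 4-sets covering the 24 points, any two of
which unite to (the support of) a code word. -/
theorem sextet (hα : Fintype.card α = 24) (C : Submodule (ZMod 2) (W α))
    (hdim : Module.finrank (ZMod 2) C = 12)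
    (hmin : ∀ w ∈ C, w ≠ 0 → 8 ≤ hammingNorm w) (T : Finset α) (hT : T.card = 4) :
    ∃ F : Finset (Finset α), F.card = 6 ∧ T ∈ F ∧ (∀ s ∈ F, s.card = 4) ∧
      (∀ s ∈ F, ∀ t ∈ F, s ≠ t → Disjoint s t) ∧
      (∀ s ∈ F, ∀ t ∈ F, ofSet s + ofSet t ∈ C) ∧
      (∀ s : Finset α, s.card = 4 → ofSet s + ofSet T ∈ C → s ∈ F) ∧
      (∀ p : α, ∃ s ∈ F, p ∈ s) := by
  classical
  have hwT : hammingNorm (ofSet T) = 4 := by rw [norm_eq, supp_ofSet, hT]
  rcases coset_leaders hα C hdim hmin (ofSet T) with ⟨u, hu, huniq⟩ | ⟨F, hF6, hF4, hFmem⟩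
  · exfalso
    have h := (huniq (ofSet T)).mp ⟨by rw [sub_self]; exact C.zero_mem, by omega⟩
    rw [← h] at hu
    omega
  · have hTF : ofSet T ∈ F :=
      (hFmem _).mp ⟨by rw [sub_self]; exact C.zero_mem, by omega⟩
    have hsub : ∀ u ∈ F, ∀ u' ∈ F, u - u' ∈ C := by
      intro u hu u' hu'
      have h1 := ((hFmem u).mpr hu).1
      have h2 := ((hFmem u').mpr hu').1
      have h3 : u - u' = (u - ofSet T) - (u' - ofSet T) := by abel
      rw [h3]
      exact C.sub_mem h1 h2
    have hdisj : (F : Set (W α)).PairwiseDisjoint support₂ := by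
      intro u hu u' hu' hne
      rw [Finset.mem_coe] at hu hu'
      exact (k1 C hmin (by rw [hF4 u hu]) (by rw [hF4 u' hu']) hne (hsub u hu u' hu')).2.2
    refine ⟨F.image support₂, ?_, ?_, ?_, ?_, ?_, ?_, ?_⟩
    · rw [Finset.card_image_of_injective _ supp_injective, hF6]
    · rw [Finset.mem_image]; exact ⟨ofSet T, hTF, supp_ofSet T⟩
    · intro s hs
      rw [Finset.mem_image] at hs
      obtain ⟨u, hu, rfl⟩ := hs
      rw [← norm_eq]; exact hF4 u hu
    · intro s hs t ht hne
      rw [Finset.mem_image] at hs ht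
      obtain ⟨u, hu, rfl⟩ := hs
      obtain ⟨u', hu', rfl⟩ := ht
      exact hdisj (Finset.mem_coe.mpr hu) (Finset.mem_coe.mpr hu') (fun h => hne (by rw [h]))
    · intro s hs t ht
      rw [Finset.mem_image] at hs ht
      obtain ⟨u, hu, rfl⟩ := hs
      obtain ⟨u', hu', rfl⟩ := ht
      rw [ofSet_supp, ofSet_supp, ← sub_eq_add]
      exact hsub u hu u' hu'
    · intro s hs hsT
      rw [Finset.mem_image]
      exact ⟨ofSet s, (hFmem _).mp ⟨by rw [sub_eq_add]; exact hsT,
        by rw [norm_eq, supp_ofSet, hs]⟩, supp_ofSet s⟩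
    · intro p
      have h1 := Finset.card_biUnion hdisj
      have h2 : ∑ u ∈ F, (support₂ u).card = F.card * 4 := by
        apply Finset.sum_const_nat
        intro u hu
        rw [← norm_eq]; exact hF4 u hu
      have h3 : F.biUnion support₂ = Finset.univ := by
        apply Finset.eq_univ_of_card
        rw [h1, h2, hF6, hα]
      have hp : p ∈ F.biUnion support₂ := by rw [h3]; exact Finset.mem_univ p
      rw [Finset.mem_biUnion] at hp
      obtain ⟨u, hu, hpu⟩ := hp
      exact ⟨support₂ u, Finset.mem_image_of_mem _ hu, hpu⟩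

/-- a pairwise disjoint covering family partitions every set -/
theorem card_partition (F : Finset (Finset α))
    (hdisj : ∀ s ∈ F, ∀ t ∈ F, s ≠ t → Disjoint s t) (hcov : ∀ p : α, ∃ s ∈ F, p ∈ s)
    (X : Finset α) : ∑ s ∈ F, (X ∩ s).card = X.card := by
  have hd : (F : Set (Finset α)).PairwiseDisjoint (fun s => X ∩ s) := by
    intro s hs t ht hne
    exact (hdisj s hs t ht hne).mono Finset.inter_subset_right Finset.inter_subset_right
  rw [← Finset.card_biUnion hd]
  congr 1
  ext p
  rw [Finset.mem_biUnion]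
  constructor
  · rintro ⟨s, -, hp⟩
    exact (Finset.mem_inter.mp hp).1
  · intro hp
    obtain ⟨s, hs, hps⟩ := hcov p
    exact ⟨s, hs, Finset.mem_inter.mpr ⟨hp, hps⟩⟩

/-- the union of two disjoint sets as a word -/
theorem ofSet_union {s t : Finset α} (h : Disjoint s t) : ofSet (s ∪ t) = ofSet s + ofSet t := by
  rw [← ofSet_symmDiff]
  congr 1
  ext i
  rw [Finset.mem_union, Finset.mem_symmDiff]
  constructor
  · rintro (hi | hi)
    · left; exact ⟨hi, fun h2 => Finset.disjoint_left.mp h hi h2⟩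
    · right; exact ⟨hi, fun h2 => Finset.disjoint_left.mp h h2 hi⟩
  · rintro (⟨hi, -⟩ | ⟨hi, -⟩)
    · left; exact hi
    · right; exact hi


end Cfsg.Agent.Helper28.Code
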