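import Mathlib
import Cfsg.Prelude.Def_Sporadic_a
import Cfsg.Agent.Helper3.Golay
import Cfsg.Agent.Helper3.GolayLemmas
import Cfsg.Agent.Helper28.Sextet
import Cfsg.Agent.Helper28.LeechGolay

/-!
Combinatorics of the octads of the length-24 code, derived from the weight distribution
(sextets, intersections of octads, octads disjoint from two given ones).
-/

set_option autoImplicit false

namespace Cfsg.Agent.Helper28.Octads

open Cfsg Cfsg.Agent.Helper28.Code Cfsg.Agent.Helper28.Leech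

theorem mem_oct (o : Finset GolayPt) : o ∈ octads ↔ ofSet o ∈ golayCode ∧ o.card = 8 := by
  unfold octads wordsOfWeight
  rw [Set.mem_ofPred_eq, mem_supports_iff]

theorem weights (s : Finset GolayPt) (hs : ofSet s ∈ golayCode) :
    s.card = 0 ∨ s.card = 8 ∨ s.card = 12 ∨ s.card = 16 ∨ s.card = 24 := by
  have h := Cfsg.Agent.Helper3.golay_weights (ofSet s) hs
  rw [norm_eq, supp_ofSet] at h
  exact h

theorem card_symmDiff (s t : Finset GolayPt) :
    (symmDiff s t).card + 2 * (s ∩ t).card = s.card + t.card := by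
  have h := norm_add (ofSet s) (ofSet t)
  rw [← ofSet_symmDiff, norm_eq, norm_eq, norm_eq, supp_ofSet, supp_ofSet, supp_ofSet] at h
  exact h

theorem symmDiff_mem {s t : Finset GolayPt} (hs : ofSet s ∈ golayCode)
    (ht : ofSet t ∈ golayCode) : ofSet (symmDiff s t) ∈ golayCode := by
  rw [ofSet_symmDiff]; exact golayCode.add_mem hs ht

/-- distinct octads meet in 0, 2 or 4 points -/
theorem octad_inter {o o' : Finset GolayPt} (ho : o ∈ octads) (ho' : o' ∈ octads)
    (hne : o ≠ o') :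
    (o ∩ o').card = 0 ∨ (o ∩ o').card = 2 ∨ (o ∩ o').card = 4 := by
  rw [mem_oct] at ho ho'
  have h1 := card_symmDiff o o'
  have h2 := weights _ (symmDiff_mem ho.1 ho'.1)
  have h3 : (symmDiff o o').card ≠ 0 := by
    intro h
    rw [Finset.card_eq_zero] at h
    exact hne (symmDiff_eq_bot.mp h)
  omega

/-- the sextet of a 4-set of points -/
theorem gsextet (T : Finset GolayPt) (hT : T.card = 4) :
    ∃ F : Finset (Finset GolayPt), F.card = 6 ∧ T ∈ F ∧ (∀ s ∈ F, s.card = 4) ∧
      (∀ s ∈ F, ∀ t ∈ F, s ≠ t → Disjoint s t) ∧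
      (∀ s ∈ F, ∀ t ∈ F, ofSet s + ofSet t ∈ golayCode) ∧
      (∀ s : Finset GolayPt, s.card = 4 → ofSet s + ofSet T ∈ golayCode → s ∈ F) ∧
      (∀ p : GolayPt, ∃ s ∈ F, p ∈ s) :=
  sextet card_pts golayCode Cfsg.Agent.Helper3.golayCode_finrank golay_H2 T hT

/-- Two members of a sextet unite to an octad -/
theorem union_mem_octads {F : Finset (Finset GolayPt)} (h4 : ∀ s ∈ F, s.card = 4)
    (hdisj : ∀ s ∈ F, ∀ t ∈ F, s ≠ t → Disjoint s t)
    (hC : ∀ s ∈ F, ∀ t ∈ F, ofSet s + ofSet t ∈ golayCode) {s t : Finset GolayPt}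
    (hs : s ∈ F) (ht : t ∈ F) (hne : s ≠ t) : s ∪ t ∈ octads := by
  rw [mem_oct, ofSet_union (hdisj s hs t ht hne),
    Finset.card_union_of_disjoint (hdisj s hs t ht hne), h4 s hs, h4 t ht]
  exact ⟨hC s hs t ht, rfl⟩

/-- the complement in an octad of a tetrad is in the sextet of the tetrad -/
theorem sdiff_mem_sextet {F : Finset (Finset GolayPt)} {T : Finset GolayPt}
    (hF : ∀ s : Finset GolayPt, s.card = 4 → ofSet s + ofSet T ∈ golayCode → s ∈ F)
    {o : Finset GolayPt} (ho : o ∈ octads) (hTo : T ⊆ o) (hT : T.card = 4) : o \ T ∈ F := by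
  rw [mem_oct] at ho
  apply hF
  · rw [Finset.card_sdiff_of_subset hTo, ho.2, hT]
  · rw [← ofSet_union Finset.sdiff_disjoint, Finset.sdiff_union_of_subset hTo]; exact ho.1

/-- two octads meeting in four points have an octad disjoint from both -/
theorem common_nbr {o o' : Finset GolayPt} (ho : o ∈ octads) (ho' : o' ∈ octads)
    (h4 : (o ∩ o').card = 4) : ∃ A ∈ octads, Disjoint o A ∧ Disjoint o' A := by
  obtain ⟨F, hF6, hTF, hF4, hFd, hFC, hFmem, hFcov⟩ := gsextet (o ∩ o') h4
  have h1 : o \ (o ∩ o') ∈ F := sdiff_mem_sextet hFmem ho Finset.inter_subset_left h4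
  have h2 : o' \ (o ∩ o') ∈ F := sdiff_mem_sextet hFmem ho' Finset.inter_subset_right h4
  have hc : 1 < (((F.erase (o ∩ o')).erase (o \ (o ∩ o'))).erase (o' \ (o ∩ o'))).card := by
    have e1 := Finset.pred_card_le_card_erase (s := F) (a := o ∩ o')
    have e2 := Finset.pred_card_le_card_erase (s := F.erase (o ∩ o')) (a := o \ (o ∩ o'))
    have e3 := Finset.pred_card_le_card_erase
      (s := (F.erase (o ∩ o')).erase (o \ (o ∩ o'))) (a := o' \ (o ∩ o'))
    omega
  obtain ⟨S1, hS1, S2, hS2, hne⟩ := Finset.one_lt_card.mp hc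
  simp only [Finset.mem_erase] at hS1 hS2
  obtain ⟨hS1c, hS1b, hS1a, hS1F⟩ := hS1
  obtain ⟨hS2c, hS2b, hS2a, hS2F⟩ := hS2
  refine ⟨S1 ∪ S2, union_mem_octads hF4 hFd hFC hS1F hS2F hne, ?_, ?_⟩
  · have : Disjoint ((o \ (o ∩ o')) ∪ (o ∩ o')) (S1 ∪ S2) := by
      rw [Finset.disjoint_union_left, Finset.disjoint_union_right, Finset.disjoint_union_right]
      exact ⟨⟨hFd _ h1 _ hS1F (Ne.symm hS1b), hFd _ h1 _ hS2F (Ne.symm hS2b)⟩,
        ⟨hFd _ hTF _ hS1F (Ne.symm hS1a), hFd _ hTF _ hS2F (Ne.symm hS2a)⟩⟩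
    rwa [Finset.sdiff_union_of_subset Finset.inter_subset_left] at this
  · have : Disjoint ((o' \ (o ∩ o')) ∪ (o ∩ o')) (S1 ∪ S2) := by
      rw [Finset.disjoint_union_left, Finset.disjoint_union_right, Finset.disjoint_union_right]
      exact ⟨⟨hFd _ h2 _ hS1F (Ne.symm hS1c), hFd _ h2 _ hS2F (Ne.symm hS2c)⟩,
        ⟨hFd _ hTF _ hS1F (Ne.symm hS1a), hFd _ hTF _ hS2F (Ne.symm hS2a)⟩⟩
    rwa [Finset.sdiff_union_of_subset Finset.inter_subset_right] at this

/-- two octads meeting in two points have no octad disjoint from both -/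
theorem no_common_nbr {o o' A : Finset GolayPt} (ho : o ∈ octads) (ho' : o' ∈ octads)
    (hA : A ∈ octads) (h2 : (o ∩ o').card = 2) (h1 : Disjoint o A) (h1' : Disjoint o' A) :
    False := by
  rw [mem_oct] at ho ho' hA
  have e1 := card_symmDiff o o'
  have e2 := card_symmDiff (symmDiff o o') A
  have e3 : symmDiff o o' ∩ A = ∅ := by
    rw [← Finset.disjoint_iff_inter_eq_empty]
    refine Finset.disjoint_of_subset_left ?_ (Finset.disjoint_union_left.mpr ⟨h1, h1'⟩)
    intro x hx
    rw [Finset.mem_symmDiff] at hx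
    rw [Finset.mem_union]
    tauto
  rw [e3, Finset.card_empty] at e2
  have e4 := weights _ (symmDiff_mem (symmDiff_mem ho.1 ho'.1) hA.1)
  omega

/-- two octads meeting in two points are joined by a path of three disjointness steps -/
theorem path3 {o o' : Finset GolayPt} (ho : o ∈ octads) (ho' : o' ∈ octads)
    (h2 : (o ∩ o').card = 2) :
    ∃ A ∈ octads, ∃ B ∈ octads, Disjoint o A ∧ Disjoint A B ∧ Disjoint B o' := by
  have ho8 := ((mem_oct o).mp ho).2
  have ho'8 := ((mem_oct o').mp ho').2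
  have h6 : (o \ o').card = 6 := by
    have := Finset.card_sdiff_add_card_inter o o'
    omega
  obtain ⟨T, hTsub, hT4⟩ := Finset.exists_subset_card_eq (show 4 ≤ (o \ o').card by omega)
  have hTo : T ⊆ o := hTsub.trans Finset.sdiff_subset
  have hTo' : Disjoint o' T := Finset.disjoint_of_subset_right hTsub Finset.disjoint_sdiff
  obtain ⟨F, hF6, hTF, hF4, hFd, hFC, hFmem, hFcov⟩ := gsextet T hT4
  have hRF : o \ T ∈ F := sdiff_mem_sextet hFmem ho hTo hT4
  have hRT : o \ T ≠ T := by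
    intro h
    have h' := Finset.sdiff_disjoint (s := T) (t := o)
    rw [h, Finset.disjoint_self_iff_empty] at h'
    rw [h'] at hT4; simp at hT4
  have hoR : (o' ∩ (o \ T)).card = 2 := by
    have e : o' ∩ o = o' ∩ (o \ T) := by
      ext x; simp only [Finset.mem_inter, Finset.mem_sdiff]
      constructor
      · rintro ⟨hx', hx⟩; exact ⟨hx', hx, fun hxT => Finset.disjoint_left.mp hTo' hx' hxT⟩
      · rintro ⟨hx', hx, -⟩; exact ⟨hx', hx⟩
    rw [← e, Finset.inter_comm]; exact h2
  have key : ∀ S ∈ F, S ≠ T → S ≠ o \ T → (o' ∩ S).card = 0 ∨ (o' ∩ S).card = 2 := by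
    intro S hS hST hSR
    have hO1 : T ∪ S ∈ octads := union_mem_octads hF4 hFd hFC hTF hS (Ne.symm hST)
    have hO2 : (o \ T) ∪ S ∈ octads := union_mem_octads hF4 hFd hFC hRF hS (Ne.symm hSR)
    have hd2 : Disjoint (o \ T) S := hFd _ hRF _ hS (Ne.symm hSR)
    have c1 : (o' ∩ (T ∪ S)).card = (o' ∩ S).card := by
      rw [Finset.inter_union_distrib_left, Finset.disjoint_iff_inter_eq_empty.mp hTo',
        Finset.empty_union]
    have c2 : (o' ∩ ((o \ T) ∪ S)).card = 2 + (o' ∩ S).card := by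
      rw [Finset.inter_union_distrib_left, Finset.card_union_of_disjoint, hoR]
      exact hd2.mono Finset.inter_subset_right Finset.inter_subset_right
    have n1 : o' ≠ T ∪ S := by
      intro h
      have hsub : T ⊆ o' := by rw [h]; exact Finset.subset_union_left
      have hT0 : T = ∅ := by
        rw [← Finset.disjoint_self_iff_empty]
        exact Finset.disjoint_of_subset_left hsub hTo'
      rw [hT0] at hT4; simp at hT4
    have n2 : o' ≠ (o \ T) ∪ S := by
      intro h
      have hsub : o \ T ⊆ o' := by rw [h]; exact Finset.subset_union_left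
      have h' : o' ∩ (o \ T) = o \ T := Finset.inter_eq_right.mpr hsub
      rw [h', hF4 _ hRF] at hoR
      omega
    have i1 := octad_inter ho' hO1 n1
    have i2 := octad_inter ho' hO2 n2
    rw [c1] at i1
    rw [c2] at i2
    omega
  have hsum := card_partition F hFd hFcov o'
  have hRF' : o \ T ∈ F.erase T := Finset.mem_erase.mpr ⟨hRT, hRF⟩
  have hoT : (o' ∩ T).card = 0 := by
    rw [Finset.disjoint_iff_inter_eq_empty.mp hTo', Finset.card_empty]
  have hex : ∃ S ∈ (F.erase T).erase (o \ T), (o' ∩ S).card = 0 := by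
    by_contra hcon
    push Not at hcon
    have hall : ∀ S ∈ (F.erase T).erase (o \ T), (o' ∩ S).card = 2 := by
      intro S hS
      have hS' := hS
      simp only [Finset.mem_erase] at hS'
      rcases key S hS'.2.2 hS'.2.1 hS'.1 with h | h
      · exact absurd h (hcon S hS)
      · exact h
    have s1 := Finset.sum_const_nat hall
    have c1 : ((F.erase T).erase (o \ T)).card = 4 := by
      rw [Finset.card_erase_of_mem hRF', Finset.card_erase_of_mem hTF, hF6]
    have s2 := Finset.add_sum_erase F (fun s => (o' ∩ s).card) hTF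
    have s3 := Finset.add_sum_erase (F.erase T) (fun s => (o' ∩ s).card) hRF'
    omega
  obtain ⟨S6, hS6, hS60⟩ := hex
  simp only [Finset.mem_erase] at hS6
  obtain ⟨hS6R, hS6T, hS6F⟩ := hS6
  have hc : 1 < (((F.erase T).erase (o \ T)).erase S6).card := by
    have e1 := Finset.pred_card_le_card_erase (s := F) (a := T)
    have e2 := Finset.pred_card_le_card_erase (s := F.erase T) (a := o \ T)
    have e3 := Finset.pred_card_le_card_erase (s := (F.erase T).erase (o \ T)) (a := S6)
    omega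
  obtain ⟨S1, hS1, S2, hS2, hne⟩ := Finset.one_lt_card.mp hc
  simp only [Finset.mem_erase] at hS1 hS2
  obtain ⟨hS1c, hS1b, hS1a, hS1F⟩ := hS1
  obtain ⟨hS2c, hS2b, hS2a, hS2F⟩ := hS2
  refine ⟨S1 ∪ S2, union_mem_octads hF4 hFd hFC hS1F hS2F hne, T ∪ S6,
    union_mem_octads hF4 hFd hFC hTF hS6F (Ne.symm hS6T), ?_, ?_, ?_⟩
  · have : Disjoint ((o \ T) ∪ T) (S1 ∪ S2) := by
      rw [Finset.disjoint_union_left, Finset.disjoint_union_right, Finset.disjoint_union_right]
      exact ⟨⟨hFd _ hRF _ hS1F (Ne.symm hS1b), hFd _ hRF _ hS2F (Ne.symm hS2b)⟩,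
        ⟨hFd _ hTF _ hS1F (Ne.symm hS1a), hFd _ hTF _ hS2F (Ne.symm hS2a)⟩⟩
    rwa [Finset.sdiff_union_of_subset hTo] at this
  · rw [Finset.disjoint_union_left, Finset.disjoint_union_right, Finset.disjoint_union_right]
    exact ⟨⟨hFd _ hS1F _ hTF hS1a, hFd _ hS1F _ hS6F hS1c⟩,
      ⟨hFd _ hS2F _ hTF hS2a, hFd _ hS2F _ hS6F hS2c⟩⟩
  · rw [Finset.disjoint_union_left]
    refine ⟨hTo'.symm, ?_⟩
    rw [Finset.disjoint_iff_inter_eq_empty, Finset.inter_comm, ← Finset.card_eq_zero]
    exact hS60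

end Cfsg.Agent.Helper28.Octads
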