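import Mathlib
import Cfsg.Prelude.Def_Sporadic_a
import Cfsg.Agent.Helper3.Golay
import Cfsg.Agent.Helper3.GolayLemmas
import Cfsg.Agent.Helper28.Octads
import Cfsg.Agent.S0432
import Cfsg.Agent.S0433

/-!
Monomial automorphisms of the rank-24 lattice (coordinate permutations from the code's group and
sign changes on code sets), and two facts about the code's group and the octads used with them.
-/

set_option autoImplicit false

namespace Cfsg.Agent.Helper28.Leech

open Cfsg Cfsg.Agent.Helper28.Code Cfsg.Agent.Helper28.Octads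

/-- coordinate permutation as a map of the lattice -/
def permFun (σ : Equiv.Perm GolayPt) (hσ : σ ∈ M24) (v : leechLattice) : leechLattice :=
  ⟨fun i => (v : GolayPt → ℤ) (σ i), Cfsg.Agent.S0432.result σ hσ _ v.2⟩

/-- coordinate permutation as a permutation of the lattice -/
def permAut (σ : Equiv.Perm GolayPt) (hσ : σ ∈ M24) : Equiv.Perm leechLattice where
  toFun := permFun σ hσ
  invFun := permFun σ⁻¹ (M24.inv_mem hσ)
  left_inv := fun v => by
    apply Subtype.ext
    funext i
    show (v : GolayPt → ℤ) (σ (σ⁻¹ i)) = (v : GolayPt → ℤ) i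
    simp
  right_inv := fun v => by
    apply Subtype.ext
    funext i
    show (v : GolayPt → ℤ) (σ⁻¹ (σ i)) = (v : GolayPt → ℤ) i
    simp

theorem permAut_apply (σ : Equiv.Perm GolayPt) (hσ : σ ∈ M24) (v : leechLattice) (i : GolayPt) :
    ((permAut σ hσ v : leechLattice) : GolayPt → ℤ) i = (v : GolayPt → ℤ) (σ i) := rfl

theorem permAut_mem (σ : Equiv.Perm GolayPt) (hσ : σ ∈ M24) : permAut σ hσ ∈ Co0 := by
  refine ⟨fun v w => rfl, fun v => ?_⟩
  unfold sqNorm
  exact Equiv.sum_comp σ (fun i => (v : GolayPt → ℤ) i ^ 2)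

/-- sign change on a code set as a map of the lattice -/
def signFun (c : Finset GolayPt) (hc : ofSet c ∈ golayCode) (v : leechLattice) : leechLattice :=
  ⟨fun i => if i ∈ c then -(v : GolayPt → ℤ) i else (v : GolayPt → ℤ) i,
    (mem_leechLattice_iff _).mpr
      (Cfsg.Agent.S0433.sign_mem c hc _ ((mem_leechLattice_iff _).mp v.2))⟩

theorem signFun_signFun (c : Finset GolayPt) (hc : ofSet c ∈ golayCode) (v : leechLattice) :
    signFun c hc (signFun c hc v) = v := by
  apply Subtype.ext
  funext i
  show (if i ∈ c then -(if i ∈ c then -(v : GolayPt → ℤ) i else (v : GolayPt → ℤ) i)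
    else (if i ∈ c then -(v : GolayPt → ℤ) i else (v : GolayPt → ℤ) i)) = (v : GolayPt → ℤ) i
  split_ifs <;> simp

/-- sign change on a code set as a permutation of the lattice -/
def signAut (c : Finset GolayPt) (hc : ofSet c ∈ golayCode) : Equiv.Perm leechLattice where
  toFun := signFun c hc
  invFun := signFun c hc
  left_inv := signFun_signFun c hc
  right_inv := signFun_signFun c hc

theorem signAut_apply (c : Finset GolayPt) (hc : ofSet c ∈ golayCode) (v : leechLattice)
    (i : GolayPt) : ((signAut c hc v : leechLattice) : GolayPt → ℤ) i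
      = if i ∈ c then -(v : GolayPt → ℤ) i else (v : GolayPt → ℤ) i := rfl

theorem signAut_mem (c : Finset GolayPt) (hc : ofSet c ∈ golayCode) : signAut c hc ∈ Co0 := by
  refine ⟨fun v w => ?_, fun v => ?_⟩
  · apply Subtype.ext
    funext i
    show (if i ∈ c then -((v : GolayPt → ℤ) i + (w : GolayPt → ℤ) i)
        else ((v : GolayPt → ℤ) i + (w : GolayPt → ℤ) i))
      = (if i ∈ c then -(v : GolayPt → ℤ) i else (v : GolayPt → ℤ) i)
        + (if i ∈ c then -(w : GolayPt → ℤ) i else (w : GolayPt → ℤ) i)
    split_ifs <;> ring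
  · unfold sqNorm
    apply Finset.sum_congr rfl
    intro i _
    show (if i ∈ c then -(v : GolayPt → ℤ) i else (v : GolayPt → ℤ) i) ^ 2 = _
    split_ifs <;> ring

/-- translation by `a` of the projective line -/
abbrev shiftBy (a : ZMod 23) : Equiv.Perm GolayPt := Equiv.optionCongr (Equiv.addRight a)

theorem shiftBy_mem (a : ZMod 23) : shiftBy a ∈ M24 := by
  have key : ∀ n : ℕ, shiftBy (n : ZMod 23) ∈ M24 := by
    intro n
    induction n with
    | zero =>
      have h : shiftBy ((0 : ℕ) : ZMod 23) = 1 := by
        apply Equiv.ext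
        intro p
        cases p <;> simp [shiftBy]
      rw [h]
      exact M24.one_mem
    | succ n ih =>
      have h : shiftBy ((n + 1 : ℕ) : ZMod 23) = shiftBy (n : ZMod 23) * Cfsg.Agent.Helper3.gShift := by
        apply Equiv.ext
        intro p
        cases p with
        | none => simp [shiftBy, Cfsg.Agent.Helper3.gShift]
        | some x =>
          simp only [shiftBy, Cfsg.Agent.Helper3.gShift, Equiv.Perm.mul_apply,
            Equiv.optionCongr_apply, Option.map_some, Equiv.coe_addRight, Nat.cast_add,
            Nat.cast_one]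
          congr 1
          ring
      rw [h]
      exact M24.mul_mem ih Cfsg.Agent.Helper3.gShift_mem_M24
  have h := key a.val
  rwa [ZMod.natCast_zmod_val] at h

/-- the code's group carries the ordered pair `(∞, 0)` to any ordered pair of distinct points -/
theorem exists_M24_pair (i j : GolayPt) (hij : i ≠ j) :
    ∃ σ ∈ M24, σ none = i ∧ σ (some 0) = j := by
  have key : ∀ τ ∈ M24, τ none = i → ∃ σ ∈ M24, σ none = i ∧ σ (some 0) = j := by
    intro τ hτ hτi
    have hne : τ.symm j ≠ none := by
      intro h
      apply hij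
      rw [← hτi, ← h]; simp
    obtain ⟨b, hb⟩ := Option.ne_none_iff_exists'.mp hne
    refine ⟨τ * shiftBy b, M24.mul_mem hτ (shiftBy_mem b), ?_, ?_⟩
    · rw [Equiv.Perm.mul_apply]
      show τ none = i
      exact hτi
    · rw [Equiv.Perm.mul_apply]
      have : shiftBy b (some 0) = some b := by simp [shiftBy]
      rw [this, ← hb]; simp
  cases i with
  | none => exact key 1 M24.one_mem rfl
  | some a =>
    refine key (shiftBy a * projInv) (M24.mul_mem (shiftBy_mem a)
      Cfsg.Agent.Helper3.projInv_mem_M24) ?_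
    rw [Equiv.Perm.mul_apply]
    have : projInv none = some 0 := rfl
    rw [this]; simp [shiftBy]

/-- an octad through one point and missing another -/
theorem exists_octad_sep (i j : GolayPt) (hij : i ≠ j) :
    ∃ o : Finset GolayPt, ofSet o ∈ golayCode ∧ o.card = 8 ∧ j ∈ o ∧ i ∉ o := by
  obtain ⟨T, hjT, hTsub, hT4⟩ := Finset.exists_subsuperset_card_eq
    (s := {j}) (t := Finset.univ.erase i) (n := 4)
    (by
      intro x hx
      rw [Finset.mem_singleton] at hx
      rw [hx]
      exact Finset.mem_erase.mpr ⟨Ne.symm hij, Finset.mem_univ _⟩)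
    (by simp)
    (by rw [Finset.card_erase_of_mem (Finset.mem_univ _), Finset.card_univ, card_pts]; norm_num)
  have hiT : i ∉ T := fun h => (Finset.mem_erase.mp (hTsub h)).1 rfl
  obtain ⟨F, hF6, hTF, hF4, hFd, hFC, hFmem, hFcov⟩ := gsextet T hT4
  obtain ⟨Si, hSiF, hiSi⟩ := hFcov i
  have hc : 0 < ((F.erase T).erase Si).card := by
    have e1 := Finset.pred_card_le_card_erase (s := F) (a := T)
    have e2 := Finset.pred_card_le_card_erase (s := F.erase T) (a := Si)
    omega
  obtain ⟨S, hS⟩ := Finset.card_pos.mp hc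
  simp only [Finset.mem_erase] at hS
  obtain ⟨hSSi, hST, hSF⟩ := hS
  have hoct := union_mem_octads hF4 hFd hFC hTF hSF (Ne.symm hST)
  rw [mem_oct] at hoct
  refine ⟨T ∪ S, hoct.1, hoct.2, Finset.mem_union_left _ (hjT (Finset.mem_singleton_self j)), ?_⟩
  rw [Finset.mem_union]
  rintro (h | h)
  · exact hiT h
  · exact Finset.disjoint_left.mp (hFd S hSF Si hSiF hSSi) h hiSi

end Cfsg.Agent.Helper28.Leech
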