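import Mathlib
import Cfsg.Prelude.Def_SporadicCombinatorics
import Cfsg.Agent.Helper12.GolayMore
import Cfsg.Agent.Helper28.Octads
import Cfsg.Agent.Helper28.SxData

/-!
Sextets of the length-24 code: existence and uniqueness of the sextet of a 4-set, the list of
the 1771 sextets, and tools for orbit computations on coded sets.
-/

set_option autoImplicit false

namespace Cfsg.Agent.Helper28.Sext

open Cfsg Cfsg.Agent.Helper12 Cfsg.Agent.Helper28.SxData
open scoped Pointwise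

/-! ## Generic tools -/

/-- a function on an initial segment that increases at each step is strictly increasing -/
theorem mono_of_chain {f : ℕ → ℕ} {n : ℕ} (h : ∀ k, k < n → f k < f (k + 1)) :
    ∀ k l, k < l → l < n + 1 → f k < f l := by
  intro k l hkl
  induction l with
  | zero => omega
  | succ l ih =>
    intro hl
    rcases Nat.lt_succ_iff_lt_or_eq.mp hkl with h1 | h1
    · exact lt_trans (ih h1 (by omega)) (h l (by omega))
    · rw [h1]; exact h l (by omega)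

/-- counting the members of a coded set -/
theorem ncard_eq_cnt {X : Type*} (dec : ℕ → X) (n : ℕ)
    (hinj : ∀ k l, k < n → l < n → dec k = dec l → k = l) (S : Set X) (f : ℕ → Bool)
    (h : ∀ s, s ∈ S ↔ ∃ k, k < n ∧ f k = true ∧ s = dec k) : S.ncard = cntB n f := by
  have hS : S = dec '' (((Finset.range n).filter (fun k => f k = true) : Finset ℕ) : Set ℕ) := by
    ext s
    rw [h s]
    simp only [Set.mem_image, Finset.coe_filter, Finset.mem_range, Set.mem_ofPred_eq]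
    constructor
    · rintro ⟨k, hk, hf, rfl⟩; exact ⟨k, ⟨hk, hf⟩, rfl⟩
    · rintro ⟨k, ⟨hk, hf⟩, rfl⟩; exact ⟨k, hk, hf, rfl⟩
  rw [hS, Set.InjOn.ncard_image, Set.ncard_coe_finset, cntB_eq]
  intro k hk l hl e
  simp only [Finset.coe_filter, Finset.mem_range, Set.mem_ofPred_eq] at hk hl
  exact hinj k l hk.1 hl.1 e

/-- The forest-certificate check for a set coded by the numbers below `n`. -/
def certI (act : ℕ → ℕ → ℕ) (ng PA TA RT RK n : ℕ) : Bool :=
  allB n (fun k => bif Nat.beq (get24 RT k) k then true else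
    (Nat.blt (get24 PA k) n && Nat.blt (get24 RK (get24 PA k)) (get24 RK k)
      && Nat.blt (get24 TA k) ng
      && Nat.beq (get24 RT (get24 PA k)) (get24 RT k)
      && Nat.beq k (act (get24 TA k) (get24 PA k))))

theorem orbit_certI {G X : Type*} [Group G] [MulAction G X] (H : Subgroup G)
    (dec : ℕ → X) (gen : ℕ → G) (act : ℕ → ℕ → ℕ) (ng : ℕ)
    (hgen : ∀ j, j < ng → gen j ∈ H) (n : ℕ)
    (hact : ∀ j, j < ng → ∀ m, m < n → gen j • dec m = dec (act j m))
    (PA TA RT RK : ℕ)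
    (hcert : certI act ng PA TA RT RK n = true) :
    ∀ k, k < n → ∃ g ∈ H, g • dec (get24 RT k) = dec k := by
  have key : ∀ r k, k < n → get24 RK k = r → ∃ g ∈ H, g • dec (get24 RT k) = dec k := by
    intro r
    induction r using Nat.strong_induction_on with
    | _ r ih =>
      intro k hk hr
      have h := allB_spec hcert k hk
      cases hb : Nat.beq (get24 RT k) k with
      | true =>
        rw [Nat.eq_of_beq_eq_true hb]
        exact ⟨1, one_mem _, one_smul _ _⟩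
      | false =>
        simp only [hb, cond_false, Bool.and_eq_true, Nat.blt_eq, Nat.beq_eq] at h
        obtain ⟨⟨⟨⟨h1, h1'⟩, h2⟩, h3⟩, h4⟩ := h
        obtain ⟨g, hg, e⟩ := ih _ (hr ▸ h1') _ h1 rfl
        refine ⟨gen (get24 TA k) * g, mul_mem (hgen _ h2) hg, ?_⟩
        rw [mul_smul, ← h3, e, hact _ h2 _ h1, ← h4]
  intro k hk
  exact key _ k hk rfl

/-- the orbit of a root of a certified forest, when the root function is invariant -/
theorem orbit_eq {G X : Type*} [Group G] [MulAction G X] (K : Subgroup G)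
    (dec : ℕ → X) (n : ℕ) (rt : ℕ → ℕ)
    (hcert : ∀ k, k < n → ∃ g ∈ K, g • dec (rt k) = dec k)
    (hsep : ∀ g ∈ K, ∀ k, k < n → ∃ l, l < n ∧ g • dec k = dec l ∧ rt l = rt k)
    (r : ℕ) (hr : r < n) (hrr : rt r = r) :
    MulAction.orbit K (dec r) = {x | ∃ k, k < n ∧ Nat.beq (rt k) r = true ∧ x = dec k} := by
  ext x
  constructor
  · rintro ⟨g, rfl⟩
    obtain ⟨l, hl, e, hrt⟩ := hsep g.1 g.2 r hr
    refine ⟨l, hl, ?_, e⟩
    rw [Nat.beq_eq, hrt, hrr]
  · rintro ⟨k, hk, hkr, rfl⟩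
    rw [Nat.beq_eq] at hkr
    obtain ⟨g, hg, e⟩ := hcert k hk
    rw [hkr] at e
    exact ⟨⟨g, hg⟩, e⟩

/-- the root function is invariant as soon as it is a function of an invariant -/
theorem sep_of_inv {G X : Type*} [Group G] [MulAction G X] (K : Subgroup G)
    (dec : ℕ → X) (n : ℕ) (U : Set X) (hU : ∀ g ∈ K, ∀ x ∈ U, g • x ∈ U)
    (hmem : ∀ k, k < n → dec k ∈ U) (hcomp : ∀ x ∈ U, ∃ k, k < n ∧ x = dec k)
    (cls : X → ℕ) (hinv : ∀ g ∈ K, ∀ x ∈ U, cls (g • x) = cls x)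
    (code : ℕ → ℕ) (hcode : ∀ k, k < n → cls (dec k) = code k)
    (rt rootOf : ℕ → ℕ) (hrt : ∀ k, k < n → rt k = rootOf (code k)) :
    ∀ g ∈ K, ∀ k, k < n → ∃ l, l < n ∧ g • dec k = dec l ∧ rt l = rt k := by
  intro g hg k hk
  obtain ⟨l, hl, e⟩ := hcomp _ (hU g hg _ (hmem k hk))
  refine ⟨l, hl, e, ?_⟩
  rw [hrt l hl, hrt k hk, ← hcode l hl, ← hcode k hk, ← e, hinv g hg _ (hmem k hk)]

/-! ## The sextet of a 4-set -/

theorem disj_of_union {t u : Finset GolayPt} (ht : t.card = 4) (hu : u.card = 4)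
    (h : (t ∪ u).card = 8) : Disjoint t u := by
  rw [Finset.disjoint_iff_inter_eq_empty, ← Finset.card_eq_zero]
  have := Finset.card_union_add_card_inter t u
  omega

theorem sextet_disj {S : Finset (Finset GolayPt)} (hS : S ∈ sextets) {t u : Finset GolayPt}
    (ht : t ∈ S) (hu : u ∈ S) (hne : t ≠ u) : Disjoint t u :=
  disj_of_union (hS.2.1 t ht) (hS.2.1 u hu) (((Octads.mem_oct _).1 (hS.2.2 t ht u hu hne)).2)

theorem sextet_eq_of {S : Finset (Finset GolayPt)} (hS : S ∈ sextets) {t : Finset GolayPt}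
    (ht : t ∈ S) {F : Finset (Finset GolayPt)} (hF6 : F.card = 6) (htF : t ∈ F)
    (hFmem : ∀ s : Finset GolayPt, s.card = 4 → Code.ofSet s + Code.ofSet t ∈ golayCode → s ∈ F) :
    S = F := by
  apply Finset.eq_of_subset_of_card_le
  · intro u hu
    by_cases hne : u = t
    · rw [hne]; exact htF
    · apply hFmem u (hS.2.1 u hu)
      have h1 := hS.2.2 u hu t ht hne
      rw [Octads.mem_oct] at h1
      rw [← Code.ofSet_union (sextet_disj hS hu ht hne)]
      exact h1.1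
  · rw [hF6, hS.1]

/-- the sextet of a 4-set -/
theorem sextet_exists (t : Finset GolayPt) (ht : t.card = 4) :
    ∃ S ∈ sextets, t ∈ S ∧ ∀ p : GolayPt, ∃ s ∈ S, p ∈ s := by
  obtain ⟨F, hF6, hTF, hF4, hFd, hFC, hFmem, hFcov⟩ := Octads.gsextet t ht
  exact ⟨F, ⟨hF6, hF4, fun s hs u hu hne => Octads.union_mem_octads hF4 hFd hFC hs hu hne⟩,
    hTF, hFcov⟩

theorem sextet_unique {S S' : Finset (Finset GolayPt)} (hS : S ∈ sextets) (hS' : S' ∈ sextets)
    {t : Finset GolayPt} (ht : t ∈ S) (ht' : t ∈ S') : S = S' := by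
  obtain ⟨F, hF6, hTF, hF4, hFd, hFC, hFmem, hFcov⟩ := Octads.gsextet t (hS.2.1 t ht)
  rw [sextet_eq_of hS ht hF6 hTF hFmem, sextet_eq_of hS' ht' hF6 hTF hFmem]

theorem sextet_cover {S : Finset (Finset GolayPt)} (hS : S ∈ sextets) (p : GolayPt) :
    ∃ t ∈ S, p ∈ t := by
  have hne : S.Nonempty := by rw [← Finset.card_pos, hS.1]; norm_num
  obtain ⟨t, ht⟩ := hne
  obtain ⟨S', hS', ht', hcov⟩ := sextet_exists t (hS.2.1 t ht)
  rw [sextet_unique hS hS' ht ht']
  exact hcov p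

theorem smul_sextet {g : Equiv.Perm GolayPt} (hg : g ∈ M24) {S : Finset (Finset GolayPt)}
    (hS : S ∈ sextets) : g • S ∈ sextets := by
  refine ⟨?_, ?_, ?_⟩
  · rw [Finset.card_smul_finset]; exact hS.1
  · intro t ht
    obtain ⟨t', ht', rfl⟩ := Finset.mem_smul_finset.1 ht
    rw [Finset.card_smul_finset]; exact hS.2.1 t' ht'
  · intro t ht u hu hne
    obtain ⟨t', ht', rfl⟩ := Finset.mem_smul_finset.1 ht
    obtain ⟨u', hu', rfl⟩ := Finset.mem_smul_finset.1 hu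
    rw [← Finset.smul_finset_union, smul_mem_octads hg]
    exact hS.2.2 t' ht' u' hu' (fun h => hne (by rw [h]))

theorem smul_sextet_iff {g : Equiv.Perm GolayPt} (hg : g ∈ M24) {S : Finset (Finset GolayPt)} :
    g • S ∈ sextets ↔ S ∈ sextets := by
  constructor
  · intro h
    have := smul_sextet (inv_mem hg) h
    rwa [inv_smul_smul] at this
  · exact smul_sextet hg

/-! ## Families of sets given by masks -/

/-- the family of the sets with masks `m 0, …, m (n-1)` -/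
def fam (n : ℕ) (m : ℕ → ℕ) : Finset (Finset GolayPt) :=
  (Finset.range n).image (fun i => ofMask (m i))

theorem mem_fam {n : ℕ} {m : ℕ → ℕ} {t : Finset GolayPt} :
    t ∈ fam n m ↔ ∃ i, i < n ∧ t = ofMask (m i) := by
  simp only [fam, Finset.mem_image, Finset.mem_range]
  constructor
  · rintro ⟨i, hi, rfl⟩; exact ⟨i, hi, rfl⟩
  · rintro ⟨i, hi, rfl⟩; exact ⟨i, hi, rfl⟩

theorem ofMask_ne_of_disj {a b : ℕ} (ha : popc a ≠ 0) (h : Nat.land a b = 0) :
    ofMask a ≠ ofMask b := by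
  intro e
  have h1 : ofMask a ∩ ofMask b = ∅ := by
    rw [← ofMask_and]
    show ofMask (Nat.land a b) = ∅
    rw [h, ofMask_zero]
  rw [← e, Finset.inter_self] at h1
  have h2 := card_ofMask a
  rw [h1, Finset.card_empty] at h2
  exact ha h2.symm

theorem disj_ofMask {a b : ℕ} (h : Nat.land a b = 0) : Disjoint (ofMask a) (ofMask b) := by
  rw [Finset.disjoint_iff_inter_eq_empty, ← ofMask_and]
  show ofMask (Nat.land a b) = ∅
  rw [h, ofMask_zero]

/-! ## The list of the sextets -/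

/-- the mask of the `i`-th tetrad of the `k`-th sextet -/
def sxm (k i : ℕ) : ℕ := get24 SXA (Nat.add (Nat.mul 6 k) i)

/-- the `k`-th sextet -/
def sx (k : ℕ) : Finset (Finset GolayPt) := fam 6 (sxm k)

theorem sxm_lt (k i : ℕ) : sxm k i < 2 ^ 24 := get24_lt _ _

def sxOK : Bool := allB 1771 (fun k => allB 6 (fun i => Nat.beq (popc (sxm k i)) 4 &&
  allB i (fun j => Nat.beq (Nat.land (sxm k i) (sxm k j)) 0 &&
    isCode (Nat.lor (sxm k i) (sxm k j)))))

theorem k_sxOK : sxOK = true := by decide +kernel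

theorem sx_popc {k : ℕ} (hk : k < 1771) {i : ℕ} (hi : i < 6) : popc (sxm k i) = 4 := by
  have h := allB_spec (allB_spec k_sxOK k hk) i hi
  rw [Bool.and_eq_true, Nat.beq_eq] at h
  exact h.1

theorem sx_pair {k : ℕ} (hk : k < 1771) {i j : ℕ} (hi : i < 6) (hj : j < i) :
    Nat.land (sxm k i) (sxm k j) = 0 ∧ isCode (Nat.lor (sxm k i) (sxm k j)) = true := by
  have h := allB_spec (allB_spec k_sxOK k hk) i hi
  rw [Bool.and_eq_true] at h
  have h2 := allB_spec h.2 j hj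
  rw [Bool.and_eq_true, Nat.beq_eq] at h2
  exact h2

theorem sx_land {k : ℕ} (hk : k < 1771) {i j : ℕ} (hi : i < 6) (hj : j < 6) (hne : i ≠ j) :
    Nat.land (sxm k i) (sxm k j) = 0 := by
  rcases Nat.lt_or_gt_of_ne hne with h | h
  · have := (sx_pair hk hj h).1
    rw [← this]; exact Nat.land_comm _ _
  · exact (sx_pair hk hi h).1

theorem sx_code {k : ℕ} (hk : k < 1771) {i j : ℕ} (hi : i < 6) (hj : j < 6) (hne : i ≠ j) :
    isCode (Nat.lor (sxm k i) (sxm k j)) = true := by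
  rcases Nat.lt_or_gt_of_ne hne with h | h
  · have := (sx_pair hk hj h).2
    rw [← this]; congr 1; exact Nat.lor_comm _ _
  · exact (sx_pair hk hi h).2

theorem sx_injOn {k : ℕ} (hk : k < 1771) :
    Set.InjOn (fun i => ofMask (sxm k i)) ((Finset.range 6 : Finset ℕ) : Set ℕ) := by
  intro i hi j hj e
  simp only [Finset.coe_range, Set.mem_Iio] at hi hj
  by_contra hne
  exact ofMask_ne_of_disj (by rw [sx_popc hk hi]; norm_num) (sx_land hk hi hj hne) e

theorem mem_sx {k i : ℕ} (hi : i < 6) : ofMask (sxm k i) ∈ sx k :=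
  mem_fam.2 ⟨i, hi, rfl⟩

theorem sx_mem {k : ℕ} (hk : k < 1771) : sx k ∈ sextets := by
  refine ⟨?_, ?_, ?_⟩
  · rw [sx, fam, Finset.card_image_of_injOn (sx_injOn hk), Finset.card_range]
  · intro t ht
    obtain ⟨i, hi, rfl⟩ := mem_fam.1 ht
    rw [card_ofMask, sx_popc hk hi]
  · intro t ht u hu hne
    obtain ⟨i, hi, rfl⟩ := mem_fam.1 ht
    obtain ⟨j, hj, rfl⟩ := mem_fam.1 hu
    have hij : i ≠ j := fun h => hne (by rw [h])
    have hlt : Nat.lor (sxm k i) (sxm k j) < 2 ^ 24 :=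
      Nat.or_lt_two_pow (sxm_lt _ _) (sxm_lt _ _)
    rw [← ofMask_lor, ofMask_mem_octads_iff hlt]
    refine ⟨sx_code hk hi hj hij, ?_⟩
    rw [← card_ofMask, ofMask_lor,
      Finset.card_union_of_disjoint (disj_ofMask (sx_land hk hi hj hij)),
      card_ofMask, card_ofMask, sx_popc hk hi, sx_popc hk hj]

def sxIdxOK : Bool := allB 2024 (fun j => bif tb (get24 T3 j) 0 then true else
  (Nat.blt (get24 IDX3 j) 1771 && Nat.beq (sxm (get24 IDX3 j) 0) (Nat.lor (get24 T3 j) 1)))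

theorem k_sxIdxOK : sxIdxOK = true := by decide +kernel

theorem ofMask_one : ofMask 1 = {pt 0} := ofMask_one_shiftLeft (by norm_num : 0 < 24)

/-- every sextet is in the list -/
theorem sx_complete {S : Finset (Finset GolayPt)} (hS : S ∈ sextets) :
    ∃ k, k < 1771 ∧ S = sx k := by
  obtain ⟨t, ht, hpt⟩ := sextet_cover hS (pt 0)
  have h3 : (t.erase (pt 0)).card = 3 := by
    rw [Finset.card_erase_of_mem hpt, hS.2.1 t ht]
  obtain ⟨j, hj, e⟩ := (card_three_iff _).1 h3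
  have hnot : tb (get24 T3 j) 0 = false := by
    rw [Bool.eq_false_iff]
    intro h
    have h1 := (pt_mem_ofMask (m := get24 T3 j) (by norm_num : 0 < 24)).2 h
    rw [← e] at h1
    exact Finset.notMem_erase _ _ h1
  have h := allB_spec k_sxIdxOK j hj
  rw [hnot, cond_false, Bool.and_eq_true, Nat.blt_eq, Nat.beq_eq] at h
  have ht' : t = ofMask (sxm (get24 IDX3 j) 0) := by
    rw [h.2, ofMask_lor, ← e, ofMask_one, Finset.union_comm, ← Finset.insert_eq,
      Finset.insert_erase hpt]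
  refine ⟨get24 IDX3 j, h.1, sextet_unique hS (sx_mem h.1) ht ?_⟩
  rw [ht']; exact mem_sx (by norm_num)

def sxMonoOK : Bool := allB 1770 (fun k => Nat.blt (sxm k 0) (sxm (Nat.succ k) 0)) &&
  allB 1771 (fun k => tb (sxm k 0) 0)

theorem k_sxMonoOK : sxMonoOK = true := by decide +kernel

theorem sx_mono : ∀ k l, k < l → l < 1771 → sxm k 0 < sxm l 0 := by
  have h := k_sxMonoOK
  rw [sxMonoOK, Bool.and_eq_true] at h
  exact mono_of_chain (f := fun k => sxm k 0) (n := 1770) (fun k hk => by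
    have := allB_spec h.1 k hk
    rw [Nat.blt_eq] at this
    exact this)

theorem sx_pt0 {k : ℕ} (hk : k < 1771) : pt 0 ∈ ofMask (sxm k 0) := by
  have h := k_sxMonoOK
  rw [sxMonoOK, Bool.and_eq_true] at h
  exact (pt_mem_ofMask (by norm_num : 0 < 24)).2 (allB_spec h.2 k hk)

theorem sx_inj : ∀ k l, k < 1771 → l < 1771 → sx k = sx l → k = l := by
  intro k l hk hl e
  have h1 : ofMask (sxm k 0) ∈ sx l := by rw [← e]; exact mem_sx (by norm_num)
  obtain ⟨i, hi, e1⟩ := mem_fam.1 h1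
  have hi0 : i = 0 := by
    by_contra hne
    have hd := disj_ofMask (sx_land hl hi (by norm_num : 0 < 6) hne)
    have h2 : pt 0 ∈ ofMask (sxm l i) := by rw [← e1]; exact sx_pt0 hk
    exact Finset.disjoint_left.1 hd h2 (sx_pt0 hl)
  rw [hi0] at e1
  have h3 := ofMask_inj (sxm_lt _ _) (sxm_lt _ _) e1
  by_contra hne
  rcases Nat.lt_or_gt_of_ne hne with h | h
  · have := sx_mono k l h hl; omega
  · have := sx_mono l k h hk; omega

theorem mem_sextets_iff (S : Finset (Finset GolayPt)) :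
    S ∈ sextets ↔ ∃ k, k < 1771 ∧ S = sx k := by
  constructor
  · exact sx_complete
  · rintro ⟨k, hk, rfl⟩; exact sx_mem hk

theorem cnt_true (n : ℕ) : cntB n (fun _ => true) = n := by
  rw [cntB_eq]; simp

theorem ncard_sextets : sextets.ncard = 1771 := by
  rw [ncard_eq_cnt sx 1771 sx_inj sextets (fun _ => true), cnt_true]
  intro S
  rw [mem_sextets_iff]
  constructor
  · rintro ⟨k, hk, rfl⟩; exact ⟨k, hk, rfl, rfl⟩
  · rintro ⟨k, hk, -, rfl⟩; exact ⟨k, hk, rfl⟩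

/-! ## The action of generators on the list of sextets -/

/-- the action on the numbers of the sextets, read from a table -/
def sxAct (IM j k : ℕ) : ℕ := get24 IM (Nat.add (Nat.mul 1771 j) k)

def sxImgOK (GS IM ng : ℕ) : Bool := allB ng (fun j => allB 1771 (fun k =>
  Nat.blt (sxAct IM j k) 1771 &&
  anyB 6 (fun i => Nat.beq (sxm (sxAct IM j k) i) (sysAct GS j (sxm k 0)))))

theorem sx_smul (GS QS ng : ℕ) (h : sysOK GS QS ng = true) (hm : sysM24 GS ng = true) (IM : ℕ)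
    (hIM : sxImgOK GS IM ng = true) {j : ℕ} (hj : j < ng) {k : ℕ} (hk : k < 1771) :
    genOf GS QS ng h j • sx k = sx (sxAct IM j k) ∧ sxAct IM j k < 1771 := by
  have h1 := allB_spec (allB_spec hIM j hj) k hk
  rw [Bool.and_eq_true, Nat.blt_eq, anyB_iff] at h1
  obtain ⟨hlt, i, hi, hi'⟩ := h1
  rw [Nat.beq_eq] at hi'
  refine ⟨?_, hlt⟩
  apply sextet_unique (smul_sextet (genOf_mem_M24 GS QS ng h hm j) (sx_mem hk)) (sx_mem hlt)
    (t := ofMask (sysAct GS j (sxm k 0)))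
  · have := genOf_smul_ofMask GS QS ng h hj (sxm k 0)
    rw [show sysAct GS j (sxm k 0) = permMask (sub GS j) (sxm k 0) from rfl, ← this]
    exact Finset.smul_mem_smul_finset (mem_sx (by norm_num))
  · rw [← hi']; exact mem_sx hi

/-- a generator fixing the first tetrad's sextet -/
theorem sx_fix (GS QS ng : ℕ) (h : sysOK GS QS ng = true) (hm : sysM24 GS ng = true) (k0 : ℕ)
    (hk0 : k0 < 1771)
    (hfix : allB ng (fun j => anyB 6 (fun i => Nat.beq (sxm k0 i) (sysAct GS j (sxm k0 0)))) = true)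
    (j : ℕ) : genOf GS QS ng h j • sx k0 = sx k0 := by
  by_cases hj : j < ng
  · have h1 := allB_spec hfix j hj
    rw [anyB_iff] at h1
    obtain ⟨i, hi, hi'⟩ := h1
    rw [Nat.beq_eq] at hi'
    apply sextet_unique (smul_sextet (genOf_mem_M24 GS QS ng h hm j) (sx_mem hk0)) (sx_mem hk0)
      (t := ofMask (sysAct GS j (sxm k0 0)))
    · have := genOf_smul_ofMask GS QS ng h hj (sxm k0 0)
      rw [show sysAct GS j (sxm k0 0) = permMask (sub GS j) (sxm k0 0) from rfl, ← this]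
      exact Finset.smul_mem_smul_finset (mem_sx (by norm_num))
    · rw [← hi']; exact mem_sx hi
  · rw [genOf, dif_neg hj, one_smul]

/-! ## The action of generators on the list of octads -/

def ocAct (IM j k : ℕ) : ℕ := get24 IM (Nat.add (Nat.mul 759 j) k)

def ocImgOK (GS IM ng : ℕ) : Bool := allB ng (fun j => allB 759 (fun k =>
  Nat.blt (ocAct IM j k) 759 && Nat.beq (get24 OA (ocAct IM j k)) (sysAct GS j (get24 OA k))))

/-- the `k`-th octad -/
def oc (k : ℕ) : Finset GolayPt := ofMask (get24 OA k)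

theorem oc_smul (GS QS ng : ℕ) (h : sysOK GS QS ng = true) (IM : ℕ)
    (hIM : ocImgOK GS IM ng = true) {j : ℕ} (hj : j < ng) {k : ℕ} (hk : k < 759) :
    genOf GS QS ng h j • oc k = oc (ocAct IM j k) ∧ ocAct IM j k < 759 := by
  have h1 := allB_spec (allB_spec hIM j hj) k hk
  rw [Bool.and_eq_true, Nat.blt_eq, Nat.beq_eq] at h1
  refine ⟨?_, h1.1⟩
  rw [oc, oc, genOf_smul_ofMask GS QS ng h hj, h1.2]
  rfl

theorem oc_inj : ∀ k l, k < 759 → l < 759 → oc k = oc l → k = l := by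
  intro k l hk hl e
  have h3 := ofMask_inj (get24_lt _ _) (get24_lt _ _) e
  by_contra hne
  rcases Nat.lt_or_gt_of_ne hne with h | h
  · have := OA_strictMono k l h hl; omega
  · have := OA_strictMono l k h hk; omega

/-! ## Invariants -/

/-- an invariant of a pair of families of sets -/
def inv2 (w w' : ℕ → ℕ) (A B : Finset (Finset GolayPt)) : ℕ :=
  ∑ a ∈ A, w' (∑ b ∈ B, w ((a ∩ b).card))

theorem inv2_smul (g : Equiv.Perm GolayPt) (w w' : ℕ → ℕ) (A B : Finset (Finset GolayPt)) :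
    inv2 w w' (g • A) (g • B) = inv2 w w' A B := by
  unfold inv2
  rw [show g • A = A.image (fun a => g • a) from rfl,
    Finset.sum_image (fun x _ y _ h => MulAction.injective g h)]
  apply Finset.sum_congr rfl
  intro a _
  congr 1
  rw [show g • B = B.image (fun b => g • b) from rfl,
    Finset.sum_image (fun x _ y _ h => MulAction.injective g h)]
  apply Finset.sum_congr rfl
  intro b _
  rw [← Finset.smul_finset_inter, Finset.card_smul_finset]

theorem inv2_left {g : Equiv.Perm GolayPt} {B : Finset (Finset GolayPt)} (hB : g • B = B)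
    (w w' : ℕ → ℕ) (A : Finset (Finset GolayPt)) : inv2 w w' (g • A) B = inv2 w w' A B := by
  conv_lhs => rw [← hB]
  exact inv2_smul g w w' A B

theorem inv2_right {g : Equiv.Perm GolayPt} {A : Finset (Finset GolayPt)} (hA : g • A = A)
    (w w' : ℕ → ℕ) (B : Finset (Finset GolayPt)) : inv2 w w' A (g • B) = inv2 w w' A B := by
  conv_lhs => rw [← hA]
  exact inv2_smul g w w' A B

/-- a sum, as a raw recursor -/
def sumB (n : ℕ) (f : ℕ → ℕ) : ℕ :=
  Nat.rec (motive := fun _ => ℕ) 0 (fun k ih => Nat.add ih (f k)) n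

theorem sumB_eq (n : ℕ) (f : ℕ → ℕ) : sumB n f = ∑ k ∈ Finset.range n, f k := by
  induction n with
  | zero => rfl
  | succ n ih => rw [Finset.sum_range_succ, ← ih]; rfl

/-- the invariant of two families given by masks -/
def inv2c (w w' : ℕ → ℕ) (n1 : ℕ) (m1 : ℕ → ℕ) (n2 : ℕ) (m2 : ℕ → ℕ) : ℕ :=
  sumB n1 (fun i => w' (sumB n2 (fun j => w (popc (Nat.land (m1 i) (m2 j))))))

theorem inv2_fam (w w' : ℕ → ℕ) {n1 : ℕ} {m1 : ℕ → ℕ} {n2 : ℕ} {m2 : ℕ → ℕ}
    (h1 : Set.InjOn (fun i => ofMask (m1 i)) ((Finset.range n1 : Finset ℕ) : Set ℕ))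
    (h2 : Set.InjOn (fun i => ofMask (m2 i)) ((Finset.range n2 : Finset ℕ) : Set ℕ)) :
    inv2 w w' (fam n1 m1) (fam n2 m2) = inv2c w w' n1 m1 n2 m2 := by
  unfold inv2 inv2c fam
  rw [Finset.sum_image h1, sumB_eq]
  apply Finset.sum_congr rfl
  intro i _
  rw [Finset.sum_image h2, sumB_eq]
  congr 1
  apply Finset.sum_congr rfl
  intro j _
  rw [card_inter_ofMask]

theorem fam_one (m : ℕ) : fam 1 (fun _ => m) = {ofMask m} := by
  ext t
  rw [mem_fam, Finset.mem_singleton]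
  constructor
  · rintro ⟨i, -, rfl⟩; rfl
  · rintro rfl; exact ⟨0, by norm_num, rfl⟩

theorem injOn_one (m : ℕ) :
    Set.InjOn (fun _ : ℕ => ofMask m) ((Finset.range 1 : Finset ℕ) : Set ℕ) := by
  intro i hi j hj _
  simp only [Finset.coe_range, Set.mem_Iio] at hi hj
  omega

/-! ## Orbit decompositions -/

theorem three_orbits {G X : Type*} [Group G] [MulAction G X] (K : Subgroup G)
    (dec : ℕ → X) (n : ℕ) (U : Set X)
    (hmem : ∀ k, k < n → dec k ∈ U) (hcomp : ∀ x ∈ U, ∃ k, k < n ∧ x = dec k)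
    (hinj : ∀ k l, k < n → l < n → dec k = dec l → k = l)
    (rt : ℕ → ℕ)
    (hcert : ∀ k, k < n → ∃ g ∈ K, g • dec (rt k) = dec k)
    (hsep : ∀ g ∈ K, ∀ k, k < n → ∃ l, l < n ∧ g • dec k = dec l ∧ rt l = rt k)
    (r1 r2 r3 n1 n2 n3 : ℕ) (h1 : r1 < n) (h2 : r2 < n) (h3 : r3 < n)
    (hr1 : rt r1 = r1) (hr2 : rt r2 = r2) (hr3 : rt r3 = r3)
    (c1 : cntB n (fun k => Nat.beq (rt k) r1) = n1)
    (c2 : cntB n (fun k => Nat.beq (rt k) r2) = n2)
    (c3 : cntB n (fun k => Nat.beq (rt k) r3) = n3)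
    (hall : ∀ k, k < n → rt k = r1 ∨ rt k = r2 ∨ rt k = r3) :
    ∃ X₁ ∈ U, ∃ X₂ ∈ U, ∃ X₃ ∈ U, (MulAction.orbit K X₁).ncard = n1 ∧
      (MulAction.orbit K X₂).ncard = n2 ∧ (MulAction.orbit K X₃).ncard = n3 ∧
      U = MulAction.orbit K X₁ ∪ MulAction.orbit K X₂ ∪ MulAction.orbit K X₃ := by
  have e1 := orbit_eq K dec n rt hcert hsep r1 h1 hr1
  have e2 := orbit_eq K dec n rt hcert hsep r2 h2 hr2
  have e3 := orbit_eq K dec n rt hcert hsep r3 h3 hr3
  refine ⟨dec r1, hmem r1 h1, dec r2, hmem r2 h2, dec r3, hmem r3 h3, ?_, ?_, ?_, ?_⟩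
  · rw [e1, ← c1]; exact ncard_eq_cnt dec n hinj _ _ (fun s => Iff.rfl)
  · rw [e2, ← c2]; exact ncard_eq_cnt dec n hinj _ _ (fun s => Iff.rfl)
  · rw [e3, ← c3]; exact ncard_eq_cnt dec n hinj _ _ (fun s => Iff.rfl)
  · rw [e1, e2, e3]
    ext x
    constructor
    · intro hx
      obtain ⟨k, hk, rfl⟩ := hcomp x hx
      rcases hall k hk with h | h | h
      · exact Or.inl (Or.inl ⟨k, hk, by rw [Nat.beq_eq]; exact h, rfl⟩)
      · exact Or.inl (Or.inr ⟨k, hk, by rw [Nat.beq_eq]; exact h, rfl⟩)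
      · exact Or.inr ⟨k, hk, by rw [Nat.beq_eq]; exact h, rfl⟩
    · rintro ((⟨k, hk, -, rfl⟩ | ⟨k, hk, -, rfl⟩) | ⟨k, hk, -, rfl⟩) <;> exact hmem k hk

theorem four_orbits {G X : Type*} [Group G] [MulAction G X] (K : Subgroup G)
    (dec : ℕ → X) (n : ℕ) (U : Set X)
    (hmem : ∀ k, k < n → dec k ∈ U) (hcomp : ∀ x ∈ U, ∃ k, k < n ∧ x = dec k)
    (hinj : ∀ k l, k < n → l < n → dec k = dec l → k = l)
    (rt : ℕ → ℕ)
    (hcert : ∀ k, k < n → ∃ g ∈ K, g • dec (rt k) = dec k)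
    (hsep : ∀ g ∈ K, ∀ k, k < n → ∃ l, l < n ∧ g • dec k = dec l ∧ rt l = rt k)
    (r1 r2 r3 r4 n1 n2 n3 n4 : ℕ) (h1 : r1 < n) (h2 : r2 < n) (h3 : r3 < n) (h4 : r4 < n)
    (hr1 : rt r1 = r1) (hr2 : rt r2 = r2) (hr3 : rt r3 = r3) (hr4 : rt r4 = r4)
    (c1 : cntB n (fun k => Nat.beq (rt k) r1) = n1)
    (c2 : cntB n (fun k => Nat.beq (rt k) r2) = n2)
    (c3 : cntB n (fun k => Nat.beq (rt k) r3) = n3)
    (c4 : cntB n (fun k => Nat.beq (rt k) r4) = n4)
    (hall : ∀ k, k < n → rt k = r1 ∨ rt k = r2 ∨ rt k = r3 ∨ rt k = r4) :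
    ∃ X₁ ∈ U, ∃ X₂ ∈ U, ∃ X₃ ∈ U, ∃ X₄ ∈ U, (MulAction.orbit K X₁).ncard = n1 ∧
      (MulAction.orbit K X₂).ncard = n2 ∧ (MulAction.orbit K X₃).ncard = n3 ∧
      (MulAction.orbit K X₄).ncard = n4 ∧
      U = MulAction.orbit K X₁ ∪ MulAction.orbit K X₂ ∪ MulAction.orbit K X₃ ∪
        MulAction.orbit K X₄ := by
  have e1 := orbit_eq K dec n rt hcert hsep r1 h1 hr1
  have e2 := orbit_eq K dec n rt hcert hsep r2 h2 hr2
  have e3 := orbit_eq K dec n rt hcert hsep r3 h3 hr3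
  have e4 := orbit_eq K dec n rt hcert hsep r4 h4 hr4
  refine ⟨dec r1, hmem r1 h1, dec r2, hmem r2 h2, dec r3, hmem r3 h3, dec r4, hmem r4 h4,
    ?_, ?_, ?_, ?_, ?_⟩
  · rw [e1, ← c1]; exact ncard_eq_cnt dec n hinj _ _ (fun s => Iff.rfl)
  · rw [e2, ← c2]; exact ncard_eq_cnt dec n hinj _ _ (fun s => Iff.rfl)
  · rw [e3, ← c3]; exact ncard_eq_cnt dec n hinj _ _ (fun s => Iff.rfl)
  · rw [e4, ← c4]; exact ncard_eq_cnt dec n hinj _ _ (fun s => Iff.rfl)
  · rw [e1, e2, e3, e4]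
    ext x
    constructor
    · intro hx
      obtain ⟨k, hk, rfl⟩ := hcomp x hx
      rcases hall k hk with h | h | h | h
      · exact Or.inl (Or.inl (Or.inl ⟨k, hk, by rw [Nat.beq_eq]; exact h, rfl⟩))
      · exact Or.inl (Or.inl (Or.inr ⟨k, hk, by rw [Nat.beq_eq]; exact h, rfl⟩))
      · exact Or.inl (Or.inr ⟨k, hk, by rw [Nat.beq_eq]; exact h, rfl⟩)
      · exact Or.inr ⟨k, hk, by rw [Nat.beq_eq]; exact h, rfl⟩
    · rintro (((⟨k, hk, -, rfl⟩ | ⟨k, hk, -, rfl⟩) | ⟨k, hk, -, rfl⟩) | ⟨k, hk, -, rfl⟩) <;>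
        exact hmem k hk

/-! ## Transport along the group -/

theorem orbit_conj {G A B : Type*} [Group G] [MulAction G A] [MulAction G B] (g : G) (a : A)
    (b : B) :
    MulAction.orbit ↥(MulAction.stabilizer G (g • a)) (g • b) =
      (fun x => g • x) '' MulAction.orbit ↥(MulAction.stabilizer G a) b := by
  ext x
  constructor
  · rintro ⟨h, rfl⟩
    have hh : (h : G) • g • a = g • a := h.2
    refine ⟨(g⁻¹ * (h : G) * g) • b, ⟨⟨g⁻¹ * (h : G) * g, ?_⟩, rfl⟩, ?_⟩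
    · show (g⁻¹ * (h : G) * g) • a = a
      rw [mul_smul, mul_smul, hh, inv_smul_smul]
    · show g • (g⁻¹ * (h : G) * g) • b = (h : G) • g • b
      rw [mul_smul, mul_smul, smul_inv_smul]
  · rintro ⟨y, ⟨h, rfl⟩, rfl⟩
    have hh : (h : G) • a = a := h.2
    refine ⟨⟨g * (h : G) * g⁻¹, ?_⟩, ?_⟩
    · show (g * (h : G) * g⁻¹) • g • a = g • a
      rw [mul_smul, mul_smul, inv_smul_smul, hh]
    · show (g * (h : G) * g⁻¹) • g • b = g • (h : G) • b
      rw [mul_smul, mul_smul, inv_smul_smul]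

theorem ncard_orbit_conj {G A B : Type*} [Group G] [MulAction G A] [MulAction G B] (g : G)
    (a : A) (b : B) :
    (MulAction.orbit ↥(MulAction.stabilizer G (g • a)) (g • b)).ncard =
      (MulAction.orbit ↥(MulAction.stabilizer G a) b).ncard := by
  rw [orbit_conj, Set.ncard_image_of_injective _ (MulAction.injective g)]

theorem transport3 {G A B : Type*} [Group G] [MulAction G A] [MulAction G B] (U : Set B)
    (hU : ∀ (g : G) (b : B), b ∈ U → g • b ∈ U) (a : A) (g : G) (n1 n2 n3 : ℕ)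
    (h : ∃ X₁ ∈ U, ∃ X₂ ∈ U, ∃ X₃ ∈ U,
      (MulAction.orbit ↥(MulAction.stabilizer G a) X₁).ncard = n1 ∧
      (MulAction.orbit ↥(MulAction.stabilizer G a) X₂).ncard = n2 ∧
      (MulAction.orbit ↥(MulAction.stabilizer G a) X₃).ncard = n3 ∧
      U = MulAction.orbit ↥(MulAction.stabilizer G a) X₁ ∪
        MulAction.orbit ↥(MulAction.stabilizer G a) X₂ ∪
        MulAction.orbit ↥(MulAction.stabilizer G a) X₃) :
    ∃ X₁ ∈ U, ∃ X₂ ∈ U, ∃ X₃ ∈ U,
      (MulAction.orbit ↥(MulAction.stabilizer G (g • a)) X₁).ncard = n1 ∧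
      (MulAction.orbit ↥(MulAction.stabilizer G (g • a)) X₂).ncard = n2 ∧
      (MulAction.orbit ↥(MulAction.stabilizer G (g • a)) X₃).ncard = n3 ∧
      U = MulAction.orbit ↥(MulAction.stabilizer G (g • a)) X₁ ∪
        MulAction.orbit ↥(MulAction.stabilizer G (g • a)) X₂ ∪
        MulAction.orbit ↥(MulAction.stabilizer G (g • a)) X₃ := by
  obtain ⟨X₁, hX₁, X₂, hX₂, X₃, hX₃, c1, c2, c3, hun⟩ := h
  refine ⟨g • X₁, hU g _ hX₁, g • X₂, hU g _ hX₂, g • X₃, hU g _ hX₃, ?_, ?_, ?_, ?_⟩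
  · rw [ncard_orbit_conj, c1]
  · rw [ncard_orbit_conj, c2]
  · rw [ncard_orbit_conj, c3]
  · rw [orbit_conj, orbit_conj, orbit_conj, ← Set.image_union, ← Set.image_union, ← hun]
    ext x
    constructor
    · intro hx
      exact ⟨g⁻¹ • x, hU g⁻¹ _ hx, smul_inv_smul g x⟩
    · rintro ⟨y, hy, rfl⟩
      exact hU g _ hy

theorem transport4 {G A B : Type*} [Group G] [MulAction G A] [MulAction G B] (U : Set B)
    (hU : ∀ (g : G) (b : B), b ∈ U → g • b ∈ U) (a : A) (g : G) (n1 n2 n3 n4 : ℕ)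
    (h : ∃ X₁ ∈ U, ∃ X₂ ∈ U, ∃ X₃ ∈ U, ∃ X₄ ∈ U,
      (MulAction.orbit ↥(MulAction.stabilizer G a) X₁).ncard = n1 ∧
      (MulAction.orbit ↥(MulAction.stabilizer G a) X₂).ncard = n2 ∧
      (MulAction.orbit ↥(MulAction.stabilizer G a) X₃).ncard = n3 ∧
      (MulAction.orbit ↥(MulAction.stabilizer G a) X₄).ncard = n4 ∧
      U = MulAction.orbit ↥(MulAction.stabilizer G a) X₁ ∪
        MulAction.orbit ↥(MulAction.stabilizer G a) X₂ ∪
        MulAction.orbit ↥(MulAction.stabilizer G a) X₃ ∪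
        MulAction.orbit ↥(MulAction.stabilizer G a) X₄) :
    ∃ X₁ ∈ U, ∃ X₂ ∈ U, ∃ X₃ ∈ U, ∃ X₄ ∈ U,
      (MulAction.orbit ↥(MulAction.stabilizer G (g • a)) X₁).ncard = n1 ∧
      (MulAction.orbit ↥(MulAction.stabilizer G (g • a)) X₂).ncard = n2 ∧
      (MulAction.orbit ↥(MulAction.stabilizer G (g • a)) X₃).ncard = n3 ∧
      (MulAction.orbit ↥(MulAction.stabilizer G (g • a)) X₄).ncard = n4 ∧
      U = MulAction.orbit ↥(MulAction.stabilizer G (g • a)) X₁ ∪
        MulAction.orbit ↥(MulAction.stabilizer G (g • a)) X₂ ∪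
        MulAction.orbit ↥(MulAction.stabilizer G (g • a)) X₃ ∪
        MulAction.orbit ↥(MulAction.stabilizer G (g • a)) X₄ := by
  obtain ⟨X₁, hX₁, X₂, hX₂, X₃, hX₃, X₄, hX₄, c1, c2, c3, c4, hun⟩ := h
  refine ⟨g • X₁, hU g _ hX₁, g • X₂, hU g _ hX₂, g • X₃, hU g _ hX₃, g • X₄, hU g _ hX₄,
    ?_, ?_, ?_, ?_, ?_⟩
  · rw [ncard_orbit_conj, c1]
  · rw [ncard_orbit_conj, c2]
  · rw [ncard_orbit_conj, c3]
  · rw [ncard_orbit_conj, c4]
  · rw [orbit_conj, orbit_conj, orbit_conj, orbit_conj, ← Set.image_union, ← Set.image_union,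
      ← Set.image_union, ← hun]
    ext x
    constructor
    · intro hx
      exact ⟨g⁻¹ • x, hU g⁻¹ _ hx, smul_inv_smul g x⟩
    · rintro ⟨y, hy, rfl⟩
      exact hU g _ hy

end Cfsg.Agent.Helper28.Sext
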