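import Mathlib
import Cfsg.Prelude.Def_Sporadic_a
import Cfsg.Agent.Helper3.M24Trans
import Cfsg.Agent.Helper3.M12Core

/-!
The group of the length-24 code on six points: the pointwise stabilizer of five points has two
orbits on the remaining points (3 + 16); every permutation of a 6-set is induced.
-/

set_option autoImplicit false

namespace Cfsg.Agent.Helper28.SixPts

open Cfsg Cfsg.Agent.Helper3
open scoped Pointwise

/-- pointwise stabilizer of the five base points -/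
abbrev G5 : Subgroup (Equiv.Perm GolayPt) := fixN M24 [23, 0, 1, 2, 3]

/-- pointwise stabilizer of six base points -/
abbrev G6 : Subgroup (Equiv.Perm GolayPt) := fixN M24 [23, 0, 1, 2, 3, 5]

theorem G6_le : G6 ≤ G5 := fun g hg =>
  ⟨hg.1, fun f hf => hg.2 f (by
    simp only [List.mem_cons, List.not_mem_nil, or_false] at hf ⊢; tauto)⟩

theorem lower5 : ∀ s ∈ ptSet orb5, ∃ g ∈ G5, g (pt 5) = s := lvl_lower sound_M24 _ _ _ lvl5

theorem lower6 : ∀ s ∈ ptSet orb6, ∃ g ∈ G6, g (pt 4) = s := lvl_lower sound_M24 _ _ _ lvl6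

/-- one of the five base points -/
def IsBase (p : GolayPt) : Prop := ∃ f ∈ [23, 0, 1, 2, 3], p = pt f

instance (p : GolayPt) : Decidable (IsBase p) := by unfold IsBase; infer_instance

theorem trich : ∀ p : GolayPt, (IsBase p ∧ p ∉ ptSet orb5 ∧ p ∉ ptSet orb6) ∨
    (¬ IsBase p ∧ p ∈ ptSet orb5 ∧ p ∉ ptSet orb6) ∨
    (¬ IsBase p ∧ p ∉ ptSet orb5 ∧ p ∈ ptSet orb6) := by decide +kernel

theorem fix_base {g : Equiv.Perm GolayPt} (hg : g ∈ G5) {p : GolayPt} (hp : IsBase p) :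
    g p = p := by
  obtain ⟨f, hf, rfl⟩ := hp; exact hg.2 f hf

theorem orb5_closed {g : Equiv.Perm GolayPt} (hg : g ∈ G5) {b : GolayPt}
    (hb : b ∈ ptSet orb5) : g b ∈ ptSet orb5 := by
  obtain ⟨g1, hg1, rfl⟩ := lower5 b hb
  exact up5 (g * g1) (G5.mul_mem hg hg1)

theorem orb6_closed {g : Equiv.Perm GolayPt} (hg : g ∈ G5) {b : GolayPt}
    (hb : b ∈ ptSet orb6) : g b ∈ ptSet orb6 := by
  rcases trich (g b) with ⟨h1, -, -⟩ | ⟨-, h2, -⟩ | ⟨-, -, h3⟩
  · exfalso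
    have h : g⁻¹ (g b) = g b := fix_base (G5.inv_mem hg) h1
    have h0 : g⁻¹ (g b) = b := by simp
    rw [h0] at h
    rw [← h] at h1
    rcases trich b with ⟨-, -, h'⟩ | ⟨-, -, h'⟩ | ⟨h', -, -⟩
    · exact h' hb
    · exact h' hb
    · exact h' h1
  · exfalso
    have h := orb5_closed (G5.inv_mem hg) h2
    have h0 : g⁻¹ (g b) = b := by simp
    rw [h0] at h
    rcases trich b with ⟨-, h', -⟩ | ⟨-, -, h'⟩ | ⟨-, h', -⟩
    · exact h' h
    · exact h' hb
    · exact h' h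
  · exact h3

theorem trans5 {b b' : GolayPt} (hb : b ∈ ptSet orb5) (hb' : b' ∈ ptSet orb5) :
    ∃ h ∈ G5, h b = b' := by
  obtain ⟨g1, hg1, rfl⟩ := lower5 b hb
  obtain ⟨g2, hg2, rfl⟩ := lower5 b' hb'
  exact ⟨g2 * g1⁻¹, G5.mul_mem hg2 (G5.inv_mem hg1), by simp⟩

theorem trans6 {b b' : GolayPt} (hb : b ∈ ptSet orb6) (hb' : b' ∈ ptSet orb6) :
    ∃ h ∈ G5, h b = b' := by
  obtain ⟨g1, hg1, rfl⟩ := lower6 b hb
  obtain ⟨g2, hg2, rfl⟩ := lower6 b' hb'
  exact ⟨g2 * g1⁻¹, G5.mul_mem (G6_le hg2) (G5.inv_mem (G6_le hg1)), by simp⟩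

theorem card_G6 : Nat.card G6 = 16 := by
  have h1 := fixN_card_le M24 [23, 0, 1, 2, 3, 5] 4 (ptSet orb6) up6
  have h2 := fixN_card_ge M24 [23, 0, 1, 2, 3, 5] 4 (ptSet orb6) lower6
  have h3 : Nat.card (fixN M24 ([23, 0, 1, 2, 3, 5] ++ [4])) = 1 := fix7_card
  rw [h3, card_orb6] at h1 h2
  show Nat.card (fixN M24 [23, 0, 1, 2, 3, 5]) = 16
  omega

theorem card_G5 : Nat.card G5 = 48 := by
  have h1 := fixN_card_le M24 [23, 0, 1, 2, 3] 5 (ptSet orb5) up5
  have h2 := fixN_card_ge M24 [23, 0, 1, 2, 3] 5 (ptSet orb5) lower5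
  have h3 : Nat.card (fixN M24 ([23, 0, 1, 2, 3] ++ [5])) = 16 := card_G6
  rw [h3, card_orb5] at h1 h2
  show Nat.card (fixN M24 [23, 0, 1, 2, 3]) = 48
  omega

theorem card_stab5 {b : GolayPt} (hb : b ∈ ptSet orb5) :
    Nat.card ↥(G5 ⊓ MulAction.stabilizer (Equiv.Perm GolayPt) b) = 16 := by
  have h := card_eq_orbit_mul G5 b
  have horb : MulAction.orbit G5 b = (ptSet orb5 : Set GolayPt) := by
    ext q
    constructor
    · rintro ⟨g, rfl⟩; exact orb5_closed g.2 hb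
    · intro hq
      obtain ⟨h, hh, rfl⟩ := trans5 hb hq
      exact ⟨⟨h, hh⟩, rfl⟩
  rw [horb, Set.ncard_coe_finset, card_orb5, card_G5] at h
  omega

theorem card_stab6 {b : GolayPt} (hb : b ∈ ptSet orb6) :
    Nat.card ↥(G5 ⊓ MulAction.stabilizer (Equiv.Perm GolayPt) b) = 3 := by
  have h := card_eq_orbit_mul G5 b
  have horb : MulAction.orbit G5 b = (ptSet orb6 : Set GolayPt) := by
    ext q
    constructor
    · rintro ⟨g, rfl⟩; exact orb6_closed g.2 hb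
    · intro hq
      obtain ⟨h, hh, rfl⟩ := trans6 hb hq
      exact ⟨⟨h, hh⟩, rfl⟩
  rw [horb, Set.ncard_coe_finset, card_orb6, card_G5] at h
  omega

theorem base5_isBase : ∀ i : Fin 5, IsBase (base5 i) := by decide +kernel

theorem isBase_iff : ∀ p : GolayPt, IsBase p ↔ ∃ i, p = base5 i := by decide +kernel

theorem base5_mem_oStd : ∀ i : Fin 5, base5 i ∈ oStd := by decide +kernel

theorem orb5_sub_oStd : ∀ p ∈ ptSet orb5, p ∈ oStd := by decide +kernel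

theorem oStd_cases : ∀ p ∈ oStd, IsBase p ∨ p ∈ ptSet orb5 := by decide +kernel

theorem base5_inj : Function.Injective base5 := by decide +kernel

theorem exists_frame {E : Finset GolayPt} (hE : E.card = 6) :
    ∃ (x : Fin 5 ↪ GolayPt) (a : GolayPt), (∀ i, x i ∈ E) ∧ a ∈ E ∧
      (∀ p ∈ E, p = a ∨ ∃ i, p = x i) ∧ (∀ i, x i ≠ a) := by
  have hne : E.Nonempty := by rw [← Finset.card_pos]; omega
  obtain ⟨a, ha⟩ := hne
  have h5 : (E.erase a).card = 5 := by rw [Finset.card_erase_of_mem ha, hE]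
  let e := Finset.equivFinOfCardEq h5
  refine ⟨⟨fun i => (e.symm i : GolayPt), fun i j hij => e.symm.injective (Subtype.ext hij)⟩,
    a, ?_, ha, ?_, ?_⟩
  · intro i; exact Finset.mem_of_mem_erase (e.symm i).2
  · intro p hp
    by_cases hpa : p = a
    · exact Or.inl hpa
    · right
      refine ⟨e ⟨p, Finset.mem_erase.mpr ⟨hpa, hp⟩⟩, ?_⟩
      show p = ((e.symm (e ⟨p, _⟩) : E.erase a) : GolayPt)
      rw [Equiv.symm_apply_apply]
  · intro i; exact Finset.ne_of_mem_erase (e.symm i).2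

/-- the sixth point, moved to standard position, is in the octad of the five base points iff
the six points lie in an octad -/
theorem octad_iff {E : Finset GolayPt} {x : Fin 5 ↪ GolayPt} {a : GolayPt}
    (ha : a ∈ E) (hcover : ∀ p ∈ E, p = a ∨ ∃ i, p = x i)
    (hx : ∀ i, x i ∈ E) (hne : ∀ i, x i ≠ a)
    {g : Equiv.Perm GolayPt} (hg : g ∈ M24) (hgx : ∀ i, g (base5 i) = x i) :
    (¬ IsBase (g⁻¹ a)) ∧ ((∃ o ∈ octads, E ⊆ o) ↔ g⁻¹ a ∈ ptSet orb5) := by
  have hb : ¬ IsBase (g⁻¹ a) := by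
    intro h
    obtain ⟨i, hi⟩ := (isBase_iff _).mp h
    apply hne i
    rw [← hgx i, ← hi]; simp
  refine ⟨hb, ?_, ?_⟩
  · rintro ⟨o, ho, hEo⟩
    have ho' : g⁻¹ • o ∈ octads := smul_mem_octads (inv_mem hg) ho
    have h5 : 5 ≤ (g⁻¹ • o ∩ oStd).card := by
      have hsub : Finset.univ.image base5 ⊆ g⁻¹ • o ∩ oStd := by
        intro p hp
        obtain ⟨i, -, rfl⟩ := Finset.mem_image.mp hp
        rw [Finset.mem_inter]
        refine ⟨?_, base5_mem_oStd i⟩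
        have h1 : g⁻¹ (x i) ∈ g⁻¹ • o := Finset.smul_mem_smul_finset (hEo (hx i))
        rw [← hgx i] at h1
        simpa using h1
      have hc : (Finset.univ.image base5).card = 5 := by
        rw [Finset.card_image_of_injective _ base5_inj]; simp
      rw [← hc]; exact Finset.card_le_card hsub
    have heq := octad_eq_of_inter ho' oStd_mem h5
    have hmem : g⁻¹ a ∈ g⁻¹ • o := Finset.smul_mem_smul_finset (hEo ha)
    rw [heq] at hmem
    rcases oStd_cases _ hmem with h | h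
    · exact absurd h hb
    · exact h
  · intro h
    refine ⟨g • oStd, smul_mem_octads hg oStd_mem, ?_⟩
    intro p hp
    rcases hcover p hp with rfl | ⟨i, rfl⟩
    · have h1 : g (g⁻¹ p) ∈ g • oStd := Finset.smul_mem_smul_finset (orb5_sub_oStd _ h)
      simpa using h1
    · rw [← hgx i]; exact Finset.smul_mem_smul_finset (base5_mem_oStd i)

/-- the pointwise stabilizer of the six points, moved to standard position -/
theorem card_fix {E : Finset GolayPt} {x : Fin 5 ↪ GolayPt} {a : GolayPt}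
    (ha : a ∈ E) (hcover : ∀ p ∈ E, p = a ∨ ∃ i, p = x i)
    (hx : ∀ i, x i ∈ E)
    {g : Equiv.Perm GolayPt} (hg : g ∈ M24) (hgx : ∀ i, g (base5 i) = x i) :
    Nat.card {h : Equiv.Perm GolayPt // h ∈ M24 ∧ ∀ p ∈ E, h p = p}
      = Nat.card ↥(G5 ⊓ MulAction.stabilizer (Equiv.Perm GolayPt) (g⁻¹ a)) := by
  have f1 : ∀ h : Equiv.Perm GolayPt, (h ∈ M24 ∧ ∀ p ∈ E, h p = p) →
      g⁻¹ * h * g ∈ G5 ⊓ MulAction.stabilizer (Equiv.Perm GolayPt) (g⁻¹ a) := by
    rintro h ⟨hh, hfix⟩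
    refine ⟨⟨mul_mem (mul_mem (inv_mem hg) hh) hg, fun f hf => ?_⟩, ?_⟩
    · obtain ⟨i, hi⟩ := (isBase_iff (pt f)).mp ⟨f, hf, rfl⟩
      rw [hi]
      show g⁻¹ (h (g (base5 i))) = base5 i
      rw [hgx i, hfix _ (hx i), ← hgx i]; simp
    · show g⁻¹ (h (g (g⁻¹ a))) = g⁻¹ a
      have h1 : g (g⁻¹ a) = a := by simp
      rw [h1, hfix a ha]
  have f2 : ∀ k : Equiv.Perm GolayPt,
      k ∈ G5 ⊓ MulAction.stabilizer (Equiv.Perm GolayPt) (g⁻¹ a) →
      (g * k * g⁻¹ ∈ M24 ∧ ∀ p ∈ E, (g * k * g⁻¹) p = p) := by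
    rintro k ⟨hk5, hkb⟩
    refine ⟨mul_mem (mul_mem hg hk5.1) (inv_mem hg), fun p hp => ?_⟩
    show g (k (g⁻¹ p)) = p
    rcases hcover p hp with rfl | ⟨i, rfl⟩
    · have h1 : k (g⁻¹ p) = g⁻¹ p := hkb
      rw [h1]; simp
    · have h1 : g⁻¹ (x i) = base5 i := by rw [← hgx i]; simp
      rw [h1, fix_base hk5 (base5_isBase i), hgx i]
  exact Nat.card_congr ⟨fun h => ⟨g⁻¹ * h.1 * g, f1 h.1 h.2⟩,
    fun k => ⟨g * k.1 * g⁻¹, f2 k.1 k.2⟩,
    fun h => Subtype.ext (by simp [mul_assoc]), fun k => Subtype.ext (by simp [mul_assoc])⟩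

/-- every permutation of a 6-set is induced by an element of the group -/
theorem induce {E : Finset GolayPt} (hE : E.card = 6) (σ : Equiv.Perm ↥E) :
    ∃ g ∈ M24, ∀ p : ↥E, g p = σ p := by
  obtain ⟨x, a, hx, ha, hcover, hne⟩ := exists_frame hE
  let y : Fin 5 ↪ GolayPt := ⟨fun i => (σ ⟨x i, hx i⟩ : GolayPt), fun i j hij => by
    have h1 : σ ⟨x i, hx i⟩ = σ ⟨x j, hx j⟩ := Subtype.ext hij
    have h2 := σ.injective h1
    exact x.injective (congrArg Subtype.val h2)⟩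
  have hy : ∀ i, y i ∈ E := fun i => (σ ⟨x i, hx i⟩).2
  have ha' : (σ ⟨a, ha⟩ : GolayPt) ∈ E := (σ ⟨a, ha⟩).2
  have hcover' : ∀ p ∈ E, p = (σ ⟨a, ha⟩ : GolayPt) ∨ ∃ i, p = y i := by
    intro p hp
    have hq : σ (σ.symm ⟨p, hp⟩) = ⟨p, hp⟩ := σ.apply_symm_apply _
    rcases hcover (σ.symm ⟨p, hp⟩ : ↥E).1 (σ.symm ⟨p, hp⟩ : ↥E).2 with h | ⟨i, h⟩
    · left
      have h1 : σ.symm ⟨p, hp⟩ = ⟨a, ha⟩ := Subtype.ext h
      rw [h1] at hq
      exact (congrArg Subtype.val hq).symm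
    · right
      refine ⟨i, ?_⟩
      have h1 : σ.symm ⟨p, hp⟩ = ⟨x i, hx i⟩ := Subtype.ext h
      rw [h1] at hq
      exact (congrArg Subtype.val hq).symm
  have hne' : ∀ i, y i ≠ (σ ⟨a, ha⟩ : GolayPt) := by
    intro i h
    have h1 : σ ⟨x i, hx i⟩ = σ ⟨a, ha⟩ := Subtype.ext h
    exact hne i (congrArg Subtype.val (σ.injective h1))
  obtain ⟨g, hg, hgx⟩ := exists_map_base5 x
  obtain ⟨g', hg', hgy⟩ := exists_map_base5 y
  obtain ⟨hb, hoct⟩ := octad_iff ha hcover hx hne hg hgx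
  obtain ⟨hb', hoct'⟩ := octad_iff ha' hcover' hy hne' hg' hgy
  have hiff : g⁻¹ a ∈ ptSet orb5 ↔ g'⁻¹ (σ ⟨a, ha⟩ : GolayPt) ∈ ptSet orb5 :=
    hoct.symm.trans hoct'
  have hex : ∃ h ∈ G5, h (g⁻¹ a) = g'⁻¹ (σ ⟨a, ha⟩ : GolayPt) := by
    rcases trich (g⁻¹ a) with ⟨h1, -, -⟩ | ⟨-, h2, -⟩ | ⟨-, h2, h3⟩
    · exact absurd h1 hb
    · exact trans5 h2 (hiff.mp h2)
    · rcases trich (g'⁻¹ (σ ⟨a, ha⟩ : GolayPt)) with ⟨h1', -, -⟩ | ⟨-, h2', -⟩ | ⟨-, -, h3'⟩
      · exact absurd h1' hb'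
      · exact absurd (hiff.mpr h2') h2
      · exact trans6 h3 h3'
  obtain ⟨h, hh, hhb⟩ := hex
  refine ⟨g' * h * g⁻¹, mul_mem (mul_mem hg' hh.1) (inv_mem hg), ?_⟩
  intro p
  show g' (h (g⁻¹ (p : GolayPt))) = σ p
  rcases hcover p.1 p.2 with hp | ⟨i, hp⟩
  · have hp' : p = ⟨a, ha⟩ := Subtype.ext hp
    rw [hp', hhb]; simp
  · have hp' : p = ⟨x i, hx i⟩ := Subtype.ext hp
    rw [hp']
    have h1 : g⁻¹ (x i) = base5 i := by rw [← hgx i]; simp
    show g' (h (g⁻¹ (x i))) = _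
    rw [h1, fix_base hh (base5_isBase i), hgy i]
    rfl

theorem orbit_aux {G β : Type*} [Group G] [MulAction G β] (K : Subgroup G) (b : β) (S : Set β)
    (h1 : ∀ k ∈ K, k • b ∈ S) (h2 : ∀ s ∈ S, ∃ k ∈ K, k • b = s) : MulAction.orbit K b = S := by
  ext s
  constructor
  · rintro ⟨k, rfl⟩; exact h1 k.1 k.2
  · intro hs
    obtain ⟨k, hk, rfl⟩ := h2 s hs
    exact ⟨⟨k, hk⟩, rfl⟩

/-- the setwise stabilizer of a 6-set has 720 times the order of the pointwise stabilizer -/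
theorem card_setwise {E : Finset GolayPt} (hE : E.card = 6) :
    Nat.card ↥(MulAction.stabilizer M24 E)
      = 720 * Nat.card {h : Equiv.Perm GolayPt // h ∈ M24 ∧ ∀ p ∈ E, h p = p} := by
  let e := Finset.equivFinOfCardEq hE
  let z : Fin 6 ↪ GolayPt := ⟨fun i => (e.symm i : GolayPt),
    fun i j hij => e.symm.injective (Subtype.ext hij)⟩
  have hz : ∀ i, z i ∈ E := fun i => (e.symm i).2
  have hzc : ∀ p (hp : p ∈ E), z (e ⟨p, hp⟩) = p := by
    intro p hp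
    show ((e.symm (e ⟨p, hp⟩) : ↥E) : GolayPt) = p
    rw [Equiv.symm_apply_apply]
  have h := card_eq_orbit_mul' (G := M24) (β := Fin 6 ↪ GolayPt) (MulAction.stabilizer M24 E) z
  have h1 : Nat.card ↥(MulAction.stabilizer M24 E ⊓ MulAction.stabilizer M24 z)
      = Nat.card {h : Equiv.Perm GolayPt // h ∈ M24 ∧ ∀ p ∈ E, h p = p} := by
    apply Nat.card_congr
    refine ⟨fun k => ⟨k.1.1, k.1.2, fun p hp => ?_⟩, fun h => ⟨⟨h.1, h.2.1⟩, ?_, ?_⟩,
      fun k => rfl, fun h => rfl⟩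
    · have hk : (k.1 : M24) • z = z := k.2.2
      have h2 : ((k.1 : M24) : Equiv.Perm GolayPt) (z (e ⟨p, hp⟩)) = z (e ⟨p, hp⟩) :=
        congrArg (fun w : Fin 6 ↪ GolayPt => w (e ⟨p, hp⟩)) hk
      have h3 := hzc p hp
      rw [h3] at h2
      exact h2
    · show (⟨h.1, h.2.1⟩ : M24) • E = E
      ext q
      show q ∈ h.1 • E ↔ q ∈ E
      rw [Finset.mem_smul_finset]
      constructor
      · rintro ⟨p, hp, rfl⟩
        show h.1 p ∈ E
        rw [h.2.2 p hp]; exact hp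
      · intro hq; exact ⟨q, hq, h.2.2 q hq⟩
    · show (⟨h.1, h.2.1⟩ : M24) • z = z
      apply Function.Embedding.ext
      intro i
      exact h.2.2 (z i) (hz i)
  have h2 := orbit_aux (G := M24) (β := Fin 6 ↪ GolayPt) (MulAction.stabilizer M24 E) z
    {z' : Fin 6 ↪ GolayPt | ∀ i, z' i ∈ E} (by
      intro k hk i
      have hk' : ((k : M24) : Equiv.Perm GolayPt) • E = E := hk
      have h4 : ((k : M24) : Equiv.Perm GolayPt) • z i ∈ ((k : M24) : Equiv.Perm GolayPt) • E :=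
        Finset.smul_mem_smul_finset (hz i)
      rw [hk'] at h4
      exact h4) (by
      intro z' hz'
      have hinj : Function.Injective (fun i : Fin 6 => (⟨z' i, hz' i⟩ : ↥E)) := by
        intro i j hij
        exact z'.injective (congrArg Subtype.val hij)
      have hbij : Function.Bijective (fun i : Fin 6 => (⟨z' i, hz' i⟩ : ↥E)) := by
        rw [Fintype.bijective_iff_injective_and_card]
        exact ⟨hinj, by simp [hE]⟩
      let σ : Equiv.Perm ↥E := e.trans (Equiv.ofBijective _ hbij)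
      obtain ⟨g, hg, hgσ⟩ := induce hE σ
      have hgE : g • E = E := by
        apply Finset.eq_of_subset_of_card_le
        · intro q hq
          obtain ⟨p, hp, rfl⟩ := Finset.mem_smul_finset.mp hq
          show g p ∈ E
          rw [hgσ ⟨p, hp⟩]; exact (σ ⟨p, hp⟩).2
        · rw [Finset.card_smul_finset]
      refine ⟨⟨g, hg⟩, hgE, ?_⟩
      apply Function.Embedding.ext
      intro i
      show g (z i) = z' i
      rw [hgσ ⟨z i, hz i⟩]
      show ((Equiv.ofBijective _ hbij (e ⟨z i, hz i⟩) : ↥E) : GolayPt) = z' i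
      have h3 : e ⟨z i, hz i⟩ = i := by
        show e (e.symm i) = i
        rw [Equiv.apply_symm_apply]
      rw [h3]; rfl)
  have h3 : {z' : Fin 6 ↪ GolayPt | ∀ i, z' i ∈ E}.ncard = 720 := by
    rw [← Nat.card_coe_set_eq]
    have e2 : {z' : Fin 6 ↪ GolayPt | ∀ i, z' i ∈ E} ≃ (Fin 6 ↪ ↥E) :=
      ⟨fun z' => ⟨fun i => ⟨z'.1 i, z'.2 i⟩, fun i j hij =>
          z'.1.injective (congrArg Subtype.val hij)⟩,
        fun w => ⟨⟨fun i => (w i : GolayPt), fun i j hij => w.injective (Subtype.ext hij)⟩,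
          fun i => (w i).2⟩,
        fun z' => rfl, fun w => rfl⟩
    rw [Nat.card_congr e2, Nat.card_eq_fintype_card, Fintype.card_embedding_eq]
    simp [hE]
  rw [h1, h2, h3] at h
  exact h

end Cfsg.Agent.Helper28.SixPts
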