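import Mathlib
import Cfsg.Agent.Helper12.GolayMore
import Cfsg.Agent.Helper28.SixPts
import Cfsg.Agent.Helper28.CoAut
import Cfsg.Agent.Helper28.Octads
import Cfsg.Agent.Helper28.Sext

/-!
Enumeration of the elements of the group of the length-24 code with prescribed images of five
base points (a coset of the pointwise stabilizer of the five points, which has order 48), and
reduction of an element to a standard position by conjugation.
-/

set_option autoImplicit false

namespace Cfsg.Agent.Helper28.Coset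

open Cfsg Cfsg.Agent.Helper12
open scoped Pointwise

theorem pt_eq {i : ℕ} (hi : i < 24) : Cfsg.Agent.Helper3.pt i = pt i := by
  unfold Cfsg.Agent.Helper3.pt pt
  by_cases h : i = 23
  · subst h; simp
  · have h2 : i < 23 := by omega
    simp [h, h2]

theorem perm_ext {f g : Equiv.Perm GolayPt} (h : ∀ i, i < 24 → f (pt i) = g (pt i)) : f = g := by
  apply Equiv.ext
  intro p
  rw [← pt_idx p]
  exact h _ (idx_lt p)

theorem genOf_pt (GS QS ng : ℕ) (h : sysOK GS QS ng = true) {a : ℕ} (ha : a < ng) {i : ℕ}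
    (hi : i < 24) :
    genOf GS QS ng h a (pt i) = pt (get24 (sub GS a) i) ∧ get24 (sub GS a) i < 24 := by
  rw [genOf, dif_pos ha, mkPerm_pt _ _ _ hi]
  exact ⟨rfl, (permOK_spec (allB_spec h a ha) hi).1⟩

/-- the tables of the list have the given images of the five base points -/
def baseOK (CG t0 t1 t2 t3 t4 : ℕ) : Bool := allB 48 (fun a =>
  Nat.beq (get24 (sub CG a) 23) t0 && Nat.beq (get24 (sub CG a) 0) t1 &&
  Nat.beq (get24 (sub CG a) 1) t2 && Nat.beq (get24 (sub CG a) 2) t3 &&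
  Nat.beq (get24 (sub CG a) 3) t4)

/-- the key of a table: the images of the sixth and seventh base points -/
def keyOf (CG a : ℕ) : ℕ := Nat.add (Nat.mul (get24 (sub CG a) 5) 32) (get24 (sub CG a) 4)

def keysOK (CG : ℕ) : Bool := allB 47 (fun a => Nat.blt (keyOf CG a) (keyOf CG (Nat.succ a)))

theorem mem_G5_iff {g : Equiv.Perm GolayPt} :
    g ∈ SixPts.G5 ↔ g ∈ M24 ∧ g (pt 23) = pt 23 ∧ g (pt 0) = pt 0 ∧ g (pt 1) = pt 1 ∧
      g (pt 2) = pt 2 ∧ g (pt 3) = pt 3 := by
  rw [SixPts.G5, Cfsg.Agent.Helper3.mem_fixN]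
  simp only [List.mem_cons, List.not_mem_nil, or_false, forall_eq_or_imp, forall_eq]
  rw [pt_eq (by norm_num : 23 < 24), pt_eq (by norm_num : 0 < 24), pt_eq (by norm_num : 1 < 24),
    pt_eq (by norm_num : 2 < 24), pt_eq (by norm_num : 3 < 24)]

/-- every element with the given images of the five base points is in the list -/
theorem coset_enum (CG CQ : ℕ) (h : sysOK CG CQ 48 = true) (hm : sysM24 CG 48 = true)
    (t0 t1 t2 t3 t4 : ℕ) (hb : baseOK CG t0 t1 t2 t3 t4 = true) (hk : keysOK CG = true)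
    {g : Equiv.Perm GolayPt} (hg : g ∈ M24) (e0 : g (pt 23) = pt t0) (e1 : g (pt 0) = pt t1)
    (e2 : g (pt 1) = pt t2) (e3 : g (pt 2) = pt t3) (e4 : g (pt 3) = pt t4) :
    ∃ a, a < 48 ∧ g = genOf CG CQ 48 h a := by
  have hbase : ∀ a, a < 48 → genOf CG CQ 48 h a (pt 23) = pt t0 ∧
      genOf CG CQ 48 h a (pt 0) = pt t1 ∧ genOf CG CQ 48 h a (pt 1) = pt t2 ∧
      genOf CG CQ 48 h a (pt 2) = pt t3 ∧ genOf CG CQ 48 h a (pt 3) = pt t4 := by
    intro a ha
    have h1 := allB_spec hb a ha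
    simp only [Bool.and_eq_true, Nat.beq_eq] at h1
    obtain ⟨⟨⟨⟨a0, a1⟩, a2⟩, a3⟩, a4⟩ := h1
    refine ⟨?_, ?_, ?_, ?_, ?_⟩
    · rw [(genOf_pt CG CQ 48 h ha (by norm_num)).1, a0]
    · rw [(genOf_pt CG CQ 48 h ha (by norm_num)).1, a1]
    · rw [(genOf_pt CG CQ 48 h ha (by norm_num)).1, a2]
    · rw [(genOf_pt CG CQ 48 h ha (by norm_num)).1, a3]
    · rw [(genOf_pt CG CQ 48 h ha (by norm_num)).1, a4]
  have hmemG : ∀ k : Equiv.Perm GolayPt, k ∈ M24 → k (pt 23) = pt t0 → k (pt 0) = pt t1 →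
      k (pt 1) = pt t2 → k (pt 2) = pt t3 → k (pt 3) = pt t4 →
      (genOf CG CQ 48 h 0)⁻¹ * k ∈ SixPts.G5 := by
    intro k hk k0 k1 k2 k3 k4
    obtain ⟨b0, b1, b2, b3, b4⟩ := hbase 0 (by norm_num)
    rw [mem_G5_iff]
    refine ⟨mul_mem (inv_mem (genOf_mem_M24 CG CQ 48 h hm 0)) hk, ?_, ?_, ?_, ?_, ?_⟩
    · rw [Equiv.Perm.mul_apply, k0, ← b0]; simp
    · rw [Equiv.Perm.mul_apply, k1, ← b1]; simp
    · rw [Equiv.Perm.mul_apply, k2, ← b2]; simp
    · rw [Equiv.Perm.mul_apply, k3, ← b3]; simp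
    · rw [Equiv.Perm.mul_apply, k4, ← b4]; simp
  have hmono := Sext.mono_of_chain (f := keyOf CG) (n := 47) (fun k hk' => by
    have := allB_spec hk k hk'
    rw [Nat.blt_eq] at this
    exact this)
  have hinj : ∀ a b, a < 48 → b < 48 → genOf CG CQ 48 h a = genOf CG CQ 48 h b → a = b := by
    intro a b ha hb' e
    have h5a := genOf_pt CG CQ 48 h ha (by norm_num : 5 < 24)
    have h5b := genOf_pt CG CQ 48 h hb' (by norm_num : 5 < 24)
    have h4a := genOf_pt CG CQ 48 h ha (by norm_num : 4 < 24)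
    have h4b := genOf_pt CG CQ 48 h hb' (by norm_num : 4 < 24)
    have k5 : get24 (sub CG a) 5 = get24 (sub CG b) 5 := by
      apply pt_inj h5a.2 h5b.2
      rw [← h5a.1, ← h5b.1, e]
    have k4 : get24 (sub CG a) 4 = get24 (sub CG b) 4 := by
      apply pt_inj h4a.2 h4b.2
      rw [← h4a.1, ← h4b.1, e]
    have hkey : keyOf CG a = keyOf CG b := by
      unfold keyOf; rw [k5, k4]
    by_contra hne
    rcases Nat.lt_or_gt_of_ne hne with hlt | hlt
    · have := hmono a b hlt hb'; omega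
    · have := hmono b a hlt ha; omega
  let φ : Fin 48 → ↥SixPts.G5 := fun a =>
    ⟨(genOf CG CQ 48 h 0)⁻¹ * genOf CG CQ 48 h a,
      hmemG _ (genOf_mem_M24 CG CQ 48 h hm a) (hbase a a.2).1 (hbase a a.2).2.1
        (hbase a a.2).2.2.1 (hbase a a.2).2.2.2.1 (hbase a a.2).2.2.2.2⟩
  have hφinj : Function.Injective φ := by
    intro a b e
    have e1 : (genOf CG CQ 48 h 0)⁻¹ * genOf CG CQ 48 h a =
        (genOf CG CQ 48 h 0)⁻¹ * genOf CG CQ 48 h b := congrArg Subtype.val e
    exact Fin.ext (hinj a b a.2 b.2 (mul_left_cancel e1))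
  have hφbij : Function.Bijective φ := by
    apply hφinj.bijective_of_nat_card_le
    rw [SixPts.card_G5, Nat.card_eq_fintype_card, Fintype.card_fin]
  obtain ⟨a, ha⟩ := hφbij.2 ⟨(genOf CG CQ 48 h 0)⁻¹ * g, hmemG g hg e0 e1 e2 e3 e4⟩
  have e1' : (genOf CG CQ 48 h 0)⁻¹ * genOf CG CQ 48 h a = (genOf CG CQ 48 h 0)⁻¹ * g :=
    congrArg Subtype.val ha
  exact ⟨a, a.2, (mul_left_cancel e1').symm⟩

/-- five distinct points can be moved to the five base points -/
theorem exists_std5 {x0 x1 x2 x3 x4 : GolayPt} (h01 : x0 ≠ x1) (h02 : x0 ≠ x2) (h03 : x0 ≠ x3)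
    (h04 : x0 ≠ x4) (h12 : x1 ≠ x2) (h13 : x1 ≠ x3) (h14 : x1 ≠ x4) (h23 : x2 ≠ x3)
    (h24 : x2 ≠ x4) (h34 : x3 ≠ x4) :
    ∃ k ∈ M24, k x0 = pt 23 ∧ k x1 = pt 0 ∧ k x2 = pt 1 ∧ k x3 = pt 2 ∧ k x4 = pt 3 := by
  have hinj : Function.Injective ![x0, x1, x2, x3, x4] := by
    intro i j hij
    fin_cases i <;> fin_cases j <;> first
      | rfl
      | (exfalso; simp only [Fin.zero_eta, Fin.mk_one, Fin.reduceFinMk, Matrix.cons_val_zero,
          Matrix.cons_val_one, Matrix.cons_val] at hij; first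
            | exact h01 hij | exact h02 hij | exact h03 hij | exact h04 hij | exact h12 hij
            | exact h13 hij | exact h14 hij | exact h23 hij | exact h24 hij | exact h34 hij
            | exact h01 hij.symm | exact h02 hij.symm | exact h03 hij.symm | exact h04 hij.symm
            | exact h12 hij.symm | exact h13 hij.symm | exact h14 hij.symm | exact h23 hij.symm
            | exact h24 hij.symm | exact h34 hij.symm)
  obtain ⟨g, hg, hmap⟩ := Cfsg.Agent.Helper3.exists_map_base5 ⟨![x0, x1, x2, x3, x4], hinj⟩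
  have m0 : g (pt 23) = x0 := by
    have := hmap 0
    rw [← pt_eq (by norm_num : 23 < 24)]; exact this
  have m1 : g (pt 0) = x1 := by
    have := hmap 1
    rw [← pt_eq (by norm_num : 0 < 24)]; exact this
  have m2 : g (pt 1) = x2 := by
    have := hmap 2
    rw [← pt_eq (by norm_num : 1 < 24)]; exact this
  have m3 : g (pt 2) = x3 := by
    have := hmap 3
    rw [← pt_eq (by norm_num : 2 < 24)]; exact this
  have m4 : g (pt 3) = x4 := by
    have := hmap 4
    rw [← pt_eq (by norm_num : 3 < 24)]; exact this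
  refine ⟨g⁻¹, inv_mem hg, ?_, ?_, ?_, ?_, ?_⟩
  · rw [← m0]; simp
  · rw [← m1]; simp
  · rw [← m2]; simp
  · rw [← m3]; simp
  · rw [← m4]; simp

/-- a point off the first four base points can be moved by the stabilizer of the five base
points to one of three points -/
theorem std_q {q : GolayPt} (h0 : q ≠ pt 23) (h1 : q ≠ pt 0) (h2 : q ≠ pt 1) (h3 : q ≠ pt 2) :
    ∃ c ∈ SixPts.G5, c q = pt 3 ∨ c q = pt 5 ∨ c q = pt 4 := by
  rcases SixPts.trich q with ⟨hb, -, -⟩ | ⟨-, hb, -⟩ | ⟨-, -, hb⟩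
  · refine ⟨1, one_mem _, Or.inl ?_⟩
    obtain ⟨f, hf, rfl⟩ := hb
    simp only [List.mem_cons, List.not_mem_nil, or_false] at hf
    rcases hf with rfl | rfl | rfl | rfl | rfl
    · exact absurd (pt_eq (by norm_num : 23 < 24)) h0
    · exact absurd (pt_eq (by norm_num : 0 < 24)) h1
    · exact absurd (pt_eq (by norm_num : 1 < 24)) h2
    · exact absurd (pt_eq (by norm_num : 2 < 24)) h3
    · exact pt_eq (by norm_num : 3 < 24)
  · obtain ⟨c, hc, e⟩ := SixPts.trans5 hb
      (show Cfsg.Agent.Helper3.pt 5 ∈ Cfsg.Agent.Helper3.ptSet Cfsg.Agent.Helper3.orb5 from by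
        decide +kernel)
    exact ⟨c, hc, Or.inr (Or.inl (by rw [e]; exact pt_eq (by norm_num : 5 < 24)))⟩
  · obtain ⟨c, hc, e⟩ := SixPts.trans6 hb
      (show Cfsg.Agent.Helper3.pt 4 ∈ Cfsg.Agent.Helper3.ptSet Cfsg.Agent.Helper3.orb6 from by
        decide +kernel)
    exact ⟨c, hc, Or.inr (Or.inr (by rw [e]; exact pt_eq (by norm_num : 4 < 24)))⟩

theorem conj_apply (k g : Equiv.Perm GolayPt) (p : GolayPt) : (k * g * k⁻¹) (k p) = k (g p) := by
  simp [Equiv.Perm.mul_apply]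

/-- an element of the group moving a point moves a further point -/
theorem exists_second_moved {g : Equiv.Perm GolayPt} (hg : g ∈ M24) {x : GolayPt}
    (hx : g x ≠ x) : ∃ z, z ≠ x ∧ z ≠ g x ∧ g z ≠ z := by
  by_contra hcon
  push Not at hcon
  obtain ⟨o, hoc, ho8, hxo, hgxo⟩ := Leech.exists_octad_sep (g x) x hx
  have ho : o ∈ octads := (Octads.mem_oct o).2 ⟨hoc, ho8⟩
  have hgo : g • o ∈ octads := (smul_mem_octads hg).2 ho
  have hsub : o.erase x ⊆ o ∩ g • o := by
    intro z hz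
    rw [Finset.mem_erase] at hz
    rw [Finset.mem_inter]
    refine ⟨hz.2, ?_⟩
    have hz2 : z ≠ g x := fun h => hgxo (h ▸ hz.2)
    have := hcon z hz.1 hz2
    rw [← this]
    exact Finset.smul_mem_smul_finset hz.2
  have hc : 7 ≤ (o ∩ g • o).card := by
    have := Finset.card_le_card hsub
    rw [Finset.card_erase_of_mem hxo, ho8] at this
    exact this
  have heq : o = g • o := by
    by_contra hne
    rcases Octads.octad_inter ho hgo hne with h | h | h <;> omega
  apply hgxo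
  rw [heq]
  exact Finset.smul_mem_smul_finset hxo

end Cfsg.Agent.Helper28.Coset
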