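import Mathlib
import Cfsg.Agent.Helper12.GolayMore
import Cfsg.Agent.Helper28.Coset
import Cfsg.Agent.Helper28.InvData

/-!
The involutions of the group of the length-24 code: every involution is conjugate to one of two
standard involutions, `gA` (whose fixed points form an octad) and `gB` (without fixed points).
-/

set_option autoImplicit false

namespace Cfsg.Agent.Helper28.InvClass

open Cfsg Cfsg.Agent.Helper12 Cfsg.Agent.Helper28.Coset Cfsg.Agent.Helper28.InvData
open scoped Pointwise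

theorem allB_of {n : ℕ} {f : ℕ → Bool} (h : ∀ k, k < n → f k = true) : allB n f = true := by
  induction n with
  | zero => rfl
  | succ n ih =>
    rw [allB_succ, h n (by omega), cond_true]
    exact ih (fun k hk => h k (by omega))

theorem gA_ok : permOK IA IA = true := by decide +kernel
theorem gB_ok : permOK IB IB = true := by decide +kernel
theorem gA_m24 : m24OK IA = true := by decide +kernel
theorem gB_m24 : m24OK IB = true := by decide +kernel

/-- the standard involution with eight fixed points -/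
def gA : Equiv.Perm GolayPt := mkPerm IA IA gA_ok
/-- the standard involution without fixed points -/
def gB : Equiv.Perm GolayPt := mkPerm IB IB gB_ok

theorem gA_mem : gA ∈ M24 := mkPerm_mem_M24 _ _ _ gA_m24
theorem gB_mem : gB ∈ M24 := mkPerm_mem_M24 _ _ _ gB_m24

theorem gA_pt {i : ℕ} (hi : i < 24) : gA (pt i) = pt (get24 IA i) := mkPerm_pt _ _ _ hi
theorem gB_pt {i : ℕ} (hi : i < 24) : gB (pt i) = pt (get24 IB i) := mkPerm_pt _ _ _ hi

theorem gA_sq : gA * gA = 1 := by
  apply perm_ext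
  intro i hi
  have h := permOK_spec gA_ok hi
  rw [Equiv.Perm.mul_apply, gA_pt hi, gA_pt h.1, h.2.2.1]; rfl

theorem gB_sq : gB * gB = 1 := by
  apply perm_ext
  intro i hi
  have h := permOK_spec gB_ok hi
  rw [Equiv.Perm.mul_apply, gB_pt hi, gB_pt h.1, h.2.2.1]; rfl

/-- the mask of the fixed points of `gA` -/
def FA : ℕ := 0x436038

theorem k_FA : allB 24 (fun i => bif tb FA i then Nat.beq (get24 IA i) i
    else (Nat.blt (get24 IA i) i || Nat.blt i (get24 IA i))) = true := by decide +kernel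
theorem k_FA_oct : isCode FA = true ∧ popc FA = 8 := by decide +kernel
theorem k_GB : allB 24 (fun i => Nat.blt (get24 IB i) i || Nat.blt i (get24 IB i)) = true := by
  decide +kernel

theorem gA_fix : (Finset.univ.filter fun p => gA p = p) = ofMask FA := by
  ext p
  rw [Finset.mem_filter, mem_ofMask, ← tb_eq]
  simp only [Finset.mem_univ, true_and]
  have hi := idx_lt p
  have h := allB_spec k_FA (idx p) hi
  have hp : gA p = pt (get24 IA (idx p)) := by
    conv_lhs => rw [← pt_idx p]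
    exact gA_pt hi
  have hlt := (permOK_spec gA_ok hi).1
  cases hb : tb FA (idx p) with
  | true =>
    rw [hb, cond_true, Nat.beq_eq] at h
    refine ⟨fun _ => rfl, fun _ => ?_⟩
    rw [hp, h, pt_idx]
  | false =>
    rw [hb, cond_false, Bool.or_eq_true, Nat.blt_eq, Nat.blt_eq] at h
    refine ⟨fun h' => ?_, fun h' => absurd h' (by decide)⟩
    exfalso
    rw [hp] at h'
    have h'' : pt (get24 IA (idx p)) = pt (idx p) := by rw [h', pt_idx]
    have := pt_inj hlt hi h''
    omega

theorem gA_fix_mem : (Finset.univ.filter fun p => gA p = p) ∈ octads := by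
  rw [gA_fix, ofMask_mem_octads_iff (by decide)]
  exact k_FA_oct

theorem gB_fpf : ∀ p, gB p ≠ p := by
  intro p h'
  have hi := idx_lt p
  have h := allB_spec k_GB (idx p) hi
  rw [Bool.or_eq_true, Nat.blt_eq, Nat.blt_eq] at h
  have hp : gB p = pt (get24 IB (idx p)) := by
    conv_lhs => rw [← pt_idx p]
    exact gB_pt hi
  have hlt := (permOK_spec gB_ok hi).1
  rw [hp] at h'
  have h'' : pt (get24 IB (idx p)) = pt (idx p) := by rw [h', pt_idx]
  have := pt_inj hlt hi h''
  omega

theorem gA_ne : gA ≠ 1 := by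
  intro h
  have h1 := gA_pt (by norm_num : 0 < 24)
  rw [h] at h1
  have h2 : get24 IA 0 = 23 := by decide +kernel
  rw [h2] at h1
  have h3 : pt 0 = pt 23 := h1
  exact absurd (pt_inj (by norm_num : 0 < 24) (by norm_num : 23 < 24) h3) (by norm_num)

theorem gB_ne : gB ≠ 1 := fun h => gB_fpf (pt 0) (by rw [h]; rfl)

/-- the table is an involution table -/
def isInvT (P : ℕ) : Bool := allB 24 (fun i => Nat.beq (get24 P (get24 P i)) i)

def conjOK (CG KG TY : ℕ) : Bool := allB 48 (fun a => bif isInvT (sub CG a) then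
  allB 24 (fun i => Nat.beq (get24 (sub KG a) (get24 (sub CG a) i))
    (get24 (bif Nat.beq (get24 TY a) 0 then IA else IB) (get24 (sub KG a) i))) else true)

theorem coset_inv (CG CQ KG KQ TY : ℕ) (h : sysOK CG CQ 48 = true) (hK : sysOK KG KQ 48 = true)
    (hKm : sysM24 KG 48 = true) (hc : conjOK CG KG TY = true) {a : ℕ} (ha : a < 48)
    (h2 : genOf CG CQ 48 h a * genOf CG CQ 48 h a = 1) :
    ∃ k ∈ M24, k * genOf CG CQ 48 h a * k⁻¹ = gA ∨ k * genOf CG CQ 48 h a * k⁻¹ = gB := by
  have hinv : isInvT (sub CG a) = true := by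
    apply allB_of
    intro i hi
    rw [Nat.beq_eq]
    have h1 := genOf_pt CG CQ 48 h ha hi
    have h3 := genOf_pt CG CQ 48 h ha h1.2
    have h4 : genOf CG CQ 48 h a (genOf CG CQ 48 h a (pt i)) = pt i := by
      have := congrArg (fun f : Equiv.Perm GolayPt => f (pt i)) h2
      exact this
    rw [h1.1, h3.1] at h4
    exact pt_inj h3.2 hi h4
  have h5 := allB_spec hc a ha
  rw [hinv, cond_true] at h5
  have hk := genOf_mem_M24 KG KQ 48 hK hKm a
  refine ⟨genOf KG KQ 48 hK a, hk, ?_⟩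
  cases hty : Nat.beq (get24 TY a) 0 with
  | true =>
    left
    rw [hty, cond_true] at h5
    rw [mul_inv_eq_iff_eq_mul]
    apply perm_ext
    intro i hi
    have h6 := Nat.eq_of_beq_eq_true (allB_spec h5 i hi)
    have h1 := genOf_pt CG CQ 48 h ha hi
    have h7 := genOf_pt KG KQ 48 hK ha h1.2
    have h8 := genOf_pt KG KQ 48 hK ha hi
    rw [Equiv.Perm.mul_apply, Equiv.Perm.mul_apply, h1.1, h7.1, h8.1, gA_pt h8.2, h6]
  | false =>
    right
    rw [hty, cond_false] at h5
    rw [mul_inv_eq_iff_eq_mul]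
    apply perm_ext
    intro i hi
    have h6 := Nat.eq_of_beq_eq_true (allB_spec h5 i hi)
    have h1 := genOf_pt CG CQ 48 h ha hi
    have h7 := genOf_pt KG KQ 48 hK ha h1.2
    have h8 := genOf_pt KG KQ 48 hK ha hi
    rw [Equiv.Perm.mul_apply, Equiv.Perm.mul_apply, h1.1, h7.1, h8.1, gB_pt h8.2, h6]

theorem c3_sys : sysOK CG3 CQ3 48 = true := by decide +kernel
theorem c3_m24 : sysM24 CG3 48 = true := by decide +kernel
theorem c3_base : baseOK CG3 0 23 2 1 3 = true := by decide +kernel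
theorem c3_keys : keysOK CG3 = true := by decide +kernel
theorem k3_sys : sysOK KG3 KQ3 48 = true := by decide +kernel
theorem k3_m24 : sysM24 KG3 48 = true := by decide +kernel
theorem k3_conj : conjOK CG3 KG3 TY3 = true := by decide +kernel

theorem c5_sys : sysOK CG5 CQ5 48 = true := by decide +kernel
theorem c5_m24 : sysM24 CG5 48 = true := by decide +kernel
theorem c5_base : baseOK CG5 0 23 2 1 5 = true := by decide +kernel
theorem c5_keys : keysOK CG5 = true := by decide +kernel
theorem k5_sys : sysOK KG5 KQ5 48 = true := by decide +kernel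
theorem k5_m24 : sysM24 KG5 48 = true := by decide +kernel
theorem k5_conj : conjOK CG5 KG5 TY5 = true := by decide +kernel

theorem c4_sys : sysOK CG4 CQ4 48 = true := by decide +kernel
theorem c4_m24 : sysM24 CG4 48 = true := by decide +kernel
theorem c4_base : baseOK CG4 0 23 2 1 4 = true := by decide +kernel
theorem c4_keys : keysOK CG4 = true := by decide +kernel
theorem k4_sys : sysOK KG4 KQ4 48 = true := by decide +kernel
theorem k4_m24 : sysM24 KG4 48 = true := by decide +kernel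
theorem k4_conj : conjOK CG4 KG4 TY4 = true := by decide +kernel

theorem conj_sq {g : Equiv.Perm GolayPt} (h2 : g * g = 1) (k : Equiv.Perm GolayPt) :
    (k * g * k⁻¹) * (k * g * k⁻¹) = 1 := by
  calc (k * g * k⁻¹) * (k * g * k⁻¹) = k * (g * g) * k⁻¹ := by group
    _ = 1 := by rw [h2]; group

/-- every involution of the group is conjugate to one of the two standard involutions -/
theorem inv_class {g : Equiv.Perm GolayPt} (hg : g ∈ M24) (h2 : g * g = 1) (hne : g ≠ 1) :
    ∃ k ∈ M24, k * g * k⁻¹ = gA ∨ k * g * k⁻¹ = gB := by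
  obtain ⟨x, hx⟩ : ∃ x, g x ≠ x := by
    by_contra hcon
    push Not at hcon
    exact hne (Equiv.ext hcon)
  obtain ⟨z, hzx, hzy, hz⟩ := exists_second_moved hg hx
  have hgg : ∀ p, g (g p) = p := fun p => by
    have := congrArg (fun f : Equiv.Perm GolayPt => f p) h2
    exact this
  have h01 : x ≠ g x := fun h => hx h.symm
  have h02 : x ≠ z := fun h => hzx h.symm
  have h03 : x ≠ g z := fun h => hzy (by rw [h, hgg])
  have h12 : g x ≠ z := fun h => hzy h.symm
  have h13 : g x ≠ g z := fun h => hzx (g.injective h).symm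
  have h23 : z ≠ g z := fun h => hz h.symm
  obtain ⟨v, hv⟩ : ∃ v, v ∉ ({x, g x, z, g z} : Finset GolayPt) := by
    by_contra hc
    push Not at hc
    have h1 : (Finset.univ : Finset GolayPt) ⊆ {x, g x, z, g z} := fun p _ => hc p
    have h2 := Finset.card_le_card h1
    rw [Finset.card_univ, Leech.card_pts] at h2
    have h3 : ({x, g x, z, g z} : Finset GolayPt).card ≤ 4 := Finset.card_le_four
    omega
  simp only [Finset.mem_insert, Finset.mem_singleton, not_or] at hv
  obtain ⟨hv0, hv1, hv2, hv3⟩ := hv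
  obtain ⟨k, hk, k0, k1, k2, k3, k4⟩ := exists_std5 h01 h02 h03 (fun h => hv0 h.symm) h12 h13
    (fun h => hv1 h.symm) h23 (fun h => hv2 h.symm) (fun h => hv3 h.symm)
  have a0 : (k * g * k⁻¹) (pt 23) = pt 0 := by rw [← k0, conj_apply, k1]
  have a1 : (k * g * k⁻¹) (pt 0) = pt 23 := by rw [← k1, conj_apply, hgg, k0]
  have a2 : (k * g * k⁻¹) (pt 1) = pt 2 := by rw [← k2, conj_apply, k3]
  have a3 : (k * g * k⁻¹) (pt 2) = pt 1 := by rw [← k3, conj_apply, hgg, k2]
  have a4 : (k * g * k⁻¹) (pt 3) = k (g v) := by rw [← k4, conj_apply]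
  have q0 : k (g v) ≠ pt 23 := by
    rw [← k0]; intro h; exact hv1 (by rw [← k.injective h, hgg])
  have q1 : k (g v) ≠ pt 0 := by
    rw [← k1]; intro h; exact hv0 (g.injective (k.injective h))
  have q2 : k (g v) ≠ pt 1 := by
    rw [← k2]; intro h; exact hv3 (by rw [← k.injective h, hgg])
  have q3 : k (g v) ≠ pt 2 := by
    rw [← k3]; intro h; exact hv2 (g.injective (k.injective h))
  obtain ⟨c, hc, hcq⟩ := std_q q0 q1 q2 q3
  obtain ⟨hcM, c0, c1, c2, c3, c4⟩ := mem_G5_iff.1 hc
  have hM : c * (k * g * k⁻¹) * c⁻¹ ∈ M24 :=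
    mul_mem (mul_mem hcM (mul_mem (mul_mem hk hg) (inv_mem hk))) (inv_mem hcM)
  have b0 : (c * (k * g * k⁻¹) * c⁻¹) (pt 23) = pt 0 := by
    have := conj_apply c (k * g * k⁻¹) (pt 23)
    rw [c0, a0, c1] at this; exact this
  have b1 : (c * (k * g * k⁻¹) * c⁻¹) (pt 0) = pt 23 := by
    have := conj_apply c (k * g * k⁻¹) (pt 0)
    rw [c1, a1, c0] at this; exact this
  have b2 : (c * (k * g * k⁻¹) * c⁻¹) (pt 1) = pt 2 := by
    have := conj_apply c (k * g * k⁻¹) (pt 1)
    rw [c2, a2, c3] at this; exact this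
  have b3 : (c * (k * g * k⁻¹) * c⁻¹) (pt 2) = pt 1 := by
    have := conj_apply c (k * g * k⁻¹) (pt 2)
    rw [c3, a3, c2] at this; exact this
  have b4 : (c * (k * g * k⁻¹) * c⁻¹) (pt 3) = c (k (g v)) := by
    have := conj_apply c (k * g * k⁻¹) (pt 3)
    rw [c4, a4] at this; exact this
  have hsq := conj_sq (conj_sq h2 k) c
  have hfin : ∀ k' ∈ M24, ∀ X : Equiv.Perm GolayPt,
      k' * (c * (k * g * k⁻¹) * c⁻¹) * k'⁻¹ = X → (k' * c * k) * g * (k' * c * k)⁻¹ = X := by
    intro k' _ X e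
    rw [← e]; group
  have hmem : ∀ k' ∈ M24, k' * c * k ∈ M24 := fun k' hk' => mul_mem (mul_mem hk' hcM) hk
  rcases hcq with hq | hq | hq
  · rw [hq] at b4
    obtain ⟨a, ha, e⟩ := coset_enum CG3 CQ3 c3_sys c3_m24 0 23 2 1 3 c3_base c3_keys hM b0 b1 b2 b3 b4
    rw [e] at hsq
    obtain ⟨k', hk', h'⟩ := coset_inv CG3 CQ3 KG3 KQ3 TY3 c3_sys k3_sys k3_m24 k3_conj ha hsq
    rw [← e] at h'
    exact ⟨k' * c * k, hmem k' hk', h'.imp (hfin k' hk' _) (hfin k' hk' _)⟩
  · rw [hq] at b4
    obtain ⟨a, ha, e⟩ := coset_enum CG5 CQ5 c5_sys c5_m24 0 23 2 1 5 c5_base c5_keys hM b0 b1 b2 b3 b4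
    rw [e] at hsq
    obtain ⟨k', hk', h'⟩ := coset_inv CG5 CQ5 KG5 KQ5 TY5 c5_sys k5_sys k5_m24 k5_conj ha hsq
    rw [← e] at h'
    exact ⟨k' * c * k, hmem k' hk', h'.imp (hfin k' hk' _) (hfin k' hk' _)⟩
  · rw [hq] at b4
    obtain ⟨a, ha, e⟩ := coset_enum CG4 CQ4 c4_sys c4_m24 0 23 2 1 4 c4_base c4_keys hM b0 b1 b2 b3 b4
    rw [e] at hsq
    obtain ⟨k', hk', h'⟩ := coset_inv CG4 CQ4 KG4 KQ4 TY4 c4_sys k4_sys k4_m24 k4_conj ha hsq
    rw [← e] at h'
    exact ⟨k' * c * k, hmem k' hk', h'.imp (hfin k' hk' _) (hfin k' hk' _)⟩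

end Cfsg.Agent.Helper28.InvClass
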