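import Mathlib
import Cfsg.Agent.Helper12.GolayMore
import Cfsg.Agent.Helper28.InvClass

/-!
Tools on conjugation and fixed points of permutations of the 24 points; the two classes of
involutions of the group of the length-24 code.
-/

set_option autoImplicit false

namespace Cfsg.Agent.Helper28.ClassTools

open Cfsg Cfsg.Agent.Helper12 Cfsg.Agent.Helper28.Coset Cfsg.Agent.Helper28.InvClass
open scoped Pointwise

theorem sq_of_order {g : Equiv.Perm GolayPt} (h : orderOf g = 2) : g * g = 1 ∧ g ≠ 1 := by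
  constructor
  · rw [← sq, ← h, pow_orderOf_eq_one]
  · intro h1
    rw [h1, orderOf_one] at h
    exact absurd h (by norm_num)

theorem order_of_sq {g : Equiv.Perm GolayPt} (h : g * g = 1) (hne : g ≠ 1) : orderOf g = 2 := by
  have : Fact (Nat.Prime 2) := ⟨Nat.prime_two⟩
  exact orderOf_eq_prime (by rw [sq]; exact h) hne

theorem conj_fix_iff (k g : Equiv.Perm GolayPt) (p : GolayPt) :
    (k * g * k⁻¹) p = p ↔ g (k⁻¹ p) = k⁻¹ p := by
  have h1 : k (k⁻¹ p) = p := by simp
  constructor
  · intro h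
    apply k.injective
    rw [h1]; exact h
  · intro h
    show k (g (k⁻¹ p)) = p
    rw [h, h1]

theorem fix_conj (k g : Equiv.Perm GolayPt) :
    (Finset.univ.filter fun p => (k * g * k⁻¹) p = p) = k • (Finset.univ.filter fun p => g p = p) := by
  ext p
  rw [← Finset.inv_smul_mem_iff, Finset.mem_filter, Finset.mem_filter]
  simp only [Finset.mem_univ, true_and]
  exact conj_fix_iff k g p

theorem fpf_conj (k g : Equiv.Perm GolayPt) :
    (∀ p, (k * g * k⁻¹) p ≠ p) ↔ ∀ p, g p ≠ p := by
  constructor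
  · intro h p hp
    apply h (k p)
    rw [conj_apply, hp]
  · intro h p hp
    exact h (k⁻¹ p) ((conj_fix_iff k g p).1 hp)

theorem card_fix_conj (k g : Equiv.Perm GolayPt) :
    (Finset.univ.filter fun p => (k * g * k⁻¹) p = p).card =
      (Finset.univ.filter fun p => g p = p).card := by
  rw [fix_conj, Finset.card_smul_finset]

theorem gA_card_fix : (Finset.univ.filter fun p => gA p = p).card = 8 :=
  ((Octads.mem_oct _).1 gA_fix_mem).2

theorem gB_card_fix : (Finset.univ.filter fun p => gB p = p).card = 0 := by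
  rw [Finset.card_eq_zero, Finset.filter_eq_empty_iff]
  intro p _
  exact gB_fpf p

theorem gA_not_fpf : ¬ ∀ p, gA p ≠ p := by
  intro h
  have h1 := gA_card_fix
  rw [Finset.card_eq_zero.2 (Finset.filter_eq_empty_iff.2 (fun p _ => h p))] at h1
  exact absurd h1 (by norm_num)

/-- an involution with a fixed point is conjugate to `gA` -/
theorem conj_gA {g : Equiv.Perm GolayPt} (hg : g ∈ M24) (h2 : orderOf g = 2)
    (hf : ¬ ∀ p, g p ≠ p) : ∃ k ∈ M24, k * g * k⁻¹ = gA := by
  obtain ⟨hsq, hne⟩ := sq_of_order h2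
  obtain ⟨k, hk, h | h⟩ := inv_class hg hsq hne
  · exact ⟨k, hk, h⟩
  · exfalso
    apply hf
    rw [← fpf_conj k g, h]
    exact gB_fpf

/-- an involution without fixed points is conjugate to `gB` -/
theorem conj_gB {g : Equiv.Perm GolayPt} (hg : g ∈ M24) (h2 : orderOf g = 2)
    (hf : ∀ p, g p ≠ p) : ∃ k ∈ M24, k * g * k⁻¹ = gB := by
  obtain ⟨hsq, hne⟩ := sq_of_order h2
  obtain ⟨k, hk, h | h⟩ := inv_class hg hsq hne
  · exfalso
    apply gA_not_fpf
    rw [← h, fpf_conj k g]
    exact hf
  · exact ⟨k, hk, h⟩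

theorem conj_symm {k g h : Equiv.Perm GolayPt} (e : k * g * k⁻¹ = h) : g = k⁻¹ * h * k⁻¹⁻¹ := by
  rw [← e]; group

end Cfsg.Agent.Helper28.ClassTools
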