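import Mathlib
import Cfsg.Prelude.Def_SporadicCombinatorics
import Cfsg.Agent.Helper12.GolayMore
import Cfsg.Agent.Helper28.Octads
import Cfsg.Agent.Helper28.SxData
import Cfsg.Agent.Helper28.Sext

/-!
Trios of the length-24 code: the third octad of a trio, the list of the 3795 trios, and the
action of generators on the list.
-/

set_option autoImplicit false

namespace Cfsg.Agent.Helper28.Trio

open Cfsg Cfsg.Agent.Helper12 Cfsg.Agent.Helper28.SxData Cfsg.Agent.Helper28.Sext
open scoped Pointwise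

/-- the complement of the union of two disjoint octads is an octad -/
theorem compl_union_mem {o o' : Finset GolayPt} (ho : o ∈ octads) (ho' : o' ∈ octads)
    (hd : Disjoint o o') : (o ∪ o')ᶜ ∈ octads := by
  rw [Octads.mem_oct] at ho ho' ⊢
  rw [Code.ofSet_compl, Code.ofSet_union hd, Finset.card_compl, Leech.card_pts,
    Finset.card_union_of_disjoint hd, ho.2, ho'.2]
  exact ⟨golayCode.add_mem Leech.one_mem (golayCode.add_mem ho.1 ho'.1), rfl⟩

theorem trio_third {T : Finset (Finset GolayPt)} (hT : T ∈ trios) {o o' : Finset GolayPt}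
    (ho : o ∈ T) (ho' : o' ∈ T) (hne : o ≠ o') : T = {o, o', (o ∪ o')ᶜ} := by
  have hd : Disjoint o o' := hT.2.2 o ho o' ho' hne
  have h8 : o.card = 8 := ((Octads.mem_oct o).1 (hT.2.1 o ho)).2
  have h8' : o'.card = 8 := ((Octads.mem_oct o').1 (hT.2.1 o' ho')).2
  have hc : ((T.erase o).erase o').card = 1 := by
    rw [Finset.card_erase_of_mem (Finset.mem_erase.2 ⟨hne.symm, ho'⟩),
      Finset.card_erase_of_mem ho, hT.1]
  obtain ⟨x, hx⟩ := Finset.card_eq_one.1 hc
  have hxm : x ∈ (T.erase o).erase o' := by rw [hx]; exact Finset.mem_singleton_self x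
  rw [Finset.mem_erase, Finset.mem_erase] at hxm
  obtain ⟨hx1, hx2, hxT⟩ := hxm
  have hx8 : x.card = 8 := ((Octads.mem_oct x).1 (hT.2.1 x hxT)).2
  have hxe : x = (o ∪ o')ᶜ := by
    apply Finset.eq_of_subset_of_card_le
    · intro p hp
      rw [Finset.mem_compl, Finset.mem_union]
      rintro (h | h)
      · exact Finset.disjoint_left.1 (hT.2.2 x hxT o ho hx2) hp h
      · exact Finset.disjoint_left.1 (hT.2.2 x hxT o' ho' hx1) hp h
    · rw [Finset.card_compl, Leech.card_pts, Finset.card_union_of_disjoint hd, h8, h8', hx8]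
  rw [← hxe]
  have h1 : T = insert o (T.erase o) := (Finset.insert_erase ho).symm
  have h2 : T.erase o = insert o' ((T.erase o).erase o') :=
    (Finset.insert_erase (Finset.mem_erase.2 ⟨hne.symm, ho'⟩)).symm
  rw [h1, h2, hx]

theorem trio_unique {T T' : Finset (Finset GolayPt)} (hT : T ∈ trios) (hT' : T' ∈ trios)
    {o o' : Finset GolayPt} (ho : o ∈ T) (ho' : o' ∈ T) (h1 : o ∈ T') (h1' : o' ∈ T')
    (hne : o ≠ o') : T = T' := by
  rw [trio_third hT ho ho' hne, trio_third hT' h1 h1' hne]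

theorem smul_trio {g : Equiv.Perm GolayPt} (hg : g ∈ M24) {T : Finset (Finset GolayPt)}
    (hT : T ∈ trios) : g • T ∈ trios := by
  refine ⟨?_, ?_, ?_⟩
  · rw [Finset.card_smul_finset]; exact hT.1
  · intro t ht
    obtain ⟨t', ht', rfl⟩ := Finset.mem_smul_finset.1 ht
    rw [smul_mem_octads hg]; exact hT.2.1 t' ht'
  · intro t ht u hu hne
    obtain ⟨t', ht', rfl⟩ := Finset.mem_smul_finset.1 ht
    obtain ⟨u', hu', rfl⟩ := Finset.mem_smul_finset.1 hu
    rw [disjoint_smul_iff]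
    exact hT.2.2 t' ht' u' hu' (fun h => hne (by rw [h]))

theorem smul_trio_iff {g : Equiv.Perm GolayPt} (hg : g ∈ M24) {T : Finset (Finset GolayPt)} :
    g • T ∈ trios ↔ T ∈ trios := by
  constructor
  · intro h
    have := smul_trio (inv_mem hg) h
    rwa [inv_smul_smul] at this
  · exact smul_trio hg

/-! ## The list of the trios -/

/-- the mask of the `i`-th octad of the `k`-th trio -/
def trm (k i : ℕ) : ℕ := get24 TRA (Nat.add (Nat.mul 3 k) i)

/-- the `k`-th trio -/
def tr (k : ℕ) : Finset (Finset GolayPt) := fam 3 (trm k)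

theorem trm_lt (k i : ℕ) : trm k i < 2 ^ 24 := get24_lt _ _

def trOK : Bool := allB 3795 (fun k => allB 3 (fun i =>
  (isCode (trm k i) && Nat.beq (popc (trm k i)) 8) &&
  allB i (fun j => Nat.beq (Nat.land (trm k i) (trm k j)) 0)))

theorem k_trOK : trOK = true := by decide +kernel

theorem tr_oct {k : ℕ} (hk : k < 3795) {i : ℕ} (hi : i < 3) :
    isCode (trm k i) = true ∧ popc (trm k i) = 8 := by
  have h := allB_spec (allB_spec k_trOK k hk) i hi
  rw [Bool.and_eq_true, Bool.and_eq_true, Nat.beq_eq] at h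
  exact h.1

theorem tr_pair {k : ℕ} (hk : k < 3795) {i j : ℕ} (hi : i < 3) (hj : j < i) :
    Nat.land (trm k i) (trm k j) = 0 := by
  have h := allB_spec (allB_spec k_trOK k hk) i hi
  rw [Bool.and_eq_true] at h
  have h2 := allB_spec h.2 j hj
  rw [Nat.beq_eq] at h2
  exact h2

theorem tr_land {k : ℕ} (hk : k < 3795) {i j : ℕ} (hi : i < 3) (hj : j < 3) (hne : i ≠ j) :
    Nat.land (trm k i) (trm k j) = 0 := by
  rcases Nat.lt_or_gt_of_ne hne with h | h
  · have := tr_pair hk hj h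
    rw [← this]; exact Nat.land_comm _ _
  · exact tr_pair hk hi h

theorem tr_ne {k : ℕ} (hk : k < 3795) {i j : ℕ} (hi : i < 3) (hj : j < 3) (hne : i ≠ j) :
    ofMask (trm k i) ≠ ofMask (trm k j) :=
  ofMask_ne_of_disj (by rw [(tr_oct hk hi).2]; norm_num) (tr_land hk hi hj hne)

theorem tr_injOn {k : ℕ} (hk : k < 3795) :
    Set.InjOn (fun i => ofMask (trm k i)) ((Finset.range 3 : Finset ℕ) : Set ℕ) := by
  intro i hi j hj e
  simp only [Finset.coe_range, Set.mem_Iio] at hi hj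
  by_contra hne
  exact tr_ne hk hi hj hne e

theorem mem_tr {k i : ℕ} (hi : i < 3) : ofMask (trm k i) ∈ tr k :=
  mem_fam.2 ⟨i, hi, rfl⟩

theorem tr_mem {k : ℕ} (hk : k < 3795) : tr k ∈ trios := by
  refine ⟨?_, ?_, ?_⟩
  · rw [tr, fam, Finset.card_image_of_injOn (tr_injOn hk), Finset.card_range]
  · intro t ht
    obtain ⟨i, hi, rfl⟩ := mem_fam.1 ht
    rw [ofMask_mem_octads_iff (trm_lt _ _)]
    exact tr_oct hk hi
  · intro t ht u hu hne
    obtain ⟨i, hi, rfl⟩ := mem_fam.1 ht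
    obtain ⟨j, hj, rfl⟩ := mem_fam.1 hu
    have hij : i ≠ j := fun h => hne (by rw [h])
    exact disj_ofMask (tr_land hk hi hj hij)

/-- the table of disjoint octads is complete -/
def pbOK : Bool := allB 759 (fun b => allB b (fun a =>
  bif Nat.beq (Nat.land (get24 OA a) (get24 OA b)) 0
  then anyB 30 (fun i => Nat.beq (get24 PB (Nat.add (Nat.mul 30 a) i)) b) else true))

theorem k_pbOK : pbOK = true := by decide +kernel

def tiOK : Bool := allB 759 (fun a => allB 30 (fun i =>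
  Nat.blt (get24 TI (Nat.add (Nat.mul 30 a) i)) 3795 &&
  anyB 3 (fun u => Nat.beq (trm (get24 TI (Nat.add (Nat.mul 30 a) i)) u) (get24 OA a)) &&
  anyB 3 (fun u => Nat.beq (trm (get24 TI (Nat.add (Nat.mul 30 a) i)) u)
    (get24 OA (get24 PB (Nat.add (Nat.mul 30 a) i))))))

theorem k_tiOK : tiOK = true := by decide +kernel

theorem land_of_disj {a b : ℕ} (ha : a < 2 ^ 24) (h : Disjoint (ofMask a) (ofMask b)) :
    Nat.land a b = 0 := by
  have h1 : ofMask (Nat.land a b) = ofMask 0 := by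
    rw [ofMask_zero, ← Finset.disjoint_iff_inter_eq_empty.1 h]; exact ofMask_and _ _
  have h3 : Nat.land a b ≤ a := Nat.and_le_left
  exact ofMask_inj (lt_of_le_of_lt h3 ha) (by norm_num) h1

theorem tr_complete_aux {T : Finset (Finset GolayPt)} (hT : T ∈ trios) {a b : ℕ} (hab : a < b)
    (hb : b < 759) (ha : ofMask (get24 OA a) ∈ T) (hb' : ofMask (get24 OA b) ∈ T) :
    ∃ k, k < 3795 ∧ T = tr k := by
  have hne : ofMask (get24 OA a) ≠ ofMask (get24 OA b) := by
    intro e
    have := ofMask_inj (get24_lt _ _) (get24_lt _ _) e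
    have := OA_strictMono a b hab hb
    omega
  have hd := hT.2.2 _ ha _ hb' hne
  have hl := land_of_disj (get24_lt _ _) hd
  have h1 := allB_spec (allB_spec k_pbOK b hb) a hab
  rw [show Nat.beq (Nat.land (get24 OA a) (get24 OA b)) 0 = true from by rw [Nat.beq_eq]; exact hl,
    cond_true, anyB_iff] at h1
  obtain ⟨i, hi, hi'⟩ := h1
  rw [Nat.beq_eq] at hi'
  have h2 := allB_spec (allB_spec k_tiOK a (by omega)) i hi
  rw [Bool.and_eq_true, Bool.and_eq_true, Nat.blt_eq, anyB_iff, anyB_iff, hi'] at h2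
  obtain ⟨⟨hlt, u, hu, hu'⟩, v, hv, hv'⟩ := h2
  rw [Nat.beq_eq] at hu' hv'
  refine ⟨_, hlt, trio_unique hT (tr_mem hlt) ha hb' ?_ ?_ hne⟩
  · rw [← hu']; exact mem_tr hu
  · rw [← hv']; exact mem_tr hv

/-- every trio is in the list -/
theorem tr_complete {T : Finset (Finset GolayPt)} (hT : T ∈ trios) :
    ∃ k, k < 3795 ∧ T = tr k := by
  have h1 : 1 < T.card := by rw [hT.1]; norm_num
  obtain ⟨o, ho, o', ho', hne⟩ := Finset.one_lt_card.1 h1
  obtain ⟨a, ha, rfl⟩ := (mem_octads_iff o).1 (hT.2.1 o ho)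
  obtain ⟨b, hb, rfl⟩ := (mem_octads_iff o').1 (hT.2.1 o' ho')
  have hab : a ≠ b := fun h => hne (by rw [h])
  rcases Nat.lt_or_gt_of_ne hab with h | h
  · exact tr_complete_aux hT h hb ho ho'
  · exact tr_complete_aux hT h ha ho' ho

theorem mem_trios_iff (T : Finset (Finset GolayPt)) :
    T ∈ trios ↔ ∃ k, k < 3795 ∧ T = tr k := by
  constructor
  · exact tr_complete
  · rintro ⟨k, hk, rfl⟩; exact tr_mem hk

/-- the key of a trio in the list -/
def trKey (k : ℕ) : ℕ := Nat.add (Nat.mul (trm k 0) 16777216) (trm k 1)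

def trMonoOK : Bool := allB 3794 (fun k => Nat.blt (trKey k) (trKey (Nat.succ k))) &&
  allB 3795 (fun k => tb (trm k 0) 0 && Nat.blt (trm k 1) (trm k 2))

theorem k_trMonoOK : trMonoOK = true := by decide +kernel

theorem tr_mono : ∀ k l, k < l → l < 3795 → trKey k < trKey l := by
  have h := k_trMonoOK
  rw [trMonoOK, Bool.and_eq_true] at h
  exact mono_of_chain (f := trKey) (n := 3794) (fun k hk => by
    have := allB_spec h.1 k hk
    rw [Nat.blt_eq] at this
    exact this)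

theorem tr_pt0 {k : ℕ} (hk : k < 3795) : pt 0 ∈ ofMask (trm k 0) ∧ trm k 1 < trm k 2 := by
  have h := k_trMonoOK
  rw [trMonoOK, Bool.and_eq_true] at h
  have h1 := allB_spec h.2 k hk
  rw [Bool.and_eq_true, Nat.blt_eq] at h1
  exact ⟨(pt_mem_ofMask (by norm_num : 0 < 24)).2 h1.1, h1.2⟩

theorem tr_mask_mem {k l : ℕ} (e : tr k = tr l) {i : ℕ} (hi : i < 3) :
    ∃ j, j < 3 ∧ trm l j = trm k i := by
  have h1 : ofMask (trm k i) ∈ tr l := by rw [← e]; exact mem_tr hi
  obtain ⟨j, hj, e1⟩ := mem_fam.1 h1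
  exact ⟨j, hj, (ofMask_inj (trm_lt _ _) (trm_lt _ _) e1).symm⟩

theorem trm_ne {k : ℕ} (hk : k < 3795) {i j : ℕ} (hi : i < 3) (hj : j < 3) (hne : i ≠ j) :
    trm k i ≠ trm k j := fun e => tr_ne hk hi hj hne (by rw [e])

theorem tr_inj : ∀ k l, k < 3795 → l < 3795 → tr k = tr l → k = l := by
  intro k l hk hl e
  obtain ⟨i0, hi0, e0⟩ := tr_mask_mem e (by norm_num : 0 < 3)
  obtain ⟨i1, hi1, e1⟩ := tr_mask_mem e (by norm_num : 1 < 3)
  obtain ⟨i2, hi2, e2⟩ := tr_mask_mem e (by norm_num : 2 < 3)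
  have h0 : i0 = 0 := by
    by_contra hne
    have hd := disj_ofMask (tr_land hl hi0 (by norm_num : 0 < 3) hne)
    have h2 : pt 0 ∈ ofMask (trm l i0) := by rw [e0]; exact (tr_pt0 hk).1
    exact Finset.disjoint_left.1 hd h2 (tr_pt0 hl).1
  subst h0
  have hk12 := (tr_pt0 hk).2
  have hl12 := (tr_pt0 hl).2
  have hk01 := trm_ne hk (by norm_num : 0 < 3) (by norm_num : 1 < 3) (by norm_num)
  have hk02 := trm_ne hk (by norm_num : 0 < 3) (by norm_num : 2 < 3) (by norm_num)
  have h1 : i1 = 1 := by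
    have a1 : i1 ≠ 0 := by
      rintro rfl; rw [e0] at e1; exact hk01 e1
    have a2 : i2 ≠ 0 := by
      rintro rfl; rw [e0] at e2; exact hk02 e2
    by_contra hne
    have b1 : i1 = 2 := by omega
    have b2 : i2 = 1 := by
      by_contra hne2
      have : i2 = 2 := by omega
      rw [b1] at e1; rw [this] at e2
      omega
    rw [b1] at e1; rw [b2] at e2
    omega
  subst h1
  have hkey : trKey k = trKey l := by
    show Nat.add (Nat.mul (trm k 0) 16777216) (trm k 1) = Nat.add (Nat.mul (trm l 0) 16777216) (trm l 1)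
    rw [e0, e1]
  by_contra hne
  rcases Nat.lt_or_gt_of_ne hne with h | h
  · have := tr_mono k l h hl; omega
  · have := tr_mono l k h hk; omega

theorem ncard_trios : trios.ncard = 3795 := by
  rw [ncard_eq_cnt tr 3795 tr_inj trios (fun _ => true), cnt_true]
  intro S
  rw [mem_trios_iff]
  constructor
  · rintro ⟨k, hk, rfl⟩; exact ⟨k, hk, rfl, rfl⟩
  · rintro ⟨k, hk, -, rfl⟩; exact ⟨k, hk, rfl⟩

/-! ## The action of generators on the list of trios -/

def trAct (IM j k : ℕ) : ℕ := get24 IM (Nat.add (Nat.mul 3795 j) k)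

def trImgOK (GS IM ng : ℕ) : Bool := allB ng (fun j => allB 3795 (fun k =>
  Nat.blt (trAct IM j k) 3795 &&
  anyB 3 (fun i => Nat.beq (trm (trAct IM j k) i) (sysAct GS j (trm k 0))) &&
  anyB 3 (fun i => Nat.beq (trm (trAct IM j k) i) (sysAct GS j (trm k 1)))))

theorem tr_smul_aux (GS QS ng : ℕ) (h : sysOK GS QS ng = true) (hm : sysM24 GS ng = true)
    {j : ℕ} (hj : j < ng) {k l : ℕ} (hk : k < 3795) (hl : l < 3795)
    (h0 : anyB 3 (fun i => Nat.beq (trm l i) (sysAct GS j (trm k 0))) = true)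
    (h1 : anyB 3 (fun i => Nat.beq (trm l i) (sysAct GS j (trm k 1))) = true) :
    genOf GS QS ng h j • tr k = tr l := by
  rw [anyB_iff] at h0 h1
  obtain ⟨u, hu, hu'⟩ := h0
  obtain ⟨v, hv, hv'⟩ := h1
  rw [Nat.beq_eq] at hu' hv'
  have e0 := genOf_smul_ofMask GS QS ng h hj (trm k 0)
  have e1 := genOf_smul_ofMask GS QS ng h hj (trm k 1)
  apply trio_unique (smul_trio (genOf_mem_M24 GS QS ng h hm j) (tr_mem hk)) (tr_mem hl)
    (o := genOf GS QS ng h j • ofMask (trm k 0)) (o' := genOf GS QS ng h j • ofMask (trm k 1))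
  · exact Finset.smul_mem_smul_finset (mem_tr (by norm_num))
  · exact Finset.smul_mem_smul_finset (mem_tr (by norm_num))
  · rw [e0, show permMask (sub GS j) (trm k 0) = sysAct GS j (trm k 0) from rfl, ← hu']
    exact mem_tr hu
  · rw [e1, show permMask (sub GS j) (trm k 1) = sysAct GS j (trm k 1) from rfl, ← hv']
    exact mem_tr hv
  · intro e
    exact tr_ne hk (by norm_num : 0 < 3) (by norm_num : 1 < 3) (by norm_num)
      (MulAction.injective _ e)

theorem tr_smul (GS QS ng : ℕ) (h : sysOK GS QS ng = true) (hm : sysM24 GS ng = true) (IM : ℕ)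
    (hIM : trImgOK GS IM ng = true) {j : ℕ} (hj : j < ng) {k : ℕ} (hk : k < 3795) :
    genOf GS QS ng h j • tr k = tr (trAct IM j k) ∧ trAct IM j k < 3795 := by
  have h1 := allB_spec (allB_spec hIM j hj) k hk
  rw [Bool.and_eq_true, Bool.and_eq_true, Nat.blt_eq] at h1
  exact ⟨tr_smul_aux GS QS ng h hm hj hk h1.1.1 h1.1.2 h1.2, h1.1.1⟩

/-- generators fixing a trio of the list -/
theorem tr_fix (GS QS ng : ℕ) (h : sysOK GS QS ng = true) (hm : sysM24 GS ng = true) (k0 : ℕ)
    (hk0 : k0 < 3795)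
    (hfix : allB ng (fun j => anyB 3 (fun i => Nat.beq (trm k0 i) (sysAct GS j (trm k0 0))) &&
      anyB 3 (fun i => Nat.beq (trm k0 i) (sysAct GS j (trm k0 1)))) = true)
    (j : ℕ) : genOf GS QS ng h j • tr k0 = tr k0 := by
  by_cases hj : j < ng
  · have h1 := allB_spec hfix j hj
    rw [Bool.and_eq_true] at h1
    exact tr_smul_aux GS QS ng h hm hj hk0 hk0 h1.1 h1.2
  · rw [genOf, dif_neg hj, one_smul]

end Cfsg.Agent.Helper28.Trio
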