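import Mathlib
import Cfsg.Prelude.Def_SporadicCombinatorics
import Cfsg.Agent.Helper12.GolayMore
import Cfsg.Agent.Helper28.Sext
import Cfsg.Agent.Helper28.Trio
import Cfsg.Agent.Helper28.InvClass
import Cfsg.Agent.Helper28.ClassTools

/-!
Counting the octads, trios and sextets mapped to themselves by a permutation of the group of
the length-24 code given by a table; the counts for the two classes of involutions.
-/

set_option autoImplicit false

namespace Cfsg.Agent.Helper28.InvFix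

open Cfsg Cfsg.Agent.Helper12 Cfsg.Agent.Helper28.SxData Cfsg.Agent.Helper28.Sext
  Cfsg.Agent.Helper28.Trio Cfsg.Agent.Helper28.InvData Cfsg.Agent.Helper28.InvClass Cfsg.Agent.Helper28.ClassTools
open scoped Pointwise

/-- the number of the members of an invariant family mapped to themselves is a class
invariant -/
theorem ncard_fix_conj {X : Type*} [MulAction (Equiv.Perm GolayPt) X] (U : Set X)
    (k g : Equiv.Perm GolayPt) (hU : ∀ x, k • x ∈ U ↔ x ∈ U) :
    {x : X | x ∈ U ∧ (k * g * k⁻¹) • x = x}.ncard = {x : X | x ∈ U ∧ g • x = x}.ncard := by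
  apply ncard_transport k
  intro b
  show (b ∈ U ∧ (k * g * k⁻¹) • b = b) ↔ (k⁻¹ • b ∈ U ∧ g • k⁻¹ • b = k⁻¹ • b)
  have h1 : k⁻¹ • b ∈ U ↔ b ∈ U := by
    rw [← hU (k⁻¹ • b), smul_inv_smul]
  rw [h1]
  apply and_congr Iff.rfl
  rw [mul_smul, mul_smul]
  constructor
  · intro h
    calc g • k⁻¹ • b = k⁻¹ • (k • g • k⁻¹ • b) := (inv_smul_smul _ _).symm
      _ = k⁻¹ • b := by rw [h]
  · intro h
    rw [h, smul_inv_smul]

/-- the octad number `k` is mapped to itself -/
def octFix (P k : ℕ) : Bool := Nat.beq (permMask P (get24 OA k)) (get24 OA k)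

theorem ncard_fix_oct (P Q : ℕ) (h : permOK P Q = true) :
    {o : Finset GolayPt | o ∈ octads ∧ mkPerm P Q h • o = o}.ncard = cntB 759 (octFix P) := by
  apply ncard_eq_cntB OA_strictMono
  intro s
  show (s ∈ octads ∧ mkPerm P Q h • s = s) ↔ _
  constructor
  · rintro ⟨hs, hfix⟩
    obtain ⟨k, hk, rfl⟩ := (mem_octads_iff s).1 hs
    refine ⟨k, hk, ?_, rfl⟩
    rw [smul_ofMask] at hfix
    rw [octFix, Nat.beq_eq]
    exact ofMask_inj (permMask_lt h _) (get24_lt _ _) hfix
  · rintro ⟨k, hk, hf, rfl⟩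
    refine ⟨(mem_octads_iff _).2 ⟨k, hk, rfl⟩, ?_⟩
    rw [octFix, Nat.beq_eq] at hf
    rw [smul_ofMask, hf]

/-- the sextet number `k` is mapped to itself -/
def sxFix (P k : ℕ) : Bool := anyB 6 (fun i => Nat.beq (sxm k i) (permMask P (sxm k 0)))

theorem ncard_fix_sx (P Q : ℕ) (h : permOK P Q = true) (hm : m24OK P = true) :
    {S : Finset (Finset GolayPt) | S ∈ sextets ∧ mkPerm P Q h • S = S}.ncard
      = cntB 1771 (sxFix P) := by
  apply ncard_eq_cnt sx 1771 sx_inj
  intro S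
  show (S ∈ sextets ∧ mkPerm P Q h • S = S) ↔ _
  have hg : mkPerm P Q h ∈ M24 := mkPerm_mem_M24 _ _ _ hm
  constructor
  · rintro ⟨hS, hfix⟩
    obtain ⟨k, hk, rfl⟩ := (mem_sextets_iff S).1 hS
    refine ⟨k, hk, ?_, rfl⟩
    have h1 : mkPerm P Q h • ofMask (sxm k 0) ∈ mkPerm P Q h • sx k :=
      Finset.smul_mem_smul_finset (mem_sx (by norm_num))
    rw [hfix, smul_ofMask, sx, mem_fam] at h1
    obtain ⟨i, hi, e⟩ := h1
    rw [sxFix, anyB_iff]
    refine ⟨i, hi, ?_⟩
    rw [Nat.beq_eq]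
    exact (ofMask_inj (permMask_lt h _) (sxm_lt _ _) e).symm
  · rintro ⟨k, hk, hf, rfl⟩
    refine ⟨sx_mem hk, ?_⟩
    rw [sxFix, anyB_iff] at hf
    obtain ⟨i, hi, hi'⟩ := hf
    rw [Nat.beq_eq] at hi'
    apply sextet_unique (smul_sextet hg (sx_mem hk)) (sx_mem hk)
      (t := ofMask (permMask P (sxm k 0)))
    · rw [← smul_ofMask P Q h]
      exact Finset.smul_mem_smul_finset (mem_sx (by norm_num))
    · rw [← hi']; exact mem_sx hi

/-- the trio number `k` is mapped to itself -/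
def trFix (P k : ℕ) : Bool :=
  anyB 3 (fun i => Nat.beq (trm k i) (permMask P (trm k 0))) &&
  anyB 3 (fun i => Nat.beq (trm k i) (permMask P (trm k 1)))

theorem ncard_fix_tr (P Q : ℕ) (h : permOK P Q = true) (hm : m24OK P = true) :
    {T : Finset (Finset GolayPt) | T ∈ trios ∧ mkPerm P Q h • T = T}.ncard
      = cntB 3795 (trFix P) := by
  apply ncard_eq_cnt tr 3795 tr_inj
  intro T
  show (T ∈ trios ∧ mkPerm P Q h • T = T) ↔ _
  have hg : mkPerm P Q h ∈ M24 := mkPerm_mem_M24 _ _ _ hm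
  constructor
  · rintro ⟨hT, hfix⟩
    obtain ⟨k, hk, rfl⟩ := (mem_trios_iff T).1 hT
    refine ⟨k, hk, ?_, rfl⟩
    have key : ∀ j, j < 3 → anyB 3 (fun i => Nat.beq (trm k i) (permMask P (trm k j))) = true := by
      intro j hj
      have h1 : mkPerm P Q h • ofMask (trm k j) ∈ mkPerm P Q h • tr k :=
        Finset.smul_mem_smul_finset (mem_tr hj)
      rw [hfix, smul_ofMask, tr, mem_fam] at h1
      obtain ⟨i, hi, e⟩ := h1
      rw [anyB_iff]
      refine ⟨i, hi, ?_⟩
      rw [Nat.beq_eq]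
      exact (ofMask_inj (permMask_lt h _) (trm_lt _ _) e).symm
    rw [trFix, Bool.and_eq_true]
    exact ⟨key 0 (by norm_num), key 1 (by norm_num)⟩
  · rintro ⟨k, hk, hf, rfl⟩
    refine ⟨tr_mem hk, ?_⟩
    rw [trFix, Bool.and_eq_true, anyB_iff, anyB_iff] at hf
    obtain ⟨⟨i, hi, hi'⟩, ⟨j, hj, hj'⟩⟩ := hf
    rw [Nat.beq_eq] at hi' hj'
    apply trio_unique (smul_trio hg (tr_mem hk)) (tr_mem hk)
      (o := mkPerm P Q h • ofMask (trm k 0)) (o' := mkPerm P Q h • ofMask (trm k 1))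
    · exact Finset.smul_mem_smul_finset (mem_tr (by norm_num))
    · exact Finset.smul_mem_smul_finset (mem_tr (by norm_num))
    · rw [smul_ofMask, ← hi']; exact mem_tr hi
    · rw [smul_ofMask, ← hj']; exact mem_tr hj
    · intro e
      exact tr_ne hk (i := 0) (j := 1) (by norm_num) (by norm_num) (by norm_num)
        (MulAction.injective _ e)

theorem kA_oct : cntB 759 (octFix IA) = 71 := by decide +kernel
theorem kA_tr : cntB 3795 (trFix IA) = 99 := by decide +kernel
theorem kA_sx : cntB 1771 (sxFix IA) = 91 := by decide +kernel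
theorem kB_oct : cntB 759 (octFix IB) = 15 := by decide +kernel
theorem kB_tr : cntB 3795 (trFix IB) = 75 := by decide +kernel
theorem kB_sx : cntB 1771 (sxFix IB) = 51 := by decide +kernel

theorem gA_counts :
    {o : Finset GolayPt | o ∈ octads ∧ gA • o = o}.ncard = 71 ∧
    {T : Finset (Finset GolayPt) | T ∈ trios ∧ gA • T = T}.ncard = 99 ∧
    {S : Finset (Finset GolayPt) | S ∈ sextets ∧ gA • S = S}.ncard = 91 :=
  ⟨(ncard_fix_oct IA IA gA_ok).trans kA_oct, (ncard_fix_tr IA IA gA_ok gA_m24).trans kA_tr,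
    (ncard_fix_sx IA IA gA_ok gA_m24).trans kA_sx⟩

theorem gB_counts :
    {o : Finset GolayPt | o ∈ octads ∧ gB • o = o}.ncard = 15 ∧
    {T : Finset (Finset GolayPt) | T ∈ trios ∧ gB • T = T}.ncard = 75 ∧
    {S : Finset (Finset GolayPt) | S ∈ sextets ∧ gB • S = S}.ncard = 51 :=
  ⟨(ncard_fix_oct IB IB gB_ok).trans kB_oct, (ncard_fix_tr IB IB gB_ok gB_m24).trans kB_tr,
    (ncard_fix_sx IB IB gB_ok gB_m24).trans kB_sx⟩

/-- the counts of invariant octads, trios and sextets of a conjugate -/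
theorem counts_conj {g k : Equiv.Perm GolayPt} (hk : k ∈ M24) {g0 : Equiv.Perm GolayPt}
    (e : k * g * k⁻¹ = g0) {a b c : ℕ}
    (h : {o : Finset GolayPt | o ∈ octads ∧ g0 • o = o}.ncard = a ∧
      {T : Finset (Finset GolayPt) | T ∈ trios ∧ g0 • T = T}.ncard = b ∧
      {S : Finset (Finset GolayPt) | S ∈ sextets ∧ g0 • S = S}.ncard = c) :
    {o : Finset GolayPt | o ∈ octads ∧ g • o = o}.ncard = a ∧
      {T : Finset (Finset GolayPt) | T ∈ trios ∧ g • T = T}.ncard = b ∧
      {S : Finset (Finset GolayPt) | S ∈ sextets ∧ g • S = S}.ncard = c := by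
  subst e
  obtain ⟨h1, h2, h3⟩ := h
  refine ⟨?_, ?_, ?_⟩
  · rw [← h1]
    exact (ncard_fix_conj (octads : Set (Finset GolayPt)) k g
      (fun x => smul_mem_octads hk)).symm
  · rw [← h2]
    exact (ncard_fix_conj (trios : Set (Finset (Finset GolayPt))) k g
      (fun x => smul_trio_iff hk)).symm
  · rw [← h3]
    exact (ncard_fix_conj (sextets : Set (Finset (Finset GolayPt))) k g
      (fun x => smul_sextet_iff hk)).symm

end Cfsg.Agent.Helper28.InvFix
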