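import Mathlib
import Cfsg.Agent.Helper12.GolayMore
import Cfsg.Agent.Helper28.Coset
import Cfsg.Agent.Helper28.InvClass
import Cfsg.Agent.Helper28.ClassTools
import Cfsg.Agent.Helper28.Ord3Data

/-!
The elements of order 3 of the group of the length-24 code: every such element is conjugate to
one of two standard elements, `hA` (six fixed points) and `hB` (without fixed points).
-/

set_option autoImplicit false

namespace Cfsg.Agent.Helper28.Ord3

open Cfsg Cfsg.Agent.Helper12 Cfsg.Agent.Helper28.Coset Cfsg.Agent.Helper28.Ord3Data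
  Cfsg.Agent.Helper28.InvClass
open scoped Pointwise

/-- the fixed points of a permutation given by a table -/
theorem fix_of_table (P Q : ℕ) (h : permOK P Q = true) (F : ℕ)
    (hF : allB 24 (fun i => bif tb F i then Nat.beq (get24 P i) i
      else (Nat.blt (get24 P i) i || Nat.blt i (get24 P i))) = true) :
    (Finset.univ.filter fun p => mkPerm P Q h p = p) = ofMask F := by
  ext p
  rw [Finset.mem_filter, mem_ofMask, ← tb_eq]
  simp only [Finset.mem_univ, true_and]
  have hi := idx_lt p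
  have h1 := allB_spec hF (idx p) hi
  have hp : mkPerm P Q h p = pt (get24 P (idx p)) := by
    conv_lhs => rw [← pt_idx p]
    exact mkPerm_pt _ _ _ hi
  have hlt := (permOK_spec h hi).1
  cases hb : tb F (idx p) with
  | true =>
    rw [hb, cond_true, Nat.beq_eq] at h1
    refine ⟨fun _ => rfl, fun _ => ?_⟩
    rw [hp, h1, pt_idx]
  | false =>
    rw [hb, cond_false, Bool.or_eq_true, Nat.blt_eq, Nat.blt_eq] at h1
    refine ⟨fun h' => ?_, fun h' => absurd h' (by decide)⟩
    exfalso
    rw [hp] at h'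
    have h'' : pt (get24 P (idx p)) = pt (idx p) := by rw [h', pt_idx]
    have := pt_inj hlt hi h''
    omega

theorem hA_ok : permOK JA JAi = true := by decide +kernel
theorem hB_ok : permOK JB JBi = true := by decide +kernel
theorem hA_m24 : m24OK JA = true := by decide +kernel
theorem hB_m24 : m24OK JB = true := by decide +kernel

/-- the standard element of order 3 with six fixed points -/
def hA : Equiv.Perm GolayPt := mkPerm JA JAi hA_ok
/-- the standard element of order 3 without fixed points -/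
def hB : Equiv.Perm GolayPt := mkPerm JB JBi hB_ok

theorem hA_mem : hA ∈ M24 := mkPerm_mem_M24 _ _ _ hA_m24
theorem hB_mem : hB ∈ M24 := mkPerm_mem_M24 _ _ _ hB_m24

theorem hA_pt {i : ℕ} (hi : i < 24) : hA (pt i) = pt (get24 JA i) := mkPerm_pt _ _ _ hi
theorem hB_pt {i : ℕ} (hi : i < 24) : hB (pt i) = pt (get24 JB i) := mkPerm_pt _ _ _ hi

/-- the table has order dividing 3 -/
def isOrd3T (P : ℕ) : Bool := allB 24 (fun i => Nat.beq (get24 P (get24 P (get24 P i))) i)

theorem k_JA3 : isOrd3T JA = true := by decide +kernel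
theorem k_JB3 : isOrd3T JB = true := by decide +kernel

theorem cube_of_table (P Q : ℕ) (h : permOK P Q = true) (h3 : isOrd3T P = true) :
    mkPerm P Q h * mkPerm P Q h * mkPerm P Q h = 1 := by
  apply perm_ext
  intro i hi
  have h1 := (permOK_spec h hi).1
  have h2 := (permOK_spec h h1).1
  have h4 := Nat.eq_of_beq_eq_true (allB_spec h3 i hi)
  rw [Equiv.Perm.mul_apply, Equiv.Perm.mul_apply, mkPerm_pt _ _ _ hi, mkPerm_pt _ _ _ h1,
    mkPerm_pt _ _ _ h2, h4]
  rfl

theorem hA_cube : hA * hA * hA = 1 := cube_of_table _ _ _ k_JA3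
theorem hB_cube : hB * hB * hB = 1 := cube_of_table _ _ _ k_JB3

/-- the mask of the fixed points of `hA` -/
def FJ : ℕ := 0x264410

theorem k_FJ : allB 24 (fun i => bif tb FJ i then Nat.beq (get24 JA i) i
    else (Nat.blt (get24 JA i) i || Nat.blt i (get24 JA i))) = true := by decide +kernel
theorem k_FJB : allB 24 (fun i => bif tb 0 i then Nat.beq (get24 JB i) i
    else (Nat.blt (get24 JB i) i || Nat.blt i (get24 JB i))) = true := by decide +kernel

theorem hA_fix : (Finset.univ.filter fun p => hA p = p) = ofMask FJ :=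
  fix_of_table _ _ _ _ k_FJ

theorem hA_card_fix : (Finset.univ.filter fun p => hA p = p).card = 6 := by
  rw [hA_fix, card_ofMask]; decide +kernel

theorem hB_card_fix : (Finset.univ.filter fun p => hB p = p).card = 0 := by
  have h : (Finset.univ.filter fun p => hB p = p) = ofMask 0 := fix_of_table _ _ _ _ k_FJB
  rw [h, card_ofMask]; decide +kernel

theorem hB_fpf : ∀ p, hB p ≠ p := by
  intro p hp
  have h := hB_card_fix
  rw [Finset.card_eq_zero, Finset.filter_eq_empty_iff] at h
  exact h (Finset.mem_univ p) hp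

theorem hA_not_fpf : ¬ ∀ p, hA p ≠ p := by
  intro h
  have h1 := hA_card_fix
  rw [Finset.card_eq_zero.2 (Finset.filter_eq_empty_iff.2 (fun p _ => h p))] at h1
  exact absurd h1 (by norm_num)

theorem hB_ne : hB ≠ 1 := fun h => hB_fpf (pt 0) (by rw [h]; rfl)

theorem hA_ne : hA ≠ 1 := by
  intro h
  have h1 := hA_card_fix
  rw [h] at h1
  have h2 : (Finset.univ.filter fun p : GolayPt => (1 : Equiv.Perm GolayPt) p = p) = Finset.univ := by
    ext p; simp
  rw [h2, Finset.card_univ, Leech.card_pts] at h1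
  exact absurd h1 (by norm_num)

def conjOK3 (CG KG TY : ℕ) : Bool := allB 48 (fun a => bif isOrd3T (sub CG a) then
  allB 24 (fun i => Nat.beq (get24 (sub KG a) (get24 (sub CG a) i))
    (get24 (bif Nat.beq (get24 TY a) 0 then JA else JB) (get24 (sub KG a) i))) else true)

theorem coset_ord3 (CG CQ KG KQ TY : ℕ) (h : sysOK CG CQ 48 = true) (hK : sysOK KG KQ 48 = true)
    (hKm : sysM24 KG 48 = true) (hc : conjOK3 CG KG TY = true) {a : ℕ} (ha : a < 48)
    (h3 : genOf CG CQ 48 h a * genOf CG CQ 48 h a * genOf CG CQ 48 h a = 1) :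
    ∃ k ∈ M24, k * genOf CG CQ 48 h a * k⁻¹ = hA ∨ k * genOf CG CQ 48 h a * k⁻¹ = hB := by
  have hinv : isOrd3T (sub CG a) = true := by
    apply allB_of
    intro i hi
    rw [Nat.beq_eq]
    have h1 := genOf_pt CG CQ 48 h ha hi
    have h2 := genOf_pt CG CQ 48 h ha h1.2
    have h2' := genOf_pt CG CQ 48 h ha h2.2
    have h4 : genOf CG CQ 48 h a (genOf CG CQ 48 h a (genOf CG CQ 48 h a (pt i))) = pt i := by
      have := congrArg (fun f : Equiv.Perm GolayPt => f (pt i)) h3
      exact this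
    rw [h1.1, h2.1, h2'.1] at h4
    exact pt_inj h2'.2 hi h4
  have h5 := allB_spec hc a ha
  rw [hinv, cond_true] at h5
  have hk := genOf_mem_M24 KG KQ 48 hK hKm a
  refine ⟨genOf KG KQ 48 hK a, hk, ?_⟩
  cases hty : Nat.beq (get24 TY a) 0 with
  | true =>
    left
    rw [hty, cond_true] at h5
    rw [mul_inv_eq_iff_eq_mul]
    apply perm_ext
    intro i hi
    have h6 := Nat.eq_of_beq_eq_true (allB_spec h5 i hi)
    have h1 := genOf_pt CG CQ 48 h ha hi
    have h7 := genOf_pt KG KQ 48 hK ha h1.2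
    have h8 := genOf_pt KG KQ 48 hK ha hi
    rw [Equiv.Perm.mul_apply, Equiv.Perm.mul_apply, h1.1, h7.1, h8.1, hA_pt h8.2, h6]
  | false =>
    right
    rw [hty, cond_false] at h5
    rw [mul_inv_eq_iff_eq_mul]
    apply perm_ext
    intro i hi
    have h6 := Nat.eq_of_beq_eq_true (allB_spec h5 i hi)
    have h1 := genOf_pt CG CQ 48 h ha hi
    have h7 := genOf_pt KG KQ 48 hK ha h1.2
    have h8 := genOf_pt KG KQ 48 hK ha hi
    rw [Equiv.Perm.mul_apply, Equiv.Perm.mul_apply, h1.1, h7.1, h8.1, hB_pt h8.2, h6]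

theorem d5_sys : sysOK DG5 DQ5 48 = true := by decide +kernel
theorem d5_m24 : sysM24 DG5 48 = true := by decide +kernel
theorem d5_base : baseOK DG5 0 1 23 3 5 = true := by decide +kernel
theorem d5_keys : keysOK DG5 = true := by decide +kernel
theorem l5_sys : sysOK LG5 LQ5 48 = true := by decide +kernel
theorem l5_m24 : sysM24 LG5 48 = true := by decide +kernel
theorem l5_conj : conjOK3 DG5 LG5 UY5 = true := by decide +kernel

theorem d4_sys : sysOK DG4 DQ4 48 = true := by decide +kernel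
theorem d4_m24 : sysM24 DG4 48 = true := by decide +kernel
theorem d4_base : baseOK DG4 0 1 23 3 4 = true := by decide +kernel
theorem d4_keys : keysOK DG4 = true := by decide +kernel
theorem l4_sys : sysOK LG4 LQ4 48 = true := by decide +kernel
theorem l4_m24 : sysM24 LG4 48 = true := by decide +kernel
theorem l4_conj : conjOK3 DG4 LG4 UY4 = true := by decide +kernel

theorem conj_cube {g : Equiv.Perm GolayPt} (h3 : g * g * g = 1) (k : Equiv.Perm GolayPt) :
    (k * g * k⁻¹) * (k * g * k⁻¹) * (k * g * k⁻¹) = 1 := by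
  calc (k * g * k⁻¹) * (k * g * k⁻¹) * (k * g * k⁻¹) = k * (g * g * g) * k⁻¹ := by group
    _ = 1 := by rw [h3]; group

/-- an element of the group moving a point moves a further point, off a given point -/
theorem exists_moved_outside {g : Equiv.Perm GolayPt} (hg : g ∈ M24) {x : GolayPt}
    (hx : g x ≠ x) (y : GolayPt) : ∃ z, z ≠ x ∧ z ≠ g x ∧ z ≠ y ∧ g z ≠ z := by
  by_contra hcon
  push Not at hcon
  obtain ⟨o, hoc, ho8, hxo, hgxo⟩ := Leech.exists_octad_sep (g x) x hx
  have ho : o ∈ octads := (Octads.mem_oct o).2 ⟨hoc, ho8⟩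
  have hgo : g • o ∈ octads := (smul_mem_octads hg).2 ho
  have hsub : (o.erase x).erase y ⊆ o ∩ g • o := by
    intro z hz
    rw [Finset.mem_erase, Finset.mem_erase] at hz
    rw [Finset.mem_inter]
    refine ⟨hz.2.2, ?_⟩
    have hz2 : z ≠ g x := fun h => hgxo (h ▸ hz.2.2)
    have := hcon z hz.2.1 hz2 hz.1
    rw [← this]
    exact Finset.smul_mem_smul_finset hz.2.2
  have hc : 6 ≤ (o ∩ g • o).card := by
    have h1 := Finset.card_le_card hsub
    have h2 := Finset.pred_card_le_card_erase (s := o.erase x) (a := y)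
    rw [Finset.card_erase_of_mem hxo, ho8] at h2
    omega
  have heq : o = g • o := by
    by_contra hne
    rcases Octads.octad_inter ho hgo hne with h | h | h <;> omega
  apply hgxo
  rw [heq]
  exact Finset.smul_mem_smul_finset hxo

/-- every element of order 3 of the group is conjugate to one of the two standard elements -/
theorem ord3_class {g : Equiv.Perm GolayPt} (hg : g ∈ M24) (h3 : g * g * g = 1) (hne : g ≠ 1) :
    ∃ k ∈ M24, k * g * k⁻¹ = hA ∨ k * g * k⁻¹ = hB := by
  obtain ⟨x, hx⟩ : ∃ x, g x ≠ x := by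
    by_contra hcon
    push Not at hcon
    exact hne (Equiv.ext hcon)
  have hggg : ∀ p, g (g (g p)) = p := fun p => by
    have := congrArg (fun f : Equiv.Perm GolayPt => f p) h3
    exact this
  have hfix : ∀ p, g (g p) = p → g p = p := fun p h => by
    have := hggg p
    rw [h] at this; exact this
  obtain ⟨z, hzx, hzx1, hzx2, hz⟩ := exists_moved_outside hg hx (g (g x))
  have hgi : ∀ {a b : GolayPt}, g a = g b → a = b := fun h => g.injective h
  -- the five points x, g x, g (g x), z, g z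
  have h01 : x ≠ g x := fun h => hx h.symm
  have h02 : x ≠ g (g x) := fun h => hx (hfix x h.symm)
  have h03 : x ≠ z := fun h => hzx h.symm
  have h04 : x ≠ g z := fun h => hzx2 (hgi (by rw [hggg, ← h]))
  have h12 : g x ≠ g (g x) := fun h => hx (hgi h).symm
  have h13 : g x ≠ z := fun h => hzx1 h.symm
  have h14 : g x ≠ g z := fun h => hzx (hgi h).symm
  have h23 : g (g x) ≠ z := fun h => hzx2 h.symm
  have h24 : g (g x) ≠ g z := fun h => hzx1 (hgi h).symm
  have h34 : z ≠ g z := fun h => hz h.symm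
  obtain ⟨k, hk, k0, k1, k2, k3, k4⟩ := exists_std5 h01 h02 h03 h04 h12 h13 h14 h23 h24 h34
  have a0 : (k * g * k⁻¹) (pt 23) = pt 0 := by rw [← k0, conj_apply, k1]
  have a1 : (k * g * k⁻¹) (pt 0) = pt 1 := by rw [← k1, conj_apply, k2]
  have a2 : (k * g * k⁻¹) (pt 1) = pt 23 := by rw [← k2, conj_apply, hggg, k0]
  have a3 : (k * g * k⁻¹) (pt 2) = pt 3 := by rw [← k3, conj_apply, k4]
  have a4 : (k * g * k⁻¹) (pt 3) = k (g (g z)) := by rw [← k4, conj_apply]
  have q0 : k (g (g z)) ≠ pt 23 := by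
    rw [← k0]; intro h
    exact hzx1 (by rw [← hggg z, k.injective h])
  have q1 : k (g (g z)) ≠ pt 0 := by
    rw [← k1]; intro h
    exact h04 (hgi (k.injective h)).symm
  have q2 : k (g (g z)) ≠ pt 1 := by
    rw [← k2]; intro h
    exact h14 (hgi (k.injective h)).symm
  have q3 : k (g (g z)) ≠ pt 2 := by
    rw [← k3]; intro h
    exact hz (hfix z (k.injective h))
  have q4 : k (g (g z)) ≠ pt 3 := by
    rw [← k4]; intro h
    exact h34 (hgi (k.injective h)).symm
  obtain ⟨c, hc, hcq⟩ := std_q q0 q1 q2 q3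
  obtain ⟨hcM, c0, c1, c2, c3, c4⟩ := mem_G5_iff.1 hc
  have hM : c * (k * g * k⁻¹) * c⁻¹ ∈ M24 :=
    mul_mem (mul_mem hcM (mul_mem (mul_mem hk hg) (inv_mem hk))) (inv_mem hcM)
  have b0 : (c * (k * g * k⁻¹) * c⁻¹) (pt 23) = pt 0 := by
    have := conj_apply c (k * g * k⁻¹) (pt 23)
    rw [c0, a0, c1] at this; exact this
  have b1 : (c * (k * g * k⁻¹) * c⁻¹) (pt 0) = pt 1 := by
    have := conj_apply c (k * g * k⁻¹) (pt 0)
    rw [c1, a1, c2] at this; exact this
  have b2 : (c * (k * g * k⁻¹) * c⁻¹) (pt 1) = pt 23 := by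
    have := conj_apply c (k * g * k⁻¹) (pt 1)
    rw [c2, a2, c0] at this; exact this
  have b3 : (c * (k * g * k⁻¹) * c⁻¹) (pt 2) = pt 3 := by
    have := conj_apply c (k * g * k⁻¹) (pt 2)
    rw [c3, a3, c4] at this; exact this
  have b4 : (c * (k * g * k⁻¹) * c⁻¹) (pt 3) = c (k (g (g z))) := by
    have := conj_apply c (k * g * k⁻¹) (pt 3)
    rw [c4, a4] at this; exact this
  have hcb := conj_cube (conj_cube h3 k) c
  have hfin : ∀ k' ∈ M24, ∀ X : Equiv.Perm GolayPt,
      k' * (c * (k * g * k⁻¹) * c⁻¹) * k'⁻¹ = X → (k' * c * k) * g * (k' * c * k)⁻¹ = X := by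
    intro k' _ X e
    rw [← e]; group
  have hmem : ∀ k' ∈ M24, k' * c * k ∈ M24 := fun k' hk' => mul_mem (mul_mem hk' hcM) hk
  rcases hcq with hq | hq | hq
  · exfalso
    rw [← c4] at hq
    exact q4 (c.injective hq)
  · rw [hq] at b4
    obtain ⟨a, ha, e⟩ := coset_enum DG5 DQ5 d5_sys d5_m24 0 1 23 3 5 d5_base d5_keys hM b0 b1 b2 b3 b4
    rw [e] at hcb
    obtain ⟨k', hk', h'⟩ := coset_ord3 DG5 DQ5 LG5 LQ5 UY5 d5_sys l5_sys l5_m24 l5_conj ha hcb
    rw [← e] at h'
    exact ⟨k' * c * k, hmem k' hk', h'.imp (hfin k' hk' _) (hfin k' hk' _)⟩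
  · rw [hq] at b4
    obtain ⟨a, ha, e⟩ := coset_enum DG4 DQ4 d4_sys d4_m24 0 1 23 3 4 d4_base d4_keys hM b0 b1 b2 b3 b4
    rw [e] at hcb
    obtain ⟨k', hk', h'⟩ := coset_ord3 DG4 DQ4 LG4 LQ4 UY4 d4_sys l4_sys l4_m24 l4_conj ha hcb
    rw [← e] at h'
    exact ⟨k' * c * k, hmem k' hk', h'.imp (hfin k' hk' _) (hfin k' hk' _)⟩

end Cfsg.Agent.Helper28.Ord3
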