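import Mathlib
import Cfsg.Prelude.Def_SporadicCombinatorics
import Cfsg.Agent.Helper12.GolayMore
import Cfsg.Agent.Helper28.InvFix
import Cfsg.Agent.Helper28.Ord3

/-!
The octads, trios, sextets and dodecads mapped to themselves by an element of order 3 of the
group of the length-24 code; tools on the elements of order 3.
-/

set_option autoImplicit false

namespace Cfsg.Agent.Helper28.Ord3Fix

open Cfsg Cfsg.Agent.Helper12 Cfsg.Agent.Helper28.SxData Cfsg.Agent.Helper28.Sext
  Cfsg.Agent.Helper28.Trio Cfsg.Agent.Helper28.Ord3Data Cfsg.Agent.Helper28.Ord3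
  Cfsg.Agent.Helper28.InvFix Cfsg.Agent.Helper28.ClassTools
open scoped Pointwise

/-- the dodecad number `k` is mapped to itself -/
def dodFix (P k : ℕ) : Bool := Nat.beq (permMask P (get24 DA k)) (get24 DA k)

theorem ncard_fix_dod (P Q : ℕ) (h : permOK P Q = true) :
    {o : Finset GolayPt | o ∈ dodecads ∧ mkPerm P Q h • o = o}.ncard = cntB 2576 (dodFix P) := by
  apply ncard_eq_cntB DA_strictMono
  intro s
  show (s ∈ dodecads ∧ mkPerm P Q h • s = s) ↔ _
  constructor
  · rintro ⟨hs, hfix⟩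
    obtain ⟨k, hk, rfl⟩ := (mem_dodecads_iff s).1 hs
    refine ⟨k, hk, ?_, rfl⟩
    rw [smul_ofMask] at hfix
    rw [dodFix, Nat.beq_eq]
    exact ofMask_inj (permMask_lt h _) (get24_lt _ _) hfix
  · rintro ⟨k, hk, hf, rfl⟩
    refine ⟨(mem_dodecads_iff _).2 ⟨k, hk, rfl⟩, ?_⟩
    rw [dodFix, Nat.beq_eq] at hf
    rw [smul_ofMask, hf]

theorem kA_oct : cntB 759 (octFix JA) = 21 := by decide +kernel
theorem kA_tr : cntB 3795 (trFix JA) = 15 := by decide +kernel
theorem kA_sx : cntB 1771 (sxFix JA) = 16 := by decide +kernel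
theorem kA_dod : cntB 2576 (dodFix JA) = 20 := by decide +kernel
theorem kB_tr : cntB 3795 (trFix JB) = 15 := by decide +kernel
theorem kB_sx : cntB 1771 (sxFix JB) = 7 := by decide +kernel

theorem hA_counts :
    {o : Finset GolayPt | o ∈ octads ∧ hA • o = o}.ncard = 21 ∧
    {T : Finset (Finset GolayPt) | T ∈ trios ∧ hA • T = T}.ncard = 15 ∧
    {S : Finset (Finset GolayPt) | S ∈ sextets ∧ hA • S = S}.ncard = 16 ∧
    {d : Finset GolayPt | d ∈ dodecads ∧ hA • d = d}.ncard = 20 :=
  ⟨(ncard_fix_oct JA JAi hA_ok).trans kA_oct, (ncard_fix_tr JA JAi hA_ok hA_m24).trans kA_tr,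
    (ncard_fix_sx JA JAi hA_ok hA_m24).trans kA_sx, (ncard_fix_dod JA JAi hA_ok).trans kA_dod⟩

theorem hB_counts :
    {S : Finset (Finset GolayPt) | S ∈ sextets ∧ hB • S = S}.ncard = 7 ∧
    {T : Finset (Finset GolayPt) | T ∈ trios ∧ hB • T = T}.ncard = 15 :=
  ⟨(ncard_fix_sx JB JBi hB_ok hB_m24).trans kB_sx, (ncard_fix_tr JB JBi hB_ok hB_m24).trans kB_tr⟩

/-- an element of order 3 in terms of the cube -/
theorem cube_of_order {g : Equiv.Perm GolayPt} (h : orderOf g = 3) : g * g * g = 1 ∧ g ≠ 1 := by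
  constructor
  · have := pow_orderOf_eq_one g
    rw [h, pow_succ, pow_succ, pow_one] at this
    exact this
  · intro h1
    rw [h1, orderOf_one] at h
    exact absurd h (by norm_num)

theorem order_of_cube {g : Equiv.Perm GolayPt} (h : g * g * g = 1) (hne : g ≠ 1) :
    orderOf g = 3 := by
  have h3 : g ^ 3 = 1 := by rw [pow_succ, pow_succ, pow_one]; exact h
  exact orderOf_eq_prime h3 hne

/-- an element of order 3 with a fixed point is conjugate to `hA` -/
theorem conj_hA {g : Equiv.Perm GolayPt} (hg : g ∈ M24) (h3 : orderOf g = 3)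
    (hf : ¬ ∀ p, g p ≠ p) : ∃ k ∈ M24, k * g * k⁻¹ = hA := by
  obtain ⟨hcb, hne⟩ := cube_of_order h3
  obtain ⟨k, hk, h | h⟩ := ord3_class hg hcb hne
  · exact ⟨k, hk, h⟩
  · exfalso
    apply hf
    rw [← fpf_conj k g, h]
    exact hB_fpf

/-- an element of order 3 without fixed points is conjugate to `hB` -/
theorem conj_hB {g : Equiv.Perm GolayPt} (hg : g ∈ M24) (h3 : orderOf g = 3)
    (hf : ∀ p, g p ≠ p) : ∃ k ∈ M24, k * g * k⁻¹ = hB := by
  obtain ⟨hcb, hne⟩ := cube_of_order h3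
  obtain ⟨k, hk, h | h⟩ := ord3_class hg hcb hne
  · exfalso
    apply hA_not_fpf
    rw [← h, fpf_conj k g]
    exact hf
  · exact ⟨k, hk, h⟩

/-- an element of order 3 has six fixed points or none -/
theorem ord3_card_fix {g : Equiv.Perm GolayPt} (hg : g ∈ M24) (h3 : orderOf g = 3) :
    (Finset.univ.filter fun p => g p = p).card = 6 ∨
      (Finset.univ.filter fun p => g p = p).card = 0 := by
  by_cases hf : ∀ p, g p ≠ p
  · right
    rw [Finset.card_eq_zero, Finset.filter_eq_empty_iff]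
    intro p _
    exact hf p
  · left
    obtain ⟨k, hk, e⟩ := conj_hA hg h3 hf
    rw [← card_fix_conj k g, e]
    exact hA_card_fix

/-- the number of invariant members of an invariant family is a class invariant -/
theorem ncard_conj {X : Type*} [MulAction (Equiv.Perm GolayPt) X] (U : Set X)
    {k g g0 : Equiv.Perm GolayPt} (e : k * g * k⁻¹ = g0) (hU : ∀ x, k • x ∈ U ↔ x ∈ U) {n : ℕ}
    (h : {x : X | x ∈ U ∧ g0 • x = x}.ncard = n) : {x : X | x ∈ U ∧ g • x = x}.ncard = n := by
  subst e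
  rw [← h]
  exact (ncard_fix_conj U k g hU).symm

end Cfsg.Agent.Helper28.Ord3Fix
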