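import Mathlib
import Cfsg.Agent.Helper12.GolayMore
import Cfsg.Agent.Helper28.Ord3Fix

/-!
Commuting elements of orders 3 and 2 of the group of the length-24 code: an element of order 3
with a fixed point commutes with no fixed-point-free involution, and an element of order 3
commuting with an involution having a fixed point has a fixed point.
-/

set_option autoImplicit false

namespace Cfsg.Agent.Helper28.Ord3Inv

open Cfsg Cfsg.Agent.Helper12 Cfsg.Agent.Helper28.Coset Cfsg.Agent.Helper28.Ord3Data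
  Cfsg.Agent.Helper28.InvData Cfsg.Agent.Helper28.InvClass Cfsg.Agent.Helper28.Ord3
  Cfsg.Agent.Helper28.Ord3Fix Cfsg.Agent.Helper28.ClassTools
open scoped Pointwise

/-- a permutation with trivial cube of a set of size prime to 3 has a fixed point -/
theorem exists_fixed_of_card {x : Equiv.Perm GolayPt} (h3 : x * x * x = 1) (A : Finset GolayPt)
    (hA : ∀ p, p ∈ A ↔ x p ∈ A) (hc : ¬ 3 ∣ A.card) : ∃ p ∈ A, x p = p := by
  have : Fact (Nat.Prime 3) := ⟨by norm_num⟩
  have hσ : (x.subtypePerm (p := fun p => p ∈ A) (fun p => (hA p).symm)) ^ 3 ^ 1 = 1 := by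
    rw [pow_one]
    apply Equiv.ext
    intro a
    apply Subtype.ext
    have h := congrArg (fun f : Equiv.Perm GolayPt => f a.1) h3
    simp only [Equiv.Perm.mul_apply, Equiv.Perm.one_apply] at h
    simp only [pow_succ, pow_zero, one_mul, Equiv.Perm.mul_apply, Equiv.Perm.subtypePerm_apply,
      Equiv.Perm.one_apply]
    exact h
  obtain ⟨a, ha⟩ := Equiv.Perm.exists_fixed_point_of_prime (p := 3) (n := 1)
    (by rwa [Fintype.card_coe]) hσ
  exact ⟨a.1, a.2, congrArg Subtype.val ha⟩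

theorem c0_sys : sysOK CG0 CQ0 48 = true := by decide +kernel
theorem c0_m24 : sysM24 CG0 48 = true := by decide +kernel
theorem c0_base : baseOK CG0 23 0 1 2 3 = true := by decide +kernel
theorem c0_keys : keysOK CG0 = true := by decide +kernel

/-- the table has no fixed point -/
def fpfT (P : ℕ) : Bool := allB 24 (fun i => Nat.blt (get24 P i) i || Nat.blt i (get24 P i))
/-- the tables commute -/
def commT (P R : ℕ) : Bool := allB 24 (fun i => Nat.beq (get24 P (get24 R i)) (get24 R (get24 P i)))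
/-- the table is the identity -/
def isIdT (P : ℕ) : Bool := allB 24 (fun i => Nat.beq (get24 P i) i)

/-- no fixed-point-free table of the list commutes with a table of order 3 of the list of the
stabilizer of the five base points -/
def noComm (CG : ℕ) : Bool := allB 48 (fun a => bif fpfT (sub CG a) then
  allB 48 (fun b => bif isOrd3T (sub CG0 b) && commT (sub CG a) (sub CG0 b) then
    isIdT (sub CG0 b) else true) else true)

theorem k_noComm5 : noComm CG5 = true := by decide +kernel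
theorem k_noComm4 : noComm CG4 = true := by decide +kernel

theorem no_comm_aux (CG CQ : ℕ) (h : sysOK CG CQ 48 = true) (hn : noComm CG = true) {a b : ℕ}
    (ha : a < 48) (hb : b < 48) (hfpf : ∀ p, genOf CG CQ 48 h a p ≠ p)
    (h3 : genOf CG0 CQ0 48 c0_sys b * genOf CG0 CQ0 48 c0_sys b * genOf CG0 CQ0 48 c0_sys b = 1)
    (hc : genOf CG CQ 48 h a * genOf CG0 CQ0 48 c0_sys b
      = genOf CG0 CQ0 48 c0_sys b * genOf CG CQ 48 h a) :
    genOf CG0 CQ0 48 c0_sys b = 1 := by
  have h1 : fpfT (sub CG a) = true := by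
    apply allB_of
    intro i hi
    have hp := genOf_pt CG CQ 48 h ha hi
    have hne : get24 (sub CG a) i ≠ i := by
      intro e
      apply hfpf (pt i)
      rw [hp.1, e]
    rw [Bool.or_eq_true, Nat.blt_eq, Nat.blt_eq]
    omega
  have h2 : isOrd3T (sub CG0 b) = true := by
    apply allB_of
    intro i hi
    rw [Nat.beq_eq]
    have p1 := genOf_pt CG0 CQ0 48 c0_sys hb hi
    have p2 := genOf_pt CG0 CQ0 48 c0_sys hb p1.2
    have p3 := genOf_pt CG0 CQ0 48 c0_sys hb p2.2
    have h4 := congrArg (fun f : Equiv.Perm GolayPt => f (pt i)) h3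
    simp only [Equiv.Perm.mul_apply, Equiv.Perm.one_apply] at h4
    rw [p1.1, p2.1, p3.1] at h4
    exact pt_inj p3.2 hi h4
  have h5 : commT (sub CG a) (sub CG0 b) = true := by
    apply allB_of
    intro i hi
    rw [Nat.beq_eq]
    have p1 := genOf_pt CG0 CQ0 48 c0_sys hb hi
    have p2 := genOf_pt CG CQ 48 h ha p1.2
    have p3 := genOf_pt CG CQ 48 h ha hi
    have p4 := genOf_pt CG0 CQ0 48 c0_sys hb p3.2
    have h4 := congrArg (fun f : Equiv.Perm GolayPt => f (pt i)) hc
    simp only [Equiv.Perm.mul_apply] at h4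
    rw [p1.1, p2.1, p3.1, p4.1] at h4
    exact pt_inj p2.2 p4.2 h4
  have h6 := allB_spec hn a ha
  rw [h1, cond_true] at h6
  have h7 := allB_spec h6 b hb
  rw [h2, h5, Bool.and_self, cond_true] at h7
  apply perm_ext
  intro i hi
  have p1 := genOf_pt CG0 CQ0 48 c0_sys hb hi
  rw [p1.1, Nat.eq_of_beq_eq_true (allB_spec h7 i hi)]
  rfl

/-- a fixed-point-free involution commutes with no element of order 3 having a fixed point -/
theorem no_comm {x s : Equiv.Perm GolayPt} (hx : x ∈ M24) (hs : s ∈ M24) (h3 : orderOf x = 3)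
    (h2 : orderOf s = 2) (hc : x * s = s * x) (hfs : ∀ p, s p ≠ p) (hfx : ¬ ∀ p, x p ≠ p) :
    False := by
  obtain ⟨hcb, hne⟩ := cube_of_order h3
  obtain ⟨hsq, -⟩ := sq_of_order h2
  have hss : ∀ p, s (s p) = p := fun p => by
    have := congrArg (fun f : Equiv.Perm GolayPt => f p) hsq
    exact this
  have hxs : ∀ p, x (s p) = s (x p) := fun p => by
    have := congrArg (fun f : Equiv.Perm GolayPt => f p) hc
    exact this
  have hF6 : (Finset.univ.filter fun p => x p = p).card = 6 := by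
    rcases ord3_card_fix hx h3 with h | h
    · exact h
    · exfalso
      apply hfx
      rw [Finset.card_eq_zero, Finset.filter_eq_empty_iff] at h
      intro p; exact h (Finset.mem_univ p)
  have hmem : ∀ {p : GolayPt}, p ∈ (Finset.univ.filter fun p => x p = p) ↔ x p = p := by
    intro p; simp
  have hsF : ∀ {p : GolayPt}, x p = p → x (s p) = s p := fun {p} h => by rw [hxs, h]
  obtain ⟨f1, hf1⟩ : ∃ f1, x f1 = f1 := by
    by_contra hcon
    push Not at hcon
    exact hfx hcon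
  obtain ⟨f2, hf2, hf2n⟩ := Finset.exists_mem_notMem_of_card_lt_card
    (s := ({f1, s f1} : Finset GolayPt)) (t := Finset.univ.filter fun p => x p = p)
    (lt_of_le_of_lt Finset.card_le_two (by rw [hF6]; norm_num))
  rw [hmem] at hf2
  simp only [Finset.mem_insert, Finset.mem_singleton, not_or] at hf2n
  obtain ⟨n1, n2⟩ := hf2n
  obtain ⟨f3, hf3, hf3n⟩ := Finset.exists_mem_notMem_of_card_lt_card
    (s := ({f1, s f1, f2, s f2} : Finset GolayPt)) (t := Finset.univ.filter fun p => x p = p)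
    (lt_of_le_of_lt Finset.card_le_four (by rw [hF6]; norm_num))
  rw [hmem] at hf3
  simp only [Finset.mem_insert, Finset.mem_singleton, not_or] at hf3n
  obtain ⟨m1, m2, m3, m4⟩ := hf3n
  have hsi : ∀ {a b : GolayPt}, s a = s b → a = b := fun h => s.injective h
  have h01 : f1 ≠ s f1 := fun h => hfs f1 h.symm
  have h02 : f1 ≠ f2 := fun h => n1 h.symm
  have h03 : f1 ≠ s f2 := fun h => n2 (by rw [h, hss])
  have h04 : f1 ≠ f3 := fun h => m1 h.symm
  have h12 : s f1 ≠ f2 := fun h => n2 h.symm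
  have h13 : s f1 ≠ s f2 := fun h => n1 (hsi h).symm
  have h14 : s f1 ≠ f3 := fun h => m2 h.symm
  have h23 : f2 ≠ s f2 := fun h => hfs f2 h.symm
  have h24 : f2 ≠ f3 := fun h => m3 h.symm
  have h34 : s f2 ≠ f3 := fun h => m4 h.symm
  obtain ⟨k, hk, k0, k1, k2, k3, k4⟩ := exists_std5 h01 h02 h03 h04 h12 h13 h14 h23 h24 h34
  -- the conjugate of `x` fixes the five base points
  have xa0 : (k * x * k⁻¹) (pt 23) = pt 23 := by rw [← k0, conj_apply, hf1]
  have xa1 : (k * x * k⁻¹) (pt 0) = pt 0 := by rw [← k1, conj_apply, hsF hf1]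
  have xa2 : (k * x * k⁻¹) (pt 1) = pt 1 := by rw [← k2, conj_apply, hf2]
  have xa3 : (k * x * k⁻¹) (pt 2) = pt 2 := by rw [← k3, conj_apply, hsF hf2]
  have xa4 : (k * x * k⁻¹) (pt 3) = pt 3 := by rw [← k4, conj_apply, hf3]
  have hxM : k * x * k⁻¹ ∈ M24 := mul_mem (mul_mem hk hx) (inv_mem hk)
  have hxG : k * x * k⁻¹ ∈ SixPts.G5 := mem_G5_iff.2 ⟨hxM, xa0, xa1, xa2, xa3, xa4⟩
  -- the conjugate of `s`
  have a0 : (k * s * k⁻¹) (pt 23) = pt 0 := by rw [← k0, conj_apply, k1]
  have a1 : (k * s * k⁻¹) (pt 0) = pt 23 := by rw [← k1, conj_apply, hss, k0]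
  have a2 : (k * s * k⁻¹) (pt 1) = pt 2 := by rw [← k2, conj_apply, k3]
  have a3 : (k * s * k⁻¹) (pt 2) = pt 1 := by rw [← k3, conj_apply, hss, k2]
  have a4 : (k * s * k⁻¹) (pt 3) = k (s f3) := by rw [← k4, conj_apply]
  have q0 : k (s f3) ≠ pt 23 := by
    rw [← k0]; intro h; exact m2 (by rw [← k.injective h, hss])
  have q1 : k (s f3) ≠ pt 0 := by
    rw [← k1]; intro h; exact m1 (hsi (k.injective h))
  have q2 : k (s f3) ≠ pt 1 := by
    rw [← k2]; intro h; exact m4 (by rw [← k.injective h, hss])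
  have q3 : k (s f3) ≠ pt 2 := by
    rw [← k3]; intro h; exact m3 (hsi (k.injective h))
  have q4 : k (s f3) ≠ pt 3 := by
    rw [← k4]; intro h; exact hfs f3 (k.injective h)
  obtain ⟨c, hcG, hcq⟩ := std_q q0 q1 q2 q3
  obtain ⟨hcM, c0, c1, c2, c3, c4⟩ := mem_G5_iff.1 hcG
  have hsM : c * (k * s * k⁻¹) * c⁻¹ ∈ M24 :=
    mul_mem (mul_mem hcM (mul_mem (mul_mem hk hs) (inv_mem hk))) (inv_mem hcM)
  have b0 : (c * (k * s * k⁻¹) * c⁻¹) (pt 23) = pt 0 := by
    have := conj_apply c (k * s * k⁻¹) (pt 23)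
    rw [c0, a0, c1] at this; exact this
  have b1 : (c * (k * s * k⁻¹) * c⁻¹) (pt 0) = pt 23 := by
    have := conj_apply c (k * s * k⁻¹) (pt 0)
    rw [c1, a1, c0] at this; exact this
  have b2 : (c * (k * s * k⁻¹) * c⁻¹) (pt 1) = pt 2 := by
    have := conj_apply c (k * s * k⁻¹) (pt 1)
    rw [c2, a2, c3] at this; exact this
  have b3 : (c * (k * s * k⁻¹) * c⁻¹) (pt 2) = pt 1 := by
    have := conj_apply c (k * s * k⁻¹) (pt 2)
    rw [c3, a3, c2] at this; exact this
  have b4 : (c * (k * s * k⁻¹) * c⁻¹) (pt 3) = c (k (s f3)) := by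
    have := conj_apply c (k * s * k⁻¹) (pt 3)
    rw [c4, a4] at this; exact this
  -- the conjugate of `x` under `c`
  have hxG' : c * (k * x * k⁻¹) * c⁻¹ ∈ SixPts.G5 :=
    mul_mem (mul_mem hcG hxG) (inv_mem hcG)
  obtain ⟨hxM', d0, d1, d2, d3, d4⟩ := mem_G5_iff.1 hxG'
  obtain ⟨b, hb, eb⟩ := coset_enum CG0 CQ0 c0_sys c0_m24 23 0 1 2 3 c0_base c0_keys hxM' d0 d1 d2
    d3 d4
  have hcb' := conj_cube (conj_cube hcb k) c
  have hne' : c * (k * x * k⁻¹) * c⁻¹ ≠ 1 := by
    intro h
    apply hne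
    have : x = k⁻¹ * (c⁻¹ * (c * (k * x * k⁻¹) * c⁻¹) * c) * k := by group
    rw [this, h]; group
  have hfpf' : ∀ p, (c * (k * s * k⁻¹) * c⁻¹) p ≠ p :=
    (fpf_conj c _).2 ((fpf_conj k s).2 hfs)
  have hcomm : (c * (k * s * k⁻¹) * c⁻¹) * (c * (k * x * k⁻¹) * c⁻¹)
      = (c * (k * x * k⁻¹) * c⁻¹) * (c * (k * s * k⁻¹) * c⁻¹) := by
    calc (c * (k * s * k⁻¹) * c⁻¹) * (c * (k * x * k⁻¹) * c⁻¹)
        = c * (k * (s * x) * k⁻¹) * c⁻¹ := by group
      _ = c * (k * (x * s) * k⁻¹) * c⁻¹ := by rw [hc]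
      _ = (c * (k * x * k⁻¹) * c⁻¹) * (c * (k * s * k⁻¹) * c⁻¹) := by group
  rw [eb] at hcb' hne' hcomm
  rcases hcq with hq | hq | hq
  · rw [← c4] at hq
    exact q4 (c.injective hq)
  · rw [hq] at b4
    obtain ⟨a, ha, ea⟩ := coset_enum CG5 CQ5 c5_sys c5_m24 0 23 2 1 5 c5_base c5_keys hsM b0 b1 b2
      b3 b4
    rw [ea] at hfpf' hcomm
    exact hne' (no_comm_aux CG5 CQ5 c5_sys k_noComm5 ha hb hfpf' hcb' hcomm)
  · rw [hq] at b4
    obtain ⟨a, ha, ea⟩ := coset_enum CG4 CQ4 c4_sys c4_m24 0 23 2 1 4 c4_base c4_keys hsM b0 b1 b2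
      b3 b4
    rw [ea] at hfpf' hcomm
    exact hne' (no_comm_aux CG4 CQ4 c4_sys k_noComm4 ha hb hfpf' hcb' hcomm)

/-- commuting elements of orders 3 and 2: the numbers of fixed points -/
theorem comm_fix {x s : Equiv.Perm GolayPt} (hx : x ∈ M24) (hs : s ∈ M24) (h3 : orderOf x = 3)
    (h2 : orderOf s = 2) (hc : x * s = s * x) :
    ((Finset.univ.filter fun p => x p = p).card = 6 ∧
      (Finset.univ.filter fun p => s p = p).card = 8) ∨
    ((Finset.univ.filter fun p => x p = p).card = 0 ∧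
      (Finset.univ.filter fun p => s p = p).card = 0) := by
  have hzero : ∀ {g : Equiv.Perm GolayPt}, (∀ p, g p ≠ p) →
      (Finset.univ.filter fun p => g p = p).card = 0 := by
    intro g h
    rw [Finset.card_eq_zero, Finset.filter_eq_empty_iff]
    intro p _; exact h p
  by_cases hfs : ∀ p, s p ≠ p
  · right
    have hfx : ∀ p, x p ≠ p := by
      by_contra hfx
      exact no_comm hx hs h3 h2 hc hfs hfx
    exact ⟨hzero hfx, hzero hfs⟩
  · left
    obtain ⟨k, hk, e⟩ := conj_gA hs h2 hfs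
    have h8 : (Finset.univ.filter fun p => s p = p).card = 8 := by
      rw [← card_fix_conj k s, e]; exact gA_card_fix
    refine ⟨?_, h8⟩
    obtain ⟨hcb, -⟩ := cube_of_order h3
    have hxs : ∀ p, x (s p) = s (x p) := fun p => by
      have := congrArg (fun f : Equiv.Perm GolayPt => f p) hc
      exact this
    obtain ⟨p, -, hp⟩ := exists_fixed_of_card hcb (Finset.univ.filter fun p => s p = p)
      (by
        intro p
        simp only [Finset.mem_filter, Finset.mem_univ, true_and]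
        rw [← hxs]
        exact ⟨fun h => by rw [h], fun h => x.injective h⟩)
      (by rw [h8]; norm_num)
    rcases ord3_card_fix hx h3 with h | h
    · exact h
    · exfalso
      rw [Finset.card_eq_zero, Finset.filter_eq_empty_iff] at h
      exact h (Finset.mem_univ p) hp

end Cfsg.Agent.Helper28.Ord3Inv
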