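import Mathlib
import Cfsg.Prelude.Def_SporadicCombinatorics
import Cfsg.Agent.Helper12.GolayMore
import Cfsg.Agent.Helper28.Ord3Inv
import Cfsg.Agent.Helper28.InvFix
import Cfsg.Agent.Helper28.CentBData

/-!
The centralizer of the standard fixed-point-free involution `gB` of the group of the length-24
code: it has order 7680, is transitive on the 24 points and fixes a sextet.
-/

set_option autoImplicit false

namespace Cfsg.Agent.Helper28.CentB

open Cfsg Cfsg.Agent.Helper12 Cfsg.Agent.Helper28.Coset Cfsg.Agent.Helper28.Ord3Data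
  Cfsg.Agent.Helper28.InvData Cfsg.Agent.Helper28.InvClass Cfsg.Agent.Helper28.Ord3
  Cfsg.Agent.Helper28.Ord3Inv Cfsg.Agent.Helper28.ClassTools Cfsg.Agent.Helper28.Sext
  Cfsg.Agent.Helper28.SxData Cfsg.Agent.Helper28.CentBData
open scoped Pointwise

/-- the tables of a list with increasing keys are distinct -/
theorem genOf_inj (CG CQ : ℕ) (h : sysOK CG CQ 48 = true) (hk : keysOK CG = true) :
    ∀ a b, a < 48 → b < 48 → genOf CG CQ 48 h a = genOf CG CQ 48 h b → a = b := by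
  have hmono := Sext.mono_of_chain (f := keyOf CG) (n := 47) (fun k hk' => by
    have := allB_spec hk k hk'
    rw [Nat.blt_eq] at this
    exact this)
  intro a b ha hb' e
  have h5a := genOf_pt CG CQ 48 h ha (by norm_num : 5 < 24)
  have h5b := genOf_pt CG CQ 48 h hb' (by norm_num : 5 < 24)
  have h4a := genOf_pt CG CQ 48 h ha (by norm_num : 4 < 24)
  have h4b := genOf_pt CG CQ 48 h hb' (by norm_num : 4 < 24)
  have k5 : get24 (sub CG a) 5 = get24 (sub CG b) 5 := by
    apply pt_inj h5a.2 h5b.2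
    rw [← h5a.1, ← h5b.1, e]
  have k4 : get24 (sub CG a) 4 = get24 (sub CG b) 4 := by
    apply pt_inj h4a.2 h4b.2
    rw [← h4a.1, ← h4b.1, e]
  have hkey : keyOf CG a = keyOf CG b := by
    unfold keyOf; rw [k5, k4]
  by_contra hne
  rcases Nat.lt_or_gt_of_ne hne with hlt | hlt
  · have := hmono a b hlt hb'; omega
  · have := hmono b a hlt ha; omega

/-- commuting with a permutation given by a table -/
theorem comm_iff (GS QS ng : ℕ) (h : sysOK GS QS ng = true) {a : ℕ} (ha : a < ng) (P Q : ℕ)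
    (hP : permOK P Q = true) :
    genOf GS QS ng h a * mkPerm P Q hP = mkPerm P Q hP * genOf GS QS ng h a ↔
      commT (sub GS a) P = true := by
  constructor
  · intro hc
    apply allB_of
    intro i hi
    rw [Nat.beq_eq]
    have p1 := (permOK_spec hP hi).1
    have p2 := genOf_pt GS QS ng h ha p1
    have p3 := genOf_pt GS QS ng h ha hi
    have h4 := congrArg (fun f : Equiv.Perm GolayPt => f (pt i)) hc
    simp only [Equiv.Perm.mul_apply] at h4
    rw [mkPerm_pt _ _ _ hi, p2.1, p3.1, mkPerm_pt _ _ _ p3.2] at h4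
    exact pt_inj p2.2 (permOK_spec hP p3.2).1 h4
  · intro hc
    apply perm_ext
    intro i hi
    have p1 := (permOK_spec hP hi).1
    have p2 := genOf_pt GS QS ng h ha p1
    have p3 := genOf_pt GS QS ng h ha hi
    rw [Equiv.Perm.mul_apply, Equiv.Perm.mul_apply, mkPerm_pt _ _ _ hi, p2.1, p3.1,
      mkPerm_pt _ _ _ p3.2, Nat.eq_of_beq_eq_true (allB_spec hc i hi)]

/-- the centralizer of `gB` in the group -/
def CB : Subgroup (Equiv.Perm GolayPt) := M24 ⊓ Subgroup.centralizer {gB}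

theorem mem_CB {c : Equiv.Perm GolayPt} : c ∈ CB ↔ c ∈ M24 ∧ c * gB = gB * c := by
  rw [CB, Subgroup.mem_inf, Subgroup.mem_centralizer_iff]
  constructor
  · rintro ⟨h1, h2⟩; exact ⟨h1, (h2 gB rfl).symm⟩
  · rintro ⟨h1, h2⟩
    refine ⟨h1, ?_⟩
    intro x hx
    rw [Set.mem_singleton_iff] at hx
    rw [hx]; exact h2.symm

theorem comm_pt {c : Equiv.Perm GolayPt} (hc : c * gB = gB * c) (p : GolayPt) :
    c (gB p) = gB (c p) := by
  have := congrArg (fun f : Equiv.Perm GolayPt => f p) hc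
  exact this

/-! ## The invariant sextet -/

/-- all tetrads of the sextet number `k` are invariant -/
def allFix (P k : ℕ) : Bool := allB 6 (fun i => Nat.beq (permMask P (sxm k i)) (sxm k i))

theorem k_spec : allFix IB 1673 = true := by decide +kernel
theorem k_spec_unique : allB 1771 (fun k => bif allFix IB k then Nat.beq k 1673 else true) = true := by
  decide +kernel

theorem gB_tetrad {i : ℕ} (hi : i < 6) : gB • ofMask (sxm 1673 i) = ofMask (sxm 1673 i) := by
  have h := Nat.eq_of_beq_eq_true (allB_spec k_spec i hi)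
  have h1 : gB • ofMask (sxm 1673 i) = ofMask (permMask IB (sxm 1673 i)) := smul_ofMask _ _ _ _
  rw [h1, h]

/-- the centralizer of `gB` fixes the sextet number 1673 -/
theorem CB_sx {c : Equiv.Perm GolayPt} (hc : c ∈ CB) : c • sx 1673 = sx 1673 := by
  obtain ⟨hM, hcomm⟩ := mem_CB.1 hc
  obtain ⟨k', hk', e⟩ := (mem_sextets_iff _).1 (smul_sextet hM (sx_mem (by norm_num : 1673 < 1771)))
  have hfix : allFix IB k' = true := by
    apply allB_of
    intro i hi
    rw [Nat.beq_eq]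
    have h1 : ofMask (sxm k' i) ∈ c • sx 1673 := by rw [e]; exact mem_sx hi
    obtain ⟨t, ht, et⟩ := Finset.mem_smul_finset.1 h1
    rw [sx, mem_fam] at ht
    obtain ⟨j, hj, rfl⟩ := ht
    have h2 : gB • ofMask (sxm k' i) = ofMask (sxm k' i) := by
      rw [← et, ← mul_smul, ← hcomm, mul_smul, gB_tetrad hj]
    have h3 : gB • ofMask (sxm k' i) = ofMask (permMask IB (sxm k' i)) := smul_ofMask _ _ _ _
    rw [h3] at h2
    exact ofMask_inj (permMask_lt gB_ok _) (sxm_lt _ _) h2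
  have h4 := allB_spec k_spec_unique k' hk'
  rw [hfix, cond_true, Nat.beq_eq] at h4
  rw [e, h4]

/-- a permutation fixing a sextet and a point fixes the tetrad of the point -/
theorem tetrad_fix {c : Equiv.Perm GolayPt} {k : ℕ} (hk : k < 1771) (hc : c • sx k = sx k) {i : ℕ}
    (hi : i < 6) {p : GolayPt} (hp : p ∈ ofMask (sxm k i)) (hcp : c p = p) :
    c • ofMask (sxm k i) = ofMask (sxm k i) := by
  have h1 : c • ofMask (sxm k i) ∈ sx k := by
    have : c • ofMask (sxm k i) ∈ c • sx k := Finset.smul_mem_smul_finset (mem_sx hi)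
    rwa [hc] at this
  by_contra hne
  have hd := sextet_disj (sx_mem hk) h1 (mem_sx hi) hne
  have h2 : p ∈ c • ofMask (sxm k i) := by
    have : c • p ∈ c • ofMask (sxm k i) := Finset.smul_mem_smul_finset hp
    rwa [Equiv.Perm.smul_def, hcp] at this
  exact Finset.disjoint_left.1 hd h2 hp

theorem mem_of_tetrad_fix {c : Equiv.Perm GolayPt} {m : ℕ} (hc : c • ofMask m = ofMask m)
    (q : GolayPt) : c q ∈ ofMask m ↔ q ∈ ofMask m := by
  constructor
  · intro h
    rw [← hc] at h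
    obtain ⟨r, hr, e⟩ := Finset.mem_smul_finset.1 h
    rw [Equiv.Perm.smul_def] at e
    rw [← c.injective e]; exact hr
  · intro h
    have : c • q ∈ c • ofMask m := Finset.smul_mem_smul_finset h
    rwa [hc] at this

/-! ## Elements of the centralizer -/

theorem x_sys : sysOK XG XQ 49 = true := by decide +kernel
theorem x_m24 : sysM24 XG 49 = true := by decide +kernel

/-- the mask of the tetrad of the point 23 -/
def M0 : ℕ := 0x824001

theorem k_e : allB 24 (fun i => commT (sub XG i) IB && Nat.beq (get24 (sub XG i) 23) i) = true := by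
  decide +kernel
theorem k_f : allB 24 (fun q => bif tb M0 q then true else
    (commT (sub XG (Nat.add 24 q)) IB && Nat.beq (get24 (sub XG (Nat.add 24 q)) 23) 23 &&
      Nat.beq (get24 (sub XG (Nat.add 24 q)) 1) q)) = true := by decide +kernel
theorem k_h : (commT (sub XG 48) IB && Nat.beq (get24 (sub XG 48) 23) 23 &&
    Nat.beq (get24 (sub XG 48) 1) 1 && Nat.beq (get24 (sub XG 48) 3) 5) = true := by
  decide +kernel

theorem x_mem {a : ℕ} (ha : a < 49) (hc : commT (sub XG a) IB = true) :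
    genOf XG XQ 49 x_sys a ∈ CB :=
  mem_CB.2 ⟨genOf_mem_M24 XG XQ 49 x_sys x_m24 a, (comm_iff XG XQ 49 x_sys ha IB IB gB_ok).2 hc⟩

theorem orb0 (q : GolayPt) : q ∈ (Finset.univ : Finset GolayPt) ↔ ∃ c ∈ CB, c (pt 23) = q := by
  refine ⟨fun _ => ?_, fun _ => Finset.mem_univ q⟩
  have hi := idx_lt q
  have h1 := allB_spec k_e (idx q) hi
  rw [Bool.and_eq_true, Nat.beq_eq] at h1
  refine ⟨genOf XG XQ 49 x_sys (idx q), x_mem (by omega) h1.1, ?_⟩
  rw [(genOf_pt XG XQ 49 x_sys (by omega : idx q < 49) (by norm_num : 23 < 24)).1, h1.2, pt_idx]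

theorem gB23 : gB (pt 23) = pt 0 := by
  rw [gB_pt (by norm_num)]
  have : get24 IB 23 = 0 := by decide +kernel
  rw [this]
theorem gB1 : gB (pt 1) = pt 2 := by
  rw [gB_pt (by norm_num)]
  have : get24 IB 1 = 2 := by decide +kernel
  rw [this]

theorem k_M0 : sxm 1673 0 = M0 ∧ sxm 1673 1 = 0x2e := by decide +kernel

theorem pt23_mem : pt 23 ∈ ofMask (sxm 1673 0) := by
  rw [pt_mem_ofMask (by norm_num)]; decide +kernel
theorem pt1_mem : pt 1 ∈ ofMask (sxm 1673 1) := by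
  rw [pt_mem_ofMask (by norm_num)]; decide +kernel

/-- the stabilizer of the point 23 in the centralizer -/
def K1 : Subgroup (Equiv.Perm GolayPt) := CB ⊓ MulAction.stabilizer (Equiv.Perm GolayPt) (pt 23)
def K2 : Subgroup (Equiv.Perm GolayPt) := K1 ⊓ MulAction.stabilizer (Equiv.Perm GolayPt) (pt 1)
def K3 : Subgroup (Equiv.Perm GolayPt) := K2 ⊓ MulAction.stabilizer (Equiv.Perm GolayPt) (pt 3)

theorem mem_K1 {c : Equiv.Perm GolayPt} : c ∈ K1 ↔ c ∈ CB ∧ c (pt 23) = pt 23 := Iff.rfl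
theorem mem_K2 {c : Equiv.Perm GolayPt} : c ∈ K2 ↔ c ∈ K1 ∧ c (pt 1) = pt 1 := Iff.rfl
theorem mem_K3 {c : Equiv.Perm GolayPt} : c ∈ K3 ↔ c ∈ K2 ∧ c (pt 3) = pt 3 := Iff.rfl

theorem orb1 (q : GolayPt) :
    q ∈ (Finset.univ \ ofMask M0 : Finset GolayPt) ↔ ∃ c ∈ K1, c (pt 1) = q := by
  rw [Finset.mem_sdiff]
  constructor
  · rintro ⟨-, hq⟩
    have hi := idx_lt q
    have h1 := allB_spec k_f (idx q) hi
    have h2 : tb M0 (idx q) = false := by
      rw [mem_ofMask, ← tb_eq] at hq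
      simpa using hq
    rw [h2, cond_false, Bool.and_eq_true, Bool.and_eq_true, Nat.beq_eq, Nat.beq_eq] at h1
    have ha : Nat.add 24 (idx q) < 49 := by show 24 + idx q < 49; omega
    refine ⟨genOf XG XQ 49 x_sys (Nat.add 24 (idx q)), mem_K1.2 ⟨x_mem ha h1.1.1, ?_⟩, ?_⟩
    · rw [(genOf_pt XG XQ 49 x_sys ha (by norm_num : 23 < 24)).1, h1.1.2]
    · rw [(genOf_pt XG XQ 49 x_sys ha (by norm_num : 1 < 24)).1, h1.2, pt_idx]
  · rintro ⟨c, hcK, rfl⟩
    obtain ⟨hc, h23⟩ := mem_K1.1 hcK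
    refine ⟨Finset.mem_univ _, ?_⟩
    have h3 := tetrad_fix (by norm_num : 1673 < 1771) (CB_sx hc) (by norm_num : 0 < 6) pt23_mem h23
    rw [k_M0.1] at h3
    rw [mem_of_tetrad_fix h3, pt_mem_ofMask (by norm_num)]
    decide +kernel

theorem orb3 (q : GolayPt) :
    q ∈ ({pt 3, pt 5} : Finset GolayPt) ↔ ∃ c ∈ K2, c (pt 3) = q := by
  rw [Finset.mem_insert, Finset.mem_singleton]
  constructor
  · rintro (rfl | rfl)
    · exact ⟨1, one_mem _, rfl⟩
    · have h1 := k_h
      rw [Bool.and_eq_true, Bool.and_eq_true, Bool.and_eq_true, Nat.beq_eq, Nat.beq_eq,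
        Nat.beq_eq] at h1
      obtain ⟨⟨⟨h1, h2⟩, h3⟩, h4⟩ := h1
      refine ⟨genOf XG XQ 49 x_sys 48, mem_K2.2 ⟨mem_K1.2 ⟨x_mem (by norm_num) h1, ?_⟩, ?_⟩, ?_⟩
      · rw [(genOf_pt XG XQ 49 x_sys (by norm_num : 48 < 49) (by norm_num : 23 < 24)).1, h2]
      · rw [(genOf_pt XG XQ 49 x_sys (by norm_num : 48 < 49) (by norm_num : 1 < 24)).1, h3]
      · rw [(genOf_pt XG XQ 49 x_sys (by norm_num : 48 < 49) (by norm_num : 3 < 24)).1, h4]
  · rintro ⟨c, hcK, rfl⟩
    obtain ⟨hK1, h1⟩ := mem_K2.1 hcK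
    obtain ⟨hc, h23⟩ := mem_K1.1 hK1
    have h3 := tetrad_fix (by norm_num : 1673 < 1771) (CB_sx hc) (by norm_num : 1 < 6) pt1_mem h1
    rw [k_M0.2] at h3
    have h4 : c (pt 3) ∈ ofMask 0x2e := by
      rw [mem_of_tetrad_fix h3, pt_mem_ofMask (by norm_num)]
      decide +kernel
    have h2 : c (pt 2) = pt 2 := by
      rw [← gB1, comm_pt (mem_CB.1 hc).2, h1]
    rw [mem_ofMask] at h4
    have hi := idx_lt (c (pt 3))
    have hcases : ∀ i, i < 24 → (0x2e : ℕ).testBit i = true → i = 1 ∨ i = 2 ∨ i = 3 ∨ i = 5 := by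
      decide
    have hp := pt_idx (c (pt 3))
    rcases hcases _ hi h4 with e | e | e | e
    · exfalso
      rw [e] at hp
      have : c (pt 3) = c (pt 1) := by rw [h1, ← hp]
      have := pt_inj (by norm_num : 3 < 24) (by norm_num : 1 < 24) (c.injective this)
      omega
    · exfalso
      rw [e] at hp
      have : c (pt 3) = c (pt 2) := by rw [h2, ← hp]
      have := pt_inj (by norm_num : 3 < 24) (by norm_num : 2 < 24) (c.injective this)
      omega
    · left; rw [← hp, e]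
    · right; rw [← hp, e]

theorem k_cnt : cntB 48 (fun a => commT (sub CG0 a) IB) = 8 := by decide +kernel

theorem card_K3 : Nat.card ↥K3 = 8 := by
  have h1 : Nat.card ↥K3 = (K3 : Set (Equiv.Perm GolayPt)).ncard := by
    rw [← Nat.card_coe_set_eq]; rfl
  rw [h1, ← k_cnt]
  apply ncard_eq_cnt (fun a => genOf CG0 CQ0 48 c0_sys a) 48 (genOf_inj CG0 CQ0 c0_sys c0_keys)
  intro s
  rw [SetLike.mem_coe]
  have hbase : ∀ a, a < 48 → genOf CG0 CQ0 48 c0_sys a (pt 23) = pt 23 ∧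
      genOf CG0 CQ0 48 c0_sys a (pt 1) = pt 1 ∧ genOf CG0 CQ0 48 c0_sys a (pt 3) = pt 3 := by
    intro a ha
    have h1 := allB_spec c0_base a ha
    simp only [Bool.and_eq_true, Nat.beq_eq] at h1
    obtain ⟨⟨⟨⟨a0, a1⟩, a2⟩, a3⟩, a4⟩ := h1
    refine ⟨?_, ?_, ?_⟩
    · rw [(genOf_pt CG0 CQ0 48 c0_sys ha (by norm_num)).1, a0]
    · rw [(genOf_pt CG0 CQ0 48 c0_sys ha (by norm_num)).1, a2]
    · rw [(genOf_pt CG0 CQ0 48 c0_sys ha (by norm_num)).1, a4]
  constructor
  · intro hs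
    obtain ⟨hK2, h3⟩ := mem_K3.1 hs
    obtain ⟨hK1, h1⟩ := mem_K2.1 hK2
    obtain ⟨hc, h23⟩ := mem_K1.1 hK1
    obtain ⟨hM, hcomm⟩ := mem_CB.1 hc
    have h0 : s (pt 0) = pt 0 := by rw [← gB23, comm_pt hcomm, h23]
    have h2 : s (pt 2) = pt 2 := by rw [← gB1, comm_pt hcomm, h1]
    obtain ⟨a, ha, e⟩ := coset_enum CG0 CQ0 c0_sys c0_m24 23 0 1 2 3 c0_base c0_keys hM h23 h0 h1
      h2 h3
    refine ⟨a, ha, ?_, e⟩
    rw [e] at hcomm
    exact (comm_iff CG0 CQ0 48 c0_sys ha IB IB gB_ok).1 hcomm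
  · rintro ⟨a, ha, hf, rfl⟩
    obtain ⟨b23, b1, b3⟩ := hbase a ha
    exact mem_K3.2 ⟨mem_K2.2 ⟨mem_K1.2 ⟨mem_CB.2 ⟨genOf_mem_M24 CG0 CQ0 48 c0_sys c0_m24 a,
      (comm_iff CG0 CQ0 48 c0_sys ha IB IB gB_ok).2 hf⟩, b23⟩, b1⟩, b3⟩

/-- the order of a permutation group in terms of an orbit and a stabilizer -/
theorem card_eq_orbit_mul (K : Subgroup (Equiv.Perm GolayPt)) (p : GolayPt) (O : Finset GolayPt)
    (hO : ∀ q, q ∈ O ↔ ∃ c ∈ K, c p = q) :
    Nat.card K = O.card * Nat.card ↥(K ⊓ MulAction.stabilizer (Equiv.Perm GolayPt) p) := by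
  have h1 := Subgroup.card_mul_index (MulAction.stabilizer ↥K p)
  have h2 : (MulAction.stabilizer ↥K p).index = O.card := by
    have : MulAction.orbit ↥K p = ↑O := by
      ext q
      rw [Finset.mem_coe, hO, MulAction.mem_orbit_iff]
      constructor
      · rintro ⟨c, rfl⟩; exact ⟨c.1, c.2, rfl⟩
      · rintro ⟨c, hc, rfl⟩; exact ⟨⟨c, hc⟩, rfl⟩
    rw [MulAction.index_stabilizer, this, Set.ncard_coe_finset]
  have h3 : Nat.card (MulAction.stabilizer ↥K p) =
      Nat.card ↥(K ⊓ MulAction.stabilizer (Equiv.Perm GolayPt) p) := by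
    apply Nat.card_congr
    exact { toFun := fun x => ⟨x.1.1, ⟨x.1.2, x.2⟩⟩
            invFun := fun y => ⟨⟨y.1, y.2.1⟩, y.2.2⟩
            left_inv := fun _ => rfl
            right_inv := fun _ => rfl }
  rw [← h1, h2, h3, mul_comm]

theorem card_CB : Nat.card ↥CB = 7680 := by
  have e1 := card_eq_orbit_mul CB (pt 23) Finset.univ orb0
  have e2 := card_eq_orbit_mul K1 (pt 1) (Finset.univ \ ofMask M0) orb1
  have e3 := card_eq_orbit_mul K2 (pt 3) {pt 3, pt 5} orb3
  have c1 : (Finset.univ : Finset GolayPt).card = 24 := by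
    rw [Finset.card_univ]; exact Leech.card_pts
  have c2 : (Finset.univ \ ofMask M0 : Finset GolayPt).card = 20 := by
    rw [← Finset.compl_eq_univ_sdiff, Finset.card_compl, Leech.card_pts, card_ofMask]
    decide +kernel
  have c3 : ({pt 3, pt 5} : Finset GolayPt).card = 2 := by
    rw [Finset.card_pair]
    intro h
    have := pt_inj (by norm_num : 3 < 24) (by norm_num : 5 < 24) h
    omega
  have e4 : Nat.card ↥K3 = 8 := card_K3
  rw [c1] at e1
  rw [c2] at e2
  rw [c3] at e3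
  have e1' : Nat.card ↥CB = 24 * Nat.card ↥K1 := e1
  have e2' : Nat.card ↥K1 = 20 * Nat.card ↥K2 := e2
  have e3' : Nat.card ↥K2 = 2 * Nat.card ↥K3 := e3
  rw [e1', e2', e3', e4]

/-- the centralizer of `gB` is transitive on the points -/
theorem CB_trans (p q : GolayPt) : ∃ c ∈ CB, c p = q := by
  obtain ⟨c1, hc1, e1⟩ := (orb0 p).1 (Finset.mem_univ p)
  obtain ⟨c2, hc2, e2⟩ := (orb0 q).1 (Finset.mem_univ q)
  refine ⟨c2 * c1⁻¹, mul_mem hc2 (inv_mem hc1), ?_⟩
  rw [Equiv.Perm.mul_apply, ← e1, ← e2]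
  simp

end Cfsg.Agent.Helper28.CentB
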