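import Cfsg.Agent.Helper28.FiaA

/-! # The Fi₂₂ presentation, cosets of the subgroup generated by a, c, d, e, f, g, h, i, (abcdeh)⁵: the coset enumeration, part 0 (helper28; generated) -/

set_option autoImplicit false

noncomputable section

namespace Cfsg.Agent.Helper28.FiaA

open Cfsg.Agent.Helper28.CosetTable

def N1 : Q := sm gb N0
def N2 : Q := sm ga N1
def N3 : Q := sm gc N1
def N4 : Q := sm gc N2
def N5 : Q := sm gd N3
def N6 : Q := sm gb N4
def N7 : Q := sm gd N4
def N8 : Q := sm ge N5
def N9 : Q := sm gh N5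
def N10 : Q := sm gd N6
def N11 : Q := sm ge N7
def N12 : Q := sm gh N7
def N13 : Q := sm gf N8
def N14 : Q := sm gh N8
def N15 : Q := sm gi N9
def N16 : Q := sm gc N10
def N17 : Q := sm ge N10
def N18 : Q := sm gh N10
def N19 : Q := sm gf N11
def N20 : Q := sm gh N11
def N21 : Q := sm gi N12
def N22 : Q := sm gg N13
def N23 : Q := sm gh N13
def N24 : Q := sm gd N14
def N25 : Q := sm gi N14
def N26 : Q := sm ge N16
def N27 : Q := sm gh N16
def N28 : Q := sm gf N17
def N29 : Q := sm gh N17
def N30 : Q := sm gi N18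
def N31 : Q := sm gg N19
def N32 : Q := sm gh N19
def N33 : Q := sm gd N20
def N34 : Q := sm gi N20
def N35 : Q := sm gh N22
def N36 : Q := sm gd N23
def N37 : Q := sm gi N23
def N38 : Q := sm gc N24
def N39 : Q := sm gi N24
def N40 : Q := sm gd N26
def N41 : Q := sm gf N26
def N42 : Q := sm gh N26
def N43 : Q := sm gd N27
def N44 : Q := sm gi N27
def N45 : Q := sm gg N28
def N46 : Q := sm gh N28
def N47 : Q := sm gd N29
def N48 : Q := sm gi N29
def N49 : Q := sm gh N31
def N50 : Q := sm gd N32
def N51 : Q := sm gi N32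
def N52 : Q := sm gc N33
def N53 : Q := sm gi N33
def N54 : Q := sm gd N35
def N55 : Q := sm gi N35
def N56 : Q := sm gc N36
def N57 : Q := sm ge N36
def N58 : Q := sm gi N36
def N59 : Q := sm gb N38
def N60 : Q := sm gi N38
def N61 : Q := sm gh N39
def N62 : Q := sm gf N40
def N63 : Q := sm gg N41
def N64 : Q := sm gh N41
def N65 : Q := sm gi N42
def N66 : Q := sm gi N43
def N67 : Q := sm gh N45
def N68 : Q := sm gd N46
def N69 : Q := sm gi N46
def N70 : Q := sm gi N47
def N71 : Q := sm gd N49
def N72 : Q := sm gi N49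
def N73 : Q := sm gc N50
def N74 : Q := sm ge N50
def N75 : Q := sm gi N50
def N76 : Q := sm gi N52
def N77 : Q := sm gh N53
def N78 : Q := sm gc N54
def N79 : Q := sm ge N54
def N80 : Q := sm gi N54
def N81 : Q := sm gb N56
def N82 : Q := sm ge N56
def N83 : Q := sm gi N56
def N84 : Q := sm gi N57
def N85 : Q := sm gh N58
def N86 : Q := sm gi N59
def N87 : Q := sm gh N60
def N88 : Q := sm ge N62
def N89 : Q := sm gg N62
def N90 : Q := sm gh N63
def N91 : Q := sm gi N64
def N92 : Q := sm gh N66
def N93 : Q := sm gd N67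
def N94 : Q := sm gi N67
def N95 : Q := sm ge N68
def N96 : Q := sm gi N68
def N97 : Q := sm gh N70
def N98 : Q := sm gc N71
def N99 : Q := sm ge N71
def N100 : Q := sm gi N71
def N101 : Q := sm ge N73
def N102 : Q := sm gi N73
def N103 : Q := sm gi N74
def N104 : Q := sm gh N75
def N105 : Q := sm gh N76
def N106 : Q := sm gb N78
def N107 : Q := sm ge N78
def N108 : Q := sm gi N78
def N109 : Q := sm gf N79
def N110 : Q := sm gi N79
def N111 : Q := sm gh N80
def N112 : Q := sm ge N81
def N113 : Q := sm gi N81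
def N114 : Q := sm gd N82
def N115 : Q := sm gi N82
def N116 : Q := sm gh N83
def N117 : Q := sm gh N84
def N118 : Q := sm gh N86
def N119 : Q := sm gd N87
def N120 : Q := sm gg N88
def N121 : Q := sm gi N90
def N122 : Q := sm ge N93
def N123 : Q := sm gi N93
def N124 : Q := sm gi N95
def N125 : Q := sm gh N96
def N126 : Q := sm ge N98
def N127 : Q := sm gi N98
def N128 : Q := sm gf N99
def N129 : Q := sm gi N99
def N130 : Q := sm gh N100
def N131 : Q := sm gd N101
def N132 : Q := sm gi N101
def N133 : Q := sm gh N102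
def N134 : Q := sm gh N103
def N135 : Q := sm gd N105
def N136 : Q := sm ge N106
def N137 : Q := sm gi N106
def N138 : Q := sm gd N107
def N139 : Q := sm gf N107
def N140 : Q := sm gi N107
def N141 : Q := sm gh N108
def N142 : Q := sm gi N109
def N143 : Q := sm gh N110
def N144 : Q := sm gd N112
def N145 : Q := sm gi N112
def N146 : Q := sm gh N113
def N147 : Q := sm gh N114
def N148 : Q := sm gi N114
def N149 : Q := sm gh N115
def N150 : Q := sm gd N116
def N151 : Q := sm gd N117
def N152 : Q := sm gd N118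
def N153 : Q := sm ge N119
def N154 : Q := sm gf N120
def N155 : Q := sm gf N122
def N156 : Q := sm gi N122
def N157 : Q := sm gh N123
def N158 : Q := sm gh N124
def N159 : Q := sm gd N126
def N160 : Q := sm gf N126
def N161 : Q := sm gi N126
def N162 : Q := sm gh N127
def N163 : Q := sm gi N128
def N164 : Q := sm gh N129
def N165 : Q := sm gh N131
def N166 : Q := sm gi N131
def N167 : Q := sm gh N132
def N168 : Q := sm gd N133
def N169 : Q := sm gd N134
def N170 : Q := sm ge N135
def N171 : Q := sm gd N136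
def N172 : Q := sm gf N136
def N173 : Q := sm gi N136
def N174 : Q := sm gh N137
def N175 : Q := sm gf N138
def N176 : Q := sm gh N138
def N177 : Q := sm gi N138
def N178 : Q := sm gi N139
def N179 : Q := sm gh N140
def N180 : Q := sm gd N141
def N181 : Q := sm gh N142
def N182 : Q := sm gd N143
def N183 : Q := sm gc N144
def N184 : Q := sm gh N144
def N185 : Q := sm gi N144
def N186 : Q := sm gh N145
def N187 : Q := sm gd N146
def N188 : Q := sm gi N147
def N189 : Q := sm gh N148
def N190 : Q := sm gd N149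
def N191 : Q := sm ge N150
def N192 : Q := sm gc N151
def N193 : Q := sm gc N152
def N194 : Q := sm ge N152
def N195 : Q := sm gf N153
def N196 : Q := sm gi N155
def N197 : Q := sm gh N156
def N198 : Q := sm gd N158
def N199 : Q := sm gf N159
def N200 : Q := sm gh N159
def N201 : Q := sm gi N159
def N202 : Q := sm gi N160
def N203 : Q := sm gh N161
def N204 : Q := sm gd N162
def N205 : Q := sm gh N163
def N206 : Q := sm gd N164
def N207 : Q := sm gi N165
def N208 : Q := sm gh N166
def N209 : Q := sm gd N167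
def N210 : Q := sm ge N168
def N211 : Q := sm gc N169
def N212 : Q := sm gf N170
def N213 : Q := sm gc N171
def N214 : Q := sm gf N171
def N215 : Q := sm gh N171
def N216 : Q := sm gi N171
def N217 : Q := sm gi N172
def N218 : Q := sm gh N173
def N219 : Q := sm gd N174
def N220 : Q := sm ge N175
def N221 : Q := sm gh N175
def N222 : Q := sm gi N175
def N223 : Q := sm gi N176
def N224 : Q := sm gh N177
def N225 : Q := sm gh N178
def N226 : Q := sm gd N179
def N227 : Q := sm ge N180
def N228 : Q := sm gd N181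
def N229 : Q := sm gc N182
def N230 : Q := sm gh N183
def N231 : Q := sm gi N183
def N232 : Q := sm gi N184
def N233 : Q := sm gh N185
def N234 : Q := sm gd N186
def N235 : Q := sm gc N187
def N236 : Q := sm ge N187
def N237 : Q := sm gh N188
def N238 : Q := sm gd N189
def N239 : Q := sm gc N190
def N240 : Q := sm ge N190
def N241 : Q := sm gf N191
def N242 : Q := sm gb N192
def N243 : Q := sm ge N193
def N244 : Q := sm gf N194
def N245 : Q := sm gg N195
def N246 : Q := sm gh N196
def N247 : Q := sm gd N197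
def N248 : Q := sm gc N198
def N249 : Q := sm ge N199
def N250 : Q := sm gh N199
def N251 : Q := sm gi N199
def N252 : Q := sm gi N200
def N253 : Q := sm gh N201
def N254 : Q := sm gh N202
def N255 : Q := sm gd N203
def N256 : Q := sm ge N204
def N257 : Q := sm gd N205
def N258 : Q := sm gc N206
def N259 : Q := sm gh N207
def N260 : Q := sm gd N208
def N261 : Q := sm gc N209
def N262 : Q := sm ge N209
def N263 : Q := sm gf N210
def N264 : Q := sm gb N211
def N265 : Q := sm gg N212
def N266 : Q := sm gf N213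
def N267 : Q := sm gh N213
def N268 : Q := sm gi N213
def N269 : Q := sm ge N214
def N270 : Q := sm gh N214
def N271 : Q := sm gi N214
def N272 : Q := sm gi N215
def N273 : Q := sm gh N216
def N274 : Q := sm gh N217
def N275 : Q := sm gd N218
def N276 : Q := sm gc N219
def N277 : Q := sm ge N219
def N278 : Q := sm gh N220
def N279 : Q := sm gi N220
def N280 : Q := sm gi N221
def N281 : Q := sm gh N222
def N282 : Q := sm gh N223
def N283 : Q := sm gd N224
def N284 : Q := sm gd N225
def N285 : Q := sm gc N226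
def N286 : Q := sm ge N226
def N287 : Q := sm gf N227
def N288 : Q := sm gc N228
def N289 : Q := sm ge N228
def N290 : Q := sm gb N229
def N291 : Q := sm gd N230
def N292 : Q := sm gi N230
def N293 : Q := sm gh N231
def N294 : Q := sm gh N232
def N295 : Q := sm gd N233
def N296 : Q := sm gc N234
def N297 : Q := sm ge N234
def N298 : Q := sm ge N235
def N299 : Q := sm gf N236
def N300 : Q := sm gd N237
def N301 : Q := sm gc N238
def N302 : Q := sm ge N238
def N303 : Q := sm gb N239
def N304 : Q := sm ge N239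
def N305 : Q := sm gf N240
def N306 : Q := sm gg N241
def N307 : Q := sm ga N242
def N308 : Q := sm gd N243
def N309 : Q := sm gf N243
def N310 : Q := sm gg N244
def N311 : Q := sm gd N246
def N312 : Q := sm gc N247
def N313 : Q := sm gb N248
def N314 : Q := sm gh N249
def N315 : Q := sm gi N249
def N316 : Q := sm gi N250
def N317 : Q := sm gh N251
def N318 : Q := sm gh N252
def N319 : Q := sm gd N253
def N320 : Q := sm gd N254
def N321 : Q := sm gc N255
def N322 : Q := sm ge N255
def N323 : Q := sm gf N256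
def N324 : Q := sm gc N257
def N325 : Q := sm ge N257
def N326 : Q := sm gb N258
def N327 : Q := sm gd N259
def N328 : Q := sm gc N260
def N329 : Q := sm ge N260
def N330 : Q := sm gb N261
def N331 : Q := sm ge N261
def N332 : Q := sm gf N262
def N333 : Q := sm gg N263
def N334 : Q := sm ga N264
def N335 : Q := sm ge N266
def N336 : Q := sm gh N266
def N337 : Q := sm gi N266
def N338 : Q := sm gd N267
def N339 : Q := sm gi N267
def N340 : Q := sm gh N268
def N341 : Q := sm gh N269
def N342 : Q := sm gi N269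
def N343 : Q := sm gi N270
def N344 : Q := sm gh N271
def N345 : Q := sm gh N272
def N346 : Q := sm gd N273
def N347 : Q := sm gd N274
def N348 : Q := sm gc N275
def N349 : Q := sm ge N275
def N350 : Q := sm ge N276
def N351 : Q := sm gf N277
def N352 : Q := sm gd N278
def N353 : Q := sm gi N278
def N354 : Q := sm gh N279
def N355 : Q := sm gh N280
def N356 : Q := sm gd N281
def N357 : Q := sm gd N282
def N358 : Q := sm gc N283
def N359 : Q := sm ge N283
def N360 : Q := sm gc N284
def N361 : Q := sm ge N284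
def N362 : Q := sm gb N285
def N363 : Q := sm ge N285
def N364 : Q := sm gf N286
def N365 : Q := sm gg N287
def N366 : Q := sm gb N288
def N367 : Q := sm ge N288
def N368 : Q := sm ga N290
def N369 : Q := sm ge N291
def N370 : Q := sm gi N291
def N371 : Q := sm gh N292
def N372 : Q := sm gd N293
def N373 : Q := sm gd N294
def N374 : Q := sm gc N295
def N375 : Q := sm ge N295
def N376 : Q := sm gb N296
def N377 : Q := sm ge N296
def N378 : Q := sm gf N297
def N379 : Q := sm gd N298
def N380 : Q := sm gf N298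
def N381 : Q := sm gg N299
def N382 : Q := sm gc N300
def N383 : Q := sm ge N300
def N384 : Q := sm gb N301
def N385 : Q := sm ge N301
def N386 : Q := sm gf N302
def N387 : Q := sm ga N303
def N388 : Q := sm ge N303
def N389 : Q := sm gf N304
def N390 : Q := sm gg N305
def N391 : Q := sm gf N308
def N392 : Q := sm gh N308
def N393 : Q := sm gg N309
def N394 : Q := sm gc N311
def N395 : Q := sm ge N311
def N396 : Q := sm gb N312
def N397 : Q := sm ga N313
def N398 : Q := sm gd N314
def N399 : Q := sm gi N314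
def N400 : Q := sm gh N315
def N401 : Q := sm gh N316
def N402 : Q := sm gd N317
def N403 : Q := sm gd N318
def N404 : Q := sm gc N319
def N405 : Q := sm ge N319
def N406 : Q := sm gc N320
def N407 : Q := sm ge N320
def N408 : Q := sm gb N321
def N409 : Q := sm ge N321
def N410 : Q := sm gf N322
def N411 : Q := sm gg N323
def N412 : Q := sm gb N324
def N413 : Q := sm ge N324
def N414 : Q := sm ga N326
def N415 : Q := sm gc N327
def N416 : Q := sm ge N327
def N417 : Q := sm gb N328
def N418 : Q := sm ge N328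
def N419 : Q := sm gf N329
def N420 : Q := sm ga N330
def N421 : Q := sm ge N330
def N422 : Q := sm gf N331
def N423 : Q := sm gg N332
def N424 : Q := sm gd N335
def N425 : Q := sm gh N335
def N426 : Q := sm gi N335
def N427 : Q := sm gd N336
def N428 : Q := sm gi N336
def N429 : Q := sm gh N337
def N430 : Q := sm ge N338
def N431 : Q := sm gi N338
def N432 : Q := sm gh N339
def N433 : Q := sm gd N340
def N434 : Q := sm gd N341
def N435 : Q := sm gi N341
def N436 : Q := sm gh N342
def N437 : Q := sm gh N343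
def N438 : Q := sm gd N344
def N439 : Q := sm gd N345
def N440 : Q := sm gc N346
def N441 : Q := sm ge N346
def N442 : Q := sm gc N347
def N443 : Q := sm ge N347
def N444 : Q := sm gb N348
def N445 : Q := sm ge N348
def N446 : Q := sm gf N349
def N447 : Q := sm gd N350
def N448 : Q := sm gf N350
def N449 : Q := sm gg N351
def N450 : Q := sm gc N352
def N451 : Q := sm gi N352
def N452 : Q := sm gh N353
def N453 : Q := sm gd N354
def N454 : Q := sm gd N355
def N455 : Q := sm gc N356
def N456 : Q := sm ge N356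
def N457 : Q := sm gc N357
def N458 : Q := sm ge N357
def N459 : Q := sm gb N358
def N460 : Q := sm ge N358
def N461 : Q := sm gf N359
def N462 : Q := sm gb N360
def N463 : Q := sm ge N360
def N464 : Q := sm gf N361
def N465 : Q := sm ga N362
def N466 : Q := sm ge N362
def N467 : Q := sm gf N363
def N468 : Q := sm gg N364
def N469 : Q := sm ga N366
def N470 : Q := sm ge N366
def N471 : Q := sm gd N367
def N472 : Q := sm gf N369
def N473 : Q := sm gi N369
def N474 : Q := sm gh N370
def N475 : Q := sm gd N371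
def N476 : Q := sm gc N372
def N477 : Q := sm ge N372
def N478 : Q := sm gc N373
def N479 : Q := sm ge N373
def N480 : Q := sm gb N374
def N481 : Q := sm ge N374
def N482 : Q := sm gf N375
def N483 : Q := sm ga N376
def N484 : Q := sm ge N376
def N485 : Q := sm gd N377
def N486 : Q := sm gf N377
def N487 : Q := sm gg N378
def N488 : Q := sm gf N379
def N489 : Q := sm gh N379
def N490 : Q := sm gg N380
def N491 : Q := sm gb N382
def N492 : Q := sm ge N382
def N493 : Q := sm gf N383
def N494 : Q := sm ga N384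
def N495 : Q := sm ge N384
def N496 : Q := sm gd N385
def N497 : Q := sm gf N385
def N498 : Q := sm gg N386
def N499 : Q := sm ge N387
def N500 : Q := sm gf N388
def N501 : Q := sm gg N389
def N502 : Q := sm ge N391
def N503 : Q := sm gg N391
def N504 : Q := sm gh N391
def N505 : Q := sm gi N392
def N506 : Q := sm gb N394
def N507 : Q := sm ge N394
def N508 : Q := sm ga N396
def N509 : Q := sm gc N398
def N510 : Q := sm gi N398
def N511 : Q := sm gh N399
def N512 : Q := sm gd N400
def N513 : Q := sm gd N401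
def N514 : Q := sm gc N402
def N515 : Q := sm ge N402
def N516 : Q := sm gc N403
def N517 : Q := sm ge N403
def N518 : Q := sm gb N404
def N519 : Q := sm ge N404
def N520 : Q := sm gf N405
def N521 : Q := sm gb N406
def N522 : Q := sm ge N406
def N523 : Q := sm gf N407
def N524 : Q := sm ga N408
def N525 : Q := sm ge N408
def N526 : Q := sm gf N409
def N527 : Q := sm gg N410
def N528 : Q := sm ga N412
def N529 : Q := sm ge N412
def N530 : Q := sm gd N413
def N531 : Q := sm gb N415
def N532 : Q := sm ge N415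
def N533 : Q := sm gf N416
def N534 : Q := sm ga N417
def N535 : Q := sm ge N417
def N536 : Q := sm gd N418
def N537 : Q := sm gf N418
def N538 : Q := sm gg N419
def N539 : Q := sm ge N420
def N540 : Q := sm gf N421
def N541 : Q := sm gg N422
def N542 : Q := sm gi N424
def N543 : Q := sm gi N425
def N544 : Q := sm gh N426
def N545 : Q := sm gi N427
def N546 : Q := sm gh N428
def N547 : Q := sm gd N429
def N548 : Q := sm gi N430
def N549 : Q := sm gh N431
def N550 : Q := sm gd N432
def N551 : Q := sm gc N433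
def N552 : Q := sm ge N433
def N553 : Q := sm gi N434
def N554 : Q := sm gh N435
def N555 : Q := sm gd N436
def N556 : Q := sm gd N437
def N557 : Q := sm gc N438
def N558 : Q := sm ge N438
def N559 : Q := sm gc N439
def N560 : Q := sm ge N439
def N561 : Q := sm gb N440
def N562 : Q := sm ge N440
def N563 : Q := sm gf N441
def N564 : Q := sm gb N442
def N565 : Q := sm ge N442
def N566 : Q := sm gf N443
def N567 : Q := sm ga N444
def N568 : Q := sm ge N444
def N569 : Q := sm gd N445
def N570 : Q := sm gf N445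
def N571 : Q := sm gg N446
def N572 : Q := sm gf N447
def N573 : Q := sm gh N447
def N574 : Q := sm gg N448
def N575 : Q := sm gi N450
def N576 : Q := sm gh N451
def N577 : Q := sm gd N452
def N578 : Q := sm gc N453
def N579 : Q := sm ge N453
def N580 : Q := sm gc N454
def N581 : Q := sm ge N454
def N582 : Q := sm gb N455
def N583 : Q := sm ge N455
def N584 : Q := sm gf N456
def N585 : Q := sm gb N457
def N586 : Q := sm ge N457
def N587 : Q := sm gf N458
def N588 : Q := sm ga N459
def N589 : Q := sm ge N459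
def N590 : Q := sm gd N460
def N591 : Q := sm gf N460
def N592 : Q := sm gg N461
def N593 : Q := sm ga N462
def N594 : Q := sm ge N462
def N595 : Q := sm gd N463
def N596 : Q := sm gf N463
def N597 : Q := sm gg N464
def N598 : Q := sm ge N465
def N599 : Q := sm gf N466
def N600 : Q := sm gg N467
def N601 : Q := sm ge N469
def N602 : Q := sm gd N470
def N603 : Q := sm gh N471
def N604 : Q := sm gi N472
def N605 : Q := sm gh N473
def N606 : Q := sm gd N474
def N607 : Q := sm gc N475
def N608 : Q := sm ge N475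
def N609 : Q := sm gb N476
def N610 : Q := sm ge N476
def N611 : Q := sm gf N477
def N612 : Q := sm gb N478
def N613 : Q := sm ge N478
def N614 : Q := sm gf N479
def N615 : Q := sm ga N480
def N616 : Q := sm ge N480
def N617 : Q := sm gd N481
def N618 : Q := sm gf N481
def N619 : Q := sm gg N482
def N620 : Q := sm ge N483
def N621 : Q := sm gd N484
def N622 : Q := sm gf N484
def N623 : Q := sm gf N485
def N624 : Q := sm gh N485
def N625 : Q := sm gg N486
def N626 : Q := sm ge N488
def N627 : Q := sm gg N488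
def N628 : Q := sm gh N488
def N629 : Q := sm gi N489
def N630 : Q := sm ga N491
def N631 : Q := sm ge N491
def N632 : Q := sm gd N492
def N633 : Q := sm gf N492
def N634 : Q := sm gg N493
def N635 : Q := sm ge N494
def N636 : Q := sm gd N495
def N637 : Q := sm gf N495
def N638 : Q := sm gf N496
def N639 : Q := sm gg N497
def N640 : Q := sm gf N499
def N641 : Q := sm gg N500
def N642 : Q := sm gg N502
def N644 : Q := sm gh N503
def N646 : Q := sm ga N506
def N647 : Q := sm ge N506
def N648 : Q := sm gd N507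
def N649 : Q := sm gb N509
def N650 : Q := sm gi N509
def N651 : Q := sm gh N510
def N652 : Q := sm gd N511
def N653 : Q := sm gc N512
def N654 : Q := sm ge N512
def N655 : Q := sm gc N513
def N656 : Q := sm ge N513
def N657 : Q := sm gb N514
def N658 : Q := sm ge N514
def N659 : Q := sm gf N515
def N660 : Q := sm gb N516
def N661 : Q := sm ge N516
def N662 : Q := sm gf N517
def N663 : Q := sm ga N518
def N664 : Q := sm ge N518
def N665 : Q := sm gd N519
def N666 : Q := sm gf N519
def N667 : Q := sm gg N520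
def N668 : Q := sm ga N521
def N669 : Q := sm ge N521
def N670 : Q := sm gd N522
def N671 : Q := sm gf N522
def N672 : Q := sm gg N523
def N673 : Q := sm ge N524
def N674 : Q := sm gf N525
def N675 : Q := sm gg N526
def N676 : Q := sm ge N528
def N677 : Q := sm gd N529
def N678 : Q := sm gh N530
def N679 : Q := sm ga N531
def N680 : Q := sm ge N531
def N681 : Q := sm gd N532
def N682 : Q := sm gf N532
def N683 : Q := sm gg N533
def N684 : Q := sm ge N534
def N685 : Q := sm gg N537
def N686 : Q := sm gf N539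
def N687 : Q := sm gg N540
def N688 : Q := sm gh N542
def N689 : Q := sm gh N543
def N690 : Q := sm gd N544
def N691 : Q := sm gh N545
def N692 : Q := sm gd N546
def N693 : Q := sm gc N547
def N694 : Q := sm ge N547
def N695 : Q := sm gd N549
def N696 : Q := sm gc N550
def N697 : Q := sm ge N550
def N698 : Q := sm gb N551
def N699 : Q := sm ge N551
def N700 : Q := sm gf N552
def N701 : Q := sm gh N553
def N702 : Q := sm gd N554
def N703 : Q := sm gc N555
def N704 : Q := sm ge N555
def N705 : Q := sm gc N556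
def N706 : Q := sm ge N556
def N707 : Q := sm gb N557
def N708 : Q := sm ge N557
def N709 : Q := sm gf N558
def N710 : Q := sm gb N559
def N711 : Q := sm ge N559
def N712 : Q := sm gf N560
def N713 : Q := sm ga N561
def N714 : Q := sm ge N561
def N715 : Q := sm gd N562
def N716 : Q := sm gf N562
def N717 : Q := sm gg N563
def N718 : Q := sm ga N564
def N719 : Q := sm ge N564
def N720 : Q := sm gd N565
def N721 : Q := sm gf N565
def N722 : Q := sm gg N566
def N723 : Q := sm ge N567
def N724 : Q := sm gd N568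
def N725 : Q := sm gf N568
def N726 : Q := sm gf N569
def N727 : Q := sm gh N569
def N728 : Q := sm gg N570
def N729 : Q := sm ge N572
def N730 : Q := sm gg N572
def N731 : Q := sm gh N572
def N732 : Q := sm gi N573
def N733 : Q := sm gh N575
def N734 : Q := sm gd N576
def N735 : Q := sm gc N577
def N736 : Q := sm ge N577
def N737 : Q := sm gb N578
def N738 : Q := sm ge N578
def N739 : Q := sm gf N579
def N740 : Q := sm gb N580
def N741 : Q := sm ge N580
def N742 : Q := sm gf N581
def N743 : Q := sm ga N582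
def N744 : Q := sm ge N582
def N745 : Q := sm gd N583
def N746 : Q := sm gf N583
def N747 : Q := sm gg N584
def N748 : Q := sm ga N585
def N749 : Q := sm ge N585
def N750 : Q := sm gd N586
def N751 : Q := sm gf N586
def N752 : Q := sm gg N587
def N753 : Q := sm ge N588
def N754 : Q := sm gd N589
def N755 : Q := sm gf N589
def N756 : Q := sm gf N590
def N757 : Q := sm gg N591
def N758 : Q := sm ge N593
def N759 : Q := sm gd N594
def N760 : Q := sm gf N594
def N761 : Q := sm gf N595
def N762 : Q := sm gh N595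
def N763 : Q := sm gg N596
def N764 : Q := sm gf N598
def N765 : Q := sm gg N599
def N766 : Q := sm gd N601
def N767 : Q := sm gc N602
def N768 : Q := sm gh N602
def N769 : Q := sm gi N603
def N770 : Q := sm gc N606
def N771 : Q := sm gb N607
def N772 : Q := sm ge N607
def N773 : Q := sm ga N609
def N774 : Q := sm ge N609
def N775 : Q := sm gd N610
def N776 : Q := sm gf N610
def N777 : Q := sm ga N612
def N778 : Q := sm ge N612
def N779 : Q := sm gd N613
def N780 : Q := sm gf N613
def N781 : Q := sm gg N614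
def N782 : Q := sm ge N615
def N783 : Q := sm gd N616
def N784 : Q := sm gf N616
def N785 : Q := sm gf N617
def N786 : Q := sm gh N617
def N787 : Q := sm gg N618
def N788 : Q := sm gd N620
def N789 : Q := sm gf N620
def N790 : Q := sm gf N621
def N791 : Q := sm gh N621
def N792 : Q := sm gg N622
def N793 : Q := sm gg N623
def N794 : Q := sm ge N630
def N795 : Q := sm gd N631
def N796 : Q := sm gf N631
def N797 : Q := sm gg N633
def N798 : Q := sm gc N636
def N799 : Q := sm gg N637
def N800 : Q := sm gg N638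
def N801 : Q := sm gg N640
def N802 : Q := sm ge N646
def N803 : Q := sm gd N647
def N804 : Q := sm gh N648
def N805 : Q := sm gi N649
def N806 : Q := sm gh N650
def N807 : Q := sm gd N651
def N808 : Q := sm gc N652
def N809 : Q := sm ge N652
def N810 : Q := sm gb N653
def N811 : Q := sm ge N653
def N812 : Q := sm gf N654
def N813 : Q := sm gb N655
def N814 : Q := sm ge N655
def N815 : Q := sm gf N656
def N816 : Q := sm ga N657
def N817 : Q := sm ge N657
def N818 : Q := sm gd N658
def N819 : Q := sm gf N658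
def N820 : Q := sm gg N659
def N821 : Q := sm ga N660
def N822 : Q := sm ge N660
def N823 : Q := sm gd N661
def N824 : Q := sm gf N661
def N825 : Q := sm gg N662
def N826 : Q := sm ge N663
def N827 : Q := sm gd N664
def N828 : Q := sm gf N664
def N829 : Q := sm gf N665
def N830 : Q := sm gg N666
def N831 : Q := sm ge N668
def N832 : Q := sm gd N669
def N833 : Q := sm gf N669
def N834 : Q := sm gf N670
def N835 : Q := sm gh N670
def N836 : Q := sm gg N671
def N837 : Q := sm gf N673
def N838 : Q := sm gg N674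
def N839 : Q := sm gd N676
def N840 : Q := sm gg N686
def N841 : Q := sm gd N688
def N842 : Q := sm gd N689
def N843 : Q := sm gc N690
def N844 : Q := sm ge N690
def N845 : Q := sm gd N691
def N846 : Q := sm gc N692
def N847 : Q := sm ge N692
def N848 : Q := sm gb N693
def N849 : Q := sm ge N693
def N850 : Q := sm gf N694
def N851 : Q := sm gc N695
def N852 : Q := sm gb N696
def N853 : Q := sm ge N696
def N854 : Q := sm gf N697
def N855 : Q := sm ga N698
def N856 : Q := sm ge N698
def N857 : Q := sm gd N699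
def N858 : Q := sm gf N699
def N859 : Q := sm gg N700
def N860 : Q := sm gd N701
def N861 : Q := sm gc N702
def N862 : Q := sm ge N702
def N863 : Q := sm gb N703
def N864 : Q := sm ge N703
def N865 : Q := sm gf N704
def N866 : Q := sm gb N705
def N867 : Q := sm ge N705
def N868 : Q := sm gf N706
def N869 : Q := sm ga N707
def N870 : Q := sm ge N707
def N871 : Q := sm gd N708
def N872 : Q := sm gf N708
def N873 : Q := sm gg N709
def N874 : Q := sm ga N710
def N875 : Q := sm ge N710
def N876 : Q := sm gd N711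
def N877 : Q := sm gf N711
def N878 : Q := sm gg N712
def N879 : Q := sm ge N713
def N880 : Q := sm gd N714
def N881 : Q := sm gf N714
def N882 : Q := sm gf N715
def N883 : Q := sm gh N715
def N884 : Q := sm gg N716
def N885 : Q := sm ge N718
def N886 : Q := sm gd N719
def N887 : Q := sm gf N719
def N888 : Q := sm gf N720
def N889 : Q := sm gh N720
def N890 : Q := sm gg N721
def N891 : Q := sm gd N723
def N892 : Q := sm gf N723
def N893 : Q := sm gf N724
def N894 : Q := sm gh N724
def N895 : Q := sm gg N725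
def N896 : Q := sm ge N726
def N897 : Q := sm gg N726
def N898 : Q := sm gh N726
def N899 : Q := sm gi N727
def N900 : Q := sm gg N729
def N901 : Q := sm gh N729
def N902 : Q := sm ge N734
def N903 : Q := sm gb N735
def N904 : Q := sm ge N735
def N905 : Q := sm gf N736
def N906 : Q := sm ga N737
def N907 : Q := sm ge N737
def N908 : Q := sm gd N738
def N909 : Q := sm gf N738
def N910 : Q := sm gg N739
def N911 : Q := sm ga N740
def N912 : Q := sm ge N740
def N913 : Q := sm gd N741
def N914 : Q := sm gf N741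
def N915 : Q := sm gg N742
def N916 : Q := sm ge N743
def N917 : Q := sm gd N744
def N918 : Q := sm gf N744
def N919 : Q := sm gf N745
def N920 : Q := sm gh N745
def N921 : Q := sm gg N746
def N922 : Q := sm ge N748
def N923 : Q := sm gd N749
def N924 : Q := sm gf N749
def N925 : Q := sm gf N750
def N926 : Q := sm gg N751
def N927 : Q := sm gd N753
def N928 : Q := sm gf N753
def N929 : Q := sm gc N754
def N930 : Q := sm gf N754
def N931 : Q := sm gg N755
def N932 : Q := sm ge N756
def N933 : Q := sm gg N756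
def N934 : Q := sm gd N758
def N935 : Q := sm gf N758
def N936 : Q := sm gc N759
def N937 : Q := sm gf N759
def N938 : Q := sm gh N759
def N939 : Q := sm gg N760
def N940 : Q := sm gg N761
def N941 : Q := sm gh N761
def N942 : Q := sm gi N762
def N943 : Q := sm gg N764
def N944 : Q := sm gc N766
def N945 : Q := sm gh N767
def N946 : Q := sm gb N770
def N947 : Q := sm ga N771
def N948 : Q := sm ge N771
def N949 : Q := sm gd N772
def N950 : Q := sm ge N773
def N951 : Q := sm gd N774
def N952 : Q := sm gf N774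
def N953 : Q := sm gf N775
def N954 : Q := sm gh N775
def N955 : Q := sm ge N777
def N956 : Q := sm gd N778
def N957 : Q := sm gf N778
def N958 : Q := sm gf N779
def N959 : Q := sm gh N779
def N960 : Q := sm gg N780
def N961 : Q := sm gd N782
def N962 : Q := sm gf N782
def N963 : Q := sm gc N783
def N964 : Q := sm gf N783
def N965 : Q := sm gh N783
def N966 : Q := sm gg N784
def N967 : Q := sm gg N785
def N968 : Q := sm gf N788
def N969 : Q := sm gh N788
def N970 : Q := sm gg N789
def N971 : Q := sm gg N790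
def N972 : Q := sm ge N807
def N973 : Q := sm ge N808
def N974 : Q := sm gf N809
def N975 : Q := sm ge N810
def N976 : Q := sm gd N811
def N977 : Q := sm gf N811
def N978 : Q := sm gg N812
def N979 : Q := sm ga N813
def N980 : Q := sm ge N813
def N981 : Q := sm gd N814
def N982 : Q := sm gf N814
def N983 : Q := sm gg N815
def N984 : Q := sm ge N816
def N985 : Q := sm gd N817
def N986 : Q := sm gf N817
def N987 : Q := sm gf N818
def N988 : Q := sm gh N818
def N989 : Q := sm gg N819
def N990 : Q := sm gf N822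
def N991 : Q := sm gf N823
def N992 : Q := sm gg N824
def N993 : Q := sm gf N826
def N994 : Q := sm ge N829
def N995 : Q := sm gd N831
def N996 : Q := sm gf N831
def N997 : Q := sm gf N832
def N998 : Q := sm gg N833
def N999 : Q := sm gg N834
def N1000 : Q := sm gh N834
def N1001 : Q := sm gg N837
def N1002 : Q := sm gc N841
def N1003 : Q := sm ge N841
def N1004 : Q := sm gc N842
def N1005 : Q := sm ge N842
def N1006 : Q := sm gb N843
def N1007 : Q := sm ge N843
def N1008 : Q := sm gf N844
def N1009 : Q := sm gc N845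
def N1010 : Q := sm ge N845
def N1011 : Q := sm gb N846
def N1012 : Q := sm ge N846
def N1013 : Q := sm gf N847
def N1014 : Q := sm ga N848
def N1015 : Q := sm ge N848
def N1016 : Q := sm gd N849
def N1017 : Q := sm gf N849
def N1018 : Q := sm gg N850
def N1019 : Q := sm gb N851
def N1020 : Q := sm ga N852
def N1021 : Q := sm ge N852
def N1022 : Q := sm gd N853
def N1023 : Q := sm gf N853
def N1024 : Q := sm ge N855
def N1025 : Q := sm gd N856
def N1026 : Q := sm gf N856
def N1027 : Q := sm gf N857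
def N1028 : Q := sm gh N857
def N1029 : Q := sm gg N858
def N1030 : Q := sm gc N860
def N1031 : Q := sm ge N860
def N1032 : Q := sm gb N861
def N1033 : Q := sm ge N861
def N1034 : Q := sm gf N862
def N1035 : Q := sm ga N863
def N1036 : Q := sm ge N863
def N1037 : Q := sm gd N864
def N1038 : Q := sm gf N864
def N1039 : Q := sm gg N865
def N1040 : Q := sm ga N866
def N1041 : Q := sm ge N866
def N1042 : Q := sm gd N867
def N1043 : Q := sm gf N867
def N1044 : Q := sm gg N868
def N1045 : Q := sm ge N869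
def N1046 : Q := sm gd N870
def N1047 : Q := sm gf N870
def N1048 : Q := sm gf N871
def N1049 : Q := sm gh N871
def N1050 : Q := sm gg N872
def N1051 : Q := sm ge N874
def N1052 : Q := sm gd N875
def N1053 : Q := sm gf N875
def N1054 : Q := sm gf N876
def N1055 : Q := sm gh N876
def N1056 : Q := sm gg N877
def N1057 : Q := sm gd N879
def N1058 : Q := sm gf N879
def N1059 : Q := sm gc N880
def N1060 : Q := sm gf N880
def N1061 : Q := sm gh N880
def N1062 : Q := sm gg N881
def N1063 : Q := sm ge N882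
def N1064 : Q := sm gg N882
def N1065 : Q := sm gh N882
def N1066 : Q := sm gi N883
def N1067 : Q := sm gd N885
def N1068 : Q := sm gf N885
def N1069 : Q := sm gc N886
def N1070 : Q := sm gf N886
def N1071 : Q := sm gh N886
def N1072 : Q := sm gg N887
def N1073 : Q := sm ge N888
def N1074 : Q := sm gg N888
def N1075 : Q := sm gh N888
def N1076 : Q := sm gi N889
def N1077 : Q := sm gf N891
def N1078 : Q := sm gh N891
def N1079 : Q := sm gg N892
def N1080 : Q := sm ge N893
def N1081 : Q := sm gg N893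
def N1082 : Q := sm gh N893
def N1083 : Q := sm gi N894
def N1084 : Q := sm gg N896
def N1085 : Q := sm gh N896
def N1086 : Q := sm gd N901
def N1087 : Q := sm gf N902
def N1088 : Q := sm ge N903
def N1089 : Q := sm gd N904
def N1090 : Q := sm gf N904
def N1091 : Q := sm gg N905
def N1092 : Q := sm ge N906
def N1093 : Q := sm gd N907
def N1094 : Q := sm gf N907
def N1095 : Q := sm gf N908
def N1096 : Q := sm gh N908
def N1097 : Q := sm gg N909
def N1098 : Q := sm ge N911
def N1099 : Q := sm gd N912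
def N1100 : Q := sm gf N912
def N1101 : Q := sm gf N913
def N1102 : Q := sm gh N913
def N1103 : Q := sm gg N914
def N1104 : Q := sm gd N916
def N1105 : Q := sm gf N916
def N1106 : Q := sm gc N917
def N1107 : Q := sm gf N917
def N1108 : Q := sm gh N917
def N1109 : Q := sm gg N918
def N1110 : Q := sm ge N919
def N1111 : Q := sm gg N919
def N1112 : Q := sm gh N919
def N1113 : Q := sm gi N920
def N1114 : Q := sm gf N922
def N1115 : Q := sm gc N923
def N1116 : Q := sm gf N923
def N1117 : Q := sm gg N924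
def N1118 : Q := sm ge N925
def N1119 : Q := sm gc N927
def N1120 : Q := sm gf N929
def N1121 : Q := sm ge N930
def N1122 : Q := sm gg N932
def N1123 : Q := sm gc N934
def N1124 : Q := sm gf N934
def N1125 : Q := sm gg N935
def N1126 : Q := sm gf N936
def N1127 : Q := sm gh N936
def N1128 : Q := sm gg N937
def N1129 : Q := sm gh N937
def N1130 : Q := sm gh N940
def N1131 : Q := sm gi N941
def N1132 : Q := sm gd N945
def N1133 : Q := sm ga N946
def N1134 : Q := sm ge N947
def N1135 : Q := sm gd N948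
def N1136 : Q := sm gd N950
def N1137 : Q := sm gf N950
def N1138 : Q := sm gc N951
def N1139 : Q := sm gf N951
def N1140 : Q := sm gh N951
def N1141 : Q := sm ge N953
def N1142 : Q := sm gh N953
def N1143 : Q := sm gd N955
def N1144 : Q := sm gc N956
def N1145 : Q := sm gf N956
def N1146 : Q := sm gh N956
def N1147 : Q := sm gg N958
def N1148 : Q := sm gh N961
def N1149 : Q := sm gh N963
def N1150 : Q := sm gg N964
def N1151 : Q := sm gg N968
def N1152 : Q := sm gf N972
def N1153 : Q := sm gd N973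
def N1154 : Q := sm gf N973
def N1155 : Q := sm gg N974
def N1156 : Q := sm gd N975
def N1157 : Q := sm gf N975
def N1158 : Q := sm gf N976
def N1159 : Q := sm gh N976
def N1160 : Q := sm gg N977
def N1161 : Q := sm ge N979
def N1162 : Q := sm gd N980
def N1163 : Q := sm gf N980
def N1164 : Q := sm gf N981
def N1165 : Q := sm gh N981
def N1166 : Q := sm gg N982
def N1167 : Q := sm gd N984
def N1168 : Q := sm gf N984
def N1169 : Q := sm gf N985
def N1170 : Q := sm gg N986
def N1171 : Q := sm ge N987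
def N1172 : Q := sm gg N987
def N1173 : Q := sm gh N987
def N1174 : Q := sm gf N995
def N1175 : Q := sm gg N996
def N1176 : Q := sm gg N997
def N1177 : Q := sm gh N999
def N1178 : Q := sm gb N1002
def N1179 : Q := sm ge N1002
def N1180 : Q := sm gf N1003
def N1181 : Q := sm gb N1004
def N1182 : Q := sm ge N1004
def N1183 : Q := sm gf N1005
def N1184 : Q := sm ga N1006
def N1185 : Q := sm ge N1006
def N1186 : Q := sm gd N1007
def N1187 : Q := sm gf N1007
def N1188 : Q := sm gg N1008
def N1189 : Q := sm gb N1009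
def N1190 : Q := sm ge N1009
def N1191 : Q := sm ga N1011
def N1192 : Q := sm ge N1011
def N1193 : Q := sm gd N1012
def N1194 : Q := sm gf N1012
def N1195 : Q := sm ge N1014
def N1196 : Q := sm gd N1015
def N1197 : Q := sm gf N1015
def N1198 : Q := sm gf N1016
def N1199 : Q := sm gh N1016
def N1200 : Q := sm gg N1017
def N1201 : Q := sm ga N1019
def N1202 : Q := sm ge N1020
def N1203 : Q := sm gd N1021
def N1204 : Q := sm gf N1021
def N1205 : Q := sm gf N1022
def N1206 : Q := sm gd N1024
def N1207 : Q := sm gf N1024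
def N1208 : Q := sm gc N1025
def N1209 : Q := sm gf N1025
def N1210 : Q := sm gh N1025
def N1211 : Q := sm gg N1026
def N1212 : Q := sm ge N1027
def N1213 : Q := sm gg N1027
def N1214 : Q := sm gh N1027
def N1215 : Q := sm gi N1028
def N1216 : Q := sm ge N1030
def N1217 : Q := sm gf N1031
def N1218 : Q := sm ge N1032
def N1219 : Q := sm gd N1033
def N1220 : Q := sm gf N1033
def N1221 : Q := sm gg N1034
def N1222 : Q := sm ge N1035
def N1223 : Q := sm gd N1036
def N1224 : Q := sm gf N1036
def N1225 : Q := sm gf N1037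
def N1226 : Q := sm gh N1037
def N1227 : Q := sm gg N1038
def N1228 : Q := sm ge N1040
def N1229 : Q := sm gd N1041
def N1230 : Q := sm gf N1041
def N1231 : Q := sm gf N1042
def N1232 : Q := sm gh N1042
def N1233 : Q := sm gg N1043
def N1234 : Q := sm gd N1045
def N1235 : Q := sm gf N1045
def N1236 : Q := sm gc N1046
def N1237 : Q := sm gf N1046
def N1238 : Q := sm gh N1046
def N1239 : Q := sm gg N1047
def N1240 : Q := sm ge N1048
def N1241 : Q := sm gg N1048
def N1242 : Q := sm gh N1048
def N1243 : Q := sm gi N1049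
def N1244 : Q := sm gd N1051
def N1245 : Q := sm gf N1051
def N1246 : Q := sm gc N1052
def N1247 : Q := sm gf N1052
def N1248 : Q := sm gh N1052
def N1249 : Q := sm gg N1053
def N1250 : Q := sm ge N1054
def N1251 : Q := sm gg N1054
def N1252 : Q := sm gh N1054
def N1253 : Q := sm gi N1055
def N1254 : Q := sm gc N1057
def N1255 : Q := sm gf N1057
def N1256 : Q := sm gh N1057
def N1257 : Q := sm gg N1058
def N1258 : Q := sm gf N1059
def N1259 : Q := sm gh N1059
def N1260 : Q := sm ge N1060
def N1261 : Q := sm gg N1060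
def N1262 : Q := sm gh N1060
def N1263 : Q := sm gi N1061
def N1264 : Q := sm gg N1063
def N1265 : Q := sm gh N1063
def N1266 : Q := sm gc N1067
def N1267 : Q := sm gf N1067
def N1268 : Q := sm gh N1067
def N1269 : Q := sm gg N1068
def N1270 : Q := sm gf N1069
def N1271 : Q := sm gh N1069
def N1272 : Q := sm ge N1070
def N1273 : Q := sm gg N1070
def N1274 : Q := sm gh N1070
def N1275 : Q := sm gi N1071
def N1276 : Q := sm gg N1073
def N1277 : Q := sm gh N1073
def N1278 : Q := sm gh N1074
def N1279 : Q := sm gi N1075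
def N1280 : Q := sm ge N1077
def N1281 : Q := sm gg N1077
def N1282 : Q := sm gh N1077
def N1283 : Q := sm gi N1078
def N1284 : Q := sm gg N1080
def N1285 : Q := sm gh N1080
def N1286 : Q := sm gd N1085
def N1287 : Q := sm gc N1086
def N1288 : Q := sm gg N1087
def N1289 : Q := sm gd N1088
def N1290 : Q := sm gf N1088
def N1291 : Q := sm gf N1089
def N1292 : Q := sm gg N1090
def N1293 : Q := sm gd N1092
def N1294 : Q := sm gf N1092
def N1295 : Q := sm gc N1093
def N1296 : Q := sm gf N1093
def N1297 : Q := sm gh N1093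
def N1298 : Q := sm gg N1094
def N1299 : Q := sm ge N1095
def N1300 : Q := sm gg N1095
def N1301 : Q := sm gh N1095
def N1302 : Q := sm gi N1096
def N1303 : Q := sm gd N1098
def N1304 : Q := sm gf N1098
def N1305 : Q := sm gc N1099
def N1306 : Q := sm gf N1099
def N1307 : Q := sm gh N1099
def N1308 : Q := sm gg N1100
def N1309 : Q := sm ge N1101
def N1310 : Q := sm gg N1101
def N1311 : Q := sm gh N1101
def N1312 : Q := sm gi N1102
def N1313 : Q := sm gc N1104
def N1314 : Q := sm gf N1104
def N1315 : Q := sm gg N1105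
def N1316 : Q := sm gf N1106
def N1317 : Q := sm gh N1106
def N1318 : Q := sm ge N1107
def N1319 : Q := sm gg N1107
def N1320 : Q := sm gh N1107
def N1321 : Q := sm gg N1110
def N1322 : Q := sm gh N1110
def N1323 : Q := sm gh N1111
def N1324 : Q := sm gi N1112
def N1325 : Q := sm ge N1120
def N1326 : Q := sm gf N1123
def N1327 : Q := sm gg N1124
def N1328 : Q := sm gg N1126
def N1329 : Q := sm gh N1126
def N1330 : Q := sm gd N1127
def N1331 : Q := sm gh N1128
def N1332 : Q := sm gi N1130
def N1333 : Q := sm ge N1132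
def N1334 : Q := sm gd N1134
def N1335 : Q := sm gc N1135
def N1336 : Q := sm gc N1136
def N1337 : Q := sm gf N1136
def N1338 : Q := sm gh N1136
def N1339 : Q := sm ge N1139
def N1340 : Q := sm gg N1152
def N1341 : Q := sm gf N1153
def N1342 : Q := sm gg N1154
def N1343 : Q := sm gc N1156
def N1344 : Q := sm gf N1156
def N1345 : Q := sm gh N1156
def N1346 : Q := sm gg N1157
def N1347 : Q := sm ge N1158
def N1348 : Q := sm gg N1158
def N1349 : Q := sm gh N1158
def N1350 : Q := sm gd N1161
def N1351 : Q := sm gf N1162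
def N1352 : Q := sm ge N1164
def N1353 : Q := sm gg N1164
def N1354 : Q := sm gh N1164
def N1355 : Q := sm gf N1167
def N1356 : Q := sm gh N1171
def N1357 : Q := sm gh N1172
def N1358 : Q := sm gg N1174
def N1359 : Q := sm ga N1178
def N1360 : Q := sm ge N1178
def N1361 : Q := sm gd N1179
def N1362 : Q := sm gf N1179
def N1363 : Q := sm gg N1180
def N1364 : Q := sm ge N1181
def N1365 : Q := sm gd N1182
def N1366 : Q := sm gf N1182
def N1367 : Q := sm ge N1184
def N1368 : Q := sm gd N1185
def N1369 : Q := sm gf N1185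
def N1370 : Q := sm gf N1186
def N1371 : Q := sm gh N1186
def N1372 : Q := sm gg N1187
def N1373 : Q := sm ga N1189
def N1374 : Q := sm ge N1189
def N1375 : Q := sm gd N1190
def N1376 : Q := sm ge N1191
def N1377 : Q := sm gd N1192
def N1378 : Q := sm gf N1192
def N1379 : Q := sm gf N1193
def N1380 : Q := sm gh N1193
def N1381 : Q := sm gd N1195
def N1382 : Q := sm gf N1195
def N1383 : Q := sm gc N1196
def N1384 : Q := sm gf N1196
def N1385 : Q := sm gh N1196
def N1386 : Q := sm gg N1197
def N1387 : Q := sm ge N1198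
def N1388 : Q := sm gg N1198
def N1389 : Q := sm gh N1198
def N1390 : Q := sm gi N1199
def N1391 : Q := sm gd N1202
def N1392 : Q := sm gf N1202
def N1393 : Q := sm gc N1203
def N1394 : Q := sm gf N1203
def N1395 : Q := sm ge N1205
def N1396 : Q := sm gc N1206
def N1397 : Q := sm gf N1206
def N1398 : Q := sm gh N1206
def N1399 : Q := sm gg N1207
def N1400 : Q := sm gf N1208
def N1401 : Q := sm gh N1208
def N1402 : Q := sm ge N1209
def N1403 : Q := sm gg N1209
def N1404 : Q := sm gh N1209
def N1405 : Q := sm gi N1210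
def N1406 : Q := sm gg N1212
def N1407 : Q := sm gh N1212
def N1408 : Q := sm gh N1213
def N1409 : Q := sm gi N1214
def N1410 : Q := sm gd N1216
def N1411 : Q := sm gf N1216
def N1412 : Q := sm gg N1217
def N1413 : Q := sm gd N1218
def N1414 : Q := sm gf N1218
def N1415 : Q := sm gf N1219
def N1416 : Q := sm gh N1219
def N1417 : Q := sm gg N1220
def N1418 : Q := sm gd N1222
def N1419 : Q := sm gf N1222
def N1420 : Q := sm gc N1223
def N1421 : Q := sm gf N1223
def N1422 : Q := sm gh N1223
def N1423 : Q := sm gg N1224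
def N1424 : Q := sm ge N1225
def N1425 : Q := sm gg N1225
def N1426 : Q := sm gh N1225
def N1427 : Q := sm gi N1226
def N1428 : Q := sm gd N1228
def N1429 : Q := sm gf N1228
def N1430 : Q := sm gc N1229
def N1431 : Q := sm gf N1229
def N1432 : Q := sm gh N1229
def N1433 : Q := sm gg N1230
def N1434 : Q := sm ge N1231
def N1435 : Q := sm gg N1231
def N1436 : Q := sm gh N1231
def N1437 : Q := sm gi N1232
def N1438 : Q := sm gc N1234
def N1439 : Q := sm gf N1234
def N1440 : Q := sm gh N1234
def N1441 : Q := sm gg N1235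
def N1442 : Q := sm gf N1236
def N1443 : Q := sm gh N1236
def N1444 : Q := sm ge N1237
def N1445 : Q := sm gg N1237
def N1446 : Q := sm gh N1237
def N1447 : Q := sm gi N1238
def N1448 : Q := sm gg N1240
def N1449 : Q := sm gh N1240
def N1450 : Q := sm gh N1241
def N1451 : Q := sm gi N1242
def N1452 : Q := sm gf N1244
def N1453 : Q := sm gf N1246
def N1454 : Q := sm ge N1247
def N1455 : Q := sm gg N1247
def N1456 : Q := sm gh N1247
def N1457 : Q := sm gg N1250
def N1458 : Q := sm gh N1250
def N1459 : Q := sm ge N1255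
def N1460 : Q := sm gh N1255
def N1461 : Q := sm ge N1258
def N1462 : Q := sm gh N1258
def N1463 : Q := sm gg N1260
def N1464 : Q := sm gh N1260
def N1465 : Q := sm gd N1265
def N1466 : Q := sm gf N1266
def N1467 : Q := sm gh N1266
def N1468 : Q := sm ge N1267
def N1469 : Q := sm gg N1267
def N1470 : Q := sm gh N1267
def N1471 : Q := sm gi N1268
def N1472 : Q := sm ge N1270
def N1473 : Q := sm gg N1270
def N1474 : Q := sm gh N1270
def N1475 : Q := sm gd N1271
def N1476 : Q := sm gi N1271
def N1477 : Q := sm gg N1272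
def N1478 : Q := sm gh N1272
def N1479 : Q := sm gh N1273
def N1480 : Q := sm gi N1274
def N1481 : Q := sm gh N1276
def N1482 : Q := sm gd N1277
def N1483 : Q := sm gi N1277
def N1484 : Q := sm gi N1278
def N1485 : Q := sm gg N1280
def N1486 : Q := sm gh N1280
def N1487 : Q := sm gd N1285
def N1488 : Q := sm gc N1286
def N1489 : Q := sm gb N1287
def N1490 : Q := sm gc N1289
def N1491 : Q := sm gf N1289
def N1492 : Q := sm gg N1290
def N1493 : Q := sm ge N1291
def N1494 : Q := sm gg N1291
def N1495 : Q := sm gc N1293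
def N1496 : Q := sm gf N1293
def N1497 : Q := sm gh N1293
def N1498 : Q := sm gg N1294
def N1499 : Q := sm gf N1295
def N1500 : Q := sm gh N1295
def N1501 : Q := sm ge N1296
def N1502 : Q := sm gg N1296
def N1503 : Q := sm gh N1296
def N1504 : Q := sm gi N1297
def N1505 : Q := sm gg N1299
def N1506 : Q := sm gh N1299
def N1507 : Q := sm gh N1300
def N1508 : Q := sm gi N1301
def N1509 : Q := sm gc N1303
def N1510 : Q := sm gf N1303
def N1511 : Q := sm gf N1305
def N1512 : Q := sm gh N1305
def N1513 : Q := sm ge N1306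
def N1514 : Q := sm gg N1306
def N1515 : Q := sm gh N1306
def N1516 : Q := sm gf N1313
def N1517 : Q := sm ge N1316
def N1518 : Q := sm gg N1316
def N1519 : Q := sm gh N1316
def N1520 : Q := sm gd N1317
def N1521 : Q := sm gh N1318
def N1522 : Q := sm gh N1319
def N1523 : Q := sm gd N1325
def N1524 : Q := sm gg N1326
def N1525 : Q := sm gh N1328
def N1526 : Q := sm gd N1329
def N1527 : Q := sm ge N1330
def N1528 : Q := sm gf N1333
def N1529 : Q := sm ge N1341
def N1530 : Q := sm gg N1341
def N1531 : Q := sm gf N1343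
def N1532 : Q := sm ge N1344
def N1533 : Q := sm gg N1344
def N1534 : Q := sm gh N1344
def N1535 : Q := sm ge N1359
def N1536 : Q := sm gd N1360
def N1537 : Q := sm gf N1360
def N1538 : Q := sm gf N1361
def N1539 : Q := sm gh N1361
def N1540 : Q := sm gg N1362
def N1541 : Q := sm gd N1364
def N1542 : Q := sm gf N1364
def N1543 : Q := sm gf N1365
def N1544 : Q := sm gh N1365
def N1545 : Q := sm gd N1367
def N1546 : Q := sm gf N1367
def N1547 : Q := sm gc N1368
def N1548 : Q := sm gf N1368
def N1549 : Q := sm gh N1368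
def N1550 : Q := sm gg N1369
def N1551 : Q := sm ge N1370
def N1552 : Q := sm gg N1370
def N1553 : Q := sm gh N1370
def N1554 : Q := sm gi N1371
def N1555 : Q := sm ge N1373
def N1556 : Q := sm gd N1374
def N1557 : Q := sm gh N1375
def N1558 : Q := sm gd N1376
def N1559 : Q := sm gf N1376
def N1560 : Q := sm gc N1377
def N1561 : Q := sm gf N1377
def N1562 : Q := sm gh N1377
def N1563 : Q := sm ge N1379
def N1564 : Q := sm gh N1379
def N1565 : Q := sm gi N1380
def N1566 : Q := sm gc N1381
def N1567 : Q := sm gf N1381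
def N1568 : Q := sm gh N1381
def N1569 : Q := sm gg N1382
def N1570 : Q := sm gf N1383
def N1571 : Q := sm gh N1383
def N1572 : Q := sm ge N1384
def N1573 : Q := sm gg N1384
def N1574 : Q := sm gh N1384
def N1575 : Q := sm gi N1385
def N1576 : Q := sm gg N1387
def N1577 : Q := sm gh N1387
def N1578 : Q := sm gh N1388
def N1579 : Q := sm gi N1389
def N1580 : Q := sm gf N1391
def N1581 : Q := sm gf N1393
def N1582 : Q := sm ge N1394
def N1583 : Q := sm gf N1396
def N1584 : Q := sm ge N1397
def N1585 : Q := sm gg N1397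
def N1586 : Q := sm gh N1397
def N1587 : Q := sm ge N1400
def N1588 : Q := sm gg N1402
def N1589 : Q := sm gh N1402
def N1590 : Q := sm gi N1404
def N1591 : Q := sm gf N1406
def N1592 : Q := sm gh N1406
def N1593 : Q := sm gd N1407
def N1594 : Q := sm gf N1410
def N1595 : Q := sm gh N1410
def N1596 : Q := sm gg N1411
def N1597 : Q := sm gc N1413
def N1598 : Q := sm gf N1413
def N1599 : Q := sm gh N1413
def N1600 : Q := sm gg N1414
def N1601 : Q := sm ge N1415
def N1602 : Q := sm gg N1415
def N1603 : Q := sm gh N1415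
def N1604 : Q := sm gi N1416
def N1605 : Q := sm gc N1418
def N1606 : Q := sm gf N1418
def N1607 : Q := sm gh N1418
def N1608 : Q := sm gg N1419
def N1609 : Q := sm gf N1420
def N1610 : Q := sm gh N1420
def N1611 : Q := sm ge N1421
def N1612 : Q := sm gg N1421
def N1613 : Q := sm gh N1421
def N1614 : Q := sm gi N1422
def N1615 : Q := sm gg N1424
def N1616 : Q := sm gh N1424
def N1617 : Q := sm gh N1425
def N1618 : Q := sm gi N1426
def N1619 : Q := sm gc N1428
def N1620 : Q := sm gf N1428
def N1621 : Q := sm gh N1428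
def N1622 : Q := sm gf N1430
def N1623 : Q := sm gh N1430
def N1624 : Q := sm ge N1431
def N1625 : Q := sm gg N1431
def N1626 : Q := sm gh N1431
def N1627 : Q := sm gi N1432
def N1628 : Q := sm gg N1434
def N1629 : Q := sm gh N1434
def N1630 : Q := sm gh N1435
def N1631 : Q := sm gi N1436
def N1632 : Q := sm gb N1438
def N1633 : Q := sm gf N1438
def N1634 : Q := sm gh N1438
def N1635 : Q := sm ge N1439
def N1636 : Q := sm gg N1439
def N1637 : Q := sm gh N1439
def N1638 : Q := sm gi N1440
def N1639 : Q := sm ge N1442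
def N1640 : Q := sm gg N1442
def N1641 : Q := sm gh N1442
def N1642 : Q := sm gd N1443
def N1643 : Q := sm gi N1443
def N1644 : Q := sm gg N1444
def N1645 : Q := sm gh N1444
def N1646 : Q := sm gh N1445
def N1647 : Q := sm gi N1446
def N1648 : Q := sm gf N1448
def N1649 : Q := sm gh N1448
def N1650 : Q := sm gd N1449
def N1651 : Q := sm gi N1449
def N1652 : Q := sm gi N1450
def N1653 : Q := sm ge N1452
def N1654 : Q := sm ge N1453
def N1655 : Q := sm gg N1454
def N1656 : Q := sm gh N1454
def N1657 : Q := sm gh N1459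
def N1658 : Q := sm gd N1461
def N1659 : Q := sm gh N1461
def N1660 : Q := sm gd N1464
def N1661 : Q := sm gc N1465
def N1662 : Q := sm ge N1466
def N1663 : Q := sm gg N1466
def N1664 : Q := sm gh N1466
def N1665 : Q := sm gi N1467
def N1666 : Q := sm gg N1468
def N1667 : Q := sm gh N1468
def N1668 : Q := sm gh N1469
def N1669 : Q := sm gi N1470
def N1670 : Q := sm gg N1472
def N1671 : Q := sm gh N1472
def N1672 : Q := sm gh N1473
def N1673 : Q := sm gd N1474
def N1674 : Q := sm gi N1474
def N1675 : Q := sm ge N1475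
def N1676 : Q := sm gi N1475
def N1677 : Q := sm gh N1477
def N1678 : Q := sm gd N1478
def N1679 : Q := sm gi N1478
def N1680 : Q := sm gi N1479
def N1681 : Q := sm gi N1481
def N1682 : Q := sm gc N1482
def N1683 : Q := sm gi N1482
def N1684 : Q := sm gd N1486
def N1685 : Q := sm gc N1487
def N1686 : Q := sm gb N1488
def N1687 : Q := sm ga N1489
def N1688 : Q := sm gf N1490
def N1689 : Q := sm ge N1491
def N1690 : Q := sm gg N1491
def N1691 : Q := sm gb N1495
def N1692 : Q := sm gf N1495
def N1693 : Q := sm gh N1495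
def N1694 : Q := sm ge N1496
def N1695 : Q := sm gg N1496
def N1696 : Q := sm gh N1496
def N1697 : Q := sm ge N1499
def N1698 : Q := sm gg N1499
def N1699 : Q := sm gh N1499
def N1700 : Q := sm gd N1500
def N1701 : Q := sm gi N1503
def N1702 : Q := sm gf N1509
def N1703 : Q := sm ge N1511
def N1704 : Q := sm gg N1511
def N1705 : Q := sm gh N1511
def N1706 : Q := sm gd N1517
def N1707 : Q := sm gh N1517
def N1708 : Q := sm gh N1518
def N1709 : Q := sm gd N1519
def N1710 : Q := sm ge N1520
def N1711 : Q := sm gh N1523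
def N1712 : Q := sm gd N1525
def N1713 : Q := sm ge N1526
def N1714 : Q := sm gf N1527
def N1715 : Q := sm gd N1535
def N1716 : Q := sm gf N1535
def N1717 : Q := sm gc N1536
def N1718 : Q := sm gf N1536
def N1719 : Q := sm gh N1536
def N1720 : Q := sm gg N1537
def N1721 : Q := sm ge N1538
def N1722 : Q := sm gg N1538
def N1723 : Q := sm gh N1538
def N1724 : Q := sm gi N1539
def N1725 : Q := sm gc N1541
def N1726 : Q := sm gf N1541
def N1727 : Q := sm gh N1541
def N1728 : Q := sm ge N1543
def N1729 : Q := sm gh N1543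
def N1730 : Q := sm gi N1544
def N1731 : Q := sm gc N1545
def N1732 : Q := sm gf N1545
def N1733 : Q := sm gh N1545
def N1734 : Q := sm gg N1546
def N1735 : Q := sm gf N1547
def N1736 : Q := sm gh N1547
def N1737 : Q := sm ge N1548
def N1738 : Q := sm gg N1548
def N1739 : Q := sm gh N1548
def N1740 : Q := sm gi N1549
def N1741 : Q := sm gg N1551
def N1742 : Q := sm gh N1551
def N1743 : Q := sm gh N1552
def N1744 : Q := sm gi N1553
def N1745 : Q := sm gd N1555
def N1746 : Q := sm gc N1556
def N1747 : Q := sm gh N1556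
def N1748 : Q := sm gi N1557
def N1749 : Q := sm gc N1558
def N1750 : Q := sm gf N1558
def N1751 : Q := sm gh N1558
def N1752 : Q := sm gf N1560
def N1753 : Q := sm gh N1560
def N1754 : Q := sm ge N1561
def N1755 : Q := sm gh N1561
def N1756 : Q := sm gi N1562
def N1757 : Q := sm gh N1563
def N1758 : Q := sm gi N1564
def N1759 : Q := sm gb N1566
def N1760 : Q := sm gf N1566
def N1761 : Q := sm gh N1566
def N1762 : Q := sm ge N1567
def N1763 : Q := sm gg N1567
def N1764 : Q := sm gh N1567
def N1765 : Q := sm gi N1568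
def N1766 : Q := sm ge N1570
def N1767 : Q := sm gg N1570
def N1768 : Q := sm gh N1570
def N1769 : Q := sm gd N1571
def N1770 : Q := sm gi N1571
def N1771 : Q := sm gg N1572
def N1772 : Q := sm gh N1572
def N1773 : Q := sm gh N1573
def N1774 : Q := sm gi N1574
def N1775 : Q := sm gf N1576
def N1776 : Q := sm gh N1576
def N1777 : Q := sm gd N1577
def N1778 : Q := sm gi N1577
def N1779 : Q := sm gi N1578
def N1780 : Q := sm ge N1580
def N1781 : Q := sm ge N1581
def N1782 : Q := sm ge N1583
def N1783 : Q := sm gg N1584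
def N1784 : Q := sm gh N1584
def N1785 : Q := sm gd N1587
def N1786 : Q := sm gf N1588
def N1787 : Q := sm gd N1589
def N1788 : Q := sm gd N1592
def N1789 : Q := sm gc N1593
def N1790 : Q := sm ge N1594
def N1791 : Q := sm gg N1594
def N1792 : Q := sm gh N1594
def N1793 : Q := sm gi N1595
def N1794 : Q := sm gf N1597
def N1795 : Q := sm gh N1597
def N1796 : Q := sm ge N1598
def N1797 : Q := sm gg N1598
def N1798 : Q := sm gh N1598
def N1799 : Q := sm gi N1599
def N1800 : Q := sm gg N1601
def N1801 : Q := sm gh N1601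
def N1802 : Q := sm gh N1602
def N1803 : Q := sm gi N1603
def N1804 : Q := sm gb N1605
def N1805 : Q := sm gf N1605
def N1806 : Q := sm gh N1605
def N1807 : Q := sm ge N1606
def N1808 : Q := sm gg N1606
def N1809 : Q := sm gh N1606
def N1810 : Q := sm gi N1607
def N1811 : Q := sm ge N1609
def N1812 : Q := sm gg N1609
def N1813 : Q := sm gh N1609
def N1814 : Q := sm gd N1610
def N1815 : Q := sm gi N1610
def N1816 : Q := sm gg N1611
def N1817 : Q := sm gh N1611
def N1818 : Q := sm gh N1612
def N1819 : Q := sm gi N1613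
def N1820 : Q := sm gf N1615
def N1821 : Q := sm gh N1615
def N1822 : Q := sm gd N1616
def N1823 : Q := sm gi N1616
def N1824 : Q := sm gi N1617
def N1825 : Q := sm gb N1619
def N1826 : Q := sm gf N1619
def N1827 : Q := sm gh N1619
def N1828 : Q := sm ge N1620
def N1829 : Q := sm gh N1620
def N1830 : Q := sm gi N1621
def N1831 : Q := sm ge N1622
def N1832 : Q := sm gg N1622
def N1833 : Q := sm gh N1622
def N1834 : Q := sm gd N1623
def N1835 : Q := sm gi N1623
def N1836 : Q := sm gg N1624
def N1837 : Q := sm gh N1624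
def N1838 : Q := sm gh N1625
def N1839 : Q := sm gi N1626
def N1840 : Q := sm gh N1628
def N1841 : Q := sm gd N1629
def N1842 : Q := sm gi N1629
def N1843 : Q := sm gi N1630
def N1844 : Q := sm gf N1632
def N1845 : Q := sm ge N1633
def N1846 : Q := sm gg N1633
def N1847 : Q := sm gh N1633
def N1848 : Q := sm gi N1634
def N1849 : Q := sm gg N1635
def N1850 : Q := sm gh N1635
def N1851 : Q := sm gh N1636
def N1852 : Q := sm gi N1637
def N1853 : Q := sm gd N1639
def N1854 : Q := sm gg N1639
def N1855 : Q := sm gh N1639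
def N1856 : Q := sm gh N1640
def N1857 : Q := sm gd N1641
def N1858 : Q := sm gi N1641
def N1859 : Q := sm ge N1642
def N1860 : Q := sm gi N1642
def N1861 : Q := sm gf N1644
def N1862 : Q := sm gh N1644
def N1863 : Q := sm gd N1645
def N1864 : Q := sm gi N1645
def N1865 : Q := sm gi N1646
def N1866 : Q := sm gi N1649
def N1867 : Q := sm gc N1650
def N1868 : Q := sm gi N1650
def N1869 : Q := sm gd N1657
def N1870 : Q := sm gh N1658
def N1871 : Q := sm gd N1659
def N1872 : Q := sm gc N1660
def N1873 : Q := sm gb N1661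
def N1874 : Q := sm gg N1662
def N1875 : Q := sm gh N1662
def N1876 : Q := sm gh N1663
def N1877 : Q := sm gi N1664
def N1878 : Q := sm gh N1666
def N1879 : Q := sm gd N1667
def N1880 : Q := sm gi N1667
def N1881 : Q := sm gi N1668
def N1882 : Q := sm gh N1670
def N1883 : Q := sm gd N1671
def N1884 : Q := sm gi N1671
def N1885 : Q := sm gd N1672
def N1886 : Q := sm gi N1672
def N1887 : Q := sm ge N1673
def N1888 : Q := sm gi N1673
def N1889 : Q := sm gf N1675
def N1890 : Q := sm gi N1675
def N1891 : Q := sm gi N1677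
def N1892 : Q := sm gc N1678
def N1893 : Q := sm gi N1678
def N1894 : Q := sm gb N1682
def N1895 : Q := sm gi N1682
def N1896 : Q := sm gc N1684
def N1897 : Q := sm gb N1685
def N1898 : Q := sm ga N1686
def N1899 : Q := sm ge N1688
def N1900 : Q := sm gg N1688
def N1901 : Q := sm gf N1691
def N1902 : Q := sm ge N1692
def N1903 : Q := sm gg N1692
def N1904 : Q := sm gh N1692
def N1905 : Q := sm gd N1697
def N1906 : Q := sm gd N1699
def N1907 : Q := sm ge N1700
def N1908 : Q := sm gh N1706
def N1909 : Q := sm gd N1707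
def N1910 : Q := sm gd N1708
def N1911 : Q := sm ge N1709
def N1912 : Q := sm gf N1710
def N1913 : Q := sm gi N1711
def N1914 : Q := sm ge N1712
def N1915 : Q := sm gf N1713
def N1916 : Q := sm gc N1715
def N1917 : Q := sm gf N1715
def N1918 : Q := sm gh N1715
def N1919 : Q := sm gg N1716
def N1920 : Q := sm gf N1717
def N1921 : Q := sm gh N1717
def N1922 : Q := sm ge N1718
def N1923 : Q := sm gg N1718
def N1924 : Q := sm gh N1718
def N1925 : Q := sm gi N1719
def N1926 : Q := sm gg N1721
def N1927 : Q := sm gh N1721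
def N1928 : Q := sm gh N1722
def N1929 : Q := sm gi N1723
def N1930 : Q := sm gf N1725
def N1931 : Q := sm gh N1725
def N1932 : Q := sm ge N1726
def N1933 : Q := sm gh N1726
def N1934 : Q := sm gi N1727
def N1935 : Q := sm gh N1728
def N1936 : Q := sm gi N1729
def N1937 : Q := sm gb N1731
def N1938 : Q := sm gf N1731
def N1939 : Q := sm gh N1731
def N1940 : Q := sm ge N1732
def N1941 : Q := sm gg N1732
def N1942 : Q := sm gh N1732
def N1943 : Q := sm gi N1733
def N1944 : Q := sm ge N1735
def N1945 : Q := sm gg N1735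
def N1946 : Q := sm gh N1735
def N1947 : Q := sm gd N1736
def N1948 : Q := sm gi N1736
def N1949 : Q := sm gg N1737
def N1950 : Q := sm gh N1737
def N1951 : Q := sm gh N1738
def N1952 : Q := sm gi N1739
def N1953 : Q := sm gf N1741
def N1954 : Q := sm gh N1741
def N1955 : Q := sm gd N1742
def N1956 : Q := sm gi N1742
def N1957 : Q := sm gi N1743
def N1958 : Q := sm gc N1745
def N1959 : Q := sm gh N1745
def N1960 : Q := sm gh N1746
def N1961 : Q := sm gi N1747
def N1962 : Q := sm gb N1749
def N1963 : Q := sm gf N1749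
def N1964 : Q := sm gh N1749
def N1965 : Q := sm ge N1750
def N1966 : Q := sm gh N1750
def N1967 : Q := sm gi N1751
def N1968 : Q := sm ge N1752
def N1969 : Q := sm gh N1752
def N1970 : Q := sm gd N1753
def N1971 : Q := sm gi N1753
def N1972 : Q := sm gh N1754
def N1973 : Q := sm gi N1755
def N1974 : Q := sm gi N1757
def N1975 : Q := sm gf N1759
def N1976 : Q := sm gh N1759
def N1977 : Q := sm ge N1760
def N1978 : Q := sm gg N1760
def N1979 : Q := sm gh N1760
def N1980 : Q := sm gd N1761
def N1981 : Q := sm gi N1761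
def N1982 : Q := sm gg N1762
def N1983 : Q := sm gh N1762
def N1984 : Q := sm gh N1763
def N1985 : Q := sm gi N1764
def N1986 : Q := sm gd N1766
def N1987 : Q := sm gg N1766
def N1988 : Q := sm gh N1766
def N1989 : Q := sm gh N1767
def N1990 : Q := sm gd N1768
def N1991 : Q := sm gi N1768
def N1992 : Q := sm ge N1769
def N1993 : Q := sm gi N1769
def N1994 : Q := sm gf N1771
def N1995 : Q := sm gh N1771
def N1996 : Q := sm gd N1772
def N1997 : Q := sm gi N1772
def N1998 : Q := sm gi N1773
def N1999 : Q := sm gh N1775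
def N2000 : Q := sm gd N1776
def N2001 : Q := sm gi N1776
def N2002 : Q := sm gc N1777
def N2003 : Q := sm gi N1777
def N2004 : Q := sm gd N1781
def N2005 : Q := sm gd N1782
def N2006 : Q := sm gd N1784
def N2007 : Q := sm gh N1785
def N2008 : Q := sm gc N1787
def N2009 : Q := sm gc N1788
def N2010 : Q := sm gb N1789
def N2011 : Q := sm gg N1790
def N2012 : Q := sm gh N1790
def N2013 : Q := sm gh N1791
def N2014 : Q := sm gi N1792
def N2015 : Q := sm ge N1794
def N2016 : Q := sm gg N1794
def N2017 : Q := sm gh N1794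
def N2018 : Q := sm gi N1795
def N2019 : Q := sm gg N1796
def N2020 : Q := sm gh N1796
def N2021 : Q := sm gh N1797
def N2022 : Q := sm gi N1798
def N2023 : Q := sm gh N1800
def N2024 : Q := sm gd N1801
def N2025 : Q := sm gi N1801
def N2026 : Q := sm gi N1802
def N2027 : Q := sm gf N1804
def N2028 : Q := sm gh N1804
def N2029 : Q := sm ge N1805
def N2030 : Q := sm gg N1805
def N2031 : Q := sm gh N1805
def N2032 : Q := sm gd N1806
def N2033 : Q := sm gi N1806
def N2034 : Q := sm gg N1807
def N2035 : Q := sm gh N1807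
def N2036 : Q := sm gh N1808
def N2037 : Q := sm gi N1809
def N2038 : Q := sm gd N1811
def N2039 : Q := sm gg N1811
def N2040 : Q := sm gh N1811
def N2041 : Q := sm gh N1812
def N2042 : Q := sm gd N1813
def N2043 : Q := sm gi N1813
def N2044 : Q := sm ge N1814
def N2045 : Q := sm gi N1814
def N2046 : Q := sm gf N1816
def N2047 : Q := sm gh N1816
def N2048 : Q := sm gd N1817
def N2049 : Q := sm gi N1817
def N2050 : Q := sm gi N1818
def N2051 : Q := sm gh N1820
def N2052 : Q := sm gd N1821
def N2053 : Q := sm gi N1821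
def N2054 : Q := sm gc N1822
def N2055 : Q := sm gi N1822
def N2056 : Q := sm gf N1825
def N2057 : Q := sm ge N1826
def N2058 : Q := sm gh N1826
def N2059 : Q := sm gi N1827
def N2060 : Q := sm gh N1828
def N2061 : Q := sm gi N1829
def N2062 : Q := sm gd N1831
def N2063 : Q := sm gg N1831
def N2064 : Q := sm gh N1831
def N2065 : Q := sm gh N1832
def N2066 : Q := sm gd N1833
def N2067 : Q := sm gi N1833
def N2068 : Q := sm gi N1834
def N2069 : Q := sm gh N1836
def N2070 : Q := sm gd N1837
def N2071 : Q := sm gi N1837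
def N2072 : Q := sm gi N1838
def N2073 : Q := sm gi N1840
def N2074 : Q := sm gi N1841
def N2075 : Q := sm ge N1844
def N2076 : Q := sm gg N1844
def N2077 : Q := sm gh N1845
def N2078 : Q := sm gh N1846
def N2079 : Q := sm gi N1847
def N2080 : Q := sm gh N1849
def N2081 : Q := sm gd N1850
def N2082 : Q := sm gi N1850
def N2083 : Q := sm gi N1851
def N2084 : Q := sm gh N1853
def N2085 : Q := sm gf N1854
def N2086 : Q := sm gh N1854
def N2087 : Q := sm gd N1855
def N2088 : Q := sm gi N1855
def N2089 : Q := sm gd N1856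
def N2090 : Q := sm gi N1856
def N2091 : Q := sm ge N1857
def N2092 : Q := sm gi N1857
def N2093 : Q := sm gf N1859
def N2094 : Q := sm gi N1859
def N2095 : Q := sm gi N1862
def N2096 : Q := sm gc N1863
def N2097 : Q := sm gi N1863
def N2098 : Q := sm gb N1867
def N2099 : Q := sm gi N1867
def N2100 : Q := sm gc N1869
def N2101 : Q := sm gd N1870
def N2102 : Q := sm gi N1870
def N2103 : Q := sm gc N1871
def N2104 : Q := sm gb N1872
def N2105 : Q := sm ga N1873
def N2106 : Q := sm gh N1874
def N2107 : Q := sm gd N1875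
def N2108 : Q := sm gi N1875
def N2109 : Q := sm gi N1876
def N2110 : Q := sm gi N1878
def N2111 : Q := sm gc N1879
def N2112 : Q := sm gi N1879
def N2113 : Q := sm gd N1882
def N2114 : Q := sm gi N1882
def N2115 : Q := sm gc N1883
def N2116 : Q := sm ge N1883
def N2117 : Q := sm gi N1883
def N2118 : Q := sm ge N1885
def N2119 : Q := sm gi N1885
def N2120 : Q := sm gf N1887
def N2121 : Q := sm gi N1887
def N2122 : Q := sm gg N1889
def N2123 : Q := sm gi N1889
def N2124 : Q := sm gb N1892
def N2125 : Q := sm gi N1892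
def N2126 : Q := sm gi N1894
def N2127 : Q := sm gb N1896
def N2128 : Q := sm ga N1897
def N2129 : Q := sm gd N1902
def N2130 : Q := sm gh N1905
def N2131 : Q := sm ge N1906
def N2132 : Q := sm gf N1907
def N2133 : Q := sm gd N1908
def N2134 : Q := sm gi N1908
def N2135 : Q := sm ge N1909
def N2136 : Q := sm ge N1910
def N2137 : Q := sm gf N1911
def N2138 : Q := sm gf N1914
def N2139 : Q := sm gb N1916
def N2140 : Q := sm gf N1916
def N2141 : Q := sm gh N1916
def N2142 : Q := sm ge N1917
def N2143 : Q := sm gg N1917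
def N2144 : Q := sm gh N1917
def N2145 : Q := sm gi N1918
def N2146 : Q := sm gh N1920
def N2147 : Q := sm gd N1921
def N2148 : Q := sm gi N1921
def N2149 : Q := sm gh N1922
def N2150 : Q := sm gh N1923
def N2151 : Q := sm gi N1924
def N2152 : Q := sm gh N1926
def N2153 : Q := sm gd N1927
def N2154 : Q := sm gi N1927
def N2155 : Q := sm gi N1928
def N2156 : Q := sm ge N1930
def N2157 : Q := sm gh N1930
def N2158 : Q := sm gd N1931
def N2159 : Q := sm gi N1931
def N2160 : Q := sm gh N1932
def N2161 : Q := sm gi N1933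
def N2162 : Q := sm gd N1935
def N2163 : Q := sm gi N1935
def N2164 : Q := sm gf N1937
def N2165 : Q := sm gh N1937
def N2166 : Q := sm ge N1938
def N2167 : Q := sm gg N1938
def N2168 : Q := sm gh N1938
def N2169 : Q := sm gd N1939
def N2170 : Q := sm gi N1939
def N2171 : Q := sm gg N1940
def N2172 : Q := sm gh N1940
def N2173 : Q := sm gh N1941
def N2174 : Q := sm gi N1942
def N2175 : Q := sm gd N1944
def N2176 : Q := sm gg N1944
def N2177 : Q := sm gh N1944
def N2178 : Q := sm gh N1945
def N2179 : Q := sm gd N1946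
def N2180 : Q := sm gi N1946
def N2181 : Q := sm ge N1947
def N2182 : Q := sm gi N1947
def N2183 : Q := sm gf N1949
def N2184 : Q := sm gh N1949
def N2185 : Q := sm gd N1950
def N2186 : Q := sm gi N1950
def N2187 : Q := sm gi N1951
def N2188 : Q := sm gh N1953
def N2189 : Q := sm gd N1954
def N2190 : Q := sm gi N1954
def N2191 : Q := sm gc N1955
def N2192 : Q := sm gi N1955
def N2193 : Q := sm gb N1958
def N2194 : Q := sm gh N1958
def N2195 : Q := sm gi N1959
def N2196 : Q := sm gd N1960
def N2197 : Q := sm gi N1960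
def N2198 : Q := sm gf N1962
def N2199 : Q := sm gh N1962
def N2200 : Q := sm ge N1963
def N2201 : Q := sm gh N1963
def N2202 : Q := sm gd N1964
def N2203 : Q := sm gi N1964
def N2204 : Q := sm gh N1965
def N2205 : Q := sm gi N1966
def N2206 : Q := sm gd N1968
def N2207 : Q := sm gh N1968
def N2208 : Q := sm gd N1969
def N2209 : Q := sm gi N1969
def N2210 : Q := sm ge N1970
def N2211 : Q := sm gi N1970
def N2212 : Q := sm gi N1972
def N2213 : Q := sm ge N1975
def N2214 : Q := sm gg N1975
def N2215 : Q := sm gh N1975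
def N2216 : Q := sm gi N1976
def N2217 : Q := sm gd N1977
def N2218 : Q := sm gg N1977
def N2219 : Q := sm gh N1977
def N2220 : Q := sm gh N1978
def N2221 : Q := sm gd N1979
def N2222 : Q := sm gi N1979
def N2223 : Q := sm gi N1980
def N2224 : Q := sm gh N1982
def N2225 : Q := sm gd N1983
def N2226 : Q := sm gi N1983
def N2227 : Q := sm gi N1984
def N2228 : Q := sm gg N1986
def N2229 : Q := sm gh N1986
def N2230 : Q := sm gf N1987
def N2231 : Q := sm gh N1987
def N2232 : Q := sm gd N1988
def N2233 : Q := sm gi N1988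
def N2234 : Q := sm gd N1989
def N2235 : Q := sm gi N1989
def N2236 : Q := sm ge N1990
def N2237 : Q := sm gi N1990
def N2238 : Q := sm gf N1992
def N2239 : Q := sm gi N1992
def N2240 : Q := sm gh N1993
def N2241 : Q := sm gh N1994
def N2242 : Q := sm gd N1995
def N2243 : Q := sm gi N1995
def N2244 : Q := sm gc N1996
def N2245 : Q := sm gi N1996
def N2246 : Q := sm gi N1999
def N2247 : Q := sm gc N2000
def N2248 : Q := sm gi N2000
def N2249 : Q := sm gb N2002
def N2250 : Q := sm gi N2002
def N2251 : Q := sm gh N2004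
def N2252 : Q := sm gi N2007
def N2253 : Q := sm gb N2008
def N2254 : Q := sm gb N2009
def N2255 : Q := sm ga N2010
def N2256 : Q := sm gh N2011
def N2257 : Q := sm gd N2012
def N2258 : Q := sm gi N2012
def N2259 : Q := sm gi N2013
def N2260 : Q := sm gd N2015
def N2261 : Q := sm gg N2015
def N2262 : Q := sm gh N2015
def N2263 : Q := sm gh N2016
def N2264 : Q := sm gi N2017
def N2265 : Q := sm gh N2019
def N2266 : Q := sm gd N2020
def N2267 : Q := sm gi N2020
def N2268 : Q := sm gi N2021
def N2269 : Q := sm gd N2023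
def N2270 : Q := sm gi N2023
def N2271 : Q := sm gc N2024
def N2272 : Q := sm gi N2024
def N2273 : Q := sm ge N2027
def N2274 : Q := sm gh N2027
def N2275 : Q := sm gi N2028
def N2276 : Q := sm gd N2029
def N2277 : Q := sm gg N2029
def N2278 : Q := sm gh N2029
def N2279 : Q := sm gh N2030
def N2280 : Q := sm gd N2031
def N2281 : Q := sm gi N2031
def N2282 : Q := sm gi N2032
def N2283 : Q := sm gf N2034
def N2284 : Q := sm gh N2034
def N2285 : Q := sm gd N2035
def N2286 : Q := sm gi N2035
def N2287 : Q := sm gi N2036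
def N2288 : Q := sm gg N2038
def N2289 : Q := sm gh N2038
def N2290 : Q := sm gf N2039
def N2291 : Q := sm gh N2039
def N2292 : Q := sm gd N2040
def N2293 : Q := sm gi N2040
def N2294 : Q := sm gd N2041
def N2295 : Q := sm gi N2041
def N2296 : Q := sm ge N2042
def N2297 : Q := sm gi N2042
def N2298 : Q := sm gf N2044
def N2299 : Q := sm gi N2044
def N2300 : Q := sm gh N2046
def N2301 : Q := sm gd N2047
def N2302 : Q := sm gi N2047
def N2303 : Q := sm gc N2048
def N2304 : Q := sm gi N2048
def N2305 : Q := sm gi N2051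
def N2306 : Q := sm gi N2052
def N2307 : Q := sm gb N2054
def N2308 : Q := sm gi N2054
def N2309 : Q := sm gh N2055
def N2310 : Q := sm gh N2057
def N2311 : Q := sm gi N2058
def N2312 : Q := sm gi N2060
def N2313 : Q := sm gh N2062
def N2314 : Q := sm gh N2063
def N2315 : Q := sm gd N2064
def N2316 : Q := sm gi N2064
def N2317 : Q := sm gd N2065
def N2318 : Q := sm gi N2065
def N2319 : Q := sm ge N2066
def N2320 : Q := sm gi N2066
def N2321 : Q := sm gi N2069
def N2322 : Q := sm gc N2070
def N2323 : Q := sm gi N2070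
def N2324 : Q := sm gd N2077
def N2325 : Q := sm gi N2077
def N2326 : Q := sm gi N2078
def N2327 : Q := sm gi N2080
def N2328 : Q := sm gc N2081
def N2329 : Q := sm gi N2081
def N2330 : Q := sm gd N2084
def N2331 : Q := sm gi N2084
def N2332 : Q := sm gd N2086
def N2333 : Q := sm gi N2086
def N2334 : Q := sm gc N2087
def N2335 : Q := sm ge N2087
def N2336 : Q := sm gi N2087
def N2337 : Q := sm ge N2089
def N2338 : Q := sm gi N2089
def N2339 : Q := sm gf N2091
def N2340 : Q := sm gi N2091
def N2341 : Q := sm gg N2093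
def N2342 : Q := sm gi N2093
def N2343 : Q := sm gb N2096
def N2344 : Q := sm gi N2096
def N2345 : Q := sm ga N2098
def N2346 : Q := sm gi N2098
def N2347 : Q := sm gb N2100
def N2348 : Q := sm gc N2101
def N2349 : Q := sm gi N2101
def N2350 : Q := sm gb N2103
def N2351 : Q := sm ga N2104
def N2352 : Q := sm gd N2106
def N2353 : Q := sm gi N2106
def N2354 : Q := sm gc N2107
def N2355 : Q := sm gi N2107
def N2356 : Q := sm gb N2111
def N2357 : Q := sm gi N2111
def N2358 : Q := sm ge N2113
def N2359 : Q := sm gi N2113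
def N2360 : Q := sm gb N2115
def N2361 : Q := sm ge N2115
def N2362 : Q := sm gi N2115
def N2363 : Q := sm gf N2116
def N2364 : Q := sm gi N2116
def N2365 : Q := sm gh N2117
def N2366 : Q := sm gf N2118
def N2367 : Q := sm gi N2118
def N2368 : Q := sm gi N2120
def N2369 : Q := sm gi N2122
def N2370 : Q := sm gi N2124
def N2371 : Q := sm ga N2127
def N2372 : Q := sm gi N2130
def N2373 : Q := sm gf N2131
def N2374 : Q := sm ge N2133
def N2375 : Q := sm gi N2133
def N2376 : Q := sm gf N2135
def N2377 : Q := sm gf N2136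
def N2378 : Q := sm gh N2139
def N2379 : Q := sm gh N2140
def N2380 : Q := sm gd N2141
def N2381 : Q := sm gi N2141
def N2382 : Q := sm gh N2142
def N2383 : Q := sm gh N2143
def N2384 : Q := sm gi N2144
def N2385 : Q := sm gd N2146
def N2386 : Q := sm gi N2146
def N2387 : Q := sm ge N2147
def N2388 : Q := sm gi N2147
def N2389 : Q := sm gd N2149
def N2390 : Q := sm gi N2149
def N2391 : Q := sm gi N2150
def N2392 : Q := sm gd N2152
def N2393 : Q := sm gi N2152
def N2394 : Q := sm gc N2153
def N2395 : Q := sm gi N2153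
def N2396 : Q := sm gd N2156
def N2397 : Q := sm gh N2156
def N2398 : Q := sm gd N2157
def N2399 : Q := sm gi N2157
def N2400 : Q := sm gi N2158
def N2401 : Q := sm gd N2160
def N2402 : Q := sm gi N2160
def N2403 : Q := sm gi N2162
def N2404 : Q := sm ge N2164
def N2405 : Q := sm gg N2164
def N2406 : Q := sm gh N2164
def N2407 : Q := sm gd N2165
def N2408 : Q := sm gi N2165
def N2409 : Q := sm gd N2166
def N2410 : Q := sm gg N2166
def N2411 : Q := sm gh N2166
def N2412 : Q := sm gh N2167
def N2413 : Q := sm gd N2168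
def N2414 : Q := sm gi N2168
def N2415 : Q := sm ge N2169
def N2416 : Q := sm gi N2169
def N2417 : Q := sm gf N2171
def N2418 : Q := sm gh N2171
def N2419 : Q := sm gd N2172
def N2420 : Q := sm gi N2172
def N2421 : Q := sm gi N2173
def N2422 : Q := sm gg N2175
def N2423 : Q := sm gh N2175
def N2424 : Q := sm gf N2176
def N2425 : Q := sm gh N2176
def N2426 : Q := sm gd N2177
def N2427 : Q := sm gi N2177
def N2428 : Q := sm gd N2178
def N2429 : Q := sm gi N2178
def N2430 : Q := sm ge N2179
def N2431 : Q := sm gi N2179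
def N2432 : Q := sm gf N2181
def N2433 : Q := sm gi N2181
def N2434 : Q := sm gh N2182
def N2435 : Q := sm gh N2183
def N2436 : Q := sm gd N2184
def N2437 : Q := sm gi N2184
def N2438 : Q := sm gc N2185
def N2439 : Q := sm gi N2185
def N2440 : Q := sm gd N2188
def N2441 : Q := sm gi N2188
def N2442 : Q := sm gc N2189
def N2443 : Q := sm gi N2189
def N2444 : Q := sm gb N2191
def N2445 : Q := sm gi N2191
def N2446 : Q := sm gh N2192
def N2447 : Q := sm gh N2193
def N2448 : Q := sm gd N2194
def N2449 : Q := sm gi N2194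
def N2450 : Q := sm ge N2196
def N2451 : Q := sm gi N2196
def N2452 : Q := sm ge N2198
def N2453 : Q := sm gh N2198
def N2454 : Q := sm gi N2199
def N2455 : Q := sm gh N2200
def N2456 : Q := sm gd N2201
def N2457 : Q := sm gi N2201
def N2458 : Q := sm gi N2202
def N2459 : Q := sm gi N2204
def N2460 : Q := sm gh N2206
def N2461 : Q := sm gd N2207
def N2462 : Q := sm gi N2207
def N2463 : Q := sm ge N2208
def N2464 : Q := sm gi N2208
def N2465 : Q := sm gf N2210
def N2466 : Q := sm gi N2210
def N2467 : Q := sm gh N2211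
def N2468 : Q := sm gd N2213
def N2469 : Q := sm gg N2213
def N2470 : Q := sm gh N2213
def N2471 : Q := sm gh N2214
def N2472 : Q := sm gi N2215
def N2473 : Q := sm gh N2217
def N2474 : Q := sm gh N2218
def N2475 : Q := sm gd N2219
def N2476 : Q := sm gi N2219
def N2477 : Q := sm gd N2220
def N2478 : Q := sm gi N2220
def N2479 : Q := sm ge N2221
def N2480 : Q := sm gi N2221
def N2481 : Q := sm gh N2223
def N2482 : Q := sm gi N2224
def N2483 : Q := sm gc N2225
def N2484 : Q := sm gi N2225
def N2485 : Q := sm gd N2229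
def N2486 : Q := sm gi N2229
def N2487 : Q := sm gh N2230
def N2488 : Q := sm gd N2231
def N2489 : Q := sm gi N2231
def N2490 : Q := sm gc N2232
def N2491 : Q := sm ge N2232
def N2492 : Q := sm gi N2232
def N2493 : Q := sm ge N2234
def N2494 : Q := sm gi N2234
def N2495 : Q := sm gf N2236
def N2496 : Q := sm gi N2236
def N2497 : Q := sm gh N2237
def N2498 : Q := sm gg N2238
def N2499 : Q := sm gi N2238
def N2500 : Q := sm gh N2239
def N2501 : Q := sm gi N2241
def N2502 : Q := sm gi N2242
def N2503 : Q := sm gb N2244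
def N2504 : Q := sm gi N2244
def N2505 : Q := sm gb N2247
def N2506 : Q := sm gi N2247
def N2507 : Q := sm ga N2249
def N2508 : Q := sm gi N2249
def N2509 : Q := sm gi N2251
def N2510 : Q := sm ga N2253
def N2511 : Q := sm gd N2256
def N2512 : Q := sm gi N2256
def N2513 : Q := sm gc N2257
def N2514 : Q := sm gi N2257
def N2515 : Q := sm gh N2260
def N2516 : Q := sm gh N2261
def N2517 : Q := sm gd N2262
def N2518 : Q := sm gi N2262
def N2519 : Q := sm gi N2263
def N2520 : Q := sm gd N2265
def N2521 : Q := sm gi N2265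
def N2522 : Q := sm gc N2266
def N2523 : Q := sm gi N2266
def N2524 : Q := sm gi N2269
def N2525 : Q := sm gb N2271
def N2526 : Q := sm gi N2271
def N2527 : Q := sm gh N2272
def N2528 : Q := sm gh N2273
def N2529 : Q := sm gi N2274
def N2530 : Q := sm gh N2276
def N2531 : Q := sm gf N2277
def N2532 : Q := sm gh N2277
def N2533 : Q := sm gd N2278
def N2534 : Q := sm gi N2278
def N2535 : Q := sm gi N2279
def N2536 : Q := sm ge N2280
def N2537 : Q := sm gi N2280
def N2538 : Q := sm gh N2283
def N2539 : Q := sm gd N2284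
def N2540 : Q := sm gi N2284
def N2541 : Q := sm gc N2285
def N2542 : Q := sm gi N2285
def N2543 : Q := sm gd N2289
def N2544 : Q := sm gi N2289
def N2545 : Q := sm gh N2290
def N2546 : Q := sm gd N2291
def N2547 : Q := sm gi N2291
def N2548 : Q := sm gc N2292
def N2549 : Q := sm ge N2292
def N2550 : Q := sm gi N2292
def N2551 : Q := sm gi N2294
def N2552 : Q := sm gf N2296
def N2553 : Q := sm gi N2296
def N2554 : Q := sm gg N2298
def N2555 : Q := sm gi N2298
def N2556 : Q := sm gi N2300
def N2557 : Q := sm gc N2301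
def N2558 : Q := sm gi N2301
def N2559 : Q := sm gb N2303
def N2560 : Q := sm gi N2303
def N2561 : Q := sm gh N2304
def N2562 : Q := sm gh N2306
def N2563 : Q := sm ga N2307
def N2564 : Q := sm gi N2307
def N2565 : Q := sm gh N2308
def N2566 : Q := sm gd N2310
def N2567 : Q := sm gi N2310
def N2568 : Q := sm gd N2313
def N2569 : Q := sm gi N2313
def N2570 : Q := sm gd N2314
def N2571 : Q := sm gi N2314
def N2572 : Q := sm gc N2315
def N2573 : Q := sm ge N2315
def N2574 : Q := sm gi N2315
def N2575 : Q := sm gi N2317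
def N2576 : Q := sm gi N2319
def N2577 : Q := sm gi N2322
def N2578 : Q := sm gc N2324
def N2579 : Q := sm gi N2324
def N2580 : Q := sm gb N2328
def N2581 : Q := sm gi N2328
def N2582 : Q := sm gc N2330
def N2583 : Q := sm ge N2330
def N2584 : Q := sm gi N2330
def N2585 : Q := sm ge N2332
def N2586 : Q := sm gi N2332
def N2587 : Q := sm gb N2334
def N2588 : Q := sm ge N2334
def N2589 : Q := sm gi N2334
def N2590 : Q := sm gf N2335
def N2591 : Q := sm gi N2335
def N2592 : Q := sm gh N2336
def N2593 : Q := sm gf N2337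
def N2594 : Q := sm gi N2337
def N2595 : Q := sm gg N2339
def N2596 : Q := sm gi N2339
def N2597 : Q := sm gi N2341
def N2598 : Q := sm gi N2343
def N2599 : Q := sm gi N2345
def N2600 : Q := sm ga N2347
def N2601 : Q := sm gb N2348
def N2602 : Q := sm gi N2348
def N2603 : Q := sm ga N2350
def N2604 : Q := sm gi N2352
def N2605 : Q := sm gb N2354
def N2606 : Q := sm gi N2354
def N2607 : Q := sm gh N2355
def N2608 : Q := sm gi N2356
def N2609 : Q := sm gf N2358
def N2610 : Q := sm gi N2358
def N2611 : Q := sm gh N2359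
def N2612 : Q := sm ge N2360
def N2613 : Q := sm gi N2360
def N2614 : Q := sm gf N2361
def N2615 : Q := sm gi N2361
def N2616 : Q := sm gh N2362
def N2617 : Q := sm gi N2363
def N2618 : Q := sm gh N2364
def N2619 : Q := sm gi N2366
def N2620 : Q := sm gf N2374
def N2621 : Q := sm gi N2374
def N2622 : Q := sm gd N2378
def N2623 : Q := sm gi N2378
def N2624 : Q := sm gd N2379
def N2625 : Q := sm gi N2379
def N2626 : Q := sm ge N2380
def N2627 : Q := sm gi N2380
def N2628 : Q := sm gd N2382
def N2629 : Q := sm gi N2382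
def N2630 : Q := sm gi N2383
def N2631 : Q := sm ge N2385
def N2632 : Q := sm gi N2385
def N2633 : Q := sm gf N2387
def N2634 : Q := sm gi N2387
def N2635 : Q := sm gh N2388
def N2636 : Q := sm gc N2389
def N2637 : Q := sm gi N2389
def N2638 : Q := sm gc N2392
def N2639 : Q := sm gi N2392
def N2640 : Q := sm gb N2394
def N2641 : Q := sm gi N2394
def N2642 : Q := sm gh N2395
def N2643 : Q := sm gh N2396
def N2644 : Q := sm gd N2397
def N2645 : Q := sm gi N2397
def N2646 : Q := sm ge N2398
def N2647 : Q := sm gi N2398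
def N2648 : Q := sm gh N2400
def N2649 : Q := sm gc N2401
def N2650 : Q := sm gi N2401
def N2651 : Q := sm gh N2403
def N2652 : Q := sm gg N2404
def N2653 : Q := sm gh N2404
def N2654 : Q := sm gh N2405
def N2655 : Q := sm gd N2406
def N2656 : Q := sm gi N2406
def N2657 : Q := sm gc N2407
def N2658 : Q := sm gi N2407
def N2659 : Q := sm gg N2409
def N2660 : Q := sm gh N2409
def N2661 : Q := sm gf N2410
def N2662 : Q := sm gh N2410
def N2663 : Q := sm gd N2411
def N2664 : Q := sm gi N2411
def N2665 : Q := sm gi N2412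
def N2666 : Q := sm ge N2413
def N2667 : Q := sm gi N2413
def N2668 : Q := sm gf N2415
def N2669 : Q := sm gi N2415
def N2670 : Q := sm gh N2416
def N2671 : Q := sm gh N2417
def N2672 : Q := sm gi N2418
def N2673 : Q := sm gc N2419
def N2674 : Q := sm gi N2419
def N2675 : Q := sm gh N2422
def N2676 : Q := sm gd N2423
def N2677 : Q := sm gi N2423
def N2678 : Q := sm gh N2424
def N2679 : Q := sm gd N2425
def N2680 : Q := sm gi N2425
def N2681 : Q := sm gc N2426
def N2682 : Q := sm ge N2426
def N2683 : Q := sm gi N2426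
def N2684 : Q := sm gi N2428
def N2685 : Q := sm gf N2430
def N2686 : Q := sm gi N2430
def N2687 : Q := sm gh N2431
def N2688 : Q := sm gg N2432
def N2689 : Q := sm gi N2432
def N2690 : Q := sm gh N2433
def N2691 : Q := sm gd N2435
def N2692 : Q := sm gi N2435
def N2693 : Q := sm gi N2436
def N2694 : Q := sm gb N2438
def N2695 : Q := sm gi N2438
def N2696 : Q := sm gh N2439
def N2697 : Q := sm ge N2440
def N2698 : Q := sm gi N2440
def N2699 : Q := sm gb N2442
def N2700 : Q := sm gi N2442
def N2701 : Q := sm gh N2443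
def N2702 : Q := sm ga N2444
def N2703 : Q := sm gi N2444
def N2704 : Q := sm gh N2445
def N2705 : Q := sm gd N2447
def N2706 : Q := sm gi N2447
def N2707 : Q := sm gi N2448
def N2708 : Q := sm gf N2450
def N2709 : Q := sm gi N2450
def N2710 : Q := sm gh N2451
def N2711 : Q := sm gh N2452
def N2712 : Q := sm gi N2453
def N2713 : Q := sm gd N2455
def N2714 : Q := sm gi N2455
def N2715 : Q := sm ge N2456
def N2716 : Q := sm gi N2456
def N2717 : Q := sm gh N2458
def N2718 : Q := sm gd N2460
def N2719 : Q := sm gi N2460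
def N2720 : Q := sm ge N2461
def N2721 : Q := sm gi N2461
def N2722 : Q := sm gf N2463
def N2723 : Q := sm gi N2463
def N2724 : Q := sm gh N2464
def N2725 : Q := sm gg N2465
def N2726 : Q := sm gi N2465
def N2727 : Q := sm gh N2466
def N2728 : Q := sm gh N2468
def N2729 : Q := sm gh N2469
def N2730 : Q := sm gd N2470
def N2731 : Q := sm gi N2470
def N2732 : Q := sm gi N2471
def N2733 : Q := sm gd N2473
def N2734 : Q := sm gi N2473
def N2735 : Q := sm gd N2474
def N2736 : Q := sm gi N2474
def N2737 : Q := sm gc N2475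
def N2738 : Q := sm ge N2475
def N2739 : Q := sm gi N2475
def N2740 : Q := sm ge N2477
def N2741 : Q := sm gi N2477
def N2742 : Q := sm gi N2479
def N2743 : Q := sm gh N2480
def N2744 : Q := sm gi N2483
def N2745 : Q := sm ge N2485
def N2746 : Q := sm gi N2485
def N2747 : Q := sm gd N2487
def N2748 : Q := sm gi N2487
def N2749 : Q := sm ge N2488
def N2750 : Q := sm gi N2488
def N2751 : Q := sm gb N2490
def N2752 : Q := sm ge N2490
def N2753 : Q := sm gi N2490
def N2754 : Q := sm gf N2491
def N2755 : Q := sm gi N2491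
def N2756 : Q := sm gh N2492
def N2757 : Q := sm gf N2493
def N2758 : Q := sm gi N2493
def N2759 : Q := sm gh N2494
def N2760 : Q := sm gg N2495
def N2761 : Q := sm gi N2495
def N2762 : Q := sm gh N2496
def N2763 : Q := sm gi N2498
def N2764 : Q := sm gh N2499
def N2765 : Q := sm ga N2503
def N2766 : Q := sm gi N2503
def N2767 : Q := sm gi N2505
def N2768 : Q := sm gi N2507
def N2769 : Q := sm gi N2511
def N2770 : Q := sm gb N2513
def N2771 : Q := sm gi N2513
def N2772 : Q := sm gh N2514
def N2773 : Q := sm gd N2515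
def N2774 : Q := sm gi N2515
def N2775 : Q := sm gd N2516
def N2776 : Q := sm gi N2516
def N2777 : Q := sm gc N2517
def N2778 : Q := sm gi N2517
def N2779 : Q := sm gi N2520
def N2780 : Q := sm gb N2522
def N2781 : Q := sm gi N2522
def N2782 : Q := sm gh N2523
def N2783 : Q := sm gh N2524
def N2784 : Q := sm ga N2525
def N2785 : Q := sm gi N2525
def N2786 : Q := sm gh N2526
def N2787 : Q := sm gd N2528
def N2788 : Q := sm gi N2528
def N2789 : Q := sm gd N2530
def N2790 : Q := sm gi N2530
def N2791 : Q := sm gh N2531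
def N2792 : Q := sm gd N2532
def N2793 : Q := sm gi N2532
def N2794 : Q := sm gc N2533
def N2795 : Q := sm ge N2533
def N2796 : Q := sm gi N2533
def N2797 : Q := sm gi N2536
def N2798 : Q := sm gi N2538
def N2799 : Q := sm gc N2539
def N2800 : Q := sm gi N2539
def N2801 : Q := sm gi N2541
def N2802 : Q := sm gh N2542
def N2803 : Q := sm gc N2543
def N2804 : Q := sm gi N2543
def N2805 : Q := sm gd N2545
def N2806 : Q := sm gi N2545
def N2807 : Q := sm gc N2546
def N2808 : Q := sm gi N2546
def N2809 : Q := sm gb N2548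
def N2810 : Q := sm ge N2548
def N2811 : Q := sm gi N2548
def N2812 : Q := sm gf N2549
def N2813 : Q := sm gi N2549
def N2814 : Q := sm gh N2550
def N2815 : Q := sm gg N2552
def N2816 : Q := sm gi N2552
def N2817 : Q := sm gi N2554
def N2818 : Q := sm gi N2557
def N2819 : Q := sm gh N2558
def N2820 : Q := sm ga N2559
def N2821 : Q := sm gi N2559
def N2822 : Q := sm gh N2560
def N2823 : Q := sm gi N2563
def N2824 : Q := sm gh N2564
def N2825 : Q := sm gi N2566
def N2826 : Q := sm gi N2568
def N2827 : Q := sm gi N2570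
def N2828 : Q := sm ge N2572
def N2829 : Q := sm gi N2572
def N2830 : Q := sm gi N2573
def N2831 : Q := sm gh N2574
def N2832 : Q := sm gb N2578
def N2833 : Q := sm gi N2578
def N2834 : Q := sm gh N2579
def N2835 : Q := sm gi N2580
def N2836 : Q := sm gb N2582
def N2837 : Q := sm ge N2582
def N2838 : Q := sm gi N2582
def N2839 : Q := sm gf N2583
def N2840 : Q := sm gi N2583
def N2841 : Q := sm gh N2584
def N2842 : Q := sm gf N2585
def N2843 : Q := sm gi N2585
def N2844 : Q := sm gh N2586
def N2845 : Q := sm ga N2587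
def N2846 : Q := sm ge N2587
def N2847 : Q := sm gi N2587
def N2848 : Q := sm gf N2588
def N2849 : Q := sm gi N2588
def N2850 : Q := sm gh N2589
def N2851 : Q := sm gi N2590
def N2852 : Q := sm gh N2591
def N2853 : Q := sm gi N2593
def N2854 : Q := sm gi N2595
def N2855 : Q := sm ga N2601
def N2856 : Q := sm gi N2601
def N2857 : Q := sm gh N2604
def N2858 : Q := sm gi N2605
def N2859 : Q := sm gh N2606
def N2860 : Q := sm gi N2609
def N2861 : Q := sm gh N2610
def N2862 : Q := sm gf N2612
def N2863 : Q := sm gi N2612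
def N2864 : Q := sm gh N2613
def N2865 : Q := sm gi N2614
def N2866 : Q := sm gh N2615
def N2867 : Q := sm gh N2617
def N2868 : Q := sm gi N2620
def N2869 : Q := sm gc N2622
def N2870 : Q := sm ge N2622
def N2871 : Q := sm gi N2622
def N2872 : Q := sm gi N2624
def N2873 : Q := sm gf N2626
def N2874 : Q := sm gi N2626
def N2875 : Q := sm gh N2627
def N2876 : Q := sm gi N2628
def N2877 : Q := sm gf N2631
def N2878 : Q := sm gi N2631
def N2879 : Q := sm gh N2632
def N2880 : Q := sm gg N2633
def N2881 : Q := sm gi N2633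
def N2882 : Q := sm gh N2634
def N2883 : Q := sm gb N2636
def N2884 : Q := sm gi N2636
def N2885 : Q := sm gh N2637
def N2886 : Q := sm gb N2638
def N2887 : Q := sm gi N2638
def N2888 : Q := sm gh N2639
def N2889 : Q := sm ga N2640
def N2890 : Q := sm gi N2640
def N2891 : Q := sm gh N2641
def N2892 : Q := sm gd N2643
def N2893 : Q := sm gi N2643
def N2894 : Q := sm gc N2644
def N2895 : Q := sm ge N2644
def N2896 : Q := sm gi N2644
def N2897 : Q := sm gi N2646
def N2898 : Q := sm gh N2647
def N2899 : Q := sm gi N2649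
def N2900 : Q := sm gh N2650
def N2901 : Q := sm gh N2652
def N2902 : Q := sm gd N2653
def N2903 : Q := sm gi N2653
def N2904 : Q := sm gi N2654
def N2905 : Q := sm ge N2655
def N2906 : Q := sm gi N2655
def N2907 : Q := sm gi N2657
def N2908 : Q := sm gh N2658
def N2909 : Q := sm gh N2659
def N2910 : Q := sm gd N2660
def N2911 : Q := sm gi N2660
def N2912 : Q := sm gh N2661
def N2913 : Q := sm gd N2662
def N2914 : Q := sm gi N2662
def N2915 : Q := sm gc N2663
def N2916 : Q := sm ge N2663
def N2917 : Q := sm gi N2663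
def N2918 : Q := sm gf N2666
def N2919 : Q := sm gi N2666
def N2920 : Q := sm gh N2667
def N2921 : Q := sm gi N2668
def N2922 : Q := sm gh N2669
def N2923 : Q := sm gi N2671
def N2924 : Q := sm gi N2673
def N2925 : Q := sm gh N2674
def N2926 : Q := sm gd N2675
def N2927 : Q := sm gi N2675
def N2928 : Q := sm gc N2676
def N2929 : Q := sm ge N2676
def N2930 : Q := sm gi N2676
def N2931 : Q := sm gd N2678
def N2932 : Q := sm gi N2678
def N2933 : Q := sm gi N2679
def N2934 : Q := sm gb N2681
def N2935 : Q := sm gi N2681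
def N2936 : Q := sm gf N2682
def N2937 : Q := sm gi N2682
def N2938 : Q := sm gh N2683
def N2939 : Q := sm gh N2684
def N2940 : Q := sm gg N2685
def N2941 : Q := sm gi N2685
def N2942 : Q := sm gh N2686
def N2943 : Q := sm gi N2688
def N2944 : Q := sm gh N2689
def N2945 : Q := sm gi N2691
def N2946 : Q := sm gh N2693
def N2947 : Q := sm ga N2694
def N2948 : Q := sm gi N2694
def N2949 : Q := sm gh N2695
def N2950 : Q := sm gi N2697
def N2951 : Q := sm gh N2698
def N2952 : Q := sm gi N2699
def N2953 : Q := sm gh N2700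
def N2954 : Q := sm gi N2702
def N2955 : Q := sm gh N2703
def N2956 : Q := sm gi N2705
def N2957 : Q := sm gh N2707
def N2958 : Q := sm gi N2708
def N2959 : Q := sm gh N2709
def N2960 : Q := sm gd N2711
def N2961 : Q := sm gi N2711
def N2962 : Q := sm ge N2713
def N2963 : Q := sm gi N2713
def N2964 : Q := sm gi N2715
def N2965 : Q := sm gh N2716
def N2966 : Q := sm ge N2718
def N2967 : Q := sm gi N2718
def N2968 : Q := sm gf N2720
def N2969 : Q := sm gi N2720
def N2970 : Q := sm gh N2721
def N2971 : Q := sm gi N2722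
def N2972 : Q := sm gh N2723
def N2973 : Q := sm gi N2725
def N2974 : Q := sm gh N2726
def N2975 : Q := sm gd N2728
def N2976 : Q := sm gi N2728
def N2977 : Q := sm gd N2729
def N2978 : Q := sm gi N2729
def N2979 : Q := sm gc N2730
def N2980 : Q := sm gi N2730
def N2981 : Q := sm ge N2733
def N2982 : Q := sm gi N2733
def N2983 : Q := sm ge N2735
def N2984 : Q := sm gi N2735
def N2985 : Q := sm ge N2737
def N2986 : Q := sm gi N2737
def N2987 : Q := sm gi N2738
def N2988 : Q := sm gh N2739
def N2989 : Q := sm gf N2740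
def N2990 : Q := sm gi N2740
def N2991 : Q := sm gh N2741
def N2992 : Q := sm gh N2742
def N2993 : Q := sm gf N2745
def N2994 : Q := sm gi N2745
def N2995 : Q := sm gh N2746
def N2996 : Q := sm ge N2747
def N2997 : Q := sm gi N2747
def N2998 : Q := sm gf N2749
def N2999 : Q := sm gi N2749
def N3000 : Q := sm gh N2750
def N3001 : Q := sm ga N2751
def N3002 : Q := sm ge N2751
def N3003 : Q := sm gi N2751
def N3004 : Q := sm gf N2752
def N3005 : Q := sm gi N2752
def N3006 : Q := sm gh N2753
def N3007 : Q := sm gg N2754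
def N3008 : Q := sm gi N2754
def N3009 : Q := sm gh N2755
def N3010 : Q := sm gg N2757
def N3011 : Q := sm gi N2757
def N3012 : Q := sm gh N2758
def N3013 : Q := sm gi N2760
def N3014 : Q := sm gh N2761
def N3015 : Q := sm gd N2762
def N3016 : Q := sm gh N2763
def N3017 : Q := sm gi N2765
def N3018 : Q := sm gh N2769
def N3019 : Q := sm gi N2770
def N3020 : Q := sm gh N2771
def N3021 : Q := sm gi N2773
def N3022 : Q := sm gi N2775
def N3023 : Q := sm gb N2777
def N3024 : Q := sm gi N2777
def N3025 : Q := sm gh N2778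
def N3026 : Q := sm gh N2779
def N3027 : Q := sm gi N2780
def N3028 : Q := sm gh N2781
def N3029 : Q := sm gi N2784
def N3030 : Q := sm gh N2785
def N3031 : Q := sm gi N2787
def N3032 : Q := sm gc N2789
def N3033 : Q := sm gi N2789
def N3034 : Q := sm gd N2791
def N3035 : Q := sm gi N2791
def N3036 : Q := sm gc N2792
def N3037 : Q := sm gi N2792
def N3038 : Q := sm ge N2794
def N3039 : Q := sm gi N2794
def N3040 : Q := sm gi N2795
def N3041 : Q := sm gh N2796
def N3042 : Q := sm gi N2799
def N3043 : Q := sm gh N2800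
def N3044 : Q := sm gh N2801
def N3045 : Q := sm gb N2803
def N3046 : Q := sm gi N2803
def N3047 : Q := sm gh N2804
def N3048 : Q := sm ge N2805
def N3049 : Q := sm gi N2805
def N3050 : Q := sm gi N2807
def N3051 : Q := sm gh N2808
def N3052 : Q := sm ga N2809
def N3053 : Q := sm ge N2809
def N3054 : Q := sm gi N2809
def N3055 : Q := sm gf N2810
def N3056 : Q := sm gi N2810
def N3057 : Q := sm gh N2811
def N3058 : Q := sm gg N2812
def N3059 : Q := sm gi N2812
def N3060 : Q := sm gh N2813
def N3061 : Q := sm gi N2815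
def N3062 : Q := sm gh N2818
def N3063 : Q := sm gi N2820
def N3064 : Q := sm gh N2821
def N3065 : Q := sm gd N2822
def N3066 : Q := sm gh N2823
def N3067 : Q := sm gh N2825
def N3068 : Q := sm gh N2826
def N3069 : Q := sm gh N2827
def N3070 : Q := sm gi N2828
def N3071 : Q := sm gh N2829
def N3072 : Q := sm gh N2830
def N3073 : Q := sm gi N2832
def N3074 : Q := sm gh N2833
def N3075 : Q := sm ga N2836
def N3076 : Q := sm ge N2836
def N3077 : Q := sm gi N2836
def N3078 : Q := sm gf N2837
def N3079 : Q := sm gi N2837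
def N3080 : Q := sm gh N2838
def N3081 : Q := sm gi N2839
def N3082 : Q := sm gh N2840
def N3083 : Q := sm gi N2842
def N3084 : Q := sm gh N2843
def N3085 : Q := sm gi N2845
def N3086 : Q := sm gf N2846
def N3087 : Q := sm gi N2846
def N3088 : Q := sm gh N2847
def N3089 : Q := sm gi N2848
def N3090 : Q := sm gh N2849
def N3091 : Q := sm gh N2851
def N3092 : Q := sm gi N2855
def N3093 : Q := sm gh N2858
def N3094 : Q := sm gh N2860
def N3095 : Q := sm gi N2862
def N3096 : Q := sm gh N2863
def N3097 : Q := sm gh N2865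
def N3098 : Q := sm gd N2866
def N3099 : Q := sm gi N2869
def N3100 : Q := sm gi N2870
def N3101 : Q := sm gh N2871
def N3102 : Q := sm gh N2872
def N3103 : Q := sm gi N2873
def N3104 : Q := sm gh N2874
def N3105 : Q := sm gh N2876
def N3106 : Q := sm gi N2877
def N3107 : Q := sm gh N2878
def N3108 : Q := sm gi N2880
def N3109 : Q := sm gh N2881
def N3110 : Q := sm gd N2882
def N3111 : Q := sm gi N2883
def N3112 : Q := sm gh N2884
def N3113 : Q := sm gi N2886
def N3114 : Q := sm gh N2887
def N3115 : Q := sm gi N2889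
def N3116 : Q := sm gh N2890
def N3117 : Q := sm gd N2891
def N3118 : Q := sm gc N2892
def N3119 : Q := sm ge N2892
def N3120 : Q := sm gi N2892
def N3121 : Q := sm ge N2894
def N3122 : Q := sm gi N2894
def N3123 : Q := sm gi N2895
def N3124 : Q := sm gh N2896
def N3125 : Q := sm gh N2897
def N3126 : Q := sm gh N2899
def N3127 : Q := sm gd N2901
def N3128 : Q := sm gi N2901
def N3129 : Q := sm gc N2902
def N3130 : Q := sm ge N2902
def N3131 : Q := sm gi N2902
def N3132 : Q := sm gi N2905
def N3133 : Q := sm gh N2906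
def N3134 : Q := sm gh N2907
def N3135 : Q := sm gd N2909
def N3136 : Q := sm gi N2909
def N3137 : Q := sm gc N2910
def N3138 : Q := sm ge N2910
def N3139 : Q := sm gi N2910
def N3140 : Q := sm gd N2912
def N3141 : Q := sm gi N2912
def N3142 : Q := sm gi N2913
def N3143 : Q := sm gi N2915
def N3144 : Q := sm gf N2916
def N3145 : Q := sm gi N2916
def N3146 : Q := sm gh N2917
def N3147 : Q := sm gi N2918
def N3148 : Q := sm gh N2919
def N3149 : Q := sm gh N2921
def N3150 : Q := sm gh N2924
def N3151 : Q := sm gi N2926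
def N3152 : Q := sm gb N2928
def N3153 : Q := sm gi N2928
def N3154 : Q := sm gf N2929
def N3155 : Q := sm gi N2929
def N3156 : Q := sm gh N2930
def N3157 : Q := sm ge N2931
def N3158 : Q := sm gi N2931
def N3159 : Q := sm gh N2933
def N3160 : Q := sm ga N2934
def N3161 : Q := sm gi N2934
def N3162 : Q := sm gh N2935
def N3163 : Q := sm gg N2936
def N3164 : Q := sm gi N2936
def N3165 : Q := sm gh N2937
def N3166 : Q := sm gi N2940
def N3167 : Q := sm gh N2941
def N3168 : Q := sm gd N2942
def N3169 : Q := sm gh N2943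
def N3170 : Q := sm gh N2945
def N3171 : Q := sm gi N2947
def N3172 : Q := sm gh N2948
def N3173 : Q := sm gd N2949
def N3174 : Q := sm gh N2950
def N3175 : Q := sm gh N2952
def N3176 : Q := sm gh N2954
def N3177 : Q := sm gh N2956
def N3178 : Q := sm gh N2958
def N3179 : Q := sm gd N2959
def N3180 : Q := sm gi N2960
def N3181 : Q := sm gi N2962
def N3182 : Q := sm gh N2963
def N3183 : Q := sm gh N2964
def N3184 : Q := sm gi N2966
def N3185 : Q := sm gh N2967
def N3186 : Q := sm gi N2968
def N3187 : Q := sm gh N2969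
def N3188 : Q := sm gh N2971
def N3189 : Q := sm gd N2972
def N3190 : Q := sm gh N2973
def N3191 : Q := sm gi N2975
def N3192 : Q := sm gi N2977
def N3193 : Q := sm gi N2979
def N3194 : Q := sm gh N2980
def N3195 : Q := sm gi N2981
def N3196 : Q := sm gh N2982
def N3197 : Q := sm gf N2983
def N3198 : Q := sm gi N2983
def N3199 : Q := sm gh N2984
def N3200 : Q := sm gi N2985
def N3201 : Q := sm gh N2986
def N3202 : Q := sm gh N2987
def N3203 : Q := sm gi N2989
def N3204 : Q := sm gh N2990
def N3205 : Q := sm gd N2992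
def N3206 : Q := sm gg N2993
def N3207 : Q := sm gi N2993
def N3208 : Q := sm gh N2994
def N3209 : Q := sm gi N2996
def N3210 : Q := sm gh N2997
def N3211 : Q := sm gg N2998
def N3212 : Q := sm gi N2998
def N3213 : Q := sm gh N2999
def N3214 : Q := sm gi N3001
def N3215 : Q := sm gf N3002
def N3216 : Q := sm gi N3002
def N3217 : Q := sm gh N3003
def N3218 : Q := sm gg N3004
def N3219 : Q := sm gi N3004
def N3220 : Q := sm gh N3005
def N3221 : Q := sm gi N3007
def N3222 : Q := sm gh N3008
def N3223 : Q := sm gd N3009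
def N3224 : Q := sm gi N3010
def N3225 : Q := sm gh N3011
def N3226 : Q := sm gd N3012
def N3227 : Q := sm gh N3013
def N3228 : Q := sm gd N3014
def N3229 : Q := sm gc N3015
def N3230 : Q := sm gh N3019
def N3231 : Q := sm gd N3020
def N3232 : Q := sm gh N3021
def N3233 : Q := sm gh N3022
def N3234 : Q := sm gi N3023
def N3235 : Q := sm gh N3024
def N3236 : Q := sm gh N3027
def N3237 : Q := sm gd N3028
def N3238 : Q := sm gh N3029
def N3239 : Q := sm gh N3031
def N3240 : Q := sm gi N3032
def N3241 : Q := sm gh N3033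
def N3242 : Q := sm gi N3034
def N3243 : Q := sm gi N3036
def N3244 : Q := sm gh N3037
def N3245 : Q := sm gi N3038
def N3246 : Q := sm gh N3039
def N3247 : Q := sm gh N3040
def N3248 : Q := sm gh N3042
def N3249 : Q := sm gd N3044
def N3250 : Q := sm gi N3045
def N3251 : Q := sm gh N3046
def N3252 : Q := sm gi N3048
def N3253 : Q := sm gh N3049
def N3254 : Q := sm gh N3050
def N3255 : Q := sm gi N3052
def N3256 : Q := sm gi N3053
def N3257 : Q := sm gh N3054
def N3258 : Q := sm gi N3055
def N3259 : Q := sm gh N3056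
def N3260 : Q := sm gd N3057
def N3261 : Q := sm gi N3058
def N3262 : Q := sm gh N3059
def N3263 : Q := sm gd N3062
def N3264 : Q := sm gh N3063
def N3265 : Q := sm gd N3064
def N3266 : Q := sm ge N3065
def N3267 : Q := sm gh N3070
def N3268 : Q := sm gh N3073
def N3269 : Q := sm gi N3075
def N3270 : Q := sm gi N3076
def N3271 : Q := sm gh N3077
def N3272 : Q := sm gi N3078
def N3273 : Q := sm gh N3079
def N3274 : Q := sm gh N3081
def N3275 : Q := sm gh N3083
def N3276 : Q := sm gh N3085
def N3277 : Q := sm gi N3086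
def N3278 : Q := sm gh N3087
def N3279 : Q := sm gh N3089
def N3280 : Q := sm gd N3090
def N3281 : Q := sm gh N3095
def N3282 : Q := sm gd N3096
def N3283 : Q := sm gd N3097
def N3284 : Q := sm gh N3099
def N3285 : Q := sm gh N3100
def N3286 : Q := sm gh N3103
def N3287 : Q := sm gd N3104
def N3288 : Q := sm gh N3106
def N3289 : Q := sm gh N3108
def N3290 : Q := sm gd N3109
def N3291 : Q := sm gc N3110
def N3292 : Q := sm gh N3111
def N3293 : Q := sm gh N3113
def N3294 : Q := sm gd N3114
def N3295 : Q := sm gh N3115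
def N3296 : Q := sm gd N3116
def N3297 : Q := sm ge N3117
def N3298 : Q := sm gi N3118
def N3299 : Q := sm gi N3119
def N3300 : Q := sm gh N3120
def N3301 : Q := sm gi N3121
def N3302 : Q := sm gh N3122
def N3303 : Q := sm gh N3123
def N3304 : Q := sm gd N3125
def N3305 : Q := sm gd N3126
def N3306 : Q := sm gi N3127
def N3307 : Q := sm gi N3129
def N3308 : Q := sm gi N3130
def N3309 : Q := sm gh N3131
def N3310 : Q := sm gh N3132
def N3311 : Q := sm gi N3135
def N3312 : Q := sm gi N3137
def N3313 : Q := sm gi N3138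
def N3314 : Q := sm gh N3139
def N3315 : Q := sm gi N3140
def N3316 : Q := sm gh N3142
def N3317 : Q := sm gh N3143
def N3318 : Q := sm gi N3144
def N3319 : Q := sm gh N3145
def N3320 : Q := sm gh N3147
def N3321 : Q := sm gd N3148
def N3322 : Q := sm gd N3150
def N3323 : Q := sm gh N3151
def N3324 : Q := sm gi N3152
def N3325 : Q := sm gh N3153
def N3326 : Q := sm gi N3154
def N3327 : Q := sm gh N3155
def N3328 : Q := sm gi N3157
def N3329 : Q := sm gh N3158
def N3330 : Q := sm gi N3160
def N3331 : Q := sm gh N3161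
def N3332 : Q := sm gd N3162
def N3333 : Q := sm gi N3163
def N3334 : Q := sm gh N3164
def N3335 : Q := sm gd N3165
def N3336 : Q := sm gh N3166
def N3337 : Q := sm gd N3167
def N3338 : Q := sm gc N3168
def N3339 : Q := sm gh N3171
def N3340 : Q := sm gd N3172
def N3341 : Q := sm ge N3173
def N3342 : Q := sm gd N3178
def N3343 : Q := sm gh N3180
def N3344 : Q := sm gh N3181
def N3345 : Q := sm gd N3183
def N3346 : Q := sm gh N3184
def N3347 : Q := sm gh N3186
def N3348 : Q := sm gd N3187
def N3349 : Q := sm gd N3188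
def N3350 : Q := sm gc N3189
def N3351 : Q := sm gh N3191
def N3352 : Q := sm gh N3192
def N3353 : Q := sm gh N3193
def N3354 : Q := sm gh N3195
def N3355 : Q := sm gi N3197
def N3356 : Q := sm gh N3198
def N3357 : Q := sm gh N3200
def N3358 : Q := sm gd N3202
def N3359 : Q := sm gh N3203
def N3360 : Q := sm gd N3204
def N3361 : Q := sm gc N3205
def N3362 : Q := sm gi N3206
def N3363 : Q := sm gh N3207
def N3364 : Q := sm gd N3208
def N3365 : Q := sm gh N3209
def N3366 : Q := sm gi N3211
def N3367 : Q := sm gh N3212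
def N3368 : Q := sm gd N3213
def N3369 : Q := sm gh N3214
def N3370 : Q := sm gi N3215
def N3371 : Q := sm gh N3216
def N3372 : Q := sm gi N3218
def N3373 : Q := sm gh N3219
def N3374 : Q := sm gd N3220
def N3375 : Q := sm gh N3221
def N3376 : Q := sm gd N3222
def N3377 : Q := sm gc N3223
def N3378 : Q := sm gh N3224
def N3379 : Q := sm gd N3225
def N3380 : Q := sm gc N3226
def N3381 : Q := sm gc N3228
def N3382 : Q := sm gb N3229
def N3383 : Q := sm gd N3230
def N3384 : Q := sm gh N3234
def N3385 : Q := sm gd N3235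
def N3386 : Q := sm gd N3236
def N3387 : Q := sm gh N3240
def N3388 : Q := sm gh N3242
def N3389 : Q := sm gh N3243
def N3390 : Q := sm gh N3245
def N3391 : Q := sm gd N3246
def N3392 : Q := sm gh N3250
def N3393 : Q := sm gd N3251
def N3394 : Q := sm gh N3252
def N3395 : Q := sm gd N3254
def N3396 : Q := sm gh N3255
def N3397 : Q := sm gh N3256
def N3398 : Q := sm gd N3257
def N3399 : Q := sm gh N3258
def N3400 : Q := sm gd N3259
def N3401 : Q := sm ge N3260
def N3402 : Q := sm gh N3261
def N3403 : Q := sm gd N3267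
def N3404 : Q := sm gh N3269
def N3405 : Q := sm gh N3270
def N3406 : Q := sm gh N3272
def N3407 : Q := sm gd N3273
def N3408 : Q := sm gh N3277
def N3409 : Q := sm gd N3278
def N3410 : Q := sm gd N3279
def N3411 : Q := sm gd N3281
def N3412 : Q := sm gc N3282
def N3413 : Q := sm gd N3284
def N3414 : Q := sm gd N3285
def N3415 : Q := sm gd N3286
def N3416 : Q := sm gd N3289
def N3417 : Q := sm gc N3290
def N3418 : Q := sm ge N3290
def N3419 : Q := sm gh N3298
def N3420 : Q := sm gh N3299
def N3421 : Q := sm gh N3301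
def N3422 : Q := sm gd N3302
def N3423 : Q := sm gd N3303
def N3424 : Q := sm gc N3304
def N3425 : Q := sm ge N3305
def N3426 : Q := sm gh N3306
def N3427 : Q := sm gh N3307
def N3428 : Q := sm gh N3308
def N3429 : Q := sm gd N3310
def N3430 : Q := sm gh N3311
def N3431 : Q := sm gh N3312
def N3432 : Q := sm gh N3313
def N3433 : Q := sm gh N3315
def N3434 : Q := sm gd N3317
def N3435 : Q := sm gh N3318
def N3436 : Q := sm gd N3319
def N3437 : Q := sm gd N3320
def N3438 : Q := sm gh N3324
def N3439 : Q := sm gd N3325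
def N3440 : Q := sm gh N3326
def N3441 : Q := sm gd N3327
def N3442 : Q := sm gh N3328
def N3443 : Q := sm gh N3330
def N3444 : Q := sm gd N3331
def N3445 : Q := sm ge N3332
def N3446 : Q := sm gh N3333
def N3447 : Q := sm gd N3334
def N3448 : Q := sm gc N3335
def N3449 : Q := sm gd N3336
def N3450 : Q := sm gc N3337
def N3451 : Q := sm gb N3338
def N3452 : Q := sm gf N3341
def N3453 : Q := sm gd N3344
def N3454 : Q := sm gd N3346
def N3455 : Q := sm gd N3347
def N3456 : Q := sm gc N3348
def N3457 : Q := sm gd N3353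
def N3458 : Q := sm gd N3354
def N3459 : Q := sm gh N3355
def N3460 : Q := sm gd N3356
def N3461 : Q := sm gd N3357
def N3462 : Q := sm gc N3358
def N3463 : Q := sm gh N3362
def N3464 : Q := sm gd N3363
def N3465 : Q := sm gc N3364
def N3466 : Q := sm gd N3365
def N3467 : Q := sm gh N3366
def N3468 : Q := sm gd N3367
def N3469 : Q := sm gc N3368
def N3470 : Q := sm gh N3370
def N3471 : Q := sm gd N3371
def N3472 : Q := sm gh N3372
def N3473 : Q := sm gd N3373
def N3474 : Q := sm gc N3374
def N3475 : Q := sm gc N3376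
def N3476 : Q := sm gb N3377
def N3477 : Q := sm gc N3379
def N3478 : Q := sm ge N3379
def N3479 : Q := sm gd N3384
def N3480 : Q := sm gd N3387
def N3481 : Q := sm gd N3390
def N3482 : Q := sm gd N3392
def N3483 : Q := sm gd N3394
def N3484 : Q := sm gd N3397
def N3485 : Q := sm gd N3399
def N3486 : Q := sm gd N3405
def N3487 : Q := sm gd N3406
def N3488 : Q := sm gd N3408
def N3489 : Q := sm gc N3409
def N3490 : Q := sm gd N3419
def N3491 : Q := sm gd N3420
def N3492 : Q := sm gd N3421
def N3493 : Q := sm ge N3422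
def N3494 : Q := sm gc N3423
def N3495 : Q := sm gb N3424
def N3496 : Q := sm gd N3427
def N3497 : Q := sm gd N3428
def N3498 : Q := sm gd N3431
def N3499 : Q := sm gd N3432
def N3500 : Q := sm gd N3435
def N3501 : Q := sm gd N3438
def N3502 : Q := sm ge N3439
def N3503 : Q := sm gd N3440
def N3504 : Q := sm gc N3441
def N3505 : Q := sm gd N3442
def N3506 : Q := sm gd N3443
def N3507 : Q := sm ge N3444
def N3508 : Q := sm gf N3445
def N3509 : Q := sm gb N3448
def N3510 : Q := sm gc N3458
def N3511 : Q := sm gc N3461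
def N3512 : Q := sm gc N3464
def N3513 : Q := sm gb N3465
def N3514 : Q := sm gc N3468
def N3515 : Q := sm ge N3468
def N3516 : Q := sm gd N3472
def N3517 : Q := sm ge N3473
def N3518 : Q := sm gc N3486
def N3519 : Q := sm ge N3490
def N3520 : Q := sm gc N3491
def N3521 : Q := sm gc N3492
def N3522 : Q := sm ge N3492
def N3523 : Q := sm gf N3493
theorem L0 : sm ga N0 = N0 := sded_0_0
theorem L1 : sm gc N0 = N0 := sded_1_0
theorem L2 : sm gd N0 = N0 := sded_2_0
theorem L3 : sm ge N0 = N0 := sded_3_0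
theorem L4 : sm gf N0 = N0 := sded_4_0
theorem L5 : sm gg N0 = N0 := sded_5_0
theorem L6 : sm gh N0 = N0 := sded_6_0
theorem L7 : sm gi N0 = N0 := sded_7_0
theorem L8 : sm gb N0 = N1 := rfl
theorem L10 : sm gd N1 = N1 := ded_18_2 (flp_b L8) L2 L8
theorem L11 : sm ge N1 = N1 := ded_19_2 (flp_b L8) L3 L8
theorem L12 : sm gf N1 = N1 := ded_20_2 (flp_b L8) L4 L8
theorem L13 : sm gg N1 = N1 := ded_21_2 (flp_b L8) L5 L8
theorem L14 : sm gh N1 = N1 := ded_22_2 (flp_b L8) L6 L8
theorem L15 : sm gi N1 = N1 := ded_23_2 (flp_b L8) L7 L8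
theorem L16 : sm ga N1 = N2 := rfl
theorem L18 : sm gd N2 = N2 := ded_11_2 (flp_a L16) L10 L16
theorem L19 : sm ge N2 = N2 := ded_12_2 (flp_a L16) L11 L16
theorem L20 : sm gf N2 = N2 := ded_13_2 (flp_a L16) L12 L16
theorem L21 : sm gg N2 = N2 := ded_14_2 (flp_a L16) L13 L16
theorem L22 : sm gh N2 = N2 := ded_15_2 (flp_a L16) L14 L16
theorem L23 : sm gi N2 = N2 := ded_16_2 (flp_a L16) L15 L16
theorem L24 : sm gb N2 = N2 := ded_9_2 (flp_a L16) (flp_b L8) L0 L8 L16
theorem L25 : sm gc N1 = N3 := rfl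
theorem L27 : sm ge N3 = N3 := ded_25_2 (flp_c L25) L11 L25
theorem L28 : sm gf N3 = N3 := ded_26_2 (flp_c L25) L12 L25
theorem L29 : sm gg N3 = N3 := ded_27_2 (flp_c L25) L13 L25
theorem L30 : sm gh N3 = N3 := ded_28_2 (flp_c L25) L14 L25
theorem L31 : sm gi N3 = N3 := ded_29_2 (flp_c L25) L15 L25
theorem L32 : sm gb N3 = N3 := ded_17_1 (flp_c L25) (flp_b L8) L1 L8 L25
theorem L33 : sm gc N2 = N4 := rfl
theorem L35 : sm ga N4 = N3 := ded_10_1 (flp_c L25) L16 L33
theorem L37 : sm ge N4 = N4 := ded_25_2 (flp_c L33) L19 L33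
theorem L38 : sm gf N4 = N4 := ded_26_2 (flp_c L33) L20 L33
theorem L39 : sm gg N4 = N4 := ded_27_2 (flp_c L33) L21 L33
theorem L40 : sm gh N4 = N4 := ded_28_2 (flp_c L33) L22 L33
theorem L41 : sm gi N4 = N4 := ded_29_2 (flp_c L33) L23 L33
theorem L42 : sm gd N3 = N5 := rfl
theorem L44 : sm gb N5 = N5 := ded_18_1 (flp_d L42) L32 L42
theorem L45 : sm gf N5 = N5 := ded_31_2 (flp_d L42) L28 L42
theorem L46 : sm gg N5 = N5 := ded_32_2 (flp_d L42) L29 L42
theorem L47 : sm gi N5 = N5 := ded_34_2 (flp_d L42) L31 L42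
theorem L48 : sm gc N5 = N5 := ded_24_1 (flp_d L42) (flp_c L25) L10 L25 L42
theorem L49 : sm gb N4 = N6 := rfl
theorem L51 : sm ge N6 = N6 := ded_19_2 (flp_b L49) L37 L49
theorem L52 : sm gf N6 = N6 := ded_20_2 (flp_b L49) L38 L49
theorem L53 : sm gg N6 = N6 := ded_21_2 (flp_b L49) L39 L49
theorem L54 : sm gh N6 = N6 := ded_22_2 (flp_b L49) L40 L49
theorem L55 : sm gi N6 = N6 := ded_23_2 (flp_b L49) L41 L49
theorem L56 : sm ga N6 = N6 := ded_9_1 (flp_b L49) L35 L32 (flp_a L35) L49
theorem L57 : sm gc N6 = N6 := ded_17_2 (flp_b L49) (flp_c L33) L24 L33 L49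
theorem L58 : sm gd N4 = N7 := rfl
theorem L60 : sm ga N7 = N5 := ded_11_1 (flp_d L42) (flp_a L35) L58
theorem L62 : sm gf N7 = N7 := ded_31_2 (flp_d L58) L38 L58
theorem L63 : sm gg N7 = N7 := ded_32_2 (flp_d L58) L39 L58
theorem L64 : sm gi N7 = N7 := ded_34_2 (flp_d L58) L41 L58
theorem L65 : sm gc N7 = N7 := ded_24_1 (flp_d L58) (flp_c L33) L18 L33 L58
theorem L66 : sm ge N5 = N8 := rfl
theorem L68 : sm gb N8 = N8 := ded_19_1 (flp_e L66) L44 L66
theorem L69 : sm gc N8 = N8 := ded_25_1 (flp_e L66) L48 L66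
theorem L70 : sm gg N8 = N8 := ded_36_2 (flp_e L66) L46 L66
theorem L71 : sm gi N8 = N8 := ded_38_2 (flp_e L66) L47 L66
theorem L72 : sm gd N8 = N8 := ded_30_1 (flp_e L66) (flp_d L42) L27 L42 L66
theorem L73 : sm gh N5 = N9 := rfl
theorem L75 : sm gb N9 = N9 := ded_22_1 (flp_h L73) L44 L73
theorem L76 : sm gc N9 = N9 := ded_28_1 (flp_h L73) L48 L73
theorem L77 : sm gf N9 = N9 := ded_40_1 (flp_h L73) L45 L73
theorem L78 : sm gg N9 = N9 := ded_42_1 (flp_h L73) L46 L73
theorem L79 : sm gd N9 = N9 := ded_33_1 (flp_h L73) (flp_d L42) L30 L42 L73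
theorem L80 : sm gd N6 = N10 := rfl
theorem L82 : sm ga N10 = N10 := ded_11_1 (flp_d L80) L56 L80
theorem L83 : sm gb N10 = N7 := ded_18_1 (flp_d L58) L49 L80
theorem L85 : sm gf N10 = N10 := ded_31_2 (flp_d L80) L52 L80
theorem L86 : sm gg N10 = N10 := ded_32_2 (flp_d L80) L53 L80
theorem L87 : sm gi N10 = N10 := ded_34_2 (flp_d L80) L55 L80
theorem L88 : sm ge N7 = N11 := rfl
theorem L90 : sm ga N11 = N8 := ded_12_1 (flp_e L66) (flp_a L60) L88
theorem L92 : sm gc N11 = N11 := ded_25_1 (flp_e L88) L65 L88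
theorem L93 : sm gg N11 = N11 := ded_36_2 (flp_e L88) L63 L88
theorem L94 : sm gi N11 = N11 := ded_38_2 (flp_e L88) L64 L88
theorem L95 : sm gd N11 = N11 := ded_30_1 (flp_e L88) (flp_d L58) L37 L58 L88
theorem L96 : sm gh N7 = N12 := rfl
theorem L98 : sm ga N12 = N9 := ded_15_1 (flp_h L73) (flp_a L60) L96
theorem L100 : sm gc N12 = N12 := ded_28_1 (flp_h L96) L65 L96
theorem L101 : sm gf N12 = N12 := ded_40_1 (flp_h L96) L62 L96
theorem L102 : sm gg N12 = N12 := ded_42_1 (flp_h L96) L63 L96
theorem L103 : sm gd N12 = N12 := ded_33_1 (flp_h L96) (flp_d L58) L40 L58 L96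
theorem L104 : sm gf N8 = N13 := rfl
theorem L106 : sm gb N13 = N13 := ded_20_1 (flp_f L104) L68 L104
theorem L107 : sm gc N13 = N13 := ded_26_1 (flp_f L104) L69 L104
theorem L108 : sm gd N13 = N13 := ded_31_1 (flp_f L104) L72 L104
theorem L109 : sm gi N13 = N13 := ded_41_2 (flp_f L104) L71 L104
theorem L110 : sm ge N13 = N13 := ded_35_1 (flp_f L104) (flp_e L66) L45 L66 L104
theorem L111 : sm gh N8 = N14 := rfl
theorem L113 : sm gb N14 = N14 := ded_22_1 (flp_h L111) L68 L111
theorem L114 : sm gc N14 = N14 := ded_28_1 (flp_h L111) L69 L111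
theorem L115 : sm ge N14 = N9 := ded_37_1 (flp_h L73) L66 L111
theorem L117 : sm gg N14 = N14 := ded_42_1 (flp_h L111) L70 L111
theorem L118 : sm gi N9 = N15 := rfl
theorem L120 : sm gb N15 = N15 := ded_23_1 (flp_i L118) L75 L118
theorem L121 : sm gc N15 = N15 := ded_29_1 (flp_i L118) L76 L118
theorem L122 : sm gd N15 = N15 := ded_34_1 (flp_i L118) L79 L118
theorem L123 : sm gf N15 = N15 := ded_41_1 (flp_i L118) L77 L118
theorem L124 : sm gg N15 = N15 := ded_43_1 (flp_i L118) L78 L118
theorem L125 : sm gh N15 = N15 := ded_44_1 (flp_i L118) (flp_h L73) L47 L73 L118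
theorem L126 : sm gc N10 = N16 := rfl
theorem L128 : sm ga N16 = N16 := ded_10_1 (flp_c L126) L82 L126
theorem L129 : sm gf N16 = N16 := ded_26_2 (flp_c L126) L85 L126
theorem L130 : sm gg N16 = N16 := ded_27_2 (flp_c L126) L86 L126
theorem L131 : sm gi N16 = N16 := ded_29_2 (flp_c L126) L87 L126
theorem L132 : sm gb N16 = N16 := ded_17_1 (flp_c L126) L83 L65 (flp_b L83) L126
theorem L133 : sm gd N16 = N16 := ded_24_2 (flp_c L126) (flp_d L80) L57 L80 L126
theorem L134 : sm ge N10 = N17 := rfl
theorem L136 : sm ga N17 = N17 := ded_12_1 (flp_e L134) L82 L134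
theorem L137 : sm gb N17 = N11 := ded_19_1 (flp_e L88) (flp_b L83) L134
theorem L139 : sm gg N17 = N17 := ded_36_2 (flp_e L134) L86 L134
theorem L140 : sm gi N17 = N17 := ded_38_2 (flp_e L134) L87 L134
theorem L141 : sm gd N17 = N17 := ded_30_1 (flp_e L134) (flp_d L80) L51 L80 L134
theorem L142 : sm gh N10 = N18 := rfl
theorem L144 : sm ga N18 = N18 := ded_15_1 (flp_h L142) L82 L142
theorem L145 : sm gb N18 = N12 := ded_22_1 (flp_h L96) (flp_b L83) L142
theorem L147 : sm gf N18 = N18 := ded_40_1 (flp_h L142) L85 L142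
theorem L148 : sm gg N18 = N18 := ded_42_1 (flp_h L142) L86 L142
theorem L149 : sm gd N18 = N18 := ded_33_1 (flp_h L142) (flp_d L80) L54 L80 L142
theorem L150 : sm gf N11 = N19 := rfl
theorem L152 : sm ga N19 = N13 := ded_13_1 (flp_f L104) (flp_a L90) L150
theorem L154 : sm gc N19 = N19 := ded_26_1 (flp_f L150) L92 L150
theorem L155 : sm gd N19 = N19 := ded_31_1 (flp_f L150) L95 L150
theorem L156 : sm gi N19 = N19 := ded_41_2 (flp_f L150) L94 L150
theorem L157 : sm ge N19 = N19 := ded_35_1 (flp_f L150) (flp_e L88) L62 L88 L150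
theorem L158 : sm gh N11 = N20 := rfl
theorem L160 : sm ga N20 = N14 := ded_15_1 (flp_h L111) (flp_a L90) L158
theorem L162 : sm gc N20 = N20 := ded_28_1 (flp_h L158) L92 L158
theorem L163 : sm ge N20 = N12 := ded_37_1 (flp_h L96) L88 L158
theorem L165 : sm gg N20 = N20 := ded_42_1 (flp_h L158) L93 L158
theorem L166 : sm gi N12 = N21 := rfl
theorem L168 : sm ga N21 = N15 := ded_16_1 (flp_i L118) (flp_a L98) L166
theorem L170 : sm gc N21 = N21 := ded_29_1 (flp_i L166) L100 L166
theorem L171 : sm gd N21 = N21 := ded_34_1 (flp_i L166) L103 L166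
theorem L172 : sm gf N21 = N21 := ded_41_1 (flp_i L166) L101 L166
theorem L173 : sm gg N21 = N21 := ded_43_1 (flp_i L166) L102 L166
theorem L174 : sm gh N21 = N21 := ded_44_1 (flp_i L166) (flp_h L96) L64 L96 L166
theorem L175 : sm gg N13 = N22 := rfl
theorem L177 : sm gb N22 = N22 := ded_21_1 (flp_g L175) L106 L175
theorem L178 : sm gc N22 = N22 := ded_27_1 (flp_g L175) L107 L175
theorem L179 : sm gd N22 = N22 := ded_32_1 (flp_g L175) L108 L175
theorem L180 : sm ge N22 = N22 := ded_36_1 (flp_g L175) L110 L175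
theorem L181 : sm gi N22 = N22 := ded_43_2 (flp_g L175) L109 L175
theorem L182 : sm gf N22 = N22 := ded_39_1 (flp_g L175) (flp_f L104) L70 L104 L175
theorem L183 : sm gh N13 = N23 := rfl
theorem L185 : sm gb N23 = N23 := ded_22_1 (flp_h L183) L106 L183
theorem L186 : sm gc N23 = N23 := ded_28_1 (flp_h L183) L107 L183
theorem L187 : sm ge N23 = N23 := ded_37_1 (flp_h L183) L110 L183
theorem L188 : sm gf N23 = N14 := ded_40_1 (flp_h L111) L104 L183
theorem L190 : sm gd N14 = N24 := rfl
theorem L192 : sm gb N24 = N24 := ded_18_1 (flp_d L190) L113 L190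
theorem L193 : sm gg N24 = N24 := ded_32_2 (flp_d L190) L117 L190
theorem L194 : sm ge N24 = N24 := ded_30_2 (flp_d L190) L115 L79 (flp_e L115) L190
theorem L195 : sm gh N24 = N24 := ded_33_2 (flp_d L190) (flp_h L111) L72 L111 L190
theorem L196 : sm gi N14 = N25 := rfl
theorem L198 : sm gb N25 = N25 := ded_23_1 (flp_i L196) L113 L196
theorem L199 : sm gc N25 = N25 := ded_29_1 (flp_i L196) L114 L196
theorem L200 : sm ge N25 = N15 := ded_38_1 (flp_i L118) (flp_e L115) L196
theorem L202 : sm gg N25 = N25 := ded_43_1 (flp_i L196) L117 L196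
theorem L203 : sm gh N25 = N25 := ded_44_1 (flp_i L196) (flp_h L111) L71 L111 L196
theorem L204 : sm ge N16 = N26 := rfl
theorem L206 : sm ga N26 = N26 := ded_12_1 (flp_e L204) L128 L204
theorem L207 : sm gb N26 = N26 := ded_19_1 (flp_e L204) L132 L204
theorem L208 : sm gc N26 = N17 := ded_25_1 (flp_e L134) L126 L204
theorem L210 : sm gg N26 = N26 := ded_36_2 (flp_e L204) L130 L204
theorem L211 : sm gi N26 = N26 := ded_38_2 (flp_e L204) L131 L204
theorem L212 : sm gh N16 = N27 := rfl
theorem L214 : sm ga N27 = N27 := ded_15_1 (flp_h L212) L128 L212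
theorem L215 : sm gb N27 = N27 := ded_22_1 (flp_h L212) L132 L212
theorem L216 : sm gc N27 = N18 := ded_28_1 (flp_h L142) L126 L212
theorem L218 : sm gf N27 = N27 := ded_40_1 (flp_h L212) L129 L212
theorem L219 : sm gg N27 = N27 := ded_42_1 (flp_h L212) L130 L212
theorem L220 : sm gf N17 = N28 := rfl
theorem L222 : sm ga N28 = N28 := ded_13_1 (flp_f L220) L136 L220
theorem L223 : sm gb N28 = N19 := ded_20_1 (flp_f L150) (flp_b L137) L220
theorem L225 : sm gd N28 = N28 := ded_31_1 (flp_f L220) L141 L220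
theorem L226 : sm gi N28 = N28 := ded_41_2 (flp_f L220) L140 L220
theorem L227 : sm ge N28 = N28 := ded_35_1 (flp_f L220) (flp_e L134) L85 L134 L220
theorem L228 : sm gh N17 = N29 := rfl
theorem L230 : sm ga N29 = N29 := ded_15_1 (flp_h L228) L136 L228
theorem L231 : sm gb N29 = N20 := ded_22_1 (flp_h L158) (flp_b L137) L228
theorem L233 : sm ge N29 = N18 := ded_37_1 (flp_h L142) L134 L228
theorem L235 : sm gg N29 = N29 := ded_42_1 (flp_h L228) L139 L228
theorem L236 : sm gi N18 = N30 := rfl
theorem L238 : sm ga N30 = N30 := ded_16_1 (flp_i L236) L144 L236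
theorem L239 : sm gb N30 = N21 := ded_23_1 (flp_i L166) (flp_b L145) L236
theorem L241 : sm gd N30 = N30 := ded_34_1 (flp_i L236) L149 L236
theorem L242 : sm gf N30 = N30 := ded_41_1 (flp_i L236) L147 L236
theorem L243 : sm gg N30 = N30 := ded_43_1 (flp_i L236) L148 L236
theorem L244 : sm gh N30 = N30 := ded_44_1 (flp_i L236) (flp_h L142) L87 L142 L236
theorem L245 : sm gg N19 = N31 := rfl
theorem L247 : sm ga N31 = N22 := ded_14_1 (flp_g L175) (flp_a L152) L245
theorem L249 : sm gc N31 = N31 := ded_27_1 (flp_g L245) L154 L245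
theorem L250 : sm gd N31 = N31 := ded_32_1 (flp_g L245) L155 L245
theorem L251 : sm ge N31 = N31 := ded_36_1 (flp_g L245) L157 L245
theorem L252 : sm gi N31 = N31 := ded_43_2 (flp_g L245) L156 L245
theorem L253 : sm gf N31 = N31 := ded_39_1 (flp_g L245) (flp_f L150) L93 L150 L245
theorem L254 : sm gh N19 = N32 := rfl
theorem L256 : sm ga N32 = N23 := ded_15_1 (flp_h L183) (flp_a L152) L254
theorem L258 : sm gc N32 = N32 := ded_28_1 (flp_h L254) L154 L254
theorem L259 : sm ge N32 = N32 := ded_37_1 (flp_h L254) L157 L254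
theorem L260 : sm gf N32 = N20 := ded_40_1 (flp_h L158) L150 L254
theorem L262 : sm gd N20 = N33 := rfl
theorem L264 : sm ga N33 = N24 := ded_11_1 (flp_d L190) (flp_a L160) L262
theorem L266 : sm gg N33 = N33 := ded_32_2 (flp_d L262) L165 L262
theorem L267 : sm ge N33 = N33 := ded_30_2 (flp_d L262) L163 L103 (flp_e L163) L262
theorem L268 : sm gh N33 = N33 := ded_33_2 (flp_d L262) (flp_h L158) L95 L158 L262
theorem L269 : sm gi N20 = N34 := rfl
theorem L271 : sm ga N34 = N25 := ded_16_1 (flp_i L196) (flp_a L160) L269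
theorem L273 : sm gc N34 = N34 := ded_29_1 (flp_i L269) L162 L269
theorem L274 : sm ge N34 = N21 := ded_38_1 (flp_i L166) (flp_e L163) L269
theorem L276 : sm gg N34 = N34 := ded_43_1 (flp_i L269) L165 L269
theorem L277 : sm gh N34 = N34 := ded_44_1 (flp_i L269) (flp_h L158) L94 L158 L269
theorem L278 : sm gh N22 = N35 := rfl
theorem L280 : sm gb N35 = N35 := ded_22_1 (flp_h L278) L177 L278
theorem L281 : sm gc N35 = N35 := ded_28_1 (flp_h L278) L178 L278
theorem L282 : sm ge N35 = N35 := ded_37_1 (flp_h L278) L180 L278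
theorem L283 : sm gf N35 = N35 := ded_40_1 (flp_h L278) L182 L278
theorem L284 : sm gg N35 = N23 := ded_42_1 (flp_h L183) L175 L278
theorem L286 : sm gd N23 = N36 := rfl
theorem L288 : sm gb N36 = N36 := ded_18_1 (flp_d L286) L185 L286
theorem L289 : sm gf N36 = N24 := ded_31_2 (flp_d L190) (flp_f L188) L286
theorem L291 : sm gh N36 = N36 := ded_33_2 (flp_d L286) (flp_h L183) L108 L183 L286
theorem L292 : sm gi N23 = N37 := rfl
theorem L294 : sm gb N37 = N37 := ded_23_1 (flp_i L292) L185 L292
theorem L295 : sm gc N37 = N37 := ded_29_1 (flp_i L292) L186 L292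
theorem L296 : sm ge N37 = N37 := ded_38_1 (flp_i L292) L187 L292
theorem L297 : sm gf N37 = N25 := ded_41_1 (flp_i L196) (flp_f L188) L292
theorem L299 : sm gh N37 = N37 := ded_44_1 (flp_i L292) (flp_h L183) L109 L183 L292
theorem L300 : sm gc N24 = N38 := rfl
theorem L302 : sm ge N38 = N38 := ded_25_2 (flp_c L300) L194 L300
theorem L303 : sm gg N38 = N38 := ded_27_2 (flp_c L300) L193 L300
theorem L304 : sm gh N38 = N38 := ded_28_2 (flp_c L300) L195 L300
theorem L305 : sm gd N38 = N38 := ded_24_2 (flp_c L300) (flp_d L190) L114 L190 L300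
theorem L306 : sm gi N24 = N39 := rfl
theorem L308 : sm gb N39 = N39 := ded_23_1 (flp_i L306) L192 L306
theorem L309 : sm gd N39 = N25 := ded_34_1 (flp_i L196) L190 L306
theorem L311 : sm ge N39 = N39 := ded_38_1 (flp_i L306) L194 L306
theorem L312 : sm gg N39 = N39 := ded_43_1 (flp_i L306) L193 L306
theorem L313 : sm gd N26 = N40 := rfl
theorem L315 : sm ga N40 = N40 := ded_11_1 (flp_d L313) L206 L313
theorem L316 : sm gb N40 = N40 := ded_18_1 (flp_d L313) L207 L313
theorem L317 : sm gg N40 = N40 := ded_32_2 (flp_d L313) L210 L313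
theorem L318 : sm gi N40 = N40 := ded_34_2 (flp_d L313) L211 L313
theorem L319 : sm gc N40 = N40 := ded_24_1 (flp_d L313) L208 L141 (flp_c L208) L313
theorem L320 : sm ge N40 = N40 := ded_30_2 (flp_d L313) (flp_e L204) L133 L204 L313
theorem L321 : sm gf N26 = N41 := rfl
theorem L323 : sm ga N41 = N41 := ded_13_1 (flp_f L321) L206 L321
theorem L324 : sm gb N41 = N41 := ded_20_1 (flp_f L321) L207 L321
theorem L325 : sm gc N41 = N28 := ded_26_1 (flp_f L220) (flp_c L208) L321
theorem L327 : sm gi N41 = N41 := ded_41_2 (flp_f L321) L211 L321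
theorem L328 : sm ge N41 = N41 := ded_35_1 (flp_f L321) (flp_e L204) L129 L204 L321
theorem L329 : sm gh N26 = N42 := rfl
theorem L331 : sm ga N42 = N42 := ded_15_1 (flp_h L329) L206 L329
theorem L332 : sm gb N42 = N42 := ded_22_1 (flp_h L329) L207 L329
theorem L333 : sm gc N42 = N29 := ded_28_1 (flp_h L228) (flp_c L208) L329
theorem L335 : sm ge N42 = N27 := ded_37_1 (flp_h L212) L204 L329
theorem L337 : sm gg N42 = N42 := ded_42_1 (flp_h L329) L210 L329
theorem L338 : sm gd N42 = N42 := sded_8_20 L6 L3 L2 L1 L8 L16 L22 L19 L18 L33 L49 L56 L54 L51 L80 L126 L132 L128 L212 (flp_e L335) L333 L231 L160 (flp_h L111) (flp_e L66) (flp_d L42) (flp_c L25) (flp_b L8) L0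
theorem L339 : sm gh N40 = N40 := ded_33_4 (flp_d L313) L329 L338 (flp_h L329) L313
theorem L340 : sm gd N27 = N43 := rfl
theorem L342 : sm ga N43 = N43 := ded_11_1 (flp_d L340) L214 L340
theorem L343 : sm gb N43 = N43 := ded_18_1 (flp_d L340) L215 L340
theorem L344 : sm gf N43 = N43 := ded_31_2 (flp_d L340) L218 L340
theorem L345 : sm gg N43 = N43 := ded_32_2 (flp_d L340) L219 L340
theorem L346 : sm gc N43 = N43 := ded_24_1 (flp_d L340) L216 L149 (flp_c L216) L340
theorem L347 : sm ge N43 = N43 := ded_30_2 (flp_d L340) (flp_e L335) L338 L335 L340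
theorem L348 : sm gh N43 = N43 := ded_33_2 (flp_d L340) (flp_h L212) L133 L212 L340
theorem L349 : sm gi N27 = N44 := rfl
theorem L351 : sm ga N44 = N44 := ded_16_1 (flp_i L349) L214 L349
theorem L352 : sm gb N44 = N44 := ded_23_1 (flp_i L349) L215 L349
theorem L353 : sm gc N44 = N30 := ded_29_1 (flp_i L236) (flp_c L216) L349
theorem L355 : sm gf N44 = N44 := ded_41_1 (flp_i L349) L218 L349
theorem L356 : sm gg N44 = N44 := ded_43_1 (flp_i L349) L219 L349
theorem L357 : sm gh N44 = N44 := ded_44_1 (flp_i L349) (flp_h L212) L131 L212 L349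
theorem L358 : sm gg N28 = N45 := rfl
theorem L360 : sm ga N45 = N45 := ded_14_1 (flp_g L358) L222 L358
theorem L361 : sm gb N45 = N31 := ded_21_1 (flp_g L245) (flp_b L223) L358
theorem L363 : sm gd N45 = N45 := ded_32_1 (flp_g L358) L225 L358
theorem L364 : sm ge N45 = N45 := ded_36_1 (flp_g L358) L227 L358
theorem L365 : sm gi N45 = N45 := ded_43_2 (flp_g L358) L226 L358
theorem L366 : sm gf N45 = N45 := ded_39_1 (flp_g L358) (flp_f L220) L139 L220 L358
theorem L367 : sm gh N28 = N46 := rfl
theorem L369 : sm ga N46 = N46 := ded_15_1 (flp_h L367) L222 L367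
theorem L370 : sm gb N46 = N32 := ded_22_1 (flp_h L254) (flp_b L223) L367
theorem L372 : sm ge N46 = N46 := ded_37_1 (flp_h L367) L227 L367
theorem L373 : sm gf N46 = N29 := ded_40_1 (flp_h L228) L220 L367
theorem L375 : sm gd N29 = N47 := rfl
theorem L377 : sm ga N47 = N47 := ded_11_1 (flp_d L375) L230 L375
theorem L378 : sm gb N47 = N33 := ded_18_1 (flp_d L262) (flp_b L231) L375
theorem L380 : sm gg N47 = N47 := ded_32_2 (flp_d L375) L235 L375
theorem L381 : sm gc N47 = N47 := ded_24_1 (flp_d L375) (flp_c L333) L338 L333 L375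
theorem L382 : sm ge N47 = N47 := ded_30_2 (flp_d L375) L233 L149 (flp_e L233) L375
theorem L383 : sm gh N47 = N47 := ded_33_2 (flp_d L375) (flp_h L228) L141 L228 L375
theorem L384 : sm gi N29 = N48 := rfl
theorem L386 : sm ga N48 = N48 := ded_16_1 (flp_i L384) L230 L384
theorem L387 : sm gb N48 = N34 := ded_23_1 (flp_i L269) (flp_b L231) L384
theorem L389 : sm ge N48 = N30 := ded_38_1 (flp_i L236) (flp_e L233) L384
theorem L391 : sm gg N48 = N48 := ded_43_1 (flp_i L384) L235 L384
theorem L392 : sm gh N48 = N48 := ded_44_1 (flp_i L384) (flp_h L228) L140 L228 L384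
theorem L393 : sm gh N31 = N49 := rfl
theorem L395 : sm ga N49 = N35 := ded_15_1 (flp_h L278) (flp_a L247) L393
theorem L397 : sm gc N49 = N49 := ded_28_1 (flp_h L393) L249 L393
theorem L398 : sm ge N49 = N49 := ded_37_1 (flp_h L393) L251 L393
theorem L399 : sm gf N49 = N49 := ded_40_1 (flp_h L393) L253 L393
theorem L400 : sm gg N49 = N32 := ded_42_1 (flp_h L254) L245 L393
theorem L402 : sm gd N32 = N50 := rfl
theorem L404 : sm ga N50 = N36 := ded_11_1 (flp_d L286) (flp_a L256) L402
theorem L406 : sm gf N50 = N33 := ded_31_2 (flp_d L262) (flp_f L260) L402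
theorem L408 : sm gh N50 = N50 := ded_33_2 (flp_d L402) (flp_h L254) L155 L254 L402
theorem L409 : sm gi N32 = N51 := rfl
theorem L411 : sm ga N51 = N37 := ded_16_1 (flp_i L292) (flp_a L256) L409
theorem L413 : sm gc N51 = N51 := ded_29_1 (flp_i L409) L258 L409
theorem L414 : sm ge N51 = N51 := ded_38_1 (flp_i L409) L259 L409
theorem L415 : sm gf N51 = N34 := ded_41_1 (flp_i L269) (flp_f L260) L409
theorem L417 : sm gh N51 = N51 := ded_44_1 (flp_i L409) (flp_h L254) L156 L254 L409
theorem L418 : sm gc N33 = N52 := rfl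
theorem L420 : sm ga N52 = N38 := ded_10_1 (flp_c L300) (flp_a L264) L418
theorem L422 : sm ge N52 = N52 := ded_25_2 (flp_c L418) L267 L418
theorem L423 : sm gg N52 = N52 := ded_27_2 (flp_c L418) L266 L418
theorem L424 : sm gh N52 = N52 := ded_28_2 (flp_c L418) L268 L418
theorem L425 : sm gb N52 = N52 := ded_17_1 (flp_c L418) (flp_b L378) L381 L378 L418
theorem L426 : sm gd N52 = N52 := ded_24_2 (flp_c L418) (flp_d L262) L162 L262 L418
theorem L427 : sm gi N33 = N53 := rfl
theorem L429 : sm ga N53 = N39 := ded_16_1 (flp_i L306) (flp_a L264) L427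
theorem L431 : sm gd N53 = N34 := ded_34_1 (flp_i L269) L262 L427
theorem L433 : sm ge N53 = N53 := ded_38_1 (flp_i L427) L267 L427
theorem L434 : sm gg N53 = N53 := ded_43_1 (flp_i L427) L266 L427
theorem L435 : sm gd N35 = N54 := rfl
theorem L437 : sm gb N54 = N54 := ded_18_1 (flp_d L435) L280 L435
theorem L438 : sm gf N54 = N54 := ded_31_2 (flp_d L435) L283 L435
theorem L439 : sm gg N54 = N36 := ded_32_2 (flp_d L286) (flp_g L284) L435
theorem L441 : sm gh N54 = N54 := ded_33_2 (flp_d L435) (flp_h L278) L179 L278 L435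
theorem L442 : sm gi N35 = N55 := rfl
theorem L444 : sm gb N55 = N55 := ded_23_1 (flp_i L442) L280 L442
theorem L445 : sm gc N55 = N55 := ded_29_1 (flp_i L442) L281 L442
theorem L446 : sm ge N55 = N55 := ded_38_1 (flp_i L442) L282 L442
theorem L447 : sm gf N55 = N55 := ded_41_1 (flp_i L442) L283 L442
theorem L448 : sm gg N55 = N37 := ded_43_1 (flp_i L292) (flp_g L284) L442
theorem L450 : sm gh N55 = N55 := ded_44_1 (flp_i L442) (flp_h L278) L181 L278 L442
theorem L451 : sm gc N36 = N56 := rfl
theorem L453 : sm gf N56 = N38 := ded_26_2 (flp_c L300) (flp_f L289) L451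
theorem L455 : sm gh N56 = N56 := ded_28_2 (flp_c L451) L291 L451
theorem L456 : sm gd N56 = N56 := ded_24_2 (flp_c L451) (flp_d L286) L186 L286 L451
theorem L457 : sm ge N36 = N57 := rfl
theorem L459 : sm gb N57 = N57 := ded_19_1 (flp_e L457) L288 L457
theorem L460 : sm gh N57 = N57 := ded_37_2 (flp_e L457) L291 L457
theorem L461 : sm gd N57 = N57 := ded_30_1 (flp_e L457) (flp_d L286) L187 L286 L457
theorem L462 : sm gf N57 = N57 := ded_35_2 (flp_e L457) L289 L194 (flp_f L289) L457
theorem L463 : sm gi N36 = N58 := rfl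
theorem L465 : sm gb N58 = N58 := ded_23_1 (flp_i L463) L288 L463
theorem L466 : sm gd N58 = N37 := ded_34_1 (flp_i L292) L286 L463
theorem L468 : sm gf N58 = N39 := ded_41_1 (flp_i L306) (flp_f L289) L463
theorem L470 : sm gb N38 = N59 := rfl
theorem L472 : sm gd N59 = N59 := ded_18_2 (flp_b L470) L305 L470
theorem L473 : sm ge N59 = N59 := ded_19_2 (flp_b L470) L302 L470
theorem L474 : sm gg N59 = N59 := ded_21_2 (flp_b L470) L303 L470
theorem L475 : sm gh N59 = N59 := ded_22_2 (flp_b L470) L304 L470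
theorem L476 : sm ga N59 = N59 := ded_9_1 (flp_b L470) (flp_a L420) L425 L420 L470
theorem L477 : sm gc N59 = N59 := ded_17_2 (flp_b L470) (flp_c L300) L192 L300 L470
theorem L478 : sm gi N38 = N60 := rfl
theorem L480 : sm gc N60 = N39 := ded_29_1 (flp_i L306) L300 L478
theorem L482 : sm gd N60 = N60 := ded_34_1 (flp_i L478) L305 L478
theorem L483 : sm ge N60 = N60 := ded_38_1 (flp_i L478) L302 L478
theorem L484 : sm gg N60 = N60 := ded_43_1 (flp_i L478) L303 L478
theorem L485 : sm gh N39 = N61 := rfl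
theorem L487 : sm gb N61 = N61 := ded_22_1 (flp_h L485) L308 L485
theorem L488 : sm ge N61 = N61 := ded_37_1 (flp_h L485) L311 L485
theorem L489 : sm gg N61 = N61 := ded_42_1 (flp_h L485) L312 L485
theorem L490 : sm gd N61 = N61 := ded_33_1 (flp_h L485) L309 L203 (flp_d L309) L485
theorem L491 : sm gi N61 = N61 := ded_44_2 (flp_h L485) (flp_i L306) L195 L306 L485
theorem L492 : sm gf N40 = N62 := rfl
theorem L494 : sm ga N62 = N62 := ded_13_1 (flp_f L492) L315 L492
theorem L495 : sm gb N62 = N62 := ded_20_1 (flp_f L492) L316 L492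
theorem L496 : sm gc N62 = N62 := ded_26_1 (flp_f L492) L319 L492
theorem L497 : sm gd N62 = N41 := ded_31_1 (flp_f L321) L313 L492
theorem L499 : sm gh N62 = N62 := ded_40_2 (flp_f L492) L339 L492
theorem L500 : sm gi N62 = N62 := ded_41_2 (flp_f L492) L318 L492
theorem L501 : sm gg N41 = N63 := rfl
theorem L503 : sm ga N63 = N63 := ded_14_1 (flp_g L501) L323 L501
theorem L504 : sm gb N63 = N63 := ded_21_1 (flp_g L501) L324 L501
theorem L505 : sm gc N63 = N45 := ded_27_1 (flp_g L358) (flp_c L325) L501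
theorem L507 : sm ge N63 = N63 := ded_36_1 (flp_g L501) L328 L501
theorem L508 : sm gi N63 = N63 := ded_43_2 (flp_g L501) L327 L501
theorem L509 : sm gf N63 = N63 := ded_39_1 (flp_g L501) (flp_f L321) L210 L321 L501
theorem L510 : sm gh N41 = N64 := rfl
theorem L512 : sm ga N64 = N64 := ded_15_1 (flp_h L510) L323 L510
theorem L513 : sm gb N64 = N64 := ded_22_1 (flp_h L510) L324 L510
theorem L514 : sm gc N64 = N46 := ded_28_1 (flp_h L367) (flp_c L325) L510
theorem L516 : sm ge N64 = N64 := ded_37_1 (flp_h L510) L328 L510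
theorem L517 : sm gf N64 = N42 := ded_40_1 (flp_h L329) L321 L510
theorem L519 : sm gd N64 = N64 := ded_33_1 (flp_h L510) (flp_d L497) L499 L497 L510
theorem L520 : sm gi N42 = N65 := rfl
theorem L522 : sm ga N65 = N65 := ded_16_1 (flp_i L520) L331 L520
theorem L523 : sm gb N65 = N65 := ded_23_1 (flp_i L520) L332 L520
theorem L524 : sm gc N65 = N48 := ded_29_1 (flp_i L384) (flp_c L333) L520
theorem L526 : sm gd N65 = N65 := ded_34_1 (flp_i L520) L338 L520
theorem L527 : sm ge N65 = N44 := ded_38_1 (flp_i L349) (flp_e L335) L520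
theorem L529 : sm gg N65 = N65 := ded_43_1 (flp_i L520) L337 L520
theorem L530 : sm gh N65 = N65 := ded_44_1 (flp_i L520) (flp_h L329) L211 L329 L520
theorem L531 : sm gi N43 = N66 := rfl
theorem L533 : sm ga N66 = N66 := ded_16_1 (flp_i L531) L342 L531
theorem L534 : sm gb N66 = N66 := ded_23_1 (flp_i L531) L343 L531
theorem L535 : sm gc N66 = N66 := ded_29_1 (flp_i L531) L346 L531
theorem L536 : sm gd N66 = N44 := ded_34_1 (flp_i L349) L340 L531
theorem L538 : sm ge N66 = N66 := ded_38_1 (flp_i L531) L347 L531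
theorem L539 : sm gf N66 = N66 := ded_41_1 (flp_i L531) L344 L531
theorem L540 : sm gg N66 = N66 := ded_43_1 (flp_i L531) L345 L531
theorem L541 : sm gh N45 = N67 := rfl
theorem L543 : sm ga N67 = N67 := ded_15_1 (flp_h L541) L360 L541
theorem L544 : sm gb N67 = N49 := ded_22_1 (flp_h L393) (flp_b L361) L541
theorem L546 : sm ge N67 = N67 := ded_37_1 (flp_h L541) L364 L541
theorem L547 : sm gf N67 = N67 := ded_40_1 (flp_h L541) L366 L541
theorem L548 : sm gg N67 = N46 := ded_42_1 (flp_h L367) L358 L541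
theorem L550 : sm gd N46 = N68 := rfl
theorem L552 : sm ga N68 = N68 := ded_11_1 (flp_d L550) L369 L550
theorem L553 : sm gb N68 = N50 := ded_18_1 (flp_d L402) (flp_b L370) L550
theorem L555 : sm gf N68 = N47 := ded_31_2 (flp_d L375) (flp_f L373) L550
theorem L557 : sm gc N68 = N68 := ded_24_1 (flp_d L550) (flp_c L514) L519 L514 L550
theorem L558 : sm gh N68 = N68 := ded_33_2 (flp_d L550) (flp_h L367) L225 L367 L550
theorem L559 : sm gi N46 = N69 := rfl
theorem L561 : sm ga N69 = N69 := ded_16_1 (flp_i L559) L369 L559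
theorem L562 : sm gb N69 = N51 := ded_23_1 (flp_i L409) (flp_b L370) L559
theorem L564 : sm ge N69 = N69 := ded_38_1 (flp_i L559) L372 L559
theorem L565 : sm gf N69 = N48 := ded_41_1 (flp_i L384) (flp_f L373) L559
theorem L567 : sm gh N69 = N69 := ded_44_1 (flp_i L559) (flp_h L367) L226 L367 L559
theorem L568 : sm gi N47 = N70 := rfl
theorem L570 : sm ga N70 = N70 := ded_16_1 (flp_i L568) L377 L568
theorem L571 : sm gb N70 = N53 := ded_23_1 (flp_i L427) (flp_b L378) L568
theorem L573 : sm gc N70 = N70 := ded_29_1 (flp_i L568) L381 L568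
theorem L574 : sm gd N70 = N48 := ded_34_1 (flp_i L384) L375 L568
theorem L576 : sm ge N70 = N70 := ded_38_1 (flp_i L568) L382 L568
theorem L577 : sm gg N70 = N70 := ded_43_1 (flp_i L568) L380 L568
theorem L578 : sm gd N49 = N71 := rfl
theorem L580 : sm ga N71 = N54 := ded_11_1 (flp_d L435) (flp_a L395) L578
theorem L582 : sm gf N71 = N71 := ded_31_2 (flp_d L578) L399 L578
theorem L583 : sm gg N71 = N50 := ded_32_2 (flp_d L402) (flp_g L400) L578
theorem L585 : sm gh N71 = N71 := ded_33_2 (flp_d L578) (flp_h L393) L250 L393 L578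
theorem L586 : sm gi N49 = N72 := rfl
theorem L588 : sm ga N72 = N55 := ded_16_1 (flp_i L442) (flp_a L395) L586
theorem L590 : sm gc N72 = N72 := ded_29_1 (flp_i L586) L397 L586
theorem L591 : sm ge N72 = N72 := ded_38_1 (flp_i L586) L398 L586
theorem L592 : sm gf N72 = N72 := ded_41_1 (flp_i L586) L399 L586
theorem L593 : sm gg N72 = N51 := ded_43_1 (flp_i L409) (flp_g L400) L586
theorem L595 : sm gh N72 = N72 := ded_44_1 (flp_i L586) (flp_h L393) L252 L393 L586
theorem L596 : sm gc N50 = N73 := rfl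
theorem L598 : sm ga N73 = N56 := ded_10_1 (flp_c L451) (flp_a L404) L596
theorem L600 : sm gf N73 = N52 := ded_26_2 (flp_c L418) (flp_f L406) L596
theorem L602 : sm gh N73 = N73 := ded_28_2 (flp_c L596) L408 L596
theorem L603 : sm gb N73 = N73 := ded_17_1 (flp_c L596) (flp_b L553) L557 L553 L596
theorem L604 : sm gd N73 = N73 := ded_24_2 (flp_c L596) (flp_d L402) L258 L402 L596
theorem L605 : sm ge N50 = N74 := rfl
theorem L607 : sm ga N74 = N57 := ded_12_1 (flp_e L457) (flp_a L404) L605
theorem L609 : sm gh N74 = N74 := ded_37_2 (flp_e L605) L408 L605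
theorem L610 : sm gd N74 = N74 := ded_30_1 (flp_e L605) (flp_d L402) L259 L402 L605
theorem L611 : sm gf N74 = N74 := ded_35_2 (flp_e L605) L406 L267 (flp_f L406) L605
theorem L612 : sm gi N50 = N75 := rfl
theorem L614 : sm ga N75 = N58 := ded_16_1 (flp_i L463) (flp_a L404) L612
theorem L616 : sm gd N75 = N51 := ded_34_1 (flp_i L409) L402 L612
theorem L618 : sm gf N75 = N53 := ded_41_1 (flp_i L427) (flp_f L406) L612
theorem L620 : sm gi N52 = N76 := rfl
theorem L622 : sm ga N76 = N60 := ded_16_1 (flp_i L478) (flp_a L420) L620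
theorem L624 : sm gb N76 = N76 := ded_23_1 (flp_i L620) L425 L620
theorem L625 : sm gc N76 = N53 := ded_29_1 (flp_i L427) L418 L620
theorem L627 : sm gd N76 = N76 := ded_34_1 (flp_i L620) L426 L620
theorem L628 : sm ge N76 = N76 := ded_38_1 (flp_i L620) L422 L620
theorem L629 : sm gg N76 = N76 := ded_43_1 (flp_i L620) L423 L620
theorem L630 : sm gh N53 = N77 := rfl
theorem L632 : sm ga N77 = N61 := ded_15_1 (flp_h L485) (flp_a L429) L630
theorem L634 : sm ge N77 = N77 := ded_37_1 (flp_h L630) L433 L630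
theorem L635 : sm gg N77 = N77 := ded_42_1 (flp_h L630) L434 L630
theorem L636 : sm gd N77 = N77 := ded_33_1 (flp_h L630) L431 L277 (flp_d L431) L630
theorem L637 : sm gi N77 = N77 := ded_44_2 (flp_h L630) (flp_i L427) L268 L427 L630
theorem L638 : sm gc N54 = N78 := rfl
theorem L640 : sm gf N78 = N78 := ded_26_2 (flp_c L638) L438 L638
theorem L641 : sm gg N78 = N56 := ded_27_2 (flp_c L451) (flp_g L439) L638
theorem L643 : sm gh N78 = N78 := ded_28_2 (flp_c L638) L441 L638
theorem L644 : sm gd N78 = N78 := ded_24_2 (flp_c L638) (flp_d L435) L281 L435 L638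
theorem L645 : sm ge N54 = N79 := rfl
theorem L647 : sm gb N79 = N79 := ded_19_1 (flp_e L645) L437 L645
theorem L648 : sm gg N79 = N57 := ded_36_2 (flp_e L457) (flp_g L439) L645
theorem L650 : sm gh N79 = N79 := ded_37_2 (flp_e L645) L441 L645
theorem L651 : sm gd N79 = N79 := ded_30_1 (flp_e L645) (flp_d L435) L282 L435 L645
theorem L652 : sm gi N54 = N80 := rfl
theorem L654 : sm gb N80 = N80 := ded_23_1 (flp_i L652) L437 L652
theorem L655 : sm gd N80 = N55 := ded_34_1 (flp_i L442) L435 L652
theorem L657 : sm gf N80 = N80 := ded_41_1 (flp_i L652) L438 L652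
theorem L658 : sm gg N80 = N58 := ded_43_1 (flp_i L463) (flp_g L439) L652
theorem L660 : sm gb N56 = N81 := rfl
theorem L662 : sm gd N81 = N81 := ded_18_2 (flp_b L660) L456 L660
theorem L663 : sm gf N81 = N59 := ded_20_2 (flp_b L470) (flp_f L453) L660
theorem L665 : sm gh N81 = N81 := ded_22_2 (flp_b L660) L455 L660
theorem L666 : sm ga N81 = N81 := ded_9_1 (flp_b L660) (flp_a L598) L603 L598 L660
theorem L667 : sm gc N81 = N81 := ded_17_2 (flp_b L660) (flp_c L451) L288 L451 L660
theorem L668 : sm ge N56 = N82 := rfl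
theorem L670 : sm gc N82 = N57 := ded_25_1 (flp_e L457) L451 L668
theorem L672 : sm gh N82 = N82 := ded_37_2 (flp_e L668) L455 L668
theorem L673 : sm gf N82 = N82 := ded_35_2 (flp_e L668) L453 L302 (flp_f L453) L668
theorem L674 : sm gi N56 = N83 := rfl
theorem L676 : sm gc N83 = N58 := ded_29_1 (flp_i L463) L451 L674
theorem L678 : sm gd N83 = N83 := ded_34_1 (flp_i L674) L456 L674
theorem L679 : sm gf N83 = N60 := ded_41_1 (flp_i L478) (flp_f L453) L674
theorem L681 : sm gi N57 = N84 := rfl
theorem L683 : sm gb N84 = N84 := ded_23_1 (flp_i L681) L459 L681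
theorem L684 : sm gd N84 = N84 := ded_34_1 (flp_i L681) L461 L681
theorem L685 : sm ge N84 = N58 := ded_38_1 (flp_i L463) L457 L681
theorem L687 : sm gf N84 = N84 := ded_41_1 (flp_i L681) L462 L681
theorem L688 : sm gh N58 = N85 := rfl
theorem L690 : sm gb N85 = N85 := ded_22_1 (flp_h L688) L465 L688
theorem L691 : sm gf N85 = N61 := ded_40_1 (flp_h L485) (flp_f L468) L688
theorem L693 : sm gd N85 = N85 := ded_33_1 (flp_h L688) L466 L299 (flp_d L466) L688
theorem L694 : sm gi N85 = N85 := ded_44_2 (flp_h L688) (flp_i L463) L291 L463 L688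
theorem L695 : sm gi N59 = N86 := rfl
theorem L697 : sm ga N86 = N86 := ded_16_1 (flp_i L695) L476 L695
theorem L698 : sm gb N86 = N60 := ded_23_1 (flp_i L478) L470 L695
theorem L700 : sm gc N86 = N86 := ded_29_1 (flp_i L695) L477 L695
theorem L701 : sm gd N86 = N86 := ded_34_1 (flp_i L695) L472 L695
theorem L702 : sm ge N86 = N86 := ded_38_1 (flp_i L695) L473 L695
theorem L703 : sm gg N86 = N86 := ded_43_1 (flp_i L695) L474 L695
theorem L704 : sm gh N60 = N87 := rfl
theorem L706 : sm gc N87 = N61 := ded_28_1 (flp_h L485) (flp_c L480) L704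
theorem L708 : sm ge N87 = N87 := ded_37_1 (flp_h L704) L483 L704
theorem L709 : sm gg N87 = N87 := ded_42_1 (flp_h L704) L484 L704
theorem L710 : sm gi N87 = N87 := ded_44_2 (flp_h L704) (flp_i L478) L304 L478 L704
theorem L711 : sm ge N62 = N88 := rfl
theorem L713 : sm ga N88 = N88 := ded_12_1 (flp_e L711) L494 L711
theorem L714 : sm gb N88 = N88 := ded_19_1 (flp_e L711) L495 L711
theorem L715 : sm gc N88 = N88 := ded_25_1 (flp_e L711) L496 L711
theorem L716 : sm gh N88 = N88 := ded_37_2 (flp_e L711) L499 L711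
theorem L717 : sm gi N88 = N88 := ded_38_2 (flp_e L711) L500 L711
theorem L718 : sm gd N88 = N88 := ded_30_1 (flp_e L711) L497 L328 (flp_d L497) L711
theorem L719 : sm gf N88 = N88 := ded_35_2 (flp_e L711) (flp_f L492) L320 L492 L711
theorem L720 : sm gg N62 = N89 := rfl
theorem L722 : sm ga N89 = N89 := ded_14_1 (flp_g L720) L494 L720
theorem L723 : sm gb N89 = N89 := ded_21_1 (flp_g L720) L495 L720
theorem L724 : sm gc N89 = N89 := ded_27_1 (flp_g L720) L496 L720
theorem L725 : sm gd N89 = N63 := ded_32_1 (flp_g L501) (flp_d L497) L720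
theorem L727 : sm gh N89 = N89 := ded_42_2 (flp_g L720) L499 L720
theorem L728 : sm gi N89 = N89 := ded_43_2 (flp_g L720) L500 L720
theorem L729 : sm gf N89 = N89 := ded_39_1 (flp_g L720) (flp_f L492) L317 L492 L720
theorem L730 : sm gh N63 = N90 := rfl
theorem L732 : sm ga N90 = N90 := ded_15_1 (flp_h L730) L503 L730
theorem L733 : sm gb N90 = N90 := ded_22_1 (flp_h L730) L504 L730
theorem L734 : sm gc N90 = N67 := ded_28_1 (flp_h L541) (flp_c L505) L730
theorem L736 : sm ge N90 = N90 := ded_37_1 (flp_h L730) L507 L730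
theorem L737 : sm gf N90 = N90 := ded_40_1 (flp_h L730) L509 L730
theorem L738 : sm gg N90 = N64 := ded_42_1 (flp_h L510) L501 L730
theorem L740 : sm gd N90 = N90 := ded_33_1 (flp_h L730) (flp_d L725) L727 L725 L730
theorem L741 : sm gi N64 = N91 := rfl
theorem L743 : sm ga N91 = N91 := ded_16_1 (flp_i L741) L512 L741
theorem L744 : sm gb N91 = N91 := ded_23_1 (flp_i L741) L513 L741
theorem L745 : sm gc N91 = N69 := ded_29_1 (flp_i L559) (flp_c L514) L741
theorem L747 : sm gd N91 = N91 := ded_34_1 (flp_i L741) L519 L741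
theorem L748 : sm ge N91 = N91 := ded_38_1 (flp_i L741) L516 L741
theorem L749 : sm gf N91 = N65 := ded_41_1 (flp_i L520) (flp_f L517) L741
theorem L751 : sm gh N91 = N91 := ded_44_1 (flp_i L741) (flp_h L510) L327 L510 L741
theorem L752 : sm gh N66 = N92 := rfl
theorem L754 : sm ga N92 = N92 := ded_15_1 (flp_h L752) L533 L752
theorem L755 : sm gb N92 = N92 := ded_22_1 (flp_h L752) L534 L752
theorem L756 : sm gc N92 = N92 := ded_28_1 (flp_h L752) L535 L752
theorem L757 : sm ge N92 = N92 := ded_37_1 (flp_h L752) L538 L752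
theorem L758 : sm gf N92 = N92 := ded_40_1 (flp_h L752) L539 L752
theorem L759 : sm gg N92 = N92 := ded_42_1 (flp_h L752) L540 L752
theorem L760 : sm gd N92 = N92 := ded_33_1 (flp_h L752) L536 L357 (flp_d L536) L752
theorem L761 : sm gi N92 = N92 := ded_44_2 (flp_h L752) (flp_i L531) L348 L531 L752
theorem L762 : sm gd N67 = N93 := rfl
theorem L764 : sm ga N93 = N93 := ded_11_1 (flp_d L762) L543 L762
theorem L765 : sm gb N93 = N71 := ded_18_1 (flp_d L578) (flp_b L544) L762
theorem L767 : sm gf N93 = N93 := ded_31_2 (flp_d L762) L547 L762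
theorem L768 : sm gg N93 = N68 := ded_32_2 (flp_d L550) (flp_g L548) L762
theorem L770 : sm gc N93 = N93 := ded_24_1 (flp_d L762) (flp_c L734) L740 L734 L762
theorem L771 : sm gh N93 = N93 := ded_33_2 (flp_d L762) (flp_h L541) L363 L541 L762
theorem L772 : sm gi N67 = N94 := rfl
theorem L774 : sm ga N94 = N94 := ded_16_1 (flp_i L772) L543 L772
theorem L775 : sm gb N94 = N72 := ded_23_1 (flp_i L586) (flp_b L544) L772
theorem L777 : sm ge N94 = N94 := ded_38_1 (flp_i L772) L546 L772
theorem L778 : sm gf N94 = N94 := ded_41_1 (flp_i L772) L547 L772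
theorem L779 : sm gg N94 = N69 := ded_43_1 (flp_i L559) (flp_g L548) L772
theorem L781 : sm gh N94 = N94 := ded_44_1 (flp_i L772) (flp_h L541) L365 L541 L772
theorem L782 : sm ge N68 = N95 := rfl
theorem L784 : sm ga N95 = N95 := ded_12_1 (flp_e L782) L552 L782
theorem L785 : sm gb N95 = N74 := ded_19_1 (flp_e L605) (flp_b L553) L782
theorem L787 : sm gc N95 = N95 := ded_25_1 (flp_e L782) L557 L782
theorem L788 : sm gh N95 = N95 := ded_37_2 (flp_e L782) L558 L782
theorem L789 : sm gd N95 = N95 := ded_30_1 (flp_e L782) (flp_d L550) L372 L550 L782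
theorem L790 : sm gf N95 = N95 := ded_35_2 (flp_e L782) L555 L382 (flp_f L555) L782
theorem L791 : sm gi N68 = N96 := rfl
theorem L793 : sm ga N96 = N96 := ded_16_1 (flp_i L791) L552 L791
theorem L794 : sm gb N96 = N75 := ded_23_1 (flp_i L612) (flp_b L553) L791
theorem L796 : sm gc N96 = N96 := ded_29_1 (flp_i L791) L557 L791
theorem L797 : sm gd N96 = N69 := ded_34_1 (flp_i L559) L550 L791
theorem L799 : sm gf N96 = N70 := ded_41_1 (flp_i L568) (flp_f L555) L791
theorem L801 : sm gh N70 = N97 := rfl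
theorem L803 : sm ga N97 = N97 := ded_15_1 (flp_h L801) L570 L801
theorem L804 : sm gb N97 = N77 := ded_22_1 (flp_h L630) (flp_b L571) L801
theorem L806 : sm gc N97 = N97 := ded_28_1 (flp_h L801) L573 L801
theorem L807 : sm ge N97 = N97 := ded_37_1 (flp_h L801) L576 L801
theorem L808 : sm gg N97 = N97 := ded_42_1 (flp_h L801) L577 L801
theorem L809 : sm gd N97 = N97 := ded_33_1 (flp_h L801) L574 L392 (flp_d L574) L801
theorem L810 : sm gi N97 = N97 := ded_44_2 (flp_h L801) (flp_i L568) L383 L568 L801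
theorem L811 : sm gc N71 = N98 := rfl
theorem L813 : sm ga N98 = N78 := ded_10_1 (flp_c L638) (flp_a L580) L811
theorem L815 : sm gf N98 = N98 := ded_26_2 (flp_c L811) L582 L811
theorem L816 : sm gg N98 = N73 := ded_27_2 (flp_c L596) (flp_g L583) L811
theorem L818 : sm gh N98 = N98 := ded_28_2 (flp_c L811) L585 L811
theorem L819 : sm gb N98 = N98 := ded_17_1 (flp_c L811) (flp_b L765) L770 L765 L811
theorem L820 : sm gd N98 = N98 := ded_24_2 (flp_c L811) (flp_d L578) L397 L578 L811
theorem L821 : sm ge N71 = N99 := rfl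
theorem L823 : sm ga N99 = N79 := ded_12_1 (flp_e L645) (flp_a L580) L821
theorem L825 : sm gg N99 = N74 := ded_36_2 (flp_e L605) (flp_g L583) L821
theorem L827 : sm gh N99 = N99 := ded_37_2 (flp_e L821) L585 L821
theorem L828 : sm gd N99 = N99 := ded_30_1 (flp_e L821) (flp_d L578) L398 L578 L821
theorem L829 : sm gi N71 = N100 := rfl
theorem L831 : sm ga N100 = N80 := ded_16_1 (flp_i L652) (flp_a L580) L829
theorem L833 : sm gd N100 = N72 := ded_34_1 (flp_i L586) L578 L829
theorem L835 : sm gf N100 = N100 := ded_41_1 (flp_i L829) L582 L829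
theorem L836 : sm gg N100 = N75 := ded_43_1 (flp_i L612) (flp_g L583) L829
theorem L838 : sm ge N73 = N101 := rfl
theorem L840 : sm ga N101 = N82 := ded_12_1 (flp_e L668) (flp_a L598) L838
theorem L842 : sm gb N101 = N101 := ded_19_1 (flp_e L838) L603 L838
theorem L843 : sm gc N101 = N74 := ded_25_1 (flp_e L605) L596 L838
theorem L845 : sm gh N101 = N101 := ded_37_2 (flp_e L838) L602 L838
theorem L846 : sm gf N101 = N101 := ded_35_2 (flp_e L838) L600 L422 (flp_f L600) L838
theorem L847 : sm gi N73 = N102 := rfl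
theorem L849 : sm ga N102 = N83 := ded_16_1 (flp_i L674) (flp_a L598) L847
theorem L851 : sm gb N102 = N102 := ded_23_1 (flp_i L847) L603 L847
theorem L852 : sm gc N102 = N75 := ded_29_1 (flp_i L612) L596 L847
theorem L854 : sm gd N102 = N102 := ded_34_1 (flp_i L847) L604 L847
theorem L855 : sm gf N102 = N76 := ded_41_1 (flp_i L620) (flp_f L600) L847
theorem L857 : sm gi N74 = N103 := rfl
theorem L859 : sm ga N103 = N84 := ded_16_1 (flp_i L681) (flp_a L607) L857
theorem L861 : sm gd N103 = N103 := ded_34_1 (flp_i L857) L610 L857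
theorem L862 : sm ge N103 = N75 := ded_38_1 (flp_i L612) L605 L857
theorem L864 : sm gf N103 = N103 := ded_41_1 (flp_i L857) L611 L857
theorem L865 : sm gh N75 = N104 := rfl
theorem L867 : sm ga N104 = N85 := ded_15_1 (flp_h L688) (flp_a L614) L865
theorem L869 : sm gf N104 = N77 := ded_40_1 (flp_h L630) (flp_f L618) L865
theorem L871 : sm gd N104 = N104 := ded_33_1 (flp_h L865) L616 L417 (flp_d L616) L865
theorem L872 : sm gi N104 = N104 := ded_44_2 (flp_h L865) (flp_i L612) L408 L612 L865
theorem L873 : sm gh N76 = N105 := rfl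
theorem L875 : sm ga N105 = N87 := ded_15_1 (flp_h L704) (flp_a L622) L873
theorem L877 : sm gb N105 = N105 := ded_22_1 (flp_h L873) L624 L873
theorem L878 : sm gc N105 = N77 := ded_28_1 (flp_h L630) (flp_c L625) L873
theorem L880 : sm ge N105 = N105 := ded_37_1 (flp_h L873) L628 L873
theorem L881 : sm gg N105 = N105 := ded_42_1 (flp_h L873) L629 L873
theorem L882 : sm gi N105 = N105 := ded_44_2 (flp_h L873) (flp_i L620) L424 L620 L873
theorem L883 : sm gb N78 = N106 := rfl
theorem L885 : sm gd N106 = N106 := ded_18_2 (flp_b L883) L644 L883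
theorem L886 : sm gf N106 = N106 := ded_20_2 (flp_b L883) L640 L883
theorem L887 : sm gg N106 = N81 := ded_21_2 (flp_b L660) (flp_g L641) L883
theorem L889 : sm gh N106 = N106 := ded_22_2 (flp_b L883) L643 L883
theorem L890 : sm ga N106 = N106 := ded_9_1 (flp_b L883) (flp_a L813) L819 L813 L883
theorem L891 : sm gc N106 = N106 := ded_17_2 (flp_b L883) (flp_c L638) L437 L638 L883
theorem L892 : sm ge N78 = N107 := rfl
theorem L894 : sm gc N107 = N79 := ded_25_1 (flp_e L645) L638 L892
theorem L896 : sm gg N107 = N82 := ded_36_2 (flp_e L668) (flp_g L641) L892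
theorem L898 : sm gh N107 = N107 := ded_37_2 (flp_e L892) L643 L892
theorem L899 : sm gi N78 = N108 := rfl
theorem L901 : sm gc N108 = N80 := ded_29_1 (flp_i L652) L638 L899
theorem L903 : sm gd N108 = N108 := ded_34_1 (flp_i L899) L644 L899
theorem L904 : sm gf N108 = N108 := ded_41_1 (flp_i L899) L640 L899
theorem L905 : sm gg N108 = N83 := ded_43_1 (flp_i L674) (flp_g L641) L899
theorem L907 : sm gf N79 = N109 := rfl
theorem L909 : sm gb N109 = N109 := ded_20_1 (flp_f L907) L647 L907
theorem L910 : sm gd N109 = N109 := ded_31_1 (flp_f L907) L651 L907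
theorem L911 : sm gh N109 = N109 := ded_40_2 (flp_f L907) L650 L907
theorem L912 : sm ge N109 = N109 := ded_35_1 (flp_f L907) (flp_e L645) L438 L645 L907
theorem L913 : sm gg N109 = N109 := ded_39_2 (flp_f L907) L648 L462 (flp_g L648) L907
theorem L914 : sm gi N79 = N110 := rfl
theorem L916 : sm gb N110 = N110 := ded_23_1 (flp_i L914) L647 L914
theorem L917 : sm gd N110 = N110 := ded_34_1 (flp_i L914) L651 L914
theorem L918 : sm ge N110 = N80 := ded_38_1 (flp_i L652) L645 L914
theorem L920 : sm gg N110 = N84 := ded_43_1 (flp_i L681) (flp_g L648) L914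
theorem L922 : sm gh N80 = N111 := rfl
theorem L924 : sm gb N111 = N111 := ded_22_1 (flp_h L922) L654 L922
theorem L925 : sm gf N111 = N111 := ded_40_1 (flp_h L922) L657 L922
theorem L926 : sm gg N111 = N85 := ded_42_1 (flp_h L688) (flp_g L658) L922
theorem L928 : sm gd N111 = N111 := ded_33_1 (flp_h L922) L655 L450 (flp_d L655) L922
theorem L929 : sm gi N111 = N111 := ded_44_2 (flp_h L922) (flp_i L652) L441 L652 L922
theorem L930 : sm ge N81 = N112 := rfl
theorem L932 : sm ga N112 = N112 := ded_12_1 (flp_e L930) L666 L930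
theorem L933 : sm gb N112 = N82 := ded_19_1 (flp_e L668) L660 L930
theorem L935 : sm gc N112 = N112 := ded_25_1 (flp_e L930) L667 L930
theorem L936 : sm gh N112 = N112 := ded_37_2 (flp_e L930) L665 L930
theorem L937 : sm gf N112 = N112 := ded_35_2 (flp_e L930) L663 L473 (flp_f L663) L930
theorem L938 : sm gi N81 = N113 := rfl
theorem L940 : sm ga N113 = N113 := ded_16_1 (flp_i L938) L666 L938
theorem L941 : sm gb N113 = N83 := ded_23_1 (flp_i L674) L660 L938
theorem L943 : sm gc N113 = N113 := ded_29_1 (flp_i L938) L667 L938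
theorem L944 : sm gd N113 = N113 := ded_34_1 (flp_i L938) L662 L938
theorem L945 : sm gf N113 = N86 := ded_41_1 (flp_i L695) (flp_f L663) L938
theorem L947 : sm gd N82 = N114 := rfl
theorem L949 : sm gf N114 = N114 := ded_31_2 (flp_d L947) L673 L947
theorem L950 : sm gc N114 = N114 := ded_24_1 (flp_d L947) L670 L461 (flp_c L670) L947
theorem L951 : sm ge N114 = N114 := ded_30_2 (flp_d L947) (flp_e L668) L456 L668 L947
theorem L952 : sm gi N82 = N115 := rfl
theorem L954 : sm gc N115 = N84 := ded_29_1 (flp_i L681) (flp_c L670) L952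
theorem L956 : sm ge N115 = N83 := ded_38_1 (flp_i L674) L668 L952
theorem L958 : sm gf N115 = N115 := ded_41_1 (flp_i L952) L673 L952
theorem L959 : sm gh N83 = N116 := rfl
theorem L961 : sm gc N116 = N85 := ded_28_1 (flp_h L688) (flp_c L676) L959
theorem L963 : sm gf N116 = N87 := ded_40_1 (flp_h L704) (flp_f L679) L959
theorem L965 : sm gi N116 = N116 := ded_44_2 (flp_h L959) (flp_i L674) L455 L674 L959
theorem L966 : sm gh N84 = N117 := rfl
theorem L968 : sm gb N117 = N117 := ded_22_1 (flp_h L966) L683 L966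
theorem L969 : sm ge N117 = N85 := ded_37_1 (flp_h L688) (flp_e L685) L966
theorem L971 : sm gf N117 = N117 := ded_40_1 (flp_h L966) L687 L966
theorem L972 : sm gi N117 = N117 := ded_44_2 (flp_h L966) (flp_i L681) L460 L681 L966
theorem L973 : sm gh N86 = N118 := rfl
theorem L975 : sm ga N118 = N118 := ded_15_1 (flp_h L973) L697 L973
theorem L976 : sm gb N118 = N87 := ded_22_1 (flp_h L704) (flp_b L698) L973
theorem L978 : sm gc N118 = N118 := ded_28_1 (flp_h L973) L700 L973
theorem L979 : sm ge N118 = N118 := ded_37_1 (flp_h L973) L702 L973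
theorem L980 : sm gg N118 = N118 := ded_42_1 (flp_h L973) L703 L973
theorem L981 : sm gi N118 = N118 := ded_44_2 (flp_h L973) (flp_i L695) L475 L695 L973
theorem L982 : sm gd N87 = N119 := rfl
theorem L984 : sm gg N119 = N119 := ded_32_2 (flp_d L982) L709 L982
theorem L985 : sm gi N119 = N119 := ded_34_2 (flp_d L982) L710 L982
theorem L986 : sm gc N119 = N119 := ded_24_1 (flp_d L982) L706 L490 (flp_c L706) L982
theorem L987 : sm gh N119 = N119 := ded_33_2 (flp_d L982) (flp_h L704) L482 L704 L982
theorem L988 : sm gg N88 = N120 := rfl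
theorem L990 : sm ga N120 = N120 := ded_14_1 (flp_g L988) L713 L988
theorem L991 : sm gb N120 = N120 := ded_21_1 (flp_g L988) L714 L988
theorem L992 : sm gc N120 = N120 := ded_27_1 (flp_g L988) L715 L988
theorem L993 : sm gd N120 = N120 := ded_32_1 (flp_g L988) L718 L988
theorem L994 : sm ge N120 = N89 := ded_36_1 (flp_g L720) L711 L988
theorem L996 : sm gh N120 = N120 := ded_42_2 (flp_g L988) L716 L988
theorem L997 : sm gi N120 = N120 := ded_43_2 (flp_g L988) L717 L988
theorem L998 : sm gi N90 = N121 := rfl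
theorem L1000 : sm ga N121 = N121 := ded_16_1 (flp_i L998) L732 L998
theorem L1001 : sm gb N121 = N121 := ded_23_1 (flp_i L998) L733 L998
theorem L1002 : sm gc N121 = N94 := ded_29_1 (flp_i L772) (flp_c L734) L998
theorem L1004 : sm gd N121 = N121 := ded_34_1 (flp_i L998) L740 L998
theorem L1005 : sm ge N121 = N121 := ded_38_1 (flp_i L998) L736 L998
theorem L1006 : sm gf N121 = N121 := ded_41_1 (flp_i L998) L737 L998
theorem L1007 : sm gg N121 = N91 := ded_43_1 (flp_i L741) (flp_g L738) L998
theorem L1009 : sm gh N121 = N121 := ded_44_1 (flp_i L998) (flp_h L730) L508 L730 L998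
theorem L1010 : sm ge N93 = N122 := rfl
theorem L1012 : sm ga N122 = N122 := ded_12_1 (flp_e L1010) L764 L1010
theorem L1013 : sm gb N122 = N99 := ded_19_1 (flp_e L821) (flp_b L765) L1010
theorem L1015 : sm gc N122 = N122 := ded_25_1 (flp_e L1010) L770 L1010
theorem L1016 : sm gg N122 = N95 := ded_36_2 (flp_e L782) (flp_g L768) L1010
theorem L1018 : sm gh N122 = N122 := ded_37_2 (flp_e L1010) L771 L1010
theorem L1019 : sm gd N122 = N122 := ded_30_1 (flp_e L1010) (flp_d L762) L546 L762 L1010
theorem L1020 : sm gi N93 = N123 := rfl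
theorem L1022 : sm ga N123 = N123 := ded_16_1 (flp_i L1020) L764 L1020
theorem L1023 : sm gb N123 = N100 := ded_23_1 (flp_i L829) (flp_b L765) L1020
theorem L1025 : sm gc N123 = N123 := ded_29_1 (flp_i L1020) L770 L1020
theorem L1026 : sm gd N123 = N94 := ded_34_1 (flp_i L772) L762 L1020
theorem L1028 : sm gf N123 = N123 := ded_41_1 (flp_i L1020) L767 L1020
theorem L1029 : sm gg N123 = N96 := ded_43_1 (flp_i L791) (flp_g L768) L1020
theorem L1031 : sm gi N95 = N124 := rfl
theorem L1033 : sm ga N124 = N124 := ded_16_1 (flp_i L1031) L784 L1031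
theorem L1034 : sm gb N124 = N103 := ded_23_1 (flp_i L857) (flp_b L785) L1031
theorem L1036 : sm gc N124 = N124 := ded_29_1 (flp_i L1031) L787 L1031
theorem L1037 : sm gd N124 = N124 := ded_34_1 (flp_i L1031) L789 L1031
theorem L1038 : sm ge N124 = N96 := ded_38_1 (flp_i L791) L782 L1031
theorem L1040 : sm gf N124 = N124 := ded_41_1 (flp_i L1031) L790 L1031
theorem L1041 : sm gh N96 = N125 := rfl
theorem L1043 : sm ga N125 = N125 := ded_15_1 (flp_h L1041) L793 L1041
theorem L1044 : sm gb N125 = N104 := ded_22_1 (flp_h L865) (flp_b L794) L1041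
theorem L1046 : sm gc N125 = N125 := ded_28_1 (flp_h L1041) L796 L1041
theorem L1047 : sm gf N125 = N97 := ded_40_1 (flp_h L801) (flp_f L799) L1041
theorem L1049 : sm gd N125 = N125 := ded_33_1 (flp_h L1041) L797 L567 (flp_d L797) L1041
theorem L1050 : sm gi N125 = N125 := ded_44_2 (flp_h L1041) (flp_i L791) L558 L791 L1041
theorem L1051 : sm ge N98 = N126 := rfl
theorem L1053 : sm ga N126 = N107 := ded_12_1 (flp_e L892) (flp_a L813) L1051
theorem L1055 : sm gb N126 = N126 := ded_19_1 (flp_e L1051) L819 L1051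
theorem L1056 : sm gc N126 = N99 := ded_25_1 (flp_e L821) L811 L1051
theorem L1058 : sm gg N126 = N101 := ded_36_2 (flp_e L838) (flp_g L816) L1051
theorem L1060 : sm gh N126 = N126 := ded_37_2 (flp_e L1051) L818 L1051
theorem L1061 : sm gi N98 = N127 := rfl
theorem L1063 : sm ga N127 = N108 := ded_16_1 (flp_i L899) (flp_a L813) L1061
theorem L1065 : sm gb N127 = N127 := ded_23_1 (flp_i L1061) L819 L1061
theorem L1066 : sm gc N127 = N100 := ded_29_1 (flp_i L829) L811 L1061
theorem L1068 : sm gd N127 = N127 := ded_34_1 (flp_i L1061) L820 L1061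
theorem L1069 : sm gf N127 = N127 := ded_41_1 (flp_i L1061) L815 L1061
theorem L1070 : sm gg N127 = N102 := ded_43_1 (flp_i L847) (flp_g L816) L1061
theorem L1072 : sm gf N99 = N128 := rfl
theorem L1074 : sm ga N128 = N109 := ded_13_1 (flp_f L907) (flp_a L823) L1072
theorem L1076 : sm gd N128 = N128 := ded_31_1 (flp_f L1072) L828 L1072
theorem L1077 : sm gh N128 = N128 := ded_40_2 (flp_f L1072) L827 L1072
theorem L1078 : sm ge N128 = N128 := ded_35_1 (flp_f L1072) (flp_e L821) L582 L821 L1072
theorem L1079 : sm gg N128 = N128 := ded_39_2 (flp_f L1072) L825 L611 (flp_g L825) L1072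
theorem L1080 : sm gi N99 = N129 := rfl
theorem L1082 : sm ga N129 = N110 := ded_16_1 (flp_i L914) (flp_a L823) L1080
theorem L1084 : sm gd N129 = N129 := ded_34_1 (flp_i L1080) L828 L1080
theorem L1085 : sm ge N129 = N100 := ded_38_1 (flp_i L829) L821 L1080
theorem L1087 : sm gg N129 = N103 := ded_43_1 (flp_i L857) (flp_g L825) L1080
theorem L1089 : sm gh N100 = N130 := rfl
theorem L1091 : sm ga N130 = N111 := ded_15_1 (flp_h L922) (flp_a L831) L1089
theorem L1093 : sm gf N130 = N130 := ded_40_1 (flp_h L1089) L835 L1089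
theorem L1094 : sm gg N130 = N104 := ded_42_1 (flp_h L865) (flp_g L836) L1089
theorem L1096 : sm gd N130 = N130 := ded_33_1 (flp_h L1089) L833 L595 (flp_d L833) L1089
theorem L1097 : sm gi N130 = N130 := ded_44_2 (flp_h L1089) (flp_i L829) L585 L829 L1089
theorem L1098 : sm gd N101 = N131 := rfl
theorem L1100 : sm ga N131 = N114 := ded_11_1 (flp_d L947) (flp_a L840) L1098
theorem L1102 : sm gb N131 = N131 := ded_18_1 (flp_d L1098) L842 L1098
theorem L1103 : sm gf N131 = N131 := ded_31_2 (flp_d L1098) L846 L1098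
theorem L1104 : sm gc N131 = N131 := ded_24_1 (flp_d L1098) L843 L610 (flp_c L843) L1098
theorem L1105 : sm ge N131 = N131 := ded_30_2 (flp_d L1098) (flp_e L838) L604 L838 L1098
theorem L1106 : sm gi N101 = N132 := rfl
theorem L1108 : sm ga N132 = N115 := ded_16_1 (flp_i L952) (flp_a L840) L1106
theorem L1110 : sm gb N132 = N132 := ded_23_1 (flp_i L1106) L842 L1106
theorem L1111 : sm gc N132 = N103 := ded_29_1 (flp_i L857) (flp_c L843) L1106
theorem L1113 : sm ge N132 = N102 := ded_38_1 (flp_i L847) L838 L1106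
theorem L1115 : sm gf N132 = N132 := ded_41_1 (flp_i L1106) L846 L1106
theorem L1116 : sm gh N102 = N133 := rfl
theorem L1118 : sm ga N133 = N116 := ded_15_1 (flp_h L959) (flp_a L849) L1116
theorem L1120 : sm gb N133 = N133 := ded_22_1 (flp_h L1116) L851 L1116
theorem L1121 : sm gc N133 = N104 := ded_28_1 (flp_h L865) (flp_c L852) L1116
theorem L1123 : sm gf N133 = N105 := ded_40_1 (flp_h L873) (flp_f L855) L1116
theorem L1125 : sm gi N133 = N133 := ded_44_2 (flp_h L1116) (flp_i L847) L602 L847 L1116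
theorem L1126 : sm gh N103 = N134 := rfl
theorem L1128 : sm ga N134 = N117 := ded_15_1 (flp_h L966) (flp_a L859) L1126
theorem L1130 : sm ge N134 = N104 := ded_37_1 (flp_h L865) (flp_e L862) L1126
theorem L1132 : sm gf N134 = N134 := ded_40_1 (flp_h L1126) L864 L1126
theorem L1133 : sm gi N134 = N134 := ded_44_2 (flp_h L1126) (flp_i L857) L609 L857 L1126
theorem L1134 : sm gd N105 = N135 := rfl
theorem L1136 : sm ga N135 = N119 := ded_11_1 (flp_d L982) (flp_a L875) L1134
theorem L1138 : sm gb N135 = N135 := ded_18_1 (flp_d L1134) L877 L1134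
theorem L1139 : sm gg N135 = N135 := ded_32_2 (flp_d L1134) L881 L1134
theorem L1140 : sm gi N135 = N135 := ded_34_2 (flp_d L1134) L882 L1134
theorem L1141 : sm gc N135 = N135 := ded_24_1 (flp_d L1134) L878 L636 (flp_c L878) L1134
theorem L1142 : sm gh N135 = N135 := ded_33_2 (flp_d L1134) (flp_h L873) L627 L873 L1134
theorem L1143 : sm ge N106 = N136 := rfl
theorem L1145 : sm ga N136 = N136 := ded_12_1 (flp_e L1143) L890 L1143
theorem L1146 : sm gb N136 = N107 := ded_19_1 (flp_e L892) L883 L1143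
theorem L1148 : sm gc N136 = N136 := ded_25_1 (flp_e L1143) L891 L1143
theorem L1149 : sm gg N136 = N112 := ded_36_2 (flp_e L930) (flp_g L887) L1143
theorem L1151 : sm gh N136 = N136 := ded_37_2 (flp_e L1143) L889 L1143
theorem L1152 : sm gi N106 = N137 := rfl
theorem L1154 : sm ga N137 = N137 := ded_16_1 (flp_i L1152) L890 L1152
theorem L1155 : sm gb N137 = N108 := ded_23_1 (flp_i L899) L883 L1152
theorem L1157 : sm gc N137 = N137 := ded_29_1 (flp_i L1152) L891 L1152
theorem L1158 : sm gd N137 = N137 := ded_34_1 (flp_i L1152) L885 L1152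
theorem L1159 : sm gf N137 = N137 := ded_41_1 (flp_i L1152) L886 L1152
theorem L1160 : sm gg N137 = N113 := ded_43_1 (flp_i L938) (flp_g L887) L1152
theorem L1162 : sm gd N107 = N138 := rfl
theorem L1164 : sm gg N138 = N114 := ded_32_2 (flp_d L947) (flp_g L896) L1162
theorem L1166 : sm gc N138 = N138 := ded_24_1 (flp_d L1162) L894 L651 (flp_c L894) L1162
theorem L1167 : sm ge N138 = N138 := ded_30_2 (flp_d L1162) (flp_e L892) L644 L892 L1162
theorem L1168 : sm gf N107 = N139 := rfl
theorem L1170 : sm gc N139 = N109 := ded_26_1 (flp_f L907) (flp_c L894) L1168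
theorem L1172 : sm gh N139 = N139 := ded_40_2 (flp_f L1168) L898 L1168
theorem L1173 : sm ge N139 = N139 := ded_35_1 (flp_f L1168) (flp_e L892) L640 L892 L1168
theorem L1174 : sm gg N139 = N139 := ded_39_2 (flp_f L1168) L896 L673 (flp_g L896) L1168
theorem L1175 : sm gi N107 = N140 := rfl
theorem L1177 : sm gc N140 = N110 := ded_29_1 (flp_i L914) (flp_c L894) L1175
theorem L1179 : sm ge N140 = N108 := ded_38_1 (flp_i L899) L892 L1175
theorem L1181 : sm gg N140 = N115 := ded_43_1 (flp_i L952) (flp_g L896) L1175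
theorem L1183 : sm gh N108 = N141 := rfl
theorem L1185 : sm gc N141 = N111 := ded_28_1 (flp_h L922) (flp_c L901) L1183
theorem L1187 : sm gf N141 = N141 := ded_40_1 (flp_h L1183) L904 L1183
theorem L1188 : sm gg N141 = N116 := ded_42_1 (flp_h L959) (flp_g L905) L1183
theorem L1190 : sm gi N141 = N141 := ded_44_2 (flp_h L1183) (flp_i L899) L643 L899 L1183
theorem L1191 : sm gi N109 = N142 := rfl
theorem L1193 : sm gb N142 = N142 := ded_23_1 (flp_i L1191) L909 L1191
theorem L1194 : sm gd N142 = N142 := ded_34_1 (flp_i L1191) L910 L1191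
theorem L1195 : sm ge N142 = N142 := ded_38_1 (flp_i L1191) L912 L1191
theorem L1196 : sm gf N142 = N110 := ded_41_1 (flp_i L914) L907 L1191
theorem L1198 : sm gg N142 = N142 := ded_43_1 (flp_i L1191) L913 L1191
theorem L1199 : sm gh N110 = N143 := rfl
theorem L1201 : sm gb N143 = N143 := ded_22_1 (flp_h L1199) L916 L1199
theorem L1202 : sm ge N143 = N111 := ded_37_1 (flp_h L922) (flp_e L918) L1199
theorem L1204 : sm gg N143 = N117 := ded_42_1 (flp_h L966) (flp_g L920) L1199
theorem L1206 : sm gi N143 = N143 := ded_44_2 (flp_h L1199) (flp_i L914) L650 L914 L1199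
theorem L1207 : sm gd N112 = N144 := rfl
theorem L1209 : sm ga N144 = N144 := ded_11_1 (flp_d L1207) L932 L1207
theorem L1210 : sm gb N144 = N114 := ded_18_1 (flp_d L947) (flp_b L933) L1207
theorem L1212 : sm gf N144 = N144 := ded_31_2 (flp_d L1207) L937 L1207
theorem L1213 : sm ge N144 = N144 := ded_30_2 (flp_d L1207) (flp_e L930) L662 L930 L1207
theorem L1214 : sm gi N112 = N145 := rfl
theorem L1216 : sm ga N145 = N145 := ded_16_1 (flp_i L1214) L932 L1214
theorem L1217 : sm gb N145 = N115 := ded_23_1 (flp_i L952) (flp_b L933) L1214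
theorem L1219 : sm gc N145 = N145 := ded_29_1 (flp_i L1214) L935 L1214
theorem L1220 : sm ge N145 = N113 := ded_38_1 (flp_i L938) L930 L1214
theorem L1222 : sm gf N145 = N145 := ded_41_1 (flp_i L1214) L937 L1214
theorem L1223 : sm gh N113 = N146 := rfl
theorem L1225 : sm ga N146 = N146 := ded_15_1 (flp_h L1223) L940 L1223
theorem L1226 : sm gb N146 = N116 := ded_22_1 (flp_h L959) (flp_b L941) L1223
theorem L1228 : sm gc N146 = N146 := ded_28_1 (flp_h L1223) L943 L1223
theorem L1229 : sm gf N146 = N118 := ded_40_1 (flp_h L973) (flp_f L945) L1223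
theorem L1231 : sm gi N146 = N146 := ded_44_2 (flp_h L1223) (flp_i L938) L665 L938 L1223
theorem L1232 : sm gh N114 = N147 := rfl
theorem L1234 : sm gc N147 = N147 := ded_28_1 (flp_h L1232) L950 L1232
theorem L1235 : sm ge N147 = N147 := ded_37_1 (flp_h L1232) L951 L1232
theorem L1236 : sm gf N147 = N147 := ded_40_1 (flp_h L1232) L949 L1232
theorem L1237 : sm gd N147 = N147 := ded_33_1 (flp_h L1232) (flp_d L947) L672 L947 L1232
theorem L1238 : sm gi N114 = N148 := rfl
theorem L1240 : sm gc N148 = N148 := ded_29_1 (flp_i L1238) L950 L1238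
theorem L1241 : sm gd N148 = N115 := ded_34_1 (flp_i L952) L947 L1238
theorem L1243 : sm ge N148 = N148 := ded_38_1 (flp_i L1238) L951 L1238
theorem L1244 : sm gf N148 = N148 := ded_41_1 (flp_i L1238) L949 L1238
theorem L1245 : sm gh N115 = N149 := rfl
theorem L1247 : sm gc N149 = N117 := ded_28_1 (flp_h L966) (flp_c L954) L1245
theorem L1249 : sm ge N149 = N116 := ded_37_1 (flp_h L959) (flp_e L956) L1245
theorem L1251 : sm gf N149 = N149 := ded_40_1 (flp_h L1245) L958 L1245
theorem L1252 : sm gi N149 = N149 := ded_44_2 (flp_h L1245) (flp_i L952) L672 L952 L1245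
theorem L1253 : sm gd N116 = N150 := rfl
theorem L1255 : sm gf N150 = N119 := ded_31_2 (flp_d L982) (flp_f L963) L1253
theorem L1257 : sm gi N150 = N150 := ded_34_2 (flp_d L1253) L965 L1253
theorem L1258 : sm gc N150 = N150 := ded_24_1 (flp_d L1253) L961 L693 (flp_c L961) L1253
theorem L1259 : sm gh N150 = N150 := ded_33_2 (flp_d L1253) (flp_h L959) L678 L959 L1253
theorem L1260 : sm gd N117 = N151 := rfl
theorem L1262 : sm gb N151 = N151 := ded_18_1 (flp_d L1260) L968 L1260
theorem L1263 : sm gf N151 = N151 := ded_31_2 (flp_d L1260) L971 L1260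
theorem L1264 : sm gi N151 = N151 := ded_34_2 (flp_d L1260) L972 L1260
theorem L1265 : sm ge N151 = N151 := ded_30_2 (flp_d L1260) L969 L693 (flp_e L969) L1260
theorem L1266 : sm gh N151 = N151 := ded_33_2 (flp_d L1260) (flp_h L966) L684 L966 L1260
theorem L1267 : sm gd N118 = N152 := rfl
theorem L1269 : sm ga N152 = N152 := ded_11_1 (flp_d L1267) L975 L1267
theorem L1270 : sm gb N152 = N119 := ded_18_1 (flp_d L982) (flp_b L976) L1267
theorem L1272 : sm gg N152 = N152 := ded_32_2 (flp_d L1267) L980 L1267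
theorem L1273 : sm gi N152 = N152 := ded_34_2 (flp_d L1267) L981 L1267
theorem L1274 : sm gh N152 = N152 := ded_33_2 (flp_d L1267) (flp_h L973) L701 L973 L1267
theorem L1275 : sm ge N119 = N153 := rfl
theorem L1277 : sm gc N153 = N153 := ded_25_1 (flp_e L1275) L986 L1275
theorem L1278 : sm gg N153 = N153 := ded_36_2 (flp_e L1275) L984 L1275
theorem L1279 : sm gh N153 = N153 := ded_37_2 (flp_e L1275) L987 L1275
theorem L1280 : sm gi N153 = N153 := ded_38_2 (flp_e L1275) L985 L1275
theorem L1281 : sm gd N153 = N153 := ded_30_1 (flp_e L1275) (flp_d L982) L708 L982 L1275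
theorem L1282 : sm gf N120 = N154 := rfl
theorem L1284 : sm ga N154 = N154 := ded_13_1 (flp_f L1282) L990 L1282
theorem L1285 : sm gb N154 = N154 := ded_20_1 (flp_f L1282) L991 L1282
theorem L1286 : sm gc N154 = N154 := ded_26_1 (flp_f L1282) L992 L1282
theorem L1287 : sm gd N154 = N154 := ded_31_1 (flp_f L1282) L993 L1282
theorem L1288 : sm gh N154 = N154 := ded_40_2 (flp_f L1282) L996 L1282
theorem L1289 : sm gi N154 = N154 := ded_41_2 (flp_f L1282) L997 L1282
theorem L1290 : sm ge N154 = N154 := ded_35_1 (flp_f L1282) L994 L729 (flp_e L994) L1282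
theorem L1291 : sm gg N154 = N154 := ded_39_2 (flp_f L1282) (flp_g L988) L719 L988 L1282
theorem L1292 : sm gf N122 = N155 := rfl
theorem L1294 : sm ga N155 = N155 := ded_13_1 (flp_f L1292) L1012 L1292
theorem L1295 : sm gb N155 = N128 := ded_20_1 (flp_f L1072) (flp_b L1013) L1292
theorem L1297 : sm gc N155 = N155 := ded_26_1 (flp_f L1292) L1015 L1292
theorem L1298 : sm gd N155 = N155 := ded_31_1 (flp_f L1292) L1019 L1292
theorem L1299 : sm gh N155 = N155 := ded_40_2 (flp_f L1292) L1018 L1292
theorem L1300 : sm ge N155 = N155 := ded_35_1 (flp_f L1292) (flp_e L1010) L767 L1010 L1292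
theorem L1301 : sm gg N155 = N155 := ded_39_2 (flp_f L1292) L1016 L790 (flp_g L1016) L1292
theorem L1302 : sm gi N122 = N156 := rfl
theorem L1304 : sm ga N156 = N156 := ded_16_1 (flp_i L1302) L1012 L1302
theorem L1305 : sm gb N156 = N129 := ded_23_1 (flp_i L1080) (flp_b L1013) L1302
theorem L1307 : sm gc N156 = N156 := ded_29_1 (flp_i L1302) L1015 L1302
theorem L1308 : sm gd N156 = N156 := ded_34_1 (flp_i L1302) L1019 L1302
theorem L1309 : sm ge N156 = N123 := ded_38_1 (flp_i L1020) L1010 L1302
theorem L1311 : sm gg N156 = N124 := ded_43_1 (flp_i L1031) (flp_g L1016) L1302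
theorem L1313 : sm gh N123 = N157 := rfl
theorem L1315 : sm ga N157 = N157 := ded_15_1 (flp_h L1313) L1022 L1313
theorem L1316 : sm gb N157 = N130 := ded_22_1 (flp_h L1089) (flp_b L1023) L1313
theorem L1318 : sm gc N157 = N157 := ded_28_1 (flp_h L1313) L1025 L1313
theorem L1319 : sm gf N157 = N157 := ded_40_1 (flp_h L1313) L1028 L1313
theorem L1320 : sm gg N157 = N125 := ded_42_1 (flp_h L1041) (flp_g L1029) L1313
theorem L1322 : sm gd N157 = N157 := ded_33_1 (flp_h L1313) L1026 L781 (flp_d L1026) L1313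
theorem L1323 : sm gi N157 = N157 := ded_44_2 (flp_h L1313) (flp_i L1020) L771 L1020 L1313
theorem L1324 : sm gh N124 = N158 := rfl
theorem L1326 : sm ga N158 = N158 := ded_15_1 (flp_h L1324) L1033 L1324
theorem L1327 : sm gb N158 = N134 := ded_22_1 (flp_h L1126) (flp_b L1034) L1324
theorem L1329 : sm gc N158 = N158 := ded_28_1 (flp_h L1324) L1036 L1324
theorem L1330 : sm ge N158 = N125 := ded_37_1 (flp_h L1041) (flp_e L1038) L1324
theorem L1332 : sm gf N158 = N158 := ded_40_1 (flp_h L1324) L1040 L1324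
theorem L1333 : sm gi N158 = N158 := ded_44_2 (flp_h L1324) (flp_i L1031) L788 L1031 L1324
theorem L1334 : sm gd N126 = N159 := rfl
theorem L1336 : sm ga N159 = N138 := ded_11_1 (flp_d L1162) (flp_a L1053) L1334
theorem L1338 : sm gb N159 = N159 := ded_18_1 (flp_d L1334) L1055 L1334
theorem L1339 : sm gg N159 = N131 := ded_32_2 (flp_d L1098) (flp_g L1058) L1334
theorem L1341 : sm gc N159 = N159 := ded_24_1 (flp_d L1334) L1056 L828 (flp_c L1056) L1334
theorem L1342 : sm ge N159 = N159 := ded_30_2 (flp_d L1334) (flp_e L1051) L820 L1051 L1334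
theorem L1343 : sm gf N126 = N160 := rfl
theorem L1345 : sm ga N160 = N139 := ded_13_1 (flp_f L1168) (flp_a L1053) L1343
theorem L1347 : sm gb N160 = N160 := ded_20_1 (flp_f L1343) L1055 L1343
theorem L1348 : sm gc N160 = N128 := ded_26_1 (flp_f L1072) (flp_c L1056) L1343
theorem L1350 : sm gh N160 = N160 := ded_40_2 (flp_f L1343) L1060 L1343
theorem L1351 : sm ge N160 = N160 := ded_35_1 (flp_f L1343) (flp_e L1051) L815 L1051 L1343
theorem L1352 : sm gg N160 = N160 := ded_39_2 (flp_f L1343) L1058 L846 (flp_g L1058) L1343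
theorem L1353 : sm gi N126 = N161 := rfl
theorem L1355 : sm ga N161 = N140 := ded_16_1 (flp_i L1175) (flp_a L1053) L1353
theorem L1357 : sm gb N161 = N161 := ded_23_1 (flp_i L1353) L1055 L1353
theorem L1358 : sm gc N161 = N129 := ded_29_1 (flp_i L1080) (flp_c L1056) L1353
theorem L1360 : sm ge N161 = N127 := ded_38_1 (flp_i L1061) L1051 L1353
theorem L1362 : sm gg N161 = N132 := ded_43_1 (flp_i L1106) (flp_g L1058) L1353
theorem L1364 : sm gh N127 = N162 := rfl
theorem L1366 : sm ga N162 = N141 := ded_15_1 (flp_h L1183) (flp_a L1063) L1364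
theorem L1368 : sm gb N162 = N162 := ded_22_1 (flp_h L1364) L1065 L1364
theorem L1369 : sm gc N162 = N130 := ded_28_1 (flp_h L1089) (flp_c L1066) L1364
theorem L1371 : sm gf N162 = N162 := ded_40_1 (flp_h L1364) L1069 L1364
theorem L1372 : sm gg N162 = N133 := ded_42_1 (flp_h L1116) (flp_g L1070) L1364
theorem L1374 : sm gi N162 = N162 := ded_44_2 (flp_h L1364) (flp_i L1061) L818 L1061 L1364
theorem L1375 : sm gi N128 = N163 := rfl
theorem L1377 : sm ga N163 = N142 := ded_16_1 (flp_i L1191) (flp_a L1074) L1375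
theorem L1379 : sm gd N163 = N163 := ded_34_1 (flp_i L1375) L1076 L1375
theorem L1380 : sm ge N163 = N163 := ded_38_1 (flp_i L1375) L1078 L1375
theorem L1381 : sm gf N163 = N129 := ded_41_1 (flp_i L1080) L1072 L1375
theorem L1383 : sm gg N163 = N163 := ded_43_1 (flp_i L1375) L1079 L1375
theorem L1384 : sm gh N129 = N164 := rfl
theorem L1386 : sm ga N164 = N143 := ded_15_1 (flp_h L1199) (flp_a L1082) L1384
theorem L1388 : sm ge N164 = N130 := ded_37_1 (flp_h L1089) (flp_e L1085) L1384
theorem L1390 : sm gg N164 = N134 := ded_42_1 (flp_h L1126) (flp_g L1087) L1384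
theorem L1392 : sm gi N164 = N164 := ded_44_2 (flp_h L1384) (flp_i L1080) L827 L1080 L1384
theorem L1393 : sm gh N131 = N165 := rfl
theorem L1395 : sm ga N165 = N147 := ded_15_1 (flp_h L1232) (flp_a L1100) L1393
theorem L1397 : sm gb N165 = N165 := ded_22_1 (flp_h L1393) L1102 L1393
theorem L1398 : sm gc N165 = N165 := ded_28_1 (flp_h L1393) L1104 L1393
theorem L1399 : sm ge N165 = N165 := ded_37_1 (flp_h L1393) L1105 L1393
theorem L1400 : sm gf N165 = N165 := ded_40_1 (flp_h L1393) L1103 L1393
theorem L1401 : sm gd N165 = N165 := ded_33_1 (flp_h L1393) (flp_d L1098) L845 L1098 L1393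
theorem L1402 : sm gi N131 = N166 := rfl
theorem L1404 : sm ga N166 = N148 := ded_16_1 (flp_i L1238) (flp_a L1100) L1402
theorem L1406 : sm gb N166 = N166 := ded_23_1 (flp_i L1402) L1102 L1402
theorem L1407 : sm gc N166 = N166 := ded_29_1 (flp_i L1402) L1104 L1402
theorem L1408 : sm gd N166 = N132 := ded_34_1 (flp_i L1106) L1098 L1402
theorem L1410 : sm ge N166 = N166 := ded_38_1 (flp_i L1402) L1105 L1402
theorem L1411 : sm gf N166 = N166 := ded_41_1 (flp_i L1402) L1103 L1402
theorem L1412 : sm gh N132 = N167 := rfl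
theorem L1414 : sm ga N167 = N149 := ded_15_1 (flp_h L1245) (flp_a L1108) L1412
theorem L1416 : sm gb N167 = N167 := ded_22_1 (flp_h L1412) L1110 L1412
theorem L1417 : sm gc N167 = N134 := ded_28_1 (flp_h L1126) (flp_c L1111) L1412
theorem L1419 : sm ge N167 = N133 := ded_37_1 (flp_h L1116) (flp_e L1113) L1412
theorem L1421 : sm gf N167 = N167 := ded_40_1 (flp_h L1412) L1115 L1412
theorem L1422 : sm gi N167 = N167 := ded_44_2 (flp_h L1412) (flp_i L1106) L845 L1106 L1412
theorem L1423 : sm gd N133 = N168 := rfl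
theorem L1425 : sm ga N168 = N150 := ded_11_1 (flp_d L1253) (flp_a L1118) L1423
theorem L1427 : sm gb N168 = N168 := ded_18_1 (flp_d L1423) L1120 L1423
theorem L1428 : sm gf N168 = N135 := ded_31_2 (flp_d L1134) (flp_f L1123) L1423
theorem L1430 : sm gi N168 = N168 := ded_34_2 (flp_d L1423) L1125 L1423
theorem L1431 : sm gc N168 = N168 := ded_24_1 (flp_d L1423) L1121 L871 (flp_c L1121) L1423
theorem L1432 : sm gh N168 = N168 := ded_33_2 (flp_d L1423) (flp_h L1116) L854 L1116 L1423
theorem L1433 : sm gd N134 = N169 := rfl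
theorem L1435 : sm ga N169 = N151 := ded_11_1 (flp_d L1260) (flp_a L1128) L1433
theorem L1437 : sm gf N169 = N169 := ded_31_2 (flp_d L1433) L1132 L1433
theorem L1438 : sm gi N169 = N169 := ded_34_2 (flp_d L1433) L1133 L1433
theorem L1439 : sm ge N169 = N169 := ded_30_2 (flp_d L1433) L1130 L871 (flp_e L1130) L1433
theorem L1440 : sm gh N169 = N169 := ded_33_2 (flp_d L1433) (flp_h L1126) L861 L1126 L1433
theorem L1441 : sm ge N135 = N170 := rfl
theorem L1443 : sm ga N170 = N153 := ded_12_1 (flp_e L1275) (flp_a L1136) L1441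
theorem L1445 : sm gb N170 = N170 := ded_19_1 (flp_e L1441) L1138 L1441
theorem L1446 : sm gc N170 = N170 := ded_25_1 (flp_e L1441) L1141 L1441
theorem L1447 : sm gg N170 = N170 := ded_36_2 (flp_e L1441) L1139 L1441
theorem L1448 : sm gh N170 = N170 := ded_37_2 (flp_e L1441) L1142 L1441
theorem L1449 : sm gi N170 = N170 := ded_38_2 (flp_e L1441) L1140 L1441
theorem L1450 : sm gd N170 = N170 := ded_30_1 (flp_e L1441) (flp_d L1134) L880 L1134 L1441
theorem L1451 : sm gd N136 = N171 := rfl
theorem L1453 : sm ga N171 = N171 := ded_11_1 (flp_d L1451) L1145 L1451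
theorem L1454 : sm gb N171 = N138 := ded_18_1 (flp_d L1162) (flp_b L1146) L1451
theorem L1456 : sm gg N171 = N144 := ded_32_2 (flp_d L1207) (flp_g L1149) L1451
theorem L1458 : sm ge N171 = N171 := ded_30_2 (flp_d L1451) (flp_e L1143) L885 L1143 L1451
theorem L1459 : sm gf N136 = N172 := rfl
theorem L1461 : sm ga N172 = N172 := ded_13_1 (flp_f L1459) L1145 L1459
theorem L1462 : sm gb N172 = N139 := ded_20_1 (flp_f L1168) (flp_b L1146) L1459
theorem L1464 : sm gc N172 = N172 := ded_26_1 (flp_f L1459) L1148 L1459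
theorem L1465 : sm gh N172 = N172 := ded_40_2 (flp_f L1459) L1151 L1459
theorem L1466 : sm ge N172 = N172 := ded_35_1 (flp_f L1459) (flp_e L1143) L886 L1143 L1459
theorem L1467 : sm gg N172 = N172 := ded_39_2 (flp_f L1459) L1149 L937 (flp_g L1149) L1459
theorem L1468 : sm gi N136 = N173 := rfl
theorem L1470 : sm ga N173 = N173 := ded_16_1 (flp_i L1468) L1145 L1468
theorem L1471 : sm gb N173 = N140 := ded_23_1 (flp_i L1175) (flp_b L1146) L1468
theorem L1473 : sm gc N173 = N173 := ded_29_1 (flp_i L1468) L1148 L1468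
theorem L1474 : sm ge N173 = N137 := ded_38_1 (flp_i L1152) L1143 L1468
theorem L1476 : sm gg N173 = N145 := ded_43_1 (flp_i L1214) (flp_g L1149) L1468
theorem L1478 : sm gh N137 = N174 := rfl
theorem L1480 : sm ga N174 = N174 := ded_15_1 (flp_h L1478) L1154 L1478
theorem L1481 : sm gb N174 = N141 := ded_22_1 (flp_h L1183) (flp_b L1155) L1478
theorem L1483 : sm gc N174 = N174 := ded_28_1 (flp_h L1478) L1157 L1478
theorem L1484 : sm gf N174 = N174 := ded_40_1 (flp_h L1478) L1159 L1478
theorem L1485 : sm gg N174 = N146 := ded_42_1 (flp_h L1223) (flp_g L1160) L1478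
theorem L1487 : sm gi N174 = N174 := ded_44_2 (flp_h L1478) (flp_i L1152) L889 L1152 L1478
theorem L1488 : sm gf N138 = N175 := rfl
theorem L1490 : sm gc N175 = N175 := ded_26_1 (flp_f L1488) L1166 L1488
theorem L1491 : sm gd N175 = N139 := ded_31_1 (flp_f L1168) L1162 L1488
theorem L1493 : sm gg N175 = N175 := ded_39_2 (flp_f L1488) L1164 L949 (flp_g L1164) L1488
theorem L1494 : sm gh N138 = N176 := rfl
theorem L1496 : sm gc N176 = N176 := ded_28_1 (flp_h L1494) L1166 L1494
theorem L1497 : sm ge N176 = N176 := ded_37_1 (flp_h L1494) L1167 L1494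
theorem L1498 : sm gg N176 = N147 := ded_42_1 (flp_h L1232) (flp_g L1164) L1494
theorem L1500 : sm gd N176 = N176 := ded_33_1 (flp_h L1494) (flp_d L1162) L898 L1162 L1494
theorem L1501 : sm gi N138 = N177 := rfl
theorem L1503 : sm gc N177 = N177 := ded_29_1 (flp_i L1501) L1166 L1501
theorem L1504 : sm gd N177 = N140 := ded_34_1 (flp_i L1175) L1162 L1501
theorem L1506 : sm ge N177 = N177 := ded_38_1 (flp_i L1501) L1167 L1501
theorem L1507 : sm gg N177 = N148 := ded_43_1 (flp_i L1238) (flp_g L1164) L1501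
theorem L1509 : sm gi N139 = N178 := rfl
theorem L1511 : sm gc N178 = N142 := ded_29_1 (flp_i L1191) (flp_c L1170) L1509
theorem L1513 : sm ge N178 = N178 := ded_38_1 (flp_i L1509) L1173 L1509
theorem L1514 : sm gf N178 = N140 := ded_41_1 (flp_i L1175) L1168 L1509
theorem L1516 : sm gg N178 = N178 := ded_43_1 (flp_i L1509) L1174 L1509
theorem L1517 : sm gh N140 = N179 := rfl
theorem L1519 : sm gc N179 = N143 := ded_28_1 (flp_h L1199) (flp_c L1177) L1517
theorem L1521 : sm ge N179 = N141 := ded_37_1 (flp_h L1183) (flp_e L1179) L1517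
theorem L1523 : sm gg N179 = N149 := ded_42_1 (flp_h L1245) (flp_g L1181) L1517
theorem L1525 : sm gi N179 = N179 := ded_44_2 (flp_h L1517) (flp_i L1175) L898 L1175 L1517
theorem L1526 : sm gd N141 = N180 := rfl
theorem L1528 : sm gf N180 = N180 := ded_31_2 (flp_d L1526) L1187 L1526
theorem L1529 : sm gg N180 = N150 := ded_32_2 (flp_d L1253) (flp_g L1188) L1526
theorem L1531 : sm gi N180 = N180 := ded_34_2 (flp_d L1526) L1190 L1526
theorem L1532 : sm gc N180 = N180 := ded_24_1 (flp_d L1526) L1185 L928 (flp_c L1185) L1526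
theorem L1533 : sm gh N180 = N180 := ded_33_2 (flp_d L1526) (flp_h L1183) L903 L1183 L1526
theorem L1534 : sm gh N142 = N181 := rfl
theorem L1536 : sm gb N181 = N181 := ded_22_1 (flp_h L1534) L1193 L1534
theorem L1537 : sm ge N181 = N181 := ded_37_1 (flp_h L1534) L1195 L1534
theorem L1538 : sm gf N181 = N143 := ded_40_1 (flp_h L1199) (flp_f L1196) L1534
theorem L1540 : sm gg N181 = N181 := ded_42_1 (flp_h L1534) L1198 L1534
theorem L1541 : sm gi N181 = N181 := ded_44_2 (flp_h L1534) (flp_i L1191) L911 L1191 L1534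
theorem L1542 : sm gd N143 = N182 := rfl
theorem L1544 : sm gb N182 = N182 := ded_18_1 (flp_d L1542) L1201 L1542
theorem L1545 : sm gg N182 = N151 := ded_32_2 (flp_d L1260) (flp_g L1204) L1542
theorem L1547 : sm gi N182 = N182 := ded_34_2 (flp_d L1542) L1206 L1542
theorem L1548 : sm ge N182 = N182 := ded_30_2 (flp_d L1542) L1202 L928 (flp_e L1202) L1542
theorem L1549 : sm gh N182 = N182 := ded_33_2 (flp_d L1542) (flp_h L1199) L917 L1199 L1542
theorem L1550 : sm gc N144 = N183 := rfl
theorem L1552 : sm ga N183 = N183 := ded_10_1 (flp_c L1550) L1209 L1550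
theorem L1553 : sm ge N183 = N183 := ded_25_2 (flp_c L1550) L1213 L1550
theorem L1554 : sm gf N183 = N183 := ded_26_2 (flp_c L1550) L1212 L1550
theorem L1555 : sm gb N183 = N183 := ded_17_1 (flp_c L1550) L1210 L950 (flp_b L1210) L1550
theorem L1556 : sm gd N183 = N183 := ded_24_2 (flp_c L1550) (flp_d L1207) L935 L1207 L1550
theorem L1557 : sm gh N144 = N184 := rfl
theorem L1559 : sm ga N184 = N184 := ded_15_1 (flp_h L1557) L1209 L1557
theorem L1560 : sm gb N184 = N147 := ded_22_1 (flp_h L1232) (flp_b L1210) L1557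
theorem L1562 : sm ge N184 = N184 := ded_37_1 (flp_h L1557) L1213 L1557
theorem L1563 : sm gf N184 = N184 := ded_40_1 (flp_h L1557) L1212 L1557
theorem L1564 : sm gd N184 = N184 := ded_33_1 (flp_h L1557) (flp_d L1207) L936 L1207 L1557
theorem L1565 : sm gi N144 = N185 := rfl
theorem L1567 : sm ga N185 = N185 := ded_16_1 (flp_i L1565) L1209 L1565
theorem L1568 : sm gb N185 = N148 := ded_23_1 (flp_i L1238) (flp_b L1210) L1565
theorem L1570 : sm gd N185 = N145 := ded_34_1 (flp_i L1214) L1207 L1565
theorem L1572 : sm ge N185 = N185 := ded_38_1 (flp_i L1565) L1213 L1565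
theorem L1573 : sm gf N185 = N185 := ded_41_1 (flp_i L1565) L1212 L1565
theorem L1574 : sm gh N145 = N186 := rfl
theorem L1576 : sm ga N186 = N186 := ded_15_1 (flp_h L1574) L1216 L1574
theorem L1577 : sm gb N186 = N149 := ded_22_1 (flp_h L1245) (flp_b L1217) L1574
theorem L1579 : sm gc N186 = N186 := ded_28_1 (flp_h L1574) L1219 L1574
theorem L1580 : sm ge N186 = N146 := ded_37_1 (flp_h L1223) (flp_e L1220) L1574
theorem L1582 : sm gf N186 = N186 := ded_40_1 (flp_h L1574) L1222 L1574
theorem L1583 : sm gi N186 = N186 := ded_44_2 (flp_h L1574) (flp_i L1214) L936 L1214 L1574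
theorem L1584 : sm gd N146 = N187 := rfl
theorem L1586 : sm ga N187 = N187 := ded_11_1 (flp_d L1584) L1225 L1584
theorem L1587 : sm gb N187 = N150 := ded_18_1 (flp_d L1253) (flp_b L1226) L1584
theorem L1589 : sm gf N187 = N152 := ded_31_2 (flp_d L1267) (flp_f L1229) L1584
theorem L1591 : sm gi N187 = N187 := ded_34_2 (flp_d L1584) L1231 L1584
theorem L1592 : sm gh N187 = N187 := ded_33_2 (flp_d L1584) (flp_h L1223) L944 L1223 L1584
theorem L1593 : sm gi N147 = N188 := rfl
theorem L1595 : sm gc N188 = N188 := ded_29_1 (flp_i L1593) L1234 L1593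
theorem L1596 : sm gd N188 = N188 := ded_34_1 (flp_i L1593) L1237 L1593
theorem L1597 : sm ge N188 = N188 := ded_38_1 (flp_i L1593) L1235 L1593
theorem L1598 : sm gf N188 = N188 := ded_41_1 (flp_i L1593) L1236 L1593
theorem L1599 : sm gh N148 = N189 := rfl
theorem L1601 : sm gc N189 = N189 := ded_28_1 (flp_h L1599) L1240 L1599
theorem L1602 : sm ge N189 = N189 := ded_37_1 (flp_h L1599) L1243 L1599
theorem L1603 : sm gf N189 = N189 := ded_40_1 (flp_h L1599) L1244 L1599
theorem L1604 : sm gd N149 = N190 := rfl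
theorem L1606 : sm gf N190 = N190 := ded_31_2 (flp_d L1604) L1251 L1604
theorem L1607 : sm gi N190 = N190 := ded_34_2 (flp_d L1604) L1252 L1604
theorem L1608 : sm ge N150 = N191 := rfl
theorem L1610 : sm gc N191 = N191 := ded_25_1 (flp_e L1608) L1258 L1608
theorem L1611 : sm gh N191 = N191 := ded_37_2 (flp_e L1608) L1259 L1608
theorem L1612 : sm gi N191 = N191 := ded_38_2 (flp_e L1608) L1257 L1608
theorem L1613 : sm gc N151 = N192 := rfl
theorem L1615 : sm ge N192 = N192 := ded_25_2 (flp_c L1613) L1265 L1613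
theorem L1616 : sm gf N192 = N192 := ded_26_2 (flp_c L1613) L1263 L1613
theorem L1617 : sm gh N192 = N192 := ded_28_2 (flp_c L1613) L1266 L1613
theorem L1618 : sm gi N192 = N192 := ded_29_2 (flp_c L1613) L1264 L1613
theorem L1619 : sm gc N152 = N193 := rfl
theorem L1621 : sm ga N193 = N193 := ded_10_1 (flp_c L1619) L1269 L1619
theorem L1622 : sm gg N193 = N193 := ded_27_2 (flp_c L1619) L1272 L1619
theorem L1623 : sm gh N193 = N193 := ded_28_2 (flp_c L1619) L1274 L1619
theorem L1624 : sm gi N193 = N193 := ded_29_2 (flp_c L1619) L1273 L1619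
theorem L1625 : sm gb N193 = N193 := ded_17_1 (flp_c L1619) L1270 L986 (flp_b L1270) L1619
theorem L1626 : sm gd N193 = N193 := ded_24_2 (flp_c L1619) (flp_d L1267) L978 L1267 L1619
theorem L1627 : sm ge N152 = N194 := rfl
theorem L1629 : sm ga N194 = N194 := ded_12_1 (flp_e L1627) L1269 L1627
theorem L1630 : sm gb N194 = N153 := ded_19_1 (flp_e L1275) (flp_b L1270) L1627
theorem L1632 : sm gg N194 = N194 := ded_36_2 (flp_e L1627) L1272 L1627
theorem L1633 : sm gh N194 = N194 := ded_37_2 (flp_e L1627) L1274 L1627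
theorem L1634 : sm gi N194 = N194 := ded_38_2 (flp_e L1627) L1273 L1627
theorem L1635 : sm gd N194 = N194 := ded_30_1 (flp_e L1627) (flp_d L1267) L979 L1267 L1627
theorem L1636 : sm gf N153 = N195 := rfl
theorem L1638 : sm gc N195 = N195 := ded_26_1 (flp_f L1636) L1277 L1636
theorem L1639 : sm gd N195 = N195 := ded_31_1 (flp_f L1636) L1281 L1636
theorem L1640 : sm gh N195 = N195 := ded_40_2 (flp_f L1636) L1279 L1636
theorem L1641 : sm gi N195 = N195 := ded_41_2 (flp_f L1636) L1280 L1636
theorem L1642 : sm gi N155 = N196 := rfl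
theorem L1644 : sm ga N196 = N196 := ded_16_1 (flp_i L1642) L1294 L1642
theorem L1645 : sm gb N196 = N163 := ded_23_1 (flp_i L1375) (flp_b L1295) L1642
theorem L1647 : sm gc N196 = N196 := ded_29_1 (flp_i L1642) L1297 L1642
theorem L1648 : sm gd N196 = N196 := ded_34_1 (flp_i L1642) L1298 L1642
theorem L1649 : sm ge N196 = N196 := ded_38_1 (flp_i L1642) L1300 L1642
theorem L1650 : sm gf N196 = N156 := ded_41_1 (flp_i L1302) L1292 L1642
theorem L1652 : sm gg N196 = N196 := ded_43_1 (flp_i L1642) L1301 L1642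
theorem L1653 : sm gh N156 = N197 := rfl
theorem L1655 : sm ga N197 = N197 := ded_15_1 (flp_h L1653) L1304 L1653
theorem L1656 : sm gb N197 = N164 := ded_22_1 (flp_h L1384) (flp_b L1305) L1653
theorem L1658 : sm gc N197 = N197 := ded_28_1 (flp_h L1653) L1307 L1653
theorem L1659 : sm ge N197 = N157 := ded_37_1 (flp_h L1313) (flp_e L1309) L1653
theorem L1661 : sm gg N197 = N158 := ded_42_1 (flp_h L1324) (flp_g L1311) L1653
theorem L1663 : sm gi N197 = N197 := ded_44_2 (flp_h L1653) (flp_i L1302) L1018 L1302 L1653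
theorem L1664 : sm gd N158 = N198 := rfl
theorem L1666 : sm ga N198 = N198 := ded_11_1 (flp_d L1664) L1326 L1664
theorem L1667 : sm gb N198 = N169 := ded_18_1 (flp_d L1433) (flp_b L1327) L1664
theorem L1669 : sm gf N198 = N198 := ded_31_2 (flp_d L1664) L1332 L1664
theorem L1670 : sm gi N198 = N198 := ded_34_2 (flp_d L1664) L1333 L1664
theorem L1671 : sm ge N198 = N198 := ded_30_2 (flp_d L1664) L1330 L1049 (flp_e L1330) L1664
theorem L1672 : sm gh N198 = N198 := ded_33_2 (flp_d L1664) (flp_h L1324) L1037 L1324 L1664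
theorem L1673 : sm gf N159 = N199 := rfl
theorem L1675 : sm ga N199 = N175 := ded_13_1 (flp_f L1488) (flp_a L1336) L1673
theorem L1677 : sm gb N199 = N199 := ded_20_1 (flp_f L1673) L1338 L1673
theorem L1678 : sm gc N199 = N199 := ded_26_1 (flp_f L1673) L1341 L1673
theorem L1679 : sm gd N199 = N160 := ded_31_1 (flp_f L1343) L1334 L1673
theorem L1681 : sm gg N199 = N199 := ded_39_2 (flp_f L1673) L1339 L1103 (flp_g L1339) L1673
theorem L1682 : sm gh N159 = N200 := rfl
theorem L1684 : sm ga N200 = N176 := ded_15_1 (flp_h L1494) (flp_a L1336) L1682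
theorem L1686 : sm gb N200 = N200 := ded_22_1 (flp_h L1682) L1338 L1682
theorem L1687 : sm gc N200 = N200 := ded_28_1 (flp_h L1682) L1341 L1682
theorem L1688 : sm ge N200 = N200 := ded_37_1 (flp_h L1682) L1342 L1682
theorem L1689 : sm gg N200 = N165 := ded_42_1 (flp_h L1393) (flp_g L1339) L1682
theorem L1691 : sm gd N200 = N200 := ded_33_1 (flp_h L1682) (flp_d L1334) L1060 L1334 L1682
theorem L1692 : sm gi N159 = N201 := rfl
theorem L1694 : sm ga N201 = N177 := ded_16_1 (flp_i L1501) (flp_a L1336) L1692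
theorem L1696 : sm gb N201 = N201 := ded_23_1 (flp_i L1692) L1338 L1692
theorem L1697 : sm gc N201 = N201 := ded_29_1 (flp_i L1692) L1341 L1692
theorem L1698 : sm gd N201 = N161 := ded_34_1 (flp_i L1353) L1334 L1692
theorem L1700 : sm ge N201 = N201 := ded_38_1 (flp_i L1692) L1342 L1692
theorem L1701 : sm gg N201 = N166 := ded_43_1 (flp_i L1402) (flp_g L1339) L1692
theorem L1703 : sm gi N160 = N202 := rfl
theorem L1705 : sm ga N202 = N178 := ded_16_1 (flp_i L1509) (flp_a L1345) L1703
theorem L1707 : sm gb N202 = N202 := ded_23_1 (flp_i L1703) L1347 L1703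
theorem L1708 : sm gc N202 = N163 := ded_29_1 (flp_i L1375) (flp_c L1348) L1703
theorem L1710 : sm ge N202 = N202 := ded_38_1 (flp_i L1703) L1351 L1703
theorem L1711 : sm gf N202 = N161 := ded_41_1 (flp_i L1353) L1343 L1703
theorem L1713 : sm gg N202 = N202 := ded_43_1 (flp_i L1703) L1352 L1703
theorem L1714 : sm gh N161 = N203 := rfl
theorem L1716 : sm ga N203 = N179 := ded_15_1 (flp_h L1517) (flp_a L1355) L1714
theorem L1718 : sm gb N203 = N203 := ded_22_1 (flp_h L1714) L1357 L1714
theorem L1719 : sm gc N203 = N164 := ded_28_1 (flp_h L1384) (flp_c L1358) L1714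
theorem L1721 : sm ge N203 = N162 := ded_37_1 (flp_h L1364) (flp_e L1360) L1714
theorem L1723 : sm gg N203 = N167 := ded_42_1 (flp_h L1412) (flp_g L1362) L1714
theorem L1725 : sm gi N203 = N203 := ded_44_2 (flp_h L1714) (flp_i L1353) L1060 L1353 L1714
theorem L1726 : sm gd N162 = N204 := rfl
theorem L1728 : sm ga N204 = N180 := ded_11_1 (flp_d L1526) (flp_a L1366) L1726
theorem L1730 : sm gb N204 = N204 := ded_18_1 (flp_d L1726) L1368 L1726
theorem L1731 : sm gf N204 = N204 := ded_31_2 (flp_d L1726) L1371 L1726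
theorem L1732 : sm gg N204 = N168 := ded_32_2 (flp_d L1423) (flp_g L1372) L1726
theorem L1734 : sm gi N204 = N204 := ded_34_2 (flp_d L1726) L1374 L1726
theorem L1735 : sm gc N204 = N204 := ded_24_1 (flp_d L1726) L1369 L1096 (flp_c L1369) L1726
theorem L1736 : sm gh N204 = N204 := ded_33_2 (flp_d L1726) (flp_h L1364) L1068 L1364 L1726
theorem L1737 : sm gh N163 = N205 := rfl
theorem L1739 : sm ga N205 = N181 := ded_15_1 (flp_h L1534) (flp_a L1377) L1737
theorem L1741 : sm ge N205 = N205 := ded_37_1 (flp_h L1737) L1380 L1737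
theorem L1742 : sm gf N205 = N164 := ded_40_1 (flp_h L1384) (flp_f L1381) L1737
theorem L1744 : sm gg N205 = N205 := ded_42_1 (flp_h L1737) L1383 L1737
theorem L1745 : sm gi N205 = N205 := ded_44_2 (flp_h L1737) (flp_i L1375) L1077 L1375 L1737
theorem L1746 : sm gd N164 = N206 := rfl
theorem L1748 : sm ga N206 = N182 := ded_11_1 (flp_d L1542) (flp_a L1386) L1746
theorem L1750 : sm gg N206 = N169 := ded_32_2 (flp_d L1433) (flp_g L1390) L1746
theorem L1752 : sm gi N206 = N206 := ded_34_2 (flp_d L1746) L1392 L1746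
theorem L1753 : sm ge N206 = N206 := ded_30_2 (flp_d L1746) L1388 L1096 (flp_e L1388) L1746
theorem L1754 : sm gh N206 = N206 := ded_33_2 (flp_d L1746) (flp_h L1384) L1084 L1384 L1746
theorem L1755 : sm gi N165 = N207 := rfl
theorem L1757 : sm ga N207 = N188 := ded_16_1 (flp_i L1593) (flp_a L1395) L1755
theorem L1759 : sm gb N207 = N207 := ded_23_1 (flp_i L1755) L1397 L1755
theorem L1760 : sm gc N207 = N207 := ded_29_1 (flp_i L1755) L1398 L1755
theorem L1761 : sm gd N207 = N207 := ded_34_1 (flp_i L1755) L1401 L1755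
theorem L1762 : sm ge N207 = N207 := ded_38_1 (flp_i L1755) L1399 L1755
theorem L1763 : sm gf N207 = N207 := ded_41_1 (flp_i L1755) L1400 L1755
theorem L1764 : sm gh N166 = N208 := rfl
theorem L1766 : sm ga N208 = N189 := ded_15_1 (flp_h L1599) (flp_a L1404) L1764
theorem L1768 : sm gb N208 = N208 := ded_22_1 (flp_h L1764) L1406 L1764
theorem L1769 : sm gc N208 = N208 := ded_28_1 (flp_h L1764) L1407 L1764
theorem L1770 : sm ge N208 = N208 := ded_37_1 (flp_h L1764) L1410 L1764
theorem L1771 : sm gf N208 = N208 := ded_40_1 (flp_h L1764) L1411 L1764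
theorem L1772 : sm gd N167 = N209 := rfl
theorem L1774 : sm ga N209 = N190 := ded_11_1 (flp_d L1604) (flp_a L1414) L1772
theorem L1776 : sm gb N209 = N209 := ded_18_1 (flp_d L1772) L1416 L1772
theorem L1777 : sm gf N209 = N209 := ded_31_2 (flp_d L1772) L1421 L1772
theorem L1778 : sm gi N209 = N209 := ded_34_2 (flp_d L1772) L1422 L1772
theorem L1779 : sm ge N168 = N210 := rfl
theorem L1781 : sm ga N210 = N191 := ded_12_1 (flp_e L1608) (flp_a L1425) L1779
theorem L1783 : sm gb N210 = N210 := ded_19_1 (flp_e L1779) L1427 L1779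
theorem L1784 : sm gc N210 = N210 := ded_25_1 (flp_e L1779) L1431 L1779
theorem L1785 : sm gh N210 = N210 := ded_37_2 (flp_e L1779) L1432 L1779
theorem L1786 : sm gi N210 = N210 := ded_38_2 (flp_e L1779) L1430 L1779
theorem L1787 : sm gc N169 = N211 := rfl
theorem L1789 : sm ga N211 = N192 := ded_10_1 (flp_c L1613) (flp_a L1435) L1787
theorem L1791 : sm ge N211 = N211 := ded_25_2 (flp_c L1787) L1439 L1787
theorem L1792 : sm gf N211 = N211 := ded_26_2 (flp_c L1787) L1437 L1787
theorem L1793 : sm gh N211 = N211 := ded_28_2 (flp_c L1787) L1440 L1787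
theorem L1794 : sm gi N211 = N211 := ded_29_2 (flp_c L1787) L1438 L1787
theorem L1795 : sm gf N170 = N212 := rfl
theorem L1797 : sm ga N212 = N195 := ded_13_1 (flp_f L1636) (flp_a L1443) L1795
theorem L1799 : sm gb N212 = N212 := ded_20_1 (flp_f L1795) L1445 L1795
theorem L1800 : sm gc N212 = N212 := ded_26_1 (flp_f L1795) L1446 L1795
theorem L1801 : sm gd N212 = N212 := ded_31_1 (flp_f L1795) L1450 L1795
theorem L1802 : sm gh N212 = N212 := ded_40_2 (flp_f L1795) L1448 L1795
theorem L1803 : sm gi N212 = N212 := ded_41_2 (flp_f L1795) L1449 L1795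
theorem L1804 : sm gc N171 = N213 := rfl
theorem L1806 : sm ga N213 = N213 := ded_10_1 (flp_c L1804) L1453 L1804
theorem L1807 : sm ge N213 = N213 := ded_25_2 (flp_c L1804) L1458 L1804
theorem L1808 : sm gg N213 = N183 := ded_27_2 (flp_c L1550) (flp_g L1456) L1804
theorem L1810 : sm gb N213 = N213 := ded_17_1 (flp_c L1804) L1454 L1166 (flp_b L1454) L1804
theorem L1811 : sm gd N213 = N213 := ded_24_2 (flp_c L1804) (flp_d L1451) L1148 L1451 L1804
theorem L1812 : sm gf N171 = N214 := rfl
theorem L1814 : sm ga N214 = N214 := ded_13_1 (flp_f L1812) L1453 L1812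
theorem L1815 : sm gb N214 = N175 := ded_20_1 (flp_f L1488) (flp_b L1454) L1812
theorem L1817 : sm gd N214 = N172 := ded_31_1 (flp_f L1459) L1451 L1812
theorem L1819 : sm gg N214 = N214 := ded_39_2 (flp_f L1812) L1456 L1212 (flp_g L1456) L1812
theorem L1820 : sm gh N171 = N215 := rfl
theorem L1822 : sm ga N215 = N215 := ded_15_1 (flp_h L1820) L1453 L1820
theorem L1823 : sm gb N215 = N176 := ded_22_1 (flp_h L1494) (flp_b L1454) L1820
theorem L1825 : sm ge N215 = N215 := ded_37_1 (flp_h L1820) L1458 L1820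
theorem L1826 : sm gg N215 = N184 := ded_42_1 (flp_h L1557) (flp_g L1456) L1820
theorem L1828 : sm gd N215 = N215 := ded_33_1 (flp_h L1820) (flp_d L1451) L1151 L1451 L1820
theorem L1829 : sm gi N171 = N216 := rfl
theorem L1831 : sm ga N216 = N216 := ded_16_1 (flp_i L1829) L1453 L1829
theorem L1832 : sm gb N216 = N177 := ded_23_1 (flp_i L1501) (flp_b L1454) L1829
theorem L1834 : sm gd N216 = N173 := ded_34_1 (flp_i L1468) L1451 L1829
theorem L1836 : sm ge N216 = N216 := ded_38_1 (flp_i L1829) L1458 L1829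
theorem L1837 : sm gg N216 = N185 := ded_43_1 (flp_i L1565) (flp_g L1456) L1829
theorem L1839 : sm gi N172 = N217 := rfl
theorem L1841 : sm ga N217 = N217 := ded_16_1 (flp_i L1839) L1461 L1839
theorem L1842 : sm gb N217 = N178 := ded_23_1 (flp_i L1509) (flp_b L1462) L1839
theorem L1844 : sm gc N217 = N217 := ded_29_1 (flp_i L1839) L1464 L1839
theorem L1845 : sm ge N217 = N217 := ded_38_1 (flp_i L1839) L1466 L1839
theorem L1846 : sm gf N217 = N173 := ded_41_1 (flp_i L1468) L1459 L1839
theorem L1848 : sm gg N217 = N217 := ded_43_1 (flp_i L1839) L1467 L1839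
theorem L1849 : sm gh N173 = N218 := rfl
theorem L1851 : sm ga N218 = N218 := ded_15_1 (flp_h L1849) L1470 L1849
theorem L1852 : sm gb N218 = N179 := ded_22_1 (flp_h L1517) (flp_b L1471) L1849
theorem L1854 : sm gc N218 = N218 := ded_28_1 (flp_h L1849) L1473 L1849
theorem L1855 : sm ge N218 = N174 := ded_37_1 (flp_h L1478) (flp_e L1474) L1849
theorem L1857 : sm gg N218 = N186 := ded_42_1 (flp_h L1574) (flp_g L1476) L1849
theorem L1859 : sm gi N218 = N218 := ded_44_2 (flp_h L1849) (flp_i L1468) L1151 L1468 L1849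
theorem L1860 : sm gd N174 = N219 := rfl
theorem L1862 : sm ga N219 = N219 := ded_11_1 (flp_d L1860) L1480 L1860
theorem L1863 : sm gb N219 = N180 := ded_18_1 (flp_d L1526) (flp_b L1481) L1860
theorem L1865 : sm gf N219 = N219 := ded_31_2 (flp_d L1860) L1484 L1860
theorem L1866 : sm gg N219 = N187 := ded_32_2 (flp_d L1584) (flp_g L1485) L1860
theorem L1868 : sm gi N219 = N219 := ded_34_2 (flp_d L1860) L1487 L1860
theorem L1869 : sm gh N219 = N219 := ded_33_2 (flp_d L1860) (flp_h L1478) L1158 L1478 L1860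
theorem L1870 : sm ge N175 = N220 := rfl
theorem L1872 : sm gc N220 = N220 := ded_25_1 (flp_e L1870) L1490 L1870
theorem L1873 : sm gg N220 = N220 := ded_36_2 (flp_e L1870) L1493 L1870
theorem L1874 : sm gd N220 = N220 := ded_30_1 (flp_e L1870) L1491 L1173 (flp_d L1491) L1870
theorem L1875 : sm gf N220 = N220 := ded_35_2 (flp_e L1870) (flp_f L1488) L1167 L1488 L1870
theorem L1876 : sm gh N175 = N221 := rfl
theorem L1878 : sm gc N221 = N221 := ded_28_1 (flp_h L1876) L1490 L1876
theorem L1879 : sm gf N221 = N176 := ded_40_1 (flp_h L1494) L1488 L1876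
theorem L1881 : sm gg N221 = N221 := ded_42_1 (flp_h L1876) L1493 L1876
theorem L1882 : sm gd N221 = N221 := ded_33_1 (flp_h L1876) L1491 L1172 (flp_d L1491) L1876
theorem L1883 : sm gi N175 = N222 := rfl
theorem L1885 : sm gc N222 = N222 := ded_29_1 (flp_i L1883) L1490 L1883
theorem L1886 : sm gd N222 = N178 := ded_34_1 (flp_i L1509) (flp_d L1491) L1883
theorem L1888 : sm gf N222 = N177 := ded_41_1 (flp_i L1501) L1488 L1883
theorem L1890 : sm gg N222 = N222 := ded_43_1 (flp_i L1883) L1493 L1883
theorem L1891 : sm gi N176 = N223 := rfl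
theorem L1893 : sm gc N223 = N223 := ded_29_1 (flp_i L1891) L1496 L1891
theorem L1894 : sm gd N223 = N223 := ded_34_1 (flp_i L1891) L1500 L1891
theorem L1895 : sm ge N223 = N223 := ded_38_1 (flp_i L1891) L1497 L1891
theorem L1896 : sm gg N223 = N188 := ded_43_1 (flp_i L1593) (flp_g L1498) L1891
theorem L1898 : sm gh N177 = N224 := rfl
theorem L1900 : sm gc N224 = N224 := ded_28_1 (flp_h L1898) L1503 L1898
theorem L1901 : sm ge N224 = N224 := ded_37_1 (flp_h L1898) L1506 L1898
theorem L1902 : sm gg N224 = N189 := ded_42_1 (flp_h L1599) (flp_g L1507) L1898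
theorem L1904 : sm gh N178 = N225 := rfl
theorem L1906 : sm gc N225 = N181 := ded_28_1 (flp_h L1534) (flp_c L1511) L1904
theorem L1908 : sm ge N225 = N225 := ded_37_1 (flp_h L1904) L1513 L1904
theorem L1909 : sm gf N225 = N179 := ded_40_1 (flp_h L1517) (flp_f L1514) L1904
theorem L1911 : sm gg N225 = N225 := ded_42_1 (flp_h L1904) L1516 L1904
theorem L1912 : sm gi N225 = N225 := ded_44_2 (flp_h L1904) (flp_i L1509) L1172 L1509 L1904
theorem L1913 : sm gd N179 = N226 := rfl
theorem L1915 : sm gg N226 = N190 := ded_32_2 (flp_d L1604) (flp_g L1523) L1913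
theorem L1917 : sm gi N226 = N226 := ded_34_2 (flp_d L1913) L1525 L1913
theorem L1918 : sm ge N180 = N227 := rfl
theorem L1920 : sm gc N227 = N227 := ded_25_1 (flp_e L1918) L1532 L1918
theorem L1921 : sm gg N227 = N191 := ded_36_2 (flp_e L1608) (flp_g L1529) L1918
theorem L1923 : sm gh N227 = N227 := ded_37_2 (flp_e L1918) L1533 L1918
theorem L1924 : sm gi N227 = N227 := ded_38_2 (flp_e L1918) L1531 L1918
theorem L1925 : sm gd N181 = N228 := rfl
theorem L1927 : sm gb N228 = N228 := ded_18_1 (flp_d L1925) L1536 L1925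
theorem L1928 : sm gf N228 = N182 := ded_31_2 (flp_d L1542) (flp_f L1538) L1925
theorem L1930 : sm gg N228 = N228 := ded_32_2 (flp_d L1925) L1540 L1925
theorem L1931 : sm gi N228 = N228 := ded_34_2 (flp_d L1925) L1541 L1925
theorem L1932 : sm gh N228 = N228 := ded_33_2 (flp_d L1925) (flp_h L1534) L1194 L1534 L1925
theorem L1933 : sm gc N182 = N229 := rfl
theorem L1935 : sm ge N229 = N229 := ded_25_2 (flp_c L1933) L1548 L1933
theorem L1936 : sm gg N229 = N192 := ded_27_2 (flp_c L1613) (flp_g L1545) L1933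
theorem L1938 : sm gh N229 = N229 := ded_28_2 (flp_c L1933) L1549 L1933
theorem L1939 : sm gi N229 = N229 := ded_29_2 (flp_c L1933) L1547 L1933
theorem L1940 : sm gh N183 = N230 := rfl
theorem L1942 : sm ga N230 = N230 := ded_15_1 (flp_h L1940) L1552 L1940
theorem L1943 : sm gb N230 = N230 := ded_22_1 (flp_h L1940) L1555 L1940
theorem L1944 : sm gc N230 = N184 := ded_28_1 (flp_h L1557) L1550 L1940
theorem L1946 : sm ge N230 = N230 := ded_37_1 (flp_h L1940) L1553 L1940
theorem L1947 : sm gf N230 = N230 := ded_40_1 (flp_h L1940) L1554 L1940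
theorem L1948 : sm gi N183 = N231 := rfl
theorem L1950 : sm ga N231 = N231 := ded_16_1 (flp_i L1948) L1552 L1948
theorem L1951 : sm gb N231 = N231 := ded_23_1 (flp_i L1948) L1555 L1948
theorem L1952 : sm gc N231 = N185 := ded_29_1 (flp_i L1565) L1550 L1948
theorem L1954 : sm gd N231 = N231 := ded_34_1 (flp_i L1948) L1556 L1948
theorem L1955 : sm ge N231 = N231 := ded_38_1 (flp_i L1948) L1553 L1948
theorem L1956 : sm gf N231 = N231 := ded_41_1 (flp_i L1948) L1554 L1948
theorem L1957 : sm gi N184 = N232 := rfl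
theorem L1959 : sm ga N232 = N232 := ded_16_1 (flp_i L1957) L1559 L1957
theorem L1960 : sm gb N232 = N188 := ded_23_1 (flp_i L1593) (flp_b L1560) L1957
theorem L1962 : sm gd N232 = N232 := ded_34_1 (flp_i L1957) L1564 L1957
theorem L1963 : sm ge N232 = N232 := ded_38_1 (flp_i L1957) L1562 L1957
theorem L1964 : sm gf N232 = N232 := ded_41_1 (flp_i L1957) L1563 L1957
theorem L1965 : sm gh N185 = N233 := rfl
theorem L1967 : sm ga N233 = N233 := ded_15_1 (flp_h L1965) L1567 L1965
theorem L1968 : sm gb N233 = N189 := ded_22_1 (flp_h L1599) (flp_b L1568) L1965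
theorem L1970 : sm ge N233 = N233 := ded_37_1 (flp_h L1965) L1572 L1965
theorem L1971 : sm gf N233 = N233 := ded_40_1 (flp_h L1965) L1573 L1965
theorem L1972 : sm gd N186 = N234 := rfl
theorem L1974 : sm ga N234 = N234 := ded_11_1 (flp_d L1972) L1576 L1972
theorem L1975 : sm gb N234 = N190 := ded_18_1 (flp_d L1604) (flp_b L1577) L1972
theorem L1977 : sm gf N234 = N234 := ded_31_2 (flp_d L1972) L1582 L1972
theorem L1978 : sm gi N234 = N234 := ded_34_2 (flp_d L1972) L1583 L1972
theorem L1979 : sm gc N187 = N235 := rfl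
theorem L1981 : sm ga N235 = N235 := ded_10_1 (flp_c L1979) L1586 L1979
theorem L1982 : sm gf N235 = N193 := ded_26_2 (flp_c L1619) (flp_f L1589) L1979
theorem L1984 : sm gh N235 = N235 := ded_28_2 (flp_c L1979) L1592 L1979
theorem L1985 : sm gi N235 = N235 := ded_29_2 (flp_c L1979) L1591 L1979
theorem L1986 : sm gb N235 = N235 := ded_17_1 (flp_c L1979) L1587 L1258 (flp_b L1587) L1979
theorem L1987 : sm gd N235 = N235 := ded_24_2 (flp_c L1979) (flp_d L1584) L1228 L1584 L1979
theorem L1988 : sm ge N187 = N236 := rfl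
theorem L1990 : sm ga N236 = N236 := ded_12_1 (flp_e L1988) L1586 L1988
theorem L1991 : sm gb N236 = N191 := ded_19_1 (flp_e L1608) (flp_b L1587) L1988
theorem L1993 : sm gh N236 = N236 := ded_37_2 (flp_e L1988) L1592 L1988
theorem L1994 : sm gi N236 = N236 := ded_38_2 (flp_e L1988) L1591 L1988
theorem L1995 : sm gh N188 = N237 := rfl
theorem L1997 : sm gc N237 = N237 := ded_28_1 (flp_h L1995) L1595 L1995
theorem L1998 : sm ge N237 = N237 := ded_37_1 (flp_h L1995) L1597 L1995
theorem L1999 : sm gf N237 = N237 := ded_40_1 (flp_h L1995) L1598 L1995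
theorem L2000 : sm gi N237 = N189 := ded_44_2 (flp_h L1599) (flp_i L1238) L1232 L1593 L1995
theorem L2002 : sm gd N189 = N238 := rfl
theorem L2004 : sm gf N238 = N238 := ded_31_2 (flp_d L2002) L1603 L2002
theorem L2005 : sm gh N238 = N190 := ded_33_2 (flp_d L1604) (flp_h L1245) (flp_d L1241) L1599 L2002
theorem L2007 : sm gc N190 = N239 := rfl
theorem L2009 : sm gf N239 = N239 := ded_26_2 (flp_c L2007) L1606 L2007
theorem L2010 : sm gi N239 = N239 := ded_29_2 (flp_c L2007) L1607 L2007
theorem L2011 : sm gd N239 = N192 := ded_24_2 (flp_c L1613) (flp_d L1260) (flp_c L1247) L1604 L2007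
theorem L2013 : sm ge N190 = N240 := rfl
theorem L2015 : sm gi N240 = N240 := ded_38_2 (flp_e L2013) L1607 L2013
theorem L2016 : sm gd N240 = N191 := ded_30_1 (flp_e L1608) (flp_d L1253) (flp_e L1249) L1604 L2013
theorem L2018 : sm gf N191 = N241 := rfl
theorem L2020 : sm gc N241 = N241 := ded_26_1 (flp_f L2018) L1610 L2018
theorem L2021 : sm gh N241 = N241 := ded_40_2 (flp_f L2018) L1611 L2018
theorem L2022 : sm gi N241 = N241 := ded_41_2 (flp_f L2018) L1612 L2018
theorem L2023 : sm ge N241 = N195 := ded_35_1 (flp_f L1636) (flp_e L1275) (flp_f L1255) L1608 L2018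
theorem L2025 : sm gb N192 = N242 := rfl
theorem L2027 : sm ge N242 = N242 := ded_19_2 (flp_b L2025) L1615 L2025
theorem L2028 : sm gf N242 = N242 := ded_20_2 (flp_b L2025) L1616 L2025
theorem L2029 : sm gh N242 = N242 := ded_22_2 (flp_b L2025) L1617 L2025
theorem L2030 : sm gi N242 = N242 := ded_23_2 (flp_b L2025) L1618 L2025
theorem L2031 : sm gc N242 = N242 := ded_17_2 (flp_b L2025) (flp_c L1613) L1262 L1613 L2025
theorem L2032 : sm ge N193 = N243 := rfl
theorem L2034 : sm ga N243 = N243 := ded_12_1 (flp_e L2032) L1621 L2032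
theorem L2035 : sm gb N243 = N243 := ded_19_1 (flp_e L2032) L1625 L2032
theorem L2036 : sm gc N243 = N194 := ded_25_1 (flp_e L1627) L1619 L2032
theorem L2038 : sm gg N243 = N243 := ded_36_2 (flp_e L2032) L1622 L2032
theorem L2039 : sm gh N243 = N243 := ded_37_2 (flp_e L2032) L1623 L2032
theorem L2040 : sm gi N243 = N243 := ded_38_2 (flp_e L2032) L1624 L2032
theorem L2041 : sm gf N194 = N244 := rfl
theorem L2043 : sm ga N244 = N244 := ded_13_1 (flp_f L2041) L1629 L2041
theorem L2044 : sm gb N244 = N195 := ded_20_1 (flp_f L1636) (flp_b L1630) L2041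
theorem L2046 : sm gd N244 = N244 := ded_31_1 (flp_f L2041) L1635 L2041
theorem L2047 : sm gh N244 = N244 := ded_40_2 (flp_f L2041) L1633 L2041
theorem L2048 : sm gi N244 = N244 := ded_41_2 (flp_f L2041) L1634 L2041
theorem L2049 : sm gg N195 = N245 := rfl
theorem L2051 : sm gc N245 = N245 := ded_27_1 (flp_g L2049) L1638 L2049
theorem L2052 : sm gd N245 = N245 := ded_32_1 (flp_g L2049) L1639 L2049
theorem L2053 : sm gh N245 = N245 := ded_42_2 (flp_g L2049) L1640 L2049
theorem L2054 : sm gi N245 = N245 := ded_43_2 (flp_g L2049) L1641 L2049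
theorem L2055 : sm gf N245 = N245 := ded_39_1 (flp_g L2049) (flp_f L1636) L1278 L1636 L2049
theorem L2056 : sm gh N196 = N246 := rfl
theorem L2058 : sm ga N246 = N246 := ded_15_1 (flp_h L2056) L1644 L2056
theorem L2059 : sm gb N246 = N205 := ded_22_1 (flp_h L1737) (flp_b L1645) L2056
theorem L2061 : sm gc N246 = N246 := ded_28_1 (flp_h L2056) L1647 L2056
theorem L2062 : sm ge N246 = N246 := ded_37_1 (flp_h L2056) L1649 L2056
theorem L2063 : sm gf N246 = N197 := ded_40_1 (flp_h L1653) (flp_f L1650) L2056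
theorem L2065 : sm gg N246 = N246 := ded_42_1 (flp_h L2056) L1652 L2056
theorem L2066 : sm gi N246 = N246 := ded_44_2 (flp_h L2056) (flp_i L1642) L1299 L1642 L2056
theorem L2067 : sm gd N197 = N247 := rfl
theorem L2069 : sm ga N247 = N247 := ded_11_1 (flp_d L2067) L1655 L2067
theorem L2070 : sm gb N247 = N206 := ded_18_1 (flp_d L1746) (flp_b L1656) L2067
theorem L2072 : sm gg N247 = N198 := ded_32_2 (flp_d L1664) (flp_g L1661) L2067
theorem L2074 : sm gi N247 = N247 := ded_34_2 (flp_d L2067) L1663 L2067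
theorem L2075 : sm ge N247 = N247 := ded_30_2 (flp_d L2067) L1659 L1322 (flp_e L1659) L2067
theorem L2076 : sm gh N247 = N247 := ded_33_2 (flp_d L2067) (flp_h L1653) L1308 L1653 L2067
theorem L2077 : sm gc N198 = N248 := rfl
theorem L2079 : sm ga N248 = N248 := ded_10_1 (flp_c L2077) L1666 L2077
theorem L2080 : sm ge N248 = N248 := ded_25_2 (flp_c L2077) L1671 L2077
theorem L2081 : sm gf N248 = N248 := ded_26_2 (flp_c L2077) L1669 L2077
theorem L2082 : sm gh N248 = N248 := ded_28_2 (flp_c L2077) L1672 L2077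
theorem L2083 : sm gi N248 = N248 := ded_29_2 (flp_c L2077) L1670 L2077
theorem L2084 : sm gd N248 = N248 := ded_24_2 (flp_c L2077) (flp_d L1664) L1329 L1664 L2077
theorem L2085 : sm ge N199 = N249 := rfl
theorem L2087 : sm ga N249 = N220 := ded_12_1 (flp_e L1870) (flp_a L1675) L2085
theorem L2089 : sm gb N249 = N249 := ded_19_1 (flp_e L2085) L1677 L2085
theorem L2090 : sm gc N249 = N249 := ded_25_1 (flp_e L2085) L1678 L2085
theorem L2091 : sm gg N249 = N249 := ded_36_2 (flp_e L2085) L1681 L2085
theorem L2092 : sm gd N249 = N249 := ded_30_1 (flp_e L2085) L1679 L1351 (flp_d L1679) L2085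
theorem L2093 : sm gf N249 = N249 := ded_35_2 (flp_e L2085) (flp_f L1673) L1342 L1673 L2085
theorem L2094 : sm gh N199 = N250 := rfl
theorem L2096 : sm ga N250 = N221 := ded_15_1 (flp_h L1876) (flp_a L1675) L2094
theorem L2098 : sm gb N250 = N250 := ded_22_1 (flp_h L2094) L1677 L2094
theorem L2099 : sm gc N250 = N250 := ded_28_1 (flp_h L2094) L1678 L2094
theorem L2100 : sm gf N250 = N200 := ded_40_1 (flp_h L1682) L1673 L2094
theorem L2102 : sm gg N250 = N250 := ded_42_1 (flp_h L2094) L1681 L2094
theorem L2103 : sm gd N250 = N250 := ded_33_1 (flp_h L2094) L1679 L1350 (flp_d L1679) L2094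
theorem L2104 : sm gi N199 = N251 := rfl
theorem L2106 : sm ga N251 = N222 := ded_16_1 (flp_i L1883) (flp_a L1675) L2104
theorem L2108 : sm gb N251 = N251 := ded_23_1 (flp_i L2104) L1677 L2104
theorem L2109 : sm gc N251 = N251 := ded_29_1 (flp_i L2104) L1678 L2104
theorem L2110 : sm gd N251 = N202 := ded_34_1 (flp_i L1703) (flp_d L1679) L2104
theorem L2112 : sm gf N251 = N201 := ded_41_1 (flp_i L1692) L1673 L2104
theorem L2114 : sm gg N251 = N251 := ded_43_1 (flp_i L2104) L1681 L2104
theorem L2115 : sm gi N200 = N252 := rfl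
theorem L2117 : sm ga N252 = N223 := ded_16_1 (flp_i L1891) (flp_a L1684) L2115
theorem L2119 : sm gb N252 = N252 := ded_23_1 (flp_i L2115) L1686 L2115
theorem L2120 : sm gc N252 = N252 := ded_29_1 (flp_i L2115) L1687 L2115
theorem L2121 : sm gd N252 = N252 := ded_34_1 (flp_i L2115) L1691 L2115
theorem L2122 : sm ge N252 = N252 := ded_38_1 (flp_i L2115) L1688 L2115
theorem L2123 : sm gg N252 = N207 := ded_43_1 (flp_i L1755) (flp_g L1689) L2115
theorem L2125 : sm gh N201 = N253 := rfl
theorem L2127 : sm ga N253 = N224 := ded_15_1 (flp_h L1898) (flp_a L1694) L2125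
theorem L2129 : sm gb N253 = N253 := ded_22_1 (flp_h L2125) L1696 L2125
theorem L2130 : sm gc N253 = N253 := ded_28_1 (flp_h L2125) L1697 L2125
theorem L2131 : sm ge N253 = N253 := ded_37_1 (flp_h L2125) L1700 L2125
theorem L2132 : sm gg N253 = N208 := ded_42_1 (flp_h L1764) (flp_g L1701) L2125
theorem L2134 : sm gh N202 = N254 := rfl
theorem L2136 : sm ga N254 = N225 := ded_15_1 (flp_h L1904) (flp_a L1705) L2134
theorem L2138 : sm gb N254 = N254 := ded_22_1 (flp_h L2134) L1707 L2134
theorem L2139 : sm gc N254 = N205 := ded_28_1 (flp_h L1737) (flp_c L1708) L2134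
theorem L2141 : sm ge N254 = N254 := ded_37_1 (flp_h L2134) L1710 L2134
theorem L2142 : sm gf N254 = N203 := ded_40_1 (flp_h L1714) (flp_f L1711) L2134
theorem L2144 : sm gg N254 = N254 := ded_42_1 (flp_h L2134) L1713 L2134
theorem L2145 : sm gi N254 = N254 := ded_44_2 (flp_h L2134) (flp_i L1703) L1350 L1703 L2134
theorem L2146 : sm gd N203 = N255 := rfl
theorem L2148 : sm ga N255 = N226 := ded_11_1 (flp_d L1913) (flp_a L1716) L2146
theorem L2150 : sm gb N255 = N255 := ded_18_1 (flp_d L2146) L1718 L2146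
theorem L2151 : sm gg N255 = N209 := ded_32_2 (flp_d L1772) (flp_g L1723) L2146
theorem L2153 : sm gi N255 = N255 := ded_34_2 (flp_d L2146) L1725 L2146
theorem L2154 : sm ge N204 = N256 := rfl
theorem L2156 : sm ga N256 = N227 := ded_12_1 (flp_e L1918) (flp_a L1728) L2154
theorem L2158 : sm gb N256 = N256 := ded_19_1 (flp_e L2154) L1730 L2154
theorem L2159 : sm gc N256 = N256 := ded_25_1 (flp_e L2154) L1735 L2154
theorem L2160 : sm gg N256 = N210 := ded_36_2 (flp_e L1779) (flp_g L1732) L2154
theorem L2162 : sm gh N256 = N256 := ded_37_2 (flp_e L2154) L1736 L2154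
theorem L2163 : sm gi N256 = N256 := ded_38_2 (flp_e L2154) L1734 L2154
theorem L2164 : sm gd N205 = N257 := rfl
theorem L2166 : sm ga N257 = N228 := ded_11_1 (flp_d L1925) (flp_a L1739) L2164
theorem L2168 : sm gf N257 = N206 := ded_31_2 (flp_d L1746) (flp_f L1742) L2164
theorem L2170 : sm gg N257 = N257 := ded_32_2 (flp_d L2164) L1744 L2164
theorem L2171 : sm gi N257 = N257 := ded_34_2 (flp_d L2164) L1745 L2164
theorem L2172 : sm gh N257 = N257 := ded_33_2 (flp_d L2164) (flp_h L1737) L1379 L1737 L2164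
theorem L2173 : sm gc N206 = N258 := rfl
theorem L2175 : sm ga N258 = N229 := ded_10_1 (flp_c L1933) (flp_a L1748) L2173
theorem L2177 : sm ge N258 = N258 := ded_25_2 (flp_c L2173) L1753 L2173
theorem L2178 : sm gg N258 = N211 := ded_27_2 (flp_c L1787) (flp_g L1750) L2173
theorem L2180 : sm gh N258 = N258 := ded_28_2 (flp_c L2173) L1754 L2173
theorem L2181 : sm gi N258 = N258 := ded_29_2 (flp_c L2173) L1752 L2173
theorem L2182 : sm gh N207 = N259 := rfl
theorem L2184 : sm ga N259 = N237 := ded_15_1 (flp_h L1995) (flp_a L1757) L2182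
theorem L2186 : sm gb N259 = N259 := ded_22_1 (flp_h L2182) L1759 L2182
theorem L2187 : sm gc N259 = N259 := ded_28_1 (flp_h L2182) L1760 L2182
theorem L2188 : sm ge N259 = N259 := ded_37_1 (flp_h L2182) L1762 L2182
theorem L2189 : sm gf N259 = N259 := ded_40_1 (flp_h L2182) L1763 L2182
theorem L2190 : sm gi N259 = N208 := ded_44_2 (flp_h L1764) (flp_i L1402) L1393 L1755 L2182
theorem L2192 : sm gd N208 = N260 := rfl
theorem L2194 : sm ga N260 = N238 := ded_11_1 (flp_d L2002) (flp_a L1766) L2192
theorem L2196 : sm gb N260 = N260 := ded_18_1 (flp_d L2192) L1768 L2192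
theorem L2197 : sm gf N260 = N260 := ded_31_2 (flp_d L2192) L1771 L2192
theorem L2198 : sm gh N260 = N209 := ded_33_2 (flp_d L1772) (flp_h L1412) (flp_d L1408) L1764 L2192
theorem L2200 : sm gc N209 = N261 := rfl
theorem L2202 : sm ga N261 = N239 := ded_10_1 (flp_c L2007) (flp_a L1774) L2200
theorem L2204 : sm gf N261 = N261 := ded_26_2 (flp_c L2200) L1777 L2200
theorem L2205 : sm gi N261 = N261 := ded_29_2 (flp_c L2200) L1778 L2200
theorem L2206 : sm gd N261 = N211 := ded_24_2 (flp_c L1787) (flp_d L1433) (flp_c L1417) L1772 L2200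
theorem L2208 : sm ge N209 = N262 := rfl
theorem L2210 : sm ga N262 = N240 := ded_12_1 (flp_e L2013) (flp_a L1774) L2208
theorem L2212 : sm gb N262 = N262 := ded_19_1 (flp_e L2208) L1776 L2208
theorem L2213 : sm gi N262 = N262 := ded_38_2 (flp_e L2208) L1778 L2208
theorem L2214 : sm gd N262 = N210 := ded_30_1 (flp_e L1779) (flp_d L1423) (flp_e L1419) L1772 L2208
theorem L2216 : sm gf N210 = N263 := rfl
theorem L2218 : sm ga N263 = N241 := ded_13_1 (flp_f L2018) (flp_a L1781) L2216
theorem L2220 : sm gb N263 = N263 := ded_20_1 (flp_f L2216) L1783 L2216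
theorem L2221 : sm gc N263 = N263 := ded_26_1 (flp_f L2216) L1784 L2216
theorem L2222 : sm gh N263 = N263 := ded_40_2 (flp_f L2216) L1785 L2216
theorem L2223 : sm gi N263 = N263 := ded_41_2 (flp_f L2216) L1786 L2216
theorem L2224 : sm ge N263 = N212 := ded_35_1 (flp_f L1795) (flp_e L1441) (flp_f L1428) L1779 L2216
theorem L2226 : sm gb N211 = N264 := rfl
theorem L2228 : sm ge N264 = N264 := ded_19_2 (flp_b L2226) L1791 L2226
theorem L2229 : sm gf N264 = N264 := ded_20_2 (flp_b L2226) L1792 L2226
theorem L2230 : sm gh N264 = N264 := ded_22_2 (flp_b L2226) L1793 L2226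
theorem L2231 : sm gi N264 = N264 := ded_23_2 (flp_b L2226) L1794 L2226
theorem L2232 : sm gg N212 = N265 := rfl
theorem L2234 : sm ga N265 = N245 := ded_14_1 (flp_g L2049) (flp_a L1797) L2232
theorem L2236 : sm gb N265 = N265 := ded_21_1 (flp_g L2232) L1799 L2232
theorem L2237 : sm gc N265 = N265 := ded_27_1 (flp_g L2232) L1800 L2232
theorem L2238 : sm gd N265 = N265 := ded_32_1 (flp_g L2232) L1801 L2232
theorem L2239 : sm gh N265 = N265 := ded_42_2 (flp_g L2232) L1802 L2232
theorem L2240 : sm gi N265 = N265 := ded_43_2 (flp_g L2232) L1803 L2232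
theorem L2241 : sm gf N265 = N265 := ded_39_1 (flp_g L2232) (flp_f L1795) L1447 L1795 L2232
theorem L2242 : sm gf N213 = N266 := rfl
theorem L2244 : sm ga N266 = N266 := ded_13_1 (flp_f L2242) L1806 L2242
theorem L2245 : sm gb N266 = N266 := ded_20_1 (flp_f L2242) L1810 L2242
theorem L2246 : sm gc N266 = N214 := ded_26_1 (flp_f L1812) L1804 L2242
theorem L2248 : sm gd N266 = N266 := ded_31_1 (flp_f L2242) L1811 L2242
theorem L2249 : sm gg N266 = N266 := ded_39_2 (flp_f L2242) L1808 L1554 (flp_g L1808) L2242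
theorem L2250 : sm gh N213 = N267 := rfl
theorem L2252 : sm ga N267 = N267 := ded_15_1 (flp_h L2250) L1806 L2250
theorem L2253 : sm gb N267 = N267 := ded_22_1 (flp_h L2250) L1810 L2250
theorem L2254 : sm gc N267 = N215 := ded_28_1 (flp_h L1820) L1804 L2250
theorem L2256 : sm ge N267 = N267 := ded_37_1 (flp_h L2250) L1807 L2250
theorem L2257 : sm gg N267 = N230 := ded_42_1 (flp_h L1940) (flp_g L1808) L2250
theorem L2259 : sm gi N213 = N268 := rfl
theorem L2261 : sm ga N268 = N268 := ded_16_1 (flp_i L2259) L1806 L2259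
theorem L2262 : sm gb N268 = N268 := ded_23_1 (flp_i L2259) L1810 L2259
theorem L2263 : sm gc N268 = N216 := ded_29_1 (flp_i L1829) L1804 L2259
theorem L2265 : sm gd N268 = N268 := ded_34_1 (flp_i L2259) L1811 L2259
theorem L2266 : sm ge N268 = N268 := ded_38_1 (flp_i L2259) L1807 L2259
theorem L2267 : sm gg N268 = N231 := ded_43_1 (flp_i L1948) (flp_g L1808) L2259
theorem L2269 : sm ge N214 = N269 := rfl
theorem L2271 : sm ga N269 = N269 := ded_12_1 (flp_e L2269) L1814 L2269
theorem L2272 : sm gb N269 = N220 := ded_19_1 (flp_e L1870) (flp_b L1815) L2269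
theorem L2274 : sm gg N269 = N269 := ded_36_2 (flp_e L2269) L1819 L2269
theorem L2275 : sm gd N269 = N269 := ded_30_1 (flp_e L2269) L1817 L1466 (flp_d L1817) L2269
theorem L2276 : sm gf N269 = N269 := ded_35_2 (flp_e L2269) (flp_f L1812) L1458 L1812 L2269
theorem L2277 : sm gh N214 = N270 := rfl
theorem L2279 : sm ga N270 = N270 := ded_15_1 (flp_h L2277) L1814 L2277
theorem L2280 : sm gb N270 = N221 := ded_22_1 (flp_h L1876) (flp_b L1815) L2277
theorem L2282 : sm gf N270 = N215 := ded_40_1 (flp_h L1820) L1812 L2277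
theorem L2284 : sm gg N270 = N270 := ded_42_1 (flp_h L2277) L1819 L2277
theorem L2285 : sm gd N270 = N270 := ded_33_1 (flp_h L2277) L1817 L1465 (flp_d L1817) L2277
theorem L2286 : sm gi N214 = N271 := rfl
theorem L2288 : sm ga N271 = N271 := ded_16_1 (flp_i L2286) L1814 L2286
theorem L2289 : sm gb N271 = N222 := ded_23_1 (flp_i L1883) (flp_b L1815) L2286
theorem L2291 : sm gd N271 = N217 := ded_34_1 (flp_i L1839) (flp_d L1817) L2286
theorem L2293 : sm gf N271 = N216 := ded_41_1 (flp_i L1829) L1812 L2286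
theorem L2295 : sm gg N271 = N271 := ded_43_1 (flp_i L2286) L1819 L2286
theorem L2296 : sm gi N215 = N272 := rfl
theorem L2298 : sm ga N272 = N272 := ded_16_1 (flp_i L2296) L1822 L2296
theorem L2299 : sm gb N272 = N223 := ded_23_1 (flp_i L1891) (flp_b L1823) L2296
theorem L2301 : sm gd N272 = N272 := ded_34_1 (flp_i L2296) L1828 L2296
theorem L2302 : sm ge N272 = N272 := ded_38_1 (flp_i L2296) L1825 L2296
theorem L2303 : sm gg N272 = N232 := ded_43_1 (flp_i L1957) (flp_g L1826) L2296
theorem L2305 : sm gh N216 = N273 := rfl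
theorem L2307 : sm ga N273 = N273 := ded_15_1 (flp_h L2305) L1831 L2305
theorem L2308 : sm gb N273 = N224 := ded_22_1 (flp_h L1898) (flp_b L1832) L2305
theorem L2310 : sm ge N273 = N273 := ded_37_1 (flp_h L2305) L1836 L2305
theorem L2311 : sm gg N273 = N233 := ded_42_1 (flp_h L1965) (flp_g L1837) L2305
theorem L2313 : sm gh N217 = N274 := rfl
theorem L2315 : sm ga N274 = N274 := ded_15_1 (flp_h L2313) L1841 L2313
theorem L2316 : sm gb N274 = N225 := ded_22_1 (flp_h L1904) (flp_b L1842) L2313
theorem L2318 : sm gc N274 = N274 := ded_28_1 (flp_h L2313) L1844 L2313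
theorem L2319 : sm ge N274 = N274 := ded_37_1 (flp_h L2313) L1845 L2313
theorem L2320 : sm gf N274 = N218 := ded_40_1 (flp_h L1849) (flp_f L1846) L2313
theorem L2322 : sm gg N274 = N274 := ded_42_1 (flp_h L2313) L1848 L2313
theorem L2323 : sm gi N274 = N274 := ded_44_2 (flp_h L2313) (flp_i L1839) L1465 L1839 L2313
theorem L2324 : sm gd N218 = N275 := rfl
theorem L2326 : sm ga N275 = N275 := ded_11_1 (flp_d L2324) L1851 L2324
theorem L2327 : sm gb N275 = N226 := ded_18_1 (flp_d L1913) (flp_b L1852) L2324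
theorem L2329 : sm gg N275 = N234 := ded_32_2 (flp_d L1972) (flp_g L1857) L2324
theorem L2331 : sm gi N275 = N275 := ded_34_2 (flp_d L2324) L1859 L2324
theorem L2332 : sm gc N219 = N276 := rfl
theorem L2334 : sm ga N276 = N276 := ded_10_1 (flp_c L2332) L1862 L2332
theorem L2335 : sm gf N276 = N276 := ded_26_2 (flp_c L2332) L1865 L2332
theorem L2336 : sm gg N276 = N235 := ded_27_2 (flp_c L1979) (flp_g L1866) L2332
theorem L2338 : sm gh N276 = N276 := ded_28_2 (flp_c L2332) L1869 L2332
theorem L2339 : sm gi N276 = N276 := ded_29_2 (flp_c L2332) L1868 L2332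
theorem L2340 : sm gb N276 = N276 := ded_17_1 (flp_c L2332) L1863 L1532 (flp_b L1863) L2332
theorem L2341 : sm gd N276 = N276 := ded_24_2 (flp_c L2332) (flp_d L1860) L1483 L1860 L2332
theorem L2342 : sm ge N219 = N277 := rfl
theorem L2344 : sm ga N277 = N277 := ded_12_1 (flp_e L2342) L1862 L2342
theorem L2345 : sm gb N277 = N227 := ded_19_1 (flp_e L1918) (flp_b L1863) L2342
theorem L2347 : sm gg N277 = N236 := ded_36_2 (flp_e L1988) (flp_g L1866) L2342
theorem L2349 : sm gh N277 = N277 := ded_37_2 (flp_e L2342) L1869 L2342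
theorem L2350 : sm gi N277 = N277 := ded_38_2 (flp_e L2342) L1868 L2342
theorem L2351 : sm gh N220 = N278 := rfl
theorem L2353 : sm gc N278 = N278 := ded_28_1 (flp_h L2351) L1872 L2351
theorem L2354 : sm ge N278 = N221 := ded_37_1 (flp_h L1876) L1870 L2351
theorem L2356 : sm gf N278 = N278 := ded_40_1 (flp_h L2351) L1875 L2351
theorem L2357 : sm gg N278 = N278 := ded_42_1 (flp_h L2351) L1873 L2351
theorem L2358 : sm gi N220 = N279 := rfl
theorem L2360 : sm gc N279 = N279 := ded_29_1 (flp_i L2358) L1872 L2358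
theorem L2361 : sm gd N279 = N279 := ded_34_1 (flp_i L2358) L1874 L2358
theorem L2362 : sm ge N279 = N222 := ded_38_1 (flp_i L1883) L1870 L2358
theorem L2364 : sm gf N279 = N279 := ded_41_1 (flp_i L2358) L1875 L2358
theorem L2365 : sm gg N279 = N279 := ded_43_1 (flp_i L2358) L1873 L2358
theorem L2366 : sm gi N221 = N280 := rfl
theorem L2368 : sm gc N280 = N280 := ded_29_1 (flp_i L2366) L1878 L2366
theorem L2369 : sm gd N280 = N280 := ded_34_1 (flp_i L2366) L1882 L2366
theorem L2370 : sm gf N280 = N223 := ded_41_1 (flp_i L1891) (flp_f L1879) L2366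
theorem L2372 : sm gg N280 = N280 := ded_43_1 (flp_i L2366) L1881 L2366
theorem L2373 : sm gh N222 = N281 := rfl
theorem L2375 : sm gc N281 = N281 := ded_28_1 (flp_h L2373) L1885 L2373
theorem L2376 : sm gf N281 = N224 := ded_40_1 (flp_h L1898) (flp_f L1888) L2373
theorem L2378 : sm gg N281 = N281 := ded_42_1 (flp_h L2373) L1890 L2373
theorem L2379 : sm gh N223 = N282 := rfl
theorem L2381 : sm gc N282 = N282 := ded_28_1 (flp_h L2379) L1893 L2379
theorem L2382 : sm ge N282 = N282 := ded_37_1 (flp_h L2379) L1895 L2379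
theorem L2383 : sm gg N282 = N237 := ded_42_1 (flp_h L1995) (flp_g L1896) L2379
theorem L2385 : sm gi N282 = N224 := ded_44_2 (flp_h L1898) (flp_i L1501) L1494 L1891 L2379
theorem L2387 : sm gd N224 = N283 := rfl
theorem L2389 : sm gg N283 = N238 := ded_32_2 (flp_d L2002) (flp_g L1902) L2387
theorem L2391 : sm gh N283 = N226 := ded_33_2 (flp_d L1913) (flp_h L1517) (flp_d L1504) L1898 L2387
theorem L2393 : sm gd N225 = N284 := rfl
theorem L2395 : sm gf N284 = N226 := ded_31_2 (flp_d L1913) (flp_f L1909) L2393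
theorem L2397 : sm gg N284 = N284 := ded_32_2 (flp_d L2393) L1911 L2393
theorem L2398 : sm gi N284 = N284 := ded_34_2 (flp_d L2393) L1912 L2393
theorem L2399 : sm gc N226 = N285 := rfl
theorem L2401 : sm gg N285 = N239 := ded_27_2 (flp_c L2007) (flp_g L1915) L2399
theorem L2403 : sm gi N285 = N285 := ded_29_2 (flp_c L2399) L1917 L2399
theorem L2404 : sm gd N285 = N229 := ded_24_2 (flp_c L1933) (flp_d L1542) (flp_c L1519) L1913 L2399
theorem L2406 : sm ge N226 = N286 := rfl
theorem L2408 : sm gg N286 = N240 := ded_36_2 (flp_e L2013) (flp_g L1915) L2406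
theorem L2410 : sm gi N286 = N286 := ded_38_2 (flp_e L2406) L1917 L2406
theorem L2411 : sm gd N286 = N227 := ded_30_1 (flp_e L1918) (flp_d L1526) (flp_e L1521) L1913 L2406
theorem L2413 : sm gf N227 = N287 := rfl
theorem L2415 : sm gc N287 = N287 := ded_26_1 (flp_f L2413) L1920 L2413
theorem L2416 : sm gh N287 = N287 := ded_40_2 (flp_f L2413) L1923 L2413
theorem L2417 : sm gi N287 = N287 := ded_41_2 (flp_f L2413) L1924 L2413
theorem L2418 : sm ge N287 = N287 := ded_35_1 (flp_f L2413) (flp_e L1918) L1528 L1918 L2413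
theorem L2419 : sm gc N228 = N288 := rfl
theorem L2421 : sm gf N288 = N229 := ded_26_2 (flp_c L1933) (flp_f L1928) L2419
theorem L2423 : sm gg N288 = N288 := ded_27_2 (flp_c L2419) L1930 L2419
theorem L2424 : sm gh N288 = N288 := ded_28_2 (flp_c L2419) L1932 L2419
theorem L2425 : sm gi N288 = N288 := ded_29_2 (flp_c L2419) L1931 L2419
theorem L2426 : sm ge N228 = N289 := rfl
theorem L2428 : sm gb N289 = N289 := ded_19_1 (flp_e L2426) L1927 L2426
theorem L2429 : sm gg N289 = N289 := ded_36_2 (flp_e L2426) L1930 L2426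
theorem L2430 : sm gh N289 = N289 := ded_37_2 (flp_e L2426) L1932 L2426
theorem L2431 : sm gi N289 = N289 := ded_38_2 (flp_e L2426) L1931 L2426
theorem L2432 : sm gd N289 = N289 := ded_30_1 (flp_e L2426) (flp_d L1925) L1537 L1925 L2426
theorem L2433 : sm gf N289 = N289 := ded_35_2 (flp_e L2426) L1928 L1548 (flp_f L1928) L2426
theorem L2434 : sm gb N229 = N290 := rfl
theorem L2436 : sm ge N290 = N290 := ded_19_2 (flp_b L2434) L1935 L2434
theorem L2437 : sm gg N290 = N242 := ded_21_2 (flp_b L2025) (flp_g L1936) L2434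
theorem L2439 : sm gh N290 = N290 := ded_22_2 (flp_b L2434) L1938 L2434
theorem L2440 : sm gi N290 = N290 := ded_23_2 (flp_b L2434) L1939 L2434
theorem L2441 : sm gc N290 = N290 := ded_17_2 (flp_b L2434) (flp_c L1933) L1544 L1933 L2434
theorem L2442 : sm gd N230 = N291 := rfl
theorem L2444 : sm ga N291 = N291 := ded_11_1 (flp_d L2442) L1942 L2442
theorem L2445 : sm gb N291 = N291 := ded_18_1 (flp_d L2442) L1943 L2442
theorem L2446 : sm gf N291 = N291 := ded_31_2 (flp_d L2442) L1947 L2442
theorem L2447 : sm gc N291 = N291 := ded_24_1 (flp_d L2442) L1944 L1564 (flp_c L1944) L2442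
theorem L2448 : sm gh N291 = N291 := ded_33_2 (flp_d L2442) (flp_h L1940) L1556 L1940 L2442
theorem L2449 : sm gi N230 = N292 := rfl
theorem L2451 : sm ga N292 = N292 := ded_16_1 (flp_i L2449) L1942 L2449
theorem L2452 : sm gb N292 = N292 := ded_23_1 (flp_i L2449) L1943 L2449
theorem L2453 : sm gc N292 = N232 := ded_29_1 (flp_i L1957) (flp_c L1944) L2449
theorem L2455 : sm ge N292 = N292 := ded_38_1 (flp_i L2449) L1946 L2449
theorem L2456 : sm gf N292 = N292 := ded_41_1 (flp_i L2449) L1947 L2449
theorem L2457 : sm gh N231 = N293 := rfl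
theorem L2459 : sm ga N293 = N293 := ded_15_1 (flp_h L2457) L1950 L2457
theorem L2460 : sm gb N293 = N293 := ded_22_1 (flp_h L2457) L1951 L2457
theorem L2461 : sm gc N293 = N233 := ded_28_1 (flp_h L1965) (flp_c L1952) L2457
theorem L2463 : sm ge N293 = N293 := ded_37_1 (flp_h L2457) L1955 L2457
theorem L2464 : sm gf N293 = N293 := ded_40_1 (flp_h L2457) L1956 L2457
theorem L2465 : sm gh N232 = N294 := rfl
theorem L2467 : sm ga N294 = N294 := ded_15_1 (flp_h L2465) L1959 L2465
theorem L2468 : sm gb N294 = N237 := ded_22_1 (flp_h L1995) (flp_b L1960) L2465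
theorem L2470 : sm ge N294 = N294 := ded_37_1 (flp_h L2465) L1963 L2465
theorem L2471 : sm gf N294 = N294 := ded_40_1 (flp_h L2465) L1964 L2465
theorem L2472 : sm gi N294 = N233 := ded_44_2 (flp_h L1965) (flp_i L1565) L1557 L1957 L2465
theorem L2474 : sm gd N233 = N295 := rfl
theorem L2476 : sm ga N295 = N295 := ded_11_1 (flp_d L2474) L1967 L2474
theorem L2477 : sm gb N295 = N238 := ded_18_1 (flp_d L2002) (flp_b L1968) L2474
theorem L2479 : sm gf N295 = N295 := ded_31_2 (flp_d L2474) L1971 L2474
theorem L2480 : sm gh N295 = N234 := ded_33_2 (flp_d L1972) (flp_h L1574) (flp_d L1570) L1965 L2474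
theorem L2482 : sm gc N234 = N296 := rfl
theorem L2484 : sm ga N296 = N296 := ded_10_1 (flp_c L2482) L1974 L2482
theorem L2485 : sm gf N296 = N296 := ded_26_2 (flp_c L2482) L1977 L2482
theorem L2486 : sm gi N296 = N296 := ded_29_2 (flp_c L2482) L1978 L2482
theorem L2487 : sm gd N296 = N296 := ded_24_2 (flp_c L2482) (flp_d L1972) L1579 L1972 L2482
theorem L2488 : sm ge N234 = N297 := rfl
theorem L2490 : sm ga N297 = N297 := ded_12_1 (flp_e L2488) L1974 L2488
theorem L2491 : sm gb N297 = N240 := ded_19_1 (flp_e L2013) (flp_b L1975) L2488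
theorem L2493 : sm gi N297 = N297 := ded_38_2 (flp_e L2488) L1978 L2488
theorem L2494 : sm gd N297 = N236 := ded_30_1 (flp_e L1988) (flp_d L1584) (flp_e L1580) L1972 L2488
theorem L2496 : sm ge N235 = N298 := rfl
theorem L2498 : sm ga N298 = N298 := ded_12_1 (flp_e L2496) L1981 L2496
theorem L2499 : sm gb N298 = N298 := ded_19_1 (flp_e L2496) L1986 L2496
theorem L2500 : sm gc N298 = N236 := ded_25_1 (flp_e L1988) L1979 L2496
theorem L2502 : sm gh N298 = N298 := ded_37_2 (flp_e L2496) L1984 L2496
theorem L2503 : sm gi N298 = N298 := ded_38_2 (flp_e L2496) L1985 L2496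
theorem L2504 : sm gf N236 = N299 := rfl
theorem L2506 : sm ga N299 = N299 := ded_13_1 (flp_f L2504) L1990 L2504
theorem L2507 : sm gb N299 = N241 := ded_20_1 (flp_f L2018) (flp_b L1991) L2504
theorem L2509 : sm gh N299 = N299 := ded_40_2 (flp_f L2504) L1993 L2504
theorem L2510 : sm gi N299 = N299 := ded_41_2 (flp_f L2504) L1994 L2504
theorem L2511 : sm ge N299 = N244 := ded_35_1 (flp_f L2041) (flp_e L1627) (flp_f L1589) L1988 L2504
theorem L2513 : sm gd N237 = N300 := rfl
theorem L2515 : sm gf N300 = N300 := ded_31_2 (flp_d L2513) L1999 L2513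
theorem L2516 : sm gi N300 = N238 := ded_34_2 (flp_d L2002) (flp_i L2000) L2513
theorem L2518 : sm gh N300 = N300 := ded_33_2 (flp_d L2513) (flp_h L1995) L1596 L1995 L2513
theorem L2519 : sm gc N238 = N301 := rfl
theorem L2521 : sm gf N301 = N301 := ded_26_2 (flp_c L2519) L2004 L2519
theorem L2522 : sm gh N301 = N239 := ded_28_2 (flp_c L2007) (flp_h L2005) L2519
theorem L2524 : sm gd N301 = N301 := ded_24_2 (flp_c L2519) (flp_d L2002) L1601 L2002 L2519
theorem L2525 : sm ge N238 = N302 := rfl
theorem L2527 : sm gh N302 = N240 := ded_37_2 (flp_e L2013) (flp_h L2005) L2525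
theorem L2529 : sm gd N302 = N302 := ded_30_1 (flp_e L2525) (flp_d L2002) L1602 L2002 L2525
theorem L2530 : sm gb N239 = N303 := rfl
theorem L2532 : sm gd N303 = N242 := ded_18_2 (flp_b L2025) (flp_d L2011) L2530
theorem L2534 : sm gf N303 = N303 := ded_20_2 (flp_b L2530) L2009 L2530
theorem L2535 : sm gi N303 = N303 := ded_23_2 (flp_b L2530) L2010 L2530
theorem L2536 : sm ge N239 = N304 := rfl
theorem L2538 : sm gc N304 = N240 := ded_25_1 (flp_e L2013) L2007 L2536
theorem L2540 : sm gi N304 = N304 := ded_38_2 (flp_e L2536) L2010 L2536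
theorem L2541 : sm gd N304 = N304 := ded_30_1 (flp_e L2536) L2011 L1615 (flp_d L2011) L2536
theorem L2542 : sm gf N240 = N305 := rfl
theorem L2544 : sm gd N305 = N241 := ded_31_1 (flp_f L2018) (flp_d L2016) L2542
theorem L2546 : sm gi N305 = N305 := ded_41_2 (flp_f L2542) L2015 L2542
theorem L2547 : sm ge N305 = N305 := ded_35_1 (flp_f L2542) (flp_e L2013) L1606 L2013 L2542
theorem L2548 : sm gg N241 = N306 := rfl
theorem L2550 : sm gc N306 = N306 := ded_27_1 (flp_g L2548) L2020 L2548
theorem L2551 : sm ge N306 = N245 := ded_36_1 (flp_g L2049) (flp_e L2023) L2548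
theorem L2553 : sm gh N306 = N306 := ded_42_2 (flp_g L2548) L2021 L2548
theorem L2554 : sm gi N306 = N306 := ded_43_2 (flp_g L2548) L2022 L2548
theorem L2555 : sm ga N242 = N307 := rfl
theorem L2557 : sm gc N307 = N307 := ded_10_2 (flp_a L2555) L2031 L2555
theorem L2558 : sm ge N307 = N307 := ded_12_2 (flp_a L2555) L2027 L2555
theorem L2559 : sm gf N307 = N307 := ded_13_2 (flp_a L2555) L2028 L2555
theorem L2560 : sm gh N307 = N307 := ded_15_2 (flp_a L2555) L2029 L2555
theorem L2561 : sm gi N307 = N307 := ded_16_2 (flp_a L2555) L2030 L2555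
theorem L2562 : sm gd N243 = N308 := rfl
theorem L2564 : sm ga N308 = N308 := ded_11_1 (flp_d L2562) L2034 L2562
theorem L2565 : sm gb N308 = N308 := ded_18_1 (flp_d L2562) L2035 L2562
theorem L2566 : sm gg N308 = N308 := ded_32_2 (flp_d L2562) L2038 L2562
theorem L2567 : sm gi N308 = N308 := ded_34_2 (flp_d L2562) L2040 L2562
theorem L2568 : sm gc N308 = N308 := ded_24_1 (flp_d L2562) L2036 L1635 (flp_c L2036) L2562
theorem L2569 : sm ge N308 = N308 := ded_30_2 (flp_d L2562) (flp_e L2032) L1626 L2032 L2562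
theorem L2570 : sm gf N243 = N309 := rfl
theorem L2572 : sm ga N309 = N309 := ded_13_1 (flp_f L2570) L2034 L2570
theorem L2573 : sm gb N309 = N309 := ded_20_1 (flp_f L2570) L2035 L2570
theorem L2574 : sm gc N309 = N244 := ded_26_1 (flp_f L2041) (flp_c L2036) L2570
theorem L2576 : sm gh N309 = N309 := ded_40_2 (flp_f L2570) L2039 L2570
theorem L2577 : sm gi N309 = N309 := ded_41_2 (flp_f L2570) L2040 L2570
theorem L2578 : sm gg N244 = N310 := rfl
theorem L2580 : sm ga N310 = N310 := ded_14_1 (flp_g L2578) L2043 L2578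
theorem L2581 : sm gb N310 = N245 := ded_21_1 (flp_g L2049) (flp_b L2044) L2578
theorem L2583 : sm gd N310 = N310 := ded_32_1 (flp_g L2578) L2046 L2578
theorem L2584 : sm gh N310 = N310 := ded_42_2 (flp_g L2578) L2047 L2578
theorem L2585 : sm gi N310 = N310 := ded_43_2 (flp_g L2578) L2048 L2578
theorem L2586 : sm gf N310 = N310 := ded_39_1 (flp_g L2578) (flp_f L2041) L1632 L2041 L2578
theorem L2587 : sm gd N246 = N311 := rfl
theorem L2589 : sm ga N311 = N311 := ded_11_1 (flp_d L2587) L2058 L2587
theorem L2590 : sm gb N311 = N257 := ded_18_1 (flp_d L2164) (flp_b L2059) L2587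
theorem L2592 : sm gf N311 = N247 := ded_31_2 (flp_d L2067) (flp_f L2063) L2587
theorem L2594 : sm gg N311 = N311 := ded_32_2 (flp_d L2587) L2065 L2587
theorem L2595 : sm gi N311 = N311 := ded_34_2 (flp_d L2587) L2066 L2587
theorem L2596 : sm gh N311 = N311 := ded_33_2 (flp_d L2587) (flp_h L2056) L1648 L2056 L2587
theorem L2597 : sm gc N247 = N312 := rfl
theorem L2599 : sm ga N312 = N312 := ded_10_1 (flp_c L2597) L2069 L2597
theorem L2600 : sm ge N312 = N312 := ded_25_2 (flp_c L2597) L2075 L2597
theorem L2601 : sm gg N312 = N248 := ded_27_2 (flp_c L2077) (flp_g L2072) L2597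
theorem L2603 : sm gh N312 = N312 := ded_28_2 (flp_c L2597) L2076 L2597
theorem L2604 : sm gi N312 = N312 := ded_29_2 (flp_c L2597) L2074 L2597
theorem L2605 : sm gd N312 = N312 := ded_24_2 (flp_c L2597) (flp_d L2067) L1658 L2067 L2597
theorem L2606 : sm gb N248 = N313 := rfl
theorem L2608 : sm gd N313 = N313 := ded_18_2 (flp_b L2606) L2084 L2606
theorem L2609 : sm ge N313 = N313 := ded_19_2 (flp_b L2606) L2080 L2606
theorem L2610 : sm gf N313 = N313 := ded_20_2 (flp_b L2606) L2081 L2606
theorem L2611 : sm gh N313 = N313 := ded_22_2 (flp_b L2606) L2082 L2606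
theorem L2612 : sm gi N313 = N313 := ded_23_2 (flp_b L2606) L2083 L2606
theorem L2613 : sm gc N313 = N264 := ded_17_2 (flp_b L2226) (flp_c L1787) (flp_b L1667) L2077 L2606
theorem L2615 : sm gh N249 = N314 := rfl
theorem L2617 : sm ga N314 = N278 := ded_15_1 (flp_h L2351) (flp_a L2087) L2615
theorem L2619 : sm gb N314 = N314 := ded_22_1 (flp_h L2615) L2089 L2615
theorem L2620 : sm gc N314 = N314 := ded_28_1 (flp_h L2615) L2090 L2615
theorem L2621 : sm ge N314 = N250 := ded_37_1 (flp_h L2094) L2085 L2615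
theorem L2623 : sm gf N314 = N314 := ded_40_1 (flp_h L2615) L2093 L2615
theorem L2624 : sm gg N314 = N314 := ded_42_1 (flp_h L2615) L2091 L2615
theorem L2625 : sm gi N249 = N315 := rfl
theorem L2627 : sm ga N315 = N279 := ded_16_1 (flp_i L2358) (flp_a L2087) L2625
theorem L2629 : sm gb N315 = N315 := ded_23_1 (flp_i L2625) L2089 L2625
theorem L2630 : sm gc N315 = N315 := ded_29_1 (flp_i L2625) L2090 L2625
theorem L2631 : sm gd N315 = N315 := ded_34_1 (flp_i L2625) L2092 L2625
theorem L2632 : sm ge N315 = N251 := ded_38_1 (flp_i L2104) L2085 L2625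
theorem L2634 : sm gf N315 = N315 := ded_41_1 (flp_i L2625) L2093 L2625
theorem L2635 : sm gg N315 = N315 := ded_43_1 (flp_i L2625) L2091 L2625
theorem L2636 : sm gi N250 = N316 := rfl
theorem L2638 : sm ga N316 = N280 := ded_16_1 (flp_i L2366) (flp_a L2096) L2636
theorem L2640 : sm gb N316 = N316 := ded_23_1 (flp_i L2636) L2098 L2636
theorem L2641 : sm gc N316 = N316 := ded_29_1 (flp_i L2636) L2099 L2636
theorem L2642 : sm gd N316 = N316 := ded_34_1 (flp_i L2636) L2103 L2636
theorem L2643 : sm gf N316 = N252 := ded_41_1 (flp_i L2115) (flp_f L2100) L2636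
theorem L2645 : sm gg N316 = N316 := ded_43_1 (flp_i L2636) L2102 L2636
theorem L2646 : sm gh N251 = N317 := rfl
theorem L2648 : sm ga N317 = N281 := ded_15_1 (flp_h L2373) (flp_a L2106) L2646
theorem L2650 : sm gb N317 = N317 := ded_22_1 (flp_h L2646) L2108 L2646
theorem L2651 : sm gc N317 = N317 := ded_28_1 (flp_h L2646) L2109 L2646
theorem L2652 : sm gf N317 = N253 := ded_40_1 (flp_h L2125) (flp_f L2112) L2646
theorem L2654 : sm gg N317 = N317 := ded_42_1 (flp_h L2646) L2114 L2646
theorem L2655 : sm gh N252 = N318 := rfl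
theorem L2657 : sm ga N318 = N282 := ded_15_1 (flp_h L2379) (flp_a L2117) L2655
theorem L2659 : sm gb N318 = N318 := ded_22_1 (flp_h L2655) L2119 L2655
theorem L2660 : sm gc N318 = N318 := ded_28_1 (flp_h L2655) L2120 L2655
theorem L2661 : sm ge N318 = N318 := ded_37_1 (flp_h L2655) L2122 L2655
theorem L2662 : sm gg N318 = N259 := ded_42_1 (flp_h L2182) (flp_g L2123) L2655
theorem L2664 : sm gi N318 = N253 := ded_44_2 (flp_h L2125) (flp_i L1692) L1682 L2115 L2655
theorem L2666 : sm gd N253 = N319 := rfl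
theorem L2668 : sm ga N319 = N283 := ded_11_1 (flp_d L2387) (flp_a L2127) L2666
theorem L2670 : sm gb N319 = N319 := ded_18_1 (flp_d L2666) L2129 L2666
theorem L2671 : sm gg N319 = N260 := ded_32_2 (flp_d L2192) (flp_g L2132) L2666
theorem L2673 : sm gh N319 = N255 := ded_33_2 (flp_d L2146) (flp_h L1714) (flp_d L1698) L2125 L2666
theorem L2675 : sm gd N254 = N320 := rfl
theorem L2677 : sm ga N320 = N284 := ded_11_1 (flp_d L2393) (flp_a L2136) L2675
theorem L2679 : sm gb N320 = N320 := ded_18_1 (flp_d L2675) L2138 L2675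
theorem L2680 : sm gf N320 = N255 := ded_31_2 (flp_d L2146) (flp_f L2142) L2675
theorem L2682 : sm gg N320 = N320 := ded_32_2 (flp_d L2675) L2144 L2675
theorem L2683 : sm gi N320 = N320 := ded_34_2 (flp_d L2675) L2145 L2675
theorem L2684 : sm gc N255 = N321 := rfl
theorem L2686 : sm ga N321 = N285 := ded_10_1 (flp_c L2399) (flp_a L2148) L2684
theorem L2688 : sm gg N321 = N261 := ded_27_2 (flp_c L2200) (flp_g L2151) L2684
theorem L2690 : sm gi N321 = N321 := ded_29_2 (flp_c L2684) L2153 L2684
theorem L2691 : sm gd N321 = N258 := ded_24_2 (flp_c L2173) (flp_d L1746) (flp_c L1719) L2146 L2684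
theorem L2693 : sm ge N255 = N322 := rfl
theorem L2695 : sm ga N322 = N286 := ded_12_1 (flp_e L2406) (flp_a L2148) L2693
theorem L2697 : sm gb N322 = N322 := ded_19_1 (flp_e L2693) L2150 L2693
theorem L2698 : sm gg N322 = N262 := ded_36_2 (flp_e L2208) (flp_g L2151) L2693
theorem L2700 : sm gi N322 = N322 := ded_38_2 (flp_e L2693) L2153 L2693
theorem L2701 : sm gd N322 = N256 := ded_30_1 (flp_e L2154) (flp_d L1726) (flp_e L1721) L2146 L2693
theorem L2703 : sm gf N256 = N323 := rfl
theorem L2705 : sm ga N323 = N287 := ded_13_1 (flp_f L2413) (flp_a L2156) L2703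
theorem L2707 : sm gb N323 = N323 := ded_20_1 (flp_f L2703) L2158 L2703
theorem L2708 : sm gc N323 = N323 := ded_26_1 (flp_f L2703) L2159 L2703
theorem L2709 : sm gh N323 = N323 := ded_40_2 (flp_f L2703) L2162 L2703
theorem L2710 : sm gi N323 = N323 := ded_41_2 (flp_f L2703) L2163 L2703
theorem L2711 : sm ge N323 = N323 := ded_35_1 (flp_f L2703) (flp_e L2154) L1731 L2154 L2703
theorem L2712 : sm gc N257 = N324 := rfl
theorem L2714 : sm ga N324 = N288 := ded_10_1 (flp_c L2419) (flp_a L2166) L2712
theorem L2716 : sm gf N324 = N258 := ded_26_2 (flp_c L2173) (flp_f L2168) L2712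
theorem L2718 : sm gg N324 = N324 := ded_27_2 (flp_c L2712) L2170 L2712
theorem L2719 : sm gh N324 = N324 := ded_28_2 (flp_c L2712) L2172 L2712
theorem L2720 : sm gi N324 = N324 := ded_29_2 (flp_c L2712) L2171 L2712
theorem L2721 : sm ge N257 = N325 := rfl
theorem L2723 : sm ga N325 = N289 := ded_12_1 (flp_e L2426) (flp_a L2166) L2721
theorem L2725 : sm gg N325 = N325 := ded_36_2 (flp_e L2721) L2170 L2721
theorem L2726 : sm gh N325 = N325 := ded_37_2 (flp_e L2721) L2172 L2721
theorem L2727 : sm gi N325 = N325 := ded_38_2 (flp_e L2721) L2171 L2721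
theorem L2728 : sm gd N325 = N325 := ded_30_1 (flp_e L2721) (flp_d L2164) L1741 L2164 L2721
theorem L2729 : sm gf N325 = N325 := ded_35_2 (flp_e L2721) L2168 L1753 (flp_f L2168) L2721
theorem L2730 : sm gb N258 = N326 := rfl
theorem L2732 : sm ge N326 = N326 := ded_19_2 (flp_b L2730) L2177 L2730
theorem L2733 : sm gg N326 = N264 := ded_21_2 (flp_b L2226) (flp_g L2178) L2730
theorem L2735 : sm gh N326 = N326 := ded_22_2 (flp_b L2730) L2180 L2730
theorem L2736 : sm gi N326 = N326 := ded_23_2 (flp_b L2730) L2181 L2730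
theorem L2737 : sm gd N259 = N327 := rfl
theorem L2739 : sm ga N327 = N300 := ded_11_1 (flp_d L2513) (flp_a L2184) L2737
theorem L2741 : sm gb N327 = N327 := ded_18_1 (flp_d L2737) L2186 L2737
theorem L2742 : sm gf N327 = N327 := ded_31_2 (flp_d L2737) L2189 L2737
theorem L2743 : sm gi N327 = N260 := ded_34_2 (flp_d L2192) (flp_i L2190) L2737
theorem L2745 : sm gh N327 = N327 := ded_33_2 (flp_d L2737) (flp_h L2182) L1761 L2182 L2737
theorem L2746 : sm gc N260 = N328 := rfl
theorem L2748 : sm ga N328 = N301 := ded_10_1 (flp_c L2519) (flp_a L2194) L2746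
theorem L2750 : sm gf N328 = N328 := ded_26_2 (flp_c L2746) L2197 L2746
theorem L2751 : sm gh N328 = N261 := ded_28_2 (flp_c L2200) (flp_h L2198) L2746
theorem L2753 : sm gd N328 = N328 := ded_24_2 (flp_c L2746) (flp_d L2192) L1769 L2192 L2746
theorem L2754 : sm ge N260 = N329 := rfl
theorem L2756 : sm ga N329 = N302 := ded_12_1 (flp_e L2525) (flp_a L2194) L2754
theorem L2758 : sm gb N329 = N329 := ded_19_1 (flp_e L2754) L2196 L2754
theorem L2759 : sm gh N329 = N262 := ded_37_2 (flp_e L2208) (flp_h L2198) L2754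
theorem L2761 : sm gd N329 = N329 := ded_30_1 (flp_e L2754) (flp_d L2192) L1770 L2192 L2754
theorem L2762 : sm gb N261 = N330 := rfl
theorem L2764 : sm gd N330 = N264 := ded_18_2 (flp_b L2226) (flp_d L2206) L2762
theorem L2766 : sm gf N330 = N330 := ded_20_2 (flp_b L2762) L2204 L2762
theorem L2767 : sm gi N330 = N330 := ded_23_2 (flp_b L2762) L2205 L2762
theorem L2768 : sm gc N330 = N330 := ded_17_2 (flp_b L2762) (flp_c L2200) L1776 L2200 L2762
theorem L2769 : sm ge N261 = N331 := rfl
theorem L2771 : sm ga N331 = N304 := ded_12_1 (flp_e L2536) (flp_a L2202) L2769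
theorem L2773 : sm gc N331 = N262 := ded_25_1 (flp_e L2208) L2200 L2769
theorem L2775 : sm gi N331 = N331 := ded_38_2 (flp_e L2769) L2205 L2769
theorem L2776 : sm gd N331 = N331 := ded_30_1 (flp_e L2769) L2206 L1791 (flp_d L2206) L2769
theorem L2777 : sm gf N262 = N332 := rfl
theorem L2779 : sm ga N332 = N305 := ded_13_1 (flp_f L2542) (flp_a L2210) L2777
theorem L2781 : sm gb N332 = N332 := ded_20_1 (flp_f L2777) L2212 L2777
theorem L2782 : sm gd N332 = N263 := ded_31_1 (flp_f L2216) (flp_d L2214) L2777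
theorem L2784 : sm gi N332 = N332 := ded_41_2 (flp_f L2777) L2213 L2777
theorem L2785 : sm ge N332 = N332 := ded_35_1 (flp_f L2777) (flp_e L2208) L1777 L2208 L2777
theorem L2786 : sm gg N263 = N333 := rfl
theorem L2788 : sm ga N333 = N306 := ded_14_1 (flp_g L2548) (flp_a L2218) L2786
theorem L2790 : sm gb N333 = N333 := ded_21_1 (flp_g L2786) L2220 L2786
theorem L2791 : sm gc N333 = N333 := ded_27_1 (flp_g L2786) L2221 L2786
theorem L2792 : sm ge N333 = N265 := ded_36_1 (flp_g L2232) (flp_e L2224) L2786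
theorem L2794 : sm gh N333 = N333 := ded_42_2 (flp_g L2786) L2222 L2786
theorem L2795 : sm gi N333 = N333 := ded_43_2 (flp_g L2786) L2223 L2786
theorem L2796 : sm ga N264 = N334 := rfl
theorem L2798 : sm ge N334 = N334 := ded_12_2 (flp_a L2796) L2228 L2796
theorem L2799 : sm gf N334 = N334 := ded_13_2 (flp_a L2796) L2229 L2796
theorem L2800 : sm gh N334 = N334 := ded_15_2 (flp_a L2796) L2230 L2796
theorem L2801 : sm gi N334 = N334 := ded_16_2 (flp_a L2796) L2231 L2796
theorem L2802 : sm gb N334 = N307 := ded_9_2 (flp_a L2555) (flp_b L2025) (flp_a L1789) L2226 L2796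
theorem L2804 : sm ge N266 = N335 := rfl
theorem L2806 : sm ga N335 = N335 := ded_12_1 (flp_e L2804) L2244 L2804
theorem L2807 : sm gb N335 = N335 := ded_19_1 (flp_e L2804) L2245 L2804
theorem L2808 : sm gc N335 = N269 := ded_25_1 (flp_e L2269) (flp_c L2246) L2804
theorem L2810 : sm gg N335 = N335 := ded_36_2 (flp_e L2804) L2249 L2804
theorem L2811 : sm gf N335 = N335 := ded_35_2 (flp_e L2804) (flp_f L2242) L1807 L2242 L2804
theorem L2812 : sm gh N266 = N336 := rfl
theorem L2814 : sm ga N336 = N336 := ded_15_1 (flp_h L2812) L2244 L2812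
theorem L2815 : sm gb N336 = N336 := ded_22_1 (flp_h L2812) L2245 L2812
theorem L2816 : sm gc N336 = N270 := ded_28_1 (flp_h L2277) (flp_c L2246) L2812
theorem L2818 : sm gf N336 = N267 := ded_40_1 (flp_h L2250) L2242 L2812
theorem L2820 : sm gg N336 = N336 := ded_42_1 (flp_h L2812) L2249 L2812
theorem L2821 : sm gi N266 = N337 := rfl
theorem L2823 : sm ga N337 = N337 := ded_16_1 (flp_i L2821) L2244 L2821
theorem L2824 : sm gb N337 = N337 := ded_23_1 (flp_i L2821) L2245 L2821
theorem L2825 : sm gc N337 = N271 := ded_29_1 (flp_i L2286) (flp_c L2246) L2821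
theorem L2827 : sm gd N337 = N337 := ded_34_1 (flp_i L2821) L2248 L2821
theorem L2828 : sm gf N337 = N268 := ded_41_1 (flp_i L2259) L2242 L2821
theorem L2830 : sm gg N337 = N337 := ded_43_1 (flp_i L2821) L2249 L2821
theorem L2831 : sm gd N267 = N338 := rfl
theorem L2833 : sm ga N338 = N338 := ded_11_1 (flp_d L2831) L2252 L2831
theorem L2834 : sm gb N338 = N338 := ded_18_1 (flp_d L2831) L2253 L2831
theorem L2835 : sm gg N338 = N291 := ded_32_2 (flp_d L2442) (flp_g L2257) L2831
theorem L2837 : sm gc N338 = N338 := ded_24_1 (flp_d L2831) L2254 L1828 (flp_c L2254) L2831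
theorem L2838 : sm gh N338 = N338 := ded_33_2 (flp_d L2831) (flp_h L2250) L1811 L2250 L2831
theorem L2839 : sm gi N267 = N339 := rfl
theorem L2841 : sm ga N339 = N339 := ded_16_1 (flp_i L2839) L2252 L2839
theorem L2842 : sm gb N339 = N339 := ded_23_1 (flp_i L2839) L2253 L2839
theorem L2843 : sm gc N339 = N272 := ded_29_1 (flp_i L2296) (flp_c L2254) L2839
theorem L2845 : sm ge N339 = N339 := ded_38_1 (flp_i L2839) L2256 L2839
theorem L2846 : sm gg N339 = N292 := ded_43_1 (flp_i L2449) (flp_g L2257) L2839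
theorem L2848 : sm gh N268 = N340 := rfl
theorem L2850 : sm ga N340 = N340 := ded_15_1 (flp_h L2848) L2261 L2848
theorem L2851 : sm gb N340 = N340 := ded_22_1 (flp_h L2848) L2262 L2848
theorem L2852 : sm gc N340 = N273 := ded_28_1 (flp_h L2305) (flp_c L2263) L2848
theorem L2854 : sm ge N340 = N340 := ded_37_1 (flp_h L2848) L2266 L2848
theorem L2855 : sm gg N340 = N293 := ded_42_1 (flp_h L2457) (flp_g L2267) L2848
theorem L2857 : sm gh N269 = N341 := rfl
theorem L2859 : sm ga N341 = N341 := ded_15_1 (flp_h L2857) L2271 L2857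
theorem L2860 : sm gb N341 = N278 := ded_22_1 (flp_h L2351) (flp_b L2272) L2857
theorem L2862 : sm ge N341 = N270 := ded_37_1 (flp_h L2277) L2269 L2857
theorem L2864 : sm gf N341 = N341 := ded_40_1 (flp_h L2857) L2276 L2857
theorem L2865 : sm gg N341 = N341 := ded_42_1 (flp_h L2857) L2274 L2857
theorem L2866 : sm gi N269 = N342 := rfl
theorem L2868 : sm ga N342 = N342 := ded_16_1 (flp_i L2866) L2271 L2866
theorem L2869 : sm gb N342 = N279 := ded_23_1 (flp_i L2358) (flp_b L2272) L2866
theorem L2871 : sm gd N342 = N342 := ded_34_1 (flp_i L2866) L2275 L2866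
theorem L2872 : sm ge N342 = N271 := ded_38_1 (flp_i L2286) L2269 L2866
theorem L2874 : sm gf N342 = N342 := ded_41_1 (flp_i L2866) L2276 L2866
theorem L2875 : sm gg N342 = N342 := ded_43_1 (flp_i L2866) L2274 L2866
theorem L2876 : sm gi N270 = N343 := rfl
theorem L2878 : sm ga N343 = N343 := ded_16_1 (flp_i L2876) L2279 L2876
theorem L2879 : sm gb N343 = N280 := ded_23_1 (flp_i L2366) (flp_b L2280) L2876
theorem L2881 : sm gd N343 = N343 := ded_34_1 (flp_i L2876) L2285 L2876
theorem L2882 : sm gf N343 = N272 := ded_41_1 (flp_i L2296) (flp_f L2282) L2876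
theorem L2884 : sm gg N343 = N343 := ded_43_1 (flp_i L2876) L2284 L2876
theorem L2885 : sm gh N271 = N344 := rfl
theorem L2887 : sm ga N344 = N344 := ded_15_1 (flp_h L2885) L2288 L2885
theorem L2888 : sm gb N344 = N281 := ded_22_1 (flp_h L2373) (flp_b L2289) L2885
theorem L2890 : sm gf N344 = N273 := ded_40_1 (flp_h L2305) (flp_f L2293) L2885
theorem L2892 : sm gg N344 = N344 := ded_42_1 (flp_h L2885) L2295 L2885
theorem L2893 : sm gh N272 = N345 := rfl
theorem L2895 : sm ga N345 = N345 := ded_15_1 (flp_h L2893) L2298 L2893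
theorem L2896 : sm gb N345 = N282 := ded_22_1 (flp_h L2379) (flp_b L2299) L2893
theorem L2898 : sm ge N345 = N345 := ded_37_1 (flp_h L2893) L2302 L2893
theorem L2899 : sm gg N345 = N294 := ded_42_1 (flp_h L2465) (flp_g L2303) L2893
theorem L2901 : sm gi N345 = N273 := ded_44_2 (flp_h L2305) (flp_i L1829) L1820 L2296 L2893
theorem L2903 : sm gd N273 = N346 := rfl
theorem L2905 : sm ga N346 = N346 := ded_11_1 (flp_d L2903) L2307 L2903
theorem L2906 : sm gb N346 = N283 := ded_18_1 (flp_d L2387) (flp_b L2308) L2903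
theorem L2908 : sm gg N346 = N295 := ded_32_2 (flp_d L2474) (flp_g L2311) L2903
theorem L2910 : sm gh N346 = N275 := ded_33_2 (flp_d L2324) (flp_h L1849) (flp_d L1834) L2305 L2903
theorem L2912 : sm gd N274 = N347 := rfl
theorem L2914 : sm ga N347 = N347 := ded_11_1 (flp_d L2912) L2315 L2912
theorem L2915 : sm gb N347 = N284 := ded_18_1 (flp_d L2393) (flp_b L2316) L2912
theorem L2917 : sm gf N347 = N275 := ded_31_2 (flp_d L2324) (flp_f L2320) L2912
theorem L2919 : sm gg N347 = N347 := ded_32_2 (flp_d L2912) L2322 L2912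
theorem L2920 : sm gi N347 = N347 := ded_34_2 (flp_d L2912) L2323 L2912
theorem L2921 : sm gc N275 = N348 := rfl
theorem L2923 : sm ga N348 = N348 := ded_10_1 (flp_c L2921) L2326 L2921
theorem L2924 : sm gg N348 = N296 := ded_27_2 (flp_c L2482) (flp_g L2329) L2921
theorem L2926 : sm gi N348 = N348 := ded_29_2 (flp_c L2921) L2331 L2921
theorem L2927 : sm gd N348 = N348 := ded_24_2 (flp_c L2921) (flp_d L2324) L1854 L2324 L2921
theorem L2928 : sm ge N275 = N349 := rfl
theorem L2930 : sm ga N349 = N349 := ded_12_1 (flp_e L2928) L2326 L2928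
theorem L2931 : sm gb N349 = N286 := ded_19_1 (flp_e L2406) (flp_b L2327) L2928
theorem L2933 : sm gg N349 = N297 := ded_36_2 (flp_e L2488) (flp_g L2329) L2928
theorem L2935 : sm gi N349 = N349 := ded_38_2 (flp_e L2928) L2331 L2928
theorem L2936 : sm gd N349 = N277 := ded_30_1 (flp_e L2342) (flp_d L1860) (flp_e L1855) L2324 L2928
theorem L2938 : sm ge N276 = N350 := rfl
theorem L2940 : sm ga N350 = N350 := ded_12_1 (flp_e L2938) L2334 L2938
theorem L2941 : sm gb N350 = N350 := ded_19_1 (flp_e L2938) L2340 L2938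
theorem L2942 : sm gc N350 = N277 := ded_25_1 (flp_e L2342) L2332 L2938
theorem L2944 : sm gg N350 = N298 := ded_36_2 (flp_e L2496) (flp_g L2336) L2938
theorem L2946 : sm gh N350 = N350 := ded_37_2 (flp_e L2938) L2338 L2938
theorem L2947 : sm gi N350 = N350 := ded_38_2 (flp_e L2938) L2339 L2938
theorem L2948 : sm gf N277 = N351 := rfl
theorem L2950 : sm ga N351 = N351 := ded_13_1 (flp_f L2948) L2344 L2948
theorem L2951 : sm gb N351 = N287 := ded_20_1 (flp_f L2413) (flp_b L2345) L2948
theorem L2953 : sm gh N351 = N351 := ded_40_2 (flp_f L2948) L2349 L2948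
theorem L2954 : sm gi N351 = N351 := ded_41_2 (flp_f L2948) L2350 L2948
theorem L2955 : sm ge N351 = N351 := ded_35_1 (flp_f L2948) (flp_e L2342) L1865 L2342 L2948
theorem L2956 : sm gd N278 = N352 := rfl
theorem L2958 : sm gf N352 = N352 := ded_31_2 (flp_d L2956) L2356 L2956
theorem L2959 : sm gg N352 = N352 := ded_32_2 (flp_d L2956) L2357 L2956
theorem L2960 : sm ge N352 = N352 := ded_30_2 (flp_d L2956) L2354 L1882 (flp_e L2354) L2956
theorem L2961 : sm gh N352 = N352 := ded_33_2 (flp_d L2956) (flp_h L2351) L1874 L2351 L2956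
theorem L2962 : sm gi N278 = N353 := rfl
theorem L2964 : sm gc N353 = N353 := ded_29_1 (flp_i L2962) L2353 L2962
theorem L2965 : sm ge N353 = N280 := ded_38_1 (flp_i L2366) (flp_e L2354) L2962
theorem L2967 : sm gf N353 = N353 := ded_41_1 (flp_i L2962) L2356 L2962
theorem L2968 : sm gg N353 = N353 := ded_43_1 (flp_i L2962) L2357 L2962
theorem L2969 : sm gh N279 = N354 := rfl
theorem L2971 : sm gc N354 = N354 := ded_28_1 (flp_h L2969) L2360 L2969
theorem L2972 : sm ge N354 = N281 := ded_37_1 (flp_h L2373) (flp_e L2362) L2969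
theorem L2974 : sm gf N354 = N354 := ded_40_1 (flp_h L2969) L2364 L2969
theorem L2975 : sm gg N354 = N354 := ded_42_1 (flp_h L2969) L2365 L2969
theorem L2976 : sm gh N280 = N355 := rfl
theorem L2978 : sm gc N355 = N355 := ded_28_1 (flp_h L2976) L2368 L2976
theorem L2979 : sm gf N355 = N282 := ded_40_1 (flp_h L2379) (flp_f L2370) L2976
theorem L2981 : sm gg N355 = N355 := ded_42_1 (flp_h L2976) L2372 L2976
theorem L2982 : sm gi N355 = N281 := ded_44_2 (flp_h L2373) (flp_i L1883) L1876 L2366 L2976
theorem L2984 : sm gd N281 = N356 := rfl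
theorem L2986 : sm gf N356 = N283 := ded_31_2 (flp_d L2387) (flp_f L2376) L2984
theorem L2988 : sm gg N356 = N356 := ded_32_2 (flp_d L2984) L2378 L2984
theorem L2989 : sm gh N356 = N284 := ded_33_2 (flp_d L2393) (flp_h L1904) (flp_d L1886) L2373 L2984
theorem L2991 : sm gd N282 = N357 := rfl
theorem L2993 : sm gg N357 = N300 := ded_32_2 (flp_d L2513) (flp_g L2383) L2991
theorem L2995 : sm gi N357 = N283 := ded_34_2 (flp_d L2387) (flp_i L2385) L2991
theorem L2997 : sm gh N357 = N357 := ded_33_2 (flp_d L2991) (flp_h L2379) L1894 L2379 L2991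
theorem L2998 : sm gc N283 = N358 := rfl
theorem L3000 : sm gg N358 = N301 := ded_27_2 (flp_c L2519) (flp_g L2389) L2998
theorem L3002 : sm gh N358 = N285 := ded_28_2 (flp_c L2399) (flp_h L2391) L2998
theorem L3004 : sm gd N358 = N358 := ded_24_2 (flp_c L2998) (flp_d L2387) L1900 L2387 L2998
theorem L3005 : sm ge N283 = N359 := rfl
theorem L3007 : sm gg N359 = N302 := ded_36_2 (flp_e L2525) (flp_g L2389) L3005
theorem L3009 : sm gh N359 = N286 := ded_37_2 (flp_e L2406) (flp_h L2391) L3005
theorem L3011 : sm gd N359 = N359 := ded_30_1 (flp_e L3005) (flp_d L2387) L1901 L2387 L3005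
theorem L3012 : sm gc N284 = N360 := rfl
theorem L3014 : sm gf N360 = N285 := ded_26_2 (flp_c L2399) (flp_f L2395) L3012
theorem L3016 : sm gg N360 = N360 := ded_27_2 (flp_c L3012) L2397 L3012
theorem L3017 : sm gi N360 = N360 := ded_29_2 (flp_c L3012) L2398 L3012
theorem L3018 : sm gd N360 = N288 := ded_24_2 (flp_c L2419) (flp_d L1925) (flp_c L1906) L2393 L3012
theorem L3020 : sm ge N284 = N361 := rfl
theorem L3022 : sm gg N361 = N361 := ded_36_2 (flp_e L3020) L2397 L3020
theorem L3023 : sm gi N361 = N361 := ded_38_2 (flp_e L3020) L2398 L3020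
theorem L3024 : sm gd N361 = N361 := ded_30_1 (flp_e L3020) (flp_d L2393) L1908 L2393 L3020
theorem L3025 : sm gb N285 = N362 := rfl
theorem L3027 : sm gd N362 = N290 := ded_18_2 (flp_b L2434) (flp_d L2404) L3025
theorem L3029 : sm gg N362 = N303 := ded_21_2 (flp_b L2530) (flp_g L2401) L3025
theorem L3031 : sm gi N362 = N362 := ded_23_2 (flp_b L3025) L2403 L3025
theorem L3032 : sm ge N285 = N363 := rfl
theorem L3034 : sm gc N363 = N286 := ded_25_1 (flp_e L2406) L2399 L3032
theorem L3036 : sm gg N363 = N304 := ded_36_2 (flp_e L2536) (flp_g L2401) L3032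
theorem L3038 : sm gi N363 = N363 := ded_38_2 (flp_e L3032) L2403 L3032
theorem L3039 : sm gd N363 = N363 := ded_30_1 (flp_e L3032) L2404 L1935 (flp_d L2404) L3032
theorem L3040 : sm gf N286 = N364 := rfl
theorem L3042 : sm gd N364 = N287 := ded_31_1 (flp_f L2413) (flp_d L2411) L3040
theorem L3044 : sm gi N364 = N364 := ded_41_2 (flp_f L3040) L2410 L3040
theorem L3045 : sm gg N287 = N365 := rfl
theorem L3047 : sm gc N365 = N365 := ded_27_1 (flp_g L3045) L2415 L3045
theorem L3048 : sm ge N365 = N365 := ded_36_1 (flp_g L3045) L2418 L3045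
theorem L3049 : sm gh N365 = N365 := ded_42_2 (flp_g L3045) L2416 L3045
theorem L3050 : sm gi N365 = N365 := ded_43_2 (flp_g L3045) L2417 L3045
theorem L3051 : sm gf N365 = N306 := ded_39_1 (flp_g L2548) (flp_f L2018) (flp_g L1921) L2413 L3045
theorem L3053 : sm gb N288 = N366 := rfl
theorem L3055 : sm gf N366 = N290 := ded_20_2 (flp_b L2434) (flp_f L2421) L3053
theorem L3057 : sm gg N366 = N366 := ded_21_2 (flp_b L3053) L2423 L3053
theorem L3058 : sm gh N366 = N366 := ded_22_2 (flp_b L3053) L2424 L3053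
theorem L3059 : sm gi N366 = N366 := ded_23_2 (flp_b L3053) L2425 L3053
theorem L3060 : sm gc N366 = N366 := ded_17_2 (flp_b L3053) (flp_c L2419) L1927 L2419 L3053
theorem L3061 : sm ge N288 = N367 := rfl
theorem L3063 : sm gc N367 = N289 := ded_25_1 (flp_e L2426) L2419 L3061
theorem L3065 : sm gg N367 = N367 := ded_36_2 (flp_e L3061) L2423 L3061
theorem L3066 : sm gh N367 = N367 := ded_37_2 (flp_e L3061) L2424 L3061
theorem L3067 : sm gi N367 = N367 := ded_38_2 (flp_e L3061) L2425 L3061
theorem L3068 : sm gf N367 = N367 := ded_35_2 (flp_e L3061) L2421 L1935 (flp_f L2421) L3061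
theorem L3069 : sm ga N290 = N368 := rfl
theorem L3071 : sm gc N368 = N368 := ded_10_2 (flp_a L3069) L2441 L3069
theorem L3072 : sm ge N368 = N368 := ded_12_2 (flp_a L3069) L2436 L3069
theorem L3073 : sm gg N368 = N307 := ded_14_2 (flp_a L2555) (flp_g L2437) L3069
theorem L3075 : sm gh N368 = N368 := ded_15_2 (flp_a L3069) L2439 L3069
theorem L3076 : sm gi N368 = N368 := ded_16_2 (flp_a L3069) L2440 L3069
theorem L3077 : sm ge N291 = N369 := rfl
theorem L3079 : sm ga N369 = N369 := ded_12_1 (flp_e L3077) L2444 L3077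
theorem L3080 : sm gb N369 = N369 := ded_19_1 (flp_e L3077) L2445 L3077
theorem L3081 : sm gc N369 = N369 := ded_25_1 (flp_e L3077) L2447 L3077
theorem L3082 : sm gh N369 = N369 := ded_37_2 (flp_e L3077) L2448 L3077
theorem L3083 : sm gd N369 = N369 := ded_30_1 (flp_e L3077) (flp_d L2442) L1946 L2442 L3077
theorem L3084 : sm gi N291 = N370 := rfl
theorem L3086 : sm ga N370 = N370 := ded_16_1 (flp_i L3084) L2444 L3084
theorem L3087 : sm gb N370 = N370 := ded_23_1 (flp_i L3084) L2445 L3084
theorem L3088 : sm gc N370 = N370 := ded_29_1 (flp_i L3084) L2447 L3084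
theorem L3089 : sm gd N370 = N292 := ded_34_1 (flp_i L2449) L2442 L3084
theorem L3091 : sm gf N370 = N370 := ded_41_1 (flp_i L3084) L2446 L3084
theorem L3092 : sm gh N292 = N371 := rfl
theorem L3094 : sm ga N371 = N371 := ded_15_1 (flp_h L3092) L2451 L3092
theorem L3095 : sm gb N371 = N371 := ded_22_1 (flp_h L3092) L2452 L3092
theorem L3096 : sm gc N371 = N294 := ded_28_1 (flp_h L2465) (flp_c L2453) L3092
theorem L3098 : sm ge N371 = N371 := ded_37_1 (flp_h L3092) L2455 L3092
theorem L3099 : sm gf N371 = N371 := ded_40_1 (flp_h L3092) L2456 L3092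
theorem L3100 : sm gi N371 = N293 := ded_44_2 (flp_h L2457) (flp_i L1948) L1940 L2449 L3092
theorem L3102 : sm gd N293 = N372 := rfl
theorem L3104 : sm ga N372 = N372 := ded_11_1 (flp_d L3102) L2459 L3102
theorem L3105 : sm gb N372 = N372 := ded_18_1 (flp_d L3102) L2460 L3102
theorem L3106 : sm gf N372 = N372 := ded_31_2 (flp_d L3102) L2464 L3102
theorem L3107 : sm gh N372 = N372 := ded_33_2 (flp_d L3102) (flp_h L2457) L1954 L2457 L3102
theorem L3108 : sm gd N294 = N373 := rfl
theorem L3110 : sm ga N373 = N373 := ded_11_1 (flp_d L3108) L2467 L3108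
theorem L3111 : sm gb N373 = N300 := ded_18_1 (flp_d L2513) (flp_b L2468) L3108
theorem L3113 : sm gf N373 = N373 := ded_31_2 (flp_d L3108) L2471 L3108
theorem L3114 : sm gi N373 = N295 := ded_34_2 (flp_d L2474) (flp_i L2472) L3108
theorem L3116 : sm gh N373 = N373 := ded_33_2 (flp_d L3108) (flp_h L2465) L1962 L2465 L3108
theorem L3117 : sm gc N295 = N374 := rfl
theorem L3119 : sm ga N374 = N374 := ded_10_1 (flp_c L3117) L2476 L3117
theorem L3120 : sm gf N374 = N374 := ded_26_2 (flp_c L3117) L2479 L3117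
theorem L3121 : sm gh N374 = N296 := ded_28_2 (flp_c L2482) (flp_h L2480) L3117
theorem L3123 : sm ge N295 = N375 := rfl
theorem L3125 : sm ga N375 = N375 := ded_12_1 (flp_e L3123) L2476 L3123
theorem L3126 : sm gb N375 = N302 := ded_19_1 (flp_e L2525) (flp_b L2477) L3123
theorem L3128 : sm gh N375 = N297 := ded_37_2 (flp_e L2488) (flp_h L2480) L3123
theorem L3130 : sm gd N375 = N375 := ded_30_1 (flp_e L3123) (flp_d L2474) L1970 L2474 L3123
theorem L3131 : sm gb N296 = N376 := rfl
theorem L3133 : sm gd N376 = N376 := ded_18_2 (flp_b L3131) L2487 L3131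
theorem L3134 : sm gf N376 = N376 := ded_20_2 (flp_b L3131) L2485 L3131
theorem L3135 : sm gi N376 = N376 := ded_23_2 (flp_b L3131) L2486 L3131
theorem L3136 : sm gc N376 = N303 := ded_17_2 (flp_b L2530) (flp_c L2007) (flp_b L1975) L2482 L3131
theorem L3138 : sm ge N296 = N377 := rfl
theorem L3140 : sm ga N377 = N377 := ded_12_1 (flp_e L3138) L2484 L3138
theorem L3141 : sm gc N377 = N297 := ded_25_1 (flp_e L2488) L2482 L3138
theorem L3143 : sm gi N377 = N377 := ded_38_2 (flp_e L3138) L2486 L3138
theorem L3144 : sm gf N297 = N378 := rfl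
theorem L3146 : sm ga N378 = N378 := ded_13_1 (flp_f L3144) L2490 L3144
theorem L3147 : sm gb N378 = N305 := ded_20_1 (flp_f L2542) (flp_b L2491) L3144
theorem L3149 : sm gd N378 = N299 := ded_31_1 (flp_f L2504) (flp_d L2494) L3144
theorem L3151 : sm gi N378 = N378 := ded_41_2 (flp_f L3144) L2493 L3144
theorem L3152 : sm ge N378 = N378 := ded_35_1 (flp_f L3144) (flp_e L2488) L1977 L2488 L3144
theorem L3153 : sm gd N298 = N379 := rfl
theorem L3155 : sm ga N379 = N379 := ded_11_1 (flp_d L3153) L2498 L3153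
theorem L3156 : sm gb N379 = N379 := ded_18_1 (flp_d L3153) L2499 L3153
theorem L3157 : sm gi N379 = N379 := ded_34_2 (flp_d L3153) L2503 L3153
theorem L3158 : sm ge N379 = N379 := ded_30_2 (flp_d L3153) (flp_e L2496) L1987 L2496 L3153
theorem L3159 : sm gf N298 = N380 := rfl
theorem L3161 : sm ga N380 = N380 := ded_13_1 (flp_f L3159) L2498 L3159
theorem L3162 : sm gb N380 = N380 := ded_20_1 (flp_f L3159) L2499 L3159
theorem L3163 : sm gc N380 = N299 := ded_26_1 (flp_f L2504) (flp_c L2500) L3159
theorem L3165 : sm gh N380 = N380 := ded_40_2 (flp_f L3159) L2502 L3159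
theorem L3166 : sm gi N380 = N380 := ded_41_2 (flp_f L3159) L2503 L3159
theorem L3167 : sm ge N380 = N309 := ded_35_1 (flp_f L2570) (flp_e L2032) (flp_f L1982) L2496 L3159
theorem L3169 : sm gg N299 = N381 := rfl
theorem L3171 : sm ga N381 = N381 := ded_14_1 (flp_g L3169) L2506 L3169
theorem L3172 : sm gb N381 = N306 := ded_21_1 (flp_g L2548) (flp_b L2507) L3169
theorem L3174 : sm ge N381 = N310 := ded_36_1 (flp_g L2578) (flp_e L2511) L3169
theorem L3176 : sm gh N381 = N381 := ded_42_2 (flp_g L3169) L2509 L3169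
theorem L3177 : sm gi N381 = N381 := ded_43_2 (flp_g L3169) L2510 L3169
theorem L3178 : sm gc N300 = N382 := rfl
theorem L3180 : sm gf N382 = N382 := ded_26_2 (flp_c L3178) L2515 L3178
theorem L3181 : sm gh N382 = N382 := ded_28_2 (flp_c L3178) L2518 L3178
theorem L3182 : sm gi N382 = N301 := ded_29_2 (flp_c L2519) (flp_i L2516) L3178
theorem L3184 : sm gd N382 = N382 := ded_24_2 (flp_c L3178) (flp_d L2513) L1997 L2513 L3178
theorem L3185 : sm ge N300 = N383 := rfl
theorem L3187 : sm gh N383 = N383 := ded_37_2 (flp_e L3185) L2518 L3185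
theorem L3188 : sm gi N383 = N302 := ded_38_2 (flp_e L2525) (flp_i L2516) L3185
theorem L3190 : sm gd N383 = N383 := ded_30_1 (flp_e L3185) (flp_d L2513) L1998 L2513 L3185
theorem L3191 : sm gb N301 = N384 := rfl
theorem L3193 : sm gd N384 = N384 := ded_18_2 (flp_b L3191) L2524 L3191
theorem L3194 : sm gf N384 = N384 := ded_20_2 (flp_b L3191) L2521 L3191
theorem L3195 : sm gh N384 = N303 := ded_22_2 (flp_b L2530) (flp_h L2522) L3191
theorem L3197 : sm ge N301 = N385 := rfl
theorem L3199 : sm gc N385 = N302 := ded_25_1 (flp_e L2525) L2519 L3197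
theorem L3201 : sm gh N385 = N304 := ded_37_2 (flp_e L2536) (flp_h L2522) L3197
theorem L3203 : sm gf N302 = N386 := rfl
theorem L3205 : sm gd N386 = N386 := ded_31_1 (flp_f L3203) L2529 L3203
theorem L3206 : sm gh N386 = N305 := ded_40_2 (flp_f L2542) (flp_h L2527) L3203
theorem L3208 : sm ge N386 = N386 := ded_35_1 (flp_f L3203) (flp_e L2525) L2004 L2525 L3203
theorem L3209 : sm ga N303 = N387 := rfl
theorem L3211 : sm gd N387 = N307 := ded_11_2 (flp_a L2555) (flp_d L2532) L3209
theorem L3213 : sm gf N387 = N387 := ded_13_2 (flp_a L3209) L2534 L3209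
theorem L3214 : sm gi N387 = N387 := ded_16_2 (flp_a L3209) L2535 L3209
theorem L3215 : sm ge N303 = N388 := rfl
theorem L3217 : sm gb N388 = N304 := ded_19_1 (flp_e L2536) L2530 L3215
theorem L3219 : sm gi N388 = N388 := ded_38_2 (flp_e L3215) L2535 L3215
theorem L3220 : sm gd N388 = N388 := ded_30_1 (flp_e L3215) L2532 L2027 (flp_d L2532) L3215
theorem L3221 : sm gf N304 = N389 := rfl
theorem L3223 : sm gc N389 = N305 := ded_26_1 (flp_f L2542) (flp_c L2538) L3221
theorem L3225 : sm gd N389 = N389 := ded_31_1 (flp_f L3221) L2541 L3221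
theorem L3226 : sm gi N389 = N389 := ded_41_2 (flp_f L3221) L2540 L3221
theorem L3227 : sm ge N389 = N389 := ded_35_1 (flp_f L3221) (flp_e L2536) L2009 L2536 L3221
theorem L3228 : sm gg N305 = N390 := rfl
theorem L3230 : sm gd N390 = N306 := ded_32_1 (flp_g L2548) (flp_d L2544) L3228
theorem L3232 : sm ge N390 = N390 := ded_36_1 (flp_g L3228) L2547 L3228
theorem L3233 : sm gi N390 = N390 := ded_43_2 (flp_g L3228) L2546 L3228
theorem L3234 : sm gf N308 = N391 := rfl
theorem L3236 : sm ga N391 = N391 := ded_13_1 (flp_f L3234) L2564 L3234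
theorem L3237 : sm gb N391 = N391 := ded_20_1 (flp_f L3234) L2565 L3234
theorem L3238 : sm gc N391 = N391 := ded_26_1 (flp_f L3234) L2568 L3234
theorem L3239 : sm gd N391 = N309 := ded_31_1 (flp_f L2570) L2562 L3234
theorem L3241 : sm gi N391 = N391 := ded_41_2 (flp_f L3234) L2567 L3234
theorem L3242 : sm gh N308 = N392 := rfl
theorem L3244 : sm ga N392 = N392 := ded_15_1 (flp_h L3242) L2564 L3242
theorem L3245 : sm gb N392 = N392 := ded_22_1 (flp_h L3242) L2565 L3242
theorem L3246 : sm gc N392 = N392 := ded_28_1 (flp_h L3242) L2568 L3242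
theorem L3247 : sm ge N392 = N392 := ded_37_1 (flp_h L3242) L2569 L3242
theorem L3248 : sm gg N392 = N392 := ded_42_1 (flp_h L3242) L2566 L3242
theorem L3249 : sm gd N392 = N392 := ded_33_1 (flp_h L3242) (flp_d L2562) L2039 L2562 L3242
theorem L3250 : sm gg N309 = N393 := rfl
theorem L3252 : sm ga N393 = N393 := ded_14_1 (flp_g L3250) L2572 L3250
theorem L3253 : sm gb N393 = N393 := ded_21_1 (flp_g L3250) L2573 L3250
theorem L3254 : sm gc N393 = N310 := ded_27_1 (flp_g L2578) (flp_c L2574) L3250
theorem L3256 : sm gh N393 = N393 := ded_42_2 (flp_g L3250) L2576 L3250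
theorem L3257 : sm gi N393 = N393 := ded_43_2 (flp_g L3250) L2577 L3250
theorem L3258 : sm gf N393 = N393 := ded_39_1 (flp_g L3250) (flp_f L2570) L2038 L2570 L3250
theorem L3259 : sm gc N311 = N394 := rfl
theorem L3261 : sm ga N394 = N394 := ded_10_1 (flp_c L3259) L2589 L3259
theorem L3262 : sm gf N394 = N312 := ded_26_2 (flp_c L2597) (flp_f L2592) L3259
theorem L3264 : sm gg N394 = N394 := ded_27_2 (flp_c L3259) L2594 L3259
theorem L3265 : sm gh N394 = N394 := ded_28_2 (flp_c L3259) L2596 L3259
theorem L3266 : sm gi N394 = N394 := ded_29_2 (flp_c L3259) L2595 L3259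
theorem L3267 : sm gd N394 = N394 := ded_24_2 (flp_c L3259) (flp_d L2587) L2061 L2587 L3259
theorem L3268 : sm ge N311 = N395 := rfl
theorem L3270 : sm ga N395 = N395 := ded_12_1 (flp_e L3268) L2589 L3268
theorem L3271 : sm gb N395 = N325 := ded_19_1 (flp_e L2721) (flp_b L2590) L3268
theorem L3273 : sm gg N395 = N395 := ded_36_2 (flp_e L3268) L2594 L3268
theorem L3274 : sm gh N395 = N395 := ded_37_2 (flp_e L3268) L2596 L3268
theorem L3275 : sm gi N395 = N395 := ded_38_2 (flp_e L3268) L2595 L3268
theorem L3276 : sm gd N395 = N395 := ded_30_1 (flp_e L3268) (flp_d L2587) L2062 L2587 L3268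
theorem L3277 : sm gf N395 = N395 := ded_35_2 (flp_e L3268) L2592 L2075 (flp_f L2592) L3268
theorem L3278 : sm gb N312 = N396 := rfl
theorem L3280 : sm gd N396 = N396 := ded_18_2 (flp_b L3278) L2605 L3278
theorem L3281 : sm ge N396 = N396 := ded_19_2 (flp_b L3278) L2600 L3278
theorem L3282 : sm gg N396 = N313 := ded_21_2 (flp_b L2606) (flp_g L2601) L3278
theorem L3284 : sm gh N396 = N396 := ded_22_2 (flp_b L3278) L2603 L3278
theorem L3285 : sm gi N396 = N396 := ded_23_2 (flp_b L3278) L2604 L3278
theorem L3286 : sm gc N396 = N326 := ded_17_2 (flp_b L2730) (flp_c L2173) (flp_b L2070) L2597 L3278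
theorem L3288 : sm ga N313 = N397 := rfl
theorem L3290 : sm gc N397 = N334 := ded_10_2 (flp_a L2796) (flp_c L2613) L3288
theorem L3292 : sm gd N397 = N397 := ded_11_2 (flp_a L3288) L2608 L3288
theorem L3293 : sm ge N397 = N397 := ded_12_2 (flp_a L3288) L2609 L3288
theorem L3294 : sm gf N397 = N397 := ded_13_2 (flp_a L3288) L2610 L3288
theorem L3295 : sm gh N397 = N397 := ded_15_2 (flp_a L3288) L2611 L3288
theorem L3296 : sm gi N397 = N397 := ded_16_2 (flp_a L3288) L2612 L3288
theorem L3297 : sm gb N397 = N397 := ded_9_2 (flp_a L3288) (flp_b L2606) L2079 L2606 L3288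
theorem L3298 : sm gd N314 = N398 := rfl
theorem L3300 : sm ga N398 = N352 := ded_11_1 (flp_d L2956) (flp_a L2617) L3298
theorem L3302 : sm gb N398 = N398 := ded_18_1 (flp_d L3298) L2619 L3298
theorem L3303 : sm gf N398 = N398 := ded_31_2 (flp_d L3298) L2623 L3298
theorem L3304 : sm gg N398 = N398 := ded_32_2 (flp_d L3298) L2624 L3298
theorem L3305 : sm ge N398 = N398 := ded_30_2 (flp_d L3298) L2621 L2103 (flp_e L2621) L3298
theorem L3306 : sm gh N398 = N398 := ded_33_2 (flp_d L3298) (flp_h L2615) L2092 L2615 L3298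
theorem L3307 : sm gi N314 = N399 := rfl
theorem L3309 : sm ga N399 = N353 := ded_16_1 (flp_i L2962) (flp_a L2617) L3307
theorem L3311 : sm gb N399 = N399 := ded_23_1 (flp_i L3307) L2619 L3307
theorem L3312 : sm gc N399 = N399 := ded_29_1 (flp_i L3307) L2620 L3307
theorem L3313 : sm ge N399 = N316 := ded_38_1 (flp_i L2636) (flp_e L2621) L3307
theorem L3315 : sm gf N399 = N399 := ded_41_1 (flp_i L3307) L2623 L3307
theorem L3316 : sm gg N399 = N399 := ded_43_1 (flp_i L3307) L2624 L3307
theorem L3317 : sm gh N315 = N400 := rfl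
theorem L3319 : sm ga N400 = N354 := ded_15_1 (flp_h L2969) (flp_a L2627) L3317
theorem L3321 : sm gb N400 = N400 := ded_22_1 (flp_h L3317) L2629 L3317
theorem L3322 : sm gc N400 = N400 := ded_28_1 (flp_h L3317) L2630 L3317
theorem L3323 : sm ge N400 = N317 := ded_37_1 (flp_h L2646) (flp_e L2632) L3317
theorem L3325 : sm gf N400 = N400 := ded_40_1 (flp_h L3317) L2634 L3317
theorem L3326 : sm gg N400 = N400 := ded_42_1 (flp_h L3317) L2635 L3317
theorem L3327 : sm gh N316 = N401 := rfl
theorem L3329 : sm ga N401 = N355 := ded_15_1 (flp_h L2976) (flp_a L2638) L3327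
theorem L3331 : sm gb N401 = N401 := ded_22_1 (flp_h L3327) L2640 L3327
theorem L3332 : sm gc N401 = N401 := ded_28_1 (flp_h L3327) L2641 L3327
theorem L3333 : sm gf N401 = N318 := ded_40_1 (flp_h L2655) (flp_f L2643) L3327
theorem L3335 : sm gg N401 = N401 := ded_42_1 (flp_h L3327) L2645 L3327
theorem L3336 : sm gi N401 = N317 := ded_44_2 (flp_h L2646) (flp_i L2104) L2094 L2636 L3327
theorem L3338 : sm gd N317 = N402 := rfl
theorem L3340 : sm ga N402 = N356 := ded_11_1 (flp_d L2984) (flp_a L2648) L3338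
theorem L3342 : sm gb N402 = N402 := ded_18_1 (flp_d L3338) L2650 L3338
theorem L3343 : sm gf N402 = N319 := ded_31_2 (flp_d L2666) (flp_f L2652) L3338
theorem L3345 : sm gg N402 = N402 := ded_32_2 (flp_d L3338) L2654 L3338
theorem L3346 : sm gh N402 = N320 := ded_33_2 (flp_d L2675) (flp_h L2134) (flp_d L2110) L2646 L3338
theorem L3348 : sm gd N318 = N403 := rfl
theorem L3350 : sm ga N403 = N357 := ded_11_1 (flp_d L2991) (flp_a L2657) L3348
theorem L3352 : sm gb N403 = N403 := ded_18_1 (flp_d L3348) L2659 L3348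
theorem L3353 : sm gg N403 = N327 := ded_32_2 (flp_d L2737) (flp_g L2662) L3348
theorem L3355 : sm gi N403 = N319 := ded_34_2 (flp_d L2666) (flp_i L2664) L3348
theorem L3357 : sm gh N403 = N403 := ded_33_2 (flp_d L3348) (flp_h L2655) L2121 L2655 L3348
theorem L3358 : sm gc N319 = N404 := rfl
theorem L3360 : sm ga N404 = N358 := ded_10_1 (flp_c L2998) (flp_a L2668) L3358
theorem L3362 : sm gg N404 = N328 := ded_27_2 (flp_c L2746) (flp_g L2671) L3358
theorem L3364 : sm gh N404 = N321 := ded_28_2 (flp_c L2684) (flp_h L2673) L3358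
theorem L3366 : sm gd N404 = N404 := ded_24_2 (flp_c L3358) (flp_d L2666) L2130 L2666 L3358
theorem L3367 : sm ge N319 = N405 := rfl
theorem L3369 : sm ga N405 = N359 := ded_12_1 (flp_e L3005) (flp_a L2668) L3367
theorem L3371 : sm gb N405 = N405 := ded_19_1 (flp_e L3367) L2670 L3367
theorem L3372 : sm gg N405 = N329 := ded_36_2 (flp_e L2754) (flp_g L2671) L3367
theorem L3374 : sm gh N405 = N322 := ded_37_2 (flp_e L2693) (flp_h L2673) L3367
theorem L3376 : sm gd N405 = N405 := ded_30_1 (flp_e L3367) (flp_d L2666) L2131 L2666 L3367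
theorem L3377 : sm gc N320 = N406 := rfl
theorem L3379 : sm ga N406 = N360 := ded_10_1 (flp_c L3012) (flp_a L2677) L3377
theorem L3381 : sm gf N406 = N321 := ded_26_2 (flp_c L2684) (flp_f L2680) L3377
theorem L3383 : sm gg N406 = N406 := ded_27_2 (flp_c L3377) L2682 L3377
theorem L3384 : sm gi N406 = N406 := ded_29_2 (flp_c L3377) L2683 L3377
theorem L3385 : sm gd N406 = N324 := ded_24_2 (flp_c L2712) (flp_d L2164) (flp_c L2139) L2675 L3377
theorem L3387 : sm ge N320 = N407 := rfl
theorem L3389 : sm ga N407 = N361 := ded_12_1 (flp_e L3020) (flp_a L2677) L3387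
theorem L3391 : sm gb N407 = N407 := ded_19_1 (flp_e L3387) L2679 L3387
theorem L3392 : sm gg N407 = N407 := ded_36_2 (flp_e L3387) L2682 L3387
theorem L3393 : sm gi N407 = N407 := ded_38_2 (flp_e L3387) L2683 L3387
theorem L3394 : sm gd N407 = N407 := ded_30_1 (flp_e L3387) (flp_d L2675) L2141 L2675 L3387
theorem L3395 : sm gb N321 = N408 := rfl
theorem L3397 : sm gd N408 = N326 := ded_18_2 (flp_b L2730) (flp_d L2691) L3395
theorem L3399 : sm gg N408 = N330 := ded_21_2 (flp_b L2762) (flp_g L2688) L3395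
theorem L3401 : sm gi N408 = N408 := ded_23_2 (flp_b L3395) L2690 L3395
theorem L3402 : sm gc N408 = N408 := ded_17_2 (flp_b L3395) (flp_c L2684) L2150 L2684 L3395
theorem L3403 : sm ge N321 = N409 := rfl
theorem L3405 : sm ga N409 = N363 := ded_12_1 (flp_e L3032) (flp_a L2686) L3403
theorem L3407 : sm gc N409 = N322 := ded_25_1 (flp_e L2693) L2684 L3403
theorem L3409 : sm gg N409 = N331 := ded_36_2 (flp_e L2769) (flp_g L2688) L3403
theorem L3411 : sm gi N409 = N409 := ded_38_2 (flp_e L3403) L2690 L3403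
theorem L3412 : sm gd N409 = N409 := ded_30_1 (flp_e L3403) L2691 L2177 (flp_d L2691) L3403
theorem L3413 : sm gf N322 = N410 := rfl
theorem L3415 : sm ga N410 = N364 := ded_13_1 (flp_f L3040) (flp_a L2695) L3413
theorem L3417 : sm gb N410 = N410 := ded_20_1 (flp_f L3413) L2697 L3413
theorem L3418 : sm gd N410 = N323 := ded_31_1 (flp_f L2703) (flp_d L2701) L3413
theorem L3420 : sm gi N410 = N410 := ded_41_2 (flp_f L3413) L2700 L3413
theorem L3421 : sm gg N323 = N411 := rfl
theorem L3423 : sm ga N411 = N365 := ded_14_1 (flp_g L3045) (flp_a L2705) L3421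
theorem L3425 : sm gb N411 = N411 := ded_21_1 (flp_g L3421) L2707 L3421
theorem L3426 : sm gc N411 = N411 := ded_27_1 (flp_g L3421) L2708 L3421
theorem L3427 : sm ge N411 = N411 := ded_36_1 (flp_g L3421) L2711 L3421
theorem L3428 : sm gh N411 = N411 := ded_42_2 (flp_g L3421) L2709 L3421
theorem L3429 : sm gi N411 = N411 := ded_43_2 (flp_g L3421) L2710 L3421
theorem L3430 : sm gf N411 = N333 := ded_39_1 (flp_g L2786) (flp_f L2216) (flp_g L2160) L2703 L3421
theorem L3432 : sm gb N324 = N412 := rfl
theorem L3434 : sm gf N412 = N326 := ded_20_2 (flp_b L2730) (flp_f L2716) L3432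
theorem L3436 : sm gg N412 = N412 := ded_21_2 (flp_b L3432) L2718 L3432
theorem L3437 : sm gh N412 = N412 := ded_22_2 (flp_b L3432) L2719 L3432
theorem L3438 : sm gi N412 = N412 := ded_23_2 (flp_b L3432) L2720 L3432
theorem L3439 : sm ge N324 = N413 := rfl
theorem L3441 : sm ga N413 = N367 := ded_12_1 (flp_e L3061) (flp_a L2714) L3439
theorem L3443 : sm gc N413 = N325 := ded_25_1 (flp_e L2721) L2712 L3439
theorem L3445 : sm gg N413 = N413 := ded_36_2 (flp_e L3439) L2718 L3439
theorem L3446 : sm gh N413 = N413 := ded_37_2 (flp_e L3439) L2719 L3439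
theorem L3447 : sm gi N413 = N413 := ded_38_2 (flp_e L3439) L2720 L3439
theorem L3448 : sm gf N413 = N413 := ded_35_2 (flp_e L3439) L2716 L2177 (flp_f L2716) L3439
theorem L3449 : sm ga N326 = N414 := rfl
theorem L3451 : sm ge N414 = N414 := ded_12_2 (flp_a L3449) L2732 L3449
theorem L3452 : sm gg N414 = N334 := ded_14_2 (flp_a L2796) (flp_g L2733) L3449
theorem L3454 : sm gh N414 = N414 := ded_15_2 (flp_a L3449) L2735 L3449
theorem L3455 : sm gi N414 = N414 := ded_16_2 (flp_a L3449) L2736 L3449
theorem L3456 : sm gb N414 = N368 := ded_9_2 (flp_a L3069) (flp_b L2434) (flp_a L2175) L2730 L3449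
theorem L3458 : sm gc N327 = N415 := rfl
theorem L3460 : sm ga N415 = N382 := ded_10_1 (flp_c L3178) (flp_a L2739) L3458
theorem L3462 : sm gf N415 = N415 := ded_26_2 (flp_c L3458) L2742 L3458
theorem L3463 : sm gh N415 = N415 := ded_28_2 (flp_c L3458) L2745 L3458
theorem L3464 : sm gi N415 = N328 := ded_29_2 (flp_c L2746) (flp_i L2743) L3458
theorem L3466 : sm gd N415 = N415 := ded_24_2 (flp_c L3458) (flp_d L2737) L2187 L2737 L3458
theorem L3467 : sm ge N327 = N416 := rfl
theorem L3469 : sm ga N416 = N383 := ded_12_1 (flp_e L3185) (flp_a L2739) L3467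
theorem L3471 : sm gb N416 = N416 := ded_19_1 (flp_e L3467) L2741 L3467
theorem L3472 : sm gh N416 = N416 := ded_37_2 (flp_e L3467) L2745 L3467
theorem L3473 : sm gi N416 = N329 := ded_38_2 (flp_e L2754) (flp_i L2743) L3467
theorem L3475 : sm gd N416 = N416 := ded_30_1 (flp_e L3467) (flp_d L2737) L2188 L2737 L3467
theorem L3476 : sm gb N328 = N417 := rfl
theorem L3478 : sm gd N417 = N417 := ded_18_2 (flp_b L3476) L2753 L3476
theorem L3479 : sm gf N417 = N417 := ded_20_2 (flp_b L3476) L2750 L3476
theorem L3480 : sm gh N417 = N330 := ded_22_2 (flp_b L2762) (flp_h L2751) L3476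
theorem L3482 : sm gc N417 = N417 := ded_17_2 (flp_b L3476) (flp_c L2746) L2196 L2746 L3476
theorem L3483 : sm ge N328 = N418 := rfl
theorem L3485 : sm ga N418 = N385 := ded_12_1 (flp_e L3197) (flp_a L2748) L3483
theorem L3487 : sm gc N418 = N329 := ded_25_1 (flp_e L2754) L2746 L3483
theorem L3489 : sm gh N418 = N331 := ded_37_2 (flp_e L2769) (flp_h L2751) L3483
theorem L3491 : sm gf N329 = N419 := rfl
theorem L3493 : sm ga N419 = N386 := ded_13_1 (flp_f L3203) (flp_a L2756) L3491
theorem L3495 : sm gb N419 = N419 := ded_20_1 (flp_f L3491) L2758 L3491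
theorem L3496 : sm gd N419 = N419 := ded_31_1 (flp_f L3491) L2761 L3491
theorem L3497 : sm gh N419 = N332 := ded_40_2 (flp_f L2777) (flp_h L2759) L3491
theorem L3499 : sm ge N419 = N419 := ded_35_1 (flp_f L3491) (flp_e L2754) L2197 L2754 L3491
theorem L3500 : sm ga N330 = N420 := rfl
theorem L3502 : sm gc N420 = N420 := ded_10_2 (flp_a L3500) L2768 L3500
theorem L3503 : sm gd N420 = N334 := ded_11_2 (flp_a L2796) (flp_d L2764) L3500
theorem L3505 : sm gf N420 = N420 := ded_13_2 (flp_a L3500) L2766 L3500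
theorem L3506 : sm gi N420 = N420 := ded_16_2 (flp_a L3500) L2767 L3500
theorem L3507 : sm gb N420 = N387 := ded_9_2 (flp_a L3209) (flp_b L2530) (flp_a L2202) L2762 L3500
theorem L3509 : sm ge N330 = N421 := rfl
theorem L3511 : sm gb N421 = N331 := ded_19_1 (flp_e L2769) L2762 L3509
theorem L3513 : sm gc N421 = N421 := ded_25_1 (flp_e L3509) L2768 L3509

end Cfsg.Agent.Helper28.FiaA
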