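import Cfsg.Agent.Helper28.FiaB0

/-! # The Fi₂₂ presentation, cosets of the subgroup generated by a, c, d, e, f, g, h, i, (abcdeh)⁵: the coset enumeration, part 1 (helper28; generated) -/

set_option autoImplicit false

noncomputable section

namespace Cfsg.Agent.Helper28.FiaA

open Cfsg.Agent.Helper28.CosetTable

theorem L3514 : sm gi N421 = N421 := ded_38_2 (flp_e L3509) L2767 L3509
theorem L3515 : sm gd N421 = N421 := ded_30_1 (flp_e L3509) L2764 L2228 (flp_d L2764) L3509
theorem L3516 : sm gf N331 = N422 := rfl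
theorem L3518 : sm ga N422 = N389 := ded_13_1 (flp_f L3221) (flp_a L2771) L3516
theorem L3520 : sm gc N422 = N332 := ded_26_1 (flp_f L2777) (flp_c L2773) L3516
theorem L3522 : sm gd N422 = N422 := ded_31_1 (flp_f L3516) L2776 L3516
theorem L3523 : sm gi N422 = N422 := ded_41_2 (flp_f L3516) L2775 L3516
theorem L3524 : sm ge N422 = N422 := ded_35_1 (flp_f L3516) (flp_e L2769) L2204 L2769 L3516
theorem L3525 : sm gg N332 = N423 := rfl
theorem L3527 : sm ga N423 = N390 := ded_14_1 (flp_g L3228) (flp_a L2779) L3525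
theorem L3529 : sm gb N423 = N423 := ded_21_1 (flp_g L3525) L2781 L3525
theorem L3530 : sm gd N423 = N333 := ded_32_1 (flp_g L2786) (flp_d L2782) L3525
theorem L3532 : sm ge N423 = N423 := ded_36_1 (flp_g L3525) L2785 L3525
theorem L3533 : sm gi N423 = N423 := ded_43_2 (flp_g L3525) L2784 L3525
theorem L3534 : sm gd N335 = N424 := rfl
theorem L3536 : sm ga N424 = N424 := ded_11_1 (flp_d L3534) L2806 L3534
theorem L3537 : sm gb N424 = N424 := ded_18_1 (flp_d L3534) L2807 L3534
theorem L3538 : sm gf N424 = N424 := ded_31_2 (flp_d L3534) L2811 L3534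
theorem L3539 : sm gg N424 = N424 := ded_32_2 (flp_d L3534) L2810 L3534
theorem L3540 : sm gc N424 = N424 := ded_24_1 (flp_d L3534) L2808 L2275 (flp_c L2808) L3534
theorem L3541 : sm ge N424 = N424 := ded_30_2 (flp_d L3534) (flp_e L2804) L2248 L2804 L3534
theorem L3542 : sm gh N424 = N424 := ded_46_7 L3538 L3541 (flp_d L3534) L2808 L2272 (flp_a L2087) L2615 L2623 L2621 L2103 L2099 L2098 L2096 (flp_h L1876) (flp_f L1488) L1167 (flp_d L1162) L894 L647 (flp_a L823) L827 L1072 L1078 L1076 (flp_c L1348) L1347 L1345 L1172 (flp_f L1168) (flp_e L892) L644 (flp_c L638) L437 (flp_a L580) L585 L582 L821 L828 (flp_c L1056) L1055 L1053 L898 L1168 L1173 (flp_d L1491) L1490 (flp_b L1815) L1814 L2277 L2282 L1825 L1828 (flp_c L2254) L2253 L2252 (flp_h L2250) L2242 L2804 L3534 L3540 L3537 L3536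
theorem L3543 : sm gh N335 = N425 := rfl
theorem L3545 : sm ga N425 = N425 := ded_15_1 (flp_h L3543) L2806 L3543
theorem L3546 : sm gb N425 = N425 := ded_22_1 (flp_h L3543) L2807 L3543
theorem L3547 : sm gc N425 = N341 := ded_28_1 (flp_h L2857) (flp_c L2808) L3543
theorem L3549 : sm ge N425 = N336 := ded_37_1 (flp_h L2812) L2804 L3543
theorem L3551 : sm gf N425 = N425 := ded_40_1 (flp_h L3543) L2811 L3543
theorem L3552 : sm gg N425 = N425 := ded_42_1 (flp_h L3543) L2810 L3543
theorem L3553 : sm gd N425 = N425 := ded_33_1 (flp_h L3543) L3534 L3542 (flp_d L3534) L3543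
theorem L3554 : sm gi N335 = N426 := rfl
theorem L3556 : sm ga N426 = N426 := ded_16_1 (flp_i L3554) L2806 L3554
theorem L3557 : sm gb N426 = N426 := ded_23_1 (flp_i L3554) L2807 L3554
theorem L3558 : sm gc N426 = N342 := ded_29_1 (flp_i L2866) (flp_c L2808) L3554
theorem L3560 : sm ge N426 = N337 := ded_38_1 (flp_i L2821) L2804 L3554
theorem L3562 : sm gf N426 = N426 := ded_41_1 (flp_i L3554) L2811 L3554
theorem L3563 : sm gg N426 = N426 := ded_43_1 (flp_i L3554) L2810 L3554
theorem L3564 : sm gd N336 = N427 := rfl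
theorem L3566 : sm ga N427 = N427 := ded_11_1 (flp_d L3564) L2814 L3564
theorem L3567 : sm gb N427 = N427 := ded_18_1 (flp_d L3564) L2815 L3564
theorem L3568 : sm gf N427 = N338 := ded_31_2 (flp_d L2831) (flp_f L2818) L3564
theorem L3570 : sm gg N427 = N427 := ded_32_2 (flp_d L3564) L2820 L3564
theorem L3571 : sm gc N427 = N427 := ded_24_1 (flp_d L3564) L2816 L2285 (flp_c L2816) L3564
theorem L3572 : sm ge N427 = N427 := ded_30_2 (flp_d L3564) (flp_e L3549) L3553 L3549 L3564
theorem L3573 : sm gh N427 = N427 := ded_33_2 (flp_d L3564) (flp_h L2812) L2248 L2812 L3564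
theorem L3574 : sm gi N336 = N428 := rfl
theorem L3576 : sm ga N428 = N428 := ded_16_1 (flp_i L3574) L2814 L3574
theorem L3577 : sm gb N428 = N428 := ded_23_1 (flp_i L3574) L2815 L3574
theorem L3578 : sm gc N428 = N343 := ded_29_1 (flp_i L2876) (flp_c L2816) L3574
theorem L3580 : sm gf N428 = N339 := ded_41_1 (flp_i L2839) (flp_f L2818) L3574
theorem L3582 : sm gg N428 = N428 := ded_43_1 (flp_i L3574) L2820 L3574
theorem L3583 : sm gh N337 = N429 := rfl
theorem L3585 : sm ga N429 = N429 := ded_15_1 (flp_h L3583) L2823 L3583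
theorem L3586 : sm gb N429 = N429 := ded_22_1 (flp_h L3583) L2824 L3583
theorem L3587 : sm gc N429 = N344 := ded_28_1 (flp_h L2885) (flp_c L2825) L3583
theorem L3589 : sm gf N429 = N340 := ded_40_1 (flp_h L2848) (flp_f L2828) L3583
theorem L3591 : sm gg N429 = N429 := ded_42_1 (flp_h L3583) L2830 L3583
theorem L3592 : sm ge N338 = N430 := rfl
theorem L3594 : sm ga N430 = N430 := ded_12_1 (flp_e L3592) L2833 L3592
theorem L3595 : sm gb N430 = N430 := ded_19_1 (flp_e L3592) L2834 L3592
theorem L3596 : sm gc N430 = N430 := ded_25_1 (flp_e L3592) L2837 L3592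
theorem L3597 : sm gg N430 = N369 := ded_36_2 (flp_e L3077) (flp_g L2835) L3592
theorem L3599 : sm gh N430 = N430 := ded_37_2 (flp_e L3592) L2838 L3592
theorem L3600 : sm gd N430 = N430 := ded_30_1 (flp_e L3592) (flp_d L2831) L2256 L2831 L3592
theorem L3601 : sm gf N430 = N430 := ded_35_2 (flp_e L3592) (flp_f L3568) L3572 L3568 L3592
theorem L3602 : sm gi N338 = N431 := rfl
theorem L3604 : sm ga N431 = N431 := ded_16_1 (flp_i L3602) L2833 L3602
theorem L3605 : sm gb N431 = N431 := ded_23_1 (flp_i L3602) L2834 L3602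
theorem L3606 : sm gc N431 = N431 := ded_29_1 (flp_i L3602) L2837 L3602
theorem L3607 : sm gd N431 = N339 := ded_34_1 (flp_i L2839) L2831 L3602
theorem L3609 : sm gg N431 = N370 := ded_43_1 (flp_i L3084) (flp_g L2835) L3602
theorem L3611 : sm gh N339 = N432 := rfl
theorem L3613 : sm ga N432 = N432 := ded_15_1 (flp_h L3611) L2841 L3611
theorem L3614 : sm gb N432 = N432 := ded_22_1 (flp_h L3611) L2842 L3611
theorem L3615 : sm gc N432 = N345 := ded_28_1 (flp_h L2893) (flp_c L2843) L3611
theorem L3617 : sm ge N432 = N432 := ded_37_1 (flp_h L3611) L2845 L3611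
theorem L3618 : sm gg N432 = N371 := ded_42_1 (flp_h L3092) (flp_g L2846) L3611
theorem L3620 : sm gi N432 = N340 := ded_44_2 (flp_h L2848) (flp_i L2259) L2250 L2839 L3611
theorem L3622 : sm gd N340 = N433 := rfl
theorem L3624 : sm ga N433 = N433 := ded_11_1 (flp_d L3622) L2850 L3622
theorem L3625 : sm gb N433 = N433 := ded_18_1 (flp_d L3622) L2851 L3622
theorem L3626 : sm gg N433 = N372 := ded_32_2 (flp_d L3102) (flp_g L2855) L3622
theorem L3628 : sm gh N433 = N433 := ded_33_2 (flp_d L3622) (flp_h L2848) L2265 L2848 L3622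
theorem L3629 : sm gd N341 = N434 := rfl
theorem L3631 : sm ga N434 = N434 := ded_11_1 (flp_d L3629) L2859 L3629
theorem L3632 : sm gb N434 = N352 := ded_18_1 (flp_d L2956) (flp_b L2860) L3629
theorem L3634 : sm gf N434 = N434 := ded_31_2 (flp_d L3629) L2864 L3629
theorem L3635 : sm gg N434 = N434 := ded_32_2 (flp_d L3629) L2865 L3629
theorem L3636 : sm gc N434 = N434 := ded_24_1 (flp_d L3629) (flp_c L3547) L3553 L3547 L3629
theorem L3637 : sm ge N434 = N434 := ded_30_2 (flp_d L3629) L2862 L2285 (flp_e L2862) L3629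
theorem L3638 : sm gh N434 = N434 := ded_33_2 (flp_d L3629) (flp_h L2857) L2275 L2857 L3629
theorem L3639 : sm gi N341 = N435 := rfl
theorem L3641 : sm ga N435 = N435 := ded_16_1 (flp_i L3639) L2859 L3639
theorem L3642 : sm gb N435 = N353 := ded_23_1 (flp_i L2962) (flp_b L2860) L3639
theorem L3644 : sm ge N435 = N343 := ded_38_1 (flp_i L2876) (flp_e L2862) L3639
theorem L3646 : sm gf N435 = N435 := ded_41_1 (flp_i L3639) L2864 L3639
theorem L3647 : sm gg N435 = N435 := ded_43_1 (flp_i L3639) L2865 L3639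
theorem L3648 : sm gh N342 = N436 := rfl
theorem L3650 : sm ga N436 = N436 := ded_15_1 (flp_h L3648) L2868 L3648
theorem L3651 : sm gb N436 = N354 := ded_22_1 (flp_h L2969) (flp_b L2869) L3648
theorem L3653 : sm ge N436 = N344 := ded_37_1 (flp_h L2885) (flp_e L2872) L3648
theorem L3655 : sm gf N436 = N436 := ded_40_1 (flp_h L3648) L2874 L3648
theorem L3656 : sm gg N436 = N436 := ded_42_1 (flp_h L3648) L2875 L3648
theorem L3657 : sm gh N343 = N437 := rfl
theorem L3659 : sm ga N437 = N437 := ded_15_1 (flp_h L3657) L2878 L3657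
theorem L3660 : sm gb N437 = N355 := ded_22_1 (flp_h L2976) (flp_b L2879) L3657
theorem L3662 : sm gf N437 = N345 := ded_40_1 (flp_h L2893) (flp_f L2882) L3657
theorem L3664 : sm gg N437 = N437 := ded_42_1 (flp_h L3657) L2884 L3657
theorem L3665 : sm gi N437 = N344 := ded_44_2 (flp_h L2885) (flp_i L2286) L2277 L2876 L3657
theorem L3667 : sm gd N344 = N438 := rfl
theorem L3669 : sm ga N438 = N438 := ded_11_1 (flp_d L3667) L2887 L3667
theorem L3670 : sm gb N438 = N356 := ded_18_1 (flp_d L2984) (flp_b L2888) L3667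
theorem L3672 : sm gf N438 = N346 := ded_31_2 (flp_d L2903) (flp_f L2890) L3667
theorem L3674 : sm gg N438 = N438 := ded_32_2 (flp_d L3667) L2892 L3667
theorem L3675 : sm gh N438 = N347 := ded_33_2 (flp_d L2912) (flp_h L2313) (flp_d L2291) L2885 L3667
theorem L3677 : sm gd N345 = N439 := rfl
theorem L3679 : sm ga N439 = N439 := ded_11_1 (flp_d L3677) L2895 L3677
theorem L3680 : sm gb N439 = N357 := ded_18_1 (flp_d L2991) (flp_b L2896) L3677
theorem L3682 : sm gg N439 = N373 := ded_32_2 (flp_d L3108) (flp_g L2899) L3677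
theorem L3684 : sm gi N439 = N346 := ded_34_2 (flp_d L2903) (flp_i L2901) L3677
theorem L3686 : sm gh N439 = N439 := ded_33_2 (flp_d L3677) (flp_h L2893) L2301 L2893 L3677
theorem L3687 : sm gc N346 = N440 := rfl
theorem L3689 : sm ga N440 = N440 := ded_10_1 (flp_c L3687) L2905 L3687
theorem L3690 : sm gg N440 = N374 := ded_27_2 (flp_c L3117) (flp_g L2908) L3687
theorem L3692 : sm gh N440 = N348 := ded_28_2 (flp_c L2921) (flp_h L2910) L3687
theorem L3694 : sm ge N346 = N441 := rfl
theorem L3696 : sm ga N441 = N441 := ded_12_1 (flp_e L3694) L2905 L3694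
theorem L3697 : sm gb N441 = N359 := ded_19_1 (flp_e L3005) (flp_b L2906) L3694
theorem L3699 : sm gg N441 = N375 := ded_36_2 (flp_e L3123) (flp_g L2908) L3694
theorem L3701 : sm gh N441 = N349 := ded_37_2 (flp_e L2928) (flp_h L2910) L3694
theorem L3703 : sm gd N441 = N441 := ded_30_1 (flp_e L3694) (flp_d L2903) L2310 L2903 L3694
theorem L3704 : sm gc N347 = N442 := rfl
theorem L3706 : sm ga N442 = N442 := ded_10_1 (flp_c L3704) L2914 L3704
theorem L3707 : sm gf N442 = N348 := ded_26_2 (flp_c L2921) (flp_f L2917) L3704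
theorem L3709 : sm gg N442 = N442 := ded_27_2 (flp_c L3704) L2919 L3704
theorem L3710 : sm gi N442 = N442 := ded_29_2 (flp_c L3704) L2920 L3704
theorem L3711 : sm gd N442 = N442 := ded_24_2 (flp_c L3704) (flp_d L2912) L2318 L2912 L3704
theorem L3712 : sm ge N347 = N443 := rfl
theorem L3714 : sm ga N443 = N443 := ded_12_1 (flp_e L3712) L2914 L3712
theorem L3715 : sm gb N443 = N361 := ded_19_1 (flp_e L3020) (flp_b L2915) L3712
theorem L3717 : sm gg N443 = N443 := ded_36_2 (flp_e L3712) L2919 L3712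
theorem L3718 : sm gi N443 = N443 := ded_38_2 (flp_e L3712) L2920 L3712
theorem L3719 : sm gd N443 = N443 := ded_30_1 (flp_e L3712) (flp_d L2912) L2319 L2912 L3712
theorem L3720 : sm gb N348 = N444 := rfl
theorem L3722 : sm gd N444 = N444 := ded_18_2 (flp_b L3720) L2927 L3720
theorem L3723 : sm gg N444 = N376 := ded_21_2 (flp_b L3131) (flp_g L2924) L3720
theorem L3725 : sm gi N444 = N444 := ded_23_2 (flp_b L3720) L2926 L3720
theorem L3726 : sm gc N444 = N362 := ded_17_2 (flp_b L3025) (flp_c L2399) (flp_b L2327) L2921 L3720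
theorem L3728 : sm ge N348 = N445 := rfl
theorem L3730 : sm ga N445 = N445 := ded_12_1 (flp_e L3728) L2923 L3728
theorem L3731 : sm gc N445 = N349 := ded_25_1 (flp_e L2928) L2921 L3728
theorem L3733 : sm gg N445 = N377 := ded_36_2 (flp_e L3138) (flp_g L2924) L3728
theorem L3735 : sm gi N445 = N445 := ded_38_2 (flp_e L3728) L2926 L3728
theorem L3736 : sm gf N349 = N446 := rfl
theorem L3738 : sm ga N446 = N446 := ded_13_1 (flp_f L3736) L2930 L3736
theorem L3739 : sm gb N446 = N364 := ded_20_1 (flp_f L3040) (flp_b L2931) L3736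
theorem L3741 : sm gd N446 = N351 := ded_31_1 (flp_f L2948) (flp_d L2936) L3736
theorem L3743 : sm gi N446 = N446 := ded_41_2 (flp_f L3736) L2935 L3736
theorem L3744 : sm gd N350 = N447 := rfl
theorem L3746 : sm ga N447 = N447 := ded_11_1 (flp_d L3744) L2940 L3744
theorem L3747 : sm gb N447 = N447 := ded_18_1 (flp_d L3744) L2941 L3744
theorem L3748 : sm gg N447 = N379 := ded_32_2 (flp_d L3153) (flp_g L2944) L3744
theorem L3750 : sm gi N447 = N447 := ded_34_2 (flp_d L3744) L2947 L3744
theorem L3751 : sm ge N447 = N447 := ded_30_2 (flp_d L3744) (flp_e L2938) L2341 L2938 L3744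
theorem L3752 : sm gf N350 = N448 := rfl
theorem L3754 : sm ga N448 = N448 := ded_13_1 (flp_f L3752) L2940 L3752
theorem L3755 : sm gb N448 = N448 := ded_20_1 (flp_f L3752) L2941 L3752
theorem L3756 : sm gc N448 = N351 := ded_26_1 (flp_f L2948) (flp_c L2942) L3752
theorem L3758 : sm gh N448 = N448 := ded_40_2 (flp_f L3752) L2946 L3752
theorem L3759 : sm gi N448 = N448 := ded_41_2 (flp_f L3752) L2947 L3752
theorem L3760 : sm ge N448 = N448 := ded_35_1 (flp_f L3752) (flp_e L2938) L2335 L2938 L3752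
theorem L3761 : sm gg N351 = N449 := rfl
theorem L3763 : sm ga N449 = N449 := ded_14_1 (flp_g L3761) L2950 L3761
theorem L3764 : sm gb N449 = N365 := ded_21_1 (flp_g L3045) (flp_b L2951) L3761
theorem L3766 : sm ge N449 = N449 := ded_36_1 (flp_g L3761) L2955 L3761
theorem L3767 : sm gh N449 = N449 := ded_42_2 (flp_g L3761) L2953 L3761
theorem L3768 : sm gi N449 = N449 := ded_43_2 (flp_g L3761) L2954 L3761
theorem L3769 : sm gf N449 = N381 := ded_39_1 (flp_g L3169) (flp_f L2504) (flp_g L2347) L2948 L3761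
theorem L3771 : sm gc N352 = N450 := rfl
theorem L3773 : sm ge N450 = N450 := ded_25_2 (flp_c L3771) L2960 L3771
theorem L3774 : sm gf N450 = N450 := ded_26_2 (flp_c L3771) L2958 L3771
theorem L3775 : sm gg N450 = N450 := ded_27_2 (flp_c L3771) L2959 L3771
theorem L3776 : sm gh N450 = N450 := ded_28_2 (flp_c L3771) L2961 L3771
theorem L3777 : sm gb N450 = N450 := ded_17_1 (flp_c L3771) (flp_b L3632) L3636 L3632 L3771
theorem L3778 : sm gd N450 = N450 := ded_24_2 (flp_c L3771) (flp_d L2956) L2353 L2956 L3771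
theorem L3779 : sm gi N352 = N451 := rfl
theorem L3781 : sm gd N451 = N353 := ded_34_1 (flp_i L2962) L2956 L3779
theorem L3783 : sm ge N451 = N451 := ded_38_1 (flp_i L3779) L2960 L3779
theorem L3784 : sm gf N451 = N451 := ded_41_1 (flp_i L3779) L2958 L3779
theorem L3785 : sm gg N451 = N451 := ded_43_1 (flp_i L3779) L2959 L3779
theorem L3786 : sm gh N353 = N452 := rfl
theorem L3788 : sm gc N452 = N452 := ded_28_1 (flp_h L3786) L2964 L3786
theorem L3789 : sm ge N452 = N355 := ded_37_1 (flp_h L2976) (flp_e L2965) L3786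
theorem L3791 : sm gf N452 = N452 := ded_40_1 (flp_h L3786) L2967 L3786
theorem L3792 : sm gg N452 = N452 := ded_42_1 (flp_h L3786) L2968 L3786
theorem L3793 : sm gi N452 = N354 := ded_44_2 (flp_h L2969) (flp_i L2358) L2351 L2962 L3786
theorem L3795 : sm gd N354 = N453 := rfl
theorem L3797 : sm gf N453 = N453 := ded_31_2 (flp_d L3795) L2974 L3795
theorem L3798 : sm gg N453 = N453 := ded_32_2 (flp_d L3795) L2975 L3795
theorem L3799 : sm gh N453 = N453 := ded_33_2 (flp_d L3795) (flp_h L2969) L2361 L2969 L3795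
theorem L3800 : sm gd N355 = N454 := rfl
theorem L3802 : sm gf N454 = N357 := ded_31_2 (flp_d L2991) (flp_f L2979) L3800
theorem L3804 : sm gg N454 = N454 := ded_32_2 (flp_d L3800) L2981 L3800
theorem L3805 : sm gi N454 = N356 := ded_34_2 (flp_d L2984) (flp_i L2982) L3800
theorem L3807 : sm gh N454 = N454 := ded_33_2 (flp_d L3800) (flp_h L2976) L2369 L2976 L3800
theorem L3808 : sm gc N356 = N455 := rfl
theorem L3810 : sm gf N455 = N358 := ded_26_2 (flp_c L2998) (flp_f L2986) L3808
theorem L3812 : sm gg N455 = N455 := ded_27_2 (flp_c L3808) L2988 L3808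
theorem L3813 : sm gh N455 = N360 := ded_28_2 (flp_c L3012) (flp_h L2989) L3808
theorem L3815 : sm gd N455 = N455 := ded_24_2 (flp_c L3808) (flp_d L2984) L2375 L2984 L3808
theorem L3816 : sm ge N356 = N456 := rfl
theorem L3818 : sm gg N456 = N456 := ded_36_2 (flp_e L3816) L2988 L3816
theorem L3819 : sm gh N456 = N361 := ded_37_2 (flp_e L3020) (flp_h L2989) L3816
theorem L3821 : sm gc N357 = N457 := rfl
theorem L3823 : sm gg N457 = N382 := ded_27_2 (flp_c L3178) (flp_g L2993) L3821
theorem L3825 : sm gh N457 = N457 := ded_28_2 (flp_c L3821) L2997 L3821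
theorem L3826 : sm gi N457 = N358 := ded_29_2 (flp_c L2998) (flp_i L2995) L3821
theorem L3828 : sm gd N457 = N457 := ded_24_2 (flp_c L3821) (flp_d L2991) L2381 L2991 L3821
theorem L3829 : sm ge N357 = N458 := rfl
theorem L3831 : sm gg N458 = N383 := ded_36_2 (flp_e L3185) (flp_g L2993) L3829
theorem L3833 : sm gh N458 = N458 := ded_37_2 (flp_e L3829) L2997 L3829
theorem L3834 : sm gi N458 = N359 := ded_38_2 (flp_e L3005) (flp_i L2995) L3829
theorem L3836 : sm gd N458 = N458 := ded_30_1 (flp_e L3829) (flp_d L2991) L2382 L2991 L3829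
theorem L3837 : sm gb N358 = N459 := rfl
theorem L3839 : sm gd N459 = N459 := ded_18_2 (flp_b L3837) L3004 L3837
theorem L3840 : sm gg N459 = N384 := ded_21_2 (flp_b L3191) (flp_g L3000) L3837
theorem L3842 : sm gh N459 = N362 := ded_22_2 (flp_b L3025) (flp_h L3002) L3837
theorem L3844 : sm ge N358 = N460 := rfl
theorem L3846 : sm gc N460 = N359 := ded_25_1 (flp_e L3005) L2998 L3844
theorem L3848 : sm gg N460 = N385 := ded_36_2 (flp_e L3197) (flp_g L3000) L3844
theorem L3850 : sm gh N460 = N363 := ded_37_2 (flp_e L3032) (flp_h L3002) L3844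
theorem L3852 : sm gf N359 = N461 := rfl
theorem L3854 : sm gd N461 = N461 := ded_31_1 (flp_f L3852) L3011 L3852
theorem L3855 : sm gh N461 = N364 := ded_40_2 (flp_f L3040) (flp_h L3009) L3852
theorem L3857 : sm gb N360 = N462 := rfl
theorem L3859 : sm gd N462 = N366 := ded_18_2 (flp_b L3053) (flp_d L3018) L3857
theorem L3861 : sm gf N462 = N362 := ded_20_2 (flp_b L3025) (flp_f L3014) L3857
theorem L3863 : sm gg N462 = N462 := ded_21_2 (flp_b L3857) L3016 L3857
theorem L3864 : sm gi N462 = N462 := ded_23_2 (flp_b L3857) L3017 L3857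
theorem L3865 : sm ge N360 = N463 := rfl
theorem L3867 : sm gc N463 = N361 := ded_25_1 (flp_e L3020) L3012 L3865
theorem L3869 : sm gg N463 = N463 := ded_36_2 (flp_e L3865) L3016 L3865
theorem L3870 : sm gi N463 = N463 := ded_38_2 (flp_e L3865) L3017 L3865
theorem L3871 : sm gf N361 = N464 := rfl
theorem L3873 : sm gd N464 = N464 := ded_31_1 (flp_f L3871) L3024 L3871
theorem L3874 : sm gi N464 = N464 := ded_41_2 (flp_f L3871) L3023 L3871
theorem L3875 : sm ge N464 = N364 := ded_35_1 (flp_f L3040) (flp_e L2406) (flp_f L2395) L3020 L3871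
theorem L3877 : sm ga N362 = N465 := rfl
theorem L3879 : sm gd N465 = N368 := ded_11_2 (flp_a L3069) (flp_d L3027) L3877
theorem L3881 : sm gg N465 = N387 := ded_14_2 (flp_a L3209) (flp_g L3029) L3877
theorem L3883 : sm gi N465 = N465 := ded_16_2 (flp_a L3877) L3031 L3877
theorem L3884 : sm ge N362 = N466 := rfl
theorem L3886 : sm gb N466 = N363 := ded_19_1 (flp_e L3032) L3025 L3884
theorem L3888 : sm gg N466 = N388 := ded_36_2 (flp_e L3215) (flp_g L3029) L3884
theorem L3890 : sm gi N466 = N466 := ded_38_2 (flp_e L3884) L3031 L3884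
theorem L3891 : sm gd N466 = N466 := ded_30_1 (flp_e L3884) L3027 L2436 (flp_d L3027) L3884
theorem L3892 : sm gf N363 = N467 := rfl
theorem L3894 : sm gc N467 = N364 := ded_26_1 (flp_f L3040) (flp_c L3034) L3892
theorem L3896 : sm gd N467 = N467 := ded_31_1 (flp_f L3892) L3039 L3892
theorem L3897 : sm gi N467 = N467 := ded_41_2 (flp_f L3892) L3038 L3892
theorem L3898 : sm gg N364 = N468 := rfl
theorem L3900 : sm gd N468 = N365 := ded_32_1 (flp_g L3045) (flp_d L3042) L3898
theorem L3902 : sm gi N468 = N468 := ded_43_2 (flp_g L3898) L3044 L3898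
theorem L3903 : sm gf N468 = N390 := ded_39_1 (flp_g L3228) (flp_f L2542) (flp_g L2408) L3040 L3898
theorem L3905 : sm ga N366 = N469 := rfl
theorem L3907 : sm gc N469 = N469 := ded_10_2 (flp_a L3905) L3060 L3905
theorem L3908 : sm gf N469 = N368 := ded_13_2 (flp_a L3069) (flp_f L3055) L3905
theorem L3910 : sm gg N469 = N469 := ded_14_2 (flp_a L3905) L3057 L3905
theorem L3911 : sm gh N469 = N469 := ded_15_2 (flp_a L3905) L3058 L3905
theorem L3912 : sm gi N469 = N469 := ded_16_2 (flp_a L3905) L3059 L3905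
theorem L3913 : sm ge N366 = N470 := rfl
theorem L3915 : sm gb N470 = N367 := ded_19_1 (flp_e L3061) L3053 L3913
theorem L3917 : sm gc N470 = N470 := ded_25_1 (flp_e L3913) L3060 L3913
theorem L3918 : sm gg N470 = N470 := ded_36_2 (flp_e L3913) L3057 L3913
theorem L3919 : sm gh N470 = N470 := ded_37_2 (flp_e L3913) L3058 L3913
theorem L3920 : sm gi N470 = N470 := ded_38_2 (flp_e L3913) L3059 L3913
theorem L3921 : sm gf N470 = N470 := ded_35_2 (flp_e L3913) L3055 L2436 (flp_f L3055) L3913
theorem L3922 : sm gd N367 = N471 := rfl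
theorem L3924 : sm gf N471 = N471 := ded_31_2 (flp_d L3922) L3068 L3922
theorem L3925 : sm gg N471 = N471 := ded_32_2 (flp_d L3922) L3065 L3922
theorem L3926 : sm gi N471 = N471 := ded_34_2 (flp_d L3922) L3067 L3922
theorem L3927 : sm gc N471 = N471 := ded_24_1 (flp_d L3922) L3063 L2432 (flp_c L3063) L3922
theorem L3928 : sm gf N369 = N472 := rfl
theorem L3930 : sm ga N472 = N472 := ded_13_1 (flp_f L3928) L3079 L3928
theorem L3931 : sm gb N472 = N472 := ded_20_1 (flp_f L3928) L3080 L3928
theorem L3932 : sm gc N472 = N472 := ded_26_1 (flp_f L3928) L3081 L3928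
theorem L3933 : sm gd N472 = N472 := ded_31_1 (flp_f L3928) L3083 L3928
theorem L3934 : sm gh N472 = N472 := ded_40_2 (flp_f L3928) L3082 L3928
theorem L3935 : sm ge N472 = N472 := ded_35_1 (flp_f L3928) (flp_e L3077) L2446 L3077 L3928
theorem L3936 : sm gg N472 = N472 := ded_39_2 (flp_f L3928) (flp_g L3597) L3601 L3597 L3928
theorem L3937 : sm gi N369 = N473 := rfl
theorem L3939 : sm ga N473 = N473 := ded_16_1 (flp_i L3937) L3079 L3937
theorem L3940 : sm gb N473 = N473 := ded_23_1 (flp_i L3937) L3080 L3937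
theorem L3941 : sm gc N473 = N473 := ded_29_1 (flp_i L3937) L3081 L3937
theorem L3942 : sm gd N473 = N473 := ded_34_1 (flp_i L3937) L3083 L3937
theorem L3943 : sm ge N473 = N370 := ded_38_1 (flp_i L3084) L3077 L3937
theorem L3945 : sm gh N370 = N474 := rfl
theorem L3947 : sm ga N474 = N474 := ded_15_1 (flp_h L3945) L3086 L3945
theorem L3948 : sm gb N474 = N474 := ded_22_1 (flp_h L3945) L3087 L3945
theorem L3949 : sm gc N474 = N474 := ded_28_1 (flp_h L3945) L3088 L3945
theorem L3950 : sm gf N474 = N474 := ded_40_1 (flp_h L3945) L3091 L3945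
theorem L3951 : sm gi N474 = N474 := ded_44_2 (flp_h L3945) (flp_i L3084) L2448 L3084 L3945
theorem L3952 : sm gd N371 = N475 := rfl
theorem L3954 : sm ga N475 = N475 := ded_11_1 (flp_d L3952) L3094 L3952
theorem L3955 : sm gb N475 = N475 := ded_18_1 (flp_d L3952) L3095 L3952
theorem L3956 : sm gf N475 = N475 := ded_31_2 (flp_d L3952) L3099 L3952
theorem L3957 : sm gi N475 = N372 := ded_34_2 (flp_d L3102) (flp_i L3100) L3952
theorem L3959 : sm gc N372 = N476 := rfl
theorem L3961 : sm ga N476 = N476 := ded_10_1 (flp_c L3959) L3104 L3959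
theorem L3962 : sm gf N476 = N476 := ded_26_2 (flp_c L3959) L3106 L3959
theorem L3963 : sm gh N476 = N476 := ded_28_2 (flp_c L3959) L3107 L3959
theorem L3964 : sm gd N476 = N374 := ded_24_2 (flp_c L3117) (flp_d L2474) (flp_c L2461) L3102 L3959
theorem L3966 : sm ge N372 = N477 := rfl
theorem L3968 : sm ga N477 = N477 := ded_12_1 (flp_e L3966) L3104 L3966
theorem L3969 : sm gb N477 = N477 := ded_19_1 (flp_e L3966) L3105 L3966
theorem L3970 : sm gh N477 = N477 := ded_37_2 (flp_e L3966) L3107 L3966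
theorem L3971 : sm gd N477 = N477 := ded_30_1 (flp_e L3966) (flp_d L3102) L2463 L3102 L3966
theorem L3972 : sm gc N373 = N478 := rfl
theorem L3974 : sm ga N478 = N478 := ded_10_1 (flp_c L3972) L3110 L3972
theorem L3975 : sm gf N478 = N478 := ded_26_2 (flp_c L3972) L3113 L3972
theorem L3976 : sm gh N478 = N478 := ded_28_2 (flp_c L3972) L3116 L3972
theorem L3977 : sm gi N478 = N374 := ded_29_2 (flp_c L3117) (flp_i L3114) L3972
theorem L3979 : sm ge N373 = N479 := rfl
theorem L3981 : sm ga N479 = N479 := ded_12_1 (flp_e L3979) L3110 L3979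
theorem L3982 : sm gb N479 = N383 := ded_19_1 (flp_e L3185) (flp_b L3111) L3979
theorem L3984 : sm gh N479 = N479 := ded_37_2 (flp_e L3979) L3116 L3979
theorem L3985 : sm gi N479 = N375 := ded_38_2 (flp_e L3123) (flp_i L3114) L3979
theorem L3987 : sm gd N479 = N479 := ded_30_1 (flp_e L3979) (flp_d L3108) L2470 L3108 L3979
theorem L3988 : sm gb N374 = N480 := rfl
theorem L3990 : sm gf N480 = N480 := ded_20_2 (flp_b L3988) L3120 L3988
theorem L3991 : sm gh N480 = N376 := ded_22_2 (flp_b L3131) (flp_h L3121) L3988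
theorem L3993 : sm gc N480 = N384 := ded_17_2 (flp_b L3191) (flp_c L2519) (flp_b L2477) L3117 L3988
theorem L3995 : sm ge N374 = N481 := rfl
theorem L3997 : sm ga N481 = N481 := ded_12_1 (flp_e L3995) L3119 L3995
theorem L3998 : sm gc N481 = N375 := ded_25_1 (flp_e L3123) L3117 L3995
theorem L4000 : sm gh N481 = N377 := ded_37_2 (flp_e L3138) (flp_h L3121) L3995
theorem L4002 : sm gf N375 = N482 := rfl
theorem L4004 : sm ga N482 = N482 := ded_13_1 (flp_f L4002) L3125 L4002
theorem L4005 : sm gb N482 = N386 := ded_20_1 (flp_f L3203) (flp_b L3126) L4002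
theorem L4007 : sm gd N482 = N482 := ded_31_1 (flp_f L4002) L3130 L4002
theorem L4008 : sm gh N482 = N378 := ded_40_2 (flp_f L3144) (flp_h L3128) L4002
theorem L4010 : sm ge N482 = N482 := ded_35_1 (flp_f L4002) (flp_e L3123) L2479 L3123 L4002
theorem L4011 : sm ga N376 = N483 := rfl
theorem L4013 : sm gc N483 = N387 := ded_10_2 (flp_a L3209) (flp_c L3136) L4011
theorem L4015 : sm gd N483 = N483 := ded_11_2 (flp_a L4011) L3133 L4011
theorem L4016 : sm gf N483 = N483 := ded_13_2 (flp_a L4011) L3134 L4011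
theorem L4017 : sm gi N483 = N483 := ded_16_2 (flp_a L4011) L3135 L4011
theorem L4018 : sm gb N483 = N483 := ded_9_2 (flp_a L4011) (flp_b L3131) L2484 L3131 L4011
theorem L4019 : sm ge N376 = N484 := rfl
theorem L4021 : sm gb N484 = N377 := ded_19_1 (flp_e L3138) L3131 L4019
theorem L4023 : sm gc N484 = N388 := ded_25_1 (flp_e L3215) (flp_c L3136) L4019
theorem L4025 : sm gi N484 = N484 := ded_38_2 (flp_e L4019) L3135 L4019
theorem L4026 : sm gd N377 = N485 := rfl
theorem L4028 : sm ga N485 = N485 := ded_11_1 (flp_d L4026) L3140 L4026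
theorem L4029 : sm gi N485 = N485 := ded_34_2 (flp_d L4026) L3143 L4026
theorem L4030 : sm gc N485 = N379 := ded_24_1 (flp_d L3153) L2500 (flp_d L2494) (flp_c L3141) L4026
theorem L4032 : sm ge N485 = N485 := ded_30_2 (flp_d L4026) (flp_e L3138) L2487 L3138 L4026
theorem L4033 : sm gf N377 = N486 := rfl
theorem L4035 : sm ga N486 = N486 := ded_13_1 (flp_f L4033) L3140 L4033
theorem L4036 : sm gc N486 = N378 := ded_26_1 (flp_f L3144) (flp_c L3141) L4033
theorem L4038 : sm gi N486 = N486 := ded_41_2 (flp_f L4033) L3143 L4033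
theorem L4039 : sm ge N486 = N486 := ded_35_1 (flp_f L4033) (flp_e L3138) L2485 L3138 L4033
theorem L4040 : sm gg N378 = N487 := rfl
theorem L4042 : sm ga N487 = N487 := ded_14_1 (flp_g L4040) L3146 L4040
theorem L4043 : sm gb N487 = N390 := ded_21_1 (flp_g L3228) (flp_b L3147) L4040
theorem L4045 : sm gd N487 = N381 := ded_32_1 (flp_g L3169) (flp_d L3149) L4040
theorem L4047 : sm ge N487 = N487 := ded_36_1 (flp_g L4040) L3152 L4040
theorem L4048 : sm gi N487 = N487 := ded_43_2 (flp_g L4040) L3151 L4040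
theorem L4049 : sm gf N379 = N488 := rfl
theorem L4051 : sm ga N488 = N488 := ded_13_1 (flp_f L4049) L3155 L4049
theorem L4052 : sm gb N488 = N488 := ded_20_1 (flp_f L4049) L3156 L4049
theorem L4053 : sm gd N488 = N380 := ded_31_1 (flp_f L3159) L3153 L4049
theorem L4055 : sm gi N488 = N488 := ded_41_2 (flp_f L4049) L3157 L4049
theorem L4056 : sm gh N379 = N489 := rfl
theorem L4058 : sm ga N489 = N489 := ded_15_1 (flp_h L4056) L3155 L4056
theorem L4059 : sm gb N489 = N489 := ded_22_1 (flp_h L4056) L3156 L4056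
theorem L4060 : sm ge N489 = N489 := ded_37_1 (flp_h L4056) L3158 L4056
theorem L4061 : sm gd N489 = N489 := ded_33_1 (flp_h L4056) (flp_d L3153) L2502 L3153 L4056
theorem L4062 : sm gg N380 = N490 := rfl
theorem L4064 : sm ga N490 = N490 := ded_14_1 (flp_g L4062) L3161 L4062
theorem L4065 : sm gb N490 = N490 := ded_21_1 (flp_g L4062) L3162 L4062
theorem L4066 : sm gc N490 = N381 := ded_27_1 (flp_g L3169) (flp_c L3163) L4062
theorem L4068 : sm ge N490 = N393 := ded_36_1 (flp_g L3250) (flp_e L3167) L4062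
theorem L4070 : sm gh N490 = N490 := ded_42_2 (flp_g L4062) L3165 L4062
theorem L4071 : sm gi N490 = N490 := ded_43_2 (flp_g L4062) L3166 L4062
theorem L4072 : sm gb N382 = N491 := rfl
theorem L4074 : sm gd N491 = N491 := ded_18_2 (flp_b L4072) L3184 L4072
theorem L4075 : sm gf N491 = N491 := ded_20_2 (flp_b L4072) L3180 L4072
theorem L4076 : sm gh N491 = N491 := ded_22_2 (flp_b L4072) L3181 L4072
theorem L4077 : sm gi N491 = N384 := ded_23_2 (flp_b L3191) (flp_i L3182) L4072
theorem L4079 : sm ge N382 = N492 := rfl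
theorem L4081 : sm gc N492 = N383 := ded_25_1 (flp_e L3185) L3178 L4079
theorem L4083 : sm gh N492 = N492 := ded_37_2 (flp_e L4079) L3181 L4079
theorem L4084 : sm gi N492 = N385 := ded_38_2 (flp_e L3197) (flp_i L3182) L4079
theorem L4086 : sm gf N383 = N493 := rfl
theorem L4088 : sm gd N493 = N493 := ded_31_1 (flp_f L4086) L3190 L4086
theorem L4089 : sm gh N493 = N493 := ded_40_2 (flp_f L4086) L3187 L4086
theorem L4090 : sm gi N493 = N386 := ded_41_2 (flp_f L3203) (flp_i L3188) L4086
theorem L4092 : sm ge N493 = N493 := ded_35_1 (flp_f L4086) (flp_e L3185) L2515 L3185 L4086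
theorem L4093 : sm ga N384 = N494 := rfl
theorem L4095 : sm gd N494 = N494 := ded_11_2 (flp_a L4093) L3193 L4093
theorem L4096 : sm gf N494 = N494 := ded_13_2 (flp_a L4093) L3194 L4093
theorem L4097 : sm gh N494 = N387 := ded_15_2 (flp_a L3209) (flp_h L3195) L4093
theorem L4099 : sm ge N384 = N495 := rfl
theorem L4101 : sm gb N495 = N385 := ded_19_1 (flp_e L3197) L3191 L4099
theorem L4103 : sm gh N495 = N388 := ded_37_2 (flp_e L3215) (flp_h L3195) L4099
theorem L4105 : sm gd N385 = N496 := rfl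
theorem L4107 : sm gc N496 = N496 := ded_24_1 (flp_d L4105) L3199 L2529 (flp_c L3199) L4105
theorem L4108 : sm ge N496 = N496 := ded_30_2 (flp_d L4105) (flp_e L3197) L2524 L3197 L4105
theorem L4109 : sm gh N496 = N496 := ded_33_2 (flp_d L4105) L3201 L2541 (flp_h L3201) L4105
theorem L4110 : sm gf N385 = N497 := rfl
theorem L4112 : sm gc N497 = N386 := ded_26_1 (flp_f L3203) (flp_c L3199) L4110
theorem L4114 : sm gh N497 = N389 := ded_40_2 (flp_f L3221) (flp_h L3201) L4110
theorem L4116 : sm ge N497 = N497 := ded_35_1 (flp_f L4110) (flp_e L3197) L2521 L3197 L4110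
theorem L4117 : sm gg N386 = N498 := rfl
theorem L4119 : sm gd N498 = N498 := ded_32_1 (flp_g L4117) L3205 L4117
theorem L4120 : sm ge N498 = N498 := ded_36_1 (flp_g L4117) L3208 L4117
theorem L4121 : sm gh N498 = N390 := ded_42_2 (flp_g L3228) (flp_h L3206) L4117
theorem L4123 : sm ge N387 = N499 := rfl
theorem L4125 : sm ga N499 = N388 := ded_12_1 (flp_e L3215) L3209 L4123
theorem L4127 : sm gi N499 = N499 := ded_38_2 (flp_e L4123) L3214 L4123
theorem L4128 : sm gd N499 = N499 := ded_30_1 (flp_e L4123) L3211 L2558 (flp_d L3211) L4123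
theorem L4129 : sm gf N388 = N500 := rfl
theorem L4131 : sm gb N500 = N389 := ded_20_1 (flp_f L3221) (flp_b L3217) L4129
theorem L4133 : sm gd N500 = N500 := ded_31_1 (flp_f L4129) L3220 L4129
theorem L4134 : sm gi N500 = N500 := ded_41_2 (flp_f L4129) L3219 L4129
theorem L4135 : sm ge N500 = N500 := ded_35_1 (flp_f L4129) (flp_e L3215) L2534 L3215 L4129
theorem L4136 : sm gg N389 = N501 := rfl
theorem L4138 : sm gc N501 = N390 := ded_27_1 (flp_g L3228) (flp_c L3223) L4136
theorem L4140 : sm gd N501 = N501 := ded_32_1 (flp_g L4136) L3225 L4136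
theorem L4141 : sm ge N501 = N501 := ded_36_1 (flp_g L4136) L3227 L4136
theorem L4142 : sm gi N501 = N501 := ded_43_2 (flp_g L4136) L3226 L4136
theorem L4143 : sm ge N391 = N502 := rfl
theorem L4150 : sm gg N391 = N503 := rfl
theorem L4152 : sm ga N503 = N503 := ded_14_1 (flp_g L4150) L3236 L4150
theorem L4153 : sm gb N503 = N503 := ded_21_1 (flp_g L4150) L3237 L4150
theorem L4154 : sm gc N503 = N503 := ded_27_1 (flp_g L4150) L3238 L4150
theorem L4155 : sm gd N503 = N393 := ded_32_1 (flp_g L3250) (flp_d L3239) L4150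
theorem L4157 : sm gi N503 = N503 := ded_43_2 (flp_g L4150) L3241 L4150
theorem L4158 : sm gf N503 = N503 := ded_39_1 (flp_g L4150) (flp_f L3234) L2566 L3234 L4150
theorem L4159 : sm gh N391 = N504 := rfl
theorem L4164 : sm gf N504 = N392 := ded_40_1 (flp_h L3242) L3234 L4159
theorem L4167 : sm gi N392 = N505 := rfl
theorem L4176 : sm gb N394 = N506 := rfl
theorem L4178 : sm gd N506 = N506 := ded_18_2 (flp_b L4176) L3267 L4176
theorem L4179 : sm gf N506 = N396 := ded_20_2 (flp_b L3278) (flp_f L3262) L4176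
theorem L4181 : sm gg N506 = N506 := ded_21_2 (flp_b L4176) L3264 L4176
theorem L4182 : sm gh N506 = N506 := ded_22_2 (flp_b L4176) L3265 L4176
theorem L4183 : sm gi N506 = N506 := ded_23_2 (flp_b L4176) L3266 L4176
theorem L4184 : sm gc N506 = N412 := ded_17_2 (flp_b L3432) (flp_c L2712) (flp_b L2590) L3259 L4176
theorem L4186 : sm ge N394 = N507 := rfl
theorem L4188 : sm ga N507 = N507 := ded_12_1 (flp_e L4186) L3261 L4186
theorem L4189 : sm gc N507 = N395 := ded_25_1 (flp_e L3268) L3259 L4186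
theorem L4191 : sm gg N507 = N507 := ded_36_2 (flp_e L4186) L3264 L4186
theorem L4192 : sm gh N507 = N507 := ded_37_2 (flp_e L4186) L3265 L4186
theorem L4193 : sm gi N507 = N507 := ded_38_2 (flp_e L4186) L3266 L4186
theorem L4194 : sm gf N507 = N507 := ded_35_2 (flp_e L4186) L3262 L2600 (flp_f L3262) L4186
theorem L4195 : sm ga N396 = N508 := rfl
theorem L4197 : sm gc N508 = N414 := ded_10_2 (flp_a L3449) (flp_c L3286) L4195
theorem L4199 : sm gd N508 = N508 := ded_11_2 (flp_a L4195) L3280 L4195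
theorem L4200 : sm ge N508 = N508 := ded_12_2 (flp_a L4195) L3281 L4195
theorem L4201 : sm gg N508 = N397 := ded_14_2 (flp_a L3288) (flp_g L3282) L4195
theorem L4203 : sm gh N508 = N508 := ded_15_2 (flp_a L4195) L3284 L4195
theorem L4204 : sm gi N508 = N508 := ded_16_2 (flp_a L4195) L3285 L4195
theorem L4205 : sm gb N508 = N508 := ded_9_2 (flp_a L4195) (flp_b L3278) L2599 L3278 L4195
theorem L4206 : sm gc N398 = N509 := rfl
theorem L4208 : sm ga N509 = N450 := ded_10_1 (flp_c L3771) (flp_a L3300) L4206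
theorem L4210 : sm ge N509 = N509 := ded_25_2 (flp_c L4206) L3305 L4206
theorem L4211 : sm gf N509 = N509 := ded_26_2 (flp_c L4206) L3303 L4206
theorem L4212 : sm gg N509 = N509 := ded_27_2 (flp_c L4206) L3304 L4206
theorem L4213 : sm gh N509 = N509 := ded_28_2 (flp_c L4206) L3306 L4206
theorem L4214 : sm gd N509 = N509 := ded_24_2 (flp_c L4206) (flp_d L3298) L2620 L3298 L4206
theorem L4215 : sm gi N398 = N510 := rfl
theorem L4217 : sm ga N510 = N451 := ded_16_1 (flp_i L3779) (flp_a L3300) L4215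
theorem L4219 : sm gb N510 = N510 := ded_23_1 (flp_i L4215) L3302 L4215
theorem L4220 : sm gd N510 = N399 := ded_34_1 (flp_i L3307) L3298 L4215
theorem L4222 : sm ge N510 = N510 := ded_38_1 (flp_i L4215) L3305 L4215
theorem L4223 : sm gf N510 = N510 := ded_41_1 (flp_i L4215) L3303 L4215
theorem L4224 : sm gg N510 = N510 := ded_43_1 (flp_i L4215) L3304 L4215
theorem L4225 : sm gh N399 = N511 := rfl
theorem L4227 : sm ga N511 = N452 := ded_15_1 (flp_h L3786) (flp_a L3309) L4225
theorem L4229 : sm gb N511 = N511 := ded_22_1 (flp_h L4225) L3311 L4225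
theorem L4230 : sm gc N511 = N511 := ded_28_1 (flp_h L4225) L3312 L4225
theorem L4231 : sm ge N511 = N401 := ded_37_1 (flp_h L3327) (flp_e L3313) L4225
theorem L4233 : sm gf N511 = N511 := ded_40_1 (flp_h L4225) L3315 L4225
theorem L4234 : sm gg N511 = N511 := ded_42_1 (flp_h L4225) L3316 L4225
theorem L4235 : sm gi N511 = N400 := ded_44_2 (flp_h L3317) (flp_i L2625) L2615 L3307 L4225
theorem L4237 : sm gd N400 = N512 := rfl
theorem L4239 : sm ga N512 = N453 := ded_11_1 (flp_d L3795) (flp_a L3319) L4237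
theorem L4241 : sm gb N512 = N512 := ded_18_1 (flp_d L4237) L3321 L4237
theorem L4242 : sm gf N512 = N512 := ded_31_2 (flp_d L4237) L3325 L4237
theorem L4243 : sm gg N512 = N512 := ded_32_2 (flp_d L4237) L3326 L4237
theorem L4244 : sm gh N512 = N512 := ded_33_2 (flp_d L4237) (flp_h L3317) L2631 L3317 L4237
theorem L4245 : sm gd N401 = N513 := rfl
theorem L4247 : sm ga N513 = N454 := ded_11_1 (flp_d L3800) (flp_a L3329) L4245
theorem L4249 : sm gb N513 = N513 := ded_18_1 (flp_d L4245) L3331 L4245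
theorem L4250 : sm gf N513 = N403 := ded_31_2 (flp_d L3348) (flp_f L3333) L4245
theorem L4252 : sm gg N513 = N513 := ded_32_2 (flp_d L4245) L3335 L4245
theorem L4253 : sm gi N513 = N402 := ded_34_2 (flp_d L3338) (flp_i L3336) L4245
theorem L4255 : sm gh N513 = N513 := ded_33_2 (flp_d L4245) (flp_h L3327) L2642 L3327 L4245
theorem L4256 : sm gc N402 = N514 := rfl
theorem L4258 : sm ga N514 = N455 := ded_10_1 (flp_c L3808) (flp_a L3340) L4256
theorem L4260 : sm gf N514 = N404 := ded_26_2 (flp_c L3358) (flp_f L3343) L4256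
theorem L4262 : sm gg N514 = N514 := ded_27_2 (flp_c L4256) L3345 L4256
theorem L4263 : sm gh N514 = N406 := ded_28_2 (flp_c L3377) (flp_h L3346) L4256
theorem L4265 : sm gd N514 = N514 := ded_24_2 (flp_c L4256) (flp_d L3338) L2651 L3338 L4256
theorem L4266 : sm ge N402 = N515 := rfl
theorem L4268 : sm ga N515 = N456 := ded_12_1 (flp_e L3816) (flp_a L3340) L4266
theorem L4270 : sm gb N515 = N515 := ded_19_1 (flp_e L4266) L3342 L4266
theorem L4271 : sm gg N515 = N515 := ded_36_2 (flp_e L4266) L3345 L4266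
theorem L4272 : sm gh N515 = N407 := ded_37_2 (flp_e L3387) (flp_h L3346) L4266
theorem L4274 : sm gc N403 = N516 := rfl
theorem L4276 : sm ga N516 = N457 := ded_10_1 (flp_c L3821) (flp_a L3350) L4274
theorem L4278 : sm gg N516 = N415 := ded_27_2 (flp_c L3458) (flp_g L3353) L4274
theorem L4280 : sm gh N516 = N516 := ded_28_2 (flp_c L4274) L3357 L4274
theorem L4281 : sm gi N516 = N404 := ded_29_2 (flp_c L3358) (flp_i L3355) L4274
theorem L4283 : sm gd N516 = N516 := ded_24_2 (flp_c L4274) (flp_d L3348) L2660 L3348 L4274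
theorem L4284 : sm ge N403 = N517 := rfl
theorem L4286 : sm ga N517 = N458 := ded_12_1 (flp_e L3829) (flp_a L3350) L4284
theorem L4288 : sm gb N517 = N517 := ded_19_1 (flp_e L4284) L3352 L4284
theorem L4289 : sm gg N517 = N416 := ded_36_2 (flp_e L3467) (flp_g L3353) L4284
theorem L4291 : sm gh N517 = N517 := ded_37_2 (flp_e L4284) L3357 L4284
theorem L4292 : sm gi N517 = N405 := ded_38_2 (flp_e L3367) (flp_i L3355) L4284
theorem L4294 : sm gd N517 = N517 := ded_30_1 (flp_e L4284) (flp_d L3348) L2661 L3348 L4284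
theorem L4295 : sm gb N404 = N518 := rfl
theorem L4297 : sm gd N518 = N518 := ded_18_2 (flp_b L4295) L3366 L4295
theorem L4298 : sm gg N518 = N417 := ded_21_2 (flp_b L3476) (flp_g L3362) L4295
theorem L4300 : sm gh N518 = N408 := ded_22_2 (flp_b L3395) (flp_h L3364) L4295
theorem L4302 : sm gc N518 = N518 := ded_17_2 (flp_b L4295) (flp_c L3358) L2670 L3358 L4295
theorem L4303 : sm ge N404 = N519 := rfl
theorem L4305 : sm ga N519 = N460 := ded_12_1 (flp_e L3844) (flp_a L3360) L4303
theorem L4307 : sm gc N519 = N405 := ded_25_1 (flp_e L3367) L3358 L4303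
theorem L4309 : sm gg N519 = N418 := ded_36_2 (flp_e L3483) (flp_g L3362) L4303
theorem L4311 : sm gh N519 = N409 := ded_37_2 (flp_e L3403) (flp_h L3364) L4303
theorem L4313 : sm gf N405 = N520 := rfl
theorem L4315 : sm ga N520 = N461 := ded_13_1 (flp_f L3852) (flp_a L3369) L4313
theorem L4317 : sm gb N520 = N520 := ded_20_1 (flp_f L4313) L3371 L4313
theorem L4318 : sm gd N520 = N520 := ded_31_1 (flp_f L4313) L3376 L4313
theorem L4319 : sm gh N520 = N410 := ded_40_2 (flp_f L3413) (flp_h L3374) L4313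
theorem L4321 : sm gb N406 = N521 := rfl
theorem L4323 : sm gd N521 = N412 := ded_18_2 (flp_b L3432) (flp_d L3385) L4321
theorem L4325 : sm gf N521 = N408 := ded_20_2 (flp_b L3395) (flp_f L3381) L4321
theorem L4327 : sm gg N521 = N521 := ded_21_2 (flp_b L4321) L3383 L4321
theorem L4328 : sm gi N521 = N521 := ded_23_2 (flp_b L4321) L3384 L4321
theorem L4329 : sm gc N521 = N521 := ded_17_2 (flp_b L4321) (flp_c L3377) L2679 L3377 L4321
theorem L4330 : sm ge N406 = N522 := rfl
theorem L4332 : sm ga N522 = N463 := ded_12_1 (flp_e L3865) (flp_a L3379) L4330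
theorem L4334 : sm gc N522 = N407 := ded_25_1 (flp_e L3387) L3377 L4330
theorem L4336 : sm gg N522 = N522 := ded_36_2 (flp_e L4330) L3383 L4330
theorem L4337 : sm gi N522 = N522 := ded_38_2 (flp_e L4330) L3384 L4330
theorem L4338 : sm gf N407 = N523 := rfl
theorem L4340 : sm ga N523 = N464 := ded_13_1 (flp_f L3871) (flp_a L3389) L4338
theorem L4342 : sm gb N523 = N523 := ded_20_1 (flp_f L4338) L3391 L4338
theorem L4343 : sm gd N523 = N523 := ded_31_1 (flp_f L4338) L3394 L4338
theorem L4344 : sm gi N523 = N523 := ded_41_2 (flp_f L4338) L3393 L4338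
theorem L4345 : sm ge N523 = N410 := ded_35_1 (flp_f L3413) (flp_e L2693) (flp_f L2680) L3387 L4338
theorem L4347 : sm ga N408 = N524 := rfl
theorem L4349 : sm gc N524 = N524 := ded_10_2 (flp_a L4347) L3402 L4347
theorem L4350 : sm gd N524 = N414 := ded_11_2 (flp_a L3449) (flp_d L3397) L4347
theorem L4352 : sm gg N524 = N420 := ded_14_2 (flp_a L3500) (flp_g L3399) L4347
theorem L4354 : sm gi N524 = N524 := ded_16_2 (flp_a L4347) L3401 L4347
theorem L4355 : sm gb N524 = N465 := ded_9_2 (flp_a L3877) (flp_b L3025) (flp_a L2686) L3395 L4347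
theorem L4357 : sm ge N408 = N525 := rfl
theorem L4359 : sm gb N525 = N409 := ded_19_1 (flp_e L3403) L3395 L4357
theorem L4361 : sm gc N525 = N525 := ded_25_1 (flp_e L4357) L3402 L4357
theorem L4362 : sm gg N525 = N421 := ded_36_2 (flp_e L3509) (flp_g L3399) L4357
theorem L4364 : sm gi N525 = N525 := ded_38_2 (flp_e L4357) L3401 L4357
theorem L4365 : sm gd N525 = N525 := ded_30_1 (flp_e L4357) L3397 L2732 (flp_d L3397) L4357
theorem L4366 : sm gf N409 = N526 := rfl
theorem L4368 : sm ga N526 = N467 := ded_13_1 (flp_f L3892) (flp_a L3405) L4366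
theorem L4370 : sm gc N526 = N410 := ded_26_1 (flp_f L3413) (flp_c L3407) L4366
theorem L4372 : sm gd N526 = N526 := ded_31_1 (flp_f L4366) L3412 L4366
theorem L4373 : sm gi N526 = N526 := ded_41_2 (flp_f L4366) L3411 L4366
theorem L4374 : sm gg N410 = N527 := rfl
theorem L4376 : sm ga N527 = N468 := ded_14_1 (flp_g L3898) (flp_a L3415) L4374
theorem L4378 : sm gb N527 = N527 := ded_21_1 (flp_g L4374) L3417 L4374
theorem L4379 : sm gd N527 = N411 := ded_32_1 (flp_g L3421) (flp_d L3418) L4374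
theorem L4381 : sm gi N527 = N527 := ded_43_2 (flp_g L4374) L3420 L4374
theorem L4382 : sm gf N527 = N423 := ded_39_1 (flp_g L3525) (flp_f L2777) (flp_g L2698) L3413 L4374
theorem L4384 : sm ga N412 = N528 := rfl
theorem L4386 : sm gf N528 = N414 := ded_13_2 (flp_a L3449) (flp_f L3434) L4384
theorem L4388 : sm gg N528 = N528 := ded_14_2 (flp_a L4384) L3436 L4384
theorem L4389 : sm gh N528 = N528 := ded_15_2 (flp_a L4384) L3437 L4384
theorem L4390 : sm gi N528 = N528 := ded_16_2 (flp_a L4384) L3438 L4384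
theorem L4391 : sm gb N528 = N469 := ded_9_2 (flp_a L3905) (flp_b L3053) (flp_a L2714) L3432 L4384
theorem L4393 : sm ge N412 = N529 := rfl
theorem L4395 : sm gb N529 = N413 := ded_19_1 (flp_e L3439) L3432 L4393
theorem L4397 : sm gg N529 = N529 := ded_36_2 (flp_e L4393) L3436 L4393
theorem L4398 : sm gh N529 = N529 := ded_37_2 (flp_e L4393) L3437 L4393
theorem L4399 : sm gi N529 = N529 := ded_38_2 (flp_e L4393) L3438 L4393
theorem L4400 : sm gf N529 = N529 := ded_35_2 (flp_e L4393) L3434 L2732 (flp_f L3434) L4393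
theorem L4401 : sm gd N413 = N530 := rfl
theorem L4403 : sm ga N530 = N471 := ded_11_1 (flp_d L3922) (flp_a L3441) L4401
theorem L4405 : sm gf N530 = N530 := ded_31_2 (flp_d L4401) L3448 L4401
theorem L4406 : sm gg N530 = N530 := ded_32_2 (flp_d L4401) L3445 L4401
theorem L4407 : sm gi N530 = N530 := ded_34_2 (flp_d L4401) L3447 L4401
theorem L4408 : sm gc N530 = N530 := ded_24_1 (flp_d L4401) L3443 L2728 (flp_c L3443) L4401
theorem L4409 : sm gb N415 = N531 := rfl
theorem L4411 : sm gd N531 = N531 := ded_18_2 (flp_b L4409) L3466 L4409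
theorem L4412 : sm gf N531 = N531 := ded_20_2 (flp_b L4409) L3462 L4409
theorem L4413 : sm gh N531 = N531 := ded_22_2 (flp_b L4409) L3463 L4409
theorem L4414 : sm gi N531 = N417 := ded_23_2 (flp_b L3476) (flp_i L3464) L4409
theorem L4416 : sm gc N531 = N531 := ded_17_2 (flp_b L4409) (flp_c L3458) L2741 L3458 L4409
theorem L4417 : sm ge N415 = N532 := rfl
theorem L4419 : sm ga N532 = N492 := ded_12_1 (flp_e L4079) (flp_a L3460) L4417
theorem L4421 : sm gc N532 = N416 := ded_25_1 (flp_e L3467) L3458 L4417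
theorem L4423 : sm gh N532 = N532 := ded_37_2 (flp_e L4417) L3463 L4417
theorem L4424 : sm gi N532 = N418 := ded_38_2 (flp_e L3483) (flp_i L3464) L4417
theorem L4426 : sm gf N416 = N533 := rfl
theorem L4428 : sm ga N533 = N493 := ded_13_1 (flp_f L4086) (flp_a L3469) L4426
theorem L4430 : sm gb N533 = N533 := ded_20_1 (flp_f L4426) L3471 L4426
theorem L4431 : sm gd N533 = N533 := ded_31_1 (flp_f L4426) L3475 L4426
theorem L4432 : sm gh N533 = N533 := ded_40_2 (flp_f L4426) L3472 L4426
theorem L4433 : sm gi N533 = N419 := ded_41_2 (flp_f L3491) (flp_i L3473) L4426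
theorem L4435 : sm ge N533 = N533 := ded_35_1 (flp_f L4426) (flp_e L3467) L2742 L3467 L4426
theorem L4436 : sm ga N417 = N534 := rfl
theorem L4438 : sm gc N534 = N534 := ded_10_2 (flp_a L4436) L3482 L4436
theorem L4439 : sm gd N534 = N534 := ded_11_2 (flp_a L4436) L3478 L4436
theorem L4440 : sm gf N534 = N534 := ded_13_2 (flp_a L4436) L3479 L4436
theorem L4441 : sm gh N534 = N420 := ded_15_2 (flp_a L3500) (flp_h L3480) L4436
theorem L4443 : sm gb N534 = N494 := ded_9_2 (flp_a L4093) (flp_b L3191) (flp_a L2748) L3476 L4436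
theorem L4445 : sm ge N417 = N535 := rfl
theorem L4447 : sm gb N535 = N418 := ded_19_1 (flp_e L3483) L3476 L4445
theorem L4449 : sm gc N535 = N535 := ded_25_1 (flp_e L4445) L3482 L4445
theorem L4450 : sm gh N535 = N421 := ded_37_2 (flp_e L3509) (flp_h L3480) L4445
theorem L4452 : sm gd N418 = N536 := rfl
theorem L4454 : sm ga N536 = N496 := ded_11_1 (flp_d L4105) (flp_a L3485) L4452
theorem L4456 : sm gc N536 = N536 := ded_24_1 (flp_d L4452) L3487 L2761 (flp_c L3487) L4452
theorem L4457 : sm ge N536 = N536 := ded_30_2 (flp_d L4452) (flp_e L3483) L2753 L3483 L4452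
theorem L4458 : sm gh N536 = N536 := ded_33_2 (flp_d L4452) L3489 L2776 (flp_h L3489) L4452
theorem L4459 : sm gf N418 = N537 := rfl
theorem L4461 : sm ga N537 = N497 := ded_13_1 (flp_f L4110) (flp_a L3485) L4459
theorem L4463 : sm gc N537 = N419 := ded_26_1 (flp_f L3491) (flp_c L3487) L4459
theorem L4465 : sm gh N537 = N422 := ded_40_2 (flp_f L3516) (flp_h L3489) L4459
theorem L4467 : sm ge N537 = N537 := ded_35_1 (flp_f L4459) (flp_e L3483) L2750 L3483 L4459
theorem L4468 : sm gg N419 = N538 := rfl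
theorem L4470 : sm ga N538 = N498 := ded_14_1 (flp_g L4117) (flp_a L3493) L4468
theorem L4472 : sm gb N538 = N538 := ded_21_1 (flp_g L4468) L3495 L4468
theorem L4473 : sm gd N538 = N538 := ded_32_1 (flp_g L4468) L3496 L4468
theorem L4474 : sm ge N538 = N538 := ded_36_1 (flp_g L4468) L3499 L4468
theorem L4475 : sm gh N538 = N423 := ded_42_2 (flp_g L3525) (flp_h L3497) L4468
theorem L4477 : sm ge N420 = N539 := rfl
theorem L4479 : sm ga N539 = N421 := ded_12_1 (flp_e L3509) L3500 L4477
theorem L4481 : sm gb N539 = N499 := ded_19_1 (flp_e L4123) (flp_b L3507) L4477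
theorem L4483 : sm gc N539 = N539 := ded_25_1 (flp_e L4477) L3502 L4477
theorem L4484 : sm gi N539 = N539 := ded_38_2 (flp_e L4477) L3506 L4477
theorem L4485 : sm gd N539 = N539 := ded_30_1 (flp_e L4477) L3503 L2798 (flp_d L3503) L4477
theorem L4486 : sm gf N421 = N540 := rfl
theorem L4488 : sm gb N540 = N422 := ded_20_1 (flp_f L3516) (flp_b L3511) L4486
theorem L4490 : sm gc N540 = N540 := ded_26_1 (flp_f L4486) L3513 L4486
theorem L4491 : sm gd N540 = N540 := ded_31_1 (flp_f L4486) L3515 L4486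
theorem L4492 : sm gi N540 = N540 := ded_41_2 (flp_f L4486) L3514 L4486
theorem L4493 : sm ge N540 = N540 := ded_35_1 (flp_f L4486) (flp_e L3509) L2766 L3509 L4486
theorem L4494 : sm gg N422 = N541 := rfl
theorem L4496 : sm ga N541 = N501 := ded_14_1 (flp_g L4136) (flp_a L3518) L4494
theorem L4498 : sm gc N541 = N423 := ded_27_1 (flp_g L3525) (flp_c L3520) L4494
theorem L4500 : sm gd N541 = N541 := ded_32_1 (flp_g L4494) L3522 L4494
theorem L4501 : sm ge N541 = N541 := ded_36_1 (flp_g L4494) L3524 L4494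
theorem L4502 : sm gi N541 = N541 := ded_43_2 (flp_g L4494) L3523 L4494
theorem L4503 : sm gi N424 = N542 := rfl
theorem L4505 : sm ga N542 = N542 := ded_16_1 (flp_i L4503) L3536 L4503
theorem L4506 : sm gb N542 = N542 := ded_23_1 (flp_i L4503) L3537 L4503
theorem L4507 : sm gc N542 = N542 := ded_29_1 (flp_i L4503) L3540 L4503
theorem L4508 : sm gd N542 = N426 := ded_34_1 (flp_i L3554) L3534 L4503
theorem L4510 : sm ge N542 = N542 := ded_38_1 (flp_i L4503) L3541 L4503
theorem L4511 : sm gf N542 = N542 := ded_41_1 (flp_i L4503) L3538 L4503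
theorem L4512 : sm gg N542 = N542 := ded_43_1 (flp_i L4503) L3539 L4503
theorem L4513 : sm gi N425 = N543 := rfl
theorem L4515 : sm ga N543 = N543 := ded_16_1 (flp_i L4513) L3545 L4513
theorem L4516 : sm gb N543 = N543 := ded_23_1 (flp_i L4513) L3546 L4513
theorem L4517 : sm gc N543 = N435 := ded_29_1 (flp_i L3639) (flp_c L3547) L4513
theorem L4519 : sm gd N543 = N543 := ded_34_1 (flp_i L4513) L3553 L4513
theorem L4520 : sm ge N543 = N428 := ded_38_1 (flp_i L3574) (flp_e L3549) L4513
theorem L4522 : sm gf N543 = N543 := ded_41_1 (flp_i L4513) L3551 L4513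
theorem L4523 : sm gg N543 = N543 := ded_43_1 (flp_i L4513) L3552 L4513
theorem L4524 : sm gh N426 = N544 := rfl
theorem L4526 : sm ga N544 = N544 := ded_15_1 (flp_h L4524) L3556 L4524
theorem L4527 : sm gb N544 = N544 := ded_22_1 (flp_h L4524) L3557 L4524
theorem L4528 : sm gc N544 = N436 := ded_28_1 (flp_h L3648) (flp_c L3558) L4524
theorem L4530 : sm ge N544 = N429 := ded_37_1 (flp_h L3583) (flp_e L3560) L4524
theorem L4532 : sm gf N544 = N544 := ded_40_1 (flp_h L4524) L3562 L4524
theorem L4533 : sm gg N544 = N544 := ded_42_1 (flp_h L4524) L3563 L4524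
theorem L4534 : sm gi N427 = N545 := rfl
theorem L4536 : sm ga N545 = N545 := ded_16_1 (flp_i L4534) L3566 L4534
theorem L4537 : sm gb N545 = N545 := ded_23_1 (flp_i L4534) L3567 L4534
theorem L4538 : sm gc N545 = N545 := ded_29_1 (flp_i L4534) L3571 L4534
theorem L4539 : sm gd N545 = N428 := ded_34_1 (flp_i L3574) L3564 L4534
theorem L4541 : sm ge N545 = N545 := ded_38_1 (flp_i L4534) L3572 L4534
theorem L4542 : sm gf N545 = N431 := ded_41_1 (flp_i L3602) (flp_f L3568) L4534
theorem L4544 : sm gg N545 = N545 := ded_43_1 (flp_i L4534) L3570 L4534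
theorem L4545 : sm gh N428 = N546 := rfl
theorem L4547 : sm ga N546 = N546 := ded_15_1 (flp_h L4545) L3576 L4545
theorem L4548 : sm gb N546 = N546 := ded_22_1 (flp_h L4545) L3577 L4545
theorem L4549 : sm gc N546 = N437 := ded_28_1 (flp_h L3657) (flp_c L3578) L4545
theorem L4551 : sm gf N546 = N432 := ded_40_1 (flp_h L3611) (flp_f L3580) L4545
theorem L4553 : sm gg N546 = N546 := ded_42_1 (flp_h L4545) L3582 L4545
theorem L4554 : sm gi N546 = N429 := ded_44_2 (flp_h L3583) (flp_i L2821) L2812 L3574 L4545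
theorem L4556 : sm gd N429 = N547 := rfl
theorem L4558 : sm ga N547 = N547 := ded_11_1 (flp_d L4556) L3585 L4556
theorem L4559 : sm gb N547 = N547 := ded_18_1 (flp_d L4556) L3586 L4556
theorem L4560 : sm gf N547 = N433 := ded_31_2 (flp_d L3622) (flp_f L3589) L4556
theorem L4562 : sm gg N547 = N547 := ded_32_2 (flp_d L4556) L3591 L4556
theorem L4563 : sm gh N547 = N547 := ded_33_2 (flp_d L4556) (flp_h L3583) L2827 L3583 L4556
theorem L4564 : sm gi N430 = N548 := rfl
theorem L4566 : sm ga N548 = N548 := ded_16_1 (flp_i L4564) L3594 L4564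
theorem L4567 : sm gb N548 = N548 := ded_23_1 (flp_i L4564) L3595 L4564
theorem L4568 : sm gc N548 = N548 := ded_29_1 (flp_i L4564) L3596 L4564
theorem L4569 : sm gd N548 = N548 := ded_34_1 (flp_i L4564) L3600 L4564
theorem L4570 : sm ge N548 = N431 := ded_38_1 (flp_i L3602) L3592 L4564
theorem L4572 : sm gf N548 = N548 := ded_41_1 (flp_i L4564) L3601 L4564
theorem L4573 : sm gg N548 = N473 := ded_43_1 (flp_i L3937) (flp_g L3597) L4564
theorem L4575 : sm gh N431 = N549 := rfl
theorem L4577 : sm ga N549 = N549 := ded_15_1 (flp_h L4575) L3604 L4575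
theorem L4578 : sm gb N549 = N549 := ded_22_1 (flp_h L4575) L3605 L4575
theorem L4579 : sm gc N549 = N549 := ded_28_1 (flp_h L4575) L3606 L4575
theorem L4580 : sm gg N549 = N474 := ded_42_1 (flp_h L3945) (flp_g L3609) L4575
theorem L4582 : sm gi N549 = N549 := ded_44_2 (flp_h L4575) (flp_i L3602) L2838 L3602 L4575
theorem L4583 : sm gd N432 = N550 := rfl
theorem L4585 : sm ga N550 = N550 := ded_11_1 (flp_d L4583) L3613 L4583
theorem L4586 : sm gb N550 = N550 := ded_18_1 (flp_d L4583) L3614 L4583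
theorem L4587 : sm gg N550 = N475 := ded_32_2 (flp_d L3952) (flp_g L3618) L4583
theorem L4589 : sm gi N550 = N433 := ded_34_2 (flp_d L3622) (flp_i L3620) L4583
theorem L4591 : sm gc N433 = N551 := rfl
theorem L4593 : sm ga N551 = N551 := ded_10_1 (flp_c L4591) L3624 L4591
theorem L4594 : sm gg N551 = N476 := ded_27_2 (flp_c L3959) (flp_g L3626) L4591
theorem L4596 : sm gh N551 = N551 := ded_28_2 (flp_c L4591) L3628 L4591
theorem L4597 : sm gd N551 = N440 := ded_24_2 (flp_c L3687) (flp_d L2903) (flp_c L2852) L3622 L4591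
theorem L4599 : sm ge N433 = N552 := rfl
theorem L4601 : sm ga N552 = N552 := ded_12_1 (flp_e L4599) L3624 L4599
theorem L4602 : sm gb N552 = N552 := ded_19_1 (flp_e L4599) L3625 L4599
theorem L4603 : sm gg N552 = N477 := ded_36_2 (flp_e L3966) (flp_g L3626) L4599
theorem L4605 : sm gh N552 = N552 := ded_37_2 (flp_e L4599) L3628 L4599
theorem L4606 : sm gd N552 = N552 := ded_30_1 (flp_e L4599) (flp_d L3622) L2854 L3622 L4599
theorem L4607 : sm gi N434 = N553 := rfl
theorem L4609 : sm ga N553 = N553 := ded_16_1 (flp_i L4607) L3631 L4607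
theorem L4610 : sm gb N553 = N451 := ded_23_1 (flp_i L3779) (flp_b L3632) L4607
theorem L4612 : sm gc N553 = N553 := ded_29_1 (flp_i L4607) L3636 L4607
theorem L4613 : sm gd N553 = N435 := ded_34_1 (flp_i L3639) L3629 L4607
theorem L4615 : sm ge N553 = N553 := ded_38_1 (flp_i L4607) L3637 L4607
theorem L4616 : sm gf N553 = N553 := ded_41_1 (flp_i L4607) L3634 L4607
theorem L4617 : sm gg N553 = N553 := ded_43_1 (flp_i L4607) L3635 L4607
theorem L4618 : sm gh N435 = N554 := rfl
theorem L4620 : sm ga N554 = N554 := ded_15_1 (flp_h L4618) L3641 L4618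
theorem L4621 : sm gb N554 = N452 := ded_22_1 (flp_h L3786) (flp_b L3642) L4618
theorem L4623 : sm ge N554 = N437 := ded_37_1 (flp_h L3657) (flp_e L3644) L4618
theorem L4625 : sm gf N554 = N554 := ded_40_1 (flp_h L4618) L3646 L4618
theorem L4626 : sm gg N554 = N554 := ded_42_1 (flp_h L4618) L3647 L4618
theorem L4627 : sm gi N554 = N436 := ded_44_2 (flp_h L3648) (flp_i L2866) L2857 L3639 L4618
theorem L4629 : sm gd N436 = N555 := rfl
theorem L4631 : sm ga N555 = N555 := ded_11_1 (flp_d L4629) L3650 L4629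
theorem L4632 : sm gb N555 = N453 := ded_18_1 (flp_d L3795) (flp_b L3651) L4629
theorem L4634 : sm gf N555 = N555 := ded_31_2 (flp_d L4629) L3655 L4629
theorem L4635 : sm gg N555 = N555 := ded_32_2 (flp_d L4629) L3656 L4629
theorem L4636 : sm gh N555 = N555 := ded_33_2 (flp_d L4629) (flp_h L3648) L2871 L3648 L4629
theorem L4637 : sm gd N437 = N556 := rfl
theorem L4639 : sm ga N556 = N556 := ded_11_1 (flp_d L4637) L3659 L4637
theorem L4640 : sm gb N556 = N454 := ded_18_1 (flp_d L3800) (flp_b L3660) L4637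
theorem L4642 : sm gf N556 = N439 := ded_31_2 (flp_d L3677) (flp_f L3662) L4637
theorem L4644 : sm gg N556 = N556 := ded_32_2 (flp_d L4637) L3664 L4637
theorem L4645 : sm gi N556 = N438 := ded_34_2 (flp_d L3667) (flp_i L3665) L4637
theorem L4647 : sm gh N556 = N556 := ded_33_2 (flp_d L4637) (flp_h L3657) L2881 L3657 L4637
theorem L4648 : sm gc N438 = N557 := rfl
theorem L4650 : sm ga N557 = N557 := ded_10_1 (flp_c L4648) L3669 L4648
theorem L4651 : sm gf N557 = N440 := ded_26_2 (flp_c L3687) (flp_f L3672) L4648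
theorem L4653 : sm gg N557 = N557 := ded_27_2 (flp_c L4648) L3674 L4648
theorem L4654 : sm gh N557 = N442 := ded_28_2 (flp_c L3704) (flp_h L3675) L4648
theorem L4656 : sm ge N438 = N558 := rfl
theorem L4658 : sm ga N558 = N558 := ded_12_1 (flp_e L4656) L3669 L4656
theorem L4659 : sm gb N558 = N456 := ded_19_1 (flp_e L3816) (flp_b L3670) L4656
theorem L4661 : sm gg N558 = N558 := ded_36_2 (flp_e L4656) L3674 L4656
theorem L4662 : sm gh N558 = N443 := ded_37_2 (flp_e L3712) (flp_h L3675) L4656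
theorem L4664 : sm gc N439 = N559 := rfl
theorem L4666 : sm ga N559 = N559 := ded_10_1 (flp_c L4664) L3679 L4664
theorem L4667 : sm gg N559 = N478 := ded_27_2 (flp_c L3972) (flp_g L3682) L4664
theorem L4669 : sm gh N559 = N559 := ded_28_2 (flp_c L4664) L3686 L4664
theorem L4670 : sm gi N559 = N440 := ded_29_2 (flp_c L3687) (flp_i L3684) L4664
theorem L4672 : sm ge N439 = N560 := rfl
theorem L4674 : sm ga N560 = N560 := ded_12_1 (flp_e L4672) L3679 L4672
theorem L4675 : sm gb N560 = N458 := ded_19_1 (flp_e L3829) (flp_b L3680) L4672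
theorem L4677 : sm gg N560 = N479 := ded_36_2 (flp_e L3979) (flp_g L3682) L4672
theorem L4679 : sm gh N560 = N560 := ded_37_2 (flp_e L4672) L3686 L4672
theorem L4680 : sm gi N560 = N441 := ded_38_2 (flp_e L3694) (flp_i L3684) L4672
theorem L4682 : sm gd N560 = N560 := ded_30_1 (flp_e L4672) (flp_d L3677) L2898 L3677 L4672
theorem L4683 : sm gb N440 = N561 := rfl
theorem L4685 : sm gg N561 = N480 := ded_21_2 (flp_b L3988) (flp_g L3690) L4683
theorem L4687 : sm gh N561 = N444 := ded_22_2 (flp_b L3720) (flp_h L3692) L4683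
theorem L4689 : sm gc N561 = N459 := ded_17_2 (flp_b L3837) (flp_c L2998) (flp_b L2906) L3687 L4683
theorem L4691 : sm ge N440 = N562 := rfl
theorem L4693 : sm ga N562 = N562 := ded_12_1 (flp_e L4691) L3689 L4691
theorem L4694 : sm gc N562 = N441 := ded_25_1 (flp_e L3694) L3687 L4691
theorem L4696 : sm gg N562 = N481 := ded_36_2 (flp_e L3995) (flp_g L3690) L4691
theorem L4698 : sm gh N562 = N445 := ded_37_2 (flp_e L3728) (flp_h L3692) L4691
theorem L4700 : sm gf N441 = N563 := rfl
theorem L4702 : sm ga N563 = N563 := ded_13_1 (flp_f L4700) L3696 L4700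
theorem L4703 : sm gb N563 = N461 := ded_20_1 (flp_f L3852) (flp_b L3697) L4700
theorem L4705 : sm gd N563 = N563 := ded_31_1 (flp_f L4700) L3703 L4700
theorem L4706 : sm gh N563 = N446 := ded_40_2 (flp_f L3736) (flp_h L3701) L4700
theorem L4708 : sm gb N442 = N564 := rfl
theorem L4710 : sm gd N564 = N564 := ded_18_2 (flp_b L4708) L3711 L4708
theorem L4711 : sm gf N564 = N444 := ded_20_2 (flp_b L3720) (flp_f L3707) L4708
theorem L4713 : sm gg N564 = N564 := ded_21_2 (flp_b L4708) L3709 L4708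
theorem L4714 : sm gi N564 = N564 := ded_23_2 (flp_b L4708) L3710 L4708
theorem L4715 : sm gc N564 = N462 := ded_17_2 (flp_b L3857) (flp_c L3012) (flp_b L2915) L3704 L4708
theorem L4717 : sm ge N442 = N565 := rfl
theorem L4719 : sm ga N565 = N565 := ded_12_1 (flp_e L4717) L3706 L4717
theorem L4720 : sm gc N565 = N443 := ded_25_1 (flp_e L3712) L3704 L4717
theorem L4722 : sm gg N565 = N565 := ded_36_2 (flp_e L4717) L3709 L4717
theorem L4723 : sm gi N565 = N565 := ded_38_2 (flp_e L4717) L3710 L4717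
theorem L4724 : sm gf N443 = N566 := rfl
theorem L4726 : sm ga N566 = N566 := ded_13_1 (flp_f L4724) L3714 L4724
theorem L4727 : sm gb N566 = N464 := ded_20_1 (flp_f L3871) (flp_b L3715) L4724
theorem L4729 : sm gd N566 = N566 := ded_31_1 (flp_f L4724) L3719 L4724
theorem L4730 : sm gi N566 = N566 := ded_41_2 (flp_f L4724) L3718 L4724
theorem L4731 : sm ge N566 = N446 := ded_35_1 (flp_f L3736) (flp_e L2928) (flp_f L2917) L3712 L4724
theorem L4733 : sm ga N444 = N567 := rfl
theorem L4735 : sm gc N567 = N465 := ded_10_2 (flp_a L3877) (flp_c L3726) L4733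
theorem L4737 : sm gd N567 = N567 := ded_11_2 (flp_a L4733) L3722 L4733
theorem L4738 : sm gg N567 = N483 := ded_14_2 (flp_a L4011) (flp_g L3723) L4733
theorem L4740 : sm gi N567 = N567 := ded_16_2 (flp_a L4733) L3725 L4733
theorem L4741 : sm gb N567 = N567 := ded_9_2 (flp_a L4733) (flp_b L3720) L2923 L3720 L4733
theorem L4742 : sm ge N444 = N568 := rfl
theorem L4744 : sm gb N568 = N445 := ded_19_1 (flp_e L3728) L3720 L4742
theorem L4746 : sm gc N568 = N466 := ded_25_1 (flp_e L3884) (flp_c L3726) L4742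
theorem L4748 : sm gg N568 = N484 := ded_36_2 (flp_e L4019) (flp_g L3723) L4742
theorem L4750 : sm gi N568 = N568 := ded_38_2 (flp_e L4742) L3725 L4742
theorem L4751 : sm gd N445 = N569 := rfl
theorem L4753 : sm ga N569 = N569 := ded_11_1 (flp_d L4751) L3730 L4751
theorem L4754 : sm gg N569 = N485 := ded_32_2 (flp_d L4026) (flp_g L3733) L4751
theorem L4756 : sm gi N569 = N569 := ded_34_2 (flp_d L4751) L3735 L4751
theorem L4757 : sm gc N569 = N447 := ded_24_1 (flp_d L3744) L2942 (flp_d L2936) (flp_c L3731) L4751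
theorem L4759 : sm ge N569 = N569 := ded_30_2 (flp_d L4751) (flp_e L3728) L2927 L3728 L4751
theorem L4760 : sm gf N445 = N570 := rfl
theorem L4762 : sm ga N570 = N570 := ded_13_1 (flp_f L4760) L3730 L4760
theorem L4763 : sm gc N570 = N446 := ded_26_1 (flp_f L3736) (flp_c L3731) L4760
theorem L4765 : sm gi N570 = N570 := ded_41_2 (flp_f L4760) L3735 L4760
theorem L4766 : sm gg N446 = N571 := rfl
theorem L4768 : sm ga N571 = N571 := ded_14_1 (flp_g L4766) L3738 L4766
theorem L4769 : sm gb N571 = N468 := ded_21_1 (flp_g L3898) (flp_b L3739) L4766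
theorem L4771 : sm gd N571 = N449 := ded_32_1 (flp_g L3761) (flp_d L3741) L4766
theorem L4773 : sm gi N571 = N571 := ded_43_2 (flp_g L4766) L3743 L4766
theorem L4774 : sm gf N571 = N487 := ded_39_1 (flp_g L4040) (flp_f L3144) (flp_g L2933) L3736 L4766
theorem L4776 : sm gf N447 = N572 := rfl
theorem L4778 : sm ga N572 = N572 := ded_13_1 (flp_f L4776) L3746 L4776
theorem L4779 : sm gb N572 = N572 := ded_20_1 (flp_f L4776) L3747 L4776
theorem L4780 : sm gd N572 = N448 := ded_31_1 (flp_f L3752) L3744 L4776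
theorem L4782 : sm gi N572 = N572 := ded_41_2 (flp_f L4776) L3750 L4776
theorem L4783 : sm gh N447 = N573 := rfl
theorem L4785 : sm ga N573 = N573 := ded_15_1 (flp_h L4783) L3746 L4783
theorem L4786 : sm gb N573 = N573 := ded_22_1 (flp_h L4783) L3747 L4783
theorem L4787 : sm ge N573 = N573 := ded_37_1 (flp_h L4783) L3751 L4783
theorem L4788 : sm gg N573 = N489 := ded_42_1 (flp_h L4056) (flp_g L3748) L4783
theorem L4790 : sm gd N573 = N573 := ded_33_1 (flp_h L4783) (flp_d L3744) L2946 L3744 L4783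
theorem L4791 : sm gg N448 = N574 := rfl
theorem L4793 : sm ga N574 = N574 := ded_14_1 (flp_g L4791) L3754 L4791
theorem L4794 : sm gb N574 = N574 := ded_21_1 (flp_g L4791) L3755 L4791
theorem L4795 : sm gc N574 = N449 := ded_27_1 (flp_g L3761) (flp_c L3756) L4791
theorem L4797 : sm ge N574 = N574 := ded_36_1 (flp_g L4791) L3760 L4791
theorem L4798 : sm gh N574 = N574 := ded_42_2 (flp_g L4791) L3758 L4791
theorem L4799 : sm gi N574 = N574 := ded_43_2 (flp_g L4791) L3759 L4791
theorem L4800 : sm gf N574 = N490 := ded_39_1 (flp_g L4062) (flp_f L3159) (flp_g L2944) L3752 L4791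
theorem L4802 : sm gi N450 = N575 := rfl
theorem L4804 : sm gb N575 = N575 := ded_23_1 (flp_i L4802) L3777 L4802
theorem L4805 : sm gc N575 = N451 := ded_29_1 (flp_i L3779) L3771 L4802
theorem L4807 : sm gd N575 = N575 := ded_34_1 (flp_i L4802) L3778 L4802
theorem L4808 : sm ge N575 = N575 := ded_38_1 (flp_i L4802) L3773 L4802
theorem L4809 : sm gf N575 = N575 := ded_41_1 (flp_i L4802) L3774 L4802
theorem L4810 : sm gg N575 = N575 := ded_43_1 (flp_i L4802) L3775 L4802
theorem L4811 : sm gh N451 = N576 := rfl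
theorem L4813 : sm ge N576 = N576 := ded_37_1 (flp_h L4811) L3783 L4811
theorem L4814 : sm gf N576 = N576 := ded_40_1 (flp_h L4811) L3784 L4811
theorem L4815 : sm gg N576 = N576 := ded_42_1 (flp_h L4811) L3785 L4811
theorem L4816 : sm gi N576 = N576 := ded_44_2 (flp_h L4811) (flp_i L3779) L2961 L3779 L4811
theorem L4817 : sm gd N452 = N577 := rfl
theorem L4819 : sm gf N577 = N577 := ded_31_2 (flp_d L4817) L3791 L4817
theorem L4820 : sm gg N577 = N577 := ded_32_2 (flp_d L4817) L3792 L4817
theorem L4821 : sm gi N577 = N453 := ded_34_2 (flp_d L3795) (flp_i L3793) L4817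
theorem L4823 : sm gc N453 = N578 := rfl
theorem L4825 : sm gf N578 = N578 := ded_26_2 (flp_c L4823) L3797 L4823
theorem L4826 : sm gg N578 = N578 := ded_27_2 (flp_c L4823) L3798 L4823
theorem L4827 : sm gh N578 = N578 := ded_28_2 (flp_c L4823) L3799 L4823
theorem L4828 : sm gd N578 = N578 := ded_24_2 (flp_c L4823) (flp_d L3795) L2971 L3795 L4823
theorem L4829 : sm ge N453 = N579 := rfl
theorem L4831 : sm gg N579 = N579 := ded_36_2 (flp_e L4829) L3798 L4829
theorem L4832 : sm gh N579 = N579 := ded_37_2 (flp_e L4829) L3799 L4829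
theorem L4833 : sm gd N579 = N456 := ded_30_1 (flp_e L3816) (flp_d L2984) (flp_e L2972) L3795 L4829
theorem L4835 : sm gc N454 = N580 := rfl
theorem L4837 : sm gf N580 = N457 := ded_26_2 (flp_c L3821) (flp_f L3802) L4835
theorem L4839 : sm gg N580 = N580 := ded_27_2 (flp_c L4835) L3804 L4835
theorem L4840 : sm gh N580 = N580 := ded_28_2 (flp_c L4835) L3807 L4835
theorem L4841 : sm gi N580 = N455 := ded_29_2 (flp_c L3808) (flp_i L3805) L4835
theorem L4843 : sm gd N580 = N580 := ded_24_2 (flp_c L4835) (flp_d L3800) L2978 L3800 L4835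
theorem L4844 : sm ge N454 = N581 := rfl
theorem L4846 : sm gg N581 = N581 := ded_36_2 (flp_e L4844) L3804 L4844
theorem L4847 : sm gh N581 = N581 := ded_37_2 (flp_e L4844) L3807 L4844
theorem L4848 : sm gi N581 = N456 := ded_38_2 (flp_e L3816) (flp_i L3805) L4844
theorem L4850 : sm gb N455 = N582 := rfl
theorem L4852 : sm gd N582 = N582 := ded_18_2 (flp_b L4850) L3815 L4850
theorem L4853 : sm gf N582 = N459 := ded_20_2 (flp_b L3837) (flp_f L3810) L4850
theorem L4855 : sm gg N582 = N582 := ded_21_2 (flp_b L4850) L3812 L4850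
theorem L4856 : sm gh N582 = N462 := ded_22_2 (flp_b L3857) (flp_h L3813) L4850
theorem L4858 : sm ge N455 = N583 := rfl
theorem L4860 : sm gc N583 = N456 := ded_25_1 (flp_e L3816) L3808 L4858
theorem L4862 : sm gg N583 = N583 := ded_36_2 (flp_e L4858) L3812 L4858
theorem L4863 : sm gh N583 = N463 := ded_37_2 (flp_e L3865) (flp_h L3813) L4858
theorem L4865 : sm gf N456 = N584 := rfl
theorem L4867 : sm gh N584 = N464 := ded_40_2 (flp_f L3871) (flp_h L3819) L4865
theorem L4869 : sm ge N584 = N461 := ded_35_1 (flp_f L3852) (flp_e L3005) (flp_f L2986) L3816 L4865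
theorem L4871 : sm gb N457 = N585 := rfl
theorem L4873 : sm gd N585 = N585 := ded_18_2 (flp_b L4871) L3828 L4871
theorem L4874 : sm gg N585 = N491 := ded_21_2 (flp_b L4072) (flp_g L3823) L4871
theorem L4876 : sm gh N585 = N585 := ded_22_2 (flp_b L4871) L3825 L4871
theorem L4877 : sm gi N585 = N459 := ded_23_2 (flp_b L3837) (flp_i L3826) L4871
theorem L4879 : sm ge N457 = N586 := rfl
theorem L4881 : sm gc N586 = N458 := ded_25_1 (flp_e L3829) L3821 L4879
theorem L4883 : sm gg N586 = N492 := ded_36_2 (flp_e L4079) (flp_g L3823) L4879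
theorem L4885 : sm gh N586 = N586 := ded_37_2 (flp_e L4879) L3825 L4879
theorem L4886 : sm gi N586 = N460 := ded_38_2 (flp_e L3844) (flp_i L3826) L4879
theorem L4888 : sm gf N458 = N587 := rfl
theorem L4890 : sm gd N587 = N587 := ded_31_1 (flp_f L4888) L3836 L4888
theorem L4891 : sm gh N587 = N587 := ded_40_2 (flp_f L4888) L3833 L4888
theorem L4892 : sm gi N587 = N461 := ded_41_2 (flp_f L3852) (flp_i L3834) L4888
theorem L4894 : sm ga N459 = N588 := rfl
theorem L4896 : sm gd N588 = N588 := ded_11_2 (flp_a L4894) L3839 L4894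
theorem L4897 : sm gg N588 = N494 := ded_14_2 (flp_a L4093) (flp_g L3840) L4894
theorem L4899 : sm gh N588 = N465 := ded_15_2 (flp_a L3877) (flp_h L3842) L4894
theorem L4901 : sm ge N459 = N589 := rfl
theorem L4903 : sm gb N589 = N460 := ded_19_1 (flp_e L3844) L3837 L4901
theorem L4905 : sm gg N589 = N495 := ded_36_2 (flp_e L4099) (flp_g L3840) L4901
theorem L4907 : sm gh N589 = N466 := ded_37_2 (flp_e L3884) (flp_h L3842) L4901
theorem L4909 : sm gd N460 = N590 := rfl
theorem L4911 : sm gg N590 = N496 := ded_32_2 (flp_d L4105) (flp_g L3848) L4909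
theorem L4913 : sm gc N590 = N590 := ded_24_1 (flp_d L4909) L3846 L3011 (flp_c L3846) L4909
theorem L4914 : sm ge N590 = N590 := ded_30_2 (flp_d L4909) (flp_e L3844) L3004 L3844 L4909
theorem L4915 : sm gh N590 = N590 := ded_33_2 (flp_d L4909) L3850 L3039 (flp_h L3850) L4909
theorem L4916 : sm gf N460 = N591 := rfl
theorem L4918 : sm gc N591 = N461 := ded_26_1 (flp_f L3852) (flp_c L3846) L4916
theorem L4920 : sm gh N591 = N467 := ded_40_2 (flp_f L3892) (flp_h L3850) L4916
theorem L4922 : sm gg N461 = N592 := rfl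
theorem L4924 : sm gd N592 = N592 := ded_32_1 (flp_g L4922) L3854 L4922
theorem L4925 : sm gh N592 = N468 := ded_42_2 (flp_g L3898) (flp_h L3855) L4922
theorem L4927 : sm gf N592 = N498 := ded_39_1 (flp_g L4117) (flp_f L3203) (flp_g L3007) L3852 L4922
theorem L4929 : sm ga N462 = N593 := rfl
theorem L4931 : sm gd N593 = N469 := ded_11_2 (flp_a L3905) (flp_d L3859) L4929
theorem L4933 : sm gf N593 = N465 := ded_13_2 (flp_a L3877) (flp_f L3861) L4929
theorem L4935 : sm gg N593 = N593 := ded_14_2 (flp_a L4929) L3863 L4929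
theorem L4936 : sm gi N593 = N593 := ded_16_2 (flp_a L4929) L3864 L4929
theorem L4937 : sm ge N462 = N594 := rfl
theorem L4939 : sm gb N594 = N463 := ded_19_1 (flp_e L3865) L3857 L4937
theorem L4941 : sm gg N594 = N594 := ded_36_2 (flp_e L4937) L3863 L4937
theorem L4942 : sm gi N594 = N594 := ded_38_2 (flp_e L4937) L3864 L4937
theorem L4943 : sm gd N463 = N595 := rfl
theorem L4945 : sm gg N595 = N595 := ded_32_2 (flp_d L4943) L3869 L4943
theorem L4946 : sm gi N595 = N595 := ded_34_2 (flp_d L4943) L3870 L4943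
theorem L4947 : sm gc N595 = N595 := ded_24_1 (flp_d L4943) L3867 L3024 (flp_c L3867) L4943
theorem L4948 : sm ge N595 = N471 := ded_30_2 (flp_d L3922) (flp_e L3061) (flp_d L3018) L3865 L4943
theorem L4950 : sm gf N463 = N596 := rfl
theorem L4952 : sm gc N596 = N464 := ded_26_1 (flp_f L3871) (flp_c L3867) L4950
theorem L4954 : sm gi N596 = N596 := ded_41_2 (flp_f L4950) L3870 L4950
theorem L4955 : sm ge N596 = N467 := ded_35_1 (flp_f L3892) (flp_e L3032) (flp_f L3014) L3865 L4950
theorem L4957 : sm gg N464 = N597 := rfl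
theorem L4959 : sm gd N597 = N597 := ded_32_1 (flp_g L4957) L3873 L4957
theorem L4960 : sm ge N597 = N468 := ded_36_1 (flp_g L3898) (flp_e L3875) L4957
theorem L4962 : sm gi N597 = N597 := ded_43_2 (flp_g L4957) L3874 L4957
theorem L4963 : sm gf N597 = N597 := ded_39_1 (flp_g L4957) (flp_f L3871) L3022 L3871 L4957
theorem L4964 : sm ge N465 = N598 := rfl
theorem L4966 : sm ga N598 = N466 := ded_12_1 (flp_e L3884) L3877 L4964
theorem L4968 : sm gg N598 = N499 := ded_36_2 (flp_e L4123) (flp_g L3881) L4964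
theorem L4970 : sm gi N598 = N598 := ded_38_2 (flp_e L4964) L3883 L4964
theorem L4971 : sm gd N598 = N598 := ded_30_1 (flp_e L4964) L3879 L3072 (flp_d L3879) L4964
theorem L4972 : sm gf N466 = N599 := rfl
theorem L4974 : sm gb N599 = N467 := ded_20_1 (flp_f L3892) (flp_b L3886) L4972
theorem L4976 : sm gd N599 = N599 := ded_31_1 (flp_f L4972) L3891 L4972
theorem L4977 : sm gi N599 = N599 := ded_41_2 (flp_f L4972) L3890 L4972
theorem L4978 : sm gg N467 = N600 := rfl
theorem L4980 : sm gc N600 = N468 := ded_27_1 (flp_g L3898) (flp_c L3894) L4978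
theorem L4982 : sm gd N600 = N600 := ded_32_1 (flp_g L4978) L3896 L4978
theorem L4983 : sm gi N600 = N600 := ded_43_2 (flp_g L4978) L3897 L4978
theorem L4984 : sm gf N600 = N501 := ded_39_1 (flp_g L4136) (flp_f L3221) (flp_g L3036) L3892 L4978
theorem L4986 : sm ge N469 = N601 := rfl
theorem L4988 : sm ga N601 = N470 := ded_12_1 (flp_e L3913) L3905 L4986
theorem L4990 : sm gc N601 = N601 := ded_25_1 (flp_e L4986) L3907 L4986
theorem L4991 : sm gg N601 = N601 := ded_36_2 (flp_e L4986) L3910 L4986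
theorem L4992 : sm gh N601 = N601 := ded_37_2 (flp_e L4986) L3911 L4986
theorem L4993 : sm gi N601 = N601 := ded_38_2 (flp_e L4986) L3912 L4986
theorem L4994 : sm gf N601 = N601 := ded_35_2 (flp_e L4986) L3908 L3072 (flp_f L3908) L4986
theorem L4995 : sm gd N470 = N602 := rfl
theorem L4997 : sm gb N602 = N471 := ded_18_1 (flp_d L3922) (flp_b L3915) L4995
theorem L4999 : sm gf N602 = N602 := ded_31_2 (flp_d L4995) L3921 L4995
theorem L5000 : sm gg N602 = N602 := ded_32_2 (flp_d L4995) L3918 L4995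
theorem L5001 : sm gi N602 = N602 := ded_34_2 (flp_d L4995) L3920 L4995
theorem L5002 : sm gh N471 = N603 := rfl
theorem L5004 : sm gc N603 = N603 := ded_28_1 (flp_h L5002) L3927 L5002
theorem L5005 : sm gf N603 = N603 := ded_40_1 (flp_h L5002) L3924 L5002
theorem L5006 : sm gg N603 = N603 := ded_42_1 (flp_h L5002) L3925 L5002
theorem L5007 : sm gd N603 = N603 := ded_33_1 (flp_h L5002) (flp_d L3922) L3066 L3922 L5002
theorem L5008 : sm gi N472 = N604 := rfl
theorem L5015 : sm gf N604 = N473 := ded_41_1 (flp_i L3937) L3928 L5008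
theorem L5018 : sm gh N473 = N605 := rfl
theorem L5023 : sm ge N605 = N474 := ded_37_1 (flp_h L3945) (flp_e L3943) L5018
theorem L5026 : sm gd N474 = N606 := rfl
theorem L5028 : sm ga N606 = N606 := ded_11_1 (flp_d L5026) L3947 L5026
theorem L5029 : sm gb N606 = N606 := ded_18_1 (flp_d L5026) L3948 L5026
theorem L5030 : sm gf N606 = N606 := ded_31_2 (flp_d L5026) L3950 L5026
theorem L5031 : sm gi N606 = N606 := ded_34_2 (flp_d L5026) L3951 L5026
theorem L5032 : sm gh N606 = N475 := ded_33_2 (flp_d L3952) (flp_h L3092) (flp_d L3089) L3945 L5026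
theorem L5034 : sm gc N475 = N607 := rfl
theorem L5036 : sm ga N607 = N607 := ded_10_1 (flp_c L5034) L3954 L5034
theorem L5037 : sm gf N607 = N607 := ded_26_2 (flp_c L5034) L3956 L5034
theorem L5038 : sm gi N607 = N476 := ded_29_2 (flp_c L3959) (flp_i L3957) L5034
theorem L5040 : sm gd N607 = N478 := ded_24_2 (flp_c L3972) (flp_d L3108) (flp_c L3096) L3952 L5034
theorem L5042 : sm ge N475 = N608 := rfl
theorem L5044 : sm ga N608 = N608 := ded_12_1 (flp_e L5042) L3954 L5042
theorem L5045 : sm gb N608 = N608 := ded_19_1 (flp_e L5042) L3955 L5042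
theorem L5046 : sm gi N608 = N477 := ded_38_2 (flp_e L3966) (flp_i L3957) L5042
theorem L5048 : sm gd N608 = N608 := ded_30_1 (flp_e L5042) (flp_d L3952) L3098 L3952 L5042
theorem L5049 : sm gb N476 = N609 := rfl
theorem L5051 : sm gd N609 = N480 := ded_18_2 (flp_b L3988) (flp_d L3964) L5049
theorem L5053 : sm gf N609 = N609 := ded_20_2 (flp_b L5049) L3962 L5049
theorem L5054 : sm gh N609 = N609 := ded_22_2 (flp_b L5049) L3963 L5049
theorem L5055 : sm gc N609 = N609 := ded_17_2 (flp_b L5049) (flp_c L3959) L3105 L3959 L5049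
theorem L5056 : sm ge N476 = N610 := rfl
theorem L5058 : sm ga N610 = N610 := ded_12_1 (flp_e L5056) L3961 L5056
theorem L5059 : sm gc N610 = N477 := ded_25_1 (flp_e L3966) L3959 L5056
theorem L5061 : sm gh N610 = N610 := ded_37_2 (flp_e L5056) L3963 L5056
theorem L5062 : sm gf N477 = N611 := rfl
theorem L5064 : sm ga N611 = N611 := ded_13_1 (flp_f L5062) L3968 L5062
theorem L5065 : sm gb N611 = N611 := ded_20_1 (flp_f L5062) L3969 L5062
theorem L5066 : sm gd N611 = N611 := ded_31_1 (flp_f L5062) L3971 L5062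
theorem L5067 : sm gh N611 = N611 := ded_40_2 (flp_f L5062) L3970 L5062
theorem L5068 : sm ge N611 = N611 := ded_35_1 (flp_f L5062) (flp_e L3966) L3106 L3966 L5062
theorem L5069 : sm gb N478 = N612 := rfl
theorem L5071 : sm gf N612 = N612 := ded_20_2 (flp_b L5069) L3975 L5069
theorem L5072 : sm gh N612 = N612 := ded_22_2 (flp_b L5069) L3976 L5069
theorem L5073 : sm gi N612 = N480 := ded_23_2 (flp_b L3988) (flp_i L3977) L5069
theorem L5075 : sm gc N612 = N491 := ded_17_2 (flp_b L4072) (flp_c L3178) (flp_b L3111) L3972 L5069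
theorem L5077 : sm ge N478 = N613 := rfl
theorem L5079 : sm ga N613 = N613 := ded_12_1 (flp_e L5077) L3974 L5077
theorem L5080 : sm gc N613 = N479 := ded_25_1 (flp_e L3979) L3972 L5077
theorem L5082 : sm gh N613 = N613 := ded_37_2 (flp_e L5077) L3976 L5077
theorem L5083 : sm gi N613 = N481 := ded_38_2 (flp_e L3995) (flp_i L3977) L5077
theorem L5085 : sm gf N479 = N614 := rfl
theorem L5087 : sm ga N614 = N614 := ded_13_1 (flp_f L5085) L3981 L5085
theorem L5088 : sm gb N614 = N493 := ded_20_1 (flp_f L4086) (flp_b L3982) L5085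
theorem L5090 : sm gd N614 = N614 := ded_31_1 (flp_f L5085) L3987 L5085
theorem L5091 : sm gh N614 = N614 := ded_40_2 (flp_f L5085) L3984 L5085
theorem L5092 : sm gi N614 = N482 := ded_41_2 (flp_f L4002) (flp_i L3985) L5085
theorem L5094 : sm ge N614 = N614 := ded_35_1 (flp_f L5085) (flp_e L3979) L3113 L3979 L5085
theorem L5095 : sm ga N480 = N615 := rfl
theorem L5097 : sm gc N615 = N494 := ded_10_2 (flp_a L4093) (flp_c L3993) L5095
theorem L5099 : sm gf N615 = N615 := ded_13_2 (flp_a L5095) L3990 L5095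
theorem L5100 : sm gh N615 = N483 := ded_15_2 (flp_a L4011) (flp_h L3991) L5095
theorem L5102 : sm gb N615 = N615 := ded_9_2 (flp_a L5095) (flp_b L3988) L3119 L3988 L5095
theorem L5103 : sm ge N480 = N616 := rfl
theorem L5105 : sm gb N616 = N481 := ded_19_1 (flp_e L3995) L3988 L5103
theorem L5107 : sm gc N616 = N495 := ded_25_1 (flp_e L4099) (flp_c L3993) L5103
theorem L5109 : sm gh N616 = N484 := ded_37_2 (flp_e L4019) (flp_h L3991) L5103
theorem L5111 : sm gd N481 = N617 := rfl
theorem L5113 : sm ga N617 = N617 := ded_11_1 (flp_d L5111) L3997 L5111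
theorem L5114 : sm gc N617 = N617 := ded_24_1 (flp_d L5111) L3998 L3130 (flp_c L3998) L5111
theorem L5115 : sm gf N481 = N618 := rfl
theorem L5117 : sm ga N618 = N618 := ded_13_1 (flp_f L5115) L3997 L5115
theorem L5118 : sm gc N618 = N482 := ded_26_1 (flp_f L4002) (flp_c L3998) L5115
theorem L5120 : sm gh N618 = N486 := ded_40_2 (flp_f L4033) (flp_h L4000) L5115
theorem L5122 : sm ge N618 = N618 := ded_35_1 (flp_f L5115) (flp_e L3995) L3120 L3995 L5115
theorem L5123 : sm gg N482 = N619 := rfl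
theorem L5125 : sm ga N619 = N619 := ded_14_1 (flp_g L5123) L4004 L5123
theorem L5126 : sm gb N619 = N498 := ded_21_1 (flp_g L4117) (flp_b L4005) L5123
theorem L5128 : sm gd N619 = N619 := ded_32_1 (flp_g L5123) L4007 L5123
theorem L5129 : sm ge N619 = N619 := ded_36_1 (flp_g L5123) L4010 L5123
theorem L5130 : sm gh N619 = N487 := ded_42_2 (flp_g L4040) (flp_h L4008) L5123
theorem L5132 : sm ge N483 = N620 := rfl
theorem L5134 : sm ga N620 = N484 := ded_12_1 (flp_e L4019) L4011 L5132
theorem L5136 : sm gb N620 = N620 := ded_19_1 (flp_e L5132) L4018 L5132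
theorem L5137 : sm gc N620 = N499 := ded_25_1 (flp_e L4123) (flp_c L4013) L5132
theorem L5139 : sm gi N620 = N620 := ded_38_2 (flp_e L5132) L4017 L5132
theorem L5140 : sm gd N484 = N621 := rfl
theorem L5142 : sm gb N621 = N485 := ded_18_1 (flp_d L4026) (flp_b L4021) L5140
theorem L5144 : sm gi N621 = N621 := ded_34_2 (flp_d L5140) L4025 L5140
theorem L5145 : sm gc N621 = N621 := ded_24_1 (flp_d L5140) L4023 L3220 (flp_c L4023) L5140
theorem L5146 : sm ge N621 = N621 := ded_30_2 (flp_d L5140) (flp_e L4019) L3133 L4019 L5140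
theorem L5147 : sm gf N484 = N622 := rfl
theorem L5149 : sm gb N622 = N486 := ded_20_1 (flp_f L4033) (flp_b L4021) L5147
theorem L5151 : sm gc N622 = N500 := ded_26_1 (flp_f L4129) (flp_c L4023) L5147
theorem L5153 : sm gi N622 = N622 := ded_41_2 (flp_f L5147) L4025 L5147
theorem L5154 : sm ge N622 = N622 := ded_35_1 (flp_f L5147) (flp_e L4019) L3134 L4019 L5147
theorem L5155 : sm gf N485 = N623 := rfl
theorem L5157 : sm ga N623 = N623 := ded_13_1 (flp_f L5155) L4028 L5155
theorem L5158 : sm gc N623 = N488 := ded_26_1 (flp_f L4049) (flp_c L4030) L5155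
theorem L5160 : sm gd N623 = N486 := ded_31_1 (flp_f L4033) L4026 L5155
theorem L5162 : sm gi N623 = N623 := ded_41_2 (flp_f L5155) L4029 L5155
theorem L5163 : sm gh N485 = N624 := rfl
theorem L5165 : sm ga N624 = N624 := ded_15_1 (flp_h L5163) L4028 L5163
theorem L5166 : sm gc N624 = N489 := ded_28_1 (flp_h L4056) (flp_c L4030) L5163
theorem L5168 : sm ge N624 = N624 := ded_37_1 (flp_h L5163) L4032 L5163
theorem L5169 : sm gg N486 = N625 := rfl
theorem L5171 : sm ga N625 = N625 := ded_14_1 (flp_g L5169) L4035 L5169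
theorem L5172 : sm gc N625 = N487 := ded_27_1 (flp_g L4040) (flp_c L4036) L5169
theorem L5174 : sm ge N625 = N625 := ded_36_1 (flp_g L5169) L4039 L5169
theorem L5175 : sm gi N625 = N625 := ded_43_2 (flp_g L5169) L4038 L5169
theorem L5176 : sm ge N488 = N626 := rfl
theorem L5181 : sm gd N626 = N502 := ded_30_1 (flp_e L4143) L3239 (flp_e L3167) (flp_d L4053) L5176
theorem L5184 : sm gg N488 = N627 := rfl
theorem L5186 : sm ga N627 = N627 := ded_14_1 (flp_g L5184) L4051 L5184
theorem L5187 : sm gb N627 = N627 := ded_21_1 (flp_g L5184) L4052 L5184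
theorem L5188 : sm gd N627 = N490 := ded_32_1 (flp_g L4062) (flp_d L4053) L5184
theorem L5190 : sm gi N627 = N627 := ded_43_2 (flp_g L5184) L4055 L5184
theorem L5191 : sm gh N488 = N628 := rfl
theorem L5195 : sm gf N628 = N489 := ded_40_1 (flp_h L4056) L4049 L5191
theorem L5198 : sm gi N489 = N629 := rfl
theorem L5205 : sm ga N491 = N630 := rfl
theorem L5207 : sm gd N630 = N630 := ded_11_2 (flp_a L5205) L4074 L5205
theorem L5208 : sm gf N630 = N630 := ded_13_2 (flp_a L5205) L4075 L5205
theorem L5209 : sm gh N630 = N630 := ded_15_2 (flp_a L5205) L4076 L5205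
theorem L5210 : sm gi N630 = N494 := ded_16_2 (flp_a L4093) (flp_i L4077) L5205
theorem L5212 : sm ge N491 = N631 := rfl
theorem L5214 : sm gb N631 = N492 := ded_19_1 (flp_e L4079) L4072 L5212
theorem L5216 : sm gh N631 = N631 := ded_37_2 (flp_e L5212) L4076 L5212
theorem L5217 : sm gi N631 = N495 := ded_38_2 (flp_e L4099) (flp_i L4077) L5212
theorem L5219 : sm gd N492 = N632 := rfl
theorem L5221 : sm gi N632 = N496 := ded_34_2 (flp_d L4105) (flp_i L4084) L5219
theorem L5223 : sm gc N632 = N632 := ded_24_1 (flp_d L5219) L4081 L3190 (flp_c L4081) L5219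
theorem L5224 : sm ge N632 = N632 := ded_30_2 (flp_d L5219) (flp_e L4079) L3184 L4079 L5219
theorem L5225 : sm gf N492 = N633 := rfl
theorem L5227 : sm gc N633 = N493 := ded_26_1 (flp_f L4086) (flp_c L4081) L5225
theorem L5229 : sm gh N633 = N633 := ded_40_2 (flp_f L5225) L4083 L5225
theorem L5230 : sm gi N633 = N497 := ded_41_2 (flp_f L4110) (flp_i L4084) L5225
theorem L5232 : sm ge N633 = N633 := ded_35_1 (flp_f L5225) (flp_e L4079) L3180 L4079 L5225
theorem L5233 : sm gg N493 = N634 := rfl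
theorem L5235 : sm gd N634 = N634 := ded_32_1 (flp_g L5233) L4088 L5233
theorem L5236 : sm ge N634 = N634 := ded_36_1 (flp_g L5233) L4092 L5233
theorem L5237 : sm gh N634 = N634 := ded_42_2 (flp_g L5233) L4089 L5233
theorem L5238 : sm gi N634 = N498 := ded_43_2 (flp_g L4117) (flp_i L4090) L5233
theorem L5240 : sm ge N494 = N635 := rfl
theorem L5242 : sm ga N635 = N495 := ded_12_1 (flp_e L4099) L4093 L5240
theorem L5244 : sm gh N635 = N499 := ded_37_2 (flp_e L4123) (flp_h L4097) L5240
theorem L5246 : sm gd N495 = N636 := rfl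
theorem L5248 : sm gb N636 = N496 := ded_18_1 (flp_d L4105) (flp_b L4101) L5246
theorem L5250 : sm ge N636 = N636 := ded_30_2 (flp_d L5246) (flp_e L4099) L3193 L4099 L5246
theorem L5251 : sm gh N636 = N636 := ded_33_2 (flp_d L5246) L4103 L3220 (flp_h L4103) L5246
theorem L5252 : sm gf N495 = N637 := rfl
theorem L5254 : sm gb N637 = N497 := ded_20_1 (flp_f L4110) (flp_b L4101) L5252
theorem L5256 : sm gh N637 = N500 := ded_40_2 (flp_f L4129) (flp_h L4103) L5252
theorem L5258 : sm ge N637 = N637 := ded_35_1 (flp_f L5252) (flp_e L4099) L3194 L4099 L5252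
theorem L5259 : sm gf N496 = N638 := rfl
theorem L5261 : sm gc N638 = N638 := ded_26_1 (flp_f L5259) L4107 L5259
theorem L5262 : sm gd N638 = N497 := ded_31_1 (flp_f L4110) L4105 L5259
theorem L5264 : sm gh N638 = N638 := ded_40_2 (flp_f L5259) L4109 L5259
theorem L5265 : sm gg N497 = N639 := rfl
theorem L5267 : sm gc N639 = N498 := ded_27_1 (flp_g L4117) (flp_c L4112) L5265
theorem L5269 : sm ge N639 = N639 := ded_36_1 (flp_g L5265) L4116 L5265
theorem L5270 : sm gh N639 = N501 := ded_42_2 (flp_g L4136) (flp_h L4114) L5265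
theorem L5272 : sm gf N499 = N640 := rfl
theorem L5274 : sm ga N640 = N500 := ded_13_1 (flp_f L4129) (flp_a L4125) L5272
theorem L5276 : sm gd N640 = N640 := ded_31_1 (flp_f L5272) L4128 L5272
theorem L5277 : sm gi N640 = N640 := ded_41_2 (flp_f L5272) L4127 L5272
theorem L5278 : sm ge N640 = N640 := ded_35_1 (flp_f L5272) (flp_e L4123) L3213 L4123 L5272
theorem L5279 : sm gg N500 = N641 := rfl
theorem L5281 : sm gb N641 = N501 := ded_21_1 (flp_g L4136) (flp_b L4131) L5279
theorem L5283 : sm gd N641 = N641 := ded_32_1 (flp_g L5279) L4133 L5279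
theorem L5284 : sm ge N641 = N641 := ded_36_1 (flp_g L5279) L4135 L5279
theorem L5285 : sm gi N641 = N641 := ded_43_2 (flp_g L5279) L4134 L5279
theorem L5286 : sm gg N502 = N642 := rfl
theorem L5291 : sm ge N642 = N503 := ded_36_1 (flp_g L4150) L4143 L5286
theorem L5302 : sm gh N503 = N644 := rfl
theorem L5308 : sm gg N644 = N504 := ded_42_1 (flp_h L4159) L4150 L5302
theorem L5320 : sm ga N506 = N646 := rfl
theorem L5322 : sm gc N646 = N528 := ded_10_2 (flp_a L4384) (flp_c L4184) L5320
theorem L5324 : sm gd N646 = N646 := ded_11_2 (flp_a L5320) L4178 L5320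
theorem L5325 : sm gf N646 = N508 := ded_13_2 (flp_a L4195) (flp_f L4179) L5320
theorem L5327 : sm gg N646 = N646 := ded_14_2 (flp_a L5320) L4181 L5320
theorem L5328 : sm gh N646 = N646 := ded_15_2 (flp_a L5320) L4182 L5320
theorem L5329 : sm gi N646 = N646 := ded_16_2 (flp_a L5320) L4183 L5320
theorem L5330 : sm gb N646 = N646 := ded_9_2 (flp_a L5320) (flp_b L4176) L3261 L4176 L5320
theorem L5331 : sm ge N506 = N647 := rfl
theorem L5333 : sm gb N647 = N507 := ded_19_1 (flp_e L4186) L4176 L5331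
theorem L5335 : sm gc N647 = N529 := ded_25_1 (flp_e L4393) (flp_c L4184) L5331
theorem L5337 : sm gg N647 = N647 := ded_36_2 (flp_e L5331) L4181 L5331
theorem L5338 : sm gh N647 = N647 := ded_37_2 (flp_e L5331) L4182 L5331
theorem L5339 : sm gi N647 = N647 := ded_38_2 (flp_e L5331) L4183 L5331
theorem L5340 : sm gf N647 = N647 := ded_35_2 (flp_e L5331) L4179 L3281 (flp_f L4179) L5331
theorem L5341 : sm gd N507 = N648 := rfl
theorem L5343 : sm ga N648 = N648 := ded_11_1 (flp_d L5341) L4188 L5341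
theorem L5344 : sm gf N648 = N648 := ded_31_2 (flp_d L5341) L4194 L5341
theorem L5345 : sm gg N648 = N648 := ded_32_2 (flp_d L5341) L4191 L5341
theorem L5346 : sm gi N648 = N648 := ded_34_2 (flp_d L5341) L4193 L5341
theorem L5347 : sm gc N648 = N648 := ded_24_1 (flp_d L5341) L4189 L3276 (flp_c L4189) L5341
theorem L5348 : sm ge N648 = N648 := ded_30_2 (flp_d L5341) (flp_e L4186) L3267 L4186 L5341
theorem L5349 : sm gb N509 = N649 := rfl
theorem L5351 : sm gd N649 = N649 := ded_18_2 (flp_b L5349) L4214 L5349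
theorem L5352 : sm ge N649 = N649 := ded_19_2 (flp_b L5349) L4210 L5349
theorem L5353 : sm gf N649 = N649 := ded_20_2 (flp_b L5349) L4211 L5349
theorem L5354 : sm gg N649 = N649 := ded_21_2 (flp_b L5349) L4212 L5349
theorem L5355 : sm gh N649 = N649 := ded_22_2 (flp_b L5349) L4213 L5349
theorem L5356 : sm ga N649 = N649 := ded_9_1 (flp_b L5349) L4208 L3777 (flp_a L4208) L5349
theorem L5357 : sm gc N649 = N649 := ded_17_2 (flp_b L5349) (flp_c L4206) L3302 L4206 L5349
theorem L5358 : sm gi N509 = N650 := rfl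
theorem L5360 : sm ga N650 = N575 := ded_16_1 (flp_i L4802) (flp_a L4208) L5358
theorem L5362 : sm gc N650 = N510 := ded_29_1 (flp_i L4215) L4206 L5358
theorem L5364 : sm gd N650 = N650 := ded_34_1 (flp_i L5358) L4214 L5358
theorem L5365 : sm ge N650 = N650 := ded_38_1 (flp_i L5358) L4210 L5358
theorem L5366 : sm gf N650 = N650 := ded_41_1 (flp_i L5358) L4211 L5358
theorem L5367 : sm gg N650 = N650 := ded_43_1 (flp_i L5358) L4212 L5358
theorem L5368 : sm gh N510 = N651 := rfl
theorem L5370 : sm ga N651 = N576 := ded_15_1 (flp_h L4811) (flp_a L4217) L5368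
theorem L5372 : sm gb N651 = N651 := ded_22_1 (flp_h L5368) L4219 L5368
theorem L5373 : sm ge N651 = N651 := ded_37_1 (flp_h L5368) L4222 L5368
theorem L5374 : sm gf N651 = N651 := ded_40_1 (flp_h L5368) L4223 L5368
theorem L5375 : sm gg N651 = N651 := ded_42_1 (flp_h L5368) L4224 L5368
theorem L5376 : sm gi N651 = N651 := ded_44_2 (flp_h L5368) (flp_i L4215) L3306 L4215 L5368
theorem L5377 : sm gd N511 = N652 := rfl
theorem L5379 : sm ga N652 = N577 := ded_11_1 (flp_d L4817) (flp_a L4227) L5377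
theorem L5381 : sm gb N652 = N652 := ded_18_1 (flp_d L5377) L4229 L5377
theorem L5382 : sm gf N652 = N652 := ded_31_2 (flp_d L5377) L4233 L5377
theorem L5383 : sm gg N652 = N652 := ded_32_2 (flp_d L5377) L4234 L5377
theorem L5384 : sm gi N652 = N512 := ded_34_2 (flp_d L4237) (flp_i L4235) L5377
theorem L5386 : sm gc N512 = N653 := rfl
theorem L5388 : sm ga N653 = N578 := ded_10_1 (flp_c L4823) (flp_a L4239) L5386
theorem L5390 : sm gf N653 = N653 := ded_26_2 (flp_c L5386) L4242 L5386
theorem L5391 : sm gg N653 = N653 := ded_27_2 (flp_c L5386) L4243 L5386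
theorem L5392 : sm gh N653 = N653 := ded_28_2 (flp_c L5386) L4244 L5386
theorem L5393 : sm gd N653 = N653 := ded_24_2 (flp_c L5386) (flp_d L4237) L3322 L4237 L5386
theorem L5394 : sm ge N512 = N654 := rfl
theorem L5396 : sm ga N654 = N579 := ded_12_1 (flp_e L4829) (flp_a L4239) L5394
theorem L5398 : sm gb N654 = N654 := ded_19_1 (flp_e L5394) L4241 L5394
theorem L5399 : sm gg N654 = N654 := ded_36_2 (flp_e L5394) L4243 L5394
theorem L5400 : sm gh N654 = N654 := ded_37_2 (flp_e L5394) L4244 L5394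
theorem L5401 : sm gd N654 = N515 := ded_30_1 (flp_e L4266) (flp_d L3338) (flp_e L3323) L4237 L5394
theorem L5403 : sm gc N513 = N655 := rfl
theorem L5405 : sm ga N655 = N580 := ded_10_1 (flp_c L4835) (flp_a L4247) L5403
theorem L5407 : sm gf N655 = N516 := ded_26_2 (flp_c L4274) (flp_f L4250) L5403
theorem L5409 : sm gg N655 = N655 := ded_27_2 (flp_c L5403) L4252 L5403
theorem L5410 : sm gh N655 = N655 := ded_28_2 (flp_c L5403) L4255 L5403
theorem L5411 : sm gi N655 = N514 := ded_29_2 (flp_c L4256) (flp_i L4253) L5403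
theorem L5413 : sm gd N655 = N655 := ded_24_2 (flp_c L5403) (flp_d L4245) L3332 L4245 L5403
theorem L5414 : sm ge N513 = N656 := rfl
theorem L5416 : sm ga N656 = N581 := ded_12_1 (flp_e L4844) (flp_a L4247) L5414
theorem L5418 : sm gb N656 = N656 := ded_19_1 (flp_e L5414) L4249 L5414
theorem L5419 : sm gg N656 = N656 := ded_36_2 (flp_e L5414) L4252 L5414
theorem L5420 : sm gh N656 = N656 := ded_37_2 (flp_e L5414) L4255 L5414
theorem L5421 : sm gi N656 = N515 := ded_38_2 (flp_e L4266) (flp_i L4253) L5414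
theorem L5423 : sm gb N514 = N657 := rfl
theorem L5425 : sm gd N657 = N657 := ded_18_2 (flp_b L5423) L4265 L5423
theorem L5426 : sm gf N657 = N518 := ded_20_2 (flp_b L4295) (flp_f L4260) L5423
theorem L5428 : sm gg N657 = N657 := ded_21_2 (flp_b L5423) L4262 L5423
theorem L5429 : sm gh N657 = N521 := ded_22_2 (flp_b L4321) (flp_h L4263) L5423
theorem L5431 : sm gc N657 = N657 := ded_17_2 (flp_b L5423) (flp_c L4256) L3342 L4256 L5423
theorem L5432 : sm ge N514 = N658 := rfl
theorem L5434 : sm ga N658 = N583 := ded_12_1 (flp_e L4858) (flp_a L4258) L5432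
theorem L5436 : sm gc N658 = N515 := ded_25_1 (flp_e L4266) L4256 L5432
theorem L5438 : sm gg N658 = N658 := ded_36_2 (flp_e L5432) L4262 L5432
theorem L5439 : sm gh N658 = N522 := ded_37_2 (flp_e L4330) (flp_h L4263) L5432
theorem L5441 : sm gf N515 = N659 := rfl
theorem L5443 : sm ga N659 = N584 := ded_13_1 (flp_f L4865) (flp_a L4268) L5441
theorem L5445 : sm gb N659 = N659 := ded_20_1 (flp_f L5441) L4270 L5441
theorem L5446 : sm gh N659 = N523 := ded_40_2 (flp_f L4338) (flp_h L4272) L5441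
theorem L5448 : sm ge N659 = N520 := ded_35_1 (flp_f L4313) (flp_e L3367) (flp_f L3343) L4266 L5441
theorem L5450 : sm gb N516 = N660 := rfl
theorem L5452 : sm gd N660 = N660 := ded_18_2 (flp_b L5450) L4283 L5450
theorem L5453 : sm gg N660 = N531 := ded_21_2 (flp_b L4409) (flp_g L4278) L5450
theorem L5455 : sm gh N660 = N660 := ded_22_2 (flp_b L5450) L4280 L5450
theorem L5456 : sm gi N660 = N518 := ded_23_2 (flp_b L4295) (flp_i L4281) L5450
theorem L5458 : sm gc N660 = N660 := ded_17_2 (flp_b L5450) (flp_c L4274) L3352 L4274 L5450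
theorem L5459 : sm ge N516 = N661 := rfl
theorem L5461 : sm ga N661 = N586 := ded_12_1 (flp_e L4879) (flp_a L4276) L5459
theorem L5463 : sm gc N661 = N517 := ded_25_1 (flp_e L4284) L4274 L5459
theorem L5465 : sm gg N661 = N532 := ded_36_2 (flp_e L4417) (flp_g L4278) L5459
theorem L5467 : sm gh N661 = N661 := ded_37_2 (flp_e L5459) L4280 L5459
theorem L5468 : sm gi N661 = N519 := ded_38_2 (flp_e L4303) (flp_i L4281) L5459
theorem L5470 : sm gf N517 = N662 := rfl
theorem L5472 : sm ga N662 = N587 := ded_13_1 (flp_f L4888) (flp_a L4286) L5470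
theorem L5474 : sm gb N662 = N662 := ded_20_1 (flp_f L5470) L4288 L5470
theorem L5475 : sm gd N662 = N662 := ded_31_1 (flp_f L5470) L4294 L5470
theorem L5476 : sm gh N662 = N662 := ded_40_2 (flp_f L5470) L4291 L5470
theorem L5477 : sm gi N662 = N520 := ded_41_2 (flp_f L4313) (flp_i L4292) L5470
theorem L5479 : sm ga N518 = N663 := rfl
theorem L5481 : sm gc N663 = N663 := ded_10_2 (flp_a L5479) L4302 L5479
theorem L5482 : sm gd N663 = N663 := ded_11_2 (flp_a L5479) L4297 L5479
theorem L5483 : sm gg N663 = N534 := ded_14_2 (flp_a L4436) (flp_g L4298) L5479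
theorem L5485 : sm gh N663 = N524 := ded_15_2 (flp_a L4347) (flp_h L4300) L5479
theorem L5487 : sm gb N663 = N588 := ded_9_2 (flp_a L4894) (flp_b L3837) (flp_a L3360) L4295 L5479
theorem L5489 : sm ge N518 = N664 := rfl
theorem L5491 : sm gb N664 = N519 := ded_19_1 (flp_e L4303) L4295 L5489
theorem L5493 : sm gc N664 = N664 := ded_25_1 (flp_e L5489) L4302 L5489
theorem L5494 : sm gg N664 = N535 := ded_36_2 (flp_e L4445) (flp_g L4298) L5489
theorem L5496 : sm gh N664 = N525 := ded_37_2 (flp_e L4357) (flp_h L4300) L5489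
theorem L5498 : sm gd N519 = N665 := rfl
theorem L5500 : sm ga N665 = N590 := ded_11_1 (flp_d L4909) (flp_a L4305) L5498
theorem L5502 : sm gg N665 = N536 := ded_32_2 (flp_d L4452) (flp_g L4309) L5498
theorem L5504 : sm gc N665 = N665 := ded_24_1 (flp_d L5498) L4307 L3376 (flp_c L4307) L5498
theorem L5505 : sm ge N665 = N665 := ded_30_2 (flp_d L5498) (flp_e L4303) L3366 L4303 L5498
theorem L5506 : sm gh N665 = N665 := ded_33_2 (flp_d L5498) L4311 L3412 (flp_h L4311) L5498
theorem L5507 : sm gf N519 = N666 := rfl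
theorem L5509 : sm ga N666 = N591 := ded_13_1 (flp_f L4916) (flp_a L4305) L5507
theorem L5511 : sm gc N666 = N520 := ded_26_1 (flp_f L4313) (flp_c L4307) L5507
theorem L5513 : sm gh N666 = N526 := ded_40_2 (flp_f L4366) (flp_h L4311) L5507
theorem L5515 : sm gg N520 = N667 := rfl
theorem L5517 : sm ga N667 = N592 := ded_14_1 (flp_g L4922) (flp_a L4315) L5515
theorem L5519 : sm gb N667 = N667 := ded_21_1 (flp_g L5515) L4317 L5515
theorem L5520 : sm gd N667 = N667 := ded_32_1 (flp_g L5515) L4318 L5515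
theorem L5521 : sm gh N667 = N527 := ded_42_2 (flp_g L4374) (flp_h L4319) L5515
theorem L5523 : sm gf N667 = N538 := ded_39_1 (flp_g L4468) (flp_f L3491) (flp_g L3372) L4313 L5515
theorem L5525 : sm ga N521 = N668 := rfl
theorem L5527 : sm gc N668 = N668 := ded_10_2 (flp_a L5525) L4329 L5525
theorem L5528 : sm gd N668 = N528 := ded_11_2 (flp_a L4384) (flp_d L4323) L5525
theorem L5530 : sm gf N668 = N524 := ded_13_2 (flp_a L4347) (flp_f L4325) L5525
theorem L5532 : sm gg N668 = N668 := ded_14_2 (flp_a L5525) L4327 L5525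
theorem L5533 : sm gi N668 = N668 := ded_16_2 (flp_a L5525) L4328 L5525
theorem L5534 : sm gb N668 = N593 := ded_9_2 (flp_a L4929) (flp_b L3857) (flp_a L3379) L4321 L5525
theorem L5536 : sm ge N521 = N669 := rfl
theorem L5538 : sm gb N669 = N522 := ded_19_1 (flp_e L4330) L4321 L5536
theorem L5540 : sm gc N669 = N669 := ded_25_1 (flp_e L5536) L4329 L5536
theorem L5541 : sm gg N669 = N669 := ded_36_2 (flp_e L5536) L4327 L5536
theorem L5542 : sm gi N669 = N669 := ded_38_2 (flp_e L5536) L4328 L5536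
theorem L5543 : sm gd N522 = N670 := rfl
theorem L5545 : sm ga N670 = N595 := ded_11_1 (flp_d L4943) (flp_a L4332) L5543
theorem L5547 : sm gg N670 = N670 := ded_32_2 (flp_d L5543) L4336 L5543
theorem L5548 : sm gi N670 = N670 := ded_34_2 (flp_d L5543) L4337 L5543
theorem L5549 : sm gc N670 = N670 := ded_24_1 (flp_d L5543) L4334 L3394 (flp_c L4334) L5543
theorem L5550 : sm ge N670 = N530 := ded_30_2 (flp_d L4401) (flp_e L3439) (flp_d L3385) L4330 L5543
theorem L5552 : sm gf N522 = N671 := rfl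
theorem L5554 : sm ga N671 = N596 := ded_13_1 (flp_f L4950) (flp_a L4332) L5552
theorem L5556 : sm gc N671 = N523 := ded_26_1 (flp_f L4338) (flp_c L4334) L5552
theorem L5558 : sm gi N671 = N671 := ded_41_2 (flp_f L5552) L4337 L5552
theorem L5559 : sm ge N671 = N526 := ded_35_1 (flp_f L4366) (flp_e L3403) (flp_f L3381) L4330 L5552
theorem L5561 : sm gg N523 = N672 := rfl
theorem L5563 : sm ga N672 = N597 := ded_14_1 (flp_g L4957) (flp_a L4340) L5561
theorem L5565 : sm gb N672 = N672 := ded_21_1 (flp_g L5561) L4342 L5561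
theorem L5566 : sm gd N672 = N672 := ded_32_1 (flp_g L5561) L4343 L5561
theorem L5567 : sm ge N672 = N527 := ded_36_1 (flp_g L4374) (flp_e L4345) L5561
theorem L5569 : sm gi N672 = N672 := ded_43_2 (flp_g L5561) L4344 L5561
theorem L5570 : sm gf N672 = N672 := ded_39_1 (flp_g L5561) (flp_f L4338) L3392 L4338 L5561
theorem L5571 : sm ge N524 = N673 := rfl
theorem L5573 : sm ga N673 = N525 := ded_12_1 (flp_e L4357) L4347 L5571
theorem L5575 : sm gb N673 = N598 := ded_19_1 (flp_e L4964) (flp_b L4355) L5571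
theorem L5577 : sm gc N673 = N673 := ded_25_1 (flp_e L5571) L4349 L5571
theorem L5578 : sm gg N673 = N539 := ded_36_2 (flp_e L4477) (flp_g L4352) L5571
theorem L5580 : sm gi N673 = N673 := ded_38_2 (flp_e L5571) L4354 L5571
theorem L5581 : sm gd N673 = N673 := ded_30_1 (flp_e L5571) L4350 L3451 (flp_d L4350) L5571
theorem L5582 : sm gf N525 = N674 := rfl
theorem L5584 : sm gb N674 = N526 := ded_20_1 (flp_f L4366) (flp_b L4359) L5582
theorem L5586 : sm gc N674 = N674 := ded_26_1 (flp_f L5582) L4361 L5582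
theorem L5587 : sm gd N674 = N674 := ded_31_1 (flp_f L5582) L4365 L5582
theorem L5588 : sm gi N674 = N674 := ded_41_2 (flp_f L5582) L4364 L5582
theorem L5589 : sm gg N526 = N675 := rfl
theorem L5591 : sm ga N675 = N600 := ded_14_1 (flp_g L4978) (flp_a L4368) L5589
theorem L5593 : sm gc N675 = N527 := ded_27_1 (flp_g L4374) (flp_c L4370) L5589
theorem L5595 : sm gd N675 = N675 := ded_32_1 (flp_g L5589) L4372 L5589
theorem L5596 : sm gi N675 = N675 := ded_43_2 (flp_g L5589) L4373 L5589
theorem L5597 : sm gf N675 = N541 := ded_39_1 (flp_g L4494) (flp_f L3516) (flp_g L3409) L4366 L5589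
theorem L5599 : sm ge N528 = N676 := rfl
theorem L5601 : sm ga N676 = N529 := ded_12_1 (flp_e L4393) L4384 L5599
theorem L5603 : sm gb N676 = N601 := ded_19_1 (flp_e L4986) (flp_b L4391) L5599
theorem L5605 : sm gg N676 = N676 := ded_36_2 (flp_e L5599) L4388 L5599
theorem L5606 : sm gh N676 = N676 := ded_37_2 (flp_e L5599) L4389 L5599
theorem L5607 : sm gi N676 = N676 := ded_38_2 (flp_e L5599) L4390 L5599
theorem L5608 : sm gf N676 = N676 := ded_35_2 (flp_e L5599) L4386 L3451 (flp_f L4386) L5599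
theorem L5609 : sm gd N529 = N677 := rfl
theorem L5611 : sm gb N677 = N530 := ded_18_1 (flp_d L4401) (flp_b L4395) L5609
theorem L5613 : sm gf N677 = N677 := ded_31_2 (flp_d L5609) L4400 L5609
theorem L5614 : sm gg N677 = N677 := ded_32_2 (flp_d L5609) L4397 L5609
theorem L5615 : sm gi N677 = N677 := ded_34_2 (flp_d L5609) L4399 L5609
theorem L5616 : sm gh N530 = N678 := rfl
theorem L5618 : sm ga N678 = N603 := ded_15_1 (flp_h L5002) (flp_a L4403) L5616
theorem L5620 : sm gc N678 = N678 := ded_28_1 (flp_h L5616) L4408 L5616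
theorem L5621 : sm gf N678 = N678 := ded_40_1 (flp_h L5616) L4405 L5616
theorem L5622 : sm gg N678 = N678 := ded_42_1 (flp_h L5616) L4406 L5616
theorem L5623 : sm gd N678 = N678 := ded_33_1 (flp_h L5616) (flp_d L4401) L3446 L4401 L5616
theorem L5624 : sm ga N531 = N679 := rfl
theorem L5626 : sm gc N679 = N679 := ded_10_2 (flp_a L5624) L4416 L5624
theorem L5627 : sm gd N679 = N679 := ded_11_2 (flp_a L5624) L4411 L5624
theorem L5628 : sm gf N679 = N679 := ded_13_2 (flp_a L5624) L4412 L5624
theorem L5629 : sm gh N679 = N679 := ded_15_2 (flp_a L5624) L4413 L5624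
theorem L5630 : sm gi N679 = N534 := ded_16_2 (flp_a L4436) (flp_i L4414) L5624
theorem L5632 : sm gb N679 = N630 := ded_9_2 (flp_a L5205) (flp_b L4072) (flp_a L3460) L4409 L5624
theorem L5634 : sm ge N531 = N680 := rfl
theorem L5636 : sm gb N680 = N532 := ded_19_1 (flp_e L4417) L4409 L5634
theorem L5638 : sm gc N680 = N680 := ded_25_1 (flp_e L5634) L4416 L5634
theorem L5639 : sm gh N680 = N680 := ded_37_2 (flp_e L5634) L4413 L5634
theorem L5640 : sm gi N680 = N535 := ded_38_2 (flp_e L4445) (flp_i L4414) L5634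
theorem L5642 : sm gd N537 = N680 := ded_45_89 L5640 L4450 L3515 L4486 L4493 L4491 L4488 L3520 L2782 L2223 L2222 (flp_d L2782) (flp_f L2777) (flp_e L2208) (flp_d L1772) L1416 L1417 L1433 L1438 L1440 (flp_d L1433) L1132 L1130 L871 (flp_b L1044) L1046 L1049 L1050 (flp_h L1041) L797 L565 L389 L241 L239 L170 L171 (flp_i L166) (flp_h L96) (flp_d L58) L38 L37 L58 (flp_b L83) L126 L133 L131 L212 L340 L344 L347 (flp_d L340) L215 L216 L149 L236 L244 L241 L242 (flp_e L389) (flp_d L574) L571 (flp_c L625) L627 (flp_i L620) L424 L426 (flp_f L600) L838 L1098 L1102 L1104 (flp_d L1098) L1106 L1412 L1772 L1777 L2208 L2214 L1783 L1784 (flp_d L2214) L2213 (flp_h L2759) L2761 L3491 L3499 L3496 L3495 (flp_c L4463)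
theorem L5644 : sm ga N680 = N638 := ded_11_1 L5262 (flp_a L4461) L5642
theorem L5646 : sm gf N680 = N536 := ded_31_2 (flp_d L4452) L4459 L5642
theorem L5648 : sm ge N638 = N679 := ded_12_2 (flp_a L5624) L5634 L5644
theorem L5650 : N392 = N604 := coi_46_50 L5015 L3943 L3089 L2453 L1960 (flp_a L1757) L2182 L2189 L2188 L2737 L3458 L4409 L5624 L5629 L5628 (flp_e L5648) L5262 L4112 (flp_b L4005) L4004 L4008 (flp_f L3144) (flp_e L2488) (flp_d L1972) L1579 L1577 (flp_a L1414) (flp_h L1412) L1115 L1113 L854 L852 (flp_b L794) L793 L1041 L1047 L807 L809 L806 L804 L632 (flp_h L485) (flp_f L468) (flp_e L685) L684 (flp_c L954) (flp_b L1217) L1216 L1574 L1582 L1580 L1584 L1979 L1986 L1981 L1984 L1982 L2032 L2562 L2568 L2565 L2564 L3242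
theorem L5651 : N604 = N392 := (eqc rfl L5650 rfl).symm
theorem L5657 : sm gf N392 = N473 := trfs L5651 L5015 rfl
theorem L5658 : N473 = N504 := eqes L5657 (flp_f L4164)
theorem L5659 : N504 = N473 := (eqc rfl L5658 rfl).symm
theorem L5661 : sm gi N392 = N472 := trfs L5651 (flp_i L5008) rfl
theorem L5662 : N472 = N505 := eqes L5661 L4167
theorem L5663 : N505 = N472 := (eqc rfl L5662 rfl).symm
theorem L5674 : sm gi N472 = N392 := trfs L5663 (flp_i L4167) rfl
theorem L5689 : sm gf N473 = N392 := trfs L5659 L4164 rfl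
theorem L5691 : sm gg N473 = N644 := trfs L5659 (flp_g L5308) rfl
theorem L5692 : N644 = N548 := eqes L5691 (flp_g L4573)
theorem L5693 : N644 = N548 := eqc rfl L5692 rfl
theorem L5694 : sm gh N473 = N391 := trfs L5659 (flp_h L4159) rfl
theorem L5695 : N391 = N605 := eqes L5694 L5018
theorem L5696 : N605 = N391 := (eqc rfl L5695 rfl).symm
theorem L5700 : sm ge N391 = N474 := trfs L5696 L5023 rfl
theorem L5701 : N474 = N502 := eqes L5700 L4143
theorem L5702 : N502 = N474 := (eqc rfl L5701 rfl).symm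
theorem L5703 : sm gh N391 = N473 := trfs L5696 (flp_h L5018) rfl
theorem L5709 : sm gd N474 = N626 := trfs L5702 (flp_d L5181) rfl
theorem L5710 : N626 = N606 := eqes L5709 L5026
theorem L5711 : N626 = N606 := eqc rfl L5710 rfl
theorem L5712 : sm ge N474 = N391 := trfs L5702 (flp_e L4143) rfl
theorem L5715 : sm gg N474 = N642 := trfs L5702 L5286 rfl
theorem L5716 : N642 = N549 := eqes L5715 (flp_g L4580)
theorem L5717 : N642 = N549 := eqc rfl L5716 rfl
theorem L5723 : sm ge N549 = N503 := trfs L5717 L5291 rfl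
theorem L5728 : sm ge N606 = N488 := trfs L5711 (flp_e L5176) rfl
theorem L5737 : sm gh N548 = N503 := trfs L5693 (flp_h L5302) rfl
theorem L5743 : N628 = N608 := coi_37_3 (flp_e L5042) (flp_h L5032) L5728 L5191
theorem L5744 : N628 = N608 := eqc rfl L5743 rfl
theorem L5748 : sm gf N608 = N489 := trfs L5744 L5195 rfl
theorem L5750 : sm gh N608 = N488 := trfs L5744 (flp_h L5191) rfl
theorem L5752 : N629 = N611 := coi_41_3 (flp_f L5062) (flp_i L5046) L5748 L5198
theorem L5753 : N629 = N611 := eqc rfl L5752 rfl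
theorem L5759 : sm gi N611 = N489 := trfs L5753 (flp_i L5198) rfl
theorem L5761 : sm gd N532 = N681 := rfl
theorem L5763 : sm ga N681 = N632 := ded_11_1 (flp_d L5219) (flp_a L4419) L5761
theorem L5765 : sm gb N681 = N537 := ded_18_1 L5642 L5636 L5761
theorem L5767 : sm gi N681 = N536 := ded_34_2 (flp_d L4452) (flp_i L4424) L5761
theorem L5769 : sm gc N681 = N681 := ded_24_1 (flp_d L5761) L4421 L3475 (flp_c L4421) L5761
theorem L5770 : sm ge N681 = N681 := ded_30_2 (flp_d L5761) (flp_e L4417) L3466 L4417 L5761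
theorem L5771 : sm gf N535 = N681 := ded_20_0 L5765 (flp_f L4459) (flp_b L4447)
theorem L5773 : sm gh N540 = N681 := ded_22_0 L5765 L4465 (flp_b L4488)
theorem L5775 : sm gf N532 = N682 := rfl
theorem L5777 : sm ga N682 = N633 := ded_13_1 (flp_f L5225) (flp_a L4419) L5775
theorem L5779 : sm gb N682 = N536 := ded_20_1 (flp_f L5646) L5636 L5775
theorem L5781 : sm gc N682 = N533 := ded_26_1 (flp_f L4426) (flp_c L4421) L5775
theorem L5783 : sm gd N682 = N535 := ded_31_1 L5771 (flp_d L5761) L5775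
theorem L5785 : sm gh N682 = N682 := ded_40_2 (flp_f L5775) L4423 L5775
theorem L5786 : sm gi N682 = N537 := ded_41_2 (flp_f L4459) (flp_i L4424) L5775
theorem L5788 : sm ge N682 = N682 := ded_35_1 (flp_f L5775) (flp_e L4417) L3462 L4417 L5775
theorem L5789 : sm gg N533 = N683 := rfl
theorem L5791 : sm ga N683 = N634 := ded_14_1 (flp_g L5233) (flp_a L4428) L5789
theorem L5793 : sm gb N683 = N683 := ded_21_1 (flp_g L5789) L4430 L5789
theorem L5794 : sm gd N683 = N683 := ded_32_1 (flp_g L5789) L4431 L5789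
theorem L5795 : sm ge N683 = N683 := ded_36_1 (flp_g L5789) L4435 L5789
theorem L5796 : sm gh N683 = N683 := ded_42_2 (flp_g L5789) L4432 L5789
theorem L5797 : sm gi N683 = N538 := ded_43_2 (flp_g L4468) (flp_i L4433) L5789
theorem L5799 : sm ge N534 = N684 := rfl
theorem L5801 : sm ga N684 = N535 := ded_12_1 (flp_e L4445) L4436 L5799
theorem L5803 : sm gb N684 = N635 := ded_19_1 (flp_e L5240) (flp_b L4443) L5799
theorem L5805 : sm gc N684 = N684 := ded_25_1 (flp_e L5799) L4438 L5799
theorem L5806 : sm gh N684 = N539 := ded_37_2 (flp_e L4477) (flp_h L4441) L5799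
theorem L5808 : sm gi N684 = N638 := ded_38_2 L5648 L5630 L5799
theorem L5810 : sm gd N684 = N633 := ded_46_3 L5227 (flp_b L5088) L5087 L5091 (flp_f L5085) (flp_e L3979) (flp_d L3108) (flp_c L3096) L3095 L3094 (flp_h L3092) L2456 L2455 (flp_d L3089) L3088 L3087 L3086 L3945 L3950 L5712 L3239 L2574 L2044 (flp_a L1797) L1802 (flp_f L1795) (flp_e L1441) (flp_d L1134) L878 (flp_b L804) L803 (flp_h L801) (flp_f L799) (flp_e L1038) L1037 L1036 L1034 L859 L966 L971 L969 L693 (flp_c L961) (flp_b L1226) L1225 (flp_h L1223) L945 L702 L701 L700 L698 (flp_a L622) L873 (flp_f L1123) (flp_e L1419) L1772 L2200 L2762 L3500 (flp_h L4441) L4440 L5799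
theorem L5812 : sm gf N632 = N684 := ded_13_0 L5801 L5771 L5763
theorem L5814 : sm gg N537 = N685 := rfl
theorem L5816 : sm ga N685 = N639 := ded_14_1 (flp_g L5265) (flp_a L4461) L5814
theorem L5818 : sm gc N685 = N538 := ded_27_1 (flp_g L4468) (flp_c L4463) L5814
theorem L5820 : sm ge N685 = N685 := ded_36_1 (flp_g L5814) L4467 L5814
theorem L5821 : sm gh N685 = N541 := ded_42_2 (flp_g L4494) (flp_h L4465) L5814
theorem L5823 : sm gf N539 = N686 := rfl
theorem L5825 : sm ga N686 = N540 := ded_13_1 (flp_f L4486) (flp_a L4479) L5823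
theorem L5827 : sm gb N686 = N640 := ded_20_1 (flp_f L5272) (flp_b L4481) L5823
theorem L5829 : sm gc N686 = N686 := ded_26_1 (flp_f L5823) L4483 L5823
theorem L5830 : sm gd N686 = N686 := ded_31_1 (flp_f L5823) L4485 L5823
theorem L5831 : sm gh N686 = N632 := ded_40_2 L5812 L5806 L5823
theorem L5833 : sm gi N686 = N686 := ded_41_2 (flp_f L5823) L4484 L5823
theorem L5834 : sm ge N686 = N686 := ded_35_1 (flp_f L5823) (flp_e L4477) L3505 L4477 L5823
theorem L5835 : sm gg N540 = N687 := rfl
theorem L5837 : sm gb N687 = N541 := ded_21_1 (flp_g L4494) (flp_b L4488) L5835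
theorem L5839 : sm gc N687 = N687 := ded_27_1 (flp_g L5835) L4490 L5835
theorem L5840 : sm gd N687 = N687 := ded_32_1 (flp_g L5835) L4491 L5835
theorem L5841 : sm ge N687 = N687 := ded_36_1 (flp_g L5835) L4493 L5835
theorem L5842 : sm gi N687 = N687 := ded_43_2 (flp_g L5835) L4492 L5835
theorem L5843 : sm gh N542 = N688 := rfl
theorem L5845 : sm ga N688 = N688 := ded_15_1 (flp_h L5843) L4505 L5843
theorem L5846 : sm gb N688 = N688 := ded_22_1 (flp_h L5843) L4506 L5843
theorem L5847 : sm gc N688 = N688 := ded_28_1 (flp_h L5843) L4507 L5843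
theorem L5848 : sm ge N688 = N688 := ded_37_1 (flp_h L5843) L4510 L5843
theorem L5849 : sm gf N688 = N688 := ded_40_1 (flp_h L5843) L4511 L5843
theorem L5850 : sm gg N688 = N688 := ded_42_1 (flp_h L5843) L4512 L5843
theorem L5851 : sm gi N688 = N688 := ded_44_2 (flp_h L5843) (flp_i L4503) L3542 L4503 L5843
theorem L5852 : sm gh N543 = N689 := rfl
theorem L5854 : sm ga N689 = N689 := ded_15_1 (flp_h L5852) L4515 L5852
theorem L5855 : sm gb N689 = N689 := ded_22_1 (flp_h L5852) L4516 L5852
theorem L5856 : sm gc N689 = N554 := ded_28_1 (flp_h L4618) (flp_c L4517) L5852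
theorem L5858 : sm ge N689 = N546 := ded_37_1 (flp_h L4545) (flp_e L4520) L5852
theorem L5860 : sm gf N689 = N689 := ded_40_1 (flp_h L5852) L4522 L5852
theorem L5861 : sm gg N689 = N689 := ded_42_1 (flp_h L5852) L4523 L5852
theorem L5862 : sm gi N689 = N544 := ded_44_2 (flp_h L4524) (flp_i L3554) L3543 L4513 L5852
theorem L5864 : sm gd N544 = N690 := rfl
theorem L5866 : sm ga N690 = N690 := ded_11_1 (flp_d L5864) L4526 L5864
theorem L5867 : sm gb N690 = N690 := ded_18_1 (flp_d L5864) L4527 L5864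
theorem L5868 : sm gf N690 = N690 := ded_31_2 (flp_d L5864) L4532 L5864
theorem L5869 : sm gg N690 = N690 := ded_32_2 (flp_d L5864) L4533 L5864
theorem L5870 : sm gh N545 = N691 := rfl
theorem L5872 : sm ga N691 = N691 := ded_15_1 (flp_h L5870) L4536 L5870
theorem L5873 : sm gb N691 = N691 := ded_22_1 (flp_h L5870) L4537 L5870
theorem L5874 : sm gc N691 = N691 := ded_28_1 (flp_h L5870) L4538 L5870
theorem L5875 : sm ge N691 = N691 := ded_37_1 (flp_h L5870) L4541 L5870
theorem L5876 : sm gf N691 = N549 := ded_40_1 (flp_h L4575) (flp_f L4542) L5870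
theorem L5878 : sm gg N691 = N691 := ded_42_1 (flp_h L5870) L4544 L5870
theorem L5879 : sm gi N691 = N691 := ded_44_2 (flp_h L5870) (flp_i L4534) L3573 L4534 L5870
theorem L5880 : sm gd N546 = N692 := rfl
theorem L5882 : sm ga N692 = N692 := ded_11_1 (flp_d L5880) L4547 L5880
theorem L5883 : sm gb N692 = N692 := ded_18_1 (flp_d L5880) L4548 L5880
theorem L5884 : sm gf N692 = N550 := ded_31_2 (flp_d L4583) (flp_f L4551) L5880
theorem L5886 : sm gg N692 = N692 := ded_32_2 (flp_d L5880) L4553 L5880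
theorem L5887 : sm gi N692 = N547 := ded_34_2 (flp_d L4556) (flp_i L4554) L5880
theorem L5889 : sm gc N547 = N693 := rfl
theorem L5891 : sm ga N693 = N693 := ded_10_1 (flp_c L5889) L4558 L5889
theorem L5892 : sm gf N693 = N551 := ded_26_2 (flp_c L4591) (flp_f L4560) L5889
theorem L5894 : sm gg N693 = N693 := ded_27_2 (flp_c L5889) L4562 L5889
theorem L5895 : sm gh N693 = N693 := ded_28_2 (flp_c L5889) L4563 L5889
theorem L5896 : sm gd N693 = N557 := ded_24_2 (flp_c L4648) (flp_d L3667) (flp_c L3587) L4556 L5889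
theorem L5898 : sm ge N547 = N694 := rfl
theorem L5900 : sm ga N694 = N694 := ded_12_1 (flp_e L5898) L4558 L5898
theorem L5901 : sm gb N694 = N694 := ded_19_1 (flp_e L5898) L4559 L5898
theorem L5902 : sm gg N694 = N694 := ded_36_2 (flp_e L5898) L4562 L5898
theorem L5903 : sm gh N694 = N694 := ded_37_2 (flp_e L5898) L4563 L5898
theorem L5904 : sm gd N549 = N695 := rfl
theorem L5906 : sm ga N695 = N695 := ded_11_1 (flp_d L5904) L4577 L5904
theorem L5907 : sm gb N695 = N695 := ded_18_1 (flp_d L5904) L4578 L5904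
theorem L5908 : sm gg N695 = N606 := ded_32_2 (flp_d L5026) (flp_g L4580) L5904
theorem L5910 : sm gi N695 = N695 := ded_34_2 (flp_d L5904) L4582 L5904
theorem L5911 : sm ge N695 = N627 := ded_30_2 L5188 L4068 (flp_d L4155) (flp_e L5723) L5904
theorem L5913 : sm gh N695 = N550 := ded_33_2 (flp_d L4583) (flp_h L3611) (flp_d L3607) L4575 L5904
theorem L5915 : sm gc N550 = N696 := rfl
theorem L5917 : sm ga N696 = N696 := ded_10_1 (flp_c L5915) L4585 L5915
theorem L5918 : sm gg N696 = N607 := ded_27_2 (flp_c L5034) (flp_g L4587) L5915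
theorem L5920 : sm gi N696 = N551 := ded_29_2 (flp_c L4591) (flp_i L4589) L5915
theorem L5922 : sm gd N696 = N559 := ded_24_2 (flp_c L4664) (flp_d L3677) (flp_c L3615) L4583 L5915
theorem L5924 : sm ge N550 = N697 := rfl
theorem L5926 : sm ga N697 = N697 := ded_12_1 (flp_e L5924) L4585 L5924
theorem L5927 : sm gb N697 = N697 := ded_19_1 (flp_e L5924) L4586 L5924
theorem L5928 : sm gg N697 = N608 := ded_36_2 (flp_e L5042) (flp_g L4587) L5924
theorem L5930 : sm gh N697 = N627 := ded_37_2 (flp_e L5911) L5913 L5924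
theorem L5932 : sm gi N697 = N552 := ded_38_2 (flp_e L4599) (flp_i L4589) L5924
theorem L5934 : sm gd N697 = N697 := ded_30_1 (flp_e L5924) (flp_d L4583) L3617 L4583 L5924
theorem L5935 : sm gb N551 = N698 := rfl
theorem L5937 : sm gd N698 = N561 := ded_18_2 (flp_b L4683) (flp_d L4597) L5935
theorem L5939 : sm gg N698 = N609 := ded_21_2 (flp_b L5049) (flp_g L4594) L5935
theorem L5941 : sm gh N698 = N698 := ded_22_2 (flp_b L5935) L4596 L5935
theorem L5942 : sm gc N698 = N698 := ded_17_2 (flp_b L5935) (flp_c L4591) L3625 L4591 L5935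
theorem L5943 : sm ge N551 = N699 := rfl
theorem L5945 : sm ga N699 = N699 := ded_12_1 (flp_e L5943) L4593 L5943
theorem L5946 : sm gc N699 = N552 := ded_25_1 (flp_e L4599) L4591 L5943
theorem L5948 : sm gg N699 = N610 := ded_36_2 (flp_e L5056) (flp_g L4594) L5943
theorem L5950 : sm gh N699 = N699 := ded_37_2 (flp_e L5943) L4596 L5943
theorem L5951 : sm gf N552 = N700 := rfl
theorem L5953 : sm ga N700 = N700 := ded_13_1 (flp_f L5951) L4601 L5951
theorem L5954 : sm gb N700 = N700 := ded_20_1 (flp_f L5951) L4602 L5951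
theorem L5955 : sm gd N700 = N700 := ded_31_1 (flp_f L5951) L4606 L5951
theorem L5956 : sm gh N700 = N700 := ded_40_2 (flp_f L5951) L4605 L5951
theorem L5957 : sm gh N553 = N701 := rfl
theorem L5959 : sm ga N701 = N701 := ded_15_1 (flp_h L5957) L4609 L5957
theorem L5960 : sm gb N701 = N576 := ded_22_1 (flp_h L4811) (flp_b L4610) L5957
theorem L5962 : sm gc N701 = N701 := ded_28_1 (flp_h L5957) L4612 L5957
theorem L5963 : sm ge N701 = N701 := ded_37_1 (flp_h L5957) L4615 L5957
theorem L5964 : sm gf N701 = N701 := ded_40_1 (flp_h L5957) L4616 L5957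
theorem L5965 : sm gg N701 = N701 := ded_42_1 (flp_h L5957) L4617 L5957
theorem L5966 : sm gi N701 = N701 := ded_44_2 (flp_h L5957) (flp_i L4607) L3638 L4607 L5957
theorem L5967 : sm gd N554 = N702 := rfl
theorem L5969 : sm ga N702 = N702 := ded_11_1 (flp_d L5967) L4620 L5967
theorem L5970 : sm gb N702 = N577 := ded_18_1 (flp_d L4817) (flp_b L4621) L5967
theorem L5972 : sm gf N702 = N702 := ded_31_2 (flp_d L5967) L4625 L5967
theorem L5973 : sm gg N702 = N702 := ded_32_2 (flp_d L5967) L4626 L5967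
theorem L5974 : sm gi N702 = N555 := ded_34_2 (flp_d L4629) (flp_i L4627) L5967
theorem L5976 : sm gc N555 = N703 := rfl
theorem L5978 : sm ga N703 = N703 := ded_10_1 (flp_c L5976) L4631 L5976
theorem L5979 : sm gf N703 = N703 := ded_26_2 (flp_c L5976) L4634 L5976
theorem L5980 : sm gg N703 = N703 := ded_27_2 (flp_c L5976) L4635 L5976
theorem L5981 : sm gh N703 = N703 := ded_28_2 (flp_c L5976) L4636 L5976
theorem L5982 : sm ge N555 = N704 := rfl
theorem L5984 : sm ga N704 = N704 := ded_12_1 (flp_e L5982) L4631 L5982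
theorem L5985 : sm gb N704 = N579 := ded_19_1 (flp_e L4829) (flp_b L4632) L5982
theorem L5987 : sm gg N704 = N704 := ded_36_2 (flp_e L5982) L4635 L5982
theorem L5988 : sm gh N704 = N704 := ded_37_2 (flp_e L5982) L4636 L5982
theorem L5989 : sm gd N704 = N558 := ded_30_1 (flp_e L4656) (flp_d L3667) (flp_e L3653) L4629 L5982
theorem L5991 : sm gc N556 = N705 := rfl
theorem L5993 : sm ga N705 = N705 := ded_10_1 (flp_c L5991) L4639 L5991
theorem L5994 : sm gf N705 = N559 := ded_26_2 (flp_c L4664) (flp_f L4642) L5991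
theorem L5996 : sm gg N705 = N705 := ded_27_2 (flp_c L5991) L4644 L5991
theorem L5997 : sm gh N705 = N705 := ded_28_2 (flp_c L5991) L4647 L5991
theorem L5998 : sm gi N705 = N557 := ded_29_2 (flp_c L4648) (flp_i L4645) L5991
theorem L6000 : sm ge N556 = N706 := rfl
theorem L6002 : sm ga N706 = N706 := ded_12_1 (flp_e L6000) L4639 L6000
theorem L6003 : sm gb N706 = N581 := ded_19_1 (flp_e L4844) (flp_b L4640) L6000
theorem L6005 : sm gg N706 = N706 := ded_36_2 (flp_e L6000) L4644 L6000
theorem L6006 : sm gh N706 = N706 := ded_37_2 (flp_e L6000) L4647 L6000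
theorem L6007 : sm gi N706 = N558 := ded_38_2 (flp_e L4656) (flp_i L4645) L6000
theorem L6009 : sm gb N557 = N707 := rfl
theorem L6011 : sm gf N707 = N561 := ded_20_2 (flp_b L4683) (flp_f L4651) L6009
theorem L6013 : sm gg N707 = N707 := ded_21_2 (flp_b L6009) L4653 L6009
theorem L6014 : sm gh N707 = N564 := ded_22_2 (flp_b L4708) (flp_h L4654) L6009
theorem L6016 : sm gc N707 = N582 := ded_17_2 (flp_b L4850) (flp_c L3808) (flp_b L3670) L4648 L6009
theorem L6018 : sm ge N557 = N708 := rfl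
theorem L6020 : sm ga N708 = N708 := ded_12_1 (flp_e L6018) L4650 L6018
theorem L6021 : sm gc N708 = N558 := ded_25_1 (flp_e L4656) L4648 L6018
theorem L6023 : sm gg N708 = N708 := ded_36_2 (flp_e L6018) L4653 L6018
theorem L6024 : sm gh N708 = N565 := ded_37_2 (flp_e L4717) (flp_h L4654) L6018
theorem L6026 : sm gf N558 = N709 := rfl
theorem L6028 : sm ga N709 = N709 := ded_13_1 (flp_f L6026) L4658 L6026
theorem L6029 : sm gb N709 = N584 := ded_20_1 (flp_f L4865) (flp_b L4659) L6026
theorem L6031 : sm gh N709 = N566 := ded_40_2 (flp_f L4724) (flp_h L4662) L6026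
theorem L6033 : sm ge N709 = N563 := ded_35_1 (flp_f L4700) (flp_e L3694) (flp_f L3672) L4656 L6026
theorem L6035 : sm gb N559 = N710 := rfl
theorem L6037 : sm gg N710 = N612 := ded_21_2 (flp_b L5069) (flp_g L4667) L6035
theorem L6039 : sm gh N710 = N710 := ded_22_2 (flp_b L6035) L4669 L6035
theorem L6040 : sm gi N710 = N561 := ded_23_2 (flp_b L4683) (flp_i L4670) L6035
theorem L6042 : sm gc N710 = N585 := ded_17_2 (flp_b L4871) (flp_c L3821) (flp_b L3680) L4664 L6035
theorem L6044 : sm ge N559 = N711 := rfl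
theorem L6046 : sm ga N711 = N711 := ded_12_1 (flp_e L6044) L4666 L6044
theorem L6047 : sm gc N711 = N560 := ded_25_1 (flp_e L4672) L4664 L6044
theorem L6049 : sm gg N711 = N613 := ded_36_2 (flp_e L5077) (flp_g L4667) L6044
theorem L6051 : sm gh N711 = N711 := ded_37_2 (flp_e L6044) L4669 L6044
theorem L6052 : sm gi N711 = N562 := ded_38_2 (flp_e L4691) (flp_i L4670) L6044
theorem L6054 : sm gf N560 = N712 := rfl
theorem L6056 : sm ga N712 = N712 := ded_13_1 (flp_f L6054) L4674 L6054
theorem L6057 : sm gb N712 = N587 := ded_20_1 (flp_f L4888) (flp_b L4675) L6054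
theorem L6059 : sm gd N712 = N712 := ded_31_1 (flp_f L6054) L4682 L6054
theorem L6060 : sm gh N712 = N712 := ded_40_2 (flp_f L6054) L4679 L6054
theorem L6061 : sm gi N712 = N563 := ded_41_2 (flp_f L4700) (flp_i L4680) L6054
theorem L6063 : sm ga N561 = N713 := rfl
theorem L6065 : sm gc N713 = N588 := ded_10_2 (flp_a L4894) (flp_c L4689) L6063
theorem L6067 : sm gg N713 = N615 := ded_14_2 (flp_a L5095) (flp_g L4685) L6063
theorem L6069 : sm gh N713 = N567 := ded_15_2 (flp_a L4733) (flp_h L4687) L6063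
theorem L6071 : sm gb N713 = N713 := ded_9_2 (flp_a L6063) (flp_b L4683) L3689 L4683 L6063
theorem L6072 : sm ge N561 = N714 := rfl
theorem L6074 : sm gb N714 = N562 := ded_19_1 (flp_e L4691) L4683 L6072
theorem L6076 : sm gc N714 = N589 := ded_25_1 (flp_e L4901) (flp_c L4689) L6072
theorem L6078 : sm gg N714 = N616 := ded_36_2 (flp_e L5103) (flp_g L4685) L6072
theorem L6080 : sm gh N714 = N568 := ded_37_2 (flp_e L4742) (flp_h L4687) L6072
theorem L6082 : sm gd N562 = N715 := rfl
theorem L6084 : sm ga N715 = N715 := ded_11_1 (flp_d L6082) L4693 L6082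
theorem L6085 : sm gg N715 = N617 := ded_32_2 (flp_d L5111) (flp_g L4696) L6082
theorem L6087 : sm gc N715 = N715 := ded_24_1 (flp_d L6082) L4694 L3703 (flp_c L4694) L6082
theorem L6088 : sm gf N562 = N716 := rfl
theorem L6090 : sm ga N716 = N716 := ded_13_1 (flp_f L6088) L4693 L6088
theorem L6091 : sm gc N716 = N563 := ded_26_1 (flp_f L4700) (flp_c L4694) L6088
theorem L6093 : sm gh N716 = N570 := ded_40_2 (flp_f L4760) (flp_h L4698) L6088
theorem L6095 : sm gg N563 = N717 := rfl
theorem L6097 : sm ga N717 = N717 := ded_14_1 (flp_g L6095) L4702 L6095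
theorem L6098 : sm gb N717 = N592 := ded_21_1 (flp_g L4922) (flp_b L4703) L6095
theorem L6100 : sm gd N717 = N717 := ded_32_1 (flp_g L6095) L4705 L6095
theorem L6101 : sm gh N717 = N571 := ded_42_2 (flp_g L4766) (flp_h L4706) L6095
theorem L6103 : sm gf N717 = N619 := ded_39_1 (flp_g L5123) (flp_f L4002) (flp_g L3699) L4700 L6095
theorem L6105 : sm ga N564 = N718 := rfl
theorem L6107 : sm gc N718 = N593 := ded_10_2 (flp_a L4929) (flp_c L4715) L6105
theorem L6109 : sm gd N718 = N718 := ded_11_2 (flp_a L6105) L4710 L6105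
theorem L6110 : sm gf N718 = N567 := ded_13_2 (flp_a L4733) (flp_f L4711) L6105
theorem L6112 : sm gg N718 = N718 := ded_14_2 (flp_a L6105) L4713 L6105
theorem L6113 : sm gi N718 = N718 := ded_16_2 (flp_a L6105) L4714 L6105
theorem L6114 : sm gb N718 = N718 := ded_9_2 (flp_a L6105) (flp_b L4708) L3706 L4708 L6105
theorem L6115 : sm ge N564 = N719 := rfl
theorem L6117 : sm gb N719 = N565 := ded_19_1 (flp_e L4717) L4708 L6115
theorem L6119 : sm gc N719 = N594 := ded_25_1 (flp_e L4937) (flp_c L4715) L6115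
theorem L6121 : sm gg N719 = N719 := ded_36_2 (flp_e L6115) L4713 L6115
theorem L6122 : sm gi N719 = N719 := ded_38_2 (flp_e L6115) L4714 L6115
theorem L6123 : sm gd N565 = N720 := rfl
theorem L6125 : sm ga N720 = N720 := ded_11_1 (flp_d L6123) L4719 L6123
theorem L6126 : sm gg N720 = N720 := ded_32_2 (flp_d L6123) L4722 L6123
theorem L6127 : sm gi N720 = N720 := ded_34_2 (flp_d L6123) L4723 L6123
theorem L6128 : sm gc N720 = N720 := ded_24_1 (flp_d L6123) L4720 L3719 (flp_c L4720) L6123
theorem L6129 : sm ge N720 = N720 := ded_30_2 (flp_d L6123) (flp_e L4717) L3711 L4717 L6123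
theorem L6130 : sm gf N565 = N721 := rfl
theorem L6132 : sm ga N721 = N721 := ded_13_1 (flp_f L6130) L4719 L6130
theorem L6133 : sm gc N721 = N566 := ded_26_1 (flp_f L4724) (flp_c L4720) L6130
theorem L6135 : sm gi N721 = N721 := ded_41_2 (flp_f L6130) L4723 L6130
theorem L6136 : sm ge N721 = N570 := ded_35_1 (flp_f L4760) (flp_e L3728) (flp_f L3707) L4717 L6130
theorem L6138 : sm gg N566 = N722 := rfl
theorem L6140 : sm ga N722 = N722 := ded_14_1 (flp_g L6138) L4726 L6138
theorem L6141 : sm gb N722 = N597 := ded_21_1 (flp_g L4957) (flp_b L4727) L6138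
theorem L6143 : sm gd N722 = N722 := ded_32_1 (flp_g L6138) L4729 L6138
theorem L6144 : sm ge N722 = N571 := ded_36_1 (flp_g L4766) (flp_e L4731) L6138
theorem L6146 : sm gi N722 = N722 := ded_43_2 (flp_g L6138) L4730 L6138
theorem L6147 : sm gf N722 = N722 := ded_39_1 (flp_g L6138) (flp_f L4724) L3717 L4724 L6138
theorem L6148 : sm ge N567 = N723 := rfl
theorem L6150 : sm ga N723 = N568 := ded_12_1 (flp_e L4742) L4733 L6148
theorem L6152 : sm gb N723 = N723 := ded_19_1 (flp_e L6148) L4741 L6148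
theorem L6153 : sm gc N723 = N598 := ded_25_1 (flp_e L4964) (flp_c L4735) L6148
theorem L6155 : sm gg N723 = N620 := ded_36_2 (flp_e L5132) (flp_g L4738) L6148
theorem L6157 : sm gi N723 = N723 := ded_38_2 (flp_e L6148) L4740 L6148
theorem L6158 : sm gd N568 = N724 := rfl
theorem L6160 : sm gb N724 = N569 := ded_18_1 (flp_d L4751) (flp_b L4744) L6158
theorem L6162 : sm gg N724 = N621 := ded_32_2 (flp_d L5140) (flp_g L4748) L6158
theorem L6164 : sm gi N724 = N724 := ded_34_2 (flp_d L6158) L4750 L6158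
theorem L6165 : sm gc N724 = N724 := ded_24_1 (flp_d L6158) L4746 L3891 (flp_c L4746) L6158
theorem L6166 : sm ge N724 = N724 := ded_30_2 (flp_d L6158) (flp_e L4742) L3722 L4742 L6158
theorem L6167 : sm gf N568 = N725 := rfl
theorem L6169 : sm gb N725 = N570 := ded_20_1 (flp_f L4760) (flp_b L4744) L6167
theorem L6171 : sm gc N725 = N599 := ded_26_1 (flp_f L4972) (flp_c L4746) L6167
theorem L6173 : sm gi N725 = N725 := ded_41_2 (flp_f L6167) L4750 L6167
theorem L6174 : sm gf N569 = N726 := rfl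
theorem L6176 : sm ga N726 = N726 := ded_13_1 (flp_f L6174) L4753 L6174
theorem L6177 : sm gc N726 = N572 := ded_26_1 (flp_f L4776) (flp_c L4757) L6174
theorem L6179 : sm gd N726 = N570 := ded_31_1 (flp_f L4760) L4751 L6174
theorem L6181 : sm gi N726 = N726 := ded_41_2 (flp_f L6174) L4756 L6174
theorem L6182 : sm gh N569 = N727 := rfl
theorem L6184 : sm ga N727 = N727 := ded_15_1 (flp_h L6182) L4753 L6182
theorem L6185 : sm gc N727 = N573 := ded_28_1 (flp_h L4783) (flp_c L4757) L6182
theorem L6187 : sm ge N727 = N727 := ded_37_1 (flp_h L6182) L4759 L6182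
theorem L6188 : sm gg N727 = N624 := ded_42_1 (flp_h L5163) (flp_g L4754) L6182
theorem L6190 : sm gg N570 = N728 := rfl
theorem L6192 : sm ga N728 = N728 := ded_14_1 (flp_g L6190) L4762 L6190
theorem L6193 : sm gc N728 = N571 := ded_27_1 (flp_g L4766) (flp_c L4763) L6190
theorem L6195 : sm gi N728 = N728 := ded_43_2 (flp_g L6190) L4765 L6190
theorem L6196 : sm gf N728 = N625 := ded_39_1 (flp_g L5169) (flp_f L4033) (flp_g L3733) L4760 L6190
theorem L6198 : sm ge N572 = N729 := rfl
theorem L6200 : sm ga N729 = N729 := ded_12_1 (flp_e L6198) L4778 L6198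
theorem L6201 : sm gb N729 = N729 := ded_19_1 (flp_e L6198) L4779 L6198
theorem L6202 : sm gi N729 = N729 := ded_38_2 (flp_e L6198) L4782 L6198
theorem L6203 : sm gd N729 = N729 := ded_30_1 (flp_e L6198) L4780 L3760 (flp_d L4780) L6198
theorem L6204 : sm gf N729 = N729 := ded_35_2 (flp_e L6198) (flp_f L4776) L3751 L4776 L6198
theorem L6205 : sm gg N572 = N730 := rfl
theorem L6207 : sm ga N730 = N730 := ded_14_1 (flp_g L6205) L4778 L6205
theorem L6208 : sm gb N730 = N730 := ded_21_1 (flp_g L6205) L4779 L6205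
theorem L6209 : sm gd N730 = N574 := ded_32_1 (flp_g L4791) (flp_d L4780) L6205
theorem L6211 : sm gi N730 = N730 := ded_43_2 (flp_g L6205) L4782 L6205
theorem L6212 : sm gf N730 = N627 := ded_39_1 (flp_g L5184) (flp_f L4049) (flp_g L3748) L4776 L6205
theorem L6214 : sm gh N572 = N731 := rfl
theorem L6216 : sm ga N731 = N731 := ded_15_1 (flp_h L6214) L4778 L6214
theorem L6217 : sm gb N731 = N731 := ded_22_1 (flp_h L6214) L4779 L6214
theorem L6218 : sm gf N731 = N573 := ded_40_1 (flp_h L4783) L4776 L6214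
theorem L6220 : sm gd N731 = N731 := ded_33_1 (flp_h L6214) L4780 L3758 (flp_d L4780) L6214
theorem L6221 : sm gi N573 = N732 := rfl
theorem L6223 : sm ga N732 = N732 := ded_16_1 (flp_i L6221) L4785 L6221
theorem L6224 : sm gb N732 = N732 := ded_23_1 (flp_i L6221) L4786 L6221
theorem L6225 : sm gd N732 = N732 := ded_34_1 (flp_i L6221) L4790 L6221
theorem L6226 : sm ge N732 = N732 := ded_38_1 (flp_i L6221) L4787 L6221
theorem L6227 : sm gg N732 = N611 := ded_43_1 L5759 (flp_g L4788) L6221
theorem L6229 : sm gh N732 = N732 := ded_44_1 (flp_i L6221) (flp_h L4783) L3750 L4783 L6221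
theorem L6230 : sm gh N575 = N733 := rfl
theorem L6232 : sm gb N733 = N733 := ded_22_1 (flp_h L6230) L4804 L6230
theorem L6233 : sm gc N733 = N576 := ded_28_1 (flp_h L4811) (flp_c L4805) L6230
theorem L6235 : sm ge N733 = N733 := ded_37_1 (flp_h L6230) L4808 L6230
theorem L6236 : sm gf N733 = N733 := ded_40_1 (flp_h L6230) L4809 L6230
theorem L6237 : sm gg N733 = N733 := ded_42_1 (flp_h L6230) L4810 L6230
theorem L6238 : sm gi N733 = N733 := ded_44_2 (flp_h L6230) (flp_i L4802) L3776 L4802 L6230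
theorem L6239 : sm gd N576 = N734 := rfl
theorem L6241 : sm gf N734 = N734 := ded_31_2 (flp_d L6239) L4814 L6239
theorem L6242 : sm gg N734 = N734 := ded_32_2 (flp_d L6239) L4815 L6239
theorem L6243 : sm gi N734 = N734 := ded_34_2 (flp_d L6239) L4816 L6239
theorem L6244 : sm gh N734 = N577 := ded_33_2 (flp_d L4817) (flp_h L3786) (flp_d L3781) L4811 L6239
theorem L6246 : sm gc N577 = N735 := rfl
theorem L6248 : sm gf N735 = N735 := ded_26_2 (flp_c L6246) L4819 L6246
theorem L6249 : sm gg N735 = N735 := ded_27_2 (flp_c L6246) L4820 L6246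
theorem L6250 : sm gi N735 = N578 := ded_29_2 (flp_c L4823) (flp_i L4821) L6246
theorem L6252 : sm gd N735 = N735 := ded_24_2 (flp_c L6246) (flp_d L4817) L3788 L4817 L6246
theorem L6253 : sm ge N577 = N736 := rfl
theorem L6255 : sm gg N736 = N736 := ded_36_2 (flp_e L6253) L4820 L6253
theorem L6256 : sm gi N736 = N579 := ded_38_2 (flp_e L4829) (flp_i L4821) L6253
theorem L6258 : sm gd N736 = N581 := ded_30_1 (flp_e L4844) (flp_d L3800) (flp_e L3789) L4817 L6253
theorem L6260 : sm gb N578 = N737 := rfl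
theorem L6262 : sm gd N737 = N737 := ded_18_2 (flp_b L6260) L4828 L6260
theorem L6263 : sm gf N737 = N737 := ded_20_2 (flp_b L6260) L4825 L6260
theorem L6264 : sm gg N737 = N737 := ded_21_2 (flp_b L6260) L4826 L6260
theorem L6265 : sm gh N737 = N737 := ded_22_2 (flp_b L6260) L4827 L6260
theorem L6266 : sm ge N578 = N738 := rfl
theorem L6268 : sm gc N738 = N579 := ded_25_1 (flp_e L4829) L4823 L6266
theorem L6270 : sm gg N738 = N738 := ded_36_2 (flp_e L6266) L4826 L6266
theorem L6271 : sm gh N738 = N738 := ded_37_2 (flp_e L6266) L4827 L6266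
theorem L6272 : sm gf N579 = N739 := rfl
theorem L6274 : sm gd N739 = N584 := ded_31_1 (flp_f L4865) (flp_d L4833) L6272
theorem L6276 : sm gh N739 = N739 := ded_40_2 (flp_f L6272) L4832 L6272
theorem L6277 : sm ge N739 = N739 := ded_35_1 (flp_f L6272) (flp_e L4829) L3797 L4829 L6272
theorem L6278 : sm gb N580 = N740 := rfl
theorem L6280 : sm gd N740 = N740 := ded_18_2 (flp_b L6278) L4843 L6278
theorem L6281 : sm gf N740 = N585 := ded_20_2 (flp_b L4871) (flp_f L4837) L6278
theorem L6283 : sm gg N740 = N740 := ded_21_2 (flp_b L6278) L4839 L6278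
theorem L6284 : sm gh N740 = N740 := ded_22_2 (flp_b L6278) L4840 L6278
theorem L6285 : sm gi N740 = N582 := ded_23_2 (flp_b L4850) (flp_i L4841) L6278
theorem L6287 : sm ge N580 = N741 := rfl
theorem L6289 : sm gc N741 = N581 := ded_25_1 (flp_e L4844) L4835 L6287
theorem L6291 : sm gg N741 = N741 := ded_36_2 (flp_e L6287) L4839 L6287
theorem L6292 : sm gh N741 = N741 := ded_37_2 (flp_e L6287) L4840 L6287
theorem L6293 : sm gi N741 = N583 := ded_38_2 (flp_e L4858) (flp_i L4841) L6287
theorem L6295 : sm gf N581 = N742 := rfl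
theorem L6297 : sm gh N742 = N742 := ded_40_2 (flp_f L6295) L4847 L6295
theorem L6298 : sm gi N742 = N584 := ded_41_2 (flp_f L4865) (flp_i L4848) L6295
theorem L6300 : sm ge N742 = N587 := ded_35_1 (flp_f L4888) (flp_e L3829) (flp_f L3802) L4844 L6295
theorem L6302 : sm ga N582 = N743 := rfl
theorem L6304 : sm gd N743 = N743 := ded_11_2 (flp_a L6302) L4852 L6302
theorem L6305 : sm gf N743 = N588 := ded_13_2 (flp_a L4894) (flp_f L4853) L6302
theorem L6307 : sm gg N743 = N743 := ded_14_2 (flp_a L6302) L4855 L6302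
theorem L6308 : sm gh N743 = N593 := ded_15_2 (flp_a L4929) (flp_h L4856) L6302
theorem L6310 : sm ge N582 = N744 := rfl
theorem L6312 : sm gb N744 = N583 := ded_19_1 (flp_e L4858) L4850 L6310
theorem L6314 : sm gg N744 = N744 := ded_36_2 (flp_e L6310) L4855 L6310
theorem L6315 : sm gh N744 = N594 := ded_37_2 (flp_e L4937) (flp_h L4856) L6310
theorem L6317 : sm gd N583 = N745 := rfl
theorem L6319 : sm gg N745 = N745 := ded_32_2 (flp_d L6317) L4862 L6317
theorem L6320 : sm ge N745 = N745 := ded_30_2 (flp_d L6317) (flp_e L4858) L3815 L4858 L6317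
theorem L6321 : sm gf N583 = N746 := rfl
theorem L6323 : sm gc N746 = N584 := ded_26_1 (flp_f L4865) (flp_c L4860) L6321
theorem L6325 : sm gh N746 = N596 := ded_40_2 (flp_f L4950) (flp_h L4863) L6321
theorem L6327 : sm ge N746 = N591 := ded_35_1 (flp_f L4916) (flp_e L3844) (flp_f L3810) L4858 L6321
theorem L6329 : sm gg N584 = N747 := rfl
theorem L6331 : sm ge N747 = N592 := ded_36_1 (flp_g L4922) (flp_e L4869) L6329
theorem L6333 : sm gh N747 = N597 := ded_42_2 (flp_g L4957) (flp_h L4867) L6329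
theorem L6335 : sm gf N747 = N747 := ded_39_1 (flp_g L6329) (flp_f L4865) L3818 L4865 L6329
theorem L6336 : sm ga N585 = N748 := rfl
theorem L6338 : sm gd N748 = N748 := ded_11_2 (flp_a L6336) L4873 L6336
theorem L6339 : sm gg N748 = N630 := ded_14_2 (flp_a L5205) (flp_g L4874) L6336
theorem L6341 : sm gh N748 = N748 := ded_15_2 (flp_a L6336) L4876 L6336
theorem L6342 : sm gi N748 = N588 := ded_16_2 (flp_a L4894) (flp_i L4877) L6336
theorem L6344 : sm ge N585 = N749 := rfl
theorem L6346 : sm gb N749 = N586 := ded_19_1 (flp_e L4879) L4871 L6344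
theorem L6348 : sm gg N749 = N631 := ded_36_2 (flp_e L5212) (flp_g L4874) L6344
theorem L6350 : sm gh N749 = N749 := ded_37_2 (flp_e L6344) L4876 L6344
theorem L6351 : sm gi N749 = N589 := ded_38_2 (flp_e L4901) (flp_i L4877) L6344
theorem L6353 : sm gd N586 = N750 := rfl
theorem L6355 : sm gg N750 = N632 := ded_32_2 (flp_d L5219) (flp_g L4883) L6353
theorem L6357 : sm gi N750 = N590 := ded_34_2 (flp_d L4909) (flp_i L4886) L6353
theorem L6359 : sm gc N750 = N750 := ded_24_1 (flp_d L6353) L4881 L3836 (flp_c L4881) L6353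
theorem L6360 : sm ge N750 = N750 := ded_30_2 (flp_d L6353) (flp_e L4879) L3828 L4879 L6353
theorem L6361 : sm gf N586 = N751 := rfl
theorem L6363 : sm gc N751 = N587 := ded_26_1 (flp_f L4888) (flp_c L4881) L6361
theorem L6365 : sm gh N751 = N751 := ded_40_2 (flp_f L6361) L4885 L6361
theorem L6366 : sm gi N751 = N591 := ded_41_2 (flp_f L4916) (flp_i L4886) L6361
theorem L6368 : sm gg N587 = N752 := rfl
theorem L6370 : sm gd N752 = N752 := ded_32_1 (flp_g L6368) L4890 L6368
theorem L6371 : sm gh N752 = N752 := ded_42_2 (flp_g L6368) L4891 L6368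
theorem L6372 : sm gi N752 = N592 := ded_43_2 (flp_g L4922) (flp_i L4892) L6368
theorem L6374 : sm gf N752 = N634 := ded_39_1 (flp_g L5233) (flp_f L4086) (flp_g L3831) L4888 L6368
theorem L6376 : sm ge N588 = N753 := rfl
theorem L6378 : sm ga N753 = N589 := ded_12_1 (flp_e L4901) L4894 L6376
theorem L6380 : sm gg N753 = N635 := ded_36_2 (flp_e L5240) (flp_g L4897) L6376
theorem L6382 : sm gh N753 = N598 := ded_37_2 (flp_e L4964) (flp_h L4899) L6376
theorem L6384 : sm gd N589 = N754 := rfl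
theorem L6386 : sm gb N754 = N590 := ded_18_1 (flp_d L4909) (flp_b L4903) L6384
theorem L6388 : sm gg N754 = N636 := ded_32_2 (flp_d L5246) (flp_g L4905) L6384
theorem L6390 : sm ge N754 = N754 := ded_30_2 (flp_d L6384) (flp_e L4901) L3839 L4901 L6384
theorem L6391 : sm gh N754 = N754 := ded_33_2 (flp_d L6384) L4907 L3891 (flp_h L4907) L6384
theorem L6392 : sm gf N589 = N755 := rfl
theorem L6394 : sm gb N755 = N591 := ded_20_1 (flp_f L4916) (flp_b L4903) L6392
theorem L6396 : sm gh N755 = N599 := ded_40_2 (flp_f L4972) (flp_h L4907) L6392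
theorem L6398 : sm gf N590 = N756 := rfl
theorem L6400 : sm gc N756 = N756 := ded_26_1 (flp_f L6398) L4913 L6398
theorem L6401 : sm gd N756 = N591 := ded_31_1 (flp_f L4916) L4909 L6398
theorem L6403 : sm gh N756 = N756 := ded_40_2 (flp_f L6398) L4915 L6398
theorem L6404 : sm gg N591 = N757 := rfl
theorem L6406 : sm gc N757 = N592 := ded_27_1 (flp_g L4922) (flp_c L4918) L6404
theorem L6408 : sm gh N757 = N600 := ded_42_2 (flp_g L4978) (flp_h L4920) L6404
theorem L6410 : sm gf N757 = N639 := ded_39_1 (flp_g L5265) (flp_f L4110) (flp_g L3848) L4916 L6404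
theorem L6412 : sm ge N593 = N758 := rfl
theorem L6414 : sm ga N758 = N594 := ded_12_1 (flp_e L4937) L4929 L6412
theorem L6416 : sm gg N758 = N758 := ded_36_2 (flp_e L6412) L4935 L6412
theorem L6417 : sm gi N758 = N758 := ded_38_2 (flp_e L6412) L4936 L6412
theorem L6418 : sm gd N594 = N759 := rfl
theorem L6420 : sm gb N759 = N595 := ded_18_1 (flp_d L4943) (flp_b L4939) L6418
theorem L6422 : sm gg N759 = N759 := ded_32_2 (flp_d L6418) L4941 L6418
theorem L6423 : sm gi N759 = N759 := ded_34_2 (flp_d L6418) L4942 L6418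
theorem L6424 : sm ge N759 = N602 := ded_30_2 (flp_d L4995) (flp_e L3913) (flp_d L3859) L4937 L6418
theorem L6426 : sm gf N594 = N760 := rfl
theorem L6428 : sm gb N760 = N596 := ded_20_1 (flp_f L4950) (flp_b L4939) L6426
theorem L6430 : sm gi N760 = N760 := ded_41_2 (flp_f L6426) L4942 L6426
theorem L6431 : sm ge N760 = N599 := ded_35_1 (flp_f L4972) (flp_e L3884) (flp_f L3861) L4937 L6426
theorem L6433 : sm gf N595 = N761 := rfl
theorem L6435 : sm gc N761 = N761 := ded_26_1 (flp_f L6433) L4947 L6433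
theorem L6436 : sm gd N761 = N596 := ded_31_1 (flp_f L4950) L4943 L6433
theorem L6438 : sm gi N761 = N761 := ded_41_2 (flp_f L6433) L4946 L6433
theorem L6439 : sm ge N761 = N761 := ded_35_1 (flp_f L6433) L4948 L3924 (flp_e L4948) L6433
theorem L6440 : sm gh N595 = N762 := rfl
theorem L6442 : sm gc N762 = N762 := ded_28_1 (flp_h L6440) L4947 L6440
theorem L6443 : sm ge N762 = N603 := ded_37_1 (flp_h L5002) (flp_e L4948) L6440
theorem L6445 : sm gg N762 = N762 := ded_42_1 (flp_h L6440) L4945 L6440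
theorem L6446 : sm gg N596 = N763 := rfl
theorem L6448 : sm gc N763 = N597 := ded_27_1 (flp_g L4957) (flp_c L4952) L6446
theorem L6450 : sm ge N763 = N600 := ded_36_1 (flp_g L4978) (flp_e L4955) L6446
theorem L6452 : sm gi N763 = N763 := ded_43_2 (flp_g L6446) L4954 L6446
theorem L6453 : sm gf N763 = N763 := ded_39_1 (flp_g L6446) (flp_f L4950) L3869 L4950 L6446
theorem L6454 : sm gf N598 = N764 := rfl
theorem L6456 : sm ga N764 = N599 := ded_13_1 (flp_f L4972) (flp_a L4966) L6454
theorem L6458 : sm gd N764 = N764 := ded_31_1 (flp_f L6454) L4971 L6454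
theorem L6459 : sm gi N764 = N764 := ded_41_2 (flp_f L6454) L4970 L6454
theorem L6460 : sm gg N599 = N765 := rfl
theorem L6462 : sm gb N765 = N600 := ded_21_1 (flp_g L4978) (flp_b L4974) L6460
theorem L6464 : sm gd N765 = N765 := ded_32_1 (flp_g L6460) L4976 L6460
theorem L6465 : sm gi N765 = N765 := ded_43_2 (flp_g L6460) L4977 L6460
theorem L6466 : sm gf N765 = N641 := ded_39_1 (flp_g L5279) (flp_f L4129) (flp_g L3888) L4972 L6460
theorem L6468 : sm gd N601 = N766 := rfl
theorem L6470 : sm ga N766 = N602 := ded_11_1 (flp_d L4995) (flp_a L4988) L6468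
theorem L6472 : sm gf N766 = N766 := ded_31_2 (flp_d L6468) L4994 L6468
theorem L6473 : sm gg N766 = N766 := ded_32_2 (flp_d L6468) L4991 L6468
theorem L6474 : sm gi N766 = N766 := ded_34_2 (flp_d L6468) L4993 L6468
theorem L6475 : sm gc N602 = N767 := rfl
theorem L6477 : sm gf N767 = N767 := ded_26_2 (flp_c L6475) L4999 L6475
theorem L6478 : sm gg N767 = N767 := ded_27_2 (flp_c L6475) L5000 L6475
theorem L6479 : sm gi N767 = N767 := ded_29_2 (flp_c L6475) L5001 L6475
theorem L6480 : sm gb N767 = N767 := ded_17_1 (flp_c L6475) L4997 L3927 (flp_b L4997) L6475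
theorem L6481 : sm gd N767 = N767 := ded_24_2 (flp_c L6475) (flp_d L4995) L3917 L4995 L6475
theorem L6482 : sm gh N602 = N768 := rfl
theorem L6484 : sm gb N768 = N603 := ded_22_1 (flp_h L5002) (flp_b L4997) L6482
theorem L6486 : sm gf N768 = N768 := ded_40_1 (flp_h L6482) L4999 L6482
theorem L6487 : sm gg N768 = N768 := ded_42_1 (flp_h L6482) L5000 L6482
theorem L6488 : sm gd N768 = N768 := ded_33_1 (flp_h L6482) (flp_d L4995) L3919 L4995 L6482
theorem L6489 : sm gi N603 = N769 := rfl
theorem L6491 : sm gc N769 = N769 := ded_29_1 (flp_i L6489) L5004 L6489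
theorem L6492 : sm gd N769 = N769 := ded_34_1 (flp_i L6489) L5007 L6489
theorem L6493 : sm gf N769 = N769 := ded_41_1 (flp_i L6489) L5005 L6489
theorem L6494 : sm gg N769 = N769 := ded_43_1 (flp_i L6489) L5006 L6489
theorem L6495 : sm gh N769 = N769 := ded_44_1 (flp_i L6489) (flp_h L5002) L3926 L5002 L6489
theorem L6496 : sm gc N606 = N770 := rfl
theorem L6498 : sm ga N770 = N770 := ded_10_1 (flp_c L6496) L5028 L6496
theorem L6499 : sm ge N770 = N623 := ded_25_2 L5158 (flp_e L5728) L6496
theorem L6501 : sm gf N770 = N770 := ded_26_2 (flp_c L6496) L5030 L6496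
theorem L6502 : sm gh N770 = N607 := ded_28_2 (flp_c L5034) (flp_h L5032) L6496
theorem L6504 : sm gi N770 = N770 := ded_29_2 (flp_c L6496) L5031 L6496
theorem L6505 : sm gd N770 = N770 := ded_24_2 (flp_c L6496) (flp_d L5026) L3949 L5026 L6496
theorem L6506 : sm gb N607 = N771 := rfl
theorem L6508 : sm gd N771 = N612 := ded_18_2 (flp_b L5069) (flp_d L5040) L6506
theorem L6510 : sm gf N771 = N771 := ded_20_2 (flp_b L6506) L5037 L6506
theorem L6511 : sm gi N771 = N609 := ded_23_2 (flp_b L5049) (flp_i L5038) L6506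
theorem L6513 : sm gc N771 = N771 := ded_17_2 (flp_b L6506) (flp_c L5034) L3955 L5034 L6506
theorem L6514 : sm ge N607 = N772 := rfl
theorem L6516 : sm ga N772 = N772 := ded_12_1 (flp_e L6514) L5036 L6514
theorem L6517 : sm gc N772 = N608 := ded_25_1 (flp_e L5042) L5034 L6514
theorem L6519 : sm gh N772 = N623 := ded_37_2 (flp_e L6499) L6502 L6514
theorem L6521 : sm gi N772 = N610 := ded_38_2 (flp_e L5056) (flp_i L5038) L6514
theorem L6523 : sm gf N624 = N772 := ded_26_0 L6517 L5748 (flp_c L5166)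
theorem L6525 : sm ga N609 = N773 := rfl
theorem L6527 : sm gc N773 = N773 := ded_10_2 (flp_a L6525) L5055 L6525
theorem L6528 : sm gd N773 = N615 := ded_11_2 (flp_a L5095) (flp_d L5051) L6525
theorem L6530 : sm gf N773 = N773 := ded_13_2 (flp_a L6525) L5053 L6525
theorem L6531 : sm gh N773 = N773 := ded_15_2 (flp_a L6525) L5054 L6525
theorem L6532 : sm gb N773 = N773 := ded_9_2 (flp_a L6525) (flp_b L5049) L3961 L5049 L6525
theorem L6533 : sm ge N609 = N774 := rfl
theorem L6535 : sm gb N774 = N610 := ded_19_1 (flp_e L5056) L5049 L6533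
theorem L6537 : sm gc N774 = N774 := ded_25_1 (flp_e L6533) L5055 L6533
theorem L6538 : sm gh N774 = N774 := ded_37_2 (flp_e L6533) L5054 L6533
theorem L6539 : sm gd N610 = N775 := rfl
theorem L6541 : sm ga N775 = N775 := ded_11_1 (flp_d L6539) L5058 L6539
theorem L6542 : sm gc N775 = N775 := ded_24_1 (flp_d L6539) L5059 L3971 (flp_c L5059) L6539
theorem L6543 : sm ge N775 = N617 := ded_30_2 (flp_d L5111) (flp_e L3995) (flp_d L3964) L5056 L6539
theorem L6545 : sm gf N610 = N776 := rfl
theorem L6547 : sm ga N776 = N776 := ded_13_1 (flp_f L6545) L5058 L6545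
theorem L6548 : sm gc N776 = N611 := ded_26_1 (flp_f L5062) (flp_c L5059) L6545
theorem L6550 : sm gh N776 = N776 := ded_40_2 (flp_f L6545) L5061 L6545
theorem L6551 : sm gi N776 = N624 := ded_41_2 L6523 L6521 L6545
theorem L6553 : sm ge N776 = N776 := ded_35_1 (flp_f L6545) (flp_e L5056) L3962 L5056 L6545
theorem L6554 : sm ga N612 = N777 := rfl
theorem L6556 : sm gc N777 = N630 := ded_10_2 (flp_a L5205) (flp_c L5075) L6554
theorem L6558 : sm gf N777 = N777 := ded_13_2 (flp_a L6554) L5071 L6554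
theorem L6559 : sm gh N777 = N777 := ded_15_2 (flp_a L6554) L5072 L6554
theorem L6560 : sm gi N777 = N615 := ded_16_2 (flp_a L5095) (flp_i L5073) L6554
theorem L6562 : sm gb N777 = N777 := ded_9_2 (flp_a L6554) (flp_b L5069) L3974 L5069 L6554
theorem L6563 : sm ge N612 = N778 := rfl
theorem L6565 : sm gb N778 = N613 := ded_19_1 (flp_e L5077) L5069 L6563
theorem L6567 : sm gc N778 = N631 := ded_25_1 (flp_e L5212) (flp_c L5075) L6563
theorem L6569 : sm gh N778 = N778 := ded_37_2 (flp_e L6563) L5072 L6563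
theorem L6570 : sm gi N778 = N616 := ded_38_2 (flp_e L5103) (flp_i L5073) L6563
theorem L6572 : sm gd N613 = N779 := rfl
theorem L6574 : sm ga N779 = N779 := ded_11_1 (flp_d L6572) L5079 L6572
theorem L6575 : sm gi N779 = N617 := ded_34_2 (flp_d L5111) (flp_i L5083) L6572
theorem L6577 : sm gc N779 = N779 := ded_24_1 (flp_d L6572) L5080 L3987 (flp_c L5080) L6572
theorem L6578 : sm gf N613 = N780 := rfl
theorem L6580 : sm ga N780 = N780 := ded_13_1 (flp_f L6578) L5079 L6578
theorem L6581 : sm gc N780 = N614 := ded_26_1 (flp_f L5085) (flp_c L5080) L6578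
theorem L6583 : sm gh N780 = N780 := ded_40_2 (flp_f L6578) L5082 L6578
theorem L6584 : sm gi N780 = N618 := ded_41_2 (flp_f L5115) (flp_i L5083) L6578
theorem L6586 : sm ge N780 = N780 := ded_35_1 (flp_f L6578) (flp_e L5077) L3975 L5077 L6578
theorem L6587 : sm gg N614 = N781 := rfl
theorem L6589 : sm ga N781 = N781 := ded_14_1 (flp_g L6587) L5087 L6587
theorem L6590 : sm gb N781 = N634 := ded_21_1 (flp_g L5233) (flp_b L5088) L6587
theorem L6592 : sm gd N781 = N781 := ded_32_1 (flp_g L6587) L5090 L6587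
theorem L6593 : sm ge N781 = N781 := ded_36_1 (flp_g L6587) L5094 L6587
theorem L6594 : sm gh N781 = N781 := ded_42_2 (flp_g L6587) L5091 L6587
theorem L6595 : sm gi N781 = N619 := ded_43_2 (flp_g L5123) (flp_i L5092) L6587
theorem L6597 : sm ge N615 = N782 := rfl
theorem L6599 : sm ga N782 = N616 := ded_12_1 (flp_e L5103) L5095 L6597
theorem L6601 : sm gb N782 = N782 := ded_19_1 (flp_e L6597) L5102 L6597
theorem L6602 : sm gc N782 = N635 := ded_25_1 (flp_e L5240) (flp_c L5097) L6597
theorem L6604 : sm gh N782 = N620 := ded_37_2 (flp_e L5132) (flp_h L5100) L6597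
theorem L6606 : sm gd N616 = N783 := rfl
theorem L6608 : sm gb N783 = N617 := ded_18_1 (flp_d L5111) (flp_b L5105) L6606
theorem L6610 : sm gf N616 = N784 := rfl
theorem L6612 : sm gb N784 = N618 := ded_20_1 (flp_f L5115) (flp_b L5105) L6610
theorem L6614 : sm gc N784 = N637 := ded_26_1 (flp_f L5252) (flp_c L5107) L6610
theorem L6616 : sm gh N784 = N622 := ded_40_2 (flp_f L5147) (flp_h L5109) L6610
theorem L6618 : sm ge N784 = N784 := ded_35_1 (flp_f L6610) (flp_e L5103) L3990 L5103 L6610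
theorem L6619 : sm gf N617 = N785 := rfl
theorem L6621 : sm ga N785 = N785 := ded_13_1 (flp_f L6619) L5113 L6619
theorem L6622 : sm gc N785 = N785 := ded_26_1 (flp_f L6619) L5114 L6619
theorem L6623 : sm gd N785 = N618 := ded_31_1 (flp_f L5115) L5111 L6619
theorem L6625 : sm gh N617 = N786 := rfl
theorem L6627 : sm ga N786 = N786 := ded_15_1 (flp_h L6625) L5113 L6625
theorem L6628 : sm gc N786 = N786 := ded_28_1 (flp_h L6625) L5114 L6625
theorem L6629 : sm gd N786 = N624 := ded_33_1 (flp_h L5163) (flp_d L4026) (flp_h L4000) L5111 L6625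
theorem L6631 : sm gg N618 = N787 := rfl
theorem L6633 : sm ga N787 = N787 := ded_14_1 (flp_g L6631) L5117 L6631
theorem L6634 : sm gc N787 = N619 := ded_27_1 (flp_g L5123) (flp_c L5118) L6631
theorem L6636 : sm ge N787 = N787 := ded_36_1 (flp_g L6631) L5122 L6631
theorem L6637 : sm gh N787 = N625 := ded_42_2 (flp_g L5169) (flp_h L5120) L6631
theorem L6639 : sm gd N620 = N788 := rfl
theorem L6641 : sm ga N788 = N621 := ded_11_1 (flp_d L5140) (flp_a L5134) L6639
theorem L6643 : sm gb N788 = N788 := ded_18_1 (flp_d L6639) L5136 L6639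
theorem L6644 : sm gi N788 = N788 := ded_34_2 (flp_d L6639) L5139 L6639
theorem L6645 : sm gc N788 = N788 := ded_24_1 (flp_d L6639) L5137 L4128 (flp_c L5137) L6639
theorem L6646 : sm ge N788 = N788 := ded_30_2 (flp_d L6639) (flp_e L5132) L4015 L5132 L6639
theorem L6647 : sm gf N620 = N789 := rfl
theorem L6649 : sm ga N789 = N622 := ded_13_1 (flp_f L5147) (flp_a L5134) L6647
theorem L6651 : sm gb N789 = N789 := ded_20_1 (flp_f L6647) L5136 L6647
theorem L6652 : sm gc N789 = N640 := ded_26_1 (flp_f L5272) (flp_c L5137) L6647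
theorem L6654 : sm gi N789 = N789 := ded_41_2 (flp_f L6647) L5139 L6647
theorem L6655 : sm ge N789 = N789 := ded_35_1 (flp_f L6647) (flp_e L5132) L4016 L5132 L6647
theorem L6656 : sm gf N621 = N790 := rfl
theorem L6658 : sm gb N790 = N623 := ded_20_1 (flp_f L5155) (flp_b L5142) L6656
theorem L6660 : sm gc N790 = N790 := ded_26_1 (flp_f L6656) L5145 L6656
theorem L6661 : sm gd N790 = N622 := ded_31_1 (flp_f L5147) L5140 L6656
theorem L6663 : sm gi N790 = N790 := ded_41_2 (flp_f L6656) L5144 L6656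
theorem L6664 : sm gh N621 = N791 := rfl
theorem L6666 : sm gb N791 = N624 := ded_22_1 (flp_h L5163) (flp_b L5142) L6664
theorem L6668 : sm gc N791 = N791 := ded_28_1 (flp_h L6664) L5145 L6664
theorem L6669 : sm ge N791 = N791 := ded_37_1 (flp_h L6664) L5146 L6664
theorem L6670 : sm gg N622 = N792 := rfl
theorem L6672 : sm gb N792 = N625 := ded_21_1 (flp_g L5169) (flp_b L5149) L6670
theorem L6674 : sm gc N792 = N641 := ded_27_1 (flp_g L5279) (flp_c L5151) L6670
theorem L6676 : sm ge N792 = N792 := ded_36_1 (flp_g L6670) L5154 L6670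
theorem L6677 : sm gi N792 = N792 := ded_43_2 (flp_g L6670) L5153 L6670
theorem L6678 : sm gg N623 = N793 := rfl
theorem L6680 : sm ga N793 = N793 := ded_14_1 (flp_g L6678) L5157 L6678
theorem L6681 : sm gc N793 = N627 := ded_27_1 (flp_g L5184) (flp_c L5158) L6678
theorem L6683 : sm gd N793 = N625 := ded_32_1 (flp_g L5169) (flp_d L5160) L6678
theorem L6685 : sm gi N793 = N793 := ded_43_2 (flp_g L6678) L5162 L6678
theorem L6686 : sm ge N630 = N794 := rfl
theorem L6688 : sm ga N794 = N631 := ded_12_1 (flp_e L5212) L5205 L6686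
theorem L6690 : sm gb N794 = N638 := ded_19_1 L5648 L5632 L6686
theorem L6692 : sm gh N794 = N794 := ded_37_2 (flp_e L6686) L5209 L6686
theorem L6693 : sm gi N794 = N635 := ded_38_2 (flp_e L5240) (flp_i L5210) L6686
theorem L6695 : sm gd N794 = N637 := ded_46_3 (flp_c L6614) L6612 L5117 L5120 (flp_f L4033) (flp_e L3138) L2487 (flp_c L2482) L1975 (flp_a L1774) (flp_h L2198) L2197 L2754 L2761 (flp_c L3487) (flp_b L4447) (flp_a L5801) L5806 L5823 L5834 L5830 L5829 L5827 L5274 (flp_h L5256) (flp_f L5252) (flp_e L4099) L3193 (flp_c L3993) (flp_b L3988) L3119 L3121 L2485 L3138 L4026 L4030 L3156 L3155 L4056 (flp_f L5748) (flp_e L5042) (flp_d L3952) L3096 L2468 (flp_a L2184) (flp_h L2182) L1763 L1762 L1761 L1760 L1759 L1757 L1995 L1999 L1998 L2513 L3178 L4072 L5205 L5209 L5208 L6686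
theorem L6697 : sm gf N636 = N794 := ded_20_0 L6690 (flp_f L5259) (flp_b L5248)
theorem L6699 : sm gd N631 = N795 := rfl
theorem L6701 : sm ga N795 = N637 := ded_11_1 (flp_d L6695) L6688 L6699
theorem L6703 : sm gb N795 = N632 := ded_18_1 (flp_d L5219) (flp_b L5214) L6699
theorem L6705 : sm gi N795 = N636 := ded_34_2 (flp_d L5246) (flp_i L5217) L6699
theorem L6707 : sm ge N795 = N795 := ded_30_2 (flp_d L6699) (flp_e L5212) L4074 L5212 L6699
theorem L6708 : sm gf N635 = N795 := ded_13_0 L6701 (flp_f L5252) (flp_a L5242)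
theorem L6710 : sm gh N640 = N795 := ded_15_0 L6701 L5256 (flp_a L5274)
theorem L6712 : sm gf N631 = N796 := rfl
theorem L6714 : sm ga N796 = N636 := ded_13_1 L6697 L6688 L6712
theorem L6716 : sm gb N796 = N633 := ded_20_1 (flp_f L5225) (flp_b L5214) L6712
theorem L6718 : sm gd N796 = N635 := ded_31_1 L6708 (flp_d L6699) L6712
theorem L6720 : sm gh N796 = N796 := ded_40_2 (flp_f L6712) L5216 L6712
theorem L6721 : sm gi N796 = N637 := ded_41_2 (flp_f L5252) (flp_i L5217) L6712
theorem L6723 : sm ge N796 = N796 := ded_35_1 (flp_f L6712) (flp_e L5212) L4075 L5212 L6712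
theorem L6724 : sm gg N633 = N797 := rfl
theorem L6726 : sm gc N797 = N634 := ded_27_1 (flp_g L5233) (flp_c L5227) L6724
theorem L6728 : sm ge N797 = N797 := ded_36_1 (flp_g L6724) L5232 L6724
theorem L6729 : sm gh N797 = N797 := ded_42_2 (flp_g L6724) L5229 L6724
theorem L6730 : sm gi N797 = N639 := ded_43_2 (flp_g L5265) (flp_i L5230) L6724
theorem L6732 : sm gc N636 = N798 := rfl
theorem L6734 : sm ge N798 = N798 := ded_25_2 (flp_c L6732) L5250 L6732
theorem L6735 : sm gh N798 = N798 := ded_28_2 (flp_c L6732) L5251 L6732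
theorem L6736 : sm gb N798 = N798 := ded_17_1 (flp_c L6732) L5248 L4107 (flp_b L5248) L6732
theorem L6737 : sm gg N637 = N799 := rfl
theorem L6739 : sm gb N799 = N639 := ded_21_1 (flp_g L5265) (flp_b L5254) L6737
theorem L6741 : sm ge N799 = N799 := ded_36_1 (flp_g L6737) L5258 L6737
theorem L6742 : sm gh N799 = N641 := ded_42_2 (flp_g L5279) (flp_h L5256) L6737
theorem L6744 : sm gg N638 = N800 := rfl
theorem L6746 : sm gc N800 = N800 := ded_27_1 (flp_g L6744) L5261 L6744
theorem L6747 : sm gd N800 = N639 := ded_32_1 (flp_g L5265) (flp_d L5262) L6744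
theorem L6749 : sm gh N800 = N800 := ded_42_2 (flp_g L6744) L5264 L6744
theorem L6750 : sm gg N640 = N801 := rfl
theorem L6752 : sm ga N801 = N641 := ded_14_1 (flp_g L5279) (flp_a L5274) L6750
theorem L6754 : sm gd N801 = N801 := ded_32_1 (flp_g L6750) L5276 L6750
theorem L6755 : sm ge N801 = N801 := ded_36_1 (flp_g L6750) L5278 L6750
theorem L6756 : sm gi N801 = N801 := ded_43_2 (flp_g L6750) L5277 L6750
theorem L6757 : sm ge N646 = N802 := rfl
theorem L6759 : sm ga N802 = N647 := ded_12_1 (flp_e L5331) L5320 L6757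
theorem L6761 : sm gb N802 = N802 := ded_19_1 (flp_e L6757) L5330 L6757
theorem L6762 : sm gc N802 = N676 := ded_25_1 (flp_e L5599) (flp_c L5322) L6757
theorem L6764 : sm gg N802 = N802 := ded_36_2 (flp_e L6757) L5327 L6757
theorem L6765 : sm gh N802 = N802 := ded_37_2 (flp_e L6757) L5328 L6757
theorem L6766 : sm gi N802 = N802 := ded_38_2 (flp_e L6757) L5329 L6757
theorem L6767 : sm gf N802 = N802 := ded_35_2 (flp_e L6757) L5325 L4200 (flp_f L5325) L6757
theorem L6768 : sm gd N647 = N803 := rfl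
theorem L6770 : sm gb N803 = N648 := ded_18_1 (flp_d L5341) (flp_b L5333) L6768
theorem L6772 : sm gf N803 = N803 := ded_31_2 (flp_d L6768) L5340 L6768
theorem L6773 : sm gg N803 = N803 := ded_32_2 (flp_d L6768) L5337 L6768
theorem L6774 : sm gi N803 = N803 := ded_34_2 (flp_d L6768) L5339 L6768
theorem L6775 : sm ge N803 = N803 := ded_30_2 (flp_d L6768) (flp_e L5331) L4178 L5331 L6768
theorem L6776 : sm gh N648 = N804 := rfl
theorem L6778 : sm ga N804 = N804 := ded_15_1 (flp_h L6776) L5343 L6776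
theorem L6779 : sm gc N804 = N804 := ded_28_1 (flp_h L6776) L5347 L6776
theorem L6780 : sm ge N804 = N804 := ded_37_1 (flp_h L6776) L5348 L6776
theorem L6781 : sm gf N804 = N804 := ded_40_1 (flp_h L6776) L5344 L6776
theorem L6782 : sm gg N804 = N804 := ded_42_1 (flp_h L6776) L5345 L6776
theorem L6783 : sm gd N804 = N804 := ded_33_1 (flp_h L6776) (flp_d L5341) L4192 L5341 L6776
theorem L6784 : sm gi N649 = N805 := rfl
theorem L6787 : sm gb N805 = N650 := ded_23_1 (flp_i L5358) L5349 L6784
theorem L6794 : sm gh N650 = N806 := rfl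
theorem L6796 : sm ga N806 = N733 := ded_15_1 (flp_h L6230) (flp_a L5360) L6794
theorem L6798 : sm gc N806 = N651 := ded_28_1 (flp_h L5368) (flp_c L5362) L6794
theorem L6804 : sm gd N651 = N807 := rfl
theorem L6806 : sm ga N807 = N734 := ded_11_1 (flp_d L6239) (flp_a L5370) L6804
theorem L6808 : sm gb N807 = N807 := ded_18_1 (flp_d L6804) L5372 L6804
theorem L6809 : sm gf N807 = N807 := ded_31_2 (flp_d L6804) L5374 L6804
theorem L6810 : sm gg N807 = N807 := ded_32_2 (flp_d L6804) L5375 L6804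
theorem L6811 : sm gi N807 = N807 := ded_34_2 (flp_d L6804) L5376 L6804
theorem L6812 : sm gh N807 = N652 := ded_33_2 (flp_d L5377) (flp_h L4225) (flp_d L4220) L5368 L6804
theorem L6814 : sm gc N652 = N808 := rfl
theorem L6816 : sm ga N808 = N735 := ded_10_1 (flp_c L6246) (flp_a L5379) L6814
theorem L6818 : sm gf N808 = N808 := ded_26_2 (flp_c L6814) L5382 L6814
theorem L6819 : sm gg N808 = N808 := ded_27_2 (flp_c L6814) L5383 L6814
theorem L6820 : sm gi N808 = N653 := ded_29_2 (flp_c L5386) (flp_i L5384) L6814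
theorem L6822 : sm gd N808 = N808 := ded_24_2 (flp_c L6814) (flp_d L5377) L4230 L5377 L6814
theorem L6823 : sm ge N652 = N809 := rfl
theorem L6825 : sm ga N809 = N736 := ded_12_1 (flp_e L6253) (flp_a L5379) L6823
theorem L6827 : sm gb N809 = N809 := ded_19_1 (flp_e L6823) L5381 L6823
theorem L6828 : sm gg N809 = N809 := ded_36_2 (flp_e L6823) L5383 L6823
theorem L6829 : sm gi N809 = N654 := ded_38_2 (flp_e L5394) (flp_i L5384) L6823
theorem L6831 : sm gd N809 = N656 := ded_30_1 (flp_e L5414) (flp_d L4245) (flp_e L4231) L5377 L6823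
theorem L6833 : sm gb N653 = N810 := rfl
theorem L6835 : sm gd N810 = N810 := ded_18_2 (flp_b L6833) L5393 L6833
theorem L6836 : sm gf N810 = N810 := ded_20_2 (flp_b L6833) L5390 L6833
theorem L6837 : sm gg N810 = N810 := ded_21_2 (flp_b L6833) L5391 L6833
theorem L6838 : sm gh N810 = N810 := ded_22_2 (flp_b L6833) L5392 L6833
theorem L6839 : sm gc N810 = N810 := ded_17_2 (flp_b L6833) (flp_c L5386) L4241 L5386 L6833
theorem L6840 : sm ge N653 = N811 := rfl
theorem L6842 : sm ga N811 = N738 := ded_12_1 (flp_e L6266) (flp_a L5388) L6840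
theorem L6844 : sm gc N811 = N654 := ded_25_1 (flp_e L5394) L5386 L6840
theorem L6846 : sm gg N811 = N811 := ded_36_2 (flp_e L6840) L5391 L6840
theorem L6847 : sm gh N811 = N811 := ded_37_2 (flp_e L6840) L5392 L6840
theorem L6848 : sm gf N654 = N812 := rfl
theorem L6850 : sm ga N812 = N739 := ded_13_1 (flp_f L6272) (flp_a L5396) L6848
theorem L6852 : sm gb N812 = N812 := ded_20_1 (flp_f L6848) L5398 L6848
theorem L6853 : sm gd N812 = N659 := ded_31_1 (flp_f L5441) (flp_d L5401) L6848
theorem L6855 : sm gh N812 = N812 := ded_40_2 (flp_f L6848) L5400 L6848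
theorem L6856 : sm ge N812 = N812 := ded_35_1 (flp_f L6848) (flp_e L5394) L4242 L5394 L6848
theorem L6857 : sm gb N655 = N813 := rfl
theorem L6859 : sm gd N813 = N813 := ded_18_2 (flp_b L6857) L5413 L6857
theorem L6860 : sm gf N813 = N660 := ded_20_2 (flp_b L5450) (flp_f L5407) L6857
theorem L6862 : sm gg N813 = N813 := ded_21_2 (flp_b L6857) L5409 L6857
theorem L6863 : sm gh N813 = N813 := ded_22_2 (flp_b L6857) L5410 L6857
theorem L6864 : sm gi N813 = N657 := ded_23_2 (flp_b L5423) (flp_i L5411) L6857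
theorem L6866 : sm gc N813 = N813 := ded_17_2 (flp_b L6857) (flp_c L5403) L4249 L5403 L6857
theorem L6867 : sm ge N655 = N814 := rfl
theorem L6869 : sm ga N814 = N741 := ded_12_1 (flp_e L6287) (flp_a L5405) L6867
theorem L6871 : sm gc N814 = N656 := ded_25_1 (flp_e L5414) L5403 L6867
theorem L6873 : sm gg N814 = N814 := ded_36_2 (flp_e L6867) L5409 L6867
theorem L6874 : sm gh N814 = N814 := ded_37_2 (flp_e L6867) L5410 L6867
theorem L6875 : sm gi N814 = N658 := ded_38_2 (flp_e L5432) (flp_i L5411) L6867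
theorem L6877 : sm gf N656 = N815 := rfl
theorem L6879 : sm ga N815 = N742 := ded_13_1 (flp_f L6295) (flp_a L5416) L6877
theorem L6881 : sm gb N815 = N815 := ded_20_1 (flp_f L6877) L5418 L6877
theorem L6882 : sm gh N815 = N815 := ded_40_2 (flp_f L6877) L5420 L6877
theorem L6883 : sm gi N815 = N659 := ded_41_2 (flp_f L5441) (flp_i L5421) L6877
theorem L6885 : sm ge N815 = N662 := ded_35_1 (flp_f L5470) (flp_e L4284) (flp_f L4250) L5414 L6877
theorem L6887 : sm ga N657 = N816 := rfl
theorem L6889 : sm gc N816 = N816 := ded_10_2 (flp_a L6887) L5431 L6887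
theorem L6890 : sm gd N816 = N816 := ded_11_2 (flp_a L6887) L5425 L6887
theorem L6891 : sm gf N816 = N663 := ded_13_2 (flp_a L5479) (flp_f L5426) L6887
theorem L6893 : sm gg N816 = N816 := ded_14_2 (flp_a L6887) L5428 L6887
theorem L6894 : sm gh N816 = N668 := ded_15_2 (flp_a L5525) (flp_h L5429) L6887
theorem L6896 : sm gb N816 = N743 := ded_9_2 (flp_a L6302) (flp_b L4850) (flp_a L4258) L5423 L6887
theorem L6898 : sm ge N657 = N817 := rfl
theorem L6900 : sm gb N817 = N658 := ded_19_1 (flp_e L5432) L5423 L6898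
theorem L6902 : sm gc N817 = N817 := ded_25_1 (flp_e L6898) L5431 L6898
theorem L6903 : sm gg N817 = N817 := ded_36_2 (flp_e L6898) L5428 L6898
theorem L6904 : sm gh N817 = N669 := ded_37_2 (flp_e L5536) (flp_h L5429) L6898
theorem L6906 : sm gd N658 = N818 := rfl
theorem L6908 : sm ga N818 = N745 := ded_11_1 (flp_d L6317) (flp_a L5434) L6906
theorem L6910 : sm gg N818 = N818 := ded_32_2 (flp_d L6906) L5438 L6906
theorem L6911 : sm ge N818 = N818 := ded_30_2 (flp_d L6906) (flp_e L5432) L4265 L5432 L6906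
theorem L6912 : sm gf N658 = N819 := rfl
theorem L6914 : sm ga N819 = N746 := ded_13_1 (flp_f L6321) (flp_a L5434) L6912
theorem L6916 : sm gc N819 = N659 := ded_26_1 (flp_f L5441) (flp_c L5436) L6912
theorem L6918 : sm gh N819 = N671 := ded_40_2 (flp_f L5552) (flp_h L5439) L6912
theorem L6920 : sm ge N819 = N666 := ded_35_1 (flp_f L5507) (flp_e L4303) (flp_f L4260) L5432 L6912
theorem L6922 : sm gg N659 = N820 := rfl
theorem L6924 : sm ga N820 = N747 := ded_14_1 (flp_g L6329) (flp_a L5443) L6922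
theorem L6926 : sm gb N820 = N820 := ded_21_1 (flp_g L6922) L5445 L6922
theorem L6927 : sm ge N820 = N667 := ded_36_1 (flp_g L5515) (flp_e L5448) L6922
theorem L6929 : sm gh N820 = N672 := ded_42_2 (flp_g L5561) (flp_h L5446) L6922
theorem L6931 : sm gf N820 = N820 := ded_39_1 (flp_g L6922) (flp_f L5441) L4271 L5441 L6922
theorem L6932 : sm ga N660 = N821 := rfl
theorem L6934 : sm gc N821 = N821 := ded_10_2 (flp_a L6932) L5458 L6932
theorem L6935 : sm gd N821 = N821 := ded_11_2 (flp_a L6932) L5452 L6932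
theorem L6936 : sm gg N821 = N679 := ded_14_2 (flp_a L5624) (flp_g L5453) L6932
theorem L6938 : sm gh N821 = N821 := ded_15_2 (flp_a L6932) L5455 L6932
theorem L6939 : sm gi N821 = N663 := ded_16_2 (flp_a L5479) (flp_i L5456) L6932
theorem L6941 : sm gb N821 = N748 := ded_9_2 (flp_a L6336) (flp_b L4871) (flp_a L4276) L5450 L6932
theorem L6943 : sm ge N800 = N821 := ded_36_3 L6936 (flp_e L5648) L6744
theorem L6945 : sm ge N660 = N822 := rfl
theorem L6947 : sm ga N822 = N800 := ded_12_1 L6943 (flp_a L6932) L6945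
theorem L6949 : sm gb N822 = N661 := ded_19_1 (flp_e L5459) L5450 L6945
theorem L6951 : sm gc N822 = N822 := ded_25_1 (flp_e L6945) L5458 L6945
theorem L6952 : sm gg N822 = N680 := ded_36_2 (flp_e L5634) (flp_g L5453) L6945
theorem L6954 : sm gh N822 = N822 := ded_37_2 (flp_e L6945) L5455 L6945
theorem L6955 : sm gi N822 = N664 := ded_38_2 (flp_e L5489) (flp_i L5456) L6945
theorem L6957 : sm gd N685 = N822 := ded_11_0 L6947 L6747 (flp_a L5816)
theorem L6959 : N803 = N806 := coi_47_47 L6798 L5372 (flp_h L5368) L4224 L4223 L4222 L4220 L3312 L3311 L4225 L4234 L4233 L4231 L4245 L5403 L6857 L6863 L6862 L6860 L6945 (flp_d L6957) L5818 L4472 L4475 (flp_g L3525) (flp_f L2777) (flp_e L2208) (flp_d L1772) L1417 (flp_b L1327) (flp_h L1324) (flp_g L1311) (flp_f L1650) L1649 L1648 L1647 L1645 L1737 L1744 L1742 L1388 L1096 (flp_c L1369) L1368 (flp_h L1364) L1070 L855 L628 L627 L625 (flp_b L571) L801 L808 (flp_f L1047) (flp_e L1330) L1664 L2077 L2606 L2611 (flp_g L3282) (flp_f L4179) L5331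 L6768
theorem L6960 : N806 = N803 := (eqc rfl L6959 rfl).symm
theorem L6961 : sm ga N803 = N733 := trfs L6960 L6796 rfl
theorem L6963 : sm gc N803 = N651 := trfs L6960 L6798 rfl
theorem L6968 : sm gh N803 = N650 := trfs L6960 (flp_h L6794) rfl
theorem L6971 : sm gd N733 = N802 := ded_11_2 L6759 L6768 L6961
theorem L6973 : sm gc N807 = N677 := ded_24_3 (flp_d L5609) (flp_c L5335) L6768 L6963 L6804
theorem L6975 : N805 = N804 := coi_22_2 (flp_h L6776) (flp_b L6770) L6968 (flp_b L6787)
theorem L6976 : N805 = N804 := eqc rfl L6975 rfl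
theorem L6978 : sm gb N804 = N650 := trfs L6976 L6787 rfl
theorem L6985 : sm gi N804 = N649 := trfs L6976 (flp_i L6784) rfl
theorem L6987 : sm gh N677 = N808 := ded_28_2 (flp_c L6814) (flp_h L6812) L6973
theorem L6989 : sm gb N808 = N678 := ded_22_1 (flp_h L5616) (flp_b L5611) L6987
theorem L6991 : sm gi N678 = N810 := ded_23_2 (flp_b L6833) (flp_i L6820) L6989
theorem L6993 : sm ga N810 = N769 := ded_16_1 (flp_i L6489) (flp_a L5618) L6991
theorem L6995 : sm gd N661 = N823 := rfl
theorem L6997 : sm ga N823 = N750 := ded_11_1 (flp_d L6353) (flp_a L5461) L6995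
theorem L6999 : sm gb N823 = N685 := ded_18_1 L6957 L6949 L6995
theorem L7001 : sm gg N823 = N681 := ded_32_2 (flp_d L5761) (flp_g L5465) L6995
theorem L7003 : sm gi N823 = N665 := ded_34_2 (flp_d L5498) (flp_i L5468) L6995
theorem L7005 : sm gc N823 = N823 := ded_24_1 (flp_d L6995) L5463 L4294 (flp_c L5463) L6995
theorem L7006 : sm ge N823 = N823 := ded_30_2 (flp_d L6995) (flp_e L5459) L4283 L5459 L6995
theorem L7007 : sm gh N687 = N823 := ded_22_0 L6999 L5821 (flp_b L5837)
theorem L7009 : sm gf N661 = N824 := rfl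
theorem L7011 : sm ga N824 = N751 := ded_13_1 (flp_f L6361) (flp_a L5461) L7009
theorem L7013 : sm gc N824 = N662 := ded_26_1 (flp_f L5470) (flp_c L5463) L7009
theorem L7015 : sm gh N824 = N824 := ded_40_2 (flp_f L7009) L5467 L7009
theorem L7016 : sm gi N824 = N666 := ded_41_2 (flp_f L5507) (flp_i L5468) L7009
theorem L7018 : sm gg N662 = N825 := rfl
theorem L7020 : sm ga N825 = N752 := ded_14_1 (flp_g L6368) (flp_a L5472) L7018
theorem L7022 : sm gb N825 = N825 := ded_21_1 (flp_g L7018) L5474 L7018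
theorem L7023 : sm gd N825 = N825 := ded_32_1 (flp_g L7018) L5475 L7018
theorem L7024 : sm gh N825 = N825 := ded_42_2 (flp_g L7018) L5476 L7018
theorem L7025 : sm gi N825 = N667 := ded_43_2 (flp_g L5515) (flp_i L5477) L7018
theorem L7027 : sm gf N825 = N683 := ded_39_1 (flp_g L5789) (flp_f L4426) (flp_g L4289) L5470 L7018
theorem L7029 : sm ge N663 = N826 := rfl
theorem L7031 : sm ga N826 = N664 := ded_12_1 (flp_e L5489) L5479 L7029
theorem L7033 : sm gb N826 = N753 := ded_19_1 (flp_e L6376) (flp_b L5487) L7029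
theorem L7035 : sm gc N826 = N826 := ded_25_1 (flp_e L7029) L5481 L7029
theorem L7036 : sm gg N826 = N684 := ded_36_2 (flp_e L5799) (flp_g L5483) L7029
theorem L7038 : sm gh N826 = N673 := ded_37_2 (flp_e L5571) (flp_h L5485) L7029
theorem L7040 : sm gi N826 = N800 := ded_38_2 L6943 L6939 L7029
theorem L7042 : sm gd N797 = N826 := ded_32_3 L7036 L5810 L6724
theorem L7044 : sm gd N664 = N827 := rfl
theorem L7046 : sm ga N827 = N797 := ded_11_1 L7042 L7031 L7044
theorem L7048 : sm gb N827 = N665 := ded_18_1 (flp_d L5498) (flp_b L5491) L7044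
theorem L7050 : sm gg N827 = N682 := ded_32_2 L5783 (flp_g L5494) L7044
theorem L7052 : sm gi N827 = N685 := ded_34_2 L6957 L6955 L7044
theorem L7054 : sm ge N827 = N827 := ded_30_2 (flp_d L7044) (flp_e L5489) L4297 L5489 L7044
theorem L7055 : sm gh N827 = N827 := ded_33_2 (flp_d L7044) L5496 L4365 (flp_h L5496) L7044
theorem L7056 : sm gc N827 = N683 := ded_47_5 L5793 L5796 (flp_g L5789) (flp_f L4426) (flp_e L3467) (flp_d L2737) L2187 L2186 (flp_h L2182) (flp_g L2123) (flp_f L2643) (flp_e L3313) (flp_d L4220) (flp_c L5362) (flp_b L6978) (flp_h L6776) L5345 L5344 L5348 (flp_d L5341) L4189 L3271 L2726 L2725 L2729 (flp_e L2721) (flp_d L2164) (flp_c L2139) L2138 (flp_h L2134) L1713 L1711 L1360 L1068 L1066 (flp_b L1023) L1313 L1320 L1047 L807 L809 L806 L804 (flp_h L630) L434 (flp_f L618) (flp_e L862) L861 (flp_c L1111) L1110 L1412 (flp_g L1723) (flp_f L2142) L2141 L2675 L3377 L4321 (flp_h L5429) L5428 L5426 L5489 L7044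
theorem L7058 : sm gf N664 = N828 := rfl
theorem L7060 : sm gb N828 = N666 := ded_20_1 (flp_f L5507) (flp_b L5491) L7058
theorem L7062 : sm gc N828 = N828 := ded_26_1 (flp_f L7058) L5493 L7058
theorem L7063 : sm gh N828 = N674 := ded_40_2 (flp_f L5582) (flp_h L5496) L7058
theorem L7065 : sm gf N665 = N829 := rfl
theorem L7067 : sm ga N829 = N756 := ded_13_1 (flp_f L6398) (flp_a L5500) L7065
theorem L7069 : sm gc N829 = N829 := ded_26_1 (flp_f L7065) L5504 L7065
theorem L7070 : sm gd N829 = N666 := ded_31_1 (flp_f L5507) L5498 L7065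
theorem L7072 : sm gh N829 = N829 := ded_40_2 (flp_f L7065) L5506 L7065
theorem L7073 : sm gg N666 = N830 := rfl
theorem L7075 : sm ga N830 = N757 := ded_14_1 (flp_g L6404) (flp_a L5509) L7073
theorem L7077 : sm gc N830 = N667 := ded_27_1 (flp_g L5515) (flp_c L5511) L7073
theorem L7079 : sm gh N830 = N675 := ded_42_2 (flp_g L5589) (flp_h L5513) L7073
theorem L7081 : sm gf N830 = N685 := ded_39_1 (flp_g L5814) (flp_f L4459) (flp_g L4309) L5507 L7073
theorem L7083 : sm ge N668 = N831 := rfl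
theorem L7085 : sm ga N831 = N669 := ded_12_1 (flp_e L5536) L5525 L7083
theorem L7087 : sm gb N831 = N758 := ded_19_1 (flp_e L6412) (flp_b L5534) L7083
theorem L7089 : sm gc N831 = N831 := ded_25_1 (flp_e L7083) L5527 L7083
theorem L7090 : sm gg N831 = N831 := ded_36_2 (flp_e L7083) L5532 L7083
theorem L7091 : sm gi N831 = N831 := ded_38_2 (flp_e L7083) L5533 L7083
theorem L7092 : sm gd N669 = N832 := rfl
theorem L7094 : sm gb N832 = N670 := ded_18_1 (flp_d L5543) (flp_b L5538) L7092
theorem L7096 : sm gg N832 = N832 := ded_32_2 (flp_d L7092) L5541 L7092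
theorem L7097 : sm gi N832 = N832 := ded_34_2 (flp_d L7092) L5542 L7092
theorem L7098 : sm ge N832 = N677 := ded_30_2 (flp_d L5609) (flp_e L4393) (flp_d L4323) L5536 L7092
theorem L7100 : sm gf N669 = N833 := rfl
theorem L7102 : sm gb N833 = N671 := ded_20_1 (flp_f L5552) (flp_b L5538) L7100
theorem L7104 : sm gc N833 = N833 := ded_26_1 (flp_f L7100) L5540 L7100
theorem L7105 : sm gi N833 = N833 := ded_41_2 (flp_f L7100) L5542 L7100
theorem L7106 : sm ge N833 = N674 := ded_35_1 (flp_f L5582) (flp_e L4357) (flp_f L4325) L5536 L7100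
theorem L7108 : sm gf N670 = N834 := rfl
theorem L7110 : sm ga N834 = N761 := ded_13_1 (flp_f L6433) (flp_a L5545) L7108
theorem L7112 : sm gc N834 = N834 := ded_26_1 (flp_f L7108) L5549 L7108
theorem L7113 : sm gd N834 = N671 := ded_31_1 (flp_f L5552) L5543 L7108
theorem L7115 : sm gi N834 = N834 := ded_41_2 (flp_f L7108) L5548 L7108
theorem L7116 : sm ge N834 = N834 := ded_35_1 (flp_f L7108) L5550 L4405 (flp_e L5550) L7108
theorem L7117 : sm gh N670 = N835 := rfl
theorem L7119 : sm ga N835 = N762 := ded_15_1 (flp_h L6440) (flp_a L5545) L7117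
theorem L7121 : sm gc N835 = N835 := ded_28_1 (flp_h L7117) L5549 L7117
theorem L7122 : sm ge N835 = N678 := ded_37_1 (flp_h L5616) (flp_e L5550) L7117
theorem L7124 : sm gg N835 = N835 := ded_42_1 (flp_h L7117) L5547 L7117
theorem L7125 : sm gg N671 = N836 := rfl
theorem L7127 : sm ga N836 = N763 := ded_14_1 (flp_g L6446) (flp_a L5554) L7125
theorem L7129 : sm gc N836 = N672 := ded_27_1 (flp_g L5561) (flp_c L5556) L7125
theorem L7131 : sm ge N836 = N675 := ded_36_1 (flp_g L5589) (flp_e L5559) L7125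
theorem L7133 : sm gi N836 = N836 := ded_43_2 (flp_g L7125) L5558 L7125
theorem L7134 : sm gf N836 = N836 := ded_39_1 (flp_g L7125) (flp_f L5552) L4336 L5552 L7125
theorem L7135 : sm gf N673 = N837 := rfl
theorem L7137 : sm ga N837 = N674 := ded_13_1 (flp_f L5582) (flp_a L5573) L7135
theorem L7139 : sm gb N837 = N764 := ded_20_1 (flp_f L6454) (flp_b L5575) L7135
theorem L7141 : sm gc N837 = N837 := ded_26_1 (flp_f L7135) L5577 L7135
theorem L7142 : sm gd N837 = N837 := ded_31_1 (flp_f L7135) L5581 L7135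
theorem L7143 : sm gi N837 = N837 := ded_41_2 (flp_f L7135) L5580 L7135
theorem L7144 : sm gg N674 = N838 := rfl
theorem L7146 : sm gb N838 = N675 := ded_21_1 (flp_g L5589) (flp_b L5584) L7144
theorem L7148 : sm gc N838 = N838 := ded_27_1 (flp_g L7144) L5586 L7144
theorem L7149 : sm gd N838 = N838 := ded_32_1 (flp_g L7144) L5587 L7144
theorem L7150 : sm gi N838 = N838 := ded_43_2 (flp_g L7144) L5588 L7144
theorem L7151 : sm gf N838 = N687 := ded_39_1 (flp_g L5835) (flp_f L4486) (flp_g L4362) L5582 L7144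
theorem L7153 : sm gd N676 = N839 := rfl
theorem L7155 : sm ga N839 = N677 := ded_11_1 (flp_d L5609) (flp_a L5601) L7153
theorem L7157 : sm gb N839 = N766 := ded_18_1 (flp_d L6468) (flp_b L5603) L7153
theorem L7159 : sm gf N839 = N839 := ded_31_2 (flp_d L7153) L5608 L7153
theorem L7160 : sm gg N839 = N839 := ded_32_2 (flp_d L7153) L5605 L7153
theorem L7161 : sm gi N839 = N839 := ded_34_2 (flp_d L7153) L5607 L7153
theorem L7162 : sm gc N839 = N734 := ded_24_1 (flp_d L6239) (flp_c L6233) L6971 L6762 L7153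
theorem L7164 : sm gh N735 = N839 := ded_15_0 L7155 L6987 L6816
theorem L7166 : sm gg N686 = N840 := rfl
theorem L7168 : sm ga N840 = N687 := ded_14_1 (flp_g L5835) (flp_a L5825) L7166
theorem L7170 : sm gb N840 = N801 := ded_21_1 (flp_g L6750) (flp_b L5827) L7166
theorem L7172 : sm gc N840 = N840 := ded_27_1 (flp_g L7166) L5829 L7166
theorem L7173 : sm gd N840 = N840 := ded_32_1 (flp_g L7166) L5830 L7166
theorem L7174 : sm ge N840 = N840 := ded_36_1 (flp_g L7166) L5834 L7166
theorem L7175 : sm gh N840 = N750 := ded_42_2 L6355 (flp_h L5831) L7166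
theorem L7177 : sm gi N840 = N840 := ded_43_2 (flp_g L7166) L5833 L7166
theorem L7178 : sm gd N688 = N841 := rfl
theorem L7180 : sm ga N841 = N841 := ded_11_1 (flp_d L7178) L5845 L7178
theorem L7181 : sm gb N841 = N841 := ded_18_1 (flp_d L7178) L5846 L7178
theorem L7182 : sm gf N841 = N841 := ded_31_2 (flp_d L7178) L5849 L7178
theorem L7183 : sm gg N841 = N841 := ded_32_2 (flp_d L7178) L5850 L7178
theorem L7184 : sm gi N841 = N841 := ded_34_2 (flp_d L7178) L5851 L7178
theorem L7185 : sm gh N841 = N690 := ded_33_2 (flp_d L5864) (flp_h L4524) (flp_d L4508) L5843 L7178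
theorem L7187 : sm gd N689 = N842 := rfl
theorem L7189 : sm ga N842 = N842 := ded_11_1 (flp_d L7187) L5854 L7187
theorem L7190 : sm gb N842 = N842 := ded_18_1 (flp_d L7187) L5855 L7187
theorem L7191 : sm gf N842 = N842 := ded_31_2 (flp_d L7187) L5860 L7187
theorem L7192 : sm gg N842 = N842 := ded_32_2 (flp_d L7187) L5861 L7187
theorem L7193 : sm gi N842 = N690 := ded_34_2 (flp_d L5864) (flp_i L5862) L7187
theorem L7195 : sm gh N842 = N842 := ded_33_2 (flp_d L7187) (flp_h L5852) L4519 L5852 L7187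
theorem L7196 : sm gc N690 = N843 := rfl
theorem L7198 : sm ga N843 = N843 := ded_10_1 (flp_c L7196) L5866 L7196
theorem L7199 : sm gf N843 = N843 := ded_26_2 (flp_c L7196) L5868 L7196
theorem L7200 : sm gg N843 = N843 := ded_27_2 (flp_c L7196) L5869 L7196
theorem L7201 : sm gd N843 = N703 := ded_24_2 (flp_c L5976) (flp_d L4629) (flp_c L4528) L5864 L7196
theorem L7203 : sm ge N690 = N844 := rfl
theorem L7205 : sm ga N844 = N844 := ded_12_1 (flp_e L7203) L5866 L7203
theorem L7206 : sm gb N844 = N844 := ded_19_1 (flp_e L7203) L5867 L7203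
theorem L7207 : sm gg N844 = N844 := ded_36_2 (flp_e L7203) L5869 L7203
theorem L7208 : sm gd N844 = N694 := ded_30_1 (flp_e L5898) (flp_d L4556) (flp_e L4530) L5864 L7203
theorem L7210 : sm gd N691 = N845 := rfl
theorem L7212 : sm ga N845 = N845 := ded_11_1 (flp_d L7210) L5872 L7210
theorem L7213 : sm gb N845 = N845 := ded_18_1 (flp_d L7210) L5873 L7210
theorem L7214 : sm gf N845 = N695 := ded_31_2 (flp_d L5904) (flp_f L5876) L7210
theorem L7216 : sm gg N845 = N845 := ded_32_2 (flp_d L7210) L5878 L7210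
theorem L7217 : sm gi N845 = N845 := ded_34_2 (flp_d L7210) L5879 L7210
theorem L7218 : sm gh N845 = N692 := ded_33_2 (flp_d L5880) (flp_h L4545) (flp_d L4539) L5870 L7210
theorem L7220 : sm gc N692 = N846 := rfl
theorem L7222 : sm ga N846 = N846 := ded_10_1 (flp_c L7220) L5882 L7220
theorem L7223 : sm gf N846 = N696 := ded_26_2 (flp_c L5915) (flp_f L5884) L7220
theorem L7225 : sm gg N846 = N846 := ded_27_2 (flp_c L7220) L5886 L7220
theorem L7226 : sm gi N846 = N693 := ded_29_2 (flp_c L5889) (flp_i L5887) L7220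
theorem L7228 : sm gd N846 = N705 := ded_24_2 (flp_c L5991) (flp_d L4637) (flp_c L4549) L5880 L7220
theorem L7230 : sm ge N692 = N847 := rfl
theorem L7232 : sm ga N847 = N847 := ded_12_1 (flp_e L7230) L5882 L7230
theorem L7233 : sm gb N847 = N847 := ded_19_1 (flp_e L7230) L5883 L7230
theorem L7234 : sm gg N847 = N847 := ded_36_2 (flp_e L7230) L5886 L7230
theorem L7235 : sm gi N847 = N694 := ded_38_2 (flp_e L5898) (flp_i L5887) L7230
theorem L7237 : sm gb N693 = N848 := rfl
theorem L7239 : sm gd N848 = N707 := ded_18_2 (flp_b L6009) (flp_d L5896) L7237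
theorem L7241 : sm gf N848 = N698 := ded_20_2 (flp_b L5935) (flp_f L5892) L7237
theorem L7243 : sm gg N848 = N848 := ded_21_2 (flp_b L7237) L5894 L7237
theorem L7244 : sm gh N848 = N848 := ded_22_2 (flp_b L7237) L5895 L7237
theorem L7245 : sm gc N848 = N848 := ded_17_2 (flp_b L7237) (flp_c L5889) L4559 L5889 L7237
theorem L7246 : sm ge N693 = N849 := rfl
theorem L7248 : sm ga N849 = N849 := ded_12_1 (flp_e L7246) L5891 L7246
theorem L7249 : sm gc N849 = N694 := ded_25_1 (flp_e L5898) L5889 L7246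
theorem L7251 : sm gg N849 = N849 := ded_36_2 (flp_e L7246) L5894 L7246
theorem L7252 : sm gh N849 = N849 := ded_37_2 (flp_e L7246) L5895 L7246
theorem L7253 : sm gf N694 = N850 := rfl
theorem L7255 : sm ga N850 = N850 := ded_13_1 (flp_f L7253) L5900 L7253
theorem L7256 : sm gb N850 = N850 := ded_20_1 (flp_f L7253) L5901 L7253
theorem L7257 : sm gh N850 = N850 := ded_40_2 (flp_f L7253) L5903 L7253
theorem L7258 : sm ge N850 = N700 := ded_35_1 (flp_f L5951) (flp_e L4599) (flp_f L4560) L5898 L7253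
theorem L7260 : sm gc N695 = N851 := rfl
theorem L7262 : sm ga N851 = N851 := ded_10_1 (flp_c L7260) L5906 L7260
theorem L7263 : sm ge N851 = N793 := ded_25_2 L6681 (flp_e L5911) L7260
theorem L7265 : sm gg N851 = N770 := ded_27_2 (flp_c L6496) (flp_g L5908) L7260
theorem L7267 : sm gh N851 = N696 := ded_28_2 (flp_c L5915) (flp_h L5913) L7260
theorem L7269 : sm gi N851 = N851 := ded_29_2 (flp_c L7260) L5910 L7260
theorem L7270 : sm gd N851 = N851 := ded_24_2 (flp_c L7260) (flp_d L5904) L4579 L5904 L7260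
theorem L7271 : sm gb N696 = N852 := rfl
theorem L7273 : sm gd N852 = N710 := ded_18_2 (flp_b L6035) (flp_d L5922) L7271
theorem L7275 : sm gg N852 = N771 := ded_21_2 (flp_b L6506) (flp_g L5918) L7271
theorem L7277 : sm gi N852 = N698 := ded_23_2 (flp_b L5935) (flp_i L5920) L7271
theorem L7279 : sm gc N852 = N852 := ded_17_2 (flp_b L7271) (flp_c L5915) L4586 L5915 L7271
theorem L7280 : sm ge N696 = N853 := rfl
theorem L7282 : sm ga N853 = N853 := ded_12_1 (flp_e L7280) L5917 L7280
theorem L7283 : sm gc N853 = N697 := ded_25_1 (flp_e L5924) L5915 L7280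
theorem L7285 : sm gg N853 = N772 := ded_36_2 (flp_e L6514) (flp_g L5918) L7280
theorem L7287 : sm gh N853 = N793 := ded_37_2 (flp_e L7263) L7267 L7280
theorem L7289 : sm gi N853 = N699 := ded_38_2 (flp_e L5943) (flp_i L5920) L7280
theorem L7291 : sm gf N697 = N854 := rfl
theorem L7293 : sm ga N854 = N854 := ded_13_1 (flp_f L7291) L5926 L7291
theorem L7294 : sm gb N854 = N854 := ded_20_1 (flp_f L7291) L5927 L7291
theorem L7295 : sm gd N854 = N854 := ded_31_1 (flp_f L7291) L5934 L7291
theorem L7296 : sm gh N854 = N730 := ded_40_2 L6212 (flp_h L5930) L7291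
theorem L7298 : sm gi N854 = N700 := ded_41_2 (flp_f L5951) (flp_i L5932) L7291
theorem L7300 : sm gg N854 = N731 := ded_39_2 L6218 L4788 (flp_f L5748) (flp_g L5928) L7291
theorem L7302 : sm ga N698 = N855 := rfl
theorem L7304 : sm gc N855 = N855 := ded_10_2 (flp_a L7302) L5942 L7302
theorem L7305 : sm gd N855 = N713 := ded_11_2 (flp_a L6063) (flp_d L5937) L7302
theorem L7307 : sm gg N855 = N773 := ded_14_2 (flp_a L6525) (flp_g L5939) L7302
theorem L7309 : sm gh N855 = N855 := ded_15_2 (flp_a L7302) L5941 L7302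
theorem L7310 : sm gb N855 = N855 := ded_9_2 (flp_a L7302) (flp_b L5935) L4593 L5935 L7302
theorem L7311 : sm ge N698 = N856 := rfl
theorem L7313 : sm gb N856 = N699 := ded_19_1 (flp_e L5943) L5935 L7311
theorem L7315 : sm gc N856 = N856 := ded_25_1 (flp_e L7311) L5942 L7311
theorem L7316 : sm gg N856 = N774 := ded_36_2 (flp_e L6533) (flp_g L5939) L7311
theorem L7318 : sm gh N856 = N856 := ded_37_2 (flp_e L7311) L5941 L7311
theorem L7319 : sm gd N699 = N857 := rfl
theorem L7321 : sm ga N857 = N857 := ded_11_1 (flp_d L7319) L5945 L7319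
theorem L7322 : sm gg N857 = N775 := ded_32_2 (flp_d L6539) (flp_g L5948) L7319
theorem L7324 : sm gc N857 = N857 := ded_24_1 (flp_d L7319) L5946 L4606 (flp_c L5946) L7319
theorem L7325 : sm ge N857 = N715 := ded_30_2 (flp_d L6082) (flp_e L4691) (flp_d L4597) L5943 L7319
theorem L7327 : sm gf N699 = N858 := rfl
theorem L7329 : sm ga N858 = N858 := ded_13_1 (flp_f L7327) L5945 L7327
theorem L7330 : sm gc N858 = N700 := ded_26_1 (flp_f L5951) (flp_c L5946) L7327
theorem L7332 : sm gh N858 = N858 := ded_40_2 (flp_f L7327) L5950 L7327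
theorem L7333 : sm gg N700 = N859 := rfl
theorem L7335 : sm ga N859 = N859 := ded_14_1 (flp_g L7333) L5953 L7333
theorem L7336 : sm gb N859 = N859 := ded_21_1 (flp_g L7333) L5954 L7333
theorem L7337 : sm gd N859 = N859 := ded_32_1 (flp_g L7333) L5955 L7333
theorem L7338 : sm gh N859 = N859 := ded_42_2 (flp_g L7333) L5956 L7333
theorem L7339 : sm gi N859 = N731 := ded_43_2 (flp_g L7300) L7298 L7333
theorem L7341 : sm gf N859 = N732 := ded_39_1 L6227 (flp_f L5062) (flp_g L4603) L5951 L7333
theorem L7343 : sm gd N701 = N860 := rfl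
theorem L7345 : sm ga N860 = N860 := ded_11_1 (flp_d L7343) L5959 L7343
theorem L7346 : sm gb N860 = N734 := ded_18_1 (flp_d L6239) (flp_b L5960) L7343
theorem L7348 : sm gf N860 = N860 := ded_31_2 (flp_d L7343) L5964 L7343
theorem L7349 : sm gg N860 = N860 := ded_32_2 (flp_d L7343) L5965 L7343
theorem L7350 : sm gi N860 = N860 := ded_34_2 (flp_d L7343) L5966 L7343
theorem L7351 : sm gh N860 = N702 := ded_33_2 (flp_d L5967) (flp_h L4618) (flp_d L4613) L5957 L7343
theorem L7353 : sm gc N702 = N861 := rfl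
theorem L7355 : sm ga N861 = N861 := ded_10_1 (flp_c L7353) L5969 L7353
theorem L7356 : sm gf N861 = N861 := ded_26_2 (flp_c L7353) L5972 L7353
theorem L7357 : sm gg N861 = N861 := ded_27_2 (flp_c L7353) L5973 L7353
theorem L7358 : sm gi N861 = N703 := ded_29_2 (flp_c L5976) (flp_i L5974) L7353
theorem L7360 : sm ge N702 = N862 := rfl
theorem L7362 : sm ga N862 = N862 := ded_12_1 (flp_e L7360) L5969 L7360
theorem L7363 : sm gb N862 = N736 := ded_19_1 (flp_e L6253) (flp_b L5970) L7360
theorem L7365 : sm gg N862 = N862 := ded_36_2 (flp_e L7360) L5973 L7360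
theorem L7366 : sm gi N862 = N704 := ded_38_2 (flp_e L5982) (flp_i L5974) L7360
theorem L7368 : sm gd N862 = N706 := ded_30_1 (flp_e L6000) (flp_d L4637) (flp_e L4623) L5967 L7360
theorem L7370 : sm gb N703 = N863 := rfl
theorem L7372 : sm gf N863 = N863 := ded_20_2 (flp_b L7370) L5979 L7370
theorem L7373 : sm gg N863 = N863 := ded_21_2 (flp_b L7370) L5980 L7370
theorem L7374 : sm gh N863 = N863 := ded_22_2 (flp_b L7370) L5981 L7370
theorem L7375 : sm gc N863 = N737 := ded_17_2 (flp_b L6260) (flp_c L4823) (flp_b L4632) L5976 L7370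
theorem L7377 : sm ge N703 = N864 := rfl
theorem L7379 : sm ga N864 = N864 := ded_12_1 (flp_e L7377) L5978 L7377
theorem L7380 : sm gc N864 = N704 := ded_25_1 (flp_e L5982) L5976 L7377
theorem L7382 : sm gg N864 = N864 := ded_36_2 (flp_e L7377) L5980 L7377
theorem L7383 : sm gh N864 = N864 := ded_37_2 (flp_e L7377) L5981 L7377
theorem L7384 : sm gf N704 = N865 := rfl
theorem L7386 : sm ga N865 = N865 := ded_13_1 (flp_f L7384) L5984 L7384
theorem L7387 : sm gb N865 = N739 := ded_20_1 (flp_f L6272) (flp_b L5985) L7384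
theorem L7389 : sm gd N865 = N709 := ded_31_1 (flp_f L6026) (flp_d L5989) L7384
theorem L7391 : sm gh N865 = N865 := ded_40_2 (flp_f L7384) L5988 L7384
theorem L7392 : sm ge N865 = N865 := ded_35_1 (flp_f L7384) (flp_e L5982) L4634 L5982 L7384
theorem L7393 : sm gb N705 = N866 := rfl
theorem L7395 : sm gf N866 = N710 := ded_20_2 (flp_b L6035) (flp_f L5994) L7393
theorem L7397 : sm gg N866 = N866 := ded_21_2 (flp_b L7393) L5996 L7393
theorem L7398 : sm gh N866 = N866 := ded_22_2 (flp_b L7393) L5997 L7393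
theorem L7399 : sm gi N866 = N707 := ded_23_2 (flp_b L6009) (flp_i L5998) L7393
theorem L7401 : sm gc N866 = N740 := ded_17_2 (flp_b L6278) (flp_c L4835) (flp_b L4640) L5991 L7393
theorem L7403 : sm ge N705 = N867 := rfl
theorem L7405 : sm ga N867 = N867 := ded_12_1 (flp_e L7403) L5993 L7403
theorem L7406 : sm gc N867 = N706 := ded_25_1 (flp_e L6000) L5991 L7403
theorem L7408 : sm gg N867 = N867 := ded_36_2 (flp_e L7403) L5996 L7403
theorem L7409 : sm gh N867 = N867 := ded_37_2 (flp_e L7403) L5997 L7403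
theorem L7410 : sm gi N867 = N708 := ded_38_2 (flp_e L6018) (flp_i L5998) L7403
theorem L7412 : sm gf N706 = N868 := rfl
theorem L7414 : sm ga N868 = N868 := ded_13_1 (flp_f L7412) L6002 L7412
theorem L7415 : sm gb N868 = N742 := ded_20_1 (flp_f L6295) (flp_b L6003) L7412
theorem L7417 : sm gh N868 = N868 := ded_40_2 (flp_f L7412) L6006 L7412
theorem L7418 : sm gi N868 = N709 := ded_41_2 (flp_f L6026) (flp_i L6007) L7412
theorem L7420 : sm ge N868 = N712 := ded_35_1 (flp_f L6054) (flp_e L4672) (flp_f L4642) L6000 L7412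
theorem L7422 : sm ga N707 = N869 := rfl
theorem L7424 : sm gc N869 = N743 := ded_10_2 (flp_a L6302) (flp_c L6016) L7422
theorem L7426 : sm gf N869 = N713 := ded_13_2 (flp_a L6063) (flp_f L6011) L7422
theorem L7428 : sm gg N869 = N869 := ded_14_2 (flp_a L7422) L6013 L7422
theorem L7429 : sm gh N869 = N718 := ded_15_2 (flp_a L6105) (flp_h L6014) L7422
theorem L7431 : sm gb N869 = N869 := ded_9_2 (flp_a L7422) (flp_b L6009) L4650 L6009 L7422
theorem L7432 : sm ge N707 = N870 := rfl
theorem L7434 : sm gb N870 = N708 := ded_19_1 (flp_e L6018) L6009 L7432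
theorem L7436 : sm gc N870 = N744 := ded_25_1 (flp_e L6310) (flp_c L6016) L7432
theorem L7438 : sm gg N870 = N870 := ded_36_2 (flp_e L7432) L6013 L7432
theorem L7439 : sm gh N870 = N719 := ded_37_2 (flp_e L6115) (flp_h L6014) L7432
theorem L7441 : sm gd N708 = N871 := rfl
theorem L7443 : sm ga N871 = N871 := ded_11_1 (flp_d L7441) L6020 L7441
theorem L7444 : sm gg N871 = N871 := ded_32_2 (flp_d L7441) L6023 L7441
theorem L7445 : sm gf N708 = N872 := rfl
theorem L7447 : sm ga N872 = N872 := ded_13_1 (flp_f L7445) L6020 L7445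
theorem L7448 : sm gc N872 = N709 := ded_26_1 (flp_f L6026) (flp_c L6021) L7445
theorem L7450 : sm gh N872 = N721 := ded_40_2 (flp_f L6130) (flp_h L6024) L7445
theorem L7452 : sm ge N872 = N716 := ded_35_1 (flp_f L6088) (flp_e L4691) (flp_f L4651) L6018 L7445
theorem L7454 : sm gg N709 = N873 := rfl
theorem L7456 : sm ga N873 = N873 := ded_14_1 (flp_g L7454) L6028 L7454
theorem L7457 : sm gb N873 = N747 := ded_21_1 (flp_g L6329) (flp_b L6029) L7454
theorem L7459 : sm ge N873 = N717 := ded_36_1 (flp_g L6095) (flp_e L6033) L7454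
theorem L7461 : sm gh N873 = N722 := ded_42_2 (flp_g L6138) (flp_h L6031) L7454
theorem L7463 : sm gf N873 = N873 := ded_39_1 (flp_g L7454) (flp_f L6026) L4661 L6026 L7454
theorem L7464 : sm ga N710 = N874 := rfl
theorem L7466 : sm gc N874 = N748 := ded_10_2 (flp_a L6336) (flp_c L6042) L7464
theorem L7468 : sm gg N874 = N777 := ded_14_2 (flp_a L6554) (flp_g L6037) L7464
theorem L7470 : sm gh N874 = N874 := ded_15_2 (flp_a L7464) L6039 L7464
theorem L7471 : sm gi N874 = N713 := ded_16_2 (flp_a L6063) (flp_i L6040) L7464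
theorem L7473 : sm gb N874 = N874 := ded_9_2 (flp_a L7464) (flp_b L6035) L4666 L6035 L7464
theorem L7474 : sm ge N710 = N875 := rfl
theorem L7476 : sm gb N875 = N711 := ded_19_1 (flp_e L6044) L6035 L7474
theorem L7478 : sm gc N875 = N749 := ded_25_1 (flp_e L6344) (flp_c L6042) L7474
theorem L7480 : sm gg N875 = N778 := ded_36_2 (flp_e L6563) (flp_g L6037) L7474
theorem L7482 : sm gh N875 = N875 := ded_37_2 (flp_e L7474) L6039 L7474
theorem L7483 : sm gi N875 = N714 := ded_38_2 (flp_e L6072) (flp_i L6040) L7474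
theorem L7485 : sm gd N711 = N876 := rfl
theorem L7487 : sm ga N876 = N876 := ded_11_1 (flp_d L7485) L6046 L7485
theorem L7488 : sm gg N876 = N779 := ded_32_2 (flp_d L6572) (flp_g L6049) L7485
theorem L7490 : sm gi N876 = N715 := ded_34_2 (flp_d L6082) (flp_i L6052) L7485
theorem L7492 : sm gc N876 = N876 := ded_24_1 (flp_d L7485) L6047 L4682 (flp_c L6047) L7485
theorem L7493 : sm gf N711 = N877 := rfl
theorem L7495 : sm ga N877 = N877 := ded_13_1 (flp_f L7493) L6046 L7493
theorem L7496 : sm gc N877 = N712 := ded_26_1 (flp_f L6054) (flp_c L6047) L7493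
theorem L7498 : sm gh N877 = N877 := ded_40_2 (flp_f L7493) L6051 L7493
theorem L7499 : sm gi N877 = N716 := ded_41_2 (flp_f L6088) (flp_i L6052) L7493
theorem L7501 : sm gg N712 = N878 := rfl
theorem L7503 : sm ga N878 = N878 := ded_14_1 (flp_g L7501) L6056 L7501
theorem L7504 : sm gb N878 = N752 := ded_21_1 (flp_g L6368) (flp_b L6057) L7501
theorem L7506 : sm gd N878 = N878 := ded_32_1 (flp_g L7501) L6059 L7501
theorem L7507 : sm gh N878 = N878 := ded_42_2 (flp_g L7501) L6060 L7501
theorem L7508 : sm gi N878 = N717 := ded_43_2 (flp_g L6095) (flp_i L6061) L7501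
theorem L7510 : sm gf N878 = N781 := ded_39_1 (flp_g L6587) (flp_f L5085) (flp_g L4677) L6054 L7501
theorem L7512 : sm ge N713 = N879 := rfl
theorem L7514 : sm ga N879 = N714 := ded_12_1 (flp_e L6072) L6063 L7512
theorem L7516 : sm gb N879 = N879 := ded_19_1 (flp_e L7512) L6071 L7512
theorem L7517 : sm gc N879 = N753 := ded_25_1 (flp_e L6376) (flp_c L6065) L7512
theorem L7519 : sm gg N879 = N782 := ded_36_2 (flp_e L6597) (flp_g L6067) L7512
theorem L7521 : sm gh N879 = N723 := ded_37_2 (flp_e L6148) (flp_h L6069) L7512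
theorem L7523 : sm gd N714 = N880 := rfl
theorem L7525 : sm gb N880 = N715 := ded_18_1 (flp_d L6082) (flp_b L6074) L7523
theorem L7527 : sm gg N880 = N783 := ded_32_2 (flp_d L6606) (flp_g L6078) L7523
theorem L7529 : sm gf N714 = N881 := rfl
theorem L7531 : sm gb N881 = N716 := ded_20_1 (flp_f L6088) (flp_b L6074) L7529
theorem L7533 : sm gc N881 = N755 := ded_26_1 (flp_f L6392) (flp_c L6076) L7529
theorem L7535 : sm gh N881 = N725 := ded_40_2 (flp_f L6167) (flp_h L6080) L7529
theorem L7537 : sm gf N715 = N882 := rfl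
theorem L7539 : sm ga N882 = N882 := ded_13_1 (flp_f L7537) L6084 L7537
theorem L7540 : sm gc N882 = N882 := ded_26_1 (flp_f L7537) L6087 L7537
theorem L7541 : sm gd N882 = N716 := ded_31_1 (flp_f L6088) L6082 L7537
theorem L7543 : sm gh N715 = N883 := rfl
theorem L7545 : sm ga N883 = N883 := ded_15_1 (flp_h L7543) L6084 L7543
theorem L7546 : sm gc N883 = N883 := ded_28_1 (flp_h L7543) L6087 L7543
theorem L7547 : sm gg N883 = N786 := ded_42_1 (flp_h L6625) (flp_g L6085) L7543
theorem L7549 : sm gd N883 = N727 := ded_33_1 (flp_h L6182) (flp_d L4751) (flp_h L4698) L6082 L7543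
theorem L7551 : sm gg N716 = N884 := rfl
theorem L7553 : sm ga N884 = N884 := ded_14_1 (flp_g L7551) L6090 L7551
theorem L7554 : sm gc N884 = N717 := ded_27_1 (flp_g L6095) (flp_c L6091) L7551
theorem L7556 : sm gh N884 = N728 := ded_42_2 (flp_g L6190) (flp_h L6093) L7551
theorem L7558 : sm gf N884 = N787 := ded_39_1 (flp_g L6631) (flp_f L5115) (flp_g L4696) L6088 L7551
theorem L7560 : sm ge N718 = N885 := rfl
theorem L7562 : sm ga N885 = N719 := ded_12_1 (flp_e L6115) L6105 L7560
theorem L7564 : sm gb N885 = N885 := ded_19_1 (flp_e L7560) L6114 L7560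
theorem L7565 : sm gc N885 = N758 := ded_25_1 (flp_e L6412) (flp_c L6107) L7560
theorem L7567 : sm gg N885 = N885 := ded_36_2 (flp_e L7560) L6112 L7560
theorem L7568 : sm gi N885 = N885 := ded_38_2 (flp_e L7560) L6113 L7560
theorem L7569 : sm gd N719 = N886 := rfl
theorem L7571 : sm gb N886 = N720 := ded_18_1 (flp_d L6123) (flp_b L6117) L7569
theorem L7573 : sm gg N886 = N886 := ded_32_2 (flp_d L7569) L6121 L7569
theorem L7574 : sm gi N886 = N886 := ded_34_2 (flp_d L7569) L6122 L7569
theorem L7575 : sm ge N886 = N886 := ded_30_2 (flp_d L7569) (flp_e L6115) L4710 L6115 L7569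
theorem L7576 : sm gf N719 = N887 := rfl
theorem L7578 : sm gb N887 = N721 := ded_20_1 (flp_f L6130) (flp_b L6117) L7576
theorem L7580 : sm gc N887 = N760 := ded_26_1 (flp_f L6426) (flp_c L6119) L7576
theorem L7582 : sm gi N887 = N887 := ded_41_2 (flp_f L7576) L6122 L7576
theorem L7583 : sm ge N887 = N725 := ded_35_1 (flp_f L6167) (flp_e L4742) (flp_f L4711) L6115 L7576
theorem L7585 : sm gf N720 = N888 := rfl
theorem L7587 : sm ga N888 = N888 := ded_13_1 (flp_f L7585) L6125 L7585
theorem L7588 : sm gc N888 = N888 := ded_26_1 (flp_f L7585) L6128 L7585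
theorem L7589 : sm gd N888 = N721 := ded_31_1 (flp_f L6130) L6123 L7585
theorem L7591 : sm gi N888 = N888 := ded_41_2 (flp_f L7585) L6127 L7585
theorem L7592 : sm gh N720 = N889 := rfl
theorem L7594 : sm ga N889 = N889 := ded_15_1 (flp_h L7592) L6125 L7592
theorem L7595 : sm gc N889 = N889 := ded_28_1 (flp_h L7592) L6128 L7592
theorem L7596 : sm ge N889 = N889 := ded_37_1 (flp_h L7592) L6129 L7592
theorem L7597 : sm gg N889 = N889 := ded_42_1 (flp_h L7592) L6126 L7592
theorem L7598 : sm gg N721 = N890 := rfl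
theorem L7600 : sm ga N890 = N890 := ded_14_1 (flp_g L7598) L6132 L7598
theorem L7601 : sm gc N890 = N722 := ded_27_1 (flp_g L6138) (flp_c L6133) L7598
theorem L7603 : sm ge N890 = N728 := ded_36_1 (flp_g L6190) (flp_e L6136) L7598
theorem L7605 : sm gi N890 = N890 := ded_43_2 (flp_g L7598) L6135 L7598
theorem L7606 : sm gf N890 = N890 := ded_39_1 (flp_g L7598) (flp_f L6130) L4722 L6130 L7598
theorem L7607 : sm gd N723 = N891 := rfl
theorem L7609 : sm ga N891 = N724 := ded_11_1 (flp_d L6158) (flp_a L6150) L7607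
theorem L7611 : sm gb N891 = N891 := ded_18_1 (flp_d L7607) L6152 L7607
theorem L7612 : sm gg N891 = N788 := ded_32_2 (flp_d L6639) (flp_g L6155) L7607
theorem L7614 : sm gi N891 = N891 := ded_34_2 (flp_d L7607) L6157 L7607
theorem L7615 : sm gc N891 = N891 := ded_24_1 (flp_d L7607) L6153 L4971 (flp_c L6153) L7607
theorem L7616 : sm ge N891 = N891 := ded_30_2 (flp_d L7607) (flp_e L6148) L4737 L6148 L7607
theorem L7617 : sm gf N723 = N892 := rfl
theorem L7619 : sm ga N892 = N725 := ded_13_1 (flp_f L6167) (flp_a L6150) L7617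
theorem L7621 : sm gb N892 = N892 := ded_20_1 (flp_f L7617) L6152 L7617
theorem L7622 : sm gc N892 = N764 := ded_26_1 (flp_f L6454) (flp_c L6153) L7617
theorem L7624 : sm gi N892 = N892 := ded_41_2 (flp_f L7617) L6157 L7617
theorem L7625 : sm gf N724 = N893 := rfl
theorem L7627 : sm gb N893 = N726 := ded_20_1 (flp_f L6174) (flp_b L6160) L7625
theorem L7629 : sm gc N893 = N893 := ded_26_1 (flp_f L7625) L6165 L7625
theorem L7630 : sm gd N893 = N725 := ded_31_1 (flp_f L6167) L6158 L7625
theorem L7632 : sm gi N893 = N893 := ded_41_2 (flp_f L7625) L6164 L7625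
theorem L7633 : sm gh N724 = N894 := rfl
theorem L7635 : sm gb N894 = N727 := ded_22_1 (flp_h L6182) (flp_b L6160) L7633
theorem L7637 : sm gc N894 = N894 := ded_28_1 (flp_h L7633) L6165 L7633
theorem L7638 : sm ge N894 = N894 := ded_37_1 (flp_h L7633) L6166 L7633
theorem L7639 : sm gg N894 = N791 := ded_42_1 (flp_h L6664) (flp_g L6162) L7633
theorem L7641 : sm gg N725 = N895 := rfl
theorem L7643 : sm gb N895 = N728 := ded_21_1 (flp_g L6190) (flp_b L6169) L7641
theorem L7645 : sm gc N895 = N765 := ded_27_1 (flp_g L6460) (flp_c L6171) L7641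
theorem L7647 : sm gi N895 = N895 := ded_43_2 (flp_g L7641) L6173 L7641
theorem L7648 : sm gf N895 = N792 := ded_39_1 (flp_g L6670) (flp_f L5147) (flp_g L4748) L6167 L7641
theorem L7650 : sm ge N726 = N896 := rfl
theorem L7652 : sm ga N896 = N896 := ded_12_1 (flp_e L7650) L6176 L7650
theorem L7653 : sm gc N896 = N729 := ded_25_1 (flp_e L6198) (flp_c L6177) L7650
theorem L7655 : sm gi N896 = N896 := ded_38_2 (flp_e L7650) L6181 L7650
theorem L7656 : sm gf N896 = N896 := ded_35_2 (flp_e L7650) (flp_f L6174) L4759 L6174 L7650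
theorem L7657 : sm gg N726 = N897 := rfl
theorem L7659 : sm ga N897 = N897 := ded_14_1 (flp_g L7657) L6176 L7657
theorem L7660 : sm gc N897 = N730 := ded_27_1 (flp_g L6205) (flp_c L6177) L7657
theorem L7662 : sm gd N897 = N728 := ded_32_1 (flp_g L6190) (flp_d L6179) L7657
theorem L7664 : sm gi N897 = N897 := ded_43_2 (flp_g L7657) L6181 L7657
theorem L7665 : sm gf N897 = N793 := ded_39_1 (flp_g L6678) (flp_f L5155) (flp_g L4754) L6174 L7657
theorem L7667 : sm gh N726 = N898 := rfl
theorem L7669 : sm ga N898 = N898 := ded_15_1 (flp_h L7667) L6176 L7667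
theorem L7670 : sm gc N898 = N731 := ded_28_1 (flp_h L6214) (flp_c L6177) L7667
theorem L7672 : sm gf N898 = N727 := ded_40_1 (flp_h L6182) L6174 L7667
theorem L7674 : sm gi N727 = N899 := rfl
theorem L7676 : sm ga N899 = N899 := ded_16_1 (flp_i L7674) L6184 L7674
theorem L7677 : sm gc N899 = N732 := ded_29_1 (flp_i L6221) (flp_c L6185) L7674
theorem L7679 : sm ge N899 = N899 := ded_38_1 (flp_i L7674) L6187 L7674
theorem L7680 : sm gg N899 = N776 := ded_43_1 L6551 (flp_g L6188) L7674
theorem L7682 : sm gh N899 = N899 := ded_44_1 (flp_i L7674) (flp_h L6182) L4756 L6182 L7674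
theorem L7683 : sm gg N729 = N900 := rfl
theorem L7685 : sm ga N900 = N900 := ded_14_1 (flp_g L7683) L6200 L7683
theorem L7686 : sm gb N900 = N900 := ded_21_1 (flp_g L7683) L6201 L7683
theorem L7687 : sm gd N900 = N900 := ded_32_1 (flp_g L7683) L6203 L7683
theorem L7688 : sm ge N900 = N730 := ded_36_1 (flp_g L6205) L6198 L7683
theorem L7690 : sm gi N900 = N900 := ded_43_2 (flp_g L7683) L6202 L7683
theorem L7691 : sm gh N729 = N901 := rfl
theorem L7693 : sm ga N901 = N901 := ded_15_1 (flp_h L7691) L6200 L7691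
theorem L7694 : sm gb N901 = N901 := ded_22_1 (flp_h L7691) L6201 L7691
theorem L7695 : sm ge N901 = N731 := ded_37_1 (flp_h L6214) L6198 L7691
theorem L7697 : sm gf N901 = N901 := ded_40_1 (flp_h L7691) L6204 L7691
theorem L7698 : sm ge N734 = N902 := rfl
theorem L7700 : sm gg N902 = N902 := ded_36_2 (flp_e L7698) L6242 L7698
theorem L7701 : sm gh N902 = N736 := ded_37_2 (flp_e L6253) (flp_h L6244) L7698
theorem L7703 : sm gi N902 = N902 := ded_38_2 (flp_e L7698) L6243 L7698
theorem L7704 : sm gd N902 = N902 := ded_30_1 (flp_e L7698) (flp_d L6239) L4813 L6239 L7698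
theorem L7705 : sm gb N735 = N903 := rfl
theorem L7707 : sm gd N903 = N903 := ded_18_2 (flp_b L7705) L6252 L7705
theorem L7708 : sm gf N903 = N903 := ded_20_2 (flp_b L7705) L6248 L7705
theorem L7709 : sm gg N903 = N903 := ded_21_2 (flp_b L7705) L6249 L7705
theorem L7710 : sm gh N903 = N766 := ded_22_2 (flp_b L7157) (flp_h L7164) L7705
theorem L7712 : sm gi N903 = N737 := ded_23_2 (flp_b L6260) (flp_i L6250) L7705
theorem L7714 : sm ga N903 = N768 := ded_9_1 L6484 (flp_a L5618) (flp_b L6989) L6816 L7705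
theorem L7716 : sm ge N735 = N904 := rfl
theorem L7718 : sm gc N904 = N736 := ded_25_1 (flp_e L6253) L6246 L7716
theorem L7720 : sm gg N904 = N904 := ded_36_2 (flp_e L7716) L6249 L7716
theorem L7721 : sm gi N904 = N738 := ded_38_2 (flp_e L6266) (flp_i L6250) L7716
theorem L7723 : sm gf N736 = N905 := rfl
theorem L7725 : sm gd N905 = N742 := ded_31_1 (flp_f L6295) (flp_d L6258) L7723
theorem L7727 : sm gi N905 = N739 := ded_41_2 (flp_f L6272) (flp_i L6256) L7723
theorem L7729 : sm ge N905 = N905 := ded_35_1 (flp_f L7723) (flp_e L6253) L4819 L6253 L7723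
theorem L7730 : sm ga N737 = N906 := rfl
theorem L7732 : sm gd N906 = N906 := ded_11_2 (flp_a L7730) L6262 L7730
theorem L7733 : sm gf N906 = N906 := ded_13_2 (flp_a L7730) L6263 L7730
theorem L7734 : sm gg N906 = N906 := ded_14_2 (flp_a L7730) L6264 L7730
theorem L7735 : sm gh N906 = N906 := ded_15_2 (flp_a L7730) L6265 L7730
theorem L7736 : sm gi N906 = N768 := ded_16_2 (flp_a L7714) L7712 L7730
theorem L7738 : sm gb N906 = N769 := ded_9_2 (flp_a L6993) (flp_b L6833) L5388 L6260 L7730
theorem L7740 : sm ge N737 = N907 := rfl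
theorem L7742 : sm gb N907 = N738 := ded_19_1 (flp_e L6266) L6260 L7740
theorem L7744 : sm gg N907 = N907 := ded_36_2 (flp_e L7740) L6264 L7740
theorem L7745 : sm gh N907 = N907 := ded_37_2 (flp_e L7740) L6265 L7740
theorem L7746 : sm gd N738 = N908 := rfl
theorem L7748 : sm gg N908 = N908 := ded_32_2 (flp_d L7746) L6270 L7746
theorem L7749 : sm gc N908 = N745 := ded_24_1 (flp_d L6317) L4860 (flp_d L4833) (flp_c L6268) L7746
theorem L7751 : sm ge N908 = N908 := ded_30_2 (flp_d L7746) (flp_e L6266) L4828 L6266 L7746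
theorem L7752 : sm gf N738 = N909 := rfl
theorem L7754 : sm gc N909 = N739 := ded_26_1 (flp_f L6272) (flp_c L6268) L7752
theorem L7756 : sm gh N909 = N909 := ded_40_2 (flp_f L7752) L6271 L7752
theorem L7757 : sm ge N909 = N909 := ded_35_1 (flp_f L7752) (flp_e L6266) L4825 L6266 L7752
theorem L7758 : sm gg N739 = N910 := rfl
theorem L7760 : sm gd N910 = N747 := ded_32_1 (flp_g L6329) (flp_d L6274) L7758
theorem L7762 : sm ge N910 = N910 := ded_36_1 (flp_g L7758) L6277 L7758
theorem L7763 : sm gh N910 = N910 := ded_42_2 (flp_g L7758) L6276 L7758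
theorem L7764 : sm gf N910 = N910 := ded_39_1 (flp_g L7758) (flp_f L6272) L4831 L6272 L7758
theorem L7765 : sm ga N740 = N911 := rfl
theorem L7767 : sm gd N911 = N911 := ded_11_2 (flp_a L7765) L6280 L7765
theorem L7768 : sm gf N911 = N748 := ded_13_2 (flp_a L6336) (flp_f L6281) L7765
theorem L7770 : sm gg N911 = N911 := ded_14_2 (flp_a L7765) L6283 L7765
theorem L7771 : sm gh N911 = N911 := ded_15_2 (flp_a L7765) L6284 L7765
theorem L7772 : sm gi N911 = N743 := ded_16_2 (flp_a L6302) (flp_i L6285) L7765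
theorem L7774 : sm ge N740 = N912 := rfl
theorem L7776 : sm gb N912 = N741 := ded_19_1 (flp_e L6287) L6278 L7774
theorem L7778 : sm gg N912 = N912 := ded_36_2 (flp_e L7774) L6283 L7774
theorem L7779 : sm gh N912 = N912 := ded_37_2 (flp_e L7774) L6284 L7774
theorem L7780 : sm gi N912 = N744 := ded_38_2 (flp_e L6310) (flp_i L6285) L7774
theorem L7782 : sm gd N741 = N913 := rfl
theorem L7784 : sm gg N913 = N913 := ded_32_2 (flp_d L7782) L6291 L7782
theorem L7785 : sm gi N913 = N745 := ded_34_2 (flp_d L6317) (flp_i L6293) L7782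
theorem L7787 : sm ge N913 = N913 := ded_30_2 (flp_d L7782) (flp_e L6287) L4843 L6287 L7782
theorem L7788 : sm gf N741 = N914 := rfl
theorem L7790 : sm gc N914 = N742 := ded_26_1 (flp_f L6295) (flp_c L6289) L7788
theorem L7792 : sm gh N914 = N914 := ded_40_2 (flp_f L7788) L6292 L7788
theorem L7793 : sm gi N914 = N746 := ded_41_2 (flp_f L6321) (flp_i L6293) L7788
theorem L7795 : sm ge N914 = N751 := ded_35_1 (flp_f L6361) (flp_e L4879) (flp_f L4837) L6287 L7788
theorem L7797 : sm gg N742 = N915 := rfl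
theorem L7799 : sm ge N915 = N752 := ded_36_1 (flp_g L6368) (flp_e L6300) L7797
theorem L7801 : sm gh N915 = N915 := ded_42_2 (flp_g L7797) L6297 L7797
theorem L7802 : sm gi N915 = N747 := ded_43_2 (flp_g L6329) (flp_i L6298) L7797
theorem L7804 : sm gf N915 = N915 := ded_39_1 (flp_g L7797) (flp_f L6295) L4846 L6295 L7797
theorem L7805 : sm ge N743 = N916 := rfl
theorem L7807 : sm ga N916 = N744 := ded_12_1 (flp_e L6310) L6302 L7805
theorem L7809 : sm gg N916 = N916 := ded_36_2 (flp_e L7805) L6307 L7805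
theorem L7810 : sm gh N916 = N758 := ded_37_2 (flp_e L6412) (flp_h L6308) L7805
theorem L7812 : sm gd N744 = N917 := rfl
theorem L7814 : sm gb N917 = N745 := ded_18_1 (flp_d L6317) (flp_b L6312) L7812
theorem L7816 : sm gg N917 = N917 := ded_32_2 (flp_d L7812) L6314 L7812
theorem L7817 : sm ge N917 = N917 := ded_30_2 (flp_d L7812) (flp_e L6310) L4852 L6310 L7812
theorem L7818 : sm gf N744 = N918 := rfl
theorem L7820 : sm gb N918 = N746 := ded_20_1 (flp_f L6321) (flp_b L6312) L7818
theorem L7822 : sm gh N918 = N760 := ded_40_2 (flp_f L6426) (flp_h L6315) L7818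
theorem L7824 : sm ge N918 = N755 := ded_35_1 (flp_f L6392) (flp_e L4901) (flp_f L4853) L6310 L7818
theorem L7826 : sm gf N745 = N919 := rfl
theorem L7828 : sm gd N919 = N746 := ded_31_1 (flp_f L6321) L6317 L7826
theorem L7830 : sm gh N745 = N920 := rfl
theorem L7832 : sm ge N920 = N920 := ded_37_1 (flp_h L7830) L6320 L7830
theorem L7833 : sm gg N920 = N920 := ded_42_1 (flp_h L7830) L6319 L7830
theorem L7834 : sm gd N920 = N762 := ded_33_1 (flp_h L6440) (flp_d L4943) (flp_h L4863) L6317 L7830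
theorem L7836 : sm gg N746 = N921 := rfl
theorem L7838 : sm gc N921 = N747 := ded_27_1 (flp_g L6329) (flp_c L6323) L7836
theorem L7840 : sm ge N921 = N757 := ded_36_1 (flp_g L6404) (flp_e L6327) L7836
theorem L7842 : sm gh N921 = N763 := ded_42_2 (flp_g L6446) (flp_h L6325) L7836
theorem L7844 : sm gf N921 = N921 := ded_39_1 (flp_g L7836) (flp_f L6321) L4862 L6321 L7836
theorem L7845 : sm ge N748 = N922 := rfl
theorem L7847 : sm ga N922 = N749 := ded_12_1 (flp_e L6344) L6336 L7845
theorem L7849 : sm gb N922 = N800 := ded_19_1 L6943 L6941 L7845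
theorem L7851 : sm gg N922 = N794 := ded_36_2 (flp_e L6686) (flp_g L6339) L7845
theorem L7853 : sm gh N922 = N922 := ded_37_2 (flp_e L7845) L6341 L7845
theorem L7854 : sm gi N922 = N753 := ded_38_2 (flp_e L6376) (flp_i L6342) L7845
theorem L7856 : sm gd N799 = N922 := ded_18_0 L7849 L6747 (flp_b L6739)
theorem L7858 : sm gd N749 = N923 := rfl
theorem L7860 : sm ga N923 = N799 := ded_11_1 L7856 L7847 L7858
theorem L7862 : sm gb N923 = N750 := ded_18_1 (flp_d L6353) (flp_b L6346) L7858
theorem L7864 : sm gg N923 = N795 := ded_32_2 (flp_d L6699) (flp_g L6348) L7858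
theorem L7866 : sm gi N923 = N754 := ded_34_2 (flp_d L6384) (flp_i L6351) L7858
theorem L7868 : sm ge N923 = N923 := ded_30_2 (flp_d L7858) (flp_e L6344) L4873 L6344 L7858
theorem L7869 : sm gh N801 = N923 := ded_15_0 L7860 L6742 (flp_a L6752)
theorem L7871 : sm gf N749 = N924 := rfl
theorem L7873 : sm gb N924 = N751 := ded_20_1 (flp_f L6361) (flp_b L6346) L7871
theorem L7875 : sm gh N924 = N924 := ded_40_2 (flp_f L7871) L6350 L7871
theorem L7876 : sm gi N924 = N755 := ded_41_2 (flp_f L6392) (flp_i L6351) L7871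
theorem L7878 : sm gf N750 = N925 := rfl
theorem L7880 : sm gc N925 = N925 := ded_26_1 (flp_f L7878) L6359 L7878
theorem L7881 : sm gd N925 = N751 := ded_31_1 (flp_f L6361) L6353 L7878
theorem L7883 : sm gi N925 = N756 := ded_41_2 (flp_f L6398) (flp_i L6357) L7878
theorem L7885 : sm gg N751 = N926 := rfl
theorem L7887 : sm gc N926 = N752 := ded_27_1 (flp_g L6368) (flp_c L6363) L7885
theorem L7889 : sm gh N926 = N926 := ded_42_2 (flp_g L7885) L6365 L7885
theorem L7890 : sm gi N926 = N757 := ded_43_2 (flp_g L6404) (flp_i L6366) L7885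
theorem L7892 : sm gf N926 = N797 := ded_39_1 (flp_g L6724) (flp_f L5225) (flp_g L4883) L6361 L7885
theorem L7894 : sm gd N753 = N927 := rfl
theorem L7896 : sm ga N927 = N754 := ded_11_1 (flp_d L6384) (flp_a L6378) L7894
theorem L7898 : sm gb N927 = N797 := ded_18_1 L7042 L7033 L7894
theorem L7900 : sm gg N927 = N796 := ded_32_2 L6718 (flp_g L6380) L7894
theorem L7902 : sm gi N927 = N799 := ded_34_2 L7856 L7854 L7894
theorem L7904 : sm ge N927 = N927 := ded_30_2 (flp_d L7894) (flp_e L6376) L4896 L6376 L7894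
theorem L7905 : sm gh N927 = N927 := ded_33_2 (flp_d L7894) L6382 L4971 (flp_h L6382) L7894
theorem L7906 : sm gf N753 = N928 := rfl
theorem L7908 : sm ga N928 = N755 := ded_13_1 (flp_f L6392) (flp_a L6378) L7906
theorem L7910 : sm gh N928 = N764 := ded_40_2 (flp_f L6454) (flp_h L6382) L7906
theorem L7912 : sm gc N754 = N929 := rfl
theorem L7914 : sm ge N929 = N929 := ded_25_2 (flp_c L7912) L6390 L7912
theorem L7915 : sm gg N929 = N798 := ded_27_2 (flp_c L6732) (flp_g L6388) L7912
theorem L7917 : sm gh N929 = N929 := ded_28_2 (flp_c L7912) L6391 L7912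
theorem L7918 : sm gb N929 = N929 := ded_17_1 (flp_c L7912) L6386 L4913 (flp_b L6386) L7912
theorem L7919 : sm gf N754 = N930 := rfl
theorem L7921 : sm gb N930 = N756 := ded_20_1 (flp_f L6398) (flp_b L6386) L7919
theorem L7923 : sm gd N930 = N755 := ded_31_1 (flp_f L6392) L6384 L7919
theorem L7925 : sm gh N930 = N930 := ded_40_2 (flp_f L7919) L6391 L7919
theorem L7926 : sm gg N755 = N931 := rfl
theorem L7928 : sm gb N931 = N757 := ded_21_1 (flp_g L6404) (flp_b L6394) L7926
theorem L7930 : sm gh N931 = N765 := ded_42_2 (flp_g L6460) (flp_h L6396) L7926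
theorem L7932 : sm gf N931 = N799 := ded_39_1 (flp_g L6737) (flp_f L5252) (flp_g L4905) L6392 L7926
theorem L7934 : sm ge N756 = N932 := rfl
theorem L7936 : sm gc N932 = N932 := ded_25_1 (flp_e L7934) L6400 L7934
theorem L7937 : sm gh N932 = N932 := ded_37_2 (flp_e L7934) L6403 L7934
theorem L7938 : sm gf N932 = N932 := ded_35_2 (flp_e L7934) (flp_f L6398) L4914 L6398 L7934
theorem L7939 : sm gg N756 = N933 := rfl
theorem L7941 : sm gc N933 = N933 := ded_27_1 (flp_g L7939) L6400 L7939
theorem L7942 : sm gd N933 = N757 := ded_32_1 (flp_g L6404) (flp_d L6401) L7939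
theorem L7944 : sm gh N933 = N933 := ded_42_2 (flp_g L7939) L6403 L7939
theorem L7945 : sm gf N933 = N800 := ded_39_1 (flp_g L6744) (flp_f L5259) (flp_g L4911) L6398 L7939
theorem L7947 : sm gd N758 = N934 := rfl
theorem L7949 : sm ga N934 = N759 := ded_11_1 (flp_d L6418) (flp_a L6414) L7947
theorem L7951 : sm gg N934 = N934 := ded_32_2 (flp_d L7947) L6416 L7947
theorem L7952 : sm gi N934 = N934 := ded_34_2 (flp_d L7947) L6417 L7947
theorem L7953 : sm ge N934 = N766 := ded_30_2 (flp_d L6468) (flp_e L4986) (flp_d L4931) L6412 L7947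
theorem L7955 : sm gf N758 = N935 := rfl
theorem L7957 : sm ga N935 = N760 := ded_13_1 (flp_f L6426) (flp_a L6414) L7955
theorem L7959 : sm gi N935 = N935 := ded_41_2 (flp_f L7955) L6417 L7955
theorem L7960 : sm ge N935 = N764 := ded_35_1 (flp_f L6454) (flp_e L4964) (flp_f L4933) L6412 L7955
theorem L7962 : sm gc N759 = N936 := rfl
theorem L7964 : sm ge N936 = N767 := ded_25_2 (flp_c L6475) (flp_e L6424) L7962
theorem L7966 : sm gg N936 = N936 := ded_27_2 (flp_c L7962) L6422 L7962
theorem L7967 : sm gi N936 = N936 := ded_29_2 (flp_c L7962) L6423 L7962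
theorem L7968 : sm gb N936 = N936 := ded_17_1 (flp_c L7962) L6420 L4947 (flp_b L6420) L7962
theorem L7969 : sm gf N759 = N937 := rfl
theorem L7971 : sm gb N937 = N761 := ded_20_1 (flp_f L6433) (flp_b L6420) L7969
theorem L7973 : sm gd N937 = N760 := ded_31_1 (flp_f L6426) L6418 L7969
theorem L7975 : sm gi N937 = N937 := ded_41_2 (flp_f L7969) L6423 L7969
theorem L7976 : sm ge N937 = N937 := ded_35_1 (flp_f L7969) L6424 L4999 (flp_e L6424) L7969
theorem L7977 : sm gh N759 = N938 := rfl
theorem L7979 : sm gb N938 = N762 := ded_22_1 (flp_h L6440) (flp_b L6420) L7977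
theorem L7981 : sm ge N938 = N768 := ded_37_1 (flp_h L6482) (flp_e L6424) L7977
theorem L7983 : sm gg N938 = N938 := ded_42_1 (flp_h L7977) L6422 L7977
theorem L7984 : sm gg N760 = N939 := rfl
theorem L7986 : sm gb N939 = N763 := ded_21_1 (flp_g L6446) (flp_b L6428) L7984
theorem L7988 : sm ge N939 = N765 := ded_36_1 (flp_g L6460) (flp_e L6431) L7984
theorem L7990 : sm gi N939 = N939 := ded_43_2 (flp_g L7984) L6430 L7984
theorem L7991 : sm gf N939 = N939 := ded_39_1 (flp_g L7984) (flp_f L6426) L4941 L6426 L7984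
theorem L7992 : sm gg N761 = N940 := rfl
theorem L7994 : sm gc N940 = N940 := ded_27_1 (flp_g L7992) L6435 L7992
theorem L7995 : sm gd N940 = N763 := ded_32_1 (flp_g L6446) (flp_d L6436) L7992
theorem L7997 : sm ge N940 = N940 := ded_36_1 (flp_g L7992) L6439 L7992
theorem L7998 : sm gi N940 = N940 := ded_43_2 (flp_g L7992) L6438 L7992
theorem L7999 : sm gf N940 = N940 := ded_39_1 (flp_g L7992) (flp_f L6433) L4945 L6433 L7992
theorem L8000 : sm gh N761 = N941 := rfl
theorem L8002 : sm gc N941 = N941 := ded_28_1 (flp_h L8000) L6435 L8000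
theorem L8003 : sm ge N941 = N941 := ded_37_1 (flp_h L8000) L6439 L8000
theorem L8004 : sm gf N941 = N762 := ded_40_1 (flp_h L6440) L6433 L8000
theorem L8006 : sm gi N762 = N942 := rfl
theorem L8008 : sm gc N942 = N942 := ded_29_1 (flp_i L8006) L6442 L8006
theorem L8009 : sm ge N942 = N769 := ded_38_1 (flp_i L6489) (flp_e L6443) L8006
theorem L8011 : sm gg N942 = N942 := ded_43_1 (flp_i L8006) L6445 L8006
theorem L8012 : sm gh N942 = N942 := ded_44_1 (flp_i L8006) (flp_h L6440) L4946 L6440 L8006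
theorem L8013 : sm gg N764 = N943 := rfl
theorem L8015 : sm ga N943 = N765 := ded_14_1 (flp_g L6460) (flp_a L6456) L8013
theorem L8017 : sm gd N943 = N943 := ded_32_1 (flp_g L8013) L6458 L8013
theorem L8018 : sm gi N943 = N943 := ded_43_2 (flp_g L8013) L6459 L8013
theorem L8019 : sm gf N943 = N801 := ded_39_1 (flp_g L6750) (flp_f L5272) (flp_g L4968) L6454 L8013
theorem L8021 : sm gc N766 = N944 := rfl
theorem L8023 : sm ga N944 = N767 := ded_10_1 (flp_c L6475) (flp_a L6470) L8021
theorem L8025 : sm gf N944 = N944 := ded_26_2 (flp_c L8021) L6472 L8021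
theorem L8026 : sm gg N944 = N944 := ded_27_2 (flp_c L8021) L6473 L8021
theorem L8027 : sm gi N944 = N944 := ded_29_2 (flp_c L8021) L6474 L8021
theorem L8028 : sm gd N944 = N944 := ded_24_2 (flp_c L8021) (flp_d L6468) L4990 L6468 L8021
theorem L8029 : sm gh N767 = N945 := rfl
theorem L8031 : sm gb N945 = N945 := ded_22_1 (flp_h L8029) L6480 L8029
theorem L8032 : sm gc N945 = N768 := ded_28_1 (flp_h L6482) L6475 L8029
theorem L8034 : sm gf N945 = N945 := ded_40_1 (flp_h L8029) L6477 L8029
theorem L8035 : sm gg N945 = N945 := ded_42_1 (flp_h L8029) L6478 L8029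
theorem L8036 : sm gb N770 = N946 := rfl
theorem L8038 : sm gd N946 = N946 := ded_18_2 (flp_b L8036) L6505 L8036
theorem L8039 : sm ge N946 = N790 := ded_19_2 L6658 (flp_e L6499) L8036
theorem L8041 : sm gf N946 = N946 := ded_20_2 (flp_b L8036) L6501 L8036
theorem L8042 : sm gh N946 = N771 := ded_22_2 (flp_b L6506) (flp_h L6502) L8036
theorem L8044 : sm gi N946 = N946 := ded_23_2 (flp_b L8036) L6504 L8036
theorem L8045 : sm gc N946 = N946 := ded_17_2 (flp_b L8036) (flp_c L6496) L5029 L6496 L8036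
theorem L8046 : sm ga N771 = N947 := rfl
theorem L8048 : sm gc N947 = N947 := ded_10_2 (flp_a L8046) L6513 L8046
theorem L8049 : sm gd N947 = N777 := ded_11_2 (flp_a L6554) (flp_d L6508) L8046
theorem L8051 : sm gf N947 = N947 := ded_13_2 (flp_a L8046) L6510 L8046
theorem L8052 : sm gi N947 = N773 := ded_16_2 (flp_a L6525) (flp_i L6511) L8046
theorem L8054 : sm gb N947 = N947 := ded_9_2 (flp_a L8046) (flp_b L6506) L5036 L6506 L8046
theorem L8055 : sm ge N771 = N948 := rfl
theorem L8057 : sm gb N948 = N772 := ded_19_1 (flp_e L6514) L6506 L8055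
theorem L8059 : sm gc N948 = N948 := ded_25_1 (flp_e L8055) L6513 L8055
theorem L8060 : sm gh N948 = N790 := ded_37_2 (flp_e L8039) L8042 L8055
theorem L8062 : sm gi N948 = N774 := ded_38_2 (flp_e L6533) (flp_i L6511) L8055
theorem L8064 : sm gf N791 = N948 := ded_46_1 (flp_e L8055) L6508 L5075 (flp_b L4072) (flp_a L3460) L3463 L3462 L4417 L5761 L5769 L5765 L4461 L4114 (flp_f L3221) (flp_e L2536) L2011 (flp_c L1613) L1262 (flp_a L1435) L1440 L1437 L1439 (flp_d L1433) (flp_c L1417) L1416 L1414 (flp_h L1245) L958 L956 L678 L676 L465 (flp_a L614) L865 L869 L634 L636 (flp_c L878) L877 L875 (flp_h L704) (flp_f L679) (flp_e L956) (flp_d L1241) L1240 (flp_b L1568) L1567 L1965 L1971 L1970 L2474 L3117 L3988 L5095 L5100 L4016 L5132 L6639 L6645 L6643 L6641 L6664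
theorem L8066 : sm gd N772 = N949 := rfl
theorem L8068 : sm ga N949 = N949 := ded_11_1 (flp_d L8066) L6516 L8066
theorem L8069 : sm gf N949 = N786 := ded_31_2 L6629 L6523 L8066
theorem L8071 : sm gi N949 = N775 := ded_34_2 (flp_d L6539) (flp_i L6521) L8066
theorem L8073 : sm gc N949 = N949 := ded_24_1 (flp_d L8066) L6517 L5048 (flp_c L6517) L8066
theorem L8074 : sm ge N949 = N779 := ded_30_2 (flp_d L6572) (flp_e L5077) (flp_d L5040) L6514 L8066
theorem L8076 : sm gh N949 = N785 := ded_33_2 L6623 L5120 (flp_d L5160) (flp_h L6519) L8066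
theorem L8078 : sm ge N773 = N950 := rfl
theorem L8080 : sm ga N950 = N774 := ded_12_1 (flp_e L6533) L6525 L8078
theorem L8082 : sm gb N950 = N950 := ded_19_1 (flp_e L8078) L6532 L8078
theorem L8083 : sm gc N950 = N950 := ded_25_1 (flp_e L8078) L6527 L8078
theorem L8084 : sm gh N950 = N950 := ded_37_2 (flp_e L8078) L6531 L8078
theorem L8085 : sm gd N774 = N951 := rfl
theorem L8087 : sm gb N951 = N775 := ded_18_1 (flp_d L6539) (flp_b L6535) L8085
theorem L8089 : sm ge N951 = N783 := ded_30_2 (flp_d L6606) (flp_e L5103) (flp_d L5051) L6533 L8085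
theorem L8091 : sm gf N774 = N952 := rfl
theorem L8093 : sm gb N952 = N776 := ded_20_1 (flp_f L6545) (flp_b L6535) L8091
theorem L8095 : sm gc N952 = N952 := ded_26_1 (flp_f L8091) L6537 L8091
theorem L8096 : sm gh N952 = N952 := ded_40_2 (flp_f L8091) L6538 L8091
theorem L8097 : sm gi N952 = N791 := ded_41_2 L8064 L8062 L8091
theorem L8099 : sm ge N952 = N952 := ded_35_1 (flp_f L8091) (flp_e L6533) L5053 L6533 L8091
theorem L8100 : sm gf N775 = N953 := rfl
theorem L8102 : sm ga N953 = N953 := ded_13_1 (flp_f L8100) L6541 L8100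
theorem L8103 : sm gc N953 = N953 := ded_26_1 (flp_f L8100) L6542 L8100
theorem L8104 : sm gd N953 = N776 := ded_31_1 (flp_f L6545) L6539 L8100
theorem L8106 : sm gi N953 = N786 := ded_41_2 (flp_f L8069) L8071 L8100
theorem L8108 : sm gh N775 = N954 := rfl
theorem L8110 : sm ga N954 = N954 := ded_15_1 (flp_h L8108) L6541 L8108
theorem L8111 : sm gc N954 = N954 := ded_28_1 (flp_h L8108) L6542 L8108
theorem L8112 : sm ge N954 = N786 := ded_37_1 (flp_h L6625) (flp_e L6543) L8108
theorem L8114 : sm gd N954 = N954 := ded_33_1 (flp_h L8108) (flp_d L6539) L5061 L6539 L8108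
theorem L8115 : sm ge N777 = N955 := rfl
theorem L8117 : sm ga N955 = N778 := ded_12_1 (flp_e L6563) L6554 L8115
theorem L8119 : sm gb N955 = N955 := ded_19_1 (flp_e L8115) L6562 L8115
theorem L8120 : sm gc N955 = N794 := ded_25_1 (flp_e L6686) (flp_c L6556) L8115
theorem L8122 : sm gh N955 = N955 := ded_37_2 (flp_e L8115) L6559 L8115
theorem L8123 : sm gi N955 = N782 := ded_38_2 (flp_e L6597) (flp_i L6560) L8115
theorem L8125 : sm gf N798 = N955 := ded_26_0 L8120 (flp_f L6697) L6732
theorem L8127 : sm gd N778 = N956 := rfl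
theorem L8129 : sm gb N956 = N779 := ded_18_1 (flp_d L6572) (flp_b L6565) L8127
theorem L8131 : sm gi N956 = N783 := ded_34_2 (flp_d L6606) (flp_i L6570) L8127
theorem L8133 : sm gf N778 = N957 := rfl
theorem L8135 : sm ga N957 = N798 := ded_13_1 L8125 L8117 L8133
theorem L8137 : sm gb N957 = N780 := ded_20_1 (flp_f L6578) (flp_b L6565) L8133
theorem L8139 : sm gc N957 = N796 := ded_26_1 (flp_f L6712) (flp_c L6567) L8133
theorem L8141 : sm gh N957 = N957 := ded_40_2 (flp_f L8133) L6569 L8133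
theorem L8142 : sm gi N957 = N784 := ded_41_2 (flp_f L6610) (flp_i L6570) L8133
theorem L8144 : sm ge N957 = N957 := ded_35_1 (flp_f L8133) (flp_e L6563) L5071 L6563 L8133
theorem L8145 : sm gf N779 = N958 := rfl
theorem L8147 : sm ga N958 = N958 := ded_13_1 (flp_f L8145) L6574 L8145
theorem L8148 : sm gc N958 = N958 := ded_26_1 (flp_f L8145) L6577 L8145
theorem L8149 : sm gd N958 = N780 := ded_31_1 (flp_f L6578) L6572 L8145
theorem L8151 : sm gi N958 = N785 := ded_41_2 (flp_f L6619) (flp_i L6575) L8145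
theorem L8153 : sm gh N779 = N959 := rfl
theorem L8155 : sm ga N959 = N959 := ded_15_1 (flp_h L8153) L6574 L8153
theorem L8156 : sm gc N959 = N959 := ded_28_1 (flp_h L8153) L6577 L8153
theorem L8157 : sm ge N959 = N785 := ded_37_1 (flp_h L8076) L8074 L8153
theorem L8159 : sm gd N959 = N959 := ded_33_1 (flp_h L8153) (flp_d L6572) L5082 L6572 L8153
theorem L8160 : sm gg N780 = N960 := rfl
theorem L8162 : sm ga N960 = N960 := ded_14_1 (flp_g L8160) L6580 L8160
theorem L8163 : sm gc N960 = N781 := ded_27_1 (flp_g L6587) (flp_c L6581) L8160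
theorem L8165 : sm ge N960 = N960 := ded_36_1 (flp_g L8160) L6586 L8160
theorem L8166 : sm gh N960 = N960 := ded_42_2 (flp_g L8160) L6583 L8160
theorem L8167 : sm gi N960 = N787 := ded_43_2 (flp_g L6631) (flp_i L6584) L8160
theorem L8169 : sm gd N782 = N961 := rfl
theorem L8171 : sm ga N961 = N783 := ded_11_1 (flp_d L6606) (flp_a L6599) L8169
theorem L8173 : sm gb N961 = N961 := ded_18_1 (flp_d L8169) L6601 L8169
theorem L8174 : sm gf N782 = N962 := rfl
theorem L8176 : sm ga N962 = N784 := ded_13_1 (flp_f L6610) (flp_a L6599) L8174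
theorem L8178 : sm gb N962 = N962 := ded_20_1 (flp_f L8174) L6601 L8174
theorem L8179 : sm gc N962 = N795 := ded_26_1 (flp_f L6708) (flp_c L6602) L8174
theorem L8181 : sm gh N962 = N789 := ded_40_2 (flp_f L6647) (flp_h L6604) L8174
theorem L8183 : sm gi N962 = N798 := ded_41_2 L8125 L8123 L8174
theorem L8185 : sm ge N962 = N962 := ded_35_1 (flp_f L8174) (flp_e L6597) L5099 L6597 L8174
theorem L8186 : sm gc N783 = N963 := rfl
theorem L8188 : sm gb N963 = N963 := ded_17_1 (flp_c L8186) L6608 L5114 (flp_b L6608) L8186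
theorem L8189 : sm gd N963 = N798 := ded_24_2 (flp_c L6732) (flp_d L5246) (flp_c L5107) L6606 L8186
theorem L8191 : sm gf N783 = N964 := rfl
theorem L8193 : sm gb N964 = N785 := ded_20_1 (flp_f L6619) (flp_b L6608) L8191
theorem L8195 : sm gd N964 = N784 := ded_31_1 (flp_f L6610) L6606 L8191
theorem L8197 : sm gh N783 = N965 := rfl
theorem L8199 : sm gb N965 = N786 := ded_22_1 (flp_h L6625) (flp_b L6608) L8197
theorem L8201 : sm gd N965 = N791 := ded_33_1 (flp_h L6664) (flp_d L5140) (flp_h L5109) L6606 L8197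
theorem L8203 : sm gg N784 = N966 := rfl
theorem L8205 : sm gb N966 = N787 := ded_21_1 (flp_g L6631) (flp_b L6612) L8203
theorem L8207 : sm gc N966 = N799 := ded_27_1 (flp_g L6737) (flp_c L6614) L8203
theorem L8209 : sm ge N966 = N966 := ded_36_1 (flp_g L8203) L6618 L8203
theorem L8210 : sm gh N966 = N792 := ded_42_2 (flp_g L6670) (flp_h L6616) L8203
theorem L8212 : sm gg N785 = N967 := rfl
theorem L8214 : sm ga N967 = N967 := ded_14_1 (flp_g L8212) L6621 L8212
theorem L8215 : sm gc N967 = N967 := ded_27_1 (flp_g L8212) L6622 L8212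
theorem L8216 : sm gd N967 = N787 := ded_32_1 (flp_g L6631) (flp_d L6623) L8212
theorem L8218 : sm gf N788 = N968 := rfl
theorem L8220 : sm ga N968 = N790 := ded_13_1 (flp_f L6656) (flp_a L6641) L8218
theorem L8222 : sm gb N968 = N968 := ded_20_1 (flp_f L8218) L6643 L8218
theorem L8223 : sm gc N968 = N968 := ded_26_1 (flp_f L8218) L6645 L8218
theorem L8224 : sm gd N968 = N789 := ded_31_1 (flp_f L6647) L6639 L8218
theorem L8226 : sm gi N968 = N968 := ded_41_2 (flp_f L8218) L6644 L8218
theorem L8227 : sm gh N788 = N969 := rfl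
theorem L8229 : sm ga N969 = N791 := ded_15_1 (flp_h L6664) (flp_a L6641) L8227
theorem L8231 : sm gb N969 = N969 := ded_22_1 (flp_h L8227) L6643 L8227
theorem L8232 : sm gc N969 = N969 := ded_28_1 (flp_h L8227) L6645 L8227
theorem L8233 : sm ge N969 = N969 := ded_37_1 (flp_h L8227) L6646 L8227
theorem L8234 : sm gg N789 = N970 := rfl
theorem L8236 : sm ga N970 = N792 := ded_14_1 (flp_g L6670) (flp_a L6649) L8234
theorem L8238 : sm gb N970 = N970 := ded_21_1 (flp_g L8234) L6651 L8234
theorem L8239 : sm gc N970 = N801 := ded_27_1 (flp_g L6750) (flp_c L6652) L8234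
theorem L8241 : sm ge N970 = N970 := ded_36_1 (flp_g L8234) L6655 L8234
theorem L8242 : sm gi N970 = N970 := ded_43_2 (flp_g L8234) L6654 L8234
theorem L8243 : sm gg N790 = N971 := rfl
theorem L8245 : sm gb N971 = N793 := ded_21_1 (flp_g L6678) (flp_b L6658) L8243
theorem L8247 : sm gc N971 = N971 := ded_27_1 (flp_g L8243) L6660 L8243
theorem L8248 : sm gd N971 = N792 := ded_32_1 (flp_g L6670) (flp_d L6661) L8243
theorem L8250 : sm gi N971 = N971 := ded_43_2 (flp_g L8243) L6663 L8243
theorem L8251 : sm ge N807 = N972 := rfl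
theorem L8253 : sm ga N972 = N902 := ded_12_1 (flp_e L7698) (flp_a L6806) L8251
theorem L8255 : sm gb N972 = N972 := ded_19_1 (flp_e L8251) L6808 L8251
theorem L8256 : sm gc N972 = N832 := ded_25_1 L7098 (flp_c L6973) L8251
theorem L8258 : sm gg N972 = N972 := ded_36_2 (flp_e L8251) L6810 L8251
theorem L8259 : sm gh N972 = N809 := ded_37_2 (flp_e L6823) (flp_h L6812) L8251
theorem L8261 : sm gi N972 = N972 := ded_38_2 (flp_e L8251) L6811 L8251
theorem L8262 : sm gd N972 = N972 := ded_30_1 (flp_e L8251) (flp_d L6804) L5373 L6804 L8251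
theorem L8263 : sm ge N808 = N973 := rfl
theorem L8265 : sm ga N973 = N904 := ded_12_1 (flp_e L7716) (flp_a L6816) L8263
theorem L8267 : sm gb N973 = N835 := ded_19_1 L7122 (flp_b L6989) L8263
theorem L8269 : sm gc N973 = N809 := ded_25_1 (flp_e L6823) L6814 L8263
theorem L8271 : sm gg N973 = N973 := ded_36_2 (flp_e L8263) L6819 L8263
theorem L8272 : sm gh N973 = N832 := ded_37_2 L7098 L6987 L8263
theorem L8274 : sm gi N973 = N811 := ded_38_2 (flp_e L6840) (flp_i L6820) L8263
theorem L8276 : sm gf N809 = N974 := rfl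
theorem L8278 : sm ga N974 = N905 := ded_13_1 (flp_f L7723) (flp_a L6825) L8276
theorem L8280 : sm gb N974 = N974 := ded_20_1 (flp_f L8276) L6827 L8276
theorem L8281 : sm gd N974 = N815 := ded_31_1 (flp_f L6877) (flp_d L6831) L8276
theorem L8283 : sm gi N974 = N812 := ded_41_2 (flp_f L6848) (flp_i L6829) L8276
theorem L8285 : sm ge N974 = N974 := ded_35_1 (flp_f L8276) (flp_e L6823) L5382 L6823 L8276
theorem L8286 : sm ge N810 = N975 := rfl
theorem L8288 : sm ga N975 = N942 := ded_12_1 L8009 (flp_a L6993) L8286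
theorem L8290 : sm gb N975 = N811 := ded_19_1 (flp_e L6840) L6833 L8286
theorem L8292 : sm gc N975 = N975 := ded_25_1 (flp_e L8286) L6839 L8286
theorem L8293 : sm gg N975 = N975 := ded_36_2 (flp_e L8286) L6837 L8286
theorem L8294 : sm gh N975 = N975 := ded_37_2 (flp_e L8286) L6838 L8286
theorem L8295 : sm gi N975 = N835 := ded_38_2 L7122 L6991 L8286
theorem L8297 : sm gd N811 = N976 := rfl
theorem L8299 : sm ga N976 = N908 := ded_11_1 (flp_d L7746) (flp_a L6842) L8297
theorem L8301 : sm gg N976 = N976 := ded_32_2 (flp_d L8297) L6846 L8297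
theorem L8302 : sm gc N976 = N818 := ded_24_1 (flp_d L6906) L5436 (flp_d L5401) (flp_c L6844) L8297
theorem L8304 : sm ge N976 = N976 := ded_30_2 (flp_d L8297) (flp_e L6840) L5393 L6840 L8297
theorem L8305 : sm gf N811 = N977 := rfl
theorem L8307 : sm ga N977 = N909 := ded_13_1 (flp_f L7752) (flp_a L6842) L8305
theorem L8309 : sm gc N977 = N812 := ded_26_1 (flp_f L6848) (flp_c L6844) L8305
theorem L8311 : sm gh N977 = N977 := ded_40_2 (flp_f L8305) L6847 L8305
theorem L8312 : sm ge N977 = N977 := ded_35_1 (flp_f L8305) (flp_e L6840) L5390 L6840 L8305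
theorem L8313 : sm gg N812 = N978 := rfl
theorem L8315 : sm ga N978 = N910 := ded_14_1 (flp_g L7758) (flp_a L6850) L8313
theorem L8317 : sm gb N978 = N978 := ded_21_1 (flp_g L8313) L6852 L8313
theorem L8318 : sm gd N978 = N820 := ded_32_1 (flp_g L6922) (flp_d L6853) L8313
theorem L8320 : sm ge N978 = N978 := ded_36_1 (flp_g L8313) L6856 L8313
theorem L8321 : sm gh N978 = N978 := ded_42_2 (flp_g L8313) L6855 L8313
theorem L8322 : sm gf N978 = N978 := ded_39_1 (flp_g L8313) (flp_f L6848) L5399 L6848 L8313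
theorem L8323 : sm ga N813 = N979 := rfl
theorem L8325 : sm gc N979 = N979 := ded_10_2 (flp_a L8323) L6866 L8323
theorem L8326 : sm gd N979 = N979 := ded_11_2 (flp_a L8323) L6859 L8323
theorem L8327 : sm gf N979 = N821 := ded_13_2 (flp_a L6932) (flp_f L6860) L8323
theorem L8329 : sm gg N979 = N979 := ded_14_2 (flp_a L8323) L6862 L8323
theorem L8330 : sm gh N979 = N979 := ded_15_2 (flp_a L8323) L6863 L8323
theorem L8331 : sm gi N979 = N816 := ded_16_2 (flp_a L6887) (flp_i L6864) L8323
theorem L8333 : sm gb N979 = N911 := ded_9_2 (flp_a L7765) (flp_b L6278) (flp_a L5405) L6857 L8323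
theorem L8335 : sm ge N813 = N980 := rfl
theorem L8337 : sm gb N980 = N814 := ded_19_1 (flp_e L6867) L6857 L8335
theorem L8339 : sm gc N980 = N980 := ded_25_1 (flp_e L8335) L6866 L8335
theorem L8340 : sm gg N980 = N980 := ded_36_2 (flp_e L8335) L6862 L8335
theorem L8341 : sm gh N980 = N980 := ded_37_2 (flp_e L8335) L6863 L8335
theorem L8342 : sm gi N980 = N817 := ded_38_2 (flp_e L6898) (flp_i L6864) L8335
theorem L8344 : sm gd N814 = N981 := rfl
theorem L8346 : sm ga N981 = N913 := ded_11_1 (flp_d L7782) (flp_a L6869) L8344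
theorem L8348 : sm gg N981 = N981 := ded_32_2 (flp_d L8344) L6873 L8344
theorem L8349 : sm gi N981 = N818 := ded_34_2 (flp_d L6906) (flp_i L6875) L8344
theorem L8351 : sm ge N981 = N981 := ded_30_2 (flp_d L8344) (flp_e L6867) L5413 L6867 L8344
theorem L8352 : sm gf N814 = N982 := rfl
theorem L8354 : sm ga N982 = N914 := ded_13_1 (flp_f L7788) (flp_a L6869) L8352
theorem L8356 : sm gc N982 = N815 := ded_26_1 (flp_f L6877) (flp_c L6871) L8352
theorem L8358 : sm gh N982 = N982 := ded_40_2 (flp_f L8352) L6874 L8352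
theorem L8359 : sm gi N982 = N819 := ded_41_2 (flp_f L6912) (flp_i L6875) L8352
theorem L8361 : sm ge N982 = N824 := ded_35_1 (flp_f L7009) (flp_e L5459) (flp_f L5407) L6867 L8352
theorem L8363 : sm gg N815 = N983 := rfl
theorem L8365 : sm ga N983 = N915 := ded_14_1 (flp_g L7797) (flp_a L6879) L8363
theorem L8367 : sm gb N983 = N983 := ded_21_1 (flp_g L8363) L6881 L8363
theorem L8368 : sm ge N983 = N825 := ded_36_1 (flp_g L7018) (flp_e L6885) L8363
theorem L8370 : sm gh N983 = N983 := ded_42_2 (flp_g L8363) L6882 L8363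
theorem L8371 : sm gi N983 = N820 := ded_43_2 (flp_g L6922) (flp_i L6883) L8363
theorem L8373 : sm gf N983 = N983 := ded_39_1 (flp_g L8363) (flp_f L6877) L5419 L6877 L8363
theorem L8374 : sm ge N816 = N984 := rfl
theorem L8376 : sm ga N984 = N817 := ded_12_1 (flp_e L6898) L6887 L8374
theorem L8378 : sm gb N984 = N916 := ded_19_1 (flp_e L7805) (flp_b L6896) L8374
theorem L8380 : sm gc N984 = N984 := ded_25_1 (flp_e L8374) L6889 L8374
theorem L8381 : sm gg N984 = N984 := ded_36_2 (flp_e L8374) L6893 L8374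
theorem L8382 : sm gh N984 = N831 := ded_37_2 (flp_e L7083) (flp_h L6894) L8374
theorem L8384 : sm gd N817 = N985 := rfl
theorem L8386 : sm gb N985 = N818 := ded_18_1 (flp_d L6906) (flp_b L6900) L8384
theorem L8388 : sm gg N985 = N985 := ded_32_2 (flp_d L8384) L6903 L8384
theorem L8389 : sm ge N985 = N985 := ded_30_2 (flp_d L8384) (flp_e L6898) L5425 L6898 L8384
theorem L8390 : sm gf N817 = N986 := rfl
theorem L8392 : sm gb N986 = N819 := ded_20_1 (flp_f L6912) (flp_b L6900) L8390
theorem L8394 : sm gc N986 = N986 := ded_26_1 (flp_f L8390) L6902 L8390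
theorem L8395 : sm gh N986 = N833 := ded_40_2 (flp_f L7100) (flp_h L6904) L8390
theorem L8397 : sm ge N986 = N828 := ded_35_1 (flp_f L7058) (flp_e L5489) (flp_f L5426) L6898 L8390
theorem L8399 : sm gf N818 = N987 := rfl
theorem L8401 : sm ga N987 = N919 := ded_13_1 (flp_f L7826) (flp_a L6908) L8399
theorem L8403 : sm gd N987 = N819 := ded_31_1 (flp_f L6912) L6906 L8399
theorem L8405 : sm gh N818 = N988 := rfl
theorem L8407 : sm ga N988 = N920 := ded_15_1 (flp_h L7830) (flp_a L6908) L8405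
theorem L8409 : sm ge N988 = N988 := ded_37_1 (flp_h L8405) L6911 L8405
theorem L8410 : sm gg N988 = N988 := ded_42_1 (flp_h L8405) L6910 L8405
theorem L8411 : sm gd N988 = N835 := ded_33_1 (flp_h L7117) (flp_d L5543) (flp_h L5439) L6906 L8405
theorem L8413 : sm gg N819 = N989 := rfl
theorem L8415 : sm ga N989 = N921 := ded_14_1 (flp_g L7836) (flp_a L6914) L8413
theorem L8417 : sm gc N989 = N820 := ded_27_1 (flp_g L6922) (flp_c L6916) L8413
theorem L8419 : sm ge N989 = N830 := ded_36_1 (flp_g L7073) (flp_e L6920) L8413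
theorem L8421 : sm gh N989 = N836 := ded_42_2 (flp_g L7125) (flp_h L6918) L8413
theorem L8423 : sm gf N989 = N989 := ded_39_1 (flp_g L8413) (flp_f L6912) L5438 L6912 L8413
theorem L8424 : sm gf N822 = N990 := rfl
theorem L8426 : sm ga N990 = N933 := ded_13_1 L7945 (flp_a L6947) L8424
theorem L8428 : sm gb N990 = N824 := ded_20_1 (flp_f L7009) (flp_b L6949) L8424
theorem L8430 : sm gc N990 = N990 := ded_26_1 (flp_f L8424) L6951 L8424
theorem L8431 : sm gd N990 = N830 := ded_31_1 L7081 L6957 L8424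
theorem L8433 : sm gh N990 = N990 := ded_40_2 (flp_f L8424) L6954 L8424
theorem L8434 : sm gi N990 = N828 := ded_41_2 (flp_f L7058) (flp_i L6955) L8424
theorem L8436 : sm gg N990 = N829 := ded_39_2 (flp_f L7065) L5502 (flp_f L5646) (flp_g L6952) L8424
theorem L8438 : sm gf N823 = N991 := rfl
theorem L8440 : sm ga N991 = N925 := ded_13_1 (flp_f L7878) (flp_a L6997) L8438
theorem L8442 : sm gb N991 = N830 := ded_20_1 L7081 (flp_b L6999) L8438
theorem L8444 : sm gc N991 = N991 := ded_26_1 (flp_f L8438) L7005 L8438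
theorem L8445 : sm gd N991 = N824 := ded_31_1 (flp_f L7009) L6995 L8438
theorem L8447 : sm gh N991 = N838 := ded_40_2 L7151 L7007 L8438
theorem L8449 : sm gi N991 = N829 := ded_41_2 (flp_f L7065) (flp_i L7003) L8438
theorem L8451 : sm gg N991 = N828 := ded_39_2 (flp_f L7058) L5494 L5771 (flp_g L7001) L8438
theorem L8453 : sm gg N824 = N992 := rfl
theorem L8455 : sm ga N992 = N926 := ded_14_1 (flp_g L7885) (flp_a L7011) L8453
theorem L8457 : sm gb N992 = N829 := ded_21_1 (flp_g L8436) L8428 L8453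
theorem L8459 : sm gc N992 = N825 := ded_27_1 (flp_g L7018) (flp_c L7013) L8453
theorem L8461 : sm gd N992 = N828 := ded_32_1 (flp_g L8451) L8445 L8453
theorem L8463 : sm gh N992 = N992 := ded_42_2 (flp_g L8453) L7015 L8453
theorem L8464 : sm gi N992 = N830 := ded_43_2 (flp_g L7073) (flp_i L7016) L8453
theorem L8466 : sm gf N992 = N827 := ded_39_1 L7050 (flp_f L5775) (flp_g L5465) L7009 L8453
theorem L8468 : sm gf N826 = N993 := rfl
theorem L8470 : sm ga N993 = N828 := ded_13_1 (flp_f L7058) (flp_a L7031) L8468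
theorem L8472 : sm gb N993 = N928 := ded_20_1 (flp_f L7906) (flp_b L7033) L8468
theorem L8474 : sm gc N993 = N993 := ded_26_1 (flp_f L8468) L7035 L8468
theorem L8475 : sm gd N993 = N926 := ded_31_1 L7892 L7042 L8468
theorem L8477 : sm gh N993 = N837 := ded_40_2 (flp_f L7135) (flp_h L7038) L8468
theorem L8479 : sm gi N993 = N933 := ded_41_2 L7945 (flp_i L7040) L8468
theorem L8481 : sm gg N993 = N925 := ded_39_2 (flp_f L7878) L6355 L5812 (flp_g L7036) L8468
theorem L8483 : sm ge N829 = N994 := rfl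
theorem L8485 : sm ga N994 = N932 := ded_12_1 (flp_e L7934) (flp_a L7067) L8483
theorem L8487 : sm gc N994 = N994 := ded_25_1 (flp_e L8483) L7069 L8483
theorem L8488 : sm gh N994 = N994 := ded_37_2 (flp_e L8483) L7072 L8483
theorem L8489 : sm gf N994 = N994 := ded_35_2 (flp_e L8483) (flp_f L7065) L5505 L7065 L8483
theorem L8490 : sm gd N831 = N995 := rfl
theorem L8492 : sm ga N995 = N832 := ded_11_1 (flp_d L7092) (flp_a L7085) L8490
theorem L8494 : sm gb N995 = N934 := ded_18_1 (flp_d L7947) (flp_b L7087) L8490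
theorem L8496 : sm gg N995 = N995 := ded_32_2 (flp_d L8490) L7090 L8490
theorem L8497 : sm gi N995 = N995 := ded_34_2 (flp_d L8490) L7091 L8490
theorem L8498 : sm ge N995 = N839 := ded_30_2 (flp_d L7153) (flp_e L5599) (flp_d L5528) L7083 L8490
theorem L8500 : sm gc N902 = N995 := ded_10_0 L8492 (flp_c L8256) L8253
theorem L8502 : sm gh N904 = N995 := ded_15_0 L8492 (flp_h L8272) L8265
theorem L8504 : sm gf N831 = N996 := rfl
theorem L8506 : sm ga N996 = N833 := ded_13_1 (flp_f L7100) (flp_a L7085) L8504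
theorem L8508 : sm gb N996 = N935 := ded_20_1 (flp_f L7955) (flp_b L7087) L8504
theorem L8510 : sm gc N996 = N996 := ded_26_1 (flp_f L8504) L7089 L8504
theorem L8511 : sm gi N996 = N996 := ded_41_2 (flp_f L8504) L7091 L8504
theorem L8512 : sm ge N996 = N837 := ded_35_1 (flp_f L7135) (flp_e L5571) (flp_f L5530) L7083 L8504
theorem L8514 : sm gf N832 = N997 := rfl
theorem L8516 : sm gb N997 = N834 := ded_20_1 (flp_f L7108) (flp_b L7094) L8514
theorem L8518 : sm gd N997 = N833 := ded_31_1 (flp_f L7100) L7092 L8514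
theorem L8520 : sm gi N997 = N997 := ded_41_2 (flp_f L8514) L7097 L8514
theorem L8521 : sm ge N997 = N997 := ded_35_1 (flp_f L8514) L7098 L5613 (flp_e L7098) L8514
theorem L8522 : sm gg N833 = N998 := rfl
theorem L8524 : sm gb N998 = N836 := ded_21_1 (flp_g L7125) (flp_b L7102) L8522
theorem L8526 : sm gc N998 = N998 := ded_27_1 (flp_g L8522) L7104 L8522
theorem L8527 : sm ge N998 = N838 := ded_36_1 (flp_g L7144) (flp_e L7106) L8522
theorem L8529 : sm gi N998 = N998 := ded_43_2 (flp_g L8522) L7105 L8522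
theorem L8530 : sm gf N998 = N998 := ded_39_1 (flp_g L8522) (flp_f L7100) L5541 L7100 L8522
theorem L8531 : sm gg N834 = N999 := rfl
theorem L8533 : sm ga N999 = N940 := ded_14_1 (flp_g L7992) (flp_a L7110) L8531
theorem L8535 : sm gc N999 = N999 := ded_27_1 (flp_g L8531) L7112 L8531
theorem L8536 : sm gd N999 = N836 := ded_32_1 (flp_g L7125) (flp_d L7113) L8531
theorem L8538 : sm ge N999 = N999 := ded_36_1 (flp_g L8531) L7116 L8531
theorem L8539 : sm gi N999 = N999 := ded_43_2 (flp_g L8531) L7115 L8531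
theorem L8540 : sm gf N999 = N999 := ded_39_1 (flp_g L8531) (flp_f L7108) L5547 L7108 L8531
theorem L8541 : sm gh N834 = N1000 := rfl
theorem L8543 : sm ga N1000 = N941 := ded_15_1 (flp_h L8000) (flp_a L7110) L8541
theorem L8545 : sm gc N1000 = N1000 := ded_28_1 (flp_h L8541) L7112 L8541
theorem L8546 : sm ge N1000 = N1000 := ded_37_1 (flp_h L8541) L7116 L8541
theorem L8547 : sm gf N1000 = N835 := ded_40_1 (flp_h L7117) L7108 L8541
theorem L8549 : sm gg N837 = N1001 := rfl
theorem L8551 : sm ga N1001 = N838 := ded_14_1 (flp_g L7144) (flp_a L7137) L8549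
theorem L8553 : sm gb N1001 = N943 := ded_21_1 (flp_g L8013) (flp_b L7139) L8549
theorem L8555 : sm gc N1001 = N1001 := ded_27_1 (flp_g L8549) L7141 L8549
theorem L8556 : sm gd N1001 = N1001 := ded_32_1 (flp_g L8549) L7142 L8549
theorem L8557 : sm gh N1001 = N925 := ded_42_2 (flp_g L8481) L8477 L8549
theorem L8559 : sm gi N1001 = N1001 := ded_43_2 (flp_g L8549) L7143 L8549
theorem L8560 : sm gf N1001 = N840 := ded_39_1 (flp_g L7166) (flp_f L5823) (flp_g L5578) L7135 L8549
theorem L8562 : sm gc N841 = N1002 := rfl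
theorem L8564 : sm ga N1002 = N1002 := ded_10_1 (flp_c L8562) L7180 L8562
theorem L8565 : sm gf N1002 = N1002 := ded_26_2 (flp_c L8562) L7182 L8562
theorem L8566 : sm gg N1002 = N1002 := ded_27_2 (flp_c L8562) L7183 L8562
theorem L8567 : sm gh N1002 = N843 := ded_28_2 (flp_c L7196) (flp_h L7185) L8562
theorem L8569 : sm gi N1002 = N1002 := ded_29_2 (flp_c L8562) L7184 L8562
theorem L8570 : sm gd N1002 = N1002 := ded_24_2 (flp_c L8562) (flp_d L7178) L5847 L7178 L8562
theorem L8571 : sm ge N841 = N1003 := rfl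
theorem L8573 : sm ga N1003 = N1003 := ded_12_1 (flp_e L8571) L7180 L8571
theorem L8574 : sm gb N1003 = N1003 := ded_19_1 (flp_e L8571) L7181 L8571
theorem L8575 : sm gg N1003 = N1003 := ded_36_2 (flp_e L8571) L7183 L8571
theorem L8576 : sm gh N1003 = N844 := ded_37_2 (flp_e L7203) (flp_h L7185) L8571
theorem L8578 : sm gi N1003 = N1003 := ded_38_2 (flp_e L8571) L7184 L8571
theorem L8579 : sm gd N1003 = N1003 := ded_30_1 (flp_e L8571) (flp_d L7178) L5848 L7178 L8571
theorem L8580 : sm gc N842 = N1004 := rfl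
theorem L8582 : sm ga N1004 = N1004 := ded_10_1 (flp_c L8580) L7189 L8580
theorem L8583 : sm gf N1004 = N1004 := ded_26_2 (flp_c L8580) L7191 L8580
theorem L8584 : sm gg N1004 = N1004 := ded_27_2 (flp_c L8580) L7192 L8580
theorem L8585 : sm gh N1004 = N1004 := ded_28_2 (flp_c L8580) L7195 L8580
theorem L8586 : sm gi N1004 = N843 := ded_29_2 (flp_c L7196) (flp_i L7193) L8580
theorem L8588 : sm gd N1004 = N861 := ded_24_2 (flp_c L7353) (flp_d L5967) (flp_c L5856) L7187 L8580
theorem L8590 : sm ge N842 = N1005 := rfl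
theorem L8592 : sm ga N1005 = N1005 := ded_12_1 (flp_e L8590) L7189 L8590
theorem L8593 : sm gb N1005 = N1005 := ded_19_1 (flp_e L8590) L7190 L8590
theorem L8594 : sm gg N1005 = N1005 := ded_36_2 (flp_e L8590) L7192 L8590
theorem L8595 : sm gh N1005 = N1005 := ded_37_2 (flp_e L8590) L7195 L8590
theorem L8596 : sm gi N1005 = N844 := ded_38_2 (flp_e L7203) (flp_i L7193) L8590
theorem L8598 : sm gd N1005 = N847 := ded_30_1 (flp_e L7230) (flp_d L5880) (flp_e L5858) L7187 L8590
theorem L8600 : sm gb N843 = N1006 := rfl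
theorem L8602 : sm gd N1006 = N863 := ded_18_2 (flp_b L7370) (flp_d L7201) L8600
theorem L8604 : sm gf N1006 = N1006 := ded_20_2 (flp_b L8600) L7199 L8600
theorem L8605 : sm gg N1006 = N1006 := ded_21_2 (flp_b L8600) L7200 L8600
theorem L8606 : sm gc N1006 = N1006 := ded_17_2 (flp_b L8600) (flp_c L7196) L5867 L7196 L8600
theorem L8607 : sm ge N843 = N1007 := rfl
theorem L8609 : sm ga N1007 = N1007 := ded_12_1 (flp_e L8607) L7198 L8607
theorem L8610 : sm gc N1007 = N844 := ded_25_1 (flp_e L7203) L7196 L8607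
theorem L8612 : sm gg N1007 = N1007 := ded_36_2 (flp_e L8607) L7200 L8607
theorem L8613 : sm gf N844 = N1008 := rfl
theorem L8615 : sm ga N1008 = N1008 := ded_13_1 (flp_f L8613) L7205 L8613
theorem L8616 : sm gb N1008 = N1008 := ded_20_1 (flp_f L8613) L7206 L8613
theorem L8617 : sm gd N1008 = N850 := ded_31_1 (flp_f L7253) (flp_d L7208) L8613
theorem L8619 : sm ge N1008 = N1008 := ded_35_1 (flp_f L8613) (flp_e L7203) L5868 L7203 L8613
theorem L8620 : sm gc N845 = N1009 := rfl
theorem L8622 : sm ga N1009 = N1009 := ded_10_1 (flp_c L8620) L7212 L8620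
theorem L8623 : sm gf N1009 = N851 := ded_26_2 (flp_c L7260) (flp_f L7214) L8620
theorem L8625 : sm gg N1009 = N1009 := ded_27_2 (flp_c L8620) L7216 L8620
theorem L8626 : sm gh N1009 = N846 := ded_28_2 (flp_c L7220) (flp_h L7218) L8620
theorem L8628 : sm gi N1009 = N1009 := ded_29_2 (flp_c L8620) L7217 L8620
theorem L8629 : sm gd N1009 = N1009 := ded_24_2 (flp_c L8620) (flp_d L7210) L5874 L7210 L8620
theorem L8630 : sm ge N845 = N1010 := rfl
theorem L8632 : sm ga N1010 = N1010 := ded_12_1 (flp_e L8630) L7212 L8630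
theorem L8633 : sm gb N1010 = N1010 := ded_19_1 (flp_e L8630) L7213 L8630
theorem L8634 : sm gg N1010 = N1010 := ded_36_2 (flp_e L8630) L7216 L8630
theorem L8635 : sm gh N1010 = N847 := ded_37_2 (flp_e L7230) (flp_h L7218) L8630
theorem L8637 : sm gi N1010 = N1010 := ded_38_2 (flp_e L8630) L7217 L8630
theorem L8638 : sm gd N1010 = N1010 := ded_30_1 (flp_e L8630) (flp_d L7210) L5875 L7210 L8630
theorem L8639 : sm gf N1010 = N900 := ded_35_2 L7688 L6212 (flp_e L5911) (flp_f L7214) L8630
theorem L8641 : sm gb N846 = N1011 := rfl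
theorem L8643 : sm gd N1011 = N866 := ded_18_2 (flp_b L7393) (flp_d L7228) L8641
theorem L8645 : sm gf N1011 = N852 := ded_20_2 (flp_b L7271) (flp_f L7223) L8641
theorem L8647 : sm gg N1011 = N1011 := ded_21_2 (flp_b L8641) L7225 L8641
theorem L8648 : sm gi N1011 = N848 := ded_23_2 (flp_b L7237) (flp_i L7226) L8641
theorem L8650 : sm gc N1011 = N1011 := ded_17_2 (flp_b L8641) (flp_c L7220) L5883 L7220 L8641
theorem L8651 : sm ge N846 = N1012 := rfl
theorem L8653 : sm ga N1012 = N1012 := ded_12_1 (flp_e L8651) L7222 L8651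
theorem L8654 : sm gc N1012 = N847 := ded_25_1 (flp_e L7230) L7220 L8651
theorem L8656 : sm gg N1012 = N1012 := ded_36_2 (flp_e L8651) L7225 L8651
theorem L8657 : sm gi N1012 = N849 := ded_38_2 (flp_e L7246) (flp_i L7226) L8651
theorem L8659 : sm gf N847 = N1013 := rfl
theorem L8661 : sm ga N1013 = N1013 := ded_13_1 (flp_f L8659) L7232 L8659
theorem L8662 : sm gb N1013 = N1013 := ded_20_1 (flp_f L8659) L7233 L8659
theorem L8663 : sm gh N1013 = N900 := ded_40_2 (flp_f L8639) L8635 L8659
theorem L8665 : sm gi N1013 = N850 := ded_41_2 (flp_f L7253) (flp_i L7235) L8659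
theorem L8667 : sm ge N1013 = N854 := ded_35_1 (flp_f L7291) (flp_e L5924) (flp_f L5884) L7230 L8659
theorem L8669 : sm gg N901 = N1013 := ded_42_3 L8663 (flp_g L7683) L7691
theorem L8671 : sm ga N848 = N1014 := rfl
theorem L8673 : sm gc N1014 = N1014 := ded_10_2 (flp_a L8671) L7245 L8671
theorem L8674 : sm gd N1014 = N869 := ded_11_2 (flp_a L7422) (flp_d L7239) L8671
theorem L8676 : sm gf N1014 = N855 := ded_13_2 (flp_a L7302) (flp_f L7241) L8671
theorem L8678 : sm gg N1014 = N1014 := ded_14_2 (flp_a L8671) L7243 L8671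
theorem L8679 : sm gh N1014 = N1014 := ded_15_2 (flp_a L8671) L7244 L8671
theorem L8680 : sm gb N1014 = N1014 := ded_9_2 (flp_a L8671) (flp_b L7237) L5891 L7237 L8671
theorem L8681 : sm ge N848 = N1015 := rfl
theorem L8683 : sm gb N1015 = N849 := ded_19_1 (flp_e L7246) L7237 L8681
theorem L8685 : sm gc N1015 = N1015 := ded_25_1 (flp_e L8681) L7245 L8681
theorem L8686 : sm gg N1015 = N1015 := ded_36_2 (flp_e L8681) L7243 L8681
theorem L8687 : sm gh N1015 = N1015 := ded_37_2 (flp_e L8681) L7244 L8681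
theorem L8688 : sm gd N849 = N1016 := rfl
theorem L8690 : sm ga N1016 = N1016 := ded_11_1 (flp_d L8688) L7248 L8688
theorem L8691 : sm gg N1016 = N1016 := ded_32_2 (flp_d L8688) L7251 L8688
theorem L8692 : sm ge N1016 = N871 := ded_30_2 (flp_d L7441) (flp_e L6018) (flp_d L5896) L7246 L8688
theorem L8694 : sm gf N849 = N1017 := rfl
theorem L8696 : sm ga N1017 = N1017 := ded_13_1 (flp_f L8694) L7248 L8694
theorem L8697 : sm gc N1017 = N850 := ded_26_1 (flp_f L7253) (flp_c L7249) L8694
theorem L8699 : sm gh N1017 = N1017 := ded_40_2 (flp_f L8694) L7252 L8694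
theorem L8700 : sm ge N1017 = N858 := ded_35_1 (flp_f L7327) (flp_e L5943) (flp_f L5892) L7246 L8694
theorem L8702 : sm gg N850 = N1018 := rfl
theorem L8704 : sm ga N1018 = N1018 := ded_14_1 (flp_g L8702) L7255 L8702
theorem L8705 : sm gb N1018 = N1018 := ded_21_1 (flp_g L8702) L7256 L8702
theorem L8706 : sm ge N1018 = N859 := ded_36_1 (flp_g L7333) (flp_e L7258) L8702
theorem L8708 : sm gh N1018 = N1018 := ded_42_2 (flp_g L8702) L7257 L8702
theorem L8709 : sm gi N1018 = N901 := ded_43_2 L8669 L8665 L8702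
theorem L8711 : sm gf N1018 = N1018 := ded_39_1 (flp_g L8702) (flp_f L7253) L5902 L7253 L8702
theorem L8712 : sm gb N851 = N1019 := rfl
theorem L8714 : sm gd N1019 = N1019 := ded_18_2 (flp_b L8712) L7270 L8712
theorem L8715 : sm ge N1019 = N971 := ded_19_2 L8245 (flp_e L7263) L8712
theorem L8717 : sm gg N1019 = N946 := ded_21_2 (flp_b L8036) (flp_g L7265) L8712
theorem L8719 : sm gh N1019 = N852 := ded_22_2 (flp_b L7271) (flp_h L7267) L8712
theorem L8721 : sm gi N1019 = N1019 := ded_23_2 (flp_b L8712) L7269 L8712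
theorem L8722 : sm gc N1019 = N1019 := ded_17_2 (flp_b L8712) (flp_c L7260) L5907 L7260 L8712
theorem L8723 : sm ga N852 = N1020 := rfl
theorem L8725 : sm gc N1020 = N1020 := ded_10_2 (flp_a L8723) L7279 L8723
theorem L8726 : sm gd N1020 = N874 := ded_11_2 (flp_a L7464) (flp_d L7273) L8723
theorem L8728 : sm gg N1020 = N947 := ded_14_2 (flp_a L8046) (flp_g L7275) L8723
theorem L8730 : sm gi N1020 = N855 := ded_16_2 (flp_a L7302) (flp_i L7277) L8723
theorem L8732 : sm gb N1020 = N1020 := ded_9_2 (flp_a L8723) (flp_b L7271) L5917 L7271 L8723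
theorem L8733 : sm ge N852 = N1021 := rfl
theorem L8735 : sm gb N1021 = N853 := ded_19_1 (flp_e L7280) L7271 L8733
theorem L8737 : sm gc N1021 = N1021 := ded_25_1 (flp_e L8733) L7279 L8733
theorem L8738 : sm gg N1021 = N948 := ded_36_2 (flp_e L8055) (flp_g L7275) L8733
theorem L8740 : sm gh N1021 = N971 := ded_37_2 (flp_e L8715) L8719 L8733
theorem L8742 : sm gi N1021 = N856 := ded_38_2 (flp_e L7311) (flp_i L7277) L8733
theorem L8744 : sm gd N853 = N1022 := rfl
theorem L8746 : sm ga N1022 = N1022 := ded_11_1 (flp_d L8744) L7282 L8744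
theorem L8747 : sm gg N1022 = N949 := ded_32_2 (flp_d L8066) (flp_g L7285) L8744
theorem L8749 : sm gi N1022 = N857 := ded_34_2 (flp_d L7319) (flp_i L7289) L8744
theorem L8751 : sm gc N1022 = N1022 := ded_24_1 (flp_d L8744) L7283 L5934 (flp_c L7283) L8744
theorem L8752 : sm ge N1022 = N876 := ded_30_2 (flp_d L7485) (flp_e L6044) (flp_d L5922) L7280 L8744
theorem L8754 : sm gh N1022 = N967 := ded_33_2 L8216 L6637 (flp_d L6683) (flp_h L7287) L8744
theorem L8756 : sm gf N853 = N1023 := rfl
theorem L8758 : sm ga N1023 = N1023 := ded_13_1 (flp_f L8756) L7282 L8756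
theorem L8759 : sm gc N1023 = N854 := ded_26_1 (flp_f L7291) (flp_c L7283) L8756
theorem L8761 : sm gh N1023 = N897 := ded_40_2 L7665 (flp_h L7287) L8756
theorem L8763 : sm gi N1023 = N858 := ded_41_2 (flp_f L7327) (flp_i L7289) L8756
theorem L8765 : sm gg N1023 = N898 := ded_39_2 L7672 L6188 L6523 (flp_g L7285) L8756
theorem L8767 : sm ge N855 = N1024 := rfl
theorem L8769 : sm ga N1024 = N856 := ded_12_1 (flp_e L7311) L7302 L8767
theorem L8771 : sm gb N1024 = N1024 := ded_19_1 (flp_e L8767) L7310 L8767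
theorem L8772 : sm gc N1024 = N1024 := ded_25_1 (flp_e L8767) L7304 L8767
theorem L8773 : sm gg N1024 = N950 := ded_36_2 (flp_e L8078) (flp_g L7307) L8767
theorem L8775 : sm gh N1024 = N1024 := ded_37_2 (flp_e L8767) L7309 L8767
theorem L8776 : sm gd N856 = N1025 := rfl
theorem L8778 : sm gb N1025 = N857 := ded_18_1 (flp_d L7319) (flp_b L7313) L8776
theorem L8780 : sm gg N1025 = N951 := ded_32_2 (flp_d L8085) (flp_g L7316) L8776
theorem L8782 : sm ge N1025 = N880 := ded_30_2 (flp_d L7523) (flp_e L6072) (flp_d L5937) L7311 L8776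
theorem L8784 : sm gf N856 = N1026 := rfl
theorem L8786 : sm gb N1026 = N858 := ded_20_1 (flp_f L7327) (flp_b L7313) L8784
theorem L8788 : sm gc N1026 = N1026 := ded_26_1 (flp_f L8784) L7315 L8784
theorem L8789 : sm gh N1026 = N1026 := ded_40_2 (flp_f L8784) L7318 L8784
theorem L8790 : sm gf N857 = N1027 := rfl
theorem L8792 : sm ga N1027 = N1027 := ded_13_1 (flp_f L8790) L7321 L8790
theorem L8793 : sm gc N1027 = N1027 := ded_26_1 (flp_f L8790) L7324 L8790
theorem L8794 : sm gd N1027 = N858 := ded_31_1 (flp_f L7327) L7319 L8790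
theorem L8796 : sm gh N857 = N1028 := rfl
theorem L8798 : sm ga N1028 = N1028 := ded_15_1 (flp_h L8796) L7321 L8796
theorem L8799 : sm gc N1028 = N1028 := ded_28_1 (flp_h L8796) L7324 L8796
theorem L8800 : sm ge N1028 = N883 := ded_37_1 (flp_h L7543) (flp_e L7325) L8796
theorem L8802 : sm gg N1028 = N954 := ded_42_1 (flp_h L8108) (flp_g L7322) L8796
theorem L8804 : sm gd N1028 = N1028 := ded_33_1 (flp_h L8796) (flp_d L7319) L5950 L7319 L8796
theorem L8805 : sm gg N858 = N1029 := rfl
theorem L8807 : sm ga N1029 = N1029 := ded_14_1 (flp_g L8805) L7329 L8805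
theorem L8808 : sm gc N1029 = N859 := ded_27_1 (flp_g L7333) (flp_c L7330) L8805
theorem L8810 : sm gh N1029 = N1029 := ded_42_2 (flp_g L8805) L7332 L8805
theorem L8811 : sm gi N1029 = N898 := ded_43_2 (flp_g L8765) L8763 L8805
theorem L8813 : sm gf N1029 = N899 := ded_39_1 L7680 (flp_f L6545) (flp_g L5948) L7327 L8805
theorem L8815 : sm gc N860 = N1030 := rfl
theorem L8817 : sm ga N1030 = N1030 := ded_10_1 (flp_c L8815) L7345 L8815
theorem L8818 : sm gf N1030 = N1030 := ded_26_2 (flp_c L8815) L7348 L8815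
theorem L8819 : sm gg N1030 = N1030 := ded_27_2 (flp_c L8815) L7349 L8815
theorem L8820 : sm gh N1030 = N861 := ded_28_2 (flp_c L7353) (flp_h L7351) L8815
theorem L8822 : sm gi N1030 = N1030 := ded_29_2 (flp_c L8815) L7350 L8815
theorem L8823 : sm gb N1030 = N944 := ded_17_1 (flp_c L8021) (flp_b L7157) L7162 (flp_b L7346) L8815
theorem L8825 : sm gd N1030 = N1030 := ded_24_2 (flp_c L8815) (flp_d L7343) L5962 L7343 L8815
theorem L8826 : sm ge N860 = N1031 := rfl
theorem L8828 : sm ga N1031 = N1031 := ded_12_1 (flp_e L8826) L7345 L8826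
theorem L8829 : sm gb N1031 = N902 := ded_19_1 (flp_e L7698) (flp_b L7346) L8826
theorem L8831 : sm gg N1031 = N1031 := ded_36_2 (flp_e L8826) L7349 L8826
theorem L8832 : sm gh N1031 = N862 := ded_37_2 (flp_e L7360) (flp_h L7351) L8826
theorem L8834 : sm gi N1031 = N1031 := ded_38_2 (flp_e L8826) L7350 L8826
theorem L8835 : sm gd N1031 = N1031 := ded_30_1 (flp_e L8826) (flp_d L7343) L5963 L7343 L8826
theorem L8836 : sm gb N861 = N1032 := rfl
theorem L8838 : sm gf N1032 = N1032 := ded_20_2 (flp_b L8836) L7356 L8836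
theorem L8839 : sm gg N1032 = N1032 := ded_21_2 (flp_b L8836) L7357 L8836
theorem L8840 : sm gh N1032 = N944 := ded_22_2 (flp_b L8823) L8820 L8836
theorem L8842 : sm gi N1032 = N863 := ded_23_2 (flp_b L7370) (flp_i L7358) L8836
theorem L8844 : sm gc N1032 = N903 := ded_17_2 (flp_b L7705) (flp_c L6246) (flp_b L5970) L7353 L8836
theorem L8846 : sm ga N945 = N1032 := ded_15_3 L8840 L8023 L8029
theorem L8848 : sm ge N861 = N1033 := rfl
theorem L8850 : sm ga N1033 = N1033 := ded_12_1 (flp_e L8848) L7355 L8848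
theorem L8851 : sm gc N1033 = N862 := ded_25_1 (flp_e L7360) L7353 L8848
theorem L8853 : sm gg N1033 = N1033 := ded_36_2 (flp_e L8848) L7357 L8848
theorem L8854 : sm gi N1033 = N864 := ded_38_2 (flp_e L7377) (flp_i L7358) L8848
theorem L8856 : sm gf N862 = N1034 := rfl
theorem L8858 : sm ga N1034 = N1034 := ded_13_1 (flp_f L8856) L7362 L8856
theorem L8859 : sm gb N1034 = N905 := ded_20_1 (flp_f L7723) (flp_b L7363) L8856
theorem L8861 : sm gd N1034 = N868 := ded_31_1 (flp_f L7412) (flp_d L7368) L8856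
theorem L8863 : sm gi N1034 = N865 := ded_41_2 (flp_f L7384) (flp_i L7366) L8856
theorem L8865 : sm ge N1034 = N1034 := ded_35_1 (flp_f L8856) (flp_e L7360) L5972 L7360 L8856
theorem L8866 : sm ga N863 = N1035 := rfl
theorem L8868 : sm gc N1035 = N906 := ded_10_2 (flp_a L7730) (flp_c L7375) L8866
theorem L8870 : sm gf N1035 = N1035 := ded_13_2 (flp_a L8866) L7372 L8866
theorem L8871 : sm gg N1035 = N1035 := ded_14_2 (flp_a L8866) L7373 L8866
theorem L8872 : sm gh N1035 = N1035 := ded_15_2 (flp_a L8866) L7374 L8866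
theorem L8873 : sm gi N1035 = N945 := ded_16_2 L8846 L8842 L8866
theorem L8875 : sm gb N1035 = N1035 := ded_9_2 (flp_a L8866) (flp_b L7370) L5978 L7370 L8866
theorem L8876 : sm ge N863 = N1036 := rfl
theorem L8878 : sm gb N1036 = N864 := ded_19_1 (flp_e L7377) L7370 L8876
theorem L8880 : sm gc N1036 = N907 := ded_25_1 (flp_e L7740) (flp_c L7375) L8876
theorem L8882 : sm gg N1036 = N1036 := ded_36_2 (flp_e L8876) L7373 L8876
theorem L8883 : sm gh N1036 = N1036 := ded_37_2 (flp_e L8876) L7374 L8876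
theorem L8884 : sm gd N864 = N1037 := rfl
theorem L8886 : sm ga N1037 = N1037 := ded_11_1 (flp_d L8884) L7379 L8884
theorem L8887 : sm gg N1037 = N1037 := ded_32_2 (flp_d L8884) L7382 L8884
theorem L8888 : sm gc N1037 = N871 := ded_24_1 (flp_d L7441) L6021 (flp_d L5989) (flp_c L7380) L8884
theorem L8890 : sm gf N864 = N1038 := rfl
theorem L8892 : sm ga N1038 = N1038 := ded_13_1 (flp_f L8890) L7379 L8890
theorem L8893 : sm gc N1038 = N865 := ded_26_1 (flp_f L7384) (flp_c L7380) L8890
theorem L8895 : sm gh N1038 = N1038 := ded_40_2 (flp_f L8890) L7383 L8890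
theorem L8896 : sm ge N1038 = N1038 := ded_35_1 (flp_f L8890) (flp_e L7377) L5979 L7377 L8890
theorem L8897 : sm gg N865 = N1039 := rfl
theorem L8899 : sm ga N1039 = N1039 := ded_14_1 (flp_g L8897) L7386 L8897
theorem L8900 : sm gb N1039 = N910 := ded_21_1 (flp_g L7758) (flp_b L7387) L8897
theorem L8902 : sm gd N1039 = N873 := ded_32_1 (flp_g L7454) (flp_d L7389) L8897
theorem L8904 : sm ge N1039 = N1039 := ded_36_1 (flp_g L8897) L7392 L8897
theorem L8905 : sm gh N1039 = N1039 := ded_42_2 (flp_g L8897) L7391 L8897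
theorem L8906 : sm gf N1039 = N1039 := ded_39_1 (flp_g L8897) (flp_f L7384) L5987 L7384 L8897
theorem L8907 : sm ga N866 = N1040 := rfl
theorem L8909 : sm gc N1040 = N911 := ded_10_2 (flp_a L7765) (flp_c L7401) L8907
theorem L8911 : sm gf N1040 = N874 := ded_13_2 (flp_a L7464) (flp_f L7395) L8907
theorem L8913 : sm gg N1040 = N1040 := ded_14_2 (flp_a L8907) L7397 L8907
theorem L8914 : sm gh N1040 = N1040 := ded_15_2 (flp_a L8907) L7398 L8907
theorem L8915 : sm gi N1040 = N869 := ded_16_2 (flp_a L7422) (flp_i L7399) L8907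
theorem L8917 : sm gb N1040 = N1040 := ded_9_2 (flp_a L8907) (flp_b L7393) L5993 L7393 L8907
theorem L8918 : sm ge N866 = N1041 := rfl
theorem L8920 : sm gb N1041 = N867 := ded_19_1 (flp_e L7403) L7393 L8918
theorem L8922 : sm gc N1041 = N912 := ded_25_1 (flp_e L7774) (flp_c L7401) L8918
theorem L8924 : sm gg N1041 = N1041 := ded_36_2 (flp_e L8918) L7397 L8918
theorem L8925 : sm gh N1041 = N1041 := ded_37_2 (flp_e L8918) L7398 L8918
theorem L8926 : sm gi N1041 = N870 := ded_38_2 (flp_e L7432) (flp_i L7399) L8918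
theorem L8928 : sm gd N867 = N1042 := rfl
theorem L8930 : sm ga N1042 = N1042 := ded_11_1 (flp_d L8928) L7405 L8928
theorem L8931 : sm gg N1042 = N1042 := ded_32_2 (flp_d L8928) L7408 L8928
theorem L8932 : sm gi N1042 = N871 := ded_34_2 (flp_d L7441) (flp_i L7410) L8928
theorem L8934 : sm gf N867 = N1043 := rfl
theorem L8936 : sm ga N1043 = N1043 := ded_13_1 (flp_f L8934) L7405 L8934
theorem L8937 : sm gc N1043 = N868 := ded_26_1 (flp_f L7412) (flp_c L7406) L8934
theorem L8939 : sm gh N1043 = N1043 := ded_40_2 (flp_f L8934) L7409 L8934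
theorem L8940 : sm gi N1043 = N872 := ded_41_2 (flp_f L7445) (flp_i L7410) L8934
theorem L8942 : sm ge N1043 = N877 := ded_35_1 (flp_f L7493) (flp_e L6044) (flp_f L5994) L7403 L8934
theorem L8944 : sm gg N868 = N1044 := rfl
theorem L8946 : sm ga N1044 = N1044 := ded_14_1 (flp_g L8944) L7414 L8944
theorem L8947 : sm gb N1044 = N915 := ded_21_1 (flp_g L7797) (flp_b L7415) L8944
theorem L8949 : sm ge N1044 = N878 := ded_36_1 (flp_g L7501) (flp_e L7420) L8944
theorem L8951 : sm gh N1044 = N1044 := ded_42_2 (flp_g L8944) L7417 L8944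
theorem L8952 : sm gi N1044 = N873 := ded_43_2 (flp_g L7454) (flp_i L7418) L8944
theorem L8954 : sm gf N1044 = N1044 := ded_39_1 (flp_g L8944) (flp_f L7412) L6005 L7412 L8944
theorem L8955 : sm ge N869 = N1045 := rfl
theorem L8957 : sm ga N1045 = N870 := ded_12_1 (flp_e L7432) L7422 L8955
theorem L8959 : sm gb N1045 = N1045 := ded_19_1 (flp_e L8955) L7431 L8955
theorem L8960 : sm gc N1045 = N916 := ded_25_1 (flp_e L7805) (flp_c L7424) L8955
theorem L8962 : sm gg N1045 = N1045 := ded_36_2 (flp_e L8955) L7428 L8955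
theorem L8963 : sm gh N1045 = N885 := ded_37_2 (flp_e L7560) (flp_h L7429) L8955
theorem L8965 : sm gd N870 = N1046 := rfl
theorem L8967 : sm gb N1046 = N871 := ded_18_1 (flp_d L7441) (flp_b L7434) L8965
theorem L8969 : sm gg N1046 = N1046 := ded_32_2 (flp_d L8965) L7438 L8965
theorem L8970 : sm gf N870 = N1047 := rfl
theorem L8972 : sm gb N1047 = N872 := ded_20_1 (flp_f L7445) (flp_b L7434) L8970
theorem L8974 : sm gc N1047 = N918 := ded_26_1 (flp_f L7818) (flp_c L7436) L8970
theorem L8976 : sm gh N1047 = N887 := ded_40_2 (flp_f L7576) (flp_h L7439) L8970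
theorem L8978 : sm ge N1047 = N881 := ded_35_1 (flp_f L7529) (flp_e L6072) (flp_f L6011) L7432 L8970
theorem L8980 : sm gf N871 = N1048 := rfl
theorem L8982 : sm ga N1048 = N1048 := ded_13_1 (flp_f L8980) L7443 L8980
theorem L8983 : sm gd N1048 = N872 := ded_31_1 (flp_f L7445) L7441 L8980
theorem L8985 : sm gh N871 = N1049 := rfl
theorem L8987 : sm ga N1049 = N1049 := ded_15_1 (flp_h L8985) L7443 L8985
theorem L8988 : sm gg N1049 = N1049 := ded_42_1 (flp_h L8985) L7444 L8985
theorem L8989 : sm gd N1049 = N889 := ded_33_1 (flp_h L7592) (flp_d L6123) (flp_h L6024) L7441 L8985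
theorem L8991 : sm gg N872 = N1050 := rfl
theorem L8993 : sm ga N1050 = N1050 := ded_14_1 (flp_g L8991) L7447 L8991
theorem L8994 : sm gc N1050 = N873 := ded_27_1 (flp_g L7454) (flp_c L7448) L8991
theorem L8996 : sm ge N1050 = N884 := ded_36_1 (flp_g L7551) (flp_e L7452) L8991
theorem L8998 : sm gh N1050 = N890 := ded_42_2 (flp_g L7598) (flp_h L7450) L8991
theorem L9000 : sm gf N1050 = N1050 := ded_39_1 (flp_g L8991) (flp_f L7445) L6023 L7445 L8991
theorem L9001 : sm ge N874 = N1051 := rfl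
theorem L9003 : sm ga N1051 = N875 := ded_12_1 (flp_e L7474) L7464 L9001
theorem L9005 : sm gb N1051 = N1051 := ded_19_1 (flp_e L9001) L7473 L9001
theorem L9006 : sm gc N1051 = N922 := ded_25_1 (flp_e L7845) (flp_c L7466) L9001
theorem L9008 : sm gg N1051 = N955 := ded_36_2 (flp_e L8115) (flp_g L7468) L9001
theorem L9010 : sm gh N1051 = N1051 := ded_37_2 (flp_e L9001) L7470 L9001
theorem L9011 : sm gi N1051 = N879 := ded_38_2 (flp_e L7512) (flp_i L7471) L9001
theorem L9013 : sm gd N875 = N1052 := rfl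
theorem L9015 : sm gb N1052 = N876 := ded_18_1 (flp_d L7485) (flp_b L7476) L9013
theorem L9017 : sm gg N1052 = N956 := ded_32_2 (flp_d L8127) (flp_g L7480) L9013
theorem L9019 : sm gi N1052 = N880 := ded_34_2 (flp_d L7523) (flp_i L7483) L9013
theorem L9021 : sm gf N875 = N1053 := rfl
theorem L9023 : sm gb N1053 = N877 := ded_20_1 (flp_f L7493) (flp_b L7476) L9021
theorem L9025 : sm gc N1053 = N924 := ded_26_1 (flp_f L7871) (flp_c L7478) L9021
theorem L9027 : sm gh N1053 = N1053 := ded_40_2 (flp_f L9021) L7482 L9021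
theorem L9028 : sm gi N1053 = N881 := ded_41_2 (flp_f L7529) (flp_i L7483) L9021
theorem L9030 : sm gf N876 = N1054 := rfl
theorem L9032 : sm ga N1054 = N1054 := ded_13_1 (flp_f L9030) L7487 L9030
theorem L9033 : sm gc N1054 = N1054 := ded_26_1 (flp_f L9030) L7492 L9030
theorem L9034 : sm gd N1054 = N877 := ded_31_1 (flp_f L7493) L7485 L9030
theorem L9036 : sm gi N1054 = N882 := ded_41_2 (flp_f L7537) (flp_i L7490) L9030
theorem L9038 : sm gh N876 = N1055 := rfl
theorem L9040 : sm ga N1055 = N1055 := ded_15_1 (flp_h L9038) L7487 L9038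
theorem L9041 : sm gc N1055 = N1055 := ded_28_1 (flp_h L9038) L7492 L9038
theorem L9042 : sm ge N1055 = N967 := ded_37_1 (flp_h L8754) L8752 L9038
theorem L9044 : sm gg N1055 = N959 := ded_42_1 (flp_h L8153) (flp_g L7488) L9038
theorem L9046 : sm gd N1055 = N1055 := ded_33_1 (flp_h L9038) (flp_d L7485) L6051 L7485 L9038
theorem L9047 : sm gg N877 = N1056 := rfl
theorem L9049 : sm ga N1056 = N1056 := ded_14_1 (flp_g L9047) L7495 L9047
theorem L9050 : sm gc N1056 = N878 := ded_27_1 (flp_g L7501) (flp_c L7496) L9047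
theorem L9052 : sm gh N1056 = N1056 := ded_42_2 (flp_g L9047) L7498 L9047
theorem L9053 : sm gi N1056 = N884 := ded_43_2 (flp_g L7551) (flp_i L7499) L9047
theorem L9055 : sm gf N1056 = N960 := ded_39_1 (flp_g L8160) (flp_f L6578) (flp_g L6049) L7493 L9047
theorem L9057 : sm gd N879 = N1057 := rfl
theorem L9059 : sm ga N1057 = N880 := ded_11_1 (flp_d L7523) (flp_a L7514) L9057
theorem L9061 : sm gb N1057 = N1057 := ded_18_1 (flp_d L9057) L7516 L9057
theorem L9062 : sm gg N1057 = N961 := ded_32_2 (flp_d L8169) (flp_g L7519) L9057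
theorem L9064 : sm gf N879 = N1058 := rfl
theorem L9066 : sm ga N1058 = N881 := ded_13_1 (flp_f L7529) (flp_a L7514) L9064
theorem L9068 : sm gb N1058 = N1058 := ded_20_1 (flp_f L9064) L7516 L9064
theorem L9069 : sm gc N1058 = N928 := ded_26_1 (flp_f L7906) (flp_c L7517) L9064
theorem L9071 : sm gh N1058 = N892 := ded_40_2 (flp_f L7617) (flp_h L7521) L9064
theorem L9073 : sm gc N880 = N1059 := rfl
theorem L9075 : sm gg N1059 = N963 := ded_27_2 (flp_c L8186) (flp_g L7527) L9073
theorem L9077 : sm gb N1059 = N1059 := ded_17_1 (flp_c L9073) L7525 L6087 (flp_b L7525) L9073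
theorem L9078 : sm gd N1059 = N929 := ded_24_2 (flp_c L7912) (flp_d L6384) (flp_c L6076) L7523 L9073
theorem L9080 : sm gf N880 = N1060 := rfl
theorem L9082 : sm gb N1060 = N882 := ded_20_1 (flp_f L7537) (flp_b L7525) L9080
theorem L9084 : sm gd N1060 = N881 := ded_31_1 (flp_f L7529) L7523 L9080
theorem L9086 : sm gh N880 = N1061 := rfl
theorem L9088 : sm gb N1061 = N883 := ded_22_1 (flp_h L7543) (flp_b L7525) L9086
theorem L9090 : sm gg N1061 = N965 := ded_42_1 (flp_h L8197) (flp_g L7527) L9086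
theorem L9092 : sm gd N1061 = N894 := ded_33_1 (flp_h L7633) (flp_d L6158) (flp_h L6080) L7523 L9086
theorem L9094 : sm gg N881 = N1062 := rfl
theorem L9096 : sm gb N1062 = N884 := ded_21_1 (flp_g L7551) (flp_b L7531) L9094
theorem L9098 : sm gc N1062 = N931 := ded_27_1 (flp_g L7926) (flp_c L7533) L9094
theorem L9100 : sm gh N1062 = N895 := ded_42_2 (flp_g L7641) (flp_h L7535) L9094
theorem L9102 : sm gf N1062 = N966 := ded_39_1 (flp_g L8203) (flp_f L6610) (flp_g L6078) L7529 L9094
theorem L9104 : sm ge N882 = N1063 := rfl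
theorem L9106 : sm ga N1063 = N1063 := ded_12_1 (flp_e L9104) L7539 L9104
theorem L9107 : sm gc N1063 = N1063 := ded_25_1 (flp_e L9104) L7540 L9104
theorem L9108 : sm gg N882 = N1064 := rfl
theorem L9110 : sm ga N1064 = N1064 := ded_14_1 (flp_g L9108) L7539 L9108
theorem L9111 : sm gc N1064 = N1064 := ded_27_1 (flp_g L9108) L7540 L9108
theorem L9112 : sm gd N1064 = N884 := ded_32_1 (flp_g L7551) (flp_d L7541) L9108
theorem L9114 : sm gf N1064 = N967 := ded_39_1 (flp_g L8212) (flp_f L6619) (flp_g L6085) L7537 L9108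
theorem L9116 : sm gh N882 = N1065 := rfl
theorem L9118 : sm ga N1065 = N1065 := ded_15_1 (flp_h L9116) L7539 L9116
theorem L9119 : sm gc N1065 = N1065 := ded_28_1 (flp_h L9116) L7540 L9116
theorem L9120 : sm gf N1065 = N883 := ded_40_1 (flp_h L7543) L7537 L9116
theorem L9122 : sm gd N1065 = N898 := ded_33_1 (flp_h L7667) L6179 (flp_h L6093) (flp_d L7541) L9116
theorem L9124 : sm gi N883 = N1066 := rfl
theorem L9126 : sm ga N1066 = N1066 := ded_16_1 (flp_i L9124) L7545 L9124
theorem L9127 : sm gc N1066 = N1066 := ded_29_1 (flp_i L9124) L7546 L9124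
theorem L9128 : sm gd N1066 = N899 := ded_34_1 (flp_i L7674) (flp_d L7549) L9124
theorem L9130 : sm gg N1066 = N953 := ded_43_1 L8106 (flp_g L7547) L9124
theorem L9132 : sm gd N885 = N1067 := rfl
theorem L9134 : sm ga N1067 = N886 := ded_11_1 (flp_d L7569) (flp_a L7562) L9132
theorem L9136 : sm gb N1067 = N1067 := ded_18_1 (flp_d L9132) L7564 L9132
theorem L9137 : sm gg N1067 = N1067 := ded_32_2 (flp_d L9132) L7567 L9132
theorem L9138 : sm gi N1067 = N1067 := ded_34_2 (flp_d L9132) L7568 L9132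
theorem L9139 : sm ge N1067 = N1067 := ded_30_2 (flp_d L9132) (flp_e L7560) L6109 L7560 L9132
theorem L9140 : sm gf N885 = N1068 := rfl
theorem L9142 : sm ga N1068 = N887 := ded_13_1 (flp_f L7576) (flp_a L7562) L9140
theorem L9144 : sm gb N1068 = N1068 := ded_20_1 (flp_f L9140) L7564 L9140
theorem L9145 : sm gc N1068 = N935 := ded_26_1 (flp_f L7955) (flp_c L7565) L9140
theorem L9147 : sm gi N1068 = N1068 := ded_41_2 (flp_f L9140) L7568 L9140
theorem L9148 : sm ge N1068 = N892 := ded_35_1 (flp_f L7617) (flp_e L6148) (flp_f L6110) L7560 L9140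
theorem L9150 : sm gc N886 = N1069 := rfl
theorem L9152 : sm ge N1069 = N1069 := ded_25_2 (flp_c L9150) L7575 L9150
theorem L9153 : sm gg N1069 = N1069 := ded_27_2 (flp_c L9150) L7573 L9150
theorem L9154 : sm gi N1069 = N1069 := ded_29_2 (flp_c L9150) L7574 L9150
theorem L9155 : sm gb N1069 = N1069 := ded_17_1 (flp_c L9150) L7571 L6128 (flp_b L7571) L9150
theorem L9156 : sm gd N1069 = N936 := ded_24_2 (flp_c L7962) (flp_d L6418) (flp_c L6119) L7569 L9150
theorem L9158 : sm gf N886 = N1070 := rfl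
theorem L9160 : sm gb N1070 = N888 := ded_20_1 (flp_f L7585) (flp_b L7571) L9158
theorem L9162 : sm gd N1070 = N887 := ded_31_1 (flp_f L7576) L7569 L9158
theorem L9164 : sm gi N1070 = N1070 := ded_41_2 (flp_f L9158) L7574 L9158
theorem L9165 : sm gh N886 = N1071 := rfl
theorem L9167 : sm gb N1071 = N889 := ded_22_1 (flp_h L7592) (flp_b L7571) L9165
theorem L9169 : sm ge N1071 = N1071 := ded_37_1 (flp_h L9165) L7575 L9165
theorem L9170 : sm gg N1071 = N1071 := ded_42_1 (flp_h L9165) L7573 L9165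
theorem L9171 : sm gg N887 = N1072 := rfl
theorem L9173 : sm gb N1072 = N890 := ded_21_1 (flp_g L7598) (flp_b L7578) L9171
theorem L9175 : sm gc N1072 = N939 := ded_27_1 (flp_g L7984) (flp_c L7580) L9171
theorem L9177 : sm ge N1072 = N895 := ded_36_1 (flp_g L7641) (flp_e L7583) L9171
theorem L9179 : sm gi N1072 = N1072 := ded_43_2 (flp_g L9171) L7582 L9171
theorem L9180 : sm gf N1072 = N1072 := ded_39_1 (flp_g L9171) (flp_f L7576) L6121 L7576 L9171
theorem L9181 : sm ge N888 = N1073 := rfl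
theorem L9183 : sm ga N1073 = N1073 := ded_12_1 (flp_e L9181) L7587 L9181
theorem L9184 : sm gc N1073 = N1073 := ded_25_1 (flp_e L9181) L7588 L9181
theorem L9185 : sm gi N1073 = N1073 := ded_38_2 (flp_e L9181) L7591 L9181
theorem L9186 : sm gd N1073 = N896 := ded_30_1 (flp_e L7650) L6179 (flp_e L6136) (flp_d L7589) L9181
theorem L9188 : sm gf N1073 = N1073 := ded_35_2 (flp_e L9181) (flp_f L7585) L6129 L7585 L9181
theorem L9189 : sm gg N888 = N1074 := rfl
theorem L9191 : sm ga N1074 = N1074 := ded_14_1 (flp_g L9189) L7587 L9189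
theorem L9192 : sm gc N1074 = N1074 := ded_27_1 (flp_g L9189) L7588 L9189
theorem L9193 : sm gd N1074 = N890 := ded_32_1 (flp_g L7598) (flp_d L7589) L9189
theorem L9195 : sm gi N1074 = N1074 := ded_43_2 (flp_g L9189) L7591 L9189
theorem L9196 : sm gf N1074 = N1074 := ded_39_1 (flp_g L9189) (flp_f L7585) L6126 L7585 L9189
theorem L9197 : sm gh N888 = N1075 := rfl
theorem L9199 : sm ga N1075 = N1075 := ded_15_1 (flp_h L9197) L7587 L9197
theorem L9200 : sm gc N1075 = N1075 := ded_28_1 (flp_h L9197) L7588 L9197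
theorem L9201 : sm gf N1075 = N889 := ded_40_1 (flp_h L7592) L7585 L9197
theorem L9203 : sm gi N889 = N1076 := rfl
theorem L9205 : sm ga N1076 = N1076 := ded_16_1 (flp_i L9203) L7594 L9203
theorem L9206 : sm gc N1076 = N1076 := ded_29_1 (flp_i L9203) L7595 L9203
theorem L9207 : sm ge N1076 = N1076 := ded_38_1 (flp_i L9203) L7596 L9203
theorem L9208 : sm gg N1076 = N1076 := ded_43_1 (flp_i L9203) L7597 L9203
theorem L9209 : sm gh N1076 = N1076 := ded_44_1 (flp_i L9203) (flp_h L7592) L6127 L7592 L9203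
theorem L9210 : sm gf N891 = N1077 := rfl
theorem L9212 : sm ga N1077 = N893 := ded_13_1 (flp_f L7625) (flp_a L7609) L9210
theorem L9214 : sm gb N1077 = N1077 := ded_20_1 (flp_f L9210) L7611 L9210
theorem L9215 : sm gc N1077 = N1077 := ded_26_1 (flp_f L9210) L7615 L9210
theorem L9216 : sm gd N1077 = N892 := ded_31_1 (flp_f L7617) L7607 L9210
theorem L9218 : sm gi N1077 = N1077 := ded_41_2 (flp_f L9210) L7614 L9210
theorem L9219 : sm gh N891 = N1078 := rfl
theorem L9221 : sm ga N1078 = N894 := ded_15_1 (flp_h L7633) (flp_a L7609) L9219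
theorem L9223 : sm gb N1078 = N1078 := ded_22_1 (flp_h L9219) L7611 L9219
theorem L9224 : sm gc N1078 = N1078 := ded_28_1 (flp_h L9219) L7615 L9219
theorem L9225 : sm ge N1078 = N1078 := ded_37_1 (flp_h L9219) L7616 L9219
theorem L9226 : sm gg N1078 = N969 := ded_42_1 (flp_h L8227) (flp_g L7612) L9219
theorem L9228 : sm gg N892 = N1079 := rfl
theorem L9230 : sm ga N1079 = N895 := ded_14_1 (flp_g L7641) (flp_a L7619) L9228
theorem L9232 : sm gb N1079 = N1079 := ded_21_1 (flp_g L9228) L7621 L9228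
theorem L9233 : sm gc N1079 = N943 := ded_27_1 (flp_g L8013) (flp_c L7622) L9228
theorem L9235 : sm gi N1079 = N1079 := ded_43_2 (flp_g L9228) L7624 L9228
theorem L9236 : sm gf N1079 = N970 := ded_39_1 (flp_g L8234) (flp_f L6647) (flp_g L6155) L7617 L9228
theorem L9238 : sm ge N893 = N1080 := rfl
theorem L9240 : sm gb N1080 = N896 := ded_19_1 (flp_e L7650) (flp_b L7627) L9238
theorem L9242 : sm gc N1080 = N1080 := ded_25_1 (flp_e L9238) L7629 L9238
theorem L9243 : sm gi N1080 = N1080 := ded_38_2 (flp_e L9238) L7632 L9238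
theorem L9244 : sm gf N1080 = N1080 := ded_35_2 (flp_e L9238) (flp_f L7625) L6166 L7625 L9238
theorem L9245 : sm gg N893 = N1081 := rfl
theorem L9247 : sm gb N1081 = N897 := ded_21_1 (flp_g L7657) (flp_b L7627) L9245
theorem L9249 : sm gc N1081 = N1081 := ded_27_1 (flp_g L9245) L7629 L9245
theorem L9250 : sm gd N1081 = N895 := ded_32_1 (flp_g L7641) (flp_d L7630) L9245
theorem L9252 : sm gi N1081 = N1081 := ded_43_2 (flp_g L9245) L7632 L9245
theorem L9253 : sm gf N1081 = N971 := ded_39_1 (flp_g L8243) (flp_f L6656) (flp_g L6162) L7625 L9245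
theorem L9255 : sm gh N893 = N1082 := rfl
theorem L9257 : sm gb N1082 = N898 := ded_22_1 (flp_h L7667) (flp_b L7627) L9255
theorem L9259 : sm gc N1082 = N1082 := ded_28_1 (flp_h L9255) L7629 L9255
theorem L9260 : sm gf N1082 = N894 := ded_40_1 (flp_h L7633) L7625 L9255
theorem L9262 : sm gi N894 = N1083 := rfl
theorem L9264 : sm gb N1083 = N899 := ded_23_1 (flp_i L7674) (flp_b L7635) L9262
theorem L9266 : sm gc N1083 = N1083 := ded_29_1 (flp_i L9262) L7637 L9262
theorem L9267 : sm ge N1083 = N1083 := ded_38_1 (flp_i L9262) L7638 L9262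
theorem L9268 : sm gg N1083 = N952 := ded_43_1 L8097 (flp_g L7639) L9262
theorem L9270 : sm gh N1083 = N1083 := ded_44_1 (flp_i L9262) (flp_h L7633) L6164 L7633 L9262
theorem L9271 : sm gg N896 = N1084 := rfl
theorem L9273 : sm ga N1084 = N1084 := ded_14_1 (flp_g L9271) L7652 L9271
theorem L9274 : sm gc N1084 = N900 := ded_27_1 (flp_g L7683) (flp_c L7653) L9271
theorem L9276 : sm ge N1084 = N897 := ded_36_1 (flp_g L7657) L7650 L9271
theorem L9278 : sm gi N1084 = N1084 := ded_43_2 (flp_g L9271) L7655 L9271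
theorem L9279 : sm gh N896 = N1085 := rfl
theorem L9281 : sm ga N1085 = N1085 := ded_15_1 (flp_h L9279) L7652 L9279
theorem L9282 : sm gc N1085 = N901 := ded_28_1 (flp_h L7691) (flp_c L7653) L9279
theorem L9284 : sm ge N1085 = N898 := ded_37_1 (flp_h L7667) L7650 L9279
theorem L9286 : sm gf N1085 = N1085 := ded_40_1 (flp_h L9279) L7656 L9279
theorem L9287 : sm gd N901 = N1086 := rfl
theorem L9289 : sm ga N1086 = N1086 := ded_11_1 (flp_d L9287) L7693 L9287
theorem L9290 : sm gb N1086 = N1086 := ded_18_1 (flp_d L9287) L7694 L9287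
theorem L9291 : sm gf N1086 = N1086 := ded_31_2 (flp_d L9287) L7697 L9287
theorem L9292 : sm ge N1086 = N1086 := ded_30_2 (flp_d L9287) L7695 L6220 (flp_e L7695) L9287
theorem L9293 : sm gh N1086 = N1086 := ded_33_2 (flp_d L9287) (flp_h L7691) L6203 L7691 L9287
theorem L9294 : sm gf N902 = N1087 := rfl
theorem L9296 : sm gd N1087 = N1087 := ded_31_1 (flp_f L9294) L7704 L9294
theorem L9297 : sm gh N1087 = N905 := ded_40_2 (flp_f L7723) (flp_h L7701) L9294
theorem L9299 : sm gi N1087 = N1087 := ded_41_2 (flp_f L9294) L7703 L9294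
theorem L9300 : sm ge N1087 = N1087 := ded_35_1 (flp_f L9294) (flp_e L7698) L6241 L7698 L9294
theorem L9301 : sm ge N903 = N1088 := rfl
theorem L9303 : sm ga N1088 = N938 := ded_12_1 L7981 (flp_a L7714) L9301
theorem L9305 : sm gb N1088 = N904 := ded_19_1 (flp_e L7716) L7705 L9301
theorem L9307 : sm gg N1088 = N1088 := ded_36_2 (flp_e L9301) L7709 L9301
theorem L9308 : sm gh N1088 = N934 := ded_37_2 L7953 (flp_h L7710) L9301
theorem L9310 : sm gi N1088 = N907 := ded_38_2 (flp_e L7740) (flp_i L7712) L9301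
theorem L9312 : sm gd N904 = N1089 := rfl
theorem L9314 : sm gg N1089 = N1089 := ded_32_2 (flp_d L9312) L7720 L9312
theorem L9315 : sm gi N1089 = N908 := ded_34_2 (flp_d L7746) (flp_i L7721) L9312
theorem L9317 : sm gc N1089 = N913 := ded_24_1 (flp_d L7782) L6289 (flp_d L6258) (flp_c L7718) L9312
theorem L9319 : sm ge N1089 = N1089 := ded_30_2 (flp_d L9312) (flp_e L7716) L6252 L7716 L9312
theorem L9320 : sm gf N904 = N1090 := rfl
theorem L9322 : sm gc N1090 = N905 := ded_26_1 (flp_f L7723) (flp_c L7718) L9320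
theorem L9324 : sm gi N1090 = N909 := ded_41_2 (flp_f L7752) (flp_i L7721) L9320
theorem L9326 : sm ge N1090 = N1090 := ded_35_1 (flp_f L9320) (flp_e L7716) L6248 L7716 L9320
theorem L9327 : sm gg N905 = N1091 := rfl
theorem L9329 : sm gd N1091 = N915 := ded_32_1 (flp_g L7797) (flp_d L7725) L9327
theorem L9331 : sm ge N1091 = N1091 := ded_36_1 (flp_g L9327) L7729 L9327
theorem L9332 : sm gi N1091 = N910 := ded_43_2 (flp_g L7758) (flp_i L7727) L9327
theorem L9334 : sm gf N1091 = N1091 := ded_39_1 (flp_g L9327) (flp_f L7723) L6255 L7723 L9327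
theorem L9335 : sm ge N906 = N1092 := rfl
theorem L9337 : sm ga N1092 = N907 := ded_12_1 (flp_e L7740) L7730 L9335
theorem L9339 : sm gb N1092 = N942 := ded_19_1 L8009 (flp_b L7738) L9335
theorem L9341 : sm gg N1092 = N1092 := ded_36_2 (flp_e L9335) L7734 L9335
theorem L9342 : sm gh N1092 = N1092 := ded_37_2 (flp_e L9335) L7735 L9335
theorem L9343 : sm gi N1092 = N938 := ded_38_2 L7981 (flp_i L7736) L9335
theorem L9345 : sm gd N907 = N1093 := rfl
theorem L9347 : sm gb N1093 = N908 := ded_18_1 (flp_d L7746) (flp_b L7742) L9345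
theorem L9349 : sm gg N1093 = N1093 := ded_32_2 (flp_d L9345) L7744 L9345
theorem L9350 : sm ge N1093 = N1093 := ded_30_2 (flp_d L9345) (flp_e L7740) L6262 L7740 L9345
theorem L9351 : sm gf N907 = N1094 := rfl
theorem L9353 : sm gb N1094 = N909 := ded_20_1 (flp_f L7752) (flp_b L7742) L9351
theorem L9355 : sm gh N1094 = N1094 := ded_40_2 (flp_f L9351) L7745 L9351
theorem L9356 : sm ge N1094 = N1094 := ded_35_1 (flp_f L9351) (flp_e L7740) L6263 L7740 L9351
theorem L9357 : sm gf N908 = N1095 := rfl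
theorem L9359 : sm gc N1095 = N919 := ded_26_1 (flp_f L7826) (flp_c L7749) L9357
theorem L9361 : sm gd N1095 = N909 := ded_31_1 (flp_f L7752) L7746 L9357
theorem L9363 : sm gh N908 = N1096 := rfl
theorem L9365 : sm gc N1096 = N920 := ded_28_1 (flp_h L7830) (flp_c L7749) L9363
theorem L9367 : sm ge N1096 = N1096 := ded_37_1 (flp_h L9363) L7751 L9363
theorem L9368 : sm gg N1096 = N1096 := ded_42_1 (flp_h L9363) L7748 L9363
theorem L9369 : sm gd N1096 = N1096 := ded_33_1 (flp_h L9363) (flp_d L7746) L6271 L7746 L9363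
theorem L9370 : sm gg N909 = N1097 := rfl
theorem L9372 : sm gc N1097 = N910 := ded_27_1 (flp_g L7758) (flp_c L7754) L9370
theorem L9374 : sm ge N1097 = N1097 := ded_36_1 (flp_g L9370) L7757 L9370
theorem L9375 : sm gh N1097 = N1097 := ded_42_2 (flp_g L9370) L7756 L9370
theorem L9376 : sm gf N1097 = N1097 := ded_39_1 (flp_g L9370) (flp_f L7752) L6270 L7752 L9370
theorem L9377 : sm ge N911 = N1098 := rfl
theorem L9379 : sm ga N1098 = N912 := ded_12_1 (flp_e L7774) L7765 L9377
theorem L9381 : sm gg N1098 = N1098 := ded_36_2 (flp_e L9377) L7770 L9377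
theorem L9382 : sm gh N1098 = N1098 := ded_37_2 (flp_e L9377) L7771 L9377
theorem L9383 : sm gi N1098 = N916 := ded_38_2 (flp_e L7805) (flp_i L7772) L9377
theorem L9385 : sm gd N912 = N1099 := rfl
theorem L9387 : sm gb N1099 = N913 := ded_18_1 (flp_d L7782) (flp_b L7776) L9385
theorem L9389 : sm gg N1099 = N1099 := ded_32_2 (flp_d L9385) L7778 L9385
theorem L9390 : sm gi N1099 = N917 := ded_34_2 (flp_d L7812) (flp_i L7780) L9385
theorem L9392 : sm ge N1099 = N1099 := ded_30_2 (flp_d L9385) (flp_e L7774) L6280 L7774 L9385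
theorem L9393 : sm gf N912 = N1100 := rfl
theorem L9395 : sm gb N1100 = N914 := ded_20_1 (flp_f L7788) (flp_b L7776) L9393
theorem L9397 : sm gh N1100 = N1100 := ded_40_2 (flp_f L9393) L7779 L9393
theorem L9398 : sm gi N1100 = N918 := ded_41_2 (flp_f L7818) (flp_i L7780) L9393
theorem L9400 : sm ge N1100 = N924 := ded_35_1 (flp_f L7871) (flp_e L6344) (flp_f L6281) L7774 L9393
theorem L9402 : sm gf N913 = N1101 := rfl
theorem L9404 : sm gd N1101 = N914 := ded_31_1 (flp_f L7788) L7782 L9402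
theorem L9406 : sm gi N1101 = N919 := ded_41_2 (flp_f L7826) (flp_i L7785) L9402
theorem L9408 : sm gh N913 = N1102 := rfl
theorem L9410 : sm ge N1102 = N1102 := ded_37_1 (flp_h L9408) L7787 L9408
theorem L9411 : sm gg N1102 = N1102 := ded_42_1 (flp_h L9408) L7784 L9408
theorem L9412 : sm gd N1102 = N1102 := ded_33_1 (flp_h L9408) (flp_d L7782) L6292 L7782 L9408
theorem L9413 : sm gg N914 = N1103 := rfl
theorem L9415 : sm gc N1103 = N915 := ded_27_1 (flp_g L7797) (flp_c L7790) L9413
theorem L9417 : sm ge N1103 = N926 := ded_36_1 (flp_g L7885) (flp_e L7795) L9413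
theorem L9419 : sm gh N1103 = N1103 := ded_42_2 (flp_g L9413) L7792 L9413
theorem L9420 : sm gi N1103 = N921 := ded_43_2 (flp_g L7836) (flp_i L7793) L9413
theorem L9422 : sm gf N1103 = N1103 := ded_39_1 (flp_g L9413) (flp_f L7788) L6291 L7788 L9413
theorem L9423 : sm gd N916 = N1104 := rfl
theorem L9425 : sm ga N1104 = N917 := ded_11_1 (flp_d L7812) (flp_a L7807) L9423
theorem L9427 : sm gg N1104 = N1104 := ded_32_2 (flp_d L9423) L7809 L9423
theorem L9428 : sm ge N1104 = N1104 := ded_30_2 (flp_d L9423) (flp_e L7805) L6304 L7805 L9423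
theorem L9429 : sm gf N916 = N1105 := rfl
theorem L9431 : sm ga N1105 = N918 := ded_13_1 (flp_f L7818) (flp_a L7807) L9429
theorem L9433 : sm gh N1105 = N935 := ded_40_2 (flp_f L7955) (flp_h L7810) L9429
theorem L9435 : sm ge N1105 = N928 := ded_35_1 (flp_f L7906) (flp_e L6376) (flp_f L6305) L7805 L9429
theorem L9437 : sm gc N917 = N1106 := rfl
theorem L9439 : sm ge N1106 = N1106 := ded_25_2 (flp_c L9437) L7817 L9437
theorem L9440 : sm gg N1106 = N1106 := ded_27_2 (flp_c L9437) L7816 L9437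
theorem L9441 : sm gf N917 = N1107 := rfl
theorem L9443 : sm gb N1107 = N919 := ded_20_1 (flp_f L7826) (flp_b L7814) L9441
theorem L9445 : sm gd N1107 = N918 := ded_31_1 (flp_f L7818) L7812 L9441
theorem L9447 : sm gh N917 = N1108 := rfl
theorem L9449 : sm gb N1108 = N920 := ded_22_1 (flp_h L7830) (flp_b L7814) L9447
theorem L9451 : sm ge N1108 = N1108 := ded_37_1 (flp_h L9447) L7817 L9447
theorem L9452 : sm gg N1108 = N1108 := ded_42_1 (flp_h L9447) L7816 L9447
theorem L9453 : sm gd N1108 = N938 := ded_33_1 (flp_h L7977) (flp_d L6418) (flp_h L6315) L7812 L9447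
theorem L9455 : sm gg N918 = N1109 := rfl
theorem L9457 : sm gb N1109 = N921 := ded_21_1 (flp_g L7836) (flp_b L7820) L9455
theorem L9459 : sm ge N1109 = N931 := ded_36_1 (flp_g L7926) (flp_e L7824) L9455
theorem L9461 : sm gh N1109 = N939 := ded_42_2 (flp_g L7984) (flp_h L7822) L9455
theorem L9463 : sm gf N1109 = N1109 := ded_39_1 (flp_g L9455) (flp_f L7818) L6314 L7818 L9455
theorem L9464 : sm ge N919 = N1110 := rfl
theorem L9466 : sm gd N1110 = N932 := ded_30_1 (flp_e L7934) L6401 (flp_e L6327) (flp_d L7828) L9464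
theorem L9468 : sm gf N1110 = N1110 := ded_35_2 (flp_e L9464) (flp_f L7826) L6320 L7826 L9464
theorem L9469 : sm gg N919 = N1111 := rfl
theorem L9471 : sm gd N1111 = N921 := ded_32_1 (flp_g L7836) (flp_d L7828) L9469
theorem L9473 : sm gf N1111 = N1111 := ded_39_1 (flp_g L9469) (flp_f L7826) L6319 L7826 L9469
theorem L9474 : sm gh N919 = N1112 := rfl
theorem L9476 : sm gf N1112 = N920 := ded_40_1 (flp_h L7830) L7826 L9474
theorem L9478 : sm gd N1112 = N941 := ded_33_1 (flp_h L8000) L6436 (flp_h L6325) (flp_d L7828) L9474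
theorem L9480 : sm gi N920 = N1113 := rfl
theorem L9482 : sm gd N1113 = N942 := ded_34_1 (flp_i L8006) (flp_d L7834) L9480
theorem L9484 : sm ge N1113 = N1113 := ded_38_1 (flp_i L9480) L7832 L9480
theorem L9485 : sm gg N1113 = N1113 := ded_43_1 (flp_i L9480) L7833 L9480
theorem L9486 : sm gf N922 = N1114 := rfl
theorem L9488 : sm ga N1114 = N924 := ded_13_1 (flp_f L7871) (flp_a L7847) L9486
theorem L9490 : sm gb N1114 = N933 := ded_20_1 L7945 (flp_b L7849) L9486
theorem L9492 : sm gd N1114 = N931 := ded_31_1 L7932 L7856 L9486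
theorem L9494 : sm gh N1114 = N1114 := ded_40_2 (flp_f L9486) L7853 L9486
theorem L9495 : sm gi N1114 = N928 := ded_41_2 (flp_f L7906) (flp_i L7854) L9486
theorem L9497 : sm gg N1114 = N930 := ded_39_2 (flp_f L7919) L6388 L6697 (flp_g L7851) L9486
theorem L9499 : sm gc N923 = N1115 := rfl
theorem L9501 : sm ga N1115 = N966 := ded_10_1 L8207 (flp_a L7860) L9499
theorem L9503 : sm ge N1115 = N1115 := ded_25_2 (flp_c L9499) L7868 L9499
theorem L9504 : sm gg N1115 = N962 := ded_27_2 L8179 (flp_g L7864) L9499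
theorem L9506 : sm gh N1115 = N970 := ded_28_2 L8239 L7869 L9499
theorem L9508 : sm gi N1115 = N929 := ded_29_2 (flp_c L7912) (flp_i L7866) L9499
theorem L9510 : sm gb N1115 = N1115 := ded_17_1 (flp_c L9499) L7862 L6359 (flp_b L7862) L9499
theorem L9511 : sm gf N923 = N1116 := rfl
theorem L9513 : sm ga N1116 = N931 := ded_13_1 L7932 (flp_a L7860) L9511
theorem L9515 : sm gb N1116 = N925 := ded_20_1 (flp_f L7878) (flp_b L7862) L9511
theorem L9517 : sm gd N1116 = N924 := ded_31_1 (flp_f L7871) L7858 L9511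
theorem L9519 : sm gh N1116 = N943 := ded_40_2 L8019 L7869 L9511
theorem L9521 : sm gi N1116 = N930 := ded_41_2 (flp_f L7919) (flp_i L7866) L9511
theorem L9523 : sm gg N1116 = N928 := ded_39_2 (flp_f L7906) L6380 L6708 (flp_g L7864) L9511
theorem L9525 : sm gg N924 = N1117 := rfl
theorem L9527 : sm ga N1117 = N930 := ded_14_1 (flp_g L9497) L9488 L9525
theorem L9529 : sm gb N1117 = N926 := ded_21_1 (flp_g L7885) (flp_b L7873) L9525
theorem L9531 : sm gd N1117 = N928 := ded_32_1 (flp_g L9523) L9517 L9525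
theorem L9533 : sm gh N1117 = N1117 := ded_42_2 (flp_g L9525) L7875 L9525
theorem L9534 : sm gi N1117 = N931 := ded_43_2 (flp_g L7926) (flp_i L7876) L9525
theorem L9536 : sm gf N1117 = N927 := ded_39_1 L7900 (flp_f L6712) (flp_g L6348) L7871 L9525
theorem L9538 : sm ge N925 = N1118 := rfl
theorem L9540 : sm gc N1118 = N1118 := ded_25_1 (flp_e L9538) L7880 L9538
theorem L9541 : sm gi N1118 = N932 := ded_38_2 (flp_e L7934) (flp_i L7883) L9538
theorem L9543 : sm gf N1118 = N1118 := ded_35_2 (flp_e L9538) (flp_f L7878) L6360 L7878 L9538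
theorem L9544 : sm gc N927 = N1119 := rfl
theorem L9546 : sm ga N1119 = N929 := ded_10_1 (flp_c L7912) (flp_a L7896) L9544
theorem L9548 : sm ge N1119 = N1119 := ded_25_2 (flp_c L9544) L7904 L9544
theorem L9549 : sm gg N1119 = N957 := ded_27_2 L8139 (flp_g L7900) L9544
theorem L9551 : sm gh N1119 = N1119 := ded_28_2 (flp_c L9544) L7905 L9544
theorem L9552 : sm gi N1119 = N966 := ded_29_2 L8207 (flp_i L7902) L9544
theorem L9554 : sm gb N1119 = N960 := ded_17_1 L8163 L6590 (flp_c L6726) (flp_b L7898) L9544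
theorem L9556 : sm gf N929 = N1120 := rfl
theorem L9558 : sm gb N1120 = N1120 := ded_20_1 (flp_f L9556) L7918 L9556
theorem L9559 : sm gc N1120 = N930 := ded_26_1 (flp_f L7919) L7912 L9556
theorem L9561 : sm gh N1120 = N1120 := ded_40_2 (flp_f L9556) L7917 L9556
theorem L9562 : sm ge N930 = N1121 := rfl
theorem L9564 : sm gb N1121 = N932 := ded_19_1 (flp_e L7934) (flp_b L7921) L9562
theorem L9566 : sm gh N1121 = N1121 := ded_37_2 (flp_e L9562) L7925 L9562
theorem L9567 : sm gf N1121 = N1121 := ded_35_2 (flp_e L9562) (flp_f L7919) L6390 L7919 L9562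
theorem L9568 : sm gg N932 = N1122 := rfl
theorem L9570 : sm gc N1122 = N1122 := ded_27_1 (flp_g L9568) L7936 L9568
theorem L9571 : sm ge N1122 = N933 := ded_36_1 (flp_g L7939) L7934 L9568
theorem L9573 : sm gh N1122 = N1122 := ded_42_2 (flp_g L9568) L7937 L9568
theorem L9574 : sm gc N934 = N1123 := rfl
theorem L9576 : sm ga N1123 = N936 := ded_10_1 (flp_c L7962) (flp_a L7949) L9574
theorem L9578 : sm ge N1123 = N944 := ded_25_2 (flp_c L8021) (flp_e L7953) L9574
theorem L9580 : sm gg N1123 = N1123 := ded_27_2 (flp_c L9574) L7951 L9574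
theorem L9581 : sm gi N1123 = N1123 := ded_29_2 (flp_c L9574) L7952 L9574
theorem L9582 : sm gf N934 = N1124 := rfl
theorem L9584 : sm ga N1124 = N937 := ded_13_1 (flp_f L7969) (flp_a L7949) L9582
theorem L9586 : sm gd N1124 = N935 := ded_31_1 (flp_f L7955) L7947 L9582
theorem L9588 : sm gi N1124 = N1124 := ded_41_2 (flp_f L9582) L7952 L9582
theorem L9589 : sm ge N1124 = N1124 := ded_35_1 (flp_f L9582) L7953 L6472 (flp_e L7953) L9582
theorem L9590 : sm gg N935 = N1125 := rfl
theorem L9592 : sm ga N1125 = N939 := ded_14_1 (flp_g L7984) (flp_a L7957) L9590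
theorem L9594 : sm ge N1125 = N943 := ded_36_1 (flp_g L8013) (flp_e L7960) L9590
theorem L9596 : sm gi N1125 = N1125 := ded_43_2 (flp_g L9590) L7959 L9590
theorem L9597 : sm gf N1125 = N1125 := ded_39_1 (flp_g L9590) (flp_f L7955) L6416 L7955 L9590
theorem L9598 : sm gf N936 = N1126 := rfl
theorem L9600 : sm gb N1126 = N1126 := ded_20_1 (flp_f L9598) L7968 L9598
theorem L9601 : sm gc N1126 = N937 := ded_26_1 (flp_f L7969) L7962 L9598
theorem L9603 : sm gi N1126 = N1126 := ded_41_2 (flp_f L9598) L7967 L9598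
theorem L9604 : sm ge N1126 = N1126 := ded_35_1 (flp_f L9598) L7964 L6477 (flp_e L7964) L9598
theorem L9605 : sm gh N936 = N1127 := rfl
theorem L9607 : sm gb N1127 = N1127 := ded_22_1 (flp_h L9605) L7968 L9605
theorem L9608 : sm gc N1127 = N938 := ded_28_1 (flp_h L7977) L7962 L9605
theorem L9610 : sm ge N1127 = N945 := ded_37_1 (flp_h L8029) (flp_e L7964) L9605
theorem L9612 : sm gg N1127 = N1127 := ded_42_1 (flp_h L9605) L7966 L9605
theorem L9613 : sm gg N937 = N1128 := rfl
theorem L9615 : sm gb N1128 = N940 := ded_21_1 (flp_g L7992) (flp_b L7971) L9613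
theorem L9617 : sm gd N1128 = N939 := ded_32_1 (flp_g L7984) (flp_d L7973) L9613
theorem L9619 : sm ge N1128 = N1128 := ded_36_1 (flp_g L9613) L7976 L9613
theorem L9620 : sm gi N1128 = N1128 := ded_43_2 (flp_g L9613) L7975 L9613
theorem L9621 : sm gf N1128 = N1128 := ded_39_1 (flp_g L9613) (flp_f L7969) L6422 L7969 L9613
theorem L9622 : sm gh N937 = N1129 := rfl
theorem L9624 : sm gb N1129 = N941 := ded_22_1 (flp_h L8000) (flp_b L7971) L9622
theorem L9626 : sm ge N1129 = N1129 := ded_37_1 (flp_h L9622) L7976 L9622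
theorem L9627 : sm gf N1129 = N938 := ded_40_1 (flp_h L7977) L7969 L9622
theorem L9629 : sm gh N940 = N1130 := rfl
theorem L9631 : sm gc N1130 = N1130 := ded_28_1 (flp_h L9629) L7994 L9629
theorem L9632 : sm ge N1130 = N1130 := ded_37_1 (flp_h L9629) L7997 L9629
theorem L9633 : sm gf N1130 = N1130 := ded_40_1 (flp_h L9629) L7999 L9629
theorem L9634 : sm gg N1130 = N941 := ded_42_1 (flp_h L8000) L7992 L9629
theorem L9636 : sm gi N941 = N1131 := rfl
theorem L9638 : sm gc N1131 = N1131 := ded_29_1 (flp_i L9636) L8002 L9636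
theorem L9639 : sm ge N1131 = N1131 := ded_38_1 (flp_i L9636) L8003 L9636
theorem L9640 : sm gf N1131 = N942 := ded_41_1 (flp_i L8006) (flp_f L8004) L9636
theorem L9642 : sm gh N1131 = N1131 := ded_44_1 (flp_i L9636) (flp_h L8000) L6438 L8000 L9636
theorem L9643 : sm gd N945 = N1132 := rfl
theorem L9645 : sm gb N1132 = N1132 := ded_18_1 (flp_d L9643) L8031 L9643
theorem L9646 : sm gf N1132 = N1132 := ded_31_2 (flp_d L9643) L8034 L9643
theorem L9647 : sm gg N1132 = N1132 := ded_32_2 (flp_d L9643) L8035 L9643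
theorem L9648 : sm gc N1132 = N1132 := ded_24_1 (flp_d L9643) L8032 L6488 (flp_c L8032) L9643
theorem L9649 : sm gh N1132 = N1132 := ded_33_2 (flp_d L9643) (flp_h L8029) L6481 L8029 L9643
theorem L9650 : sm ga N946 = N1133 := rfl
theorem L9652 : sm gc N1133 = N1133 := ded_10_2 (flp_a L9650) L8045 L9650
theorem L9653 : sm gd N1133 = N1133 := ded_11_2 (flp_a L9650) L8038 L9650
theorem L9654 : sm ge N1133 = N968 := ded_12_2 L8220 (flp_e L8039) L9650
theorem L9656 : sm gf N1133 = N1133 := ded_13_2 (flp_a L9650) L8041 L9650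
theorem L9657 : sm gh N1133 = N947 := ded_15_2 (flp_a L8046) (flp_h L8042) L9650
theorem L9659 : sm gi N1133 = N1133 := ded_16_2 (flp_a L9650) L8044 L9650
theorem L9660 : sm gb N1133 = N1133 := ded_9_2 (flp_a L9650) (flp_b L8036) L6498 L8036 L9650
theorem L9661 : sm ge N947 = N1134 := rfl
theorem L9663 : sm ga N1134 = N948 := ded_12_1 (flp_e L8055) L8046 L9661
theorem L9665 : sm gb N1134 = N1134 := ded_19_1 (flp_e L9661) L8054 L9661
theorem L9666 : sm gc N1134 = N1134 := ded_25_1 (flp_e L9661) L8048 L9661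
theorem L9667 : sm gh N1134 = N968 := ded_37_2 (flp_e L9654) L9657 L9661
theorem L9669 : sm gi N1134 = N950 := ded_38_2 (flp_e L8078) (flp_i L8052) L9661
theorem L9671 : sm gf N969 = N1134 := ded_46_1 (flp_e L9661) L8049 L6556 (flp_b L5632) (flp_a L5624) L4413 L4412 L5634 (flp_d L5642) L4463 L3495 L3493 L3206 (flp_f L2542) (flp_e L2013) (flp_d L1604) L1247 L968 (flp_a L1128) (flp_h L1126) L864 L862 L616 L413 (flp_b L562) L561 L567 L565 L389 L241 (flp_c L353) L352 L351 L357 L355 (flp_e L527) L526 L524 L387 L271 L203 (flp_f L297) L296 (flp_d L466) (flp_c L676) (flp_b L941) L940 L1223 L1229 L979 L1267 L1619 L1625 L1621 L1623 (flp_f L1982) L2496 L3153 (flp_c L4030) (flp_b L5142) (flp_a L6641) L8227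
theorem L9673 : sm gd N948 = N1135 := rfl
theorem L9675 : sm gb N1135 = N949 := ded_18_1 (flp_d L8066) (flp_b L8057) L9673
theorem L9677 : sm gf N1135 = N965 := ded_31_2 L8201 L8064 L9673
theorem L9679 : sm gi N1135 = N951 := ded_34_2 (flp_d L8085) (flp_i L8062) L9673
theorem L9681 : sm ge N1135 = N956 := ded_30_2 (flp_d L8127) (flp_e L6563) (flp_d L6508) L8055 L9673
theorem L9683 : sm gh N1135 = N964 := ded_33_2 L8195 L6616 (flp_d L6661) (flp_h L8060) L9673
theorem L9685 : sm gd N950 = N1136 := rfl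
theorem L9687 : sm ga N1136 = N951 := ded_11_1 (flp_d L8085) (flp_a L8080) L9685
theorem L9689 : sm gb N1136 = N1136 := ded_18_1 (flp_d L9685) L8082 L9685
theorem L9690 : sm ge N1136 = N961 := ded_30_2 (flp_d L8169) (flp_e L6597) (flp_d L6528) L8078 L9685
theorem L9692 : sm gf N950 = N1137 := rfl
theorem L9694 : sm ga N1137 = N952 := ded_13_1 (flp_f L8091) (flp_a L8080) L9692
theorem L9696 : sm gb N1137 = N1137 := ded_20_1 (flp_f L9692) L8082 L9692
theorem L9697 : sm gc N1137 = N1137 := ded_26_1 (flp_f L9692) L8083 L9692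
theorem L9698 : sm gh N1137 = N1137 := ded_40_2 (flp_f L9692) L8084 L9692
theorem L9699 : sm gi N1137 = N969 := ded_41_2 L9671 L9669 L9692
theorem L9701 : sm ge N1137 = N1137 := ded_35_1 (flp_f L9692) (flp_e L8078) L6530 L8078 L9692
theorem L9702 : sm gc N951 = N1138 := rfl
theorem L9704 : sm ge N1138 = N963 := ded_25_2 (flp_c L8186) (flp_e L8089) L9702
theorem L9706 : sm gb N1138 = N1138 := ded_17_1 (flp_c L9702) L8087 L6542 (flp_b L8087) L9702
theorem L9707 : sm gd N1138 = N1138 := ded_24_2 (flp_c L9702) (flp_d L8085) L6537 L8085 L9702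
theorem L9708 : sm gf N951 = N1139 := rfl
theorem L9710 : sm gb N1139 = N953 := ded_20_1 (flp_f L8100) (flp_b L8087) L9708
theorem L9712 : sm gd N1139 = N952 := ded_31_1 (flp_f L8091) L8085 L9708
theorem L9714 : sm gi N1139 = N965 := ded_41_2 (flp_f L9677) L9679 L9708
theorem L9716 : sm gh N951 = N1140 := rfl
theorem L9718 : sm gb N1140 = N954 := ded_22_1 (flp_h L8108) (flp_b L8087) L9716
theorem L9720 : sm ge N1140 = N965 := ded_37_1 (flp_h L8197) (flp_e L8089) L9716
theorem L9722 : sm gd N1140 = N1140 := ded_33_1 (flp_h L9716) (flp_d L8085) L6538 L8085 L9716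
theorem L9723 : sm ge N953 = N1141 := rfl
theorem L9725 : sm ga N1141 = N1141 := ded_12_1 (flp_e L9723) L8102 L9723
theorem L9726 : sm gc N1141 = N1141 := ded_25_1 (flp_e L9723) L8103 L9723
theorem L9727 : sm gi N1141 = N954 := ded_38_2 L8112 (flp_i L8106) L9723
theorem L9729 : sm gd N1141 = N1141 := ded_30_1 (flp_e L9723) L8104 L6553 (flp_d L8104) L9723
theorem L9730 : sm gf N1141 = N959 := ded_35_2 L8157 (flp_f L6619) (flp_e L6543) L8100 L9723
theorem L9732 : sm gh N958 = N1141 := ded_44_5 L9727 (flp_h L8108) (flp_i L8071) L8076 (flp_i L8151)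
theorem L9734 : sm gh N953 = N1142 := rfl
theorem L9736 : sm ga N1142 = N1142 := ded_15_1 (flp_h L9734) L8102 L9734
theorem L9737 : sm gc N1142 = N1142 := ded_28_1 (flp_h L9734) L8103 L9734
theorem L9738 : sm ge N1142 = N958 := ded_37_1 L9732 (flp_e L9723) L9734
theorem L9740 : sm gf N1142 = N954 := ded_40_1 (flp_h L8108) L8100 L9734
theorem L9742 : sm gd N1142 = N1142 := ded_33_1 (flp_h L9734) L8104 L6550 (flp_d L8104) L9734
theorem L9743 : sm gi N1142 = N959 := ded_44_2 (flp_h L8153) L6575 L6625 (flp_i L8106) L9734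
theorem L9745 : sm gd N955 = N1143 := rfl
theorem L9747 : sm ga N1143 = N956 := ded_11_1 (flp_d L8127) (flp_a L8117) L9745
theorem L9749 : sm gb N1143 = N1143 := ded_18_1 (flp_d L9745) L8119 L9745
theorem L9750 : sm gf N1143 = N963 := ded_31_2 L8189 L8125 L9745
theorem L9752 : sm gi N1143 = N961 := ded_34_2 (flp_d L8169) (flp_i L8123) L9745
theorem L9754 : sm gc N1143 = N964 := ded_24_1 L8195 L6614 (flp_d L6695) (flp_c L8120) L9745
theorem L9756 : sm gc N956 = N1144 := rfl
theorem L9758 : sm ga N1144 = N964 := ded_10_1 (flp_c L9754) L9747 L9756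
theorem L9760 : sm gi N1144 = N963 := ded_29_2 (flp_c L8186) (flp_i L8131) L9756
theorem L9762 : sm gb N1144 = N1144 := ded_17_1 (flp_c L9756) L8129 L6577 (flp_b L8129) L9756
theorem L9763 : sm gd N1144 = N962 := ded_24_2 L8179 (flp_d L6699) (flp_c L6567) L8127 L9756
theorem L9765 : sm gf N961 = N1144 := ded_13_0 L9758 (flp_f L8191) (flp_a L8171)
theorem L9767 : sm gf N956 = N1145 := rfl
theorem L9769 : sm ga N1145 = N963 := ded_13_1 (flp_f L9750) L9747 L9767
theorem L9771 : sm gb N1145 = N958 := ded_20_1 (flp_f L8145) (flp_b L8129) L9767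
theorem L9773 : sm gc N1145 = N961 := ded_26_1 L9765 (flp_c L9756) L9767
theorem L9775 : sm gd N1145 = N957 := ded_31_1 (flp_f L8133) L8127 L9767
theorem L9777 : sm gi N1145 = N964 := ded_41_2 (flp_f L8191) (flp_i L8131) L9767
theorem L9779 : sm gh N956 = N1146 := rfl
theorem L9781 : sm gb N1146 = N959 := ded_22_1 (flp_h L8153) (flp_b L8129) L9779
theorem L9783 : sm ge N1146 = N964 := ded_37_1 (flp_h L9683) L9681 L9779
theorem L9785 : sm gd N1146 = N1146 := ded_33_1 (flp_h L9779) (flp_d L8127) L6569 L8127 L9779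
theorem L9786 : sm gg N958 = N1147 := rfl
theorem L9788 : sm ga N1147 = N1147 := ded_14_1 (flp_g L9786) L8147 L9786
theorem L9789 : sm gc N1147 = N1147 := ded_27_1 (flp_g L9786) L8148 L9786
theorem L9790 : sm gd N1147 = N960 := ded_32_1 (flp_g L8160) (flp_d L8149) L9786
theorem L9792 : sm gi N1147 = N967 := ded_43_2 (flp_g L8212) (flp_i L8151) L9786
theorem L9794 : sm gh N961 = N1148 := rfl
theorem L9796 : sm ga N1148 = N965 := ded_15_1 (flp_h L8197) (flp_a L8171) L9794
theorem L9798 : sm gb N1148 = N1148 := ded_22_1 (flp_h L9794) L8173 L9794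
theorem L9799 : sm gd N1148 = N969 := ded_33_1 (flp_h L8227) (flp_d L6639) (flp_h L6604) L8169 L9794
theorem L9801 : sm gh N963 = N1149 := rfl
theorem L9803 : sm gb N1149 = N1149 := ded_22_1 (flp_h L9801) L8188 L9801
theorem L9804 : sm gc N1149 = N965 := ded_28_1 (flp_h L8197) L8186 L9801
theorem L9806 : sm gd N1149 = N1149 := ded_33_1 (flp_h L9801) L8189 L6735 (flp_d L8189) L9801
theorem L9807 : sm gg N964 = N1150 := rfl
theorem L9809 : sm gb N1150 = N967 := ded_21_1 (flp_g L8212) (flp_b L8193) L9807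
theorem L9811 : sm gd N1150 = N966 := ded_32_1 (flp_g L8203) (flp_d L8195) L9807
theorem L9813 : sm gg N968 = N1151 := rfl
theorem L9815 : sm ga N1151 = N971 := ded_14_1 (flp_g L8243) (flp_a L8220) L9813
theorem L9817 : sm gb N1151 = N1151 := ded_21_1 (flp_g L9813) L8222 L9813
theorem L9818 : sm gc N1151 = N1151 := ded_27_1 (flp_g L9813) L8223 L9813
theorem L9819 : sm gd N1151 = N970 := ded_32_1 (flp_g L8234) (flp_d L8224) L9813
theorem L9821 : sm gi N1151 = N1151 := ded_43_2 (flp_g L9813) L8226 L9813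
theorem L9822 : sm gf N972 = N1152 := rfl
theorem L9824 : sm ga N1152 = N1087 := ded_13_1 (flp_f L9294) (flp_a L8253) L9822
theorem L9826 : sm gb N1152 = N1152 := ded_20_1 (flp_f L9822) L8255 L9822
theorem L9827 : sm gc N1152 = N997 := ded_26_1 (flp_f L8514) (flp_c L8256) L9822
theorem L9829 : sm gd N1152 = N1152 := ded_31_1 (flp_f L9822) L8262 L9822
theorem L9830 : sm gh N1152 = N974 := ded_40_2 (flp_f L8276) (flp_h L8259) L9822
theorem L9832 : sm gi N1152 = N1152 := ded_41_2 (flp_f L9822) L8261 L9822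
theorem L9833 : sm ge N1152 = N1152 := ded_35_1 (flp_f L9822) (flp_e L8251) L6809 L8251 L9822
theorem L9834 : sm gd N973 = N1153 := rfl
theorem L9836 : sm ga N1153 = N1089 := ded_11_1 (flp_d L9312) (flp_a L8265) L9834
theorem L9838 : sm gb N1153 = N988 := ded_18_1 L8411 (flp_b L8267) L9834
theorem L9840 : sm gg N1153 = N1153 := ded_32_2 (flp_d L9834) L8271 L9834
theorem L9841 : sm gi N1153 = N976 := ded_34_2 (flp_d L8297) (flp_i L8274) L9834
theorem L9843 : sm gc N1153 = N981 := ded_24_1 (flp_d L8344) L6871 (flp_d L6831) (flp_c L8269) L9834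
theorem L9845 : sm ge N1153 = N1153 := ded_30_2 (flp_d L9834) (flp_e L8263) L6822 L8263 L9834
theorem L9846 : sm gh N1153 = N985 := ded_33_2 (flp_d L8384) L6904 L7092 (flp_h L8272) L9834
theorem L9848 : sm gf N973 = N1154 := rfl
theorem L9850 : sm ga N1154 = N1090 := ded_13_1 (flp_f L9320) (flp_a L8265) L9848
theorem L9852 : sm gb N1154 = N1000 := ded_20_1 L8547 (flp_b L8267) L9848
theorem L9854 : sm gc N1154 = N974 := ded_26_1 (flp_f L8276) (flp_c L8269) L9848
theorem L9856 : sm gh N1154 = N997 := ded_40_2 (flp_f L8514) (flp_h L8272) L9848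
theorem L9858 : sm gi N1154 = N977 := ded_41_2 (flp_f L8305) (flp_i L8274) L9848
theorem L9860 : sm ge N1154 = N1154 := ded_35_1 (flp_f L9848) (flp_e L8263) L6818 L8263 L9848
theorem L9861 : sm gg N974 = N1155 := rfl
theorem L9863 : sm ga N1155 = N1091 := ded_14_1 (flp_g L9327) (flp_a L8278) L9861
theorem L9865 : sm gb N1155 = N1155 := ded_21_1 (flp_g L9861) L8280 L9861
theorem L9866 : sm gd N1155 = N983 := ded_32_1 (flp_g L8363) (flp_d L8281) L9861
theorem L9868 : sm ge N1155 = N1155 := ded_36_1 (flp_g L9861) L8285 L9861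
theorem L9869 : sm gi N1155 = N978 := ded_43_2 (flp_g L8313) (flp_i L8283) L9861
theorem L9871 : sm gf N1155 = N1155 := ded_39_1 (flp_g L9861) (flp_f L8276) L6828 L8276 L9861
theorem L9872 : sm gd N975 = N1156 := rfl
theorem L9874 : sm ga N1156 = N1113 := ded_11_1 L9482 (flp_a L8288) L9872
theorem L9876 : sm gb N1156 = N976 := ded_18_1 (flp_d L8297) (flp_b L8290) L9872
theorem L9878 : sm gg N1156 = N1156 := ded_32_2 (flp_d L9872) L8293 L9872
theorem L9879 : sm gi N1156 = N988 := ded_34_2 L8411 (flp_i L8295) L9872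
theorem L9881 : sm ge N1156 = N1156 := ded_30_2 (flp_d L9872) (flp_e L8286) L6835 L8286 L9872
theorem L9882 : sm gf N975 = N1157 := rfl
theorem L9884 : sm ga N1157 = N1131 := ded_13_1 L9640 (flp_a L8288) L9882
theorem L9886 : sm gb N1157 = N977 := ded_20_1 (flp_f L8305) (flp_b L8290) L9882
theorem L9888 : sm gc N1157 = N1157 := ded_26_1 (flp_f L9882) L8292 L9882
theorem L9889 : sm gh N1157 = N1157 := ded_40_2 (flp_f L9882) L8294 L9882
theorem L9890 : sm gi N1157 = N1000 := ded_41_2 L8547 (flp_i L8295) L9882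
theorem L9892 : sm ge N1157 = N1157 := ded_35_1 (flp_f L9882) (flp_e L8286) L6836 L8286 L9882
theorem L9893 : sm gf N976 = N1158 := rfl
theorem L9895 : sm ga N1158 = N1095 := ded_13_1 (flp_f L9357) (flp_a L8299) L9893
theorem L9897 : sm gc N1158 = N987 := ded_26_1 (flp_f L8399) (flp_c L8302) L9893
theorem L9899 : sm gd N1158 = N977 := ded_31_1 (flp_f L8305) L8297 L9893
theorem L9901 : sm gh N976 = N1159 := rfl
theorem L9903 : sm ga N1159 = N1096 := ded_15_1 (flp_h L9363) (flp_a L8299) L9901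
theorem L9905 : sm gc N1159 = N988 := ded_28_1 (flp_h L8405) (flp_c L8302) L9901
theorem L9907 : sm ge N1159 = N1159 := ded_37_1 (flp_h L9901) L8304 L9901
theorem L9908 : sm gg N1159 = N1159 := ded_42_1 (flp_h L9901) L8301 L9901
theorem L9909 : sm gd N1159 = N1159 := ded_33_1 (flp_h L9901) (flp_d L8297) L6847 L8297 L9901
theorem L9910 : sm gg N977 = N1160 := rfl
theorem L9912 : sm ga N1160 = N1097 := ded_14_1 (flp_g L9370) (flp_a L8307) L9910
theorem L9914 : sm gc N1160 = N978 := ded_27_1 (flp_g L8313) (flp_c L8309) L9910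
theorem L9916 : sm ge N1160 = N1160 := ded_36_1 (flp_g L9910) L8312 L9910
theorem L9917 : sm gh N1160 = N1160 := ded_42_2 (flp_g L9910) L8311 L9910
theorem L9918 : sm gf N1160 = N1160 := ded_39_1 (flp_g L9910) (flp_f L8305) L6846 L8305 L9910
theorem L9919 : sm ge N979 = N1161 := rfl
theorem L9921 : sm ga N1161 = N980 := ded_12_1 (flp_e L8335) L8323 L9919
theorem L9923 : sm gb N1161 = N1098 := ded_19_1 (flp_e L9377) (flp_b L8333) L9919
theorem L9925 : sm gc N1161 = N1161 := ded_25_1 (flp_e L9919) L8325 L9919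
theorem L9926 : sm gg N1161 = N1161 := ded_36_2 (flp_e L9919) L8329 L9919
theorem L9927 : sm gh N1161 = N1161 := ded_37_2 (flp_e L9919) L8330 L9919
theorem L9928 : sm gi N1161 = N984 := ded_38_2 (flp_e L8374) (flp_i L8331) L9919
theorem L9930 : sm gf N1161 = N1122 := ded_35_2 L9571 L7945 L6943 (flp_f L8327) L9919
theorem L9932 : sm gd N980 = N1162 := rfl
theorem L9934 : sm gb N1162 = N981 := ded_18_1 (flp_d L8344) (flp_b L8337) L9932
theorem L9936 : sm gg N1162 = N1162 := ded_32_2 (flp_d L9932) L8340 L9932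
theorem L9937 : sm gi N1162 = N985 := ded_34_2 (flp_d L8384) (flp_i L8342) L9932
theorem L9939 : sm ge N1162 = N1162 := ded_30_2 (flp_d L9932) (flp_e L8335) L6859 L8335 L9932
theorem L9940 : sm gf N980 = N1163 := rfl
theorem L9942 : sm ga N1163 = N1122 := ded_13_1 (flp_f L9930) L9921 L9940
theorem L9944 : sm gb N1163 = N982 := ded_20_1 (flp_f L8352) (flp_b L8337) L9940
theorem L9946 : sm gc N1163 = N1163 := ded_26_1 (flp_f L9940) L8339 L9940
theorem L9947 : sm gh N1163 = N1163 := ded_40_2 (flp_f L9940) L8341 L9940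
theorem L9948 : sm gi N1163 = N986 := ded_41_2 (flp_f L8390) (flp_i L8342) L9940
theorem L9950 : sm ge N1163 = N990 := ded_35_1 (flp_f L8424) (flp_e L6945) (flp_f L6860) L8335 L9940
theorem L9952 : sm gg N994 = N1163 := ded_14_0 L9942 (flp_g L9568) (flp_a L8485)
theorem L9954 : sm gf N981 = N1164 := rfl
theorem L9956 : sm ga N1164 = N1101 := ded_13_1 (flp_f L9402) (flp_a L8346) L9954
theorem L9958 : sm gd N1164 = N982 := ded_31_1 (flp_f L8352) L8344 L9954
theorem L9960 : sm gi N1164 = N987 := ded_41_2 (flp_f L8399) (flp_i L8349) L9954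
theorem L9962 : sm gh N981 = N1165 := rfl
theorem L9964 : sm ga N1165 = N1102 := ded_15_1 (flp_h L9408) (flp_a L8346) L9962
theorem L9966 : sm gc N1165 = N985 := ded_28_1 (flp_h L9846) L9843 L9962
theorem L9968 : sm ge N1165 = N1165 := ded_37_1 (flp_h L9962) L8351 L9962
theorem L9969 : sm gg N1165 = N1165 := ded_42_1 (flp_h L9962) L8348 L9962
theorem L9970 : sm gd N1165 = N1165 := ded_33_1 (flp_h L9962) (flp_d L8344) L6874 L8344 L9962
theorem L9971 : sm gg N982 = N1166 := rfl
theorem L9973 : sm ga N1166 = N1103 := ded_14_1 (flp_g L9413) (flp_a L8354) L9971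
theorem L9975 : sm gb N1166 = N994 := ded_21_1 L9952 L9944 L9971
theorem L9977 : sm gc N1166 = N983 := ded_27_1 (flp_g L8363) (flp_c L8356) L9971
theorem L9979 : sm ge N1166 = N992 := ded_36_1 (flp_g L8453) (flp_e L8361) L9971
theorem L9981 : sm gh N1166 = N1166 := ded_42_2 (flp_g L9971) L8358 L9971
theorem L9982 : sm gi N1166 = N989 := ded_43_2 (flp_g L8413) (flp_i L8359) L9971
theorem L9984 : sm gf N1166 = N1166 := ded_39_1 (flp_g L9971) (flp_f L8352) L6873 L8352 L9971
theorem L9985 : sm gd N984 = N1167 := rfl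
theorem L9987 : sm ga N1167 = N985 := ded_11_1 (flp_d L8384) (flp_a L8376) L9985
theorem L9989 : sm gb N1167 = N1104 := ded_18_1 (flp_d L9423) (flp_b L8378) L9985
theorem L9991 : sm gg N1167 = N1167 := ded_32_2 (flp_d L9985) L8381 L9985
theorem L9992 : sm ge N1167 = N1167 := ded_30_2 (flp_d L9985) (flp_e L8374) L6890 L8374 L9985
theorem L9993 : sm gh N1167 = N1089 := ded_33_2 (flp_d L9312) L8502 (flp_d L8490) (flp_h L8382) L9985
theorem L9995 : sm gc N1102 = N1167 := ded_10_0 L9987 (flp_c L9966) L9964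
theorem L9997 : sm gf N984 = N1168 := rfl
theorem L9999 : sm ga N1168 = N986 := ded_13_1 (flp_f L8390) (flp_a L8376) L9997
theorem L10001 : sm gb N1168 = N1105 := ded_20_1 (flp_f L9429) (flp_b L8378) L9997
theorem L10003 : sm gc N1168 = N1168 := ded_26_1 (flp_f L9997) L8380 L9997
theorem L10004 : sm gh N1168 = N996 := ded_40_2 (flp_f L8504) (flp_h L8382) L9997
theorem L10006 : sm gi N1168 = N1122 := ded_41_2 (flp_f L9930) L9928 L9997
theorem L10008 : sm ge N1168 = N993 := ded_35_1 (flp_f L8468) (flp_e L7029) (flp_f L6891) L8374 L9997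
theorem L10010 : sm gg N1118 = N1168 := ded_43_3 L10006 (flp_g L9568) (flp_i L9541)
theorem L10012 : sm gf N985 = N1169 := rfl
theorem L10014 : sm gb N1169 = N987 := ded_20_1 (flp_f L8399) (flp_b L8386) L10012
theorem L10016 : sm gd N1169 = N986 := ded_31_1 (flp_f L8390) L8384 L10012
theorem L10018 : sm gg N986 = N1170 := rfl
theorem L10020 : sm ga N1170 = N1118 := ded_14_1 L10010 L9999 L10018
theorem L10022 : sm gb N1170 = N989 := ded_21_1 (flp_g L8413) (flp_b L8392) L10018
theorem L10024 : sm gc N1170 = N1170 := ded_27_1 (flp_g L10018) L8394 L10018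
theorem L10025 : sm ge N1170 = N991 := ded_36_1 L8451 (flp_e L8397) L10018
theorem L10027 : sm gh N1170 = N998 := ded_42_2 (flp_g L8522) (flp_h L8395) L10018
theorem L10029 : sm gi N1170 = N994 := ded_43_2 L9952 L9948 L10018
theorem L10031 : sm gf N1170 = N1170 := ded_39_1 (flp_g L10018) (flp_f L8390) L6903 L8390 L10018
theorem L10032 : sm ge N987 = N1171 := rfl
theorem L10034 : sm ga N1171 = N1110 := ded_12_1 (flp_e L9464) (flp_a L8401) L10032
theorem L10036 : sm gd N1171 = N994 := ded_30_1 (flp_e L8483) L7070 (flp_e L6920) (flp_d L8403) L10032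
theorem L10038 : sm gf N1171 = N1171 := ded_35_2 (flp_e L10032) (flp_f L8399) L6911 L8399 L10032
theorem L10039 : sm gg N987 = N1172 := rfl
theorem L10041 : sm ga N1172 = N1111 := ded_14_1 (flp_g L9469) (flp_a L8401) L10039
theorem L10043 : sm gd N1172 = N989 := ded_32_1 (flp_g L8413) (flp_d L8403) L10039
theorem L10045 : sm gf N1172 = N1172 := ded_39_1 (flp_g L10039) (flp_f L8399) L6910 L8399 L10039
theorem L10046 : sm gh N987 = N1173 := rfl
theorem L10048 : sm ga N1173 = N1112 := ded_15_1 (flp_h L9474) (flp_a L8401) L10046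
theorem L10050 : sm gf N1173 = N988 := ded_40_1 (flp_h L8405) L8399 L10046
theorem L10052 : sm gd N1173 = N1000 := ded_33_1 (flp_h L8541) L7113 (flp_h L6918) (flp_d L8403) L10046
theorem L10054 : sm gf N995 = N1174 := rfl
theorem L10056 : sm ga N1174 = N997 := ded_13_1 (flp_f L8514) (flp_a L8492) L10054
theorem L10058 : sm gb N1174 = N1124 := ded_20_1 (flp_f L9582) (flp_b L8494) L10054
theorem L10060 : sm gc N1174 = N1087 := ded_26_1 (flp_f L9294) L8500 L10054
theorem L10062 : sm gd N1174 = N996 := ded_31_1 (flp_f L8504) L8490 L10054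
theorem L10064 : sm gh N1174 = N1090 := ded_40_2 (flp_f L9320) L8502 L10054
theorem L10066 : sm gi N1174 = N1174 := ded_41_2 (flp_f L10054) L8497 L10054
theorem L10067 : sm ge N1174 = N1174 := ded_35_1 (flp_f L10054) L8498 L7159 (flp_e L8498) L10054
theorem L10068 : sm gg N996 = N1175 := rfl
theorem L10070 : sm ga N1175 = N998 := ded_14_1 (flp_g L8522) (flp_a L8506) L10068
theorem L10072 : sm gb N1175 = N1125 := ded_21_1 (flp_g L9590) (flp_b L8508) L10068
theorem L10074 : sm gc N1175 = N1175 := ded_27_1 (flp_g L10068) L8510 L10068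
theorem L10075 : sm ge N1175 = N1001 := ded_36_1 (flp_g L8549) (flp_e L8512) L10068
theorem L10077 : sm gh N1175 = N1118 := ded_42_2 L10010 L10004 L10068
theorem L10079 : sm gi N1175 = N1175 := ded_43_2 (flp_g L10068) L8511 L10068
theorem L10080 : sm gf N1175 = N1175 := ded_39_1 (flp_g L10068) (flp_f L8504) L7090 L8504 L10068
theorem L10081 : sm gg N997 = N1176 := rfl
theorem L10083 : sm gb N1176 = N999 := ded_21_1 (flp_g L8531) (flp_b L8516) L10081
theorem L10085 : sm gd N1176 = N998 := ded_32_1 (flp_g L8522) (flp_d L8518) L10081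
theorem L10087 : sm ge N1176 = N1176 := ded_36_1 (flp_g L10081) L8521 L10081
theorem L10088 : sm gi N1176 = N1176 := ded_43_2 (flp_g L10081) L8520 L10081
theorem L10089 : sm gf N1176 = N1176 := ded_39_1 (flp_g L10081) (flp_f L8514) L7096 L8514 L10081
theorem L10090 : sm gh N999 = N1177 := rfl
theorem L10092 : sm ga N1177 = N1130 := ded_15_1 (flp_h L9629) (flp_a L8533) L10090
theorem L10094 : sm gc N1177 = N1177 := ded_28_1 (flp_h L10090) L8535 L10090
theorem L10095 : sm ge N1177 = N1177 := ded_37_1 (flp_h L10090) L8538 L10090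
theorem L10096 : sm gf N1177 = N1177 := ded_40_1 (flp_h L10090) L8540 L10090
theorem L10097 : sm gg N1177 = N1000 := ded_42_1 (flp_h L8541) L8531 L10090
theorem L10099 : sm gb N1002 = N1178 := rfl
theorem L10101 : sm gd N1178 = N1178 := ded_18_2 (flp_b L10099) L8570 L10099
theorem L10102 : sm gf N1178 = N1178 := ded_20_2 (flp_b L10099) L8565 L10099
theorem L10103 : sm gg N1178 = N1178 := ded_21_2 (flp_b L10099) L8566 L10099
theorem L10104 : sm gh N1178 = N1006 := ded_22_2 (flp_b L8600) (flp_h L8567) L10099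
theorem L10106 : sm gi N1178 = N1178 := ded_23_2 (flp_b L10099) L8569 L10099
theorem L10107 : sm gc N1178 = N1178 := ded_17_2 (flp_b L10099) (flp_c L8562) L7181 L8562 L10099
theorem L10108 : sm ge N1002 = N1179 := rfl
theorem L10110 : sm ga N1179 = N1179 := ded_12_1 (flp_e L10108) L8564 L10108
theorem L10111 : sm gc N1179 = N1003 := ded_25_1 (flp_e L8571) L8562 L10108
theorem L10113 : sm gg N1179 = N1179 := ded_36_2 (flp_e L10108) L8566 L10108
theorem L10114 : sm gh N1179 = N1007 := ded_37_2 (flp_e L8607) (flp_h L8567) L10108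
theorem L10116 : sm gi N1179 = N1179 := ded_38_2 (flp_e L10108) L8569 L10108
theorem L10117 : sm gf N1003 = N1180 := rfl
theorem L10119 : sm ga N1180 = N1180 := ded_13_1 (flp_f L10117) L8573 L10117
theorem L10120 : sm gb N1180 = N1180 := ded_20_1 (flp_f L10117) L8574 L10117
theorem L10121 : sm gd N1180 = N1180 := ded_31_1 (flp_f L10117) L8579 L10117
theorem L10122 : sm gh N1180 = N1008 := ded_40_2 (flp_f L8613) (flp_h L8576) L10117
theorem L10124 : sm gi N1180 = N1180 := ded_41_2 (flp_f L10117) L8578 L10117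
theorem L10125 : sm ge N1180 = N1180 := ded_35_1 (flp_f L10117) (flp_e L8571) L7182 L8571 L10117
theorem L10126 : sm gb N1004 = N1181 := rfl
theorem L10128 : sm gd N1181 = N1032 := ded_18_2 (flp_b L8836) (flp_d L8588) L10126
theorem L10130 : sm gf N1181 = N1181 := ded_20_2 (flp_b L10126) L8583 L10126
theorem L10131 : sm gg N1181 = N1181 := ded_21_2 (flp_b L10126) L8584 L10126
theorem L10132 : sm gh N1181 = N1181 := ded_22_2 (flp_b L10126) L8585 L10126
theorem L10133 : sm gi N1181 = N1006 := ded_23_2 (flp_b L8600) (flp_i L8586) L10126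
theorem L10135 : sm gc N1181 = N1181 := ded_17_2 (flp_b L10126) (flp_c L8580) L7190 L8580 L10126
theorem L10136 : sm ga N1132 = N1181 := ded_11_3 L10128 (flp_a L8846) L9643
theorem L10138 : sm ge N1004 = N1182 := rfl
theorem L10140 : sm ga N1182 = N1182 := ded_12_1 (flp_e L10138) L8582 L10138
theorem L10141 : sm gc N1182 = N1005 := ded_25_1 (flp_e L8590) L8580 L10138
theorem L10143 : sm gg N1182 = N1182 := ded_36_2 (flp_e L10138) L8584 L10138
theorem L10144 : sm gh N1182 = N1182 := ded_37_2 (flp_e L10138) L8585 L10138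
theorem L10145 : sm gi N1182 = N1007 := ded_38_2 (flp_e L8607) (flp_i L8586) L10138
theorem L10147 : sm gf N1005 = N1183 := rfl
theorem L10149 : sm ga N1183 = N1183 := ded_13_1 (flp_f L10147) L8592 L10147
theorem L10150 : sm gb N1183 = N1183 := ded_20_1 (flp_f L10147) L8593 L10147
theorem L10151 : sm gd N1183 = N1013 := ded_31_1 (flp_f L8659) (flp_d L8598) L10147
theorem L10153 : sm gh N1183 = N1183 := ded_40_2 (flp_f L10147) L8595 L10147
theorem L10154 : sm gi N1183 = N1008 := ded_41_2 (flp_f L8613) (flp_i L8596) L10147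
theorem L10156 : sm ge N1183 = N1183 := ded_35_1 (flp_f L10147) (flp_e L8590) L7191 L8590 L10147
theorem L10157 : sm gg N1086 = N1183 := ded_32_0 L10151 (flp_g L8669) L9287
theorem L10159 : sm ga N1006 = N1184 := rfl
theorem L10161 : sm gc N1184 = N1184 := ded_10_2 (flp_a L10159) L8606 L10159
theorem L10162 : sm gd N1184 = N1035 := ded_11_2 (flp_a L8866) (flp_d L8602) L10159
theorem L10164 : sm gf N1184 = N1184 := ded_13_2 (flp_a L10159) L8604 L10159
theorem L10165 : sm gg N1184 = N1184 := ded_14_2 (flp_a L10159) L8605 L10159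
theorem L10166 : sm gi N1184 = N1132 := ded_16_2 L10136 L10133 L10159
theorem L10168 : sm gb N1184 = N1184 := ded_9_2 (flp_a L10159) (flp_b L8600) L7198 L8600 L10159
theorem L10169 : sm ge N1006 = N1185 := rfl
theorem L10171 : sm gb N1185 = N1007 := ded_19_1 (flp_e L8607) L8600 L10169
theorem L10173 : sm gc N1185 = N1185 := ded_25_1 (flp_e L10169) L8606 L10169
theorem L10174 : sm gg N1185 = N1185 := ded_36_2 (flp_e L10169) L8605 L10169
theorem L10175 : sm gd N1007 = N1186 := rfl
theorem L10177 : sm ga N1186 = N1186 := ded_11_1 (flp_d L10175) L8609 L10175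
theorem L10178 : sm gg N1186 = N1186 := ded_32_2 (flp_d L10175) L8612 L10175
theorem L10179 : sm gc N1186 = N1016 := ded_24_1 (flp_d L8688) L7249 (flp_d L7208) (flp_c L8610) L10175
theorem L10181 : sm ge N1186 = N1037 := ded_30_2 (flp_d L8884) (flp_e L7377) (flp_d L7201) L8607 L10175
theorem L10183 : sm gf N1007 = N1187 := rfl
theorem L10185 : sm ga N1187 = N1187 := ded_13_1 (flp_f L10183) L8609 L10183
theorem L10186 : sm gc N1187 = N1008 := ded_26_1 (flp_f L8613) (flp_c L8610) L10183
theorem L10188 : sm ge N1187 = N1187 := ded_35_1 (flp_f L10183) (flp_e L8607) L7199 L8607 L10183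
theorem L10189 : sm gg N1008 = N1188 := rfl
theorem L10191 : sm ga N1188 = N1188 := ded_14_1 (flp_g L10189) L8615 L10189
theorem L10192 : sm gb N1188 = N1188 := ded_21_1 (flp_g L10189) L8616 L10189
theorem L10193 : sm gd N1188 = N1018 := ded_32_1 (flp_g L8702) (flp_d L8617) L10189
theorem L10195 : sm ge N1188 = N1188 := ded_36_1 (flp_g L10189) L8619 L10189
theorem L10196 : sm gi N1188 = N1086 := ded_43_2 L10157 L10154 L10189
theorem L10198 : sm gf N1188 = N1188 := ded_39_1 (flp_g L10189) (flp_f L8613) L7207 L8613 L10189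
theorem L10199 : sm gb N1009 = N1189 := rfl
theorem L10201 : sm gd N1189 = N1189 := ded_18_2 (flp_b L10199) L8629 L10199
theorem L10202 : sm gf N1189 = N1019 := ded_20_2 (flp_b L8712) (flp_f L8623) L10199
theorem L10204 : sm gg N1189 = N1189 := ded_21_2 (flp_b L10199) L8625 L10199
theorem L10205 : sm gh N1189 = N1011 := ded_22_2 (flp_b L8641) (flp_h L8626) L10199
theorem L10207 : sm gi N1189 = N1189 := ded_23_2 (flp_b L10199) L8628 L10199
theorem L10208 : sm gc N1189 = N1189 := ded_17_2 (flp_b L10199) (flp_c L8620) L7213 L8620 L10199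
theorem L10209 : sm ge N1009 = N1190 := rfl
theorem L10211 : sm ga N1190 = N1190 := ded_12_1 (flp_e L10209) L8622 L10209
theorem L10212 : sm gc N1190 = N1010 := ded_25_1 (flp_e L8630) L8620 L10209
theorem L10214 : sm gg N1190 = N1190 := ded_36_2 (flp_e L10209) L8625 L10209
theorem L10215 : sm gh N1190 = N1012 := ded_37_2 (flp_e L8651) (flp_h L8626) L10209
theorem L10217 : sm gi N1190 = N1190 := ded_38_2 (flp_e L10209) L8628 L10209
theorem L10218 : sm gf N1190 = N1084 := ded_35_2 L9276 L7665 (flp_e L7263) (flp_f L8623) L10209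
theorem L10220 : sm ga N1011 = N1191 := rfl
theorem L10222 : sm gc N1191 = N1191 := ded_10_2 (flp_a L10220) L8650 L10220
theorem L10223 : sm gd N1191 = N1040 := ded_11_2 (flp_a L8907) (flp_d L8643) L10220
theorem L10225 : sm gf N1191 = N1020 := ded_13_2 (flp_a L8723) (flp_f L8645) L10220
theorem L10227 : sm gg N1191 = N1191 := ded_14_2 (flp_a L10220) L8647 L10220
theorem L10228 : sm gi N1191 = N1014 := ded_16_2 (flp_a L8671) (flp_i L8648) L10220
theorem L10230 : sm gb N1191 = N1191 := ded_9_2 (flp_a L10220) (flp_b L8641) L7222 L8641 L10220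
theorem L10231 : sm ge N1011 = N1192 := rfl
theorem L10233 : sm gb N1192 = N1012 := ded_19_1 (flp_e L8651) L8641 L10231
theorem L10235 : sm gc N1192 = N1192 := ded_25_1 (flp_e L10231) L8650 L10231
theorem L10236 : sm gg N1192 = N1192 := ded_36_2 (flp_e L10231) L8647 L10231
theorem L10237 : sm gi N1192 = N1015 := ded_38_2 (flp_e L8681) (flp_i L8648) L10231
theorem L10239 : sm gd N1012 = N1193 := rfl
theorem L10241 : sm ga N1193 = N1193 := ded_11_1 (flp_d L10239) L8653 L10239
theorem L10242 : sm gg N1193 = N1193 := ded_32_2 (flp_d L10239) L8656 L10239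
theorem L10243 : sm gi N1193 = N1016 := ded_34_2 (flp_d L8688) (flp_i L8657) L10239
theorem L10245 : sm ge N1193 = N1042 := ded_30_2 (flp_d L8928) (flp_e L7403) (flp_d L7228) L8651 L10239
theorem L10247 : sm gf N1012 = N1194 := rfl
theorem L10249 : sm ga N1194 = N1194 := ded_13_1 (flp_f L10247) L8653 L10247
theorem L10250 : sm gc N1194 = N1013 := ded_26_1 (flp_f L8659) (flp_c L8654) L10247
theorem L10252 : sm gh N1194 = N1084 := ded_40_2 (flp_f L10218) L10215 L10247
theorem L10254 : sm gi N1194 = N1017 := ded_41_2 (flp_f L8694) (flp_i L8657) L10247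
theorem L10256 : sm ge N1194 = N1023 := ded_35_1 (flp_f L8756) (flp_e L7280) (flp_f L7223) L8651 L10247
theorem L10258 : sm gg N1085 = N1194 := ded_27_0 L10250 (flp_g L8669) (flp_c L9282)
theorem L10260 : sm ge N1014 = N1195 := rfl
theorem L10262 : sm ga N1195 = N1015 := ded_12_1 (flp_e L8681) L8671 L10260
theorem L10264 : sm gb N1195 = N1195 := ded_19_1 (flp_e L10260) L8680 L10260
theorem L10265 : sm gc N1195 = N1195 := ded_25_1 (flp_e L10260) L8673 L10260
theorem L10266 : sm gg N1195 = N1195 := ded_36_2 (flp_e L10260) L8678 L10260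
theorem L10267 : sm gh N1195 = N1195 := ded_37_2 (flp_e L10260) L8679 L10260
theorem L10268 : sm gd N1015 = N1196 := rfl
theorem L10270 : sm gb N1196 = N1016 := ded_18_1 (flp_d L8688) (flp_b L8683) L10268
theorem L10272 : sm gg N1196 = N1196 := ded_32_2 (flp_d L10268) L8686 L10268
theorem L10273 : sm ge N1196 = N1046 := ded_30_2 (flp_d L8965) (flp_e L7432) (flp_d L7239) L8681 L10268
theorem L10275 : sm gf N1015 = N1197 := rfl
theorem L10277 : sm gb N1197 = N1017 := ded_20_1 (flp_f L8694) (flp_b L8683) L10275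
theorem L10279 : sm gc N1197 = N1197 := ded_26_1 (flp_f L10275) L8685 L10275
theorem L10280 : sm gh N1197 = N1197 := ded_40_2 (flp_f L10275) L8687 L10275
theorem L10281 : sm ge N1197 = N1026 := ded_35_1 (flp_f L8784) (flp_e L7311) (flp_f L7241) L8681 L10275
theorem L10283 : sm gf N1016 = N1198 := rfl
theorem L10285 : sm ga N1198 = N1198 := ded_13_1 (flp_f L10283) L8690 L10283
theorem L10286 : sm gd N1198 = N1017 := ded_31_1 (flp_f L8694) L8688 L10283
theorem L10288 : sm gh N1016 = N1199 := rfl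
theorem L10290 : sm ga N1199 = N1199 := ded_15_1 (flp_h L10288) L8690 L10288
theorem L10291 : sm ge N1199 = N1049 := ded_37_1 (flp_h L8985) (flp_e L8692) L10288
theorem L10293 : sm gg N1199 = N1199 := ded_42_1 (flp_h L10288) L8691 L10288
theorem L10294 : sm gd N1199 = N1199 := ded_33_1 (flp_h L10288) (flp_d L8688) L7252 L8688 L10288
theorem L10295 : sm gg N1017 = N1200 := rfl
theorem L10297 : sm ga N1200 = N1200 := ded_14_1 (flp_g L10295) L8696 L10295
theorem L10298 : sm gc N1200 = N1018 := ded_27_1 (flp_g L8702) (flp_c L8697) L10295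
theorem L10300 : sm ge N1200 = N1029 := ded_36_1 (flp_g L8805) (flp_e L8700) L10295
theorem L10302 : sm gh N1200 = N1200 := ded_42_2 (flp_g L10295) L8699 L10295
theorem L10303 : sm gi N1200 = N1085 := ded_43_2 L10258 L10254 L10295
theorem L10305 : sm gf N1200 = N1200 := ded_39_1 (flp_g L10295) (flp_f L8694) L7251 L8694 L10295
theorem L10306 : sm ga N1019 = N1201 := rfl
theorem L10308 : sm gc N1201 = N1201 := ded_10_2 (flp_a L10306) L8722 L10306
theorem L10309 : sm gd N1201 = N1201 := ded_11_2 (flp_a L10306) L8714 L10306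
theorem L10310 : sm ge N1201 = N1151 := ded_12_2 L9815 (flp_e L8715) L10306
theorem L10312 : sm gg N1201 = N1133 := ded_14_2 (flp_a L9650) (flp_g L8717) L10306
theorem L10314 : sm gh N1201 = N1020 := ded_15_2 (flp_a L8723) (flp_h L8719) L10306
theorem L10316 : sm gi N1201 = N1201 := ded_16_2 (flp_a L10306) L8721 L10306
theorem L10317 : sm gb N1201 = N1201 := ded_9_2 (flp_a L10306) (flp_b L8712) L7262 L8712 L10306
theorem L10318 : sm ge N1020 = N1202 := rfl
theorem L10320 : sm ga N1202 = N1021 := ded_12_1 (flp_e L8733) L8723 L10318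
theorem L10322 : sm gb N1202 = N1202 := ded_19_1 (flp_e L10318) L8732 L10318
theorem L10323 : sm gc N1202 = N1202 := ded_25_1 (flp_e L10318) L8725 L10318
theorem L10324 : sm gg N1202 = N1134 := ded_36_2 (flp_e L9661) (flp_g L8728) L10318
theorem L10326 : sm gh N1202 = N1151 := ded_37_2 (flp_e L10310) L10314 L10318
theorem L10328 : sm gi N1202 = N1024 := ded_38_2 (flp_e L8767) (flp_i L8730) L10318
theorem L10330 : sm gd N1021 = N1203 := rfl
theorem L10332 : sm gb N1203 = N1022 := ded_18_1 (flp_d L8744) (flp_b L8735) L10330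
theorem L10334 : sm gg N1203 = N1135 := ded_32_2 (flp_d L9673) (flp_g L8738) L10330
theorem L10336 : sm gi N1203 = N1025 := ded_34_2 (flp_d L8776) (flp_i L8742) L10330
theorem L10338 : sm ge N1203 = N1052 := ded_30_2 (flp_d L9013) (flp_e L7474) (flp_d L7273) L8733 L10330
theorem L10340 : sm gh N1203 = N1150 := ded_33_2 L9811 L8210 (flp_d L8248) (flp_h L8740) L10330
theorem L10342 : sm gf N1021 = N1204 := rfl
theorem L10344 : sm gb N1204 = N1023 := ded_20_1 (flp_f L8756) (flp_b L8735) L10342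
theorem L10346 : sm gc N1204 = N1204 := ded_26_1 (flp_f L10342) L8737 L10342
theorem L10347 : sm gh N1204 = N1081 := ded_40_2 L9253 (flp_h L8740) L10342
theorem L10349 : sm gi N1204 = N1026 := ded_41_2 (flp_f L8784) (flp_i L8742) L10342
theorem L10351 : sm gg N1204 = N1082 := ded_39_2 L9260 L7639 L8064 (flp_g L8738) L10342
theorem L10353 : sm gf N1022 = N1205 := rfl
theorem L10355 : sm ga N1205 = N1205 := ded_13_1 (flp_f L10353) L8746 L10353
theorem L10356 : sm gc N1205 = N1205 := ded_26_1 (flp_f L10353) L8751 L10353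
theorem L10357 : sm gd N1205 = N1023 := ded_31_1 (flp_f L8756) L8744 L10353
theorem L10359 : sm gh N1205 = N1064 := ded_40_2 L9114 (flp_h L8754) L10353
theorem L10361 : sm gi N1205 = N1027 := ded_41_2 (flp_f L8790) (flp_i L8749) L10353
theorem L10363 : sm gg N1205 = N1065 := ded_39_2 L9120 L7547 (flp_f L8069) (flp_g L8747) L10353
theorem L10365 : sm gd N1024 = N1206 := rfl
theorem L10367 : sm ga N1206 = N1025 := ded_11_1 (flp_d L8776) (flp_a L8769) L10365
theorem L10369 : sm gb N1206 = N1206 := ded_18_1 (flp_d L10365) L8771 L10365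
theorem L10370 : sm gg N1206 = N1136 := ded_32_2 (flp_d L9685) (flp_g L8773) L10365
theorem L10372 : sm ge N1206 = N1057 := ded_30_2 (flp_d L9057) (flp_e L7512) (flp_d L7305) L8767 L10365
theorem L10374 : sm gf N1024 = N1207 := rfl
theorem L10376 : sm ga N1207 = N1026 := ded_13_1 (flp_f L8784) (flp_a L8769) L10374
theorem L10378 : sm gb N1207 = N1207 := ded_20_1 (flp_f L10374) L8771 L10374
theorem L10379 : sm gc N1207 = N1207 := ded_26_1 (flp_f L10374) L8772 L10374
theorem L10380 : sm gh N1207 = N1207 := ded_40_2 (flp_f L10374) L8775 L10374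
theorem L10381 : sm gc N1025 = N1208 := rfl
theorem L10383 : sm ge N1208 = N1059 := ded_25_2 (flp_c L9073) (flp_e L8782) L10381
theorem L10385 : sm gg N1208 = N1138 := ded_27_2 (flp_c L9702) (flp_g L8780) L10381
theorem L10387 : sm gb N1208 = N1208 := ded_17_1 (flp_c L10381) L8778 L7324 (flp_b L8778) L10381
theorem L10388 : sm gd N1208 = N1208 := ded_24_2 (flp_c L10381) (flp_d L8776) L7315 L8776 L10381
theorem L10389 : sm gf N1025 = N1209 := rfl
theorem L10391 : sm gb N1209 = N1027 := ded_20_1 (flp_f L8790) (flp_b L8778) L10389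
theorem L10393 : sm gd N1209 = N1026 := ded_31_1 (flp_f L8784) L8776 L10389
theorem L10395 : sm gh N1025 = N1210 := rfl
theorem L10397 : sm gb N1210 = N1028 := ded_22_1 (flp_h L8796) (flp_b L8778) L10395
theorem L10399 : sm ge N1210 = N1061 := ded_37_1 (flp_h L9086) (flp_e L8782) L10395
theorem L10401 : sm gg N1210 = N1140 := ded_42_1 (flp_h L9716) (flp_g L8780) L10395
theorem L10403 : sm gd N1210 = N1210 := ded_33_1 (flp_h L10395) (flp_d L8776) L7318 L8776 L10395
theorem L10404 : sm gg N1026 = N1211 := rfl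
theorem L10406 : sm gb N1211 = N1029 := ded_21_1 (flp_g L8805) (flp_b L8786) L10404
theorem L10408 : sm gc N1211 = N1211 := ded_27_1 (flp_g L10404) L8788 L10404
theorem L10409 : sm gh N1211 = N1211 := ded_42_2 (flp_g L10404) L8789 L10404
theorem L10410 : sm gi N1211 = N1082 := ded_43_2 (flp_g L10351) L10349 L10404
theorem L10412 : sm gf N1211 = N1083 := ded_39_1 L9268 (flp_f L8091) (flp_g L7316) L8784 L10404
theorem L10414 : sm ge N1027 = N1212 := rfl
theorem L10416 : sm ga N1212 = N1212 := ded_12_1 (flp_e L10414) L8792 L10414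
theorem L10417 : sm gc N1212 = N1212 := ded_25_1 (flp_e L10414) L8793 L10414
theorem L10418 : sm gf N1212 = N1063 := ded_35_2 (flp_e L9104) (flp_f L7537) (flp_e L7325) L8790 L10414
theorem L10420 : sm gg N1027 = N1213 := rfl
theorem L10422 : sm ga N1213 = N1213 := ded_14_1 (flp_g L10420) L8792 L10420
theorem L10423 : sm gc N1213 = N1213 := ded_27_1 (flp_g L10420) L8793 L10420
theorem L10424 : sm gd N1213 = N1029 := ded_32_1 (flp_g L8805) (flp_d L8794) L10420
theorem L10426 : sm gi N1213 = N1065 := ded_43_2 (flp_g L10363) L10361 L10420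
theorem L10428 : sm gf N1213 = N1066 := ded_39_1 L9130 (flp_f L8100) (flp_g L7322) L8790 L10420
theorem L10430 : sm gh N1027 = N1214 := rfl
theorem L10432 : sm ga N1214 = N1214 := ded_15_1 (flp_h L10430) L8792 L10430
theorem L10433 : sm gc N1214 = N1214 := ded_28_1 (flp_h L10430) L8793 L10430
theorem L10434 : sm gf N1214 = N1028 := ded_40_1 (flp_h L8796) L8790 L10430
theorem L10436 : sm gd N1214 = N1214 := ded_33_1 (flp_h L10430) L8794 L7332 (flp_d L8794) L10430
theorem L10437 : sm gi N1028 = N1215 := rfl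
theorem L10439 : sm ga N1215 = N1215 := ded_16_1 (flp_i L10437) L8798 L10437
theorem L10440 : sm gc N1215 = N1215 := ded_29_1 (flp_i L10437) L8799 L10437
theorem L10441 : sm gd N1215 = N1215 := ded_34_1 (flp_i L10437) L8804 L10437
theorem L10442 : sm ge N1215 = N1066 := ded_38_1 (flp_i L9124) (flp_e L8800) L10437
theorem L10444 : sm gg N1215 = N1141 := ded_43_1 L9727 (flp_g L8802) L10437
theorem L10446 : sm gh N1215 = N1147 := ded_44_1 L9792 (flp_h L8754) L8749 L8796 L10437
theorem L10448 : sm ge N1030 = N1216 := rfl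
theorem L10450 : sm ga N1216 = N1216 := ded_12_1 (flp_e L10448) L8817 L10448
theorem L10451 : sm gb N1216 = N1123 := ded_19_1 L9578 (flp_b L8823) L10448
theorem L10453 : sm gc N1216 = N1031 := ded_25_1 (flp_e L8826) L8815 L10448
theorem L10455 : sm gg N1216 = N1216 := ded_36_2 (flp_e L10448) L8819 L10448
theorem L10456 : sm gh N1216 = N1033 := ded_37_2 (flp_e L8848) (flp_h L8820) L10448
theorem L10458 : sm gi N1216 = N1216 := ded_38_2 (flp_e L10448) L8822 L10448
theorem L10459 : sm gf N1031 = N1217 := rfl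
theorem L10461 : sm ga N1217 = N1217 := ded_13_1 (flp_f L10459) L8828 L10459
theorem L10462 : sm gb N1217 = N1087 := ded_20_1 (flp_f L9294) (flp_b L8829) L10459
theorem L10464 : sm gd N1217 = N1217 := ded_31_1 (flp_f L10459) L8835 L10459
theorem L10465 : sm gh N1217 = N1034 := ded_40_2 (flp_f L8856) (flp_h L8832) L10459
theorem L10467 : sm gi N1217 = N1217 := ded_41_2 (flp_f L10459) L8834 L10459
theorem L10468 : sm ge N1217 = N1217 := ded_35_1 (flp_f L10459) (flp_e L8826) L7348 L8826 L10459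
theorem L10469 : sm ge N1032 = N1218 := rfl
theorem L10471 : sm ga N1218 = N1127 := ded_12_1 L9610 L8846 L10469
theorem L10473 : sm gb N1218 = N1033 := ded_19_1 (flp_e L8848) L8836 L10469
theorem L10475 : sm gc N1218 = N1088 := ded_25_1 (flp_e L9301) (flp_c L8844) L10469
theorem L10477 : sm gg N1218 = N1218 := ded_36_2 (flp_e L10469) L8839 L10469
theorem L10478 : sm gh N1218 = N1123 := ded_37_2 L9578 (flp_h L8840) L10469
theorem L10480 : sm gi N1218 = N1036 := ded_38_2 (flp_e L8876) (flp_i L8842) L10469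
theorem L10482 : sm gd N1033 = N1219 := rfl
theorem L10484 : sm ga N1219 = N1219 := ded_11_1 (flp_d L10482) L8850 L10482
theorem L10485 : sm gg N1219 = N1219 := ded_32_2 (flp_d L10482) L8853 L10482
theorem L10486 : sm gi N1219 = N1037 := ded_34_2 (flp_d L8884) (flp_i L8854) L10482
theorem L10488 : sm gc N1219 = N1042 := ded_24_1 (flp_d L8928) L7406 (flp_d L7368) (flp_c L8851) L10482
theorem L10490 : sm gf N1033 = N1220 := rfl
theorem L10492 : sm ga N1220 = N1220 := ded_13_1 (flp_f L10490) L8850 L10490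
theorem L10493 : sm gc N1220 = N1034 := ded_26_1 (flp_f L8856) (flp_c L8851) L10490
theorem L10495 : sm gi N1220 = N1038 := ded_41_2 (flp_f L8890) (flp_i L8854) L10490
theorem L10497 : sm ge N1220 = N1220 := ded_35_1 (flp_f L10490) (flp_e L8848) L7356 L8848 L10490
theorem L10498 : sm gg N1034 = N1221 := rfl
theorem L10500 : sm ga N1221 = N1221 := ded_14_1 (flp_g L10498) L8858 L10498
theorem L10501 : sm gb N1221 = N1091 := ded_21_1 (flp_g L9327) (flp_b L8859) L10498
theorem L10503 : sm gd N1221 = N1044 := ded_32_1 (flp_g L8944) (flp_d L8861) L10498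
theorem L10505 : sm ge N1221 = N1221 := ded_36_1 (flp_g L10498) L8865 L10498
theorem L10506 : sm gi N1221 = N1039 := ded_43_2 (flp_g L8897) (flp_i L8863) L10498
theorem L10508 : sm gf N1221 = N1221 := ded_39_1 (flp_g L10498) (flp_f L8856) L7365 L8856 L10498
theorem L10509 : sm ge N1035 = N1222 := rfl
theorem L10511 : sm ga N1222 = N1036 := ded_12_1 (flp_e L8876) L8866 L10509
theorem L10513 : sm gb N1222 = N1222 := ded_19_1 (flp_e L10509) L8875 L10509
theorem L10514 : sm gc N1222 = N1092 := ded_25_1 (flp_e L9335) (flp_c L8868) L10509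
theorem L10516 : sm gg N1222 = N1222 := ded_36_2 (flp_e L10509) L8871 L10509
theorem L10517 : sm gh N1222 = N1222 := ded_37_2 (flp_e L10509) L8872 L10509
theorem L10518 : sm gi N1222 = N1127 := ded_38_2 L9610 (flp_i L8873) L10509
theorem L10520 : sm gd N1036 = N1223 := rfl
theorem L10522 : sm gb N1223 = N1037 := ded_18_1 (flp_d L8884) (flp_b L8878) L10520
theorem L10524 : sm gg N1223 = N1223 := ded_32_2 (flp_d L10520) L8882 L10520
theorem L10525 : sm gf N1036 = N1224 := rfl
theorem L10527 : sm gb N1224 = N1038 := ded_20_1 (flp_f L8890) (flp_b L8878) L10525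
theorem L10529 : sm gc N1224 = N1094 := ded_26_1 (flp_f L9351) (flp_c L8880) L10525
theorem L10531 : sm gh N1224 = N1224 := ded_40_2 (flp_f L10525) L8883 L10525
theorem L10532 : sm ge N1224 = N1224 := ded_35_1 (flp_f L10525) (flp_e L8876) L7372 L8876 L10525
theorem L10533 : sm gf N1037 = N1225 := rfl
theorem L10535 : sm ga N1225 = N1225 := ded_13_1 (flp_f L10533) L8886 L10533
theorem L10536 : sm gc N1225 = N1048 := ded_26_1 (flp_f L8980) (flp_c L8888) L10533
theorem L10538 : sm gd N1225 = N1038 := ded_31_1 (flp_f L8890) L8884 L10533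
theorem L10540 : sm gh N1037 = N1226 := rfl
theorem L10542 : sm ga N1226 = N1226 := ded_15_1 (flp_h L10540) L8886 L10540
theorem L10543 : sm gc N1226 = N1049 := ded_28_1 (flp_h L8985) (flp_c L8888) L10540
theorem L10545 : sm gg N1226 = N1226 := ded_42_1 (flp_h L10540) L8887 L10540
theorem L10546 : sm gd N1226 = N1226 := ded_33_1 (flp_h L10540) (flp_d L8884) L7383 L8884 L10540
theorem L10547 : sm gg N1038 = N1227 := rfl
theorem L10549 : sm ga N1227 = N1227 := ded_14_1 (flp_g L10547) L8892 L10547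
theorem L10550 : sm gc N1227 = N1039 := ded_27_1 (flp_g L8897) (flp_c L8893) L10547
theorem L10552 : sm ge N1227 = N1227 := ded_36_1 (flp_g L10547) L8896 L10547
theorem L10553 : sm gh N1227 = N1227 := ded_42_2 (flp_g L10547) L8895 L10547
theorem L10554 : sm gf N1227 = N1227 := ded_39_1 (flp_g L10547) (flp_f L8890) L7382 L8890 L10547
theorem L10555 : sm ge N1040 = N1228 := rfl
theorem L10557 : sm ga N1228 = N1041 := ded_12_1 (flp_e L8918) L8907 L10555
theorem L10559 : sm gb N1228 = N1228 := ded_19_1 (flp_e L10555) L8917 L10555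
theorem L10560 : sm gc N1228 = N1098 := ded_25_1 (flp_e L9377) (flp_c L8909) L10555
theorem L10562 : sm gg N1228 = N1228 := ded_36_2 (flp_e L10555) L8913 L10555
theorem L10563 : sm gh N1228 = N1228 := ded_37_2 (flp_e L10555) L8914 L10555
theorem L10564 : sm gi N1228 = N1045 := ded_38_2 (flp_e L8955) (flp_i L8915) L10555
theorem L10566 : sm gd N1041 = N1229 := rfl
theorem L10568 : sm gb N1229 = N1042 := ded_18_1 (flp_d L8928) (flp_b L8920) L10566
theorem L10570 : sm gg N1229 = N1229 := ded_32_2 (flp_d L10566) L8924 L10566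
theorem L10571 : sm gi N1229 = N1046 := ded_34_2 (flp_d L8965) (flp_i L8926) L10566
theorem L10573 : sm gf N1041 = N1230 := rfl
theorem L10575 : sm gb N1230 = N1043 := ded_20_1 (flp_f L8934) (flp_b L8920) L10573
theorem L10577 : sm gc N1230 = N1100 := ded_26_1 (flp_f L9393) (flp_c L8922) L10573
theorem L10579 : sm gh N1230 = N1230 := ded_40_2 (flp_f L10573) L8925 L10573
theorem L10580 : sm gi N1230 = N1047 := ded_41_2 (flp_f L8970) (flp_i L8926) L10573
theorem L10582 : sm ge N1230 = N1053 := ded_35_1 (flp_f L9021) (flp_e L7474) (flp_f L7395) L8918 L10573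
theorem L10584 : sm gf N1042 = N1231 := rfl
theorem L10586 : sm ga N1231 = N1231 := ded_13_1 (flp_f L10584) L8930 L10584
theorem L10587 : sm gd N1231 = N1043 := ded_31_1 (flp_f L8934) L8928 L10584
theorem L10589 : sm gi N1231 = N1048 := ded_41_2 (flp_f L8980) (flp_i L8932) L10584
theorem L10591 : sm gh N1042 = N1232 := rfl
theorem L10593 : sm ga N1232 = N1232 := ded_15_1 (flp_h L10591) L8930 L10591
theorem L10594 : sm gg N1232 = N1232 := ded_42_1 (flp_h L10591) L8931 L10591
theorem L10595 : sm gd N1232 = N1232 := ded_33_1 (flp_h L10591) (flp_d L8928) L7409 L8928 L10591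
theorem L10596 : sm gg N1043 = N1233 := rfl
theorem L10598 : sm ga N1233 = N1233 := ded_14_1 (flp_g L10596) L8936 L10596
theorem L10599 : sm gc N1233 = N1044 := ded_27_1 (flp_g L8944) (flp_c L8937) L10596
theorem L10601 : sm ge N1233 = N1056 := ded_36_1 (flp_g L9047) (flp_e L8942) L10596
theorem L10603 : sm gh N1233 = N1233 := ded_42_2 (flp_g L10596) L8939 L10596
theorem L10604 : sm gi N1233 = N1050 := ded_43_2 (flp_g L8991) (flp_i L8940) L10596
theorem L10606 : sm gf N1233 = N1233 := ded_39_1 (flp_g L10596) (flp_f L8934) L7408 L8934 L10596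
theorem L10607 : sm gd N1045 = N1234 := rfl
theorem L10609 : sm ga N1234 = N1046 := ded_11_1 (flp_d L8965) (flp_a L8957) L10607
theorem L10611 : sm gb N1234 = N1234 := ded_18_1 (flp_d L10607) L8959 L10607
theorem L10612 : sm gg N1234 = N1234 := ded_32_2 (flp_d L10607) L8962 L10607
theorem L10613 : sm gf N1045 = N1235 := rfl
theorem L10615 : sm ga N1235 = N1047 := ded_13_1 (flp_f L8970) (flp_a L8957) L10613
theorem L10617 : sm gb N1235 = N1235 := ded_20_1 (flp_f L10613) L8959 L10613
theorem L10618 : sm gc N1235 = N1105 := ded_26_1 (flp_f L9429) (flp_c L8960) L10613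
theorem L10620 : sm gh N1235 = N1068 := ded_40_2 (flp_f L9140) (flp_h L8963) L10613
theorem L10622 : sm ge N1235 = N1058 := ded_35_1 (flp_f L9064) (flp_e L7512) (flp_f L7426) L8955 L10613
theorem L10624 : sm gc N1046 = N1236 := rfl
theorem L10626 : sm gg N1236 = N1236 := ded_27_2 (flp_c L10624) L8969 L10624
theorem L10627 : sm gd N1236 = N1106 := ded_24_2 (flp_c L9437) (flp_d L7812) (flp_c L7436) L8965 L10624
theorem L10629 : sm gf N1046 = N1237 := rfl
theorem L10631 : sm gb N1237 = N1048 := ded_20_1 (flp_f L8980) (flp_b L8967) L10629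
theorem L10633 : sm gd N1237 = N1047 := ded_31_1 (flp_f L8970) L8965 L10629
theorem L10635 : sm gh N1046 = N1238 := rfl
theorem L10637 : sm gb N1238 = N1049 := ded_22_1 (flp_h L8985) (flp_b L8967) L10635
theorem L10639 : sm gg N1238 = N1238 := ded_42_1 (flp_h L10635) L8969 L10635
theorem L10640 : sm gd N1238 = N1071 := ded_33_1 (flp_h L9165) (flp_d L7569) (flp_h L7439) L8965 L10635
theorem L10642 : sm gg N1047 = N1239 := rfl
theorem L10644 : sm gb N1239 = N1050 := ded_21_1 (flp_g L8991) (flp_b L8972) L10642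
theorem L10646 : sm gc N1239 = N1109 := ded_27_1 (flp_g L9455) (flp_c L8974) L10642
theorem L10648 : sm ge N1239 = N1062 := ded_36_1 (flp_g L9094) (flp_e L8978) L10642
theorem L10650 : sm gh N1239 = N1072 := ded_42_2 (flp_g L9171) (flp_h L8976) L10642
theorem L10652 : sm gf N1239 = N1239 := ded_39_1 (flp_g L10642) (flp_f L8970) L7438 L8970 L10642
theorem L10653 : sm ge N1048 = N1240 := rfl
theorem L10655 : sm ga N1240 = N1240 := ded_12_1 (flp_e L10653) L8982 L10653
theorem L10656 : sm gd N1240 = N1063 := ded_30_1 (flp_e L9104) L7541 (flp_e L7452) (flp_d L8983) L10653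
theorem L10658 : sm gg N1048 = N1241 := rfl
theorem L10660 : sm ga N1241 = N1241 := ded_14_1 (flp_g L10658) L8982 L10658
theorem L10661 : sm gd N1241 = N1050 := ded_32_1 (flp_g L8991) (flp_d L8983) L10658
theorem L10663 : sm gf N1241 = N1241 := ded_39_1 (flp_g L10658) (flp_f L8980) L7444 L8980 L10658
theorem L10664 : sm gh N1048 = N1242 := rfl
theorem L10666 : sm ga N1242 = N1242 := ded_15_1 (flp_h L10664) L8982 L10664
theorem L10667 : sm gf N1242 = N1049 := ded_40_1 (flp_h L8985) L8980 L10664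
theorem L10669 : sm gd N1242 = N1075 := ded_33_1 (flp_h L9197) L7589 (flp_h L7450) (flp_d L8983) L10664
theorem L10671 : sm gi N1049 = N1243 := rfl
theorem L10673 : sm ga N1243 = N1243 := ded_16_1 (flp_i L10671) L8987 L10671
theorem L10674 : sm gd N1243 = N1076 := ded_34_1 (flp_i L9203) (flp_d L8989) L10671
theorem L10676 : sm gg N1243 = N1243 := ded_43_1 (flp_i L10671) L8988 L10671
theorem L10677 : sm gd N1051 = N1244 := rfl
theorem L10679 : sm ga N1244 = N1052 := ded_11_1 (flp_d L9013) (flp_a L9003) L10677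
theorem L10681 : sm gb N1244 = N1244 := ded_18_1 (flp_d L10677) L9005 L10677
theorem L10682 : sm gg N1244 = N1143 := ded_32_2 (flp_d L9745) (flp_g L9008) L10677
theorem L10684 : sm gi N1244 = N1057 := ded_34_2 (flp_d L9057) (flp_i L9011) L10677
theorem L10686 : sm gc N1244 = N1150 := ded_24_1 L9811 L8207 L7856 (flp_c L9006) L10677
theorem L10688 : sm gf N1051 = N1245 := rfl
theorem L10690 : sm ga N1245 = N1053 := ded_13_1 (flp_f L9021) (flp_a L9003) L10688
theorem L10692 : sm gb N1245 = N1245 := ded_20_1 (flp_f L10688) L9005 L10688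
theorem L10693 : sm gc N1245 = N1114 := ded_26_1 (flp_f L9486) (flp_c L9006) L10688
theorem L10695 : sm gh N1245 = N1245 := ded_40_2 (flp_f L10688) L9010 L10688
theorem L10696 : sm gi N1245 = N1058 := ded_41_2 (flp_f L9064) (flp_i L9011) L10688
theorem L10698 : sm gg N1245 = N1120 := ded_39_2 (flp_f L9556) L7915 L8125 (flp_g L9008) L10688
theorem L10700 : sm gc N1052 = N1246 := rfl
theorem L10702 : sm ga N1246 = N1150 := ded_10_1 (flp_c L10686) L10679 L10700
theorem L10704 : sm gg N1246 = N1144 := ded_27_2 (flp_c L9756) (flp_g L9017) L10700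
theorem L10706 : sm gi N1246 = N1059 := ded_29_2 (flp_c L9073) (flp_i L9019) L10700
theorem L10708 : sm gb N1246 = N1246 := ded_17_1 (flp_c L10700) L9015 L7492 (flp_b L9015) L10700
theorem L10709 : sm gd N1246 = N1115 := ded_24_2 (flp_c L9499) (flp_d L7858) (flp_c L7478) L9013 L10700
theorem L10711 : sm gf N1052 = N1247 := rfl
theorem L10713 : sm gb N1247 = N1054 := ded_20_1 (flp_f L9030) (flp_b L9015) L10711
theorem L10715 : sm gd N1247 = N1053 := ded_31_1 (flp_f L9021) L9013 L10711
theorem L10717 : sm gi N1247 = N1060 := ded_41_2 (flp_f L9080) (flp_i L9019) L10711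
theorem L10719 : sm gh N1052 = N1248 := rfl
theorem L10721 : sm gb N1248 = N1055 := ded_22_1 (flp_h L9038) (flp_b L9015) L10719
theorem L10723 : sm ge N1248 = N1150 := ded_37_1 (flp_h L10340) L10338 L10719
theorem L10725 : sm gg N1248 = N1146 := ded_42_1 (flp_h L9779) (flp_g L9017) L10719
theorem L10727 : sm gd N1248 = N1248 := ded_33_1 (flp_h L10719) (flp_d L9013) L7482 L9013 L10719
theorem L10728 : sm gg N1053 = N1249 := rfl
theorem L10730 : sm ga N1249 = N1120 := ded_14_1 (flp_g L10698) L10690 L10728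
theorem L10732 : sm gb N1249 = N1056 := ded_21_1 (flp_g L9047) (flp_b L9023) L10728
theorem L10734 : sm gc N1249 = N1117 := ded_27_1 (flp_g L9525) (flp_c L9025) L10728
theorem L10736 : sm gh N1249 = N1249 := ded_42_2 (flp_g L10728) L9027 L10728
theorem L10737 : sm gi N1249 = N1062 := ded_43_2 (flp_g L9094) (flp_i L9028) L10728
theorem L10739 : sm gf N1249 = N1119 := ded_39_1 L9549 (flp_f L8133) (flp_g L7480) L9021 L10728
theorem L10741 : sm ge N1054 = N1250 := rfl
theorem L10743 : sm ga N1250 = N1250 := ded_12_1 (flp_e L10741) L9032 L10741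
theorem L10744 : sm gc N1250 = N1250 := ded_25_1 (flp_e L10741) L9033 L10741
theorem L10745 : sm gi N1250 = N1063 := ded_38_2 (flp_e L9104) (flp_i L9036) L10741
theorem L10747 : sm gg N1054 = N1251 := rfl
theorem L10749 : sm ga N1251 = N1251 := ded_14_1 (flp_g L10747) L9032 L10747
theorem L10750 : sm gc N1251 = N1251 := ded_27_1 (flp_g L10747) L9033 L10747
theorem L10751 : sm gd N1251 = N1056 := ded_32_1 (flp_g L9047) (flp_d L9034) L10747
theorem L10753 : sm gi N1251 = N1064 := ded_43_2 (flp_g L9108) (flp_i L9036) L10747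
theorem L10755 : sm gf N1251 = N1147 := ded_39_1 (flp_g L9786) (flp_f L8145) (flp_g L7488) L9030 L10747
theorem L10757 : sm gh N1054 = N1252 := rfl
theorem L10759 : sm ga N1252 = N1252 := ded_15_1 (flp_h L10757) L9032 L10757
theorem L10760 : sm gc N1252 = N1252 := ded_28_1 (flp_h L10757) L9033 L10757
theorem L10761 : sm gf N1252 = N1055 := ded_40_1 (flp_h L9038) L9030 L10757
theorem L10763 : sm gd N1252 = N1252 := ded_33_1 (flp_h L10757) L9034 L7498 (flp_d L9034) L10757
theorem L10764 : sm gi N1055 = N1253 := rfl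
theorem L10766 : sm ga N1253 = N1253 := ded_16_1 (flp_i L10764) L9040 L10764
theorem L10767 : sm gc N1253 = N1253 := ded_29_1 (flp_i L10764) L9041 L10764
theorem L10768 : sm gd N1253 = N1253 := ded_34_1 (flp_i L10764) L9046 L10764
theorem L10769 : sm ge N1253 = N1147 := ded_38_1 L9792 (flp_e L9042) L10764
theorem L10771 : sm gg N1253 = N1142 := ded_43_1 L9743 (flp_g L9044) L10764
theorem L10773 : sm gh N1253 = N1066 := ded_44_1 (flp_i L9124) (flp_h L7543) (flp_i L7490) L9038 L10764
theorem L10775 : sm gc N1057 = N1254 := rfl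
theorem L10777 : sm ga N1254 = N1059 := ded_10_1 (flp_c L9073) (flp_a L9059) L10775
theorem L10779 : sm gg N1254 = N1145 := ded_27_2 L9773 (flp_g L9062) L10775
theorem L10781 : sm gi N1254 = N1150 := ded_29_2 (flp_c L10686) L10684 L10775
theorem L10783 : sm gd N1254 = N1119 := ded_24_2 (flp_c L9544) (flp_d L7894) (flp_c L7517) L9057 L10775
theorem L10785 : sm gb N1254 = N1147 := ded_47_6 (flp_h L10446) L10444 L9730 L8157 L6623 L5118 L4005 L3206 L3228 (flp_f L3903) (flp_e L4960) L4959 (flp_c L6448) (flp_b L7986) (flp_h L9461) (flp_g L9455) (flp_f L7818) (flp_e L6310) L4852 (flp_c L6016) (flp_b L6009) L4654 L3709 L3707 L3728 L4751 L4757 L3747 L4783 L4788 (flp_f L5748) (flp_e L5042) (flp_d L3952) L3096 L2468 (flp_h L1995) (flp_g L1896) (flp_f L2370) (flp_e L2965) (flp_d L3781) (flp_c L4805) L4804 L6230 L6237 L6236 L6235 L6971 L6762 L5603 L4992 L4991 L4994 (flp_e L4986) (flp_d L4931) (flp_c L6107) L6114 (flp_h L7429) L7428 L7426 L7512 L9057 L10775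
theorem L10787 : sm gf N1057 = N1255 := rfl
theorem L10789 : sm ga N1255 = N1060 := ded_13_1 (flp_f L9080) (flp_a L9059) L10787
theorem L10791 : sm gb N1255 = N1255 := ded_20_1 (flp_f L10787) L9061 L10787
theorem L10792 : sm gd N1255 = N1058 := ded_31_1 (flp_f L9064) L9057 L10787
theorem L10794 : sm gh N1057 = N1256 := rfl
theorem L10796 : sm ga N1256 = N1061 := ded_15_1 (flp_h L9086) (flp_a L9059) L10794
theorem L10798 : sm gb N1256 = N1256 := ded_22_1 (flp_h L10794) L9061 L10794
theorem L10799 : sm gg N1256 = N1148 := ded_42_1 (flp_h L9794) (flp_g L9062) L10794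
theorem L10801 : sm gd N1256 = N1078 := ded_33_1 (flp_h L9219) (flp_d L7607) (flp_h L7521) L9057 L10794
theorem L10803 : sm gg N1058 = N1257 := rfl
theorem L10805 : sm ga N1257 = N1062 := ded_14_1 (flp_g L9094) (flp_a L9066) L10803
theorem L10807 : sm gb N1257 = N1257 := ded_21_1 (flp_g L10803) L9068 L10803
theorem L10808 : sm gc N1257 = N1116 := ded_27_1 L9523 (flp_c L9069) L10803
theorem L10810 : sm gh N1257 = N1079 := ded_42_2 (flp_g L9228) (flp_h L9071) L10803
theorem L10812 : sm gi N1257 = N1120 := ded_43_2 (flp_g L10698) L10696 L10803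
theorem L10814 : sm gf N1257 = N1115 := ded_39_1 L9504 (flp_f L8174) (flp_g L7519) L9064 L10803
theorem L10816 : sm gf N1059 = N1258 := rfl
theorem L10818 : sm gb N1258 = N1258 := ded_20_1 (flp_f L10816) L9077 L10816
theorem L10819 : sm gc N1258 = N1060 := ded_26_1 (flp_f L9080) L9073 L10816
theorem L10821 : sm gd N1258 = N1120 := ded_31_1 (flp_f L9556) (flp_d L9078) L10816
theorem L10823 : sm gh N1059 = N1259 := rfl
theorem L10825 : sm gb N1259 = N1259 := ded_22_1 (flp_h L10823) L9077 L10823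
theorem L10826 : sm gc N1259 = N1061 := ded_28_1 (flp_h L9086) L9073 L10823
theorem L10828 : sm gg N1259 = N1149 := ded_42_1 (flp_h L9801) (flp_g L9075) L10823
theorem L10830 : sm gd N1259 = N1259 := ded_33_1 (flp_h L10823) L9078 L7917 (flp_d L9078) L10823
theorem L10831 : sm ge N1060 = N1260 := rfl
theorem L10833 : sm gb N1260 = N1063 := ded_19_1 (flp_e L9104) (flp_b L9082) L10831
theorem L10835 : sm gg N1060 = N1261 := rfl
theorem L10837 : sm gb N1261 = N1064 := ded_21_1 (flp_g L9108) (flp_b L9082) L10835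
theorem L10839 : sm gd N1261 = N1062 := ded_32_1 (flp_g L9094) (flp_d L9084) L10835
theorem L10841 : sm gf N1261 = N1150 := ded_39_1 (flp_g L9807) (flp_f L8191) (flp_g L7527) L9080 L10835
theorem L10843 : sm gh N1060 = N1262 := rfl
theorem L10845 : sm gb N1262 = N1065 := ded_22_1 (flp_h L9116) (flp_b L9082) L10843
theorem L10847 : sm gf N1262 = N1061 := ded_40_1 (flp_h L9086) L9080 L10843
theorem L10849 : sm gd N1262 = N1082 := ded_33_1 (flp_h L9255) L7630 (flp_h L7535) (flp_d L9084) L10843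
theorem L10851 : sm gi N1061 = N1263 := rfl
theorem L10853 : sm gb N1263 = N1066 := ded_23_1 (flp_i L9124) (flp_b L9088) L10851
theorem L10855 : sm gd N1263 = N1083 := ded_34_1 (flp_i L9262) (flp_d L9092) L10851
theorem L10857 : sm gg N1263 = N1139 := ded_43_1 L9714 (flp_g L9090) L10851
theorem L10859 : sm gg N1063 = N1264 := rfl
theorem L10861 : sm ga N1264 = N1264 := ded_14_1 (flp_g L10859) L9106 L10859
theorem L10862 : sm gc N1264 = N1264 := ded_27_1 (flp_g L10859) L9107 L10859
theorem L10863 : sm ge N1264 = N1064 := ded_36_1 (flp_g L9108) L9104 L10859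
theorem L10865 : sm gh N1063 = N1265 := rfl
theorem L10867 : sm ga N1265 = N1265 := ded_15_1 (flp_h L10865) L9106 L10865
theorem L10868 : sm gc N1265 = N1265 := ded_28_1 (flp_h L10865) L9107 L10865
theorem L10869 : sm ge N1265 = N1065 := ded_37_1 (flp_h L9116) L9104 L10865
theorem L10871 : sm gc N1067 = N1266 := rfl
theorem L10873 : sm ga N1266 = N1069 := ded_10_1 (flp_c L9150) (flp_a L9134) L10871
theorem L10875 : sm ge N1266 = N1266 := ded_25_2 (flp_c L10871) L9139 L10871
theorem L10876 : sm gg N1266 = N1266 := ded_27_2 (flp_c L10871) L9137 L10871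
theorem L10877 : sm gi N1266 = N1266 := ded_29_2 (flp_c L10871) L9138 L10871
theorem L10878 : sm gd N1266 = N1123 := ded_24_2 (flp_c L9574) (flp_d L7947) (flp_c L7565) L9132 L10871
theorem L10880 : sm gf N1067 = N1267 := rfl
theorem L10882 : sm ga N1267 = N1070 := ded_13_1 (flp_f L9158) (flp_a L9134) L10880
theorem L10884 : sm gb N1267 = N1267 := ded_20_1 (flp_f L10880) L9136 L10880
theorem L10885 : sm gd N1267 = N1068 := ded_31_1 (flp_f L9140) L9132 L10880
theorem L10887 : sm gi N1267 = N1267 := ded_41_2 (flp_f L10880) L9138 L10880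
theorem L10888 : sm gh N1067 = N1268 := rfl
theorem L10890 : sm ga N1268 = N1071 := ded_15_1 (flp_h L9165) (flp_a L9134) L10888
theorem L10892 : sm gb N1268 = N1268 := ded_22_1 (flp_h L10888) L9136 L10888
theorem L10893 : sm ge N1268 = N1268 := ded_37_1 (flp_h L10888) L9139 L10888
theorem L10894 : sm gg N1268 = N1268 := ded_42_1 (flp_h L10888) L9137 L10888
theorem L10895 : sm gg N1068 = N1269 := rfl
theorem L10897 : sm ga N1269 = N1072 := ded_14_1 (flp_g L9171) (flp_a L9142) L10895
theorem L10899 : sm gb N1269 = N1269 := ded_21_1 (flp_g L10895) L9144 L10895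
theorem L10900 : sm gc N1269 = N1125 := ded_27_1 (flp_g L9590) (flp_c L9145) L10895
theorem L10902 : sm ge N1269 = N1079 := ded_36_1 (flp_g L9228) (flp_e L9148) L10895
theorem L10904 : sm gi N1269 = N1269 := ded_43_2 (flp_g L10895) L9147 L10895
theorem L10905 : sm gf N1269 = N1269 := ded_39_1 (flp_g L10895) (flp_f L9140) L7567 L9140 L10895
theorem L10906 : sm gf N1069 = N1270 := rfl
theorem L10908 : sm gb N1270 = N1270 := ded_20_1 (flp_f L10906) L9155 L10906
theorem L10909 : sm gc N1270 = N1070 := ded_26_1 (flp_f L9158) L9150 L10906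
theorem L10911 : sm gd N1270 = N1126 := ded_31_1 (flp_f L9598) (flp_d L9156) L10906
theorem L10913 : sm gi N1270 = N1270 := ded_41_2 (flp_f L10906) L9154 L10906
theorem L10914 : sm gh N1069 = N1271 := rfl
theorem L10916 : sm gb N1271 = N1271 := ded_22_1 (flp_h L10914) L9155 L10914
theorem L10917 : sm gc N1271 = N1071 := ded_28_1 (flp_h L9165) L9150 L10914
theorem L10919 : sm ge N1271 = N1271 := ded_37_1 (flp_h L10914) L9152 L10914
theorem L10920 : sm gg N1271 = N1271 := ded_42_1 (flp_h L10914) L9153 L10914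
theorem L10921 : sm ge N1070 = N1272 := rfl
theorem L10923 : sm gb N1272 = N1073 := ded_19_1 (flp_e L9181) (flp_b L9160) L10921
theorem L10925 : sm gi N1272 = N1272 := ded_38_2 (flp_e L10921) L9164 L10921
theorem L10926 : sm gd N1272 = N1080 := ded_30_1 (flp_e L9238) L7630 (flp_e L7583) (flp_d L9162) L10921
theorem L10928 : sm gf N1272 = N1272 := ded_35_2 (flp_e L10921) (flp_f L9158) L7575 L9158 L10921
theorem L10929 : sm gg N1070 = N1273 := rfl
theorem L10931 : sm gb N1273 = N1074 := ded_21_1 (flp_g L9189) (flp_b L9160) L10929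
theorem L10933 : sm gd N1273 = N1072 := ded_32_1 (flp_g L9171) (flp_d L9162) L10929
theorem L10935 : sm gi N1273 = N1273 := ded_43_2 (flp_g L10929) L9164 L10929
theorem L10936 : sm gf N1273 = N1273 := ded_39_1 (flp_g L10929) (flp_f L9158) L7573 L9158 L10929
theorem L10937 : sm gh N1070 = N1274 := rfl
theorem L10939 : sm gb N1274 = N1075 := ded_22_1 (flp_h L9197) (flp_b L9160) L10937
theorem L10941 : sm gf N1274 = N1071 := ded_40_1 (flp_h L9165) L9158 L10937
theorem L10943 : sm gi N1071 = N1275 := rfl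
theorem L10945 : sm gb N1275 = N1076 := ded_23_1 (flp_i L9203) (flp_b L9167) L10943
theorem L10947 : sm ge N1275 = N1275 := ded_38_1 (flp_i L10943) L9169 L10943
theorem L10948 : sm gg N1275 = N1275 := ded_43_1 (flp_i L10943) L9170 L10943
theorem L10949 : sm gh N1275 = N1275 := ded_44_1 (flp_i L10943) (flp_h L9165) L7574 L9165 L10943
theorem L10950 : sm gg N1073 = N1276 := rfl
theorem L10952 : sm ga N1276 = N1276 := ded_14_1 (flp_g L10950) L9183 L10950
theorem L10953 : sm gc N1276 = N1276 := ded_27_1 (flp_g L10950) L9184 L10950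
theorem L10954 : sm gd N1276 = N1084 := ded_32_1 (flp_g L9271) (flp_d L9186) L10950
theorem L10956 : sm ge N1276 = N1074 := ded_36_1 (flp_g L9189) L9181 L10950
theorem L10958 : sm gi N1276 = N1276 := ded_43_2 (flp_g L10950) L9185 L10950
theorem L10959 : sm gh N1073 = N1277 := rfl
theorem L10961 : sm ga N1277 = N1277 := ded_15_1 (flp_h L10959) L9183 L10959
theorem L10962 : sm gc N1277 = N1277 := ded_28_1 (flp_h L10959) L9184 L10959
theorem L10963 : sm ge N1277 = N1075 := ded_37_1 (flp_h L9197) L9181 L10959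
theorem L10965 : sm gf N1277 = N1277 := ded_40_1 (flp_h L10959) L9188 L10959
theorem L10966 : sm gh N1074 = N1278 := rfl
theorem L10968 : sm ga N1278 = N1278 := ded_15_1 (flp_h L10966) L9191 L10966
theorem L10969 : sm gc N1278 = N1278 := ded_28_1 (flp_h L10966) L9192 L10966
theorem L10970 : sm gf N1278 = N1278 := ded_40_1 (flp_h L10966) L9196 L10966
theorem L10971 : sm gg N1278 = N1075 := ded_42_1 (flp_h L9197) L9189 L10966
theorem L10973 : sm gi N1075 = N1279 := rfl
theorem L10975 : sm ga N1279 = N1279 := ded_16_1 (flp_i L10973) L9199 L10973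
theorem L10976 : sm gc N1279 = N1279 := ded_29_1 (flp_i L10973) L9200 L10973
theorem L10977 : sm gf N1279 = N1076 := ded_41_1 (flp_i L9203) (flp_f L9201) L10973
theorem L10979 : sm gh N1279 = N1279 := ded_44_1 (flp_i L10973) (flp_h L9197) L7591 L9197 L10973
theorem L10980 : sm ge N1077 = N1280 := rfl
theorem L10982 : sm ga N1280 = N1080 := ded_12_1 (flp_e L9238) (flp_a L9212) L10980
theorem L10984 : sm gb N1280 = N1280 := ded_19_1 (flp_e L10980) L9214 L10980
theorem L10985 : sm gc N1280 = N1280 := ded_25_1 (flp_e L10980) L9215 L10980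
theorem L10986 : sm gi N1280 = N1280 := ded_38_2 (flp_e L10980) L9218 L10980
theorem L10987 : sm gf N1280 = N1280 := ded_35_2 (flp_e L10980) (flp_f L9210) L7616 L9210 L10980
theorem L10988 : sm gg N1077 = N1281 := rfl
theorem L10990 : sm ga N1281 = N1081 := ded_14_1 (flp_g L9245) (flp_a L9212) L10988
theorem L10992 : sm gb N1281 = N1281 := ded_21_1 (flp_g L10988) L9214 L10988
theorem L10993 : sm gc N1281 = N1281 := ded_27_1 (flp_g L10988) L9215 L10988
theorem L10994 : sm gd N1281 = N1079 := ded_32_1 (flp_g L9228) (flp_d L9216) L10988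
theorem L10996 : sm gi N1281 = N1281 := ded_43_2 (flp_g L10988) L9218 L10988
theorem L10997 : sm gf N1281 = N1151 := ded_39_1 (flp_g L9813) (flp_f L8218) (flp_g L7612) L9210 L10988
theorem L10999 : sm gh N1077 = N1282 := rfl
theorem L11001 : sm ga N1282 = N1082 := ded_15_1 (flp_h L9255) (flp_a L9212) L10999
theorem L11003 : sm gb N1282 = N1282 := ded_22_1 (flp_h L10999) L9214 L10999
theorem L11004 : sm gc N1282 = N1282 := ded_28_1 (flp_h L10999) L9215 L10999
theorem L11005 : sm gf N1282 = N1078 := ded_40_1 (flp_h L9219) L9210 L10999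
theorem L11007 : sm gi N1078 = N1283 := rfl
theorem L11009 : sm ga N1283 = N1083 := ded_16_1 (flp_i L9262) (flp_a L9221) L11007
theorem L11011 : sm gb N1283 = N1283 := ded_23_1 (flp_i L11007) L9223 L11007
theorem L11012 : sm gc N1283 = N1283 := ded_29_1 (flp_i L11007) L9224 L11007
theorem L11013 : sm ge N1283 = N1283 := ded_38_1 (flp_i L11007) L9225 L11007
theorem L11014 : sm gg N1283 = N1137 := ded_43_1 L9699 (flp_g L9226) L11007
theorem L11016 : sm gh N1283 = N1283 := ded_44_1 (flp_i L11007) (flp_h L9219) L7614 L9219 L11007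
theorem L11017 : sm gg N1080 = N1284 := rfl
theorem L11019 : sm gb N1284 = N1084 := ded_21_1 (flp_g L9271) (flp_b L9240) L11017
theorem L11021 : sm gc N1284 = N1284 := ded_27_1 (flp_g L11017) L9242 L11017
theorem L11022 : sm ge N1284 = N1081 := ded_36_1 (flp_g L9245) L9238 L11017
theorem L11024 : sm gi N1284 = N1284 := ded_43_2 (flp_g L11017) L9243 L11017
theorem L11025 : sm gh N1080 = N1285 := rfl
theorem L11027 : sm gb N1285 = N1085 := ded_22_1 (flp_h L9279) (flp_b L9240) L11025
theorem L11029 : sm gc N1285 = N1285 := ded_28_1 (flp_h L11025) L9242 L11025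
theorem L11030 : sm ge N1285 = N1082 := ded_37_1 (flp_h L9255) L9238 L11025
theorem L11032 : sm gf N1285 = N1285 := ded_40_1 (flp_h L11025) L9244 L11025
theorem L11033 : sm gd N1085 = N1286 := rfl
theorem L11035 : sm ga N1286 = N1286 := ded_11_1 (flp_d L11033) L9281 L11033
theorem L11036 : sm gf N1286 = N1286 := ded_31_2 (flp_d L11033) L9286 L11033
theorem L11037 : sm gc N1086 = N1287 := rfl
theorem L11039 : sm ga N1287 = N1287 := ded_10_1 (flp_c L11037) L9289 L11037
theorem L11040 : sm ge N1287 = N1287 := ded_25_2 (flp_c L11037) L9292 L11037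
theorem L11041 : sm gf N1287 = N1287 := ded_26_2 (flp_c L11037) L9291 L11037
theorem L11042 : sm gh N1287 = N1287 := ded_28_2 (flp_c L11037) L9293 L11037
theorem L11043 : sm gg N1087 = N1288 := rfl
theorem L11045 : sm gd N1288 = N1288 := ded_32_1 (flp_g L11043) L9296 L11043
theorem L11046 : sm ge N1288 = N1288 := ded_36_1 (flp_g L11043) L9300 L11043
theorem L11047 : sm gh N1288 = N1091 := ded_42_2 (flp_g L9327) (flp_h L9297) L11043
theorem L11049 : sm gi N1288 = N1288 := ded_43_2 (flp_g L11043) L9299 L11043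
theorem L11050 : sm gf N1288 = N1288 := ded_39_1 (flp_g L11043) (flp_f L9294) L7700 L9294 L11043
theorem L11051 : sm gd N1088 = N1289 := rfl
theorem L11053 : sm ga N1289 = N1108 := ded_11_1 L9453 (flp_a L9303) L11051
theorem L11055 : sm gb N1289 = N1089 := ded_18_1 (flp_d L9312) (flp_b L9305) L11051
theorem L11057 : sm gg N1289 = N1289 := ded_32_2 (flp_d L11051) L9307 L11051
theorem L11058 : sm gi N1289 = N1093 := ded_34_2 (flp_d L9345) (flp_i L9310) L11051
theorem L11060 : sm ge N1289 = N1289 := ded_30_2 (flp_d L11051) (flp_e L9301) L7707 L9301 L11051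
theorem L11061 : sm gh N1289 = N1104 := ded_33_2 (flp_d L9423) L7810 L7947 (flp_h L9308) L11051
theorem L11063 : sm gf N1088 = N1290 := rfl
theorem L11065 : sm ga N1290 = N1129 := ded_13_1 L9627 (flp_a L9303) L11063
theorem L11067 : sm gb N1290 = N1090 := ded_20_1 (flp_f L9320) (flp_b L9305) L11063
theorem L11069 : sm gh N1290 = N1124 := ded_40_2 (flp_f L9582) (flp_h L9308) L11063
theorem L11071 : sm gi N1290 = N1094 := ded_41_2 (flp_f L9351) (flp_i L9310) L11063
theorem L11073 : sm ge N1290 = N1290 := ded_35_1 (flp_f L11063) (flp_e L9301) L7708 L9301 L11063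
theorem L11074 : sm gf N1089 = N1291 := rfl
theorem L11076 : sm gc N1291 = N1101 := ded_26_1 (flp_f L9402) (flp_c L9317) L11074
theorem L11078 : sm gd N1291 = N1090 := ded_31_1 (flp_f L9320) L9312 L11074
theorem L11080 : sm gi N1291 = N1095 := ded_41_2 (flp_f L9357) (flp_i L9315) L11074
theorem L11082 : sm gg N1090 = N1292 := rfl
theorem L11084 : sm gc N1292 = N1091 := ded_27_1 (flp_g L9327) (flp_c L9322) L11082
theorem L11086 : sm ge N1292 = N1292 := ded_36_1 (flp_g L11082) L9326 L11082
theorem L11087 : sm gi N1292 = N1097 := ded_43_2 (flp_g L9370) (flp_i L9324) L11082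
theorem L11089 : sm gf N1292 = N1292 := ded_39_1 (flp_g L11082) (flp_f L9320) L7720 L9320 L11082
theorem L11090 : sm gd N1092 = N1293 := rfl
theorem L11092 : sm ga N1293 = N1093 := ded_11_1 (flp_d L9345) (flp_a L9337) L11090
theorem L11094 : sm gb N1293 = N1113 := ded_18_1 L9482 (flp_b L9339) L11090
theorem L11096 : sm gg N1293 = N1293 := ded_32_2 (flp_d L11090) L9341 L11090
theorem L11097 : sm gi N1293 = N1108 := ded_34_2 L9453 (flp_i L9343) L11090
theorem L11099 : sm ge N1293 = N1293 := ded_30_2 (flp_d L11090) (flp_e L9335) L7732 L9335 L11090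
theorem L11100 : sm gf N1092 = N1294 := rfl
theorem L11102 : sm ga N1294 = N1094 := ded_13_1 (flp_f L9351) (flp_a L9337) L11100
theorem L11104 : sm gb N1294 = N1131 := ded_20_1 L9640 (flp_b L9339) L11100
theorem L11106 : sm gh N1294 = N1294 := ded_40_2 (flp_f L11100) L9342 L11100
theorem L11107 : sm gi N1294 = N1129 := ded_41_2 L9627 (flp_i L9343) L11100
theorem L11109 : sm ge N1294 = N1294 := ded_35_1 (flp_f L11100) (flp_e L9335) L7733 L9335 L11100
theorem L11110 : sm gc N1093 = N1295 := rfl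
theorem L11112 : sm ge N1295 = N1295 := ded_25_2 (flp_c L11110) L9350 L11110
theorem L11113 : sm gg N1295 = N1295 := ded_27_2 (flp_c L11110) L9349 L11110
theorem L11114 : sm gb N1295 = N1106 := ded_17_1 (flp_c L9437) L7814 (flp_c L7749) (flp_b L9347) L11110
theorem L11116 : sm gf N1093 = N1296 := rfl
theorem L11118 : sm gb N1296 = N1095 := ded_20_1 (flp_f L9357) (flp_b L9347) L11116
theorem L11120 : sm gd N1296 = N1094 := ded_31_1 (flp_f L9351) L9345 L11116
theorem L11122 : sm gh N1093 = N1297 := rfl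
theorem L11124 : sm gb N1297 = N1096 := ded_22_1 (flp_h L9363) (flp_b L9347) L11122
theorem L11126 : sm ge N1297 = N1297 := ded_37_1 (flp_h L11122) L9350 L11122
theorem L11127 : sm gg N1297 = N1297 := ded_42_1 (flp_h L11122) L9349 L11122
theorem L11128 : sm gd N1297 = N1297 := ded_33_1 (flp_h L11122) (flp_d L9345) L7745 L9345 L11122
theorem L11129 : sm gg N1094 = N1298 := rfl
theorem L11131 : sm gb N1298 = N1097 := ded_21_1 (flp_g L9370) (flp_b L9353) L11129
theorem L11133 : sm ge N1298 = N1298 := ded_36_1 (flp_g L11129) L9356 L11129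
theorem L11134 : sm gh N1298 = N1298 := ded_42_2 (flp_g L11129) L9355 L11129
theorem L11135 : sm gf N1298 = N1298 := ded_39_1 (flp_g L11129) (flp_f L9351) L7744 L9351 L11129
theorem L11136 : sm ge N1095 = N1299 := rfl
theorem L11138 : sm gc N1299 = N1110 := ded_25_1 (flp_e L9464) (flp_c L9359) L11136
theorem L11140 : sm gd N1299 = N1299 := ded_30_1 (flp_e L11136) L9361 L7757 (flp_d L9361) L11136
theorem L11141 : sm gf N1299 = N1299 := ded_35_2 (flp_e L11136) (flp_f L9357) L7751 L9357 L11136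
theorem L11142 : sm gg N1095 = N1300 := rfl
theorem L11144 : sm gc N1300 = N1111 := ded_27_1 (flp_g L9469) (flp_c L9359) L11142
theorem L11146 : sm gd N1300 = N1097 := ded_32_1 (flp_g L9370) (flp_d L9361) L11142
theorem L11148 : sm gf N1300 = N1300 := ded_39_1 (flp_g L11142) (flp_f L9357) L7748 L9357 L11142
theorem L11149 : sm gh N1095 = N1301 := rfl
theorem L11151 : sm gc N1301 = N1112 := ded_28_1 (flp_h L9474) (flp_c L9359) L11149
theorem L11153 : sm gf N1301 = N1096 := ded_40_1 (flp_h L9363) L9357 L11149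
theorem L11155 : sm gd N1301 = N1301 := ded_33_1 (flp_h L11149) L9361 L7756 (flp_d L9361) L11149
theorem L11156 : sm gi N1096 = N1302 := rfl
theorem L11158 : sm gc N1302 = N1113 := ded_29_1 (flp_i L9480) (flp_c L9365) L11156
theorem L11160 : sm gd N1302 = N1302 := ded_34_1 (flp_i L11156) L9369 L11156
theorem L11161 : sm ge N1302 = N1302 := ded_38_1 (flp_i L11156) L9367 L11156
theorem L11162 : sm gg N1302 = N1302 := ded_43_1 (flp_i L11156) L9368 L11156
theorem L11163 : sm gd N1098 = N1303 := rfl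
theorem L11165 : sm ga N1303 = N1099 := ded_11_1 (flp_d L9385) (flp_a L9379) L11163
theorem L11167 : sm gg N1303 = N1303 := ded_32_2 (flp_d L11163) L9381 L11163
theorem L11168 : sm gi N1303 = N1104 := ded_34_2 (flp_d L9423) (flp_i L9383) L11163
theorem L11170 : sm ge N1303 = N1303 := ded_30_2 (flp_d L11163) (flp_e L9377) L7767 L9377 L11163
theorem L11171 : sm gf N1098 = N1304 := rfl
theorem L11173 : sm ga N1304 = N1100 := ded_13_1 (flp_f L9393) (flp_a L9379) L11171
theorem L11175 : sm gb N1304 = N1122 := ded_20_1 (flp_f L9930) L9923 L11171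
theorem L11177 : sm gh N1304 = N1304 := ded_40_2 (flp_f L11171) L9382 L11171
theorem L11178 : sm gi N1304 = N1105 := ded_41_2 (flp_f L9429) (flp_i L9383) L11171
theorem L11180 : sm ge N1304 = N1114 := ded_35_1 (flp_f L9486) (flp_e L7845) (flp_f L7768) L9377 L11171
theorem L11182 : sm gg N1121 = N1304 := ded_21_0 L11175 (flp_g L9568) (flp_b L9564)
theorem L11184 : sm gc N1099 = N1305 := rfl
theorem L11186 : sm ge N1305 = N1305 := ded_25_2 (flp_c L11184) L9392 L11184
theorem L11187 : sm gg N1305 = N1305 := ded_27_2 (flp_c L11184) L9389 L11184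
theorem L11188 : sm gi N1305 = N1106 := ded_29_2 (flp_c L9437) (flp_i L9390) L11184
theorem L11190 : sm gf N1099 = N1306 := rfl
theorem L11192 : sm gb N1306 = N1101 := ded_20_1 (flp_f L9402) (flp_b L9387) L11190
theorem L11194 : sm gd N1306 = N1100 := ded_31_1 (flp_f L9393) L9385 L11190
theorem L11196 : sm gi N1306 = N1107 := ded_41_2 (flp_f L9441) (flp_i L9390) L11190
theorem L11198 : sm gh N1099 = N1307 := rfl
theorem L11200 : sm gb N1307 = N1102 := ded_22_1 (flp_h L9408) (flp_b L9387) L11198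
theorem L11202 : sm ge N1307 = N1307 := ded_37_1 (flp_h L11198) L9392 L11198
theorem L11203 : sm gg N1307 = N1307 := ded_42_1 (flp_h L11198) L9389 L11198
theorem L11204 : sm gd N1307 = N1307 := ded_33_1 (flp_h L11198) (flp_d L9385) L7779 L9385 L11198
theorem L11205 : sm gg N1100 = N1308 := rfl
theorem L11207 : sm ga N1308 = N1121 := ded_14_1 L11182 L11173 L11205
theorem L11209 : sm gb N1308 = N1103 := ded_21_1 (flp_g L9413) (flp_b L9395) L11205
theorem L11211 : sm ge N1308 = N1117 := ded_36_1 (flp_g L9525) (flp_e L9400) L11205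
theorem L11213 : sm gh N1308 = N1308 := ded_42_2 (flp_g L11205) L9397 L11205
theorem L11214 : sm gi N1308 = N1109 := ded_43_2 (flp_g L9455) (flp_i L9398) L11205
theorem L11216 : sm gf N1308 = N1308 := ded_39_1 (flp_g L11205) (flp_f L9393) L7778 L9393 L11205
theorem L11217 : sm ge N1101 = N1309 := rfl
theorem L11219 : sm gi N1309 = N1110 := ded_38_2 (flp_e L9464) (flp_i L9406) L11217
theorem L11221 : sm gd N1309 = N1118 := ded_30_1 (flp_e L9538) L7881 (flp_e L7795) (flp_d L9404) L11217
theorem L11223 : sm gf N1309 = N1309 := ded_35_2 (flp_e L11217) (flp_f L9402) L7787 L9402 L11217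
theorem L11224 : sm gg N1101 = N1310 := rfl
theorem L11226 : sm gd N1310 = N1103 := ded_32_1 (flp_g L9413) (flp_d L9404) L11224
theorem L11228 : sm gi N1310 = N1111 := ded_43_2 (flp_g L9469) (flp_i L9406) L11224
theorem L11230 : sm gf N1310 = N1310 := ded_39_1 (flp_g L11224) (flp_f L9402) L7784 L9402 L11224
theorem L11231 : sm gh N1101 = N1311 := rfl
theorem L11233 : sm gf N1311 = N1102 := ded_40_1 (flp_h L9408) L9402 L11231
theorem L11235 : sm gd N1311 = N1311 := ded_33_1 (flp_h L11231) L9404 L7792 (flp_d L9404) L11231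
theorem L11236 : sm gi N1102 = N1312 := rfl
theorem L11238 : sm gd N1312 = N1312 := ded_34_1 (flp_i L11236) L9412 L11236
theorem L11239 : sm ge N1312 = N1312 := ded_38_1 (flp_i L11236) L9410 L11236
theorem L11240 : sm gg N1312 = N1312 := ded_43_1 (flp_i L11236) L9411 L11236
theorem L11241 : sm gh N1312 = N1113 := ded_44_1 (flp_i L9480) (flp_h L7830) (flp_i L7785) L9408 L11236
theorem L11243 : sm gc N1104 = N1313 := rfl
theorem L11245 : sm ga N1313 = N1106 := ded_10_1 (flp_c L9437) (flp_a L9425) L11243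
theorem L11247 : sm ge N1313 = N1313 := ded_25_2 (flp_c L11243) L9428 L11243
theorem L11248 : sm gg N1313 = N1313 := ded_27_2 (flp_c L11243) L9427 L11243
theorem L11249 : sm gf N1104 = N1314 := rfl
theorem L11251 : sm ga N1314 = N1107 := ded_13_1 (flp_f L9441) (flp_a L9425) L11249
theorem L11253 : sm gd N1314 = N1105 := ded_31_1 (flp_f L9429) L9423 L11249
theorem L11255 : sm gg N1105 = N1315 := rfl
theorem L11257 : sm ga N1315 = N1109 := ded_14_1 (flp_g L9455) (flp_a L9431) L11255
theorem L11259 : sm gb N1315 = N1118 := ded_21_1 L10010 L10001 L11255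
theorem L11261 : sm ge N1315 = N1116 := ded_36_1 L9523 (flp_e L9435) L11255
theorem L11263 : sm gh N1315 = N1125 := ded_42_2 (flp_g L9590) (flp_h L9433) L11255
theorem L11265 : sm gi N1315 = N1121 := ded_43_2 L11182 L11178 L11255
theorem L11267 : sm gf N1315 = N1315 := ded_39_1 (flp_g L11255) (flp_f L9429) L7809 L9429 L11255
theorem L11268 : sm gf N1106 = N1316 := rfl
theorem L11270 : sm gc N1316 = N1107 := ded_26_1 (flp_f L9441) L9437 L11268
theorem L11272 : sm gh N1106 = N1317 := rfl
theorem L11274 : sm gc N1317 = N1108 := ded_28_1 (flp_h L9447) L9437 L11272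
theorem L11276 : sm ge N1317 = N1317 := ded_37_1 (flp_h L11272) L9439 L11272
theorem L11277 : sm gg N1317 = N1317 := ded_42_1 (flp_h L11272) L9440 L11272
theorem L11278 : sm ge N1107 = N1318 := rfl
theorem L11280 : sm gb N1318 = N1110 := ded_19_1 (flp_e L9464) (flp_b L9443) L11278
theorem L11282 : sm gd N1318 = N1121 := ded_30_1 (flp_e L9562) L7923 (flp_e L7824) (flp_d L9445) L11278
theorem L11284 : sm gf N1318 = N1318 := ded_35_2 (flp_e L11278) (flp_f L9441) L7817 L9441 L11278
theorem L11285 : sm gg N1107 = N1319 := rfl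
theorem L11287 : sm gb N1319 = N1111 := ded_21_1 (flp_g L9469) (flp_b L9443) L11285
theorem L11289 : sm gd N1319 = N1109 := ded_32_1 (flp_g L9455) (flp_d L9445) L11285
theorem L11291 : sm gf N1319 = N1319 := ded_39_1 (flp_g L11285) (flp_f L9441) L7816 L9441 L11285
theorem L11292 : sm gh N1107 = N1320 := rfl
theorem L11294 : sm gb N1320 = N1112 := ded_22_1 (flp_h L9474) (flp_b L9443) L11292
theorem L11296 : sm gf N1320 = N1108 := ded_40_1 (flp_h L9447) L9441 L11292
theorem L11298 : sm gd N1320 = N1129 := ded_33_1 (flp_h L9622) L7973 (flp_h L7822) (flp_d L9445) L11292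
theorem L11300 : sm gg N1110 = N1321 := rfl
theorem L11302 : sm gd N1321 = N1122 := ded_32_1 (flp_g L9568) (flp_d L9466) L11300
theorem L11304 : sm ge N1321 = N1111 := ded_36_1 (flp_g L9469) L9464 L11300
theorem L11306 : sm gh N1110 = N1322 := rfl
theorem L11308 : sm ge N1322 = N1112 := ded_37_1 (flp_h L9474) L9464 L11306
theorem L11310 : sm gf N1322 = N1322 := ded_40_1 (flp_h L11306) L9468 L11306
theorem L11311 : sm gd N1322 = N1322 := ded_33_1 (flp_h L11306) L9466 L7937 (flp_d L9466) L11306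
theorem L11312 : sm gh N1111 = N1323 := rfl
theorem L11314 : sm gf N1323 = N1323 := ded_40_1 (flp_h L11312) L9473 L11312
theorem L11315 : sm gg N1323 = N1112 := ded_42_1 (flp_h L9474) L9469 L11312
theorem L11317 : sm gd N1323 = N1130 := ded_33_1 (flp_h L9629) L7995 (flp_h L7842) (flp_d L9471) L11312
theorem L11319 : sm gi N1112 = N1324 := rfl
theorem L11321 : sm gd N1324 = N1131 := ded_34_1 (flp_i L9636) (flp_d L9478) L11319
theorem L11323 : sm gf N1324 = N1113 := ded_41_1 (flp_i L9480) (flp_f L9476) L11319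
theorem L11325 : sm ge N1120 = N1325 := rfl
theorem L11327 : sm gb N1325 = N1325 := ded_19_1 (flp_e L11325) L9558 L11325
theorem L11328 : sm gc N1325 = N1121 := ded_25_1 (flp_e L9562) (flp_c L9559) L11325
theorem L11330 : sm gh N1325 = N1325 := ded_37_2 (flp_e L11325) L9561 L11325
theorem L11331 : sm gf N1325 = N1325 := ded_35_2 (flp_e L11325) (flp_f L9556) L7914 L9556 L11325
theorem L11332 : sm gf N1123 = N1326 := rfl
theorem L11334 : sm ga N1326 = N1126 := ded_13_1 (flp_f L9598) (flp_a L9576) L11332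
theorem L11336 : sm gc N1326 = N1124 := ded_26_1 (flp_f L9582) L9574 L11332
theorem L11338 : sm gi N1326 = N1326 := ded_41_2 (flp_f L11332) L9581 L11332
theorem L11339 : sm ge N1326 = N1326 := ded_35_1 (flp_f L11332) L9578 L8025 (flp_e L9578) L11332
theorem L11340 : sm gg N1124 = N1327 := rfl
theorem L11342 : sm ga N1327 = N1128 := ded_14_1 (flp_g L9613) (flp_a L9584) L11340
theorem L11344 : sm gd N1327 = N1125 := ded_32_1 (flp_g L9590) (flp_d L9586) L11340
theorem L11346 : sm ge N1327 = N1327 := ded_36_1 (flp_g L11340) L9589 L11340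
theorem L11347 : sm gi N1327 = N1327 := ded_43_2 (flp_g L11340) L9588 L11340
theorem L11348 : sm gf N1327 = N1327 := ded_39_1 (flp_g L11340) (flp_f L9582) L7951 L9582 L11340
theorem L11349 : sm gg N1126 = N1328 := rfl
theorem L11351 : sm gb N1328 = N1328 := ded_21_1 (flp_g L11349) L9600 L11349
theorem L11352 : sm gc N1328 = N1128 := ded_27_1 (flp_g L9613) (flp_c L9601) L11349
theorem L11354 : sm ge N1328 = N1328 := ded_36_1 (flp_g L11349) L9604 L11349
theorem L11355 : sm gi N1328 = N1328 := ded_43_2 (flp_g L11349) L9603 L11349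
theorem L11356 : sm gf N1328 = N1328 := ded_39_1 (flp_g L11349) (flp_f L9598) L7966 L9598 L11349
theorem L11357 : sm gh N1126 = N1329 := rfl
theorem L11359 : sm gb N1329 = N1329 := ded_22_1 (flp_h L11357) L9600 L11357
theorem L11360 : sm gc N1329 = N1129 := ded_28_1 (flp_h L9622) (flp_c L9601) L11357
theorem L11362 : sm ge N1329 = N1329 := ded_37_1 (flp_h L11357) L9604 L11357
theorem L11363 : sm gf N1329 = N1127 := ded_40_1 (flp_h L9605) L9598 L11357
theorem L11365 : sm gd N1127 = N1330 := rfl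
theorem L11367 : sm gb N1330 = N1330 := ded_18_1 (flp_d L11365) L9607 L11365
theorem L11368 : sm gg N1330 = N1330 := ded_32_2 (flp_d L11365) L9612 L11365
theorem L11369 : sm gh N1128 = N1331 := rfl
theorem L11371 : sm gb N1331 = N1130 := ded_22_1 (flp_h L9629) (flp_b L9615) L11369
theorem L11373 : sm ge N1331 = N1331 := ded_37_1 (flp_h L11369) L9619 L11369
theorem L11374 : sm gf N1331 = N1331 := ded_40_1 (flp_h L11369) L9621 L11369
theorem L11375 : sm gg N1331 = N1129 := ded_42_1 (flp_h L9622) L9613 L11369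
theorem L11377 : sm gi N1130 = N1332 := rfl
theorem L11379 : sm gc N1332 = N1332 := ded_29_1 (flp_i L11377) L9631 L11377
theorem L11380 : sm ge N1332 = N1332 := ded_38_1 (flp_i L11377) L9632 L11377
theorem L11381 : sm gf N1332 = N1332 := ded_41_1 (flp_i L11377) L9633 L11377
theorem L11382 : sm gg N1332 = N1131 := ded_43_1 (flp_i L9636) (flp_g L9634) L11377
theorem L11384 : sm gh N1332 = N1332 := ded_44_1 (flp_i L11377) (flp_h L9629) L7998 L9629 L11377
theorem L11385 : sm ge N1132 = N1333 := rfl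
theorem L11387 : sm gb N1333 = N1333 := ded_19_1 (flp_e L11385) L9645 L11385
theorem L11388 : sm gc N1333 = N1333 := ded_25_1 (flp_e L11385) L9648 L11385
theorem L11389 : sm gg N1333 = N1333 := ded_36_2 (flp_e L11385) L9647 L11385
theorem L11390 : sm gh N1333 = N1333 := ded_37_2 (flp_e L11385) L9649 L11385
theorem L11391 : sm gd N1134 = N1334 := rfl
theorem L11393 : sm ga N1334 = N1135 := ded_11_1 (flp_d L9673) (flp_a L9663) L11391
theorem L11395 : sm gb N1334 = N1334 := ded_18_1 (flp_d L11391) L9665 L11391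
theorem L11396 : sm gf N1334 = N1148 := ded_31_2 L9799 L9671 L11391
theorem L11398 : sm gi N1334 = N1136 := ded_34_2 (flp_d L9685) (flp_i L9669) L11391
theorem L11400 : sm ge N1334 = N1143 := ded_30_2 (flp_d L9745) (flp_e L8115) (flp_d L8049) L9661 L11391
theorem L11402 : sm gh N1334 = N1144 := ded_33_2 L9763 L8181 (flp_d L8224) (flp_h L9667) L11391
theorem L11404 : sm gc N1146 = N1334 := ded_25_3 L11400 L9754 (flp_e L9783)
theorem L11406 : sm gc N1135 = N1335 := rfl
theorem L11408 : sm ga N1335 = N1146 := ded_10_1 L11404 L11393 L11406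
theorem L11410 : sm ge N1335 = N1144 := ded_25_2 (flp_c L9756) (flp_e L9681) L11406
theorem L11412 : sm gf N1335 = N1149 := ded_26_2 L9804 (flp_f L9677) L11406
theorem L11414 : sm gh N1335 = N1143 := ded_28_2 L9754 (flp_h L9683) L11406
theorem L11416 : sm gi N1335 = N1138 := ded_29_2 (flp_c L9702) (flp_i L9679) L11406
theorem L11418 : sm gb N1335 = N1335 := ded_17_1 (flp_c L11406) L9675 L8073 (flp_b L9675) L11406
theorem L11419 : sm gd N1335 = N1335 := ded_24_2 (flp_c L11406) (flp_d L9673) L8059 L9673 L11406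
theorem L11420 : sm gc N1136 = N1336 := rfl
theorem L11422 : sm ga N1336 = N1138 := ded_10_1 (flp_c L9702) (flp_a L9687) L11420
theorem L11424 : sm ge N1336 = N1145 := ded_25_2 L9773 (flp_e L9690) L11420
theorem L11426 : sm gi N1336 = N1146 := ded_29_2 L11404 L11398 L11420
theorem L11428 : sm gd N1336 = N1336 := ded_24_2 (flp_c L11420) (flp_d L9685) L8083 L9685 L11420
theorem L11429 : sm gb N1336 = N1142 := ded_46_5 L9736 (flp_h L9734) (flp_f L8100) L6543 (flp_d L5111) L3998 L3126 (flp_a L2756) L2759 L2777 L2785 L2782 L2221 L2220 L2218 L2021 (flp_f L2018) (flp_e L1608) (flp_d L1253) L961 L690 (flp_a L867) (flp_h L865) L618 L433 L431 L273 (flp_b L387) L386 L392 (flp_f L565) L564 (flp_d L797) L796 L794 L614 L688 L691 L488 L490 (flp_c L706) (flp_b L976) L975 (flp_h L973) (flp_f L945) (flp_e L1220) (flp_d L1570) (flp_c L1952) L1951 L1950 L2457 L2464 L2463 L3102 L3959 L5049 L6525 L6531 L6530 L8078 L9685 L11420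
theorem L11431 : sm gf N1140 = N1336 := ded_46_8 L11424 L9775 L8139 L6716 (flp_a L5777) L5785 (flp_f L5775) (flp_e L4417) L3466 (flp_c L3458) L2741 L2739 L2518 L2515 L3185 L3190 (flp_c L4081) (flp_b L5214) (flp_a L6688) L6692 (flp_f L6697) L5250 (flp_d L5246) (flp_c L5107) L5105 L3997 L4000 L4033 L4039 (flp_d L5160) L5158 L4052 L4051 (flp_h L5750) L5748 L4060 L4061 (flp_c L5166) (flp_b L6666) (flp_a L8229) (flp_h L8227) L8218 (flp_e L9654) L9653 L9652 L9660 (flp_a L9650) L8042 L6510 L8055 L9673 L11406 L11418 L11408 (flp_h L9779) L9767 (flp_e L11424) L11428 (flp_c L11420) L9689 L9687 L9716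
theorem L11433 : sm gh N1336 = N1139 := ded_46_7 (flp_f L9708) L8089 (flp_d L6606) L5107 L4101 (flp_a L3485) L3489 L3516 L3524 L3522 L3520 L2781 L2779 (flp_h L3206) (flp_f L3203) (flp_e L2525) (flp_d L2002) L1601 (flp_b L1968) L1967 (flp_h L1965) L1573 L1572 L1570 L1219 L1217 (flp_a L1108) L1412 L1421 L1419 L1423 L1431 L1427 L1425 L1259 L1255 L1275 L1281 L1277 (flp_b L1630) L1629 L1633 L2041 (flp_e L2511) (flp_d L3149) (flp_c L4036) (flp_b L5149) (flp_a L6649) (flp_h L8181) (flp_f L8174) (flp_e L6597) (flp_d L6528) L6527 L6532 (flp_a L6525) L5054 L5053 L6533 L8085 L9702 L9706 (flp_a L11422)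
theorem L11435 : sm gf N1136 = N1337 := rfl
theorem L11437 : sm ga N1337 = N1139 := ded_13_1 (flp_f L9708) (flp_a L9687) L11435
theorem L11439 : sm gb N1337 = N1337 := ded_20_1 (flp_f L11435) L9689 L11435
theorem L11440 : sm gc N1337 = N1140 := ded_26_1 L11431 (flp_c L11420) L11435
theorem L11442 : sm gd N1337 = N1137 := ded_31_1 (flp_f L9692) L9685 L11435
theorem L11444 : sm gi N1337 = N1148 := ded_41_2 (flp_f L11396) L11398 L11435
theorem L11446 : sm ge N1337 = N1149 := ded_35_1 (flp_f L11412) L11410 (flp_f L9765) (flp_e L9690) L11435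
theorem L11448 : sm gh N1138 = N1337 := ded_46_0 (flp_f L11435) L9690 (flp_d L8169) L6602 (flp_b L5803) L5801 L4450 L4486 L4493 L4491 L4490 L4488 L3518 (flp_h L4114) (flp_f L4110) (flp_e L3197) L2524 (flp_c L2519) (flp_b L2477) L2476 L2480 L1977 L2488 L2494 (flp_c L2500) L2499 L2498 L2502 L3159 L3167 (flp_d L3239) L3238 L3237 L3236 L5703 L5689 L3247 L3249 L3246 L3245 L3244 (flp_h L3242) L3234 (flp_e L5712) L5026 L6496 L8036 L9650 L9657 L8051 L9661 L11391 (flp_c L11404) L9781 L8155 (flp_h L8153) L8145 (flp_e L9738) L9742 L9737 (flp_b L11429) L11422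
theorem L11450 : sm gh N1136 = N1338 := rfl
theorem L11452 : sm ga N1338 = N1140 := ded_15_1 (flp_h L9716) (flp_a L9687) L11450
theorem L11454 : sm gb N1338 = N1338 := ded_22_1 (flp_h L11450) L9689 L11450
theorem L11455 : sm gc N1338 = N1139 := ded_28_1 (flp_h L11433) (flp_c L11420) L11450
theorem L11457 : sm ge N1338 = N1148 := ded_37_1 (flp_h L9794) (flp_e L9690) L11450
theorem L11459 : sm gf N1338 = N1138 := ded_40_1 L11448 (flp_f L11435) L11450
theorem L11461 : sm gd N1338 = N1338 := ded_33_1 (flp_h L11450) (flp_d L9685) L8084 L9685 L11450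
theorem L11462 : sm gi N1338 = N1149 := ded_44_2 (flp_h L9801) (flp_i L9760) (flp_h L11402) L11398 L11450
theorem L11464 : sm ge N1139 = N1339 := rfl
theorem L11466 : sm ga N1339 = N1149 := ded_12_1 (flp_e L11446) L11437 L11464
theorem L11468 : sm gb N1339 = N1141 := ded_19_1 (flp_e L9723) (flp_b L9710) L11464
theorem L11470 : sm gc N1339 = N1148 := ded_25_1 (flp_e L11457) L11455 L11464
theorem L11472 : sm gh N1339 = N1145 := ded_37_2 (flp_e L11424) L11433 L11464
theorem L11474 : sm gi N1339 = N1140 := ded_38_2 L9720 (flp_i L9714) L11464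
theorem L11476 : sm gd N1339 = N1339 := ded_30_1 (flp_e L11464) L9712 L8099 (flp_d L9712) L11464
theorem L11477 : sm gf N1339 = N1146 := ded_35_2 L9783 (flp_f L8191) (flp_e L8089) L9708 L11464
theorem L11479 : sm gg N1152 = N1340 := rfl
theorem L11481 : sm ga N1340 = N1288 := ded_14_1 (flp_g L11043) (flp_a L9824) L11479
theorem L11483 : sm gb N1340 = N1340 := ded_21_1 (flp_g L11479) L9826 L11479
theorem L11484 : sm gc N1340 = N1176 := ded_27_1 (flp_g L10081) (flp_c L9827) L11479
theorem L11486 : sm gd N1340 = N1340 := ded_32_1 (flp_g L11479) L9829 L11479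
theorem L11487 : sm ge N1340 = N1340 := ded_36_1 (flp_g L11479) L9833 L11479
theorem L11488 : sm gh N1340 = N1155 := ded_42_2 (flp_g L9861) (flp_h L9830) L11479
theorem L11490 : sm gi N1340 = N1340 := ded_43_2 (flp_g L11479) L9832 L11479
theorem L11491 : sm gf N1340 = N1340 := ded_39_1 (flp_g L11479) (flp_f L9822) L8258 L9822 L11479
theorem L11492 : sm gf N1153 = N1341 := rfl
theorem L11494 : sm ga N1341 = N1291 := ded_13_1 (flp_f L11074) (flp_a L9836) L11492
theorem L11496 : sm gb N1341 = N1173 := ded_20_1 L10050 (flp_b L9838) L11492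
theorem L11498 : sm gc N1341 = N1164 := ded_26_1 (flp_f L9954) (flp_c L9843) L11492
theorem L11500 : sm gd N1341 = N1154 := ded_31_1 (flp_f L9848) L9834 L11492
theorem L11502 : sm gh N1341 = N1169 := ded_40_2 (flp_f L10012) (flp_h L9846) L11492
theorem L11504 : sm gi N1341 = N1158 := ded_41_2 (flp_f L9893) (flp_i L9841) L11492
theorem L11506 : sm gg N1154 = N1342 := rfl
theorem L11508 : sm ga N1342 = N1292 := ded_14_1 (flp_g L11082) (flp_a L9850) L11506
theorem L11510 : sm gb N1342 = N1177 := ded_21_1 L10097 (flp_b L9852) L11506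
theorem L11512 : sm gc N1342 = N1155 := ded_27_1 (flp_g L9861) (flp_c L9854) L11506
theorem L11514 : sm ge N1342 = N1342 := ded_36_1 (flp_g L11506) L9860 L11506
theorem L11515 : sm gh N1342 = N1176 := ded_42_2 (flp_g L10081) (flp_h L9856) L11506
theorem L11517 : sm gi N1342 = N1160 := ded_43_2 (flp_g L9910) (flp_i L9858) L11506
theorem L11519 : sm gf N1342 = N1342 := ded_39_1 (flp_g L11506) (flp_f L9848) L8271 L9848 L11506
theorem L11520 : sm gc N1156 = N1343 := rfl
theorem L11522 : sm ga N1343 = N1302 := ded_10_1 L11158 (flp_a L9874) L11520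
theorem L11524 : sm ge N1343 = N1343 := ded_25_2 (flp_c L11520) L9881 L11520
theorem L11525 : sm gg N1343 = N1343 := ded_27_2 (flp_c L11520) L9878 L11520
theorem L11526 : sm gi N1343 = N1159 := ded_29_2 L9905 (flp_i L9879) L11520
theorem L11528 : sm gb N1343 = N1165 := ded_17_1 L9966 L8386 (flp_c L8302) (flp_b L9876) L11520
theorem L11530 : sm gd N1343 = N1343 := ded_24_2 (flp_c L11520) (flp_d L9872) L8292 L9872 L11520
theorem L11531 : sm gh N1162 = N1343 := ded_44_5 L11526 (flp_h L9901) (flp_i L9841) L9846 (flp_i L9937)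
theorem L11533 : sm gf N1156 = N1344 := rfl
theorem L11535 : sm ga N1344 = N1324 := ded_13_1 L11323 (flp_a L9874) L11533
theorem L11537 : sm gb N1344 = N1158 := ded_20_1 (flp_f L9893) (flp_b L9876) L11533
theorem L11539 : sm gd N1344 = N1157 := ded_31_1 (flp_f L9882) L9872 L11533
theorem L11541 : sm gi N1344 = N1173 := ded_41_2 L10050 (flp_i L9879) L11533
theorem L11543 : sm gh N1156 = N1345 := rfl
theorem L11545 : sm ga N1345 = N1312 := ded_15_1 L11241 (flp_a L9874) L11543
theorem L11547 : sm gb N1345 = N1159 := ded_22_1 (flp_h L9901) (flp_b L9876) L11543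
theorem L11549 : sm gc N1345 = N1162 := ded_28_1 L11531 (flp_c L11520) L11543
theorem L11551 : sm ge N1345 = N1345 := ded_37_1 (flp_h L11543) L9881 L11543
theorem L11552 : sm gg N1345 = N1345 := ded_42_1 (flp_h L11543) L9878 L11543
theorem L11553 : sm gd N1345 = N1345 := ded_33_1 (flp_h L11543) (flp_d L9872) L8294 L9872 L11543
theorem L11554 : sm gi N1345 = N1165 := ded_44_2 (flp_h L9962) L8349 L8405 (flp_i L9879) L11543
theorem L11556 : sm gg N1157 = N1346 := rfl
theorem L11558 : sm ga N1346 = N1332 := ded_14_1 L11382 (flp_a L9884) L11556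
theorem L11560 : sm gb N1346 = N1160 := ded_21_1 (flp_g L9910) (flp_b L9886) L11556
theorem L11562 : sm gc N1346 = N1346 := ded_27_1 (flp_g L11556) L9888 L11556
theorem L11563 : sm ge N1346 = N1346 := ded_36_1 (flp_g L11556) L9892 L11556
theorem L11564 : sm gh N1346 = N1346 := ded_42_2 (flp_g L11556) L9889 L11556
theorem L11565 : sm gi N1346 = N1177 := ded_43_2 L10097 (flp_i L9890) L11556
theorem L11567 : sm gf N1346 = N1346 := ded_39_1 (flp_g L11556) (flp_f L9882) L8293 L9882 L11556
theorem L11568 : sm ge N1158 = N1347 := rfl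
theorem L11570 : sm ga N1347 = N1299 := ded_12_1 (flp_e L11136) (flp_a L9895) L11568
theorem L11572 : sm gc N1347 = N1171 := ded_25_1 (flp_e L10032) (flp_c L9897) L11568
theorem L11574 : sm gd N1347 = N1347 := ded_30_1 (flp_e L11568) L9899 L8312 (flp_d L9899) L11568
theorem L11575 : sm gf N1347 = N1347 := ded_35_2 (flp_e L11568) (flp_f L9893) L8304 L9893 L11568
theorem L11576 : sm gg N1158 = N1348 := rfl
theorem L11578 : sm ga N1348 = N1300 := ded_14_1 (flp_g L11142) (flp_a L9895) L11576
theorem L11580 : sm gc N1348 = N1172 := ded_27_1 (flp_g L10039) (flp_c L9897) L11576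
theorem L11582 : sm gd N1348 = N1160 := ded_32_1 (flp_g L9910) (flp_d L9899) L11576
theorem L11584 : sm gf N1348 = N1348 := ded_39_1 (flp_g L11576) (flp_f L9893) L8301 L9893 L11576
theorem L11585 : sm gh N1158 = N1349 := rfl
theorem L11587 : sm ga N1349 = N1301 := ded_15_1 (flp_h L11149) (flp_a L9895) L11585
theorem L11589 : sm gc N1349 = N1173 := ded_28_1 (flp_h L10046) (flp_c L9897) L11585
theorem L11591 : sm gf N1349 = N1159 := ded_40_1 (flp_h L9901) L9893 L11585
theorem L11593 : sm gd N1349 = N1349 := ded_33_1 (flp_h L11585) L9899 L8311 (flp_d L9899) L11585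
theorem L11594 : sm gd N1161 = N1350 := rfl
theorem L11596 : sm ga N1350 = N1162 := ded_11_1 (flp_d L9932) (flp_a L9921) L11594
theorem L11598 : sm gb N1350 = N1303 := ded_18_1 (flp_d L11163) (flp_b L9923) L11594
theorem L11600 : sm gf N1350 = N1321 := ded_31_2 L11302 (flp_f L9930) L11594
theorem L11602 : sm gg N1350 = N1350 := ded_32_2 (flp_d L11594) L9926 L11594
theorem L11603 : sm gi N1350 = N1167 := ded_34_2 (flp_d L9985) (flp_i L9928) L11594
theorem L11605 : sm ge N1350 = N1350 := ded_30_2 (flp_d L11594) (flp_e L9919) L8326 L9919 L11594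
theorem L11606 : sm gc N1312 = N1350 := ded_10_0 L11596 (flp_c L11549) L11545
theorem L11608 : sm gh N1302 = N1350 := ded_15_0 L11596 L11531 L11522
theorem L11610 : sm gf N1162 = N1351 := rfl
theorem L11612 : sm ga N1351 = N1321 := ded_13_1 (flp_f L11600) L11596 L11610
theorem L11614 : sm gb N1351 = N1164 := ded_20_1 (flp_f L9954) (flp_b L9934) L11610
theorem L11616 : sm gd N1351 = N1163 := ded_31_1 (flp_f L9940) L9932 L11610
theorem L11618 : sm gi N1351 = N1169 := ded_41_2 (flp_f L10012) (flp_i L9937) L11610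
theorem L11620 : sm ge N1351 = N1172 := ded_47_3 L10043 L8417 L6926 L6929 (flp_g L5561) (flp_f L4338) (flp_e L3387) (flp_d L2675) L2139 (flp_b L2059) (flp_h L2056) L1652 L1650 L1309 L1026 (flp_c L1002) L1001 L1009 L1007 L749 L527 (flp_d L536) L535 L534 L752 L759 L758 L757 L760 L756 L755 (flp_h L752) L540 L539 L538 L536 L353 L239 L174 L173 L172 (flp_e L274) (flp_d L431) (flp_c L625) L624 L873 L881 (flp_f L1123) (flp_e L1419) L1772 L2200 L2762 (flp_h L3480) (flp_g L4298) (flp_f L5426) L6898 L8384 (flp_c L9966) (flp_b L11528) (flp_h L11531) L9936 L11610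
theorem L11622 : sm gg N1171 = N1351 := ded_14_0 L11612 (flp_g L11300) (flp_a L10034)
theorem L11624 : sm ge N1164 = N1352 := rfl
theorem L11626 : sm ga N1352 = N1309 := ded_12_1 (flp_e L11217) (flp_a L9956) L11624
theorem L11628 : sm gb N1352 = N1172 := ded_19_1 (flp_e L11620) L11614 L11624
theorem L11630 : sm gi N1352 = N1171 := ded_38_2 (flp_e L10032) (flp_i L9960) L11624
theorem L11632 : sm gd N1352 = N1170 := ded_30_1 L10025 L8445 (flp_e L8361) (flp_d L9958) L11624
theorem L11634 : sm gf N1352 = N1352 := ded_35_2 (flp_e L11624) (flp_f L9954) L8351 L9954 L11624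
theorem L11635 : sm gg N1169 = N1352 := ded_21_0 L11628 (flp_g L10039) (flp_b L10014)
theorem L11637 : sm gg N1164 = N1353 := rfl
theorem L11639 : sm ga N1353 = N1310 := ded_14_1 (flp_g L11224) (flp_a L9956) L11637
theorem L11641 : sm gb N1353 = N1171 := ded_21_1 L11622 L11614 L11637
theorem L11643 : sm gd N1353 = N1166 := ded_32_1 (flp_g L9971) (flp_d L9958) L11637
theorem L11645 : sm ge N1353 = N1169 := ded_36_1 L11635 (flp_e L11624) L11637
theorem L11647 : sm gi N1353 = N1172 := ded_43_2 (flp_g L10039) (flp_i L9960) L11637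
theorem L11649 : sm gf N1353 = N1353 := ded_39_1 (flp_g L11637) (flp_f L9954) L8348 L9954 L11637
theorem L11650 : sm gh N1164 = N1354 := rfl
theorem L11652 : sm ga N1354 = N1311 := ded_15_1 (flp_h L11231) (flp_a L9956) L11650
theorem L11654 : sm gc N1354 = N1169 := ded_28_1 (flp_h L11502) L11498 L11650
theorem L11656 : sm gf N1354 = N1165 := ded_40_1 (flp_h L9962) L9954 L11650
theorem L11658 : sm gd N1354 = N1354 := ded_33_1 (flp_h L11650) L9958 L8358 (flp_d L9958) L11650
theorem L11659 : sm gf N1167 = N1355 := rfl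
theorem L11661 : sm ga N1355 = N1169 := ded_13_1 (flp_f L10012) (flp_a L9987) L11659
theorem L11663 : sm gb N1355 = N1314 := ded_20_1 (flp_f L11249) (flp_b L9989) L11659
theorem L11665 : sm gc N1355 = N1311 := ded_26_1 L11233 L9995 L11659
theorem L11667 : sm gd N1355 = N1168 := ded_31_1 (flp_f L9997) L9985 L11659
theorem L11669 : sm gh N1355 = N1291 := ded_40_2 (flp_f L11074) (flp_h L9993) L11659
theorem L11671 : sm gi N1355 = N1321 := ded_41_2 (flp_f L11600) L11603 L11659
theorem L11673 : sm ge N1310 = N1355 := ded_12_0 L11661 (flp_e L11645) L11639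
theorem L11675 : sm gg N1309 = N1355 := ded_14_0 L11661 L11635 L11626
theorem L11677 : sm gh N1171 = N1356 := rfl
theorem L11679 : sm ga N1356 = N1322 := ded_15_1 (flp_h L11306) (flp_a L10034) L11677
theorem L11681 : sm ge N1356 = N1173 := ded_37_1 (flp_h L10046) L10032 L11677
theorem L11683 : sm gf N1356 = N1356 := ded_40_1 (flp_h L11677) L10038 L11677
theorem L11684 : sm gd N1356 = N1356 := ded_33_1 (flp_h L11677) L10036 L8488 (flp_d L10036) L11677
theorem L11685 : sm gh N1172 = N1357 := rfl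
theorem L11687 : sm ga N1357 = N1323 := ded_15_1 (flp_h L11312) (flp_a L10041) L11685
theorem L11689 : sm gf N1357 = N1357 := ded_40_1 (flp_h L11685) L10045 L11685
theorem L11690 : sm gg N1357 = N1173 := ded_42_1 (flp_h L10046) L10039 L11685
theorem L11692 : sm gd N1357 = N1177 := ded_33_1 (flp_h L10090) L8536 (flp_h L8421) (flp_d L10043) L11685
theorem L11694 : sm gg N1174 = N1358 := rfl
theorem L11696 : sm ga N1358 = N1176 := ded_14_1 (flp_g L10081) (flp_a L10056) L11694
theorem L11698 : sm gb N1358 = N1327 := ded_21_1 (flp_g L11340) (flp_b L10058) L11694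
theorem L11700 : sm gc N1358 = N1288 := ded_27_1 (flp_g L11043) (flp_c L10060) L11694
theorem L11702 : sm gd N1358 = N1175 := ded_32_1 (flp_g L10068) (flp_d L10062) L11694
theorem L11704 : sm ge N1358 = N1358 := ded_36_1 (flp_g L11694) L10067 L11694
theorem L11705 : sm gh N1358 = N1292 := ded_42_2 (flp_g L11082) (flp_h L10064) L11694
theorem L11707 : sm gi N1358 = N1358 := ded_43_2 (flp_g L11694) L10066 L11694
theorem L11708 : sm gf N1358 = N1358 := ded_39_1 (flp_g L11694) (flp_f L10054) L8496 L10054 L11694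
theorem L11709 : sm ga N1178 = N1359 := rfl
theorem L11711 : sm gc N1359 = N1359 := ded_10_2 (flp_a L11709) L10107 L11709
theorem L11712 : sm gd N1359 = N1359 := ded_11_2 (flp_a L11709) L10101 L11709
theorem L11713 : sm gf N1359 = N1359 := ded_13_2 (flp_a L11709) L10102 L11709
theorem L11714 : sm gg N1359 = N1359 := ded_14_2 (flp_a L11709) L10103 L11709
theorem L11715 : sm gh N1359 = N1184 := ded_15_2 (flp_a L10159) (flp_h L10104) L11709
theorem L11717 : sm gi N1359 = N1359 := ded_16_2 (flp_a L11709) L10106 L11709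
theorem L11718 : sm gb N1359 = N1359 := ded_9_2 (flp_a L11709) (flp_b L10099) L8564 L10099 L11709
theorem L11719 : sm ge N1178 = N1360 := rfl
theorem L11721 : sm gb N1360 = N1179 := ded_19_1 (flp_e L10108) L10099 L11719
theorem L11723 : sm gc N1360 = N1360 := ded_25_1 (flp_e L11719) L10107 L11719
theorem L11724 : sm gg N1360 = N1360 := ded_36_2 (flp_e L11719) L10103 L11719
theorem L11725 : sm gh N1360 = N1185 := ded_37_2 (flp_e L10169) (flp_h L10104) L11719
theorem L11727 : sm gi N1360 = N1360 := ded_38_2 (flp_e L11719) L10106 L11719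
theorem L11728 : sm gd N1179 = N1361 := rfl
theorem L11730 : sm ga N1361 = N1361 := ded_11_1 (flp_d L11728) L10110 L11728
theorem L11731 : sm gg N1361 = N1361 := ded_32_2 (flp_d L11728) L10113 L11728
theorem L11732 : sm gi N1361 = N1361 := ded_34_2 (flp_d L11728) L10116 L11728
theorem L11733 : sm gc N1361 = N1361 := ded_24_1 (flp_d L11728) L10111 L8579 (flp_c L10111) L11728
theorem L11734 : sm ge N1361 = N1361 := ded_30_2 (flp_d L11728) (flp_e L10108) L8570 L10108 L11728
theorem L11735 : sm gf N1179 = N1362 := rfl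
theorem L11737 : sm ga N1362 = N1362 := ded_13_1 (flp_f L11735) L10110 L11735
theorem L11738 : sm gc N1362 = N1180 := ded_26_1 (flp_f L10117) (flp_c L10111) L11735
theorem L11740 : sm gh N1362 = N1187 := ded_40_2 (flp_f L10183) (flp_h L10114) L11735
theorem L11742 : sm gi N1362 = N1362 := ded_41_2 (flp_f L11735) L10116 L11735
theorem L11743 : sm ge N1362 = N1362 := ded_35_1 (flp_f L11735) (flp_e L10108) L8565 L10108 L11735
theorem L11744 : sm gg N1180 = N1363 := rfl
theorem L11746 : sm ga N1363 = N1363 := ded_14_1 (flp_g L11744) L10119 L11744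
theorem L11747 : sm gb N1363 = N1363 := ded_21_1 (flp_g L11744) L10120 L11744
theorem L11748 : sm gd N1363 = N1363 := ded_32_1 (flp_g L11744) L10121 L11744
theorem L11749 : sm ge N1363 = N1363 := ded_36_1 (flp_g L11744) L10125 L11744
theorem L11750 : sm gh N1363 = N1188 := ded_42_2 (flp_g L10189) (flp_h L10122) L11744
theorem L11752 : sm gi N1363 = N1363 := ded_43_2 (flp_g L11744) L10124 L11744
theorem L11753 : sm gf N1363 = N1363 := ded_39_1 (flp_g L11744) (flp_f L10117) L8575 L10117 L11744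
theorem L11754 : sm ge N1181 = N1364 := rfl
theorem L11756 : sm ga N1364 = N1333 := ded_12_1 (flp_e L11385) L10136 L11754
theorem L11758 : sm gb N1364 = N1182 := ded_19_1 (flp_e L10138) L10126 L11754
theorem L11760 : sm gc N1364 = N1364 := ded_25_1 (flp_e L11754) L10135 L11754
theorem L11761 : sm gg N1364 = N1364 := ded_36_2 (flp_e L11754) L10131 L11754
theorem L11762 : sm gh N1364 = N1364 := ded_37_2 (flp_e L11754) L10132 L11754
theorem L11763 : sm gi N1364 = N1185 := ded_38_2 (flp_e L10169) (flp_i L10133) L11754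
theorem L11765 : sm gd N1182 = N1365 := rfl
theorem L11767 : sm ga N1365 = N1365 := ded_11_1 (flp_d L11765) L10140 L11765
theorem L11768 : sm gg N1365 = N1365 := ded_32_2 (flp_d L11765) L10143 L11765
theorem L11769 : sm gi N1365 = N1186 := ded_34_2 (flp_d L10175) (flp_i L10145) L11765
theorem L11771 : sm gc N1365 = N1193 := ded_24_1 (flp_d L10239) L8654 (flp_d L8598) (flp_c L10141) L11765
theorem L11773 : sm ge N1365 = N1219 := ded_30_2 (flp_d L10482) (flp_e L8848) (flp_d L8588) L10138 L11765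
theorem L11775 : sm gf N1182 = N1366 := rfl
theorem L11777 : sm ga N1366 = N1366 := ded_13_1 (flp_f L11775) L10140 L11775
theorem L11778 : sm gc N1366 = N1183 := ded_26_1 (flp_f L10147) (flp_c L10141) L11775
theorem L11780 : sm gh N1366 = N1366 := ded_40_2 (flp_f L11775) L10144 L11775
theorem L11781 : sm gi N1366 = N1187 := ded_41_2 (flp_f L10183) (flp_i L10145) L11775
theorem L11783 : sm ge N1366 = N1366 := ded_35_1 (flp_f L11775) (flp_e L10138) L8583 L10138 L11775
theorem L11784 : sm gg N1287 = N1366 := ded_27_0 L11778 (flp_g L10157) L11037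
theorem L11786 : sm ge N1184 = N1367 := rfl
theorem L11788 : sm ga N1367 = N1185 := ded_12_1 (flp_e L10169) L10159 L11786
theorem L11790 : sm gb N1367 = N1367 := ded_19_1 (flp_e L11786) L10168 L11786
theorem L11791 : sm gc N1367 = N1367 := ded_25_1 (flp_e L11786) L10161 L11786
theorem L11792 : sm gg N1367 = N1367 := ded_36_2 (flp_e L11786) L10165 L11786
theorem L11793 : sm gi N1367 = N1333 := ded_38_2 (flp_e L11385) (flp_i L10166) L11786
theorem L11795 : sm gd N1185 = N1368 := rfl
theorem L11797 : sm gb N1368 = N1186 := ded_18_1 (flp_d L10175) (flp_b L10171) L11795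
theorem L11799 : sm gg N1368 = N1368 := ded_32_2 (flp_d L11795) L10174 L11795
theorem L11800 : sm ge N1368 = N1223 := ded_30_2 (flp_d L10520) (flp_e L8876) (flp_d L8602) L10169 L11795
theorem L11802 : sm gf N1185 = N1369 := rfl
theorem L11804 : sm gb N1369 = N1187 := ded_20_1 (flp_f L10183) (flp_b L10171) L11802
theorem L11806 : sm gc N1369 = N1369 := ded_26_1 (flp_f L11802) L10173 L11802
theorem L11807 : sm ge N1369 = N1369 := ded_35_1 (flp_f L11802) (flp_e L10169) L8604 L10169 L11802
theorem L11808 : sm gf N1186 = N1370 := rfl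
theorem L11810 : sm ga N1370 = N1370 := ded_13_1 (flp_f L11808) L10177 L11808
theorem L11811 : sm gc N1370 = N1198 := ded_26_1 (flp_f L10283) (flp_c L10179) L11808
theorem L11813 : sm gd N1370 = N1187 := ded_31_1 (flp_f L10183) L10175 L11808
theorem L11815 : sm gh N1186 = N1371 := rfl
theorem L11817 : sm ga N1371 = N1371 := ded_15_1 (flp_h L11815) L10177 L11815
theorem L11818 : sm gc N1371 = N1199 := ded_28_1 (flp_h L10288) (flp_c L10179) L11815
theorem L11820 : sm ge N1371 = N1226 := ded_37_1 (flp_h L10540) (flp_e L10181) L11815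
theorem L11822 : sm gg N1371 = N1371 := ded_42_1 (flp_h L11815) L10178 L11815
theorem L11823 : sm gg N1187 = N1372 := rfl
theorem L11825 : sm ga N1372 = N1372 := ded_14_1 (flp_g L11823) L10185 L11823
theorem L11826 : sm gc N1372 = N1188 := ded_27_1 (flp_g L10189) (flp_c L10186) L11823
theorem L11828 : sm ge N1372 = N1372 := ded_36_1 (flp_g L11823) L10188 L11823
theorem L11829 : sm gi N1372 = N1287 := ded_43_2 L11784 L11781 L11823
theorem L11831 : sm gf N1372 = N1372 := ded_39_1 (flp_g L11823) (flp_f L10183) L8612 L10183 L11823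
theorem L11832 : sm ga N1189 = N1373 := rfl
theorem L11834 : sm gc N1373 = N1373 := ded_10_2 (flp_a L11832) L10208 L11832
theorem L11835 : sm gd N1373 = N1373 := ded_11_2 (flp_a L11832) L10201 L11832
theorem L11836 : sm gf N1373 = N1201 := ded_13_2 (flp_a L10306) (flp_f L10202) L11832
theorem L11838 : sm gg N1373 = N1373 := ded_14_2 (flp_a L11832) L10204 L11832
theorem L11839 : sm gh N1373 = N1191 := ded_15_2 (flp_a L10220) (flp_h L10205) L11832
theorem L11841 : sm gi N1373 = N1373 := ded_16_2 (flp_a L11832) L10207 L11832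
theorem L11842 : sm gb N1373 = N1373 := ded_9_2 (flp_a L11832) (flp_b L10199) L8622 L10199 L11832
theorem L11843 : sm ge N1189 = N1374 := rfl
theorem L11845 : sm gb N1374 = N1190 := ded_19_1 (flp_e L10209) L10199 L11843
theorem L11847 : sm gc N1374 = N1374 := ded_25_1 (flp_e L11843) L10208 L11843
theorem L11848 : sm gg N1374 = N1374 := ded_36_2 (flp_e L11843) L10204 L11843
theorem L11849 : sm gh N1374 = N1192 := ded_37_2 (flp_e L10231) (flp_h L10205) L11843
theorem L11851 : sm gi N1374 = N1374 := ded_38_2 (flp_e L11843) L10207 L11843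
theorem L11852 : sm gf N1374 = N1284 := ded_35_2 L11022 L9253 (flp_e L8715) (flp_f L10202) L11843
theorem L11854 : sm gd N1190 = N1375 := rfl
theorem L11856 : sm ga N1375 = N1375 := ded_11_1 (flp_d L11854) L10211 L11854
theorem L11857 : sm gf N1375 = N1276 := ded_31_2 L10954 (flp_f L10218) L11854
theorem L11859 : sm gg N1375 = N1375 := ded_32_2 (flp_d L11854) L10214 L11854
theorem L11860 : sm gi N1375 = N1375 := ded_34_2 (flp_d L11854) L10217 L11854
theorem L11861 : sm gc N1375 = N1375 := ded_24_1 (flp_d L11854) L10212 L8638 (flp_c L10212) L11854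
theorem L11862 : sm ge N1375 = N1375 := ded_30_2 (flp_d L11854) (flp_e L10209) L8629 L10209 L11854
theorem L11863 : sm ge N1191 = N1376 := rfl
theorem L11865 : sm ga N1376 = N1192 := ded_12_1 (flp_e L10231) L10220 L11863
theorem L11867 : sm gb N1376 = N1376 := ded_19_1 (flp_e L11863) L10230 L11863
theorem L11868 : sm gc N1376 = N1376 := ded_25_1 (flp_e L11863) L10222 L11863
theorem L11869 : sm gg N1376 = N1376 := ded_36_2 (flp_e L11863) L10227 L11863
theorem L11870 : sm gi N1376 = N1195 := ded_38_2 (flp_e L10260) (flp_i L10228) L11863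
theorem L11872 : sm gd N1192 = N1377 := rfl
theorem L11874 : sm gb N1377 = N1193 := ded_18_1 (flp_d L10239) (flp_b L10233) L11872
theorem L11876 : sm gg N1377 = N1377 := ded_32_2 (flp_d L11872) L10236 L11872
theorem L11877 : sm gi N1377 = N1196 := ded_34_2 (flp_d L10268) (flp_i L10237) L11872
theorem L11879 : sm ge N1377 = N1229 := ded_30_2 (flp_d L10566) (flp_e L8918) (flp_d L8643) L10231 L11872
theorem L11881 : sm gf N1192 = N1378 := rfl
theorem L11883 : sm gb N1378 = N1194 := ded_20_1 (flp_f L10247) (flp_b L10233) L11881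
theorem L11885 : sm gc N1378 = N1378 := ded_26_1 (flp_f L11881) L10235 L11881
theorem L11886 : sm gh N1378 = N1284 := ded_40_2 (flp_f L11852) L11849 L11881
theorem L11888 : sm gi N1378 = N1197 := ded_41_2 (flp_f L10275) (flp_i L10237) L11881
theorem L11890 : sm ge N1378 = N1204 := ded_35_1 (flp_f L10342) (flp_e L8733) (flp_f L8645) L10231 L11881
theorem L11892 : sm gg N1285 = N1378 := ded_21_0 L11883 (flp_g L10258) (flp_b L11027)
theorem L11894 : sm gf N1193 = N1379 := rfl
theorem L11896 : sm ga N1379 = N1379 := ded_13_1 (flp_f L11894) L10241 L11894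
theorem L11897 : sm gd N1379 = N1194 := ded_31_1 (flp_f L10247) L10239 L11894
theorem L11899 : sm gi N1379 = N1198 := ded_41_2 (flp_f L10283) (flp_i L10243) L11894
theorem L11901 : sm gg N1286 = N1379 := ded_32_0 L11897 (flp_g L10258) L11033
theorem L11903 : sm gh N1193 = N1380 := rfl
theorem L11905 : sm ga N1380 = N1380 := ded_15_1 (flp_h L11903) L10241 L11903
theorem L11906 : sm ge N1380 = N1232 := ded_37_1 (flp_h L10591) (flp_e L10245) L11903
theorem L11908 : sm gg N1380 = N1380 := ded_42_1 (flp_h L11903) L10242 L11903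
theorem L11909 : sm gd N1195 = N1381 := rfl
theorem L11911 : sm ga N1381 = N1196 := ded_11_1 (flp_d L10268) (flp_a L10262) L11909
theorem L11913 : sm gb N1381 = N1381 := ded_18_1 (flp_d L11909) L10264 L11909
theorem L11914 : sm gg N1381 = N1381 := ded_32_2 (flp_d L11909) L10266 L11909
theorem L11915 : sm ge N1381 = N1234 := ded_30_2 (flp_d L10607) (flp_e L8955) (flp_d L8674) L10260 L11909
theorem L11917 : sm gf N1195 = N1382 := rfl
theorem L11919 : sm ga N1382 = N1197 := ded_13_1 (flp_f L10275) (flp_a L10262) L11917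
theorem L11921 : sm gb N1382 = N1382 := ded_20_1 (flp_f L11917) L10264 L11917
theorem L11922 : sm gc N1382 = N1382 := ded_26_1 (flp_f L11917) L10265 L11917
theorem L11923 : sm gh N1382 = N1382 := ded_40_2 (flp_f L11917) L10267 L11917
theorem L11924 : sm ge N1382 = N1207 := ded_35_1 (flp_f L10374) (flp_e L8767) (flp_f L8676) L10260 L11917
theorem L11926 : sm gc N1196 = N1383 := rfl
theorem L11928 : sm ge N1383 = N1236 := ded_25_2 (flp_c L10624) (flp_e L10273) L11926
theorem L11930 : sm gg N1383 = N1383 := ded_27_2 (flp_c L11926) L10272 L11926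
theorem L11931 : sm gd N1383 = N1383 := ded_24_2 (flp_c L11926) (flp_d L10268) L8685 L10268 L11926
theorem L11932 : sm gf N1196 = N1384 := rfl
theorem L11934 : sm gb N1384 = N1198 := ded_20_1 (flp_f L10283) (flp_b L10270) L11932
theorem L11936 : sm gd N1384 = N1197 := ded_31_1 (flp_f L10275) L10268 L11932
theorem L11938 : sm gh N1196 = N1385 := rfl
theorem L11940 : sm gb N1385 = N1199 := ded_22_1 (flp_h L10288) (flp_b L10270) L11938
theorem L11942 : sm ge N1385 = N1238 := ded_37_1 (flp_h L10635) (flp_e L10273) L11938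
theorem L11944 : sm gg N1385 = N1385 := ded_42_1 (flp_h L11938) L10272 L11938
theorem L11945 : sm gd N1385 = N1385 := ded_33_1 (flp_h L11938) (flp_d L10268) L8687 L10268 L11938
theorem L11946 : sm gg N1197 = N1386 := rfl
theorem L11948 : sm gb N1386 = N1200 := ded_21_1 (flp_g L10295) (flp_b L10277) L11946
theorem L11950 : sm gc N1386 = N1386 := ded_27_1 (flp_g L11946) L10279 L11946
theorem L11951 : sm ge N1386 = N1211 := ded_36_1 (flp_g L10404) (flp_e L10281) L11946
theorem L11953 : sm gh N1386 = N1386 := ded_42_2 (flp_g L11946) L10280 L11946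
theorem L11954 : sm gi N1386 = N1285 := ded_43_2 L11892 L11888 L11946
theorem L11956 : sm gf N1386 = N1386 := ded_39_1 (flp_g L11946) (flp_f L10275) L8686 L10275 L11946
theorem L11957 : sm ge N1198 = N1387 := rfl
theorem L11959 : sm ga N1387 = N1387 := ded_12_1 (flp_e L11957) L10285 L11957
theorem L11960 : sm gd N1387 = N1212 := ded_30_1 (flp_e L10414) L8794 (flp_e L8700) (flp_d L10286) L11957
theorem L11962 : sm gf N1387 = N1240 := ded_35_2 (flp_e L10653) (flp_f L8980) (flp_e L8692) L10283 L11957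
theorem L11964 : sm gg N1198 = N1388 := rfl
theorem L11966 : sm ga N1388 = N1388 := ded_14_1 (flp_g L11964) L10285 L11964
theorem L11967 : sm gd N1388 = N1200 := ded_32_1 (flp_g L10295) (flp_d L10286) L11964
theorem L11969 : sm gi N1388 = N1286 := ded_43_2 L11901 L11899 L11964
theorem L11971 : sm gf N1388 = N1388 := ded_39_1 (flp_g L11964) (flp_f L10283) L8691 L10283 L11964
theorem L11972 : sm gh N1198 = N1389 := rfl
theorem L11974 : sm ga N1389 = N1389 := ded_15_1 (flp_h L11972) L10285 L11972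
theorem L11975 : sm gf N1389 = N1199 := ded_40_1 (flp_h L10288) L10283 L11972
theorem L11977 : sm gd N1389 = N1389 := ded_33_1 (flp_h L11972) L10286 L8699 (flp_d L10286) L11972
theorem L11978 : sm gi N1199 = N1390 := rfl
theorem L11980 : sm ga N1390 = N1390 := ded_16_1 (flp_i L11978) L10290 L11978
theorem L11981 : sm gd N1390 = N1390 := ded_34_1 (flp_i L11978) L10294 L11978
theorem L11982 : sm ge N1390 = N1243 := ded_38_1 (flp_i L10671) (flp_e L10291) L11978
theorem L11984 : sm gg N1390 = N1390 := ded_43_1 (flp_i L11978) L10293 L11978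
theorem L11985 : sm gd N1202 = N1391 := rfl
theorem L11987 : sm ga N1391 = N1203 := ded_11_1 (flp_d L10330) (flp_a L10320) L11985
theorem L11989 : sm gb N1391 = N1391 := ded_18_1 (flp_d L11985) L10322 L11985
theorem L11990 : sm gg N1391 = N1334 := ded_32_2 (flp_d L11391) (flp_g L10324) L11985
theorem L11992 : sm gi N1391 = N1206 := ded_34_2 (flp_d L10365) (flp_i L10328) L11985
theorem L11994 : sm ge N1391 = N1244 := ded_30_2 (flp_d L10677) (flp_e L9001) (flp_d L8726) L10318 L11985
theorem L11996 : sm gh N1391 = N1246 := ded_33_2 L10709 L9506 (flp_d L9819) (flp_h L10326) L11985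
theorem L11998 : sm gc N1248 = N1391 := ded_27_3 L11990 (flp_c L11404) (flp_g L10725)
theorem L12000 : sm gf N1202 = N1392 := rfl
theorem L12002 : sm ga N1392 = N1204 := ded_13_1 (flp_f L10342) (flp_a L10320) L12000
theorem L12004 : sm gb N1392 = N1392 := ded_20_1 (flp_f L12000) L10322 L12000
theorem L12005 : sm gc N1392 = N1392 := ded_26_1 (flp_f L12000) L10323 L12000
theorem L12006 : sm gh N1392 = N1281 := ded_40_2 L10997 (flp_h L10326) L12000
theorem L12008 : sm gi N1392 = N1207 := ded_41_2 (flp_f L10374) (flp_i L10328) L12000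
theorem L12010 : sm gg N1392 = N1282 := ded_39_2 L11005 L9226 L9671 (flp_g L10324) L12000
theorem L12012 : sm gc N1203 = N1393 := rfl
theorem L12014 : sm ga N1393 = N1248 := ded_10_1 L11998 L11987 L12012
theorem L12016 : sm ge N1393 = N1246 := ded_25_2 (flp_c L10700) (flp_e L10338) L12012
theorem L12018 : sm gg N1393 = N1335 := ded_27_2 (flp_c L11406) (flp_g L10334) L12012
theorem L12020 : sm gh N1393 = N1244 := ded_28_2 L10686 (flp_h L10340) L12012
theorem L12022 : sm gi N1393 = N1208 := ded_29_2 (flp_c L10381) (flp_i L10336) L12012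
theorem L12024 : sm gb N1393 = N1393 := ded_17_1 (flp_c L12012) L10332 L8751 (flp_b L10332) L12012
theorem L12025 : sm gd N1393 = N1393 := ded_24_2 (flp_c L12012) (flp_d L10330) L8737 L10330 L12012
theorem L12026 : sm gf N1203 = N1394 := rfl
theorem L12028 : sm gb N1394 = N1205 := ded_20_1 (flp_f L10353) (flp_b L10332) L12026
theorem L12030 : sm gd N1394 = N1204 := ded_31_1 (flp_f L10342) L10330 L12026
theorem L12032 : sm gh N1394 = N1261 := ded_40_2 L10841 (flp_h L10340) L12026
theorem L12034 : sm gi N1394 = N1209 := ded_41_2 (flp_f L10389) (flp_i L10336) L12026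
theorem L12036 : sm gg N1394 = N1262 := ded_39_2 L10847 L9090 (flp_f L9677) (flp_g L10334) L12026
theorem L12038 : sm ge N1205 = N1395 := rfl
theorem L12040 : sm ga N1395 = N1395 := ded_12_1 (flp_e L12038) L10355 L12038
theorem L12041 : sm gc N1395 = N1395 := ded_25_1 (flp_e L12038) L10356 L12038
theorem L12042 : sm gg N1395 = N1265 := ded_36_2 L10869 (flp_g L10363) L12038
theorem L12044 : sm gh N1395 = N1264 := ded_37_2 L10863 (flp_h L10359) L12038
theorem L12046 : sm gi N1395 = N1212 := ded_38_2 (flp_e L10414) (flp_i L10361) L12038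
theorem L12048 : sm gf N1395 = N1250 := ded_35_2 (flp_e L10741) (flp_f L9030) (flp_e L8752) L10353 L12038
theorem L12050 : sm gc N1206 = N1396 := rfl
theorem L12052 : sm ga N1396 = N1208 := ded_10_1 (flp_c L10381) (flp_a L10367) L12050
theorem L12054 : sm ge N1396 = N1254 := ded_25_2 (flp_c L10775) (flp_e L10372) L12050
theorem L12056 : sm gg N1396 = N1336 := ded_27_2 (flp_c L11420) (flp_g L10370) L12050
theorem L12058 : sm gi N1396 = N1248 := ded_29_2 L11998 L11992 L12050
theorem L12060 : sm gd N1396 = N1396 := ded_24_2 (flp_c L12050) (flp_d L10365) L8772 L10365 L12050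
theorem L12061 : sm gb N1253 = N1396 := ded_19_3 L12054 L10785 (flp_e L10769)
theorem L12063 : sm gh N1263 = N1396 := ded_42_0 L12056 L11433 (flp_g L10857)
theorem L12065 : sm gf N1206 = N1397 := rfl
theorem L12067 : sm ga N1397 = N1209 := ded_13_1 (flp_f L10389) (flp_a L10367) L12065
theorem L12069 : sm gb N1397 = N1397 := ded_20_1 (flp_f L12065) L10369 L12065
theorem L12070 : sm gd N1397 = N1207 := ded_31_1 (flp_f L10374) L10365 L12065
theorem L12072 : sm gh N1206 = N1398 := rfl
theorem L12074 : sm ga N1398 = N1210 := ded_15_1 (flp_h L10395) (flp_a L10367) L12072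
theorem L12076 : sm gb N1398 = N1398 := ded_22_1 (flp_h L12072) L10369 L12072
theorem L12077 : sm gc N1398 = N1263 := ded_28_1 L12063 (flp_c L12050) L12072
theorem L12079 : sm ge N1398 = N1256 := ded_37_1 (flp_h L10794) (flp_e L10372) L12072
theorem L12081 : sm gg N1398 = N1338 := ded_42_1 (flp_h L11450) (flp_g L10370) L12072
theorem L12083 : sm gd N1398 = N1398 := ded_33_1 (flp_h L12072) (flp_d L10365) L8775 L10365 L12072
theorem L12084 : sm gi N1398 = N1259 := ded_44_2 (flp_h L10823) (flp_i L10706) (flp_h L11996) L11992 L12072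
theorem L12086 : sm gg N1207 = N1399 := rfl
theorem L12088 : sm ga N1399 = N1211 := ded_14_1 (flp_g L10404) (flp_a L10376) L12086
theorem L12090 : sm gb N1399 = N1399 := ded_21_1 (flp_g L12086) L10378 L12086
theorem L12091 : sm gc N1399 = N1399 := ded_27_1 (flp_g L12086) L10379 L12086
theorem L12092 : sm gh N1399 = N1399 := ded_42_2 (flp_g L12086) L10380 L12086
theorem L12093 : sm gi N1399 = N1282 := ded_43_2 (flp_g L12010) L12008 L12086
theorem L12095 : sm gf N1399 = N1283 := ded_39_1 L11014 (flp_f L9692) (flp_g L8773) L10374 L12086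
theorem L12097 : sm gf N1208 = N1400 := rfl
theorem L12099 : sm gb N1400 = N1400 := ded_20_1 (flp_f L12097) L10387 L12097
theorem L12100 : sm gc N1400 = N1209 := ded_26_1 (flp_f L10389) L10381 L12097
theorem L12102 : sm gd N1400 = N1400 := ded_31_1 (flp_f L12097) L10388 L12097
theorem L12103 : sm gh N1208 = N1401 := rfl
theorem L12105 : sm ga N1401 = N1263 := ded_15_1 L12063 L12052 L12103
theorem L12107 : sm gb N1401 = N1401 := ded_22_1 (flp_h L12103) L10387 L12103
theorem L12108 : sm gc N1401 = N1210 := ded_28_1 (flp_h L10395) L10381 L12103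
theorem L12110 : sm ge N1401 = N1259 := ded_37_1 (flp_h L10823) (flp_e L10383) L12103
theorem L12112 : sm gg N1401 = N1337 := ded_42_1 (flp_h L11448) (flp_g L10385) L12103
theorem L12114 : sm gi N1401 = N1256 := ded_44_2 (flp_h L10794) (flp_i L10684) (flp_h L12020) L12022 L12103
theorem L12116 : sm gd N1283 = N1401 := ded_11_0 L12105 L10855 (flp_a L11009)
theorem L12118 : sm ge N1209 = N1402 := rfl
theorem L12120 : sm gb N1402 = N1212 := ded_19_1 (flp_e L10414) (flp_b L10391) L12118
theorem L12122 : sm gf N1402 = N1260 := ded_35_2 (flp_e L10831) (flp_f L9080) (flp_e L8782) L10389 L12118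
theorem L12124 : sm gg N1209 = N1403 := rfl
theorem L12126 : sm gb N1403 = N1213 := ded_21_1 (flp_g L10420) (flp_b L10391) L12124
theorem L12128 : sm gd N1403 = N1211 := ded_32_1 (flp_g L10404) (flp_d L10393) L12124
theorem L12130 : sm gi N1403 = N1262 := ded_43_2 (flp_g L12036) L12034 L12124
theorem L12132 : sm gf N1403 = N1263 := ded_39_1 L10857 (flp_f L9708) (flp_g L8780) L10389 L12124
theorem L12134 : sm gh N1209 = N1404 := rfl
theorem L12136 : sm gb N1404 = N1214 := ded_22_1 (flp_h L10430) (flp_b L10391) L12134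
theorem L12138 : sm gf N1404 = N1210 := ded_40_1 (flp_h L10395) L10389 L12134
theorem L12140 : sm gd N1404 = N1404 := ded_33_1 (flp_h L12134) L10393 L8789 (flp_d L10393) L12134
theorem L12141 : sm gi N1210 = N1405 := rfl
theorem L12143 : sm ga N1405 = N1259 := ded_16_1 (flp_i L12084) L12074 L12141
theorem L12145 : sm gb N1405 = N1215 := ded_23_1 (flp_i L10437) (flp_b L10397) L12141
theorem L12147 : sm gc N1405 = N1256 := ded_29_1 (flp_i L12114) L12108 L12141
theorem L12149 : sm gd N1405 = N1405 := ded_34_1 (flp_i L12141) L10403 L12141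
theorem L12150 : sm ge N1405 = N1263 := ded_38_1 (flp_i L10851) (flp_e L10399) L12141
theorem L12152 : sm gg N1405 = N1339 := ded_43_1 L11474 (flp_g L10401) L12141
theorem L12154 : sm gh N1405 = N1254 := ded_44_1 L10781 (flp_h L10340) L10336 L10395 L12141
theorem L12156 : sm gg N1212 = N1406 := rfl
theorem L12158 : sm ga N1406 = N1406 := ded_14_1 (flp_g L12156) L10416 L12156
theorem L12159 : sm gc N1406 = N1406 := ded_27_1 (flp_g L12156) L10417 L12156
theorem L12160 : sm ge N1406 = N1213 := ded_36_1 (flp_g L10420) L10414 L12156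
theorem L12162 : sm gi N1406 = N1265 := ded_43_2 (flp_g L12042) L12046 L12156
theorem L12164 : sm gh N1212 = N1407 := rfl
theorem L12166 : sm ga N1407 = N1407 := ded_15_1 (flp_h L12164) L10416 L12164
theorem L12167 : sm gc N1407 = N1407 := ded_28_1 (flp_h L12164) L10417 L12164
theorem L12168 : sm ge N1407 = N1214 := ded_37_1 (flp_h L10430) L10414 L12164
theorem L12170 : sm gf N1407 = N1265 := ded_40_1 (flp_h L10865) (flp_f L10418) L12164
theorem L12172 : sm gh N1213 = N1408 := rfl
theorem L12174 : sm ga N1408 = N1408 := ded_15_1 (flp_h L12172) L10422 L12172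
theorem L12175 : sm gc N1408 = N1408 := ded_28_1 (flp_h L12172) L10423 L12172
theorem L12176 : sm gf N1408 = N1253 := ded_40_1 L10773 (flp_f L10428) L12172
theorem L12178 : sm gg N1408 = N1214 := ded_42_1 (flp_h L10430) L10420 L12172
theorem L12180 : sm gd N1408 = N1408 := ded_33_1 (flp_h L12172) L10424 L8810 (flp_d L10424) L12172
theorem L12181 : sm gi N1408 = N1252 := ded_44_2 (flp_h L10757) L9036 L9116 (flp_i L10426) L12172
theorem L12183 : sm gi N1214 = N1409 := rfl
theorem L12185 : sm ga N1409 = N1409 := ded_16_1 (flp_i L12183) L10432 L12183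
theorem L12186 : sm gc N1409 = N1409 := ded_29_1 (flp_i L12183) L10433 L12183
theorem L12187 : sm gd N1409 = N1409 := ded_34_1 (flp_i L12183) L10436 L12183
theorem L12188 : sm gf N1409 = N1215 := ded_41_1 (flp_i L10437) (flp_f L10434) L12183
theorem L12190 : sm gg N1409 = N1252 := ded_43_1 (flp_i L12181) L12178 L12183
theorem L12192 : sm gh N1409 = N1251 := ded_44_1 L10753 (flp_h L10359) L10361 L10430 L12183
theorem L12194 : sm gd N1216 = N1410 := rfl
theorem L12196 : sm ga N1410 = N1410 := ded_11_1 (flp_d L12194) L10450 L12194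
theorem L12197 : sm gb N1410 = N1266 := ded_18_1 L10878 (flp_b L10451) L12194
theorem L12199 : sm gg N1410 = N1410 := ded_32_2 (flp_d L12194) L10455 L12194
theorem L12200 : sm gi N1410 = N1410 := ded_34_2 (flp_d L12194) L10458 L12194
theorem L12201 : sm gc N1410 = N1410 := ded_24_1 (flp_d L12194) L10453 L8835 (flp_c L10453) L12194
theorem L12202 : sm ge N1410 = N1410 := ded_30_2 (flp_d L12194) (flp_e L10448) L8825 L10448 L12194
theorem L12203 : sm gf N1216 = N1411 := rfl
theorem L12205 : sm ga N1411 = N1411 := ded_13_1 (flp_f L12203) L10450 L12203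
theorem L12206 : sm gb N1411 = N1326 := ded_20_1 (flp_f L11332) (flp_b L10451) L12203
theorem L12208 : sm gc N1411 = N1217 := ded_26_1 (flp_f L10459) (flp_c L10453) L12203
theorem L12210 : sm gh N1411 = N1220 := ded_40_2 (flp_f L10490) (flp_h L10456) L12203
theorem L12212 : sm gi N1411 = N1411 := ded_41_2 (flp_f L12203) L10458 L12203
theorem L12213 : sm ge N1411 = N1411 := ded_35_1 (flp_f L12203) (flp_e L10448) L8818 L10448 L12203
theorem L12214 : sm gg N1217 = N1412 := rfl
theorem L12216 : sm ga N1412 = N1412 := ded_14_1 (flp_g L12214) L10461 L12214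
theorem L12217 : sm gb N1412 = N1288 := ded_21_1 (flp_g L11043) (flp_b L10462) L12214
theorem L12219 : sm gd N1412 = N1412 := ded_32_1 (flp_g L12214) L10464 L12214
theorem L12220 : sm ge N1412 = N1412 := ded_36_1 (flp_g L12214) L10468 L12214
theorem L12221 : sm gh N1412 = N1221 := ded_42_2 (flp_g L10498) (flp_h L10465) L12214
theorem L12223 : sm gi N1412 = N1412 := ded_43_2 (flp_g L12214) L10467 L12214
theorem L12224 : sm gf N1412 = N1412 := ded_39_1 (flp_g L12214) (flp_f L10459) L8831 L10459 L12214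
theorem L12225 : sm gd N1218 = N1413 := rfl
theorem L12227 : sm ga N1413 = N1330 := ded_11_1 (flp_d L11365) (flp_a L10471) L12225
theorem L12229 : sm gb N1413 = N1219 := ded_18_1 (flp_d L10482) (flp_b L10473) L12225
theorem L12231 : sm gg N1413 = N1413 := ded_32_2 (flp_d L12225) L10477 L12225
theorem L12232 : sm gi N1413 = N1223 := ded_34_2 (flp_d L10520) (flp_i L10480) L12225
theorem L12234 : sm gf N1218 = N1414 := rfl
theorem L12236 : sm ga N1414 = N1329 := ded_13_1 L11363 (flp_a L10471) L12234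
theorem L12238 : sm gb N1414 = N1220 := ded_20_1 (flp_f L10490) (flp_b L10473) L12234
theorem L12240 : sm gc N1414 = N1290 := ded_26_1 (flp_f L11063) (flp_c L10475) L12234
theorem L12242 : sm gh N1414 = N1326 := ded_40_2 (flp_f L11332) (flp_h L10478) L12234
theorem L12244 : sm gi N1414 = N1224 := ded_41_2 (flp_f L10525) (flp_i L10480) L12234
theorem L12246 : sm ge N1414 = N1414 := ded_35_1 (flp_f L12234) (flp_e L10469) L8838 L10469 L12234
theorem L12247 : sm gf N1219 = N1415 := rfl
theorem L12249 : sm ga N1415 = N1415 := ded_13_1 (flp_f L12247) L10484 L12247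
theorem L12250 : sm gc N1415 = N1231 := ded_26_1 (flp_f L10584) (flp_c L10488) L12247
theorem L12252 : sm gd N1415 = N1220 := ded_31_1 (flp_f L10490) L10482 L12247
theorem L12254 : sm gi N1415 = N1225 := ded_41_2 (flp_f L10533) (flp_i L10486) L12247
theorem L12256 : sm gh N1219 = N1416 := rfl
theorem L12258 : sm ga N1416 = N1416 := ded_15_1 (flp_h L12256) L10484 L12256
theorem L12259 : sm gc N1416 = N1232 := ded_28_1 (flp_h L10591) (flp_c L10488) L12256
theorem L12261 : sm gg N1416 = N1416 := ded_42_1 (flp_h L12256) L10485 L12256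
theorem L12262 : sm gg N1220 = N1417 := rfl
theorem L12264 : sm ga N1417 = N1417 := ded_14_1 (flp_g L12262) L10492 L12262
theorem L12265 : sm gc N1417 = N1221 := ded_27_1 (flp_g L10498) (flp_c L10493) L12262
theorem L12267 : sm ge N1417 = N1417 := ded_36_1 (flp_g L12262) L10497 L12262
theorem L12268 : sm gi N1417 = N1227 := ded_43_2 (flp_g L10547) (flp_i L10495) L12262
theorem L12270 : sm gf N1417 = N1417 := ded_39_1 (flp_g L12262) (flp_f L10490) L8853 L10490 L12262
theorem L12271 : sm gd N1222 = N1418 := rfl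
theorem L12273 : sm ga N1418 = N1223 := ded_11_1 (flp_d L10520) (flp_a L10511) L12271
theorem L12275 : sm gb N1418 = N1418 := ded_18_1 (flp_d L12271) L10513 L12271
theorem L12276 : sm gg N1418 = N1418 := ded_32_2 (flp_d L12271) L10516 L12271
theorem L12277 : sm gi N1418 = N1330 := ded_34_2 (flp_d L11365) (flp_i L10518) L12271
theorem L12279 : sm gf N1222 = N1419 := rfl
theorem L12281 : sm ga N1419 = N1224 := ded_13_1 (flp_f L10525) (flp_a L10511) L12279
theorem L12283 : sm gb N1419 = N1419 := ded_20_1 (flp_f L12279) L10513 L12279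
theorem L12284 : sm gc N1419 = N1294 := ded_26_1 (flp_f L11100) (flp_c L10514) L12279
theorem L12286 : sm gh N1419 = N1419 := ded_40_2 (flp_f L12279) L10517 L12279
theorem L12287 : sm gi N1419 = N1329 := ded_41_2 L11363 (flp_i L10518) L12279
theorem L12289 : sm ge N1419 = N1419 := ded_35_1 (flp_f L12279) (flp_e L10509) L8870 L10509 L12279
theorem L12290 : sm gc N1223 = N1420 := rfl
theorem L12292 : sm gg N1420 = N1420 := ded_27_2 (flp_c L12290) L10524 L12290
theorem L12293 : sm gb N1420 = N1236 := ded_17_1 (flp_c L10624) L8967 (flp_c L8888) (flp_b L10522) L12290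
theorem L12295 : sm gd N1420 = N1295 := ded_24_2 (flp_c L11110) (flp_d L9345) (flp_c L8880) L10520 L12290
theorem L12297 : sm gf N1223 = N1421 := rfl
theorem L12299 : sm gb N1421 = N1225 := ded_20_1 (flp_f L10533) (flp_b L10522) L12297
theorem L12301 : sm gd N1421 = N1224 := ded_31_1 (flp_f L10525) L10520 L12297
theorem L12303 : sm gh N1223 = N1422 := rfl
theorem L12305 : sm gb N1422 = N1226 := ded_22_1 (flp_h L10540) (flp_b L10522) L12303
theorem L12307 : sm gg N1422 = N1422 := ded_42_1 (flp_h L12303) L10524 L12303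
theorem L12308 : sm gd N1422 = N1422 := ded_33_1 (flp_h L12303) (flp_d L10520) L8883 L10520 L12303
theorem L12309 : sm gg N1224 = N1423 := rfl
theorem L12311 : sm gb N1423 = N1227 := ded_21_1 (flp_g L10547) (flp_b L10527) L12309
theorem L12313 : sm gc N1423 = N1298 := ded_27_1 (flp_g L11129) (flp_c L10529) L12309
theorem L12315 : sm ge N1423 = N1423 := ded_36_1 (flp_g L12309) L10532 L12309
theorem L12316 : sm gh N1423 = N1423 := ded_42_2 (flp_g L12309) L10531 L12309
theorem L12317 : sm gf N1423 = N1423 := ded_39_1 (flp_g L12309) (flp_f L10525) L8882 L10525 L12309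
theorem L12318 : sm ge N1225 = N1424 := rfl
theorem L12320 : sm ga N1424 = N1424 := ded_12_1 (flp_e L12318) L10535 L12318
theorem L12321 : sm gc N1424 = N1240 := ded_25_1 (flp_e L10653) (flp_c L10536) L12318
theorem L12323 : sm gd N1424 = N1424 := ded_30_1 (flp_e L12318) L10538 L8896 (flp_d L10538) L12318
theorem L12324 : sm gg N1225 = N1425 := rfl
theorem L12326 : sm ga N1425 = N1425 := ded_14_1 (flp_g L12324) L10535 L12324
theorem L12327 : sm gc N1425 = N1241 := ded_27_1 (flp_g L10658) (flp_c L10536) L12324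
theorem L12329 : sm gd N1425 = N1227 := ded_32_1 (flp_g L10547) (flp_d L10538) L12324
theorem L12331 : sm gf N1425 = N1425 := ded_39_1 (flp_g L12324) (flp_f L10533) L8887 L10533 L12324
theorem L12332 : sm gh N1225 = N1426 := rfl
theorem L12334 : sm ga N1426 = N1426 := ded_15_1 (flp_h L12332) L10535 L12332
theorem L12335 : sm gc N1426 = N1242 := ded_28_1 (flp_h L10664) (flp_c L10536) L12332
theorem L12337 : sm gf N1426 = N1226 := ded_40_1 (flp_h L10540) L10533 L12332
theorem L12339 : sm gd N1426 = N1426 := ded_33_1 (flp_h L12332) L10538 L8895 (flp_d L10538) L12332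
theorem L12340 : sm gi N1226 = N1427 := rfl
theorem L12342 : sm ga N1427 = N1427 := ded_16_1 (flp_i L12340) L10542 L12340
theorem L12343 : sm gc N1427 = N1243 := ded_29_1 (flp_i L10671) (flp_c L10543) L12340
theorem L12345 : sm gd N1427 = N1427 := ded_34_1 (flp_i L12340) L10546 L12340
theorem L12346 : sm gg N1427 = N1427 := ded_43_1 (flp_i L12340) L10545 L12340
theorem L12347 : sm gd N1228 = N1428 := rfl
theorem L12349 : sm ga N1428 = N1229 := ded_11_1 (flp_d L10566) (flp_a L10557) L12347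
theorem L12351 : sm gb N1428 = N1428 := ded_18_1 (flp_d L12347) L10559 L12347
theorem L12352 : sm gg N1428 = N1428 := ded_32_2 (flp_d L12347) L10562 L12347
theorem L12353 : sm gi N1428 = N1234 := ded_34_2 (flp_d L10607) (flp_i L10564) L12347
theorem L12355 : sm gf N1228 = N1429 := rfl
theorem L12357 : sm ga N1429 = N1230 := ded_13_1 (flp_f L10573) (flp_a L10557) L12355
theorem L12359 : sm gb N1429 = N1429 := ded_20_1 (flp_f L12355) L10559 L12355
theorem L12360 : sm gc N1429 = N1304 := ded_26_1 (flp_f L11171) (flp_c L10560) L12355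
theorem L12362 : sm gh N1429 = N1429 := ded_40_2 (flp_f L12355) L10563 L12355
theorem L12363 : sm gi N1429 = N1235 := ded_41_2 (flp_f L10613) (flp_i L10564) L12355
theorem L12365 : sm ge N1429 = N1245 := ded_35_1 (flp_f L10688) (flp_e L9001) (flp_f L8911) L10555 L12355
theorem L12367 : sm gg N1325 = N1429 := ded_27_0 L12360 (flp_g L11182) (flp_c L11328)
theorem L12369 : sm gc N1229 = N1430 := rfl
theorem L12371 : sm gg N1430 = N1430 := ded_27_2 (flp_c L12369) L10570 L12369
theorem L12372 : sm gi N1430 = N1236 := ded_29_2 (flp_c L10624) (flp_i L10571) L12369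
theorem L12374 : sm gd N1430 = N1305 := ded_24_2 (flp_c L11184) (flp_d L9385) (flp_c L8922) L10566 L12369
theorem L12376 : sm gf N1229 = N1431 := rfl
theorem L12378 : sm gb N1431 = N1231 := ded_20_1 (flp_f L10584) (flp_b L10568) L12376
theorem L12380 : sm gd N1431 = N1230 := ded_31_1 (flp_f L10573) L10566 L12376
theorem L12382 : sm gi N1431 = N1237 := ded_41_2 (flp_f L10629) (flp_i L10571) L12376
theorem L12384 : sm gh N1229 = N1432 := rfl
theorem L12386 : sm gb N1432 = N1232 := ded_22_1 (flp_h L10591) (flp_b L10568) L12384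
theorem L12388 : sm gg N1432 = N1432 := ded_42_1 (flp_h L12384) L10570 L12384
theorem L12389 : sm gd N1432 = N1432 := ded_33_1 (flp_h L12384) (flp_d L10566) L8925 L10566 L12384
theorem L12390 : sm gg N1230 = N1433 := rfl
theorem L12392 : sm ga N1433 = N1325 := ded_14_1 L12367 L12357 L12390
theorem L12394 : sm gb N1433 = N1233 := ded_21_1 (flp_g L10596) (flp_b L10575) L12390
theorem L12396 : sm gc N1433 = N1308 := ded_27_1 (flp_g L11205) (flp_c L10577) L12390
theorem L12398 : sm ge N1433 = N1249 := ded_36_1 (flp_g L10728) (flp_e L10582) L12390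
theorem L12400 : sm gh N1433 = N1433 := ded_42_2 (flp_g L12390) L10579 L12390
theorem L12401 : sm gi N1433 = N1239 := ded_43_2 (flp_g L10642) (flp_i L10580) L12390
theorem L12403 : sm gf N1433 = N1433 := ded_39_1 (flp_g L12390) (flp_f L10573) L8924 L10573 L12390
theorem L12404 : sm ge N1231 = N1434 := rfl
theorem L12406 : sm ga N1434 = N1434 := ded_12_1 (flp_e L12404) L10586 L12404
theorem L12407 : sm gi N1434 = N1240 := ded_38_2 (flp_e L10653) (flp_i L10589) L12404
theorem L12409 : sm gd N1434 = N1250 := ded_30_1 (flp_e L10741) L9034 (flp_e L8942) (flp_d L10587) L12404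
theorem L12411 : sm gg N1231 = N1435 := rfl
theorem L12413 : sm ga N1435 = N1435 := ded_14_1 (flp_g L12411) L10586 L12411
theorem L12414 : sm gd N1435 = N1233 := ded_32_1 (flp_g L10596) (flp_d L10587) L12411
theorem L12416 : sm gi N1435 = N1241 := ded_43_2 (flp_g L10658) (flp_i L10589) L12411
theorem L12418 : sm gf N1435 = N1435 := ded_39_1 (flp_g L12411) (flp_f L10584) L8931 L10584 L12411
theorem L12419 : sm gh N1231 = N1436 := rfl
theorem L12421 : sm ga N1436 = N1436 := ded_15_1 (flp_h L12419) L10586 L12419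
theorem L12422 : sm gf N1436 = N1232 := ded_40_1 (flp_h L10591) L10584 L12419
theorem L12424 : sm gd N1436 = N1436 := ded_33_1 (flp_h L12419) L10587 L8939 (flp_d L10587) L12419
theorem L12425 : sm gi N1232 = N1437 := rfl
theorem L12427 : sm ga N1437 = N1437 := ded_16_1 (flp_i L12425) L10593 L12425
theorem L12428 : sm gd N1437 = N1437 := ded_34_1 (flp_i L12425) L10595 L12425
theorem L12429 : sm gg N1437 = N1437 := ded_43_1 (flp_i L12425) L10594 L12425
theorem L12430 : sm gh N1437 = N1243 := ded_44_1 (flp_i L10671) (flp_h L8985) (flp_i L8932) L10591 L12425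
theorem L12432 : sm gc N1234 = N1438 := rfl
theorem L12434 : sm ga N1438 = N1236 := ded_10_1 (flp_c L10624) (flp_a L10609) L12432
theorem L12436 : sm gg N1438 = N1438 := ded_27_2 (flp_c L12432) L10612 L12432
theorem L12437 : sm gd N1438 = N1313 := ded_24_2 (flp_c L11243) (flp_d L9423) (flp_c L8960) L10607 L12432
theorem L12439 : sm gf N1234 = N1439 := rfl
theorem L12441 : sm ga N1439 = N1237 := ded_13_1 (flp_f L10629) (flp_a L10609) L12439
theorem L12443 : sm gb N1439 = N1439 := ded_20_1 (flp_f L12439) L10611 L12439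
theorem L12444 : sm gd N1439 = N1235 := ded_31_1 (flp_f L10613) L10607 L12439
theorem L12446 : sm gh N1234 = N1440 := rfl
theorem L12448 : sm ga N1440 = N1238 := ded_15_1 (flp_h L10635) (flp_a L10609) L12446
theorem L12450 : sm gb N1440 = N1440 := ded_22_1 (flp_h L12446) L10611 L12446
theorem L12451 : sm gg N1440 = N1440 := ded_42_1 (flp_h L12446) L10612 L12446
theorem L12452 : sm gd N1440 = N1268 := ded_33_1 (flp_h L10888) (flp_d L9132) (flp_h L8963) L10607 L12446
theorem L12454 : sm gg N1235 = N1441 := rfl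
theorem L12456 : sm ga N1441 = N1239 := ded_14_1 (flp_g L10642) (flp_a L10615) L12454
theorem L12458 : sm gb N1441 = N1441 := ded_21_1 (flp_g L12454) L10617 L12454
theorem L12459 : sm gc N1441 = N1315 := ded_27_1 (flp_g L11255) (flp_c L10618) L12454
theorem L12461 : sm ge N1441 = N1257 := ded_36_1 (flp_g L10803) (flp_e L10622) L12454
theorem L12463 : sm gh N1441 = N1269 := ded_42_2 (flp_g L10895) (flp_h L10620) L12454
theorem L12465 : sm gi N1441 = N1325 := ded_43_2 L12367 L12363 L12454
theorem L12467 : sm gf N1441 = N1441 := ded_39_1 (flp_g L12454) (flp_f L10613) L8962 L10613 L12454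
theorem L12468 : sm gf N1236 = N1442 := rfl
theorem L12470 : sm gc N1442 = N1237 := ded_26_1 (flp_f L10629) L10624 L12468
theorem L12472 : sm gd N1442 = N1316 := ded_31_1 (flp_f L11268) (flp_d L10627) L12468
theorem L12474 : sm gh N1236 = N1443 := rfl
theorem L12476 : sm gc N1443 = N1238 := ded_28_1 (flp_h L10635) L10624 L12474
theorem L12478 : sm gg N1443 = N1443 := ded_42_1 (flp_h L12474) L10626 L12474
theorem L12479 : sm ge N1237 = N1444 := rfl
theorem L12481 : sm gb N1444 = N1240 := ded_19_1 (flp_e L10653) (flp_b L10631) L12479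
theorem L12483 : sm gd N1444 = N1260 := ded_30_1 (flp_e L10831) L9084 (flp_e L8978) (flp_d L10633) L12479
theorem L12485 : sm gg N1237 = N1445 := rfl
theorem L12487 : sm gb N1445 = N1241 := ded_21_1 (flp_g L10658) (flp_b L10631) L12485
theorem L12489 : sm gd N1445 = N1239 := ded_32_1 (flp_g L10642) (flp_d L10633) L12485
theorem L12491 : sm gf N1445 = N1445 := ded_39_1 (flp_g L12485) (flp_f L10629) L8969 L10629 L12485
theorem L12492 : sm gh N1237 = N1446 := rfl
theorem L12494 : sm gb N1446 = N1242 := ded_22_1 (flp_h L10664) (flp_b L10631) L12492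
theorem L12496 : sm gf N1446 = N1238 := ded_40_1 (flp_h L10635) L10629 L12492
theorem L12498 : sm gd N1446 = N1274 := ded_33_1 (flp_h L10937) L9162 (flp_h L8976) (flp_d L10633) L12492
theorem L12500 : sm gi N1238 = N1447 := rfl
theorem L12502 : sm gb N1447 = N1243 := ded_23_1 (flp_i L10671) (flp_b L10637) L12500
theorem L12504 : sm gd N1447 = N1275 := ded_34_1 (flp_i L10943) (flp_d L10640) L12500
theorem L12506 : sm gg N1447 = N1447 := ded_43_1 (flp_i L12500) L10639 L12500
theorem L12507 : sm gg N1240 = N1448 := rfl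
theorem L12509 : sm ga N1448 = N1448 := ded_14_1 (flp_g L12507) L10655 L12507
theorem L12510 : sm gd N1448 = N1264 := ded_32_1 (flp_g L10859) (flp_d L10656) L12507
theorem L12512 : sm ge N1448 = N1241 := ded_36_1 (flp_g L10658) L10653 L12507
theorem L12514 : sm gh N1240 = N1449 := rfl
theorem L12516 : sm ga N1449 = N1449 := ded_15_1 (flp_h L12514) L10655 L12514
theorem L12517 : sm ge N1449 = N1242 := ded_37_1 (flp_h L10664) L10653 L12514
theorem L12519 : sm gh N1241 = N1450 := rfl
theorem L12521 : sm ga N1450 = N1450 := ded_15_1 (flp_h L12519) L10660 L12519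
theorem L12522 : sm gf N1450 = N1450 := ded_40_1 (flp_h L12519) L10663 L12519
theorem L12523 : sm gg N1450 = N1242 := ded_42_1 (flp_h L10664) L10658 L12519
theorem L12525 : sm gd N1450 = N1278 := ded_33_1 (flp_h L10966) L9193 (flp_h L8998) (flp_d L10661) L12519
theorem L12527 : sm gi N1242 = N1451 := rfl
theorem L12529 : sm ga N1451 = N1451 := ded_16_1 (flp_i L12527) L10666 L12527
theorem L12530 : sm gd N1451 = N1279 := ded_34_1 (flp_i L10973) (flp_d L10669) L12527
theorem L12532 : sm gf N1451 = N1243 := ded_41_1 (flp_i L10671) (flp_f L10667) L12527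
theorem L12534 : sm gf N1244 = N1452 := rfl
theorem L12536 : sm ga N1452 = N1247 := ded_13_1 (flp_f L10711) (flp_a L10679) L12534
theorem L12538 : sm gb N1452 = N1452 := ded_20_1 (flp_f L12534) L10681 L12534
theorem L12539 : sm gc N1452 = N1261 := ded_26_1 L10841 (flp_c L10686) L12534
theorem L12541 : sm gd N1452 = N1245 := ded_31_1 (flp_f L10688) L10677 L12534
theorem L12543 : sm gi N1452 = N1255 := ded_41_2 (flp_f L10787) (flp_i L10684) L12534
theorem L12545 : sm gg N1452 = N1258 := ded_39_2 (flp_f L10816) L9075 (flp_f L9750) (flp_g L10682) L12534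
theorem L12547 : sm gf N1246 = N1453 := rfl
theorem L12549 : sm ga N1453 = N1261 := ded_13_1 L10841 (flp_a L10702) L12547
theorem L12551 : sm gb N1453 = N1453 := ded_20_1 (flp_f L12547) L10708 L12547
theorem L12552 : sm gc N1453 = N1247 := ded_26_1 (flp_f L10711) L10700 L12547
theorem L12554 : sm gd N1453 = N1257 := ded_31_1 L10814 (flp_d L10709) L12547
theorem L12556 : sm gi N1453 = N1258 := ded_41_2 (flp_f L10816) (flp_i L10706) L12547
theorem L12558 : sm gg N1453 = N1255 := ded_39_2 (flp_f L10787) L9062 L9765 (flp_g L10704) L12547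
theorem L12560 : sm ge N1247 = N1454 := rfl
theorem L12562 : sm gb N1454 = N1250 := ded_19_1 (flp_e L10741) (flp_b L10713) L12560
theorem L12564 : sm gi N1454 = N1260 := ded_38_2 (flp_e L10831) (flp_i L10717) L12560
theorem L12566 : sm gg N1247 = N1455 := rfl
theorem L12568 : sm ga N1455 = N1258 := ded_14_1 (flp_g L12545) L12536 L12566
theorem L12570 : sm gb N1455 = N1251 := ded_21_1 (flp_g L10747) (flp_b L10713) L12566
theorem L12572 : sm gc N1455 = N1255 := ded_27_1 (flp_g L12558) L12552 L12566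
theorem L12574 : sm gd N1455 = N1249 := ded_32_1 (flp_g L10728) (flp_d L10715) L12566
theorem L12576 : sm gi N1455 = N1261 := ded_43_2 (flp_g L10835) (flp_i L10717) L12566
theorem L12578 : sm gf N1455 = N1254 := ded_39_1 L10779 (flp_f L9767) (flp_g L9017) L10711 L12566
theorem L12580 : sm gh N1247 = N1456 := rfl
theorem L12582 : sm gb N1456 = N1252 := ded_22_1 (flp_h L10757) (flp_b L10713) L12580
theorem L12584 : sm gf N1456 = N1248 := ded_40_1 (flp_h L10719) L10711 L12580
theorem L12586 : sm gd N1456 = N1456 := ded_33_1 (flp_h L12580) L10715 L9027 (flp_d L10715) L12580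
theorem L12587 : sm gg N1250 = N1457 := rfl
theorem L12589 : sm ga N1457 = N1457 := ded_14_1 (flp_g L12587) L10743 L12587
theorem L12590 : sm gc N1457 = N1457 := ded_27_1 (flp_g L12587) L10744 L12587
theorem L12591 : sm ge N1457 = N1251 := ded_36_1 (flp_g L10747) L10741 L12587
theorem L12593 : sm gi N1457 = N1264 := ded_43_2 (flp_g L10859) (flp_i L10745) L12587
theorem L12595 : sm gh N1250 = N1458 := rfl
theorem L12597 : sm ga N1458 = N1458 := ded_15_1 (flp_h L12595) L10743 L12595
theorem L12598 : sm gc N1458 = N1458 := ded_28_1 (flp_h L12595) L10744 L12595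
theorem L12599 : sm ge N1458 = N1252 := ded_37_1 (flp_h L10757) L10741 L12595
theorem L12601 : sm gf N1458 = N1264 := ded_40_1 (flp_h L12044) L12048 L12595
theorem L12603 : sm ge N1255 = N1459 := rfl
theorem L12605 : sm ga N1459 = N1260 := ded_12_1 (flp_e L10831) (flp_a L10789) L12603
theorem L12607 : sm gb N1459 = N1459 := ded_19_1 (flp_e L12603) L10791 L12603
theorem L12608 : sm gh N1255 = N1460 := rfl
theorem L12610 : sm ga N1460 = N1262 := ded_15_1 (flp_h L10843) (flp_a L10789) L12608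
theorem L12612 : sm gb N1460 = N1460 := ded_22_1 (flp_h L12608) L10791 L12608
theorem L12613 : sm gf N1460 = N1256 := ded_40_1 (flp_h L10794) L10787 L12608
theorem L12615 : sm gd N1460 = N1282 := ded_33_1 (flp_h L10999) L9216 (flp_h L9071) (flp_d L10792) L12608
theorem L12617 : sm ge N1258 = N1461 := rfl
theorem L12619 : sm gb N1461 = N1461 := ded_19_1 (flp_e L12617) L10818 L12617
theorem L12620 : sm gc N1461 = N1260 := ded_25_1 (flp_e L10831) (flp_c L10819) L12617
theorem L12622 : sm gh N1258 = N1462 := rfl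
theorem L12624 : sm gb N1462 = N1462 := ded_22_1 (flp_h L12622) L10818 L12622
theorem L12625 : sm gc N1462 = N1262 := ded_28_1 (flp_h L10843) (flp_c L10819) L12622
theorem L12627 : sm gf N1462 = N1259 := ded_40_1 (flp_h L10823) L10816 L12622
theorem L12629 : sm gd N1462 = N1462 := ded_33_1 (flp_h L12622) L10821 L9561 (flp_d L10821) L12622
theorem L12630 : sm gg N1260 = N1463 := rfl
theorem L12632 : sm gb N1463 = N1264 := ded_21_1 (flp_g L10859) (flp_b L10833) L12630
theorem L12634 : sm ge N1463 = N1261 := ded_36_1 (flp_g L10835) L10831 L12630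
theorem L12636 : sm gh N1260 = N1464 := rfl
theorem L12638 : sm gb N1464 = N1265 := ded_22_1 (flp_h L10865) (flp_b L10833) L12636
theorem L12640 : sm ge N1464 = N1262 := ded_37_1 (flp_h L10843) L10831 L12636
theorem L12642 : sm gd N1265 = N1465 := rfl
theorem L12644 : sm ga N1465 = N1465 := ded_11_1 (flp_d L12642) L10867 L12642
theorem L12645 : sm ge N1465 = N1286 := ded_30_2 (flp_d L11033) L9284 (flp_d L9122) (flp_e L10869) L12642
theorem L12647 : sm gf N1266 = N1466 := rfl
theorem L12649 : sm ga N1466 = N1270 := ded_13_1 (flp_f L10906) (flp_a L10873) L12647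
theorem L12651 : sm gc N1466 = N1267 := ded_26_1 (flp_f L10880) L10871 L12647
theorem L12653 : sm gd N1466 = N1326 := ded_31_1 (flp_f L11332) (flp_d L10878) L12647
theorem L12655 : sm gi N1466 = N1466 := ded_41_2 (flp_f L12647) L10877 L12647
theorem L12656 : sm gh N1266 = N1467 := rfl
theorem L12658 : sm ga N1467 = N1271 := ded_15_1 (flp_h L10914) (flp_a L10873) L12656
theorem L12660 : sm gc N1467 = N1268 := ded_28_1 (flp_h L10888) L10871 L12656
theorem L12662 : sm ge N1467 = N1467 := ded_37_1 (flp_h L12656) L10875 L12656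
theorem L12663 : sm gg N1467 = N1467 := ded_42_1 (flp_h L12656) L10876 L12656
theorem L12664 : sm ge N1267 = N1468 := rfl
theorem L12666 : sm ga N1468 = N1272 := ded_12_1 (flp_e L10921) (flp_a L10882) L12664
theorem L12668 : sm gb N1468 = N1468 := ded_19_1 (flp_e L12664) L10884 L12664
theorem L12669 : sm gi N1468 = N1468 := ded_38_2 (flp_e L12664) L10887 L12664
theorem L12670 : sm gd N1468 = N1280 := ded_30_1 (flp_e L10980) L9216 (flp_e L9148) (flp_d L10885) L12664
theorem L12672 : sm gf N1468 = N1468 := ded_35_2 (flp_e L12664) (flp_f L10880) L9139 L10880 L12664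
theorem L12673 : sm gg N1267 = N1469 := rfl
theorem L12675 : sm ga N1469 = N1273 := ded_14_1 (flp_g L10929) (flp_a L10882) L12673
theorem L12677 : sm gb N1469 = N1469 := ded_21_1 (flp_g L12673) L10884 L12673
theorem L12678 : sm gd N1469 = N1269 := ded_32_1 (flp_g L10895) (flp_d L10885) L12673
theorem L12680 : sm gi N1469 = N1469 := ded_43_2 (flp_g L12673) L10887 L12673
theorem L12681 : sm gf N1469 = N1469 := ded_39_1 (flp_g L12673) (flp_f L10880) L9137 L10880 L12673
theorem L12682 : sm gh N1267 = N1470 := rfl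
theorem L12684 : sm ga N1470 = N1274 := ded_15_1 (flp_h L10937) (flp_a L10882) L12682
theorem L12686 : sm gb N1470 = N1470 := ded_22_1 (flp_h L12682) L10884 L12682
theorem L12687 : sm gf N1470 = N1268 := ded_40_1 (flp_h L10888) L10880 L12682
theorem L12689 : sm gi N1268 = N1471 := rfl
theorem L12691 : sm ga N1471 = N1275 := ded_16_1 (flp_i L10943) (flp_a L10890) L12689
theorem L12693 : sm gb N1471 = N1471 := ded_23_1 (flp_i L12689) L10892 L12689
theorem L12694 : sm ge N1471 = N1471 := ded_38_1 (flp_i L12689) L10893 L12689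
theorem L12695 : sm gg N1471 = N1471 := ded_43_1 (flp_i L12689) L10894 L12689
theorem L12696 : sm gh N1471 = N1471 := ded_44_1 (flp_i L12689) (flp_h L10888) L9138 L10888 L12689
theorem L12697 : sm ge N1270 = N1472 := rfl
theorem L12699 : sm gb N1472 = N1472 := ded_19_1 (flp_e L12697) L10908 L12697
theorem L12700 : sm gc N1472 = N1272 := ded_25_1 (flp_e L10921) (flp_c L10909) L12697
theorem L12702 : sm gi N1472 = N1472 := ded_38_2 (flp_e L12697) L10913 L12697
theorem L12703 : sm gd N1472 = N1472 := ded_30_1 (flp_e L12697) L10911 L9604 (flp_d L10911) L12697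
theorem L12704 : sm gf N1472 = N1472 := ded_35_2 (flp_e L12697) (flp_f L10906) L9152 L10906 L12697
theorem L12705 : sm gg N1270 = N1473 := rfl
theorem L12707 : sm gb N1473 = N1473 := ded_21_1 (flp_g L12705) L10908 L12705
theorem L12708 : sm gc N1473 = N1273 := ded_27_1 (flp_g L10929) (flp_c L10909) L12705
theorem L12710 : sm gd N1473 = N1328 := ded_32_1 (flp_g L11349) (flp_d L10911) L12705
theorem L12712 : sm gi N1473 = N1473 := ded_43_2 (flp_g L12705) L10913 L12705
theorem L12713 : sm gf N1473 = N1473 := ded_39_1 (flp_g L12705) (flp_f L10906) L9153 L10906 L12705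
theorem L12714 : sm gh N1270 = N1474 := rfl
theorem L12716 : sm gb N1474 = N1474 := ded_22_1 (flp_h L12714) L10908 L12714
theorem L12717 : sm gc N1474 = N1274 := ded_28_1 (flp_h L10937) (flp_c L10909) L12714
theorem L12719 : sm gf N1474 = N1271 := ded_40_1 (flp_h L10914) L10906 L12714
theorem L12721 : sm gd N1271 = N1475 := rfl
theorem L12723 : sm gb N1475 = N1475 := ded_18_1 (flp_d L12721) L10916 L12721
theorem L12724 : sm gg N1475 = N1475 := ded_32_2 (flp_d L12721) L10920 L12721
theorem L12725 : sm gh N1475 = N1330 := ded_33_2 (flp_d L11365) (flp_h L9605) (flp_d L9156) L10914 L12721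
theorem L12727 : sm gi N1271 = N1476 := rfl
theorem L12729 : sm gb N1476 = N1476 := ded_23_1 (flp_i L12727) L10916 L12727
theorem L12730 : sm gc N1476 = N1275 := ded_29_1 (flp_i L10943) (flp_c L10917) L12727
theorem L12732 : sm ge N1476 = N1476 := ded_38_1 (flp_i L12727) L10919 L12727
theorem L12733 : sm gg N1476 = N1476 := ded_43_1 (flp_i L12727) L10920 L12727
theorem L12734 : sm gh N1476 = N1476 := ded_44_1 (flp_i L12727) (flp_h L10914) L9154 L10914 L12727
theorem L12735 : sm gg N1272 = N1477 := rfl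
theorem L12737 : sm gb N1477 = N1276 := ded_21_1 (flp_g L10950) (flp_b L10923) L12735
theorem L12739 : sm gd N1477 = N1284 := ded_32_1 (flp_g L11017) (flp_d L10926) L12735
theorem L12741 : sm ge N1477 = N1273 := ded_36_1 (flp_g L10929) L10921 L12735
theorem L12743 : sm gi N1477 = N1477 := ded_43_2 (flp_g L12735) L10925 L12735
theorem L12744 : sm gh N1272 = N1478 := rfl
theorem L12746 : sm gb N1478 = N1277 := ded_22_1 (flp_h L10959) (flp_b L10923) L12744
theorem L12748 : sm ge N1478 = N1274 := ded_37_1 (flp_h L10937) L10921 L12744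
theorem L12750 : sm gf N1478 = N1478 := ded_40_1 (flp_h L12744) L10928 L12744
theorem L12751 : sm gh N1273 = N1479 := rfl
theorem L12753 : sm gb N1479 = N1278 := ded_22_1 (flp_h L10966) (flp_b L10931) L12751
theorem L12755 : sm gf N1479 = N1479 := ded_40_1 (flp_h L12751) L10936 L12751
theorem L12756 : sm gg N1479 = N1274 := ded_42_1 (flp_h L10937) L10929 L12751
theorem L12758 : sm gi N1274 = N1480 := rfl
theorem L12760 : sm gb N1480 = N1279 := ded_23_1 (flp_i L10973) (flp_b L10939) L12758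
theorem L12762 : sm gf N1480 = N1275 := ded_41_1 (flp_i L10943) (flp_f L10941) L12758
theorem L12764 : sm gh N1480 = N1480 := ded_44_1 (flp_i L12758) (flp_h L10937) L9164 L10937 L12758
theorem L12765 : sm gh N1276 = N1481 := rfl
theorem L12767 : sm ga N1481 = N1481 := ded_15_1 (flp_h L12765) L10952 L12765
theorem L12768 : sm gc N1481 = N1481 := ded_28_1 (flp_h L12765) L10953 L12765
theorem L12769 : sm ge N1481 = N1278 := ded_37_1 (flp_h L10966) (flp_e L10956) L12765
theorem L12771 : sm gg N1481 = N1277 := ded_42_1 (flp_h L10959) L10950 L12765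
theorem L12773 : sm gd N1277 = N1482 := rfl
theorem L12775 : sm ga N1482 = N1482 := ded_11_1 (flp_d L12773) L10961 L12773
theorem L12776 : sm gf N1482 = N1482 := ded_31_2 (flp_d L12773) L10965 L12773
theorem L12777 : sm gh N1482 = N1286 := ded_33_2 (flp_d L11033) (flp_h L9279) (flp_d L9186) L10959 L12773
theorem L12779 : sm gi N1277 = N1483 := rfl
theorem L12781 : sm ga N1483 = N1483 := ded_16_1 (flp_i L12779) L10961 L12779
theorem L12782 : sm gc N1483 = N1483 := ded_29_1 (flp_i L12779) L10962 L12779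
theorem L12783 : sm ge N1483 = N1279 := ded_38_1 (flp_i L10973) (flp_e L10963) L12779
theorem L12785 : sm gf N1483 = N1483 := ded_41_1 (flp_i L12779) L10965 L12779
theorem L12786 : sm gh N1483 = N1483 := ded_44_1 (flp_i L12779) (flp_h L10959) L9185 L10959 L12779
theorem L12787 : sm gi N1278 = N1484 := rfl
theorem L12789 : sm ga N1484 = N1484 := ded_16_1 (flp_i L12787) L10968 L12787
theorem L12790 : sm gc N1484 = N1484 := ded_29_1 (flp_i L12787) L10969 L12787
theorem L12791 : sm gf N1484 = N1484 := ded_41_1 (flp_i L12787) L10970 L12787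
theorem L12792 : sm gg N1484 = N1279 := ded_43_1 (flp_i L10973) (flp_g L10971) L12787
theorem L12794 : sm gh N1484 = N1484 := ded_44_1 (flp_i L12787) (flp_h L10966) L9195 L10966 L12787
theorem L12795 : sm gg N1280 = N1485 := rfl
theorem L12797 : sm ga N1485 = N1284 := ded_14_1 (flp_g L11017) (flp_a L10982) L12795
theorem L12799 : sm gb N1485 = N1485 := ded_21_1 (flp_g L12795) L10984 L12795
theorem L12800 : sm gc N1485 = N1485 := ded_27_1 (flp_g L12795) L10985 L12795
theorem L12801 : sm ge N1485 = N1281 := ded_36_1 (flp_g L10988) L10980 L12795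
theorem L12803 : sm gi N1485 = N1485 := ded_43_2 (flp_g L12795) L10986 L12795
theorem L12804 : sm gh N1280 = N1486 := rfl
theorem L12806 : sm ga N1486 = N1285 := ded_15_1 (flp_h L11025) (flp_a L10982) L12804
theorem L12808 : sm gb N1486 = N1486 := ded_22_1 (flp_h L12804) L10984 L12804
theorem L12809 : sm gc N1486 = N1486 := ded_28_1 (flp_h L12804) L10985 L12804
theorem L12810 : sm ge N1486 = N1282 := ded_37_1 (flp_h L10999) L10980 L12804
theorem L12812 : sm gf N1486 = N1486 := ded_40_1 (flp_h L12804) L10987 L12804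
theorem L12813 : sm gd N1285 = N1487 := rfl
theorem L12815 : sm gb N1487 = N1286 := ded_18_1 (flp_d L11033) (flp_b L11027) L12813
theorem L12817 : sm gf N1487 = N1487 := ded_31_2 (flp_d L12813) L11032 L12813
theorem L12818 : sm gc N1286 = N1488 := rfl
theorem L12820 : sm ga N1488 = N1488 := ded_10_1 (flp_c L12818) L11035 L12818
theorem L12821 : sm gf N1488 = N1488 := ded_26_2 (flp_c L12818) L11036 L12818
theorem L12822 : sm gd N1488 = N1287 := ded_24_2 (flp_c L11037) (flp_d L9287) (flp_c L9282) L11033 L12818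
theorem L12824 : sm gb N1287 = N1489 := rfl
theorem L12826 : sm ge N1489 = N1489 := ded_19_2 (flp_b L12824) L11040 L12824
theorem L12827 : sm gf N1489 = N1489 := ded_20_2 (flp_b L12824) L11041 L12824
theorem L12828 : sm gh N1489 = N1489 := ded_22_2 (flp_b L12824) L11042 L12824
theorem L12829 : sm gc N1489 = N1489 := ded_17_2 (flp_b L12824) (flp_c L11037) L9290 L11037 L12824
theorem L12830 : sm gc N1289 = N1490 := rfl
theorem L12832 : sm ga N1490 = N1317 := ded_10_1 L11274 (flp_a L11053) L12830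
theorem L12834 : sm ge N1490 = N1490 := ded_25_2 (flp_c L12830) L11060 L12830
theorem L12835 : sm gg N1490 = N1490 := ded_27_2 (flp_c L12830) L11057 L12830
theorem L12836 : sm gh N1490 = N1313 := ded_28_2 (flp_c L11243) (flp_h L11061) L12830
theorem L12838 : sm gi N1490 = N1295 := ded_29_2 (flp_c L11110) (flp_i L11058) L12830
theorem L12840 : sm gb N1490 = N1305 := ded_17_1 (flp_c L11184) L9387 (flp_c L9317) (flp_b L11055) L12830
theorem L12842 : sm gf N1289 = N1491 := rfl
theorem L12844 : sm ga N1491 = N1320 := ded_13_1 L11296 (flp_a L11053) L12842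
theorem L12846 : sm gb N1491 = N1291 := ded_20_1 (flp_f L11074) (flp_b L11055) L12842
theorem L12848 : sm gd N1491 = N1290 := ded_31_1 (flp_f L11063) L11051 L12842
theorem L12850 : sm gh N1491 = N1314 := ded_40_2 (flp_f L11249) (flp_h L11061) L12842
theorem L12852 : sm gi N1491 = N1296 := ded_41_2 (flp_f L11116) (flp_i L11058) L12842
theorem L12854 : sm gg N1290 = N1492 := rfl
theorem L12856 : sm ga N1492 = N1331 := ded_14_1 L11375 (flp_a L11065) L12854
theorem L12858 : sm gb N1492 = N1292 := ded_21_1 (flp_g L11082) (flp_b L11067) L12854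
theorem L12860 : sm ge N1492 = N1492 := ded_36_1 (flp_g L12854) L11073 L12854
theorem L12861 : sm gh N1492 = N1327 := ded_42_2 (flp_g L11340) (flp_h L11069) L12854
theorem L12863 : sm gi N1492 = N1298 := ded_43_2 (flp_g L11129) (flp_i L11071) L12854
theorem L12865 : sm gf N1492 = N1492 := ded_39_1 (flp_g L12854) (flp_f L11063) L9307 L11063 L12854
theorem L12866 : sm ge N1291 = N1493 := rfl
theorem L12868 : sm gc N1493 = N1309 := ded_25_1 (flp_e L11217) (flp_c L11076) L12866
theorem L12870 : sm gh N1493 = N1310 := ded_37_2 L11673 L11669 L12866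
theorem L12872 : sm gi N1493 = N1299 := ded_38_2 (flp_e L11136) (flp_i L11080) L12866
theorem L12874 : sm gd N1493 = N1493 := ded_30_1 (flp_e L12866) L11078 L9326 (flp_d L11078) L12866
theorem L12875 : sm gf N1493 = N1493 := ded_35_2 (flp_e L12866) (flp_f L11074) L9319 L11074 L12866
theorem L12876 : sm gg N1311 = N1493 := ded_27_0 L12868 L11675 L11665
theorem L12878 : sm gg N1291 = N1494 := rfl
theorem L12880 : sm gc N1494 = N1310 := ded_27_1 (flp_g L11224) (flp_c L11076) L12878
theorem L12882 : sm gd N1494 = N1292 := ded_32_1 (flp_g L11082) (flp_d L11078) L12878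
theorem L12884 : sm ge N1494 = N1311 := ded_36_1 L12876 (flp_e L12866) L12878
theorem L12886 : sm gh N1494 = N1309 := ded_42_2 L11675 L11669 L12878
theorem L12888 : sm gi N1494 = N1300 := ded_43_2 (flp_g L11142) (flp_i L11080) L12878
theorem L12890 : sm gf N1494 = N1494 := ded_39_1 (flp_g L12878) (flp_f L11074) L9314 L11074 L12878
theorem L12891 : sm gc N1293 = N1495 := rfl
theorem L12893 : sm ga N1495 = N1295 := ded_10_1 (flp_c L11110) (flp_a L11092) L12891
theorem L12895 : sm ge N1495 = N1495 := ded_25_2 (flp_c L12891) L11099 L12891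
theorem L12896 : sm gg N1495 = N1495 := ded_27_2 (flp_c L12891) L11096 L12891
theorem L12897 : sm gi N1495 = N1317 := ded_29_2 L11274 (flp_i L11097) L12891
theorem L12899 : sm gf N1293 = N1496 := rfl
theorem L12901 : sm ga N1496 = N1296 := ded_13_1 (flp_f L11116) (flp_a L11092) L12899
theorem L12903 : sm gb N1496 = N1324 := ded_20_1 L11323 (flp_b L11094) L12899
theorem L12905 : sm gd N1496 = N1294 := ded_31_1 (flp_f L11100) L11090 L12899
theorem L12907 : sm gi N1496 = N1320 := ded_41_2 L11296 (flp_i L11097) L12899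
theorem L12909 : sm gh N1293 = N1497 := rfl
theorem L12911 : sm ga N1497 = N1297 := ded_15_1 (flp_h L11122) (flp_a L11092) L12909
theorem L12913 : sm gb N1497 = N1312 := ded_22_1 L11241 (flp_b L11094) L12909
theorem L12915 : sm ge N1497 = N1497 := ded_37_1 (flp_h L12909) L11099 L12909
theorem L12916 : sm gg N1497 = N1497 := ded_42_1 (flp_h L12909) L11096 L12909
theorem L12917 : sm gd N1497 = N1497 := ded_33_1 (flp_h L12909) (flp_d L11090) L9342 L11090 L12909
theorem L12918 : sm gi N1497 = N1307 := ded_44_2 (flp_h L11198) L9390 L9447 (flp_i L11097) L12909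
theorem L12920 : sm gg N1294 = N1498 := rfl
theorem L12922 : sm ga N1498 = N1298 := ded_14_1 (flp_g L11129) (flp_a L11102) L12920
theorem L12924 : sm gb N1498 = N1332 := ded_21_1 L11382 (flp_b L11104) L12920
theorem L12926 : sm ge N1498 = N1498 := ded_36_1 (flp_g L12920) L11109 L12920
theorem L12927 : sm gh N1498 = N1498 := ded_42_2 (flp_g L12920) L11106 L12920
theorem L12928 : sm gi N1498 = N1331 := ded_43_2 L11375 (flp_i L11107) L12920
theorem L12930 : sm gf N1498 = N1498 := ded_39_1 (flp_g L12920) (flp_f L11100) L9341 L11100 L12920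
theorem L12931 : sm gf N1295 = N1499 := rfl
theorem L12933 : sm gb N1499 = N1316 := ded_20_1 (flp_f L11268) (flp_b L11114) L12931
theorem L12935 : sm gc N1499 = N1296 := ded_26_1 (flp_f L11116) L11110 L12931
theorem L12937 : sm gh N1295 = N1500 := rfl
theorem L12939 : sm gb N1500 = N1317 := ded_22_1 (flp_h L11272) (flp_b L11114) L12937
theorem L12941 : sm gc N1500 = N1297 := ded_28_1 (flp_h L11122) L11110 L12937
theorem L12943 : sm ge N1500 = N1500 := ded_37_1 (flp_h L12937) L11112 L12937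
theorem L12944 : sm gg N1500 = N1500 := ded_42_1 (flp_h L12937) L11113 L12937
theorem L12945 : sm ge N1296 = N1501 := rfl
theorem L12947 : sm gb N1501 = N1299 := ded_19_1 (flp_e L11136) (flp_b L11118) L12945
theorem L12949 : sm gd N1501 = N1501 := ded_30_1 (flp_e L12945) L11120 L9356 (flp_d L11120) L12945
theorem L12950 : sm gf N1501 = N1501 := ded_35_2 (flp_e L12945) (flp_f L11116) L9350 L11116 L12945
theorem L12951 : sm gg N1296 = N1502 := rfl
theorem L12953 : sm gb N1502 = N1300 := ded_21_1 (flp_g L11142) (flp_b L11118) L12951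
theorem L12955 : sm gd N1502 = N1298 := ded_32_1 (flp_g L11129) (flp_d L11120) L12951
theorem L12957 : sm gf N1502 = N1502 := ded_39_1 (flp_g L12951) (flp_f L11116) L9349 L11116 L12951
theorem L12958 : sm gh N1296 = N1503 := rfl
theorem L12960 : sm gb N1503 = N1301 := ded_22_1 (flp_h L11149) (flp_b L11118) L12958
theorem L12962 : sm gf N1503 = N1297 := ded_40_1 (flp_h L11122) L11116 L12958
theorem L12964 : sm gd N1503 = N1503 := ded_33_1 (flp_h L12958) L11120 L9355 (flp_d L11120) L12958
theorem L12965 : sm gi N1297 = N1504 := rfl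
theorem L12967 : sm ga N1504 = N1307 := ded_16_1 (flp_i L12918) L12911 L12965
theorem L12969 : sm gb N1504 = N1302 := ded_23_1 (flp_i L11156) (flp_b L11124) L12965
theorem L12971 : sm gd N1504 = N1504 := ded_34_1 (flp_i L12965) L11128 L12965
theorem L12972 : sm ge N1504 = N1504 := ded_38_1 (flp_i L12965) L11126 L12965
theorem L12973 : sm gg N1504 = N1504 := ded_43_1 (flp_i L12965) L11127 L12965
theorem L12974 : sm gh N1504 = N1303 := ded_44_1 L11168 (flp_h L11061) L11058 L11122 L12965
theorem L12976 : sm gg N1299 = N1505 := rfl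
theorem L12978 : sm gc N1505 = N1321 := ded_27_1 (flp_g L11300) (flp_c L11138) L12976
theorem L12980 : sm gd N1505 = N1505 := ded_32_1 (flp_g L12976) L11140 L12976
theorem L12981 : sm ge N1505 = N1300 := ded_36_1 (flp_g L11142) L11136 L12976
theorem L12983 : sm gi N1505 = N1311 := ded_43_2 L12876 L12872 L12976
theorem L12985 : sm gf N1312 = N1505 := ded_26_0 L12978 (flp_f L11600) (flp_c L11606)
theorem L12987 : sm gh N1324 = N1505 := ded_44_5 L12983 (flp_h L11231) L9406 L9474 L11319
theorem L12989 : sm gh N1299 = N1506 := rfl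
theorem L12991 : sm gc N1506 = N1322 := ded_28_1 (flp_h L11306) (flp_c L11138) L12989
theorem L12993 : sm ge N1506 = N1301 := ded_37_1 (flp_h L11149) L11136 L12989
theorem L12995 : sm gf N1506 = N1506 := ded_40_1 (flp_h L12989) L11141 L12989
theorem L12996 : sm gg N1506 = N1324 := ded_42_1 L12987 (flp_g L12976) L12989
theorem L12998 : sm gi N1506 = N1323 := ded_44_2 (flp_h L11312) (flp_i L11228) (flp_h L12870) L12872 L12989
theorem L13000 : sm gd N1332 = N1506 := ded_32_3 L12996 L11321 (flp_g L11382)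
theorem L13002 : sm gh N1300 = N1507 := rfl
theorem L13004 : sm gc N1507 = N1323 := ded_28_1 (flp_h L11312) (flp_c L11144) L13002
theorem L13006 : sm ge N1507 = N1324 := ded_37_1 L12987 L12981 L13002
theorem L13008 : sm gf N1507 = N1507 := ded_40_1 (flp_h L13002) L11148 L13002
theorem L13009 : sm gg N1507 = N1301 := ded_42_1 (flp_h L11149) L11142 L13002
theorem L13011 : sm gd N1507 = N1507 := ded_33_1 (flp_h L13002) L11146 L9375 (flp_d L11146) L13002
theorem L13012 : sm gi N1507 = N1322 := ded_44_2 (flp_h L11306) (flp_i L11219) (flp_h L12886) L12888 L13002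
theorem L13014 : sm gi N1301 = N1508 := rfl
theorem L13016 : sm gc N1508 = N1324 := ded_29_1 (flp_i L11319) (flp_c L11151) L13014
theorem L13018 : sm gd N1508 = N1508 := ded_34_1 (flp_i L13014) L11155 L13014
theorem L13019 : sm ge N1508 = N1323 := ded_38_1 (flp_i L12998) L12993 L13014
theorem L13021 : sm gf N1508 = N1302 := ded_41_1 (flp_i L11156) (flp_f L11153) L13014
theorem L13023 : sm gg N1508 = N1322 := ded_43_1 (flp_i L13012) L13009 L13014
theorem L13025 : sm gh N1508 = N1321 := ded_44_1 (flp_i L11671) L11669 L11080 L11149 L13014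
theorem L13027 : sm gc N1303 = N1509 := rfl
theorem L13029 : sm ga N1509 = N1305 := ded_10_1 (flp_c L11184) (flp_a L11165) L13027
theorem L13031 : sm ge N1509 = N1509 := ded_25_2 (flp_c L13027) L11170 L13027
theorem L13032 : sm gg N1509 = N1509 := ded_27_2 (flp_c L13027) L11167 L13027
theorem L13033 : sm gi N1509 = N1313 := ded_29_2 (flp_c L11243) (flp_i L11168) L13027
theorem L13035 : sm gf N1303 = N1510 := rfl
theorem L13037 : sm ga N1510 = N1306 := ded_13_1 (flp_f L11190) (flp_a L11165) L13035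
theorem L13039 : sm gb N1510 = N1321 := ded_20_1 (flp_f L11600) L11598 L13035
theorem L13041 : sm gd N1510 = N1304 := ded_31_1 (flp_f L11171) L11163 L13035
theorem L13043 : sm gi N1510 = N1314 := ded_41_2 (flp_f L11249) (flp_i L11168) L13035
theorem L13045 : sm ge N1510 = N1319 := ded_46_2 L11289 (flp_c L10646) L10644 L8993 L8998 L7606 L7603 (flp_d L7662) L7660 L6208 L6207 (flp_h L7296) (flp_f L7291) (flp_e L5924) (flp_d L4583) L3615 L2896 (flp_a L2657) (flp_h L2655) (flp_f L2643) (flp_e L3313) (flp_d L4220) (flp_c L5362) (flp_b L6978) L6778 (flp_h L6776) L5344 L5348 (flp_d L5341) L4189 L3271 L2723 L2430 L2433 (flp_e L2426) (flp_d L1925) (flp_c L1906) (flp_b L2316) L2315 (flp_h L2313) L1846 L1474 L1158 L1157 L1155 (flp_a L1063) L1364 L1371 (flp_e L1721) L2146 L2684 L3395 L4347 (flp_h L5485) (flp_f L6891) L8374 L9985 (flp_c L9995) (flp_b L11200) (flp_a L12967) L12974 L13035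
theorem L13047 : sm gg N1318 = N1510 := ded_21_0 L13039 (flp_g L11300) (flp_b L11280)
theorem L13049 : sm gf N1305 = N1511 := rfl
theorem L13051 : sm gc N1511 = N1306 := ded_26_1 (flp_f L11190) L11184 L13049
theorem L13053 : sm gi N1511 = N1316 := ded_41_2 (flp_f L11268) (flp_i L11188) L13049
theorem L13055 : sm gh N1305 = N1512 := rfl
theorem L13057 : sm gb N1512 = N1313 := ded_22_1 (flp_h L12836) L12840 L13055
theorem L13059 : sm gc N1512 = N1307 := ded_28_1 (flp_h L11198) L11184 L13055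
theorem L13061 : sm ge N1512 = N1512 := ded_37_1 (flp_h L13055) L11186 L13055
theorem L13062 : sm gg N1512 = N1512 := ded_42_1 (flp_h L13055) L11187 L13055
theorem L13063 : sm ge N1306 = N1513 := rfl
theorem L13065 : sm ga N1513 = N1319 := ded_12_1 (flp_e L13045) L13037 L13063
theorem L13067 : sm gb N1513 = N1309 := ded_19_1 (flp_e L11217) (flp_b L11192) L13063
theorem L13069 : sm gi N1513 = N1318 := ded_38_2 (flp_e L11278) (flp_i L11196) L13063
theorem L13071 : sm gd N1513 = N1315 := ded_30_1 L11261 L9517 (flp_e L9400) (flp_d L11194) L13063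
theorem L13073 : sm gf N1513 = N1513 := ded_35_2 (flp_e L13063) (flp_f L11190) L9392 L11190 L13063
theorem L13074 : sm gg N1314 = N1513 := ded_14_0 L13065 (flp_g L11285) (flp_a L11251)
theorem L13076 : sm gg N1306 = N1514 := rfl
theorem L13078 : sm ga N1514 = N1318 := ded_14_1 L13047 L13037 L13076
theorem L13080 : sm gb N1514 = N1310 := ded_21_1 (flp_g L11224) (flp_b L11192) L13076
theorem L13082 : sm gd N1514 = N1308 := ded_32_1 (flp_g L11205) (flp_d L11194) L13076
theorem L13084 : sm ge N1514 = N1314 := ded_36_1 L13074 (flp_e L13063) L13076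
theorem L13086 : sm gi N1514 = N1319 := ded_43_2 (flp_g L11285) (flp_i L11196) L13076
theorem L13088 : sm gf N1514 = N1514 := ded_39_1 (flp_g L13076) (flp_f L11190) L9389 L11190 L13076
theorem L13089 : sm gh N1306 = N1515 := rfl
theorem L13091 : sm gb N1515 = N1311 := ded_22_1 (flp_h L11231) (flp_b L11192) L13089
theorem L13093 : sm gf N1515 = N1307 := ded_40_1 (flp_h L11198) L11190 L13089
theorem L13095 : sm gd N1515 = N1515 := ded_33_1 (flp_h L13089) L11194 L9397 (flp_d L11194) L13089
theorem L13096 : sm gf N1313 = N1516 := rfl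
theorem L13098 : sm ga N1516 = N1316 := ded_13_1 (flp_f L11268) (flp_a L11245) L13096
theorem L13100 : sm gc N1516 = N1314 := ded_26_1 (flp_f L11249) L11243 L13096
theorem L13102 : sm ge N1316 = N1517 := rfl
theorem L13104 : sm gc N1517 = N1318 := ded_25_1 (flp_e L11278) (flp_c L11270) L13102
theorem L13106 : sm gf N1517 = N1517 := ded_35_2 (flp_e L13102) (flp_f L11268) L9439 L11268 L13102
theorem L13107 : sm gg N1316 = N1518 := rfl
theorem L13109 : sm gc N1518 = N1319 := ded_27_1 (flp_g L11285) (flp_c L11270) L13107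
theorem L13111 : sm gf N1518 = N1518 := ded_39_1 (flp_g L13107) (flp_f L11268) L9440 L11268 L13107
theorem L13112 : sm gh N1316 = N1519 := rfl
theorem L13114 : sm gc N1519 = N1320 := ded_28_1 (flp_h L11292) (flp_c L11270) L13112
theorem L13116 : sm gf N1519 = N1317 := ded_40_1 (flp_h L11272) L11268 L13112
theorem L13118 : sm gd N1317 = N1520 := rfl
theorem L13120 : sm gg N1520 = N1520 := ded_32_2 (flp_d L13118) L11277 L13118
theorem L13121 : sm gc N1520 = N1330 := ded_24_1 (flp_d L11365) L9608 (flp_d L9453) (flp_c L11274) L13118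
theorem L13123 : sm gh N1318 = N1521 := rfl
theorem L13125 : sm gb N1521 = N1322 := ded_22_1 (flp_h L11306) (flp_b L11280) L13123
theorem L13127 : sm ge N1521 = N1320 := ded_37_1 (flp_h L11292) L11278 L13123
theorem L13129 : sm gf N1521 = N1521 := ded_40_1 (flp_h L13123) L11284 L13123
theorem L13130 : sm gd N1521 = N1521 := ded_33_1 (flp_h L13123) L11282 L9566 (flp_d L11282) L13123
theorem L13131 : sm gh N1319 = N1522 := rfl
theorem L13133 : sm gb N1522 = N1323 := ded_22_1 (flp_h L11312) (flp_b L11287) L13131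
theorem L13135 : sm gf N1522 = N1522 := ded_40_1 (flp_h L13131) L11291 L13131
theorem L13136 : sm gg N1522 = N1320 := ded_42_1 (flp_h L11292) L11285 L13131
theorem L13138 : sm gd N1522 = N1331 := ded_33_1 (flp_h L11369) L9617 (flp_h L9461) (flp_d L11289) L13131
theorem L13140 : sm gd N1325 = N1523 := rfl
theorem L13142 : sm gb N1523 = N1523 := ded_18_1 (flp_d L13140) L11327 L13140
theorem L13143 : sm gf N1523 = N1523 := ded_31_2 (flp_d L13140) L11331 L13140
theorem L13144 : sm gg N1326 = N1524 := rfl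
theorem L13146 : sm ga N1524 = N1328 := ded_14_1 (flp_g L11349) (flp_a L11334) L13144
theorem L13148 : sm gc N1524 = N1327 := ded_27_1 (flp_g L11340) (flp_c L11336) L13144
theorem L13150 : sm ge N1524 = N1524 := ded_36_1 (flp_g L13144) L11339 L13144
theorem L13151 : sm gi N1524 = N1524 := ded_43_2 (flp_g L13144) L11338 L13144
theorem L13152 : sm gf N1524 = N1524 := ded_39_1 (flp_g L13144) (flp_f L11332) L9580 L11332 L13144
theorem L13153 : sm gh N1328 = N1525 := rfl
theorem L13155 : sm gb N1525 = N1525 := ded_22_1 (flp_h L13153) L11351 L13153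
theorem L13156 : sm gc N1525 = N1331 := ded_28_1 (flp_h L11369) (flp_c L11352) L13153
theorem L13158 : sm ge N1525 = N1525 := ded_37_1 (flp_h L13153) L11354 L13153
theorem L13159 : sm gf N1525 = N1525 := ded_40_1 (flp_h L13153) L11356 L13153
theorem L13160 : sm gg N1525 = N1329 := ded_42_1 (flp_h L11357) L11349 L13153
theorem L13162 : sm gd N1329 = N1526 := rfl
theorem L13164 : sm gb N1526 = N1526 := ded_18_1 (flp_d L13162) L11359 L13162
theorem L13165 : sm gf N1526 = N1330 := ded_31_2 (flp_d L11365) (flp_f L11363) L13162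
theorem L13167 : sm ge N1330 = N1527 := rfl
theorem L13169 : sm gb N1527 = N1527 := ded_19_1 (flp_e L13167) L11367 L13167
theorem L13170 : sm gg N1527 = N1527 := ded_36_2 (flp_e L13167) L11368 L13167
theorem L13171 : sm gd N1527 = N1333 := ded_30_1 (flp_e L11385) (flp_d L9643) (flp_e L9610) L11365 L13167
theorem L13173 : sm gf N1333 = N1528 := rfl

end Cfsg.Agent.Helper28.FiaA
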