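import Cfsg.Agent.Helper28.FiaB1

/-! # The Fi₂₂ presentation, cosets of the subgroup generated by a, c, d, e, f, g, h, i, (abcdeh)⁵: the coset enumeration, part 2 (helper28; generated) -/

set_option autoImplicit false

noncomputable section

namespace Cfsg.Agent.Helper28.FiaA

open Cfsg.Agent.Helper28.CosetTable

theorem L13175 : sm gb N1528 = N1528 := ded_20_1 (flp_f L13173) L11387 L13173
theorem L13176 : sm gc N1528 = N1528 := ded_26_1 (flp_f L13173) L11388 L13173
theorem L13177 : sm gh N1528 = N1528 := ded_40_2 (flp_f L13173) L11390 L13173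
theorem L13178 : sm ge N1528 = N1528 := ded_35_1 (flp_f L13173) (flp_e L11385) L9646 L11385 L13173
theorem L13179 : sm ge N1341 = N1529 := rfl
theorem L13181 : sm ga N1529 = N1493 := ded_12_1 (flp_e L12866) (flp_a L11494) L13179
theorem L13183 : sm gb N1529 = N1356 := ded_19_1 L11681 (flp_b L11496) L13179
theorem L13185 : sm gc N1529 = N1352 := ded_25_1 (flp_e L11624) (flp_c L11498) L13179
theorem L13187 : sm gh N1529 = N1353 := ded_37_2 L11645 (flp_h L11502) L13179
theorem L13189 : sm gi N1529 = N1347 := ded_38_2 (flp_e L11568) (flp_i L11504) L13179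
theorem L13191 : sm gd N1529 = N1529 := ded_30_1 (flp_e L13179) L11500 L9860 (flp_d L11500) L13179
theorem L13192 : sm gf N1529 = N1529 := ded_35_2 (flp_e L13179) (flp_f L11492) L9845 L11492 L13179
theorem L13193 : sm gg N1354 = N1529 := ded_14_0 L13181 (flp_g L12876) (flp_a L11652)
theorem L13195 : sm gg N1341 = N1530 := rfl
theorem L13197 : sm ga N1530 = N1494 := ded_14_1 (flp_g L12878) (flp_a L11494) L13195
theorem L13199 : sm gb N1530 = N1357 := ded_21_1 L11690 (flp_b L11496) L13195
theorem L13201 : sm gc N1530 = N1353 := ded_27_1 (flp_g L11637) (flp_c L11498) L13195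
theorem L13203 : sm gd N1530 = N1342 := ded_32_1 (flp_g L11506) (flp_d L11500) L13195
theorem L13205 : sm ge N1530 = N1354 := ded_36_1 L13193 (flp_e L13179) L13195
theorem L13207 : sm gh N1530 = N1352 := ded_42_2 (flp_g L11635) (flp_h L11502) L13195
theorem L13209 : sm gi N1530 = N1348 := ded_43_2 (flp_g L11576) (flp_i L11504) L13195
theorem L13211 : sm gf N1530 = N1530 := ded_39_1 (flp_g L13195) (flp_f L11492) L9840 L11492 L13195
theorem L13212 : sm gf N1343 = N1531 := rfl
theorem L13214 : sm ga N1531 = N1508 := ded_13_1 L13021 (flp_a L11522) L13212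
theorem L13216 : sm gb N1531 = N1354 := ded_20_1 L11656 (flp_b L11528) L13212
theorem L13218 : sm gc N1531 = N1344 := ded_26_1 (flp_f L11533) L11520 L13212
theorem L13220 : sm gd N1531 = N1531 := ded_31_1 (flp_f L13212) L11530 L13212
theorem L13221 : sm gh N1531 = N1351 := ded_40_2 (flp_f L11610) L11531 L13212
theorem L13223 : sm gi N1531 = N1349 := ded_41_2 L11591 (flp_i L11526) L13212
theorem L13225 : sm ge N1531 = N1357 := ded_47_3 L11692 L10094 (flp_b L11510) L11515 (flp_g L10081) (flp_f L8514) L7098 (flp_d L5609) (flp_c L5335) L5333 L4192 L4191 L4194 (flp_e L4186) L3267 (flp_c L3259) L2590 L2172 L2170 L2168 L1753 (flp_d L1746) (flp_c L1719) L1718 (flp_h L1714) L1362 L1115 L1113 L854 L852 (flp_b L794) L1041 (flp_g L1320) L1319 (flp_e L1659) L2067 L2597 L3278 L3284 L3282 L2610 L2609 L2608 L2613 (flp_b L2226) L1793 (flp_g L2178) (flp_f L2716) L3439 L4401 L4408 (flp_b L5611) L6987 L6819 L6818 L8263 L9834 L9843 (flp_b L9934) L11531 L11525 L13212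
theorem L13227 : sm gg N1356 = N1531 := ded_14_0 L13214 L13023 (flp_a L11679)
theorem L13229 : sm ge N1344 = N1532 := rfl
theorem L13231 : sm ga N1532 = N1507 := ded_12_1 L13006 (flp_a L11535) L13229
theorem L13233 : sm gb N1532 = N1347 := ded_19_1 (flp_e L11568) (flp_b L11537) L13229
theorem L13235 : sm gc N1532 = N1357 := ded_25_1 (flp_e L13225) L13218 L13229
theorem L13237 : sm gi N1532 = N1356 := ded_38_2 L11681 (flp_i L11541) L13229
theorem L13239 : sm gd N1532 = N1532 := ded_30_1 (flp_e L13229) L11539 L9892 (flp_d L11539) L13229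
theorem L13240 : sm gf N1532 = N1532 := ded_35_2 (flp_e L13229) (flp_f L11533) L9881 L11533 L13229
theorem L13241 : sm gg N1349 = N1532 := ded_14_0 L13231 L13009 (flp_a L11587)
theorem L13243 : sm gh N1348 = N1532 := ded_15_0 L13231 (flp_h L13002) (flp_a L11578)
theorem L13245 : sm gg N1344 = N1533 := rfl
theorem L13247 : sm ga N1533 = N1506 := ded_14_1 L12996 (flp_a L11535) L13245
theorem L13249 : sm gb N1533 = N1348 := ded_21_1 (flp_g L11576) (flp_b L11537) L13245
theorem L13251 : sm gc N1533 = N1356 := ded_27_1 L13227 L13218 L13245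
theorem L13253 : sm gd N1533 = N1346 := ded_32_1 (flp_g L11556) (flp_d L11539) L13245
theorem L13255 : sm ge N1533 = N1349 := ded_36_1 L13241 (flp_e L13229) L13245
theorem L13257 : sm gi N1533 = N1357 := ded_43_2 L11690 (flp_i L11541) L13245
theorem L13259 : sm gf N1533 = N1533 := ded_39_1 (flp_g L13245) (flp_f L11533) L9878 L11533 L13245
theorem L13260 : sm gh N1347 = N1533 := ded_47_0 (flp_g L13245) (flp_f L11533) L9881 (flp_d L9872) L8292 L8290 L6847 L6846 L8305 L8312 (flp_d L9899) L9897 (flp_b L10014) (flp_h L11502) L13195 L13211 L13205 L11658 L11654 L10014 L10046 (flp_g L11690) L11689 (flp_e L13225) L13220 L13218 L11537 L11585 L13241 L13240 (flp_e L13229) L11539 L9888 L9886 L8311 L9910 L9918 L9916 (flp_d L11582) L11580 (flp_b L11628) (flp_h L13207) (flp_g L13195) (flp_f L11492) L9845 (flp_d L9834) L8269 L6827 (flp_h L8259) L8258 L9822 L9833 L9829 L9827 L8516 L8541 (flp_g L10097) L10096 L10095 (flp_d L11692) (flp_c L13235) L13233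
theorem L13262 : sm gh N1344 = N1534 := rfl
theorem L13264 : sm ga N1534 = N1505 := ded_15_1 (flp_h L12987) (flp_a L11535) L13262
theorem L13266 : sm gb N1534 = N1349 := ded_22_1 (flp_h L11585) (flp_b L11537) L13262
theorem L13268 : sm gc N1534 = N1351 := ded_28_1 (flp_h L13221) L13218 L13262
theorem L13270 : sm ge N1534 = N1348 := ded_37_1 L13243 (flp_e L13229) L13262
theorem L13272 : sm gf N1534 = N1345 := ded_40_1 (flp_h L11543) L11533 L13262
theorem L13274 : sm gg N1534 = N1347 := ded_42_1 L13260 (flp_g L13245) L13262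
theorem L13276 : sm gd N1534 = N1534 := ded_33_1 (flp_h L13262) L11539 L9889 (flp_d L11539) L13262
theorem L13277 : sm gi N1534 = N1354 := ded_44_2 (flp_h L11650) L9960 L10046 (flp_i L11541) L13262
theorem L13279 : sm ge N1359 = N1535 := rfl
theorem L13281 : sm ga N1535 = N1360 := ded_12_1 (flp_e L11719) L11709 L13279
theorem L13283 : sm gb N1535 = N1535 := ded_19_1 (flp_e L13279) L11718 L13279
theorem L13284 : sm gc N1535 = N1535 := ded_25_1 (flp_e L13279) L11711 L13279
theorem L13285 : sm gg N1535 = N1535 := ded_36_2 (flp_e L13279) L11714 L13279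
theorem L13286 : sm gh N1535 = N1367 := ded_37_2 (flp_e L11786) (flp_h L11715) L13279
theorem L13288 : sm gi N1535 = N1535 := ded_38_2 (flp_e L13279) L11717 L13279
theorem L13289 : sm gd N1360 = N1536 := rfl
theorem L13291 : sm gb N1536 = N1361 := ded_18_1 (flp_d L11728) (flp_b L11721) L13289
theorem L13293 : sm gg N1536 = N1536 := ded_32_2 (flp_d L13289) L11724 L13289
theorem L13294 : sm gi N1536 = N1536 := ded_34_2 (flp_d L13289) L11727 L13289
theorem L13295 : sm ge N1536 = N1536 := ded_30_2 (flp_d L13289) (flp_e L11719) L10101 L11719 L13289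
theorem L13296 : sm gf N1360 = N1537 := rfl
theorem L13298 : sm gb N1537 = N1362 := ded_20_1 (flp_f L11735) (flp_b L11721) L13296
theorem L13300 : sm gc N1537 = N1537 := ded_26_1 (flp_f L13296) L11723 L13296
theorem L13301 : sm gh N1537 = N1369 := ded_40_2 (flp_f L11802) (flp_h L11725) L13296
theorem L13303 : sm gi N1537 = N1537 := ded_41_2 (flp_f L13296) L11727 L13296
theorem L13304 : sm ge N1537 = N1537 := ded_35_1 (flp_f L13296) (flp_e L11719) L10102 L11719 L13296
theorem L13305 : sm gf N1361 = N1538 := rfl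
theorem L13307 : sm ga N1538 = N1538 := ded_13_1 (flp_f L13305) L11730 L13305
theorem L13308 : sm gc N1538 = N1538 := ded_26_1 (flp_f L13305) L11733 L13305
theorem L13309 : sm gd N1538 = N1362 := ded_31_1 (flp_f L11735) L11728 L13305
theorem L13311 : sm gi N1538 = N1538 := ded_41_2 (flp_f L13305) L11732 L13305
theorem L13312 : sm gh N1361 = N1539 := rfl
theorem L13314 : sm ga N1539 = N1539 := ded_15_1 (flp_h L13312) L11730 L13312
theorem L13315 : sm gc N1539 = N1539 := ded_28_1 (flp_h L13312) L11733 L13312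
theorem L13316 : sm ge N1539 = N1539 := ded_37_1 (flp_h L13312) L11734 L13312
theorem L13317 : sm gg N1539 = N1539 := ded_42_1 (flp_h L13312) L11731 L13312
theorem L13318 : sm gd N1539 = N1371 := ded_33_1 (flp_h L11815) (flp_d L10175) (flp_h L10114) L11728 L13312
theorem L13320 : sm gg N1362 = N1540 := rfl
theorem L13322 : sm ga N1540 = N1540 := ded_14_1 (flp_g L13320) L11737 L13320
theorem L13323 : sm gc N1540 = N1363 := ded_27_1 (flp_g L11744) (flp_c L11738) L13320
theorem L13325 : sm ge N1540 = N1540 := ded_36_1 (flp_g L13320) L11743 L13320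
theorem L13326 : sm gh N1540 = N1372 := ded_42_2 (flp_g L11823) (flp_h L11740) L13320
theorem L13328 : sm gi N1540 = N1540 := ded_43_2 (flp_g L13320) L11742 L13320
theorem L13329 : sm gf N1540 = N1540 := ded_39_1 (flp_g L13320) (flp_f L11735) L10113 L11735 L13320
theorem L13330 : sm gd N1364 = N1541 := rfl
theorem L13332 : sm ga N1541 = N1527 := ded_11_1 L13171 (flp_a L11756) L13330
theorem L13334 : sm gb N1541 = N1365 := ded_18_1 (flp_d L11765) (flp_b L11758) L13330
theorem L13336 : sm gg N1541 = N1541 := ded_32_2 (flp_d L13330) L11761 L13330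
theorem L13337 : sm gi N1541 = N1368 := ded_34_2 (flp_d L11795) (flp_i L11763) L13330
theorem L13339 : sm ge N1541 = N1413 := ded_30_2 (flp_d L12225) (flp_e L10469) (flp_d L10128) L11754 L13330
theorem L13341 : sm gf N1364 = N1542 := rfl
theorem L13343 : sm ga N1542 = N1528 := ded_13_1 (flp_f L13173) (flp_a L11756) L13341
theorem L13345 : sm gb N1542 = N1366 := ded_20_1 (flp_f L11775) (flp_b L11758) L13341
theorem L13347 : sm gc N1542 = N1542 := ded_26_1 (flp_f L13341) L11760 L13341
theorem L13348 : sm gh N1542 = N1542 := ded_40_2 (flp_f L13341) L11762 L13341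
theorem L13349 : sm gi N1542 = N1369 := ded_41_2 (flp_f L11802) (flp_i L11763) L13341
theorem L13351 : sm ge N1542 = N1542 := ded_35_1 (flp_f L13341) (flp_e L11754) L10130 L11754 L13341
theorem L13352 : sm gg N1489 = N1542 := ded_47_1 (flp_f L13341) (flp_e L11754) L10128 L8844 (flp_b L7705) L7164 L7160 L7159 (flp_e L8498) (flp_d L8490) L7089 L7087 (flp_h L7810) L7809 L9429 L9435 (flp_d L9531) (flp_c L10734) L10732 L9052 (flp_g L9047) (flp_f L7493) (flp_e L6044) (flp_d L5922) (flp_c L5915) L4586 (flp_h L5913) L5908 L5030 L5728 L4053 L3163 L2507 L2021 L2548 (flp_f L3051) L3048 (flp_d L3900) (flp_c L4980) (flp_b L6462) (flp_h L7930) (flp_g L7926) (flp_f L6392) (flp_e L4901) L3839 (flp_c L4689) (flp_b L4683) L3692 L2924 L2485 L3138 L4026 L4030 L3156 L4056 (flp_g L4788) (flp_f L6218) (flp_e L7695) L9287 L11037 L12824 L12828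
theorem L13354 : sm gf N1365 = N1543 := rfl
theorem L13356 : sm ga N1543 = N1543 := ded_13_1 (flp_f L13354) L11767 L13354
theorem L13357 : sm gc N1543 = N1379 := ded_26_1 (flp_f L11894) (flp_c L11771) L13354
theorem L13359 : sm gd N1543 = N1366 := ded_31_1 (flp_f L11775) L11765 L13354
theorem L13361 : sm gi N1543 = N1370 := ded_41_2 (flp_f L11808) (flp_i L11769) L13354
theorem L13363 : sm gg N1488 = N1543 := ded_27_0 L13357 (flp_g L11901) L12818
theorem L13365 : sm gh N1365 = N1544 := rfl
theorem L13367 : sm ga N1544 = N1544 := ded_15_1 (flp_h L13365) L11767 L13365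
theorem L13368 : sm gc N1544 = N1380 := ded_28_1 (flp_h L11903) (flp_c L11771) L13365
theorem L13370 : sm ge N1544 = N1416 := ded_37_1 (flp_h L12256) (flp_e L11773) L13365
theorem L13372 : sm gg N1544 = N1544 := ded_42_1 (flp_h L13365) L11768 L13365
theorem L13373 : sm gd N1544 = N1544 := ded_33_1 (flp_h L13365) (flp_d L11765) L10144 L11765 L13365
theorem L13374 : sm gd N1367 = N1545 := rfl
theorem L13376 : sm ga N1545 = N1368 := ded_11_1 (flp_d L11795) (flp_a L11788) L13374
theorem L13378 : sm gb N1545 = N1545 := ded_18_1 (flp_d L13374) L11790 L13374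
theorem L13379 : sm gg N1545 = N1545 := ded_32_2 (flp_d L13374) L11792 L13374
theorem L13380 : sm gi N1545 = N1527 := ded_34_2 L13171 (flp_i L11793) L13374
theorem L13382 : sm ge N1545 = N1418 := ded_30_2 (flp_d L12271) (flp_e L10509) (flp_d L10162) L11786 L13374
theorem L13384 : sm gf N1367 = N1546 := rfl
theorem L13386 : sm ga N1546 = N1369 := ded_13_1 (flp_f L11802) (flp_a L11788) L13384
theorem L13388 : sm gb N1546 = N1546 := ded_20_1 (flp_f L13384) L11790 L13384
theorem L13389 : sm gc N1546 = N1546 := ded_26_1 (flp_f L13384) L11791 L13384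
theorem L13390 : sm gi N1546 = N1528 := ded_41_2 (flp_f L13173) (flp_i L11793) L13384
theorem L13392 : sm ge N1546 = N1546 := ded_35_1 (flp_f L13384) (flp_e L11786) L10164 L11786 L13384
theorem L13393 : sm gc N1368 = N1547 := rfl
theorem L13395 : sm ge N1547 = N1420 := ded_25_2 (flp_c L12290) (flp_e L11800) L13393
theorem L13397 : sm gg N1547 = N1547 := ded_27_2 (flp_c L13393) L11799 L13393
theorem L13398 : sm gb N1547 = N1383 := ded_17_1 (flp_c L11926) L10270 (flp_c L10179) (flp_b L11797) L13393
theorem L13400 : sm gd N1547 = N1547 := ded_24_2 (flp_c L13393) (flp_d L11795) L10173 L11795 L13393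
theorem L13401 : sm gf N1368 = N1548 := rfl
theorem L13403 : sm gb N1548 = N1370 := ded_20_1 (flp_f L11808) (flp_b L11797) L13401
theorem L13405 : sm gd N1548 = N1369 := ded_31_1 (flp_f L11802) L11795 L13401
theorem L13407 : sm gh N1368 = N1549 := rfl
theorem L13409 : sm gb N1549 = N1371 := ded_22_1 (flp_h L11815) (flp_b L11797) L13407
theorem L13411 : sm ge N1549 = N1422 := ded_37_1 (flp_h L12303) (flp_e L11800) L13407
theorem L13413 : sm gg N1549 = N1549 := ded_42_1 (flp_h L13407) L11799 L13407
theorem L13414 : sm gg N1369 = N1550 := rfl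
theorem L13416 : sm gb N1550 = N1372 := ded_21_1 (flp_g L11823) (flp_b L11804) L13414
theorem L13418 : sm gc N1550 = N1550 := ded_27_1 (flp_g L13414) L11806 L13414
theorem L13419 : sm ge N1550 = N1550 := ded_36_1 (flp_g L13414) L11807 L13414
theorem L13420 : sm gi N1550 = N1489 := ded_43_2 L13352 L13349 L13414
theorem L13422 : sm gf N1550 = N1550 := ded_39_1 (flp_g L13414) (flp_f L11802) L10174 L11802 L13414
theorem L13423 : sm ge N1370 = N1551 := rfl
theorem L13425 : sm ga N1551 = N1551 := ded_12_1 (flp_e L13423) L11810 L13423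
theorem L13426 : sm gc N1551 = N1387 := ded_25_1 (flp_e L11957) (flp_c L11811) L13423
theorem L13428 : sm gd N1551 = N1551 := ded_30_1 (flp_e L13423) L11813 L10188 (flp_d L11813) L13423
theorem L13429 : sm gf N1551 = N1424 := ded_35_2 (flp_e L12318) (flp_f L10533) (flp_e L10181) L11808 L13423
theorem L13431 : sm gg N1370 = N1552 := rfl
theorem L13433 : sm ga N1552 = N1552 := ded_14_1 (flp_g L13431) L11810 L13431
theorem L13434 : sm gc N1552 = N1388 := ded_27_1 (flp_g L11964) (flp_c L11811) L13431
theorem L13436 : sm gd N1552 = N1372 := ded_32_1 (flp_g L11823) (flp_d L11813) L13431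
theorem L13438 : sm gi N1552 = N1488 := ded_43_2 L13363 L13361 L13431
theorem L13440 : sm gf N1552 = N1552 := ded_39_1 (flp_g L13431) (flp_f L11808) L10178 L11808 L13431
theorem L13441 : sm gh N1370 = N1553 := rfl
theorem L13443 : sm ga N1553 = N1553 := ded_15_1 (flp_h L13441) L11810 L13441
theorem L13444 : sm gc N1553 = N1389 := ded_28_1 (flp_h L11972) (flp_c L11811) L13441
theorem L13446 : sm gf N1553 = N1371 := ded_40_1 (flp_h L11815) L11808 L13441
theorem L13448 : sm gi N1371 = N1554 := rfl
theorem L13450 : sm ga N1554 = N1554 := ded_16_1 (flp_i L13448) L11817 L13448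
theorem L13451 : sm gc N1554 = N1390 := ded_29_1 (flp_i L11978) (flp_c L11818) L13448
theorem L13453 : sm ge N1554 = N1427 := ded_38_1 (flp_i L12340) (flp_e L11820) L13448
theorem L13455 : sm gg N1554 = N1554 := ded_43_1 (flp_i L13448) L11822 L13448
theorem L13456 : sm ge N1373 = N1555 := rfl
theorem L13458 : sm ga N1555 = N1374 := ded_12_1 (flp_e L11843) L11832 L13456
theorem L13460 : sm gb N1555 = N1555 := ded_19_1 (flp_e L13456) L11842 L13456
theorem L13461 : sm gc N1555 = N1555 := ded_25_1 (flp_e L13456) L11834 L13456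
theorem L13462 : sm gg N1555 = N1555 := ded_36_2 (flp_e L13456) L11838 L13456
theorem L13463 : sm gh N1555 = N1376 := ded_37_2 (flp_e L11863) (flp_h L11839) L13456
theorem L13465 : sm gi N1555 = N1555 := ded_38_2 (flp_e L13456) L11841 L13456
theorem L13466 : sm gf N1555 = N1485 := ded_35_2 L12801 L10997 (flp_e L10310) (flp_f L11836) L13456
theorem L13468 : sm gd N1374 = N1556 := rfl
theorem L13470 : sm gb N1556 = N1375 := ded_18_1 (flp_d L11854) (flp_b L11845) L13468
theorem L13472 : sm gf N1556 = N1477 := ded_31_2 L12739 (flp_f L11852) L13468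
theorem L13474 : sm gg N1556 = N1556 := ded_32_2 (flp_d L13468) L11848 L13468
theorem L13475 : sm gi N1556 = N1556 := ded_34_2 (flp_d L13468) L11851 L13468
theorem L13476 : sm ge N1556 = N1556 := ded_30_2 (flp_d L13468) (flp_e L11843) L10201 L11843 L13468
theorem L13477 : sm gh N1375 = N1557 := rfl
theorem L13479 : sm ga N1557 = N1557 := ded_15_1 (flp_h L13477) L11856 L13477
theorem L13480 : sm gc N1557 = N1557 := ded_28_1 (flp_h L13477) L11861 L13477
theorem L13481 : sm ge N1557 = N1557 := ded_37_1 (flp_h L13477) L11862 L13477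
theorem L13482 : sm gf N1557 = N1481 := ded_40_1 (flp_h L12765) (flp_f L11857) L13477
theorem L13484 : sm gg N1557 = N1557 := ded_42_1 (flp_h L13477) L11859 L13477
theorem L13485 : sm gd N1557 = N1380 := ded_33_1 (flp_h L11903) (flp_d L10239) (flp_h L10215) L11854 L13477
theorem L13487 : sm gd N1376 = N1558 := rfl
theorem L13489 : sm ga N1558 = N1377 := ded_11_1 (flp_d L11872) (flp_a L11865) L13487
theorem L13491 : sm gb N1558 = N1558 := ded_18_1 (flp_d L13487) L11867 L13487
theorem L13492 : sm gg N1558 = N1558 := ded_32_2 (flp_d L13487) L11869 L13487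
theorem L13493 : sm gi N1558 = N1381 := ded_34_2 (flp_d L11909) (flp_i L11870) L13487
theorem L13495 : sm ge N1558 = N1428 := ded_30_2 (flp_d L12347) (flp_e L10555) (flp_d L10223) L11863 L13487
theorem L13497 : sm gf N1376 = N1559 := rfl
theorem L13499 : sm ga N1559 = N1378 := ded_13_1 (flp_f L11881) (flp_a L11865) L13497
theorem L13501 : sm gb N1559 = N1559 := ded_20_1 (flp_f L13497) L11867 L13497
theorem L13502 : sm gc N1559 = N1559 := ded_26_1 (flp_f L13497) L11868 L13497
theorem L13503 : sm gh N1559 = N1485 := ded_40_2 (flp_f L13466) L13463 L13497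
theorem L13505 : sm gi N1559 = N1382 := ded_41_2 (flp_f L11917) (flp_i L11870) L13497
theorem L13507 : sm ge N1559 = N1392 := ded_35_1 (flp_f L12000) (flp_e L10318) (flp_f L10225) L11863 L13497
theorem L13509 : sm gg N1486 = N1559 := ded_14_0 L13499 (flp_g L11892) (flp_a L12806)
theorem L13511 : sm gc N1377 = N1560 := rfl
theorem L13513 : sm ge N1560 = N1430 := ded_25_2 (flp_c L12369) (flp_e L11879) L13511
theorem L13515 : sm gg N1560 = N1560 := ded_27_2 (flp_c L13511) L11876 L13511
theorem L13516 : sm gi N1560 = N1383 := ded_29_2 (flp_c L11926) (flp_i L11877) L13511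
theorem L13518 : sm gd N1560 = N1560 := ded_24_2 (flp_c L13511) (flp_d L11872) L10235 L11872 L13511
theorem L13519 : sm gf N1377 = N1561 := rfl
theorem L13521 : sm gb N1561 = N1379 := ded_20_1 (flp_f L11894) (flp_b L11874) L13519
theorem L13523 : sm gd N1561 = N1378 := ded_31_1 (flp_f L11881) L11872 L13519
theorem L13525 : sm gi N1561 = N1384 := ded_41_2 (flp_f L11932) (flp_i L11877) L13519
theorem L13527 : sm gg N1487 = N1561 := ded_21_0 L13521 (flp_g L11901) (flp_b L12815)
theorem L13529 : sm gh N1377 = N1562 := rfl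
theorem L13531 : sm gb N1562 = N1380 := ded_22_1 (flp_h L11903) (flp_b L11874) L13529
theorem L13533 : sm ge N1562 = N1432 := ded_37_1 (flp_h L12384) (flp_e L11879) L13529
theorem L13535 : sm gg N1562 = N1562 := ded_42_1 (flp_h L13529) L11876 L13529
theorem L13536 : sm ge N1379 = N1563 := rfl
theorem L13538 : sm ga N1563 = N1563 := ded_12_1 (flp_e L13536) L11896 L13536
theorem L13539 : sm gg N1563 = N1465 := ded_36_2 L12645 L11901 L13536
theorem L13541 : sm gi N1563 = N1387 := ded_38_2 (flp_e L11957) (flp_i L11899) L13536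
theorem L13543 : sm gd N1563 = N1395 := ded_30_1 (flp_e L12038) L10357 (flp_e L10256) (flp_d L11897) L13536
theorem L13545 : sm gf N1563 = N1434 := ded_35_2 (flp_e L12404) (flp_f L10584) (flp_e L10245) L11894 L13536
theorem L13547 : sm gh N1379 = N1564 := rfl
theorem L13549 : sm ga N1564 = N1564 := ded_15_1 (flp_h L13547) L11896 L13547
theorem L13550 : sm gf N1564 = N1380 := ded_40_1 (flp_h L11903) L11894 L13547
theorem L13552 : sm gg N1564 = N1482 := ded_42_1 L12777 L11901 L13547
theorem L13554 : sm gd N1564 = N1481 := ded_33_1 (flp_h L12765) L10954 (flp_h L10252) (flp_d L11897) L13547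
theorem L13556 : sm gi N1380 = N1565 := rfl
theorem L13558 : sm ga N1565 = N1565 := ded_16_1 (flp_i L13556) L11905 L13556
theorem L13559 : sm ge N1565 = N1437 := ded_38_1 (flp_i L12425) (flp_e L11906) L13556
theorem L13561 : sm gg N1565 = N1565 := ded_43_1 (flp_i L13556) L11908 L13556
theorem L13562 : sm gh N1565 = N1390 := ded_44_1 (flp_i L11978) (flp_h L10288) (flp_i L10243) L11903 L13556
theorem L13564 : sm gc N1381 = N1566 := rfl
theorem L13566 : sm ga N1566 = N1383 := ded_10_1 (flp_c L11926) (flp_a L11911) L13564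
theorem L13568 : sm ge N1566 = N1438 := ded_25_2 (flp_c L12432) (flp_e L11915) L13564
theorem L13570 : sm gg N1566 = N1566 := ded_27_2 (flp_c L13564) L11914 L13564
theorem L13571 : sm gd N1566 = N1566 := ded_24_2 (flp_c L13564) (flp_d L11909) L10265 L11909 L13564
theorem L13572 : sm gf N1381 = N1567 := rfl
theorem L13574 : sm ga N1567 = N1384 := ded_13_1 (flp_f L11932) (flp_a L11911) L13572
theorem L13576 : sm gb N1567 = N1567 := ded_20_1 (flp_f L13572) L11913 L13572
theorem L13577 : sm gd N1567 = N1382 := ded_31_1 (flp_f L11917) L11909 L13572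
theorem L13579 : sm gh N1381 = N1568 := rfl
theorem L13581 : sm ga N1568 = N1385 := ded_15_1 (flp_h L11938) (flp_a L11911) L13579
theorem L13583 : sm gb N1568 = N1568 := ded_22_1 (flp_h L13579) L11913 L13579
theorem L13584 : sm ge N1568 = N1440 := ded_37_1 (flp_h L12446) (flp_e L11915) L13579
theorem L13586 : sm gg N1568 = N1568 := ded_42_1 (flp_h L13579) L11914 L13579
theorem L13587 : sm gd N1568 = N1568 := ded_33_1 (flp_h L13579) (flp_d L11909) L10267 L11909 L13579
theorem L13588 : sm gg N1382 = N1569 := rfl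
theorem L13590 : sm ga N1569 = N1386 := ded_14_1 (flp_g L11946) (flp_a L11919) L13588
theorem L13592 : sm gb N1569 = N1569 := ded_21_1 (flp_g L13588) L11921 L13588
theorem L13593 : sm gc N1569 = N1569 := ded_27_1 (flp_g L13588) L11922 L13588
theorem L13594 : sm ge N1569 = N1399 := ded_36_1 (flp_g L12086) (flp_e L11924) L13588
theorem L13596 : sm gh N1569 = N1569 := ded_42_2 (flp_g L13588) L11923 L13588
theorem L13597 : sm gi N1569 = N1486 := ded_43_2 L13509 L13505 L13588
theorem L13599 : sm gf N1569 = N1569 := ded_39_1 (flp_g L13588) (flp_f L11917) L10266 L11917 L13588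
theorem L13600 : sm gf N1383 = N1570 := rfl
theorem L13602 : sm gc N1570 = N1384 := ded_26_1 (flp_f L11932) L11926 L13600
theorem L13604 : sm gd N1570 = N1570 := ded_31_1 (flp_f L13600) L11931 L13600
theorem L13605 : sm gh N1383 = N1571 := rfl
theorem L13607 : sm gc N1571 = N1385 := ded_28_1 (flp_h L11938) L11926 L13605
theorem L13609 : sm ge N1571 = N1443 := ded_37_1 (flp_h L12474) (flp_e L11928) L13605
theorem L13611 : sm gg N1571 = N1571 := ded_42_1 (flp_h L13605) L11930 L13605
theorem L13612 : sm ge N1384 = N1572 := rfl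
theorem L13614 : sm gb N1572 = N1387 := ded_19_1 (flp_e L11957) (flp_b L11934) L13612
theorem L13616 : sm gd N1572 = N1402 := ded_30_1 (flp_e L12118) L10393 (flp_e L10281) (flp_d L11936) L13612
theorem L13618 : sm gf N1572 = N1444 := ded_35_2 (flp_e L12479) (flp_f L10629) (flp_e L10273) L11932 L13612
theorem L13620 : sm gg N1384 = N1573 := rfl
theorem L13622 : sm gb N1573 = N1388 := ded_21_1 (flp_g L11964) (flp_b L11934) L13620
theorem L13624 : sm gd N1573 = N1386 := ded_32_1 (flp_g L11946) (flp_d L11936) L13620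
theorem L13626 : sm gi N1573 = N1487 := ded_43_2 L13527 L13525 L13620
theorem L13628 : sm gf N1573 = N1573 := ded_39_1 (flp_g L13620) (flp_f L11932) L10272 L11932 L13620
theorem L13629 : sm gh N1384 = N1574 := rfl
theorem L13631 : sm gb N1574 = N1389 := ded_22_1 (flp_h L11972) (flp_b L11934) L13629
theorem L13633 : sm gf N1574 = N1385 := ded_40_1 (flp_h L11938) L11932 L13629
theorem L13635 : sm gd N1574 = N1574 := ded_33_1 (flp_h L13629) L11936 L10280 (flp_d L11936) L13629
theorem L13636 : sm gi N1385 = N1575 := rfl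
theorem L13638 : sm gb N1575 = N1390 := ded_23_1 (flp_i L11978) (flp_b L11940) L13636
theorem L13640 : sm gd N1575 = N1575 := ded_34_1 (flp_i L13636) L11945 L13636
theorem L13641 : sm ge N1575 = N1447 := ded_38_1 (flp_i L12500) (flp_e L11942) L13636
theorem L13643 : sm gg N1575 = N1575 := ded_43_1 (flp_i L13636) L11944 L13636
theorem L13644 : sm gg N1387 = N1576 := rfl
theorem L13646 : sm ga N1576 = N1576 := ded_14_1 (flp_g L13644) L11959 L13644
theorem L13647 : sm gd N1576 = N1406 := ded_32_1 (flp_g L12156) (flp_d L11960) L13644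
theorem L13649 : sm ge N1576 = N1388 := ded_36_1 (flp_g L11964) L11957 L13644
theorem L13651 : sm gi N1576 = N1465 := ded_43_2 (flp_g L13539) L13541 L13644
theorem L13653 : sm gh N1387 = N1577 := rfl
theorem L13655 : sm ga N1577 = N1577 := ded_15_1 (flp_h L13653) L11959 L13653
theorem L13656 : sm ge N1577 = N1389 := ded_37_1 (flp_h L11972) L11957 L13653
theorem L13658 : sm gf N1577 = N1449 := ded_40_1 (flp_h L12514) (flp_f L11962) L13653
theorem L13660 : sm gh N1388 = N1578 := rfl
theorem L13662 : sm ga N1578 = N1578 := ded_15_1 (flp_h L13660) L11966 L13660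
theorem L13663 : sm gf N1578 = N1578 := ded_40_1 (flp_h L13660) L11971 L13660
theorem L13664 : sm gg N1578 = N1389 := ded_42_1 (flp_h L11972) L11964 L13660
theorem L13666 : sm gd N1578 = N1578 := ded_33_1 (flp_h L13660) L11967 L10302 (flp_d L11967) L13660
theorem L13667 : sm gi N1389 = N1579 := rfl
theorem L13669 : sm ga N1579 = N1579 := ded_16_1 (flp_i L13667) L11974 L13667
theorem L13670 : sm gd N1579 = N1579 := ded_34_1 (flp_i L13667) L11977 L13667
theorem L13671 : sm gf N1579 = N1390 := ded_41_1 (flp_i L11978) (flp_f L11975) L13667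
theorem L13673 : sm gf N1391 = N1580 := rfl
theorem L13675 : sm ga N1580 = N1394 := ded_13_1 (flp_f L12026) (flp_a L11987) L13673
theorem L13677 : sm gb N1580 = N1580 := ded_20_1 (flp_f L13673) L11989 L13673
theorem L13678 : sm gc N1580 = N1456 := ded_26_1 L12584 L11998 L13673
theorem L13680 : sm gd N1580 = N1392 := ded_31_1 (flp_f L12000) L11985 L13673
theorem L13682 : sm gh N1580 = N1453 := ded_40_2 (flp_f L12547) (flp_h L11996) L13673
theorem L13684 : sm gi N1580 = N1397 := ded_41_2 (flp_f L12065) (flp_i L11992) L13673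
theorem L13686 : sm gg N1580 = N1460 := ded_39_2 L12613 L10799 (flp_f L11396) (flp_g L11990) L13673
theorem L13688 : sm gf N1393 = N1581 := rfl
theorem L13690 : sm ga N1581 = N1456 := ded_13_1 L12584 (flp_a L12014) L13688
theorem L13692 : sm gb N1581 = N1581 := ded_20_1 (flp_f L13688) L12024 L13688
theorem L13693 : sm gc N1581 = N1394 := ded_26_1 (flp_f L12026) L12012 L13688
theorem L13695 : sm gd N1581 = N1581 := ded_31_1 (flp_f L13688) L12025 L13688
theorem L13696 : sm gh N1581 = N1452 := ded_40_2 (flp_f L12534) (flp_h L12020) L13688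
theorem L13698 : sm gi N1581 = N1400 := ded_41_2 (flp_f L12097) (flp_i L12022) L13688
theorem L13700 : sm gg N1581 = N1462 := ded_39_2 L12627 L10828 (flp_f L11412) (flp_g L12018) L13688
theorem L13702 : sm ge N1394 = N1582 := rfl
theorem L13704 : sm gb N1582 = N1395 := ded_19_1 (flp_e L12038) (flp_b L12028) L13702
theorem L13706 : sm gg N1582 = N1464 := ded_36_2 L12640 (flp_g L12036) L13702
theorem L13708 : sm gh N1582 = N1463 := ded_37_2 L12634 (flp_h L12032) L13702
theorem L13710 : sm gi N1582 = N1402 := ded_38_2 (flp_e L12118) (flp_i L12034) L13702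
theorem L13712 : sm gf N1582 = N1454 := ded_35_2 (flp_e L12560) (flp_f L10711) (flp_e L10338) L12026 L13702
theorem L13714 : sm gf N1396 = N1583 := rfl
theorem L13716 : sm ga N1583 = N1400 := ded_13_1 (flp_f L12097) (flp_a L12052) L13714
theorem L13718 : sm gb N1583 = N1408 := ded_20_1 L12176 L12061 L13714
theorem L13720 : sm gc N1583 = N1397 := ded_26_1 (flp_f L12065) L12050 L13714
theorem L13722 : sm gd N1583 = N1583 := ded_31_1 (flp_f L13714) L12060 L13714
theorem L13723 : sm gh N1583 = N1403 := ded_40_2 L12132 L12063 L13714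
theorem L13725 : sm gi N1583 = N1456 := ded_41_2 L12584 (flp_i L12058) L13714
theorem L13727 : sm gg N1583 = N1404 := ded_39_2 L12138 L10401 L11431 (flp_g L12056) L13714
theorem L13729 : sm ge N1397 = N1584 := rfl
theorem L13731 : sm ga N1584 = N1402 := ded_12_1 (flp_e L12118) (flp_a L12067) L13729
theorem L13733 : sm gb N1584 = N1584 := ded_19_1 (flp_e L13729) L12069 L13729
theorem L13734 : sm gf N1584 = N1459 := ded_35_2 (flp_e L12603) (flp_f L10787) (flp_e L10372) L12065 L13729
theorem L13736 : sm gg N1397 = N1585 := rfl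
theorem L13738 : sm ga N1585 = N1403 := ded_14_1 (flp_g L12124) (flp_a L12067) L13736
theorem L13740 : sm gb N1585 = N1585 := ded_21_1 (flp_g L13736) L12069 L13736
theorem L13741 : sm gc N1585 = N1404 := ded_27_1 (flp_g L13727) L13720 L13736
theorem L13743 : sm gd N1585 = N1399 := ded_32_1 (flp_g L12086) (flp_d L12070) L13736
theorem L13745 : sm gi N1585 = N1460 := ded_43_2 (flp_g L13686) L13684 L13736
theorem L13747 : sm gf N1585 = N1401 := ded_39_1 L12112 (flp_f L11435) (flp_g L10370) L12065 L13736
theorem L13749 : sm gh N1400 = N1585 := ded_15_0 L13738 (flp_h L13723) L13716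
theorem L13751 : sm gh N1397 = N1586 := rfl
theorem L13753 : sm ga N1586 = N1404 := ded_15_1 (flp_h L12134) (flp_a L12067) L13751
theorem L13755 : sm gb N1586 = N1586 := ded_22_1 (flp_h L13751) L12069 L13751
theorem L13756 : sm gc N1586 = N1403 := ded_28_1 (flp_h L13723) L13720 L13751
theorem L13758 : sm gf N1586 = N1398 := ded_40_1 (flp_h L12072) L12065 L13751
theorem L13760 : sm gg N1586 = N1400 := ded_42_1 L13749 (flp_g L13736) L13751
theorem L13762 : sm gd N1586 = N1586 := ded_33_1 (flp_h L13751) L12070 L10380 (flp_d L12070) L13751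
theorem L13763 : sm gi N1586 = N1462 := ded_44_2 (flp_h L12622) (flp_i L12556) (flp_h L13682) L13684 L13751
theorem L13765 : sm ge N1400 = N1587 := rfl
theorem L13767 : sm gb N1587 = N1587 := ded_19_1 (flp_e L13765) L12099 L13765
theorem L13768 : sm gc N1587 = N1402 := ded_25_1 (flp_e L12118) (flp_c L12100) L13765
theorem L13770 : sm gf N1587 = N1461 := ded_35_2 (flp_e L12617) (flp_f L10816) (flp_e L10383) L12097 L13765
theorem L13772 : sm gg N1402 = N1588 := rfl
theorem L13774 : sm gb N1588 = N1406 := ded_21_1 (flp_g L12156) (flp_b L12120) L13772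
theorem L13776 : sm ge N1588 = N1403 := ded_36_1 (flp_g L12124) L12118 L13772
theorem L13778 : sm gi N1588 = N1464 := ded_43_2 (flp_g L13706) L13710 L13772
theorem L13780 : sm gh N1402 = N1589 := rfl
theorem L13782 : sm gb N1589 = N1407 := ded_22_1 (flp_h L12164) (flp_b L12120) L13780
theorem L13784 : sm ge N1589 = N1404 := ded_37_1 (flp_h L12134) L12118 L13780
theorem L13786 : sm gf N1589 = N1464 := ded_40_1 (flp_h L12636) (flp_f L12122) L13780
theorem L13788 : sm gi N1404 = N1590 := rfl
theorem L13790 : sm ga N1590 = N1462 := ded_16_1 (flp_i L13763) L13753 L13788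
theorem L13792 : sm gb N1590 = N1409 := ded_23_1 (flp_i L12183) (flp_b L12136) L13788
theorem L13794 : sm gc N1590 = N1460 := ded_29_1 (flp_i L13745) L13741 L13788
theorem L13796 : sm gd N1590 = N1590 := ded_34_1 (flp_i L13788) L12140 L13788
theorem L13797 : sm gf N1590 = N1405 := ded_41_1 (flp_i L12141) (flp_f L12138) L13788
theorem L13799 : sm gg N1590 = N1456 := ded_43_1 (flp_i L13725) L13727 L13788
theorem L13801 : sm gh N1590 = N1455 := ded_44_1 L12576 (flp_h L12032) L12034 L12134 L13788
theorem L13803 : sm gf N1406 = N1591 := rfl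
theorem L13805 : sm ga N1591 = N1591 := ded_13_1 (flp_f L13803) L12158 L13803
theorem L13806 : sm gc N1591 = N1591 := ded_26_1 (flp_f L13803) L12159 L13803
theorem L13807 : sm gi N1591 = N1407 := ded_41_2 L12170 (flp_i L12162) L13803
theorem L13809 : sm ge N1591 = N1409 := ded_35_1 L12188 L10442 (flp_f L10428) (flp_e L12160) L13803
theorem L13811 : sm gg N1591 = N1458 := ded_39_2 L12601 (flp_g L10859) (flp_f L10418) L12156 L13803
theorem L13813 : sm gh N1457 = N1591 := ded_44_5 L13807 (flp_h L12164) (flp_i L12046) L12044 (flp_i L12593)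
theorem L13815 : sm gh N1406 = N1592 := rfl
theorem L13817 : sm ga N1592 = N1592 := ded_15_1 (flp_h L13815) L12158 L13815
theorem L13818 : sm gc N1592 = N1592 := ded_28_1 (flp_h L13815) L12159 L13815
theorem L13819 : sm ge N1592 = N1408 := ded_37_1 (flp_h L12172) (flp_e L12160) L13815
theorem L13821 : sm gf N1592 = N1457 := ded_40_1 L13813 (flp_f L13803) L13815
theorem L13823 : sm gg N1592 = N1407 := ded_42_1 (flp_h L12164) L12156 L13815
theorem L13825 : sm gi N1592 = N1458 := ded_44_2 (flp_h L12595) L10745 L10865 (flp_i L12162) L13815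
theorem L13827 : sm gd N1407 = N1593 := rfl
theorem L13829 : sm ga N1593 = N1593 := ded_11_1 (flp_d L13827) L12166 L13827
theorem L13830 : sm gf N1593 = N1465 := ded_31_2 (flp_d L12642) (flp_f L12170) L13827
theorem L13832 : sm ge N1593 = N1593 := ded_30_2 (flp_d L13827) L12168 L10436 (flp_e L12168) L13827
theorem L13833 : sm gf N1410 = N1594 := rfl
theorem L13835 : sm ga N1594 = N1594 := ded_13_1 (flp_f L13833) L12196 L13833
theorem L13836 : sm gb N1594 = N1466 := ded_20_1 (flp_f L12647) (flp_b L12197) L13833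
theorem L13838 : sm gc N1594 = N1594 := ded_26_1 (flp_f L13833) L12201 L13833
theorem L13839 : sm gd N1594 = N1411 := ded_31_1 (flp_f L12203) L12194 L13833
theorem L13841 : sm gi N1594 = N1594 := ded_41_2 (flp_f L13833) L12200 L13833
theorem L13842 : sm gh N1410 = N1595 := rfl
theorem L13844 : sm ga N1595 = N1595 := ded_15_1 (flp_h L13842) L12196 L13842
theorem L13845 : sm gb N1595 = N1467 := ded_22_1 (flp_h L12656) (flp_b L12197) L13842
theorem L13847 : sm gc N1595 = N1595 := ded_28_1 (flp_h L13842) L12201 L13842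
theorem L13848 : sm ge N1595 = N1595 := ded_37_1 (flp_h L13842) L12202 L13842
theorem L13849 : sm gg N1595 = N1595 := ded_42_1 (flp_h L13842) L12199 L13842
theorem L13850 : sm gd N1595 = N1416 := ded_33_1 (flp_h L12256) (flp_d L10482) (flp_h L10456) L12194 L13842
theorem L13852 : sm gg N1411 = N1596 := rfl
theorem L13854 : sm ga N1596 = N1596 := ded_14_1 (flp_g L13852) L12205 L13852
theorem L13855 : sm gb N1596 = N1524 := ded_21_1 (flp_g L13144) (flp_b L12206) L13852
theorem L13857 : sm gc N1596 = N1412 := ded_27_1 (flp_g L12214) (flp_c L12208) L13852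
theorem L13859 : sm ge N1596 = N1596 := ded_36_1 (flp_g L13852) L12213 L13852
theorem L13860 : sm gh N1596 = N1417 := ded_42_2 (flp_g L12262) (flp_h L12210) L13852
theorem L13862 : sm gi N1596 = N1596 := ded_43_2 (flp_g L13852) L12212 L13852
theorem L13863 : sm gf N1596 = N1596 := ded_39_1 (flp_g L13852) (flp_f L12203) L10455 L12203 L13852
theorem L13864 : sm gc N1413 = N1597 := rfl
theorem L13866 : sm ga N1597 = N1520 := ded_10_1 L13121 (flp_a L12227) L13864
theorem L13868 : sm gg N1597 = N1597 := ded_27_2 (flp_c L13864) L12231 L13864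
theorem L13869 : sm gi N1597 = N1420 := ded_29_2 (flp_c L12290) (flp_i L12232) L13864
theorem L13871 : sm gb N1597 = N1430 := ded_17_1 (flp_c L12369) L10568 (flp_c L10488) (flp_b L12229) L13864
theorem L13873 : sm gd N1597 = N1490 := ded_24_2 (flp_c L12830) (flp_d L11051) (flp_c L10475) L12225 L13864
theorem L13875 : sm gf N1413 = N1598 := rfl
theorem L13877 : sm ga N1598 = N1526 := ded_13_1 L13165 (flp_a L12227) L13875
theorem L13879 : sm gb N1598 = N1415 := ded_20_1 (flp_f L12247) (flp_b L12229) L13875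
theorem L13881 : sm gd N1598 = N1414 := ded_31_1 (flp_f L12234) L12225 L13875
theorem L13883 : sm gi N1598 = N1421 := ded_41_2 (flp_f L12297) (flp_i L12232) L13875
theorem L13885 : sm gh N1413 = N1599 := rfl
theorem L13887 : sm ga N1599 = N1475 := ded_15_1 L12725 (flp_a L12227) L13885
theorem L13889 : sm gb N1599 = N1416 := ded_22_1 (flp_h L12256) (flp_b L12229) L13885
theorem L13891 : sm gg N1599 = N1599 := ded_42_1 (flp_h L13885) L12231 L13885
theorem L13892 : sm gd N1599 = N1467 := ded_33_1 (flp_h L12656) L10878 (flp_h L10478) L12225 L13885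
theorem L13894 : sm gg N1414 = N1600 := rfl
theorem L13896 : sm ga N1600 = N1525 := ded_14_1 L13160 (flp_a L12236) L13894
theorem L13898 : sm gb N1600 = N1417 := ded_21_1 (flp_g L12262) (flp_b L12238) L13894
theorem L13900 : sm gc N1600 = N1492 := ded_27_1 (flp_g L12854) (flp_c L12240) L13894
theorem L13902 : sm ge N1600 = N1600 := ded_36_1 (flp_g L13894) L12246 L13894
theorem L13903 : sm gh N1600 = N1524 := ded_42_2 (flp_g L13144) (flp_h L12242) L13894
theorem L13905 : sm gi N1600 = N1423 := ded_43_2 (flp_g L12309) (flp_i L12244) L13894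
theorem L13907 : sm gf N1600 = N1600 := ded_39_1 (flp_g L13894) (flp_f L12234) L10477 L12234 L13894
theorem L13908 : sm ge N1415 = N1601 := rfl
theorem L13910 : sm ga N1601 = N1601 := ded_12_1 (flp_e L13908) L12249 L13908
theorem L13911 : sm gc N1601 = N1434 := ded_25_1 (flp_e L12404) (flp_c L12250) L13908
theorem L13913 : sm gi N1601 = N1424 := ded_38_2 (flp_e L12318) (flp_i L12254) L13908
theorem L13915 : sm gd N1601 = N1601 := ded_30_1 (flp_e L13908) L12252 L10497 (flp_d L12252) L13908
theorem L13916 : sm gg N1415 = N1602 := rfl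
theorem L13918 : sm ga N1602 = N1602 := ded_14_1 (flp_g L13916) L12249 L13916
theorem L13919 : sm gc N1602 = N1435 := ded_27_1 (flp_g L12411) (flp_c L12250) L13916
theorem L13921 : sm gd N1602 = N1417 := ded_32_1 (flp_g L12262) (flp_d L12252) L13916
theorem L13923 : sm gi N1602 = N1425 := ded_43_2 (flp_g L12324) (flp_i L12254) L13916
theorem L13925 : sm gf N1602 = N1602 := ded_39_1 (flp_g L13916) (flp_f L12247) L10485 L12247 L13916
theorem L13926 : sm gh N1415 = N1603 := rfl
theorem L13928 : sm ga N1603 = N1603 := ded_15_1 (flp_h L13926) L12249 L13926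
theorem L13929 : sm gc N1603 = N1436 := ded_28_1 (flp_h L12419) (flp_c L12250) L13926
theorem L13931 : sm gf N1603 = N1416 := ded_40_1 (flp_h L12256) L12247 L13926
theorem L13933 : sm gi N1416 = N1604 := rfl
theorem L13935 : sm ga N1604 = N1604 := ded_16_1 (flp_i L13933) L12258 L13933
theorem L13936 : sm gc N1604 = N1437 := ded_29_1 (flp_i L12425) (flp_c L12259) L13933
theorem L13938 : sm gg N1604 = N1604 := ded_43_1 (flp_i L13933) L12261 L13933
theorem L13939 : sm gh N1604 = N1427 := ded_44_1 (flp_i L12340) (flp_h L10540) (flp_i L10486) L12256 L13933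
theorem L13941 : sm gc N1418 = N1605 := rfl
theorem L13943 : sm ga N1605 = N1420 := ded_10_1 (flp_c L12290) (flp_a L12273) L13941
theorem L13945 : sm gg N1605 = N1605 := ded_27_2 (flp_c L13941) L12276 L13941
theorem L13946 : sm gi N1605 = N1520 := ded_29_2 L13121 (flp_i L12277) L13941
theorem L13948 : sm gd N1605 = N1495 := ded_24_2 (flp_c L12891) (flp_d L11090) (flp_c L10514) L12271 L13941
theorem L13950 : sm gf N1418 = N1606 := rfl
theorem L13952 : sm ga N1606 = N1421 := ded_13_1 (flp_f L12297) (flp_a L12273) L13950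
theorem L13954 : sm gb N1606 = N1606 := ded_20_1 (flp_f L13950) L12275 L13950
theorem L13955 : sm gd N1606 = N1419 := ded_31_1 (flp_f L12279) L12271 L13950
theorem L13957 : sm gi N1606 = N1526 := ded_41_2 L13165 (flp_i L12277) L13950
theorem L13959 : sm gh N1418 = N1607 := rfl
theorem L13961 : sm ga N1607 = N1422 := ded_15_1 (flp_h L12303) (flp_a L12273) L13959
theorem L13963 : sm gb N1607 = N1607 := ded_22_1 (flp_h L13959) L12275 L13959
theorem L13964 : sm gg N1607 = N1607 := ded_42_1 (flp_h L13959) L12276 L13959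
theorem L13965 : sm gd N1607 = N1607 := ded_33_1 (flp_h L13959) (flp_d L12271) L10517 L12271 L13959
theorem L13966 : sm gg N1419 = N1608 := rfl
theorem L13968 : sm ga N1608 = N1423 := ded_14_1 (flp_g L12309) (flp_a L12281) L13966
theorem L13970 : sm gb N1608 = N1608 := ded_21_1 (flp_g L13966) L12283 L13966
theorem L13971 : sm gc N1608 = N1498 := ded_27_1 (flp_g L12920) (flp_c L12284) L13966
theorem L13973 : sm ge N1608 = N1608 := ded_36_1 (flp_g L13966) L12289 L13966
theorem L13974 : sm gh N1608 = N1608 := ded_42_2 (flp_g L13966) L12286 L13966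
theorem L13975 : sm gi N1608 = N1525 := ded_43_2 L13160 (flp_i L12287) L13966
theorem L13977 : sm gf N1608 = N1608 := ded_39_1 (flp_g L13966) (flp_f L12279) L10516 L12279 L13966
theorem L13978 : sm gf N1420 = N1609 := rfl
theorem L13980 : sm gb N1609 = N1442 := ded_20_1 (flp_f L12468) (flp_b L12293) L13978
theorem L13982 : sm gc N1609 = N1421 := ded_26_1 (flp_f L12297) L12290 L13978
theorem L13984 : sm gd N1609 = N1499 := ded_31_1 (flp_f L12931) (flp_d L12295) L13978
theorem L13986 : sm gh N1420 = N1610 := rfl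
theorem L13988 : sm gb N1610 = N1443 := ded_22_1 (flp_h L12474) (flp_b L12293) L13986
theorem L13990 : sm gc N1610 = N1422 := ded_28_1 (flp_h L12303) L12290 L13986
theorem L13992 : sm gg N1610 = N1610 := ded_42_1 (flp_h L13986) L12292 L13986
theorem L13993 : sm ge N1421 = N1611 := rfl
theorem L13995 : sm gb N1611 = N1424 := ded_19_1 (flp_e L12318) (flp_b L12299) L13993
theorem L13997 : sm gd N1611 = N1611 := ded_30_1 (flp_e L13993) L12301 L10532 (flp_d L12301) L13993
theorem L13998 : sm gg N1421 = N1612 := rfl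
theorem L14000 : sm gb N1612 = N1425 := ded_21_1 (flp_g L12324) (flp_b L12299) L13998
theorem L14002 : sm gd N1612 = N1423 := ded_32_1 (flp_g L12309) (flp_d L12301) L13998
theorem L14004 : sm gf N1612 = N1612 := ded_39_1 (flp_g L13998) (flp_f L12297) L10524 L12297 L13998
theorem L14005 : sm gh N1421 = N1613 := rfl
theorem L14007 : sm gb N1613 = N1426 := ded_22_1 (flp_h L12332) (flp_b L12299) L14005
theorem L14009 : sm gf N1613 = N1422 := ded_40_1 (flp_h L12303) L12297 L14005
theorem L14011 : sm gd N1613 = N1613 := ded_33_1 (flp_h L14005) L12301 L10531 (flp_d L12301) L14005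
theorem L14012 : sm gi N1422 = N1614 := rfl
theorem L14014 : sm gb N1614 = N1427 := ded_23_1 (flp_i L12340) (flp_b L12305) L14012
theorem L14016 : sm gd N1614 = N1614 := ded_34_1 (flp_i L14012) L12308 L14012
theorem L14017 : sm gg N1614 = N1614 := ded_43_1 (flp_i L14012) L12307 L14012
theorem L14018 : sm gg N1424 = N1615 := rfl
theorem L14020 : sm ga N1615 = N1615 := ded_14_1 (flp_g L14018) L12320 L14018
theorem L14021 : sm gc N1615 = N1448 := ded_27_1 (flp_g L12507) (flp_c L12321) L14018
theorem L14023 : sm gd N1615 = N1615 := ded_32_1 (flp_g L14018) L12323 L14018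
theorem L14024 : sm ge N1615 = N1425 := ded_36_1 (flp_g L12324) L12318 L14018
theorem L14026 : sm gh N1424 = N1616 := rfl
theorem L14028 : sm ga N1616 = N1616 := ded_15_1 (flp_h L14026) L12320 L14026
theorem L14029 : sm gc N1616 = N1449 := ded_28_1 (flp_h L12514) (flp_c L12321) L14026
theorem L14031 : sm ge N1616 = N1426 := ded_37_1 (flp_h L12332) L12318 L14026
theorem L14033 : sm gh N1425 = N1617 := rfl
theorem L14035 : sm ga N1617 = N1617 := ded_15_1 (flp_h L14033) L12326 L14033
theorem L14036 : sm gc N1617 = N1450 := ded_28_1 (flp_h L12519) (flp_c L12327) L14033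
theorem L14038 : sm gf N1617 = N1617 := ded_40_1 (flp_h L14033) L12331 L14033
theorem L14039 : sm gg N1617 = N1426 := ded_42_1 (flp_h L12332) L12324 L14033
theorem L14041 : sm gd N1617 = N1617 := ded_33_1 (flp_h L14033) L12329 L10553 (flp_d L12329) L14033
theorem L14042 : sm gi N1426 = N1618 := rfl
theorem L14044 : sm ga N1618 = N1618 := ded_16_1 (flp_i L14042) L12334 L14042
theorem L14045 : sm gc N1618 = N1451 := ded_29_1 (flp_i L12527) (flp_c L12335) L14042
theorem L14047 : sm gd N1618 = N1618 := ded_34_1 (flp_i L14042) L12339 L14042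
theorem L14048 : sm gf N1618 = N1427 := ded_41_1 (flp_i L12340) (flp_f L12337) L14042
theorem L14050 : sm gc N1428 = N1619 := rfl
theorem L14052 : sm ga N1619 = N1430 := ded_10_1 (flp_c L12369) (flp_a L12349) L14050
theorem L14054 : sm gg N1619 = N1619 := ded_27_2 (flp_c L14050) L12352 L14050
theorem L14055 : sm gi N1619 = N1438 := ded_29_2 (flp_c L12432) (flp_i L12353) L14050
theorem L14057 : sm gd N1619 = N1509 := ded_24_2 (flp_c L13027) (flp_d L11163) (flp_c L10560) L12347 L14050
theorem L14059 : sm gf N1428 = N1620 := rfl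
theorem L14061 : sm ga N1620 = N1431 := ded_13_1 (flp_f L12376) (flp_a L12349) L14059
theorem L14063 : sm gb N1620 = N1620 := ded_20_1 (flp_f L14059) L12351 L14059
theorem L14064 : sm gd N1620 = N1429 := ded_31_1 (flp_f L12355) L12347 L14059
theorem L14066 : sm gi N1620 = N1439 := ded_41_2 (flp_f L12439) (flp_i L12353) L14059
theorem L14068 : sm gg N1523 = N1620 := ded_32_0 L14064 (flp_g L12367) L13140
theorem L14070 : sm gh N1428 = N1621 := rfl
theorem L14072 : sm ga N1621 = N1432 := ded_15_1 (flp_h L12384) (flp_a L12349) L14070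
theorem L14074 : sm gb N1621 = N1621 := ded_22_1 (flp_h L14070) L12351 L14070
theorem L14075 : sm gg N1621 = N1621 := ded_42_1 (flp_h L14070) L12352 L14070
theorem L14076 : sm gd N1621 = N1621 := ded_33_1 (flp_h L14070) (flp_d L12347) L10563 L12347 L14070
theorem L14077 : sm gf N1430 = N1622 := rfl
theorem L14079 : sm gc N1622 = N1431 := ded_26_1 (flp_f L12376) L12369 L14077
theorem L14081 : sm gd N1622 = N1511 := ded_31_1 (flp_f L13049) (flp_d L12374) L14077
theorem L14083 : sm gi N1622 = N1442 := ded_41_2 (flp_f L12468) (flp_i L12372) L14077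
theorem L14085 : sm gh N1430 = N1623 := rfl
theorem L14087 : sm gc N1623 = N1432 := ded_28_1 (flp_h L12384) L12369 L14085
theorem L14089 : sm gg N1623 = N1623 := ded_42_1 (flp_h L14085) L12371 L14085
theorem L14090 : sm ge N1431 = N1624 := rfl
theorem L14092 : sm gb N1624 = N1434 := ded_19_1 (flp_e L12404) (flp_b L12378) L14090
theorem L14094 : sm gi N1624 = N1444 := ded_38_2 (flp_e L12479) (flp_i L12382) L14090
theorem L14096 : sm gd N1624 = N1454 := ded_30_1 (flp_e L12560) L10715 (flp_e L10582) (flp_d L12380) L14090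
theorem L14098 : sm gg N1431 = N1625 := rfl
theorem L14100 : sm ga N1625 = N1523 := ded_14_1 L14068 L14061 L14098
theorem L14102 : sm gb N1625 = N1435 := ded_21_1 (flp_g L12411) (flp_b L12378) L14098
theorem L14104 : sm gd N1625 = N1433 := ded_32_1 (flp_g L12390) (flp_d L12380) L14098
theorem L14106 : sm gi N1625 = N1445 := ded_43_2 (flp_g L12485) (flp_i L12382) L14098
theorem L14108 : sm gf N1625 = N1625 := ded_39_1 (flp_g L14098) (flp_f L12376) L10570 L12376 L14098
theorem L14109 : sm gh N1431 = N1626 := rfl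
theorem L14111 : sm gb N1626 = N1436 := ded_22_1 (flp_h L12419) (flp_b L12378) L14109
theorem L14113 : sm gf N1626 = N1432 := ded_40_1 (flp_h L12384) L12376 L14109
theorem L14115 : sm gd N1626 = N1626 := ded_33_1 (flp_h L14109) L12380 L10579 (flp_d L12380) L14109
theorem L14116 : sm gi N1432 = N1627 := rfl
theorem L14118 : sm gb N1627 = N1437 := ded_23_1 (flp_i L12425) (flp_b L12386) L14116
theorem L14120 : sm gd N1627 = N1627 := ded_34_1 (flp_i L14116) L12389 L14116
theorem L14121 : sm gg N1627 = N1627 := ded_43_1 (flp_i L14116) L12388 L14116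
theorem L14122 : sm gh N1627 = N1447 := ded_44_1 (flp_i L12500) (flp_h L10635) (flp_i L10571) L12384 L14116
theorem L14124 : sm gg N1434 = N1628 := rfl
theorem L14126 : sm ga N1628 = N1628 := ded_14_1 (flp_g L14124) L12406 L14124
theorem L14127 : sm gd N1628 = N1457 := ded_32_1 (flp_g L12587) (flp_d L12409) L14124
theorem L14129 : sm ge N1628 = N1435 := ded_36_1 (flp_g L12411) L12404 L14124
theorem L14131 : sm gi N1628 = N1448 := ded_43_2 (flp_g L12507) (flp_i L12407) L14124
theorem L14133 : sm gh N1434 = N1629 := rfl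
theorem L14135 : sm ga N1629 = N1629 := ded_15_1 (flp_h L14133) L12406 L14133
theorem L14136 : sm ge N1629 = N1436 := ded_37_1 (flp_h L12419) L12404 L14133
theorem L14138 : sm gh N1435 = N1630 := rfl
theorem L14140 : sm ga N1630 = N1630 := ded_15_1 (flp_h L14138) L12413 L14138
theorem L14141 : sm gf N1630 = N1630 := ded_40_1 (flp_h L14138) L12418 L14138
theorem L14142 : sm gg N1630 = N1436 := ded_42_1 (flp_h L12419) L12411 L14138
theorem L14144 : sm gd N1630 = N1630 := ded_33_1 (flp_h L14138) L12414 L10603 (flp_d L12414) L14138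
theorem L14145 : sm gi N1436 = N1631 := rfl
theorem L14147 : sm ga N1631 = N1631 := ded_16_1 (flp_i L14145) L12421 L14145
theorem L14148 : sm gd N1631 = N1631 := ded_34_1 (flp_i L14145) L12424 L14145
theorem L14149 : sm gf N1631 = N1437 := ded_41_1 (flp_i L12425) (flp_f L12422) L14145
theorem L14151 : sm gh N1631 = N1451 := ded_44_1 (flp_i L12527) (flp_h L10664) (flp_i L10589) L12419 L14145
theorem L14153 : sm gb N1438 = N1632 := rfl
theorem L14155 : sm gd N1632 = N1512 := ded_18_2 L13057 (flp_d L12437) L14153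
theorem L14157 : sm gg N1632 = N1632 := ded_21_2 (flp_b L14153) L12436 L14153
theorem L14158 : sm gc N1632 = N1632 := ded_17_2 (flp_b L14153) (flp_c L12432) L10611 L12432 L14153
theorem L14159 : sm gf N1438 = N1633 := rfl
theorem L14161 : sm ga N1633 = N1442 := ded_13_1 (flp_f L12468) (flp_a L12434) L14159
theorem L14163 : sm gc N1633 = N1439 := ded_26_1 (flp_f L12439) L12432 L14159
theorem L14165 : sm gd N1633 = N1516 := ded_31_1 (flp_f L13096) (flp_d L12437) L14159
theorem L14167 : sm gh N1438 = N1634 := rfl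
theorem L14169 : sm ga N1634 = N1443 := ded_15_1 (flp_h L12474) (flp_a L12434) L14167
theorem L14171 : sm gc N1634 = N1440 := ded_28_1 (flp_h L12446) L12432 L14167
theorem L14173 : sm gg N1634 = N1634 := ded_42_1 (flp_h L14167) L12436 L14167
theorem L14174 : sm ge N1439 = N1635 := rfl
theorem L14176 : sm ga N1635 = N1444 := ded_12_1 (flp_e L12479) (flp_a L12441) L14174
theorem L14178 : sm gb N1635 = N1635 := ded_19_1 (flp_e L14174) L12443 L14174
theorem L14179 : sm gd N1635 = N1459 := ded_30_1 (flp_e L12603) L10792 (flp_e L10622) (flp_d L12444) L14174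
theorem L14181 : sm gg N1439 = N1636 := rfl
theorem L14183 : sm ga N1636 = N1445 := ded_14_1 (flp_g L12485) (flp_a L12441) L14181
theorem L14185 : sm gb N1636 = N1636 := ded_21_1 (flp_g L14181) L12443 L14181
theorem L14186 : sm gd N1636 = N1441 := ded_32_1 (flp_g L12454) (flp_d L12444) L14181
theorem L14188 : sm gi N1636 = N1523 := ded_43_2 L14068 L14066 L14181
theorem L14190 : sm gf N1636 = N1636 := ded_39_1 (flp_g L14181) (flp_f L12439) L10612 L12439 L14181
theorem L14191 : sm gh N1439 = N1637 := rfl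
theorem L14193 : sm ga N1637 = N1446 := ded_15_1 (flp_h L12492) (flp_a L12441) L14191
theorem L14195 : sm gb N1637 = N1637 := ded_22_1 (flp_h L14191) L12443 L14191
theorem L14196 : sm gf N1637 = N1440 := ded_40_1 (flp_h L12446) L12439 L14191
theorem L14198 : sm gd N1637 = N1470 := ded_33_1 (flp_h L12682) L10885 (flp_h L10620) (flp_d L12444) L14191
theorem L14200 : sm gi N1440 = N1638 := rfl
theorem L14202 : sm ga N1638 = N1447 := ded_16_1 (flp_i L12500) (flp_a L12448) L14200
theorem L14204 : sm gb N1638 = N1638 := ded_23_1 (flp_i L14200) L12450 L14200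
theorem L14205 : sm gd N1638 = N1471 := ded_34_1 (flp_i L12689) (flp_d L12452) L14200
theorem L14207 : sm gg N1638 = N1638 := ded_43_1 (flp_i L14200) L12451 L14200
theorem L14208 : sm ge N1442 = N1639 := rfl
theorem L14210 : sm gc N1639 = N1444 := ded_25_1 (flp_e L12479) (flp_c L12470) L14208
theorem L14212 : sm gg N1442 = N1640 := rfl
theorem L14214 : sm gc N1640 = N1445 := ded_27_1 (flp_g L12485) (flp_c L12470) L14212
theorem L14216 : sm gd N1640 = N1518 := ded_32_1 (flp_g L13107) (flp_d L12472) L14212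
theorem L14218 : sm gf N1640 = N1640 := ded_39_1 (flp_g L14212) (flp_f L12468) L10626 L12468 L14212
theorem L14219 : sm gh N1442 = N1641 := rfl
theorem L14221 : sm gc N1641 = N1446 := ded_28_1 (flp_h L12492) (flp_c L12470) L14219
theorem L14223 : sm gf N1641 = N1443 := ded_40_1 (flp_h L12474) L12468 L14219
theorem L14225 : sm gd N1443 = N1642 := rfl
theorem L14227 : sm gg N1642 = N1642 := ded_32_2 (flp_d L14225) L12478 L14225
theorem L14228 : sm gc N1642 = N1475 := ded_24_1 (flp_d L12721) L10917 (flp_d L10640) (flp_c L12476) L14225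
theorem L14230 : sm gh N1642 = N1520 := ded_33_2 (flp_d L13118) (flp_h L11272) (flp_d L10627) L12474 L14225
theorem L14232 : sm gi N1443 = N1643 := rfl
theorem L14234 : sm gc N1643 = N1447 := ded_29_1 (flp_i L12500) (flp_c L12476) L14232
theorem L14236 : sm gg N1643 = N1643 := ded_43_1 (flp_i L14232) L12478 L14232
theorem L14237 : sm gg N1444 = N1644 := rfl
theorem L14239 : sm gb N1644 = N1448 := ded_21_1 (flp_g L12507) (flp_b L12481) L14237
theorem L14241 : sm gd N1644 = N1463 := ded_32_1 (flp_g L12630) (flp_d L12483) L14237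
theorem L14243 : sm ge N1644 = N1445 := ded_36_1 (flp_g L12485) L12479 L14237
theorem L14245 : sm gh N1444 = N1645 := rfl
theorem L14247 : sm gb N1645 = N1449 := ded_22_1 (flp_h L12514) (flp_b L12481) L14245
theorem L14249 : sm ge N1645 = N1446 := ded_37_1 (flp_h L12492) L12479 L14245
theorem L14251 : sm gh N1445 = N1646 := rfl
theorem L14253 : sm gb N1646 = N1450 := ded_22_1 (flp_h L12519) (flp_b L12487) L14251
theorem L14255 : sm gf N1646 = N1646 := ded_40_1 (flp_h L14251) L12491 L14251
theorem L14256 : sm gg N1646 = N1446 := ded_42_1 (flp_h L12492) L12485 L14251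
theorem L14258 : sm gd N1646 = N1479 := ded_33_1 (flp_h L12751) L10933 (flp_h L10650) (flp_d L12489) L14251
theorem L14260 : sm gi N1446 = N1647 := rfl
theorem L14262 : sm gb N1647 = N1451 := ded_23_1 (flp_i L12527) (flp_b L12494) L14260
theorem L14264 : sm gd N1647 = N1480 := ded_34_1 (flp_i L12758) (flp_d L12498) L14260
theorem L14266 : sm gf N1647 = N1447 := ded_41_1 (flp_i L12500) (flp_f L12496) L14260
theorem L14268 : sm gf N1448 = N1648 := rfl
theorem L14270 : sm ga N1648 = N1648 := ded_13_1 (flp_f L14268) L12509 L14268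
theorem L14271 : sm gd N1648 = N1458 := ded_31_1 L12601 (flp_d L12510) L14268
theorem L14273 : sm ge N1648 = N1648 := ded_35_1 (flp_f L14268) L12512 L10663 (flp_e L12512) L14268
theorem L14274 : sm gh N1448 = N1649 := rfl
theorem L14276 : sm ga N1649 = N1649 := ded_15_1 (flp_h L14274) L12509 L14274
theorem L14277 : sm ge N1649 = N1450 := ded_37_1 (flp_h L12519) (flp_e L12512) L14274
theorem L14279 : sm gg N1649 = N1449 := ded_42_1 (flp_h L12514) L12507 L14274
theorem L14281 : sm gd N1449 = N1650 := rfl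
theorem L14283 : sm ga N1650 = N1650 := ded_11_1 (flp_d L14281) L12516 L14281
theorem L14284 : sm ge N1650 = N1482 := ded_30_2 (flp_d L12773) L10963 (flp_d L10669) (flp_e L12517) L14281
theorem L14286 : sm gh N1650 = N1465 := ded_33_2 (flp_d L12642) (flp_h L10865) (flp_d L10656) L12514 L14281
theorem L14288 : sm gi N1449 = N1651 := rfl
theorem L14290 : sm ga N1651 = N1651 := ded_16_1 (flp_i L14288) L12516 L14288
theorem L14291 : sm ge N1651 = N1451 := ded_38_1 (flp_i L12527) (flp_e L12517) L14288
theorem L14293 : sm gi N1450 = N1652 := rfl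
theorem L14295 : sm ga N1652 = N1652 := ded_16_1 (flp_i L14293) L12521 L14293
theorem L14296 : sm gd N1652 = N1484 := ded_34_1 (flp_i L12787) (flp_d L12525) L14293
theorem L14298 : sm gf N1652 = N1652 := ded_41_1 (flp_i L14293) L12522 L14293
theorem L14299 : sm gg N1652 = N1451 := ded_43_1 (flp_i L12527) (flp_g L12523) L14293
theorem L14301 : sm ge N1452 = N1653 := rfl
theorem L14303 : sm ga N1653 = N1454 := ded_12_1 (flp_e L12560) (flp_a L12536) L14301
theorem L14305 : sm gb N1653 = N1653 := ded_19_1 (flp_e L14301) L12538 L14301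
theorem L14306 : sm gc N1653 = N1463 := ded_25_1 L12634 (flp_c L12539) L14301
theorem L14308 : sm gg N1653 = N1461 := ded_36_2 (flp_e L12617) (flp_g L12545) L14301
theorem L14310 : sm gi N1653 = N1459 := ded_38_2 (flp_e L12603) (flp_i L12543) L14301
theorem L14312 : sm ge N1453 = N1654 := rfl
theorem L14314 : sm ga N1654 = N1463 := ded_12_1 L12634 (flp_a L12549) L14312
theorem L14316 : sm gb N1654 = N1654 := ded_19_1 (flp_e L14312) L12551 L14312
theorem L14317 : sm gc N1654 = N1454 := ded_25_1 (flp_e L12560) (flp_c L12552) L14312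
theorem L14319 : sm gg N1654 = N1459 := ded_36_2 (flp_e L12603) (flp_g L12558) L14312
theorem L14321 : sm gi N1654 = N1461 := ded_38_2 (flp_e L12617) (flp_i L12556) L14312
theorem L14323 : sm gg N1454 = N1655 := rfl
theorem L14325 : sm ga N1655 = N1461 := ded_14_1 (flp_g L14308) L14303 L14323
theorem L14327 : sm gb N1655 = N1457 := ded_21_1 (flp_g L12587) (flp_b L12562) L14323
theorem L14329 : sm gc N1655 = N1459 := ded_27_1 (flp_g L14319) L14317 L14323
theorem L14331 : sm ge N1655 = N1455 := ded_36_1 (flp_g L12566) L12560 L14323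
theorem L14333 : sm gi N1655 = N1463 := ded_43_2 (flp_g L12630) (flp_i L12564) L14323
theorem L14335 : sm gh N1454 = N1656 := rfl
theorem L14337 : sm gb N1656 = N1458 := ded_22_1 (flp_h L12595) (flp_b L12562) L14335
theorem L14339 : sm ge N1656 = N1456 := ded_37_1 (flp_h L12580) L12560 L14335
theorem L14341 : sm gf N1656 = N1463 := ded_40_1 (flp_h L13708) L13712 L14335
theorem L14343 : sm gh N1459 = N1657 := rfl
theorem L14345 : sm ga N1657 = N1464 := ded_15_1 (flp_h L12636) (flp_a L12605) L14343
theorem L14347 : sm gb N1657 = N1657 := ded_22_1 (flp_h L14343) L12607 L14343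
theorem L14348 : sm ge N1657 = N1460 := ded_37_1 (flp_h L12608) L12603 L14343
theorem L14350 : sm gd N1461 = N1658 := rfl
theorem L14352 : sm gb N1658 = N1658 := ded_18_1 (flp_d L14350) L12619 L14350
theorem L14353 : sm ge N1658 = N1523 := ded_30_2 (flp_d L13140) (flp_e L11325) (flp_d L10821) L12617 L14350
theorem L14355 : sm gh N1461 = N1659 := rfl
theorem L14357 : sm gb N1659 = N1659 := ded_22_1 (flp_h L14355) L12619 L14355
theorem L14358 : sm gc N1659 = N1464 := ded_28_1 (flp_h L12636) (flp_c L12620) L14355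
theorem L14360 : sm ge N1659 = N1462 := ded_37_1 (flp_h L12622) L12617 L14355
theorem L14362 : sm gd N1464 = N1660 := rfl
theorem L14364 : sm gb N1660 = N1465 := ded_18_1 (flp_d L12642) (flp_b L12638) L14362
theorem L14366 : sm ge N1660 = N1487 := ded_30_2 (flp_d L12813) L11030 (flp_d L10849) (flp_e L12640) L14362
theorem L14368 : sm gc N1465 = N1661 := rfl
theorem L14370 : sm ga N1661 = N1661 := ded_10_1 (flp_c L14368) L12644 L14368
theorem L14371 : sm ge N1661 = N1488 := ded_25_2 (flp_c L12818) (flp_e L12645) L14368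
theorem L14373 : sm gd N1661 = N1661 := ded_24_2 (flp_c L14368) (flp_d L12642) L10868 L12642 L14368
theorem L14374 : sm ge N1466 = N1662 := rfl
theorem L14376 : sm ga N1662 = N1472 := ded_12_1 (flp_e L12697) (flp_a L12649) L14374
theorem L14378 : sm gc N1662 = N1468 := ded_25_1 (flp_e L12664) (flp_c L12651) L14374
theorem L14380 : sm gi N1662 = N1662 := ded_38_2 (flp_e L14374) L12655 L14374
theorem L14381 : sm gd N1662 = N1662 := ded_30_1 (flp_e L14374) L12653 L11339 (flp_d L12653) L14374
theorem L14382 : sm gf N1662 = N1662 := ded_35_2 (flp_e L14374) (flp_f L12647) L10875 L12647 L14374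
theorem L14383 : sm gg N1466 = N1663 := rfl
theorem L14385 : sm ga N1663 = N1473 := ded_14_1 (flp_g L12705) (flp_a L12649) L14383
theorem L14387 : sm gc N1663 = N1469 := ded_27_1 (flp_g L12673) (flp_c L12651) L14383
theorem L14389 : sm gd N1663 = N1524 := ded_32_1 (flp_g L13144) (flp_d L12653) L14383
theorem L14391 : sm gi N1663 = N1663 := ded_43_2 (flp_g L14383) L12655 L14383
theorem L14392 : sm gf N1663 = N1663 := ded_39_1 (flp_g L14383) (flp_f L12647) L10876 L12647 L14383
theorem L14393 : sm gh N1466 = N1664 := rfl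
theorem L14395 : sm ga N1664 = N1474 := ded_15_1 (flp_h L12714) (flp_a L12649) L14393
theorem L14397 : sm gc N1664 = N1470 := ded_28_1 (flp_h L12682) (flp_c L12651) L14393
theorem L14399 : sm gf N1664 = N1467 := ded_40_1 (flp_h L12656) L12647 L14393
theorem L14401 : sm gi N1467 = N1665 := rfl
theorem L14403 : sm ga N1665 = N1476 := ded_16_1 (flp_i L12727) (flp_a L12658) L14401
theorem L14405 : sm gc N1665 = N1471 := ded_29_1 (flp_i L12689) (flp_c L12660) L14401
theorem L14407 : sm ge N1665 = N1665 := ded_38_1 (flp_i L14401) L12662 L14401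
theorem L14408 : sm gg N1665 = N1665 := ded_43_1 (flp_i L14401) L12663 L14401
theorem L14409 : sm gh N1665 = N1665 := ded_44_1 (flp_i L14401) (flp_h L12656) L10877 L12656 L14401
theorem L14410 : sm gg N1468 = N1666 := rfl
theorem L14412 : sm ga N1666 = N1477 := ded_14_1 (flp_g L12735) (flp_a L12666) L14410
theorem L14414 : sm gb N1666 = N1666 := ded_21_1 (flp_g L14410) L12668 L14410
theorem L14415 : sm gd N1666 = N1485 := ded_32_1 (flp_g L12795) (flp_d L12670) L14410
theorem L14417 : sm ge N1666 = N1469 := ded_36_1 (flp_g L12673) L12664 L14410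
theorem L14419 : sm gi N1666 = N1666 := ded_43_2 (flp_g L14410) L12669 L14410
theorem L14420 : sm gh N1468 = N1667 := rfl
theorem L14422 : sm ga N1667 = N1478 := ded_15_1 (flp_h L12744) (flp_a L12666) L14420
theorem L14424 : sm gb N1667 = N1667 := ded_22_1 (flp_h L14420) L12668 L14420
theorem L14425 : sm ge N1667 = N1470 := ded_37_1 (flp_h L12682) L12664 L14420
theorem L14427 : sm gf N1667 = N1667 := ded_40_1 (flp_h L14420) L12672 L14420
theorem L14428 : sm gh N1469 = N1668 := rfl
theorem L14430 : sm ga N1668 = N1479 := ded_15_1 (flp_h L12751) (flp_a L12675) L14428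
theorem L14432 : sm gb N1668 = N1668 := ded_22_1 (flp_h L14428) L12677 L14428
theorem L14433 : sm gf N1668 = N1668 := ded_40_1 (flp_h L14428) L12681 L14428
theorem L14434 : sm gg N1668 = N1470 := ded_42_1 (flp_h L12682) L12673 L14428
theorem L14436 : sm gi N1470 = N1669 := rfl
theorem L14438 : sm ga N1669 = N1480 := ded_16_1 (flp_i L12758) (flp_a L12684) L14436
theorem L14440 : sm gb N1669 = N1669 := ded_23_1 (flp_i L14436) L12686 L14436
theorem L14441 : sm gf N1669 = N1471 := ded_41_1 (flp_i L12689) (flp_f L12687) L14436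
theorem L14443 : sm gh N1669 = N1669 := ded_44_1 (flp_i L14436) (flp_h L12682) L10887 L12682 L14436
theorem L14444 : sm gg N1472 = N1670 := rfl
theorem L14446 : sm gb N1670 = N1670 := ded_21_1 (flp_g L14444) L12699 L14444
theorem L14447 : sm gc N1670 = N1477 := ded_27_1 (flp_g L12735) (flp_c L12700) L14444
theorem L14449 : sm gd N1670 = N1670 := ded_32_1 (flp_g L14444) L12703 L14444
theorem L14450 : sm ge N1670 = N1473 := ded_36_1 (flp_g L12705) L12697 L14444
theorem L14452 : sm gi N1670 = N1670 := ded_43_2 (flp_g L14444) L12702 L14444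
theorem L14453 : sm gh N1472 = N1671 := rfl
theorem L14455 : sm gb N1671 = N1671 := ded_22_1 (flp_h L14453) L12699 L14453
theorem L14456 : sm gc N1671 = N1478 := ded_28_1 (flp_h L12744) (flp_c L12700) L14453
theorem L14458 : sm ge N1671 = N1474 := ded_37_1 (flp_h L12714) L12697 L14453
theorem L14460 : sm gf N1671 = N1671 := ded_40_1 (flp_h L14453) L12704 L14453
theorem L14461 : sm gh N1473 = N1672 := rfl
theorem L14463 : sm gb N1672 = N1672 := ded_22_1 (flp_h L14461) L12707 L14461
theorem L14464 : sm gc N1672 = N1479 := ded_28_1 (flp_h L12751) (flp_c L12708) L14461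
theorem L14466 : sm gf N1672 = N1672 := ded_40_1 (flp_h L14461) L12713 L14461
theorem L14467 : sm gg N1672 = N1474 := ded_42_1 (flp_h L12714) L12705 L14461
theorem L14469 : sm gd N1474 = N1673 := rfl
theorem L14471 : sm gb N1673 = N1673 := ded_18_1 (flp_d L14469) L12716 L14469
theorem L14472 : sm gf N1673 = N1475 := ded_31_2 (flp_d L12721) (flp_f L12719) L14469
theorem L14474 : sm gh N1673 = N1526 := ded_33_2 (flp_d L13162) (flp_h L11357) (flp_d L10911) L12714 L14469
theorem L14476 : sm gi N1474 = N1674 := rfl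
theorem L14478 : sm gb N1674 = N1674 := ded_23_1 (flp_i L14476) L12716 L14476
theorem L14479 : sm gc N1674 = N1480 := ded_29_1 (flp_i L12758) (flp_c L12717) L14476
theorem L14481 : sm gf N1674 = N1476 := ded_41_1 (flp_i L12727) (flp_f L12719) L14476
theorem L14483 : sm gh N1674 = N1674 := ded_44_1 (flp_i L14476) (flp_h L12714) L10913 L12714 L14476
theorem L14484 : sm ge N1475 = N1675 := rfl
theorem L14486 : sm gb N1675 = N1675 := ded_19_1 (flp_e L14484) L12723 L14484
theorem L14487 : sm gg N1675 = N1675 := ded_36_2 (flp_e L14484) L12724 L14484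
theorem L14488 : sm gh N1675 = N1527 := ded_37_2 (flp_e L13167) (flp_h L12725) L14484
theorem L14490 : sm gd N1675 = N1675 := ded_30_1 (flp_e L14484) (flp_d L12721) L10919 L12721 L14484
theorem L14491 : sm gi N1475 = N1676 := rfl
theorem L14493 : sm gb N1676 = N1676 := ded_23_1 (flp_i L14491) L12723 L14491
theorem L14494 : sm gd N1676 = N1476 := ded_34_1 (flp_i L12727) L12721 L14491
theorem L14496 : sm gg N1676 = N1676 := ded_43_1 (flp_i L14491) L12724 L14491
theorem L14497 : sm gh N1477 = N1677 := rfl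
theorem L14499 : sm gb N1677 = N1481 := ded_22_1 (flp_h L12765) (flp_b L12737) L14497
theorem L14501 : sm ge N1677 = N1479 := ded_37_1 (flp_h L12751) (flp_e L12741) L14497
theorem L14503 : sm gg N1677 = N1478 := ded_42_1 (flp_h L12744) L12735 L14497
theorem L14505 : sm gd N1478 = N1678 := rfl
theorem L14507 : sm gb N1678 = N1482 := ded_18_1 (flp_d L12773) (flp_b L12746) L14505
theorem L14509 : sm gf N1678 = N1678 := ded_31_2 (flp_d L14505) L12750 L14505
theorem L14510 : sm gh N1678 = N1487 := ded_33_2 (flp_d L12813) (flp_h L11025) (flp_d L10926) L12744 L14505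
theorem L14512 : sm gi N1478 = N1679 := rfl
theorem L14514 : sm gb N1679 = N1483 := ded_23_1 (flp_i L12779) (flp_b L12746) L14512
theorem L14516 : sm ge N1679 = N1480 := ded_38_1 (flp_i L12758) (flp_e L12748) L14512
theorem L14518 : sm gf N1679 = N1679 := ded_41_1 (flp_i L14512) L12750 L14512
theorem L14519 : sm gh N1679 = N1679 := ded_44_1 (flp_i L14512) (flp_h L12744) L10925 L12744 L14512
theorem L14520 : sm gi N1479 = N1680 := rfl
theorem L14522 : sm gb N1680 = N1484 := ded_23_1 (flp_i L12787) (flp_b L12753) L14520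
theorem L14524 : sm gf N1680 = N1680 := ded_41_1 (flp_i L14520) L12755 L14520
theorem L14525 : sm gg N1680 = N1480 := ded_43_1 (flp_i L12758) (flp_g L12756) L14520
theorem L14527 : sm gh N1680 = N1680 := ded_44_1 (flp_i L14520) (flp_h L12751) L10935 L12751 L14520
theorem L14528 : sm gi N1481 = N1681 := rfl
theorem L14530 : sm ga N1681 = N1681 := ded_16_1 (flp_i L14528) L12767 L14528
theorem L14531 : sm gc N1681 = N1681 := ded_29_1 (flp_i L14528) L12768 L14528
theorem L14532 : sm ge N1681 = N1484 := ded_38_1 (flp_i L12787) (flp_e L12769) L14528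
theorem L14534 : sm gg N1681 = N1483 := ded_43_1 (flp_i L12779) (flp_g L12771) L14528
theorem L14536 : sm gh N1681 = N1681 := ded_44_1 (flp_i L14528) (flp_h L12765) L10958 L12765 L14528
theorem L14537 : sm gc N1482 = N1682 := rfl
theorem L14539 : sm ga N1682 = N1682 := ded_10_1 (flp_c L14537) L12775 L14537
theorem L14540 : sm gf N1682 = N1682 := ded_26_2 (flp_c L14537) L12776 L14537
theorem L14541 : sm gh N1682 = N1488 := ded_28_2 (flp_c L12818) (flp_h L12777) L14537
theorem L14543 : sm gd N1682 = N1682 := ded_24_2 (flp_c L14537) (flp_d L12773) L10962 L12773 L14537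
theorem L14544 : sm gi N1482 = N1683 := rfl
theorem L14546 : sm ga N1683 = N1683 := ded_16_1 (flp_i L14544) L12775 L14544
theorem L14547 : sm gd N1683 = N1483 := ded_34_1 (flp_i L12779) L12773 L14544
theorem L14549 : sm gf N1683 = N1683 := ded_41_1 (flp_i L14544) L12776 L14544
theorem L14550 : sm gd N1486 = N1684 := rfl
theorem L14552 : sm ga N1684 = N1487 := ded_11_1 (flp_d L12813) (flp_a L12806) L14550
theorem L14554 : sm gb N1684 = N1684 := ded_18_1 (flp_d L14550) L12808 L14550
theorem L14555 : sm gf N1684 = N1684 := ded_31_2 (flp_d L14550) L12812 L14550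
theorem L14556 : sm gc N1487 = N1685 := rfl
theorem L14558 : sm gf N1685 = N1685 := ded_26_2 (flp_c L14556) L12817 L14556
theorem L14559 : sm gd N1685 = N1685 := ded_24_2 (flp_c L14556) (flp_d L12813) L11029 L12813 L14556
theorem L14560 : sm gb N1488 = N1686 := rfl
theorem L14562 : sm gd N1686 = N1489 := ded_18_2 (flp_b L12824) (flp_d L12822) L14560
theorem L14564 : sm gf N1686 = N1686 := ded_20_2 (flp_b L14560) L12821 L14560
theorem L14565 : sm ga N1489 = N1687 := rfl
theorem L14567 : sm gc N1687 = N1687 := ded_10_2 (flp_a L14565) L12829 L14565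
theorem L14568 : sm ge N1687 = N1687 := ded_12_2 (flp_a L14565) L12826 L14565
theorem L14569 : sm gf N1687 = N1687 := ded_13_2 (flp_a L14565) L12827 L14565
theorem L14570 : sm gg N1687 = N1528 := ded_14_2 (flp_a L13343) (flp_g L13352) L14565
theorem L14572 : sm gh N1687 = N1687 := ded_15_2 (flp_a L14565) L12828 L14565
theorem L14573 : sm gb N1687 = N1687 := ded_9_2 (flp_a L14565) (flp_b L12824) L11039 L12824 L14565
theorem L14574 : sm gf N1490 = N1688 := rfl
theorem L14576 : sm ga N1688 = N1519 := ded_13_1 L13116 (flp_a L12832) L14574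
theorem L14578 : sm gb N1688 = N1511 := ded_20_1 (flp_f L13049) (flp_b L12840) L14574
theorem L14580 : sm gc N1688 = N1491 := ded_26_1 (flp_f L12842) L12830 L14574
theorem L14582 : sm gh N1688 = N1516 := ded_40_2 (flp_f L13096) (flp_h L12836) L14574
theorem L14584 : sm gi N1688 = N1499 := ded_41_2 (flp_f L12931) (flp_i L12838) L14574
theorem L14586 : sm ge N1491 = N1689 := rfl
theorem L14588 : sm ga N1689 = N1521 := ded_12_1 L13127 (flp_a L12844) L14586
theorem L14590 : sm gb N1689 = N1493 := ded_19_1 (flp_e L12866) (flp_b L12846) L14586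
theorem L14592 : sm gh N1689 = N1514 := ded_37_2 L13084 (flp_h L12850) L14586
theorem L14594 : sm gi N1689 = N1501 := ded_38_2 (flp_e L12945) (flp_i L12852) L14586
theorem L14596 : sm gd N1689 = N1689 := ded_30_1 (flp_e L14586) L12848 L11073 (flp_d L12848) L14586
theorem L14597 : sm gf N1689 = N1689 := ded_35_2 (flp_e L14586) (flp_f L12842) L11060 L12842 L14586
theorem L14598 : sm gg N1515 = N1689 := ded_21_0 L14590 (flp_g L12876) (flp_b L13091)
theorem L14600 : sm gg N1491 = N1690 := rfl
theorem L14602 : sm ga N1690 = N1522 := ded_14_1 L13136 (flp_a L12844) L14600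
theorem L14604 : sm gb N1690 = N1494 := ded_21_1 (flp_g L12878) (flp_b L12846) L14600
theorem L14606 : sm gd N1690 = N1492 := ded_32_1 (flp_g L12854) (flp_d L12848) L14600
theorem L14608 : sm ge N1690 = N1515 := ded_36_1 L14598 (flp_e L14586) L14600
theorem L14610 : sm gh N1690 = N1513 := ded_42_2 (flp_g L13074) (flp_h L12850) L14600
theorem L14612 : sm gi N1690 = N1502 := ded_43_2 (flp_g L12951) (flp_i L12852) L14600
theorem L14614 : sm gf N1690 = N1690 := ded_39_1 (flp_g L14600) (flp_f L12842) L11057 L12842 L14600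
theorem L14615 : sm gb N1495 = N1691 := rfl
theorem L14617 : sm ge N1691 = N1691 := ded_19_2 (flp_b L14615) L12895 L14615
theorem L14618 : sm gg N1691 = N1691 := ded_21_2 (flp_b L14615) L12896 L14615
theorem L14619 : sm gi N1691 = N1500 := ded_23_2 L12939 (flp_i L12897) L14615
theorem L14621 : sm ga N1691 = N1512 := ded_9_1 L13057 L11245 (flp_b L11114) (flp_a L12893) L14615
theorem L14623 : sm gc N1691 = N1504 := ded_17_2 L12969 L11158 (flp_b L11094) L12891 L14615
theorem L14625 : sm gh N1509 = N1691 := ded_44_5 L14619 (flp_h L12937) (flp_i L12838) L12836 (flp_i L13033)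
theorem L14627 : sm gf N1495 = N1692 := rfl
theorem L14629 : sm ga N1692 = N1499 := ded_13_1 (flp_f L12931) (flp_a L12893) L14627
theorem L14631 : sm gc N1692 = N1496 := ded_26_1 (flp_f L12899) L12891 L14627
theorem L14633 : sm gi N1692 = N1519 := ded_41_2 L13116 (flp_i L12897) L14627
theorem L14635 : sm gh N1495 = N1693 := rfl
theorem L14637 : sm ga N1693 = N1500 := ded_15_1 (flp_h L12937) (flp_a L12893) L14635
theorem L14639 : sm gb N1693 = N1509 := ded_22_1 L14625 (flp_b L14615) L14635
theorem L14641 : sm gc N1693 = N1497 := ded_28_1 (flp_h L12909) L12891 L14635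
theorem L14643 : sm ge N1693 = N1693 := ded_37_1 (flp_h L14635) L12895 L14635
theorem L14644 : sm gg N1693 = N1693 := ded_42_1 (flp_h L14635) L12896 L14635
theorem L14645 : sm gi N1693 = N1512 := ded_44_2 (flp_h L13055) L11188 L11272 (flp_i L12897) L14635
theorem L14647 : sm ge N1496 = N1694 := rfl
theorem L14649 : sm ga N1694 = N1501 := ded_12_1 (flp_e L12945) (flp_a L12901) L14647
theorem L14651 : sm gb N1694 = N1507 := ded_19_1 L13006 (flp_b L12903) L14647
theorem L14653 : sm gi N1694 = N1521 := ded_38_2 L13127 (flp_i L12907) L14647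
theorem L14655 : sm gd N1694 = N1694 := ded_30_1 (flp_e L14647) L12905 L11109 (flp_d L12905) L14647
theorem L14656 : sm gf N1694 = N1694 := ded_35_2 (flp_e L14647) (flp_f L12899) L11099 L12899 L14647
theorem L14657 : sm gg N1503 = N1694 := ded_21_0 L14651 L13009 (flp_b L12960)
theorem L14659 : sm gh N1502 = N1694 := ded_22_0 L14651 (flp_h L13002) (flp_b L12953)
theorem L14661 : sm gg N1496 = N1695 := rfl
theorem L14663 : sm ga N1695 = N1502 := ded_14_1 (flp_g L12951) (flp_a L12901) L14661
theorem L14665 : sm gb N1695 = N1506 := ded_21_1 L12996 (flp_b L12903) L14661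
theorem L14667 : sm gd N1695 = N1498 := ded_32_1 (flp_g L12920) (flp_d L12905) L14661
theorem L14669 : sm ge N1695 = N1503 := ded_36_1 L14657 (flp_e L14647) L14661
theorem L14671 : sm gi N1695 = N1522 := ded_43_2 L13136 (flp_i L12907) L14661
theorem L14673 : sm gf N1695 = N1695 := ded_39_1 (flp_g L14661) (flp_f L12899) L11096 L12899 L14661
theorem L14674 : sm gh N1501 = N1695 := ded_15_0 L14663 L14659 L14649
theorem L14676 : sm gh N1496 = N1696 := rfl
theorem L14678 : sm ga N1696 = N1503 := ded_15_1 (flp_h L12958) (flp_a L12901) L14676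
theorem L14680 : sm gb N1696 = N1505 := ded_22_1 (flp_h L12987) (flp_b L12903) L14676
theorem L14682 : sm ge N1696 = N1502 := ded_37_1 L14659 (flp_e L14647) L14676
theorem L14684 : sm gf N1696 = N1497 := ded_40_1 (flp_h L12909) L12899 L14676
theorem L14686 : sm gg N1696 = N1501 := ded_42_1 L14674 (flp_g L14661) L14676
theorem L14688 : sm gd N1696 = N1696 := ded_33_1 (flp_h L14676) L12905 L11106 (flp_d L12905) L14676
theorem L14689 : sm gi N1696 = N1515 := ded_44_2 (flp_h L13089) L11196 L11292 (flp_i L12907) L14676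
theorem L14691 : sm ge N1499 = N1697 := rfl
theorem L14693 : sm gb N1697 = N1517 := ded_19_1 (flp_e L13102) (flp_b L12933) L14691
theorem L14695 : sm gc N1697 = N1501 := ded_25_1 (flp_e L12945) (flp_c L12935) L14691
theorem L14697 : sm gf N1697 = N1697 := ded_35_2 (flp_e L14691) (flp_f L12931) L11112 L12931 L14691
theorem L14698 : sm gg N1499 = N1698 := rfl
theorem L14700 : sm gb N1698 = N1518 := ded_21_1 (flp_g L13107) (flp_b L12933) L14698
theorem L14702 : sm gc N1698 = N1502 := ded_27_1 (flp_g L12951) (flp_c L12935) L14698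
theorem L14704 : sm gf N1698 = N1698 := ded_39_1 (flp_g L14698) (flp_f L12931) L11113 L12931 L14698
theorem L14705 : sm gh N1499 = N1699 := rfl
theorem L14707 : sm gb N1699 = N1519 := ded_22_1 (flp_h L13112) (flp_b L12933) L14705
theorem L14709 : sm gc N1699 = N1503 := ded_28_1 (flp_h L12958) (flp_c L12935) L14705
theorem L14711 : sm gf N1699 = N1500 := ded_40_1 (flp_h L12937) L12931 L14705
theorem L14713 : sm gd N1500 = N1700 := rfl
theorem L14715 : sm gb N1700 = N1520 := ded_18_1 (flp_d L13118) (flp_b L12939) L14713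
theorem L14717 : sm gg N1700 = N1700 := ded_32_2 (flp_d L14713) L12944 L14713
theorem L14718 : sm gc N1700 = N1700 := ded_24_1 (flp_d L14713) L12941 L11128 (flp_c L12941) L14713
theorem L14719 : sm gi N1503 = N1701 := rfl
theorem L14721 : sm ga N1701 = N1515 := ded_16_1 (flp_i L14689) L14678 L14719
theorem L14723 : sm gb N1701 = N1508 := ded_23_1 (flp_i L13014) (flp_b L12960) L14719
theorem L14725 : sm gd N1701 = N1701 := ded_34_1 (flp_i L14719) L12964 L14719
theorem L14726 : sm ge N1701 = N1522 := ded_38_1 (flp_i L14671) L14669 L14719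
theorem L14728 : sm gf N1701 = N1504 := ded_41_1 (flp_i L12965) (flp_f L12962) L14719
theorem L14730 : sm gg N1701 = N1521 := ded_43_1 (flp_i L14653) (flp_g L14657) L14719
theorem L14732 : sm gh N1701 = N1510 := ded_44_1 L13043 (flp_h L12850) L12852 L12958 L14719
theorem L14734 : sm gf N1509 = N1702 := rfl
theorem L14736 : sm ga N1702 = N1511 := ded_13_1 (flp_f L13049) (flp_a L13029) L14734
theorem L14738 : sm gc N1702 = N1510 := ded_26_1 (flp_f L13035) L13027 L14734
theorem L14740 : sm gi N1702 = N1516 := ded_41_2 (flp_f L13096) (flp_i L13033) L14734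
theorem L14742 : sm ge N1518 = N1702 := ded_25_0 L14738 L13045 (flp_c L13109)
theorem L14744 : sm gg N1517 = N1702 := ded_27_0 L14738 (flp_g L13047) (flp_c L13104)
theorem L14746 : sm ge N1511 = N1703 := rfl
theorem L14748 : sm ga N1703 = N1518 := ded_12_1 L14742 L14736 L14746
theorem L14750 : sm gc N1703 = N1513 := ded_25_1 (flp_e L13063) (flp_c L13051) L14746
theorem L14752 : sm gi N1703 = N1517 := ded_38_2 (flp_e L13102) (flp_i L13053) L14746
theorem L14754 : sm gf N1703 = N1703 := ded_35_2 (flp_e L14746) (flp_f L13049) L11186 L13049 L14746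
theorem L14755 : sm gg N1516 = N1703 := ded_14_0 L14748 (flp_g L13107) (flp_a L13098)
theorem L14757 : sm gg N1511 = N1704 := rfl
theorem L14759 : sm ga N1704 = N1517 := ded_14_1 L14744 L14736 L14757
theorem L14761 : sm gc N1704 = N1514 := ded_27_1 (flp_g L13076) (flp_c L13051) L14757
theorem L14763 : sm ge N1704 = N1516 := ded_36_1 L14755 (flp_e L14746) L14757
theorem L14765 : sm gi N1704 = N1518 := ded_43_2 (flp_g L13107) (flp_i L13053) L14757
theorem L14767 : sm gf N1704 = N1704 := ded_39_1 (flp_g L14757) (flp_f L13049) L11187 L13049 L14757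
theorem L14768 : sm gh N1511 = N1705 := rfl
theorem L14770 : sm gb N1705 = N1516 := ded_22_1 (flp_h L14582) L14578 L14768
theorem L14772 : sm gc N1705 = N1515 := ded_28_1 (flp_h L13089) (flp_c L13051) L14768
theorem L14774 : sm gf N1705 = N1512 := ded_40_1 (flp_h L13055) L13049 L14768
theorem L14776 : sm gd N1517 = N1706 := rfl
theorem L14778 : sm gf N1706 = N1706 := ded_31_2 (flp_d L14776) L13106 L14776
theorem L14779 : sm gc N1706 = N1523 := ded_24_1 (flp_d L13140) L11328 (flp_d L11282) (flp_c L13104) L14776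
theorem L14781 : sm gh N1517 = N1707 := rfl
theorem L14783 : sm gc N1707 = N1521 := ded_28_1 (flp_h L13123) (flp_c L13104) L14781
theorem L14785 : sm ge N1707 = N1519 := ded_37_1 (flp_h L13112) L13102 L14781
theorem L14787 : sm gf N1707 = N1707 := ded_40_1 (flp_h L14781) L13106 L14781
theorem L14788 : sm gh N1518 = N1708 := rfl
theorem L14790 : sm gc N1708 = N1522 := ded_28_1 (flp_h L13131) (flp_c L13109) L14788
theorem L14792 : sm gf N1708 = N1708 := ded_40_1 (flp_h L14788) L13111 L14788
theorem L14793 : sm gg N1708 = N1519 := ded_42_1 (flp_h L13112) L13107 L14788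
theorem L14795 : sm gd N1519 = N1709 := rfl
theorem L14797 : sm gf N1709 = N1520 := ded_31_2 (flp_d L13118) (flp_f L13116) L14795
theorem L14799 : sm gc N1709 = N1526 := ded_24_1 (flp_d L13162) L11360 (flp_d L11298) (flp_c L13114) L14795
theorem L14801 : sm ge N1520 = N1710 := rfl
theorem L14803 : sm gc N1710 = N1527 := ded_25_1 (flp_e L13167) (flp_c L13121) L14801
theorem L14805 : sm gg N1710 = N1710 := ded_36_2 (flp_e L14801) L13120 L14801
theorem L14806 : sm gd N1710 = N1710 := ded_30_1 (flp_e L14801) (flp_d L13118) L11276 L13118 L14801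
theorem L14807 : sm gh N1523 = N1711 := rfl
theorem L14809 : sm gb N1711 = N1711 := ded_22_1 (flp_h L14807) L13142 L14807
theorem L14810 : sm gf N1711 = N1711 := ded_40_1 (flp_h L14807) L13143 L14807
theorem L14811 : sm gd N1711 = N1711 := ded_33_1 (flp_h L14807) (flp_d L13140) L11330 L13140 L14807
theorem L14812 : sm gd N1525 = N1712 := rfl
theorem L14814 : sm gb N1712 = N1712 := ded_18_1 (flp_d L14812) L13155 L14812
theorem L14815 : sm gf N1712 = N1712 := ded_31_2 (flp_d L14812) L13159 L14812
theorem L14816 : sm gg N1712 = N1526 := ded_32_2 (flp_d L13162) (flp_g L13160) L14812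
theorem L14818 : sm ge N1526 = N1713 := rfl
theorem L14820 : sm gb N1713 = N1713 := ded_19_1 (flp_e L14818) L13164 L14818
theorem L14821 : sm gd N1713 = N1713 := ded_30_1 (flp_e L14818) (flp_d L13162) L11362 L13162 L14818
theorem L14822 : sm gf N1527 = N1714 := rfl
theorem L14824 : sm gb N1714 = N1714 := ded_20_1 (flp_f L14822) L13169 L14822
theorem L14825 : sm gd N1714 = N1528 := ded_31_1 (flp_f L13173) (flp_d L13171) L14822
theorem L14827 : sm gd N1535 = N1715 := rfl
theorem L14829 : sm ga N1715 = N1536 := ded_11_1 (flp_d L13289) (flp_a L13281) L14827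
theorem L14831 : sm gb N1715 = N1715 := ded_18_1 (flp_d L14827) L13283 L14827
theorem L14832 : sm gg N1715 = N1715 := ded_32_2 (flp_d L14827) L13285 L14827
theorem L14833 : sm gi N1715 = N1715 := ded_34_2 (flp_d L14827) L13288 L14827
theorem L14834 : sm ge N1715 = N1715 := ded_30_2 (flp_d L14827) (flp_e L13279) L11712 L13279 L14827
theorem L14835 : sm gf N1535 = N1716 := rfl
theorem L14837 : sm ga N1716 = N1537 := ded_13_1 (flp_f L13296) (flp_a L13281) L14835
theorem L14839 : sm gb N1716 = N1716 := ded_20_1 (flp_f L14835) L13283 L14835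
theorem L14840 : sm gc N1716 = N1716 := ded_26_1 (flp_f L14835) L13284 L14835
theorem L14841 : sm gh N1716 = N1546 := ded_40_2 (flp_f L13384) (flp_h L13286) L14835
theorem L14843 : sm gi N1716 = N1716 := ded_41_2 (flp_f L14835) L13288 L14835
theorem L14844 : sm ge N1716 = N1716 := ded_35_1 (flp_f L14835) (flp_e L13279) L11713 L13279 L14835
theorem L14845 : sm gc N1536 = N1717 := rfl
theorem L14847 : sm ge N1717 = N1717 := ded_25_2 (flp_c L14845) L13295 L14845
theorem L14848 : sm gg N1717 = N1717 := ded_27_2 (flp_c L14845) L13293 L14845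
theorem L14849 : sm gi N1717 = N1717 := ded_29_2 (flp_c L14845) L13294 L14845
theorem L14850 : sm gb N1717 = N1717 := ded_17_1 (flp_c L14845) L13291 L11733 (flp_b L13291) L14845
theorem L14851 : sm gd N1717 = N1717 := ded_24_2 (flp_c L14845) (flp_d L13289) L11723 L13289 L14845
theorem L14852 : sm gf N1536 = N1718 := rfl
theorem L14854 : sm gb N1718 = N1538 := ded_20_1 (flp_f L13305) (flp_b L13291) L14852
theorem L14856 : sm gd N1718 = N1537 := ded_31_1 (flp_f L13296) L13289 L14852
theorem L14858 : sm gi N1718 = N1718 := ded_41_2 (flp_f L14852) L13294 L14852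
theorem L14859 : sm gh N1536 = N1719 := rfl
theorem L14861 : sm gb N1719 = N1539 := ded_22_1 (flp_h L13312) (flp_b L13291) L14859
theorem L14863 : sm ge N1719 = N1719 := ded_37_1 (flp_h L14859) L13295 L14859
theorem L14864 : sm gg N1719 = N1719 := ded_42_1 (flp_h L14859) L13293 L14859
theorem L14865 : sm gd N1719 = N1549 := ded_33_1 (flp_h L13407) (flp_d L11795) (flp_h L11725) L13289 L14859
theorem L14867 : sm gg N1537 = N1720 := rfl
theorem L14869 : sm gb N1720 = N1540 := ded_21_1 (flp_g L13320) (flp_b L13298) L14867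
theorem L14871 : sm gc N1720 = N1720 := ded_27_1 (flp_g L14867) L13300 L14867
theorem L14872 : sm ge N1720 = N1720 := ded_36_1 (flp_g L14867) L13304 L14867
theorem L14873 : sm gh N1720 = N1550 := ded_42_2 (flp_g L13414) (flp_h L13301) L14867
theorem L14875 : sm gi N1720 = N1720 := ded_43_2 (flp_g L14867) L13303 L14867
theorem L14876 : sm gf N1720 = N1720 := ded_39_1 (flp_g L14867) (flp_f L13296) L11724 L13296 L14867
theorem L14877 : sm ge N1538 = N1721 := rfl
theorem L14879 : sm ga N1721 = N1721 := ded_12_1 (flp_e L14877) L13307 L14877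
theorem L14880 : sm gc N1721 = N1721 := ded_25_1 (flp_e L14877) L13308 L14877
theorem L14881 : sm gi N1721 = N1721 := ded_38_2 (flp_e L14877) L13311 L14877
theorem L14882 : sm gd N1721 = N1721 := ded_30_1 (flp_e L14877) L13309 L11743 (flp_d L13309) L14877
theorem L14883 : sm gf N1721 = N1721 := ded_35_2 (flp_e L14877) (flp_f L13305) L11734 L13305 L14877
theorem L14884 : sm gg N1538 = N1722 := rfl
theorem L14886 : sm ga N1722 = N1722 := ded_14_1 (flp_g L14884) L13307 L14884
theorem L14887 : sm gc N1722 = N1722 := ded_27_1 (flp_g L14884) L13308 L14884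
theorem L14888 : sm gd N1722 = N1540 := ded_32_1 (flp_g L13320) (flp_d L13309) L14884
theorem L14890 : sm gi N1722 = N1722 := ded_43_2 (flp_g L14884) L13311 L14884
theorem L14891 : sm gf N1722 = N1722 := ded_39_1 (flp_g L14884) (flp_f L13305) L11731 L13305 L14884
theorem L14892 : sm gh N1538 = N1723 := rfl
theorem L14894 : sm ga N1723 = N1723 := ded_15_1 (flp_h L14892) L13307 L14892
theorem L14895 : sm gc N1723 = N1723 := ded_28_1 (flp_h L14892) L13308 L14892
theorem L14896 : sm gf N1723 = N1539 := ded_40_1 (flp_h L13312) L13305 L14892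
theorem L14898 : sm gd N1723 = N1553 := ded_33_1 (flp_h L13441) L11813 (flp_h L11740) (flp_d L13309) L14892
theorem L14900 : sm gi N1539 = N1724 := rfl
theorem L14902 : sm ga N1724 = N1724 := ded_16_1 (flp_i L14900) L13314 L14900
theorem L14903 : sm gc N1724 = N1724 := ded_29_1 (flp_i L14900) L13315 L14900
theorem L14904 : sm gd N1724 = N1554 := ded_34_1 (flp_i L13448) (flp_d L13318) L14900
theorem L14906 : sm ge N1724 = N1724 := ded_38_1 (flp_i L14900) L13316 L14900
theorem L14907 : sm gg N1724 = N1724 := ded_43_1 (flp_i L14900) L13317 L14900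
theorem L14908 : sm gh N1724 = N1724 := ded_44_1 (flp_i L14900) (flp_h L13312) L11732 L13312 L14900
theorem L14909 : sm gc N1541 = N1725 := rfl
theorem L14911 : sm ga N1725 = N1710 := ded_10_1 L14803 (flp_a L13332) L14909
theorem L14913 : sm ge N1725 = N1597 := ded_25_2 (flp_c L13864) (flp_e L13339) L14909
theorem L14915 : sm gg N1725 = N1725 := ded_27_2 (flp_c L14909) L13336 L14909
theorem L14916 : sm gi N1725 = N1547 := ded_29_2 (flp_c L13393) (flp_i L13337) L14909
theorem L14918 : sm gb N1725 = N1560 := ded_17_1 (flp_c L13511) L11874 (flp_c L11771) (flp_b L13334) L14909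
theorem L14920 : sm gd N1725 = N1725 := ded_24_2 (flp_c L14909) (flp_d L13330) L11760 L13330 L14909
theorem L14921 : sm gf N1541 = N1726 := rfl
theorem L14923 : sm ga N1726 = N1714 := ded_13_1 (flp_f L14822) (flp_a L13332) L14921
theorem L14925 : sm gb N1726 = N1543 := ded_20_1 (flp_f L13354) (flp_b L13334) L14921
theorem L14927 : sm gd N1726 = N1542 := ded_31_1 (flp_f L13341) L13330 L14921
theorem L14929 : sm gi N1726 = N1548 := ded_41_2 (flp_f L13401) (flp_i L13337) L14921
theorem L14931 : sm gg N1686 = N1726 := ded_21_0 L14925 (flp_g L13363) L14560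
theorem L14933 : sm gh N1541 = N1727 := rfl
theorem L14935 : sm ga N1727 = N1675 := ded_15_1 L14488 (flp_a L13332) L14933
theorem L14937 : sm gb N1727 = N1544 := ded_22_1 (flp_h L13365) (flp_b L13334) L14933
theorem L14939 : sm ge N1727 = N1599 := ded_37_1 (flp_h L13885) (flp_e L13339) L14933
theorem L14941 : sm gg N1727 = N1727 := ded_42_1 (flp_h L14933) L13336 L14933
theorem L14942 : sm gd N1727 = N1727 := ded_33_1 (flp_h L14933) (flp_d L13330) L11762 L13330 L14933
theorem L14943 : sm ge N1543 = N1728 := rfl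
theorem L14945 : sm ga N1728 = N1728 := ded_12_1 (flp_e L14943) L13356 L14943
theorem L14946 : sm gc N1728 = N1563 := ded_25_1 (flp_e L13536) (flp_c L13357) L14943
theorem L14948 : sm gg N1728 = N1661 := ded_36_2 L14371 L13363 L14943
theorem L14950 : sm gi N1728 = N1551 := ded_38_2 (flp_e L13423) (flp_i L13361) L14943
theorem L14952 : sm gd N1728 = N1728 := ded_30_1 (flp_e L14943) L13359 L11783 (flp_d L13359) L14943
theorem L14953 : sm gf N1728 = N1601 := ded_35_2 (flp_e L13908) (flp_f L12247) (flp_e L11773) L13354 L14943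
theorem L14955 : sm gh N1543 = N1729 := rfl
theorem L14957 : sm ga N1729 = N1729 := ded_15_1 (flp_h L14955) L13356 L14955
theorem L14958 : sm gc N1729 = N1564 := ded_28_1 (flp_h L13547) (flp_c L13357) L14955
theorem L14960 : sm gf N1729 = N1544 := ded_40_1 (flp_h L13365) L13354 L14955
theorem L14962 : sm gg N1729 = N1682 := ded_42_1 L14541 L13363 L14955
theorem L14964 : sm gd N1729 = N1729 := ded_33_1 (flp_h L14955) L13359 L11780 (flp_d L13359) L14955
theorem L14965 : sm gi N1544 = N1730 := rfl
theorem L14967 : sm ga N1730 = N1730 := ded_16_1 (flp_i L14965) L13367 L14965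
theorem L14968 : sm gc N1730 = N1565 := ded_29_1 (flp_i L13556) (flp_c L13368) L14965
theorem L14970 : sm gd N1730 = N1730 := ded_34_1 (flp_i L14965) L13373 L14965
theorem L14971 : sm ge N1730 = N1604 := ded_38_1 (flp_i L13933) (flp_e L13370) L14965
theorem L14973 : sm gg N1730 = N1730 := ded_43_1 (flp_i L14965) L13372 L14965
theorem L14974 : sm gh N1730 = N1554 := ded_44_1 (flp_i L13448) (flp_h L11815) (flp_i L11769) L13365 L14965
theorem L14976 : sm gc N1545 = N1731 := rfl
theorem L14978 : sm ga N1731 = N1547 := ded_10_1 (flp_c L13393) (flp_a L13376) L14976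
theorem L14980 : sm ge N1731 = N1605 := ded_25_2 (flp_c L13941) (flp_e L13382) L14976
theorem L14982 : sm gg N1731 = N1731 := ded_27_2 (flp_c L14976) L13379 L14976
theorem L14983 : sm gi N1731 = N1710 := ded_29_2 L14803 (flp_i L13380) L14976
theorem L14985 : sm gd N1731 = N1731 := ded_24_2 (flp_c L14976) (flp_d L13374) L11791 L13374 L14976
theorem L14986 : sm gf N1545 = N1732 := rfl
theorem L14988 : sm ga N1732 = N1548 := ded_13_1 (flp_f L13401) (flp_a L13376) L14986
theorem L14990 : sm gb N1732 = N1732 := ded_20_1 (flp_f L14986) L13378 L14986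
theorem L14991 : sm gd N1732 = N1546 := ded_31_1 (flp_f L13384) L13374 L14986
theorem L14993 : sm gi N1732 = N1714 := ded_41_2 (flp_f L14822) (flp_i L13380) L14986
theorem L14995 : sm gh N1545 = N1733 := rfl
theorem L14997 : sm ga N1733 = N1549 := ded_15_1 (flp_h L13407) (flp_a L13376) L14995
theorem L14999 : sm gb N1733 = N1733 := ded_22_1 (flp_h L14995) L13378 L14995
theorem L15000 : sm ge N1733 = N1607 := ded_37_1 (flp_h L13959) (flp_e L13382) L14995
theorem L15002 : sm gg N1733 = N1733 := ded_42_1 (flp_h L14995) L13379 L14995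
theorem L15003 : sm gg N1546 = N1734 := rfl
theorem L15005 : sm ga N1734 = N1550 := ded_14_1 (flp_g L13414) (flp_a L13386) L15003
theorem L15007 : sm gb N1734 = N1734 := ded_21_1 (flp_g L15003) L13388 L15003
theorem L15008 : sm gc N1734 = N1734 := ded_27_1 (flp_g L15003) L13389 L15003
theorem L15009 : sm ge N1734 = N1734 := ded_36_1 (flp_g L15003) L13392 L15003
theorem L15010 : sm gi N1734 = N1687 := ded_43_2 L14570 (flp_i L13390) L15003
theorem L15012 : sm gf N1734 = N1734 := ded_39_1 (flp_g L15003) (flp_f L13384) L11792 L13384 L15003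
theorem L15013 : sm gf N1547 = N1735 := rfl
theorem L15015 : sm gb N1735 = N1570 := ded_20_1 (flp_f L13600) (flp_b L13398) L15013
theorem L15017 : sm gc N1735 = N1548 := ded_26_1 (flp_f L13401) L13393 L15013
theorem L15019 : sm gd N1735 = N1735 := ded_31_1 (flp_f L15013) L13400 L15013
theorem L15020 : sm gh N1547 = N1736 := rfl
theorem L15022 : sm gb N1736 = N1571 := ded_22_1 (flp_h L13605) (flp_b L13398) L15020
theorem L15024 : sm gc N1736 = N1549 := ded_28_1 (flp_h L13407) L13393 L15020
theorem L15026 : sm ge N1736 = N1610 := ded_37_1 (flp_h L13986) (flp_e L13395) L15020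
theorem L15028 : sm gg N1736 = N1736 := ded_42_1 (flp_h L15020) L13397 L15020
theorem L15029 : sm ge N1548 = N1737 := rfl
theorem L15031 : sm gb N1737 = N1551 := ded_19_1 (flp_e L13423) (flp_b L13403) L15029
theorem L15033 : sm gd N1737 = N1737 := ded_30_1 (flp_e L15029) L13405 L11807 (flp_d L13405) L15029
theorem L15034 : sm gf N1737 = N1611 := ded_35_2 (flp_e L13993) (flp_f L12297) (flp_e L11800) L13401 L15029
theorem L15036 : sm gg N1548 = N1738 := rfl
theorem L15038 : sm gb N1738 = N1552 := ded_21_1 (flp_g L13431) (flp_b L13403) L15036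
theorem L15040 : sm gd N1738 = N1550 := ded_32_1 (flp_g L13414) (flp_d L13405) L15036
theorem L15042 : sm gi N1738 = N1686 := ded_43_2 L14931 L14929 L15036
theorem L15044 : sm gf N1738 = N1738 := ded_39_1 (flp_g L15036) (flp_f L13401) L11799 L13401 L15036
theorem L15045 : sm gh N1548 = N1739 := rfl
theorem L15047 : sm gb N1739 = N1553 := ded_22_1 (flp_h L13441) (flp_b L13403) L15045
theorem L15049 : sm gf N1739 = N1549 := ded_40_1 (flp_h L13407) L13401 L15045
theorem L15051 : sm gi N1549 = N1740 := rfl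
theorem L15053 : sm gb N1740 = N1554 := ded_23_1 (flp_i L13448) (flp_b L13409) L15051
theorem L15055 : sm ge N1740 = N1614 := ded_38_1 (flp_i L14012) (flp_e L13411) L15051
theorem L15057 : sm gg N1740 = N1740 := ded_43_1 (flp_i L15051) L13413 L15051
theorem L15058 : sm gg N1551 = N1741 := rfl
theorem L15060 : sm ga N1741 = N1741 := ded_14_1 (flp_g L15058) L13425 L15058
theorem L15061 : sm gc N1741 = N1576 := ded_27_1 (flp_g L13644) (flp_c L13426) L15058
theorem L15063 : sm gd N1741 = N1741 := ded_32_1 (flp_g L15058) L13428 L15058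
theorem L15064 : sm ge N1741 = N1552 := ded_36_1 (flp_g L13431) L13423 L15058
theorem L15066 : sm gi N1741 = N1661 := ded_43_2 (flp_g L14948) L14950 L15058
theorem L15068 : sm gh N1551 = N1742 := rfl
theorem L15070 : sm ga N1742 = N1742 := ded_15_1 (flp_h L15068) L13425 L15068
theorem L15071 : sm gc N1742 = N1577 := ded_28_1 (flp_h L13653) (flp_c L13426) L15068
theorem L15073 : sm ge N1742 = N1553 := ded_37_1 (flp_h L13441) L13423 L15068
theorem L15075 : sm gf N1742 = N1616 := ded_40_1 (flp_h L14026) (flp_f L13429) L15068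
theorem L15077 : sm gh N1552 = N1743 := rfl
theorem L15079 : sm ga N1743 = N1743 := ded_15_1 (flp_h L15077) L13433 L15077
theorem L15080 : sm gc N1743 = N1578 := ded_28_1 (flp_h L13660) (flp_c L13434) L15077
theorem L15082 : sm gf N1743 = N1743 := ded_40_1 (flp_h L15077) L13440 L15077
theorem L15083 : sm gg N1743 = N1553 := ded_42_1 (flp_h L13441) L13431 L15077
theorem L15085 : sm gi N1553 = N1744 := rfl
theorem L15087 : sm ga N1744 = N1744 := ded_16_1 (flp_i L15085) L13443 L15085
theorem L15088 : sm gc N1744 = N1579 := ded_29_1 (flp_i L13667) (flp_c L13444) L15085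
theorem L15090 : sm gf N1744 = N1554 := ded_41_1 (flp_i L13448) (flp_f L13446) L15085
theorem L15092 : sm gd N1555 = N1745 := rfl
theorem L15094 : sm ga N1745 = N1556 := ded_11_1 (flp_d L13468) (flp_a L13458) L15092
theorem L15096 : sm gb N1745 = N1745 := ded_18_1 (flp_d L15092) L13460 L15092
theorem L15097 : sm gf N1745 = N1666 := ded_31_2 L14415 (flp_f L13466) L15092
theorem L15099 : sm gg N1745 = N1745 := ded_32_2 (flp_d L15092) L13462 L15092
theorem L15100 : sm gi N1745 = N1745 := ded_34_2 (flp_d L15092) L13465 L15092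
theorem L15101 : sm ge N1745 = N1745 := ded_30_2 (flp_d L15092) (flp_e L13456) L11835 L13456 L15092
theorem L15102 : sm gc N1556 = N1746 := rfl
theorem L15104 : sm ge N1746 = N1746 := ded_25_2 (flp_c L15102) L13476 L15102
theorem L15105 : sm gf N1746 = N1670 := ded_26_2 L14447 (flp_f L13472) L15102
theorem L15107 : sm gg N1746 = N1746 := ded_27_2 (flp_c L15102) L13474 L15102
theorem L15108 : sm gi N1746 = N1746 := ded_29_2 (flp_c L15102) L13475 L15102
theorem L15109 : sm gb N1746 = N1746 := ded_17_1 (flp_c L15102) L13470 L11861 (flp_b L13470) L15102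
theorem L15110 : sm gd N1746 = N1746 := ded_24_2 (flp_c L15102) (flp_d L13468) L11847 L13468 L15102
theorem L15111 : sm gh N1556 = N1747 := rfl
theorem L15113 : sm gb N1747 = N1557 := ded_22_1 (flp_h L13477) (flp_b L13470) L15111
theorem L15115 : sm ge N1747 = N1747 := ded_37_1 (flp_h L15111) L13476 L15111
theorem L15116 : sm gf N1747 = N1677 := ded_40_1 (flp_h L14497) (flp_f L13472) L15111
theorem L15118 : sm gg N1747 = N1747 := ded_42_1 (flp_h L15111) L13474 L15111
theorem L15119 : sm gd N1747 = N1562 := ded_33_1 (flp_h L13529) (flp_d L11872) (flp_h L11849) L13468 L15111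
theorem L15121 : sm gi N1557 = N1748 := rfl
theorem L15123 : sm ga N1748 = N1748 := ded_16_1 (flp_i L15121) L13479 L15121
theorem L15124 : sm gc N1748 = N1748 := ded_29_1 (flp_i L15121) L13480 L15121
theorem L15125 : sm gd N1748 = N1565 := ded_34_1 (flp_i L13556) (flp_d L13485) L15121
theorem L15127 : sm ge N1748 = N1748 := ded_38_1 (flp_i L15121) L13481 L15121
theorem L15128 : sm gf N1748 = N1681 := ded_41_1 (flp_i L14528) (flp_f L13482) L15121
theorem L15130 : sm gg N1748 = N1748 := ded_43_1 (flp_i L15121) L13484 L15121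
theorem L15131 : sm gh N1748 = N1748 := ded_44_1 (flp_i L15121) (flp_h L13477) L11860 L13477 L15121
theorem L15132 : sm gc N1558 = N1749 := rfl
theorem L15134 : sm ga N1749 = N1560 := ded_10_1 (flp_c L13511) (flp_a L13489) L15132
theorem L15136 : sm ge N1749 = N1619 := ded_25_2 (flp_c L14050) (flp_e L13495) L15132
theorem L15138 : sm gg N1749 = N1749 := ded_27_2 (flp_c L15132) L13492 L15132
theorem L15139 : sm gi N1749 = N1566 := ded_29_2 (flp_c L13564) (flp_i L13493) L15132
theorem L15141 : sm gd N1749 = N1749 := ded_24_2 (flp_c L15132) (flp_d L13487) L11868 L13487 L15132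
theorem L15142 : sm gf N1558 = N1750 := rfl
theorem L15144 : sm ga N1750 = N1561 := ded_13_1 (flp_f L13519) (flp_a L13489) L15142
theorem L15146 : sm gb N1750 = N1750 := ded_20_1 (flp_f L15142) L13491 L15142
theorem L15147 : sm gd N1750 = N1559 := ded_31_1 (flp_f L13497) L13487 L15142
theorem L15149 : sm gi N1750 = N1567 := ded_41_2 (flp_f L13572) (flp_i L13493) L15142
theorem L15151 : sm gg N1684 = N1750 := ded_14_0 L15144 (flp_g L13527) (flp_a L14552)
theorem L15153 : sm gh N1558 = N1751 := rfl
theorem L15155 : sm ga N1751 = N1562 := ded_15_1 (flp_h L13529) (flp_a L13489) L15153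
theorem L15157 : sm gb N1751 = N1751 := ded_22_1 (flp_h L15153) L13491 L15153
theorem L15158 : sm ge N1751 = N1621 := ded_37_1 (flp_h L14070) (flp_e L13495) L15153
theorem L15160 : sm gg N1751 = N1751 := ded_42_1 (flp_h L15153) L13492 L15153
theorem L15161 : sm gf N1560 = N1752 := rfl
theorem L15163 : sm gc N1752 = N1561 := ded_26_1 (flp_f L13519) L13511 L15161
theorem L15165 : sm gd N1752 = N1752 := ded_31_1 (flp_f L15161) L13518 L15161
theorem L15166 : sm gi N1752 = N1570 := ded_41_2 (flp_f L13600) (flp_i L13516) L15161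
theorem L15168 : sm gg N1685 = N1752 := ded_27_0 L15163 (flp_g L13527) L14556
theorem L15170 : sm gh N1560 = N1753 := rfl
theorem L15172 : sm gc N1753 = N1562 := ded_28_1 (flp_h L13529) L13511 L15170
theorem L15174 : sm ge N1753 = N1623 := ded_37_1 (flp_h L14085) (flp_e L13513) L15170
theorem L15176 : sm gg N1753 = N1753 := ded_42_1 (flp_h L15170) L13515 L15170
theorem L15177 : sm ge N1561 = N1754 := rfl
theorem L15179 : sm gb N1754 = N1563 := ded_19_1 (flp_e L13536) (flp_b L13521) L15177
theorem L15181 : sm gg N1754 = N1660 := ded_36_2 L14366 L13527 L15177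
theorem L15183 : sm gi N1754 = N1572 := ded_38_2 (flp_e L13612) (flp_i L13525) L15177
theorem L15185 : sm gd N1754 = N1582 := ded_30_1 (flp_e L13702) L12030 (flp_e L11890) (flp_d L13523) L15177
theorem L15187 : sm gf N1754 = N1624 := ded_35_2 (flp_e L14090) (flp_f L12376) (flp_e L11879) L13519 L15177
theorem L15189 : sm gh N1561 = N1755 := rfl
theorem L15191 : sm gb N1755 = N1564 := ded_22_1 (flp_h L13547) (flp_b L13521) L15189
theorem L15193 : sm gf N1755 = N1562 := ded_40_1 (flp_h L13529) L13519 L15189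
theorem L15195 : sm gg N1755 = N1678 := ded_42_1 L14510 L13527 L15189
theorem L15197 : sm gd N1755 = N1677 := ded_33_1 (flp_h L14497) L12739 (flp_h L11886) (flp_d L13523) L15189
theorem L15199 : sm gi N1562 = N1756 := rfl
theorem L15201 : sm gb N1756 = N1565 := ded_23_1 (flp_i L13556) (flp_b L13531) L15199
theorem L15203 : sm ge N1756 = N1627 := ded_38_1 (flp_i L14116) (flp_e L13533) L15199
theorem L15205 : sm gg N1756 = N1756 := ded_43_1 (flp_i L15199) L13535 L15199
theorem L15206 : sm gh N1756 = N1575 := ded_44_1 (flp_i L13636) (flp_h L11938) (flp_i L11877) L13529 L15199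
theorem L15208 : sm gh N1563 = N1757 := rfl
theorem L15210 : sm ga N1757 = N1757 := ded_15_1 (flp_h L15208) L13538 L15208
theorem L15211 : sm ge N1757 = N1564 := ded_37_1 (flp_h L13547) L13536 L15208
theorem L15213 : sm gf N1757 = N1629 := ded_40_1 (flp_h L14133) (flp_f L13545) L15208
theorem L15215 : sm gg N1757 = N1650 := ded_42_1 L14286 (flp_g L13539) L15208
theorem L15217 : sm gd N1757 = N1649 := ded_33_1 (flp_h L14274) L12510 (flp_h L12044) (flp_d L13543) L15208
theorem L15219 : sm gi N1564 = N1758 := rfl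
theorem L15221 : sm ga N1758 = N1758 := ded_16_1 (flp_i L15219) L13549 L15219
theorem L15222 : sm gd N1758 = N1681 := ded_34_1 (flp_i L14528) (flp_d L13554) L15219
theorem L15224 : sm gf N1758 = N1565 := ded_41_1 (flp_i L13556) (flp_f L13550) L15219
theorem L15226 : sm gg N1758 = N1683 := ded_43_1 (flp_i L14544) (flp_g L13552) L15219
theorem L15228 : sm gh N1758 = N1579 := ded_44_1 (flp_i L13667) (flp_h L11972) (flp_i L11899) L13547 L15219
theorem L15230 : sm gb N1566 = N1759 := rfl
theorem L15232 : sm gd N1759 = N1759 := ded_18_2 (flp_b L15230) L13571 L15230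
theorem L15233 : sm ge N1759 = N1632 := ded_19_2 (flp_b L14153) (flp_e L13568) L15230
theorem L15235 : sm gg N1759 = N1759 := ded_21_2 (flp_b L15230) L13570 L15230
theorem L15236 : sm gc N1759 = N1759 := ded_17_2 (flp_b L15230) (flp_c L13564) L11913 L13564 L15230
theorem L15237 : sm gf N1566 = N1760 := rfl
theorem L15239 : sm ga N1760 = N1570 := ded_13_1 (flp_f L13600) (flp_a L13566) L15237
theorem L15241 : sm gc N1760 = N1567 := ded_26_1 (flp_f L13572) L13564 L15237
theorem L15243 : sm gd N1760 = N1760 := ded_31_1 (flp_f L15237) L13571 L15237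
theorem L15244 : sm gh N1566 = N1761 := rfl
theorem L15246 : sm ga N1761 = N1571 := ded_15_1 (flp_h L13605) (flp_a L13566) L15244
theorem L15248 : sm gc N1761 = N1568 := ded_28_1 (flp_h L13579) L13564 L15244
theorem L15250 : sm ge N1761 = N1634 := ded_37_1 (flp_h L14167) (flp_e L13568) L15244
theorem L15252 : sm gg N1761 = N1761 := ded_42_1 (flp_h L15244) L13570 L15244
theorem L15253 : sm ge N1567 = N1762 := rfl
theorem L15255 : sm ga N1762 = N1572 := ded_12_1 (flp_e L13612) (flp_a L13574) L15253
theorem L15257 : sm gb N1762 = N1762 := ded_19_1 (flp_e L15253) L13576 L15253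
theorem L15258 : sm gd N1762 = N1584 := ded_30_1 (flp_e L13729) L12070 (flp_e L11924) (flp_d L13577) L15253
theorem L15260 : sm gf N1762 = N1635 := ded_35_2 (flp_e L14174) (flp_f L12439) (flp_e L11915) L13572 L15253
theorem L15262 : sm gg N1567 = N1763 := rfl
theorem L15264 : sm ga N1763 = N1573 := ded_14_1 (flp_g L13620) (flp_a L13574) L15262
theorem L15266 : sm gb N1763 = N1763 := ded_21_1 (flp_g L15262) L13576 L15262
theorem L15267 : sm gd N1763 = N1569 := ded_32_1 (flp_g L13588) (flp_d L13577) L15262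
theorem L15269 : sm gi N1763 = N1684 := ded_43_2 L15151 L15149 L15262
theorem L15271 : sm gf N1763 = N1763 := ded_39_1 (flp_g L15262) (flp_f L13572) L11914 L13572 L15262
theorem L15272 : sm gh N1567 = N1764 := rfl
theorem L15274 : sm ga N1764 = N1574 := ded_15_1 (flp_h L13629) (flp_a L13574) L15272
theorem L15276 : sm gb N1764 = N1764 := ded_22_1 (flp_h L15272) L13576 L15272
theorem L15277 : sm gf N1764 = N1568 := ded_40_1 (flp_h L13579) L13572 L15272
theorem L15279 : sm gd N1764 = N1764 := ded_33_1 (flp_h L15272) L13577 L11923 (flp_d L13577) L15272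
theorem L15280 : sm gi N1568 = N1765 := rfl
theorem L15282 : sm ga N1765 = N1575 := ded_16_1 (flp_i L13636) (flp_a L13581) L15280
theorem L15284 : sm gb N1765 = N1765 := ded_23_1 (flp_i L15280) L13583 L15280
theorem L15285 : sm gd N1765 = N1765 := ded_34_1 (flp_i L15280) L13587 L15280
theorem L15286 : sm ge N1765 = N1638 := ded_38_1 (flp_i L14200) (flp_e L13584) L15280
theorem L15288 : sm gg N1765 = N1765 := ded_43_1 (flp_i L15280) L13586 L15280
theorem L15289 : sm ge N1570 = N1766 := rfl
theorem L15291 : sm gc N1766 = N1572 := ded_25_1 (flp_e L13612) (flp_c L13602) L15289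
theorem L15293 : sm gf N1766 = N1639 := ded_35_2 (flp_e L14208) (flp_f L12468) (flp_e L11928) L13600 L15289
theorem L15295 : sm gg N1570 = N1767 := rfl
theorem L15297 : sm gc N1767 = N1573 := ded_27_1 (flp_g L13620) (flp_c L13602) L15295
theorem L15299 : sm gd N1767 = N1767 := ded_32_1 (flp_g L15295) L13604 L15295
theorem L15300 : sm gi N1767 = N1685 := ded_43_2 L15168 L15166 L15295
theorem L15302 : sm gf N1767 = N1767 := ded_39_1 (flp_g L15295) (flp_f L13600) L11930 L13600 L15295
theorem L15303 : sm gh N1570 = N1768 := rfl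
theorem L15305 : sm gc N1768 = N1574 := ded_28_1 (flp_h L13629) (flp_c L13602) L15303
theorem L15307 : sm gf N1768 = N1571 := ded_40_1 (flp_h L13605) L13600 L15303
theorem L15309 : sm gd N1571 = N1769 := rfl
theorem L15311 : sm gg N1769 = N1769 := ded_32_2 (flp_d L15309) L13611 L15309
theorem L15312 : sm gc N1769 = N1769 := ded_24_1 (flp_d L15309) L13607 L11945 (flp_c L13607) L15309
theorem L15313 : sm gh N1769 = N1769 := ded_33_2 (flp_d L15309) (flp_h L13605) L11931 L13605 L15309
theorem L15314 : sm gi N1571 = N1770 := rfl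
theorem L15316 : sm gc N1770 = N1575 := ded_29_1 (flp_i L13636) (flp_c L13607) L15314
theorem L15318 : sm ge N1770 = N1643 := ded_38_1 (flp_i L14232) (flp_e L13609) L15314
theorem L15320 : sm gg N1770 = N1770 := ded_43_1 (flp_i L15314) L13611 L15314
theorem L15321 : sm gg N1572 = N1771 := rfl
theorem L15323 : sm gb N1771 = N1576 := ded_21_1 (flp_g L13644) (flp_b L13614) L15321
theorem L15325 : sm gd N1771 = N1588 := ded_32_1 (flp_g L13772) (flp_d L13616) L15321
theorem L15327 : sm ge N1771 = N1573 := ded_36_1 (flp_g L13620) L13612 L15321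
theorem L15329 : sm gi N1771 = N1660 := ded_43_2 (flp_g L15181) L15183 L15321
theorem L15331 : sm gh N1572 = N1772 := rfl
theorem L15333 : sm gb N1772 = N1577 := ded_22_1 (flp_h L13653) (flp_b L13614) L15331
theorem L15335 : sm ge N1772 = N1574 := ded_37_1 (flp_h L13629) L13612 L15331
theorem L15337 : sm gf N1772 = N1645 := ded_40_1 (flp_h L14245) (flp_f L13618) L15331
theorem L15339 : sm gh N1573 = N1773 := rfl
theorem L15341 : sm gb N1773 = N1578 := ded_22_1 (flp_h L13660) (flp_b L13622) L15339
theorem L15343 : sm gf N1773 = N1773 := ded_40_1 (flp_h L15339) L13628 L15339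
theorem L15344 : sm gg N1773 = N1574 := ded_42_1 (flp_h L13629) L13620 L15339
theorem L15346 : sm gd N1773 = N1773 := ded_33_1 (flp_h L15339) L13624 L11953 (flp_d L13624) L15339
theorem L15347 : sm gi N1574 = N1774 := rfl
theorem L15349 : sm gb N1774 = N1579 := ded_23_1 (flp_i L13667) (flp_b L13631) L15347
theorem L15351 : sm gd N1774 = N1774 := ded_34_1 (flp_i L15347) L13635 L15347
theorem L15352 : sm gf N1774 = N1575 := ded_41_1 (flp_i L13636) (flp_f L13633) L15347
theorem L15354 : sm gf N1576 = N1775 := rfl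
theorem L15356 : sm ga N1775 = N1775 := ded_13_1 (flp_f L15354) L13646 L15354
theorem L15357 : sm gd N1775 = N1591 := ded_31_1 (flp_f L13803) (flp_d L13647) L15354
theorem L15359 : sm gi N1775 = N1593 := ded_41_2 L13830 (flp_i L13651) L15354
theorem L15361 : sm ge N1775 = N1775 := ded_35_1 (flp_f L15354) L13649 L11971 (flp_e L13649) L15354
theorem L15362 : sm gg N1775 = N1648 := ded_39_2 (flp_f L14268) (flp_g L12507) (flp_f L11962) L13644 L15354
theorem L15364 : sm gh N1576 = N1776 := rfl
theorem L15366 : sm ga N1776 = N1776 := ded_15_1 (flp_h L15364) L13646 L15364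
theorem L15367 : sm ge N1776 = N1578 := ded_37_1 (flp_h L13660) (flp_e L13649) L15364
theorem L15369 : sm gg N1776 = N1577 := ded_42_1 (flp_h L13653) L13644 L15364
theorem L15371 : sm gd N1577 = N1777 := rfl
theorem L15373 : sm ga N1777 = N1777 := ded_11_1 (flp_d L15371) L13655 L15371
theorem L15374 : sm gf N1777 = N1650 := ded_31_2 (flp_d L14281) (flp_f L13658) L15371
theorem L15376 : sm ge N1777 = N1777 := ded_30_2 (flp_d L15371) L13656 L11977 (flp_e L13656) L15371
theorem L15377 : sm gh N1777 = N1593 := ded_33_2 (flp_d L13827) (flp_h L12164) (flp_d L11960) L13653 L15371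
theorem L15379 : sm gi N1577 = N1778 := rfl
theorem L15381 : sm ga N1778 = N1778 := ded_16_1 (flp_i L15379) L13655 L15379
theorem L15382 : sm ge N1778 = N1579 := ded_38_1 (flp_i L13667) (flp_e L13656) L15379
theorem L15384 : sm gf N1778 = N1651 := ded_41_1 (flp_i L14288) (flp_f L13658) L15379
theorem L15386 : sm gi N1578 = N1779 := rfl
theorem L15388 : sm ga N1779 = N1779 := ded_16_1 (flp_i L15386) L13662 L15386
theorem L15389 : sm gd N1779 = N1779 := ded_34_1 (flp_i L15386) L13666 L15386
theorem L15390 : sm gf N1779 = N1779 := ded_41_1 (flp_i L15386) L13663 L15386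
theorem L15391 : sm gg N1779 = N1579 := ded_43_1 (flp_i L13667) (flp_g L13664) L15386
theorem L15393 : sm gh N1779 = N1683 := ded_44_1 (flp_i L14544) L12777 (flp_i L11969) L13660 L15386
theorem L15395 : sm ge N1580 = N1780 := rfl
theorem L15397 : sm ga N1780 = N1582 := ded_12_1 (flp_e L13702) (flp_a L13675) L15395
theorem L15399 : sm gb N1780 = N1780 := ded_19_1 (flp_e L15395) L13677 L15395
theorem L15400 : sm gc N1780 = N1656 := ded_25_1 L14339 (flp_c L13678) L15395
theorem L15402 : sm gg N1780 = N1657 := ded_36_2 L14348 (flp_g L13686) L15395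
theorem L15404 : sm gh N1780 = N1654 := ded_37_2 (flp_e L14312) (flp_h L13682) L15395
theorem L15406 : sm gi N1780 = N1584 := ded_38_2 (flp_e L13729) (flp_i L13684) L15395
theorem L15408 : sm gf N1780 = N1653 := ded_35_2 (flp_e L14301) (flp_f L12534) (flp_e L11994) L13673 L15395
theorem L15410 : sm ge N1581 = N1781 := rfl
theorem L15412 : sm ga N1781 = N1656 := ded_12_1 L14339 (flp_a L13690) L15410
theorem L15414 : sm gb N1781 = N1781 := ded_19_1 (flp_e L15410) L13692 L15410
theorem L15415 : sm gc N1781 = N1582 := ded_25_1 (flp_e L13702) (flp_c L13693) L15410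
theorem L15417 : sm gg N1781 = N1659 := ded_36_2 L14360 (flp_g L13700) L15410
theorem L15419 : sm gh N1781 = N1653 := ded_37_2 (flp_e L14301) (flp_h L13696) L15410
theorem L15421 : sm gi N1781 = N1587 := ded_38_2 (flp_e L13765) (flp_i L13698) L15410
theorem L15423 : sm gf N1781 = N1654 := ded_35_2 (flp_e L14312) (flp_f L12547) (flp_e L12016) L13688 L15410
theorem L15425 : sm ge N1583 = N1782 := rfl
theorem L15427 : sm ga N1782 = N1587 := ded_12_1 (flp_e L13765) (flp_a L13716) L15425
theorem L15429 : sm gb N1782 = N1592 := ded_19_1 L13819 (flp_b L13718) L15425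
theorem L15431 : sm gc N1782 = N1584 := ded_25_1 (flp_e L13729) (flp_c L13720) L15425
theorem L15433 : sm gg N1782 = N1589 := ded_36_2 L13784 (flp_g L13727) L15425
theorem L15435 : sm gh N1782 = N1588 := ded_37_2 L13776 (flp_h L13723) L15425
theorem L15437 : sm gi N1782 = N1656 := ded_38_2 L14339 (flp_i L13725) L15425
theorem L15439 : sm gf N1782 = N1655 := ded_35_2 L14331 L12578 (flp_e L12054) L13714 L15425
theorem L15441 : sm gg N1584 = N1783 := rfl
theorem L15443 : sm ga N1783 = N1588 := ded_14_1 (flp_g L13772) (flp_a L13731) L15441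
theorem L15445 : sm gb N1783 = N1783 := ded_21_1 (flp_g L15441) L13733 L15441
theorem L15446 : sm gc N1783 = N1589 := ded_27_1 (flp_g L15433) L15431 L15441
theorem L15448 : sm ge N1783 = N1585 := ded_36_1 (flp_g L13736) L13729 L15441
theorem L15450 : sm gi N1783 = N1657 := ded_43_2 (flp_g L15402) L15406 L15441
theorem L15452 : sm gf N1783 = N1659 := ded_39_1 (flp_g L15417) L15423 L14319 (flp_f L13734) L15441
theorem L15454 : sm gh N1587 = N1783 := ded_15_0 L15443 (flp_h L15435) L15427
theorem L15456 : sm gh N1584 = N1784 := rfl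
theorem L15458 : sm ga N1784 = N1589 := ded_15_1 (flp_h L13780) (flp_a L13731) L15456
theorem L15460 : sm gb N1784 = N1784 := ded_22_1 (flp_h L15456) L13733 L15456
theorem L15461 : sm gc N1784 = N1588 := ded_28_1 (flp_h L15435) L15431 L15456
theorem L15463 : sm ge N1784 = N1586 := ded_37_1 (flp_h L13751) L13729 L15456
theorem L15465 : sm gf N1784 = N1657 := ded_40_1 (flp_h L14343) (flp_f L13734) L15456
theorem L15467 : sm gg N1784 = N1587 := ded_42_1 L15454 (flp_g L15441) L15456
theorem L15469 : sm gi N1784 = N1659 := ded_44_2 (flp_h L14355) (flp_i L14321) (flp_h L15404) L15406 L15456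
theorem L15471 : sm gd N1587 = N1785 := rfl
theorem L15473 : sm gb N1785 = N1785 := ded_18_1 (flp_d L15471) L13767 L15471
theorem L15474 : sm gf N1785 = N1658 := ded_31_2 (flp_d L14350) (flp_f L13770) L15471
theorem L15476 : sm ge N1785 = N1785 := ded_30_2 (flp_d L15471) (flp_e L13765) L12102 L13765 L15471
theorem L15477 : sm gf N1588 = N1786 := rfl
theorem L15479 : sm ga N1786 = N1659 := ded_13_1 (flp_f L15452) L15443 L15477
theorem L15481 : sm gb N1786 = N1591 := ded_20_1 (flp_f L13803) (flp_b L13774) L15477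
theorem L15483 : sm gc N1786 = N1657 := ded_26_1 (flp_f L15465) L15461 L15477
theorem L15485 : sm gh N1786 = N1655 := ded_40_2 (flp_f L15439) L15435 L15477
theorem L15487 : sm gi N1786 = N1589 := ded_41_2 L13786 (flp_i L13778) L15477
theorem L15489 : sm ge N1786 = N1590 := ded_35_1 L13797 L12150 (flp_f L12132) (flp_e L13776) L15477
theorem L15491 : sm gg N1786 = N1656 := ded_39_2 L14341 (flp_g L12630) (flp_f L12122) L13772 L15477
theorem L15493 : sm gd N1589 = N1787 := rfl
theorem L15495 : sm gb N1787 = N1593 := ded_18_1 (flp_d L13827) (flp_b L13782) L15493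
theorem L15497 : sm gf N1787 = N1660 := ded_31_2 (flp_d L14362) (flp_f L13786) L15493
theorem L15499 : sm ge N1787 = N1787 := ded_30_2 (flp_d L15493) L13784 L12140 (flp_e L13784) L15493
theorem L15500 : sm gd N1592 = N1788 := rfl
theorem L15502 : sm ga N1788 = N1788 := ded_11_1 (flp_d L15500) L13817 L15500
theorem L15503 : sm gf N1788 = N1628 := ded_31_2 L14127 (flp_f L13821) L15500
theorem L15505 : sm gg N1788 = N1593 := ded_32_2 (flp_d L13827) (flp_g L13823) L15500
theorem L15507 : sm gi N1788 = N1648 := ded_34_2 L14271 (flp_i L13825) L15500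
theorem L15509 : sm ge N1788 = N1788 := ded_30_2 (flp_d L15500) L13819 L12180 (flp_e L13819) L15500
theorem L15510 : sm gc N1593 = N1789 := rfl
theorem L15512 : sm ga N1789 = N1789 := ded_10_1 (flp_c L15510) L13829 L15510
theorem L15513 : sm ge N1789 = N1789 := ded_25_2 (flp_c L15510) L13832 L15510
theorem L15514 : sm gf N1789 = N1661 := ded_26_2 (flp_c L14368) (flp_f L13830) L15510
theorem L15516 : sm gd N1789 = N1789 := ded_24_2 (flp_c L15510) (flp_d L13827) L12167 L13827 L15510
theorem L15517 : sm ge N1594 = N1790 := rfl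
theorem L15519 : sm ga N1790 = N1790 := ded_12_1 (flp_e L15517) L13835 L15517
theorem L15520 : sm gb N1790 = N1662 := ded_19_1 (flp_e L14374) (flp_b L13836) L15517
theorem L15522 : sm gc N1790 = N1790 := ded_25_1 (flp_e L15517) L13838 L15517
theorem L15523 : sm gi N1790 = N1790 := ded_38_2 (flp_e L15517) L13841 L15517
theorem L15524 : sm gd N1790 = N1790 := ded_30_1 (flp_e L15517) L13839 L12213 (flp_d L13839) L15517
theorem L15525 : sm gf N1790 = N1790 := ded_35_2 (flp_e L15517) (flp_f L13833) L12202 L13833 L15517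
theorem L15526 : sm gg N1594 = N1791 := rfl
theorem L15528 : sm ga N1791 = N1791 := ded_14_1 (flp_g L15526) L13835 L15526
theorem L15529 : sm gb N1791 = N1663 := ded_21_1 (flp_g L14383) (flp_b L13836) L15526
theorem L15531 : sm gc N1791 = N1791 := ded_27_1 (flp_g L15526) L13838 L15526
theorem L15532 : sm gd N1791 = N1596 := ded_32_1 (flp_g L13852) (flp_d L13839) L15526
theorem L15534 : sm gi N1791 = N1791 := ded_43_2 (flp_g L15526) L13841 L15526
theorem L15535 : sm gf N1791 = N1791 := ded_39_1 (flp_g L15526) (flp_f L13833) L12199 L13833 L15526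
theorem L15536 : sm gh N1594 = N1792 := rfl
theorem L15538 : sm ga N1792 = N1792 := ded_15_1 (flp_h L15536) L13835 L15536
theorem L15539 : sm gb N1792 = N1664 := ded_22_1 (flp_h L14393) (flp_b L13836) L15536
theorem L15541 : sm gc N1792 = N1792 := ded_28_1 (flp_h L15536) L13838 L15536
theorem L15542 : sm gf N1792 = N1595 := ded_40_1 (flp_h L13842) L13833 L15536
theorem L15544 : sm gd N1792 = N1603 := ded_33_1 (flp_h L13926) L12252 (flp_h L12210) (flp_d L13839) L15536
theorem L15546 : sm gi N1595 = N1793 := rfl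
theorem L15548 : sm ga N1793 = N1793 := ded_16_1 (flp_i L15546) L13844 L15546
theorem L15549 : sm gb N1793 = N1665 := ded_23_1 (flp_i L14401) (flp_b L13845) L15546
theorem L15551 : sm gc N1793 = N1793 := ded_29_1 (flp_i L15546) L13847 L15546
theorem L15552 : sm gd N1793 = N1604 := ded_34_1 (flp_i L13933) (flp_d L13850) L15546
theorem L15554 : sm ge N1793 = N1793 := ded_38_1 (flp_i L15546) L13848 L15546
theorem L15555 : sm gg N1793 = N1793 := ded_43_1 (flp_i L15546) L13849 L15546
theorem L15556 : sm gh N1793 = N1793 := ded_44_1 (flp_i L15546) (flp_h L13842) L12200 L13842 L15546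
theorem L15557 : sm gf N1597 = N1794 := rfl
theorem L15559 : sm ga N1794 = N1709 := ded_13_1 L14797 (flp_a L13866) L15557
theorem L15561 : sm gb N1794 = N1622 := ded_20_1 (flp_f L14077) (flp_b L13871) L15557
theorem L15563 : sm gc N1794 = N1598 := ded_26_1 (flp_f L13875) L13864 L15557
theorem L15565 : sm gd N1794 = N1688 := ded_31_1 (flp_f L14574) (flp_d L13873) L15557
theorem L15567 : sm gi N1794 = N1609 := ded_41_2 (flp_f L13978) (flp_i L13869) L15557
theorem L15569 : sm gh N1597 = N1795 := rfl
theorem L15571 : sm ga N1795 = N1642 := ded_15_1 L14230 (flp_a L13866) L15569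
theorem L15573 : sm gb N1795 = N1623 := ded_22_1 (flp_h L14085) (flp_b L13871) L15569
theorem L15575 : sm gc N1795 = N1599 := ded_28_1 (flp_h L13885) L13864 L15569
theorem L15577 : sm gg N1795 = N1795 := ded_42_1 (flp_h L15569) L13868 L15569
theorem L15578 : sm gd N1795 = N1634 := ded_33_1 (flp_h L14167) L12437 (flp_h L12836) (flp_d L13873) L15569
theorem L15580 : sm ge N1598 = N1796 := rfl
theorem L15582 : sm ga N1796 = N1713 := ded_12_1 (flp_e L14818) (flp_a L13877) L15580
theorem L15584 : sm gb N1796 = N1601 := ded_19_1 (flp_e L13908) (flp_b L13879) L15580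
theorem L15586 : sm gi N1796 = N1611 := ded_38_2 (flp_e L13993) (flp_i L13883) L15580
theorem L15588 : sm gd N1796 = N1796 := ded_30_1 (flp_e L15580) L13881 L12246 (flp_d L13881) L15580
theorem L15589 : sm gg N1598 = N1797 := rfl
theorem L15591 : sm ga N1797 = N1712 := ded_14_1 L14816 (flp_a L13877) L15589
theorem L15593 : sm gb N1797 = N1602 := ded_21_1 (flp_g L13916) (flp_b L13879) L15589
theorem L15595 : sm gd N1797 = N1600 := ded_32_1 (flp_g L13894) (flp_d L13881) L15589
theorem L15597 : sm gi N1797 = N1612 := ded_43_2 (flp_g L13998) (flp_i L13883) L15589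
theorem L15599 : sm gf N1797 = N1797 := ded_39_1 (flp_g L15589) (flp_f L13875) L12231 L13875 L15589
theorem L15600 : sm gh N1598 = N1798 := rfl
theorem L15602 : sm ga N1798 = N1673 := ded_15_1 L14474 (flp_a L13877) L15600
theorem L15604 : sm gb N1798 = N1603 := ded_22_1 (flp_h L13926) (flp_b L13879) L15600
theorem L15606 : sm gf N1798 = N1599 := ded_40_1 (flp_h L13885) L13875 L15600
theorem L15608 : sm gd N1798 = N1664 := ded_33_1 (flp_h L14393) L12653 (flp_h L12242) (flp_d L13881) L15600
theorem L15610 : sm gi N1599 = N1799 := rfl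
theorem L15612 : sm ga N1799 = N1676 := ded_16_1 (flp_i L14491) (flp_a L13887) L15610
theorem L15614 : sm gb N1799 = N1604 := ded_23_1 (flp_i L13933) (flp_b L13889) L15610
theorem L15616 : sm gd N1799 = N1665 := ded_34_1 (flp_i L14401) (flp_d L13892) L15610
theorem L15618 : sm gg N1799 = N1799 := ded_43_1 (flp_i L15610) L13891 L15610
theorem L15619 : sm gh N1799 = N1614 := ded_44_1 (flp_i L14012) (flp_h L12303) (flp_i L12232) L13885 L15610
theorem L15621 : sm gg N1601 = N1800 := rfl
theorem L15623 : sm ga N1800 = N1800 := ded_14_1 (flp_g L15621) L13910 L15621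
theorem L15624 : sm gc N1800 = N1628 := ded_27_1 (flp_g L14124) (flp_c L13911) L15621
theorem L15626 : sm gd N1800 = N1800 := ded_32_1 (flp_g L15621) L13915 L15621
theorem L15627 : sm ge N1800 = N1602 := ded_36_1 (flp_g L13916) L13908 L15621
theorem L15629 : sm gi N1800 = N1615 := ded_43_2 (flp_g L14018) (flp_i L13913) L15621
theorem L15631 : sm gh N1601 = N1801 := rfl
theorem L15633 : sm ga N1801 = N1801 := ded_15_1 (flp_h L15631) L13910 L15631
theorem L15634 : sm gc N1801 = N1629 := ded_28_1 (flp_h L14133) (flp_c L13911) L15631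
theorem L15636 : sm ge N1801 = N1603 := ded_37_1 (flp_h L13926) L13908 L15631
theorem L15638 : sm gh N1602 = N1802 := rfl
theorem L15640 : sm ga N1802 = N1802 := ded_15_1 (flp_h L15638) L13918 L15638
theorem L15641 : sm gc N1802 = N1630 := ded_28_1 (flp_h L14138) (flp_c L13919) L15638
theorem L15643 : sm gf N1802 = N1802 := ded_40_1 (flp_h L15638) L13925 L15638
theorem L15644 : sm gg N1802 = N1603 := ded_42_1 (flp_h L13926) L13916 L15638
theorem L15646 : sm gi N1603 = N1803 := rfl
theorem L15648 : sm ga N1803 = N1803 := ded_16_1 (flp_i L15646) L13928 L15646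
theorem L15649 : sm gc N1803 = N1631 := ded_29_1 (flp_i L14145) (flp_c L13929) L15646
theorem L15651 : sm gf N1803 = N1604 := ded_41_1 (flp_i L13933) (flp_f L13931) L15646
theorem L15653 : sm gh N1803 = N1618 := ded_44_1 (flp_i L14042) (flp_h L12332) (flp_i L12254) L13926 L15646
theorem L15655 : sm gb N1605 = N1804 := rfl
theorem L15657 : sm gd N1804 = N1691 := ded_18_2 (flp_b L14615) (flp_d L13948) L15655
theorem L15659 : sm gg N1804 = N1804 := ded_21_2 (flp_b L15655) L13945 L15655
theorem L15660 : sm gi N1804 = N1700 := ded_23_2 L14715 (flp_i L13946) L15655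
theorem L15662 : sm ga N1804 = N1632 := ded_9_1 (flp_b L14153) L12434 (flp_b L12293) (flp_a L13943) L15655
theorem L15664 : sm gc N1804 = N1804 := ded_17_2 (flp_b L15655) (flp_c L13941) L12275 L13941 L15655
theorem L15665 : sm gf N1605 = N1805 := rfl
theorem L15667 : sm ga N1805 = N1609 := ded_13_1 (flp_f L13978) (flp_a L13943) L15665
theorem L15669 : sm gc N1805 = N1606 := ded_26_1 (flp_f L13950) L13941 L15665
theorem L15671 : sm gd N1805 = N1692 := ded_31_1 (flp_f L14627) (flp_d L13948) L15665
theorem L15673 : sm gi N1805 = N1709 := ded_41_2 L14797 (flp_i L13946) L15665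
theorem L15675 : sm gh N1605 = N1806 := rfl
theorem L15677 : sm ga N1806 = N1610 := ded_15_1 (flp_h L13986) (flp_a L13943) L15675
theorem L15679 : sm gc N1806 = N1607 := ded_28_1 (flp_h L13959) L13941 L15675
theorem L15681 : sm gg N1806 = N1806 := ded_42_1 (flp_h L15675) L13945 L15675
theorem L15682 : sm ge N1606 = N1807 := rfl
theorem L15684 : sm ga N1807 = N1611 := ded_12_1 (flp_e L13993) (flp_a L13952) L15682
theorem L15686 : sm gb N1807 = N1807 := ded_19_1 (flp_e L15682) L13954 L15682
theorem L15687 : sm gi N1807 = N1713 := ded_38_2 (flp_e L14818) (flp_i L13957) L15682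
theorem L15689 : sm gd N1807 = N1807 := ded_30_1 (flp_e L15682) L13955 L12289 (flp_d L13955) L15682
theorem L15690 : sm gg N1606 = N1808 := rfl
theorem L15692 : sm ga N1808 = N1612 := ded_14_1 (flp_g L13998) (flp_a L13952) L15690
theorem L15694 : sm gb N1808 = N1808 := ded_21_1 (flp_g L15690) L13954 L15690
theorem L15695 : sm gd N1808 = N1608 := ded_32_1 (flp_g L13966) (flp_d L13955) L15690
theorem L15697 : sm gi N1808 = N1712 := ded_43_2 L14816 (flp_i L13957) L15690
theorem L15699 : sm gf N1808 = N1808 := ded_39_1 (flp_g L15690) (flp_f L13950) L12276 L13950 L15690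
theorem L15700 : sm gh N1606 = N1809 := rfl
theorem L15702 : sm ga N1809 = N1613 := ded_15_1 (flp_h L14005) (flp_a L13952) L15700
theorem L15704 : sm gb N1809 = N1809 := ded_22_1 (flp_h L15700) L13954 L15700
theorem L15705 : sm gf N1809 = N1607 := ded_40_1 (flp_h L13959) L13950 L15700
theorem L15707 : sm gd N1809 = N1809 := ded_33_1 (flp_h L15700) L13955 L12286 (flp_d L13955) L15700
theorem L15708 : sm gi N1607 = N1810 := rfl
theorem L15710 : sm ga N1810 = N1614 := ded_16_1 (flp_i L14012) (flp_a L13961) L15708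
theorem L15712 : sm gb N1810 = N1810 := ded_23_1 (flp_i L15708) L13963 L15708
theorem L15713 : sm gd N1810 = N1810 := ded_34_1 (flp_i L15708) L13965 L15708
theorem L15714 : sm gg N1810 = N1810 := ded_43_1 (flp_i L15708) L13964 L15708
theorem L15715 : sm gh N1810 = N1676 := ded_44_1 (flp_i L14491) L12725 (flp_i L12277) L13959 L15708
theorem L15717 : sm ge N1609 = N1811 := rfl
theorem L15719 : sm gb N1811 = N1639 := ded_19_1 (flp_e L14208) (flp_b L13980) L15717
theorem L15721 : sm gc N1811 = N1611 := ded_25_1 (flp_e L13993) (flp_c L13982) L15717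
theorem L15723 : sm gg N1609 = N1812 := rfl
theorem L15725 : sm gb N1812 = N1640 := ded_21_1 (flp_g L14212) (flp_b L13980) L15723
theorem L15727 : sm gc N1812 = N1612 := ded_27_1 (flp_g L13998) (flp_c L13982) L15723
theorem L15729 : sm gd N1812 = N1698 := ded_32_1 (flp_g L14698) (flp_d L13984) L15723
theorem L15731 : sm gf N1812 = N1812 := ded_39_1 (flp_g L15723) (flp_f L13978) L12292 L13978 L15723
theorem L15732 : sm gh N1609 = N1813 := rfl
theorem L15734 : sm gb N1813 = N1641 := ded_22_1 (flp_h L14219) (flp_b L13980) L15732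
theorem L15736 : sm gc N1813 = N1613 := ded_28_1 (flp_h L14005) (flp_c L13982) L15732
theorem L15738 : sm gf N1813 = N1610 := ded_40_1 (flp_h L13986) L13978 L15732
theorem L15740 : sm gd N1610 = N1814 := rfl
theorem L15742 : sm gb N1814 = N1642 := ded_18_1 (flp_d L14225) (flp_b L13988) L15740
theorem L15744 : sm gg N1814 = N1814 := ded_32_2 (flp_d L15740) L13992 L15740
theorem L15745 : sm gc N1814 = N1814 := ded_24_1 (flp_d L15740) L13990 L12308 (flp_c L13990) L15740
theorem L15746 : sm gh N1814 = N1700 := ded_33_2 (flp_d L14713) (flp_h L12937) (flp_d L12295) L13986 L15740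
theorem L15748 : sm gi N1610 = N1815 := rfl
theorem L15750 : sm gb N1815 = N1643 := ded_23_1 (flp_i L14232) (flp_b L13988) L15748
theorem L15752 : sm gc N1815 = N1614 := ded_29_1 (flp_i L14012) (flp_c L13990) L15748
theorem L15754 : sm gg N1815 = N1815 := ded_43_1 (flp_i L15748) L13992 L15748
theorem L15755 : sm gg N1611 = N1816 := rfl
theorem L15757 : sm gb N1816 = N1615 := ded_21_1 (flp_g L14018) (flp_b L13995) L15755
theorem L15759 : sm gd N1816 = N1816 := ded_32_1 (flp_g L15755) L13997 L15755
theorem L15760 : sm ge N1816 = N1612 := ded_36_1 (flp_g L13998) L13993 L15755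
theorem L15762 : sm gh N1611 = N1817 := rfl
theorem L15764 : sm gb N1817 = N1616 := ded_22_1 (flp_h L14026) (flp_b L13995) L15762
theorem L15766 : sm ge N1817 = N1613 := ded_37_1 (flp_h L14005) L13993 L15762
theorem L15768 : sm gh N1612 = N1818 := rfl
theorem L15770 : sm gb N1818 = N1617 := ded_22_1 (flp_h L14033) (flp_b L14000) L15768
theorem L15772 : sm gf N1818 = N1818 := ded_40_1 (flp_h L15768) L14004 L15768
theorem L15773 : sm gg N1818 = N1613 := ded_42_1 (flp_h L14005) L13998 L15768
theorem L15775 : sm gd N1818 = N1818 := ded_33_1 (flp_h L15768) L14002 L12316 (flp_d L14002) L15768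
theorem L15776 : sm gi N1613 = N1819 := rfl
theorem L15778 : sm gb N1819 = N1618 := ded_23_1 (flp_i L14042) (flp_b L14007) L15776
theorem L15780 : sm gd N1819 = N1819 := ded_34_1 (flp_i L15776) L14011 L15776
theorem L15781 : sm gf N1819 = N1614 := ded_41_1 (flp_i L14012) (flp_f L14009) L15776
theorem L15783 : sm gf N1615 = N1820 := rfl
theorem L15785 : sm ga N1820 = N1820 := ded_13_1 (flp_f L15783) L14020 L15783
theorem L15786 : sm gc N1820 = N1648 := ded_26_1 (flp_f L14268) (flp_c L14021) L15783
theorem L15788 : sm gd N1820 = N1820 := ded_31_1 (flp_f L15783) L14023 L15783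
theorem L15789 : sm ge N1820 = N1820 := ded_35_1 (flp_f L15783) L14024 L12331 (flp_e L14024) L15783
theorem L15790 : sm gh N1615 = N1821 := rfl
theorem L15792 : sm ga N1821 = N1821 := ded_15_1 (flp_h L15790) L14020 L15790
theorem L15793 : sm gc N1821 = N1649 := ded_28_1 (flp_h L14274) (flp_c L14021) L15790
theorem L15795 : sm ge N1821 = N1617 := ded_37_1 (flp_h L14033) (flp_e L14024) L15790
theorem L15797 : sm gg N1821 = N1616 := ded_42_1 (flp_h L14026) L14018 L15790
theorem L15799 : sm gd N1616 = N1822 := rfl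
theorem L15801 : sm ga N1822 = N1822 := ded_11_1 (flp_d L15799) L14028 L15799
theorem L15802 : sm ge N1822 = N1822 := ded_30_2 (flp_d L15799) L14031 L12339 (flp_e L14031) L15799
theorem L15803 : sm gh N1822 = N1822 := ded_33_2 (flp_d L15799) (flp_h L14026) L12323 L14026 L15799
theorem L15804 : sm gi N1616 = N1823 := rfl
theorem L15806 : sm ga N1823 = N1823 := ded_16_1 (flp_i L15804) L14028 L15804
theorem L15807 : sm gc N1823 = N1651 := ded_29_1 (flp_i L14288) (flp_c L14029) L15804
theorem L15809 : sm ge N1823 = N1618 := ded_38_1 (flp_i L14042) (flp_e L14031) L15804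
theorem L15811 : sm gi N1617 = N1824 := rfl
theorem L15813 : sm ga N1824 = N1824 := ded_16_1 (flp_i L15811) L14035 L15811
theorem L15814 : sm gc N1824 = N1652 := ded_29_1 (flp_i L14293) (flp_c L14036) L15811
theorem L15816 : sm gd N1824 = N1824 := ded_34_1 (flp_i L15811) L14041 L15811
theorem L15817 : sm gf N1824 = N1824 := ded_41_1 (flp_i L15811) L14038 L15811
theorem L15818 : sm gg N1824 = N1618 := ded_43_1 (flp_i L14042) (flp_g L14039) L15811
theorem L15820 : sm gb N1619 = N1825 := rfl
theorem L15822 : sm gd N1825 = N1693 := ded_18_2 L14639 (flp_d L14057) L15820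
theorem L15824 : sm gg N1825 = N1825 := ded_21_2 (flp_b L15820) L14054 L15820
theorem L15825 : sm gi N1825 = N1632 := ded_23_2 (flp_b L14153) (flp_i L14055) L15820
theorem L15827 : sm ga N1825 = N1700 := ded_9_1 L14715 (flp_a L13866) L13871 (flp_a L14052) L15820
theorem L15829 : sm gc N1825 = N1825 := ded_17_2 (flp_b L15820) (flp_c L14050) L12351 L14050 L15820
theorem L15830 : sm gf N1619 = N1826 := rfl
theorem L15832 : sm ga N1826 = N1622 := ded_13_1 (flp_f L14077) (flp_a L14052) L15830
theorem L15834 : sm gc N1826 = N1620 := ded_26_1 (flp_f L14059) L14050 L15830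
theorem L15836 : sm gd N1826 = N1702 := ded_31_1 (flp_f L14734) (flp_d L14057) L15830
theorem L15838 : sm gi N1826 = N1633 := ded_41_2 (flp_f L14159) (flp_i L14055) L15830
theorem L15840 : sm gg N1706 = N1826 := ded_27_0 L15834 (flp_g L14068) (flp_c L14779)
theorem L15842 : sm gh N1619 = N1827 := rfl
theorem L15844 : sm ga N1827 = N1623 := ded_15_1 (flp_h L14085) (flp_a L14052) L15842
theorem L15846 : sm gc N1827 = N1621 := ded_28_1 (flp_h L14070) L14050 L15842
theorem L15848 : sm gg N1827 = N1827 := ded_42_1 (flp_h L15842) L14054 L15842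
theorem L15849 : sm ge N1620 = N1828 := rfl
theorem L15851 : sm ga N1828 = N1624 := ded_12_1 (flp_e L14090) (flp_a L14061) L15849
theorem L15853 : sm gb N1828 = N1828 := ded_19_1 (flp_e L15849) L14063 L15849
theorem L15854 : sm gg N1828 = N1658 := ded_36_2 L14353 L14068 L15849
theorem L15856 : sm gi N1828 = N1635 := ded_38_2 (flp_e L14174) (flp_i L14066) L15849
theorem L15858 : sm gd N1828 = N1653 := ded_30_1 (flp_e L14301) L12541 (flp_e L12365) (flp_d L14064) L15849
theorem L15860 : sm gh N1620 = N1829 := rfl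
theorem L15862 : sm ga N1829 = N1626 := ded_15_1 (flp_h L14109) (flp_a L14061) L15860
theorem L15864 : sm gb N1829 = N1829 := ded_22_1 (flp_h L15860) L14063 L15860
theorem L15865 : sm gf N1829 = N1621 := ded_40_1 (flp_h L14070) L14059 L15860
theorem L15867 : sm gg N1829 = N1711 := ded_42_1 (flp_h L14807) L14068 L15860
theorem L15869 : sm gd N1829 = N1829 := ded_33_1 (flp_h L15860) L14064 L12362 (flp_d L14064) L15860
theorem L15870 : sm gi N1621 = N1830 := rfl
theorem L15872 : sm ga N1830 = N1627 := ded_16_1 (flp_i L14116) (flp_a L14072) L15870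
theorem L15874 : sm gb N1830 = N1830 := ded_23_1 (flp_i L15870) L14074 L15870
theorem L15875 : sm gd N1830 = N1830 := ded_34_1 (flp_i L15870) L14076 L15870
theorem L15876 : sm gg N1830 = N1830 := ded_43_1 (flp_i L15870) L14075 L15870
theorem L15877 : sm gh N1830 = N1638 := ded_44_1 (flp_i L14200) (flp_h L12446) (flp_i L12353) L14070 L15870
theorem L15879 : sm ge N1622 = N1831 := rfl
theorem L15881 : sm gc N1831 = N1624 := ded_25_1 (flp_e L14090) (flp_c L14079) L15879
theorem L15883 : sm gi N1831 = N1639 := ded_38_2 (flp_e L14208) (flp_i L14083) L15879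
theorem L15885 : sm gg N1622 = N1832 := rfl
theorem L15887 : sm ga N1832 = N1706 := ded_14_1 L15840 L15832 L15885
theorem L15889 : sm gc N1832 = N1625 := ded_27_1 (flp_g L14098) (flp_c L14079) L15885
theorem L15891 : sm gd N1832 = N1704 := ded_32_1 (flp_g L14757) (flp_d L14081) L15885
theorem L15893 : sm gi N1832 = N1640 := ded_43_2 (flp_g L14212) (flp_i L14083) L15885
theorem L15895 : sm gf N1832 = N1832 := ded_39_1 (flp_g L15885) (flp_f L14077) L12371 L14077 L15885
theorem L15896 : sm gh N1622 = N1833 := rfl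
theorem L15898 : sm gc N1833 = N1626 := ded_28_1 (flp_h L14109) (flp_c L14079) L15896
theorem L15900 : sm gf N1833 = N1623 := ded_40_1 (flp_h L14085) L14077 L15896
theorem L15902 : sm gd N1623 = N1834 := rfl
theorem L15904 : sm gb N1834 = N1634 := ded_18_1 (flp_d L15578) L15573 L15902
theorem L15906 : sm gg N1834 = N1834 := ded_32_2 (flp_d L15902) L14089 L15902
theorem L15907 : sm gc N1834 = N1834 := ded_24_1 (flp_d L15902) L14087 L12389 (flp_c L14087) L15902
theorem L15908 : sm gh N1834 = N1632 := ded_33_2 L14155 (flp_h L13055) (flp_d L12374) L14085 L15902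
theorem L15910 : sm gi N1623 = N1835 := rfl
theorem L15912 : sm gc N1835 = N1627 := ded_29_1 (flp_i L14116) (flp_c L14087) L15910
theorem L15914 : sm gg N1835 = N1835 := ded_43_1 (flp_i L15910) L14089 L15910
theorem L15915 : sm gh N1835 = N1643 := ded_44_1 (flp_i L14232) (flp_h L12474) (flp_i L12372) L14085 L15910
theorem L15917 : sm gg N1624 = N1836 := rfl
theorem L15919 : sm ga N1836 = N1658 := ded_14_1 (flp_g L15854) L15851 L15917
theorem L15921 : sm gb N1836 = N1628 := ded_21_1 (flp_g L14124) (flp_b L14092) L15917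
theorem L15923 : sm gd N1836 = N1655 := ded_32_1 (flp_g L14323) (flp_d L14096) L15917
theorem L15925 : sm ge N1836 = N1625 := ded_36_1 (flp_g L14098) L14090 L15917
theorem L15927 : sm gi N1836 = N1644 := ded_43_2 (flp_g L14237) (flp_i L14094) L15917
theorem L15929 : sm gh N1624 = N1837 := rfl
theorem L15931 : sm gb N1837 = N1629 := ded_22_1 (flp_h L14133) (flp_b L14092) L15929
theorem L15933 : sm ge N1837 = N1626 := ded_37_1 (flp_h L14109) L14090 L15929
theorem L15935 : sm gh N1625 = N1838 := rfl
theorem L15937 : sm ga N1838 = N1711 := ded_15_1 (flp_h L14807) (flp_a L14100) L15935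
theorem L15939 : sm gb N1838 = N1630 := ded_22_1 (flp_h L14138) (flp_b L14102) L15935
theorem L15941 : sm gf N1838 = N1838 := ded_40_1 (flp_h L15935) L14108 L15935
theorem L15942 : sm gg N1838 = N1626 := ded_42_1 (flp_h L14109) L14098 L15935
theorem L15944 : sm gd N1838 = N1838 := ded_33_1 (flp_h L15935) L14104 L12400 (flp_d L14104) L15935
theorem L15945 : sm gi N1626 = N1839 := rfl
theorem L15947 : sm gb N1839 = N1631 := ded_23_1 (flp_i L14145) (flp_b L14111) L15945
theorem L15949 : sm gd N1839 = N1839 := ded_34_1 (flp_i L15945) L14115 L15945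
theorem L15950 : sm gf N1839 = N1627 := ded_41_1 (flp_i L14116) (flp_f L14113) L15945
theorem L15952 : sm gh N1839 = N1647 := ded_44_1 (flp_i L14260) (flp_h L12492) (flp_i L12382) L14109 L15945
theorem L15954 : sm gh N1628 = N1840 := rfl
theorem L15956 : sm ga N1840 = N1840 := ded_15_1 (flp_h L15954) L14126 L15954
theorem L15957 : sm ge N1840 = N1630 := ded_37_1 (flp_h L14138) (flp_e L14129) L15954
theorem L15959 : sm gg N1840 = N1629 := ded_42_1 (flp_h L14133) L14124 L15954
theorem L15961 : sm gd N1629 = N1841 := rfl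
theorem L15963 : sm ga N1841 = N1841 := ded_11_1 (flp_d L15961) L14135 L15961
theorem L15964 : sm gf N1841 = N1649 := ded_31_2 (flp_d L15217) L15213 L15961
theorem L15966 : sm ge N1841 = N1841 := ded_30_2 (flp_d L15961) L14136 L12424 (flp_e L14136) L15961
theorem L15967 : sm gh N1841 = N1648 := ded_33_2 L14271 (flp_h L12595) (flp_d L12409) L14133 L15961
theorem L15969 : sm gi N1629 = N1842 := rfl
theorem L15971 : sm ga N1842 = N1842 := ded_16_1 (flp_i L15969) L14135 L15969
theorem L15972 : sm ge N1842 = N1631 := ded_38_1 (flp_i L14145) (flp_e L14136) L15969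
theorem L15974 : sm gh N1842 = N1651 := ded_44_1 (flp_i L14288) (flp_h L12514) (flp_i L12407) L14133 L15969
theorem L15976 : sm gi N1630 = N1843 := rfl
theorem L15978 : sm ga N1843 = N1843 := ded_16_1 (flp_i L15976) L14140 L15976
theorem L15979 : sm gd N1843 = N1843 := ded_34_1 (flp_i L15976) L14144 L15976
theorem L15980 : sm gf N1843 = N1843 := ded_41_1 (flp_i L15976) L14141 L15976
theorem L15981 : sm gg N1843 = N1631 := ded_43_1 (flp_i L14145) (flp_g L14142) L15976
theorem L15983 : sm gh N1843 = N1652 := ded_44_1 (flp_i L14293) (flp_h L12519) (flp_i L12416) L14138 L15976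
theorem L15985 : sm gf N1632 = N1844 := rfl
theorem L15987 : sm gb N1844 = N1633 := ded_20_1 (flp_f L14159) L14153 L15985
theorem L15989 : sm gc N1844 = N1844 := ded_26_1 (flp_f L15985) L14158 L15985
theorem L15990 : sm gd N1844 = N1705 := ded_31_1 L14774 (flp_d L14155) L15985
theorem L15992 : sm ge N1633 = N1845 := rfl
theorem L15994 : sm ga N1845 = N1639 := ded_12_1 (flp_e L14208) (flp_a L14161) L15992
theorem L15996 : sm gc N1845 = N1635 := ded_25_1 (flp_e L14174) (flp_c L14163) L15992
theorem L15998 : sm gg N1633 = N1846 := rfl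
theorem L16000 : sm ga N1846 = N1640 := ded_14_1 (flp_g L14212) (flp_a L14161) L15998
theorem L16002 : sm gc N1846 = N1636 := ded_27_1 (flp_g L14181) (flp_c L14163) L15998
theorem L16004 : sm gd N1846 = N1703 := ded_32_1 (flp_g L14755) (flp_d L14165) L15998
theorem L16006 : sm gi N1846 = N1706 := ded_43_2 L15840 L15838 L15998
theorem L16008 : sm gf N1846 = N1846 := ded_39_1 (flp_g L15998) (flp_f L14159) L12436 L14159 L15998
theorem L16009 : sm gh N1633 = N1847 := rfl
theorem L16011 : sm ga N1847 = N1641 := ded_15_1 (flp_h L14219) (flp_a L14161) L16009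
theorem L16013 : sm gc N1847 = N1637 := ded_28_1 (flp_h L14191) (flp_c L14163) L16009
theorem L16015 : sm gf N1847 = N1634 := ded_40_1 (flp_h L14167) L14159 L16009
theorem L16017 : sm gi N1634 = N1848 := rfl
theorem L16019 : sm ga N1848 = N1643 := ded_16_1 (flp_i L14232) (flp_a L14169) L16017
theorem L16021 : sm gc N1848 = N1638 := ded_29_1 (flp_i L14200) (flp_c L14171) L16017
theorem L16023 : sm gg N1848 = N1848 := ded_43_1 (flp_i L16017) L14173 L16017
theorem L16024 : sm gg N1635 = N1849 := rfl
theorem L16026 : sm ga N1849 = N1644 := ded_14_1 (flp_g L14237) (flp_a L14176) L16024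
theorem L16028 : sm gb N1849 = N1849 := ded_21_1 (flp_g L16024) L14178 L16024
theorem L16029 : sm gd N1849 = N1654 := ded_32_1 L14319 (flp_d L14179) L16024
theorem L16031 : sm ge N1849 = N1636 := ded_36_1 (flp_g L14181) L14174 L16024
theorem L16033 : sm gi N1849 = N1658 := ded_43_2 (flp_g L15854) L15856 L16024
theorem L16035 : sm gh N1635 = N1850 := rfl
theorem L16037 : sm ga N1850 = N1645 := ded_15_1 (flp_h L14245) (flp_a L14176) L16035
theorem L16039 : sm gb N1850 = N1850 := ded_22_1 (flp_h L16035) L14178 L16035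
theorem L16040 : sm ge N1850 = N1637 := ded_37_1 (flp_h L14191) L14174 L16035
theorem L16042 : sm gh N1636 = N1851 := rfl
theorem L16044 : sm ga N1851 = N1646 := ded_15_1 (flp_h L14251) (flp_a L14183) L16042
theorem L16046 : sm gb N1851 = N1851 := ded_22_1 (flp_h L16042) L14185 L16042
theorem L16047 : sm gf N1851 = N1851 := ded_40_1 (flp_h L16042) L14190 L16042
theorem L16048 : sm gg N1851 = N1637 := ded_42_1 (flp_h L14191) L14181 L16042
theorem L16050 : sm gd N1851 = N1668 := ded_33_1 (flp_h L14428) L12678 (flp_h L12463) (flp_d L14186) L16042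
theorem L16052 : sm gi N1637 = N1852 := rfl
theorem L16054 : sm ga N1852 = N1647 := ded_16_1 (flp_i L14260) (flp_a L14193) L16052
theorem L16056 : sm gb N1852 = N1852 := ded_23_1 (flp_i L16052) L14195 L16052
theorem L16057 : sm gd N1852 = N1669 := ded_34_1 (flp_i L14436) (flp_d L14198) L16052
theorem L16059 : sm gf N1852 = N1638 := ded_41_1 (flp_i L14200) (flp_f L14196) L16052
theorem L16061 : sm gd N1639 = N1853 := rfl
theorem L16063 : sm gc N1853 = N1658 := ded_24_1 (flp_d L14350) L12620 (flp_d L12483) (flp_c L14210) L16061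
theorem L16065 : sm ge N1853 = N1706 := ded_30_2 (flp_d L14776) (flp_e L13102) (flp_d L12472) L14208 L16061
theorem L16067 : sm gg N1639 = N1854 := rfl
theorem L16069 : sm gc N1854 = N1644 := ded_27_1 (flp_g L14237) (flp_c L14210) L16067
theorem L16071 : sm ge N1854 = N1640 := ded_36_1 (flp_g L14212) L14208 L16067
theorem L16073 : sm gh N1639 = N1855 := rfl
theorem L16075 : sm gc N1855 = N1645 := ded_28_1 (flp_h L14245) (flp_c L14210) L16073
theorem L16077 : sm ge N1855 = N1641 := ded_37_1 (flp_h L14219) L14208 L16073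
theorem L16079 : sm gh N1640 = N1856 := rfl
theorem L16081 : sm gc N1856 = N1646 := ded_28_1 (flp_h L14251) (flp_c L14214) L16079
theorem L16083 : sm gf N1856 = N1856 := ded_40_1 (flp_h L16079) L14218 L16079
theorem L16084 : sm gg N1856 = N1641 := ded_42_1 (flp_h L14219) L14212 L16079
theorem L16086 : sm gd N1641 = N1857 := rfl
theorem L16088 : sm gf N1857 = N1642 := ded_31_2 (flp_d L14225) (flp_f L14223) L16086
theorem L16090 : sm gc N1857 = N1673 := ded_24_1 (flp_d L14469) L12717 (flp_d L12498) (flp_c L14221) L16086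
theorem L16092 : sm gh N1857 = N1709 := ded_33_2 (flp_d L14795) (flp_h L13112) (flp_d L12472) L14219 L16086
theorem L16094 : sm gi N1641 = N1858 := rfl
theorem L16096 : sm gc N1858 = N1647 := ded_29_1 (flp_i L14260) (flp_c L14221) L16094
theorem L16098 : sm gf N1858 = N1643 := ded_41_1 (flp_i L14232) (flp_f L14223) L16094
theorem L16100 : sm ge N1642 = N1859 := rfl
theorem L16102 : sm gc N1859 = N1675 := ded_25_1 (flp_e L14484) (flp_c L14228) L16100
theorem L16104 : sm gg N1859 = N1859 := ded_36_2 (flp_e L16100) L14227 L16100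
theorem L16105 : sm gh N1859 = N1710 := ded_37_2 (flp_e L14801) (flp_h L14230) L16100
theorem L16107 : sm gi N1642 = N1860 := rfl
theorem L16109 : sm gc N1860 = N1676 := ded_29_1 (flp_i L14491) (flp_c L14228) L16107
theorem L16111 : sm gd N1860 = N1643 := ded_34_1 (flp_i L14232) L14225 L16107
theorem L16113 : sm gg N1860 = N1860 := ded_43_1 (flp_i L16107) L14227 L16107
theorem L16114 : sm gf N1644 = N1861 := rfl
theorem L16116 : sm gb N1861 = N1648 := ded_20_1 (flp_f L14268) (flp_b L14239) L16114
theorem L16118 : sm gd N1861 = N1656 := ded_31_1 L14341 (flp_d L14241) L16114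
theorem L16120 : sm ge N1861 = N1861 := ded_35_1 (flp_f L16114) L14243 L12491 (flp_e L14243) L16114
theorem L16121 : sm gh N1644 = N1862 := rfl
theorem L16123 : sm gb N1862 = N1649 := ded_22_1 (flp_h L14274) (flp_b L14239) L16121
theorem L16125 : sm ge N1862 = N1646 := ded_37_1 (flp_h L14251) (flp_e L14243) L16121
theorem L16127 : sm gg N1862 = N1645 := ded_42_1 (flp_h L14245) L14237 L16121
theorem L16129 : sm gd N1645 = N1863 := rfl
theorem L16131 : sm gb N1863 = N1650 := ded_18_1 (flp_d L14281) (flp_b L14247) L16129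
theorem L16133 : sm ge N1863 = N1678 := ded_30_2 (flp_d L14505) L12748 (flp_d L12498) (flp_e L14249) L16129
theorem L16135 : sm gh N1863 = N1660 := ded_33_2 (flp_d L14362) (flp_h L12636) (flp_d L12483) L14245 L16129
theorem L16137 : sm gi N1645 = N1864 := rfl
theorem L16139 : sm gb N1864 = N1651 := ded_23_1 (flp_i L14288) (flp_b L14247) L16137
theorem L16141 : sm ge N1864 = N1647 := ded_38_1 (flp_i L14260) (flp_e L14249) L16137
theorem L16143 : sm gi N1646 = N1865 := rfl
theorem L16145 : sm gb N1865 = N1652 := ded_23_1 (flp_i L14293) (flp_b L14253) L16143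
theorem L16147 : sm gd N1865 = N1680 := ded_34_1 (flp_i L14520) (flp_d L14258) L16143
theorem L16149 : sm gf N1865 = N1865 := ded_41_1 (flp_i L16143) L14255 L16143
theorem L16150 : sm gg N1865 = N1647 := ded_43_1 (flp_i L14260) (flp_g L14256) L16143
theorem L16152 : sm gi N1649 = N1866 := rfl
theorem L16154 : sm ga N1866 = N1866 := ded_16_1 (flp_i L16152) L14276 L16152
theorem L16155 : sm ge N1866 = N1652 := ded_38_1 (flp_i L14293) (flp_e L14277) L16152
theorem L16157 : sm gg N1866 = N1651 := ded_43_1 (flp_i L14288) (flp_g L14279) L16152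
theorem L16159 : sm gc N1650 = N1867 := rfl
theorem L16161 : sm ga N1867 = N1867 := ded_10_1 (flp_c L16159) L14283 L16159
theorem L16162 : sm ge N1867 = N1682 := ded_25_2 (flp_c L14537) (flp_e L14284) L16159
theorem L16164 : sm gh N1867 = N1661 := ded_28_2 (flp_c L14368) (flp_h L14286) L16159
theorem L16166 : sm gi N1650 = N1868 := rfl
theorem L16168 : sm ga N1868 = N1868 := ded_16_1 (flp_i L16166) L14283 L16166
theorem L16169 : sm gd N1868 = N1651 := ded_34_1 (flp_i L14288) L14281 L16166
theorem L16171 : sm ge N1868 = N1683 := ded_38_1 (flp_i L14544) (flp_e L14284) L16166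
theorem L16173 : sm gd N1657 = N1869 := rfl
theorem L16175 : sm ga N1869 = N1660 := ded_11_1 (flp_d L14362) (flp_a L14345) L16173
theorem L16177 : sm gb N1869 = N1869 := ded_18_1 (flp_d L16173) L14347 L16173
theorem L16178 : sm ge N1869 = N1684 := ded_30_2 (flp_d L14550) L12810 (flp_d L12615) (flp_e L14348) L16173
theorem L16180 : sm gh N1658 = N1870 := rfl
theorem L16182 : sm gb N1870 = N1870 := ded_22_1 (flp_h L16180) L14352 L16180
theorem L16183 : sm ge N1870 = N1711 := ded_37_1 (flp_h L14807) (flp_e L14353) L16180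
theorem L16185 : sm gd N1659 = N1871 := rfl
theorem L16187 : sm gb N1871 = N1871 := ded_18_1 (flp_d L16185) L14357 L16185
theorem L16188 : sm ge N1871 = N1871 := ded_30_2 (flp_d L16185) L14360 L12629 (flp_e L14360) L16185
theorem L16189 : sm gc N1660 = N1872 := rfl
theorem L16191 : sm ge N1872 = N1685 := ded_25_2 (flp_c L14556) (flp_e L14366) L16189
theorem L16193 : sm gb N1661 = N1873 := rfl
theorem L16195 : sm gd N1873 = N1873 := ded_18_2 (flp_b L16193) L14373 L16193
theorem L16196 : sm ge N1873 = N1686 := ded_19_2 (flp_b L14560) (flp_e L14371) L16193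
theorem L16198 : sm gg N1662 = N1874 := rfl
theorem L16200 : sm ga N1874 = N1670 := ded_14_1 (flp_g L14444) (flp_a L14376) L16198
theorem L16202 : sm gc N1874 = N1666 := ded_27_1 (flp_g L14410) (flp_c L14378) L16198
theorem L16204 : sm gd N1874 = N1874 := ded_32_1 (flp_g L16198) L14381 L16198
theorem L16205 : sm ge N1874 = N1663 := ded_36_1 (flp_g L14383) L14374 L16198
theorem L16207 : sm gi N1874 = N1874 := ded_43_2 (flp_g L16198) L14380 L16198
theorem L16208 : sm gh N1662 = N1875 := rfl
theorem L16210 : sm ga N1875 = N1671 := ded_15_1 (flp_h L14453) (flp_a L14376) L16208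
theorem L16212 : sm gc N1875 = N1667 := ded_28_1 (flp_h L14420) (flp_c L14378) L16208
theorem L16214 : sm ge N1875 = N1664 := ded_37_1 (flp_h L14393) L14374 L16208
theorem L16216 : sm gf N1875 = N1875 := ded_40_1 (flp_h L16208) L14382 L16208
theorem L16217 : sm gh N1663 = N1876 := rfl
theorem L16219 : sm ga N1876 = N1672 := ded_15_1 (flp_h L14461) (flp_a L14385) L16217
theorem L16221 : sm gc N1876 = N1668 := ded_28_1 (flp_h L14428) (flp_c L14387) L16217
theorem L16223 : sm gf N1876 = N1876 := ded_40_1 (flp_h L16217) L14392 L16217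
theorem L16224 : sm gg N1876 = N1664 := ded_42_1 (flp_h L14393) L14383 L16217
theorem L16226 : sm gi N1664 = N1877 := rfl
theorem L16228 : sm ga N1877 = N1674 := ded_16_1 (flp_i L14476) (flp_a L14395) L16226
theorem L16230 : sm gc N1877 = N1669 := ded_29_1 (flp_i L14436) (flp_c L14397) L16226
theorem L16232 : sm gf N1877 = N1665 := ded_41_1 (flp_i L14401) (flp_f L14399) L16226
theorem L16234 : sm gh N1877 = N1877 := ded_44_1 (flp_i L16226) (flp_h L14393) L12655 L14393 L16226
theorem L16235 : sm gh N1666 = N1878 := rfl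
theorem L16237 : sm ga N1878 = N1677 := ded_15_1 (flp_h L14497) (flp_a L14412) L16235
theorem L16239 : sm gb N1878 = N1878 := ded_22_1 (flp_h L16235) L14414 L16235
theorem L16240 : sm ge N1878 = N1668 := ded_37_1 (flp_h L14428) (flp_e L14417) L16235
theorem L16242 : sm gg N1878 = N1667 := ded_42_1 (flp_h L14420) L14410 L16235
theorem L16244 : sm gd N1667 = N1879 := rfl
theorem L16246 : sm ga N1879 = N1678 := ded_11_1 (flp_d L14505) (flp_a L14422) L16244
theorem L16248 : sm gb N1879 = N1879 := ded_18_1 (flp_d L16244) L14424 L16244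
theorem L16249 : sm gf N1879 = N1879 := ded_31_2 (flp_d L16244) L14427 L16244
theorem L16250 : sm gh N1879 = N1684 := ded_33_2 (flp_d L14550) (flp_h L12804) (flp_d L12670) L14420 L16244
theorem L16252 : sm gi N1667 = N1880 := rfl
theorem L16254 : sm ga N1880 = N1679 := ded_16_1 (flp_i L14512) (flp_a L14422) L16252
theorem L16256 : sm gb N1880 = N1880 := ded_23_1 (flp_i L16252) L14424 L16252
theorem L16257 : sm ge N1880 = N1669 := ded_38_1 (flp_i L14436) (flp_e L14425) L16252
theorem L16259 : sm gf N1880 = N1880 := ded_41_1 (flp_i L16252) L14427 L16252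
theorem L16260 : sm gh N1880 = N1880 := ded_44_1 (flp_i L16252) (flp_h L14420) L12669 L14420 L16252
theorem L16261 : sm gi N1668 = N1881 := rfl
theorem L16263 : sm ga N1881 = N1680 := ded_16_1 (flp_i L14520) (flp_a L14430) L16261
theorem L16265 : sm gb N1881 = N1881 := ded_23_1 (flp_i L16261) L14432 L16261
theorem L16266 : sm gf N1881 = N1881 := ded_41_1 (flp_i L16261) L14433 L16261
theorem L16267 : sm gg N1881 = N1669 := ded_43_1 (flp_i L14436) (flp_g L14434) L16261
theorem L16269 : sm gh N1881 = N1881 := ded_44_1 (flp_i L16261) (flp_h L14428) L12680 L14428 L16261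
theorem L16270 : sm gh N1670 = N1882 := rfl
theorem L16272 : sm gb N1882 = N1882 := ded_22_1 (flp_h L16270) L14446 L16270
theorem L16273 : sm gc N1882 = N1677 := ded_28_1 (flp_h L14497) (flp_c L14447) L16270
theorem L16275 : sm ge N1882 = N1672 := ded_37_1 (flp_h L14461) (flp_e L14450) L16270
theorem L16277 : sm gg N1882 = N1671 := ded_42_1 (flp_h L14453) L14444 L16270
theorem L16279 : sm gd N1671 = N1883 := rfl
theorem L16281 : sm gb N1883 = N1883 := ded_18_1 (flp_d L16279) L14455 L16279
theorem L16282 : sm gf N1883 = N1883 := ded_31_2 (flp_d L16279) L14460 L16279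
theorem L16283 : sm gh N1883 = N1883 := ded_33_2 (flp_d L16279) (flp_h L14453) L12703 L14453 L16279
theorem L16284 : sm gi N1671 = N1884 := rfl
theorem L16286 : sm gb N1884 = N1884 := ded_23_1 (flp_i L16284) L14455 L16284
theorem L16287 : sm gc N1884 = N1679 := ded_29_1 (flp_i L14512) (flp_c L14456) L16284
theorem L16289 : sm ge N1884 = N1674 := ded_38_1 (flp_i L14476) (flp_e L14458) L16284
theorem L16291 : sm gf N1884 = N1884 := ded_41_1 (flp_i L16284) L14460 L16284
theorem L16292 : sm gh N1884 = N1884 := ded_44_1 (flp_i L16284) (flp_h L14453) L12702 L14453 L16284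
theorem L16293 : sm gd N1672 = N1885 := rfl
theorem L16295 : sm gb N1885 = N1885 := ded_18_1 (flp_d L16293) L14463 L16293
theorem L16296 : sm gf N1885 = N1885 := ded_31_2 (flp_d L16293) L14466 L16293
theorem L16297 : sm gg N1885 = N1673 := ded_32_2 (flp_d L14469) (flp_g L14467) L16293
theorem L16299 : sm gh N1885 = N1712 := ded_33_2 (flp_d L14812) (flp_h L13153) (flp_d L12710) L14461 L16293
theorem L16301 : sm gi N1672 = N1886 := rfl
theorem L16303 : sm gb N1886 = N1886 := ded_23_1 (flp_i L16301) L14463 L16301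
theorem L16304 : sm gc N1886 = N1680 := ded_29_1 (flp_i L14520) (flp_c L14464) L16301
theorem L16306 : sm gf N1886 = N1886 := ded_41_1 (flp_i L16301) L14466 L16301
theorem L16307 : sm gg N1886 = N1674 := ded_43_1 (flp_i L14476) (flp_g L14467) L16301
theorem L16309 : sm gh N1886 = N1886 := ded_44_1 (flp_i L16301) (flp_h L14461) L12712 L14461 L16301
theorem L16310 : sm ge N1673 = N1887 := rfl
theorem L16312 : sm gb N1887 = N1887 := ded_19_1 (flp_e L16310) L14471 L16310
theorem L16313 : sm gh N1887 = N1713 := ded_37_2 (flp_e L14818) (flp_h L14474) L16310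
theorem L16315 : sm gi N1673 = N1888 := rfl
theorem L16317 : sm gb N1888 = N1888 := ded_23_1 (flp_i L16315) L14471 L16315
theorem L16318 : sm gd N1888 = N1674 := ded_34_1 (flp_i L14476) L14469 L16315
theorem L16320 : sm gf N1888 = N1676 := ded_41_1 (flp_i L14491) (flp_f L14472) L16315
theorem L16322 : sm gf N1675 = N1889 := rfl
theorem L16324 : sm gb N1889 = N1889 := ded_20_1 (flp_f L16322) L14486 L16322
theorem L16325 : sm gd N1889 = N1889 := ded_31_1 (flp_f L16322) L14490 L16322
theorem L16326 : sm gh N1889 = N1714 := ded_40_2 (flp_f L14822) (flp_h L14488) L16322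
theorem L16328 : sm gi N1675 = N1890 := rfl
theorem L16330 : sm gb N1890 = N1890 := ded_23_1 (flp_i L16328) L14486 L16328
theorem L16331 : sm gd N1890 = N1890 := ded_34_1 (flp_i L16328) L14490 L16328
theorem L16332 : sm ge N1890 = N1676 := ded_38_1 (flp_i L14491) L14484 L16328
theorem L16334 : sm gg N1890 = N1890 := ded_43_1 (flp_i L16328) L14487 L16328
theorem L16335 : sm gi N1677 = N1891 := rfl
theorem L16337 : sm gb N1891 = N1681 := ded_23_1 (flp_i L14528) (flp_b L14499) L16335
theorem L16339 : sm ge N1891 = N1680 := ded_38_1 (flp_i L14520) (flp_e L14501) L16335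
theorem L16341 : sm gg N1891 = N1679 := ded_43_1 (flp_i L14512) (flp_g L14503) L16335
theorem L16343 : sm gh N1891 = N1891 := ded_44_1 (flp_i L16335) (flp_h L14497) L12743 L14497 L16335
theorem L16344 : sm gc N1678 = N1892 := rfl
theorem L16346 : sm gf N1892 = N1892 := ded_26_2 (flp_c L16344) L14509 L16344
theorem L16347 : sm gh N1892 = N1685 := ded_28_2 (flp_c L14556) (flp_h L14510) L16344
theorem L16349 : sm gi N1678 = N1893 := rfl
theorem L16351 : sm gb N1893 = N1683 := ded_23_1 (flp_i L14544) (flp_b L14507) L16349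
theorem L16353 : sm gd N1893 = N1679 := ded_34_1 (flp_i L14512) L14505 L16349
theorem L16355 : sm gf N1893 = N1893 := ded_41_1 (flp_i L16349) L14509 L16349
theorem L16356 : sm gb N1682 = N1894 := rfl
theorem L16358 : sm gd N1894 = N1894 := ded_18_2 (flp_b L16356) L14543 L16356
theorem L16359 : sm gf N1894 = N1894 := ded_20_2 (flp_b L16356) L14540 L16356
theorem L16360 : sm gh N1894 = N1686 := ded_22_2 (flp_b L14560) (flp_h L14541) L16356
theorem L16362 : sm gi N1682 = N1895 := rfl
theorem L16364 : sm ga N1895 = N1895 := ded_16_1 (flp_i L16362) L14539 L16362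
theorem L16365 : sm gc N1895 = N1683 := ded_29_1 (flp_i L14544) L14537 L16362
theorem L16367 : sm gd N1895 = N1895 := ded_34_1 (flp_i L16362) L14543 L16362
theorem L16368 : sm gf N1895 = N1895 := ded_41_1 (flp_i L16362) L14540 L16362
theorem L16369 : sm gc N1684 = N1896 := rfl
theorem L16371 : sm ga N1896 = N1685 := ded_10_1 (flp_c L14556) (flp_a L14552) L16369
theorem L16373 : sm gf N1896 = N1896 := ded_26_2 (flp_c L16369) L14555 L16369
theorem L16374 : sm gd N1896 = N1896 := ded_24_2 (flp_c L16369) (flp_d L14550) L12809 L14550 L16369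
theorem L16375 : sm gb N1685 = N1897 := rfl
theorem L16377 : sm gd N1897 = N1897 := ded_18_2 (flp_b L16375) L14559 L16375
theorem L16378 : sm gf N1897 = N1897 := ded_20_2 (flp_b L16375) L14558 L16375
theorem L16379 : sm gc N1897 = N1686 := ded_17_2 (flp_b L14560) (flp_c L12818) (flp_b L12815) L14556 L16375
theorem L16381 : sm ga N1686 = N1898 := rfl
theorem L16383 : sm gd N1898 = N1687 := ded_11_2 (flp_a L14565) (flp_d L14562) L16381
theorem L16385 : sm gf N1898 = N1898 := ded_13_2 (flp_a L16381) L14564 L16381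
theorem L16386 : sm gg N1898 = N1714 := ded_14_2 (flp_a L14923) (flp_g L14931) L16381
theorem L16388 : sm gb N1898 = N1898 := ded_9_2 (flp_a L16381) (flp_b L14560) L12820 L14560 L16381
theorem L16389 : sm ge N1688 = N1899 := rfl
theorem L16391 : sm ga N1899 = N1707 := ded_12_1 L14785 (flp_a L14576) L16389
theorem L16393 : sm gb N1899 = N1703 := ded_19_1 (flp_e L14746) (flp_b L14578) L16389
theorem L16395 : sm gc N1899 = N1689 := ded_25_1 (flp_e L14586) (flp_c L14580) L16389
theorem L16397 : sm gh N1899 = N1704 := ded_37_2 L14763 (flp_h L14582) L16389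
theorem L16399 : sm gi N1899 = N1697 := ded_38_2 (flp_e L14691) (flp_i L14584) L16389
theorem L16401 : sm gf N1899 = N1899 := ded_35_2 (flp_e L16389) (flp_f L14574) L12834 L14574 L16389
theorem L16402 : sm gg N1705 = N1899 := ded_21_0 L16393 (flp_g L14755) (flp_b L14770)
theorem L16404 : sm gg N1688 = N1900 := rfl
theorem L16406 : sm ga N1900 = N1708 := ded_14_1 L14793 (flp_a L14576) L16404
theorem L16408 : sm gb N1900 = N1704 := ded_21_1 (flp_g L14757) (flp_b L14578) L16404
theorem L16410 : sm gc N1900 = N1690 := ded_27_1 (flp_g L14600) (flp_c L14580) L16404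
theorem L16412 : sm ge N1900 = N1705 := ded_36_1 L16402 (flp_e L16389) L16404
theorem L16414 : sm gh N1900 = N1703 := ded_42_2 (flp_g L14755) (flp_h L14582) L16404
theorem L16416 : sm gi N1900 = N1698 := ded_43_2 (flp_g L14698) (flp_i L14584) L16404
theorem L16418 : sm gf N1900 = N1900 := ded_39_1 (flp_g L16404) (flp_f L14574) L12835 L14574 L16404
theorem L16419 : sm gf N1691 = N1901 := rfl
theorem L16421 : sm ga N1901 = N1705 := ded_13_1 L14774 (flp_a L14621) L16419
theorem L16423 : sm gb N1901 = N1692 := ded_20_1 (flp_f L14627) L14615 L16419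
theorem L16425 : sm gc N1901 = N1701 := ded_26_1 L14728 (flp_c L14623) L16419
theorem L16427 : sm gh N1901 = N1702 := ded_40_2 (flp_f L14734) L14625 L16419
theorem L16429 : sm gi N1901 = N1699 := ded_41_2 L14711 (flp_i L14619) L16419
theorem L16431 : sm ge N1708 = N1901 := ded_12_0 L16421 (flp_e L16412) L16406
theorem L16433 : sm gg N1707 = N1901 := ded_14_0 L16421 L16402 L16391
theorem L16435 : sm ge N1692 = N1902 := rfl
theorem L16437 : sm ga N1902 = N1697 := ded_12_1 (flp_e L14691) (flp_a L14629) L16435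
theorem L16439 : sm gb N1902 = N1708 := ded_19_1 L16431 L16423 L16435
theorem L16441 : sm gc N1902 = N1694 := ded_25_1 (flp_e L14647) (flp_c L14631) L16435
theorem L16443 : sm gi N1902 = N1707 := ded_38_2 L14785 (flp_i L14633) L16435
theorem L16445 : sm gf N1902 = N1902 := ded_35_2 (flp_e L16435) (flp_f L14627) L12895 L14627 L16435
theorem L16446 : sm gg N1699 = N1902 := ded_21_0 L16439 L14793 (flp_b L14707)
theorem L16448 : sm gh N1698 = N1902 := ded_22_0 L16439 (flp_h L14788) (flp_b L14700)
theorem L16450 : sm gg N1692 = N1903 := rfl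
theorem L16452 : sm ga N1903 = N1698 := ded_14_1 (flp_g L14698) (flp_a L14629) L16450
theorem L16454 : sm gb N1903 = N1707 := ded_21_1 L16433 L16423 L16450
theorem L16456 : sm gc N1903 = N1695 := ded_27_1 (flp_g L14661) (flp_c L14631) L16450
theorem L16458 : sm ge N1903 = N1699 := ded_36_1 L16446 (flp_e L16435) L16450
theorem L16460 : sm gi N1903 = N1708 := ded_43_2 L14793 (flp_i L14633) L16450
theorem L16462 : sm gf N1903 = N1903 := ded_39_1 (flp_g L16450) (flp_f L14627) L12896 L14627 L16450
theorem L16463 : sm gh N1697 = N1903 := ded_15_0 L16452 L16448 L16437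
theorem L16465 : sm gh N1692 = N1904 := rfl
theorem L16467 : sm ga N1904 = N1699 := ded_15_1 (flp_h L14705) (flp_a L14629) L16465
theorem L16469 : sm gb N1904 = N1702 := ded_22_1 (flp_h L16427) L16423 L16465
theorem L16471 : sm gc N1904 = N1696 := ded_28_1 (flp_h L14676) (flp_c L14631) L16465
theorem L16473 : sm ge N1904 = N1698 := ded_37_1 L16448 (flp_e L16435) L16465
theorem L16475 : sm gf N1904 = N1693 := ded_40_1 (flp_h L14635) L14627 L16465
theorem L16477 : sm gg N1904 = N1697 := ded_42_1 L16463 (flp_g L16450) L16465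
theorem L16479 : sm gi N1904 = N1705 := ded_44_2 (flp_h L14768) L13053 L13112 (flp_i L14633) L16465
theorem L16481 : sm gd N1697 = N1905 := rfl
theorem L16483 : sm gb N1905 = N1706 := ded_18_1 (flp_d L14776) (flp_b L14693) L16481
theorem L16485 : sm gf N1905 = N1905 := ded_31_2 (flp_d L16481) L14697 L16481
theorem L16486 : sm gc N1905 = N1905 := ded_24_1 (flp_d L16481) L14695 L12949 (flp_c L14695) L16481
theorem L16487 : sm gd N1699 = N1906 := rfl
theorem L16489 : sm gb N1906 = N1709 := ded_18_1 (flp_d L14795) (flp_b L14707) L16487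
theorem L16491 : sm gf N1906 = N1700 := ded_31_2 (flp_d L14713) (flp_f L14711) L16487
theorem L16493 : sm gc N1906 = N1906 := ded_24_1 (flp_d L16487) L14709 L12964 (flp_c L14709) L16487
theorem L16494 : sm ge N1700 = N1907 := rfl
theorem L16496 : sm gb N1907 = N1710 := ded_19_1 (flp_e L14801) (flp_b L14715) L16494
theorem L16498 : sm gc N1907 = N1907 := ded_25_1 (flp_e L16494) L14718 L16494
theorem L16499 : sm gg N1907 = N1907 := ded_36_2 (flp_e L16494) L14717 L16494
theorem L16500 : sm gd N1907 = N1907 := ded_30_1 (flp_e L16494) (flp_d L14713) L12943 L14713 L16494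
theorem L16501 : sm gh N1706 = N1908 := rfl
theorem L16503 : sm gc N1908 = N1711 := ded_28_1 (flp_h L14807) (flp_c L14779) L16501
theorem L16505 : sm gf N1908 = N1908 := ded_40_1 (flp_h L16501) L14778 L16501
theorem L16506 : sm gd N1707 = N1909 := rfl
theorem L16508 : sm gf N1909 = N1909 := ded_31_2 (flp_d L16506) L14787 L16506
theorem L16509 : sm gc N1909 = N1909 := ded_24_1 (flp_d L16506) L14783 L13130 (flp_c L14783) L16506
theorem L16510 : sm gd N1708 = N1910 := rfl
theorem L16512 : sm gf N1910 = N1910 := ded_31_2 (flp_d L16510) L14792 L16510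
theorem L16513 : sm gg N1910 = N1709 := ded_32_2 (flp_d L14795) (flp_g L14793) L16510
theorem L16515 : sm gc N1910 = N1712 := ded_24_1 (flp_d L14812) L13156 (flp_d L13138) (flp_c L14790) L16510
theorem L16517 : sm ge N1709 = N1911 := rfl
theorem L16519 : sm gc N1911 = N1713 := ded_25_1 (flp_e L14818) (flp_c L14799) L16517
theorem L16521 : sm gf N1710 = N1912 := rfl
theorem L16523 : sm gc N1912 = N1714 := ded_26_1 (flp_f L14822) (flp_c L14803) L16521
theorem L16525 : sm gd N1912 = N1912 := ded_31_1 (flp_f L16521) L14806 L16521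
theorem L16526 : sm gi N1711 = N1913 := rfl
theorem L16528 : sm gb N1913 = N1913 := ded_23_1 (flp_i L16526) L14809 L16526
theorem L16529 : sm gd N1913 = N1913 := ded_34_1 (flp_i L16526) L14811 L16526
theorem L16530 : sm gf N1913 = N1913 := ded_41_1 (flp_i L16526) L14810 L16526
theorem L16531 : sm ge N1712 = N1914 := rfl
theorem L16533 : sm gb N1914 = N1914 := ded_19_1 (flp_e L16531) L14814 L16531
theorem L16534 : sm gg N1914 = N1713 := ded_36_2 (flp_e L14818) (flp_g L14816) L16531
theorem L16536 : sm gd N1914 = N1914 := ded_30_1 (flp_e L16531) (flp_d L14812) L13158 L14812 L16531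
theorem L16537 : sm gf N1713 = N1915 := rfl
theorem L16539 : sm gb N1915 = N1915 := ded_20_1 (flp_f L16537) L14820 L16537
theorem L16540 : sm gd N1915 = N1915 := ded_31_1 (flp_f L16537) L14821 L16537
theorem L16541 : sm ge N1915 = N1714 := ded_35_1 (flp_f L14822) (flp_e L13167) (flp_f L13165) L14818 L16537
theorem L16543 : sm gc N1715 = N1916 := rfl
theorem L16545 : sm ga N1916 = N1717 := ded_10_1 (flp_c L14845) (flp_a L14829) L16543
theorem L16547 : sm ge N1916 = N1916 := ded_25_2 (flp_c L16543) L14834 L16543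
theorem L16548 : sm gg N1916 = N1916 := ded_27_2 (flp_c L16543) L14832 L16543
theorem L16549 : sm gi N1916 = N1916 := ded_29_2 (flp_c L16543) L14833 L16543
theorem L16550 : sm gd N1916 = N1916 := ded_24_2 (flp_c L16543) (flp_d L14827) L13284 L14827 L16543
theorem L16551 : sm gf N1715 = N1917 := rfl
theorem L16553 : sm ga N1917 = N1718 := ded_13_1 (flp_f L14852) (flp_a L14829) L16551
theorem L16555 : sm gb N1917 = N1917 := ded_20_1 (flp_f L16551) L14831 L16551
theorem L16556 : sm gd N1917 = N1716 := ded_31_1 (flp_f L14835) L14827 L16551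
theorem L16558 : sm gi N1917 = N1917 := ded_41_2 (flp_f L16551) L14833 L16551
theorem L16559 : sm gh N1715 = N1918 := rfl
theorem L16561 : sm ga N1918 = N1719 := ded_15_1 (flp_h L14859) (flp_a L14829) L16559
theorem L16563 : sm gb N1918 = N1918 := ded_22_1 (flp_h L16559) L14831 L16559
theorem L16564 : sm ge N1918 = N1918 := ded_37_1 (flp_h L16559) L14834 L16559
theorem L16565 : sm gg N1918 = N1918 := ded_42_1 (flp_h L16559) L14832 L16559
theorem L16566 : sm gd N1918 = N1733 := ded_33_1 (flp_h L14995) (flp_d L13374) (flp_h L13286) L14827 L16559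
theorem L16568 : sm gg N1716 = N1919 := rfl
theorem L16570 : sm ga N1919 = N1720 := ded_14_1 (flp_g L14867) (flp_a L14837) L16568
theorem L16572 : sm gb N1919 = N1919 := ded_21_1 (flp_g L16568) L14839 L16568
theorem L16573 : sm gc N1919 = N1919 := ded_27_1 (flp_g L16568) L14840 L16568
theorem L16574 : sm ge N1919 = N1919 := ded_36_1 (flp_g L16568) L14844 L16568
theorem L16575 : sm gh N1919 = N1734 := ded_42_2 (flp_g L15003) (flp_h L14841) L16568
theorem L16577 : sm gi N1919 = N1919 := ded_43_2 (flp_g L16568) L14843 L16568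
theorem L16578 : sm gf N1919 = N1919 := ded_39_1 (flp_g L16568) (flp_f L14835) L13285 L14835 L16568
theorem L16579 : sm gf N1717 = N1920 := rfl
theorem L16581 : sm gb N1920 = N1920 := ded_20_1 (flp_f L16579) L14850 L16579
theorem L16582 : sm gc N1920 = N1718 := ded_26_1 (flp_f L14852) L14845 L16579
theorem L16584 : sm gd N1920 = N1920 := ded_31_1 (flp_f L16579) L14851 L16579
theorem L16585 : sm gi N1920 = N1920 := ded_41_2 (flp_f L16579) L14849 L16579
theorem L16586 : sm gh N1717 = N1921 := rfl
theorem L16588 : sm gb N1921 = N1921 := ded_22_1 (flp_h L16586) L14850 L16586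
theorem L16589 : sm gc N1921 = N1719 := ded_28_1 (flp_h L14859) L14845 L16586
theorem L16591 : sm ge N1921 = N1921 := ded_37_1 (flp_h L16586) L14847 L16586
theorem L16592 : sm gg N1921 = N1921 := ded_42_1 (flp_h L16586) L14848 L16586
theorem L16593 : sm ge N1718 = N1922 := rfl
theorem L16595 : sm gb N1922 = N1721 := ded_19_1 (flp_e L14877) (flp_b L14854) L16593
theorem L16597 : sm gi N1922 = N1922 := ded_38_2 (flp_e L16593) L14858 L16593
theorem L16598 : sm gd N1922 = N1922 := ded_30_1 (flp_e L16593) L14856 L13304 (flp_d L14856) L16593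
theorem L16599 : sm gf N1922 = N1922 := ded_35_2 (flp_e L16593) (flp_f L14852) L13295 L14852 L16593
theorem L16600 : sm gg N1718 = N1923 := rfl
theorem L16602 : sm gb N1923 = N1722 := ded_21_1 (flp_g L14884) (flp_b L14854) L16600
theorem L16604 : sm gd N1923 = N1720 := ded_32_1 (flp_g L14867) (flp_d L14856) L16600
theorem L16606 : sm gi N1923 = N1923 := ded_43_2 (flp_g L16600) L14858 L16600
theorem L16607 : sm gf N1923 = N1923 := ded_39_1 (flp_g L16600) (flp_f L14852) L13293 L14852 L16600
theorem L16608 : sm gh N1718 = N1924 := rfl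
theorem L16610 : sm gb N1924 = N1723 := ded_22_1 (flp_h L14892) (flp_b L14854) L16608
theorem L16612 : sm gf N1924 = N1719 := ded_40_1 (flp_h L14859) L14852 L16608
theorem L16614 : sm gd N1924 = N1739 := ded_33_1 (flp_h L15045) L13405 (flp_h L13301) (flp_d L14856) L16608
theorem L16616 : sm gi N1719 = N1925 := rfl
theorem L16618 : sm gb N1925 = N1724 := ded_23_1 (flp_i L14900) (flp_b L14861) L16616
theorem L16620 : sm gd N1925 = N1740 := ded_34_1 (flp_i L15051) (flp_d L14865) L16616
theorem L16622 : sm ge N1925 = N1925 := ded_38_1 (flp_i L16616) L14863 L16616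
theorem L16623 : sm gg N1925 = N1925 := ded_43_1 (flp_i L16616) L14864 L16616
theorem L16624 : sm gh N1925 = N1925 := ded_44_1 (flp_i L16616) (flp_h L14859) L13294 L14859 L16616
theorem L16625 : sm gg N1721 = N1926 := rfl
theorem L16627 : sm ga N1926 = N1926 := ded_14_1 (flp_g L16625) L14879 L16625
theorem L16628 : sm gc N1926 = N1926 := ded_27_1 (flp_g L16625) L14880 L16625
theorem L16629 : sm gd N1926 = N1926 := ded_32_1 (flp_g L16625) L14882 L16625
theorem L16630 : sm ge N1926 = N1722 := ded_36_1 (flp_g L14884) L14877 L16625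
theorem L16632 : sm gi N1926 = N1926 := ded_43_2 (flp_g L16625) L14881 L16625
theorem L16633 : sm gh N1721 = N1927 := rfl
theorem L16635 : sm ga N1927 = N1927 := ded_15_1 (flp_h L16633) L14879 L16633
theorem L16636 : sm gc N1927 = N1927 := ded_28_1 (flp_h L16633) L14880 L16633
theorem L16637 : sm ge N1927 = N1723 := ded_37_1 (flp_h L14892) L14877 L16633
theorem L16639 : sm gf N1927 = N1927 := ded_40_1 (flp_h L16633) L14883 L16633
theorem L16640 : sm gh N1722 = N1928 := rfl
theorem L16642 : sm ga N1928 = N1928 := ded_15_1 (flp_h L16640) L14886 L16640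
theorem L16643 : sm gc N1928 = N1928 := ded_28_1 (flp_h L16640) L14887 L16640
theorem L16644 : sm gf N1928 = N1928 := ded_40_1 (flp_h L16640) L14891 L16640
theorem L16645 : sm gg N1928 = N1723 := ded_42_1 (flp_h L14892) L14884 L16640
theorem L16647 : sm gd N1928 = N1743 := ded_33_1 (flp_h L15077) L13436 (flp_h L13326) (flp_d L14888) L16640
theorem L16649 : sm gi N1723 = N1929 := rfl
theorem L16651 : sm ga N1929 = N1929 := ded_16_1 (flp_i L16649) L14894 L16649
theorem L16652 : sm gc N1929 = N1929 := ded_29_1 (flp_i L16649) L14895 L16649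
theorem L16653 : sm gd N1929 = N1744 := ded_34_1 (flp_i L15085) (flp_d L14898) L16649
theorem L16655 : sm gf N1929 = N1724 := ded_41_1 (flp_i L14900) (flp_f L14896) L16649
theorem L16657 : sm gh N1929 = N1929 := ded_44_1 (flp_i L16649) (flp_h L14892) L13311 L14892 L16649
theorem L16658 : sm gf N1725 = N1930 := rfl
theorem L16660 : sm ga N1930 = N1912 := ded_13_1 (flp_f L16521) (flp_a L14911) L16658
theorem L16662 : sm gb N1930 = N1752 := ded_20_1 (flp_f L15161) (flp_b L14918) L16658
theorem L16664 : sm gc N1930 = N1726 := ded_26_1 (flp_f L14921) L14909 L16658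
theorem L16666 : sm gd N1930 = N1930 := ded_31_1 (flp_f L16658) L14920 L16658
theorem L16667 : sm gi N1930 = N1735 := ded_41_2 (flp_f L15013) (flp_i L14916) L16658
theorem L16669 : sm gg N1897 = N1930 := ded_21_0 L16662 (flp_g L15168) L16375
theorem L16671 : sm gh N1725 = N1931 := rfl
theorem L16673 : sm ga N1931 = N1859 := ded_15_1 L16105 (flp_a L14911) L16671
theorem L16675 : sm gb N1931 = N1753 := ded_22_1 (flp_h L15170) (flp_b L14918) L16671
theorem L16677 : sm gc N1931 = N1727 := ded_28_1 (flp_h L14933) L14909 L16671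
theorem L16679 : sm ge N1931 = N1795 := ded_37_1 (flp_h L15569) (flp_e L14913) L16671
theorem L16681 : sm gg N1931 = N1931 := ded_42_1 (flp_h L16671) L14915 L16671
theorem L16682 : sm ge N1726 = N1932 := rfl
theorem L16684 : sm ga N1932 = N1915 := ded_12_1 L16541 (flp_a L14923) L16682
theorem L16686 : sm gb N1932 = N1728 := ded_19_1 (flp_e L14943) (flp_b L14925) L16682
theorem L16688 : sm gg N1932 = N1873 := ded_36_2 L16196 L14931 L16682
theorem L16690 : sm gi N1932 = N1737 := ded_38_2 (flp_e L15029) (flp_i L14929) L16682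
theorem L16692 : sm gd N1932 = N1932 := ded_30_1 (flp_e L16682) L14927 L13351 (flp_d L14927) L16682
theorem L16693 : sm gf N1932 = N1796 := ded_35_2 (flp_e L15580) (flp_f L13875) (flp_e L13339) L14921 L16682
theorem L16695 : sm gh N1726 = N1933 := rfl
theorem L16697 : sm ga N1933 = N1889 := ded_15_1 L16326 (flp_a L14923) L16695
theorem L16699 : sm gb N1933 = N1729 := ded_22_1 (flp_h L14955) (flp_b L14925) L16695
theorem L16701 : sm gf N1933 = N1727 := ded_40_1 (flp_h L14933) L14921 L16695
theorem L16703 : sm gg N1933 = N1894 := ded_42_1 L16360 L14931 L16695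
theorem L16705 : sm gd N1933 = N1933 := ded_33_1 (flp_h L16695) L14927 L13348 (flp_d L14927) L16695
theorem L16706 : sm gi N1727 = N1934 := rfl
theorem L16708 : sm ga N1934 = N1890 := ded_16_1 (flp_i L16328) (flp_a L14935) L16706
theorem L16710 : sm gb N1934 = N1730 := ded_23_1 (flp_i L14965) (flp_b L14937) L16706
theorem L16712 : sm gd N1934 = N1934 := ded_34_1 (flp_i L16706) L14942 L16706
theorem L16713 : sm ge N1934 = N1799 := ded_38_1 (flp_i L15610) (flp_e L14939) L16706
theorem L16715 : sm gg N1934 = N1934 := ded_43_1 (flp_i L16706) L14941 L16706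
theorem L16716 : sm gh N1934 = N1740 := ded_44_1 (flp_i L15051) (flp_h L13407) (flp_i L13337) L14933 L16706
theorem L16718 : sm gh N1728 = N1935 := rfl
theorem L16720 : sm ga N1935 = N1935 := ded_15_1 (flp_h L16718) L14945 L16718
theorem L16721 : sm gc N1935 = N1757 := ded_28_1 (flp_h L15208) (flp_c L14946) L16718
theorem L16723 : sm ge N1935 = N1729 := ded_37_1 (flp_h L14955) L14943 L16718
theorem L16725 : sm gf N1935 = N1801 := ded_40_1 (flp_h L15631) (flp_f L14953) L16718
theorem L16727 : sm gg N1935 = N1867 := ded_42_1 L16164 (flp_g L14948) L16718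
theorem L16729 : sm gi N1729 = N1936 := rfl
theorem L16731 : sm ga N1936 = N1936 := ded_16_1 (flp_i L16729) L14957 L16729
theorem L16732 : sm gc N1936 = N1758 := ded_29_1 (flp_i L15219) (flp_c L14958) L16729
theorem L16734 : sm gd N1936 = N1936 := ded_34_1 (flp_i L16729) L14964 L16729
theorem L16735 : sm gf N1936 = N1730 := ded_41_1 (flp_i L14965) (flp_f L14960) L16729
theorem L16737 : sm gg N1936 = N1895 := ded_43_1 (flp_i L16362) (flp_g L14962) L16729
theorem L16739 : sm gh N1936 = N1744 := ded_44_1 (flp_i L15085) (flp_h L13441) (flp_i L13361) L14955 L16729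
theorem L16741 : sm gb N1731 = N1937 := rfl
theorem L16743 : sm gd N1937 = N1937 := ded_18_2 (flp_b L16741) L14985 L16741
theorem L16744 : sm ge N1937 = N1804 := ded_19_2 (flp_b L15655) (flp_e L14980) L16741
theorem L16746 : sm gg N1937 = N1937 := ded_21_2 (flp_b L16741) L14982 L16741
theorem L16747 : sm gi N1937 = N1907 := ded_23_2 L16496 (flp_i L14983) L16741
theorem L16749 : sm ga N1937 = N1759 := ded_9_1 (flp_b L15230) L13566 (flp_b L13398) (flp_a L14978) L16741
theorem L16751 : sm gc N1937 = N1937 := ded_17_2 (flp_b L16741) (flp_c L14976) L13378 L14976 L16741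
theorem L16752 : sm gf N1731 = N1938 := rfl
theorem L16754 : sm ga N1938 = N1735 := ded_13_1 (flp_f L15013) (flp_a L14978) L16752
theorem L16756 : sm gc N1938 = N1732 := ded_26_1 (flp_f L14986) L14976 L16752
theorem L16758 : sm gd N1938 = N1938 := ded_31_1 (flp_f L16752) L14985 L16752
theorem L16759 : sm gi N1938 = N1912 := ded_41_2 (flp_f L16521) (flp_i L14983) L16752
theorem L16761 : sm gh N1731 = N1939 := rfl
theorem L16763 : sm ga N1939 = N1736 := ded_15_1 (flp_h L15020) (flp_a L14978) L16761
theorem L16765 : sm gc N1939 = N1733 := ded_28_1 (flp_h L14995) L14976 L16761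
theorem L16767 : sm ge N1939 = N1806 := ded_37_1 (flp_h L15675) (flp_e L14980) L16761
theorem L16769 : sm gg N1939 = N1939 := ded_42_1 (flp_h L16761) L14982 L16761
theorem L16770 : sm ge N1732 = N1940 := rfl
theorem L16772 : sm ga N1940 = N1737 := ded_12_1 (flp_e L15029) (flp_a L14988) L16770
theorem L16774 : sm gb N1940 = N1940 := ded_19_1 (flp_e L16770) L14990 L16770
theorem L16775 : sm gi N1940 = N1915 := ded_38_2 L16541 (flp_i L14993) L16770
theorem L16777 : sm gd N1940 = N1940 := ded_30_1 (flp_e L16770) L14991 L13392 (flp_d L14991) L16770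
theorem L16778 : sm gf N1940 = N1807 := ded_35_2 (flp_e L15682) (flp_f L13950) (flp_e L13382) L14986 L16770
theorem L16780 : sm gg N1732 = N1941 := rfl
theorem L16782 : sm ga N1941 = N1738 := ded_14_1 (flp_g L15036) (flp_a L14988) L16780
theorem L16784 : sm gb N1941 = N1941 := ded_21_1 (flp_g L16780) L14990 L16780
theorem L16785 : sm gd N1941 = N1734 := ded_32_1 (flp_g L15003) (flp_d L14991) L16780
theorem L16787 : sm gi N1941 = N1898 := ded_43_2 L16386 (flp_i L14993) L16780
theorem L16789 : sm gf N1941 = N1941 := ded_39_1 (flp_g L16780) (flp_f L14986) L13379 L14986 L16780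
theorem L16790 : sm gh N1732 = N1942 := rfl
theorem L16792 : sm ga N1942 = N1739 := ded_15_1 (flp_h L15045) (flp_a L14988) L16790
theorem L16794 : sm gb N1942 = N1942 := ded_22_1 (flp_h L16790) L14990 L16790
theorem L16795 : sm gf N1942 = N1733 := ded_40_1 (flp_h L14995) L14986 L16790
theorem L16797 : sm gi N1733 = N1943 := rfl
theorem L16799 : sm ga N1943 = N1740 := ded_16_1 (flp_i L15051) (flp_a L14997) L16797
theorem L16801 : sm gb N1943 = N1943 := ded_23_1 (flp_i L16797) L14999 L16797
theorem L16802 : sm ge N1943 = N1810 := ded_38_1 (flp_i L15708) (flp_e L15000) L16797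
theorem L16804 : sm gg N1943 = N1943 := ded_43_1 (flp_i L16797) L15002 L16797
theorem L16805 : sm gh N1943 = N1890 := ded_44_1 (flp_i L16328) L14488 (flp_i L13380) L14995 L16797
theorem L16807 : sm ge N1735 = N1944 := rfl
theorem L16809 : sm gb N1944 = N1766 := ded_19_1 (flp_e L15289) (flp_b L15015) L16807
theorem L16811 : sm gc N1944 = N1737 := ded_25_1 (flp_e L15029) (flp_c L15017) L16807
theorem L16813 : sm gf N1944 = N1811 := ded_35_2 (flp_e L15717) (flp_f L13978) (flp_e L13395) L15013 L16807
theorem L16815 : sm gg N1735 = N1945 := rfl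
theorem L16817 : sm gb N1945 = N1767 := ded_21_1 (flp_g L15295) (flp_b L15015) L16815
theorem L16819 : sm gc N1945 = N1738 := ded_27_1 (flp_g L15036) (flp_c L15017) L16815
theorem L16821 : sm gd N1945 = N1945 := ded_32_1 (flp_g L16815) L15019 L16815
theorem L16822 : sm gi N1945 = N1897 := ded_43_2 L16669 L16667 L16815
theorem L16824 : sm gf N1945 = N1945 := ded_39_1 (flp_g L16815) (flp_f L15013) L13397 L15013 L16815
theorem L16825 : sm gh N1735 = N1946 := rfl
theorem L16827 : sm gb N1946 = N1768 := ded_22_1 (flp_h L15303) (flp_b L15015) L16825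
theorem L16829 : sm gc N1946 = N1739 := ded_28_1 (flp_h L15045) (flp_c L15017) L16825
theorem L16831 : sm gf N1946 = N1736 := ded_40_1 (flp_h L15020) L15013 L16825
theorem L16833 : sm gd N1736 = N1947 := rfl
theorem L16835 : sm gb N1947 = N1769 := ded_18_1 (flp_d L15309) (flp_b L15022) L16833
theorem L16837 : sm gg N1947 = N1947 := ded_32_2 (flp_d L16833) L15028 L16833
theorem L16838 : sm gh N1947 = N1947 := ded_33_2 (flp_d L16833) (flp_h L15020) L13400 L15020 L16833
theorem L16839 : sm gi N1736 = N1948 := rfl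
theorem L16841 : sm gb N1948 = N1770 := ded_23_1 (flp_i L15314) (flp_b L15022) L16839
theorem L16843 : sm gc N1948 = N1740 := ded_29_1 (flp_i L15051) (flp_c L15024) L16839
theorem L16845 : sm ge N1948 = N1815 := ded_38_1 (flp_i L15748) (flp_e L15026) L16839
theorem L16847 : sm gg N1948 = N1948 := ded_43_1 (flp_i L16839) L15028 L16839
theorem L16848 : sm gg N1737 = N1949 := rfl
theorem L16850 : sm gb N1949 = N1741 := ded_21_1 (flp_g L15058) (flp_b L15031) L16848
theorem L16852 : sm gd N1949 = N1949 := ded_32_1 (flp_g L16848) L15033 L16848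
theorem L16853 : sm ge N1949 = N1738 := ded_36_1 (flp_g L15036) L15029 L16848
theorem L16855 : sm gi N1949 = N1873 := ded_43_2 (flp_g L16688) L16690 L16848
theorem L16857 : sm gh N1737 = N1950 := rfl
theorem L16859 : sm gb N1950 = N1742 := ded_22_1 (flp_h L15068) (flp_b L15031) L16857
theorem L16861 : sm ge N1950 = N1739 := ded_37_1 (flp_h L15045) L15029 L16857
theorem L16863 : sm gf N1950 = N1817 := ded_40_1 (flp_h L15762) (flp_f L15034) L16857
theorem L16865 : sm gh N1738 = N1951 := rfl
theorem L16867 : sm gb N1951 = N1743 := ded_22_1 (flp_h L15077) (flp_b L15038) L16865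
theorem L16869 : sm gf N1951 = N1951 := ded_40_1 (flp_h L16865) L15044 L16865
theorem L16870 : sm gg N1951 = N1739 := ded_42_1 (flp_h L15045) L15036 L16865
theorem L16872 : sm gi N1739 = N1952 := rfl
theorem L16874 : sm gb N1952 = N1744 := ded_23_1 (flp_i L15085) (flp_b L15047) L16872
theorem L16876 : sm gf N1952 = N1740 := ded_41_1 (flp_i L15051) (flp_f L15049) L16872
theorem L16878 : sm gf N1741 = N1953 := rfl
theorem L16880 : sm ga N1953 = N1953 := ded_13_1 (flp_f L16878) L15060 L16878
theorem L16881 : sm gc N1953 = N1775 := ded_26_1 (flp_f L15354) (flp_c L15061) L16878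
theorem L16883 : sm gd N1953 = N1953 := ded_31_1 (flp_f L16878) L15063 L16878
theorem L16884 : sm gi N1953 = N1789 := ded_41_2 L15514 (flp_i L15066) L16878
theorem L16886 : sm ge N1953 = N1953 := ded_35_1 (flp_f L16878) L15064 L13440 (flp_e L15064) L16878
theorem L16887 : sm gg N1953 = N1820 := ded_39_2 (flp_f L15783) (flp_g L14018) (flp_f L13429) L15058 L16878
theorem L16889 : sm gh N1741 = N1954 := rfl
theorem L16891 : sm ga N1954 = N1954 := ded_15_1 (flp_h L16889) L15060 L16889
theorem L16892 : sm gc N1954 = N1776 := ded_28_1 (flp_h L15364) (flp_c L15061) L16889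
theorem L16894 : sm ge N1954 = N1743 := ded_37_1 (flp_h L15077) (flp_e L15064) L16889
theorem L16896 : sm gg N1954 = N1742 := ded_42_1 (flp_h L15068) L15058 L16889
theorem L16898 : sm gd N1742 = N1955 := rfl
theorem L16900 : sm ga N1955 = N1955 := ded_11_1 (flp_d L16898) L15070 L16898
theorem L16901 : sm gf N1955 = N1822 := ded_31_2 (flp_d L15799) (flp_f L15075) L16898
theorem L16903 : sm gh N1955 = N1955 := ded_33_2 (flp_d L16898) (flp_h L15068) L13428 L15068 L16898
theorem L16904 : sm gi N1742 = N1956 := rfl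
theorem L16906 : sm ga N1956 = N1956 := ded_16_1 (flp_i L16904) L15070 L16904
theorem L16907 : sm gc N1956 = N1778 := ded_29_1 (flp_i L15379) (flp_c L15071) L16904
theorem L16909 : sm ge N1956 = N1744 := ded_38_1 (flp_i L15085) (flp_e L15073) L16904
theorem L16911 : sm gf N1956 = N1823 := ded_41_1 (flp_i L15804) (flp_f L15075) L16904
theorem L16913 : sm gi N1743 = N1957 := rfl
theorem L16915 : sm ga N1957 = N1957 := ded_16_1 (flp_i L16913) L15079 L16913
theorem L16916 : sm gc N1957 = N1779 := ded_29_1 (flp_i L15386) (flp_c L15080) L16913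
theorem L16918 : sm gf N1957 = N1957 := ded_41_1 (flp_i L16913) L15082 L16913
theorem L16919 : sm gg N1957 = N1744 := ded_43_1 (flp_i L15085) (flp_g L15083) L16913
theorem L16921 : sm gh N1957 = N1895 := ded_44_1 (flp_i L16362) L14541 (flp_i L13438) L15077 L16913
theorem L16923 : sm gc N1745 = N1958 := rfl
theorem L16925 : sm ga N1958 = N1746 := ded_10_1 (flp_c L15102) (flp_a L15094) L16923
theorem L16927 : sm ge N1958 = N1958 := ded_25_2 (flp_c L16923) L15101 L16923
theorem L16928 : sm gf N1958 = N1874 := ded_26_2 L16202 (flp_f L15097) L16923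
theorem L16930 : sm gg N1958 = N1958 := ded_27_2 (flp_c L16923) L15099 L16923
theorem L16931 : sm gi N1958 = N1958 := ded_29_2 (flp_c L16923) L15100 L16923
theorem L16932 : sm gd N1958 = N1958 := ded_24_2 (flp_c L16923) (flp_d L15092) L13461 L15092 L16923
theorem L16933 : sm gh N1745 = N1959 := rfl
theorem L16935 : sm ga N1959 = N1747 := ded_15_1 (flp_h L15111) (flp_a L15094) L16933
theorem L16937 : sm gb N1959 = N1959 := ded_22_1 (flp_h L16933) L15096 L16933
theorem L16938 : sm ge N1959 = N1959 := ded_37_1 (flp_h L16933) L15101 L16933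
theorem L16939 : sm gf N1959 = N1878 := ded_40_1 (flp_h L16235) (flp_f L15097) L16933
theorem L16941 : sm gg N1959 = N1959 := ded_42_1 (flp_h L16933) L15099 L16933
theorem L16942 : sm gd N1959 = N1751 := ded_33_1 (flp_h L15153) (flp_d L13487) (flp_h L13463) L15092 L16933
theorem L16944 : sm gh N1746 = N1960 := rfl
theorem L16946 : sm gb N1960 = N1960 := ded_22_1 (flp_h L16944) L15109 L16944
theorem L16947 : sm gc N1960 = N1747 := ded_28_1 (flp_h L15111) L15102 L16944
theorem L16949 : sm ge N1960 = N1960 := ded_37_1 (flp_h L16944) L15104 L16944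
theorem L16950 : sm gf N1960 = N1882 := ded_40_1 (flp_h L16270) (flp_f L15105) L16944
theorem L16952 : sm gg N1960 = N1960 := ded_42_1 (flp_h L16944) L15107 L16944
theorem L16953 : sm gi N1747 = N1961 := rfl
theorem L16955 : sm gb N1961 = N1748 := ded_23_1 (flp_i L15121) (flp_b L15113) L16953
theorem L16957 : sm gd N1961 = N1756 := ded_34_1 (flp_i L15199) (flp_d L15119) L16953
theorem L16959 : sm ge N1961 = N1961 := ded_38_1 (flp_i L16953) L15115 L16953
theorem L16960 : sm gf N1961 = N1891 := ded_41_1 (flp_i L16335) (flp_f L15116) L16953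
theorem L16962 : sm gg N1961 = N1961 := ded_43_1 (flp_i L16953) L15118 L16953
theorem L16963 : sm gh N1961 = N1961 := ded_44_1 (flp_i L16953) (flp_h L15111) L13475 L15111 L16953
theorem L16964 : sm gb N1749 = N1962 := rfl
theorem L16966 : sm gd N1962 = N1962 := ded_18_2 (flp_b L16964) L15141 L16964
theorem L16967 : sm ge N1962 = N1825 := ded_19_2 (flp_b L15820) (flp_e L15136) L16964
theorem L16969 : sm gg N1962 = N1962 := ded_21_2 (flp_b L16964) L15138 L16964
theorem L16970 : sm gi N1962 = N1759 := ded_23_2 (flp_b L15230) (flp_i L15139) L16964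
theorem L16972 : sm ga N1962 = N1907 := ded_9_1 L16496 (flp_a L14911) L14918 (flp_a L15134) L16964
theorem L16974 : sm gc N1962 = N1962 := ded_17_2 (flp_b L16964) (flp_c L15132) L13491 L15132 L16964
theorem L16975 : sm gf N1749 = N1963 := rfl
theorem L16977 : sm ga N1963 = N1752 := ded_13_1 (flp_f L15161) (flp_a L15134) L16975
theorem L16979 : sm gc N1963 = N1750 := ded_26_1 (flp_f L15142) L15132 L16975
theorem L16981 : sm gd N1963 = N1963 := ded_31_1 (flp_f L16975) L15141 L16975
theorem L16982 : sm gi N1963 = N1760 := ded_41_2 (flp_f L15237) (flp_i L15139) L16975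
theorem L16984 : sm gg N1896 = N1963 := ded_14_0 L16977 (flp_g L15168) (flp_a L16371)
theorem L16986 : sm gh N1749 = N1964 := rfl
theorem L16988 : sm ga N1964 = N1753 := ded_15_1 (flp_h L15170) (flp_a L15134) L16986
theorem L16990 : sm gc N1964 = N1751 := ded_28_1 (flp_h L15153) L15132 L16986
theorem L16992 : sm ge N1964 = N1827 := ded_37_1 (flp_h L15842) (flp_e L15136) L16986
theorem L16994 : sm gg N1964 = N1964 := ded_42_1 (flp_h L16986) L15138 L16986
theorem L16995 : sm ge N1750 = N1965 := rfl
theorem L16997 : sm ga N1965 = N1754 := ded_12_1 (flp_e L15177) (flp_a L15144) L16995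
theorem L16999 : sm gb N1965 = N1965 := ded_19_1 (flp_e L16995) L15146 L16995
theorem L17000 : sm gg N1965 = N1869 := ded_36_2 L16178 L15151 L16995
theorem L17002 : sm gi N1965 = N1762 := ded_38_2 (flp_e L15253) (flp_i L15149) L16995
theorem L17004 : sm gd N1965 = N1780 := ded_30_1 (flp_e L15395) L13680 (flp_e L13507) (flp_d L15147) L16995
theorem L17006 : sm gf N1965 = N1828 := ded_35_2 (flp_e L15849) (flp_f L14059) (flp_e L13495) L15142 L16995
theorem L17008 : sm gh N1750 = N1966 := rfl
theorem L17010 : sm ga N1966 = N1755 := ded_15_1 (flp_h L15189) (flp_a L15144) L17008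
theorem L17012 : sm gb N1966 = N1966 := ded_22_1 (flp_h L17008) L15146 L17008
theorem L17013 : sm gf N1966 = N1751 := ded_40_1 (flp_h L15153) L15142 L17008
theorem L17015 : sm gg N1966 = N1879 := ded_42_1 L16250 L15151 L17008
theorem L17017 : sm gd N1966 = N1878 := ded_33_1 (flp_h L16235) L14415 (flp_h L13503) (flp_d L15147) L17008
theorem L17019 : sm gi N1751 = N1967 := rfl
theorem L17021 : sm ga N1967 = N1756 := ded_16_1 (flp_i L15199) (flp_a L15155) L17019
theorem L17023 : sm gb N1967 = N1967 := ded_23_1 (flp_i L17019) L15157 L17019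
theorem L17024 : sm ge N1967 = N1830 := ded_38_1 (flp_i L15870) (flp_e L15158) L17019
theorem L17026 : sm gg N1967 = N1967 := ded_43_1 (flp_i L17019) L15160 L17019
theorem L17027 : sm gh N1967 = N1765 := ded_44_1 (flp_i L15280) (flp_h L13579) (flp_i L13493) L15153 L17019
theorem L17029 : sm ge N1752 = N1968 := rfl
theorem L17031 : sm gc N1968 = N1754 := ded_25_1 (flp_e L15177) (flp_c L15163) L17029
theorem L17033 : sm gg N1968 = N1872 := ded_36_2 L16191 L15168 L17029
theorem L17035 : sm gi N1968 = N1766 := ded_38_2 (flp_e L15289) (flp_i L15166) L17029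
theorem L17037 : sm gf N1968 = N1831 := ded_35_2 (flp_e L15879) (flp_f L14077) (flp_e L13513) L15161 L17029
theorem L17039 : sm gh N1752 = N1969 := rfl
theorem L17041 : sm gc N1969 = N1755 := ded_28_1 (flp_h L15189) (flp_c L15163) L17039
theorem L17043 : sm gf N1969 = N1753 := ded_40_1 (flp_h L15170) L15161 L17039
theorem L17045 : sm gg N1969 = N1892 := ded_42_1 L16347 L15168 L17039
theorem L17047 : sm gd N1753 = N1970 := rfl
theorem L17049 : sm gg N1970 = N1970 := ded_32_2 (flp_d L17047) L15176 L17047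
theorem L17050 : sm gh N1970 = N1970 := ded_33_2 (flp_d L17047) (flp_h L15170) L13518 L15170 L17047
theorem L17051 : sm gi N1753 = N1971 := rfl
theorem L17053 : sm gc N1971 = N1756 := ded_29_1 (flp_i L15199) (flp_c L15172) L17051
theorem L17055 : sm ge N1971 = N1835 := ded_38_1 (flp_i L15910) (flp_e L15174) L17051
theorem L17057 : sm gg N1971 = N1971 := ded_43_1 (flp_i L17051) L15176 L17051
theorem L17058 : sm gh N1971 = N1770 := ded_44_1 (flp_i L15314) (flp_h L13605) (flp_i L13516) L15170 L17051
theorem L17060 : sm gh N1754 = N1972 := rfl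
theorem L17062 : sm gb N1972 = N1757 := ded_22_1 (flp_h L15208) (flp_b L15179) L17060
theorem L17064 : sm ge N1972 = N1755 := ded_37_1 (flp_h L15189) L15177 L17060
theorem L17066 : sm gf N1972 = N1837 := ded_40_1 (flp_h L15929) (flp_f L15187) L17060
theorem L17068 : sm gg N1972 = N1863 := ded_42_1 L16135 (flp_g L15181) L17060
theorem L17070 : sm gd N1972 = N1862 := ded_33_1 (flp_h L16121) L14241 (flp_h L13708) (flp_d L15185) L17060
theorem L17072 : sm gi N1755 = N1973 := rfl
theorem L17074 : sm gb N1973 = N1758 := ded_23_1 (flp_i L15219) (flp_b L15191) L17072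
theorem L17076 : sm gd N1973 = N1891 := ded_34_1 (flp_i L16335) (flp_d L15197) L17072
theorem L17078 : sm gf N1973 = N1756 := ded_41_1 (flp_i L15199) (flp_f L15193) L17072
theorem L17080 : sm gg N1973 = N1893 := ded_43_1 (flp_i L16349) (flp_g L15195) L17072
theorem L17082 : sm gh N1973 = N1774 := ded_44_1 (flp_i L15347) (flp_h L13629) (flp_i L13525) L15189 L17072
theorem L17084 : sm gi N1757 = N1974 := rfl
theorem L17086 : sm ga N1974 = N1974 := ded_16_1 (flp_i L17084) L15210 L17084
theorem L17087 : sm gd N1974 = N1866 := ded_34_1 (flp_i L16152) (flp_d L15217) L17084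
theorem L17089 : sm ge N1974 = N1758 := ded_38_1 (flp_i L15219) (flp_e L15211) L17084
theorem L17091 : sm gf N1974 = N1842 := ded_41_1 (flp_i L15969) (flp_f L15213) L17084
theorem L17093 : sm gg N1974 = N1868 := ded_43_1 (flp_i L16166) (flp_g L15215) L17084
theorem L17095 : sm gh N1974 = N1778 := ded_44_1 (flp_i L15379) (flp_h L13653) (flp_i L13541) L15208 L17084
theorem L17097 : sm gf N1759 = N1975 := rfl
theorem L17099 : sm gb N1975 = N1760 := ded_20_1 (flp_f L15237) L15230 L17097
theorem L17101 : sm gc N1975 = N1975 := ded_26_1 (flp_f L17097) L15236 L17097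
theorem L17102 : sm gd N1975 = N1975 := ded_31_1 (flp_f L17097) L15232 L17097
theorem L17103 : sm gh N1759 = N1976 := rfl
theorem L17105 : sm gb N1976 = N1761 := ded_22_1 (flp_h L15244) L15230 L17103
theorem L17107 : sm gc N1976 = N1976 := ded_28_1 (flp_h L17103) L15236 L17103
theorem L17108 : sm ge N1976 = N1834 := ded_37_1 L15908 (flp_e L15233) L17103
theorem L17110 : sm gg N1976 = N1976 := ded_42_1 (flp_h L17103) L15235 L17103
theorem L17111 : sm ge N1760 = N1977 := rfl
theorem L17113 : sm ga N1977 = N1766 := ded_12_1 (flp_e L15289) (flp_a L15239) L17111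
theorem L17115 : sm gc N1977 = N1762 := ded_25_1 (flp_e L15253) (flp_c L15241) L17111
theorem L17117 : sm gf N1977 = N1845 := ded_35_2 (flp_e L15992) (flp_f L14159) (flp_e L13568) L15237 L17111
theorem L17119 : sm gg N1760 = N1978 := rfl
theorem L17121 : sm ga N1978 = N1767 := ded_14_1 (flp_g L15295) (flp_a L15239) L17119
theorem L17123 : sm gc N1978 = N1763 := ded_27_1 (flp_g L15262) (flp_c L15241) L17119
theorem L17125 : sm gd N1978 = N1978 := ded_32_1 (flp_g L17119) L15243 L17119
theorem L17126 : sm gi N1978 = N1896 := ded_43_2 L16984 L16982 L17119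
theorem L17128 : sm gf N1978 = N1978 := ded_39_1 (flp_g L17119) (flp_f L15237) L13570 L15237 L17119
theorem L17129 : sm gh N1760 = N1979 := rfl
theorem L17131 : sm ga N1979 = N1768 := ded_15_1 (flp_h L15303) (flp_a L15239) L17129
theorem L17133 : sm gc N1979 = N1764 := ded_28_1 (flp_h L15272) (flp_c L15241) L17129
theorem L17135 : sm gf N1979 = N1761 := ded_40_1 (flp_h L15244) L15237 L17129
theorem L17137 : sm gd N1761 = N1980 := rfl
theorem L17139 : sm ga N1980 = N1769 := ded_11_1 (flp_d L15309) (flp_a L15246) L17137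
theorem L17141 : sm gg N1980 = N1980 := ded_32_2 (flp_d L17137) L15252 L17137
theorem L17142 : sm gc N1980 = N1980 := ded_24_1 (flp_d L17137) L15248 L13587 (flp_c L15248) L17137
theorem L17143 : sm gh N1980 = N1980 := ded_33_2 (flp_d L17137) (flp_h L15244) L13571 L15244 L17137
theorem L17144 : sm gi N1761 = N1981 := rfl
theorem L17146 : sm ga N1981 = N1770 := ded_16_1 (flp_i L15314) (flp_a L15246) L17144
theorem L17148 : sm gc N1981 = N1765 := ded_29_1 (flp_i L15280) (flp_c L15248) L17144
theorem L17150 : sm ge N1981 = N1848 := ded_38_1 (flp_i L16017) (flp_e L15250) L17144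
theorem L17152 : sm gg N1981 = N1981 := ded_43_1 (flp_i L17144) L15252 L17144
theorem L17153 : sm gg N1762 = N1982 := rfl
theorem L17155 : sm ga N1982 = N1771 := ded_14_1 (flp_g L15321) (flp_a L15255) L17153
theorem L17157 : sm gb N1982 = N1982 := ded_21_1 (flp_g L17153) L15257 L17153
theorem L17158 : sm gd N1982 = N1783 := ded_32_1 (flp_g L15441) (flp_d L15258) L17153
theorem L17160 : sm ge N1982 = N1763 := ded_36_1 (flp_g L15262) L15253 L17153
theorem L17162 : sm gi N1982 = N1869 := ded_43_2 (flp_g L17000) L17002 L17153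
theorem L17164 : sm gf N1871 = N1982 := ded_31_0 L17158 L15452 L16185
theorem L17166 : sm gh N1762 = N1983 := rfl
theorem L17168 : sm ga N1983 = N1772 := ded_15_1 (flp_h L15331) (flp_a L15255) L17166
theorem L17170 : sm gb N1983 = N1983 := ded_22_1 (flp_h L17166) L15257 L17166
theorem L17171 : sm ge N1983 = N1764 := ded_37_1 (flp_h L15272) L15253 L17166
theorem L17173 : sm gf N1983 = N1850 := ded_40_1 (flp_h L16035) (flp_f L15260) L17166
theorem L17175 : sm gh N1763 = N1984 := rfl
theorem L17177 : sm ga N1984 = N1773 := ded_15_1 (flp_h L15339) (flp_a L15264) L17175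
theorem L17179 : sm gb N1984 = N1984 := ded_22_1 (flp_h L17175) L15266 L17175
theorem L17180 : sm gf N1984 = N1984 := ded_40_1 (flp_h L17175) L15271 L17175
theorem L17181 : sm gg N1984 = N1764 := ded_42_1 (flp_h L15272) L15262 L17175
theorem L17183 : sm gd N1984 = N1984 := ded_33_1 (flp_h L17175) L15267 L13596 (flp_d L15267) L17175
theorem L17184 : sm gi N1764 = N1985 := rfl
theorem L17186 : sm ga N1985 = N1774 := ded_16_1 (flp_i L15347) (flp_a L15274) L17184
theorem L17188 : sm gb N1985 = N1985 := ded_23_1 (flp_i L17184) L15276 L17184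
theorem L17189 : sm gd N1985 = N1985 := ded_34_1 (flp_i L17184) L15279 L17184
theorem L17190 : sm gf N1985 = N1765 := ded_41_1 (flp_i L15280) (flp_f L15277) L17184
theorem L17192 : sm gd N1766 = N1986 := rfl
theorem L17194 : sm gf N1986 = N1853 := ded_31_2 (flp_d L16061) (flp_f L15293) L17192
theorem L17196 : sm gc N1986 = N1785 := ded_24_1 (flp_d L15471) L13768 (flp_d L13616) (flp_c L15291) L17192
theorem L17198 : sm ge N1986 = N1986 := ded_30_2 (flp_d L17192) (flp_e L15289) L13604 L15289 L17192
theorem L17199 : sm gg N1766 = N1987 := rfl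
theorem L17201 : sm gc N1987 = N1771 := ded_27_1 (flp_g L15321) (flp_c L15291) L17199
theorem L17203 : sm ge N1987 = N1767 := ded_36_1 (flp_g L15295) L15289 L17199
theorem L17205 : sm gi N1987 = N1872 := ded_43_2 (flp_g L17033) L17035 L17199
theorem L17207 : sm gh N1766 = N1988 := rfl
theorem L17209 : sm gc N1988 = N1772 := ded_28_1 (flp_h L15331) (flp_c L15291) L17207
theorem L17211 : sm ge N1988 = N1768 := ded_37_1 (flp_h L15303) L15289 L17207
theorem L17213 : sm gf N1988 = N1855 := ded_40_1 (flp_h L16073) (flp_f L15293) L17207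
theorem L17215 : sm gh N1767 = N1989 := rfl
theorem L17217 : sm gc N1989 = N1773 := ded_28_1 (flp_h L15339) (flp_c L15297) L17215
theorem L17219 : sm gf N1989 = N1989 := ded_40_1 (flp_h L17215) L15302 L17215
theorem L17220 : sm gg N1989 = N1768 := ded_42_1 (flp_h L15303) L15295 L17215
theorem L17222 : sm gd N1768 = N1990 := rfl
theorem L17224 : sm gf N1990 = N1769 := ded_31_2 (flp_d L15309) (flp_f L15307) L17222
theorem L17226 : sm gc N1990 = N1990 := ded_24_1 (flp_d L17222) L15305 L13635 (flp_c L15305) L17222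
theorem L17227 : sm gh N1990 = N1990 := ded_33_2 (flp_d L17222) (flp_h L15303) L13604 L15303 L17222
theorem L17228 : sm gi N1768 = N1991 := rfl
theorem L17230 : sm gc N1991 = N1774 := ded_29_1 (flp_i L15347) (flp_c L15305) L17228
theorem L17232 : sm gf N1991 = N1770 := ded_41_1 (flp_i L15314) (flp_f L15307) L17228
theorem L17234 : sm ge N1769 = N1992 := rfl
theorem L17236 : sm gc N1992 = N1992 := ded_25_1 (flp_e L17234) L15312 L17234
theorem L17237 : sm gg N1992 = N1992 := ded_36_2 (flp_e L17234) L15311 L17234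
theorem L17238 : sm gh N1992 = N1992 := ded_37_2 (flp_e L17234) L15313 L17234
theorem L17239 : sm gd N1992 = N1859 := ded_30_1 (flp_e L16100) (flp_d L14225) (flp_e L13609) L15309 L17234
theorem L17241 : sm gi N1769 = N1993 := rfl
theorem L17243 : sm gc N1993 = N1993 := ded_29_1 (flp_i L17241) L15312 L17241
theorem L17244 : sm gd N1993 = N1770 := ded_34_1 (flp_i L15314) L15309 L17241
theorem L17246 : sm gg N1993 = N1993 := ded_43_1 (flp_i L17241) L15311 L17241
theorem L17247 : sm gf N1771 = N1994 := rfl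
theorem L17249 : sm ga N1994 = N1871 := ded_13_1 L17164 L17155 L17247
theorem L17251 : sm gb N1994 = N1775 := ded_20_1 (flp_f L15354) (flp_b L15323) L17247
theorem L17253 : sm gd N1994 = N1786 := ded_31_1 (flp_f L15477) (flp_d L15325) L17247
theorem L17255 : sm gi N1994 = N1787 := ded_41_2 L15497 (flp_i L15329) L17247
theorem L17257 : sm ge N1994 = N1994 := ded_35_1 (flp_f L17247) L15327 L13628 (flp_e L15327) L17247
theorem L17258 : sm gg N1994 = N1861 := ded_39_2 (flp_f L16114) (flp_g L14237) (flp_f L13618) L15321 L17247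
theorem L17260 : sm gh N1771 = N1995 := rfl
theorem L17262 : sm gb N1995 = N1776 := ded_22_1 (flp_h L15364) (flp_b L15323) L17260
theorem L17264 : sm ge N1995 = N1773 := ded_37_1 (flp_h L15339) (flp_e L15327) L17260
theorem L17266 : sm gg N1995 = N1772 := ded_42_1 (flp_h L15331) L15321 L17260
theorem L17268 : sm gd N1772 = N1996 := rfl
theorem L17270 : sm gb N1996 = N1777 := ded_18_1 (flp_d L15371) (flp_b L15333) L17268
theorem L17272 : sm gf N1996 = N1863 := ded_31_2 (flp_d L16129) (flp_f L15337) L17268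
theorem L17274 : sm ge N1996 = N1996 := ded_30_2 (flp_d L17268) L15335 L13635 (flp_e L15335) L17268
theorem L17275 : sm gh N1996 = N1787 := ded_33_2 (flp_d L15493) (flp_h L13780) (flp_d L13616) L15331 L17268
theorem L17277 : sm gi N1772 = N1997 := rfl
theorem L17279 : sm gb N1997 = N1778 := ded_23_1 (flp_i L15379) (flp_b L15333) L17277
theorem L17281 : sm ge N1997 = N1774 := ded_38_1 (flp_i L15347) (flp_e L15335) L17277
theorem L17283 : sm gf N1997 = N1864 := ded_41_1 (flp_i L16137) (flp_f L15337) L17277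
theorem L17285 : sm gi N1773 = N1998 := rfl
theorem L17287 : sm gb N1998 = N1779 := ded_23_1 (flp_i L15386) (flp_b L15341) L17285
theorem L17289 : sm gd N1998 = N1998 := ded_34_1 (flp_i L17285) L15346 L17285
theorem L17290 : sm gf N1998 = N1998 := ded_41_1 (flp_i L17285) L15343 L17285
theorem L17291 : sm gg N1998 = N1774 := ded_43_1 (flp_i L15347) (flp_g L15344) L17285
theorem L17293 : sm gh N1998 = N1893 := ded_44_1 (flp_i L16349) L14510 (flp_i L13626) L15339 L17285
theorem L17295 : sm gh N1775 = N1999 := rfl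
theorem L17297 : sm ga N1999 = N1999 := ded_15_1 (flp_h L17295) L15356 L17295
theorem L17298 : sm ge N1999 = N1999 := ded_37_1 (flp_h L17295) L15361 L17295
theorem L17299 : sm gf N1999 = N1776 := ded_40_1 (flp_h L15364) L15354 L17295
theorem L17301 : sm gg N1999 = N1841 := ded_42_1 L15967 (flp_g L15362) L17295
theorem L17303 : sm gd N1999 = N1840 := ded_33_1 (flp_h L15954) L14127 L13813 (flp_d L15357) L17295
theorem L17305 : sm gd N1776 = N2000 := rfl
theorem L17307 : sm ga N2000 = N2000 := ded_11_1 (flp_d L17305) L15366 L17305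
theorem L17308 : sm gf N2000 = N1840 := ded_31_2 (flp_d L17303) L17299 L17305
theorem L17310 : sm gg N2000 = N1777 := ded_32_2 (flp_d L15371) (flp_g L15369) L17305
theorem L17312 : sm ge N2000 = N2000 := ded_30_2 (flp_d L17305) L15367 L13666 (flp_e L15367) L17305
theorem L17313 : sm gh N2000 = N1788 := ded_33_2 (flp_d L15500) (flp_h L13815) (flp_d L13647) L15364 L17305
theorem L17315 : sm gi N1776 = N2001 := rfl
theorem L17317 : sm ga N2001 = N2001 := ded_16_1 (flp_i L17315) L15366 L17315
theorem L17318 : sm ge N2001 = N1779 := ded_38_1 (flp_i L15386) (flp_e L15367) L17315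
theorem L17320 : sm gg N2001 = N1778 := ded_43_1 (flp_i L15379) (flp_g L15369) L17315
theorem L17322 : sm gh N2001 = N1868 := ded_44_1 (flp_i L16166) L14286 (flp_i L13651) L15364 L17315
theorem L17324 : sm gc N1777 = N2002 := rfl
theorem L17326 : sm ga N2002 = N2002 := ded_10_1 (flp_c L17324) L15373 L17324
theorem L17327 : sm ge N2002 = N2002 := ded_25_2 (flp_c L17324) L15376 L17324
theorem L17328 : sm gf N2002 = N1867 := ded_26_2 (flp_c L16159) (flp_f L15374) L17324
theorem L17330 : sm gh N2002 = N1789 := ded_28_2 (flp_c L15510) (flp_h L15377) L17324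
theorem L17332 : sm gi N1777 = N2003 := rfl
theorem L17334 : sm ga N2003 = N2003 := ded_16_1 (flp_i L17332) L15373 L17332
theorem L17335 : sm gd N2003 = N1778 := ded_34_1 (flp_i L15379) L15371 L17332
theorem L17337 : sm ge N2003 = N2003 := ded_38_1 (flp_i L17332) L15376 L17332
theorem L17338 : sm gf N2003 = N1868 := ded_41_1 (flp_i L16166) (flp_f L15374) L17332
theorem L17340 : sm gd N1781 = N2004 := rfl
theorem L17342 : sm ga N2004 = N1861 := ded_11_1 L16118 (flp_a L15412) L17340
theorem L17344 : sm gb N2004 = N2004 := ded_18_1 (flp_d L17340) L15414 L17340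
theorem L17345 : sm gf N2004 = N1849 := ded_31_2 L16029 (flp_f L15423) L17340
theorem L17347 : sm gg N2004 = N1871 := ded_32_2 (flp_d L16185) (flp_g L15417) L17340
theorem L17349 : sm gi N2004 = N1785 := ded_34_2 (flp_d L15471) (flp_i L15421) L17340
theorem L17351 : sm ge N2004 = N2004 := ded_30_2 (flp_d L17340) (flp_e L15410) L13695 L15410 L17340
theorem L17352 : sm gd N1782 = N2005 := rfl
theorem L17354 : sm ga N2005 = N1785 := ded_11_1 (flp_d L15471) (flp_a L15427) L17352
theorem L17356 : sm gb N2005 = N1788 := ded_18_1 (flp_d L15500) (flp_b L15429) L17352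
theorem L17358 : sm gf N2005 = N1836 := ded_31_2 L15923 (flp_f L15439) L17352
theorem L17360 : sm gg N2005 = N1787 := ded_32_2 (flp_d L15493) (flp_g L15433) L17352
theorem L17362 : sm gi N2005 = N1861 := ded_34_2 L16118 (flp_i L15437) L17352
theorem L17364 : sm ge N2005 = N2005 := ded_30_2 (flp_d L17352) (flp_e L15425) L13722 L15425 L17352
theorem L17365 : sm gd N1784 = N2006 := rfl
theorem L17367 : sm ga N2006 = N1787 := ded_11_1 (flp_d L15493) (flp_a L15458) L17365
theorem L17369 : sm gb N2006 = N2006 := ded_18_1 (flp_d L17365) L15460 L17365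
theorem L17370 : sm gf N2006 = N1869 := ded_31_2 (flp_d L16173) (flp_f L15465) L17365
theorem L17372 : sm gg N2006 = N1785 := ded_32_2 (flp_d L15471) (flp_g L15467) L17365
theorem L17374 : sm gi N2006 = N1871 := ded_34_2 (flp_d L16185) (flp_i L15469) L17365
theorem L17376 : sm ge N2006 = N2006 := ded_30_2 (flp_d L17365) L15463 L13762 (flp_e L15463) L17365
theorem L17377 : sm gh N1785 = N2007 := rfl
theorem L17379 : sm gb N2007 = N2007 := ded_22_1 (flp_h L17377) L15473 L17377
theorem L17380 : sm ge N2007 = N2007 := ded_37_1 (flp_h L17377) L15476 L17377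
theorem L17381 : sm gf N2007 = N1870 := ded_40_1 (flp_h L16180) (flp_f L15474) L17377
theorem L17383 : sm gc N1787 = N2008 := rfl
theorem L17385 : sm ge N2008 = N2008 := ded_25_2 (flp_c L17383) L15499 L17383
theorem L17386 : sm gf N2008 = N1872 := ded_26_2 (flp_c L16189) (flp_f L15497) L17383
theorem L17388 : sm gc N1788 = N2009 := rfl
theorem L17390 : sm ga N2009 = N2009 := ded_10_1 (flp_c L17388) L15502 L17388
theorem L17391 : sm ge N2009 = N2009 := ded_25_2 (flp_c L17388) L15509 L17388
theorem L17392 : sm gf N2009 = N1800 := ded_26_2 L15624 (flp_f L15503) L17388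
theorem L17394 : sm gg N2009 = N1789 := ded_27_2 (flp_c L15510) (flp_g L15505) L17388
theorem L17396 : sm gi N2009 = N1820 := ded_29_2 L15786 (flp_i L15507) L17388
theorem L17398 : sm gd N2009 = N2009 := ded_24_2 (flp_c L17388) (flp_d L15500) L13818 L15500 L17388
theorem L17399 : sm gb N1789 = N2010 := rfl
theorem L17401 : sm gd N2010 = N2010 := ded_18_2 (flp_b L17399) L15516 L17399
theorem L17402 : sm ge N2010 = N2010 := ded_19_2 (flp_b L17399) L15513 L17399
theorem L17403 : sm gf N2010 = N1873 := ded_20_2 (flp_b L16193) (flp_f L15514) L17399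
theorem L17405 : sm gg N1790 = N2011 := rfl
theorem L17407 : sm ga N2011 = N2011 := ded_14_1 (flp_g L17405) L15519 L17405
theorem L17408 : sm gb N2011 = N1874 := ded_21_1 (flp_g L16198) (flp_b L15520) L17405
theorem L17410 : sm gc N2011 = N2011 := ded_27_1 (flp_g L17405) L15522 L17405
theorem L17411 : sm gd N2011 = N2011 := ded_32_1 (flp_g L17405) L15524 L17405
theorem L17412 : sm ge N2011 = N1791 := ded_36_1 (flp_g L15526) L15517 L17405
theorem L17414 : sm gi N2011 = N2011 := ded_43_2 (flp_g L17405) L15523 L17405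
theorem L17415 : sm gh N1790 = N2012 := rfl
theorem L17417 : sm ga N2012 = N2012 := ded_15_1 (flp_h L17415) L15519 L17415
theorem L17418 : sm gb N2012 = N1875 := ded_22_1 (flp_h L16208) (flp_b L15520) L17415
theorem L17420 : sm gc N2012 = N2012 := ded_28_1 (flp_h L17415) L15522 L17415
theorem L17421 : sm ge N2012 = N1792 := ded_37_1 (flp_h L15536) L15517 L17415
theorem L17423 : sm gf N2012 = N2012 := ded_40_1 (flp_h L17415) L15525 L17415
theorem L17424 : sm gh N1791 = N2013 := rfl
theorem L17426 : sm ga N2013 = N2013 := ded_15_1 (flp_h L17424) L15528 L17424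
theorem L17427 : sm gb N2013 = N1876 := ded_22_1 (flp_h L16217) (flp_b L15529) L17424
theorem L17429 : sm gc N2013 = N2013 := ded_28_1 (flp_h L17424) L15531 L17424
theorem L17430 : sm gf N2013 = N2013 := ded_40_1 (flp_h L17424) L15535 L17424
theorem L17431 : sm gg N2013 = N1792 := ded_42_1 (flp_h L15536) L15526 L17424
theorem L17433 : sm gd N2013 = N1802 := ded_33_1 (flp_h L15638) L13921 (flp_h L13860) (flp_d L15532) L17424
theorem L17435 : sm gi N1792 = N2014 := rfl
theorem L17437 : sm ga N2014 = N2014 := ded_16_1 (flp_i L17435) L15538 L17435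
theorem L17438 : sm gb N2014 = N1877 := ded_23_1 (flp_i L16226) (flp_b L15539) L17435
theorem L17440 : sm gc N2014 = N2014 := ded_29_1 (flp_i L17435) L15541 L17435
theorem L17441 : sm gd N2014 = N1803 := ded_34_1 (flp_i L15646) (flp_d L15544) L17435
theorem L17443 : sm gf N2014 = N1793 := ded_41_1 (flp_i L15546) (flp_f L15542) L17435
theorem L17445 : sm gh N2014 = N2014 := ded_44_1 (flp_i L17435) (flp_h L15536) L13841 L15536 L17435
theorem L17446 : sm ge N1794 = N2015 := rfl
theorem L17448 : sm ga N2015 = N1911 := ded_12_1 (flp_e L16517) (flp_a L15559) L17446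
theorem L17450 : sm gb N2015 = N1831 := ded_19_1 (flp_e L15879) (flp_b L15561) L17446
theorem L17452 : sm gc N2015 = N1796 := ded_25_1 (flp_e L15580) (flp_c L15563) L17446
theorem L17454 : sm gi N2015 = N1811 := ded_38_2 (flp_e L15717) (flp_i L15567) L17446
theorem L17456 : sm gg N1794 = N2016 := rfl
theorem L17458 : sm ga N2016 = N1910 := ded_14_1 L16513 (flp_a L15559) L17456
theorem L17460 : sm gb N2016 = N1832 := ded_21_1 (flp_g L15885) (flp_b L15561) L17456
theorem L17462 : sm gc N2016 = N1797 := ded_27_1 (flp_g L15589) (flp_c L15563) L17456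
theorem L17464 : sm gd N2016 = N1900 := ded_32_1 (flp_g L16404) (flp_d L15565) L17456
theorem L17466 : sm gi N2016 = N1812 := ded_43_2 (flp_g L15723) (flp_i L15567) L17456
theorem L17468 : sm gf N2016 = N2016 := ded_39_1 (flp_g L17456) (flp_f L15557) L13868 L15557 L17456
theorem L17469 : sm gh N1794 = N2017 := rfl
theorem L17471 : sm ga N2017 = N1857 := ded_15_1 L16092 (flp_a L15559) L17469
theorem L17473 : sm gb N2017 = N1833 := ded_22_1 (flp_h L15896) (flp_b L15561) L17469
theorem L17475 : sm gc N2017 = N1798 := ded_28_1 (flp_h L15600) (flp_c L15563) L17469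
theorem L17477 : sm gf N2017 = N1795 := ded_40_1 (flp_h L15569) L15557 L17469
theorem L17479 : sm gd N2017 = N1847 := ded_33_1 (flp_h L16009) L14165 (flp_h L14582) (flp_d L15565) L17469
theorem L17481 : sm gi N1795 = N2018 := rfl
theorem L17483 : sm ga N2018 = N1860 := ded_16_1 (flp_i L16107) (flp_a L15571) L17481
theorem L17485 : sm gb N2018 = N1835 := ded_23_1 (flp_i L15910) (flp_b L15573) L17481
theorem L17487 : sm gc N2018 = N1799 := ded_29_1 (flp_i L15610) (flp_c L15575) L17481
theorem L17489 : sm gd N2018 = N1848 := ded_34_1 (flp_i L16017) (flp_d L15578) L17481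
theorem L17491 : sm gg N2018 = N2018 := ded_43_1 (flp_i L17481) L15577 L17481
theorem L17492 : sm gh N2018 = N1815 := ded_44_1 (flp_i L15748) (flp_h L13986) (flp_i L13869) L15569 L17481
theorem L17494 : sm gg N1796 = N2019 := rfl
theorem L17496 : sm ga N2019 = N1914 := ded_14_1 L16534 (flp_a L15582) L17494
theorem L17498 : sm gb N2019 = N1800 := ded_21_1 (flp_g L15621) (flp_b L15584) L17494
theorem L17500 : sm gd N2019 = N2019 := ded_32_1 (flp_g L17494) L15588 L17494
theorem L17501 : sm ge N2019 = N1797 := ded_36_1 (flp_g L15589) L15580 L17494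
theorem L17503 : sm gi N2019 = N1816 := ded_43_2 (flp_g L15755) (flp_i L15586) L17494
theorem L17505 : sm gh N1796 = N2020 := rfl
theorem L17507 : sm ga N2020 = N1887 := ded_15_1 L16313 (flp_a L15582) L17505
theorem L17509 : sm gb N2020 = N1801 := ded_22_1 (flp_h L15631) (flp_b L15584) L17505
theorem L17511 : sm ge N2020 = N1798 := ded_37_1 (flp_h L15600) L15580 L17505
theorem L17513 : sm gh N1797 = N2021 := rfl
theorem L17515 : sm ga N2021 = N1885 := ded_15_1 L16299 (flp_a L15591) L17513
theorem L17517 : sm gb N2021 = N1802 := ded_22_1 (flp_h L15638) (flp_b L15593) L17513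
theorem L17519 : sm gf N2021 = N2021 := ded_40_1 (flp_h L17513) L15599 L17513
theorem L17520 : sm gg N2021 = N1798 := ded_42_1 (flp_h L15600) L15589 L17513
theorem L17522 : sm gd N2021 = N1876 := ded_33_1 (flp_h L16217) L14389 (flp_h L13903) (flp_d L15595) L17513
theorem L17524 : sm gi N1798 = N2022 := rfl
theorem L17526 : sm ga N2022 = N1888 := ded_16_1 (flp_i L16315) (flp_a L15602) L17524
theorem L17528 : sm gb N2022 = N1803 := ded_23_1 (flp_i L15646) (flp_b L15604) L17524
theorem L17530 : sm gd N2022 = N1877 := ded_34_1 (flp_i L16226) (flp_d L15608) L17524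
theorem L17532 : sm gf N2022 = N1799 := ded_41_1 (flp_i L15610) (flp_f L15606) L17524
theorem L17534 : sm gh N2022 = N1819 := ded_44_1 (flp_i L15776) (flp_h L14005) (flp_i L13883) L15600 L17524
theorem L17536 : sm gh N1800 = N2023 := rfl
theorem L17538 : sm ga N2023 = N2023 := ded_15_1 (flp_h L17536) L15623 L17536
theorem L17539 : sm gc N2023 = N1840 := ded_28_1 (flp_h L15954) (flp_c L15624) L17536
theorem L17541 : sm ge N2023 = N1802 := ded_37_1 (flp_h L15638) (flp_e L15627) L17536
theorem L17543 : sm gg N2023 = N1801 := ded_42_1 (flp_h L15631) L15621 L17536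
theorem L17545 : sm gd N1801 = N2024 := rfl
theorem L17547 : sm ga N2024 = N2024 := ded_11_1 (flp_d L17545) L15633 L17545
theorem L17548 : sm gh N2024 = N2024 := ded_33_2 (flp_d L17545) (flp_h L15631) L13915 L15631 L17545
theorem L17549 : sm gi N1801 = N2025 := rfl
theorem L17551 : sm ga N2025 = N2025 := ded_16_1 (flp_i L17549) L15633 L17549
theorem L17552 : sm gc N2025 = N1842 := ded_29_1 (flp_i L15969) (flp_c L15634) L17549
theorem L17554 : sm ge N2025 = N1803 := ded_38_1 (flp_i L15646) (flp_e L15636) L17549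
theorem L17556 : sm gh N2025 = N1823 := ded_44_1 (flp_i L15804) (flp_h L14026) (flp_i L13913) L15631 L17549
theorem L17558 : sm gi N1802 = N2026 := rfl
theorem L17560 : sm ga N2026 = N2026 := ded_16_1 (flp_i L17558) L15640 L17558
theorem L17561 : sm gc N2026 = N1843 := ded_29_1 (flp_i L15976) (flp_c L15641) L17558
theorem L17563 : sm gf N2026 = N2026 := ded_41_1 (flp_i L17558) L15643 L17558
theorem L17564 : sm gg N2026 = N1803 := ded_43_1 (flp_i L15646) (flp_g L15644) L17558
theorem L17566 : sm gh N2026 = N1824 := ded_44_1 (flp_i L15811) (flp_h L14033) (flp_i L13923) L15638 L17558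
theorem L17568 : sm gf N1804 = N2027 := rfl
theorem L17570 : sm ga N2027 = N1844 := ded_13_1 (flp_f L15985) (flp_a L15662) L17568
theorem L17572 : sm gb N2027 = N1805 := ded_20_1 (flp_f L15665) L15655 L17568
theorem L17574 : sm gc N2027 = N2027 := ded_26_1 (flp_f L17568) L15664 L17568
theorem L17575 : sm gd N2027 = N1901 := ded_31_1 (flp_f L16419) (flp_d L15657) L17568
theorem L17577 : sm gi N2027 = N1906 := ded_41_2 L16491 (flp_i L15660) L17568
theorem L17579 : sm gg N1909 = N2027 := ded_32_0 L17575 (flp_g L16433) L16506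
theorem L17581 : sm gh N1804 = N2028 := rfl
theorem L17583 : sm ga N2028 = N1834 := ded_15_1 L15908 (flp_a L15662) L17581
theorem L17585 : sm gb N2028 = N1806 := ded_22_1 (flp_h L15675) L15655 L17581
theorem L17587 : sm gc N2028 = N2028 := ded_28_1 (flp_h L17581) L15664 L17581
theorem L17588 : sm gg N2028 = N2028 := ded_42_1 (flp_h L17581) L15659 L17581
theorem L17589 : sm gd N2028 = N1827 := ded_33_1 (flp_h L15842) L14057 L14625 (flp_d L15657) L17581
theorem L17591 : sm ge N1805 = N2029 := rfl
theorem L17593 : sm ga N2029 = N1811 := ded_12_1 (flp_e L15717) (flp_a L15667) L17591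
theorem L17595 : sm gc N2029 = N1807 := ded_25_1 (flp_e L15682) (flp_c L15669) L17591
theorem L17597 : sm gi N2029 = N1911 := ded_38_2 (flp_e L16517) (flp_i L15673) L17591
theorem L17599 : sm gg N1805 = N2030 := rfl
theorem L17601 : sm ga N2030 = N1812 := ded_14_1 (flp_g L15723) (flp_a L15667) L17599
theorem L17603 : sm gb N2030 = N1909 := ded_21_1 L17579 L17572 L17599
theorem L17605 : sm gc N2030 = N1808 := ded_27_1 (flp_g L15690) (flp_c L15669) L17599
theorem L17607 : sm gd N2030 = N1903 := ded_32_1 (flp_g L16450) (flp_d L15671) L17599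
theorem L17609 : sm gi N2030 = N1910 := ded_43_2 L16513 (flp_i L15673) L17599
theorem L17611 : sm gf N2030 = N2030 := ded_39_1 (flp_g L17599) (flp_f L15665) L13945 L15665 L17599
theorem L17612 : sm gh N1805 = N2031 := rfl
theorem L17614 : sm ga N2031 = N1813 := ded_15_1 (flp_h L15732) (flp_a L15667) L17612
theorem L17616 : sm gc N2031 = N1809 := ded_28_1 (flp_h L15700) (flp_c L15669) L17612
theorem L17618 : sm gf N2031 = N1806 := ded_40_1 (flp_h L15675) L15665 L17612
theorem L17620 : sm gd N1806 = N2032 := rfl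
theorem L17622 : sm ga N2032 = N1814 := ded_11_1 (flp_d L15740) (flp_a L15677) L17620
theorem L17624 : sm gb N2032 = N1827 := ded_18_1 (flp_d L17589) L17585 L17620
theorem L17626 : sm gg N2032 = N2032 := ded_32_2 (flp_d L17620) L15681 L17620
theorem L17627 : sm gc N2032 = N2032 := ded_24_1 (flp_d L17620) L15679 L13965 (flp_c L15679) L17620
theorem L17628 : sm gh N2032 = N1825 := ded_33_2 L15822 (flp_h L14635) (flp_d L13948) L15675 L17620
theorem L17630 : sm gi N1806 = N2033 := rfl
theorem L17632 : sm ga N2033 = N1815 := ded_16_1 (flp_i L15748) (flp_a L15677) L17630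
theorem L17634 : sm gc N2033 = N1810 := ded_29_1 (flp_i L15708) (flp_c L15679) L17630
theorem L17636 : sm gg N2033 = N2033 := ded_43_1 (flp_i L17630) L15681 L17630
theorem L17637 : sm gh N2033 = N1860 := ded_44_1 (flp_i L16107) L14230 (flp_i L13946) L15675 L17630
theorem L17639 : sm gg N1807 = N2034 := rfl
theorem L17641 : sm ga N2034 = N1816 := ded_14_1 (flp_g L15755) (flp_a L15684) L17639
theorem L17643 : sm gb N2034 = N2034 := ded_21_1 (flp_g L17639) L15686 L17639
theorem L17644 : sm gd N2034 = N2034 := ded_32_1 (flp_g L17639) L15689 L17639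
theorem L17645 : sm ge N2034 = N1808 := ded_36_1 (flp_g L15690) L15682 L17639
theorem L17647 : sm gi N2034 = N1914 := ded_43_2 L16534 (flp_i L15687) L17639
theorem L17649 : sm gh N1807 = N2035 := rfl
theorem L17651 : sm ga N2035 = N1817 := ded_15_1 (flp_h L15762) (flp_a L15684) L17649
theorem L17653 : sm gb N2035 = N2035 := ded_22_1 (flp_h L17649) L15686 L17649
theorem L17654 : sm ge N2035 = N1809 := ded_37_1 (flp_h L15700) L15682 L17649
theorem L17656 : sm gh N1808 = N2036 := rfl
theorem L17658 : sm ga N2036 = N1818 := ded_15_1 (flp_h L15768) (flp_a L15692) L17656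
theorem L17660 : sm gb N2036 = N2036 := ded_22_1 (flp_h L17656) L15694 L17656
theorem L17661 : sm gf N2036 = N2036 := ded_40_1 (flp_h L17656) L15699 L17656
theorem L17662 : sm gg N2036 = N1809 := ded_42_1 (flp_h L15700) L15690 L17656
theorem L17664 : sm gd N2036 = N2036 := ded_33_1 (flp_h L17656) L15695 L13974 (flp_d L15695) L17656
theorem L17665 : sm gi N1809 = N2037 := rfl
theorem L17667 : sm ga N2037 = N1819 := ded_16_1 (flp_i L15776) (flp_a L15702) L17665
theorem L17669 : sm gb N2037 = N2037 := ded_23_1 (flp_i L17665) L15704 L17665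
theorem L17670 : sm gd N2037 = N2037 := ded_34_1 (flp_i L17665) L15707 L17665
theorem L17671 : sm gf N2037 = N1810 := ded_41_1 (flp_i L15708) (flp_f L15705) L17665
theorem L17673 : sm gh N2037 = N1888 := ded_44_1 (flp_i L16315) L14474 (flp_i L13957) L15700 L17665
theorem L17675 : sm gd N1811 = N2038 := rfl
theorem L17677 : sm gb N2038 = N1853 := ded_18_1 (flp_d L16061) (flp_b L15719) L17675
theorem L17679 : sm gc N2038 = N2038 := ded_24_1 (flp_d L17675) L15721 L13997 (flp_c L15721) L17675
theorem L17680 : sm ge N2038 = N1905 := ded_30_2 (flp_d L16481) (flp_e L14691) (flp_d L13984) L15717 L17675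
theorem L17682 : sm gg N1811 = N2039 := rfl
theorem L17684 : sm gb N2039 = N1854 := ded_21_1 (flp_g L16067) (flp_b L15719) L17682
theorem L17686 : sm gc N2039 = N1816 := ded_27_1 (flp_g L15755) (flp_c L15721) L17682
theorem L17688 : sm ge N2039 = N1812 := ded_36_1 (flp_g L15723) L15717 L17682
theorem L17690 : sm gh N1811 = N2040 := rfl
theorem L17692 : sm gb N2040 = N1855 := ded_22_1 (flp_h L16073) (flp_b L15719) L17690
theorem L17694 : sm gc N2040 = N1817 := ded_28_1 (flp_h L15762) (flp_c L15721) L17690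
theorem L17696 : sm ge N2040 = N1813 := ded_37_1 (flp_h L15732) L15717 L17690
theorem L17698 : sm gh N1812 = N2041 := rfl
theorem L17700 : sm gb N2041 = N1856 := ded_22_1 (flp_h L16079) (flp_b L15725) L17698
theorem L17702 : sm gc N2041 = N1818 := ded_28_1 (flp_h L15768) (flp_c L15727) L17698
theorem L17704 : sm gf N2041 = N2041 := ded_40_1 (flp_h L17698) L15731 L17698
theorem L17705 : sm gg N2041 = N1813 := ded_42_1 (flp_h L15732) L15723 L17698
theorem L17707 : sm gd N1813 = N2042 := rfl
theorem L17709 : sm gb N2042 = N1857 := ded_18_1 (flp_d L16086) (flp_b L15734) L17707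
theorem L17711 : sm gf N2042 = N1814 := ded_31_2 (flp_d L15740) (flp_f L15738) L17707
theorem L17713 : sm gc N2042 = N2042 := ded_24_1 (flp_d L17707) L15736 L14011 (flp_c L15736) L17707
theorem L17714 : sm gh N2042 = N1906 := ded_33_2 (flp_d L16487) (flp_h L14705) (flp_d L13984) L15732 L17707
theorem L17716 : sm gi N1813 = N2043 := rfl
theorem L17718 : sm gb N2043 = N1858 := ded_23_1 (flp_i L16094) (flp_b L15734) L17716
theorem L17720 : sm gc N2043 = N1819 := ded_29_1 (flp_i L15776) (flp_c L15736) L17716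
theorem L17722 : sm gf N2043 = N1815 := ded_41_1 (flp_i L15748) (flp_f L15738) L17716
theorem L17724 : sm ge N1814 = N2044 := rfl
theorem L17726 : sm gb N2044 = N1859 := ded_19_1 (flp_e L16100) (flp_b L15742) L17724
theorem L17728 : sm gc N2044 = N2044 := ded_25_1 (flp_e L17724) L15745 L17724
theorem L17729 : sm gg N2044 = N2044 := ded_36_2 (flp_e L17724) L15744 L17724
theorem L17730 : sm gh N2044 = N1907 := ded_37_2 (flp_e L16494) (flp_h L15746) L17724
theorem L17732 : sm gi N1814 = N2045 := rfl
theorem L17734 : sm gb N2045 = N1860 := ded_23_1 (flp_i L16107) (flp_b L15742) L17732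
theorem L17736 : sm gc N2045 = N2045 := ded_29_1 (flp_i L17732) L15745 L17732
theorem L17737 : sm gd N2045 = N1815 := ded_34_1 (flp_i L15748) L15740 L17732
theorem L17739 : sm gg N2045 = N2045 := ded_43_1 (flp_i L17732) L15744 L17732
theorem L17740 : sm gf N1816 = N2046 := rfl
theorem L17742 : sm gb N2046 = N1820 := ded_20_1 (flp_f L15783) (flp_b L15757) L17740
theorem L17744 : sm gd N2046 = N2046 := ded_31_1 (flp_f L17740) L15759 L17740
theorem L17745 : sm ge N2046 = N2046 := ded_35_1 (flp_f L17740) L15760 L14004 (flp_e L15760) L17740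
theorem L17746 : sm gh N1816 = N2047 := rfl
theorem L17748 : sm gb N2047 = N1821 := ded_22_1 (flp_h L15790) (flp_b L15757) L17746
theorem L17750 : sm ge N2047 = N1818 := ded_37_1 (flp_h L15768) (flp_e L15760) L17746
theorem L17752 : sm gg N2047 = N1817 := ded_42_1 (flp_h L15762) L15755 L17746
theorem L17754 : sm gd N1817 = N2048 := rfl
theorem L17756 : sm gb N2048 = N1822 := ded_18_1 (flp_d L15799) (flp_b L15764) L17754
theorem L17758 : sm ge N2048 = N2048 := ded_30_2 (flp_d L17754) L15766 L14011 (flp_e L15766) L17754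
theorem L17759 : sm gh N2048 = N2048 := ded_33_2 (flp_d L17754) (flp_h L15762) L13997 L15762 L17754
theorem L17760 : sm gi N1817 = N2049 := rfl
theorem L17762 : sm gb N2049 = N1823 := ded_23_1 (flp_i L15804) (flp_b L15764) L17760
theorem L17764 : sm ge N2049 = N1819 := ded_38_1 (flp_i L15776) (flp_e L15766) L17760
theorem L17766 : sm gi N1818 = N2050 := rfl
theorem L17768 : sm gb N2050 = N1824 := ded_23_1 (flp_i L15811) (flp_b L15770) L17766
theorem L17770 : sm gd N2050 = N2050 := ded_34_1 (flp_i L17766) L15775 L17766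
theorem L17771 : sm gf N2050 = N2050 := ded_41_1 (flp_i L17766) L15772 L17766
theorem L17772 : sm gg N2050 = N1819 := ded_43_1 (flp_i L15776) (flp_g L15773) L17766
theorem L17774 : sm gh N1820 = N2051 := rfl
theorem L17776 : sm ga N2051 = N2051 := ded_15_1 (flp_h L17774) L15785 L17774
theorem L17777 : sm gc N2051 = N1841 := ded_28_1 L15967 (flp_c L15786) L17774
theorem L17779 : sm ge N2051 = N2051 := ded_37_1 (flp_h L17774) L15789 L17774
theorem L17780 : sm gf N2051 = N1821 := ded_40_1 (flp_h L15790) L15783 L17774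
theorem L17782 : sm gd N1821 = N2052 := rfl
theorem L17784 : sm ga N2052 = N2052 := ded_11_1 (flp_d L17782) L15792 L17782
theorem L17785 : sm gg N2052 = N1822 := ded_32_2 (flp_d L15799) (flp_g L15797) L17782
theorem L17787 : sm ge N2052 = N2052 := ded_30_2 (flp_d L17782) L15795 L14041 (flp_e L15795) L17782
theorem L17788 : sm gh N2052 = N2052 := ded_33_2 (flp_d L17782) (flp_h L15790) L14023 L15790 L17782
theorem L17789 : sm gi N1821 = N2053 := rfl
theorem L17791 : sm ga N2053 = N2053 := ded_16_1 (flp_i L17789) L15792 L17789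
theorem L17792 : sm gc N2053 = N1866 := ded_29_1 (flp_i L16152) (flp_c L15793) L17789
theorem L17794 : sm ge N2053 = N1824 := ded_38_1 (flp_i L15811) (flp_e L15795) L17789
theorem L17796 : sm gg N2053 = N1823 := ded_43_1 (flp_i L15804) (flp_g L15797) L17789
theorem L17798 : sm gc N1822 = N2054 := rfl
theorem L17800 : sm ga N2054 = N2054 := ded_10_1 (flp_c L17798) L15801 L17798
theorem L17801 : sm ge N2054 = N2054 := ded_25_2 (flp_c L17798) L15802 L17798
theorem L17802 : sm gh N2054 = N2054 := ded_28_2 (flp_c L17798) L15803 L17798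
theorem L17803 : sm gd N2054 = N1867 := ded_24_2 (flp_c L16159) (flp_d L14281) (flp_c L14029) L15799 L17798
theorem L17805 : sm gi N1822 = N2055 := rfl
theorem L17807 : sm ga N2055 = N2055 := ded_16_1 (flp_i L17805) L15801 L17805
theorem L17808 : sm gd N2055 = N1823 := ded_34_1 (flp_i L15804) L15799 L17805
theorem L17810 : sm ge N2055 = N2055 := ded_38_1 (flp_i L17805) L15802 L17805
theorem L17811 : sm gf N1825 = N2056 := rfl
theorem L17813 : sm ga N2056 = N1906 := ded_13_1 L16491 (flp_a L15827) L17811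
theorem L17815 : sm gb N2056 = N1826 := ded_20_1 (flp_f L15830) L15820 L17811
theorem L17817 : sm gc N2056 = N2056 := ded_26_1 (flp_f L17811) L15829 L17811
theorem L17818 : sm gd N2056 = N1904 := ded_31_1 L16475 (flp_d L15822) L17811
theorem L17820 : sm gi N2056 = N1844 := ded_41_2 (flp_f L15985) (flp_i L15825) L17811
theorem L17822 : sm gg N1905 = N2056 := ded_21_0 L17815 (flp_g L15840) (flp_b L16483)
theorem L17824 : sm ge N1826 = N2057 := rfl
theorem L17826 : sm ga N2057 = N1831 := ded_12_1 (flp_e L15879) (flp_a L15832) L17824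
theorem L17828 : sm gc N2057 = N1828 := ded_25_1 (flp_e L15849) (flp_c L15834) L17824
theorem L17830 : sm gg N2057 = N1853 := ded_36_2 L16065 L15840 L17824
theorem L17832 : sm gi N2057 = N1845 := ded_38_2 (flp_e L15992) (flp_i L15838) L17824
theorem L17834 : sm gd N2057 = N1854 := ded_30_1 L16071 L14216 L14742 (flp_d L15836) L17824
theorem L17836 : sm gh N1826 = N2058 := rfl
theorem L17838 : sm ga N2058 = N1833 := ded_15_1 (flp_h L15896) (flp_a L15832) L17836
theorem L17840 : sm gc N2058 = N1829 := ded_28_1 (flp_h L15860) (flp_c L15834) L17836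
theorem L17842 : sm gf N2058 = N1827 := ded_40_1 (flp_h L15842) L15830 L17836
theorem L17844 : sm gg N2058 = N1908 := ded_42_1 (flp_h L16501) L15840 L17836
theorem L17846 : sm gi N1827 = N2059 := rfl
theorem L17848 : sm ga N2059 = N1835 := ded_16_1 (flp_i L15910) (flp_a L15844) L17846
theorem L17850 : sm gc N2059 = N1830 := ded_29_1 (flp_i L15870) (flp_c L15846) L17846
theorem L17852 : sm gg N2059 = N2059 := ded_43_1 (flp_i L17846) L15848 L17846
theorem L17853 : sm gh N2059 = N1848 := ded_44_1 (flp_i L16017) (flp_h L14167) (flp_i L14055) L15842 L17846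
theorem L17855 : sm gh N1828 = N2060 := rfl
theorem L17857 : sm ga N2060 = N1837 := ded_15_1 (flp_h L15929) (flp_a L15851) L17855
theorem L17859 : sm gb N2060 = N2060 := ded_22_1 (flp_h L17855) L15853 L17855
theorem L17860 : sm ge N2060 = N1829 := ded_37_1 (flp_h L15860) L15849 L17855
theorem L17862 : sm gg N2060 = N1870 := ded_42_1 (flp_h L16180) (flp_g L15854) L17855
theorem L17864 : sm gi N1829 = N2061 := rfl
theorem L17866 : sm ga N2061 = N1839 := ded_16_1 (flp_i L15945) (flp_a L15862) L17864
theorem L17868 : sm gb N2061 = N2061 := ded_23_1 (flp_i L17864) L15864 L17864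
theorem L17869 : sm gd N2061 = N2061 := ded_34_1 (flp_i L17864) L15869 L17864
theorem L17870 : sm gf N2061 = N1830 := ded_41_1 (flp_i L15870) (flp_f L15865) L17864
theorem L17872 : sm gg N2061 = N1913 := ded_43_1 (flp_i L16526) (flp_g L15867) L17864
theorem L17874 : sm gh N2061 = N1852 := ded_44_1 (flp_i L16052) (flp_h L14191) (flp_i L14066) L15860 L17864
theorem L17876 : sm gd N1831 = N2062 := rfl
theorem L17878 : sm ga N2062 = N1854 := ded_11_1 (flp_d L17834) L17826 L17876
theorem L17880 : sm gi N2062 = N1853 := ded_34_2 (flp_d L16061) (flp_i L15883) L17876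
theorem L17882 : sm gc N2062 = N1849 := ded_24_1 L16029 L14317 (flp_d L14096) (flp_c L15881) L17876
theorem L17884 : sm ge N2062 = N1846 := ded_30_2 L16004 (flp_e L14746) (flp_d L14081) L15879 L17876
theorem L17886 : sm gg N1845 = N2062 := ded_14_0 L17878 (flp_g L16067) (flp_a L15994)
theorem L17888 : sm gg N1831 = N2063 := rfl
theorem L17890 : sm ga N2063 = N1853 := ded_14_1 (flp_g L17830) L17826 L17888
theorem L17892 : sm gc N2063 = N1836 := ded_27_1 (flp_g L15917) (flp_c L15881) L17888
theorem L17894 : sm gd N2063 = N1845 := ded_32_1 L17886 (flp_d L17876) L17888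
theorem L17896 : sm ge N2063 = N1832 := ded_36_1 (flp_g L15885) L15879 L17888
theorem L17898 : sm gi N2063 = N1854 := ded_43_2 (flp_g L16067) (flp_i L15883) L17888
theorem L17900 : sm gh N1831 = N2064 := rfl
theorem L17902 : sm gc N2064 = N1837 := ded_28_1 (flp_h L15929) (flp_c L15881) L17900
theorem L17904 : sm ge N2064 = N1833 := ded_37_1 (flp_h L15896) L15879 L17900
theorem L17906 : sm gh N1832 = N2065 := rfl
theorem L17908 : sm ga N2065 = N1908 := ded_15_1 (flp_h L16501) (flp_a L15887) L17906
theorem L17910 : sm gc N2065 = N1838 := ded_28_1 (flp_h L15935) (flp_c L15889) L17906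
theorem L17912 : sm gf N2065 = N2065 := ded_40_1 (flp_h L17906) L15895 L17906
theorem L17913 : sm gg N2065 = N1833 := ded_42_1 (flp_h L15896) L15885 L17906
theorem L17915 : sm gd N1833 = N2066 := rfl
theorem L17917 : sm gb N2066 = N1847 := ded_18_1 (flp_d L17479) L17473 L17915
theorem L17919 : sm gf N2066 = N1834 := ded_31_2 (flp_d L15902) (flp_f L15900) L17915
theorem L17921 : sm gc N2066 = N2066 := ded_24_1 (flp_d L17915) L15898 L14115 (flp_c L15898) L17915
theorem L17922 : sm gh N2066 = N1844 := ded_33_2 L15990 (flp_h L14768) (flp_d L14081) L15896 L17915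
theorem L17924 : sm gi N1833 = N2067 := rfl
theorem L17926 : sm gc N2067 = N1839 := ded_29_1 (flp_i L15945) (flp_c L15898) L17924
theorem L17928 : sm gf N2067 = N1835 := ded_41_1 (flp_i L15910) (flp_f L15900) L17924
theorem L17930 : sm gh N2067 = N1858 := ded_44_1 (flp_i L16094) (flp_h L14219) (flp_i L14083) L15896 L17924
theorem L17932 : sm gi N1834 = N2068 := rfl
theorem L17934 : sm gb N2068 = N1848 := ded_23_1 (flp_i L16017) (flp_b L15904) L17932
theorem L17936 : sm gc N2068 = N2068 := ded_29_1 (flp_i L17932) L15907 L17932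
theorem L17937 : sm gd N2068 = N1835 := ded_34_1 (flp_i L15910) L15902 L17932
theorem L17939 : sm gg N2068 = N2068 := ded_43_1 (flp_i L17932) L15906 L17932
theorem L17940 : sm gh N1836 = N2069 := rfl
theorem L17942 : sm ga N2069 = N1870 := ded_15_1 (flp_h L16180) (flp_a L15919) L17940
theorem L17944 : sm gb N2069 = N1840 := ded_22_1 (flp_h L15954) (flp_b L15921) L17940
theorem L17946 : sm ge N2069 = N1838 := ded_37_1 (flp_h L15935) (flp_e L15925) L17940
theorem L17948 : sm gg N2069 = N1837 := ded_42_1 (flp_h L15929) L15917 L17940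
theorem L17950 : sm gd N1837 = N2070 := rfl
theorem L17952 : sm gb N2070 = N1841 := ded_18_1 (flp_d L15961) (flp_b L15931) L17950
theorem L17954 : sm gf N2070 = N1862 := ded_31_2 (flp_d L17070) L17066 L17950
theorem L17956 : sm ge N2070 = N2070 := ded_30_2 (flp_d L17950) L15933 L14115 (flp_e L15933) L17950
theorem L17957 : sm gh N2070 = N1861 := ded_33_2 L16118 (flp_h L14335) (flp_d L14096) L15929 L17950
theorem L17959 : sm gi N1837 = N2071 := rfl
theorem L17961 : sm gb N2071 = N1842 := ded_23_1 (flp_i L15969) (flp_b L15931) L17959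
theorem L17963 : sm ge N2071 = N1839 := ded_38_1 (flp_i L15945) (flp_e L15933) L17959
theorem L17965 : sm gh N2071 = N1864 := ded_44_1 (flp_i L16137) (flp_h L14245) (flp_i L14094) L15929 L17959
theorem L17967 : sm gi N1838 = N2072 := rfl
theorem L17969 : sm ga N2072 = N1913 := ded_16_1 (flp_i L16526) (flp_a L15937) L17967
theorem L17971 : sm gb N2072 = N1843 := ded_23_1 (flp_i L15976) (flp_b L15939) L17967
theorem L17973 : sm gd N2072 = N2072 := ded_34_1 (flp_i L17967) L15944 L17967
theorem L17974 : sm gf N2072 = N2072 := ded_41_1 (flp_i L17967) L15941 L17967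
theorem L17975 : sm gg N2072 = N1839 := ded_43_1 (flp_i L15945) (flp_g L15942) L17967
theorem L17977 : sm gh N2072 = N1865 := ded_44_1 (flp_i L16143) (flp_h L14251) (flp_i L14106) L15935 L17967
theorem L17979 : sm gi N1840 = N2073 := rfl
theorem L17981 : sm ga N2073 = N2073 := ded_16_1 (flp_i L17979) L15956 L17979
theorem L17982 : sm ge N2073 = N1843 := ded_38_1 (flp_i L15976) (flp_e L15957) L17979
theorem L17984 : sm gg N2073 = N1842 := ded_43_1 (flp_i L15969) (flp_g L15959) L17979
theorem L17986 : sm gh N2073 = N1866 := ded_44_1 (flp_i L16152) (flp_h L14274) (flp_i L14131) L15954 L17979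
theorem L17988 : sm gi N1841 = N2074 := rfl
theorem L17990 : sm ga N2074 = N2074 := ded_16_1 (flp_i L17988) L15963 L17988
theorem L17991 : sm gd N2074 = N1842 := ded_34_1 (flp_i L15969) L15961 L17988
theorem L17993 : sm ge N2074 = N2074 := ded_38_1 (flp_i L17988) L15966 L17988
theorem L17994 : sm gf N2074 = N1866 := ded_41_1 (flp_i L16152) (flp_f L15964) L17988
theorem L17996 : sm ge N1844 = N2075 := rfl
theorem L17998 : sm gb N2075 = N1845 := ded_19_1 (flp_e L15992) (flp_b L15987) L17996
theorem L18000 : sm gc N2075 = N2075 := ded_25_1 (flp_e L17996) L15989 L17996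
theorem L18001 : sm gg N1844 = N2076 := rfl
theorem L18003 : sm ga N2076 = N1909 := ded_14_1 L17579 L17570 L18001
theorem L18005 : sm gb N2076 = N1846 := ded_21_1 (flp_g L15998) (flp_b L15987) L18001
theorem L18007 : sm gc N2076 = N2076 := ded_27_1 (flp_g L18001) L15989 L18001
theorem L18008 : sm gd N2076 = N1899 := ded_32_1 (flp_g L16402) (flp_d L15990) L18001
theorem L18010 : sm gi N2076 = N1905 := ded_43_2 L17822 L17820 L18001
theorem L18012 : sm gf N2076 = N2076 := ded_39_1 (flp_g L18001) (flp_f L15985) L14157 L15985 L18001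
theorem L18013 : sm gh N1845 = N2077 := rfl
theorem L18015 : sm ga N2077 = N1855 := ded_15_1 (flp_h L16073) (flp_a L15994) L18013
theorem L18017 : sm gc N2077 = N1850 := ded_28_1 (flp_h L16035) (flp_c L15996) L18013
theorem L18019 : sm ge N2077 = N1847 := ded_37_1 (flp_h L16009) L15992 L18013
theorem L18021 : sm gh N1846 = N2078 := rfl
theorem L18023 : sm ga N2078 = N1856 := ded_15_1 (flp_h L16079) (flp_a L16000) L18021
theorem L18025 : sm gc N2078 = N1851 := ded_28_1 (flp_h L16042) (flp_c L16002) L18021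
theorem L18027 : sm gf N2078 = N2078 := ded_40_1 (flp_h L18021) L16008 L18021
theorem L18028 : sm gg N2078 = N1847 := ded_42_1 (flp_h L16009) L15998 L18021
theorem L18030 : sm gi N1847 = N2079 := rfl
theorem L18032 : sm ga N2079 = N1858 := ded_16_1 (flp_i L16094) (flp_a L16011) L18030
theorem L18034 : sm gc N2079 = N1852 := ded_29_1 (flp_i L16052) (flp_c L16013) L18030
theorem L18036 : sm gf N2079 = N1848 := ded_41_1 (flp_i L16017) (flp_f L16015) L18030
theorem L18038 : sm gh N1849 = N2080 := rfl
theorem L18040 : sm ga N2080 = N1862 := ded_15_1 (flp_h L16121) (flp_a L16026) L18038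
theorem L18042 : sm gb N2080 = N2080 := ded_22_1 (flp_h L18038) L16028 L18038
theorem L18043 : sm ge N2080 = N1851 := ded_37_1 (flp_h L16042) (flp_e L16031) L18038
theorem L18045 : sm gg N2080 = N1850 := ded_42_1 (flp_h L16035) L16024 L18038
theorem L18047 : sm gd N1850 = N2081 := rfl
theorem L18049 : sm ga N2081 = N1863 := ded_11_1 (flp_d L16129) (flp_a L16037) L18047
theorem L18051 : sm gb N2081 = N2081 := ded_18_1 (flp_d L18047) L16039 L18047
theorem L18052 : sm ge N2081 = N1879 := ded_30_2 (flp_d L16244) L14425 (flp_d L14198) (flp_e L16040) L18047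
theorem L18054 : sm gh N2081 = N1869 := ded_33_2 (flp_d L16173) (flp_h L14343) (flp_d L14179) L16035 L18047
theorem L18056 : sm gi N1850 = N2082 := rfl
theorem L18058 : sm ga N2082 = N1864 := ded_16_1 (flp_i L16137) (flp_a L16037) L18056
theorem L18060 : sm gb N2082 = N2082 := ded_23_1 (flp_i L18056) L16039 L18056
theorem L18061 : sm ge N2082 = N1852 := ded_38_1 (flp_i L16052) (flp_e L16040) L18056
theorem L18063 : sm gi N1851 = N2083 := rfl
theorem L18065 : sm ga N2083 = N1865 := ded_16_1 (flp_i L16143) (flp_a L16044) L18063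
theorem L18067 : sm gb N2083 = N2083 := ded_23_1 (flp_i L18063) L16046 L18063
theorem L18068 : sm gd N2083 = N1881 := ded_34_1 (flp_i L16261) (flp_d L16050) L18063
theorem L18070 : sm gf N2083 = N2083 := ded_41_1 (flp_i L18063) L16047 L18063
theorem L18071 : sm gg N2083 = N1852 := ded_43_1 (flp_i L16052) (flp_g L16048) L18063
theorem L18073 : sm gh N2083 = N1913 := ded_44_1 (flp_i L16526) (flp_h L14807) (flp_i L14188) L16042 L18063
theorem L18075 : sm gh N1853 = N2084 := rfl
theorem L18077 : sm gc N2084 = N1870 := ded_28_1 (flp_h L16180) (flp_c L16063) L18075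
theorem L18079 : sm ge N2084 = N1908 := ded_37_1 (flp_h L16501) (flp_e L16065) L18075
theorem L18081 : sm gf N1854 = N2085 := rfl
theorem L18083 : sm gc N2085 = N1861 := ded_26_1 (flp_f L16114) (flp_c L16069) L18081
theorem L18085 : sm ge N2085 = N2085 := ded_35_1 (flp_f L18081) L16071 L14218 (flp_e L16071) L18081
theorem L18086 : sm gh N1854 = N2086 := rfl
theorem L18088 : sm gc N2086 = N1862 := ded_28_1 (flp_h L16121) (flp_c L16069) L18086
theorem L18090 : sm ge N2086 = N1856 := ded_37_1 (flp_h L16079) (flp_e L16071) L18086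
theorem L18092 : sm gg N2086 = N1855 := ded_42_1 (flp_h L16073) L16067 L18086
theorem L18094 : sm gd N1855 = N2087 := rfl
theorem L18096 : sm gi N1855 = N2088 := rfl
theorem L18098 : sm gc N2088 = N1864 := ded_29_1 (flp_i L16137) (flp_c L16075) L18096
theorem L18100 : sm ge N2088 = N1858 := ded_38_1 (flp_i L16094) (flp_e L16077) L18096
theorem L18102 : sm gd N1856 = N2089 := rfl
theorem L18104 : sm gf N2089 = N2089 := ded_31_2 (flp_d L18102) L16083 L18102
theorem L18105 : sm gg N2089 = N1857 := ded_32_2 (flp_d L16086) (flp_g L16084) L18102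
theorem L18107 : sm gc N2089 = N1885 := ded_24_1 (flp_d L16293) L14464 (flp_d L14258) (flp_c L16081) L18102
theorem L18109 : sm gh N2089 = N1910 := ded_33_2 (flp_d L16510) (flp_h L14788) (flp_d L14216) L16079 L18102
theorem L18111 : sm gi N1856 = N2090 := rfl
theorem L18113 : sm gc N2090 = N1865 := ded_29_1 (flp_i L16143) (flp_c L16081) L18111
theorem L18115 : sm gf N2090 = N2090 := ded_41_1 (flp_i L18111) L16083 L18111
theorem L18116 : sm gg N2090 = N1858 := ded_43_1 (flp_i L16094) (flp_g L16084) L18111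
theorem L18118 : sm ge N1857 = N2091 := rfl
theorem L18120 : sm gc N2091 = N1887 := ded_25_1 (flp_e L16310) (flp_c L16090) L18118
theorem L18122 : sm gh N2091 = N1911 := ded_37_2 (flp_e L16517) (flp_h L16092) L18118
theorem L18124 : sm gi N1857 = N2092 := rfl
theorem L18126 : sm gc N2092 = N1888 := ded_29_1 (flp_i L16315) (flp_c L16090) L18124
theorem L18128 : sm gd N2092 = N1858 := ded_34_1 (flp_i L16094) L16086 L18124
theorem L18130 : sm gf N2092 = N1860 := ded_41_1 (flp_i L16107) (flp_f L16088) L18124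
theorem L18132 : sm gf N1859 = N2093 := rfl
theorem L18134 : sm gc N2093 = N1889 := ded_26_1 (flp_f L16322) (flp_c L16102) L18132
theorem L18136 : sm gh N2093 = N1912 := ded_40_2 (flp_f L16521) (flp_h L16105) L18132
theorem L18138 : sm gi N1859 = N2094 := rfl
theorem L18140 : sm gc N2094 = N1890 := ded_29_1 (flp_i L16328) (flp_c L16102) L18138
theorem L18142 : sm ge N2094 = N1860 := ded_38_1 (flp_i L16107) L16100 L18138
theorem L18144 : sm gg N2094 = N2094 := ded_43_1 (flp_i L18138) L16104 L18138
theorem L18145 : sm gi N1862 = N2095 := rfl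
theorem L18147 : sm gb N2095 = N1866 := ded_23_1 (flp_i L16152) (flp_b L16123) L18145
theorem L18149 : sm ge N2095 = N1865 := ded_38_1 (flp_i L16143) (flp_e L16125) L18145
theorem L18151 : sm gg N2095 = N1864 := ded_43_1 (flp_i L16137) (flp_g L16127) L18145
theorem L18153 : sm gc N1863 = N2096 := rfl
theorem L18155 : sm ge N2096 = N1892 := ded_25_2 (flp_c L16344) (flp_e L16133) L18153
theorem L18157 : sm gh N2096 = N1872 := ded_28_2 (flp_c L16189) (flp_h L16135) L18153
theorem L18159 : sm gi N1863 = N2097 := rfl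
theorem L18161 : sm gb N2097 = N1868 := ded_23_1 (flp_i L16166) (flp_b L16131) L18159
theorem L18163 : sm gd N2097 = N1864 := ded_34_1 (flp_i L16137) L16129 L18159
theorem L18165 : sm ge N2097 = N1893 := ded_38_1 (flp_i L16349) (flp_e L16133) L18159
theorem L18167 : sm gb N1867 = N2098 := rfl
theorem L18169 : sm ge N2098 = N1894 := ded_19_2 (flp_b L16356) (flp_e L16162) L18167
theorem L18171 : sm gh N2098 = N1873 := ded_22_2 (flp_b L16193) (flp_h L16164) L18167
theorem L18173 : sm gi N1867 = N2099 := rfl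
theorem L18175 : sm ga N2099 = N2099 := ded_16_1 (flp_i L18173) L16161 L18173
theorem L18176 : sm gc N2099 = N1868 := ded_29_1 (flp_i L16166) L16159 L18173
theorem L18178 : sm ge N2099 = N1895 := ded_38_1 (flp_i L16362) (flp_e L16162) L18173
theorem L18180 : sm gc N1869 = N2100 := rfl
theorem L18182 : sm ga N2100 = N1872 := ded_10_1 (flp_c L16189) (flp_a L16175) L18180
theorem L18184 : sm ge N2100 = N1896 := ded_25_2 (flp_c L16369) (flp_e L16178) L18180
theorem L18186 : sm gd N1870 = N2101 := rfl
theorem L18188 : sm gb N2101 = N2101 := ded_18_1 (flp_d L18186) L16182 L18186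
theorem L18189 : sm ge N2101 = N2101 := ded_30_2 (flp_d L18186) L16183 L14811 (flp_e L16183) L18186
theorem L18190 : sm gh N2101 = N1871 := ded_33_2 (flp_d L16185) (flp_h L14355) L14350 L16180 L18186
theorem L18192 : sm gi N1870 = N2102 := rfl
theorem L18194 : sm gb N2102 = N2102 := ded_23_1 (flp_i L18192) L16182 L18192
theorem L18195 : sm ge N2102 = N1913 := ded_38_1 (flp_i L16526) (flp_e L16183) L18192
theorem L18197 : sm gc N1871 = N2103 := rfl
theorem L18199 : sm ge N2103 = N2103 := ded_25_2 (flp_c L18197) L16188 L18197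
theorem L18200 : sm gd N2103 = N1872 := ded_24_2 (flp_c L16189) (flp_d L14362) (flp_c L14358) L16185 L18197
theorem L18202 : sm gb N1872 = N2104 := rfl
theorem L18204 : sm ge N2104 = N1897 := ded_19_2 (flp_b L16375) (flp_e L16191) L18202
theorem L18206 : sm gc N2104 = N1873 := ded_17_2 (flp_b L16193) (flp_c L14368) (flp_b L14364) L16189 L18202
theorem L18208 : sm ga N1873 = N2105 := rfl
theorem L18210 : sm gd N2105 = N2105 := ded_11_2 (flp_a L18208) L16195 L18208
theorem L18211 : sm ge N2105 = N1898 := ded_12_2 (flp_a L16381) (flp_e L16196) L18208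
theorem L18213 : sm gg N2105 = N1915 := ded_14_2 (flp_a L16684) L16688 L18208
theorem L18215 : sm gb N2105 = N2105 := ded_9_2 (flp_a L18208) (flp_b L16193) L14370 L16193 L18208
theorem L18216 : sm gh N1874 = N2106 := rfl
theorem L18218 : sm ga N2106 = N1882 := ded_15_1 (flp_h L16270) (flp_a L16200) L18216
theorem L18220 : sm gc N2106 = N1878 := ded_28_1 (flp_h L16235) (flp_c L16202) L18216
theorem L18222 : sm ge N2106 = N1876 := ded_37_1 (flp_h L16217) (flp_e L16205) L18216
theorem L18224 : sm gg N2106 = N1875 := ded_42_1 (flp_h L16208) L16198 L18216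
theorem L18226 : sm gd N1875 = N2107 := rfl
theorem L18228 : sm ga N2107 = N1883 := ded_11_1 (flp_d L16279) (flp_a L16210) L18226
theorem L18230 : sm gf N2107 = N2107 := ded_31_2 (flp_d L18226) L16216 L18226
theorem L18231 : sm gh N2107 = N2107 := ded_33_2 (flp_d L18226) (flp_h L16208) L14381 L16208 L18226
theorem L18232 : sm gi N1875 = N2108 := rfl
theorem L18234 : sm ga N2108 = N1884 := ded_16_1 (flp_i L16284) (flp_a L16210) L18232
theorem L18236 : sm gc N2108 = N1880 := ded_29_1 (flp_i L16252) (flp_c L16212) L18232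
theorem L18238 : sm ge N2108 = N1877 := ded_38_1 (flp_i L16226) (flp_e L16214) L18232
theorem L18240 : sm gf N2108 = N2108 := ded_41_1 (flp_i L18232) L16216 L18232
theorem L18241 : sm gh N2108 = N2108 := ded_44_1 (flp_i L18232) (flp_h L16208) L14380 L16208 L18232
theorem L18242 : sm gi N1876 = N2109 := rfl
theorem L18244 : sm ga N2109 = N1886 := ded_16_1 (flp_i L16301) (flp_a L16219) L18242
theorem L18246 : sm gc N2109 = N1881 := ded_29_1 (flp_i L16261) (flp_c L16221) L18242
theorem L18248 : sm gf N2109 = N2109 := ded_41_1 (flp_i L18242) L16223 L18242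
theorem L18249 : sm gg N2109 = N1877 := ded_43_1 (flp_i L16226) (flp_g L16224) L18242
theorem L18251 : sm gh N2109 = N2109 := ded_44_1 (flp_i L18242) (flp_h L16217) L14391 L16217 L18242
theorem L18252 : sm gi N1878 = N2110 := rfl
theorem L18254 : sm ga N2110 = N1891 := ded_16_1 (flp_i L16335) (flp_a L16237) L18252
theorem L18256 : sm gb N2110 = N2110 := ded_23_1 (flp_i L18252) L16239 L18252
theorem L18257 : sm ge N2110 = N1881 := ded_38_1 (flp_i L16261) (flp_e L16240) L18252
theorem L18259 : sm gg N2110 = N1880 := ded_43_1 (flp_i L16252) (flp_g L16242) L18252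
theorem L18261 : sm gh N2110 = N2110 := ded_44_1 (flp_i L18252) (flp_h L16235) L14419 L16235 L18252
theorem L18262 : sm gc N1879 = N2111 := rfl
theorem L18264 : sm ga N2111 = N1892 := ded_10_1 (flp_c L16344) (flp_a L16246) L18262
theorem L18266 : sm gf N2111 = N2111 := ded_26_2 (flp_c L18262) L16249 L18262
theorem L18267 : sm gh N2111 = N1896 := ded_28_2 (flp_c L16369) (flp_h L16250) L18262
theorem L18269 : sm gi N1879 = N2112 := rfl
theorem L18271 : sm ga N2112 = N1893 := ded_16_1 (flp_i L16349) (flp_a L16246) L18269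
theorem L18273 : sm gb N2112 = N2112 := ded_23_1 (flp_i L18269) L16248 L18269
theorem L18274 : sm gd N2112 = N1880 := ded_34_1 (flp_i L16252) L16244 L18269
theorem L18276 : sm gf N2112 = N2112 := ded_41_1 (flp_i L18269) L16249 L18269
theorem L18277 : sm gd N1882 = N2113 := rfl
theorem L18279 : sm gb N2113 = N2113 := ded_18_1 (flp_d L18277) L16272 L18277
theorem L18280 : sm gg N2113 = N1883 := ded_32_2 (flp_d L16279) (flp_g L16277) L18277
theorem L18282 : sm gh N2113 = N2113 := ded_33_2 (flp_d L18277) (flp_h L16270) L14449 L16270 L18277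
theorem L18283 : sm gi N1882 = N2114 := rfl
theorem L18285 : sm gb N2114 = N2114 := ded_23_1 (flp_i L18283) L16272 L18283
theorem L18286 : sm gc N2114 = N1891 := ded_29_1 (flp_i L16335) (flp_c L16273) L18283
theorem L18288 : sm ge N2114 = N1886 := ded_38_1 (flp_i L16301) (flp_e L16275) L18283
theorem L18290 : sm gg N2114 = N1884 := ded_43_1 (flp_i L16284) (flp_g L16277) L18283
theorem L18292 : sm gh N2114 = N2114 := ded_44_1 (flp_i L18283) (flp_h L16270) L14452 L16270 L18283
theorem L18293 : sm gc N1883 = N2115 := rfl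
theorem L18295 : sm gf N2115 = N2115 := ded_26_2 (flp_c L18293) L16282 L18293
theorem L18296 : sm gh N2115 = N2115 := ded_28_2 (flp_c L18293) L16283 L18293
theorem L18297 : sm gd N2115 = N1892 := ded_24_2 (flp_c L16344) (flp_d L14505) (flp_c L14456) L16279 L18293
theorem L18299 : sm ge N1883 = N2116 := rfl
theorem L18301 : sm gb N2116 = N2116 := ded_19_1 (flp_e L18299) L16281 L18299
theorem L18302 : sm gh N2116 = N2116 := ded_37_2 (flp_e L18299) L16283 L18299
theorem L18303 : sm gd N2116 = N1887 := ded_30_1 (flp_e L16310) (flp_d L14469) (flp_e L14458) L16279 L18299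
theorem L18305 : sm gi N1883 = N2117 := rfl
theorem L18307 : sm gb N2117 = N2117 := ded_23_1 (flp_i L18305) L16281 L18305
theorem L18308 : sm gd N2117 = N1884 := ded_34_1 (flp_i L16284) L16279 L18305
theorem L18310 : sm gf N2117 = N2117 := ded_41_1 (flp_i L18305) L16282 L18305
theorem L18311 : sm ge N1885 = N2118 := rfl
theorem L18313 : sm gb N2118 = N2118 := ded_19_1 (flp_e L18311) L16295 L18311
theorem L18314 : sm gg N2118 = N1887 := ded_36_2 (flp_e L16310) (flp_g L16297) L18311
theorem L18316 : sm gh N2118 = N1914 := ded_37_2 (flp_e L16531) (flp_h L16299) L18311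
theorem L18318 : sm gi N1885 = N2119 := rfl
theorem L18320 : sm gb N2119 = N2119 := ded_23_1 (flp_i L18318) L16295 L18318
theorem L18321 : sm gd N2119 = N1886 := ded_34_1 (flp_i L16301) L16293 L18318
theorem L18323 : sm gf N2119 = N2119 := ded_41_1 (flp_i L18318) L16296 L18318
theorem L18324 : sm gg N2119 = N1888 := ded_43_1 (flp_i L16315) (flp_g L16297) L18318
theorem L18326 : sm gf N1887 = N2120 := rfl
theorem L18328 : sm gb N2120 = N2120 := ded_20_1 (flp_f L18326) L16312 L18326
theorem L18329 : sm gh N2120 = N1915 := ded_40_2 (flp_f L16537) (flp_h L16313) L18326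
theorem L18331 : sm ge N2120 = N1889 := ded_35_1 (flp_f L16322) (flp_e L14484) (flp_f L14472) L16310 L18326
theorem L18333 : sm gi N1887 = N2121 := rfl
theorem L18335 : sm gb N2121 = N2121 := ded_23_1 (flp_i L18333) L16312 L18333
theorem L18336 : sm ge N2121 = N1888 := ded_38_1 (flp_i L16315) L16310 L18333
theorem L18338 : sm gg N1889 = N2122 := rfl
theorem L18340 : sm ga N2122 = N1894 := ded_14_1 (flp_g L16703) L16697 L18338
theorem L18342 : sm gb N2122 = N2122 := ded_21_1 (flp_g L18338) L16324 L18338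
theorem L18343 : sm gd N2122 = N2122 := ded_32_1 (flp_g L18338) L16325 L18338
theorem L18344 : sm gh N2122 = N1898 := ded_42_2 L16386 (flp_h L16326) L18338
theorem L18346 : sm gf N2122 = N2122 := ded_39_1 (flp_g L18338) (flp_f L16322) L14487 L16322 L18338
theorem L18347 : sm gi N1889 = N2123 := rfl
theorem L18349 : sm gb N2123 = N2123 := ded_23_1 (flp_i L18347) L16324 L18347
theorem L18350 : sm gd N2123 = N2123 := ded_34_1 (flp_i L18347) L16325 L18347
theorem L18351 : sm gf N2123 = N1890 := ded_41_1 (flp_i L16328) L16322 L18347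
theorem L18353 : sm gb N1892 = N2124 := rfl
theorem L18355 : sm gf N2124 = N2124 := ded_20_2 (flp_b L18353) L16346 L18353
theorem L18356 : sm gh N2124 = N1897 := ded_22_2 (flp_b L16375) (flp_h L16347) L18353
theorem L18358 : sm gc N2124 = N1894 := ded_17_2 (flp_b L16356) (flp_c L14537) (flp_b L14507) L16344 L18353
theorem L18360 : sm gi N1892 = N2125 := rfl
theorem L18362 : sm gc N2125 = N1893 := ded_29_1 (flp_i L16349) L16344 L18360
theorem L18364 : sm gf N2125 = N2125 := ded_41_1 (flp_i L18360) L16346 L18360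
theorem L18365 : sm gi N1894 = N2126 := rfl
theorem L18367 : sm gb N2126 = N1895 := ded_23_1 (flp_i L16362) L16356 L18365
theorem L18369 : sm gd N2126 = N2126 := ded_34_1 (flp_i L18365) L16358 L18365
theorem L18370 : sm gf N2126 = N2126 := ded_41_1 (flp_i L18365) L16359 L18365
theorem L18371 : sm gb N1896 = N2127 := rfl
theorem L18373 : sm gd N2127 = N2127 := ded_18_2 (flp_b L18371) L16374 L18371
theorem L18374 : sm gf N2127 = N2127 := ded_20_2 (flp_b L18371) L16373 L18371
theorem L18375 : sm gc N2127 = N2127 := ded_17_2 (flp_b L18371) (flp_c L16369) L14554 L16369 L18371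
theorem L18376 : sm ga N1897 = N2128 := rfl
theorem L18378 : sm gc N2128 = N1898 := ded_10_2 (flp_a L16381) (flp_c L16379) L18376
theorem L18380 : sm gd N2128 = N2128 := ded_11_2 (flp_a L18376) L16377 L18376
theorem L18381 : sm gf N2128 = N2128 := ded_13_2 (flp_a L18376) L16378 L18376
theorem L18382 : sm gg N2128 = N1912 := ded_14_2 (flp_a L16660) (flp_g L16669) L18376
theorem L18384 : sm gd N1902 = N2129 := rfl
theorem L18386 : sm ga N2129 = N1905 := ded_11_1 (flp_d L16481) (flp_a L16437) L18384
theorem L18388 : sm gb N2129 = N1910 := ded_18_1 (flp_d L16510) (flp_b L16439) L18384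
theorem L18390 : sm gf N2129 = N2129 := ded_31_2 (flp_d L18384) L16445 L18384
theorem L18391 : sm gg N2129 = N1906 := ded_32_2 (flp_d L16487) L16446 L18384
theorem L18393 : sm gi N2129 = N1909 := ded_34_2 (flp_d L16506) (flp_i L16443) L18384
theorem L18395 : sm gc N2129 = N2129 := ded_24_1 (flp_d L18384) L16441 L14655 (flp_c L16441) L18384
theorem L18396 : sm gh N1905 = N2130 := rfl
theorem L18398 : sm gb N2130 = N1908 := ded_22_1 (flp_h L16501) (flp_b L16483) L18396
theorem L18400 : sm gc N2130 = N2130 := ded_28_1 (flp_h L18396) L16486 L18396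
theorem L18401 : sm gf N2130 = N2130 := ded_40_1 (flp_h L18396) L16485 L18396
theorem L18402 : sm ge N1906 = N2131 := rfl
theorem L18404 : sm gb N2131 = N1911 := ded_19_1 (flp_e L16517) (flp_b L16489) L18402
theorem L18406 : sm gc N2131 = N2131 := ded_25_1 (flp_e L18402) L16493 L18402
theorem L18407 : sm gf N1907 = N2132 := rfl
theorem L18409 : sm gb N2132 = N1912 := ded_20_1 (flp_f L16521) (flp_b L16496) L18407
theorem L18411 : sm gc N2132 = N2132 := ded_26_1 (flp_f L18407) L16498 L18407
theorem L18412 : sm gd N2132 = N2132 := ded_31_1 (flp_f L18407) L16500 L18407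
theorem L18413 : sm gd N1908 = N2133 := rfl
theorem L18415 : sm gf N2133 = N2133 := ded_31_2 (flp_d L18413) L16505 L18413
theorem L18416 : sm gc N2133 = N2133 := ded_24_1 (flp_d L18413) L16503 L14811 (flp_c L16503) L18413
theorem L18417 : sm gh N2133 = N1909 := ded_33_2 (flp_d L16506) (flp_h L14781) L14776 L16501 L18413
theorem L18419 : sm gi N1908 = N2134 := rfl
theorem L18421 : sm gc N2134 = N1913 := ded_29_1 (flp_i L16526) (flp_c L16503) L18419
theorem L18423 : sm gf N2134 = N2134 := ded_41_1 (flp_i L18419) L16505 L18419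
theorem L18424 : sm ge N1909 = N2135 := rfl
theorem L18426 : sm gc N2135 = N2135 := ded_25_1 (flp_e L18424) L16509 L18424
theorem L18427 : sm gd N2135 = N1911 := ded_30_1 (flp_e L16517) (flp_d L14795) (flp_e L14785) L16506 L18424
theorem L18429 : sm ge N1910 = N2136 := rfl
theorem L18431 : sm gc N2136 = N1914 := ded_25_1 (flp_e L16531) (flp_c L16515) L18429
theorem L18433 : sm gg N2136 = N1911 := ded_36_2 (flp_e L16517) (flp_g L16513) L18429
theorem L18435 : sm gf N1911 = N2137 := rfl
theorem L18437 : sm gc N2137 = N1915 := ded_26_1 (flp_f L16537) (flp_c L16519) L18435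
theorem L18439 : sm ge N2137 = N1912 := ded_35_1 (flp_f L16521) (flp_e L14801) (flp_f L14797) L16517 L18435
theorem L18441 : sm gf N1914 = N2138 := rfl
theorem L18443 : sm gb N2138 = N2138 := ded_20_1 (flp_f L18441) L16533 L18441
theorem L18444 : sm gd N2138 = N2138 := ded_31_1 (flp_f L18441) L16536 L18441
theorem L18445 : sm ge N2138 = N2138 := ded_35_1 (flp_f L18441) (flp_e L16531) L14815 L16531 L18441
theorem L18446 : sm gb N1916 = N2139 := rfl
theorem L18448 : sm gd N2139 = N2139 := ded_18_2 (flp_b L18446) L16550 L18446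
theorem L18449 : sm ge N2139 = N2139 := ded_19_2 (flp_b L18446) L16547 L18446
theorem L18450 : sm gg N2139 = N2139 := ded_21_2 (flp_b L18446) L16548 L18446
theorem L18451 : sm gi N2139 = N2139 := ded_23_2 (flp_b L18446) L16549 L18446
theorem L18452 : sm ga N2139 = N2139 := ded_9_1 (flp_b L18446) L16545 L14850 (flp_a L16545) L18446
theorem L18453 : sm gc N2139 = N2139 := ded_17_2 (flp_b L18446) (flp_c L16543) L14831 L16543 L18446
theorem L18454 : sm gf N1916 = N2140 := rfl
theorem L18456 : sm ga N2140 = N1920 := ded_13_1 (flp_f L16579) (flp_a L16545) L18454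
theorem L18458 : sm gc N2140 = N1917 := ded_26_1 (flp_f L16551) L16543 L18454
theorem L18460 : sm gd N2140 = N2140 := ded_31_1 (flp_f L18454) L16550 L18454
theorem L18461 : sm gi N2140 = N2140 := ded_41_2 (flp_f L18454) L16549 L18454
theorem L18462 : sm gh N1916 = N2141 := rfl
theorem L18464 : sm ga N2141 = N1921 := ded_15_1 (flp_h L16586) (flp_a L16545) L18462
theorem L18466 : sm gc N2141 = N1918 := ded_28_1 (flp_h L16559) L16543 L18462
theorem L18468 : sm ge N2141 = N2141 := ded_37_1 (flp_h L18462) L16547 L18462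
theorem L18469 : sm gg N2141 = N2141 := ded_42_1 (flp_h L18462) L16548 L18462
theorem L18470 : sm ge N1917 = N2142 := rfl
theorem L18472 : sm ga N2142 = N1922 := ded_12_1 (flp_e L16593) (flp_a L16553) L18470
theorem L18474 : sm gb N2142 = N2142 := ded_19_1 (flp_e L18470) L16555 L18470
theorem L18475 : sm gi N2142 = N2142 := ded_38_2 (flp_e L18470) L16558 L18470
theorem L18476 : sm gd N2142 = N2142 := ded_30_1 (flp_e L18470) L16556 L14844 (flp_d L16556) L18470
theorem L18477 : sm gf N2142 = N2142 := ded_35_2 (flp_e L18470) (flp_f L16551) L14834 L16551 L18470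
theorem L18478 : sm gg N1917 = N2143 := rfl
theorem L18480 : sm ga N2143 = N1923 := ded_14_1 (flp_g L16600) (flp_a L16553) L18478
theorem L18482 : sm gb N2143 = N2143 := ded_21_1 (flp_g L18478) L16555 L18478
theorem L18483 : sm gd N2143 = N1919 := ded_32_1 (flp_g L16568) (flp_d L16556) L18478
theorem L18485 : sm gi N2143 = N2143 := ded_43_2 (flp_g L18478) L16558 L18478
theorem L18486 : sm gf N2143 = N2143 := ded_39_1 (flp_g L18478) (flp_f L16551) L14832 L16551 L18478
theorem L18487 : sm ge N1920 = N2143 := ded_47_3 L18483 L16573 L16572 L16575 (flp_g L15003) (flp_f L13384) (flp_e L11786) L10162 L8868 L7738 L6495 L6494 L6493 (flp_e L8009) (flp_d L9482) (flp_c L11158) (flp_b L12969) L12974 L11167 L13035 L13045 L11289 (flp_c L10646) L10644 L8998 (flp_g L7598) (flp_f L6130) (flp_e L4717) L3711 (flp_c L3704) L2915 (flp_h L2989) L2988 L2986 L3005 L3011 (flp_c L3846) (flp_b L4903) L4907 L3888 L4129 L4135 L4133 (flp_c L5151) L5149 (flp_h L5120) L6631 (flp_f L7558) (flp_e L8996) (flp_d L10661) (flp_c L12327) (flp_b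 L14000) L15768 L15773 L14009 (flp_e L13411) (flp_d L14865) (flp_c L16589) L16588 (flp_h L16586) L14848 L16579
theorem L18489 : sm gc N2143 = N1922 := ded_46_4 L16595 L14879 L16633 L16639 L16637 L14898 L13444 (flp_b L13631) (flp_a L15274) (flp_h L15272) (flp_f L13572) L11915 (flp_d L10607) L8960 (flp_b L8378) L8376 L6904 L7100 L7106 L5587 L5586 L5584 L4368 (flp_h L4920) (flp_f L4916) (flp_e L3844) L3004 (flp_c L2998) (flp_b L2906) L2905 L2910 (flp_f L2917) L3712 L3719 (flp_c L4720) (flp_b L6117) (flp_a L7562) (flp_h L8963) L10613 L10622 (flp_d L10792) (flp_c L12572) L12570 L10749 (flp_h L12192) L12188 L10442 L9128 L7677 L6224 L6223 L6229 (flp_f L7341) (flp_e L8706) (flp_d L10193) (flp_c L11826) (flp_b L13416) (flp_a L15005) (flp_h L16575) L16578 L16574 (flp_d L18483)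
theorem L18491 : sm ge N1923 = N2140 := ded_12_2 L18456 L18487 L18480
theorem L18493 : sm gg N2142 = N1920 := ded_36_0 L18487 (flp_g L18478) L18470
theorem L18495 : sm gc N2142 = N1923 := ded_10_2 (flp_a L18480) L18489 (flp_a L18472)
theorem L18497 : sm gg N1922 = N2140 := ded_27_2 L18458 L18478 L18489
theorem L18499 : sm gb N2140 = N1926 := ded_19_1 L16630 (flp_b L16602) L18491
theorem L18501 : sm gf N1926 = N2139 := ded_20_2 (flp_b L18446) L18454 L18499
theorem L18503 : sm gh N1917 = N2144 := rfl
theorem L18505 : sm ga N2144 = N1924 := ded_15_1 (flp_h L16608) (flp_a L16553) L18503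
theorem L18507 : sm gb N2144 = N2144 := ded_22_1 (flp_h L18503) L16555 L18503
theorem L18508 : sm gf N2144 = N1918 := ded_40_1 (flp_h L16559) L16551 L18503
theorem L18510 : sm gd N2144 = N1942 := ded_33_1 (flp_h L16790) L14991 (flp_h L14841) (flp_d L16556) L18503
theorem L18512 : sm gi N1918 = N2145 := rfl
theorem L18514 : sm ga N2145 = N1925 := ded_16_1 (flp_i L16616) (flp_a L16561) L18512
theorem L18516 : sm gb N2145 = N2145 := ded_23_1 (flp_i L18512) L16563 L18512
theorem L18517 : sm gd N2145 = N1943 := ded_34_1 (flp_i L16797) (flp_d L16566) L18512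
theorem L18519 : sm ge N2145 = N2145 := ded_38_1 (flp_i L18512) L16564 L18512
theorem L18520 : sm gg N2145 = N2145 := ded_43_1 (flp_i L18512) L16565 L18512
theorem L18521 : sm gh N2145 = N2145 := ded_44_1 (flp_i L18512) (flp_h L16559) L14833 L16559 L18512
theorem L18522 : sm gh N1920 = N2146 := rfl
theorem L18524 : sm gb N2146 = N2146 := ded_22_1 (flp_h L18522) L16581 L18522
theorem L18525 : sm gc N2146 = N1924 := ded_28_1 (flp_h L16608) (flp_c L16582) L18522
theorem L18527 : sm gf N2146 = N1921 := ded_40_1 (flp_h L16586) L16579 L18522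
theorem L18529 : sm gd N1921 = N2147 := rfl
theorem L18531 : sm gb N2147 = N2147 := ded_18_1 (flp_d L18529) L16588 L18529
theorem L18532 : sm gg N2147 = N2147 := ded_32_2 (flp_d L18529) L16592 L18529
theorem L18533 : sm gc N2147 = N1947 := ded_24_1 (flp_d L16833) L15024 (flp_d L14865) (flp_c L16589) L18529
theorem L18535 : sm gh N2147 = N2147 := ded_33_2 (flp_d L18529) (flp_h L16586) L14851 L16586 L18529
theorem L18536 : sm gi N1921 = N2148 := rfl
theorem L18538 : sm gb N2148 = N2148 := ded_23_1 (flp_i L18536) L16588 L18536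
theorem L18539 : sm gc N2148 = N1925 := ded_29_1 (flp_i L16616) (flp_c L16589) L18536
theorem L18541 : sm ge N2148 = N2148 := ded_38_1 (flp_i L18536) L16591 L18536
theorem L18542 : sm gg N2148 = N2148 := ded_43_1 (flp_i L18536) L16592 L18536
theorem L18543 : sm gh N2148 = N2148 := ded_44_1 (flp_i L18536) (flp_h L16586) L14849 L16586 L18536
theorem L18544 : sm gh N1922 = N2149 := rfl
theorem L18546 : sm gb N2149 = N1927 := ded_22_1 (flp_h L16633) (flp_b L16595) L18544
theorem L18548 : sm ge N2149 = N1924 := ded_37_1 (flp_h L16608) L16593 L18544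
theorem L18550 : sm gf N2149 = N2149 := ded_40_1 (flp_h L18544) L16599 L18544
theorem L18551 : sm gh N1923 = N2150 := rfl
theorem L18553 : sm gb N2150 = N1928 := ded_22_1 (flp_h L16640) (flp_b L16602) L18551
theorem L18555 : sm gf N2150 = N2150 := ded_40_1 (flp_h L18551) L16607 L18551
theorem L18556 : sm gg N2150 = N1924 := ded_42_1 (flp_h L16608) L16600 L18551
theorem L18558 : sm gd N2150 = N1951 := ded_33_1 (flp_h L16865) L15040 (flp_h L14873) (flp_d L16604) L18551
theorem L18560 : sm gi N1924 = N2151 := rfl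
theorem L18562 : sm gb N2151 = N1929 := ded_23_1 (flp_i L16649) (flp_b L16610) L18560
theorem L18564 : sm gd N2151 = N1952 := ded_34_1 (flp_i L16872) (flp_d L16614) L18560
theorem L18566 : sm gf N2151 = N1925 := ded_41_1 (flp_i L16616) (flp_f L16612) L18560
theorem L18568 : sm gh N2151 = N2151 := ded_44_1 (flp_i L18560) (flp_h L16608) L14858 L16608 L18560
theorem L18569 : sm gh N1926 = N2152 := rfl
theorem L18571 : sm ga N2152 = N2152 := ded_15_1 (flp_h L18569) L16627 L18569
theorem L18572 : sm gc N2152 = N2152 := ded_28_1 (flp_h L18569) L16628 L18569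
theorem L18573 : sm ge N2152 = N1928 := ded_37_1 (flp_h L16640) (flp_e L16630) L18569
theorem L18575 : sm gg N2152 = N1927 := ded_42_1 (flp_h L16633) L16625 L18569
theorem L18577 : sm gd N1927 = N2153 := rfl
theorem L18579 : sm ga N2153 = N2153 := ded_11_1 (flp_d L18577) L16635 L18577
theorem L18580 : sm gf N2153 = N2153 := ded_31_2 (flp_d L18577) L16639 L18577
theorem L18581 : sm ge N2153 = N1955 := ded_30_2 (flp_d L16898) L15073 (flp_d L14898) (flp_e L16637) L18577
theorem L18583 : sm gh N2153 = N2153 := ded_33_2 (flp_d L18577) (flp_h L16633) L14882 L16633 L18577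
theorem L18584 : sm gi N1927 = N2154 := rfl
theorem L18586 : sm ga N2154 = N2154 := ded_16_1 (flp_i L18584) L16635 L18584
theorem L18587 : sm gc N2154 = N2154 := ded_29_1 (flp_i L18584) L16636 L18584
theorem L18588 : sm ge N2154 = N1929 := ded_38_1 (flp_i L16649) (flp_e L16637) L18584
theorem L18590 : sm gf N2154 = N2154 := ded_41_1 (flp_i L18584) L16639 L18584
theorem L18591 : sm gh N2154 = N2154 := ded_44_1 (flp_i L18584) (flp_h L16633) L14881 L16633 L18584
theorem L18592 : sm gi N1928 = N2155 := rfl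
theorem L18594 : sm ga N2155 = N2155 := ded_16_1 (flp_i L18592) L16642 L18592
theorem L18595 : sm gc N2155 = N2155 := ded_29_1 (flp_i L18592) L16643 L18592
theorem L18596 : sm gd N2155 = N1957 := ded_34_1 (flp_i L16913) (flp_d L16647) L18592
theorem L18598 : sm gf N2155 = N2155 := ded_41_1 (flp_i L18592) L16644 L18592
theorem L18599 : sm gg N2155 = N1929 := ded_43_1 (flp_i L16649) (flp_g L16645) L18592
theorem L18601 : sm gh N2155 = N2155 := ded_44_1 (flp_i L18592) (flp_h L16640) L14890 L16640 L18592
theorem L18602 : sm ge N1930 = N2156 := rfl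
theorem L18604 : sm ga N2156 = N2137 := ded_12_1 L18439 (flp_a L16660) L18602
theorem L18606 : sm gb N2156 = N1968 := ded_19_1 (flp_e L17029) (flp_b L16662) L18602
theorem L18608 : sm gc N2156 = N1932 := ded_25_1 (flp_e L16682) (flp_c L16664) L18602
theorem L18610 : sm gg N2156 = N2104 := ded_36_2 L18204 L16669 L18602
theorem L18612 : sm gi N2156 = N1944 := ded_38_2 (flp_e L16807) (flp_i L16667) L18602
theorem L18614 : sm gf N2156 = N2015 := ded_35_2 (flp_e L17446) (flp_f L15557) (flp_e L14913) L16658 L18602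
theorem L18616 : sm gh N1930 = N2157 := rfl
theorem L18618 : sm ga N2157 = N2093 := ded_15_1 L18136 (flp_a L16660) L18616
theorem L18620 : sm gb N2157 = N1969 := ded_22_1 (flp_h L17039) (flp_b L16662) L18616
theorem L18622 : sm gc N2157 = N1933 := ded_28_1 (flp_h L16695) (flp_c L16664) L18616
theorem L18624 : sm gf N2157 = N1931 := ded_40_1 (flp_h L16671) L16658 L18616
theorem L18626 : sm gg N2157 = N2124 := ded_42_1 L18356 L16669 L18616
theorem L18628 : sm gd N1931 = N2158 := rfl
theorem L18630 : sm ga N2158 = N1992 := ded_11_1 L17239 (flp_a L16673) L18628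
theorem L18632 : sm gb N2158 = N1970 := ded_18_1 (flp_d L17047) (flp_b L16675) L18628
theorem L18634 : sm gg N2158 = N2158 := ded_32_2 (flp_d L18628) L16681 L18628
theorem L18635 : sm gc N2158 = N2158 := ded_24_1 (flp_d L18628) L16677 L14942 (flp_c L16677) L18628
theorem L18636 : sm ge N2158 = N1980 := ded_30_2 (flp_d L17137) L15250 (flp_d L15578) (flp_e L16679) L18628
theorem L18638 : sm gh N2158 = N2158 := ded_33_2 (flp_d L18628) (flp_h L16671) L14920 L16671 L18628
theorem L18639 : sm gi N1931 = N2159 := rfl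
theorem L18641 : sm ga N2159 = N2094 := ded_16_1 (flp_i L18138) (flp_a L16673) L18639
theorem L18643 : sm gb N2159 = N1971 := ded_23_1 (flp_i L17051) (flp_b L16675) L18639
theorem L18645 : sm gc N2159 = N1934 := ded_29_1 (flp_i L16706) (flp_c L16677) L18639
theorem L18647 : sm ge N2159 = N2018 := ded_38_1 (flp_i L17481) (flp_e L16679) L18639
theorem L18649 : sm gg N2159 = N2159 := ded_43_1 (flp_i L18639) L16681 L18639
theorem L18650 : sm gh N2159 = N1948 := ded_44_1 (flp_i L16839) (flp_h L15020) (flp_i L14916) L16671 L18639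
theorem L18652 : sm gh N1932 = N2160 := rfl
theorem L18654 : sm ga N2160 = N2120 := ded_15_1 L18329 (flp_a L16684) L18652
theorem L18656 : sm gb N2160 = N1935 := ded_22_1 (flp_h L16718) (flp_b L16686) L18652
theorem L18658 : sm ge N2160 = N1933 := ded_37_1 (flp_h L16695) L16682 L18652
theorem L18660 : sm gf N2160 = N2020 := ded_40_1 (flp_h L17505) (flp_f L16693) L18652
theorem L18662 : sm gg N2160 = N2098 := ded_42_1 L18171 (flp_g L16688) L18652
theorem L18664 : sm gi N1933 = N2161 := rfl
theorem L18666 : sm ga N2161 = N2123 := ded_16_1 (flp_i L18347) (flp_a L16697) L18664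
theorem L18668 : sm gb N2161 = N1936 := ded_23_1 (flp_i L16729) (flp_b L16699) L18664
theorem L18670 : sm gd N2161 = N2161 := ded_34_1 (flp_i L18664) L16705 L18664
theorem L18671 : sm gf N2161 = N1934 := ded_41_1 (flp_i L16706) (flp_f L16701) L18664
theorem L18673 : sm gg N2161 = N2126 := ded_43_1 (flp_i L18365) (flp_g L16703) L18664
theorem L18675 : sm gh N2161 = N1952 := ded_44_1 (flp_i L16872) (flp_h L15045) (flp_i L14929) L16695 L18664
theorem L18677 : sm gd N1935 = N2162 := rfl
theorem L18679 : sm ga N2162 = N2162 := ded_11_1 (flp_d L18677) L16720 L18677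
theorem L18680 : sm gf N2162 = N2024 := ded_31_2 (flp_d L17545) (flp_f L16725) L18677
theorem L18682 : sm gg N2162 = N2054 := ded_32_2 L17803 (flp_g L16727) L18677
theorem L18684 : sm gc N2162 = N2052 := ded_24_1 (flp_d L17782) L15793 (flp_d L15217) (flp_c L16721) L18677
theorem L18686 : sm ge N2162 = N2162 := ded_30_2 (flp_d L18677) L16723 L14964 (flp_e L16723) L18677
theorem L18687 : sm gh N2162 = N2162 := ded_33_2 (flp_d L18677) (flp_h L16718) L14952 L16718 L18677
theorem L18688 : sm gi N1935 = N2163 := rfl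
theorem L18690 : sm ga N2163 = N2163 := ded_16_1 (flp_i L18688) L16720 L18688
theorem L18691 : sm gc N2163 = N1974 := ded_29_1 (flp_i L17084) (flp_c L16721) L18688
theorem L18693 : sm ge N2163 = N1936 := ded_38_1 (flp_i L16729) (flp_e L16723) L18688
theorem L18695 : sm gf N2163 = N2025 := ded_41_1 (flp_i L17549) (flp_f L16725) L18688
theorem L18697 : sm gg N2163 = N2099 := ded_43_1 (flp_i L18173) (flp_g L16727) L18688
theorem L18699 : sm gh N2163 = N1956 := ded_44_1 (flp_i L16904) (flp_h L15068) (flp_i L14950) L16718 L18688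
theorem L18701 : sm gf N1937 = N2164 := rfl
theorem L18703 : sm ga N2164 = N1975 := ded_13_1 (flp_f L17097) (flp_a L16749) L18701
theorem L18705 : sm gb N2164 = N1938 := ded_20_1 (flp_f L16752) L16741 L18701
theorem L18707 : sm gc N2164 = N2164 := ded_26_1 (flp_f L18701) L16751 L18701
theorem L18708 : sm gd N2164 = N2164 := ded_31_1 (flp_f L18701) L16743 L18701
theorem L18709 : sm gi N2164 = N2132 := ded_41_2 (flp_f L18407) (flp_i L16747) L18701
theorem L18711 : sm gh N1937 = N2165 := rfl
theorem L18713 : sm ga N2165 = N1976 := ded_15_1 (flp_h L17103) (flp_a L16749) L18711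
theorem L18715 : sm gb N2165 = N1939 := ded_22_1 (flp_h L16761) L16741 L18711
theorem L18717 : sm gc N2165 = N2165 := ded_28_1 (flp_h L18711) L16751 L18711
theorem L18718 : sm ge N2165 = N2028 := ded_37_1 (flp_h L17581) (flp_e L16744) L18711
theorem L18720 : sm gg N2165 = N2165 := ded_42_1 (flp_h L18711) L16746 L18711
theorem L18721 : sm ge N1938 = N2166 := rfl
theorem L18723 : sm ga N2166 = N1944 := ded_12_1 (flp_e L16807) (flp_a L16754) L18721
theorem L18725 : sm gc N2166 = N1940 := ded_25_1 (flp_e L16770) (flp_c L16756) L18721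
theorem L18727 : sm gi N2166 = N2137 := ded_38_2 L18439 (flp_i L16759) L18721
theorem L18729 : sm gf N2166 = N2029 := ded_35_2 (flp_e L17591) (flp_f L15665) (flp_e L14980) L16752 L18721
theorem L18731 : sm gg N1938 = N2167 := rfl
theorem L18733 : sm ga N2167 = N1945 := ded_14_1 (flp_g L16815) (flp_a L16754) L18731
theorem L18735 : sm gc N2167 = N1941 := ded_27_1 (flp_g L16780) (flp_c L16756) L18731
theorem L18737 : sm gd N2167 = N2167 := ded_32_1 (flp_g L18731) L16758 L18731
theorem L18738 : sm gi N2167 = N2128 := ded_43_2 L18382 (flp_i L16759) L18731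
theorem L18740 : sm gf N2167 = N2167 := ded_39_1 (flp_g L18731) (flp_f L16752) L14982 L16752 L18731
theorem L18741 : sm gh N1938 = N2168 := rfl
theorem L18743 : sm ga N2168 = N1946 := ded_15_1 (flp_h L16825) (flp_a L16754) L18741
theorem L18745 : sm gc N2168 = N1942 := ded_28_1 (flp_h L16790) (flp_c L16756) L18741
theorem L18747 : sm gf N2168 = N1939 := ded_40_1 (flp_h L16761) L16752 L18741
theorem L18749 : sm gd N1939 = N2169 := rfl
theorem L18751 : sm ga N2169 = N1947 := ded_11_1 (flp_d L16833) (flp_a L16763) L18749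
theorem L18753 : sm gg N2169 = N2169 := ded_32_2 (flp_d L18749) L16769 L18749
theorem L18754 : sm gh N2169 = N2169 := ded_33_2 (flp_d L18749) (flp_h L16761) L14985 L16761 L18749
theorem L18755 : sm gi N1939 = N2170 := rfl
theorem L18757 : sm ga N2170 = N1948 := ded_16_1 (flp_i L16839) (flp_a L16763) L18755
theorem L18759 : sm gc N2170 = N1943 := ded_29_1 (flp_i L16797) (flp_c L16765) L18755
theorem L18761 : sm ge N2170 = N2033 := ded_38_1 (flp_i L17630) (flp_e L16767) L18755
theorem L18763 : sm gg N2170 = N2170 := ded_43_1 (flp_i L18755) L16769 L18755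
theorem L18764 : sm gh N2170 = N2094 := ded_44_1 (flp_i L18138) L16105 (flp_i L14983) L16761 L18755
theorem L18766 : sm gg N1940 = N2171 := rfl
theorem L18768 : sm ga N2171 = N1949 := ded_14_1 (flp_g L16848) (flp_a L16772) L18766
theorem L18770 : sm gb N2171 = N2171 := ded_21_1 (flp_g L18766) L16774 L18766
theorem L18771 : sm gd N2171 = N2171 := ded_32_1 (flp_g L18766) L16777 L18766
theorem L18772 : sm ge N2171 = N1941 := ded_36_1 (flp_g L16780) L16770 L18766
theorem L18774 : sm gi N2171 = N2105 := ded_43_2 L18213 (flp_i L16775) L18766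
theorem L18776 : sm gh N1940 = N2172 := rfl
theorem L18778 : sm ga N2172 = N1950 := ded_15_1 (flp_h L16857) (flp_a L16772) L18776
theorem L18780 : sm gb N2172 = N2172 := ded_22_1 (flp_h L18776) L16774 L18776
theorem L18781 : sm ge N2172 = N1942 := ded_37_1 (flp_h L16790) L16770 L18776
theorem L18783 : sm gf N2172 = N2035 := ded_40_1 (flp_h L17649) (flp_f L16778) L18776
theorem L18785 : sm gh N1941 = N2173 := rfl
theorem L18787 : sm ga N2173 = N1951 := ded_15_1 (flp_h L16865) (flp_a L16782) L18785
theorem L18789 : sm gb N2173 = N2173 := ded_22_1 (flp_h L18785) L16784 L18785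
theorem L18790 : sm gf N2173 = N2173 := ded_40_1 (flp_h L18785) L16789 L18785
theorem L18791 : sm gg N2173 = N1942 := ded_42_1 (flp_h L16790) L16780 L18785
theorem L18793 : sm gi N1942 = N2174 := rfl
theorem L18795 : sm ga N2174 = N1952 := ded_16_1 (flp_i L16872) (flp_a L16792) L18793
theorem L18797 : sm gb N2174 = N2174 := ded_23_1 (flp_i L18793) L16794 L18793
theorem L18798 : sm gf N2174 = N1943 := ded_41_1 (flp_i L16797) (flp_f L16795) L18793
theorem L18800 : sm gh N2174 = N2123 := ded_44_1 (flp_i L18347) L16326 (flp_i L14993) L16790 L18793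
theorem L18802 : sm gd N1944 = N2175 := rfl
theorem L18804 : sm gb N2175 = N1986 := ded_18_1 (flp_d L17192) (flp_b L16809) L18802
theorem L18806 : sm gf N2175 = N2038 := ded_31_2 (flp_d L17675) (flp_f L16813) L18802
theorem L18808 : sm gc N2175 = N2175 := ded_24_1 (flp_d L18802) L16811 L15033 (flp_c L16811) L18802
theorem L18809 : sm ge N2175 = N2175 := ded_30_2 (flp_d L18802) (flp_e L16807) L15019 L16807 L18802
theorem L18810 : sm gg N1944 = N2176 := rfl
theorem L18812 : sm gb N2176 = N1987 := ded_21_1 (flp_g L17199) (flp_b L16809) L18810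
theorem L18814 : sm gc N2176 = N1949 := ded_27_1 (flp_g L16848) (flp_c L16811) L18810
theorem L18816 : sm ge N2176 = N1945 := ded_36_1 (flp_g L16815) L16807 L18810
theorem L18818 : sm gi N2176 = N2104 := ded_43_2 (flp_g L18610) L18612 L18810
theorem L18820 : sm gh N1944 = N2177 := rfl
theorem L18822 : sm gb N2177 = N1988 := ded_22_1 (flp_h L17207) (flp_b L16809) L18820
theorem L18824 : sm gc N2177 = N1950 := ded_28_1 (flp_h L16857) (flp_c L16811) L18820
theorem L18826 : sm ge N2177 = N1946 := ded_37_1 (flp_h L16825) L16807 L18820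
theorem L18828 : sm gf N2177 = N2040 := ded_40_1 (flp_h L17690) (flp_f L16813) L18820
theorem L18830 : sm gh N1945 = N2178 := rfl
theorem L18832 : sm gb N2178 = N1989 := ded_22_1 (flp_h L17215) (flp_b L16817) L18830
theorem L18834 : sm gc N2178 = N1951 := ded_28_1 (flp_h L16865) (flp_c L16819) L18830
theorem L18836 : sm gf N2178 = N2178 := ded_40_1 (flp_h L18830) L16824 L18830
theorem L18837 : sm gg N2178 = N1946 := ded_42_1 (flp_h L16825) L16815 L18830
theorem L18839 : sm gd N1946 = N2179 := rfl
theorem L18841 : sm gb N2179 = N1990 := ded_18_1 (flp_d L17222) (flp_b L16827) L18839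
theorem L18843 : sm gf N2179 = N1947 := ded_31_2 (flp_d L16833) (flp_f L16831) L18839
theorem L18845 : sm gh N2179 = N2179 := ded_33_2 (flp_d L18839) (flp_h L16825) L15019 L16825 L18839
theorem L18846 : sm gi N1946 = N2180 := rfl
theorem L18848 : sm gb N2180 = N1991 := ded_23_1 (flp_i L17228) (flp_b L16827) L18846
theorem L18850 : sm gc N2180 = N1952 := ded_29_1 (flp_i L16872) (flp_c L16829) L18846
theorem L18852 : sm gf N2180 = N1948 := ded_41_1 (flp_i L16839) (flp_f L16831) L18846
theorem L18854 : sm ge N1947 = N2181 := rfl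
theorem L18856 : sm gb N2181 = N1992 := ded_19_1 (flp_e L17234) (flp_b L16835) L18854
theorem L18858 : sm gg N2181 = N2181 := ded_36_2 (flp_e L18854) L16837 L18854
theorem L18859 : sm gh N2181 = N2181 := ded_37_2 (flp_e L18854) L16838 L18854
theorem L18860 : sm gd N2181 = N2044 := ded_30_1 (flp_e L17724) (flp_d L15740) (flp_e L15026) L16833 L18854
theorem L18862 : sm gi N1947 = N2182 := rfl
theorem L18864 : sm gb N2182 = N1993 := ded_23_1 (flp_i L17241) (flp_b L16835) L18862
theorem L18866 : sm gd N2182 = N1948 := ded_34_1 (flp_i L16839) L16833 L18862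
theorem L18868 : sm gg N2182 = N2182 := ded_43_1 (flp_i L18862) L16837 L18862
theorem L18869 : sm gf N1949 = N2183 := rfl
theorem L18871 : sm gb N2183 = N1953 := ded_20_1 (flp_f L16878) (flp_b L16850) L18869
theorem L18873 : sm gd N2183 = N2183 := ded_31_1 (flp_f L18869) L16852 L18869
theorem L18874 : sm gi N2183 = N2010 := ded_41_2 L17403 (flp_i L16855) L18869
theorem L18876 : sm ge N2183 = N2183 := ded_35_1 (flp_f L18869) L16853 L15044 (flp_e L16853) L18869
theorem L18877 : sm gg N2183 = N2046 := ded_39_2 (flp_f L17740) (flp_g L15755) (flp_f L15034) L16848 L18869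
theorem L18879 : sm gh N1949 = N2184 := rfl
theorem L18881 : sm gb N2184 = N1954 := ded_22_1 (flp_h L16889) (flp_b L16850) L18879
theorem L18883 : sm ge N2184 = N1951 := ded_37_1 (flp_h L16865) (flp_e L16853) L18879
theorem L18885 : sm gg N2184 = N1950 := ded_42_1 (flp_h L16857) L16848 L18879
theorem L18887 : sm gd N1950 = N2185 := rfl
theorem L18889 : sm gb N2185 = N1955 := ded_18_1 (flp_d L16898) (flp_b L16859) L18887
theorem L18891 : sm gf N2185 = N2048 := ded_31_2 (flp_d L17754) (flp_f L16863) L18887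
theorem L18893 : sm gh N2185 = N2185 := ded_33_2 (flp_d L18887) (flp_h L16857) L15033 L16857 L18887
theorem L18894 : sm gi N1950 = N2186 := rfl
theorem L18896 : sm gb N2186 = N1956 := ded_23_1 (flp_i L16904) (flp_b L16859) L18894
theorem L18898 : sm ge N2186 = N1952 := ded_38_1 (flp_i L16872) (flp_e L16861) L18894
theorem L18900 : sm gf N2186 = N2049 := ded_41_1 (flp_i L17760) (flp_f L16863) L18894
theorem L18902 : sm gi N1951 = N2187 := rfl
theorem L18904 : sm gb N2187 = N1957 := ded_23_1 (flp_i L16913) (flp_b L16867) L18902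
theorem L18906 : sm gf N2187 = N2187 := ded_41_1 (flp_i L18902) L16869 L18902
theorem L18907 : sm gg N2187 = N1952 := ded_43_1 (flp_i L16872) (flp_g L16870) L18902
theorem L18909 : sm gh N2187 = N2126 := ded_44_1 (flp_i L18365) L16360 (flp_i L15042) L16865 L18902
theorem L18911 : sm gh N1953 = N2188 := rfl
theorem L18913 : sm ga N2188 = N2188 := ded_15_1 (flp_h L18911) L16880 L18911
theorem L18914 : sm gc N2188 = N1999 := ded_28_1 (flp_h L17295) (flp_c L16881) L18911
theorem L18916 : sm ge N2188 = N2188 := ded_37_1 (flp_h L18911) L16886 L18911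
theorem L18917 : sm gf N2188 = N1954 := ded_40_1 (flp_h L16889) L16878 L18911
theorem L18919 : sm gg N2188 = N2051 := ded_42_1 (flp_h L17774) (flp_g L16887) L18911
theorem L18921 : sm gd N1954 = N2189 := rfl
theorem L18923 : sm ga N2189 = N2189 := ded_11_1 (flp_d L18921) L16891 L18921
theorem L18924 : sm gg N2189 = N1955 := ded_32_2 (flp_d L16898) (flp_g L16896) L18921
theorem L18926 : sm gh N2189 = N2189 := ded_33_2 (flp_d L18921) (flp_h L16889) L15063 L16889 L18921
theorem L18927 : sm gi N1954 = N2190 := rfl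
theorem L18929 : sm ga N2190 = N2190 := ded_16_1 (flp_i L18927) L16891 L18927
theorem L18930 : sm gc N2190 = N2001 := ded_29_1 (flp_i L17315) (flp_c L16892) L18927
theorem L18932 : sm ge N2190 = N1957 := ded_38_1 (flp_i L16913) (flp_e L16894) L18927
theorem L18934 : sm gg N2190 = N1956 := ded_43_1 (flp_i L16904) (flp_g L16896) L18927
theorem L18936 : sm gh N2190 = N2099 := ded_44_1 (flp_i L18173) L16164 (flp_i L15066) L16889 L18927
theorem L18938 : sm gc N1955 = N2191 := rfl
theorem L18940 : sm ga N2191 = N2191 := ded_10_1 (flp_c L18938) L16900 L18938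
theorem L18941 : sm gf N2191 = N2054 := ded_26_2 (flp_c L17798) (flp_f L16901) L18938
theorem L18943 : sm gh N2191 = N2191 := ded_28_2 (flp_c L18938) L16903 L18938
theorem L18944 : sm gd N2191 = N2002 := ded_24_2 (flp_c L17324) (flp_d L15371) (flp_c L15071) L16898 L18938
theorem L18946 : sm gi N1955 = N2192 := rfl
theorem L18948 : sm ga N2192 = N2192 := ded_16_1 (flp_i L18946) L16900 L18946
theorem L18949 : sm gd N2192 = N1956 := ded_34_1 (flp_i L16904) L16898 L18946
theorem L18951 : sm gf N2192 = N2055 := ded_41_1 (flp_i L17805) (flp_f L16901) L18946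
theorem L18953 : sm gb N1958 = N2193 := rfl
theorem L18955 : sm gd N2193 = N2193 := ded_18_2 (flp_b L18953) L16932 L18953
theorem L18956 : sm ge N2193 = N2193 := ded_19_2 (flp_b L18953) L16927 L18953
theorem L18957 : sm gf N2193 = N2011 := ded_20_2 L17408 (flp_f L16928) L18953
theorem L18959 : sm gg N2193 = N2193 := ded_21_2 (flp_b L18953) L16930 L18953
theorem L18960 : sm gi N2193 = N2193 := ded_23_2 (flp_b L18953) L16931 L18953
theorem L18961 : sm ga N2193 = N2193 := ded_9_1 (flp_b L18953) L16925 L15109 (flp_a L16925) L18953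
theorem L18962 : sm gc N2193 = N2193 := ded_17_2 (flp_b L18953) (flp_c L16923) L15096 L16923 L18953
theorem L18963 : sm gh N1958 = N2194 := rfl
theorem L18965 : sm ga N2194 = N1960 := ded_15_1 (flp_h L16944) (flp_a L16925) L18963
theorem L18967 : sm gc N2194 = N1959 := ded_28_1 (flp_h L16933) L16923 L18963
theorem L18969 : sm ge N2194 = N2194 := ded_37_1 (flp_h L18963) L16927 L18963
theorem L18970 : sm gf N2194 = N2106 := ded_40_1 (flp_h L18216) (flp_f L16928) L18963
theorem L18972 : sm gg N2194 = N2194 := ded_42_1 (flp_h L18963) L16930 L18963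
theorem L18973 : sm gi N1959 = N2195 := rfl
theorem L18975 : sm ga N2195 = N1961 := ded_16_1 (flp_i L16953) (flp_a L16935) L18973
theorem L18977 : sm gb N2195 = N2195 := ded_23_1 (flp_i L18973) L16937 L18973
theorem L18978 : sm gd N2195 = N1967 := ded_34_1 (flp_i L17019) (flp_d L16942) L18973
theorem L18980 : sm ge N2195 = N2195 := ded_38_1 (flp_i L18973) L16938 L18973
theorem L18981 : sm gf N2195 = N2110 := ded_41_1 (flp_i L18252) (flp_f L16939) L18973
theorem L18983 : sm gg N2195 = N2195 := ded_43_1 (flp_i L18973) L16941 L18973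
theorem L18984 : sm gh N2195 = N2195 := ded_44_1 (flp_i L18973) (flp_h L16933) L15100 L16933 L18973
theorem L18985 : sm gd N1960 = N2196 := rfl
theorem L18987 : sm gb N2196 = N2196 := ded_18_1 (flp_d L18985) L16946 L18985
theorem L18988 : sm gf N2196 = N2113 := ded_31_2 (flp_d L18277) (flp_f L16950) L18985
theorem L18990 : sm gg N2196 = N2196 := ded_32_2 (flp_d L18985) L16952 L18985
theorem L18991 : sm gc N2196 = N1970 := ded_24_1 (flp_d L17047) L15172 (flp_d L15119) (flp_c L16947) L18985
theorem L18993 : sm gh N2196 = N2196 := ded_33_2 (flp_d L18985) (flp_h L16944) L15110 L16944 L18985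
theorem L18994 : sm gi N1960 = N2197 := rfl
theorem L18996 : sm gb N2197 = N2197 := ded_23_1 (flp_i L18994) L16946 L18994
theorem L18997 : sm gc N2197 = N1961 := ded_29_1 (flp_i L16953) (flp_c L16947) L18994
theorem L18999 : sm ge N2197 = N2197 := ded_38_1 (flp_i L18994) L16949 L18994
theorem L19000 : sm gf N2197 = N2114 := ded_41_1 (flp_i L18283) (flp_f L16950) L18994
theorem L19002 : sm gg N2197 = N2197 := ded_43_1 (flp_i L18994) L16952 L18994
theorem L19003 : sm gh N2197 = N2197 := ded_44_1 (flp_i L18994) (flp_h L16944) L15108 L16944 L18994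
theorem L19004 : sm gf N1962 = N2198 := rfl
theorem L19006 : sm ga N2198 = N2132 := ded_13_1 (flp_f L18407) (flp_a L16972) L19004
theorem L19008 : sm gb N2198 = N1963 := ded_20_1 (flp_f L16975) L16964 L19004
theorem L19010 : sm gc N2198 = N2198 := ded_26_1 (flp_f L19004) L16974 L19004
theorem L19011 : sm gd N2198 = N2198 := ded_31_1 (flp_f L19004) L16966 L19004
theorem L19012 : sm gi N2198 = N1975 := ded_41_2 (flp_f L17097) (flp_i L16970) L19004
theorem L19014 : sm gg N2127 = N2198 := ded_21_0 L19008 (flp_g L16984) L18371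
theorem L19016 : sm gh N1962 = N2199 := rfl
theorem L19018 : sm ga N2199 = N2044 := ded_15_1 L17730 (flp_a L16972) L19016
theorem L19020 : sm gb N2199 = N1964 := ded_22_1 (flp_h L16986) L16964 L19016
theorem L19022 : sm gc N2199 = N2199 := ded_28_1 (flp_h L19016) L16974 L19016
theorem L19023 : sm ge N2199 = N2032 := ded_37_1 L17628 (flp_e L16967) L19016
theorem L19025 : sm gg N2199 = N2199 := ded_42_1 (flp_h L19016) L16969 L19016
theorem L19026 : sm ge N1963 = N2200 := rfl
theorem L19028 : sm ga N2200 = N1968 := ded_12_1 (flp_e L17029) (flp_a L16977) L19026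
theorem L19030 : sm gc N2200 = N1965 := ded_25_1 (flp_e L16995) (flp_c L16979) L19026
theorem L19032 : sm gg N2200 = N2100 := ded_36_2 L18184 L16984 L19026
theorem L19034 : sm gi N2200 = N1977 := ded_38_2 (flp_e L17111) (flp_i L16982) L19026
theorem L19036 : sm gf N2200 = N2057 := ded_35_2 (flp_e L17824) (flp_f L15830) (flp_e L15136) L16975 L19026
theorem L19038 : sm gd N2200 = N2085 := ded_46_3 L18083 L16116 L14270 (flp_h L15967) L15964 L14277 L12525 L10969 (flp_b L12753) (flp_a L14430) (flp_h L14428) L12681 (flp_e L14417) L14415 L12800 L12799 L12797 (flp_h L11886) (flp_f L11881) (flp_e L10231) L8643 L7401 (flp_b L6278) (flp_a L5405) L5410 L5407 L5459 L6995 L7005 L6999 L5816 L5270 (flp_f L4984) (flp_e L6450) (flp_d L7995) L7994 (flp_b L9615) (flp_a L11342) (flp_h L12861) L12865 L12860 (flp_d L14606) (flp_c L16410) L16408 L14759 L14781 L14787 L14785 L14795 L14799 L13164 (flp_a L13877) L15600 L15606 (flp_e L14939) L14942 (flp_c L16677) L16675 (flp_a L16988) (flp_h L16986) L16975 L19026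
theorem L19040 : sm gh N1963 = N2201 := rfl
theorem L19042 : sm ga N2201 = N1969 := ded_15_1 (flp_h L17039) (flp_a L16977) L19040
theorem L19044 : sm gc N2201 = N1966 := ded_28_1 (flp_h L17008) (flp_c L16979) L19040
theorem L19046 : sm gf N2201 = N1964 := ded_40_1 (flp_h L16986) L16975 L19040
theorem L19048 : sm gg N2201 = N2111 := ded_42_1 L18267 L16984 L19040
theorem L19050 : sm gd N1964 = N2202 := rfl
theorem L19052 : sm ga N2202 = N1970 := ded_11_1 (flp_d L17047) (flp_a L16988) L19050
theorem L19054 : sm gg N2202 = N2202 := ded_32_2 (flp_d L19050) L16994 L19050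
theorem L19055 : sm gh N2202 = N2202 := ded_33_2 (flp_d L19050) (flp_h L16986) L15141 L16986 L19050
theorem L19056 : sm gi N1964 = N2203 := rfl
theorem L19058 : sm ga N2203 = N1971 := ded_16_1 (flp_i L17051) (flp_a L16988) L19056
theorem L19060 : sm gc N2203 = N1967 := ded_29_1 (flp_i L17019) (flp_c L16990) L19056
theorem L19062 : sm ge N2203 = N2059 := ded_38_1 (flp_i L17846) (flp_e L16992) L19056
theorem L19064 : sm gg N2203 = N2203 := ded_43_1 (flp_i L19056) L16994 L19056
theorem L19065 : sm gh N2203 = N1981 := ded_44_1 (flp_i L17144) (flp_h L15244) (flp_i L15139) L16986 L19056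
theorem L19067 : sm gh N1965 = N2204 := rfl
theorem L19069 : sm ga N2204 = N1972 := ded_15_1 (flp_h L17060) (flp_a L16997) L19067
theorem L19071 : sm gb N2204 = N2204 := ded_22_1 (flp_h L19067) L16999 L19067
theorem L19072 : sm ge N2204 = N1966 := ded_37_1 (flp_h L17008) L16995 L19067
theorem L19074 : sm gf N2204 = N2060 := ded_40_1 (flp_h L17855) (flp_f L17006) L19067
theorem L19076 : sm gg N2204 = N2081 := ded_42_1 L18054 (flp_g L17000) L19067
theorem L19078 : sm gd N2204 = N2080 := ded_33_1 (flp_h L18038) L16029 (flp_h L15404) (flp_d L17004) L19067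
theorem L19080 : sm gi N1966 = N2205 := rfl
theorem L19082 : sm ga N2205 = N1973 := ded_16_1 (flp_i L17072) (flp_a L17010) L19080
theorem L19084 : sm gb N2205 = N2205 := ded_23_1 (flp_i L19080) L17012 L19080
theorem L19085 : sm gd N2205 = N2110 := ded_34_1 (flp_i L18252) (flp_d L17017) L19080
theorem L19087 : sm gf N2205 = N1967 := ded_41_1 (flp_i L17019) (flp_f L17013) L19080
theorem L19089 : sm gg N2205 = N2112 := ded_43_1 (flp_i L18269) (flp_g L17015) L19080
theorem L19091 : sm gh N2205 = N1985 := ded_44_1 (flp_i L17184) (flp_h L15272) (flp_i L15149) L17008 L19080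
theorem L19093 : sm gd N1968 = N2206 := rfl
theorem L19095 : sm ga N2206 = N2085 := ded_11_1 (flp_d L19038) L19028 L19093
theorem L19097 : sm gf N2206 = N2062 := ded_31_2 (flp_d L17876) (flp_f L17037) L19093
theorem L19099 : sm gg N2206 = N2103 := ded_32_2 L18200 (flp_g L17033) L19093
theorem L19101 : sm gi N2206 = N1986 := ded_34_2 (flp_d L17192) (flp_i L17035) L19093
theorem L19103 : sm gc N2206 = N2004 := ded_24_1 (flp_d L17340) L15415 (flp_d L15185) (flp_c L17031) L19093
theorem L19105 : sm ge N2206 = N2206 := ded_30_2 (flp_d L19093) (flp_e L17029) L15165 L17029 L19093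
theorem L19106 : sm gh N1968 = N2207 := rfl
theorem L19108 : sm gc N2207 = N1972 := ded_28_1 (flp_h L17060) (flp_c L17031) L19106
theorem L19110 : sm ge N2207 = N1969 := ded_37_1 (flp_h L17039) L17029 L19106
theorem L19112 : sm gf N2207 = N2064 := ded_40_1 (flp_h L17900) (flp_f L17037) L19106
theorem L19114 : sm gg N2207 = N2096 := ded_42_1 L18157 (flp_g L17033) L19106
theorem L19116 : sm gd N1969 = N2208 := rfl
theorem L19118 : sm gf N2208 = N1970 := ded_31_2 (flp_d L17047) (flp_f L17043) L19116
theorem L19120 : sm gg N2208 = N2115 := ded_32_2 L18297 (flp_g L17045) L19116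
theorem L19122 : sm gc N2208 = N2113 := ded_24_1 (flp_d L18277) L16273 (flp_d L15197) (flp_c L17041) L19116
theorem L19124 : sm gh N2208 = N2208 := ded_33_2 (flp_d L19116) (flp_h L17039) L15165 L17039 L19116
theorem L19125 : sm gi N1969 = N2209 := rfl
theorem L19127 : sm gc N2209 = N1973 := ded_29_1 (flp_i L17072) (flp_c L17041) L19125
theorem L19129 : sm gf N2209 = N1971 := ded_41_1 (flp_i L17051) (flp_f L17043) L19125
theorem L19131 : sm gg N2209 = N2125 := ded_43_1 (flp_i L18360) (flp_g L17045) L19125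
theorem L19133 : sm gh N2209 = N1991 := ded_44_1 (flp_i L17228) (flp_h L15303) (flp_i L15166) L17039 L19125
theorem L19135 : sm ge N1970 = N2210 := rfl
theorem L19137 : sm gb N2210 = N1980 := ded_19_1 (flp_e L18636) L18632 L19135
theorem L19139 : sm gg N2210 = N2210 := ded_36_2 (flp_e L19135) L17049 L19135
theorem L19140 : sm gh N2210 = N2210 := ded_37_2 (flp_e L19135) L17050 L19135
theorem L19141 : sm gd N2210 = N1976 := ded_30_1 L17108 (flp_d L15902) (flp_e L15174) L17047 L19135
theorem L19143 : sm gi N1970 = N2211 := rfl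
theorem L19145 : sm gd N2211 = N1971 := ded_34_1 (flp_i L17051) L17047 L19143
theorem L19147 : sm gg N2211 = N2211 := ded_43_1 (flp_i L19143) L17049 L19143
theorem L19148 : sm gi N1972 = N2212 := rfl
theorem L19150 : sm gb N2212 = N1974 := ded_23_1 (flp_i L17084) (flp_b L17062) L19148
theorem L19152 : sm gd N2212 = N2095 := ded_34_1 (flp_i L18145) (flp_d L17070) L19148
theorem L19154 : sm ge N2212 = N1973 := ded_38_1 (flp_i L17072) (flp_e L17064) L19148
theorem L19156 : sm gf N2212 = N2071 := ded_41_1 (flp_i L17959) (flp_f L17066) L19148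
theorem L19158 : sm gg N2212 = N2097 := ded_43_1 (flp_i L18159) (flp_g L17068) L19148
theorem L19160 : sm gh N2212 = N1997 := ded_44_1 (flp_i L17277) (flp_h L15331) (flp_i L15183) L17060 L19148
theorem L19162 : sm ge N1975 = N2213 := rfl
theorem L19164 : sm gb N2213 = N1977 := ded_19_1 (flp_e L17111) (flp_b L17099) L19162
theorem L19166 : sm gc N2213 = N2213 := ded_25_1 (flp_e L19162) L17101 L19162
theorem L19167 : sm gf N2213 = N2075 := ded_35_2 (flp_e L17996) (flp_f L15985) (flp_e L15233) L17097 L19162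
theorem L19169 : sm gg N1975 = N2214 := rfl
theorem L19171 : sm gb N2214 = N1978 := ded_21_1 (flp_g L17119) (flp_b L17099) L19169
theorem L19173 : sm gc N2214 = N2214 := ded_27_1 (flp_g L19169) L17101 L19169
theorem L19174 : sm gd N2214 = N2214 := ded_32_1 (flp_g L19169) L17102 L19169
theorem L19175 : sm gi N2214 = N2127 := ded_43_2 L19014 L19012 L19169
theorem L19177 : sm gf N2214 = N2214 := ded_39_1 (flp_g L19169) (flp_f L17097) L15235 L17097 L19169
theorem L19178 : sm gh N1975 = N2215 := rfl
theorem L19180 : sm gb N2215 = N1979 := ded_22_1 (flp_h L17129) (flp_b L17099) L19178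
theorem L19182 : sm gc N2215 = N2215 := ded_28_1 (flp_h L19178) L17101 L19178
theorem L19183 : sm gf N2215 = N1976 := ded_40_1 (flp_h L17103) L17097 L19178
theorem L19185 : sm gi N1976 = N2216 := rfl
theorem L19187 : sm gb N2216 = N1981 := ded_23_1 (flp_i L17144) (flp_b L17105) L19185
theorem L19189 : sm gc N2216 = N2216 := ded_29_1 (flp_i L19185) L17107 L19185
theorem L19190 : sm ge N2216 = N2068 := ded_38_1 (flp_i L17932) (flp_e L17108) L19185
theorem L19192 : sm gg N2216 = N2216 := ded_43_1 (flp_i L19185) L17110 L19185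
theorem L19193 : sm gd N1977 = N2217 := rfl
theorem L19195 : sm ga N2217 = N1986 := ded_11_1 (flp_d L17192) (flp_a L17113) L19193
theorem L19197 : sm gf N2217 = N2063 := ded_31_2 L17894 (flp_f L17117) L19193
theorem L19199 : sm gi N2217 = N2085 := ded_34_2 (flp_d L19038) L19034 L19193
theorem L19201 : sm gc N2217 = N2005 := ded_24_1 (flp_d L17352) L15431 (flp_d L15258) (flp_c L17115) L19193
theorem L19203 : sm ge N2217 = N2217 := ded_30_2 (flp_d L19193) (flp_e L17111) L15243 L17111 L19193
theorem L19204 : sm gg N2008 = N2217 := ded_39_0 L19197 (flp_g L17888) (flp_f L17037) L17033 (flp_f L17386)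
theorem L19206 : sm gg N1977 = N2218 := rfl
theorem L19208 : sm ga N2218 = N1987 := ded_14_1 (flp_g L17199) (flp_a L17113) L19206
theorem L19210 : sm gc N2218 = N1982 := ded_27_1 (flp_g L17153) (flp_c L17115) L19206
theorem L19212 : sm gd N2218 = N2008 := ded_32_1 L19204 (flp_d L19193) L19206
theorem L19214 : sm ge N2218 = N1978 := ded_36_1 (flp_g L17119) L17111 L19206
theorem L19216 : sm gi N2218 = N2100 := ded_43_2 (flp_g L19032) L19034 L19206
theorem L19218 : sm gf N2218 = N2103 := ded_39_1 (flp_g L19099) L19097 (flp_g L17886) (flp_f L17117) L19206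
theorem L19220 : sm gh N1977 = N2219 := rfl
theorem L19222 : sm ga N2219 = N1988 := ded_15_1 (flp_h L17207) (flp_a L17113) L19220
theorem L19224 : sm gc N2219 = N1983 := ded_28_1 (flp_h L17166) (flp_c L17115) L19220
theorem L19226 : sm ge N2219 = N1979 := ded_37_1 (flp_h L17129) L17111 L19220
theorem L19228 : sm gf N2219 = N2077 := ded_40_1 (flp_h L18013) (flp_f L17117) L19220
theorem L19230 : sm gh N1978 = N2220 := rfl
theorem L19232 : sm ga N2220 = N1989 := ded_15_1 (flp_h L17215) (flp_a L17121) L19230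
theorem L19234 : sm gc N2220 = N1984 := ded_28_1 (flp_h L17175) (flp_c L17123) L19230
theorem L19236 : sm gf N2220 = N2220 := ded_40_1 (flp_h L19230) L17128 L19230
theorem L19237 : sm gg N2220 = N1979 := ded_42_1 (flp_h L17129) L17119 L19230
theorem L19239 : sm gd N1979 = N2221 := rfl
theorem L19241 : sm ga N2221 = N1990 := ded_11_1 (flp_d L17222) (flp_a L17131) L19239
theorem L19243 : sm gf N2221 = N1980 := ded_31_2 (flp_d L17137) (flp_f L17135) L19239
theorem L19245 : sm gc N2221 = N2221 := ded_24_1 (flp_d L19239) L17133 L15279 (flp_c L17133) L19239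
theorem L19246 : sm gh N2221 = N2221 := ded_33_2 (flp_d L19239) (flp_h L17129) L15243 L17129 L19239
theorem L19247 : sm gi N1979 = N2222 := rfl
theorem L19249 : sm ga N2222 = N1991 := ded_16_1 (flp_i L17228) (flp_a L17131) L19247
theorem L19251 : sm gc N2222 = N1985 := ded_29_1 (flp_i L17184) (flp_c L17133) L19247
theorem L19253 : sm gf N2222 = N1981 := ded_41_1 (flp_i L17144) (flp_f L17135) L19247
theorem L19255 : sm gi N1980 = N2223 := rfl
theorem L19257 : sm ga N2223 = N1993 := ded_16_1 (flp_i L17241) (flp_a L17139) L19255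
theorem L19259 : sm gc N2223 = N2223 := ded_29_1 (flp_i L19255) L17142 L19255
theorem L19260 : sm gd N2223 = N1981 := ded_34_1 (flp_i L17144) L17137 L19255
theorem L19262 : sm gg N2223 = N2223 := ded_43_1 (flp_i L19255) L17141 L19255
theorem L19263 : sm gh N1982 = N2224 := rfl
theorem L19265 : sm ga N2224 = N1995 := ded_15_1 (flp_h L17260) (flp_a L17155) L19263
theorem L19267 : sm gb N2224 = N2224 := ded_22_1 (flp_h L19263) L17157 L19263
theorem L19268 : sm ge N2224 = N1984 := ded_37_1 (flp_h L17175) (flp_e L17160) L19263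
theorem L19270 : sm gf N2224 = N2101 := ded_40_1 L18190 L17164 L19263
theorem L19272 : sm gg N2224 = N1983 := ded_42_1 (flp_h L17166) L17153 L19263
theorem L19274 : sm gd N2224 = N2007 := ded_33_1 (flp_h L17377) (flp_d L15471) L15454 (flp_d L17158) L19263
theorem L19276 : sm gd N1983 = N2225 := rfl
theorem L19278 : sm ga N2225 = N1996 := ded_11_1 (flp_d L17268) (flp_a L17168) L19276
theorem L19280 : sm gb N2225 = N2225 := ded_18_1 (flp_d L19276) L17170 L19276
theorem L19281 : sm gf N2225 = N2081 := ded_31_2 (flp_d L18047) (flp_f L17173) L19276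
theorem L19283 : sm gg N2225 = N2007 := ded_32_2 (flp_d L19274) L19272 L19276
theorem L19285 : sm ge N2225 = N2225 := ded_30_2 (flp_d L19276) L17171 L15279 (flp_e L17171) L19276
theorem L19286 : sm gh N2225 = N2006 := ded_33_2 (flp_d L17365) (flp_h L15456) (flp_d L15258) L17166 L19276
theorem L19288 : sm gi N1983 = N2226 := rfl
theorem L19290 : sm ga N2226 = N1997 := ded_16_1 (flp_i L17277) (flp_a L17168) L19288
theorem L19292 : sm gb N2226 = N2226 := ded_23_1 (flp_i L19288) L17170 L19288
theorem L19293 : sm ge N2226 = N1985 := ded_38_1 (flp_i L17184) (flp_e L17171) L19288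
theorem L19295 : sm gf N2226 = N2082 := ded_41_1 (flp_i L18056) (flp_f L17173) L19288
theorem L19297 : sm gi N1984 = N2227 := rfl
theorem L19299 : sm ga N2227 = N1998 := ded_16_1 (flp_i L17285) (flp_a L17177) L19297
theorem L19301 : sm gb N2227 = N2227 := ded_23_1 (flp_i L19297) L17179 L19297
theorem L19302 : sm gd N2227 = N2227 := ded_34_1 (flp_i L19297) L17183 L19297
theorem L19303 : sm gf N2227 = N2227 := ded_41_1 (flp_i L19297) L17180 L19297
theorem L19304 : sm gg N2227 = N1985 := ded_43_1 (flp_i L17184) (flp_g L17181) L19297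
theorem L19306 : sm gh N2227 = N2112 := ded_44_1 (flp_i L18269) L16250 (flp_i L15269) L17175 L19297
theorem L19308 : sm gg N1986 = N2228 := rfl
theorem L19310 : sm ga N2228 = N2008 := ded_14_1 L19204 L19195 L19308
theorem L19312 : sm gc N2228 = N2006 := ded_27_1 L17372 (flp_c L17196) L19308
theorem L19314 : sm gd N2228 = N1987 := ded_32_1 (flp_g L17199) L17192 L19308
theorem L19316 : sm ge N2228 = N2228 := ded_36_1 (flp_g L19308) L17198 L19308
theorem L19317 : sm gi N2228 = N2103 := ded_43_2 (flp_g L19099) L19101 L19308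
theorem L19319 : sm gf N2228 = N2100 := ded_39_1 (flp_g L19032) L19036 L17830 (flp_f L17194) L19308
theorem L19321 : sm gh N1986 = N2229 := rfl
theorem L19323 : sm gc N2229 = N2007 := ded_28_1 (flp_h L17377) (flp_c L17196) L19321
theorem L19325 : sm ge N2229 = N2229 := ded_37_1 (flp_h L19321) L17198 L19321
theorem L19326 : sm gf N2229 = N2084 := ded_40_1 (flp_h L18075) (flp_f L17194) L19321
theorem L19328 : sm gf N1987 = N2230 := rfl
theorem L19330 : sm ga N2230 = N2103 := ded_13_1 (flp_f L19218) L19208 L19328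
theorem L19332 : sm gc N2230 = N1994 := ded_26_1 (flp_f L17247) (flp_c L17201) L19328
theorem L19334 : sm gd N2230 = N2100 := ded_31_1 (flp_f L19319) L19314 L19328
theorem L19336 : sm gi N2230 = N2008 := ded_41_2 L17386 (flp_i L17205) L19328
theorem L19338 : sm ge N2230 = N2230 := ded_35_1 (flp_f L19328) L17203 L15302 (flp_e L17203) L19328
theorem L19339 : sm gg N2230 = N2085 := ded_39_2 (flp_f L18081) (flp_g L16067) (flp_f L15293) L17199 L19328
theorem L19341 : sm gh N1987 = N2231 := rfl
theorem L19343 : sm gc N2231 = N1995 := ded_28_1 (flp_h L17260) (flp_c L17201) L19341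
theorem L19345 : sm ge N2231 = N1989 := ded_37_1 (flp_h L17215) (flp_e L17203) L19341
theorem L19347 : sm gg N2231 = N1988 := ded_42_1 (flp_h L17207) L17199 L19341
theorem L19349 : sm gd N1988 = N2232 := rfl
theorem L19351 : sm gf N2232 = N2087 := ded_31_2 (flp_d L18094) (flp_f L17213) L19349
theorem L19353 : sm gi N1988 = N2233 := rfl
theorem L19355 : sm gc N2233 = N1997 := ded_29_1 (flp_i L17277) (flp_c L17209) L19353
theorem L19357 : sm ge N2233 = N1991 := ded_38_1 (flp_i L17228) (flp_e L17211) L19353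
theorem L19359 : sm gf N2233 = N2088 := ded_41_1 (flp_i L18096) (flp_f L17213) L19353
theorem L19361 : sm gd N1989 = N2234 := rfl
theorem L19363 : sm gf N2234 = N2234 := ded_31_2 (flp_d L19361) L17219 L19361
theorem L19364 : sm gg N2234 = N1990 := ded_32_2 (flp_d L17222) (flp_g L17220) L19361
theorem L19366 : sm gc N2234 = N2234 := ded_24_1 (flp_d L19361) L17217 L15346 (flp_c L17217) L19361
theorem L19367 : sm gh N2234 = N2234 := ded_33_2 (flp_d L19361) (flp_h L17215) L15299 L17215 L19361
theorem L19368 : sm gi N1989 = N2235 := rfl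
theorem L19370 : sm gc N2235 = N1998 := ded_29_1 (flp_i L17285) (flp_c L17217) L19368
theorem L19372 : sm gf N2235 = N2235 := ded_41_1 (flp_i L19368) L17219 L19368
theorem L19373 : sm gg N2235 = N1991 := ded_43_1 (flp_i L17228) (flp_g L17220) L19368
theorem L19375 : sm gh N2235 = N2125 := ded_44_1 (flp_i L18360) L16347 (flp_i L15300) L17215 L19368
theorem L19377 : sm ge N1990 = N2236 := rfl
theorem L19379 : sm gc N2236 = N2236 := ded_25_1 (flp_e L19377) L17226 L19377
theorem L19380 : sm gh N2236 = N2236 := ded_37_2 (flp_e L19377) L17227 L19377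
theorem L19381 : sm gi N1990 = N2237 := rfl
theorem L19383 : sm gc N2237 = N2237 := ded_29_1 (flp_i L19381) L17226 L19381
theorem L19384 : sm gd N2237 = N1991 := ded_34_1 (flp_i L17228) L17222 L19381
theorem L19386 : sm gf N2237 = N1993 := ded_41_1 (flp_i L17241) (flp_f L17224) L19381
theorem L19388 : sm gf N1992 = N2238 := rfl
theorem L19390 : sm gc N2238 = N2238 := ded_26_1 (flp_f L19388) L17236 L19388
theorem L19391 : sm gd N2238 = N2093 := ded_31_1 (flp_f L18132) (flp_d L17239) L19388
theorem L19393 : sm gh N2238 = N2238 := ded_40_2 (flp_f L19388) L17238 L19388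
theorem L19394 : sm gi N1992 = N2239 := rfl
theorem L19396 : sm gc N2239 = N2239 := ded_29_1 (flp_i L19394) L17236 L19394
theorem L19397 : sm gd N2239 = N2094 := ded_34_1 (flp_i L18138) (flp_d L17239) L19394
theorem L19399 : sm ge N2239 = N1993 := ded_38_1 (flp_i L17241) L17234 L19394
theorem L19401 : sm gg N2239 = N2239 := ded_43_1 (flp_i L19394) L17237 L19394
theorem L19402 : sm gh N1993 = N2240 := rfl
theorem L19404 : sm gc N2240 = N2240 := ded_28_1 (flp_h L19402) L17243 L19402
theorem L19405 : sm gg N2240 = N2240 := ded_42_1 (flp_h L19402) L17246 L19402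
theorem L19406 : sm gi N2240 = N2240 := ded_44_2 (flp_h L19402) (flp_i L17241) L15313 L17241 L19402
theorem L19407 : sm gh N1994 = N2241 := rfl
theorem L19409 : sm ga N2241 = N2101 := ded_15_1 L18190 (flp_a L17249) L19407
theorem L19411 : sm gb N2241 = N1999 := ded_22_1 (flp_h L17295) (flp_b L17251) L19407
theorem L19413 : sm ge N2241 = N2241 := ded_37_1 (flp_h L19407) L17257 L19407
theorem L19414 : sm gf N2241 = N1995 := ded_40_1 (flp_h L17260) L17247 L19407
theorem L19416 : sm gg N2241 = N2070 := ded_42_1 L17957 (flp_g L17258) L19407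
theorem L19418 : sm gd N2241 = N2069 := ded_33_1 (flp_h L17940) L15923 (flp_h L15485) (flp_d L17253) L19407
theorem L19420 : sm gd N1995 = N2242 := rfl
theorem L19422 : sm ga N2242 = N2007 := ded_11_1 (flp_d L19274) L19265 L19420
theorem L19424 : sm gb N2242 = N2000 := ded_18_1 (flp_d L17305) (flp_b L17262) L19420
theorem L19426 : sm gf N2242 = N2069 := ded_31_2 (flp_d L19418) L19414 L19420
theorem L19428 : sm gg N2242 = N1996 := ded_32_2 (flp_d L17268) (flp_g L17266) L19420
theorem L19430 : sm ge N2242 = N2242 := ded_30_2 (flp_d L19420) L17264 L15346 (flp_e L17264) L19420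
theorem L19431 : sm gh N2242 = N2005 := ded_33_2 (flp_d L17352) L15435 (flp_d L15325) L17260 L19420
theorem L19433 : sm gi N1995 = N2243 := rfl
theorem L19435 : sm gb N2243 = N2001 := ded_23_1 (flp_i L17315) (flp_b L17262) L19433
theorem L19437 : sm ge N2243 = N1998 := ded_38_1 (flp_i L17285) (flp_e L17264) L19433
theorem L19439 : sm gg N2243 = N1997 := ded_43_1 (flp_i L17277) (flp_g L17266) L19433
theorem L19441 : sm gh N2243 = N2097 := ded_44_1 (flp_i L18159) L16135 (flp_i L15329) L17260 L19433
theorem L19443 : sm gc N1996 = N2244 := rfl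
theorem L19445 : sm ge N2244 = N2244 := ded_25_2 (flp_c L19443) L17274 L19443
theorem L19446 : sm gf N2244 = N2096 := ded_26_2 (flp_c L18153) (flp_f L17272) L19443
theorem L19448 : sm gh N2244 = N2008 := ded_28_2 (flp_c L17383) (flp_h L17275) L19443
theorem L19450 : sm gi N1996 = N2245 := rfl
theorem L19452 : sm gb N2245 = N2003 := ded_23_1 (flp_i L17332) (flp_b L17270) L19450
theorem L19454 : sm gd N2245 = N1997 := ded_34_1 (flp_i L17277) L17268 L19450
theorem L19456 : sm ge N2245 = N2245 := ded_38_1 (flp_i L19450) L17274 L19450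
theorem L19457 : sm gf N2245 = N2097 := ded_41_1 (flp_i L18159) (flp_f L17272) L19450
theorem L19459 : sm gi N1999 = N2246 := rfl
theorem L19461 : sm ga N2246 = N2246 := ded_16_1 (flp_i L19459) L17297 L19459
theorem L19462 : sm gd N2246 = N2073 := ded_34_1 (flp_i L17979) (flp_d L17303) L19459
theorem L19464 : sm ge N2246 = N2246 := ded_38_1 (flp_i L19459) L17298 L19459
theorem L19465 : sm gf N2246 = N2001 := ded_41_1 (flp_i L17315) (flp_f L17299) L19459
theorem L19467 : sm gg N2246 = N2074 := ded_43_1 (flp_i L17988) (flp_g L17301) L19459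
theorem L19469 : sm gh N2246 = N2003 := ded_44_1 (flp_i L17332) L15377 (flp_i L15359) L17295 L19459
theorem L19471 : sm gc N2000 = N2247 := rfl
theorem L19473 : sm ga N2247 = N2247 := ded_10_1 (flp_c L19471) L17307 L19471
theorem L19474 : sm ge N2247 = N2247 := ded_25_2 (flp_c L19471) L17312 L19471
theorem L19475 : sm gf N2247 = N2023 := ded_26_2 L17539 (flp_f L17308) L19471
theorem L19477 : sm gg N2247 = N2002 := ded_27_2 (flp_c L17324) (flp_g L17310) L19471
theorem L19479 : sm gh N2247 = N2009 := ded_28_2 (flp_c L17388) (flp_h L17313) L19471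
theorem L19481 : sm gi N2000 = N2248 := rfl
theorem L19483 : sm ga N2248 = N2248 := ded_16_1 (flp_i L19481) L17307 L19481
theorem L19484 : sm gd N2248 = N2001 := ded_34_1 (flp_i L17315) L17305 L19481
theorem L19486 : sm ge N2248 = N2248 := ded_38_1 (flp_i L19481) L17312 L19481
theorem L19487 : sm gf N2248 = N2073 := ded_41_1 (flp_i L17979) (flp_f L17308) L19481
theorem L19489 : sm gg N2248 = N2003 := ded_43_1 (flp_i L17332) (flp_g L17310) L19481
theorem L19491 : sm gh N2248 = N2074 := ded_44_1 (flp_i L17988) L15967 (flp_i L15507) (flp_h L17313) L19481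
theorem L19493 : sm gb N2002 = N2249 := rfl
theorem L19495 : sm ge N2249 = N2249 := ded_19_2 (flp_b L19493) L17327 L19493
theorem L19496 : sm gf N2249 = N2098 := ded_20_2 (flp_b L18167) (flp_f L17328) L19493
theorem L19498 : sm gh N2249 = N2010 := ded_22_2 (flp_b L17399) (flp_h L17330) L19493
theorem L19500 : sm gi N2002 = N2250 := rfl
theorem L19502 : sm ga N2250 = N2250 := ded_16_1 (flp_i L19500) L17326 L19500
theorem L19503 : sm gc N2250 = N2003 := ded_29_1 (flp_i L17332) L17324 L19500
theorem L19505 : sm ge N2250 = N2250 := ded_38_1 (flp_i L19500) L17327 L19500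
theorem L19506 : sm gf N2250 = N2099 := ded_41_1 (flp_i L18173) (flp_f L17328) L19500
theorem L19508 : sm gh N2004 = N2251 := rfl
theorem L19510 : sm ga N2251 = N2070 := ded_15_1 L17957 (flp_a L17342) L19508
theorem L19512 : sm gb N2251 = N2251 := ded_22_1 (flp_h L19508) L17344 L19508
theorem L19513 : sm ge N2251 = N2251 := ded_37_1 (flp_h L19508) L17351 L19508
theorem L19514 : sm gf N2251 = N2080 := ded_40_1 (flp_h L18038) (flp_f L17345) L19508
theorem L19516 : sm gg N2251 = N2101 := ded_42_1 L18190 (flp_g L17347) L19508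
theorem L19518 : sm gd N2251 = N2060 := ded_33_1 (flp_h L17855) L15858 (flp_h L15419) L17340 L19508
theorem L19520 : sm gi N2007 = N2252 := rfl
theorem L19522 : sm gb N2252 = N2252 := ded_23_1 (flp_i L19520) L17379 L19520
theorem L19523 : sm ge N2252 = N2252 := ded_38_1 (flp_i L19520) L17380 L19520
theorem L19524 : sm gf N2252 = N2102 := ded_41_1 (flp_i L18192) (flp_f L17381) L19520
theorem L19526 : sm gb N2008 = N2253 := rfl
theorem L19528 : sm ge N2253 = N2253 := ded_19_2 (flp_b L19526) L17385 L19526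
theorem L19529 : sm gf N2253 = N2104 := ded_20_2 (flp_b L18202) (flp_f L17386) L19526
theorem L19531 : sm gc N2253 = N2010 := ded_17_2 (flp_b L17399) (flp_c L15510) (flp_b L15495) L17383 L19526
theorem L19533 : sm gb N2009 = N2254 := rfl
theorem L19535 : sm gd N2254 = N2254 := ded_18_2 (flp_b L19533) L17398 L19533
theorem L19536 : sm ge N2254 = N2254 := ded_19_2 (flp_b L19533) L17391 L19533
theorem L19537 : sm gf N2254 = N2019 := ded_20_2 L17498 (flp_f L17392) L19533
theorem L19539 : sm gg N2254 = N2010 := ded_21_2 (flp_b L17399) (flp_g L17394) L19533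
theorem L19541 : sm gi N2254 = N2046 := ded_23_2 L17742 (flp_i L17396) L19533
theorem L19543 : sm ga N2138 = N2254 := ded_13_3 L19537 L17496 L18441
theorem L19545 : sm ga N2010 = N2255 := rfl
theorem L19547 : sm gd N2255 = N2255 := ded_11_2 (flp_a L19545) L17401 L19545
theorem L19548 : sm ge N2255 = N2255 := ded_12_2 (flp_a L19545) L17402 L19545
theorem L19549 : sm gf N2255 = N2105 := ded_13_2 (flp_a L18208) (flp_f L17403) L19545
theorem L19551 : sm gg N2255 = N2138 := ded_14_2 L19543 L19539 L19545
theorem L19553 : sm gb N2255 = N2255 := ded_9_2 (flp_a L19545) (flp_b L17399) L15512 L17399 L19545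
theorem L19554 : sm gh N2011 = N2256 := rfl
theorem L19556 : sm ga N2256 = N2256 := ded_15_1 (flp_h L19554) L17407 L19554
theorem L19557 : sm gb N2256 = N2106 := ded_22_1 (flp_h L18216) (flp_b L17408) L19554
theorem L19559 : sm gc N2256 = N2256 := ded_28_1 (flp_h L19554) L17410 L19554
theorem L19560 : sm ge N2256 = N2013 := ded_37_1 (flp_h L17424) (flp_e L17412) L19554
theorem L19562 : sm gg N2256 = N2012 := ded_42_1 (flp_h L17415) L17405 L19554
theorem L19564 : sm gd N2012 = N2257 := rfl
theorem L19566 : sm ga N2257 = N2257 := ded_11_1 (flp_d L19564) L17417 L19564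
theorem L19567 : sm gb N2257 = N2107 := ded_18_1 (flp_d L18226) (flp_b L17418) L19564
theorem L19569 : sm gf N2257 = N2257 := ded_31_2 (flp_d L19564) L17423 L19564
theorem L19570 : sm ge N2257 = N2024 := ded_30_2 (flp_d L17545) L15636 (flp_d L15544) (flp_e L17421) L19564
theorem L19572 : sm gh N2257 = N2257 := ded_33_2 (flp_d L19564) (flp_h L17415) L15524 L17415 L19564
theorem L19573 : sm gi N2012 = N2258 := rfl
theorem L19575 : sm ga N2258 = N2258 := ded_16_1 (flp_i L19573) L17417 L19573
theorem L19576 : sm gb N2258 = N2108 := ded_23_1 (flp_i L18232) (flp_b L17418) L19573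
theorem L19578 : sm gc N2258 = N2258 := ded_29_1 (flp_i L19573) L17420 L19573
theorem L19579 : sm ge N2258 = N2014 := ded_38_1 (flp_i L17435) (flp_e L17421) L19573
theorem L19581 : sm gf N2258 = N2258 := ded_41_1 (flp_i L19573) L17423 L19573
theorem L19582 : sm gh N2258 = N2258 := ded_44_1 (flp_i L19573) (flp_h L17415) L15523 L17415 L19573
theorem L19583 : sm gi N2013 = N2259 := rfl
theorem L19585 : sm ga N2259 = N2259 := ded_16_1 (flp_i L19583) L17426 L19583
theorem L19586 : sm gb N2259 = N2109 := ded_23_1 (flp_i L18242) (flp_b L17427) L19583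
theorem L19588 : sm gc N2259 = N2259 := ded_29_1 (flp_i L19583) L17429 L19583
theorem L19589 : sm gd N2259 = N2026 := ded_34_1 (flp_i L17558) (flp_d L17433) L19583
theorem L19591 : sm gf N2259 = N2259 := ded_41_1 (flp_i L19583) L17430 L19583
theorem L19592 : sm gg N2259 = N2014 := ded_43_1 (flp_i L17435) (flp_g L17431) L19583
theorem L19594 : sm gh N2259 = N2259 := ded_44_1 (flp_i L19583) (flp_h L17424) L15534 L17424 L19583
theorem L19595 : sm gd N2015 = N2260 := rfl
theorem L19597 : sm ga N2260 = N2135 := ded_11_1 L18427 (flp_a L17448) L19595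
theorem L19599 : sm gb N2260 = N2062 := ded_18_1 (flp_d L17876) (flp_b L17450) L19595
theorem L19601 : sm gi N2260 = N2038 := ded_34_2 (flp_d L17675) (flp_i L17454) L19595
theorem L19603 : sm gc N2260 = N2260 := ded_24_1 (flp_d L19595) L17452 L15588 (flp_c L17452) L19595
theorem L19604 : sm ge N2260 = N2076 := ded_30_2 L18008 (flp_e L16389) (flp_d L15565) L17446 L19595
theorem L19606 : sm gg N2075 = N2260 := ded_21_0 L19599 (flp_g L17886) (flp_b L17998)
theorem L19608 : sm gg N2015 = N2261 := rfl
theorem L19610 : sm ga N2261 = N2136 := ded_14_1 L18433 (flp_a L17448) L19608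
theorem L19612 : sm gb N2261 = N2063 := ded_21_1 (flp_g L17888) (flp_b L17450) L19608
theorem L19614 : sm gc N2261 = N2019 := ded_27_1 (flp_g L17494) (flp_c L17452) L19608
theorem L19616 : sm gd N2261 = N2075 := ded_32_1 L19606 (flp_d L19595) L19608
theorem L19618 : sm ge N2261 = N2016 := ded_36_1 (flp_g L17456) L17446 L19608
theorem L19620 : sm gi N2261 = N2039 := ded_43_2 (flp_g L17682) (flp_i L17454) L19608
theorem L19622 : sm gh N2015 = N2262 := rfl
theorem L19624 : sm ga N2262 = N2091 := ded_15_1 L18122 (flp_a L17448) L19622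
theorem L19626 : sm gb N2262 = N2064 := ded_22_1 (flp_h L17900) (flp_b L17450) L19622
theorem L19628 : sm gc N2262 = N2020 := ded_28_1 (flp_h L17505) (flp_c L17452) L19622
theorem L19630 : sm ge N2262 = N2017 := ded_37_1 (flp_h L17469) L17446 L19622
theorem L19632 : sm gh N2016 = N2263 := rfl
theorem L19634 : sm ga N2263 = N2089 := ded_15_1 L18109 (flp_a L17458) L19632
theorem L19636 : sm gb N2263 = N2065 := ded_22_1 (flp_h L17906) (flp_b L17460) L19632
theorem L19638 : sm gc N2263 = N2021 := ded_28_1 (flp_h L17513) (flp_c L17462) L19632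
theorem L19640 : sm gf N2263 = N2263 := ded_40_1 (flp_h L19632) L17468 L19632
theorem L19641 : sm gg N2263 = N2017 := ded_42_1 (flp_h L17469) L17456 L19632
theorem L19643 : sm gd N2263 = N2078 := ded_33_1 (flp_h L18021) L16004 (flp_h L16414) (flp_d L17464) L19632
theorem L19645 : sm gi N2017 = N2264 := rfl
theorem L19647 : sm ga N2264 = N2092 := ded_16_1 (flp_i L18124) (flp_a L17471) L19645
theorem L19649 : sm gb N2264 = N2067 := ded_23_1 (flp_i L17924) (flp_b L17473) L19645
theorem L19651 : sm gc N2264 = N2022 := ded_29_1 (flp_i L17524) (flp_c L17475) L19645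
theorem L19653 : sm gd N2264 = N2079 := ded_34_1 (flp_i L18030) (flp_d L17479) L19645
theorem L19655 : sm gf N2264 = N2018 := ded_41_1 (flp_i L17481) (flp_f L17477) L19645
theorem L19657 : sm gh N2264 = N2043 := ded_44_1 (flp_i L17716) (flp_h L15732) (flp_i L15567) L17469 L19645
theorem L19659 : sm gh N2019 = N2265 := rfl
theorem L19661 : sm ga N2265 = N2118 := ded_15_1 L18316 (flp_a L17496) L19659
theorem L19663 : sm gb N2265 = N2023 := ded_22_1 (flp_h L17536) (flp_b L17498) L19659
theorem L19665 : sm ge N2265 = N2021 := ded_37_1 (flp_h L17513) (flp_e L17501) L19659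
theorem L19667 : sm gg N2265 = N2020 := ded_42_1 (flp_h L17505) L17494 L19659
theorem L19669 : sm gd N2020 = N2266 := rfl
theorem L19671 : sm ga N2266 = N2116 := ded_11_1 L18303 (flp_a L17507) L19669
theorem L19673 : sm gb N2266 = N2024 := ded_18_1 (flp_d L17545) (flp_b L17509) L19669
theorem L19675 : sm ge N2266 = N2107 := ded_30_2 (flp_d L18226) L16214 (flp_d L15608) (flp_e L17511) L19669
theorem L19677 : sm gh N2266 = N2266 := ded_33_2 (flp_d L19669) (flp_h L17505) L15588 L17505 L19669
theorem L19678 : sm gi N2020 = N2267 := rfl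
theorem L19680 : sm ga N2267 = N2121 := ded_16_1 (flp_i L18333) (flp_a L17507) L19678
theorem L19682 : sm gb N2267 = N2025 := ded_23_1 (flp_i L17549) (flp_b L17509) L19678
theorem L19684 : sm ge N2267 = N2022 := ded_38_1 (flp_i L17524) (flp_e L17511) L19678
theorem L19686 : sm gh N2267 = N2049 := ded_44_1 (flp_i L17760) (flp_h L15762) (flp_i L15586) L17505 L19678
theorem L19688 : sm gi N2021 = N2268 := rfl
theorem L19690 : sm ga N2268 = N2119 := ded_16_1 (flp_i L18318) (flp_a L17515) L19688
theorem L19692 : sm gb N2268 = N2026 := ded_23_1 (flp_i L17558) (flp_b L17517) L19688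
theorem L19694 : sm gd N2268 = N2109 := ded_34_1 (flp_i L18242) (flp_d L17522) L19688
theorem L19696 : sm gf N2268 = N2268 := ded_41_1 (flp_i L19688) L17519 L19688
theorem L19697 : sm gg N2268 = N2022 := ded_43_1 (flp_i L17524) (flp_g L17520) L19688
theorem L19699 : sm gh N2268 = N2050 := ded_44_1 (flp_i L17766) (flp_h L15768) (flp_i L15597) L17513 L19688
theorem L19701 : sm gd N2023 = N2269 := rfl
theorem L19703 : sm ga N2269 = N2269 := ded_11_1 (flp_d L19701) L17538 L19701
theorem L19704 : sm gg N2269 = N2024 := ded_32_2 (flp_d L17545) (flp_g L17543) L19701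
theorem L19706 : sm gh N2269 = N2269 := ded_33_2 (flp_d L19701) (flp_h L17536) L15626 L17536 L19701
theorem L19707 : sm gi N2023 = N2270 := rfl
theorem L19709 : sm ga N2270 = N2270 := ded_16_1 (flp_i L19707) L17538 L19707
theorem L19710 : sm gc N2270 = N2073 := ded_29_1 (flp_i L17979) (flp_c L17539) L19707
theorem L19712 : sm ge N2270 = N2026 := ded_38_1 (flp_i L17558) (flp_e L17541) L19707
theorem L19714 : sm gg N2270 = N2025 := ded_43_1 (flp_i L17549) (flp_g L17543) L19707
theorem L19716 : sm gh N2270 = N2053 := ded_44_1 (flp_i L17789) (flp_h L15790) (flp_i L15629) L17536 L19707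
theorem L19718 : sm gc N2024 = N2271 := rfl
theorem L19720 : sm ga N2271 = N2271 := ded_10_1 (flp_c L19718) L17547 L19718
theorem L19721 : sm gf N2271 = N2052 := ded_26_2 (flp_c L18684) L18680 L19718
theorem L19723 : sm gh N2271 = N2271 := ded_28_2 (flp_c L19718) L17548 L19718
theorem L19724 : sm gd N2271 = N2051 := ded_24_2 L17777 (flp_d L15961) (flp_c L15634) L17545 L19718
theorem L19726 : sm gi N2024 = N2272 := rfl
theorem L19728 : sm ga N2272 = N2272 := ded_16_1 (flp_i L19726) L17547 L19726
theorem L19729 : sm gd N2272 = N2025 := ded_34_1 (flp_i L17549) L17545 L19726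
theorem L19731 : sm ge N2027 = N2273 := rfl
theorem L19733 : sm ga N2273 = N2075 := ded_12_1 (flp_e L17996) (flp_a L17570) L19731
theorem L19735 : sm gb N2273 = N2029 := ded_19_1 (flp_e L17591) (flp_b L17572) L19731
theorem L19737 : sm gc N2273 = N2273 := ded_25_1 (flp_e L19731) L17574 L19731
theorem L19738 : sm gg N2273 = N2135 := ded_36_2 (flp_e L18424) L17579 L19731
theorem L19740 : sm gi N2273 = N2131 := ded_38_2 (flp_e L18402) (flp_i L17577) L19731
theorem L19742 : sm gd N2273 = N2136 := ded_30_1 (flp_e L18429) (flp_d L16510) L16431 (flp_d L17575) L19731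
theorem L19744 : sm gh N2027 = N2274 := rfl
theorem L19746 : sm ga N2274 = N2066 := ded_15_1 L17922 (flp_a L17570) L19744
theorem L19748 : sm gb N2274 = N2031 := ded_22_1 (flp_h L17612) (flp_b L17572) L19744
theorem L19750 : sm gc N2274 = N2274 := ded_28_1 (flp_h L19744) L17574 L19744
theorem L19751 : sm gf N2274 = N2028 := ded_40_1 (flp_h L17581) L17568 L19744
theorem L19753 : sm gg N2274 = N2133 := ded_42_1 L18417 L17579 L19744
theorem L19755 : sm gd N2274 = N2058 := ded_33_1 (flp_h L17836) L15836 (flp_h L16427) (flp_d L17575) L19744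
theorem L19757 : sm gi N2028 = N2275 := rfl
theorem L19759 : sm ga N2275 = N2068 := ded_16_1 (flp_i L17932) (flp_a L17583) L19757
theorem L19761 : sm gb N2275 = N2033 := ded_23_1 (flp_i L17630) (flp_b L17585) L19757
theorem L19763 : sm gc N2275 = N2275 := ded_29_1 (flp_i L19757) L17587 L19757
theorem L19764 : sm gd N2275 = N2059 := ded_34_1 (flp_i L17846) (flp_d L17589) L19757
theorem L19766 : sm gg N2275 = N2275 := ded_43_1 (flp_i L19757) L17588 L19757
theorem L19767 : sm gh N2275 = N2045 := ded_44_1 (flp_i L17732) L15746 (flp_i L15660) L17581 L19757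
theorem L19769 : sm gd N2029 = N2276 := rfl
theorem L19771 : sm ga N2276 = N2038 := ded_11_1 (flp_d L17675) (flp_a L17593) L19769
theorem L19773 : sm gb N2276 = N2136 := ded_18_1 (flp_d L19742) L19735 L19769
theorem L19775 : sm gi N2276 = N2135 := ded_34_2 L18427 (flp_i L17597) L19769
theorem L19777 : sm gc N2276 = N2276 := ded_24_1 (flp_d L19769) L17595 L15689 (flp_c L17595) L19769
theorem L19778 : sm ge N2276 = N2129 := ded_30_2 (flp_d L18384) (flp_e L16435) (flp_d L15671) L17591 L19769
theorem L19780 : sm gg N2131 = N2276 := ded_21_0 L19773 L18433 (flp_b L18404)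
theorem L19782 : sm gg N2029 = N2277 := rfl
theorem L19784 : sm ga N2277 = N2039 := ded_14_1 (flp_g L17682) (flp_a L17593) L19782
theorem L19786 : sm gb N2277 = N2135 := ded_21_1 (flp_g L19738) L19735 L19782
theorem L19788 : sm gc N2277 = N2034 := ded_27_1 (flp_g L17639) (flp_c L17595) L19782
theorem L19790 : sm gd N2277 = N2131 := ded_32_1 L19780 (flp_d L19769) L19782
theorem L19792 : sm ge N2277 = N2030 := ded_36_1 (flp_g L17599) L17591 L19782
theorem L19794 : sm gi N2277 = N2136 := ded_43_2 L18433 (flp_i L17597) L19782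
theorem L19796 : sm gh N2029 = N2278 := rfl
theorem L19798 : sm ga N2278 = N2040 := ded_15_1 (flp_h L17690) (flp_a L17593) L19796
theorem L19800 : sm gc N2278 = N2035 := ded_28_1 (flp_h L17649) (flp_c L17595) L19796
theorem L19802 : sm ge N2278 = N2031 := ded_37_1 (flp_h L17612) L17591 L19796
theorem L19804 : sm gh N2030 = N2279 := rfl
theorem L19806 : sm ga N2279 = N2041 := ded_15_1 (flp_h L17698) (flp_a L17601) L19804
theorem L19808 : sm gb N2279 = N2133 := ded_22_1 L18417 (flp_b L17603) L19804
theorem L19810 : sm gc N2279 = N2036 := ded_28_1 (flp_h L17656) (flp_c L17605) L19804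
theorem L19812 : sm gf N2279 = N2279 := ded_40_1 (flp_h L19804) L17611 L19804
theorem L19813 : sm gg N2279 = N2031 := ded_42_1 (flp_h L17612) L17599 L19804
theorem L19815 : sm gd N2279 = N2130 := ded_33_1 (flp_h L18396) (flp_d L16481) L16463 (flp_d L17607) L19804
theorem L19817 : sm gd N2031 = N2280 := rfl
theorem L19819 : sm ga N2280 = N2042 := ded_11_1 (flp_d L17707) (flp_a L17614) L19817
theorem L19821 : sm gb N2280 = N2058 := ded_18_1 (flp_d L19755) L19748 L19817
theorem L19823 : sm gf N2280 = N2032 := ded_31_2 (flp_d L17620) (flp_f L17618) L19817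
theorem L19825 : sm gg N2280 = N2130 := ded_32_2 (flp_d L19815) L19813 L19817
theorem L19827 : sm gc N2280 = N2280 := ded_24_1 (flp_d L19817) L17616 L15707 (flp_c L17616) L19817
theorem L19828 : sm gh N2280 = N2056 := ded_33_2 L17818 (flp_h L16465) (flp_d L15671) L17612 L19817
theorem L19830 : sm gi N2031 = N2281 := rfl
theorem L19832 : sm ga N2281 = N2043 := ded_16_1 (flp_i L17716) (flp_a L17614) L19830
theorem L19834 : sm gc N2281 = N2037 := ded_29_1 (flp_i L17665) (flp_c L17616) L19830
theorem L19836 : sm gf N2281 = N2033 := ded_41_1 (flp_i L17630) (flp_f L17618) L19830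
theorem L19838 : sm gh N2281 = N2092 := ded_44_1 (flp_i L18124) L16092 (flp_i L15673) L17612 L19830
theorem L19840 : sm gi N2032 = N2282 := rfl
theorem L19842 : sm ga N2282 = N2045 := ded_16_1 (flp_i L17732) (flp_a L17622) L19840
theorem L19844 : sm gb N2282 = N2059 := ded_23_1 (flp_i L17846) (flp_b L17624) L19840
theorem L19846 : sm gc N2282 = N2282 := ded_29_1 (flp_i L19840) L17627 L19840
theorem L19847 : sm gd N2282 = N2033 := ded_34_1 (flp_i L17630) L17620 L19840
theorem L19849 : sm gg N2282 = N2282 := ded_43_1 (flp_i L19840) L17626 L19840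
theorem L19850 : sm gh N2282 = N2068 := ded_44_1 (flp_i L17932) L15908 (flp_i L15825) (flp_h L17628) L19840
theorem L19852 : sm gf N2034 = N2283 := rfl
theorem L19854 : sm ga N2283 = N2046 := ded_13_1 (flp_f L17740) (flp_a L17641) L19852
theorem L19856 : sm gb N2283 = N2283 := ded_20_1 (flp_f L19852) L17643 L19852
theorem L19857 : sm gd N2283 = N2283 := ded_31_1 (flp_f L19852) L17644 L19852
theorem L19858 : sm gi N2283 = N2138 := ded_41_2 (flp_f L18441) (flp_i L17647) L19852
theorem L19860 : sm ge N2283 = N2283 := ded_35_1 (flp_f L19852) L17645 L15699 (flp_e L17645) L19852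
theorem L19861 : sm gh N2034 = N2284 := rfl
theorem L19863 : sm ga N2284 = N2047 := ded_15_1 (flp_h L17746) (flp_a L17641) L19861
theorem L19865 : sm gb N2284 = N2284 := ded_22_1 (flp_h L19861) L17643 L19861
theorem L19866 : sm ge N2284 = N2036 := ded_37_1 (flp_h L17656) (flp_e L17645) L19861
theorem L19868 : sm gg N2284 = N2035 := ded_42_1 (flp_h L17649) L17639 L19861
theorem L19870 : sm gd N2035 = N2285 := rfl
theorem L19872 : sm ga N2285 = N2048 := ded_11_1 (flp_d L17754) (flp_a L17651) L19870
theorem L19874 : sm gb N2285 = N2285 := ded_18_1 (flp_d L19870) L17653 L19870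
theorem L19875 : sm ge N2285 = N2285 := ded_30_2 (flp_d L19870) L17654 L15707 (flp_e L17654) L19870
theorem L19876 : sm gh N2285 = N2285 := ded_33_2 (flp_d L19870) (flp_h L17649) L15689 L17649 L19870
theorem L19877 : sm gi N2035 = N2286 := rfl
theorem L19879 : sm ga N2286 = N2049 := ded_16_1 (flp_i L17760) (flp_a L17651) L19877
theorem L19881 : sm gb N2286 = N2286 := ded_23_1 (flp_i L19877) L17653 L19877
theorem L19882 : sm ge N2286 = N2037 := ded_38_1 (flp_i L17665) (flp_e L17654) L19877
theorem L19884 : sm gh N2286 = N2121 := ded_44_1 (flp_i L18333) L16313 (flp_i L15687) L17649 L19877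
theorem L19886 : sm gi N2036 = N2287 := rfl
theorem L19888 : sm ga N2287 = N2050 := ded_16_1 (flp_i L17766) (flp_a L17658) L19886
theorem L19890 : sm gb N2287 = N2287 := ded_23_1 (flp_i L19886) L17660 L19886
theorem L19891 : sm gd N2287 = N2287 := ded_34_1 (flp_i L19886) L17664 L19886
theorem L19892 : sm gf N2287 = N2287 := ded_41_1 (flp_i L19886) L17661 L19886
theorem L19893 : sm gg N2287 = N2037 := ded_43_1 (flp_i L17665) (flp_g L17662) L19886
theorem L19895 : sm gh N2287 = N2119 := ded_44_1 (flp_i L18318) L16299 (flp_i L15697) L17656 L19886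
theorem L19897 : sm gg N2038 = N2288 := rfl
theorem L19899 : sm ga N2288 = N2131 := ded_14_1 L19780 L19771 L19897
theorem L19901 : sm gb N2288 = N2057 := ded_21_1 L17830 (flp_b L17677) L19897
theorem L19903 : sm gc N2288 = N2288 := ded_27_1 (flp_g L19897) L17679 L19897
theorem L19904 : sm gd N2288 = N2039 := ded_32_1 (flp_g L17682) L17675 L19897
theorem L19906 : sm ge N2288 = N2056 := ded_36_1 (flp_g L17822) (flp_e L17680) L19897
theorem L19908 : sm gi N2288 = N2075 := ded_43_2 L19606 L19601 L19897
theorem L19910 : sm gh N2038 = N2289 := rfl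
theorem L19912 : sm gb N2289 = N2084 := ded_22_1 (flp_h L18075) (flp_b L17677) L19910
theorem L19914 : sm gc N2289 = N2289 := ded_28_1 (flp_h L19910) L17679 L19910
theorem L19915 : sm ge N2289 = N2130 := ded_37_1 (flp_h L18396) (flp_e L17680) L19910
theorem L19917 : sm gf N2039 = N2290 := rfl
theorem L19919 : sm gb N2290 = N2085 := ded_20_1 (flp_f L18081) (flp_b L17684) L19917
theorem L19921 : sm gc N2290 = N2046 := ded_26_1 (flp_f L17740) (flp_c L17686) L19917
theorem L19923 : sm ge N2290 = N2290 := ded_35_1 (flp_f L19917) L17688 L15731 (flp_e L17688) L19917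
theorem L19924 : sm gh N2039 = N2291 := rfl
theorem L19926 : sm gb N2291 = N2086 := ded_22_1 (flp_h L18086) (flp_b L17684) L19924
theorem L19928 : sm gc N2291 = N2047 := ded_28_1 (flp_h L17746) (flp_c L17686) L19924
theorem L19930 : sm ge N2291 = N2041 := ded_37_1 (flp_h L17698) (flp_e L17688) L19924
theorem L19932 : sm gg N2291 = N2040 := ded_42_1 (flp_h L17690) L17682 L19924
theorem L19934 : sm gd N2040 = N2292 := rfl
theorem L19936 : sm gb N2292 = N2087 := ded_18_1 (flp_d L18094) (flp_b L17692) L19934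
theorem L19938 : sm gi N2040 = N2293 := rfl
theorem L19940 : sm gb N2293 = N2088 := ded_23_1 (flp_i L18096) (flp_b L17692) L19938
theorem L19942 : sm gc N2293 = N2049 := ded_29_1 (flp_i L17760) (flp_c L17694) L19938
theorem L19944 : sm ge N2293 = N2043 := ded_38_1 (flp_i L17716) (flp_e L17696) L19938
theorem L19946 : sm gd N2041 = N2294 := rfl
theorem L19948 : sm ga N2294 = N2130 := ded_11_1 (flp_d L19815) L19806 L19946
theorem L19950 : sm gb N2294 = N2089 := ded_18_1 (flp_d L18102) (flp_b L17700) L19946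
theorem L19952 : sm gf N2294 = N2294 := ded_31_2 (flp_d L19946) L17704 L19946
theorem L19953 : sm gg N2294 = N2042 := ded_32_2 (flp_d L17707) (flp_g L17705) L19946
theorem L19955 : sm gc N2294 = N2294 := ded_24_1 (flp_d L19946) L17702 L15775 (flp_c L17702) L19946
theorem L19956 : sm gh N2294 = N2129 := ded_33_2 (flp_d L18384) (flp_h L16448) (flp_d L15729) L17698 L19946
theorem L19958 : sm gi N2041 = N2295 := rfl
theorem L19960 : sm gb N2295 = N2090 := ded_23_1 (flp_i L18111) (flp_b L17700) L19958
theorem L19962 : sm gc N2295 = N2050 := ded_29_1 (flp_i L17766) (flp_c L17702) L19958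
theorem L19964 : sm gf N2295 = N2295 := ded_41_1 (flp_i L19958) L17704 L19958
theorem L19965 : sm gg N2295 = N2043 := ded_43_1 (flp_i L17716) (flp_g L17705) L19958
theorem L19967 : sm ge N2042 = N2296 := rfl
theorem L19969 : sm gb N2296 = N2091 := ded_19_1 (flp_e L18118) (flp_b L17709) L19967
theorem L19971 : sm gc N2296 = N2296 := ded_25_1 (flp_e L19967) L17713 L19967
theorem L19972 : sm gh N2296 = N2131 := ded_37_2 (flp_e L18402) (flp_h L17714) L19967
theorem L19974 : sm gi N2042 = N2297 := rfl
theorem L19976 : sm gb N2297 = N2092 := ded_23_1 (flp_i L18124) (flp_b L17709) L19974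
theorem L19978 : sm gc N2297 = N2297 := ded_29_1 (flp_i L19974) L17713 L19974
theorem L19979 : sm gd N2297 = N2043 := ded_34_1 (flp_i L17716) L17707 L19974
theorem L19981 : sm gf N2297 = N2045 := ded_41_1 (flp_i L17732) (flp_f L17711) L19974
theorem L19983 : sm gf N2044 = N2298 := rfl
theorem L19985 : sm gb N2298 = N2093 := ded_20_1 (flp_f L18132) (flp_b L17726) L19983
theorem L19987 : sm gc N2298 = N2298 := ded_26_1 (flp_f L19983) L17728 L19983
theorem L19988 : sm gh N2298 = N2132 := ded_40_2 (flp_f L18407) (flp_h L17730) L19983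
theorem L19990 : sm gi N2044 = N2299 := rfl
theorem L19992 : sm gb N2299 = N2094 := ded_23_1 (flp_i L18138) (flp_b L17726) L19990
theorem L19994 : sm gc N2299 = N2299 := ded_29_1 (flp_i L19990) L17728 L19990
theorem L19995 : sm ge N2299 = N2045 := ded_38_1 (flp_i L17732) L17724 L19990
theorem L19997 : sm gg N2299 = N2299 := ded_43_1 (flp_i L19990) L17729 L19990
theorem L19998 : sm gh N2046 = N2300 := rfl
theorem L20000 : sm gb N2300 = N2051 := ded_22_1 (flp_h L17774) (flp_b L17742) L19998
theorem L20002 : sm ge N2300 = N2300 := ded_37_1 (flp_h L19998) L17745 L19998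
theorem L20003 : sm gf N2300 = N2047 := ded_40_1 (flp_h L17746) L17740 L19998
theorem L20005 : sm gd N2047 = N2301 := rfl
theorem L20007 : sm gb N2301 = N2052 := ded_18_1 (flp_d L17782) (flp_b L17748) L20005
theorem L20009 : sm gg N2301 = N2048 := ded_32_2 (flp_d L17754) (flp_g L17752) L20005
theorem L20011 : sm ge N2301 = N2301 := ded_30_2 (flp_d L20005) L17750 L15775 (flp_e L17750) L20005
theorem L20012 : sm gh N2301 = N2301 := ded_33_2 (flp_d L20005) (flp_h L17746) L15759 L17746 L20005
theorem L20013 : sm gi N2047 = N2302 := rfl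
theorem L20015 : sm gb N2302 = N2053 := ded_23_1 (flp_i L17789) (flp_b L17748) L20013
theorem L20017 : sm ge N2302 = N2050 := ded_38_1 (flp_i L17766) (flp_e L17750) L20013
theorem L20019 : sm gg N2302 = N2049 := ded_43_1 (flp_i L17760) (flp_g L17752) L20013
theorem L20021 : sm gc N2048 = N2303 := rfl
theorem L20023 : sm ge N2303 = N2303 := ded_25_2 (flp_c L20021) L17758 L20021
theorem L20024 : sm gh N2303 = N2303 := ded_28_2 (flp_c L20021) L17759 L20021
theorem L20025 : sm gi N2048 = N2304 := rfl
theorem L20027 : sm gb N2304 = N2055 := ded_23_1 (flp_i L17805) (flp_b L17756) L20025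
theorem L20029 : sm gd N2304 = N2049 := ded_34_1 (flp_i L17760) L17754 L20025
theorem L20031 : sm ge N2304 = N2304 := ded_38_1 (flp_i L20025) L17758 L20025
theorem L20032 : sm gi N2051 = N2305 := rfl
theorem L20034 : sm ga N2305 = N2305 := ded_16_1 (flp_i L20032) L17776 L20032
theorem L20035 : sm gc N2305 = N2074 := ded_29_1 (flp_i L17988) (flp_c L17777) L20032
theorem L20037 : sm ge N2305 = N2305 := ded_38_1 (flp_i L20032) L17779 L20032
theorem L20038 : sm gf N2305 = N2053 := ded_41_1 (flp_i L17789) (flp_f L17780) L20032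
theorem L20040 : sm gi N2052 = N2306 := rfl
theorem L20042 : sm ga N2306 = N2306 := ded_16_1 (flp_i L20040) L17784 L20040
theorem L20043 : sm gd N2306 = N2053 := ded_34_1 (flp_i L17789) L17782 L20040
theorem L20045 : sm ge N2306 = N2306 := ded_38_1 (flp_i L20040) L17787 L20040
theorem L20046 : sm gg N2306 = N2055 := ded_43_1 (flp_i L17805) (flp_g L17785) L20040
theorem L20048 : sm gb N2054 = N2307 := rfl
theorem L20050 : sm gd N2307 = N2098 := ded_18_2 (flp_b L18167) (flp_d L17803) L20048
theorem L20052 : sm ge N2307 = N2307 := ded_19_2 (flp_b L20048) L17801 L20048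
theorem L20053 : sm gh N2307 = N2307 := ded_22_2 (flp_b L20048) L17802 L20048
theorem L20054 : sm gi N2054 = N2308 := rfl
theorem L20056 : sm ga N2308 = N2308 := ded_16_1 (flp_i L20054) L17800 L20054
theorem L20057 : sm gc N2308 = N2055 := ded_29_1 (flp_i L17805) L17798 L20054
theorem L20059 : sm gd N2308 = N2099 := ded_34_1 (flp_i L18173) (flp_d L17803) L20054
theorem L20061 : sm ge N2308 = N2308 := ded_38_1 (flp_i L20054) L17801 L20054
theorem L20062 : sm gh N2055 = N2309 := rfl
theorem L20064 : sm ga N2309 = N2309 := ded_15_1 (flp_h L20062) L17807 L20062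
theorem L20065 : sm ge N2309 = N2309 := ded_37_1 (flp_h L20062) L17810 L20062
theorem L20066 : sm gi N2309 = N2309 := ded_44_2 (flp_h L20062) (flp_i L17805) L15803 L17805 L20062
theorem L20067 : sm gh N2057 = N2310 := rfl
theorem L20069 : sm ga N2310 = N2064 := ded_15_1 (flp_h L17900) (flp_a L17826) L20067
theorem L20071 : sm gc N2310 = N2060 := ded_28_1 (flp_h L17855) (flp_c L17828) L20067
theorem L20073 : sm ge N2310 = N2058 := ded_37_1 (flp_h L17836) L17824 L20067
theorem L20075 : sm gg N2310 = N2084 := ded_42_1 (flp_h L18075) (flp_g L17830) L20067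
theorem L20077 : sm gi N2058 = N2311 := rfl
theorem L20079 : sm ga N2311 = N2067 := ded_16_1 (flp_i L17924) (flp_a L17838) L20077
theorem L20081 : sm gc N2311 = N2061 := ded_29_1 (flp_i L17864) (flp_c L17840) L20077
theorem L20083 : sm gf N2311 = N2059 := ded_41_1 (flp_i L17846) (flp_f L17842) L20077
theorem L20085 : sm gg N2311 = N2134 := ded_43_1 (flp_i L18419) (flp_g L17844) L20077
theorem L20087 : sm gh N2311 = N2079 := ded_44_1 (flp_i L18030) (flp_h L16009) (flp_i L15838) L17836 L20077
theorem L20089 : sm gi N2060 = N2312 := rfl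
theorem L20091 : sm ga N2312 = N2071 := ded_16_1 (flp_i L17959) (flp_a L17857) L20089
theorem L20093 : sm gb N2312 = N2312 := ded_23_1 (flp_i L20089) L17859 L20089
theorem L20094 : sm ge N2312 = N2061 := ded_38_1 (flp_i L17864) (flp_e L17860) L20089
theorem L20096 : sm gg N2312 = N2102 := ded_43_1 (flp_i L18192) (flp_g L17862) L20089
theorem L20098 : sm gh N2312 = N2082 := ded_44_1 (flp_i L18056) (flp_h L16035) (flp_i L15856) L17855 L20089
theorem L20100 : sm gh N2062 = N2313 := rfl
theorem L20102 : sm ga N2313 = N2086 := ded_15_1 (flp_h L18086) (flp_a L17878) L20100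
theorem L20104 : sm gc N2313 = N2080 := ded_28_1 (flp_h L18038) (flp_c L17882) L20100
theorem L20106 : sm ge N2313 = N2078 := ded_37_1 (flp_h L18021) (flp_e L17884) L20100
theorem L20108 : sm gg N2313 = N2077 := ded_42_1 (flp_h L18013) L17886 L20100
theorem L20110 : sm gh N2063 = N2314 := rfl
theorem L20112 : sm ga N2314 = N2084 := ded_15_1 (flp_h L18075) (flp_a L17890) L20110
theorem L20114 : sm gc N2314 = N2069 := ded_28_1 (flp_h L17940) (flp_c L17892) L20110
theorem L20116 : sm ge N2314 = N2065 := ded_37_1 (flp_h L17906) (flp_e L17896) L20110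
theorem L20118 : sm gg N2314 = N2064 := ded_42_1 (flp_h L17900) L17888 L20110
theorem L20120 : sm gd N2064 = N2315 := rfl
theorem L20122 : sm gi N2064 = N2316 := rfl
theorem L20124 : sm gc N2316 = N2071 := ded_29_1 (flp_i L17959) (flp_c L17902) L20122
theorem L20126 : sm ge N2316 = N2067 := ded_38_1 (flp_i L17924) (flp_e L17904) L20122
theorem L20128 : sm gh N2316 = N2088 := ded_44_1 (flp_i L18096) (flp_h L16073) (flp_i L15883) L17900 L20122
theorem L20130 : sm gd N2065 = N2317 := rfl
theorem L20132 : sm ga N2317 = N2133 := ded_11_1 (flp_d L18413) (flp_a L17908) L20130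
theorem L20134 : sm gb N2317 = N2078 := ded_18_1 (flp_d L19643) L19636 L20130
theorem L20136 : sm gf N2317 = N2317 := ded_31_2 (flp_d L20130) L17912 L20130
theorem L20137 : sm gg N2317 = N2066 := ded_32_2 (flp_d L17915) (flp_g L17913) L20130
theorem L20139 : sm gc N2317 = N2317 := ded_24_1 (flp_d L20130) L17910 L15944 (flp_c L17910) L20130
theorem L20140 : sm gh N2317 = N2076 := ded_33_2 L18008 L16397 (flp_d L15891) L17906 L20130
theorem L20142 : sm gi N2065 = N2318 := rfl
theorem L20144 : sm ga N2318 = N2134 := ded_16_1 (flp_i L18419) (flp_a L17908) L20142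
theorem L20146 : sm gc N2318 = N2072 := ded_29_1 (flp_i L17967) (flp_c L17910) L20142
theorem L20148 : sm gf N2318 = N2318 := ded_41_1 (flp_i L20142) L17912 L20142
theorem L20149 : sm gg N2318 = N2067 := ded_43_1 (flp_i L17924) (flp_g L17913) L20142
theorem L20151 : sm gh N2318 = N2090 := ded_44_1 (flp_i L18111) (flp_h L16079) (flp_i L15893) L17906 L20142
theorem L20153 : sm ge N2066 = N2319 := rfl
theorem L20155 : sm gb N2319 = N2077 := ded_19_1 L18019 (flp_b L17917) L20153
theorem L20157 : sm gc N2319 = N2319 := ded_25_1 (flp_e L20153) L17921 L20153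
theorem L20158 : sm gh N2319 = N2075 := ded_37_2 (flp_e L17996) (flp_h L17922) L20153
theorem L20160 : sm gi N2066 = N2320 := rfl
theorem L20162 : sm gb N2320 = N2079 := ded_23_1 (flp_i L18030) (flp_b L17917) L20160
theorem L20164 : sm gc N2320 = N2320 := ded_29_1 (flp_i L20160) L17921 L20160
theorem L20165 : sm gd N2320 = N2067 := ded_34_1 (flp_i L17924) L17915 L20160
theorem L20167 : sm gf N2320 = N2068 := ded_41_1 (flp_i L17932) (flp_f L17919) L20160
theorem L20169 : sm gi N2069 = N2321 := rfl
theorem L20171 : sm ga N2321 = N2102 := ded_16_1 (flp_i L18192) (flp_a L17942) L20169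
theorem L20173 : sm gb N2321 = N2073 := ded_23_1 (flp_i L17979) (flp_b L17944) L20169
theorem L20175 : sm ge N2321 = N2072 := ded_38_1 (flp_i L17967) (flp_e L17946) L20169
theorem L20177 : sm gg N2321 = N2071 := ded_43_1 (flp_i L17959) (flp_g L17948) L20169
theorem L20179 : sm gh N2321 = N2095 := ded_44_1 (flp_i L18145) (flp_h L16121) (flp_i L15927) L17940 L20169
theorem L20181 : sm gc N2070 = N2322 := rfl
theorem L20183 : sm ge N2322 = N2322 := ded_25_2 (flp_c L20181) L17956 L20181
theorem L20184 : sm gf N2322 = N2086 := ded_26_2 L18088 (flp_f L17954) L20181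
theorem L20186 : sm gh N2322 = N2085 := ded_28_2 L18083 (flp_h L17957) L20181
theorem L20188 : sm gi N2070 = N2323 := rfl
theorem L20190 : sm gb N2323 = N2074 := ded_23_1 (flp_i L17988) (flp_b L17952) L20188
theorem L20192 : sm gd N2323 = N2071 := ded_34_1 (flp_i L17959) L17950 L20188
theorem L20194 : sm ge N2323 = N2323 := ded_38_1 (flp_i L20188) L17956 L20188
theorem L20195 : sm gf N2323 = N2095 := ded_41_1 (flp_i L18145) (flp_f L17954) L20188
theorem L20197 : sm gd N2077 = N2324 := rfl
theorem L20199 : sm ga N2324 = N2087 := ded_11_1 (flp_d L18094) (flp_a L18015) L20197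
theorem L20201 : sm gi N2077 = N2325 := rfl
theorem L20203 : sm ga N2325 = N2088 := ded_16_1 (flp_i L18096) (flp_a L18015) L20201
theorem L20205 : sm gc N2325 = N2082 := ded_29_1 (flp_i L18056) (flp_c L18017) L20201
theorem L20207 : sm ge N2325 = N2079 := ded_38_1 (flp_i L18030) (flp_e L18019) L20201
theorem L20209 : sm gi N2078 = N2326 := rfl
theorem L20211 : sm ga N2326 = N2090 := ded_16_1 (flp_i L18111) (flp_a L18023) L20209
theorem L20213 : sm gc N2326 = N2083 := ded_29_1 (flp_i L18063) (flp_c L18025) L20209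
theorem L20215 : sm gf N2326 = N2326 := ded_41_1 (flp_i L20209) L18027 L20209
theorem L20216 : sm gg N2326 = N2079 := ded_43_1 (flp_i L18030) (flp_g L18028) L20209
theorem L20218 : sm gh N2326 = N2134 := ded_44_1 (flp_i L18419) (flp_h L16501) (flp_i L16006) L18021 L20209
theorem L20220 : sm gi N2080 = N2327 := rfl
theorem L20222 : sm ga N2327 = N2095 := ded_16_1 (flp_i L18145) (flp_a L18040) L20220
theorem L20224 : sm gb N2327 = N2327 := ded_23_1 (flp_i L20220) L18042 L20220
theorem L20225 : sm ge N2327 = N2083 := ded_38_1 (flp_i L18063) (flp_e L18043) L20220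
theorem L20227 : sm gg N2327 = N2082 := ded_43_1 (flp_i L18056) (flp_g L18045) L20220
theorem L20229 : sm gh N2327 = N2102 := ded_44_1 (flp_i L18192) (flp_h L16180) (flp_i L16033) L18038 L20220
theorem L20231 : sm gc N2081 = N2328 := rfl
theorem L20233 : sm ga N2328 = N2096 := ded_10_1 (flp_c L18153) (flp_a L18049) L20231
theorem L20235 : sm ge N2328 = N2111 := ded_25_2 (flp_c L18262) (flp_e L18052) L20231
theorem L20237 : sm gh N2328 = N2100 := ded_28_2 (flp_c L18180) (flp_h L18054) L20231
theorem L20239 : sm gi N2081 = N2329 := rfl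
theorem L20241 : sm ga N2329 = N2097 := ded_16_1 (flp_i L18159) (flp_a L18049) L20239
theorem L20243 : sm gb N2329 = N2329 := ded_23_1 (flp_i L20239) L18051 L20239
theorem L20244 : sm gd N2329 = N2082 := ded_34_1 (flp_i L18056) L18047 L20239
theorem L20246 : sm ge N2329 = N2112 := ded_38_1 (flp_i L18269) (flp_e L18052) L20239
theorem L20248 : sm gd N2084 = N2330 := rfl
theorem L20250 : sm gh N2330 = N2087 := ded_33_2 (flp_d L18094) (flp_h L16073) L16061 L18075 L20248
theorem L20252 : sm gi N2084 = N2331 := rfl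
theorem L20254 : sm gc N2331 = N2102 := ded_29_1 (flp_i L18192) (flp_c L18077) L20252
theorem L20256 : sm ge N2331 = N2134 := ded_38_1 (flp_i L18419) (flp_e L18079) L20252
theorem L20258 : sm gd N2086 = N2332 := rfl
theorem L20260 : sm gg N2332 = N2087 := ded_32_2 (flp_d L18094) (flp_g L18092) L20258
theorem L20262 : sm gi N2086 = N2333 := rfl
theorem L20264 : sm gc N2333 = N2095 := ded_29_1 (flp_i L18145) (flp_c L18088) L20262
theorem L20266 : sm ge N2333 = N2090 := ded_38_1 (flp_i L18111) (flp_e L18090) L20262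
theorem L20268 : sm gg N2333 = N2088 := ded_43_1 (flp_i L18096) (flp_g L18092) L20262
theorem L20270 : sm gc N2087 = N2334 := rfl
theorem L20272 : sm gd N2334 = N2096 := ded_24_2 (flp_c L18153) (flp_d L16129) (flp_c L16075) L18094 L20270
theorem L20274 : sm ge N2087 = N2335 := rfl
theorem L20276 : sm gd N2335 = N2091 := ded_30_1 (flp_e L18118) (flp_d L16086) (flp_e L16077) L18094 L20274
theorem L20278 : sm gi N2087 = N2336 := rfl
theorem L20280 : sm gd N2336 = N2088 := ded_34_1 (flp_i L18096) L18094 L20278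
theorem L20282 : sm ge N2089 = N2337 := rfl
theorem L20284 : sm gc N2337 = N2118 := ded_25_1 (flp_e L18311) (flp_c L18107) L20282
theorem L20286 : sm gg N2337 = N2091 := ded_36_2 (flp_e L18118) (flp_g L18105) L20282
theorem L20288 : sm gh N2337 = N2136 := ded_37_2 (flp_e L18429) (flp_h L18109) L20282
theorem L20290 : sm gi N2089 = N2338 := rfl
theorem L20292 : sm gc N2338 = N2119 := ded_29_1 (flp_i L18318) (flp_c L18107) L20290
theorem L20294 : sm gd N2338 = N2090 := ded_34_1 (flp_i L18111) L18102 L20290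
theorem L20296 : sm gf N2338 = N2338 := ded_41_1 (flp_i L20290) L18104 L20290
theorem L20297 : sm gg N2338 = N2092 := ded_43_1 (flp_i L18124) (flp_g L18105) L20290
theorem L20299 : sm gf N2091 = N2339 := rfl
theorem L20301 : sm gc N2339 = N2120 := ded_26_1 (flp_f L18326) (flp_c L18120) L20299
theorem L20303 : sm gh N2339 = N2137 := ded_40_2 (flp_f L18435) (flp_h L18122) L20299
theorem L20305 : sm ge N2339 = N2093 := ded_35_1 (flp_f L18132) (flp_e L16100) (flp_f L16088) L18118 L20299
theorem L20307 : sm gi N2091 = N2340 := rfl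
theorem L20309 : sm gc N2340 = N2121 := ded_29_1 (flp_i L18333) (flp_c L18120) L20307
theorem L20311 : sm ge N2340 = N2092 := ded_38_1 (flp_i L18124) L18118 L20307
theorem L20313 : sm gg N2093 = N2341 := rfl
theorem L20315 : sm ga N2341 = N2124 := ded_14_1 (flp_g L18626) L18618 L20313
theorem L20317 : sm gc N2341 = N2122 := ded_27_1 (flp_g L18338) (flp_c L18134) L20313
theorem L20319 : sm gh N2341 = N2128 := ded_42_2 L18382 (flp_h L18136) L20313
theorem L20321 : sm gf N2341 = N2341 := ded_39_1 (flp_g L20313) (flp_f L18132) L16104 L18132 L20313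
theorem L20322 : sm gi N2093 = N2342 := rfl
theorem L20324 : sm gc N2342 = N2123 := ded_29_1 (flp_i L18347) (flp_c L18134) L20322
theorem L20326 : sm gf N2342 = N2094 := ded_41_1 (flp_i L18138) L18132 L20322
theorem L20328 : sm gb N2096 = N2343 := rfl
theorem L20330 : sm ge N2343 = N2124 := ded_19_2 (flp_b L18353) (flp_e L18155) L20328
theorem L20332 : sm gh N2343 = N2104 := ded_22_2 (flp_b L18202) (flp_h L18157) L20328
theorem L20334 : sm gc N2343 = N2098 := ded_17_2 (flp_b L18167) (flp_c L16159) (flp_b L16131) L18153 L20328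
theorem L20336 : sm gi N2096 = N2344 := rfl
theorem L20338 : sm gc N2344 = N2097 := ded_29_1 (flp_i L18159) L18153 L20336
theorem L20340 : sm ge N2344 = N2125 := ded_38_1 (flp_i L18360) (flp_e L18155) L20336
theorem L20342 : sm ga N2098 = N2345 := rfl
theorem L20344 : sm ge N2345 = N2122 := ded_12_2 L18340 (flp_e L18169) L20342
theorem L20346 : sm gg N2345 = N2120 := ded_14_2 (flp_a L18654) L18662 L20342
theorem L20348 : sm gh N2345 = N2105 := ded_15_2 (flp_a L18208) (flp_h L18171) L20342
theorem L20350 : sm gb N2345 = N2345 := ded_9_2 (flp_a L20342) (flp_b L18167) L16161 L18167 L20342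
theorem L20351 : sm gi N2098 = N2346 := rfl
theorem L20353 : sm gb N2346 = N2099 := ded_23_1 (flp_i L18173) L18167 L20351
theorem L20355 : sm ge N2346 = N2126 := ded_38_1 (flp_i L18365) (flp_e L18169) L20351
theorem L20357 : sm gb N2100 = N2347 := rfl
theorem L20359 : sm ge N2347 = N2127 := ded_19_2 (flp_b L18371) (flp_e L18184) L20357
theorem L20361 : sm gc N2347 = N2347 := ded_17_2 (flp_b L20357) (flp_c L18180) L16177 L18180 L20357
theorem L20362 : sm gc N2101 = N2348 := rfl
theorem L20364 : sm ge N2348 = N2348 := ded_25_2 (flp_c L20362) L18189 L20362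
theorem L20365 : sm gh N2348 = N2103 := ded_28_2 (flp_c L18197) (flp_h L18190) L20362
theorem L20367 : sm gi N2101 = N2349 := rfl
theorem L20369 : sm gb N2349 = N2349 := ded_23_1 (flp_i L20367) L18188 L20367
theorem L20370 : sm gd N2349 = N2102 := ded_34_1 (flp_i L18192) L18186 L20367
theorem L20372 : sm ge N2349 = N2349 := ded_38_1 (flp_i L20367) L18189 L20367
theorem L20373 : sm gb N2103 = N2350 := rfl
theorem L20375 : sm gd N2350 = N2104 := ded_18_2 (flp_b L18202) (flp_d L18200) L20373
theorem L20377 : sm ge N2350 = N2350 := ded_19_2 (flp_b L20373) L18199 L20373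
theorem L20378 : sm gc N2350 = N2350 := ded_17_2 (flp_b L20373) (flp_c L18197) L16187 L18197 L20373
theorem L20379 : sm ga N2104 = N2351 := rfl
theorem L20381 : sm gc N2351 = N2105 := ded_10_2 (flp_a L18208) (flp_c L18206) L20379
theorem L20383 : sm ge N2351 = N2128 := ded_12_2 (flp_a L18376) (flp_e L18204) L20379
theorem L20385 : sm gg N2351 = N2137 := ded_14_2 (flp_a L18604) L18610 L20379
theorem L20387 : sm gd N2106 = N2352 := rfl
theorem L20389 : sm ga N2352 = N2113 := ded_11_1 (flp_d L18277) (flp_a L18218) L20387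
theorem L20391 : sm gg N2352 = N2107 := ded_32_2 (flp_d L18226) (flp_g L18224) L20387
theorem L20393 : sm gh N2352 = N2352 := ded_33_2 (flp_d L20387) (flp_h L18216) L16204 L18216 L20387
theorem L20394 : sm gi N2106 = N2353 := rfl
theorem L20396 : sm ga N2353 = N2114 := ded_16_1 (flp_i L18283) (flp_a L18218) L20394
theorem L20398 : sm gc N2353 = N2110 := ded_29_1 (flp_i L18252) (flp_c L18220) L20394
theorem L20400 : sm ge N2353 = N2109 := ded_38_1 (flp_i L18242) (flp_e L18222) L20394
theorem L20402 : sm gg N2353 = N2108 := ded_43_1 (flp_i L18232) (flp_g L18224) L20394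
theorem L20404 : sm gh N2353 = N2353 := ded_44_1 (flp_i L20394) (flp_h L18216) L16207 L18216 L20394
theorem L20405 : sm gc N2107 = N2354 := rfl
theorem L20407 : sm ga N2354 = N2115 := ded_10_1 (flp_c L18293) (flp_a L18228) L20405
theorem L20409 : sm gf N2354 = N2354 := ded_26_2 (flp_c L20405) L18230 L20405
theorem L20410 : sm gh N2354 = N2354 := ded_28_2 (flp_c L20405) L18231 L20405
theorem L20411 : sm gd N2354 = N2111 := ded_24_2 (flp_c L18262) (flp_d L16244) (flp_c L16212) L18226 L20405
theorem L20413 : sm gi N2107 = N2355 := rfl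
theorem L20415 : sm ga N2355 = N2117 := ded_16_1 (flp_i L18305) (flp_a L18228) L20413
theorem L20417 : sm gd N2355 = N2108 := ded_34_1 (flp_i L18232) L18226 L20413
theorem L20419 : sm gf N2355 = N2355 := ded_41_1 (flp_i L20413) L18230 L20413
theorem L20420 : sm gb N2111 = N2356 := rfl
theorem L20422 : sm gf N2356 = N2356 := ded_20_2 (flp_b L20420) L18266 L20420
theorem L20423 : sm gh N2356 = N2127 := ded_22_2 (flp_b L18371) (flp_h L18267) L20420
theorem L20425 : sm gc N2356 = N2356 := ded_17_2 (flp_b L20420) (flp_c L18262) L16248 L18262 L20420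
theorem L20426 : sm gi N2111 = N2357 := rfl
theorem L20428 : sm ga N2357 = N2125 := ded_16_1 (flp_i L18360) (flp_a L18264) L20426
theorem L20430 : sm gc N2357 = N2112 := ded_29_1 (flp_i L18269) L18262 L20426
theorem L20432 : sm gf N2357 = N2357 := ded_41_1 (flp_i L20426) L18266 L20426
theorem L20433 : sm ge N2113 = N2358 := rfl
theorem L20435 : sm gb N2358 = N2358 := ded_19_1 (flp_e L20433) L18279 L20433
theorem L20436 : sm gg N2358 = N2116 := ded_36_2 (flp_e L18299) (flp_g L18280) L20433
theorem L20438 : sm gh N2358 = N2358 := ded_37_2 (flp_e L20433) L18282 L20433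
theorem L20439 : sm gd N2358 = N2118 := ded_30_1 (flp_e L18311) (flp_d L16293) (flp_e L16275) L18277 L20433
theorem L20441 : sm gi N2113 = N2359 := rfl
theorem L20443 : sm gb N2359 = N2359 := ded_23_1 (flp_i L20441) L18279 L20441
theorem L20444 : sm gd N2359 = N2114 := ded_34_1 (flp_i L18283) L18277 L20441
theorem L20446 : sm gg N2359 = N2117 := ded_43_1 (flp_i L18305) (flp_g L18280) L20441
theorem L20448 : sm gb N2115 = N2360 := rfl
theorem L20450 : sm gd N2360 = N2124 := ded_18_2 (flp_b L18353) (flp_d L18297) L20448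
theorem L20452 : sm gf N2360 = N2360 := ded_20_2 (flp_b L20448) L18295 L20448
theorem L20453 : sm gh N2360 = N2360 := ded_22_2 (flp_b L20448) L18296 L20448
theorem L20454 : sm gc N2360 = N2360 := ded_17_2 (flp_b L20448) (flp_c L18293) L16281 L18293 L20448
theorem L20455 : sm ge N2115 = N2361 := rfl
theorem L20457 : sm gc N2361 = N2116 := ded_25_1 (flp_e L18299) L18293 L20455
theorem L20459 : sm gh N2361 = N2361 := ded_37_2 (flp_e L20455) L18296 L20455
theorem L20460 : sm gi N2115 = N2362 := rfl
theorem L20462 : sm gc N2362 = N2117 := ded_29_1 (flp_i L18305) L18293 L20460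
theorem L20464 : sm gd N2362 = N2125 := ded_34_1 (flp_i L18360) (flp_d L18297) L20460
theorem L20466 : sm gf N2362 = N2362 := ded_41_1 (flp_i L20460) L18295 L20460
theorem L20467 : sm gf N2116 = N2363 := rfl
theorem L20469 : sm gb N2363 = N2363 := ded_20_1 (flp_f L20467) L18301 L20467
theorem L20470 : sm gd N2363 = N2120 := ded_31_1 (flp_f L18326) (flp_d L18303) L20467
theorem L20472 : sm gh N2363 = N2363 := ded_40_2 (flp_f L20467) L18302 L20467
theorem L20473 : sm ge N2363 = N2363 := ded_35_1 (flp_f L20467) (flp_e L18299) L16282 L18299 L20467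
theorem L20474 : sm gi N2116 = N2364 := rfl
theorem L20476 : sm gb N2364 = N2364 := ded_23_1 (flp_i L20474) L18301 L20474
theorem L20477 : sm gd N2364 = N2121 := ded_34_1 (flp_i L18333) (flp_d L18303) L20474
theorem L20479 : sm ge N2364 = N2117 := ded_38_1 (flp_i L18305) L18299 L20474
theorem L20481 : sm gh N2117 = N2365 := rfl
theorem L20483 : sm gb N2365 = N2365 := ded_22_1 (flp_h L20481) L18307 L20481
theorem L20484 : sm gf N2365 = N2365 := ded_40_1 (flp_h L20481) L18310 L20481
theorem L20485 : sm gd N2365 = N2365 := ded_33_1 (flp_h L20481) L18308 L16292 (flp_d L18308) L20481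
theorem L20486 : sm gi N2365 = N2365 := ded_44_2 (flp_h L20481) (flp_i L18305) L16283 L18305 L20481
theorem L20487 : sm gf N2118 = N2366 := rfl
theorem L20489 : sm gb N2366 = N2366 := ded_20_1 (flp_f L20487) L18313 L20487
theorem L20490 : sm gh N2366 = N2138 := ded_40_2 (flp_f L18441) (flp_h L18316) L20487
theorem L20492 : sm ge N2366 = N2366 := ded_35_1 (flp_f L20487) (flp_e L18311) L16296 L18311 L20487
theorem L20493 : sm gi N2118 = N2367 := rfl
theorem L20495 : sm gb N2367 = N2367 := ded_23_1 (flp_i L20493) L18313 L20493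
theorem L20496 : sm ge N2367 = N2119 := ded_38_1 (flp_i L18318) L18311 L20493
theorem L20498 : sm gg N2367 = N2121 := ded_43_1 (flp_i L18333) (flp_g L18314) L20493
theorem L20500 : sm gi N2120 = N2368 := rfl
theorem L20502 : sm gb N2368 = N2368 := ded_23_1 (flp_i L20500) L18328 L20500
theorem L20503 : sm ge N2368 = N2123 := ded_38_1 (flp_i L18347) (flp_e L18331) L20500
theorem L20505 : sm gf N2368 = N2121 := ded_41_1 (flp_i L18333) L18326 L20500
theorem L20507 : sm gi N2122 = N2369 := rfl
theorem L20509 : sm ga N2369 = N2126 := ded_16_1 (flp_i L18365) (flp_a L18340) L20507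
theorem L20511 : sm gb N2369 = N2369 := ded_23_1 (flp_i L20507) L18342 L20507
theorem L20512 : sm gd N2369 = N2369 := ded_34_1 (flp_i L20507) L18343 L20507
theorem L20513 : sm gf N2369 = N2369 := ded_41_1 (flp_i L20507) L18346 L20507
theorem L20514 : sm gg N2369 = N2123 := ded_43_1 (flp_i L18347) L18338 L20507
theorem L20516 : sm gi N2124 = N2370 := rfl
theorem L20518 : sm gb N2370 = N2125 := ded_23_1 (flp_i L18360) L18353 L20516
theorem L20520 : sm gc N2370 = N2126 := ded_29_1 (flp_i L18365) (flp_c L18358) L20516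
theorem L20522 : sm gf N2370 = N2370 := ded_41_1 (flp_i L20516) L18355 L20516
theorem L20523 : sm ga N2127 = N2371 := rfl
theorem L20525 : sm gc N2371 = N2371 := ded_10_2 (flp_a L20523) L18375 L20523
theorem L20526 : sm gd N2371 = N2371 := ded_11_2 (flp_a L20523) L18373 L20523
theorem L20527 : sm gf N2371 = N2371 := ded_13_2 (flp_a L20523) L18374 L20523
theorem L20528 : sm gg N2371 = N2132 := ded_14_2 (flp_a L19006) (flp_g L19014) L20523
theorem L20530 : sm gb N2371 = N2128 := ded_9_2 (flp_a L18376) (flp_b L16375) (flp_a L16371) L18371 L20523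
theorem L20532 : sm gi N2130 = N2372 := rfl
theorem L20534 : sm gb N2372 = N2134 := ded_23_1 (flp_i L18419) (flp_b L18398) L20532
theorem L20536 : sm gc N2372 = N2372 := ded_29_1 (flp_i L20532) L18400 L20532
theorem L20537 : sm gf N2372 = N2372 := ded_41_1 (flp_i L20532) L18401 L20532
theorem L20538 : sm gf N2131 = N2373 := rfl
theorem L20540 : sm gb N2373 = N2137 := ded_20_1 (flp_f L18435) (flp_b L18404) L20538
theorem L20542 : sm gc N2373 = N2373 := ded_26_1 (flp_f L20538) L18406 L20538
theorem L20543 : sm ge N2373 = N2132 := ded_35_1 (flp_f L18407) (flp_e L16494) (flp_f L16491) L18402 L20538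
theorem L20545 : sm ge N2133 = N2374 := rfl
theorem L20547 : sm gc N2374 = N2374 := ded_25_1 (flp_e L20545) L18416 L20545
theorem L20548 : sm gh N2374 = N2135 := ded_37_2 (flp_e L18424) (flp_h L18417) L20545
theorem L20550 : sm gi N2133 = N2375 := rfl
theorem L20552 : sm gc N2375 = N2375 := ded_29_1 (flp_i L20550) L18416 L20550
theorem L20553 : sm gd N2375 = N2134 := ded_34_1 (flp_i L18419) L18413 L20550
theorem L20555 : sm gf N2375 = N2375 := ded_41_1 (flp_i L20550) L18415 L20550
theorem L20556 : sm gf N2135 = N2376 := rfl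
theorem L20558 : sm gc N2376 = N2376 := ded_26_1 (flp_f L20556) L18426 L20556
theorem L20559 : sm gd N2376 = N2137 := ded_31_1 (flp_f L18435) (flp_d L18427) L20556
theorem L20561 : sm ge N2376 = N2376 := ded_35_1 (flp_f L20556) (flp_e L18424) L16508 L18424 L20556
theorem L20562 : sm gf N2136 = N2377 := rfl
theorem L20564 : sm gc N2377 = N2138 := ded_26_1 (flp_f L18441) (flp_c L18431) L20562
theorem L20566 : sm ge N2377 = N2377 := ded_35_1 (flp_f L20562) (flp_e L18429) L16512 L18429 L20562
theorem L20567 : sm gh N2139 = N2378 := rfl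
theorem L20569 : sm ga N2378 = N2378 := ded_15_1 (flp_h L20567) L18452 L20567
theorem L20570 : sm gb N2378 = N2141 := ded_22_1 (flp_h L18462) L18446 L20567
theorem L20572 : sm gc N2378 = N2378 := ded_28_1 (flp_h L20567) L18453 L20567
theorem L20573 : sm ge N2378 = N2378 := ded_37_1 (flp_h L20567) L18449 L20567
theorem L20574 : sm gf N2378 = N2152 := ded_40_1 (flp_h L18569) L18501 L20567
theorem L20576 : sm gg N2378 = N2378 := ded_42_1 (flp_h L20567) L18450 L20567
theorem L20577 : sm gh N2140 = N2379 := rfl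
theorem L20579 : sm ga N2379 = N2146 := ded_15_1 (flp_h L18522) (flp_a L18456) L20577
theorem L20581 : sm gb N2379 = N2152 := ded_22_1 (flp_h L18569) (flp_b L18499) L20577
theorem L20583 : sm gc N2379 = N2144 := ded_28_1 (flp_h L18503) (flp_c L18458) L20577
theorem L20585 : sm ge N2379 = N2150 := ded_37_1 (flp_h L18551) L18491 L20577
theorem L20587 : sm gf N2379 = N2141 := ded_40_1 (flp_h L18462) L18454 L20577
theorem L20589 : sm gg N2379 = N2149 := ded_42_1 (flp_h L18544) L18497 L20577
theorem L20591 : sm gd N2141 = N2380 := rfl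
theorem L20593 : sm ga N2380 = N2147 := ded_11_1 (flp_d L18529) (flp_a L18464) L20591
theorem L20595 : sm gg N2380 = N2380 := ded_32_2 (flp_d L20591) L18469 L20591
theorem L20596 : sm gc N2380 = N2169 := ded_24_1 (flp_d L18749) L16765 (flp_d L16566) (flp_c L18466) L20591
theorem L20598 : sm gh N2380 = N2380 := ded_33_2 (flp_d L20591) (flp_h L18462) L16550 L18462 L20591
theorem L20599 : sm gi N2141 = N2381 := rfl
theorem L20601 : sm ga N2381 = N2148 := ded_16_1 (flp_i L18536) (flp_a L18464) L20599
theorem L20603 : sm gc N2381 = N2145 := ded_29_1 (flp_i L18512) (flp_c L18466) L20599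
theorem L20605 : sm ge N2381 = N2381 := ded_38_1 (flp_i L20599) L18468 L20599
theorem L20606 : sm gg N2381 = N2381 := ded_43_1 (flp_i L20599) L18469 L20599
theorem L20607 : sm gh N2381 = N2381 := ded_44_1 (flp_i L20599) (flp_h L18462) L16549 L18462 L20599
theorem L20608 : sm gh N2142 = N2382 := rfl
theorem L20610 : sm ga N2382 = N2149 := ded_15_1 (flp_h L18544) (flp_a L18472) L20608
theorem L20612 : sm gb N2382 = N2382 := ded_22_1 (flp_h L20608) L18474 L20608
theorem L20613 : sm gc N2382 = N2150 := ded_28_1 (flp_h L18551) (flp_c L18495) L20608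
theorem L20615 : sm ge N2382 = N2144 := ded_37_1 (flp_h L18503) L18470 L20608
theorem L20617 : sm gf N2382 = N2382 := ded_40_1 (flp_h L20608) L18477 L20608
theorem L20618 : sm gg N2382 = N2146 := ded_42_1 (flp_h L18522) (flp_g L18493) L20608
theorem L20620 : sm gh N2143 = N2383 := rfl
theorem L20622 : sm ga N2383 = N2150 := ded_15_1 (flp_h L18551) (flp_a L18480) L20620
theorem L20624 : sm gb N2383 = N2383 := ded_22_1 (flp_h L20620) L18482 L20620
theorem L20625 : sm gc N2383 = N2149 := ded_28_1 (flp_h L18544) (flp_c L18489) L20620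
theorem L20627 : sm ge N2383 = N2146 := ded_37_1 (flp_h L18522) L18487 L20620
theorem L20629 : sm gf N2383 = N2383 := ded_40_1 (flp_h L20620) L18486 L20620
theorem L20630 : sm gg N2383 = N2144 := ded_42_1 (flp_h L18503) L18478 L20620
theorem L20632 : sm gd N2383 = N2173 := ded_33_1 (flp_h L18785) L16785 (flp_h L16575) (flp_d L18483) L20620
theorem L20634 : sm gi N2144 = N2384 := rfl
theorem L20636 : sm ga N2384 = N2151 := ded_16_1 (flp_i L18560) (flp_a L18505) L20634
theorem L20638 : sm gb N2384 = N2384 := ded_23_1 (flp_i L20634) L18507 L20634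
theorem L20639 : sm gd N2384 = N2174 := ded_34_1 (flp_i L18793) (flp_d L18510) L20634
theorem L20641 : sm gf N2384 = N2145 := ded_41_1 (flp_i L18512) (flp_f L18508) L20634
theorem L20643 : sm gh N2384 = N2384 := ded_44_1 (flp_i L20634) (flp_h L18503) L16558 L18503 L20634
theorem L20644 : sm gd N2146 = N2385 := rfl
theorem L20646 : sm gb N2385 = N2385 := ded_18_1 (flp_d L20644) L18524 L20644
theorem L20647 : sm gf N2385 = N2147 := ded_31_2 (flp_d L18529) (flp_f L18527) L20644
theorem L20649 : sm gc N2385 = N2179 := ded_24_1 (flp_d L18839) L16829 (flp_d L16614) (flp_c L18525) L20644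
theorem L20651 : sm gh N2385 = N2385 := ded_33_2 (flp_d L20644) (flp_h L18522) L16584 L18522 L20644
theorem L20652 : sm gi N2146 = N2386 := rfl
theorem L20654 : sm gb N2386 = N2386 := ded_23_1 (flp_i L20652) L18524 L20652
theorem L20655 : sm gc N2386 = N2151 := ded_29_1 (flp_i L18560) (flp_c L18525) L20652
theorem L20657 : sm gf N2386 = N2148 := ded_41_1 (flp_i L18536) (flp_f L18527) L20652
theorem L20659 : sm gh N2386 = N2386 := ded_44_1 (flp_i L20652) (flp_h L18522) L16585 L18522 L20652
theorem L20660 : sm ge N2147 = N2387 := rfl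
theorem L20662 : sm gb N2387 = N2387 := ded_19_1 (flp_e L20660) L18531 L20660
theorem L20663 : sm gc N2387 = N2181 := ded_25_1 (flp_e L18854) (flp_c L18533) L20660
theorem L20665 : sm gg N2387 = N2387 := ded_36_2 (flp_e L20660) L18532 L20660
theorem L20666 : sm gh N2387 = N2387 := ded_37_2 (flp_e L20660) L18535 L20660
theorem L20667 : sm gd N2387 = N2387 := ded_30_1 (flp_e L20660) (flp_d L18529) L16591 L18529 L20660
theorem L20668 : sm gi N2147 = N2388 := rfl
theorem L20670 : sm gb N2388 = N2388 := ded_23_1 (flp_i L20668) L18531 L20668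
theorem L20671 : sm gc N2388 = N2182 := ded_29_1 (flp_i L18862) (flp_c L18533) L20668
theorem L20673 : sm gd N2388 = N2148 := ded_34_1 (flp_i L18536) L18529 L20668
theorem L20675 : sm gg N2388 = N2388 := ded_43_1 (flp_i L20668) L18532 L20668
theorem L20676 : sm gd N2149 = N2389 := rfl
theorem L20678 : sm gb N2389 = N2153 := ded_18_1 (flp_d L18577) (flp_b L18546) L20676
theorem L20680 : sm gf N2389 = N2389 := ded_31_2 (flp_d L20676) L18550 L20676
theorem L20681 : sm ge N2389 = N2185 := ded_30_2 (flp_d L18887) L16861 (flp_d L16614) (flp_e L18548) L20676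
theorem L20683 : sm gh N2389 = N2389 := ded_33_2 (flp_d L20676) (flp_h L18544) L16598 L18544 L20676
theorem L20684 : sm gi N2149 = N2390 := rfl
theorem L20686 : sm gb N2390 = N2154 := ded_23_1 (flp_i L18584) (flp_b L18546) L20684
theorem L20688 : sm ge N2390 = N2151 := ded_38_1 (flp_i L18560) (flp_e L18548) L20684
theorem L20690 : sm gf N2390 = N2390 := ded_41_1 (flp_i L20684) L18550 L20684
theorem L20691 : sm gh N2390 = N2390 := ded_44_1 (flp_i L20684) (flp_h L18544) L16597 L18544 L20684
theorem L20692 : sm gi N2150 = N2391 := rfl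
theorem L20694 : sm gb N2391 = N2155 := ded_23_1 (flp_i L18592) (flp_b L18553) L20692
theorem L20696 : sm gd N2391 = N2187 := ded_34_1 (flp_i L18902) (flp_d L18558) L20692
theorem L20698 : sm gf N2391 = N2391 := ded_41_1 (flp_i L20692) L18555 L20692
theorem L20699 : sm gg N2391 = N2151 := ded_43_1 (flp_i L18560) (flp_g L18556) L20692
theorem L20701 : sm gh N2391 = N2391 := ded_44_1 (flp_i L20692) (flp_h L18551) L16606 L18551 L20692
theorem L20702 : sm gd N2152 = N2392 := rfl
theorem L20704 : sm ga N2392 = N2392 := ded_11_1 (flp_d L20702) L18571 L20702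
theorem L20705 : sm gg N2392 = N2153 := ded_32_2 (flp_d L18577) (flp_g L18575) L20702
theorem L20707 : sm ge N2392 = N2189 := ded_30_2 (flp_d L18921) L16894 (flp_d L16647) (flp_e L18573) L20702
theorem L20709 : sm gh N2392 = N2392 := ded_33_2 (flp_d L20702) (flp_h L18569) L16629 L18569 L20702
theorem L20710 : sm gi N2152 = N2393 := rfl
theorem L20712 : sm ga N2393 = N2393 := ded_16_1 (flp_i L20710) L18571 L20710
theorem L20713 : sm gc N2393 = N2393 := ded_29_1 (flp_i L20710) L18572 L20710
theorem L20714 : sm ge N2393 = N2155 := ded_38_1 (flp_i L18592) (flp_e L18573) L20710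
theorem L20716 : sm gg N2393 = N2154 := ded_43_1 (flp_i L18584) (flp_g L18575) L20710
theorem L20718 : sm gh N2393 = N2393 := ded_44_1 (flp_i L20710) (flp_h L18569) L16632 L18569 L20710
theorem L20719 : sm gc N2153 = N2394 := rfl
theorem L20721 : sm ga N2394 = N2394 := ded_10_1 (flp_c L20719) L18579 L20719
theorem L20722 : sm ge N2394 = N2191 := ded_25_2 (flp_c L18938) (flp_e L18581) L20719
theorem L20724 : sm gf N2394 = N2394 := ded_26_2 (flp_c L20719) L18580 L20719
theorem L20725 : sm gh N2394 = N2394 := ded_28_2 (flp_c L20719) L18583 L20719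
theorem L20726 : sm gd N2394 = N2394 := ded_24_2 (flp_c L20719) (flp_d L18577) L16636 L18577 L20719
theorem L20727 : sm gi N2153 = N2395 := rfl
theorem L20729 : sm ga N2395 = N2395 := ded_16_1 (flp_i L20727) L18579 L20727
theorem L20730 : sm gd N2395 = N2154 := ded_34_1 (flp_i L18584) L18577 L20727
theorem L20732 : sm ge N2395 = N2192 := ded_38_1 (flp_i L18946) (flp_e L18581) L20727
theorem L20734 : sm gf N2395 = N2395 := ded_41_1 (flp_i L20727) L18580 L20727
theorem L20735 : sm gd N2156 = N2396 := rfl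
theorem L20737 : sm ga N2396 = N2376 := ded_11_1 L20559 (flp_a L18604) L20735
theorem L20739 : sm gb N2396 = N2206 := ded_18_1 (flp_d L19093) (flp_b L18606) L20735
theorem L20741 : sm gf N2396 = N2260 := ded_31_2 (flp_d L19595) (flp_f L18614) L20735
theorem L20743 : sm gg N2396 = N2350 := ded_32_2 L20375 (flp_g L18610) L20735
theorem L20745 : sm gi N2396 = N2175 := ded_34_2 (flp_d L18802) (flp_i L18612) L20735
theorem L20747 : sm gc N2396 = N2396 := ded_24_1 (flp_d L20735) L18608 L16692 (flp_c L18608) L20735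
theorem L20748 : sm ge N2396 = N2396 := ded_30_2 (flp_d L20735) (flp_e L18602) L16666 L18602 L20735
theorem L20749 : sm gh N2156 = N2397 := rfl
theorem L20751 : sm ga N2397 = N2339 := ded_15_1 L20303 (flp_a L18604) L20749
theorem L20753 : sm gb N2397 = N2207 := ded_22_1 (flp_h L19106) (flp_b L18606) L20749
theorem L20755 : sm gc N2397 = N2160 := ded_28_1 (flp_h L18652) (flp_c L18608) L20749
theorem L20757 : sm ge N2397 = N2157 := ded_37_1 (flp_h L18616) L18602 L20749
theorem L20759 : sm gf N2397 = N2262 := ded_40_1 (flp_h L19622) (flp_f L18614) L20749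
theorem L20761 : sm gg N2397 = N2343 := ded_42_1 L20332 (flp_g L18610) L20749
theorem L20763 : sm gd N2157 = N2398 := rfl
theorem L20765 : sm ga N2398 = N2238 := ded_11_1 L19391 (flp_a L18618) L20763
theorem L20767 : sm gb N2398 = N2208 := ded_18_1 (flp_d L19116) (flp_b L18620) L20763
theorem L20769 : sm gf N2398 = N2158 := ded_31_2 (flp_d L18628) (flp_f L18624) L20763
theorem L20771 : sm gg N2398 = N2360 := ded_32_2 L20450 (flp_g L18626) L20763
theorem L20773 : sm gc N2398 = N2398 := ded_24_1 (flp_d L20763) L18622 L16705 (flp_c L18622) L20763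
theorem L20774 : sm gh N2398 = N2398 := ded_33_2 (flp_d L20763) (flp_h L18616) L16666 L18616 L20763
theorem L20775 : sm gi N2157 = N2399 := rfl
theorem L20777 : sm ga N2399 = N2342 := ded_16_1 (flp_i L20322) (flp_a L18618) L20775
theorem L20779 : sm gb N2399 = N2209 := ded_23_1 (flp_i L19125) (flp_b L18620) L20775
theorem L20781 : sm gc N2399 = N2161 := ded_29_1 (flp_i L18664) (flp_c L18622) L20775
theorem L20783 : sm gf N2399 = N2159 := ded_41_1 (flp_i L18639) (flp_f L18624) L20775
theorem L20785 : sm gg N2399 = N2370 := ded_43_1 (flp_i L20516) (flp_g L18626) L20775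
theorem L20787 : sm gh N2399 = N2180 := ded_44_1 (flp_i L18846) (flp_h L16825) (flp_i L16667) L18616 L20775
theorem L20789 : sm gi N2158 = N2400 := rfl
theorem L20791 : sm ga N2400 = N2239 := ded_16_1 (flp_i L19394) (flp_a L18630) L20789
theorem L20793 : sm gb N2400 = N2211 := ded_23_1 (flp_i L19143) (flp_b L18632) L20789
theorem L20795 : sm gc N2400 = N2400 := ded_29_1 (flp_i L20789) L18635 L20789
theorem L20796 : sm gd N2400 = N2159 := ded_34_1 (flp_i L18639) L18628 L20789
theorem L20798 : sm ge N2400 = N2223 := ded_38_1 (flp_i L19255) (flp_e L18636) L20789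
theorem L20800 : sm gg N2400 = N2400 := ded_43_1 (flp_i L20789) L18634 L20789
theorem L20801 : sm gd N2160 = N2401 := rfl
theorem L20803 : sm ga N2401 = N2363 := ded_11_1 L20470 (flp_a L18654) L20801
theorem L20805 : sm gb N2401 = N2162 := ded_18_1 (flp_d L18677) (flp_b L18656) L20801
theorem L20807 : sm gf N2401 = N2266 := ded_31_2 (flp_d L19669) (flp_f L18660) L20801
theorem L20809 : sm gg N2401 = N2307 := ded_32_2 L20050 (flp_g L18662) L20801
theorem L20811 : sm ge N2401 = N2401 := ded_30_2 (flp_d L20801) L18658 L16705 (flp_e L18658) L20801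
theorem L20812 : sm gh N2401 = N2401 := ded_33_2 (flp_d L20801) (flp_h L18652) L16692 L18652 L20801
theorem L20813 : sm gi N2160 = N2402 := rfl
theorem L20815 : sm ga N2402 = N2368 := ded_16_1 (flp_i L20500) (flp_a L18654) L20813
theorem L20817 : sm gb N2402 = N2163 := ded_23_1 (flp_i L18688) (flp_b L18656) L20813
theorem L20819 : sm ge N2402 = N2161 := ded_38_1 (flp_i L18664) (flp_e L18658) L20813
theorem L20821 : sm gf N2402 = N2267 := ded_41_1 (flp_i L19678) (flp_f L18660) L20813
theorem L20823 : sm gg N2402 = N2346 := ded_43_1 (flp_i L20351) (flp_g L18662) L20813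
theorem L20825 : sm gh N2402 = N2186 := ded_44_1 (flp_i L18894) (flp_h L16857) (flp_i L16690) L18652 L20813
theorem L20827 : sm gi N2162 = N2403 := rfl
theorem L20829 : sm ga N2403 = N2403 := ded_16_1 (flp_i L20827) L18679 L20827
theorem L20830 : sm gc N2403 = N2306 := ded_29_1 (flp_i L20040) (flp_c L18684) L20827
theorem L20832 : sm gd N2403 = N2163 := ded_34_1 (flp_i L18688) L18677 L20827
theorem L20834 : sm ge N2403 = N2403 := ded_38_1 (flp_i L20827) L18686 L20827
theorem L20835 : sm gf N2403 = N2272 := ded_41_1 (flp_i L19726) (flp_f L18680) L20827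
theorem L20837 : sm gg N2403 = N2308 := ded_43_1 (flp_i L20054) (flp_g L18682) L20827
theorem L20839 : sm ge N2164 = N2404 := rfl
theorem L20841 : sm ga N2404 = N2213 := ded_12_1 (flp_e L19162) (flp_a L18703) L20839
theorem L20843 : sm gb N2404 = N2166 := ded_19_1 (flp_e L18721) (flp_b L18705) L20839
theorem L20845 : sm gc N2404 = N2404 := ded_25_1 (flp_e L20839) L18707 L20839
theorem L20846 : sm gi N2404 = N2373 := ded_38_2 L20543 (flp_i L18709) L20839
theorem L20848 : sm gf N2404 = N2273 := ded_35_2 (flp_e L19731) (flp_f L17568) (flp_e L16744) L18701 L20839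
theorem L20850 : sm gd N2377 = N2404 := ded_31_3 L20848 L19742 L20562
theorem L20852 : sm gg N2164 = N2405 := rfl
theorem L20854 : sm ga N2405 = N2214 := ded_14_1 (flp_g L19169) (flp_a L18703) L20852
theorem L20856 : sm gb N2405 = N2167 := ded_21_1 (flp_g L18731) (flp_b L18705) L20852
theorem L20858 : sm gc N2405 = N2405 := ded_27_1 (flp_g L20852) L18707 L20852
theorem L20859 : sm gd N2405 = N2405 := ded_32_1 (flp_g L20852) L18708 L20852
theorem L20860 : sm gi N2405 = N2371 := ded_43_2 L20528 (flp_i L18709) L20852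
theorem L20862 : sm gf N2405 = N2405 := ded_39_1 (flp_g L20852) (flp_f L18701) L16746 L18701 L20852
theorem L20863 : sm gh N2164 = N2406 := rfl
theorem L20865 : sm ga N2406 = N2215 := ded_15_1 (flp_h L19178) (flp_a L18703) L20863
theorem L20867 : sm gb N2406 = N2168 := ded_22_1 (flp_h L18741) (flp_b L18705) L20863
theorem L20869 : sm gc N2406 = N2406 := ded_28_1 (flp_h L20863) L18707 L20863
theorem L20870 : sm gf N2406 = N2165 := ded_40_1 (flp_h L18711) L18701 L20863
theorem L20872 : sm gd N2165 = N2407 := rfl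
theorem L20874 : sm ga N2407 = N2210 := ded_11_1 L19141 (flp_a L18713) L20872
theorem L20876 : sm gb N2407 = N2169 := ded_18_1 (flp_d L18749) (flp_b L18715) L20872
theorem L20878 : sm gg N2407 = N2407 := ded_32_2 (flp_d L20872) L18720 L20872
theorem L20879 : sm ge N2407 = N2202 := ded_30_2 (flp_d L19050) L16992 (flp_d L17589) (flp_e L18718) L20872
theorem L20881 : sm gh N2407 = N2407 := ded_33_2 (flp_d L20872) (flp_h L18711) L16743 L18711 L20872
theorem L20882 : sm gi N2165 = N2408 := rfl
theorem L20884 : sm ga N2408 = N2216 := ded_16_1 (flp_i L19185) (flp_a L18713) L20882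
theorem L20886 : sm gb N2408 = N2170 := ded_23_1 (flp_i L18755) (flp_b L18715) L20882
theorem L20888 : sm gc N2408 = N2408 := ded_29_1 (flp_i L20882) L18717 L20882
theorem L20889 : sm ge N2408 = N2275 := ded_38_1 (flp_i L19757) (flp_e L18718) L20882
theorem L20891 : sm gg N2408 = N2408 := ded_43_1 (flp_i L20882) L18720 L20882
theorem L20892 : sm gh N2408 = N2299 := ded_44_1 (flp_i L19990) L17730 (flp_i L16747) L18711 L20882
theorem L20894 : sm gd N2166 = N2409 := rfl
theorem L20896 : sm ga N2409 = N2175 := ded_11_1 (flp_d L18802) (flp_a L18723) L20894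
theorem L20898 : sm gb N2409 = N2377 := ded_18_1 L20850 L20843 L20894
theorem L20900 : sm gf N2409 = N2276 := ded_31_2 (flp_d L19769) (flp_f L18729) L20894
theorem L20902 : sm gi N2409 = N2376 := ded_34_2 L20559 (flp_i L18727) L20894
theorem L20904 : sm gc N2409 = N2409 := ded_24_1 (flp_d L20894) L18725 L16777 (flp_c L18725) L20894
theorem L20905 : sm ge N2409 = N2409 := ded_30_2 (flp_d L20894) (flp_e L18721) L16758 L18721 L20894
theorem L20906 : sm gg N2166 = N2410 := rfl
theorem L20908 : sm ga N2410 = N2176 := ded_14_1 (flp_g L18810) (flp_a L18723) L20906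
theorem L20910 : sm gc N2410 = N2171 := ded_27_1 (flp_g L18766) (flp_c L18725) L20906
theorem L20912 : sm ge N2410 = N2167 := ded_36_1 (flp_g L18731) L18721 L20906
theorem L20914 : sm gi N2410 = N2351 := ded_43_2 L20385 (flp_i L18727) L20906
theorem L20916 : sm gh N2166 = N2411 := rfl
theorem L20918 : sm ga N2411 = N2177 := ded_15_1 (flp_h L18820) (flp_a L18723) L20916
theorem L20920 : sm gc N2411 = N2172 := ded_28_1 (flp_h L18776) (flp_c L18725) L20916
theorem L20922 : sm ge N2411 = N2168 := ded_37_1 (flp_h L18741) L18721 L20916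
theorem L20924 : sm gf N2411 = N2278 := ded_40_1 (flp_h L19796) (flp_f L18729) L20916
theorem L20926 : sm gh N2167 = N2412 := rfl
theorem L20928 : sm ga N2412 = N2178 := ded_15_1 (flp_h L18830) (flp_a L18733) L20926
theorem L20930 : sm gc N2412 = N2173 := ded_28_1 (flp_h L18785) (flp_c L18735) L20926
theorem L20932 : sm gf N2412 = N2412 := ded_40_1 (flp_h L20926) L18740 L20926
theorem L20933 : sm gg N2412 = N2168 := ded_42_1 (flp_h L18741) L18731 L20926
theorem L20935 : sm gd N2168 = N2413 := rfl
theorem L20937 : sm ga N2413 = N2179 := ded_11_1 (flp_d L18839) (flp_a L18743) L20935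
theorem L20939 : sm gf N2413 = N2169 := ded_31_2 (flp_d L18749) (flp_f L18747) L20935
theorem L20941 : sm gh N2413 = N2413 := ded_33_2 (flp_d L20935) (flp_h L18741) L16758 L18741 L20935
theorem L20942 : sm gi N2168 = N2414 := rfl
theorem L20944 : sm ga N2414 = N2180 := ded_16_1 (flp_i L18846) (flp_a L18743) L20942
theorem L20946 : sm gc N2414 = N2174 := ded_29_1 (flp_i L18793) (flp_c L18745) L20942
theorem L20948 : sm gf N2414 = N2170 := ded_41_1 (flp_i L18755) (flp_f L18747) L20942
theorem L20950 : sm gh N2414 = N2342 := ded_44_1 (flp_i L20322) L18136 (flp_i L16759) L18741 L20942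
theorem L20952 : sm ge N2169 = N2415 := rfl
theorem L20954 : sm ga N2415 = N2181 := ded_12_1 (flp_e L18854) (flp_a L18751) L20952
theorem L20956 : sm gb N2415 = N2202 := ded_19_1 (flp_e L20879) L20876 L20952
theorem L20958 : sm gg N2415 = N2415 := ded_36_2 (flp_e L20952) L18753 L20952
theorem L20959 : sm gh N2415 = N2415 := ded_37_2 (flp_e L20952) L18754 L20952
theorem L20960 : sm gd N2415 = N2199 := ded_30_1 L19023 (flp_d L17620) (flp_e L16767) L18749 L20952
theorem L20962 : sm gi N2169 = N2416 := rfl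
theorem L20964 : sm ga N2416 = N2182 := ded_16_1 (flp_i L18862) (flp_a L18751) L20962
theorem L20966 : sm gd N2416 = N2170 := ded_34_1 (flp_i L18755) L18749 L20962
theorem L20968 : sm gg N2416 = N2416 := ded_43_1 (flp_i L20962) L18753 L20962
theorem L20969 : sm gf N2171 = N2417 := rfl
theorem L20971 : sm ga N2417 = N2183 := ded_13_1 (flp_f L18869) (flp_a L18768) L20969
theorem L20973 : sm gb N2417 = N2417 := ded_20_1 (flp_f L20969) L18770 L20969
theorem L20974 : sm gd N2417 = N2417 := ded_31_1 (flp_f L20969) L18771 L20969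
theorem L20975 : sm gi N2417 = N2255 := ded_41_2 L19549 (flp_i L18774) L20969
theorem L20977 : sm ge N2417 = N2417 := ded_35_1 (flp_f L20969) L18772 L16789 (flp_e L18772) L20969
theorem L20978 : sm gg N2417 = N2283 := ded_39_2 (flp_f L19852) (flp_g L17639) (flp_f L16778) L18766 L20969
theorem L20980 : sm gh N2171 = N2418 := rfl
theorem L20982 : sm ga N2418 = N2184 := ded_15_1 (flp_h L18879) (flp_a L18768) L20980
theorem L20984 : sm gb N2418 = N2418 := ded_22_1 (flp_h L20980) L18770 L20980
theorem L20985 : sm ge N2418 = N2173 := ded_37_1 (flp_h L18785) (flp_e L18772) L20980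
theorem L20987 : sm gg N2418 = N2172 := ded_42_1 (flp_h L18776) L18766 L20980
theorem L20989 : sm gd N2172 = N2419 := rfl
theorem L20991 : sm ga N2419 = N2185 := ded_11_1 (flp_d L18887) (flp_a L18778) L20989
theorem L20993 : sm gb N2419 = N2419 := ded_18_1 (flp_d L20989) L18780 L20989
theorem L20994 : sm gf N2419 = N2285 := ded_31_2 (flp_d L19870) (flp_f L18783) L20989
theorem L20996 : sm gh N2419 = N2419 := ded_33_2 (flp_d L20989) (flp_h L18776) L16777 L18776 L20989
theorem L20997 : sm gi N2172 = N2420 := rfl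
theorem L20999 : sm ga N2420 = N2186 := ded_16_1 (flp_i L18894) (flp_a L18778) L20997
theorem L21001 : sm gb N2420 = N2420 := ded_23_1 (flp_i L20997) L18780 L20997
theorem L21002 : sm ge N2420 = N2174 := ded_38_1 (flp_i L18793) (flp_e L18781) L20997
theorem L21004 : sm gf N2420 = N2286 := ded_41_1 (flp_i L19877) (flp_f L18783) L20997
theorem L21006 : sm gh N2420 = N2368 := ded_44_1 (flp_i L20500) L18329 (flp_i L16775) L18776 L20997
theorem L21008 : sm gi N2173 = N2421 := rfl
theorem L21010 : sm ga N2421 = N2187 := ded_16_1 (flp_i L18902) (flp_a L18787) L21008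
theorem L21012 : sm gb N2421 = N2421 := ded_23_1 (flp_i L21008) L18789 L21008
theorem L21013 : sm gf N2421 = N2421 := ded_41_1 (flp_i L21008) L18790 L21008
theorem L21014 : sm gg N2421 = N2174 := ded_43_1 (flp_i L18793) (flp_g L18791) L21008
theorem L21016 : sm gh N2421 = N2369 := ded_44_1 (flp_i L20507) L18344 (flp_i L16787) L18785 L21008
theorem L21018 : sm gg N2175 = N2422 := rfl
theorem L21020 : sm gb N2422 = N2228 := ded_21_1 (flp_g L19308) (flp_b L18804) L21018
theorem L21022 : sm gc N2422 = N2422 := ded_27_1 (flp_g L21018) L18808 L21018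
theorem L21023 : sm gd N2422 = N2176 := ded_32_1 (flp_g L18810) L18802 L21018
theorem L21025 : sm ge N2422 = N2422 := ded_36_1 (flp_g L21018) L18809 L21018
theorem L21026 : sm gi N2422 = N2350 := ded_43_2 (flp_g L20743) L20745 L21018
theorem L21028 : sm gf N2347 = N2422 := ded_20_0 L21020 L19319 L20357
theorem L21030 : sm gh N2175 = N2423 := rfl
theorem L21032 : sm gb N2423 = N2229 := ded_22_1 (flp_h L19321) (flp_b L18804) L21030
theorem L21034 : sm gc N2423 = N2423 := ded_28_1 (flp_h L21030) L18808 L21030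
theorem L21035 : sm ge N2423 = N2423 := ded_37_1 (flp_h L21030) L18809 L21030
theorem L21036 : sm gf N2423 = N2289 := ded_40_1 (flp_h L19910) (flp_f L18806) L21030
theorem L21038 : sm gf N2176 = N2424 := rfl
theorem L21040 : sm gb N2424 = N2230 := ded_20_1 (flp_f L19328) (flp_b L18812) L21038
theorem L21042 : sm gc N2424 = N2183 := ded_26_1 (flp_f L18869) (flp_c L18814) L21038
theorem L21044 : sm gd N2424 = N2347 := ded_31_1 L21028 L21023 L21038
theorem L21046 : sm gi N2424 = N2253 := ded_41_2 L19529 (flp_i L18818) L21038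
theorem L21048 : sm ge N2424 = N2424 := ded_35_1 (flp_f L21038) L18816 L16824 (flp_e L18816) L21038
theorem L21049 : sm gg N2424 = N2290 := ded_39_2 (flp_f L19917) (flp_g L17682) (flp_f L16813) L18810 L21038
theorem L21051 : sm gh N2176 = N2425 := rfl
theorem L21053 : sm gb N2425 = N2231 := ded_22_1 (flp_h L19341) (flp_b L18812) L21051
theorem L21055 : sm gc N2425 = N2184 := ded_28_1 (flp_h L18879) (flp_c L18814) L21051
theorem L21057 : sm ge N2425 = N2178 := ded_37_1 (flp_h L18830) (flp_e L18816) L21051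
theorem L21059 : sm gg N2425 = N2177 := ded_42_1 (flp_h L18820) L18810 L21051
theorem L21061 : sm gd N2177 = N2426 := rfl
theorem L21063 : sm gb N2426 = N2232 := ded_18_1 (flp_d L19349) (flp_b L18822) L21061
theorem L21065 : sm gf N2426 = N2292 := ded_31_2 (flp_d L19934) (flp_f L18828) L21061
theorem L21067 : sm gi N2177 = N2427 := rfl
theorem L21069 : sm gb N2427 = N2233 := ded_23_1 (flp_i L19353) (flp_b L18822) L21067
theorem L21071 : sm gc N2427 = N2186 := ded_29_1 (flp_i L18894) (flp_c L18824) L21067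
theorem L21073 : sm ge N2427 = N2180 := ded_38_1 (flp_i L18846) (flp_e L18826) L21067
theorem L21075 : sm gf N2427 = N2293 := ded_41_1 (flp_i L19938) (flp_f L18828) L21067
theorem L21077 : sm gd N2178 = N2428 := rfl
theorem L21079 : sm gb N2428 = N2234 := ded_18_1 (flp_d L19361) (flp_b L18832) L21077
theorem L21081 : sm gf N2428 = N2428 := ded_31_2 (flp_d L21077) L18836 L21077
theorem L21082 : sm gg N2428 = N2179 := ded_32_2 (flp_d L18839) (flp_g L18837) L21077
theorem L21084 : sm gh N2428 = N2428 := ded_33_2 (flp_d L21077) (flp_h L18830) L16821 L18830 L21077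
theorem L21085 : sm gi N2178 = N2429 := rfl
theorem L21087 : sm gb N2429 = N2235 := ded_23_1 (flp_i L19368) (flp_b L18832) L21085
theorem L21089 : sm gc N2429 = N2187 := ded_29_1 (flp_i L18902) (flp_c L18834) L21085
theorem L21091 : sm gf N2429 = N2429 := ded_41_1 (flp_i L21085) L18836 L21085
theorem L21092 : sm gg N2429 = N2180 := ded_43_1 (flp_i L18846) (flp_g L18837) L21085
theorem L21094 : sm gh N2429 = N2370 := ded_44_1 (flp_i L20516) L18356 (flp_i L16822) L18830 L21085
theorem L21096 : sm ge N2179 = N2430 := rfl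
theorem L21098 : sm gb N2430 = N2236 := ded_19_1 (flp_e L19377) (flp_b L18841) L21096
theorem L21100 : sm gh N2430 = N2430 := ded_37_2 (flp_e L21096) L18845 L21096
theorem L21101 : sm gi N2179 = N2431 := rfl
theorem L21103 : sm gb N2431 = N2237 := ded_23_1 (flp_i L19381) (flp_b L18841) L21101
theorem L21105 : sm gd N2431 = N2180 := ded_34_1 (flp_i L18846) L18839 L21101
theorem L21107 : sm gf N2431 = N2182 := ded_41_1 (flp_i L18862) (flp_f L18843) L21101
theorem L21109 : sm gf N2181 = N2432 := rfl
theorem L21111 : sm gb N2432 = N2238 := ded_20_1 (flp_f L19388) (flp_b L18856) L21109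
theorem L21113 : sm gd N2432 = N2298 := ded_31_1 (flp_f L19983) (flp_d L18860) L21109
theorem L21115 : sm gh N2432 = N2432 := ded_40_2 (flp_f L21109) L18859 L21109
theorem L21116 : sm gi N2181 = N2433 := rfl
theorem L21118 : sm gb N2433 = N2239 := ded_23_1 (flp_i L19394) (flp_b L18856) L21116
theorem L21120 : sm gd N2433 = N2299 := ded_34_1 (flp_i L19990) (flp_d L18860) L21116
theorem L21122 : sm ge N2433 = N2182 := ded_38_1 (flp_i L18862) L18854 L21116
theorem L21124 : sm gg N2433 = N2433 := ded_43_1 (flp_i L21116) L18858 L21116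
theorem L21125 : sm gh N2182 = N2434 := rfl
theorem L21127 : sm gb N2434 = N2240 := ded_22_1 (flp_h L19402) (flp_b L18864) L21125
theorem L21129 : sm gg N2434 = N2434 := ded_42_1 (flp_h L21125) L18868 L21125
theorem L21130 : sm gi N2434 = N2434 := ded_44_2 (flp_h L21125) (flp_i L18862) L16838 L18862 L21125
theorem L21131 : sm gh N2183 = N2435 := rfl
theorem L21133 : sm gb N2435 = N2188 := ded_22_1 (flp_h L18911) (flp_b L18871) L21131
theorem L21135 : sm ge N2435 = N2435 := ded_37_1 (flp_h L21131) L18876 L21131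
theorem L21136 : sm gf N2435 = N2184 := ded_40_1 (flp_h L18879) L18869 L21131
theorem L21138 : sm gg N2435 = N2300 := ded_42_1 (flp_h L19998) (flp_g L18877) L21131
theorem L21140 : sm gd N2184 = N2436 := rfl
theorem L21142 : sm gb N2436 = N2189 := ded_18_1 (flp_d L18921) (flp_b L18881) L21140
theorem L21144 : sm gg N2436 = N2185 := ded_32_2 (flp_d L18887) (flp_g L18885) L21140
theorem L21146 : sm gh N2436 = N2436 := ded_33_2 (flp_d L21140) (flp_h L18879) L16852 L18879 L21140
theorem L21147 : sm gi N2184 = N2437 := rfl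
theorem L21149 : sm gb N2437 = N2190 := ded_23_1 (flp_i L18927) (flp_b L18881) L21147
theorem L21151 : sm ge N2437 = N2187 := ded_38_1 (flp_i L18902) (flp_e L18883) L21147
theorem L21153 : sm gg N2437 = N2186 := ded_43_1 (flp_i L18894) (flp_g L18885) L21147
theorem L21155 : sm gh N2437 = N2346 := ded_44_1 (flp_i L20351) L18171 (flp_i L16855) L18879 L21147
theorem L21157 : sm gc N2185 = N2438 := rfl
theorem L21159 : sm gf N2438 = N2303 := ded_26_2 (flp_c L20021) (flp_f L18891) L21157
theorem L21161 : sm gh N2438 = N2438 := ded_28_2 (flp_c L21157) L18893 L21157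
theorem L21162 : sm gi N2185 = N2439 := rfl
theorem L21164 : sm gb N2439 = N2192 := ded_23_1 (flp_i L18946) (flp_b L18889) L21162
theorem L21166 : sm gd N2439 = N2186 := ded_34_1 (flp_i L18894) L18887 L21162
theorem L21168 : sm gf N2439 = N2304 := ded_41_1 (flp_i L20025) (flp_f L18891) L21162
theorem L21170 : sm gd N2188 = N2440 := rfl
theorem L21172 : sm ga N2440 = N2440 := ded_11_1 (flp_d L21170) L18913 L21170
theorem L21173 : sm gf N2440 = N2189 := ded_31_2 (flp_d L18921) (flp_f L18917) L21170
theorem L21175 : sm gg N2440 = N2271 := ded_32_2 L19724 (flp_g L18919) L21170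
theorem L21177 : sm gc N2440 = N2269 := ded_24_1 (flp_d L19701) L17539 (flp_d L17303) (flp_c L18914) L21170
theorem L21179 : sm gh N2440 = N2440 := ded_33_2 (flp_d L21170) (flp_h L18911) L16883 L18911 L21170
theorem L21180 : sm gi N2188 = N2441 := rfl
theorem L21182 : sm ga N2441 = N2441 := ded_16_1 (flp_i L21180) L18913 L21180
theorem L21183 : sm gc N2441 = N2246 := ded_29_1 (flp_i L19459) (flp_c L18914) L21180
theorem L21185 : sm ge N2441 = N2441 := ded_38_1 (flp_i L21180) L18916 L21180
theorem L21186 : sm gf N2441 = N2190 := ded_41_1 (flp_i L18927) (flp_f L18917) L21180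
theorem L21188 : sm gg N2441 = N2305 := ded_43_1 (flp_i L20032) (flp_g L18919) L21180
theorem L21190 : sm gh N2441 = N2250 := ded_44_1 (flp_i L19500) L17330 (flp_i L16884) L18911 L21180
theorem L21192 : sm gc N2189 = N2442 := rfl
theorem L21194 : sm ga N2442 = N2442 := ded_10_1 (flp_c L21192) L18923 L21192
theorem L21195 : sm gf N2442 = N2269 := ded_26_2 (flp_c L21177) L21173 L21192
theorem L21197 : sm gg N2442 = N2191 := ded_27_2 (flp_c L18938) (flp_g L18924) L21192
theorem L21199 : sm gh N2442 = N2442 := ded_28_2 (flp_c L21192) L18926 L21192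
theorem L21200 : sm gd N2442 = N2247 := ded_24_2 (flp_c L19471) (flp_d L17305) (flp_c L16892) L18921 L21192
theorem L21202 : sm gi N2189 = N2443 := rfl
theorem L21204 : sm ga N2443 = N2443 := ded_16_1 (flp_i L21202) L18923 L21202
theorem L21205 : sm gd N2443 = N2190 := ded_34_1 (flp_i L18927) L18921 L21202
theorem L21207 : sm gg N2443 = N2192 := ded_43_1 (flp_i L18946) (flp_g L18924) L21202
theorem L21209 : sm gb N2191 = N2444 := rfl
theorem L21211 : sm gd N2444 = N2249 := ded_18_2 (flp_b L19493) (flp_d L18944) L21209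
theorem L21213 : sm gf N2444 = N2307 := ded_20_2 (flp_b L20048) (flp_f L18941) L21209
theorem L21215 : sm gh N2444 = N2444 := ded_22_2 (flp_b L21209) L18943 L21209
theorem L21216 : sm gi N2191 = N2445 := rfl
theorem L21218 : sm ga N2445 = N2445 := ded_16_1 (flp_i L21216) L18940 L21216
theorem L21219 : sm gc N2445 = N2192 := ded_29_1 (flp_i L18946) L18938 L21216
theorem L21221 : sm gd N2445 = N2250 := ded_34_1 (flp_i L19500) (flp_d L18944) L21216
theorem L21223 : sm gf N2445 = N2308 := ded_41_1 (flp_i L20054) (flp_f L18941) L21216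
theorem L21225 : sm gh N2192 = N2446 := rfl
theorem L21227 : sm ga N2446 = N2446 := ded_15_1 (flp_h L21225) L18948 L21225
theorem L21228 : sm gf N2446 = N2309 := ded_40_1 (flp_h L20062) (flp_f L18951) L21225
theorem L21230 : sm gi N2446 = N2446 := ded_44_2 (flp_h L21225) (flp_i L18946) L16903 L18946 L21225
theorem L21231 : sm gh N2193 = N2447 := rfl
theorem L21233 : sm ga N2447 = N2447 := ded_15_1 (flp_h L21231) L18961 L21231
theorem L21234 : sm gb N2447 = N2194 := ded_22_1 (flp_h L18963) L18953 L21231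
theorem L21236 : sm gc N2447 = N2447 := ded_28_1 (flp_h L21231) L18962 L21231
theorem L21237 : sm ge N2447 = N2447 := ded_37_1 (flp_h L21231) L18956 L21231
theorem L21238 : sm gf N2447 = N2256 := ded_40_1 (flp_h L19554) (flp_f L18957) L21231
theorem L21240 : sm gg N2447 = N2447 := ded_42_1 (flp_h L21231) L18959 L21231
theorem L21241 : sm gd N2194 = N2448 := rfl
theorem L21243 : sm ga N2448 = N2196 := ded_11_1 (flp_d L18985) (flp_a L18965) L21241
theorem L21245 : sm gf N2448 = N2352 := ded_31_2 (flp_d L20387) (flp_f L18970) L21241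
theorem L21247 : sm gg N2448 = N2448 := ded_32_2 (flp_d L21241) L18972 L21241
theorem L21248 : sm gc N2448 = N2202 := ded_24_1 (flp_d L19050) L16990 (flp_d L16942) (flp_c L18967) L21241
theorem L21250 : sm gh N2448 = N2448 := ded_33_2 (flp_d L21241) (flp_h L18963) L16932 L18963 L21241
theorem L21251 : sm gi N2194 = N2449 := rfl
theorem L21253 : sm ga N2449 = N2197 := ded_16_1 (flp_i L18994) (flp_a L18965) L21251
theorem L21255 : sm gc N2449 = N2195 := ded_29_1 (flp_i L18973) (flp_c L18967) L21251
theorem L21257 : sm ge N2449 = N2449 := ded_38_1 (flp_i L21251) L18969 L21251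
theorem L21258 : sm gf N2449 = N2353 := ded_41_1 (flp_i L20394) (flp_f L18970) L21251
theorem L21260 : sm gg N2449 = N2449 := ded_43_1 (flp_i L21251) L18972 L21251
theorem L21261 : sm gh N2449 = N2449 := ded_44_1 (flp_i L21251) (flp_h L18963) L16931 L18963 L21251
theorem L21262 : sm ge N2196 = N2450 := rfl
theorem L21264 : sm gb N2450 = N2450 := ded_19_1 (flp_e L21262) L18987 L21262
theorem L21265 : sm gc N2450 = N2210 := ded_25_1 (flp_e L19135) (flp_c L18991) L21262
theorem L21267 : sm gg N2450 = N2450 := ded_36_2 (flp_e L21262) L18990 L21262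
theorem L21268 : sm gh N2450 = N2450 := ded_37_2 (flp_e L21262) L18993 L21262
theorem L21269 : sm gd N2450 = N2450 := ded_30_1 (flp_e L21262) (flp_d L18985) L16949 L18985 L21262
theorem L21270 : sm gi N2196 = N2451 := rfl
theorem L21272 : sm gb N2451 = N2451 := ded_23_1 (flp_i L21270) L18987 L21270
theorem L21273 : sm gc N2451 = N2211 := ded_29_1 (flp_i L19143) (flp_c L18991) L21270
theorem L21275 : sm gd N2451 = N2197 := ded_34_1 (flp_i L18994) L18985 L21270
theorem L21277 : sm gf N2451 = N2359 := ded_41_1 (flp_i L20441) (flp_f L18988) L21270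
theorem L21279 : sm gg N2451 = N2451 := ded_43_1 (flp_i L21270) L18990 L21270
theorem L21280 : sm ge N2198 = N2452 := rfl
theorem L21282 : sm ga N2452 = N2373 := ded_12_1 L20543 (flp_a L19006) L21280
theorem L21284 : sm gb N2452 = N2200 := ded_19_1 (flp_e L19026) (flp_b L19008) L21280
theorem L21286 : sm gc N2452 = N2452 := ded_25_1 (flp_e L21280) L19010 L21280
theorem L21287 : sm gg N2452 = N2347 := ded_36_2 L20359 L19014 L21280
theorem L21289 : sm gi N2452 = N2213 := ded_38_2 (flp_e L19162) (flp_i L19012) L21280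
theorem L21291 : sm gf N2452 = N2288 := ded_35_2 L19906 (flp_f L17811) (flp_e L16967) L19004 L21280
theorem L21293 : sm gd N2452 = N2290 := ded_46_3 L19921 L17742 L15785 L17774 L17780 L15795 L14041 L14036 (flp_b L14253) (flp_a L16044) (flp_h L16042) L14190 (flp_e L16031) L16029 L14317 L12562 L10743 L12595 L12601 L10863 L9112 L7554 L6098 (flp_a L5517) L5521 L4382 L3532 L3530 L2791 L2790 L2788 L2553 (flp_f L3051) L3048 (flp_d L3900) (flp_c L4980) (flp_b L6462) (flp_a L8015) (flp_h L9519) (flp_f L9511) L7868 (flp_d L7858) (flp_c L7478) L7476 L6046 L6051 L7493 (flp_e L8942) (flp_d L10587) (flp_c L12250) (flp_b L13879) L13877 (flp_h L14474) L14472 L14484 L14490 (flp_c L16102) (flp_b L17726) (flp_a L19018) (flp_h L19016) L19004 L21280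
theorem L21295 : sm gh N2198 = N2453 := rfl
theorem L21297 : sm ga N2453 = N2298 := ded_15_1 L19988 (flp_a L19006) L21295
theorem L21299 : sm gb N2453 = N2201 := ded_22_1 (flp_h L19040) (flp_b L19008) L21295
theorem L21301 : sm gc N2453 = N2453 := ded_28_1 (flp_h L21295) L19010 L21295
theorem L21302 : sm gf N2453 = N2199 := ded_40_1 (flp_h L19016) L19004 L21295
theorem L21304 : sm gg N2453 = N2356 := ded_42_1 L20423 L19014 L21295
theorem L21306 : sm gi N2199 = N2454 := rfl
theorem L21308 : sm ga N2454 = N2299 := ded_16_1 (flp_i L19990) (flp_a L19018) L21306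
theorem L21310 : sm gb N2454 = N2203 := ded_23_1 (flp_i L19056) (flp_b L19020) L21306
theorem L21312 : sm gc N2454 = N2454 := ded_29_1 (flp_i L21306) L19022 L21306
theorem L21313 : sm ge N2454 = N2282 := ded_38_1 (flp_i L19840) (flp_e L19023) L21306
theorem L21315 : sm gg N2454 = N2454 := ded_43_1 (flp_i L21306) L19025 L21306
theorem L21316 : sm gh N2454 = N2216 := ded_44_1 (flp_i L19185) (flp_h L17103) (flp_i L16970) L19016 L21306
theorem L21318 : sm gh N2200 = N2455 := rfl
theorem L21320 : sm ga N2455 = N2207 := ded_15_1 (flp_h L19106) (flp_a L19028) L21318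
theorem L21322 : sm gc N2455 = N2204 := ded_28_1 (flp_h L19067) (flp_c L19030) L21318
theorem L21324 : sm ge N2455 = N2201 := ded_37_1 (flp_h L19040) L19026 L21318
theorem L21326 : sm gf N2455 = N2310 := ded_40_1 (flp_h L20067) (flp_f L19036) L21318
theorem L21328 : sm gg N2455 = N2328 := ded_42_1 L20237 (flp_g L19032) L21318
theorem L21330 : sm gd N2201 = N2456 := rfl
theorem L21332 : sm ga N2456 = N2208 := ded_11_1 (flp_d L19116) (flp_a L19042) L21330
theorem L21334 : sm gf N2456 = N2202 := ded_31_2 (flp_d L19050) (flp_f L19046) L21330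
theorem L21336 : sm gg N2456 = N2354 := ded_32_2 L20411 (flp_g L19048) L21330
theorem L21338 : sm gc N2456 = N2352 := ded_24_1 (flp_d L20387) L18220 (flp_d L17017) (flp_c L19044) L21330
theorem L21340 : sm gh N2456 = N2456 := ded_33_2 (flp_d L21330) (flp_h L19040) L16981 L19040 L21330
theorem L21341 : sm gi N2201 = N2457 := rfl
theorem L21343 : sm ga N2457 = N2209 := ded_16_1 (flp_i L19125) (flp_a L19042) L21341
theorem L21345 : sm gc N2457 = N2205 := ded_29_1 (flp_i L19080) (flp_c L19044) L21341
theorem L21347 : sm gf N2457 = N2203 := ded_41_1 (flp_i L19056) (flp_f L19046) L21341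
theorem L21349 : sm gg N2457 = N2357 := ded_43_1 (flp_i L20426) (flp_g L19048) L21341
theorem L21351 : sm gh N2457 = N2222 := ded_44_1 (flp_i L19247) (flp_h L17129) (flp_i L16982) L19040 L21341
theorem L21353 : sm gi N2202 = N2458 := rfl
theorem L21355 : sm ga N2458 = N2211 := ded_16_1 (flp_i L19143) (flp_a L19052) L21353
theorem L21357 : sm gd N2458 = N2203 := ded_34_1 (flp_i L19056) L19050 L21353
theorem L21359 : sm gg N2458 = N2458 := ded_43_1 (flp_i L21353) L19054 L21353
theorem L21360 : sm gi N2204 = N2459 := rfl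
theorem L21362 : sm ga N2459 = N2212 := ded_16_1 (flp_i L19148) (flp_a L19069) L21360
theorem L21364 : sm gb N2459 = N2459 := ded_23_1 (flp_i L21360) L19071 L21360
theorem L21365 : sm gd N2459 = N2327 := ded_34_1 (flp_i L20220) (flp_d L19078) L21360
theorem L21367 : sm ge N2459 = N2205 := ded_38_1 (flp_i L19080) (flp_e L19072) L21360
theorem L21369 : sm gf N2459 = N2312 := ded_41_1 (flp_i L20089) (flp_f L19074) L21360
theorem L21371 : sm gg N2459 = N2329 := ded_43_1 (flp_i L20239) (flp_g L19076) L21360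
theorem L21373 : sm gh N2459 = N2226 := ded_44_1 (flp_i L19288) (flp_h L17166) (flp_i L17002) L19067 L21360
theorem L21375 : sm gh N2206 = N2460 := rfl
theorem L21377 : sm ga N2460 = N2322 := ded_15_1 L20186 (flp_a L19095) L21375
theorem L21379 : sm gc N2460 = N2251 := ded_28_1 (flp_h L19508) (flp_c L19103) L21375
theorem L21381 : sm ge N2460 = N2460 := ded_37_1 (flp_h L21375) L19105 L21375
theorem L21382 : sm gf N2460 = N2313 := ded_40_1 (flp_h L20100) (flp_f L19097) L21375
theorem L21384 : sm gg N2460 = N2348 := ded_42_1 L20365 (flp_g L19099) L21375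
theorem L21386 : sm gd N2207 = N2461 := rfl
theorem L21388 : sm gf N2461 = N2315 := ded_31_2 (flp_d L20120) (flp_f L19112) L21386
theorem L21390 : sm gg N2461 = N2334 := ded_32_2 L20272 (flp_g L19114) L21386
theorem L21392 : sm gc N2461 = N2332 := ded_24_1 (flp_d L20258) L18088 (flp_d L17070) (flp_c L19108) L21386
theorem L21394 : sm gi N2207 = N2462 := rfl
theorem L21396 : sm gc N2462 = N2212 := ded_29_1 (flp_i L19148) (flp_c L19108) L21394
theorem L21398 : sm ge N2462 = N2209 := ded_38_1 (flp_i L19125) (flp_e L19110) L21394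
theorem L21400 : sm gf N2462 = N2316 := ded_41_1 (flp_i L20122) (flp_f L19112) L21394
theorem L21402 : sm gg N2462 = N2344 := ded_43_1 (flp_i L20336) (flp_g L19114) L21394
theorem L21404 : sm gh N2462 = N2233 := ded_44_1 (flp_i L19353) (flp_h L17207) (flp_i L17035) L19106 L21394
theorem L21406 : sm ge N2208 = N2463 := rfl
theorem L21408 : sm gc N2463 = N2358 := ded_25_1 (flp_e L20433) (flp_c L19122) L21406
theorem L21410 : sm gg N2463 = N2361 := ded_36_2 (flp_e L20455) (flp_g L19120) L21406
theorem L21412 : sm gh N2463 = N2463 := ded_37_2 (flp_e L21406) L19124 L21406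
theorem L21413 : sm gi N2208 = N2464 := rfl
theorem L21415 : sm gc N2464 = N2359 := ded_29_1 (flp_i L20441) (flp_c L19122) L21413
theorem L21417 : sm gd N2464 = N2209 := ded_34_1 (flp_i L19125) L19116 L21413
theorem L21419 : sm gf N2464 = N2211 := ded_41_1 (flp_i L19143) (flp_f L19118) L21413
theorem L21421 : sm gg N2464 = N2362 := ded_43_1 (flp_i L20460) (flp_g L19120) L21413
theorem L21423 : sm gf N2210 = N2465 := rfl
theorem L21425 : sm gb N2465 = N2221 := ded_20_1 L19243 (flp_b L19137) L21423
theorem L21427 : sm gd N2465 = N2215 := ded_31_1 L19183 (flp_d L19141) L21423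
theorem L21429 : sm gh N2465 = N2465 := ded_40_2 (flp_f L21423) L19140 L21423
theorem L21430 : sm gi N2210 = N2466 := rfl
theorem L21432 : sm gb N2466 = N2223 := ded_23_1 (flp_i L19255) (flp_b L19137) L21430
theorem L21434 : sm gd N2466 = N2216 := ded_34_1 (flp_i L19185) (flp_d L19141) L21430
theorem L21436 : sm ge N2466 = N2211 := ded_38_1 (flp_i L19143) L19135 L21430
theorem L21438 : sm gg N2466 = N2466 := ded_43_1 (flp_i L21430) L19139 L21430
theorem L21439 : sm gh N2211 = N2467 := rfl
theorem L21441 : sm gg N2467 = N2467 := ded_42_1 (flp_h L21439) L19147 L21439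
theorem L21442 : sm gd N2467 = N2240 := ded_33_1 (flp_h L19402) L17244 (flp_h L17058) (flp_d L19145) L21439
theorem L21444 : sm gi N2467 = N2467 := ded_44_2 (flp_h L21439) (flp_i L19143) L17050 L19143 L21439
theorem L21445 : sm gd N2213 = N2468 := rfl
theorem L21447 : sm ga N2468 = N2377 := ded_11_1 L20850 L20841 L21445
theorem L21449 : sm gb N2468 = N2217 := ded_18_1 (flp_d L19193) (flp_b L19164) L21445
theorem L21451 : sm gf N2468 = N2261 := ded_31_2 L19616 (flp_f L19167) L21445
theorem L21453 : sm gi N2468 = N2290 := ded_34_2 (flp_d L21293) L21289 L21445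
theorem L21455 : sm ge N2468 = N2468 := ded_30_2 (flp_d L21445) (flp_e L19162) L17102 L19162 L21445
theorem L21456 : sm gc N2468 = N2254 := ded_47_5 (flp_b L19533) (flp_h L19479) L19477 L17328 L16162 L14543 (flp_c L14537) (flp_b L14507) L14510 L13527 (flp_f L13519) L11879 (flp_d L10566) L8922 L7776 L6292 L6291 L7788 L7795 (flp_d L7881) L7880 (flp_b L9515) L9519 (flp_g L8013) (flp_f L6454) (flp_e L4964) L3879 L3071 (flp_b L3456) L3454 L3452 L2799 L2798 (flp_d L3503) L3502 L3507 (flp_h L4097) (flp_g L4897) (flp_f L6305) L7805 L9423 L11243 (flp_b L13057) (flp_h L13055) L11187 L13049 L14746 (flp_d L16004) L16002 L14185 L16042 L16048 L14196 (flp_e L13584) L13587 (flp_c L15248) (flp_b L17105) (flp_h L17103) L15235 L17097 L19162 L21445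
theorem L21458 : sm gg N2253 = N2468 := ded_21_0 L21449 (flp_g L19204) L19526
theorem L21460 : sm gg N2213 = N2469 := rfl
theorem L21462 : sm gb N2469 = N2218 := ded_21_1 (flp_g L19206) (flp_b L19164) L21460
theorem L21464 : sm gc N2469 = N2469 := ded_27_1 (flp_g L21460) L19166 L21460
theorem L21465 : sm gd N2469 = N2253 := ded_32_1 L21458 (flp_d L21445) L21460
theorem L21467 : sm ge N2469 = N2214 := ded_36_1 (flp_g L19169) L19162 L21460
theorem L21469 : sm gi N2469 = N2347 := ded_43_2 (flp_g L21287) L21289 L21460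
theorem L21471 : sm gf N2469 = N2350 := ded_39_1 (flp_g L20743) L20741 (flp_g L19606) (flp_f L19167) L21460
theorem L21473 : sm gh N2213 = N2470 := rfl
theorem L21475 : sm gb N2470 = N2219 := ded_22_1 (flp_h L19220) (flp_b L19164) L21473
theorem L21477 : sm gc N2470 = N2470 := ded_28_1 (flp_h L21473) L19166 L21473
theorem L21478 : sm ge N2470 = N2215 := ded_37_1 (flp_h L19178) L19162 L21473
theorem L21480 : sm gf N2470 = N2319 := ded_40_1 L20158 (flp_f L19167) L21473
theorem L21482 : sm gh N2214 = N2471 := rfl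
theorem L21484 : sm gb N2471 = N2220 := ded_22_1 (flp_h L19230) (flp_b L19171) L21482
theorem L21486 : sm gc N2471 = N2471 := ded_28_1 (flp_h L21482) L19173 L21482
theorem L21487 : sm gf N2471 = N2471 := ded_40_1 (flp_h L21482) L19177 L21482
theorem L21488 : sm gg N2471 = N2215 := ded_42_1 (flp_h L19178) L19169 L21482
theorem L21490 : sm gi N2215 = N2472 := rfl
theorem L21492 : sm gb N2472 = N2222 := ded_23_1 (flp_i L19247) (flp_b L19180) L21490
theorem L21494 : sm gc N2472 = N2472 := ded_29_1 (flp_i L21490) L19182 L21490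
theorem L21495 : sm gf N2472 = N2216 := ded_41_1 (flp_i L19185) (flp_f L19183) L21490
theorem L21497 : sm gh N2217 = N2473 := rfl
theorem L21499 : sm ga N2473 = N2229 := ded_15_1 (flp_h L19321) (flp_a L19195) L21497
theorem L21501 : sm gc N2473 = N2242 := ded_28_1 L19431 (flp_c L19201) L21497
theorem L21503 : sm ge N2473 = N2473 := ded_37_1 (flp_h L21497) L19203 L21497
theorem L21504 : sm gf N2473 = N2314 := ded_40_1 (flp_h L20110) (flp_f L19197) L21497
theorem L21506 : sm gg N2473 = N2244 := ded_42_1 L19448 L19204 L21497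
theorem L21508 : sm gh N2218 = N2474 := rfl
theorem L21510 : sm ga N2474 = N2231 := ded_15_1 (flp_h L19341) (flp_a L19208) L21508
theorem L21512 : sm gc N2474 = N2224 := ded_28_1 (flp_h L19263) (flp_c L19210) L21508
theorem L21514 : sm ge N2474 = N2220 := ded_37_1 (flp_h L19230) (flp_e L19214) L21508
theorem L21516 : sm gf N2474 = N2348 := ded_40_1 L20365 (flp_f L19218) L21508
theorem L21518 : sm gg N2474 = N2219 := ded_42_1 (flp_h L19220) L19206 L21508
theorem L21520 : sm gd N2219 = N2475 := rfl
theorem L21522 : sm ga N2475 = N2232 := ded_11_1 (flp_d L19349) (flp_a L19222) L21520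
theorem L21524 : sm gf N2475 = N2324 := ded_31_2 (flp_d L20197) (flp_f L19228) L21520
theorem L21526 : sm gi N2219 = N2476 := rfl
theorem L21528 : sm ga N2476 = N2233 := ded_16_1 (flp_i L19353) (flp_a L19222) L21526
theorem L21530 : sm gc N2476 = N2226 := ded_29_1 (flp_i L19288) (flp_c L19224) L21526
theorem L21532 : sm ge N2476 = N2222 := ded_38_1 (flp_i L19247) (flp_e L19226) L21526
theorem L21534 : sm gf N2476 = N2325 := ded_41_1 (flp_i L20201) (flp_f L19228) L21526
theorem L21536 : sm gd N2220 = N2477 := rfl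
theorem L21538 : sm ga N2477 = N2234 := ded_11_1 (flp_d L19361) (flp_a L19232) L21536
theorem L21540 : sm gf N2477 = N2477 := ded_31_2 (flp_d L21536) L19236 L21536
theorem L21541 : sm gg N2477 = N2221 := ded_32_2 (flp_d L19239) (flp_g L19237) L21536
theorem L21543 : sm gc N2477 = N2477 := ded_24_1 (flp_d L21536) L19234 L17183 (flp_c L19234) L21536
theorem L21544 : sm gh N2477 = N2477 := ded_33_2 (flp_d L21536) (flp_h L19230) L17125 L19230 L21536
theorem L21545 : sm gi N2220 = N2478 := rfl
theorem L21547 : sm ga N2478 = N2235 := ded_16_1 (flp_i L19368) (flp_a L19232) L21545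
theorem L21549 : sm gc N2478 = N2227 := ded_29_1 (flp_i L19297) (flp_c L19234) L21545
theorem L21551 : sm gf N2478 = N2478 := ded_41_1 (flp_i L21545) L19236 L21545
theorem L21552 : sm gg N2478 = N2222 := ded_43_1 (flp_i L19247) (flp_g L19237) L21545
theorem L21554 : sm gh N2478 = N2357 := ded_44_1 (flp_i L20426) L18267 (flp_i L17126) L19230 L21545
theorem L21556 : sm ge N2221 = N2479 := rfl
theorem L21558 : sm ga N2479 = N2236 := ded_12_1 (flp_e L19377) (flp_a L19241) L21556
theorem L21560 : sm gc N2479 = N2479 := ded_25_1 (flp_e L21556) L19245 L21556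
theorem L21561 : sm gh N2479 = N2479 := ded_37_2 (flp_e L21556) L19246 L21556
theorem L21562 : sm gi N2221 = N2480 := rfl
theorem L21564 : sm ga N2480 = N2237 := ded_16_1 (flp_i L19381) (flp_a L19241) L21562
theorem L21566 : sm gc N2480 = N2480 := ded_29_1 (flp_i L21562) L19245 L21562
theorem L21567 : sm gd N2480 = N2222 := ded_34_1 (flp_i L19247) L19239 L21562
theorem L21569 : sm gf N2480 = N2223 := ded_41_1 (flp_i L19255) (flp_f L19243) L21562
theorem L21571 : sm gh N2223 = N2481 := rfl
theorem L21573 : sm ga N2481 = N2240 := ded_15_1 (flp_h L19402) (flp_a L19257) L21571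
theorem L21575 : sm gc N2481 = N2481 := ded_28_1 (flp_h L21571) L19259 L21571
theorem L21576 : sm gg N2481 = N2481 := ded_42_1 (flp_h L21571) L19262 L21571
theorem L21577 : sm gi N2481 = N2481 := ded_44_2 (flp_h L21571) (flp_i L19255) L17143 L19255 L21571
theorem L21578 : sm gi N2224 = N2482 := rfl
theorem L21580 : sm ga N2482 = N2243 := ded_16_1 (flp_i L19433) (flp_a L19265) L21578
theorem L21582 : sm gb N2482 = N2482 := ded_23_1 (flp_i L21578) L19267 L21578
theorem L21583 : sm gd N2482 = N2252 := ded_34_1 (flp_i L19520) (flp_d L19274) L21578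
theorem L21585 : sm ge N2482 = N2227 := ded_38_1 (flp_i L19297) (flp_e L19268) L21578
theorem L21587 : sm gf N2482 = N2349 := ded_41_1 (flp_i L20367) (flp_f L19270) L21578
theorem L21589 : sm gg N2482 = N2226 := ded_43_1 (flp_i L19288) (flp_g L19272) L21578
theorem L21591 : sm gh N2482 = N2329 := ded_44_1 (flp_i L20239) L18054 (flp_i L17162) L19263 L21578
theorem L21593 : sm gc N2225 = N2483 := rfl
theorem L21595 : sm ga N2483 = N2244 := ded_10_1 (flp_c L19443) (flp_a L19278) L21593
theorem L21597 : sm ge N2483 = N2483 := ded_25_2 (flp_c L21593) L19285 L21593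
theorem L21598 : sm gf N2483 = N2328 := ded_26_2 (flp_c L20231) (flp_f L19281) L21593
theorem L21600 : sm gg N2483 = N2229 := ded_27_2 L19323 (flp_g L19283) L21593
theorem L21602 : sm gh N2483 = N2228 := ded_28_2 L19312 (flp_h L19286) L21593
theorem L21604 : sm gi N2225 = N2484 := rfl
theorem L21606 : sm ga N2484 = N2245 := ded_16_1 (flp_i L19450) (flp_a L19278) L21604
theorem L21608 : sm gb N2484 = N2484 := ded_23_1 (flp_i L21604) L19280 L21604
theorem L21609 : sm gd N2484 = N2226 := ded_34_1 (flp_i L19288) L19276 L21604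
theorem L21611 : sm ge N2484 = N2484 := ded_38_1 (flp_i L21604) L19285 L21604
theorem L21612 : sm gf N2484 = N2329 := ded_41_1 (flp_i L20239) (flp_f L19281) L21604
theorem L21614 : sm gg N2484 = N2252 := ded_43_1 (flp_i L19520) (flp_g L19283) L21604
theorem L21616 : sm gh N2484 = N2349 := ded_44_1 (flp_i L20367) L18190 (flp_i L17374) (flp_h L19286) L21604
theorem L21618 : sm gd N2229 = N2485 := rfl
theorem L21620 : sm gf N2485 = N2330 := ded_31_2 (flp_d L20248) (flp_f L19326) L21618
theorem L21622 : sm gh N2485 = N2232 := ded_33_2 (flp_d L19349) (flp_h L17207) L17192 L19321 L21618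
theorem L21624 : sm gi N2229 = N2486 := rfl
theorem L21626 : sm gc N2486 = N2252 := ded_29_1 (flp_i L19520) (flp_c L19323) L21624
theorem L21628 : sm ge N2486 = N2486 := ded_38_1 (flp_i L21624) L19325 L21624
theorem L21629 : sm gf N2486 = N2331 := ded_41_1 (flp_i L20252) (flp_f L19326) L21624
theorem L21631 : sm gh N2230 = N2487 := rfl
theorem L21633 : sm ga N2487 = N2348 := ded_15_1 L20365 (flp_a L19330) L21631
theorem L21635 : sm gc N2487 = N2241 := ded_28_1 (flp_h L19407) (flp_c L19332) L21631
theorem L21637 : sm ge N2487 = N2487 := ded_37_1 (flp_h L21631) L19338 L21631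
theorem L21638 : sm gf N2487 = N2231 := ded_40_1 (flp_h L19341) L19328 L21631
theorem L21640 : sm gg N2487 = N2322 := ded_42_1 L20186 (flp_g L19339) L21631
theorem L21642 : sm gd N2231 = N2488 := rfl
theorem L21644 : sm gg N2488 = N2232 := ded_32_2 (flp_d L19349) (flp_g L19347) L21642
theorem L21646 : sm gi N2231 = N2489 := rfl
theorem L21648 : sm gc N2489 = N2243 := ded_29_1 (flp_i L19433) (flp_c L19343) L21646
theorem L21650 : sm ge N2489 = N2235 := ded_38_1 (flp_i L19368) (flp_e L19345) L21646
theorem L21652 : sm gg N2489 = N2233 := ded_43_1 (flp_i L19353) (flp_g L19347) L21646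
theorem L21654 : sm gh N2489 = N2344 := ded_44_1 (flp_i L20336) L18157 (flp_i L17205) L19341 L21646
theorem L21656 : sm gc N2232 = N2490 := rfl
theorem L21658 : sm gf N2490 = N2334 := ded_26_2 (flp_c L20270) (flp_f L19351) L21656
theorem L21660 : sm gd N2490 = N2244 := ded_24_2 (flp_c L19443) (flp_d L17268) (flp_c L17209) L19349 L21656
theorem L21662 : sm ge N2232 = N2491 := rfl
theorem L21664 : sm gd N2491 = N2236 := ded_30_1 (flp_e L19377) (flp_d L17222) (flp_e L17211) L19349 L21662
theorem L21666 : sm gi N2232 = N2492 := rfl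
theorem L21668 : sm gd N2492 = N2233 := ded_34_1 (flp_i L19353) L19349 L21666
theorem L21670 : sm gf N2492 = N2336 := ded_41_1 (flp_i L20278) (flp_f L19351) L21666
theorem L21672 : sm ge N2234 = N2493 := rfl
theorem L21674 : sm gc N2493 = N2493 := ded_25_1 (flp_e L21672) L19366 L21672
theorem L21675 : sm gg N2493 = N2236 := ded_36_2 (flp_e L19377) (flp_g L19364) L21672
theorem L21677 : sm gh N2493 = N2493 := ded_37_2 (flp_e L21672) L19367 L21672
theorem L21678 : sm gi N2234 = N2494 := rfl
theorem L21680 : sm gc N2494 = N2494 := ded_29_1 (flp_i L21678) L19366 L21678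
theorem L21681 : sm gd N2494 = N2235 := ded_34_1 (flp_i L19368) L19361 L21678
theorem L21683 : sm gf N2494 = N2494 := ded_41_1 (flp_i L21678) L19363 L21678
theorem L21684 : sm gg N2494 = N2237 := ded_43_1 (flp_i L19381) (flp_g L19364) L21678
theorem L21686 : sm gf N2236 = N2495 := rfl
theorem L21688 : sm gc N2495 = N2495 := ded_26_1 (flp_f L21686) L19379 L21686
theorem L21689 : sm gh N2495 = N2495 := ded_40_2 (flp_f L21686) L19380 L21686
theorem L21690 : sm ge N2495 = N2238 := ded_35_1 (flp_f L19388) (flp_e L17234) (flp_f L17224) L19377 L21686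
theorem L21692 : sm gi N2236 = N2496 := rfl
theorem L21694 : sm gc N2496 = N2496 := ded_29_1 (flp_i L21692) L19379 L21692
theorem L21695 : sm ge N2496 = N2237 := ded_38_1 (flp_i L19381) L19377 L21692
theorem L21697 : sm gh N2237 = N2497 := rfl
theorem L21699 : sm gc N2497 = N2497 := ded_28_1 (flp_h L21697) L19383 L21697
theorem L21700 : sm gf N2497 = N2240 := ded_40_1 (flp_h L19402) (flp_f L19386) L21697
theorem L21702 : sm gi N2497 = N2497 := ded_44_2 (flp_h L21697) (flp_i L19381) L17227 L19381 L21697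
theorem L21703 : sm gg N2238 = N2498 := rfl
theorem L21705 : sm ga N2498 = N2360 := ded_14_1 (flp_g L20771) L20765 L21703
theorem L21707 : sm gc N2498 = N2498 := ded_27_1 (flp_g L21703) L19390 L21703
theorem L21708 : sm gd N2498 = N2341 := ded_32_1 (flp_g L20313) (flp_d L19391) L21703
theorem L21710 : sm gh N2498 = N2498 := ded_42_2 (flp_g L21703) L19393 L21703
theorem L21711 : sm gf N2498 = N2498 := ded_39_1 (flp_g L21703) (flp_f L19388) L17237 L19388 L21703
theorem L21712 : sm gi N2238 = N2499 := rfl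
theorem L21714 : sm gc N2499 = N2499 := ded_29_1 (flp_i L21712) L19390 L21712
theorem L21715 : sm gd N2499 = N2342 := ded_34_1 (flp_i L20322) (flp_d L19391) L21712
theorem L21717 : sm gf N2499 = N2239 := ded_41_1 (flp_i L19394) L19388 L21712
theorem L21719 : sm gh N2239 = N2500 := rfl
theorem L21721 : sm gc N2500 = N2500 := ded_28_1 (flp_h L21719) L19396 L21719
theorem L21722 : sm ge N2500 = N2240 := ded_37_1 (flp_h L19402) (flp_e L19399) L21719
theorem L21724 : sm gg N2500 = N2500 := ded_42_1 (flp_h L21719) L19401 L21719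
theorem L21725 : sm gi N2500 = N2500 := ded_44_2 (flp_h L21719) (flp_i L19394) L17238 L19394 L21719
theorem L21726 : sm gi N2241 = N2501 := rfl
theorem L21728 : sm ga N2501 = N2349 := ded_16_1 (flp_i L20367) (flp_a L19409) L21726
theorem L21730 : sm gb N2501 = N2246 := ded_23_1 (flp_i L19459) (flp_b L19411) L21726
theorem L21732 : sm gd N2501 = N2321 := ded_34_1 (flp_i L20169) (flp_d L19418) L21726
theorem L21734 : sm ge N2501 = N2501 := ded_38_1 (flp_i L21726) L19413 L21726
theorem L21735 : sm gf N2501 = N2243 := ded_41_1 (flp_i L19433) (flp_f L19414) L21726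
theorem L21737 : sm gg N2501 = N2323 := ded_43_1 (flp_i L20188) (flp_g L19416) L21726
theorem L21739 : sm gh N2501 = N2245 := ded_44_1 (flp_i L19450) L17275 (flp_i L17255) L19407 L21726
theorem L21741 : sm gi N2242 = N2502 := rfl
theorem L21743 : sm ga N2502 = N2252 := ded_16_1 (flp_i L19520) (flp_a L19422) L21741
theorem L21745 : sm gb N2502 = N2248 := ded_23_1 (flp_i L19481) (flp_b L19424) L21741
theorem L21747 : sm gd N2502 = N2243 := ded_34_1 (flp_i L19433) L19420 L21741
theorem L21749 : sm ge N2502 = N2502 := ded_38_1 (flp_i L21741) L19430 L21741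
theorem L21750 : sm gf N2502 = N2321 := ded_41_1 (flp_i L20169) (flp_f L19426) L21741
theorem L21752 : sm gg N2502 = N2245 := ded_43_1 (flp_i L19450) (flp_g L19428) L21741
theorem L21754 : sm gh N2502 = N2323 := ded_44_1 (flp_i L20188) L17957 (flp_i L17362) (flp_h L19431) L21741
theorem L21756 : sm gb N2244 = N2503 := rfl
theorem L21758 : sm ge N2503 = N2503 := ded_19_2 (flp_b L21756) L19445 L21756
theorem L21759 : sm gf N2503 = N2343 := ded_20_2 (flp_b L20328) (flp_f L19446) L21756
theorem L21761 : sm gh N2503 = N2253 := ded_22_2 (flp_b L19526) (flp_h L19448) L21756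
theorem L21763 : sm gc N2503 = N2249 := ded_17_2 (flp_b L19493) (flp_c L17324) (flp_b L17270) L19443 L21756
theorem L21765 : sm gi N2244 = N2504 := rfl
theorem L21767 : sm gc N2504 = N2245 := ded_29_1 (flp_i L19450) L19443 L21765
theorem L21769 : sm ge N2504 = N2504 := ded_38_1 (flp_i L21765) L19445 L21765
theorem L21770 : sm gf N2504 = N2344 := ded_41_1 (flp_i L20336) (flp_f L19446) L21765
theorem L21772 : sm gb N2247 = N2505 := rfl
theorem L21774 : sm ge N2505 = N2505 := ded_19_2 (flp_b L21772) L19474 L21772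
theorem L21775 : sm gf N2505 = N2265 := ded_20_2 L19663 (flp_f L19475) L21772
theorem L21777 : sm gg N2505 = N2249 := ded_21_2 (flp_b L19493) (flp_g L19477) L21772
theorem L21779 : sm gh N2505 = N2254 := ded_22_2 (flp_b L19533) (flp_h L19479) L21772
theorem L21781 : sm ga N2366 = N2505 := ded_13_3 L21775 L19661 L20487
theorem L21783 : sm gi N2247 = N2506 := rfl
theorem L21785 : sm ga N2506 = N2506 := ded_16_1 (flp_i L21783) L19473 L21783
theorem L21786 : sm gc N2506 = N2248 := ded_29_1 (flp_i L19481) L19471 L21783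
theorem L21788 : sm ge N2506 = N2506 := ded_38_1 (flp_i L21783) L19474 L21783
theorem L21789 : sm gf N2506 = N2270 := ded_41_1 (flp_i L19707) (flp_f L19475) L21783
theorem L21791 : sm gg N2506 = N2250 := ded_43_1 (flp_i L19500) (flp_g L19477) L21783
theorem L21793 : sm gh N2506 = N2305 := ded_44_1 (flp_i L20032) (flp_h L17774) (flp_i L17396) (flp_h L19479) L21783
theorem L21795 : sm ga N2249 = N2507 := rfl
theorem L21797 : sm ge N2507 = N2507 := ded_12_2 (flp_a L21795) L19495 L21795
theorem L21798 : sm gf N2507 = N2345 := ded_13_2 (flp_a L20342) (flp_f L19496) L21795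
theorem L21800 : sm gg N2507 = N2366 := ded_14_2 L21781 L21777 L21795
theorem L21802 : sm gh N2507 = N2255 := ded_15_2 (flp_a L19545) (flp_h L19498) L21795
theorem L21804 : sm gb N2507 = N2507 := ded_9_2 (flp_a L21795) (flp_b L19493) L17326 L19493 L21795
theorem L21805 : sm gi N2249 = N2508 := rfl
theorem L21807 : sm gb N2508 = N2250 := ded_23_1 (flp_i L19500) L19493 L21805
theorem L21809 : sm ge N2508 = N2508 := ded_38_1 (flp_i L21805) L19495 L21805
theorem L21810 : sm gf N2508 = N2346 := ded_41_1 (flp_i L20351) (flp_f L19496) L21805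
theorem L21812 : sm gi N2251 = N2509 := rfl
theorem L21814 : sm ga N2509 = N2323 := ded_16_1 (flp_i L20188) (flp_a L19510) L21812
theorem L21816 : sm gb N2509 = N2509 := ded_23_1 (flp_i L21812) L19512 L21812
theorem L21817 : sm gd N2509 = N2312 := ded_34_1 (flp_i L20089) (flp_d L19518) L21812
theorem L21819 : sm ge N2509 = N2509 := ded_38_1 (flp_i L21812) L19513 L21812
theorem L21820 : sm gf N2509 = N2327 := ded_41_1 (flp_i L20220) (flp_f L19514) L21812
theorem L21822 : sm gg N2509 = N2349 := ded_43_1 (flp_i L20367) (flp_g L19516) L21812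
theorem L21824 : sm gh N2509 = N2252 := ded_44_1 (flp_i L19520) (flp_h L17377) (flp_i L17349) L19508 L21812
theorem L21826 : sm ga N2253 = N2510 := rfl
theorem L21828 : sm gc N2510 = N2255 := ded_10_2 (flp_a L19545) (flp_c L19531) L21826
theorem L21830 : sm ge N2510 = N2510 := ded_12_2 (flp_a L21826) L19528 L21826
theorem L21831 : sm gf N2510 = N2351 := ded_13_2 (flp_a L20379) (flp_f L19529) L21826
theorem L21833 : sm gg N2510 = N2377 := ded_14_2 (flp_a L21447) (flp_g L21458) L21826
theorem L21835 : sm gd N2256 = N2511 := rfl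
theorem L21837 : sm ga N2511 = N2511 := ded_11_1 (flp_d L21835) L19556 L21835
theorem L21838 : sm gb N2511 = N2352 := ded_18_1 (flp_d L20387) (flp_b L19557) L21835
theorem L21840 : sm gg N2511 = N2257 := ded_32_2 (flp_d L19564) (flp_g L19562) L21835
theorem L21842 : sm ge N2511 = N2269 := ded_30_2 (flp_d L19701) L17541 (flp_d L17433) (flp_e L19560) L21835
theorem L21844 : sm gh N2511 = N2511 := ded_33_2 (flp_d L21835) (flp_h L19554) L17411 L19554 L21835
theorem L21845 : sm gi N2256 = N2512 := rfl
theorem L21847 : sm ga N2512 = N2512 := ded_16_1 (flp_i L21845) L19556 L21845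
theorem L21848 : sm gb N2512 = N2353 := ded_23_1 (flp_i L20394) (flp_b L19557) L21845
theorem L21850 : sm gc N2512 = N2512 := ded_29_1 (flp_i L21845) L19559 L21845
theorem L21851 : sm ge N2512 = N2259 := ded_38_1 (flp_i L19583) (flp_e L19560) L21845
theorem L21853 : sm gg N2512 = N2258 := ded_43_1 (flp_i L19573) (flp_g L19562) L21845
theorem L21855 : sm gh N2512 = N2512 := ded_44_1 (flp_i L21845) (flp_h L19554) L17414 L19554 L21845
theorem L21856 : sm gc N2257 = N2513 := rfl
theorem L21858 : sm ga N2513 = N2513 := ded_10_1 (flp_c L21856) L19566 L21856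
theorem L21859 : sm ge N2513 = N2271 := ded_25_2 (flp_c L19718) (flp_e L19570) L21856
theorem L21861 : sm gf N2513 = N2513 := ded_26_2 (flp_c L21856) L19569 L21856
theorem L21862 : sm gh N2513 = N2513 := ded_28_2 (flp_c L21856) L19572 L21856
theorem L21863 : sm gd N2513 = N2513 := ded_24_2 (flp_c L21856) (flp_d L19564) L17420 L19564 L21856
theorem L21864 : sm gi N2257 = N2514 := rfl
theorem L21866 : sm ga N2514 = N2514 := ded_16_1 (flp_i L21864) L19566 L21864
theorem L21867 : sm gb N2514 = N2355 := ded_23_1 (flp_i L20413) (flp_b L19567) L21864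
theorem L21869 : sm gd N2514 = N2258 := ded_34_1 (flp_i L19573) L19564 L21864
theorem L21871 : sm ge N2514 = N2272 := ded_38_1 (flp_i L19726) (flp_e L19570) L21864
theorem L21873 : sm gf N2514 = N2514 := ded_41_1 (flp_i L21864) L19569 L21864
theorem L21874 : sm gh N2260 = N2515 := rfl
theorem L21876 : sm ga N2515 = N2374 := ded_15_1 L20548 (flp_a L19597) L21874
theorem L21878 : sm gb N2515 = N2313 := ded_22_1 (flp_h L20100) (flp_b L19599) L21874
theorem L21880 : sm gc N2515 = N2515 := ded_28_1 (flp_h L21874) L19603 L21874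
theorem L21881 : sm ge N2515 = N2317 := ded_37_1 L20140 (flp_e L19604) L21874
theorem L21883 : sm gg N2515 = N2319 := ded_42_1 L20158 L19606 L21874
theorem L21885 : sm gh N2261 = N2516 := rfl
theorem L21887 : sm ga N2516 = N2337 := ded_15_1 L20288 (flp_a L19610) L21885
theorem L21889 : sm gb N2516 = N2314 := ded_22_1 (flp_h L20110) (flp_b L19612) L21885
theorem L21891 : sm gc N2516 = N2265 := ded_28_1 (flp_h L19659) (flp_c L19614) L21885
theorem L21893 : sm ge N2516 = N2263 := ded_37_1 (flp_h L19632) (flp_e L19618) L21885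
theorem L21895 : sm gg N2516 = N2262 := ded_42_1 (flp_h L19622) L19608 L21885
theorem L21897 : sm gd N2262 = N2517 := rfl
theorem L21899 : sm ga N2517 = N2335 := ded_11_1 L20276 (flp_a L19624) L21897
theorem L21901 : sm gb N2517 = N2315 := ded_18_1 (flp_d L20120) (flp_b L19626) L21897
theorem L21903 : sm ge N2517 = N2324 := ded_30_2 (flp_d L20197) L18019 (flp_d L17479) (flp_e L19630) L21897
theorem L21905 : sm gi N2262 = N2518 := rfl
theorem L21907 : sm ga N2518 = N2340 := ded_16_1 (flp_i L20307) (flp_a L19624) L21905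
theorem L21909 : sm gb N2518 = N2316 := ded_23_1 (flp_i L20122) (flp_b L19626) L21905
theorem L21911 : sm gc N2518 = N2267 := ded_29_1 (flp_i L19678) (flp_c L19628) L21905
theorem L21913 : sm ge N2518 = N2264 := ded_38_1 (flp_i L19645) (flp_e L19630) L21905
theorem L21915 : sm gh N2518 = N2293 := ded_44_1 (flp_i L19938) (flp_h L17690) (flp_i L17454) L19622 L21905
theorem L21917 : sm gi N2263 = N2519 := rfl
theorem L21919 : sm ga N2519 = N2338 := ded_16_1 (flp_i L20290) (flp_a L19634) L21917
theorem L21921 : sm gb N2519 = N2318 := ded_23_1 (flp_i L20142) (flp_b L19636) L21917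
theorem L21923 : sm gc N2519 = N2268 := ded_29_1 (flp_i L19688) (flp_c L19638) L21917
theorem L21925 : sm gd N2519 = N2326 := ded_34_1 (flp_i L20209) (flp_d L19643) L21917
theorem L21927 : sm gf N2519 = N2519 := ded_41_1 (flp_i L21917) L19640 L21917
theorem L21928 : sm gg N2519 = N2264 := ded_43_1 (flp_i L19645) (flp_g L19641) L21917
theorem L21930 : sm gh N2519 = N2295 := ded_44_1 (flp_i L19958) (flp_h L17698) (flp_i L17466) L19632 L21917
theorem L21932 : sm gd N2265 = N2520 := rfl
theorem L21934 : sm ga N2520 = N2358 := ded_11_1 L20439 (flp_a L19661) L21932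
theorem L21936 : sm gb N2520 = N2269 := ded_18_1 (flp_d L19701) (flp_b L19663) L21932
theorem L21938 : sm gg N2520 = N2266 := ded_32_2 (flp_d L19669) (flp_g L19667) L21932
theorem L21940 : sm ge N2520 = N2352 := ded_30_2 (flp_d L20387) L18222 (flp_d L17522) (flp_e L19665) L21932
theorem L21942 : sm gh N2520 = N2520 := ded_33_2 (flp_d L21932) (flp_h L19659) L17500 L19659 L21932
theorem L21943 : sm gi N2265 = N2521 := rfl
theorem L21945 : sm ga N2521 = N2367 := ded_16_1 (flp_i L20493) (flp_a L19661) L21943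
theorem L21947 : sm gb N2521 = N2270 := ded_23_1 (flp_i L19707) (flp_b L19663) L21943
theorem L21949 : sm ge N2521 = N2268 := ded_38_1 (flp_i L19688) (flp_e L19665) L21943
theorem L21951 : sm gg N2521 = N2267 := ded_43_1 (flp_i L19678) (flp_g L19667) L21943
theorem L21953 : sm gh N2521 = N2302 := ded_44_1 (flp_i L20013) (flp_h L17746) (flp_i L17503) L19659 L21943
theorem L21955 : sm gc N2266 = N2522 := rfl
theorem L21957 : sm ga N2522 = N2361 := ded_10_1 L20457 (flp_a L19671) L21955
theorem L21959 : sm ge N2522 = N2354 := ded_25_2 (flp_c L20405) (flp_e L19675) L21955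
theorem L21961 : sm gh N2522 = N2522 := ded_28_2 (flp_c L21955) L19677 L21955
theorem L21962 : sm gi N2266 = N2523 := rfl
theorem L21964 : sm ga N2523 = N2364 := ded_16_1 (flp_i L20474) (flp_a L19671) L21962
theorem L21966 : sm gb N2523 = N2272 := ded_23_1 (flp_i L19726) (flp_b L19673) L21962
theorem L21968 : sm gd N2523 = N2267 := ded_34_1 (flp_i L19678) L19669 L21962
theorem L21970 : sm ge N2523 = N2355 := ded_38_1 (flp_i L20413) (flp_e L19675) L21962
theorem L21972 : sm gi N2269 = N2524 := rfl
theorem L21974 : sm ga N2524 = N2524 := ded_16_1 (flp_i L21972) L19703 L21972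
theorem L21975 : sm gd N2524 = N2270 := ded_34_1 (flp_i L19707) L19701 L21972
theorem L21977 : sm gg N2524 = N2272 := ded_43_1 (flp_i L19726) (flp_g L19704) L21972
theorem L21979 : sm gb N2271 = N2525 := rfl
theorem L21981 : sm gd N2525 = N2300 := ded_18_2 L20000 (flp_d L19724) L21979
theorem L21983 : sm gf N2525 = N2301 := ded_20_2 L20007 (flp_f L19721) L21979
theorem L21985 : sm gh N2525 = N2525 := ded_22_2 (flp_b L21979) L19723 L21979
theorem L21986 : sm gi N2271 = N2526 := rfl
theorem L21988 : sm ga N2526 = N2526 := ded_16_1 (flp_i L21986) L19720 L21986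
theorem L21989 : sm gc N2526 = N2272 := ded_29_1 (flp_i L19726) L19718 L21986
theorem L21991 : sm gd N2526 = N2305 := ded_34_1 (flp_i L20032) (flp_d L19724) L21986
theorem L21993 : sm gf N2526 = N2306 := ded_41_1 (flp_i L20040) (flp_f L19721) L21986
theorem L21995 : sm gh N2272 = N2527 := rfl
theorem L21997 : sm ga N2527 = N2527 := ded_15_1 (flp_h L21995) L19728 L21995
theorem L21998 : sm gd N2527 = N2309 := ded_33_1 (flp_h L20062) L17808 (flp_h L17556) (flp_d L19729) L21995
theorem L22000 : sm gi N2527 = N2527 := ded_44_2 (flp_h L21995) (flp_i L19726) L17548 L19726 L21995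
theorem L22001 : sm gh N2273 = N2528 := rfl
theorem L22003 : sm ga N2528 = N2319 := ded_15_1 L20158 (flp_a L19733) L22001
theorem L22005 : sm gb N2528 = N2278 := ded_22_1 (flp_h L19796) (flp_b L19735) L22001
theorem L22007 : sm gc N2528 = N2528 := ded_28_1 (flp_h L22001) L19737 L22001
theorem L22008 : sm ge N2528 = N2274 := ded_37_1 (flp_h L19744) L19731 L22001
theorem L22010 : sm gg N2528 = N2374 := ded_42_1 L20548 (flp_g L19738) L22001
theorem L22012 : sm gi N2274 = N2529 := rfl
theorem L22014 : sm ga N2529 = N2320 := ded_16_1 (flp_i L20160) (flp_a L19746) L22012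
theorem L22016 : sm gb N2529 = N2281 := ded_23_1 (flp_i L19830) (flp_b L19748) L22012
theorem L22018 : sm gc N2529 = N2529 := ded_29_1 (flp_i L22012) L19750 L22012
theorem L22019 : sm gd N2529 = N2311 := ded_34_1 (flp_i L20077) (flp_d L19755) L22012
theorem L22021 : sm gf N2529 = N2275 := ded_41_1 (flp_i L19757) (flp_f L19751) L22012
theorem L22023 : sm gg N2529 = N2375 := ded_43_1 (flp_i L20550) (flp_g L19753) L22012
theorem L22025 : sm gh N2529 = N2297 := ded_44_1 (flp_i L19974) L17714 (flp_i L17577) L19744 L22012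
theorem L22027 : sm gh N2276 = N2530 := rfl
theorem L22029 : sm ga N2530 = N2289 := ded_15_1 (flp_h L19910) (flp_a L19771) L22027
theorem L22031 : sm gb N2530 = N2337 := ded_22_1 L20288 (flp_b L19773) L22027
theorem L22033 : sm gc N2530 = N2530 := ded_28_1 (flp_h L22027) L19777 L22027
theorem L22034 : sm ge N2530 = N2294 := ded_37_1 L19956 (flp_e L19778) L22027
theorem L22036 : sm gg N2530 = N2296 := ded_42_1 L19972 L19780 L22027
theorem L22038 : sm gf N2277 = N2531 := rfl
theorem L22040 : sm ga N2531 = N2290 := ded_13_1 (flp_f L19917) (flp_a L19784) L22038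
theorem L22042 : sm gb N2531 = N2376 := ded_20_1 (flp_f L20556) (flp_b L19786) L22038
theorem L22044 : sm gc N2531 = N2283 := ded_26_1 (flp_f L19852) (flp_c L19788) L22038
theorem L22046 : sm gd N2531 = N2373 := ded_31_1 (flp_f L20538) (flp_d L19790) L22038
theorem L22048 : sm gi N2531 = N2377 := ded_41_2 (flp_f L20562) (flp_i L19794) L22038
theorem L22050 : sm ge N2531 = N2531 := ded_35_1 (flp_f L22038) L19792 L17611 (flp_e L19792) L22038
theorem L22051 : sm gh N2277 = N2532 := rfl
theorem L22053 : sm ga N2532 = N2291 := ded_15_1 (flp_h L19924) (flp_a L19784) L22051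
theorem L22055 : sm gb N2532 = N2374 := ded_22_1 L20548 (flp_b L19786) L22051
theorem L22057 : sm gc N2532 = N2284 := ded_28_1 (flp_h L19861) (flp_c L19788) L22051
theorem L22059 : sm ge N2532 = N2279 := ded_37_1 (flp_h L19804) (flp_e L19792) L22051
theorem L22061 : sm gg N2532 = N2278 := ded_42_1 (flp_h L19796) L19782 L22051
theorem L22063 : sm gd N2278 = N2533 := rfl
theorem L22065 : sm ga N2533 = N2292 := ded_11_1 (flp_d L19934) (flp_a L19798) L22063
theorem L22067 : sm gi N2278 = N2534 := rfl
theorem L22069 : sm ga N2534 = N2293 := ded_16_1 (flp_i L19938) (flp_a L19798) L22067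
theorem L22071 : sm gc N2534 = N2286 := ded_29_1 (flp_i L19877) (flp_c L19800) L22067
theorem L22073 : sm ge N2534 = N2281 := ded_38_1 (flp_i L19830) (flp_e L19802) L22067
theorem L22075 : sm gh N2534 = N2340 := ded_44_1 (flp_i L20307) L18122 (flp_i L17597) L19796 L22067
theorem L22077 : sm gi N2279 = N2535 := rfl
theorem L22079 : sm ga N2535 = N2295 := ded_16_1 (flp_i L19958) (flp_a L19806) L22077
theorem L22081 : sm gb N2535 = N2375 := ded_23_1 (flp_i L20550) (flp_b L19808) L22077
theorem L22083 : sm gc N2535 = N2287 := ded_29_1 (flp_i L19886) (flp_c L19810) L22077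
theorem L22085 : sm gd N2535 = N2372 := ded_34_1 (flp_i L20532) (flp_d L19815) L22077
theorem L22087 : sm gf N2535 = N2535 := ded_41_1 (flp_i L22077) L19812 L22077
theorem L22088 : sm gg N2535 = N2281 := ded_43_1 (flp_i L19830) (flp_g L19813) L22077
theorem L22090 : sm gh N2535 = N2338 := ded_44_1 (flp_i L20290) L18109 (flp_i L17609) L19804 L22077
theorem L22092 : sm ge N2280 = N2536 := rfl
theorem L22094 : sm ga N2536 = N2296 := ded_12_1 (flp_e L19967) (flp_a L19819) L22092
theorem L22096 : sm gb N2536 = N2310 := ded_19_1 L20073 (flp_b L19821) L22092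
theorem L22098 : sm gc N2536 = N2536 := ded_25_1 (flp_e L22092) L19827 L22092
theorem L22099 : sm gg N2536 = N2289 := ded_36_2 L19915 (flp_g L19825) L22092
theorem L22101 : sm gh N2536 = N2288 := ded_37_2 L19906 (flp_h L19828) L22092
theorem L22103 : sm gi N2280 = N2537 := rfl
theorem L22105 : sm ga N2537 = N2297 := ded_16_1 (flp_i L19974) (flp_a L19819) L22103
theorem L22107 : sm gb N2537 = N2311 := ded_23_1 (flp_i L20077) (flp_b L19821) L22103
theorem L22109 : sm gc N2537 = N2537 := ded_29_1 (flp_i L22103) L19827 L22103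
theorem L22110 : sm gd N2537 = N2281 := ded_34_1 (flp_i L19830) L19817 L22103
theorem L22112 : sm gf N2537 = N2282 := ded_41_1 (flp_i L19840) (flp_f L19823) L22103
theorem L22114 : sm gg N2537 = N2372 := ded_43_1 (flp_i L20532) (flp_g L19825) L22103
theorem L22116 : sm gh N2537 = N2320 := ded_44_1 (flp_i L20160) L17922 (flp_i L17820) (flp_h L19828) L22103
theorem L22118 : sm gh N2283 = N2538 := rfl
theorem L22120 : sm ga N2538 = N2300 := ded_15_1 (flp_h L19998) (flp_a L19854) L22118
theorem L22122 : sm gb N2538 = N2538 := ded_22_1 (flp_h L22118) L19856 L22118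
theorem L22123 : sm ge N2538 = N2538 := ded_37_1 (flp_h L22118) L19860 L22118
theorem L22124 : sm gf N2538 = N2284 := ded_40_1 (flp_h L19861) L19852 L22118
theorem L22126 : sm gd N2284 = N2539 := rfl
theorem L22128 : sm ga N2539 = N2301 := ded_11_1 (flp_d L20005) (flp_a L19863) L22126
theorem L22130 : sm gb N2539 = N2539 := ded_18_1 (flp_d L22126) L19865 L22126
theorem L22131 : sm gg N2539 = N2285 := ded_32_2 (flp_d L19870) (flp_g L19868) L22126
theorem L22133 : sm ge N2539 = N2539 := ded_30_2 (flp_d L22126) L19866 L17664 (flp_e L19866) L22126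
theorem L22134 : sm gh N2539 = N2539 := ded_33_2 (flp_d L22126) (flp_h L19861) L17644 L19861 L22126
theorem L22135 : sm gi N2284 = N2540 := rfl
theorem L22137 : sm ga N2540 = N2302 := ded_16_1 (flp_i L20013) (flp_a L19863) L22135
theorem L22139 : sm gb N2540 = N2540 := ded_23_1 (flp_i L22135) L19865 L22135
theorem L22140 : sm ge N2540 = N2287 := ded_38_1 (flp_i L19886) (flp_e L19866) L22135
theorem L22142 : sm gg N2540 = N2286 := ded_43_1 (flp_i L19877) (flp_g L19868) L22135
theorem L22144 : sm gh N2540 = N2367 := ded_44_1 (flp_i L20493) L18316 (flp_i L17647) L19861 L22135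
theorem L22146 : sm gc N2285 = N2541 := rfl
theorem L22148 : sm ga N2541 = N2303 := ded_10_1 (flp_c L20021) (flp_a L19872) L22146
theorem L22150 : sm ge N2541 = N2541 := ded_25_2 (flp_c L22146) L19875 L22146
theorem L22151 : sm gh N2541 = N2541 := ded_28_2 (flp_c L22146) L19876 L22146
theorem L22152 : sm gi N2285 = N2542 := rfl
theorem L22154 : sm ga N2542 = N2304 := ded_16_1 (flp_i L20025) (flp_a L19872) L22152
theorem L22156 : sm gb N2542 = N2542 := ded_23_1 (flp_i L22152) L19874 L22152
theorem L22157 : sm gd N2542 = N2286 := ded_34_1 (flp_i L19877) L19870 L22152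
theorem L22159 : sm ge N2542 = N2542 := ded_38_1 (flp_i L22152) L19875 L22152
theorem L22160 : sm gd N2289 = N2543 := rfl
theorem L22162 : sm gb N2543 = N2330 := ded_18_1 (flp_d L20248) (flp_b L19912) L22160
theorem L22164 : sm gh N2543 = N2292 := ded_33_2 (flp_d L19934) (flp_h L17690) L17675 L19910 L22160
theorem L22166 : sm gi N2289 = N2544 := rfl
theorem L22168 : sm gb N2544 = N2331 := ded_23_1 (flp_i L20252) (flp_b L19912) L22166
theorem L22170 : sm gc N2544 = N2544 := ded_29_1 (flp_i L22166) L19914 L22166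
theorem L22171 : sm ge N2544 = N2372 := ded_38_1 (flp_i L20532) (flp_e L19915) L22166
theorem L22173 : sm gh N2290 = N2545 := rfl
theorem L22175 : sm gb N2545 = N2322 := ded_22_1 L20186 (flp_b L19919) L22173
theorem L22177 : sm gc N2545 = N2300 := ded_28_1 (flp_h L19998) (flp_c L19921) L22173
theorem L22179 : sm ge N2545 = N2545 := ded_37_1 (flp_h L22173) L19923 L22173
theorem L22180 : sm gf N2545 = N2291 := ded_40_1 (flp_h L19924) L19917 L22173
theorem L22182 : sm gd N2291 = N2546 := rfl
theorem L22184 : sm gb N2546 = N2332 := ded_18_1 (flp_d L20258) (flp_b L19926) L22182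
theorem L22186 : sm gg N2546 = N2292 := ded_32_2 (flp_d L19934) (flp_g L19932) L22182
theorem L22188 : sm gi N2291 = N2547 := rfl
theorem L22190 : sm gb N2547 = N2333 := ded_23_1 (flp_i L20262) (flp_b L19926) L22188
theorem L22192 : sm gc N2547 = N2302 := ded_29_1 (flp_i L20013) (flp_c L19928) L22188
theorem L22194 : sm ge N2547 = N2295 := ded_38_1 (flp_i L19958) (flp_e L19930) L22188
theorem L22196 : sm gg N2547 = N2293 := ded_43_1 (flp_i L19938) (flp_g L19932) L22188
theorem L22198 : sm gc N2292 = N2548 := rfl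
theorem L22200 : sm gd N2548 = N2303 := ded_24_2 (flp_c L20021) (flp_d L17754) (flp_c L17694) L19934 L22198
theorem L22202 : sm ge N2292 = N2549 := rfl
theorem L22204 : sm gb N2549 = N2335 := ded_19_1 (flp_e L20274) (flp_b L19936) L22202
theorem L22206 : sm gd N2549 = N2296 := ded_30_1 (flp_e L19967) (flp_d L17707) (flp_e L17696) L19934 L22202
theorem L22208 : sm gi N2292 = N2550 := rfl
theorem L22210 : sm gb N2550 = N2336 := ded_23_1 (flp_i L20278) (flp_b L19936) L22208
theorem L22212 : sm gd N2550 = N2293 := ded_34_1 (flp_i L19938) L19934 L22208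
theorem L22214 : sm gi N2294 = N2551 := rfl
theorem L22216 : sm ga N2551 = N2372 := ded_16_1 (flp_i L20532) (flp_a L19948) L22214
theorem L22218 : sm gb N2551 = N2338 := ded_23_1 (flp_i L20290) (flp_b L19950) L22214
theorem L22220 : sm gc N2551 = N2551 := ded_29_1 (flp_i L22214) L19955 L22214
theorem L22221 : sm gd N2551 = N2295 := ded_34_1 (flp_i L19958) L19946 L22214
theorem L22223 : sm gf N2551 = N2551 := ded_41_1 (flp_i L22214) L19952 L22214
theorem L22224 : sm gg N2551 = N2297 := ded_43_1 (flp_i L19974) (flp_g L19953) L22214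
theorem L22226 : sm gh N2551 = N2375 := ded_44_1 (flp_i L20550) L18417 (flp_i L18393) (flp_h L19956) L22214
theorem L22228 : sm gf N2296 = N2552 := rfl
theorem L22230 : sm gb N2552 = N2339 := ded_20_1 (flp_f L20299) (flp_b L19969) L22228
theorem L22232 : sm gc N2552 = N2552 := ded_26_1 (flp_f L22228) L19971 L22228
theorem L22233 : sm gh N2552 = N2373 := ded_40_2 (flp_f L20538) (flp_h L19972) L22228
theorem L22235 : sm ge N2552 = N2298 := ded_35_1 (flp_f L19983) (flp_e L17724) (flp_f L17711) L19967 L22228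
theorem L22237 : sm gi N2296 = N2553 := rfl
theorem L22239 : sm gb N2553 = N2340 := ded_23_1 (flp_i L20307) (flp_b L19969) L22237
theorem L22241 : sm gc N2553 = N2553 := ded_29_1 (flp_i L22237) L19971 L22237
theorem L22242 : sm ge N2553 = N2297 := ded_38_1 (flp_i L19974) L19967 L22237
theorem L22244 : sm gg N2298 = N2554 := rfl
theorem L22246 : sm ga N2554 = N2356 := ded_14_1 (flp_g L21304) L21297 L22244
theorem L22248 : sm gb N2554 = N2341 := ded_21_1 (flp_g L20313) (flp_b L19985) L22244
theorem L22250 : sm gc N2554 = N2554 := ded_27_1 (flp_g L22244) L19987 L22244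
theorem L22251 : sm gh N2554 = N2371 := ded_42_2 L20528 (flp_h L19988) L22244
theorem L22253 : sm gf N2554 = N2554 := ded_39_1 (flp_g L22244) (flp_f L19983) L17729 L19983 L22244
theorem L22254 : sm gi N2298 = N2555 := rfl
theorem L22256 : sm gb N2555 = N2342 := ded_23_1 (flp_i L20322) (flp_b L19985) L22254
theorem L22258 : sm gc N2555 = N2555 := ded_29_1 (flp_i L22254) L19987 L22254
theorem L22259 : sm gf N2555 = N2299 := ded_41_1 (flp_i L19990) L19983 L22254
theorem L22261 : sm gi N2300 = N2556 := rfl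
theorem L22263 : sm gb N2556 = N2305 := ded_23_1 (flp_i L20032) (flp_b L20000) L22261
theorem L22265 : sm ge N2556 = N2556 := ded_38_1 (flp_i L22261) L20002 L22261
theorem L22266 : sm gf N2556 = N2302 := ded_41_1 (flp_i L20013) (flp_f L20003) L22261
theorem L22268 : sm gc N2301 = N2557 := rfl
theorem L22270 : sm ge N2557 = N2557 := ded_25_2 (flp_c L22268) L20011 L22268
theorem L22271 : sm gg N2557 = N2303 := ded_27_2 (flp_c L20021) (flp_g L20009) L22268
theorem L22273 : sm gh N2557 = N2557 := ded_28_2 (flp_c L22268) L20012 L22268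
theorem L22274 : sm gi N2301 = N2558 := rfl
theorem L22276 : sm gb N2558 = N2306 := ded_23_1 (flp_i L20040) (flp_b L20007) L22274
theorem L22278 : sm gd N2558 = N2302 := ded_34_1 (flp_i L20013) L20005 L22274
theorem L22280 : sm ge N2558 = N2558 := ded_38_1 (flp_i L22274) L20011 L22274
theorem L22281 : sm gg N2558 = N2304 := ded_43_1 (flp_i L20025) (flp_g L20009) L22274
theorem L22283 : sm gb N2303 = N2559 := rfl
theorem L22285 : sm ge N2559 = N2559 := ded_19_2 (flp_b L22283) L20023 L22283
theorem L22286 : sm gh N2559 = N2559 := ded_22_2 (flp_b L22283) L20024 L22283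
theorem L22287 : sm gc N2559 = N2307 := ded_17_2 (flp_b L20048) (flp_c L17798) (flp_b L17756) L20021 L22283
theorem L22289 : sm gi N2303 = N2560 := rfl
theorem L22291 : sm gc N2560 = N2304 := ded_29_1 (flp_i L20025) L20021 L22289
theorem L22293 : sm ge N2560 = N2560 := ded_38_1 (flp_i L22289) L20023 L22289
theorem L22294 : sm gh N2304 = N2561 := rfl
theorem L22296 : sm gb N2561 = N2309 := ded_22_1 (flp_h L20062) (flp_b L20027) L22294
theorem L22298 : sm ge N2561 = N2561 := ded_37_1 (flp_h L22294) L20031 L22294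
theorem L22299 : sm gi N2561 = N2561 := ded_44_2 (flp_h L22294) (flp_i L20025) L17759 L20025 L22294
theorem L22300 : sm gh N2306 = N2562 := rfl
theorem L22302 : sm ga N2562 = N2562 := ded_15_1 (flp_h L22300) L20042 L22300
theorem L22303 : sm ge N2562 = N2562 := ded_37_1 (flp_h L22300) L20045 L22300
theorem L22304 : sm gg N2562 = N2309 := ded_42_1 (flp_h L20062) (flp_g L20046) L22300
theorem L22306 : sm gi N2562 = N2562 := ded_44_2 (flp_h L22300) (flp_i L20040) L17788 L20040 L22300
theorem L22307 : sm ga N2307 = N2563 := rfl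
theorem L22309 : sm gd N2563 = N2345 := ded_11_2 (flp_a L20342) (flp_d L20050) L22307
theorem L22311 : sm ge N2563 = N2563 := ded_12_2 (flp_a L22307) L20052 L22307
theorem L22312 : sm gg N2563 = N2363 := ded_14_2 (flp_a L20803) L20809 L22307
theorem L22314 : sm gh N2563 = N2563 := ded_15_2 (flp_a L22307) L20053 L22307
theorem L22315 : sm gb N2563 = N2563 := ded_9_2 (flp_a L22307) (flp_b L20048) L17800 L20048 L22307
theorem L22316 : sm gi N2307 = N2564 := rfl
theorem L22318 : sm gb N2564 = N2308 := ded_23_1 (flp_i L20054) L20048 L22316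
theorem L22320 : sm gd N2564 = N2346 := ded_34_1 (flp_i L20351) (flp_d L20050) L22316
theorem L22322 : sm ge N2564 = N2564 := ded_38_1 (flp_i L22316) L20052 L22316
theorem L22323 : sm gh N2308 = N2565 := rfl
theorem L22325 : sm ga N2565 = N2565 := ded_15_1 (flp_h L22323) L20056 L22323
theorem L22326 : sm gc N2565 = N2309 := ded_28_1 (flp_h L20062) (flp_c L20057) L22323
theorem L22328 : sm ge N2565 = N2565 := ded_37_1 (flp_h L22323) L20061 L22323
theorem L22329 : sm gi N2565 = N2565 := ded_44_2 (flp_h L22323) (flp_i L20054) L17802 L20054 L22323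
theorem L22330 : sm gd N2310 = N2566 := rfl
theorem L22332 : sm ga N2566 = N2315 := ded_11_1 (flp_d L20120) (flp_a L20069) L22330
theorem L22334 : sm gg N2566 = N2330 := ded_32_2 (flp_d L20248) (flp_g L20075) L22330
theorem L22336 : sm gh N2566 = N2332 := ded_33_2 (flp_d L20258) (flp_h L18086) (flp_d L17834) L20067 L22330
theorem L22338 : sm gi N2310 = N2567 := rfl
theorem L22340 : sm ga N2567 = N2316 := ded_16_1 (flp_i L20122) (flp_a L20069) L22338
theorem L22342 : sm gc N2567 = N2312 := ded_29_1 (flp_i L20089) (flp_c L20071) L22338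
theorem L22344 : sm ge N2567 = N2311 := ded_38_1 (flp_i L20077) (flp_e L20073) L22338
theorem L22346 : sm gg N2567 = N2331 := ded_43_1 (flp_i L20252) (flp_g L20075) L22338
theorem L22348 : sm gh N2567 = N2325 := ded_44_1 (flp_i L20201) (flp_h L18013) (flp_i L17832) L20067 L22338
theorem L22350 : sm gd N2313 = N2568 := rfl
theorem L22352 : sm ga N2568 = N2332 := ded_11_1 (flp_d L20258) (flp_a L20102) L22350
theorem L22354 : sm gg N2568 = N2324 := ded_32_2 (flp_d L20197) (flp_g L20108) L22350
theorem L22356 : sm gh N2568 = N2315 := ded_33_2 (flp_d L20120) (flp_h L17900) L17876 L20100 L22350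
theorem L22358 : sm gi N2313 = N2569 := rfl
theorem L22360 : sm ga N2569 = N2333 := ded_16_1 (flp_i L20262) (flp_a L20102) L22358
theorem L22362 : sm gc N2569 = N2327 := ded_29_1 (flp_i L20220) (flp_c L20104) L22358
theorem L22364 : sm ge N2569 = N2326 := ded_38_1 (flp_i L20209) (flp_e L20106) L22358
theorem L22366 : sm gg N2569 = N2325 := ded_43_1 (flp_i L20201) (flp_g L20108) L22358
theorem L22368 : sm gh N2569 = N2331 := ded_44_1 (flp_i L20252) (flp_h L18075) (flp_i L17880) L20100 L22358
theorem L22370 : sm gd N2314 = N2570 := rfl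
theorem L22372 : sm ga N2570 = N2330 := ded_11_1 (flp_d L20248) (flp_a L20112) L22370
theorem L22374 : sm gg N2570 = N2315 := ded_32_2 (flp_d L20120) (flp_g L20118) L22370
theorem L22376 : sm gh N2570 = N2324 := ded_33_2 (flp_d L20197) (flp_h L18013) (flp_d L17894) L20110 L22370
theorem L22378 : sm gi N2314 = N2571 := rfl
theorem L22380 : sm ga N2571 = N2331 := ded_16_1 (flp_i L20252) (flp_a L20112) L22378
theorem L22382 : sm gc N2571 = N2321 := ded_29_1 (flp_i L20169) (flp_c L20114) L22378
theorem L22384 : sm ge N2571 = N2318 := ded_38_1 (flp_i L20142) (flp_e L20116) L22378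
theorem L22386 : sm gg N2571 = N2316 := ded_43_1 (flp_i L20122) (flp_g L20118) L22378
theorem L22388 : sm gh N2571 = N2333 := ded_44_1 (flp_i L20262) (flp_h L18086) (flp_i L17898) L20110 L22378
theorem L22390 : sm gc N2315 = N2572 := rfl
theorem L22392 : sm gf N2572 = N2332 := ded_26_2 (flp_c L21392) L21388 L22390
theorem L22394 : sm gd N2572 = N2322 := ded_24_2 (flp_c L20181) (flp_d L17950) (flp_c L17902) L20120 L22390
theorem L22396 : sm ge N2315 = N2573 := rfl
theorem L22398 : sm gb N2573 = N2324 := ded_19_1 (flp_e L21903) L21901 L22396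
theorem L22400 : sm gd N2573 = N2319 := ded_30_1 (flp_e L20153) (flp_d L17915) (flp_e L17904) L20120 L22396
theorem L22402 : sm gi N2315 = N2574 := rfl
theorem L22404 : sm gd N2574 = N2316 := ded_34_1 (flp_i L20122) L20120 L22402
theorem L22406 : sm gi N2317 = N2575 := rfl
theorem L22408 : sm ga N2575 = N2375 := ded_16_1 (flp_i L20550) (flp_a L20132) L22406
theorem L22410 : sm gb N2575 = N2326 := ded_23_1 (flp_i L20209) (flp_b L20134) L22406
theorem L22412 : sm gc N2575 = N2575 := ded_29_1 (flp_i L22406) L20139 L22406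
theorem L22413 : sm gd N2575 = N2318 := ded_34_1 (flp_i L20142) L20130 L22406
theorem L22415 : sm gf N2575 = N2575 := ded_41_1 (flp_i L22406) L20136 L22406
theorem L22416 : sm gg N2575 = N2320 := ded_43_1 (flp_i L20160) (flp_g L20137) L22406
theorem L22418 : sm gh N2575 = N2372 := ded_44_1 (flp_i L20532) (flp_h L18396) (flp_i L18010) (flp_h L20140) L22406
theorem L22420 : sm gi N2319 = N2576 := rfl
theorem L22422 : sm gb N2576 = N2325 := ded_23_1 (flp_i L20201) (flp_b L20155) L22420
theorem L22424 : sm gc N2576 = N2576 := ded_29_1 (flp_i L22420) L20157 L22420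
theorem L22425 : sm ge N2576 = N2320 := ded_38_1 (flp_i L20160) L20153 L22420
theorem L22427 : sm gi N2322 = N2577 := rfl
theorem L22429 : sm gc N2577 = N2323 := ded_29_1 (flp_i L20188) L20181 L22427
theorem L22431 : sm ge N2577 = N2577 := ded_38_1 (flp_i L22427) L20183 L22427
theorem L22432 : sm gf N2577 = N2333 := ded_41_1 (flp_i L20262) (flp_f L20184) L22427
theorem L22434 : sm gc N2324 = N2578 := rfl
theorem L22436 : sm ga N2578 = N2334 := ded_10_1 (flp_c L20270) (flp_a L20199) L22434
theorem L22438 : sm gd N2578 = N2328 := ded_24_2 (flp_c L20231) (flp_d L18047) (flp_c L18017) L20197 L22434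
theorem L22440 : sm gi N2324 = N2579 := rfl
theorem L22442 : sm ga N2579 = N2336 := ded_16_1 (flp_i L20278) (flp_a L20199) L22440
theorem L22444 : sm gd N2579 = N2325 := ded_34_1 (flp_i L20201) L20197 L22440
theorem L22446 : sm gb N2328 = N2580 := rfl
theorem L22448 : sm ge N2580 = N2356 := ded_19_2 (flp_b L20420) (flp_e L20235) L22446
theorem L22450 : sm gh N2580 = N2347 := ded_22_2 (flp_b L20357) (flp_h L20237) L22446
theorem L22452 : sm gc N2580 = N2580 := ded_17_2 (flp_b L22446) (flp_c L20231) L18051 L20231 L22446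
theorem L22453 : sm gi N2328 = N2581 := rfl
theorem L22455 : sm ga N2581 = N2344 := ded_16_1 (flp_i L20336) (flp_a L20233) L22453
theorem L22457 : sm gc N2581 = N2329 := ded_29_1 (flp_i L20239) L20231 L22453
theorem L22459 : sm ge N2581 = N2357 := ded_38_1 (flp_i L20426) (flp_e L20235) L22453
theorem L22461 : sm gc N2330 = N2582 := rfl
theorem L22463 : sm gh N2582 = N2334 := ded_28_2 (flp_c L20270) (flp_h L20250) L22461
theorem L22465 : sm gd N2582 = N2348 := ded_24_2 (flp_c L20362) (flp_d L18186) (flp_c L18077) L20248 L22461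
theorem L22467 : sm ge N2330 = N2583 := rfl
theorem L22469 : sm gh N2583 = N2335 := ded_37_2 (flp_e L20274) (flp_h L20250) L22467
theorem L22471 : sm gd N2583 = N2374 := ded_30_1 (flp_e L20545) (flp_d L18413) (flp_e L18079) L20248 L22467
theorem L22473 : sm gi N2330 = N2584 := rfl
theorem L22475 : sm gd N2584 = N2331 := ded_34_1 (flp_i L20252) L20248 L22473
theorem L22477 : sm ge N2332 = N2585 := rfl
theorem L22479 : sm gg N2585 = N2335 := ded_36_2 (flp_e L20274) (flp_g L20260) L22477
theorem L22481 : sm gd N2585 = N2337 := ded_30_1 (flp_e L20282) (flp_d L18102) (flp_e L18090) L20258 L22477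
theorem L22483 : sm gi N2332 = N2586 := rfl
theorem L22485 : sm gd N2586 = N2333 := ded_34_1 (flp_i L20262) L20258 L22483
theorem L22487 : sm gg N2586 = N2336 := ded_43_1 (flp_i L20278) (flp_g L20260) L22483
theorem L22489 : sm gb N2334 = N2587 := rfl
theorem L22491 : sm gd N2587 = N2343 := ded_18_2 (flp_b L20328) (flp_d L20272) L22489
theorem L22493 : sm ge N2334 = N2588 := rfl
theorem L22495 : sm gc N2588 = N2335 := ded_25_1 (flp_e L20274) L20270 L22493
theorem L22497 : sm gd N2588 = N2361 := ded_30_1 (flp_e L20455) L18297 (flp_e L18155) (flp_d L20272) L22493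
theorem L22499 : sm gi N2334 = N2589 := rfl
theorem L22501 : sm gc N2589 = N2336 := ded_29_1 (flp_i L20278) L20270 L22499
theorem L22503 : sm gd N2589 = N2344 := ded_34_1 (flp_i L20336) (flp_d L20272) L22499
theorem L22505 : sm gf N2335 = N2590 := rfl
theorem L22507 : sm gd N2590 = N2339 := ded_31_1 (flp_f L20299) (flp_d L20276) L22505
theorem L22509 : sm gi N2335 = N2591 := rfl
theorem L22511 : sm gd N2591 = N2340 := ded_34_1 (flp_i L20307) (flp_d L20276) L22509
theorem L22513 : sm ge N2591 = N2336 := ded_38_1 (flp_i L20278) L20274 L22509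
theorem L22515 : sm gh N2336 = N2592 := rfl
theorem L22517 : sm gf N2337 = N2593 := rfl
theorem L22519 : sm gc N2593 = N2366 := ded_26_1 (flp_f L20487) (flp_c L20284) L22517
theorem L22521 : sm gh N2593 = N2377 := ded_40_2 (flp_f L20562) (flp_h L20288) L22517
theorem L22523 : sm ge N2593 = N2593 := ded_35_1 (flp_f L22517) (flp_e L20282) L18104 L20282 L22517
theorem L22524 : sm gi N2337 = N2594 := rfl
theorem L22526 : sm gc N2594 = N2367 := ded_29_1 (flp_i L20493) (flp_c L20284) L22524
theorem L22528 : sm ge N2594 = N2338 := ded_38_1 (flp_i L20290) L20282 L22524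
theorem L22530 : sm gg N2594 = N2340 := ded_43_1 (flp_i L20307) (flp_g L20286) L22524
theorem L22532 : sm gg N2339 = N2595 := rfl
theorem L22534 : sm ga N2595 = N2343 := ded_14_1 (flp_g L20761) L20751 L22532
theorem L22536 : sm gc N2595 = N2345 := ded_27_1 L20346 (flp_c L20301) L22532
theorem L22538 : sm ge N2595 = N2341 := ded_36_1 (flp_g L20313) (flp_e L20305) L22532
theorem L22540 : sm gh N2595 = N2351 := ded_42_2 L20385 (flp_h L20303) L22532
theorem L22542 : sm gi N2339 = N2596 := rfl
theorem L22544 : sm gc N2596 = N2368 := ded_29_1 (flp_i L20500) (flp_c L20301) L22542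
theorem L22546 : sm ge N2596 = N2342 := ded_38_1 (flp_i L20322) (flp_e L20305) L22542
theorem L22548 : sm gf N2596 = N2340 := ded_41_1 (flp_i L20307) L20299 L22542
theorem L22550 : sm gi N2341 = N2597 := rfl
theorem L22552 : sm ga N2597 = N2370 := ded_16_1 (flp_i L20516) (flp_a L20315) L22550
theorem L22554 : sm gc N2597 = N2369 := ded_29_1 (flp_i L20507) (flp_c L20317) L22550
theorem L22556 : sm gf N2597 = N2597 := ded_41_1 (flp_i L22550) L20321 L22550
theorem L22557 : sm gg N2597 = N2342 := ded_43_1 (flp_i L20322) L20313 L22550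
theorem L22559 : sm gi N2343 = N2598 := rfl
theorem L22561 : sm gb N2598 = N2344 := ded_23_1 (flp_i L20336) L20328 L22559
theorem L22563 : sm gc N2598 = N2346 := ded_29_1 (flp_i L20351) (flp_c L20334) L22559
theorem L22565 : sm ge N2598 = N2370 := ded_38_1 (flp_i L20516) (flp_e L20330) L22559
theorem L22567 : sm gi N2345 = N2599 := rfl
theorem L22569 : sm ga N2599 = N2346 := ded_16_1 (flp_i L20351) L20342 L22567
theorem L22571 : sm gb N2599 = N2599 := ded_23_1 (flp_i L22567) L20350 L22567
theorem L22572 : sm ge N2599 = N2369 := ded_38_1 (flp_i L20507) (flp_e L20344) L22567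
theorem L22574 : sm gg N2599 = N2368 := ded_43_1 (flp_i L20500) (flp_g L20346) L22567
theorem L22576 : sm ga N2347 = N2600 := rfl
theorem L22578 : sm gc N2600 = N2600 := ded_10_2 (flp_a L22576) L20361 L22576
theorem L22579 : sm ge N2600 = N2371 := ded_12_2 (flp_a L20523) (flp_e L20359) L22576
theorem L22581 : sm gg N2600 = N2373 := ded_14_2 (flp_a L21282) L21287 L22576
theorem L22583 : sm gb N2600 = N2351 := ded_9_2 (flp_a L20379) (flp_b L18202) (flp_a L18182) L20357 L22576
theorem L22585 : sm gb N2348 = N2601 := rfl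
theorem L22587 : sm ge N2601 = N2601 := ded_19_2 (flp_b L22585) L20364 L22585
theorem L22588 : sm gh N2601 = N2350 := ded_22_2 (flp_b L20373) (flp_h L20365) L22585
theorem L22590 : sm gc N2601 = N2601 := ded_17_2 (flp_b L22585) (flp_c L20362) L18188 L20362 L22585
theorem L22591 : sm gi N2348 = N2602 := rfl
theorem L22593 : sm gc N2602 = N2349 := ded_29_1 (flp_i L20367) L20362 L22591
theorem L22595 : sm ge N2602 = N2602 := ded_38_1 (flp_i L22591) L20364 L22591
theorem L22596 : sm ga N2350 = N2603 := rfl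
theorem L22598 : sm gc N2603 = N2603 := ded_10_2 (flp_a L22596) L20378 L22596
theorem L22599 : sm gd N2603 = N2351 := ded_11_2 (flp_a L20379) (flp_d L20375) L22596
theorem L22601 : sm ge N2603 = N2603 := ded_12_2 (flp_a L22596) L20377 L22596
theorem L22602 : sm gg N2603 = N2376 := ded_14_2 (flp_a L20737) L20743 L22596
theorem L22604 : sm gi N2352 = N2604 := rfl
theorem L22606 : sm ga N2604 = N2359 := ded_16_1 (flp_i L20441) (flp_a L20389) L22604
theorem L22608 : sm gd N2604 = N2353 := ded_34_1 (flp_i L20394) L20387 L22604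
theorem L22610 : sm gg N2604 = N2355 := ded_43_1 (flp_i L20413) (flp_g L20391) L22604
theorem L22612 : sm gb N2354 = N2605 := rfl
theorem L22614 : sm gd N2605 = N2356 := ded_18_2 (flp_b L20420) (flp_d L20411) L22612
theorem L22616 : sm gf N2605 = N2605 := ded_20_2 (flp_b L22612) L20409 L22612
theorem L22617 : sm gh N2605 = N2605 := ded_22_2 (flp_b L22612) L20410 L22612
theorem L22618 : sm gi N2354 = N2606 := rfl
theorem L22620 : sm ga N2606 = N2362 := ded_16_1 (flp_i L20460) (flp_a L20407) L22618
theorem L22622 : sm gc N2606 = N2355 := ded_29_1 (flp_i L20413) L20405 L22618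
theorem L22624 : sm gd N2606 = N2357 := ded_34_1 (flp_i L20426) (flp_d L20411) L22618
theorem L22626 : sm gf N2606 = N2606 := ded_41_1 (flp_i L22618) L20409 L22618
theorem L22627 : sm gh N2355 = N2607 := rfl
theorem L22629 : sm ga N2607 = N2365 := ded_15_1 (flp_h L20481) (flp_a L20415) L22627
theorem L22631 : sm gf N2607 = N2607 := ded_40_1 (flp_h L22627) L20419 L22627
theorem L22632 : sm gd N2607 = N2607 := ded_33_1 (flp_h L22627) L20417 L18241 (flp_d L20417) L22627
theorem L22633 : sm gi N2607 = N2607 := ded_44_2 (flp_h L22627) (flp_i L20413) L18231 L20413 L22627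
theorem L22634 : sm gi N2356 = N2608 := rfl
theorem L22636 : sm gb N2608 = N2357 := ded_23_1 (flp_i L20426) L20420 L22634
theorem L22638 : sm gc N2608 = N2608 := ded_29_1 (flp_i L22634) L20425 L22634
theorem L22639 : sm gf N2608 = N2608 := ded_41_1 (flp_i L22634) L20422 L22634
theorem L22640 : sm gf N2358 = N2609 := rfl
theorem L22642 : sm gb N2609 = N2609 := ded_20_1 (flp_f L22640) L20435 L22640
theorem L22643 : sm gd N2609 = N2366 := ded_31_1 (flp_f L20487) (flp_d L20439) L22640
theorem L22645 : sm gh N2609 = N2609 := ded_40_2 (flp_f L22640) L20438 L22640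
theorem L22646 : sm gi N2358 = N2610 := rfl
theorem L22648 : sm gb N2610 = N2610 := ded_23_1 (flp_i L22646) L20435 L22646
theorem L22649 : sm gd N2610 = N2367 := ded_34_1 (flp_i L20493) (flp_d L20439) L22646
theorem L22651 : sm ge N2610 = N2359 := ded_38_1 (flp_i L20441) L20433 L22646
theorem L22653 : sm gg N2610 = N2364 := ded_43_1 (flp_i L20474) (flp_g L20436) L22646
theorem L22655 : sm gh N2359 = N2611 := rfl
theorem L22657 : sm gb N2611 = N2611 := ded_22_1 (flp_h L22655) L20443 L22655
theorem L22658 : sm gg N2611 = N2365 := ded_42_1 (flp_h L20481) (flp_g L20446) L22655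
theorem L22660 : sm gd N2611 = N2611 := ded_33_1 (flp_h L22655) L20444 L18292 (flp_d L20444) L22655
theorem L22661 : sm gi N2611 = N2611 := ded_44_2 (flp_h L22655) (flp_i L20441) L18282 L20441 L22655
theorem L22662 : sm ge N2360 = N2612 := rfl
theorem L22664 : sm gb N2612 = N2361 := ded_19_1 (flp_e L20455) L20448 L22662
theorem L22666 : sm gc N2612 = N2612 := ded_25_1 (flp_e L22662) L20454 L22662
theorem L22667 : sm gh N2612 = N2612 := ded_37_2 (flp_e L22662) L20453 L22662
theorem L22668 : sm gi N2360 = N2613 := rfl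
theorem L22670 : sm gb N2613 = N2362 := ded_23_1 (flp_i L20460) L20448 L22668
theorem L22672 : sm gc N2613 = N2613 := ded_29_1 (flp_i L22668) L20454 L22668
theorem L22673 : sm gd N2613 = N2370 := ded_34_1 (flp_i L20516) (flp_d L20450) L22668
theorem L22675 : sm gf N2613 = N2613 := ded_41_1 (flp_i L22668) L20452 L22668
theorem L22676 : sm gf N2361 = N2614 := rfl
theorem L22678 : sm gc N2614 = N2363 := ded_26_1 (flp_f L20467) (flp_c L20457) L22676
theorem L22680 : sm gh N2614 = N2614 := ded_40_2 (flp_f L22676) L20459 L22676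
theorem L22681 : sm ge N2614 = N2614 := ded_35_1 (flp_f L22676) (flp_e L20455) L18295 L20455 L22676
theorem L22682 : sm gi N2361 = N2615 := rfl
theorem L22684 : sm gc N2615 = N2364 := ded_29_1 (flp_i L20474) (flp_c L20457) L22682
theorem L22686 : sm ge N2615 = N2362 := ded_38_1 (flp_i L20460) L20455 L22682
theorem L22688 : sm gh N2362 = N2616 := rfl
theorem L22690 : sm gc N2616 = N2365 := ded_28_1 (flp_h L20481) (flp_c L20462) L22688
theorem L22692 : sm gf N2616 = N2616 := ded_40_1 (flp_h L22688) L20466 L22688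
theorem L22693 : sm gi N2616 = N2616 := ded_44_2 (flp_h L22688) (flp_i L20460) L18296 L20460 L22688
theorem L22694 : sm gi N2363 = N2617 := rfl
theorem L22696 : sm gb N2617 = N2617 := ded_23_1 (flp_i L22694) L20469 L22694
theorem L22697 : sm gd N2617 = N2368 := ded_34_1 (flp_i L20500) (flp_d L20470) L22694
theorem L22699 : sm ge N2617 = N2617 := ded_38_1 (flp_i L22694) L20473 L22694
theorem L22700 : sm gf N2617 = N2364 := ded_41_1 (flp_i L20474) L20467 L22694
theorem L22702 : sm gh N2364 = N2618 := rfl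
theorem L22704 : sm gb N2618 = N2618 := ded_22_1 (flp_h L22702) L20476 L22702
theorem L22705 : sm ge N2618 = N2365 := ded_37_1 (flp_h L20481) (flp_e L20479) L22702
theorem L22707 : sm gi N2618 = N2618 := ded_44_2 (flp_h L22702) (flp_i L20474) L18302 L20474 L22702
theorem L22708 : sm gi N2366 = N2619 := rfl
theorem L22710 : sm gb N2619 = N2619 := ded_23_1 (flp_i L22708) L20489 L22708
theorem L22711 : sm ge N2619 = N2619 := ded_38_1 (flp_i L22708) L20492 L22708
theorem L22712 : sm gf N2619 = N2367 := ded_41_1 (flp_i L20493) L20487 L22708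
theorem L22714 : sm gf N2374 = N2620 := rfl
theorem L22716 : sm gc N2620 = N2620 := ded_26_1 (flp_f L22714) L20547 L22714
theorem L22717 : sm gh N2620 = N2376 := ded_40_2 (flp_f L20556) (flp_h L20548) L22714
theorem L22719 : sm ge N2620 = N2620 := ded_35_1 (flp_f L22714) (flp_e L20545) L18415 L20545 L22714
theorem L22720 : sm gi N2374 = N2621 := rfl
theorem L22722 : sm gc N2621 = N2621 := ded_29_1 (flp_i L22720) L20547 L22720
theorem L22723 : sm ge N2621 = N2375 := ded_38_1 (flp_i L20550) L20545 L22720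
theorem L22725 : sm gd N2378 = N2622 := rfl
theorem L22727 : sm ga N2622 = N2622 := ded_11_1 (flp_d L22725) L20569 L22725
theorem L22728 : sm gb N2622 = N2380 := ded_18_1 (flp_d L20591) (flp_b L20570) L22725
theorem L22730 : sm gf N2622 = N2392 := ded_31_2 (flp_d L20702) (flp_f L20574) L22725
theorem L22732 : sm gg N2622 = N2622 := ded_32_2 (flp_d L22725) L20576 L22725
theorem L22733 : sm gh N2622 = N2622 := ded_33_2 (flp_d L22725) (flp_h L20567) L18448 L20567 L22725
theorem L22734 : sm gi N2378 = N2623 := rfl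
theorem L22736 : sm ga N2623 = N2623 := ded_16_1 (flp_i L22734) L20569 L22734
theorem L22737 : sm gb N2623 = N2381 := ded_23_1 (flp_i L20599) (flp_b L20570) L22734
theorem L22739 : sm gc N2623 = N2623 := ded_29_1 (flp_i L22734) L20572 L22734
theorem L22740 : sm ge N2623 = N2623 := ded_38_1 (flp_i L22734) L20573 L22734
theorem L22741 : sm gf N2623 = N2393 := ded_41_1 (flp_i L20710) (flp_f L20574) L22734
theorem L22743 : sm gg N2623 = N2623 := ded_43_1 (flp_i L22734) L20576 L22734
theorem L22744 : sm gh N2623 = N2623 := ded_44_1 (flp_i L22734) (flp_h L20567) L18451 L20567 L22734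
theorem L22745 : sm gd N2379 = N2624 := rfl
theorem L22747 : sm ga N2624 = N2385 := ded_11_1 (flp_d L20644) (flp_a L20579) L22745
theorem L22749 : sm gb N2624 = N2392 := ded_18_1 (flp_d L20702) (flp_b L20581) L22745
theorem L22751 : sm gf N2624 = N2380 := ded_31_2 (flp_d L20591) (flp_f L20587) L22745
theorem L22753 : sm gg N2624 = N2389 := ded_32_2 (flp_d L20676) (flp_g L20589) L22745
theorem L22755 : sm gc N2624 = N2413 := ded_24_1 (flp_d L20935) L18745 (flp_d L18510) (flp_c L20583) L22745
theorem L22757 : sm ge N2624 = N2436 := ded_30_2 (flp_d L21140) L18883 (flp_d L18558) (flp_e L20585) L22745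
theorem L22759 : sm gh N2624 = N2624 := ded_33_2 (flp_d L22745) (flp_h L20577) L18460 L20577 L22745
theorem L22760 : sm gi N2379 = N2625 := rfl
theorem L22762 : sm ga N2625 = N2386 := ded_16_1 (flp_i L20652) (flp_a L20579) L22760
theorem L22764 : sm gb N2625 = N2393 := ded_23_1 (flp_i L20710) (flp_b L20581) L22760
theorem L22766 : sm gc N2625 = N2384 := ded_29_1 (flp_i L20634) (flp_c L20583) L22760
theorem L22768 : sm ge N2625 = N2391 := ded_38_1 (flp_i L20692) (flp_e L20585) L22760
theorem L22770 : sm gf N2625 = N2381 := ded_41_1 (flp_i L20599) (flp_f L20587) L22760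
theorem L22772 : sm gg N2625 = N2390 := ded_43_1 (flp_i L20684) (flp_g L20589) L22760
theorem L22774 : sm gh N2625 = N2625 := ded_44_1 (flp_i L22760) (flp_h L20577) L18461 L20577 L22760
theorem L22775 : sm ge N2380 = N2626 := rfl
theorem L22777 : sm ga N2626 = N2387 := ded_12_1 (flp_e L20660) (flp_a L20593) L22775
theorem L22779 : sm gc N2626 = N2415 := ded_25_1 (flp_e L20952) (flp_c L20596) L22775
theorem L22781 : sm gg N2626 = N2626 := ded_36_2 (flp_e L22775) L20595 L22775
theorem L22782 : sm gh N2626 = N2626 := ded_37_2 (flp_e L22775) L20598 L22775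
theorem L22783 : sm gd N2626 = N2626 := ded_30_1 (flp_e L22775) (flp_d L20591) L18468 L20591 L22775
theorem L22784 : sm gi N2380 = N2627 := rfl
theorem L22786 : sm ga N2627 = N2388 := ded_16_1 (flp_i L20668) (flp_a L20593) L22784
theorem L22788 : sm gc N2627 = N2416 := ded_29_1 (flp_i L20962) (flp_c L20596) L22784
theorem L22790 : sm gd N2627 = N2381 := ded_34_1 (flp_i L20599) L20591 L22784
theorem L22792 : sm gg N2627 = N2627 := ded_43_1 (flp_i L22784) L20595 L22784
theorem L22793 : sm gd N2382 = N2628 := rfl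
theorem L22795 : sm ga N2628 = N2389 := ded_11_1 (flp_d L20676) (flp_a L20610) L22793
theorem L22797 : sm gb N2628 = N2628 := ded_18_1 (flp_d L22793) L20612 L22793
theorem L22798 : sm gf N2628 = N2628 := ded_31_2 (flp_d L22793) L20617 L22793
theorem L22799 : sm gg N2628 = N2385 := ded_32_2 (flp_d L20644) (flp_g L20618) L22793
theorem L22801 : sm gc N2628 = N2428 := ded_24_1 (flp_d L21077) L18834 (flp_d L18558) (flp_c L20613) L22793
theorem L22803 : sm ge N2628 = N2419 := ded_30_2 (flp_d L20989) L18781 (flp_d L18510) (flp_e L20615) L22793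
theorem L22805 : sm gh N2628 = N2628 := ded_33_2 (flp_d L22793) (flp_h L20608) L18476 L20608 L22793
theorem L22806 : sm gi N2382 = N2629 := rfl
theorem L22808 : sm ga N2629 = N2390 := ded_16_1 (flp_i L20684) (flp_a L20610) L22806
theorem L22810 : sm gb N2629 = N2629 := ded_23_1 (flp_i L22806) L20612 L22806
theorem L22811 : sm gc N2629 = N2391 := ded_29_1 (flp_i L20692) (flp_c L20613) L22806
theorem L22813 : sm ge N2629 = N2384 := ded_38_1 (flp_i L20634) (flp_e L20615) L22806
theorem L22815 : sm gf N2629 = N2629 := ded_41_1 (flp_i L22806) L20617 L22806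
theorem L22816 : sm gg N2629 = N2386 := ded_43_1 (flp_i L20652) (flp_g L20618) L22806
theorem L22818 : sm gh N2629 = N2629 := ded_44_1 (flp_i L22806) (flp_h L20608) L18475 L20608 L22806
theorem L22819 : sm gi N2383 = N2630 := rfl
theorem L22821 : sm ga N2630 = N2391 := ded_16_1 (flp_i L20692) (flp_a L20622) L22819
theorem L22823 : sm gb N2630 = N2630 := ded_23_1 (flp_i L22819) L20624 L22819
theorem L22824 : sm gc N2630 = N2390 := ded_29_1 (flp_i L20684) (flp_c L20625) L22819
theorem L22826 : sm gd N2630 = N2421 := ded_34_1 (flp_i L21008) (flp_d L20632) L22819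
theorem L22828 : sm ge N2630 = N2386 := ded_38_1 (flp_i L20652) (flp_e L20627) L22819
theorem L22830 : sm gf N2630 = N2630 := ded_41_1 (flp_i L22819) L20629 L22819
theorem L22831 : sm gg N2630 = N2384 := ded_43_1 (flp_i L20634) (flp_g L20630) L22819
theorem L22833 : sm gh N2630 = N2630 := ded_44_1 (flp_i L22819) (flp_h L20620) L18485 L20620 L22819
theorem L22834 : sm ge N2385 = N2631 := rfl
theorem L22836 : sm ga N2631 = N2436 := ded_12_1 (flp_e L22757) L22747 L22834
theorem L22838 : sm gb N2631 = N2631 := ded_19_1 (flp_e L22834) L20646 L22834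
theorem L22839 : sm gc N2631 = N2430 := ded_25_1 (flp_e L21096) (flp_c L20649) L22834
theorem L22841 : sm gg N2631 = N2419 := ded_36_2 (flp_e L22803) L22799 L22834
theorem L22843 : sm gh N2631 = N2631 := ded_37_2 (flp_e L22834) L20651 L22834
theorem L22844 : sm gd N2631 = N2418 := ded_30_1 L20985 (flp_d L20632) L20627 L20644 L22834
theorem L22846 : sm gi N2385 = N2632 := rfl
theorem L22848 : sm gb N2632 = N2632 := ded_23_1 (flp_i L22846) L20646 L22846
theorem L22849 : sm gc N2632 = N2431 := ded_29_1 (flp_i L21101) (flp_c L20649) L22846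
theorem L22851 : sm gd N2632 = N2386 := ded_34_1 (flp_i L20652) L20644 L22846
theorem L22853 : sm gf N2632 = N2388 := ded_41_1 (flp_i L20668) (flp_f L20647) L22846
theorem L22855 : sm gf N2387 = N2633 := rfl
theorem L22857 : sm gb N2633 = N2633 := ded_20_1 (flp_f L22855) L20662 L22855
theorem L22858 : sm gc N2633 = N2432 := ded_26_1 (flp_f L21109) (flp_c L20663) L22855
theorem L22860 : sm gd N2633 = N2633 := ded_31_1 (flp_f L22855) L20667 L22855
theorem L22861 : sm gh N2633 = N2633 := ded_40_2 (flp_f L22855) L20666 L22855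
theorem L22862 : sm gi N2387 = N2634 := rfl
theorem L22864 : sm gb N2634 = N2634 := ded_23_1 (flp_i L22862) L20662 L22862
theorem L22865 : sm gc N2634 = N2433 := ded_29_1 (flp_i L21116) (flp_c L20663) L22862
theorem L22867 : sm gd N2634 = N2634 := ded_34_1 (flp_i L22862) L20667 L22862
theorem L22868 : sm ge N2634 = N2388 := ded_38_1 (flp_i L20668) L20660 L22862
theorem L22870 : sm gg N2634 = N2634 := ded_43_1 (flp_i L22862) L20665 L22862
theorem L22871 : sm gh N2388 = N2635 := rfl
theorem L22873 : sm gb N2635 = N2635 := ded_22_1 (flp_h L22871) L20670 L22871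
theorem L22874 : sm gc N2635 = N2434 := ded_28_1 (flp_h L21125) (flp_c L20671) L22871
theorem L22876 : sm gg N2635 = N2635 := ded_42_1 (flp_h L22871) L20675 L22871
theorem L22877 : sm gd N2635 = N2635 := ded_33_1 (flp_h L22871) L20673 L18543 (flp_d L20673) L22871
theorem L22878 : sm gi N2635 = N2635 := ded_44_2 (flp_h L22871) (flp_i L20668) L18535 L20668 L22871
theorem L22879 : sm gc N2389 = N2636 := rfl
theorem L22881 : sm ga N2636 = N2428 := ded_10_1 (flp_c L22801) L22795 L22879
theorem L22883 : sm ge N2636 = N2438 := ded_25_2 (flp_c L21157) (flp_e L20681) L22879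
theorem L22885 : sm gf N2636 = N2636 := ded_26_2 (flp_c L22879) L20680 L22879
theorem L22886 : sm gg N2636 = N2413 := ded_27_2 (flp_c L22755) L22753 L22879
theorem L22888 : sm gh N2636 = N2636 := ded_28_2 (flp_c L22879) L20683 L22879
theorem L22889 : sm gd N2636 = N2412 := ded_24_2 L20930 (flp_d L20632) L20625 L20676 L22879
theorem L22891 : sm gi N2389 = N2637 := rfl
theorem L22893 : sm gb N2637 = N2395 := ded_23_1 (flp_i L20727) (flp_b L20678) L22891
theorem L22895 : sm gd N2637 = N2390 := ded_34_1 (flp_i L20684) L20676 L22891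
theorem L22897 : sm ge N2637 = N2439 := ded_38_1 (flp_i L21162) (flp_e L20681) L22891
theorem L22899 : sm gf N2637 = N2637 := ded_41_1 (flp_i L22891) L20680 L22891
theorem L22900 : sm gc N2392 = N2638 := rfl
theorem L22902 : sm ga N2638 = N2638 := ded_10_1 (flp_c L22900) L20704 L22900
theorem L22903 : sm ge N2638 = N2442 := ded_25_2 (flp_c L21192) (flp_e L20707) L22900
theorem L22905 : sm gg N2638 = N2394 := ded_27_2 (flp_c L20719) (flp_g L20705) L22900
theorem L22907 : sm gh N2638 = N2638 := ded_28_2 (flp_c L22900) L20709 L22900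
theorem L22908 : sm gd N2638 = N2638 := ded_24_2 (flp_c L22900) (flp_d L20702) L18572 L20702 L22900
theorem L22909 : sm gi N2392 = N2639 := rfl
theorem L22911 : sm ga N2639 = N2639 := ded_16_1 (flp_i L22909) L20704 L22909
theorem L22912 : sm gd N2639 = N2393 := ded_34_1 (flp_i L20710) L20702 L22909
theorem L22914 : sm ge N2639 = N2443 := ded_38_1 (flp_i L21202) (flp_e L20707) L22909
theorem L22916 : sm gg N2639 = N2395 := ded_43_1 (flp_i L20727) (flp_g L20705) L22909
theorem L22918 : sm gb N2394 = N2640 := rfl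
theorem L22920 : sm gd N2640 = N2640 := ded_18_2 (flp_b L22918) L20726 L22918
theorem L22921 : sm ge N2640 = N2444 := ded_19_2 (flp_b L21209) (flp_e L20722) L22918
theorem L22923 : sm gf N2640 = N2640 := ded_20_2 (flp_b L22918) L20724 L22918
theorem L22924 : sm gh N2640 = N2640 := ded_22_2 (flp_b L22918) L20725 L22918
theorem L22925 : sm gi N2394 = N2641 := rfl
theorem L22927 : sm ga N2641 = N2641 := ded_16_1 (flp_i L22925) L20721 L22925
theorem L22928 : sm gc N2641 = N2395 := ded_29_1 (flp_i L20727) L20719 L22925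
theorem L22930 : sm gd N2641 = N2641 := ded_34_1 (flp_i L22925) L20726 L22925
theorem L22931 : sm ge N2641 = N2445 := ded_38_1 (flp_i L21216) (flp_e L20722) L22925
theorem L22933 : sm gf N2641 = N2641 := ded_41_1 (flp_i L22925) L20724 L22925
theorem L22934 : sm gh N2395 = N2642 := rfl
theorem L22936 : sm ga N2642 = N2642 := ded_15_1 (flp_h L22934) L20729 L22934
theorem L22937 : sm ge N2642 = N2446 := ded_37_1 (flp_h L21225) (flp_e L20732) L22934
theorem L22939 : sm gf N2642 = N2642 := ded_40_1 (flp_h L22934) L20734 L22934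
theorem L22940 : sm gd N2642 = N2642 := ded_33_1 (flp_h L22934) L20730 L18591 (flp_d L20730) L22934
theorem L22941 : sm gi N2642 = N2642 := ded_44_2 (flp_h L22934) (flp_i L20727) L18583 L20727 L22934
theorem L22942 : sm gh N2396 = N2643 := rfl
theorem L22944 : sm ga N2643 = N2620 := ded_15_1 L22717 (flp_a L20737) L22942
theorem L22946 : sm gb N2643 = N2460 := ded_22_1 (flp_h L21375) (flp_b L20739) L22942
theorem L22948 : sm gc N2643 = N2643 := ded_28_1 (flp_h L22942) L20747 L22942
theorem L22949 : sm ge N2643 = N2643 := ded_37_1 (flp_h L22942) L20748 L22942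
theorem L22950 : sm gf N2643 = N2515 := ded_40_1 (flp_h L21874) (flp_f L20741) L22942
theorem L22952 : sm gg N2643 = N2601 := ded_42_1 L22588 (flp_g L20743) L22942
theorem L22954 : sm gd N2397 = N2644 := rfl
theorem L22956 : sm ga N2644 = N2590 := ded_11_1 L22507 (flp_a L20751) L22954
theorem L22958 : sm gb N2644 = N2461 := ded_18_1 (flp_d L21386) (flp_b L20753) L22954
theorem L22960 : sm gf N2644 = N2517 := ded_31_2 (flp_d L21897) (flp_f L20759) L22954
theorem L22962 : sm gg N2644 = N2587 := ded_32_2 L22491 (flp_g L20761) L22954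
theorem L22964 : sm gi N2397 = N2645 := rfl
theorem L22966 : sm ga N2645 = N2596 := ded_16_1 (flp_i L22542) (flp_a L20751) L22964
theorem L22968 : sm gb N2645 = N2462 := ded_23_1 (flp_i L21394) (flp_b L20753) L22964
theorem L22970 : sm gc N2645 = N2402 := ded_29_1 (flp_i L20813) (flp_c L20755) L22964
theorem L22972 : sm ge N2645 = N2399 := ded_38_1 (flp_i L20775) (flp_e L20757) L22964
theorem L22974 : sm gf N2645 = N2518 := ded_41_1 (flp_i L21905) (flp_f L20759) L22964
theorem L22976 : sm gg N2645 = N2598 := ded_43_1 (flp_i L22559) (flp_g L20761) L22964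
theorem L22978 : sm gh N2645 = N2427 := ded_44_1 (flp_i L21067) (flp_h L18820) (flp_i L18612) L20749 L22964
theorem L22980 : sm ge N2398 = N2646 := rfl
theorem L22982 : sm ga N2646 = N2495 := ded_12_1 L21690 (flp_a L20765) L22980
theorem L22984 : sm gb N2646 = N2463 := ded_19_1 (flp_e L21406) (flp_b L20767) L22980
theorem L22986 : sm gc N2646 = N2646 := ded_25_1 (flp_e L22980) L20773 L22980
theorem L22987 : sm gg N2646 = N2612 := ded_36_2 (flp_e L22662) (flp_g L20771) L22980
theorem L22989 : sm gh N2646 = N2646 := ded_37_2 (flp_e L22980) L20774 L22980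
theorem L22990 : sm gf N2646 = N2479 := ded_35_2 (flp_e L21556) L19243 (flp_e L18636) (flp_f L20769) L22980
theorem L22992 : sm gi N2398 = N2647 := rfl
theorem L22994 : sm ga N2647 = N2499 := ded_16_1 (flp_i L21712) (flp_a L20765) L22992
theorem L22996 : sm gb N2647 = N2464 := ded_23_1 (flp_i L21413) (flp_b L20767) L22992
theorem L22998 : sm gc N2647 = N2647 := ded_29_1 (flp_i L22992) L20773 L22992
theorem L22999 : sm gd N2647 = N2399 := ded_34_1 (flp_i L20775) L20763 L22992
theorem L23001 : sm gf N2647 = N2400 := ded_41_1 (flp_i L20789) (flp_f L20769) L22992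
theorem L23003 : sm gg N2647 = N2613 := ded_43_1 (flp_i L22668) (flp_g L20771) L22992
theorem L23005 : sm gh N2400 = N2648 := rfl
theorem L23007 : sm ga N2648 = N2500 := ded_15_1 (flp_h L21719) (flp_a L20791) L23005
theorem L23009 : sm gb N2648 = N2467 := ded_22_1 (flp_h L21439) (flp_b L20793) L23005
theorem L23011 : sm gc N2648 = N2648 := ded_28_1 (flp_h L23005) L20795 L23005
theorem L23012 : sm ge N2648 = N2481 := ded_37_1 (flp_h L21571) (flp_e L20798) L23005
theorem L23014 : sm gg N2648 = N2648 := ded_42_1 (flp_h L23005) L20800 L23005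
theorem L23015 : sm gd N2648 = N2434 := ded_33_1 (flp_h L21125) L18866 (flp_h L18650) (flp_d L20796) L23005
theorem L23017 : sm gi N2648 = N2648 := ded_44_2 (flp_h L23005) (flp_i L20789) L18638 L20789 L23005
theorem L23018 : sm gc N2401 = N2649 := rfl
theorem L23020 : sm ga N2649 = N2614 := ded_10_1 L22678 (flp_a L20803) L23018
theorem L23022 : sm ge N2649 = N2649 := ded_25_2 (flp_c L23018) L20811 L23018
theorem L23023 : sm gf N2649 = N2522 := ded_26_2 (flp_c L21955) (flp_f L20807) L23018
theorem L23025 : sm gg N2649 = N2559 := ded_27_2 L22287 (flp_g L20809) L23018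
theorem L23027 : sm gh N2649 = N2649 := ded_28_2 (flp_c L23018) L20812 L23018
theorem L23028 : sm gb N2649 = N2557 := ded_17_1 (flp_c L22268) L20007 (flp_c L18684) (flp_b L20805) L23018
theorem L23030 : sm gi N2401 = N2650 := rfl
theorem L23032 : sm ga N2650 = N2617 := ded_16_1 (flp_i L22694) (flp_a L20803) L23030
theorem L23034 : sm gb N2650 = N2403 := ded_23_1 (flp_i L20827) (flp_b L20805) L23030
theorem L23036 : sm gd N2650 = N2402 := ded_34_1 (flp_i L20813) L20801 L23030
theorem L23038 : sm ge N2650 = N2650 := ded_38_1 (flp_i L23030) L20811 L23030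
theorem L23039 : sm gf N2650 = N2523 := ded_41_1 (flp_i L21962) (flp_f L20807) L23030
theorem L23041 : sm gg N2650 = N2564 := ded_43_1 (flp_i L22316) (flp_g L20809) L23030
theorem L23043 : sm gh N2403 = N2651 := rfl
theorem L23045 : sm ga N2651 = N2651 := ded_15_1 (flp_h L23043) L20829 L23043
theorem L23046 : sm gc N2651 = N2562 := ded_28_1 (flp_h L22300) (flp_c L20830) L23043
theorem L23048 : sm ge N2651 = N2651 := ded_37_1 (flp_h L23043) L20834 L23043
theorem L23049 : sm gf N2651 = N2527 := ded_40_1 (flp_h L21995) (flp_f L20835) L23043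
theorem L23051 : sm gg N2651 = N2565 := ded_42_1 (flp_h L22323) (flp_g L20837) L23043
theorem L23053 : sm gd N2651 = N2446 := ded_33_1 (flp_h L21225) L18949 (flp_h L18699) (flp_d L20832) L23043
theorem L23055 : sm gi N2651 = N2651 := ded_44_2 (flp_h L23043) (flp_i L20827) L18687 L20827 L23043
theorem L23056 : sm gg N2404 = N2652 := rfl
theorem L23058 : sm ga N2652 = N2469 := ded_14_1 (flp_g L21460) (flp_a L20841) L23056
theorem L23060 : sm gb N2652 = N2410 := ded_21_1 (flp_g L20906) (flp_b L20843) L23056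
theorem L23062 : sm gc N2652 = N2652 := ded_27_1 (flp_g L23056) L20845 L23056
theorem L23063 : sm gd N2652 = N2510 := ded_32_1 L21833 L20850 L23056
theorem L23065 : sm ge N2652 = N2405 := ded_36_1 (flp_g L20852) L20839 L23056
theorem L23067 : sm gi N2652 = N2600 := ded_43_2 L22581 (flp_i L20846) L23056
theorem L23069 : sm gf N2652 = N2603 := ded_39_1 L22602 (flp_f L20556) (flp_g L19738) (flp_f L20848) L23056
theorem L23071 : sm gh N2404 = N2653 := rfl
theorem L23073 : sm ga N2653 = N2470 := ded_15_1 (flp_h L21473) (flp_a L20841) L23071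
theorem L23075 : sm gb N2653 = N2411 := ded_22_1 (flp_h L20916) (flp_b L20843) L23071
theorem L23077 : sm gc N2653 = N2653 := ded_28_1 (flp_h L23071) L20845 L23071
theorem L23078 : sm ge N2653 = N2406 := ded_37_1 (flp_h L20863) L20839 L23071
theorem L23080 : sm gf N2653 = N2528 := ded_40_1 (flp_h L22001) (flp_f L20848) L23071
theorem L23082 : sm gh N2405 = N2654 := rfl
theorem L23084 : sm ga N2654 = N2471 := ded_15_1 (flp_h L21482) (flp_a L20854) L23082
theorem L23086 : sm gb N2654 = N2412 := ded_22_1 (flp_h L20926) (flp_b L20856) L23082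
theorem L23088 : sm gc N2654 = N2654 := ded_28_1 (flp_h L23082) L20858 L23082
theorem L23089 : sm gf N2654 = N2654 := ded_40_1 (flp_h L23082) L20862 L23082
theorem L23090 : sm gg N2654 = N2406 := ded_42_1 (flp_h L20863) L20852 L23082
theorem L23092 : sm gd N2406 = N2655 := rfl
theorem L23094 : sm ga N2655 = N2465 := ded_11_1 L21427 (flp_a L20865) L23092
theorem L23096 : sm gb N2655 = N2413 := ded_18_1 (flp_d L20935) (flp_b L20867) L23092
theorem L23098 : sm gf N2655 = N2407 := ded_31_2 (flp_d L20872) (flp_f L20870) L23092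
theorem L23100 : sm gh N2655 = N2655 := ded_33_2 (flp_d L23092) (flp_h L20863) L18708 L20863 L23092
theorem L23101 : sm gi N2406 = N2656 := rfl
theorem L23103 : sm ga N2656 = N2472 := ded_16_1 (flp_i L21490) (flp_a L20865) L23101
theorem L23105 : sm gb N2656 = N2414 := ded_23_1 (flp_i L20942) (flp_b L20867) L23101
theorem L23107 : sm gc N2656 = N2656 := ded_29_1 (flp_i L23101) L20869 L23101
theorem L23108 : sm gf N2656 = N2408 := ded_41_1 (flp_i L20882) (flp_f L20870) L23101
theorem L23110 : sm gh N2656 = N2555 := ded_44_1 (flp_i L22254) L19988 (flp_i L18709) L20863 L23101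
theorem L23112 : sm gc N2407 = N2657 := rfl
theorem L23114 : sm ga N2657 = N2450 := ded_10_1 L21265 (flp_a L20874) L23112
theorem L23116 : sm ge N2657 = N2448 := ded_25_2 L21248 (flp_e L20879) L23112
theorem L23118 : sm gg N2657 = N2657 := ded_27_2 (flp_c L23112) L20878 L23112
theorem L23119 : sm gh N2657 = N2657 := ded_28_2 (flp_c L23112) L20881 L23112
theorem L23120 : sm gd N2657 = N2657 := ded_24_2 (flp_c L23112) (flp_d L20872) L18717 L20872 L23112
theorem L23121 : sm gi N2407 = N2658 := rfl
theorem L23123 : sm ga N2658 = N2466 := ded_16_1 (flp_i L21430) (flp_a L20874) L23121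
theorem L23125 : sm gb N2658 = N2416 := ded_23_1 (flp_i L20962) (flp_b L20876) L23121
theorem L23127 : sm gd N2658 = N2408 := ded_34_1 (flp_i L20882) L20872 L23121
theorem L23129 : sm ge N2658 = N2458 := ded_38_1 (flp_i L21353) (flp_e L20879) L23121
theorem L23131 : sm gg N2658 = N2658 := ded_43_1 (flp_i L23121) L20878 L23121
theorem L23132 : sm gg N2409 = N2659 := rfl
theorem L23134 : sm ga N2659 = N2422 := ded_14_1 (flp_g L21018) (flp_a L20896) L23132
theorem L23136 : sm gb N2659 = N2510 := ded_21_1 L21833 (flp_b L20898) L23132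
theorem L23138 : sm gc N2659 = N2659 := ded_27_1 (flp_g L23132) L20904 L23132
theorem L23139 : sm gd N2659 = N2410 := ded_32_1 (flp_g L20906) L20894 L23132
theorem L23141 : sm ge N2659 = N2659 := ded_36_1 (flp_g L23132) L20905 L23132
theorem L23142 : sm gi N2659 = N2603 := ded_43_2 L22602 (flp_i L20902) L23132
theorem L23144 : sm gf N2659 = N2600 := ded_39_1 L22581 (flp_f L20538) L19780 (flp_f L20900) L23132
theorem L23146 : sm gh N2409 = N2660 := rfl
theorem L23148 : sm ga N2660 = N2423 := ded_15_1 (flp_h L21030) (flp_a L20896) L23146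
theorem L23150 : sm gb N2660 = N2593 := ded_22_1 L22521 (flp_b L20898) L23146
theorem L23152 : sm gc N2660 = N2660 := ded_28_1 (flp_h L23146) L20904 L23146
theorem L23153 : sm ge N2660 = N2660 := ded_37_1 (flp_h L23146) L20905 L23146
theorem L23154 : sm gf N2660 = N2530 := ded_40_1 (flp_h L22027) (flp_f L20900) L23146
theorem L23156 : sm gf N2410 = N2661 := rfl
theorem L23158 : sm ga N2661 = N2424 := ded_13_1 (flp_f L21038) (flp_a L20908) L23156
theorem L23160 : sm gb N2661 = N2603 := ded_20_1 (flp_f L23069) L23060 L23156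
theorem L23162 : sm gc N2661 = N2417 := ded_26_1 (flp_f L20969) (flp_c L20910) L23156
theorem L23164 : sm gd N2661 = N2600 := ded_31_1 (flp_f L23144) L23139 L23156
theorem L23166 : sm gi N2661 = N2510 := ded_41_2 L21831 (flp_i L20914) L23156
theorem L23168 : sm ge N2661 = N2661 := ded_35_1 (flp_f L23156) L20912 L18740 (flp_e L20912) L23156
theorem L23169 : sm gg N2661 = N2531 := ded_39_2 (flp_f L22038) (flp_g L19782) (flp_f L18729) L20906 L23156
theorem L23171 : sm gh N2410 = N2662 := rfl
theorem L23173 : sm ga N2662 = N2425 := ded_15_1 (flp_h L21051) (flp_a L20908) L23171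
theorem L23175 : sm gc N2662 = N2418 := ded_28_1 (flp_h L20980) (flp_c L20910) L23171
theorem L23177 : sm ge N2662 = N2412 := ded_37_1 (flp_h L20926) (flp_e L20912) L23171
theorem L23179 : sm gg N2662 = N2411 := ded_42_1 (flp_h L20916) L20906 L23171
theorem L23181 : sm gd N2411 = N2663 := rfl
theorem L23183 : sm ga N2663 = N2426 := ded_11_1 (flp_d L21061) (flp_a L20918) L23181
theorem L23185 : sm gf N2663 = N2533 := ded_31_2 (flp_d L22063) (flp_f L20924) L23181
theorem L23187 : sm gi N2411 = N2664 := rfl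
theorem L23189 : sm ga N2664 = N2427 := ded_16_1 (flp_i L21067) (flp_a L20918) L23187
theorem L23191 : sm gc N2664 = N2420 := ded_29_1 (flp_i L20997) (flp_c L20920) L23187
theorem L23193 : sm ge N2664 = N2414 := ded_38_1 (flp_i L20942) (flp_e L20922) L23187
theorem L23195 : sm gf N2664 = N2534 := ded_41_1 (flp_i L22067) (flp_f L20924) L23187
theorem L23197 : sm gh N2664 = N2596 := ded_44_1 (flp_i L22542) L20303 (flp_i L18727) L20916 L23187
theorem L23199 : sm gi N2412 = N2665 := rfl
theorem L23201 : sm ga N2665 = N2429 := ded_16_1 (flp_i L21085) (flp_a L20928) L23199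
theorem L23203 : sm gc N2665 = N2421 := ded_29_1 (flp_i L21008) (flp_c L20930) L23199
theorem L23205 : sm gf N2665 = N2665 := ded_41_1 (flp_i L23199) L20932 L23199
theorem L23206 : sm gg N2665 = N2414 := ded_43_1 (flp_i L20942) (flp_g L20933) L23199
theorem L23208 : sm gh N2665 = N2597 := ded_44_1 (flp_i L22550) L20319 (flp_i L18738) L20926 L23199
theorem L23210 : sm ge N2413 = N2666 := rfl
theorem L23212 : sm ga N2666 = N2430 := ded_12_1 (flp_e L21096) (flp_a L20937) L23210
theorem L23214 : sm gc N2666 = N2436 := ded_25_1 (flp_e L22757) L22755 L23210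
theorem L23216 : sm gg N2666 = N2438 := ded_36_2 (flp_e L22883) L22886 L23210
theorem L23218 : sm gh N2666 = N2666 := ded_37_2 (flp_e L23210) L20941 L23210
theorem L23219 : sm gi N2413 = N2667 := rfl
theorem L23221 : sm ga N2667 = N2431 := ded_16_1 (flp_i L21101) (flp_a L20937) L23219
theorem L23223 : sm gd N2667 = N2414 := ded_34_1 (flp_i L20942) L20935 L23219
theorem L23225 : sm gf N2667 = N2416 := ded_41_1 (flp_i L20962) (flp_f L20939) L23219
theorem L23227 : sm gf N2415 = N2668 := rfl
theorem L23229 : sm ga N2668 = N2432 := ded_13_1 (flp_f L21109) (flp_a L20954) L23227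
theorem L23231 : sm gb N2668 = N2456 := ded_20_1 L21334 (flp_b L20956) L23227
theorem L23233 : sm gd N2668 = N2453 := ded_31_1 L21302 (flp_d L20960) L23227
theorem L23235 : sm gh N2668 = N2668 := ded_40_2 (flp_f L23227) L20959 L23227
theorem L23236 : sm gg N2605 = N2668 := ded_21_0 L23231 L21336 L22612
theorem L23238 : sm gi N2415 = N2669 := rfl
theorem L23240 : sm ga N2669 = N2433 := ded_16_1 (flp_i L21116) (flp_a L20954) L23238
theorem L23242 : sm gb N2669 = N2458 := ded_23_1 (flp_i L21353) (flp_b L20956) L23238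
theorem L23244 : sm gd N2669 = N2454 := ded_34_1 (flp_i L21306) (flp_d L20960) L23238
theorem L23246 : sm ge N2669 = N2416 := ded_38_1 (flp_i L20962) L20952 L23238
theorem L23248 : sm gg N2669 = N2669 := ded_43_1 (flp_i L23238) L20958 L23238
theorem L23249 : sm gh N2416 = N2670 := rfl
theorem L23251 : sm ga N2670 = N2434 := ded_15_1 (flp_h L21125) (flp_a L20964) L23249
theorem L23253 : sm gg N2670 = N2670 := ded_42_1 (flp_h L23249) L20968 L23249
theorem L23254 : sm gd N2670 = N2500 := ded_33_1 (flp_h L21719) L19397 (flp_h L18764) (flp_d L20966) L23249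
theorem L23256 : sm gi N2670 = N2670 := ded_44_2 (flp_h L23249) (flp_i L20962) L18754 L20962 L23249
theorem L23257 : sm gh N2417 = N2671 := rfl
theorem L23259 : sm ga N2671 = N2435 := ded_15_1 (flp_h L21131) (flp_a L20971) L23257
theorem L23261 : sm gb N2671 = N2671 := ded_22_1 (flp_h L23257) L20973 L23257
theorem L23262 : sm ge N2671 = N2671 := ded_37_1 (flp_h L23257) L20977 L23257
theorem L23263 : sm gf N2671 = N2418 := ded_40_1 (flp_h L20980) L20969 L23257
theorem L23265 : sm gg N2671 = N2538 := ded_42_1 (flp_h L22118) (flp_g L20978) L23257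
theorem L23267 : sm gi N2418 = N2672 := rfl
theorem L23269 : sm ga N2672 = N2437 := ded_16_1 (flp_i L21147) (flp_a L20982) L23267
theorem L23271 : sm gb N2672 = N2672 := ded_23_1 (flp_i L23267) L20984 L23267
theorem L23272 : sm ge N2672 = N2421 := ded_38_1 (flp_i L21008) (flp_e L20985) L23267
theorem L23274 : sm gg N2672 = N2420 := ded_43_1 (flp_i L20997) (flp_g L20987) L23267
theorem L23276 : sm gh N2672 = N2599 := ded_44_1 (flp_i L22567) L20348 (flp_i L18774) L20980 L23267
theorem L23278 : sm gc N2419 = N2673 := rfl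
theorem L23280 : sm ga N2673 = N2438 := ded_10_1 (flp_c L21157) (flp_a L20991) L23278
theorem L23282 : sm ge N2673 = N2428 := ded_25_2 (flp_c L22801) L22803 L23278
theorem L23284 : sm gf N2673 = N2541 := ded_26_2 (flp_c L22146) (flp_f L20994) L23278
theorem L23286 : sm gg N2673 = N2430 := ded_27_2 (flp_c L22839) L22841 L23278
theorem L23288 : sm gh N2673 = N2673 := ded_28_2 (flp_c L23278) L20996 L23278
theorem L23289 : sm gb N2493 = N2673 := ded_19_3 L23282 L21079 L21672
theorem L23291 : sm gi N2419 = N2674 := rfl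
theorem L23293 : sm ga N2674 = N2439 := ded_16_1 (flp_i L21162) (flp_a L20991) L23291
theorem L23295 : sm gb N2674 = N2674 := ded_23_1 (flp_i L23291) L20993 L23291
theorem L23296 : sm gd N2674 = N2420 := ded_34_1 (flp_i L20997) L20989 L23291
theorem L23298 : sm gf N2674 = N2542 := ded_41_1 (flp_i L22152) (flp_f L20994) L23291
theorem L23300 : sm gh N2422 = N2675 := rfl
theorem L23302 : sm gb N2675 = N2483 := ded_22_1 L21602 (flp_b L21020) L23300
theorem L23304 : sm gc N2675 = N2675 := ded_28_1 (flp_h L23300) L21022 L23300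
theorem L23305 : sm ge N2675 = N2675 := ded_37_1 (flp_h L23300) L21025 L23300
theorem L23306 : sm gf N2675 = N2580 := ded_40_1 L22450 L21028 L23300
theorem L23308 : sm gg N2675 = N2423 := ded_42_1 (flp_h L21030) L21018 L23300
theorem L23310 : sm gd N2423 = N2676 := rfl
theorem L23312 : sm gb N2676 = N2485 := ded_18_1 (flp_d L21618) (flp_b L21032) L23310
theorem L23314 : sm gf N2676 = N2543 := ded_31_2 (flp_d L22160) (flp_f L21036) L23310
theorem L23316 : sm gh N2676 = N2426 := ded_33_2 (flp_d L21061) (flp_h L18820) L18802 L21030 L23310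
theorem L23318 : sm gi N2423 = N2677 := rfl
theorem L23320 : sm gb N2677 = N2486 := ded_23_1 (flp_i L21624) (flp_b L21032) L23318
theorem L23322 : sm gc N2677 = N2677 := ded_29_1 (flp_i L23318) L21034 L23318
theorem L23323 : sm ge N2677 = N2677 := ded_38_1 (flp_i L23318) L21035 L23318
theorem L23324 : sm gf N2677 = N2544 := ded_41_1 (flp_i L22166) (flp_f L21036) L23318
theorem L23326 : sm gh N2424 = N2678 := rfl
theorem L23328 : sm gb N2678 = N2487 := ded_22_1 (flp_h L21631) (flp_b L21040) L23326
theorem L23330 : sm gc N2678 = N2435 := ded_28_1 (flp_h L21131) (flp_c L21042) L23326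
theorem L23332 : sm ge N2678 = N2678 := ded_37_1 (flp_h L23326) L21048 L23326
theorem L23333 : sm gf N2678 = N2425 := ded_40_1 (flp_h L21051) L21038 L23326
theorem L23335 : sm gg N2678 = N2545 := ded_42_1 (flp_h L22173) (flp_g L21049) L23326
theorem L23337 : sm gd N2425 = N2679 := rfl
theorem L23339 : sm gb N2679 = N2488 := ded_18_1 (flp_d L21642) (flp_b L21053) L23337
theorem L23341 : sm gg N2679 = N2426 := ded_32_2 (flp_d L21061) (flp_g L21059) L23337
theorem L23343 : sm gi N2425 = N2680 := rfl
theorem L23345 : sm gb N2680 = N2489 := ded_23_1 (flp_i L21646) (flp_b L21053) L23343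
theorem L23347 : sm gc N2680 = N2437 := ded_29_1 (flp_i L21147) (flp_c L21055) L23343
theorem L23349 : sm ge N2680 = N2429 := ded_38_1 (flp_i L21085) (flp_e L21057) L23343
theorem L23351 : sm gg N2680 = N2427 := ded_43_1 (flp_i L21067) (flp_g L21059) L23343
theorem L23353 : sm gh N2680 = N2598 := ded_44_1 (flp_i L22559) L20332 (flp_i L18818) L21051 L23343
theorem L23355 : sm gc N2426 = N2681 := rfl
theorem L23357 : sm gf N2681 = N2548 := ded_26_2 (flp_c L22198) (flp_f L21065) L23355
theorem L23359 : sm gd N2681 = N2438 := ded_24_2 (flp_c L21157) (flp_d L18887) (flp_c L18824) L21061 L23355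
theorem L23361 : sm ge N2426 = N2682 := rfl
theorem L23363 : sm gb N2682 = N2491 := ded_19_1 (flp_e L21662) (flp_b L21063) L23361
theorem L23365 : sm gd N2682 = N2430 := ded_30_1 (flp_e L21096) (flp_d L18839) (flp_e L18826) L21061 L23361
theorem L23367 : sm gi N2426 = N2683 := rfl
theorem L23369 : sm gb N2683 = N2492 := ded_23_1 (flp_i L21666) (flp_b L21063) L23367
theorem L23371 : sm gd N2683 = N2427 := ded_34_1 (flp_i L21067) L21061 L23367
theorem L23373 : sm gf N2683 = N2550 := ded_41_1 (flp_i L22208) (flp_f L21065) L23367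
theorem L23375 : sm gi N2428 = N2684 := rfl
theorem L23377 : sm gb N2684 = N2494 := ded_23_1 (flp_i L21678) (flp_b L21079) L23375
theorem L23379 : sm gd N2684 = N2429 := ded_34_1 (flp_i L21085) L21077 L23375
theorem L23381 : sm gf N2684 = N2684 := ded_41_1 (flp_i L23375) L21081 L23375
theorem L23382 : sm gg N2684 = N2431 := ded_43_1 (flp_i L21101) (flp_g L21082) L23375
theorem L23384 : sm gf N2430 = N2685 := rfl
theorem L23386 : sm gb N2685 = N2495 := ded_20_1 (flp_f L21686) (flp_b L21098) L23384
theorem L23388 : sm gh N2685 = N2685 := ded_40_2 (flp_f L23384) L21100 L23384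
theorem L23389 : sm ge N2685 = N2432 := ded_35_1 (flp_f L21109) (flp_e L18854) (flp_f L18843) L21096 L23384
theorem L23391 : sm gi N2430 = N2686 := rfl
theorem L23393 : sm gb N2686 = N2496 := ded_23_1 (flp_i L21692) (flp_b L21098) L23391
theorem L23395 : sm ge N2686 = N2431 := ded_38_1 (flp_i L21101) L21096 L23391
theorem L23397 : sm gh N2431 = N2687 := rfl
theorem L23399 : sm gb N2687 = N2497 := ded_22_1 (flp_h L21697) (flp_b L21103) L23397
theorem L23401 : sm gf N2687 = N2434 := ded_40_1 (flp_h L21125) (flp_f L21107) L23397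
theorem L23403 : sm gi N2687 = N2687 := ded_44_2 (flp_h L23397) (flp_i L21101) L18845 L21101 L23397
theorem L23404 : sm gg N2432 = N2688 := rfl
theorem L23406 : sm ga N2688 = N2605 := ded_14_1 L23236 L23229 L23404
theorem L23408 : sm gb N2688 = N2498 := ded_21_1 (flp_g L21703) (flp_b L21111) L23404
theorem L23410 : sm gd N2688 = N2554 := ded_32_1 (flp_g L22244) (flp_d L21113) L23404
theorem L23412 : sm gh N2688 = N2688 := ded_42_2 (flp_g L23404) L21115 L23404
theorem L23413 : sm gf N2688 = N2688 := ded_39_1 (flp_g L23404) (flp_f L21109) L18858 L21109 L23404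
theorem L23414 : sm gi N2432 = N2689 := rfl
theorem L23416 : sm gb N2689 = N2499 := ded_23_1 (flp_i L21712) (flp_b L21111) L23414
theorem L23418 : sm gd N2689 = N2555 := ded_34_1 (flp_i L22254) (flp_d L21113) L23414
theorem L23420 : sm gf N2689 = N2433 := ded_41_1 (flp_i L21116) L21109 L23414
theorem L23422 : sm gh N2433 = N2690 := rfl
theorem L23424 : sm gb N2690 = N2500 := ded_22_1 (flp_h L21719) (flp_b L21118) L23422
theorem L23426 : sm ge N2690 = N2434 := ded_37_1 (flp_h L21125) (flp_e L21122) L23422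
theorem L23428 : sm gg N2690 = N2690 := ded_42_1 (flp_h L23422) L21124 L23422
theorem L23429 : sm gi N2690 = N2690 := ded_44_2 (flp_h L23422) (flp_i L21116) L18859 L21116 L23422
theorem L23430 : sm gd N2435 = N2691 := rfl
theorem L23432 : sm gb N2691 = N2440 := ded_18_1 (flp_d L21170) (flp_b L21133) L23430
theorem L23434 : sm gf N2691 = N2436 := ded_31_2 (flp_d L21140) (flp_f L21136) L23430
theorem L23436 : sm gg N2691 = N2525 := ded_32_2 L21981 (flp_g L21138) L23430
theorem L23438 : sm gh N2691 = N2691 := ded_33_2 (flp_d L23430) (flp_h L21131) L18873 L21131 L23430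
theorem L23439 : sm gi N2435 = N2692 := rfl
theorem L23441 : sm gb N2692 = N2441 := ded_23_1 (flp_i L21180) (flp_b L21133) L23439
theorem L23443 : sm ge N2692 = N2692 := ded_38_1 (flp_i L23439) L21135 L23439
theorem L23444 : sm gf N2692 = N2437 := ded_41_1 (flp_i L21147) (flp_f L21136) L23439
theorem L23446 : sm gg N2692 = N2556 := ded_43_1 (flp_i L22261) (flp_g L21138) L23439
theorem L23448 : sm gh N2692 = N2508 := ded_44_1 (flp_i L21805) L19498 (flp_i L18874) L21131 L23439
theorem L23450 : sm gi N2436 = N2693 := rfl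
theorem L23452 : sm gb N2693 = N2443 := ded_23_1 (flp_i L21202) (flp_b L21142) L23450
theorem L23454 : sm gd N2693 = N2437 := ded_34_1 (flp_i L21147) L21140 L23450
theorem L23456 : sm gg N2693 = N2439 := ded_43_1 (flp_i L21162) (flp_g L21144) L23450
theorem L23458 : sm gb N2438 = N2694 := rfl
theorem L23460 : sm gf N2694 = N2559 := ded_20_2 (flp_b L22283) (flp_f L21159) L23458
theorem L23462 : sm gh N2694 = N2694 := ded_22_2 (flp_b L23458) L21161 L23458
theorem L23463 : sm gc N2694 = N2444 := ded_17_2 (flp_b L21209) (flp_c L18938) (flp_b L18889) L21157 L23458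
theorem L23465 : sm gi N2438 = N2695 := rfl
theorem L23467 : sm gc N2695 = N2439 := ded_29_1 (flp_i L21162) L21157 L23465
theorem L23469 : sm gf N2695 = N2560 := ded_41_1 (flp_i L22289) (flp_f L21159) L23465
theorem L23471 : sm gh N2439 = N2696 := rfl
theorem L23473 : sm gb N2696 = N2446 := ded_22_1 (flp_h L21225) (flp_b L21164) L23471
theorem L23475 : sm gf N2696 = N2561 := ded_40_1 (flp_h L22294) (flp_f L21168) L23471
theorem L23477 : sm gi N2696 = N2696 := ded_44_2 (flp_h L23471) (flp_i L21162) L18893 L21162 L23471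
theorem L23478 : sm ge N2440 = N2697 := rfl
theorem L23480 : sm ga N2697 = N2697 := ded_12_1 (flp_e L23478) L21172 L23478
theorem L23481 : sm gc N2697 = N2511 := ded_25_1 L21842 (flp_c L21177) L23478
theorem L23483 : sm gg N2697 = N2513 := ded_36_2 L21859 (flp_g L21175) L23478
theorem L23485 : sm gh N2697 = N2697 := ded_37_2 (flp_e L23478) L21179 L23478
theorem L23486 : sm gd N2697 = N2697 := ded_30_1 (flp_e L23478) (flp_d L21170) L18916 L21170 L23478
theorem L23487 : sm gi N2440 = N2698 := rfl
theorem L23489 : sm ga N2698 = N2698 := ded_16_1 (flp_i L23487) L21172 L23487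
theorem L23490 : sm gc N2698 = N2524 := ded_29_1 (flp_i L21972) (flp_c L21177) L23487
theorem L23492 : sm gd N2698 = N2441 := ded_34_1 (flp_i L21180) L21170 L23487
theorem L23494 : sm gf N2698 = N2443 := ded_41_1 (flp_i L21202) (flp_f L21173) L23487
theorem L23496 : sm gg N2698 = N2526 := ded_43_1 (flp_i L21986) (flp_g L21175) L23487
theorem L23498 : sm gb N2442 = N2699 := rfl
theorem L23500 : sm gd N2699 = N2505 := ded_18_2 (flp_b L21772) (flp_d L21200) L23498
theorem L23502 : sm gf N2699 = N2520 := ded_20_2 L21936 (flp_f L21195) L23498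
theorem L23504 : sm gg N2699 = N2444 := ded_21_2 (flp_b L21209) (flp_g L21197) L23498
theorem L23506 : sm gh N2699 = N2699 := ded_22_2 (flp_b L23498) L21199 L23498
theorem L23507 : sm ga N2609 = N2699 := ded_11_3 L23500 (flp_a L21781) (flp_d L22643)
theorem L23509 : sm gi N2442 = N2700 := rfl
theorem L23511 : sm ga N2700 = N2700 := ded_16_1 (flp_i L23509) L21194 L23509
theorem L23512 : sm gc N2700 = N2443 := ded_29_1 (flp_i L21202) L21192 L23509
theorem L23514 : sm gd N2700 = N2506 := ded_34_1 (flp_i L21783) (flp_d L21200) L23509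
theorem L23516 : sm gf N2700 = N2524 := ded_41_1 (flp_i L21972) (flp_f L21195) L23509
theorem L23518 : sm gg N2700 = N2445 := ded_43_1 (flp_i L21216) (flp_g L21197) L23509
theorem L23520 : sm gh N2443 = N2701 := rfl
theorem L23522 : sm ga N2701 = N2701 := ded_15_1 (flp_h L23520) L21204 L23520
theorem L23523 : sm gg N2701 = N2446 := ded_42_1 (flp_h L21225) (flp_g L21207) L23520
theorem L23525 : sm gd N2701 = N2565 := ded_33_1 (flp_h L22323) L20059 (flp_h L18936) (flp_d L21205) L23520
theorem L23527 : sm gi N2701 = N2701 := ded_44_2 (flp_h L23520) (flp_i L21202) L18926 L21202 L23520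
theorem L23528 : sm ga N2444 = N2702 := rfl
theorem L23530 : sm gd N2702 = N2507 := ded_11_2 (flp_a L21795) (flp_d L21211) L23528
theorem L23532 : sm gf N2702 = N2563 := ded_13_2 (flp_a L22307) (flp_f L21213) L23528
theorem L23534 : sm gg N2702 = N2609 := ded_14_2 L23507 L23504 L23528
theorem L23536 : sm gh N2702 = N2702 := ded_15_2 (flp_a L23528) L21215 L23528
theorem L23537 : sm gb N2702 = N2702 := ded_9_2 (flp_a L23528) (flp_b L21209) L18940 L21209 L23528

end Cfsg.Agent.Helper28.FiaA
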