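import Cfsg.Agent.Helper28.FiaB2

/-! # The Fi₂₂ presentation, cosets of the subgroup generated by a, c, d, e, f, g, h, i, (abcdeh)⁵: the coset enumeration, part 3 (helper28; generated) -/

set_option autoImplicit false

noncomputable section

namespace Cfsg.Agent.Helper28.FiaA

open Cfsg.Agent.Helper28.CosetTable

theorem L23538 : sm gi N2444 = N2703 := rfl
theorem L23540 : sm gb N2703 = N2445 := ded_23_1 (flp_i L21216) L21209 L23538
theorem L23542 : sm gd N2703 = N2508 := ded_34_1 (flp_i L21805) (flp_d L21211) L23538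
theorem L23544 : sm gf N2703 = N2564 := ded_41_1 (flp_i L22316) (flp_f L21213) L23538
theorem L23546 : sm gh N2445 = N2704 := rfl
theorem L23548 : sm ga N2704 = N2704 := ded_15_1 (flp_h L23546) L21218 L23546
theorem L23549 : sm gc N2704 = N2446 := ded_28_1 (flp_h L21225) (flp_c L21219) L23546
theorem L23551 : sm gf N2704 = N2565 := ded_40_1 (flp_h L22323) (flp_f L21223) L23546
theorem L23553 : sm gi N2704 = N2704 := ded_44_2 (flp_h L23546) (flp_i L21216) L18943 L21216 L23546
theorem L23554 : sm gd N2447 = N2705 := rfl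
theorem L23556 : sm ga N2705 = N2705 := ded_11_1 (flp_d L23554) L21233 L23554
theorem L23557 : sm gb N2705 = N2448 := ded_18_1 (flp_d L21241) (flp_b L21234) L23554
theorem L23559 : sm gf N2705 = N2511 := ded_31_2 (flp_d L21835) (flp_f L21238) L23554
theorem L23561 : sm gg N2705 = N2705 := ded_32_2 (flp_d L23554) L21240 L23554
theorem L23562 : sm gh N2705 = N2705 := ded_33_2 (flp_d L23554) (flp_h L21231) L18955 L21231 L23554
theorem L23563 : sm gi N2447 = N2706 := rfl
theorem L23565 : sm ga N2706 = N2706 := ded_16_1 (flp_i L23563) L21233 L23563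
theorem L23566 : sm gb N2706 = N2449 := ded_23_1 (flp_i L21251) (flp_b L21234) L23563
theorem L23568 : sm gc N2706 = N2706 := ded_29_1 (flp_i L23563) L21236 L23563
theorem L23569 : sm ge N2706 = N2706 := ded_38_1 (flp_i L23563) L21237 L23563
theorem L23570 : sm gf N2706 = N2512 := ded_41_1 (flp_i L21845) (flp_f L21238) L23563
theorem L23572 : sm gg N2706 = N2706 := ded_43_1 (flp_i L23563) L21240 L23563
theorem L23573 : sm gh N2706 = N2706 := ded_44_1 (flp_i L23563) (flp_h L21231) L18960 L21231 L23563
theorem L23574 : sm gi N2448 = N2707 := rfl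
theorem L23576 : sm ga N2707 = N2451 := ded_16_1 (flp_i L21270) (flp_a L21243) L23574
theorem L23578 : sm gc N2707 = N2458 := ded_29_1 (flp_i L21353) (flp_c L21248) L23574
theorem L23580 : sm gd N2707 = N2449 := ded_34_1 (flp_i L21251) L21241 L23574
theorem L23582 : sm gf N2707 = N2604 := ded_41_1 (flp_i L22604) (flp_f L21245) L23574
theorem L23584 : sm gg N2707 = N2707 := ded_43_1 (flp_i L23574) L21247 L23574
theorem L23585 : sm gf N2450 = N2708 := rfl
theorem L23587 : sm gb N2708 = N2708 := ded_20_1 (flp_f L23585) L21264 L23585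
theorem L23588 : sm gc N2708 = N2465 := ded_26_1 (flp_f L21423) (flp_c L21265) L23585
theorem L23590 : sm gd N2708 = N2708 := ded_31_1 (flp_f L23585) L21269 L23585
theorem L23591 : sm gh N2708 = N2708 := ded_40_2 (flp_f L23585) L21268 L23585
theorem L23592 : sm ge N2708 = N2609 := ded_35_1 (flp_f L22640) (flp_e L20433) (flp_f L18988) L21262 L23585
theorem L23594 : sm gi N2450 = N2709 := rfl
theorem L23596 : sm gb N2709 = N2709 := ded_23_1 (flp_i L23594) L21264 L23594
theorem L23597 : sm gc N2709 = N2466 := ded_29_1 (flp_i L21430) (flp_c L21265) L23594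
theorem L23599 : sm gd N2709 = N2709 := ded_34_1 (flp_i L23594) L21269 L23594
theorem L23600 : sm ge N2709 = N2451 := ded_38_1 (flp_i L21270) L21262 L23594
theorem L23602 : sm gg N2709 = N2709 := ded_43_1 (flp_i L23594) L21267 L23594
theorem L23603 : sm gh N2451 = N2710 := rfl
theorem L23605 : sm gb N2710 = N2710 := ded_22_1 (flp_h L23603) L21272 L23603
theorem L23606 : sm gc N2710 = N2467 := ded_28_1 (flp_h L21439) (flp_c L21273) L23603
theorem L23608 : sm gf N2710 = N2611 := ded_40_1 (flp_h L22655) (flp_f L21277) L23603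
theorem L23610 : sm gg N2710 = N2710 := ded_42_1 (flp_h L23603) L21279 L23603
theorem L23611 : sm gd N2710 = N2710 := ded_33_1 (flp_h L23603) L21275 L19003 (flp_d L21275) L23603
theorem L23612 : sm gi N2710 = N2710 := ded_44_2 (flp_h L23603) (flp_i L21270) L18993 L21270 L23603
theorem L23613 : sm gh N2452 = N2711 := rfl
theorem L23615 : sm ga N2711 = N2552 := ded_15_1 L22233 (flp_a L21282) L23613
theorem L23617 : sm gb N2711 = N2455 := ded_22_1 (flp_h L21318) (flp_b L21284) L23613
theorem L23619 : sm gc N2711 = N2711 := ded_28_1 (flp_h L23613) L21286 L23613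
theorem L23620 : sm ge N2711 = N2453 := ded_37_1 (flp_h L21295) L21280 L23613
theorem L23622 : sm gf N2711 = N2536 := ded_40_1 L22101 (flp_f L21291) L23613
theorem L23624 : sm gg N2711 = N2580 := ded_42_1 L22450 (flp_g L21287) L23613
theorem L23626 : sm gi N2453 = N2712 := rfl
theorem L23628 : sm ga N2712 = N2555 := ded_16_1 (flp_i L22254) (flp_a L21297) L23626
theorem L23630 : sm gb N2712 = N2457 := ded_23_1 (flp_i L21341) (flp_b L21299) L23626
theorem L23632 : sm gc N2712 = N2712 := ded_29_1 (flp_i L23626) L21301 L23626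
theorem L23633 : sm gf N2712 = N2454 := ded_41_1 (flp_i L21306) (flp_f L21302) L23626
theorem L23635 : sm gg N2712 = N2608 := ded_43_1 (flp_i L22634) (flp_g L21304) L23626
theorem L23637 : sm gh N2712 = N2472 := ded_44_1 (flp_i L21490) (flp_h L19178) (flp_i L19012) L21295 L23626
theorem L23639 : sm gd N2455 = N2713 := rfl
theorem L23641 : sm ga N2713 = N2461 := ded_11_1 (flp_d L21386) (flp_a L21320) L23639
theorem L23643 : sm gf N2713 = N2566 := ded_31_2 (flp_d L22330) (flp_f L21326) L23639
theorem L23645 : sm gg N2713 = N2578 := ded_32_2 L22438 (flp_g L21328) L23639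
theorem L23647 : sm gc N2713 = N2568 := ded_24_1 (flp_d L22350) L20104 (flp_d L19078) (flp_c L21322) L23639
theorem L23649 : sm gh N2713 = N2572 := ded_33_2 L22394 L20186 (flp_d L19038) L21318 L23639
theorem L23651 : sm gi N2455 = N2714 := rfl
theorem L23653 : sm ga N2714 = N2462 := ded_16_1 (flp_i L21394) (flp_a L21320) L23651
theorem L23655 : sm gc N2714 = N2459 := ded_29_1 (flp_i L21360) (flp_c L21322) L23651
theorem L23657 : sm ge N2714 = N2457 := ded_38_1 (flp_i L21341) (flp_e L21324) L23651
theorem L23659 : sm gf N2714 = N2567 := ded_41_1 (flp_i L22338) (flp_f L21326) L23651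
theorem L23661 : sm gg N2714 = N2581 := ded_43_1 (flp_i L22453) (flp_g L21328) L23651
theorem L23663 : sm gh N2714 = N2476 := ded_44_1 (flp_i L21526) (flp_h L19220) (flp_i L19034) L21318 L23651
theorem L23665 : sm ge N2456 = N2715 := rfl
theorem L23667 : sm ga N2715 = N2463 := ded_12_1 (flp_e L21406) (flp_a L21332) L23665
theorem L23669 : sm gc N2715 = N2520 := ded_25_1 L21940 (flp_c L21338) L23665
theorem L23671 : sm gg N2715 = N2522 := ded_36_2 L21959 (flp_g L21336) L23665
theorem L23673 : sm gh N2715 = N2715 := ded_37_2 (flp_e L23665) L21340 L23665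
theorem L23674 : sm gi N2456 = N2716 := rfl
theorem L23676 : sm ga N2716 = N2464 := ded_16_1 (flp_i L21413) (flp_a L21332) L23674
theorem L23678 : sm gc N2716 = N2604 := ded_29_1 (flp_i L22604) (flp_c L21338) L23674
theorem L23680 : sm gd N2716 = N2457 := ded_34_1 (flp_i L21341) L21330 L23674
theorem L23682 : sm gf N2716 = N2458 := ded_41_1 (flp_i L21353) (flp_f L21334) L23674
theorem L23684 : sm gg N2716 = N2606 := ded_43_1 (flp_i L22618) (flp_g L21336) L23674
theorem L23686 : sm gh N2458 = N2717 := rfl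
theorem L23688 : sm ga N2717 = N2467 := ded_15_1 (flp_h L21439) (flp_a L21355) L23686
theorem L23690 : sm gg N2717 = N2717 := ded_42_1 (flp_h L23686) L21359 L23686
theorem L23691 : sm gd N2717 = N2481 := ded_33_1 (flp_h L21571) L19260 (flp_h L19065) (flp_d L21357) L23686
theorem L23693 : sm gi N2717 = N2717 := ded_44_2 (flp_h L23686) (flp_i L21353) L19055 L21353 L23686
theorem L23694 : sm gd N2460 = N2718 := rfl
theorem L23696 : sm ga N2718 = N2572 := ded_11_1 L22394 (flp_a L21377) L23694
theorem L23698 : sm gf N2718 = N2568 := ded_31_2 (flp_d L22350) (flp_f L21382) L23694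
theorem L23700 : sm gg N2718 = N2582 := ded_32_2 L22465 (flp_g L21384) L23694
theorem L23702 : sm gc N2718 = N2566 := ded_24_1 (flp_d L22330) L20071 (flp_d L19518) (flp_c L21379) L23694
theorem L23704 : sm gh N2718 = N2461 := ded_33_2 (flp_d L21386) (flp_h L19106) L19093 L21375 L23694
theorem L23706 : sm gi N2460 = N2719 := rfl
theorem L23708 : sm ga N2719 = N2577 := ded_16_1 (flp_i L22427) (flp_a L21377) L23706
theorem L23710 : sm gc N2719 = N2509 := ded_29_1 (flp_i L21812) (flp_c L21379) L23706
theorem L23712 : sm ge N2719 = N2719 := ded_38_1 (flp_i L23706) L21381 L23706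
theorem L23713 : sm gf N2719 = N2569 := ded_41_1 (flp_i L22358) (flp_f L21382) L23706
theorem L23715 : sm gg N2719 = N2602 := ded_43_1 (flp_i L22591) (flp_g L21384) L23706
theorem L23717 : sm gh N2719 = N2486 := ded_44_1 (flp_i L21624) (flp_h L19321) (flp_i L19101) L21375 L23706
theorem L23719 : sm ge N2461 = N2720 := rfl
theorem L23721 : sm gc N2720 = N2585 := ded_25_1 (flp_e L22477) (flp_c L21392) L23719
theorem L23723 : sm gg N2720 = N2588 := ded_36_2 (flp_e L22493) (flp_g L21390) L23719
theorem L23725 : sm gd N2720 = N2463 := ded_30_1 (flp_e L21406) (flp_d L19116) (flp_e L19110) L21386 L23719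
theorem L23727 : sm gi N2461 = N2721 := rfl
theorem L23729 : sm gc N2721 = N2586 := ded_29_1 (flp_i L22483) (flp_c L21392) L23727
theorem L23731 : sm gd N2721 = N2462 := ded_34_1 (flp_i L21394) L21386 L23727
theorem L23733 : sm gf N2721 = N2574 := ded_41_1 (flp_i L22402) (flp_f L21388) L23727
theorem L23735 : sm gg N2721 = N2589 := ded_43_1 (flp_i L22499) (flp_g L21390) L23727
theorem L23737 : sm gf N2463 = N2722 := rfl
theorem L23739 : sm gb N2722 = N2479 := ded_20_1 (flp_f L22990) L22984 L23737
theorem L23741 : sm gc N2722 = N2609 := ded_26_1 (flp_f L22640) (flp_c L21408) L23737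
theorem L23743 : sm gh N2722 = N2722 := ded_40_2 (flp_f L23737) L21412 L23737
theorem L23744 : sm ge N2722 = N2465 := ded_35_1 (flp_f L21423) (flp_e L19135) (flp_f L19118) L21406 L23737
theorem L23746 : sm gi N2463 = N2723 := rfl
theorem L23748 : sm gc N2723 = N2610 := ded_29_1 (flp_i L22646) (flp_c L21408) L23746
theorem L23750 : sm ge N2723 = N2464 := ded_38_1 (flp_i L21413) L21406 L23746
theorem L23752 : sm gg N2723 = N2615 := ded_43_1 (flp_i L22682) (flp_g L21410) L23746
theorem L23754 : sm gh N2464 = N2724 := rfl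
theorem L23756 : sm gc N2724 = N2611 := ded_28_1 (flp_h L22655) (flp_c L21415) L23754
theorem L23758 : sm gf N2724 = N2467 := ded_40_1 (flp_h L21439) (flp_f L21419) L23754
theorem L23760 : sm gg N2724 = N2616 := ded_42_1 (flp_h L22688) (flp_g L21421) L23754
theorem L23762 : sm gd N2724 = N2497 := ded_33_1 (flp_h L21697) L19384 (flp_h L19133) (flp_d L21417) L23754
theorem L23764 : sm gi N2724 = N2724 := ded_44_2 (flp_h L23754) (flp_i L21413) L19124 L21413 L23754
theorem L23765 : sm gg N2465 = N2725 := rfl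
theorem L23767 : sm gb N2725 = N2477 := ded_21_1 L21541 (flp_b L21425) L23765
theorem L23769 : sm gd N2725 = N2471 := ded_32_1 L21488 (flp_d L21427) L23765
theorem L23771 : sm gh N2725 = N2725 := ded_42_2 (flp_g L23765) L21429 L23765
theorem L23772 : sm gf N2725 = N2725 := ded_39_1 (flp_g L23765) (flp_f L21423) L19139 L21423 L23765
theorem L23773 : sm gi N2465 = N2726 := rfl
theorem L23775 : sm gb N2726 = N2480 := ded_23_1 (flp_i L21562) (flp_b L21425) L23773
theorem L23777 : sm gd N2726 = N2472 := ded_34_1 (flp_i L21490) (flp_d L21427) L23773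
theorem L23779 : sm gf N2726 = N2466 := ded_41_1 (flp_i L21430) L21423 L23773
theorem L23781 : sm gh N2466 = N2727 := rfl
theorem L23783 : sm gb N2727 = N2481 := ded_22_1 (flp_h L21571) (flp_b L21432) L23781
theorem L23785 : sm ge N2727 = N2467 := ded_37_1 (flp_h L21439) (flp_e L21436) L23781
theorem L23787 : sm gg N2727 = N2727 := ded_42_1 (flp_h L23781) L21438 L23781
theorem L23788 : sm gi N2727 = N2727 := ded_44_2 (flp_h L23781) (flp_i L21430) L19140 L21430 L23781
theorem L23789 : sm gh N2468 = N2728 := rfl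
theorem L23791 : sm ga N2728 = N2593 := ded_15_1 L22521 (flp_a L21447) L23789
theorem L23793 : sm gb N2728 = N2473 := ded_22_1 (flp_h L21497) (flp_b L21449) L23789
theorem L23795 : sm gc N2728 = N2505 := ded_28_1 L21779 (flp_c L21456) L23789
theorem L23797 : sm ge N2728 = N2728 := ded_37_1 (flp_h L23789) L21455 L23789
theorem L23798 : sm gf N2728 = N2516 := ded_40_1 (flp_h L21885) (flp_f L21451) L23789
theorem L23800 : sm gg N2728 = N2503 := ded_42_1 L21761 L21458 L23789
theorem L23802 : sm gh N2469 = N2729 := rfl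
theorem L23804 : sm gb N2729 = N2474 := ded_22_1 (flp_h L21508) (flp_b L21462) L23802
theorem L23806 : sm gc N2729 = N2729 := ded_28_1 (flp_h L23802) L21464 L23802
theorem L23807 : sm ge N2729 = N2471 := ded_37_1 (flp_h L21482) (flp_e L21467) L23802
theorem L23809 : sm gf N2729 = N2601 := ded_40_1 L22588 (flp_f L21471) L23802
theorem L23811 : sm gg N2729 = N2470 := ded_42_1 (flp_h L21473) L21460 L23802
theorem L23813 : sm gd N2470 = N2730 := rfl
theorem L23815 : sm gb N2730 = N2475 := ded_18_1 (flp_d L21520) (flp_b L21475) L23813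
theorem L23817 : sm gf N2730 = N2573 := ded_31_2 L22400 (flp_f L21480) L23813
theorem L23819 : sm gi N2470 = N2731 := rfl
theorem L23821 : sm gb N2731 = N2476 := ded_23_1 (flp_i L21526) (flp_b L21475) L23819
theorem L23823 : sm gc N2731 = N2731 := ded_29_1 (flp_i L23819) L21477 L23819
theorem L23824 : sm ge N2731 = N2472 := ded_38_1 (flp_i L21490) (flp_e L21478) L23819
theorem L23826 : sm gf N2731 = N2576 := ded_41_1 (flp_i L22420) (flp_f L21480) L23819
theorem L23828 : sm gi N2471 = N2732 := rfl
theorem L23830 : sm gb N2732 = N2478 := ded_23_1 (flp_i L21545) (flp_b L21484) L23828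
theorem L23832 : sm gc N2732 = N2732 := ded_29_1 (flp_i L23828) L21486 L23828
theorem L23833 : sm gf N2732 = N2732 := ded_41_1 (flp_i L23828) L21487 L23828
theorem L23834 : sm gg N2732 = N2472 := ded_43_1 (flp_i L21490) (flp_g L21488) L23828
theorem L23836 : sm gh N2732 = N2608 := ded_44_1 (flp_i L22634) L20423 (flp_i L19175) L21482 L23828
theorem L23838 : sm gd N2473 = N2733 := rfl
theorem L23840 : sm ga N2733 = N2485 := ded_11_1 (flp_d L21618) (flp_a L21499) L23838
theorem L23842 : sm gf N2733 = N2570 := ded_31_2 (flp_d L22370) (flp_f L21504) L23838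
theorem L23844 : sm gg N2733 = N2490 := ded_32_2 L21660 (flp_g L21506) L23838
theorem L23846 : sm gc N2733 = N2488 := ded_24_1 (flp_d L21642) L19343 L19420 (flp_c L21501) L23838
theorem L23848 : sm gh N2733 = N2475 := ded_33_2 (flp_d L21520) (flp_h L19220) L19193 L21497 L23838
theorem L23850 : sm gi N2473 = N2734 := rfl
theorem L23852 : sm ga N2734 = N2486 := ded_16_1 (flp_i L21624) (flp_a L21499) L23850
theorem L23854 : sm gc N2734 = N2502 := ded_29_1 (flp_i L21741) (flp_c L21501) L23850
theorem L23856 : sm ge N2734 = N2734 := ded_38_1 (flp_i L23850) L21503 L23850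
theorem L23857 : sm gf N2734 = N2571 := ded_41_1 (flp_i L22378) (flp_f L21504) L23850
theorem L23859 : sm gg N2734 = N2504 := ded_43_1 (flp_i L21765) (flp_g L21506) L23850
theorem L23861 : sm gh N2734 = N2577 := ded_44_1 (flp_i L22427) L20186 (flp_i L19199) L21497 L23850
theorem L23863 : sm gd N2474 = N2735 := rfl
theorem L23865 : sm ga N2735 = N2488 := ded_11_1 (flp_d L21642) (flp_a L21510) L23863
theorem L23867 : sm gf N2735 = N2582 := ded_31_2 L22465 (flp_f L21516) L23863
theorem L23869 : sm gg N2735 = N2475 := ded_32_2 (flp_d L21520) (flp_g L21518) L23863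
theorem L23871 : sm gc N2735 = N2485 := ded_24_1 (flp_d L21618) L19323 (flp_d L19274) (flp_c L21512) L23863
theorem L23873 : sm gh N2735 = N2490 := ded_33_2 L21660 L19448 (flp_d L19212) L21508 L23863
theorem L23875 : sm gi N2474 = N2736 := rfl
theorem L23877 : sm ga N2736 = N2489 := ded_16_1 (flp_i L21646) (flp_a L21510) L23875
theorem L23879 : sm gc N2736 = N2482 := ded_29_1 (flp_i L21578) (flp_c L21512) L23875
theorem L23881 : sm ge N2736 = N2478 := ded_38_1 (flp_i L21545) (flp_e L21514) L23875
theorem L23883 : sm gf N2736 = N2602 := ded_41_1 (flp_i L22591) (flp_f L21516) L23875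
theorem L23885 : sm gg N2736 = N2476 := ded_43_1 (flp_i L21526) (flp_g L21518) L23875
theorem L23887 : sm gh N2736 = N2581 := ded_44_1 (flp_i L22453) L20237 (flp_i L19216) L21508 L23875
theorem L23889 : sm gc N2475 = N2737 := rfl
theorem L23891 : sm ga N2737 = N2490 := ded_10_1 (flp_c L21656) (flp_a L21522) L23889
theorem L23893 : sm gf N2737 = N2578 := ded_26_2 (flp_c L22434) (flp_f L21524) L23889
theorem L23895 : sm gg N2737 = N2485 := ded_27_2 (flp_c L23871) L23869 L23889
theorem L23897 : sm gh N2737 = N2488 := ded_28_2 (flp_c L23846) L23848 L23889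
theorem L23899 : sm gd N2737 = N2483 := ded_24_2 (flp_c L21593) (flp_d L19276) (flp_c L19224) L21520 L23889
theorem L23901 : sm ge N2475 = N2738 := rfl
theorem L23903 : sm ga N2738 = N2491 := ded_12_1 (flp_e L21662) (flp_a L21522) L23901
theorem L23905 : sm gd N2738 = N2479 := ded_30_1 (flp_e L21556) (flp_d L19239) (flp_e L19226) L21520 L23901
theorem L23907 : sm gi N2475 = N2739 := rfl
theorem L23909 : sm ga N2739 = N2492 := ded_16_1 (flp_i L21666) (flp_a L21522) L23907
theorem L23911 : sm gd N2739 = N2476 := ded_34_1 (flp_i L21526) L21520 L23907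
theorem L23913 : sm gf N2739 = N2579 := ded_41_1 (flp_i L22440) (flp_f L21524) L23907
theorem L23915 : sm ge N2477 = N2740 := rfl
theorem L23917 : sm ga N2740 = N2493 := ded_12_1 (flp_e L21672) (flp_a L21538) L23915
theorem L23919 : sm gc N2740 = N2740 := ded_25_1 (flp_e L23915) L21543 L23915
theorem L23920 : sm gg N2740 = N2479 := ded_36_2 (flp_e L21556) (flp_g L21541) L23915
theorem L23922 : sm gh N2740 = N2740 := ded_37_2 (flp_e L23915) L21544 L23915
theorem L23923 : sm gi N2477 = N2741 := rfl
theorem L23925 : sm ga N2741 = N2494 := ded_16_1 (flp_i L21678) (flp_a L21538) L23923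
theorem L23927 : sm gc N2741 = N2741 := ded_29_1 (flp_i L23923) L21543 L23923
theorem L23928 : sm gd N2741 = N2478 := ded_34_1 (flp_i L21545) L21536 L23923
theorem L23930 : sm gf N2741 = N2741 := ded_41_1 (flp_i L23923) L21540 L23923
theorem L23931 : sm gg N2741 = N2480 := ded_43_1 (flp_i L21562) (flp_g L21541) L23923
theorem L23933 : sm gi N2479 = N2742 := rfl
theorem L23935 : sm ga N2742 = N2496 := ded_16_1 (flp_i L21692) (flp_a L21558) L23933
theorem L23937 : sm gc N2742 = N2742 := ded_29_1 (flp_i L23933) L21560 L23933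
theorem L23938 : sm ge N2742 = N2480 := ded_38_1 (flp_i L21562) L21556 L23933
theorem L23940 : sm gh N2480 = N2743 := rfl
theorem L23942 : sm ga N2743 = N2497 := ded_15_1 (flp_h L21697) (flp_a L21564) L23940
theorem L23944 : sm gc N2743 = N2743 := ded_28_1 (flp_h L23940) L21566 L23940
theorem L23945 : sm gf N2743 = N2481 := ded_40_1 (flp_h L21571) (flp_f L21569) L23940
theorem L23947 : sm gi N2743 = N2743 := ded_44_2 (flp_h L23940) (flp_i L21562) L19246 L21562 L23940
theorem L23948 : sm gi N2483 = N2744 := rfl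
theorem L23950 : sm ga N2744 = N2504 := ded_16_1 (flp_i L21765) (flp_a L21595) L23948
theorem L23952 : sm gc N2744 = N2484 := ded_29_1 (flp_i L21604) L21593 L23948
theorem L23954 : sm ge N2744 = N2744 := ded_38_1 (flp_i L23948) L21597 L23948
theorem L23955 : sm gf N2744 = N2581 := ded_41_1 (flp_i L22453) (flp_f L21598) L23948
theorem L23957 : sm gg N2744 = N2486 := ded_43_1 (flp_i L21624) (flp_g L21600) L23948
theorem L23959 : sm gh N2744 = N2602 := ded_44_1 (flp_i L22591) L20365 (flp_i L19317) (flp_h L21602) L23948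
theorem L23961 : sm ge N2485 = N2745 := rfl
theorem L23963 : sm gh N2745 = N2491 := ded_37_2 (flp_e L21662) (flp_h L21622) L23961
theorem L23965 : sm gd N2745 = N2745 := ded_30_1 (flp_e L23961) (flp_d L21618) L19325 L21618 L23961
theorem L23966 : sm gi N2485 = N2746 := rfl
theorem L23968 : sm gd N2746 = N2486 := ded_34_1 (flp_i L21624) L21618 L23966
theorem L23970 : sm gf N2746 = N2584 := ded_41_1 (flp_i L22473) (flp_f L21620) L23966
theorem L23972 : sm gd N2487 = N2747 := rfl
theorem L23974 : sm ga N2747 = N2582 := ded_11_1 L22465 (flp_a L21633) L23972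
theorem L23976 : sm gf N2747 = N2488 := ded_31_2 (flp_d L21642) (flp_f L21638) L23972
theorem L23978 : sm gg N2747 = N2572 := ded_32_2 L22394 (flp_g L21640) L23972
theorem L23980 : sm gc N2747 = N2570 := ded_24_1 (flp_d L22370) L20114 (flp_d L19418) (flp_c L21635) L23972
theorem L23982 : sm gh N2747 = N2578 := ded_33_2 L22438 L20237 (flp_d L19334) L21631 L23972
theorem L23984 : sm gi N2487 = N2748 := rfl
theorem L23986 : sm ga N2748 = N2602 := ded_16_1 (flp_i L22591) (flp_a L21633) L23984
theorem L23988 : sm gc N2748 = N2501 := ded_29_1 (flp_i L21726) (flp_c L21635) L23984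
theorem L23990 : sm ge N2748 = N2748 := ded_38_1 (flp_i L23984) L21637 L23984
theorem L23991 : sm gf N2748 = N2489 := ded_41_1 (flp_i L21646) (flp_f L21638) L23984
theorem L23993 : sm gg N2748 = N2577 := ded_43_1 (flp_i L22427) (flp_g L21640) L23984
theorem L23995 : sm gh N2748 = N2504 := ded_44_1 (flp_i L21765) L19448 (flp_i L19336) L21631 L23984
theorem L23997 : sm ge N2488 = N2749 := rfl
theorem L23999 : sm gg N2749 = N2491 := ded_36_2 (flp_e L21662) (flp_g L21644) L23997
theorem L24001 : sm gd N2749 = N2493 := ded_30_1 (flp_e L21672) (flp_d L19361) (flp_e L19345) L21642 L23997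
theorem L24003 : sm gi N2488 = N2750 := rfl
theorem L24005 : sm gd N2750 = N2489 := ded_34_1 (flp_i L21646) L21642 L24003
theorem L24007 : sm gg N2750 = N2492 := ded_43_1 (flp_i L21666) (flp_g L21644) L24003
theorem L24009 : sm gb N2490 = N2751 := rfl
theorem L24011 : sm gd N2751 = N2503 := ded_18_2 (flp_b L21756) (flp_d L21660) L24009
theorem L24013 : sm gf N2751 = N2587 := ded_20_2 (flp_b L22489) (flp_f L21658) L24009
theorem L24015 : sm ge N2490 = N2752 := rfl
theorem L24017 : sm gc N2752 = N2491 := ded_25_1 (flp_e L21662) L21656 L24015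
theorem L24019 : sm gd N2752 = N2752 := ded_30_1 (flp_e L24015) L21660 L19445 (flp_d L21660) L24015
theorem L24020 : sm gi N2490 = N2753 := rfl
theorem L24022 : sm gc N2753 = N2492 := ded_29_1 (flp_i L21666) L21656 L24020
theorem L24024 : sm gd N2753 = N2504 := ded_34_1 (flp_i L21765) (flp_d L21660) L24020
theorem L24026 : sm gf N2753 = N2589 := ded_41_1 (flp_i L22499) (flp_f L21658) L24020
theorem L24028 : sm gf N2491 = N2754 := rfl
theorem L24030 : sm gd N2754 = N2495 := ded_31_1 (flp_f L21686) (flp_d L21664) L24028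
theorem L24032 : sm ge N2754 = N2590 := ded_35_1 (flp_f L22505) (flp_e L20274) (flp_f L19351) L21662 L24028
theorem L24034 : sm gi N2491 = N2755 := rfl
theorem L24036 : sm gd N2755 = N2496 := ded_34_1 (flp_i L21692) (flp_d L21664) L24034
theorem L24038 : sm ge N2755 = N2492 := ded_38_1 (flp_i L21666) L21662 L24034
theorem L24040 : sm gh N2492 = N2756 := rfl
theorem L24042 : sm gf N2756 = N2592 := ded_40_1 (flp_h L22515) (flp_f L21670) L24040
theorem L24044 : sm gf N2493 = N2757 := rfl
theorem L24046 : sm gb N2757 = N2541 := ded_20_1 (flp_f L23284) (flp_b L23289) L24044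
theorem L24048 : sm gc N2757 = N2757 := ded_26_1 (flp_f L24044) L21674 L24044
theorem L24049 : sm gh N2757 = N2757 := ded_40_2 (flp_f L24044) L21677 L24044
theorem L24050 : sm ge N2757 = N2757 := ded_35_1 (flp_f L24044) (flp_e L21672) L19363 L21672 L24044
theorem L24051 : sm gi N2493 = N2758 := rfl
theorem L24053 : sm gc N2758 = N2758 := ded_29_1 (flp_i L24051) L21674 L24051
theorem L24054 : sm ge N2758 = N2494 := ded_38_1 (flp_i L21678) L21672 L24051
theorem L24056 : sm gg N2758 = N2496 := ded_43_1 (flp_i L21692) (flp_g L21675) L24051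
theorem L24058 : sm gh N2494 = N2759 := rfl
theorem L24060 : sm gc N2759 = N2759 := ded_28_1 (flp_h L24058) L21680 L24058
theorem L24061 : sm gf N2759 = N2759 := ded_40_1 (flp_h L24058) L21683 L24058
theorem L24062 : sm gg N2759 = N2497 := ded_42_1 (flp_h L21697) (flp_g L21684) L24058
theorem L24064 : sm gd N2759 = N2616 := ded_33_1 (flp_h L22688) L20464 (flp_h L19375) (flp_d L21681) L24058
theorem L24066 : sm gi N2759 = N2759 := ded_44_2 (flp_h L24058) (flp_i L21678) L19367 L21678 L24058
theorem L24067 : sm gg N2495 = N2760 := rfl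
theorem L24069 : sm ga N2760 = N2612 := ded_14_1 (flp_g L22987) L22982 L24067
theorem L24071 : sm gc N2760 = N2760 := ded_27_1 (flp_g L24067) L21688 L24067
theorem L24072 : sm ge N2760 = N2498 := ded_36_1 (flp_g L21703) (flp_e L21690) L24067
theorem L24074 : sm gh N2760 = N2760 := ded_42_2 (flp_g L24067) L21689 L24067
theorem L24075 : sm gi N2495 = N2761 := rfl
theorem L24077 : sm gc N2761 = N2761 := ded_29_1 (flp_i L24075) L21688 L24075
theorem L24078 : sm ge N2761 = N2499 := ded_38_1 (flp_i L21712) (flp_e L21690) L24075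
theorem L24080 : sm gf N2761 = N2496 := ded_41_1 (flp_i L21692) L21686 L24075
theorem L24082 : sm gh N2496 = N2762 := rfl
theorem L24084 : sm gc N2762 = N2762 := ded_28_1 (flp_h L24082) L21694 L24082
theorem L24085 : sm ge N2762 = N2497 := ded_37_1 (flp_h L21697) (flp_e L21695) L24082
theorem L24087 : sm gi N2762 = N2762 := ded_44_2 (flp_h L24082) (flp_i L21692) L19380 L21692 L24082
theorem L24088 : sm gi N2498 = N2763 := rfl
theorem L24090 : sm ga N2763 = N2613 := ded_16_1 (flp_i L22668) (flp_a L21705) L24088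
theorem L24092 : sm gc N2763 = N2763 := ded_29_1 (flp_i L24088) L21707 L24088
theorem L24093 : sm gd N2763 = N2597 := ded_34_1 (flp_i L22550) (flp_d L21708) L24088
theorem L24095 : sm gf N2763 = N2763 := ded_41_1 (flp_i L24088) L21711 L24088
theorem L24096 : sm gg N2763 = N2499 := ded_43_1 (flp_i L21712) L21703 L24088
theorem L24098 : sm gh N2499 = N2764 := rfl
theorem L24100 : sm gc N2764 = N2764 := ded_28_1 (flp_h L24098) L21714 L24098
theorem L24101 : sm gf N2764 = N2500 := ded_40_1 (flp_h L21719) (flp_f L21717) L24098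
theorem L24103 : sm gi N2764 = N2764 := ded_44_2 (flp_h L24098) (flp_i L21712) L19393 L21712 L24098
theorem L24104 : sm ga N2503 = N2765 := rfl
theorem L24106 : sm gc N2765 = N2507 := ded_10_2 (flp_a L21795) (flp_c L21763) L24104
theorem L24108 : sm ge N2765 = N2765 := ded_12_2 (flp_a L24104) L21758 L24104
theorem L24109 : sm gf N2765 = N2595 := ded_13_2 L22534 (flp_f L21759) L24104
theorem L24111 : sm gg N2765 = N2593 := ded_14_2 (flp_a L23791) L23800 L24104
theorem L24113 : sm gh N2765 = N2510 := ded_15_2 (flp_a L21826) (flp_h L21761) L24104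
theorem L24115 : sm gi N2503 = N2766 := rfl
theorem L24117 : sm gb N2766 = N2504 := ded_23_1 (flp_i L21765) L21756 L24115
theorem L24119 : sm gc N2766 = N2508 := ded_29_1 (flp_i L21805) (flp_c L21763) L24115
theorem L24121 : sm ge N2766 = N2766 := ded_38_1 (flp_i L24115) L21758 L24115
theorem L24122 : sm gf N2766 = N2598 := ded_41_1 (flp_i L22559) (flp_f L21759) L24115
theorem L24124 : sm gi N2505 = N2767 := rfl
theorem L24126 : sm ga N2767 = N2619 := ded_16_1 (flp_i L22708) L21781 L24124
theorem L24128 : sm gb N2767 = N2506 := ded_23_1 (flp_i L21783) L21772 L24124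
theorem L24130 : sm ge N2767 = N2767 := ded_38_1 (flp_i L24124) L21774 L24124
theorem L24131 : sm gf N2767 = N2521 := ded_41_1 (flp_i L21943) (flp_f L21775) L24124
theorem L24133 : sm gg N2767 = N2508 := ded_43_1 (flp_i L21805) (flp_g L21777) L24124
theorem L24135 : sm gh N2767 = N2556 := ded_44_1 (flp_i L22261) (flp_h L19998) (flp_i L19541) (flp_h L21779) L24124
theorem L24137 : sm gi N2507 = N2768 := rfl
theorem L24139 : sm ga N2768 = N2508 := ded_16_1 (flp_i L21805) L21795 L24137
theorem L24141 : sm gb N2768 = N2768 := ded_23_1 (flp_i L24137) L21804 L24137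
theorem L24142 : sm ge N2768 = N2768 := ded_38_1 (flp_i L24137) L21797 L24137
theorem L24143 : sm gf N2768 = N2599 := ded_41_1 (flp_i L22567) (flp_f L21798) L24137
theorem L24145 : sm gg N2768 = N2619 := ded_43_1 (flp_i L22708) (flp_g L21800) L24137
theorem L24147 : sm gi N2511 = N2769 := rfl
theorem L24149 : sm ga N2769 = N2769 := ded_16_1 (flp_i L24147) L21837 L24147
theorem L24150 : sm gb N2769 = N2604 := ded_23_1 (flp_i L22604) (flp_b L21838) L24147
theorem L24152 : sm gd N2769 = N2512 := ded_34_1 (flp_i L21845) L21835 L24147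
theorem L24154 : sm ge N2769 = N2524 := ded_38_1 (flp_i L21972) (flp_e L21842) L24147
theorem L24156 : sm gg N2769 = N2514 := ded_43_1 (flp_i L21864) (flp_g L21840) L24147
theorem L24158 : sm gb N2513 = N2770 := rfl
theorem L24160 : sm gd N2770 = N2770 := ded_18_2 (flp_b L24158) L21863 L24158
theorem L24161 : sm ge N2770 = N2525 := ded_19_2 (flp_b L21979) (flp_e L21859) L24158
theorem L24163 : sm gf N2770 = N2770 := ded_20_2 (flp_b L24158) L21861 L24158
theorem L24164 : sm gh N2770 = N2770 := ded_22_2 (flp_b L24158) L21862 L24158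
theorem L24165 : sm gc N2770 = N2605 := ded_17_2 (flp_b L22612) (flp_c L20405) (flp_b L19567) L21856 L24158
theorem L24167 : sm gi N2513 = N2771 := rfl
theorem L24169 : sm ga N2771 = N2771 := ded_16_1 (flp_i L24167) L21858 L24167
theorem L24170 : sm gc N2771 = N2514 := ded_29_1 (flp_i L21864) L21856 L24167
theorem L24172 : sm gd N2771 = N2771 := ded_34_1 (flp_i L24167) L21863 L24167
theorem L24173 : sm ge N2771 = N2526 := ded_38_1 (flp_i L21986) (flp_e L21859) L24167
theorem L24175 : sm gf N2771 = N2771 := ded_41_1 (flp_i L24167) L21861 L24167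
theorem L24176 : sm gh N2514 = N2772 := rfl
theorem L24178 : sm ga N2772 = N2772 := ded_15_1 (flp_h L24176) L21866 L24176
theorem L24179 : sm gb N2772 = N2607 := ded_22_1 (flp_h L22627) (flp_b L21867) L24176
theorem L24181 : sm ge N2772 = N2527 := ded_37_1 (flp_h L21995) (flp_e L21871) L24176
theorem L24183 : sm gf N2772 = N2772 := ded_40_1 (flp_h L24176) L21873 L24176
theorem L24184 : sm gd N2772 = N2772 := ded_33_1 (flp_h L24176) L21869 L19582 (flp_d L21869) L24176
theorem L24185 : sm gi N2772 = N2772 := ded_44_2 (flp_h L24176) (flp_i L21864) L19572 L21864 L24176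
theorem L24186 : sm gd N2515 = N2773 := rfl
theorem L24188 : sm ga N2773 = N2583 := ded_11_1 L22471 (flp_a L21876) L24186
theorem L24190 : sm gb N2773 = N2568 := ded_18_1 (flp_d L22350) (flp_b L21878) L24186
theorem L24192 : sm gg N2773 = N2573 := ded_32_2 L22400 (flp_g L21883) L24186
theorem L24194 : sm ge N2773 = N2570 := ded_30_2 (flp_d L22370) L20116 L20130 (flp_e L21881) L24186
theorem L24196 : sm gh N2773 = N2517 := ded_33_2 (flp_d L21897) (flp_h L19622) L19595 L21874 L24186
theorem L24198 : sm gi N2515 = N2774 := rfl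
theorem L24200 : sm ga N2774 = N2621 := ded_16_1 (flp_i L22720) (flp_a L21876) L24198
theorem L24202 : sm gb N2774 = N2569 := ded_23_1 (flp_i L22358) (flp_b L21878) L24198
theorem L24204 : sm gc N2774 = N2774 := ded_29_1 (flp_i L24198) L21880 L24198
theorem L24205 : sm ge N2774 = N2575 := ded_38_1 (flp_i L22406) (flp_e L21881) L24198
theorem L24207 : sm gg N2774 = N2576 := ded_43_1 (flp_i L22420) (flp_g L21883) L24198
theorem L24209 : sm gh N2774 = N2544 := ded_44_1 (flp_i L22166) (flp_h L19910) (flp_i L19601) L21874 L24198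
theorem L24211 : sm gd N2516 = N2775 := rfl
theorem L24213 : sm ga N2775 = N2585 := ded_11_1 L22481 (flp_a L21887) L24211
theorem L24215 : sm gb N2775 = N2570 := ded_18_1 (flp_d L22370) (flp_b L21889) L24211
theorem L24217 : sm gg N2775 = N2517 := ded_32_2 (flp_d L21897) (flp_g L21895) L24211
theorem L24219 : sm ge N2775 = N2568 := ded_30_2 (flp_d L22350) L20106 (flp_d L19643) (flp_e L21893) L24211
theorem L24221 : sm gh N2775 = N2573 := ded_33_2 L22400 L20158 (flp_d L19616) L21885 L24211
theorem L24223 : sm gi N2516 = N2776 := rfl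
theorem L24225 : sm ga N2776 = N2594 := ded_16_1 (flp_i L22524) (flp_a L21887) L24223
theorem L24227 : sm gb N2776 = N2571 := ded_23_1 (flp_i L22378) (flp_b L21889) L24223
theorem L24229 : sm gc N2776 = N2521 := ded_29_1 (flp_i L21943) (flp_c L21891) L24223
theorem L24231 : sm ge N2776 = N2519 := ded_38_1 (flp_i L21917) (flp_e L21893) L24223
theorem L24233 : sm gg N2776 = N2518 := ded_43_1 (flp_i L21905) (flp_g L21895) L24223
theorem L24235 : sm gh N2776 = N2547 := ded_44_1 (flp_i L22188) (flp_h L19924) (flp_i L19620) L21885 L24223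
theorem L24237 : sm gc N2517 = N2777 := rfl
theorem L24239 : sm ga N2777 = N2588 := ded_10_1 L22495 (flp_a L21899) L24237
theorem L24241 : sm ge N2777 = N2578 := ded_25_2 (flp_c L22434) (flp_e L21903) L24237
theorem L24243 : sm gd N2777 = N2522 := ded_24_2 (flp_c L21955) (flp_d L19669) (flp_c L19628) L21897 L24237
theorem L24245 : sm gi N2517 = N2778 := rfl
theorem L24247 : sm ga N2778 = N2591 := ded_16_1 (flp_i L22509) (flp_a L21899) L24245
theorem L24249 : sm gb N2778 = N2574 := ded_23_1 (flp_i L22402) (flp_b L21901) L24245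
theorem L24251 : sm gd N2778 = N2518 := ded_34_1 (flp_i L21905) L21897 L24245
theorem L24253 : sm ge N2778 = N2579 := ded_38_1 (flp_i L22440) (flp_e L21903) L24245
theorem L24255 : sm gi N2520 = N2779 := rfl
theorem L24257 : sm ga N2779 = N2610 := ded_16_1 (flp_i L22646) (flp_a L21934) L24255
theorem L24259 : sm gb N2779 = N2524 := ded_23_1 (flp_i L21972) (flp_b L21936) L24255
theorem L24261 : sm gd N2779 = N2521 := ded_34_1 (flp_i L21943) L21932 L24255
theorem L24263 : sm ge N2779 = N2604 := ded_38_1 (flp_i L22604) (flp_e L21940) L24255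
theorem L24265 : sm gg N2779 = N2523 := ded_43_1 (flp_i L21962) (flp_g L21938) L24255
theorem L24267 : sm gb N2522 = N2780 := rfl
theorem L24269 : sm ge N2780 = N2605 := ded_19_2 (flp_b L22612) (flp_e L21959) L24267
theorem L24271 : sm gf N2780 = N2557 := ded_20_2 (flp_b L23028) L23023 L24267
theorem L24273 : sm gh N2780 = N2780 := ded_22_2 (flp_b L24267) L21961 L24267
theorem L24274 : sm gc N2780 = N2525 := ded_17_2 (flp_b L21979) (flp_c L19718) (flp_b L19673) L21955 L24267
theorem L24276 : sm gi N2522 = N2781 := rfl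
theorem L24278 : sm ga N2781 = N2615 := ded_16_1 (flp_i L22682) (flp_a L21957) L24276
theorem L24280 : sm gc N2781 = N2523 := ded_29_1 (flp_i L21962) L21955 L24276
theorem L24282 : sm ge N2781 = N2606 := ded_38_1 (flp_i L22618) (flp_e L21959) L24276
theorem L24284 : sm gh N2523 = N2782 := rfl
theorem L24286 : sm ga N2782 = N2618 := ded_15_1 (flp_h L22702) (flp_a L21964) L24284
theorem L24288 : sm gb N2782 = N2527 := ded_22_1 (flp_h L21995) (flp_b L21966) L24284
theorem L24290 : sm ge N2782 = N2607 := ded_37_1 (flp_h L22627) (flp_e L21970) L24284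
theorem L24292 : sm gd N2782 = N2561 := ded_33_1 (flp_h L22294) L20029 (flp_h L19686) (flp_d L21968) L24284
theorem L24294 : sm gi N2782 = N2782 := ded_44_2 (flp_h L24284) (flp_i L21962) L19677 L21962 L24284
theorem L24295 : sm gh N2524 = N2783 := rfl
theorem L24297 : sm ga N2783 = N2783 := ded_15_1 (flp_h L24295) L21974 L24295
theorem L24298 : sm gg N2783 = N2527 := ded_42_1 (flp_h L21995) (flp_g L21977) L24295
theorem L24300 : sm gd N2783 = N2562 := ded_33_1 (flp_h L22300) L20043 (flp_h L19716) (flp_d L21975) L24295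
theorem L24302 : sm gi N2783 = N2783 := ded_44_2 (flp_h L24295) (flp_i L21972) L19706 L21972 L24295
theorem L24303 : sm ga N2525 = N2784 := rfl
theorem L24305 : sm gd N2784 = N2538 := ded_11_2 L22120 (flp_d L21981) L24303
theorem L24307 : sm gf N2784 = N2539 := ded_13_2 L22128 (flp_f L21983) L24303
theorem L24309 : sm gh N2784 = N2784 := ded_15_2 (flp_a L24303) L21985 L24303
theorem L24310 : sm gb N2784 = N2784 := ded_9_2 (flp_a L24303) (flp_b L21979) L19720 L21979 L24303
theorem L24311 : sm gi N2525 = N2785 := rfl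
theorem L24313 : sm gb N2785 = N2526 := ded_23_1 (flp_i L21986) L21979 L24311
theorem L24315 : sm gd N2785 = N2556 := ded_34_1 (flp_i L22261) (flp_d L21981) L24311
theorem L24317 : sm gf N2785 = N2558 := ded_41_1 (flp_i L22274) (flp_f L21983) L24311
theorem L24319 : sm gh N2526 = N2786 := rfl
theorem L24321 : sm ga N2786 = N2786 := ded_15_1 (flp_h L24319) L21988 L24319
theorem L24322 : sm gc N2786 = N2527 := ded_28_1 (flp_h L21995) (flp_c L21989) L24319
theorem L24324 : sm gf N2786 = N2562 := ded_40_1 (flp_h L22300) (flp_f L21993) L24319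
theorem L24326 : sm gi N2786 = N2786 := ded_44_2 (flp_h L24319) (flp_i L21986) L19723 L21986 L24319
theorem L24327 : sm gd N2528 = N2787 := rfl
theorem L24329 : sm ga N2787 = N2573 := ded_11_1 L22400 (flp_a L22003) L24327
theorem L24331 : sm gb N2787 = N2533 := ded_18_1 (flp_d L22063) (flp_b L22005) L24327
theorem L24333 : sm gg N2787 = N2583 := ded_32_2 L22471 (flp_g L22010) L24327
theorem L24335 : sm ge N2787 = N2566 := ded_30_2 (flp_d L22330) L20073 (flp_d L19755) (flp_e L22008) L24327
theorem L24337 : sm gh N2787 = N2585 := ded_33_2 L22481 L20288 (flp_d L19742) L22001 L24327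
theorem L24339 : sm gi N2528 = N2788 := rfl
theorem L24341 : sm ga N2788 = N2576 := ded_16_1 (flp_i L22420) (flp_a L22003) L24339
theorem L24343 : sm gb N2788 = N2534 := ded_23_1 (flp_i L22067) (flp_b L22005) L24339
theorem L24345 : sm gc N2788 = N2788 := ded_29_1 (flp_i L24339) L22007 L24339
theorem L24346 : sm ge N2788 = N2529 := ded_38_1 (flp_i L22012) (flp_e L22008) L24339
theorem L24348 : sm gg N2788 = N2621 := ded_43_1 (flp_i L22720) (flp_g L22010) L24339
theorem L24350 : sm gh N2788 = N2553 := ded_44_1 (flp_i L22237) L19972 (flp_i L19740) L22001 L24339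
theorem L24352 : sm gd N2530 = N2789 := rfl
theorem L24354 : sm ga N2789 = N2543 := ded_11_1 (flp_d L22160) (flp_a L22029) L24352
theorem L24356 : sm gb N2789 = N2585 := ded_18_1 L22481 (flp_b L22031) L24352
theorem L24358 : sm gg N2789 = N2549 := ded_32_2 L22206 (flp_g L22036) L24352
theorem L24360 : sm ge N2789 = N2546 := ded_30_2 (flp_d L22182) L19930 L19946 (flp_e L22034) L24352
theorem L24362 : sm gh N2789 = N2533 := ded_33_2 (flp_d L22063) (flp_h L19796) L19769 L22027 L24352
theorem L24364 : sm gi N2530 = N2790 := rfl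
theorem L24366 : sm ga N2790 = N2544 := ded_16_1 (flp_i L22166) (flp_a L22029) L24364
theorem L24368 : sm gb N2790 = N2594 := ded_23_1 (flp_i L22524) (flp_b L22031) L24364
theorem L24370 : sm gc N2790 = N2790 := ded_29_1 (flp_i L24364) L22033 L24364
theorem L24371 : sm ge N2790 = N2551 := ded_38_1 (flp_i L22214) (flp_e L22034) L24364
theorem L24373 : sm gg N2790 = N2553 := ded_43_1 (flp_i L22237) (flp_g L22036) L24364
theorem L24375 : sm gh N2790 = N2621 := ded_44_1 (flp_i L22720) L20548 (flp_i L19775) L22027 L24364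
theorem L24377 : sm gh N2531 = N2791 := rfl
theorem L24379 : sm ga N2791 = N2545 := ded_15_1 (flp_h L22173) (flp_a L22040) L24377
theorem L24381 : sm gb N2791 = N2620 := ded_22_1 L22717 (flp_b L22042) L24377
theorem L24383 : sm gc N2791 = N2538 := ded_28_1 (flp_h L22118) (flp_c L22044) L24377
theorem L24385 : sm ge N2791 = N2791 := ded_37_1 (flp_h L24377) L22050 L24377
theorem L24386 : sm gf N2791 = N2532 := ded_40_1 (flp_h L22051) L22038 L24377
theorem L24388 : sm gd N2532 = N2792 := rfl
theorem L24390 : sm ga N2792 = N2546 := ded_11_1 (flp_d L22182) (flp_a L22053) L24388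
theorem L24392 : sm gb N2792 = N2583 := ded_18_1 L22471 (flp_b L22055) L24388
theorem L24394 : sm gg N2792 = N2533 := ded_32_2 (flp_d L22063) (flp_g L22061) L24388
theorem L24396 : sm ge N2792 = N2543 := ded_30_2 (flp_d L22160) L19915 (flp_d L19815) (flp_e L22059) L24388
theorem L24398 : sm gh N2792 = N2549 := ded_33_2 L22206 L19972 (flp_d L19790) L22051 L24388
theorem L24400 : sm gi N2532 = N2793 := rfl
theorem L24402 : sm ga N2793 = N2547 := ded_16_1 (flp_i L22188) (flp_a L22053) L24400
theorem L24404 : sm gb N2793 = N2621 := ded_23_1 (flp_i L22720) (flp_b L22055) L24400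
theorem L24406 : sm gc N2793 = N2540 := ded_29_1 (flp_i L22135) (flp_c L22057) L24400
theorem L24408 : sm ge N2793 = N2535 := ded_38_1 (flp_i L22077) (flp_e L22059) L24400
theorem L24410 : sm gg N2793 = N2534 := ded_43_1 (flp_i L22067) (flp_g L22061) L24400
theorem L24412 : sm gh N2793 = N2594 := ded_44_1 (flp_i L22524) L20288 (flp_i L19794) L22051 L24400
theorem L24414 : sm gc N2533 = N2794 := rfl
theorem L24416 : sm ga N2794 = N2548 := ded_10_1 (flp_c L22198) (flp_a L22065) L24414
theorem L24418 : sm gd N2794 = N2541 := ded_24_2 (flp_c L22146) (flp_d L19870) (flp_c L19800) L22063 L24414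
theorem L24420 : sm ge N2533 = N2795 := rfl
theorem L24422 : sm ga N2795 = N2549 := ded_12_1 (flp_e L22202) (flp_a L22065) L24420
theorem L24424 : sm gb N2795 = N2566 := ded_19_1 (flp_e L24335) L24331 L24420
theorem L24426 : sm gg N2795 = N2543 := ded_36_2 (flp_e L24396) L24394 L24420
theorem L24428 : sm gh N2795 = N2546 := ded_37_2 (flp_e L24360) L24362 L24420
theorem L24430 : sm gd N2795 = N2536 := ded_30_1 (flp_e L22092) (flp_d L19817) (flp_e L19802) L22063 L24420
theorem L24432 : sm gi N2533 = N2796 := rfl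
theorem L24434 : sm ga N2796 = N2550 := ded_16_1 (flp_i L22208) (flp_a L22065) L24432
theorem L24436 : sm gd N2796 = N2534 := ded_34_1 (flp_i L22067) L22063 L24432
theorem L24438 : sm gi N2536 = N2797 := rfl
theorem L24440 : sm ga N2797 = N2553 := ded_16_1 (flp_i L22237) (flp_a L22094) L24438
theorem L24442 : sm gb N2797 = N2567 := ded_23_1 (flp_i L22338) (flp_b L22096) L24438
theorem L24444 : sm gc N2797 = N2797 := ded_29_1 (flp_i L24438) L22098 L24438
theorem L24445 : sm ge N2797 = N2537 := ded_38_1 (flp_i L22103) L22092 L24438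
theorem L24447 : sm gg N2797 = N2544 := ded_43_1 (flp_i L22166) (flp_g L22099) L24438
theorem L24449 : sm gh N2797 = N2576 := ded_44_1 (flp_i L22420) L20158 (flp_i L19908) (flp_h L22101) L24438
theorem L24451 : sm gi N2538 = N2798 := rfl
theorem L24453 : sm ga N2798 = N2556 := ded_16_1 (flp_i L22261) (flp_a L22120) L24451
theorem L24455 : sm gb N2798 = N2798 := ded_23_1 (flp_i L24451) L22122 L24451
theorem L24456 : sm ge N2798 = N2798 := ded_38_1 (flp_i L24451) L22123 L24451
theorem L24457 : sm gf N2798 = N2540 := ded_41_1 (flp_i L22135) (flp_f L22124) L24451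
theorem L24459 : sm gh N2798 = N2619 := ded_44_1 (flp_i L22708) L20490 (flp_i L19858) L22118 L24451
theorem L24461 : sm gc N2539 = N2799 := rfl
theorem L24463 : sm ga N2799 = N2557 := ded_10_1 (flp_c L22268) (flp_a L22128) L24461
theorem L24465 : sm ge N2799 = N2799 := ded_25_2 (flp_c L24461) L22133 L24461
theorem L24466 : sm gg N2799 = N2541 := ded_27_2 (flp_c L22146) (flp_g L22131) L24461
theorem L24468 : sm gh N2799 = N2799 := ded_28_2 (flp_c L24461) L22134 L24461
theorem L24469 : sm gi N2539 = N2800 := rfl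
theorem L24471 : sm ga N2800 = N2558 := ded_16_1 (flp_i L22274) (flp_a L22128) L24469
theorem L24473 : sm gb N2800 = N2800 := ded_23_1 (flp_i L24469) L22130 L24469
theorem L24474 : sm gd N2800 = N2540 := ded_34_1 (flp_i L22135) L22126 L24469
theorem L24476 : sm ge N2800 = N2800 := ded_38_1 (flp_i L24469) L22133 L24469
theorem L24477 : sm gg N2800 = N2542 := ded_43_1 (flp_i L22152) (flp_g L22131) L24469
theorem L24479 : sm gi N2541 = N2801 := rfl
theorem L24481 : sm ga N2801 = N2560 := ded_16_1 (flp_i L22289) (flp_a L22148) L24479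
theorem L24483 : sm gc N2801 = N2542 := ded_29_1 (flp_i L22152) L22146 L24479
theorem L24485 : sm ge N2801 = N2801 := ded_38_1 (flp_i L24479) L22150 L24479
theorem L24486 : sm gh N2542 = N2802 := rfl
theorem L24488 : sm ga N2802 = N2561 := ded_15_1 (flp_h L22294) (flp_a L22154) L24486
theorem L24490 : sm gb N2802 = N2802 := ded_22_1 (flp_h L24486) L22156 L24486
theorem L24491 : sm ge N2802 = N2802 := ded_37_1 (flp_h L24486) L22159 L24486
theorem L24492 : sm gd N2802 = N2618 := ded_33_1 (flp_h L22702) L20477 (flp_h L19884) (flp_d L22157) L24486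
theorem L24494 : sm gi N2802 = N2802 := ded_44_2 (flp_h L24486) (flp_i L22152) L19876 L22152 L24486
theorem L24495 : sm gc N2543 = N2803 := rfl
theorem L24497 : sm gh N2803 = N2548 := ded_28_2 (flp_c L22198) (flp_h L22164) L24495
theorem L24499 : sm gd N2803 = N2803 := ded_24_2 (flp_c L24495) (flp_d L22160) L19914 L22160 L24495
theorem L24500 : sm gi N2543 = N2804 := rfl
theorem L24502 : sm gb N2804 = N2584 := ded_23_1 (flp_i L22473) (flp_b L22162) L24500
theorem L24504 : sm gd N2804 = N2544 := ded_34_1 (flp_i L22166) L22160 L24500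
theorem L24506 : sm gd N2545 = N2805 := rfl
theorem L24508 : sm gb N2805 = N2572 := ded_18_1 L22394 (flp_b L22175) L24506
theorem L24510 : sm gf N2805 = N2546 := ded_31_2 (flp_d L22182) (flp_f L22180) L24506
theorem L24512 : sm gi N2545 = N2806 := rfl
theorem L24514 : sm gb N2806 = N2577 := ded_23_1 (flp_i L22427) (flp_b L22175) L24512
theorem L24516 : sm gc N2806 = N2556 := ded_29_1 (flp_i L22261) (flp_c L22177) L24512
theorem L24518 : sm ge N2806 = N2806 := ded_38_1 (flp_i L24512) L22179 L24512
theorem L24519 : sm gf N2806 = N2547 := ded_41_1 (flp_i L22188) (flp_f L22180) L24512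
theorem L24521 : sm gc N2546 = N2807 := rfl
theorem L24523 : sm gg N2807 = N2548 := ded_27_2 (flp_c L22198) (flp_g L22186) L24521
theorem L24525 : sm gd N2807 = N2557 := ded_24_2 (flp_c L22268) (flp_d L20005) (flp_c L19928) L22182 L24521
theorem L24527 : sm gi N2546 = N2808 := rfl
theorem L24529 : sm gb N2808 = N2586 := ded_23_1 (flp_i L22483) (flp_b L22184) L24527
theorem L24531 : sm gd N2808 = N2547 := ded_34_1 (flp_i L22188) L22182 L24527
theorem L24533 : sm gg N2808 = N2550 := ded_43_1 (flp_i L22208) (flp_g L22186) L24527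
theorem L24535 : sm gb N2548 = N2809 := rfl
theorem L24537 : sm gd N2809 = N2559 := ded_18_2 (flp_b L22283) (flp_d L22200) L24535
theorem L24539 : sm gc N2809 = N2587 := ded_17_2 (flp_b L22489) (flp_c L20270) (flp_b L19936) L22198 L24535
theorem L24541 : sm ge N2548 = N2810 := rfl
theorem L24543 : sm gc N2810 = N2549 := ded_25_1 (flp_e L22202) L22198 L24541
theorem L24545 : sm gd N2810 = N2810 := ded_30_1 (flp_e L24541) L22200 L20023 (flp_d L22200) L24541
theorem L24546 : sm gi N2548 = N2811 := rfl
theorem L24548 : sm gc N2811 = N2550 := ded_29_1 (flp_i L22208) L22198 L24546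
theorem L24550 : sm gd N2811 = N2560 := ded_34_1 (flp_i L22289) (flp_d L22200) L24546
theorem L24552 : sm gf N2549 = N2812 := rfl
theorem L24554 : sm gb N2812 = N2590 := ded_20_1 (flp_f L22505) (flp_b L22204) L24552
theorem L24556 : sm gd N2812 = N2552 := ded_31_1 (flp_f L22228) (flp_d L22206) L24552
theorem L24558 : sm gi N2549 = N2813 := rfl
theorem L24560 : sm gb N2813 = N2591 := ded_23_1 (flp_i L22509) (flp_b L22204) L24558
theorem L24562 : sm gd N2813 = N2553 := ded_34_1 (flp_i L22237) (flp_d L22206) L24558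
theorem L24564 : sm ge N2813 = N2550 := ded_38_1 (flp_i L22208) L22202 L24558
theorem L24566 : sm gh N2550 = N2814 := rfl
theorem L24568 : sm gb N2814 = N2592 := ded_22_1 (flp_h L22515) (flp_b L22210) L24566
theorem L24570 : sm gg N2552 = N2815 := rfl
theorem L24572 : sm ga N2815 = N2580 := ded_14_1 (flp_g L23624) L23615 L24570
theorem L24574 : sm gb N2815 = N2595 := ded_21_1 (flp_g L22532) (flp_b L22230) L24570
theorem L24576 : sm gc N2815 = N2815 := ded_27_1 (flp_g L24570) L22232 L24570
theorem L24577 : sm ge N2815 = N2554 := ded_36_1 (flp_g L22244) (flp_e L22235) L24570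
theorem L24579 : sm gh N2815 = N2600 := ded_42_2 L22581 (flp_h L22233) L24570
theorem L24581 : sm gi N2552 = N2816 := rfl
theorem L24583 : sm gb N2816 = N2596 := ded_23_1 (flp_i L22542) (flp_b L22230) L24581
theorem L24585 : sm gc N2816 = N2816 := ded_29_1 (flp_i L24581) L22232 L24581
theorem L24586 : sm ge N2816 = N2555 := ded_38_1 (flp_i L22254) (flp_e L22235) L24581
theorem L24588 : sm gf N2816 = N2553 := ded_41_1 (flp_i L22237) L22228 L24581
theorem L24590 : sm gi N2554 = N2817 := rfl
theorem L24592 : sm ga N2817 = N2608 := ded_16_1 (flp_i L22634) (flp_a L22246) L24590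
theorem L24594 : sm gb N2817 = N2597 := ded_23_1 (flp_i L22550) (flp_b L22248) L24590
theorem L24596 : sm gc N2817 = N2817 := ded_29_1 (flp_i L24590) L22250 L24590
theorem L24597 : sm gf N2817 = N2817 := ded_41_1 (flp_i L24590) L22253 L24590
theorem L24598 : sm gg N2817 = N2555 := ded_43_1 (flp_i L22254) L22244 L24590
theorem L24600 : sm gi N2557 = N2818 := rfl
theorem L24602 : sm gc N2818 = N2558 := ded_29_1 (flp_i L22274) L22268 L24600
theorem L24604 : sm ge N2818 = N2818 := ded_38_1 (flp_i L24600) L22270 L24600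
theorem L24605 : sm gg N2818 = N2560 := ded_43_1 (flp_i L22289) (flp_g L22271) L24600
theorem L24607 : sm gh N2558 = N2819 := rfl
theorem L24609 : sm gb N2819 = N2562 := ded_22_1 (flp_h L22300) (flp_b L22276) L24607
theorem L24611 : sm ge N2819 = N2819 := ded_37_1 (flp_h L24607) L22280 L24607
theorem L24612 : sm gg N2819 = N2561 := ded_42_1 (flp_h L22294) (flp_g L22281) L24607
theorem L24614 : sm gi N2819 = N2819 := ded_44_2 (flp_h L24607) (flp_i L22274) L20012 L22274 L24607
theorem L24615 : sm ga N2559 = N2820 := rfl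
theorem L24617 : sm gc N2820 = N2563 := ded_10_2 (flp_a L22307) (flp_c L22287) L24615
theorem L24619 : sm ge N2820 = N2820 := ded_12_2 (flp_a L24615) L22285 L24615
theorem L24620 : sm gg N2820 = N2614 := ded_14_2 (flp_a L23020) L23025 L24615
theorem L24622 : sm gh N2820 = N2820 := ded_15_2 (flp_a L24615) L22286 L24615
theorem L24623 : sm gi N2559 = N2821 := rfl
theorem L24625 : sm gb N2821 = N2560 := ded_23_1 (flp_i L22289) L22283 L24623
theorem L24627 : sm gc N2821 = N2564 := ded_29_1 (flp_i L22316) (flp_c L22287) L24623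
theorem L24629 : sm ge N2821 = N2821 := ded_38_1 (flp_i L24623) L22285 L24623
theorem L24630 : sm gh N2560 = N2822 := rfl
theorem L24632 : sm gc N2822 = N2561 := ded_28_1 (flp_h L22294) (flp_c L22291) L24630
theorem L24634 : sm ge N2822 = N2822 := ded_37_1 (flp_h L24630) L22293 L24630
theorem L24635 : sm gi N2822 = N2822 := ded_44_2 (flp_h L24630) (flp_i L22289) L20024 L22289 L24630
theorem L24636 : sm gi N2563 = N2823 := rfl
theorem L24638 : sm ga N2823 = N2564 := ded_16_1 (flp_i L22316) L22307 L24636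
theorem L24640 : sm gb N2823 = N2823 := ded_23_1 (flp_i L24636) L22315 L24636
theorem L24641 : sm gd N2823 = N2599 := ded_34_1 (flp_i L22567) (flp_d L22309) L24636
theorem L24643 : sm ge N2823 = N2823 := ded_38_1 (flp_i L24636) L22311 L24636
theorem L24644 : sm gg N2823 = N2617 := ded_43_1 (flp_i L22694) (flp_g L22312) L24636
theorem L24646 : sm gh N2564 = N2824 := rfl
theorem L24648 : sm gb N2824 = N2565 := ded_22_1 (flp_h L22323) (flp_b L22318) L24646
theorem L24650 : sm ge N2824 = N2824 := ded_37_1 (flp_h L24646) L22322 L24646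
theorem L24651 : sm gi N2824 = N2824 := ded_44_2 (flp_h L24646) (flp_i L22316) L20053 L22316 L24646
theorem L24652 : sm gi N2566 = N2825 := rfl
theorem L24654 : sm ga N2825 = N2574 := ded_16_1 (flp_i L22402) (flp_a L22332) L24652
theorem L24656 : sm gd N2825 = N2567 := ded_34_1 (flp_i L22338) L22330 L24652
theorem L24658 : sm gg N2825 = N2584 := ded_43_1 (flp_i L22473) (flp_g L22334) L24652
theorem L24660 : sm gi N2568 = N2826 := rfl
theorem L24662 : sm ga N2826 = N2586 := ded_16_1 (flp_i L22483) (flp_a L22352) L24660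
theorem L24664 : sm gd N2826 = N2569 := ded_34_1 (flp_i L22358) L22350 L24660
theorem L24666 : sm gg N2826 = N2579 := ded_43_1 (flp_i L22440) (flp_g L22354) L24660
theorem L24668 : sm gi N2570 = N2827 := rfl
theorem L24670 : sm ga N2827 = N2584 := ded_16_1 (flp_i L22473) (flp_a L22372) L24668
theorem L24672 : sm gd N2827 = N2571 := ded_34_1 (flp_i L22378) L22370 L24668
theorem L24674 : sm gg N2827 = N2574 := ded_43_1 (flp_i L22402) (flp_g L22374) L24668
theorem L24676 : sm ge N2572 = N2828 := rfl
theorem L24678 : sm gc N2828 = N2573 := ded_25_1 (flp_e L22396) L22390 L24676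
theorem L24680 : sm gd N2828 = N2828 := ded_30_1 (flp_e L24676) L22394 L20183 (flp_d L22394) L24676
theorem L24681 : sm gi N2572 = N2829 := rfl
theorem L24683 : sm gc N2829 = N2574 := ded_29_1 (flp_i L22402) L22390 L24681
theorem L24685 : sm gd N2829 = N2577 := ded_34_1 (flp_i L22427) (flp_d L22394) L24681
theorem L24687 : sm gf N2829 = N2586 := ded_41_1 (flp_i L22483) (flp_f L22392) L24681
theorem L24689 : sm gi N2573 = N2830 := rfl
theorem L24691 : sm gb N2830 = N2579 := ded_23_1 (flp_i L22440) (flp_b L22398) L24689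
theorem L24693 : sm gd N2830 = N2576 := ded_34_1 (flp_i L22420) (flp_d L22400) L24689
theorem L24695 : sm ge N2830 = N2574 := ded_38_1 (flp_i L22402) L22396 L24689
theorem L24697 : sm gh N2574 = N2831 := rfl
theorem L24699 : sm gd N2831 = N2592 := ded_33_1 (flp_h L22515) L20280 (flp_h L20128) (flp_d L22404) L24697
theorem L24701 : sm gb N2578 = N2832 := rfl
theorem L24703 : sm gd N2832 = N2580 := ded_18_2 (flp_b L22446) (flp_d L22438) L24701
theorem L24705 : sm gi N2578 = N2833 := rfl
theorem L24707 : sm ga N2833 = N2589 := ded_16_1 (flp_i L22499) (flp_a L22436) L24705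
theorem L24709 : sm gc N2833 = N2579 := ded_29_1 (flp_i L22440) L22434 L24705
theorem L24711 : sm gd N2833 = N2581 := ded_34_1 (flp_i L22453) (flp_d L22438) L24705
theorem L24713 : sm gh N2579 = N2834 := rfl
theorem L24715 : sm ga N2834 = N2592 := ded_15_1 (flp_h L22515) (flp_a L22442) L24713
theorem L24717 : sm gi N2580 = N2835 := rfl
theorem L24719 : sm gb N2835 = N2581 := ded_23_1 (flp_i L22453) L22446 L24717
theorem L24721 : sm gc N2835 = N2835 := ded_29_1 (flp_i L24717) L22452 L24717
theorem L24722 : sm ge N2835 = N2608 := ded_38_1 (flp_i L22634) (flp_e L22448) L24717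
theorem L24724 : sm gb N2582 = N2836 := rfl
theorem L24726 : sm gd N2836 = N2601 := ded_18_2 (flp_b L22585) (flp_d L22465) L24724
theorem L24728 : sm gh N2836 = N2587 := ded_22_2 (flp_b L22489) (flp_h L22463) L24724
theorem L24730 : sm ge N2582 = N2837 := rfl
theorem L24732 : sm gc N2837 = N2583 := ded_25_1 (flp_e L22467) L22461 L24730
theorem L24734 : sm gh N2837 = N2588 := ded_37_2 (flp_e L22493) (flp_h L22463) L24730
theorem L24736 : sm gd N2837 = N2837 := ded_30_1 (flp_e L24730) L22465 L20364 (flp_d L22465) L24730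
theorem L24737 : sm gi N2582 = N2838 := rfl
theorem L24739 : sm gc N2838 = N2584 := ded_29_1 (flp_i L22473) L22461 L24737
theorem L24741 : sm gd N2838 = N2602 := ded_34_1 (flp_i L22591) (flp_d L22465) L24737
theorem L24743 : sm gf N2583 = N2839 := rfl
theorem L24745 : sm gd N2839 = N2620 := ded_31_1 (flp_f L22714) (flp_d L22471) L24743
theorem L24747 : sm gh N2839 = N2590 := ded_40_2 (flp_f L22505) (flp_h L22469) L24743
theorem L24749 : sm gi N2583 = N2840 := rfl
theorem L24751 : sm gd N2840 = N2621 := ded_34_1 (flp_i L22720) (flp_d L22471) L24749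
theorem L24753 : sm ge N2840 = N2584 := ded_38_1 (flp_i L22473) L22467 L24749
theorem L24755 : sm gh N2584 = N2841 := rfl
theorem L24757 : sm gi N2841 = N2592 := ded_44_2 (flp_h L22515) (flp_i L20278) (flp_h L20250) L22473 L24755
theorem L24759 : sm gf N2585 = N2842 := rfl
theorem L24761 : sm gd N2842 = N2593 := ded_31_1 (flp_f L22517) (flp_d L22481) L24759
theorem L24763 : sm gi N2585 = N2843 := rfl
theorem L24765 : sm gd N2843 = N2594 := ded_34_1 (flp_i L22524) (flp_d L22481) L24763
theorem L24767 : sm ge N2843 = N2586 := ded_38_1 (flp_i L22483) L22477 L24763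
theorem L24769 : sm gg N2843 = N2591 := ded_43_1 (flp_i L22509) (flp_g L22479) L24763
theorem L24771 : sm gh N2586 = N2844 := rfl
theorem L24773 : sm gg N2844 = N2592 := ded_42_1 (flp_h L22515) (flp_g L22487) L24771
theorem L24775 : sm ga N2587 = N2845 := rfl
theorem L24777 : sm gd N2845 = N2595 := ded_11_2 L22534 (flp_d L22491) L24775
theorem L24779 : sm gg N2845 = N2590 := ded_14_2 (flp_a L22956) L22962 L24775
theorem L24781 : sm ge N2587 = N2846 := rfl
theorem L24783 : sm gb N2846 = N2588 := ded_19_1 (flp_e L22493) L22489 L24781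
theorem L24785 : sm gd N2846 = N2612 := ded_30_1 (flp_e L22662) L20450 (flp_e L20330) (flp_d L22491) L24781
theorem L24787 : sm gi N2587 = N2847 := rfl
theorem L24789 : sm gb N2847 = N2589 := ded_23_1 (flp_i L22499) L22489 L24787
theorem L24791 : sm gd N2847 = N2598 := ded_34_1 (flp_i L22559) (flp_d L22491) L24787
theorem L24793 : sm gf N2588 = N2848 := rfl
theorem L24795 : sm gc N2848 = N2590 := ded_26_1 (flp_f L22505) (flp_c L22495) L24793
theorem L24797 : sm gd N2848 = N2614 := ded_31_1 (flp_f L22676) (flp_d L22497) L24793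
theorem L24799 : sm gi N2588 = N2849 := rfl
theorem L24801 : sm gc N2849 = N2591 := ded_29_1 (flp_i L22509) (flp_c L22495) L24799
theorem L24803 : sm gd N2849 = N2615 := ded_34_1 (flp_i L22682) (flp_d L22497) L24799
theorem L24805 : sm ge N2849 = N2589 := ded_38_1 (flp_i L22499) L22493 L24799
theorem L24807 : sm gh N2589 = N2850 := rfl
theorem L24809 : sm gc N2850 = N2592 := ded_28_1 (flp_h L22515) (flp_c L22501) L24807
theorem L24811 : sm gi N2590 = N2851 := rfl
theorem L24813 : sm gd N2851 = N2596 := ded_34_1 (flp_i L22542) (flp_d L22507) L24811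
theorem L24815 : sm gf N2851 = N2591 := ded_41_1 (flp_i L22509) L22505 L24811
theorem L24817 : sm gh N2591 = N2852 := rfl
theorem L24819 : sm ge N2852 = N2592 := ded_37_1 (flp_h L22515) (flp_e L22513) L24817
theorem L24821 : sm gi N2593 = N2853 := rfl
theorem L24823 : sm gc N2853 = N2619 := ded_29_1 (flp_i L22708) (flp_c L22519) L24821
theorem L24825 : sm ge N2853 = N2853 := ded_38_1 (flp_i L24821) L22523 L24821
theorem L24826 : sm gf N2853 = N2594 := ded_41_1 (flp_i L22524) L22517 L24821
theorem L24828 : sm gi N2595 = N2854 := rfl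
theorem L24830 : sm ga N2854 = N2598 := ded_16_1 (flp_i L22559) (flp_a L22534) L24828
theorem L24832 : sm gc N2854 = N2599 := ded_29_1 (flp_i L22567) (flp_c L22536) L24828
theorem L24834 : sm ge N2854 = N2597 := ded_38_1 (flp_i L22550) (flp_e L22538) L24828
theorem L24836 : sm gg N2854 = N2596 := ded_43_1 (flp_i L22542) L22532 L24828
theorem L24838 : sm ga N2601 = N2855 := rfl
theorem L24840 : sm gc N2855 = N2855 := ded_10_2 (flp_a L24838) L22590 L24838
theorem L24841 : sm ge N2855 = N2855 := ded_12_2 (flp_a L24838) L22587 L24838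
theorem L24842 : sm gg N2855 = N2620 := ded_14_2 (flp_a L22944) L22952 L24838
theorem L24844 : sm gh N2855 = N2603 := ded_15_2 (flp_a L22596) (flp_h L22588) L24838
theorem L24846 : sm gi N2601 = N2856 := rfl
theorem L24848 : sm gb N2856 = N2602 := ded_23_1 (flp_i L22591) L22585 L24846
theorem L24850 : sm gc N2856 = N2856 := ded_29_1 (flp_i L24846) L22590 L24846
theorem L24851 : sm ge N2856 = N2856 := ded_38_1 (flp_i L24846) L22587 L24846
theorem L24852 : sm gh N2604 = N2857 := rfl
theorem L24854 : sm ga N2857 = N2611 := ded_15_1 (flp_h L22655) (flp_a L22606) L24852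
theorem L24856 : sm gg N2857 = N2607 := ded_42_1 (flp_h L22627) (flp_g L22610) L24852
theorem L24858 : sm gd N2857 = N2857 := ded_33_1 (flp_h L24852) L22608 L20404 (flp_d L22608) L24852
theorem L24859 : sm gi N2857 = N2857 := ded_44_2 (flp_h L24852) (flp_i L22604) L20393 L22604 L24852
theorem L24860 : sm gi N2605 = N2858 := rfl
theorem L24862 : sm gb N2858 = N2606 := ded_23_1 (flp_i L22618) L22612 L24860
theorem L24864 : sm gd N2858 = N2608 := ded_34_1 (flp_i L22634) (flp_d L22614) L24860
theorem L24866 : sm gf N2858 = N2858 := ded_41_1 (flp_i L24860) L22616 L24860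
theorem L24867 : sm gh N2606 = N2859 := rfl
theorem L24869 : sm ga N2859 = N2616 := ded_15_1 (flp_h L22688) (flp_a L22620) L24867
theorem L24871 : sm gc N2859 = N2607 := ded_28_1 (flp_h L22627) (flp_c L22622) L24867
theorem L24873 : sm gf N2859 = N2859 := ded_40_1 (flp_h L24867) L22626 L24867
theorem L24874 : sm gi N2859 = N2859 := ded_44_2 (flp_h L24867) (flp_i L22618) L20410 L22618 L24867
theorem L24875 : sm gi N2609 = N2860 := rfl
theorem L24877 : sm gb N2860 = N2860 := ded_23_1 (flp_i L24875) L22642 L24875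
theorem L24878 : sm gd N2860 = N2619 := ded_34_1 (flp_i L22708) (flp_d L22643) L24875
theorem L24880 : sm gf N2860 = N2610 := ded_41_1 (flp_i L22646) L22640 L24875
theorem L24882 : sm gh N2610 = N2861 := rfl
theorem L24884 : sm gb N2861 = N2861 := ded_22_1 (flp_h L24882) L22648 L24882
theorem L24885 : sm ge N2861 = N2611 := ded_37_1 (flp_h L22655) (flp_e L22651) L24882
theorem L24887 : sm gg N2861 = N2618 := ded_42_1 (flp_h L22702) (flp_g L22653) L24882
theorem L24889 : sm gi N2861 = N2861 := ded_44_2 (flp_h L24882) (flp_i L22646) L20438 L22646 L24882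
theorem L24890 : sm gf N2612 = N2862 := rfl
theorem L24892 : sm gb N2862 = N2614 := ded_20_1 (flp_f L22676) (flp_b L22664) L24890
theorem L24894 : sm gc N2862 = N2862 := ded_26_1 (flp_f L24890) L22666 L24890
theorem L24895 : sm gh N2862 = N2862 := ded_40_2 (flp_f L24890) L22667 L24890
theorem L24896 : sm ge N2862 = N2862 := ded_35_1 (flp_f L24890) (flp_e L22662) L20452 L22662 L24890
theorem L24897 : sm gi N2612 = N2863 := rfl
theorem L24899 : sm gb N2863 = N2615 := ded_23_1 (flp_i L22682) (flp_b L22664) L24897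
theorem L24901 : sm gc N2863 = N2863 := ded_29_1 (flp_i L24897) L22666 L24897
theorem L24902 : sm ge N2863 = N2613 := ded_38_1 (flp_i L22668) L22662 L24897
theorem L24904 : sm gh N2613 = N2864 := rfl
theorem L24906 : sm gb N2864 = N2616 := ded_22_1 (flp_h L22688) (flp_b L22670) L24904
theorem L24908 : sm gc N2864 = N2864 := ded_28_1 (flp_h L24904) L22672 L24904
theorem L24909 : sm gf N2864 = N2864 := ded_40_1 (flp_h L24904) L22675 L24904
theorem L24910 : sm gi N2864 = N2864 := ded_44_2 (flp_h L24904) (flp_i L22668) L20453 L22668 L24904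
theorem L24911 : sm gi N2614 = N2865 := rfl
theorem L24913 : sm gc N2865 = N2617 := ded_29_1 (flp_i L22694) (flp_c L22678) L24911
theorem L24915 : sm ge N2865 = N2865 := ded_38_1 (flp_i L24911) L22681 L24911
theorem L24916 : sm gf N2865 = N2615 := ded_41_1 (flp_i L22682) L22676 L24911
theorem L24918 : sm gh N2615 = N2866 := rfl
theorem L24920 : sm gc N2866 = N2618 := ded_28_1 (flp_h L22702) (flp_c L22684) L24918
theorem L24922 : sm ge N2866 = N2616 := ded_37_1 (flp_h L22688) (flp_e L22686) L24918
theorem L24924 : sm gi N2866 = N2866 := ded_44_2 (flp_h L24918) (flp_i L22682) L20459 L22682 L24918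
theorem L24925 : sm gh N2617 = N2867 := rfl
theorem L24927 : sm gb N2867 = N2867 := ded_22_1 (flp_h L24925) L22696 L24925
theorem L24928 : sm ge N2867 = N2867 := ded_37_1 (flp_h L24925) L22699 L24925
theorem L24929 : sm gf N2867 = N2618 := ded_40_1 (flp_h L22702) (flp_f L22700) L24925
theorem L24931 : sm gi N2867 = N2867 := ded_44_2 (flp_h L24925) (flp_i L22694) L20472 L22694 L24925
theorem L24932 : sm gi N2620 = N2868 := rfl
theorem L24934 : sm gc N2868 = N2868 := ded_29_1 (flp_i L24932) L22716 L24932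
theorem L24935 : sm ge N2868 = N2868 := ded_38_1 (flp_i L24932) L22719 L24932
theorem L24936 : sm gf N2868 = N2621 := ded_41_1 (flp_i L22720) L22714 L24932
theorem L24938 : sm gc N2622 = N2869 := rfl
theorem L24940 : sm ga N2869 = N2869 := ded_10_1 (flp_c L24938) L22727 L24938
theorem L24941 : sm gf N2869 = N2638 := ded_26_2 (flp_c L22900) (flp_f L22730) L24938
theorem L24943 : sm gg N2869 = N2869 := ded_27_2 (flp_c L24938) L22732 L24938
theorem L24944 : sm gh N2869 = N2869 := ded_28_2 (flp_c L24938) L22733 L24938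
theorem L24945 : sm gb N2869 = N2657 := ded_17_1 (flp_c L23112) L20876 (flp_c L20596) (flp_b L22728) L24938
theorem L24947 : sm gd N2869 = N2869 := ded_24_2 (flp_c L24938) (flp_d L22725) L20572 L22725 L24938
theorem L24948 : sm ge N2705 = N2869 := ded_47_3 L24947 (flp_c L24938) L22728 L20598 L20595 (flp_f L22751) L22757 (flp_d L21140) (flp_c L21055) L21053 (flp_h L19341) (flp_g L17199) L15293 (flp_e L14208) L12472 L11270 L9443 L9474 (flp_g L11315) L11314 (flp_e L13019) L13018 L13016 (flp_b L12903) L14676 L14686 L12950 (flp_e L12945) L11120 (flp_c L10529) L10527 L8895 L10547 L10554 L10552 (flp_d L12329) L12327 (flp_b L12487) L14251 L14256 L12496 (flp_e L11942) L11945 (flp_c L13607) (flp_b L15022) (flp_h L15020) L13397 L15013 L16807 L18802 L18808 L18804 L19321 (flp_g L21600) L21598 L20235 (flp_d L20411) (flp_c L20405) (flp_b L19567) L19572 (flp_g L21840) (flp_f L23559)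
theorem L24950 : sm ge N2622 = N2870 := rfl
theorem L24952 : sm ga N2870 = N2870 := ded_12_1 (flp_e L24950) L22727 L24950
theorem L24953 : sm gb N2870 = N2626 := ded_19_1 (flp_e L22775) (flp_b L22728) L24950
theorem L24955 : sm gc N2870 = N2705 := ded_25_1 L24948 (flp_c L24938) L24950
theorem L24957 : sm gg N2870 = N2870 := ded_36_2 (flp_e L24950) L22732 L24950
theorem L24958 : sm gh N2870 = N2870 := ded_37_2 (flp_e L24950) L22733 L24950
theorem L24959 : sm gd N2870 = N2870 := ded_30_1 (flp_e L24950) (flp_d L22725) L20573 L22725 L24950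
theorem L24960 : sm gf N2870 = N2697 := ded_35_2 (flp_e L23478) L21173 (flp_e L20707) (flp_f L22730) L24950
theorem L24962 : sm gi N2622 = N2871 := rfl
theorem L24964 : sm ga N2871 = N2871 := ded_16_1 (flp_i L24962) L22727 L24962
theorem L24965 : sm gb N2871 = N2627 := ded_23_1 (flp_i L22784) (flp_b L22728) L24962
theorem L24967 : sm gd N2871 = N2623 := ded_34_1 (flp_i L22734) L22725 L24962
theorem L24969 : sm gf N2871 = N2639 := ded_41_1 (flp_i L22909) (flp_f L22730) L24962
theorem L24971 : sm gg N2871 = N2871 := ded_43_1 (flp_i L24962) L22732 L24962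
theorem L24972 : sm gi N2624 = N2872 := rfl
theorem L24974 : sm ga N2872 = N2632 := ded_16_1 (flp_i L22846) (flp_a L22747) L24972
theorem L24976 : sm gb N2872 = N2639 := ded_23_1 (flp_i L22909) (flp_b L22749) L24972
theorem L24978 : sm gc N2872 = N2667 := ded_29_1 (flp_i L23219) (flp_c L22755) L24972
theorem L24980 : sm gd N2872 = N2625 := ded_34_1 (flp_i L22760) L22745 L24972
theorem L24982 : sm ge N2872 = N2693 := ded_38_1 (flp_i L23450) (flp_e L22757) L24972
theorem L24984 : sm gf N2872 = N2627 := ded_41_1 (flp_i L22784) (flp_f L22751) L24972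
theorem L24986 : sm gg N2872 = N2637 := ded_43_1 (flp_i L22891) (flp_g L22753) L24972
theorem L24988 : sm gf N2626 = N2873 := rfl
theorem L24990 : sm ga N2873 = N2633 := ded_13_1 (flp_f L22855) (flp_a L22777) L24988
theorem L24992 : sm gb N2873 = N2697 := ded_20_1 (flp_f L24960) L24953 L24988
theorem L24994 : sm gc N2873 = N2668 := ded_26_1 (flp_f L23227) (flp_c L22779) L24988
theorem L24996 : sm gd N2873 = N2873 := ded_31_1 (flp_f L24988) L22783 L24988
theorem L24997 : sm gh N2873 = N2873 := ded_40_2 (flp_f L24988) L22782 L24988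
theorem L24998 : sm ge N2873 = N2691 := ded_35_1 L23434 (flp_e L22757) L22751 L22775 L24988
theorem L25000 : sm gg N2770 = N2873 := ded_47_1 (flp_f L24988) (flp_e L22775) (flp_d L20591) L18466 L16563 (flp_h L16559) L14832 L16551 L18470 L18476 L18495 L16602 L16640 L16645 L14896 L13316 L13318 L11818 (flp_b L11940) (flp_h L11938) L10272 L11932 L13612 L13616 (flp_c L13768) L13767 L15454 (flp_g L15441) L13734 (flp_e L12603) L10792 L9069 (flp_b L8472) L8477 L8549 L8560 L7174 L7173 L7172 L7170 L7869 L7864 (flp_f L6708) (flp_e L5240) L4095 (flp_c L5097) L5102 L5100 (flp_g L4738) (flp_f L6110) L7560 L9132 L10871 (flp_b L12197) L13842 L13849 (flp_f L15542) (flp_e L17421) L19564 L21856 L24158 L24164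
theorem L25002 : sm gi N2626 = N2874 := rfl
theorem L25004 : sm ga N2874 = N2634 := ded_16_1 (flp_i L22862) (flp_a L22777) L25002
theorem L25006 : sm gc N2874 = N2669 := ded_29_1 (flp_i L23238) (flp_c L22779) L25002
theorem L25008 : sm gd N2874 = N2874 := ded_34_1 (flp_i L25002) L22783 L25002
theorem L25009 : sm ge N2874 = N2627 := ded_38_1 (flp_i L22784) L22775 L25002
theorem L25011 : sm gg N2874 = N2874 := ded_43_1 (flp_i L25002) L22781 L25002
theorem L25012 : sm gh N2627 = N2875 := rfl
theorem L25014 : sm ga N2875 = N2635 := ded_15_1 (flp_h L22871) (flp_a L22786) L25012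
theorem L25016 : sm gc N2875 = N2670 := ded_28_1 (flp_h L23249) (flp_c L22788) L25012
theorem L25018 : sm gg N2875 = N2875 := ded_42_1 (flp_h L25012) L22792 L25012
theorem L25019 : sm gd N2875 = N2875 := ded_33_1 (flp_h L25012) L22790 L20607 (flp_d L22790) L25012
theorem L25020 : sm gi N2875 = N2875 := ded_44_2 (flp_h L25012) (flp_i L22784) L20598 L22784 L25012
theorem L25021 : sm gi N2628 = N2876 := rfl
theorem L25023 : sm ga N2876 = N2637 := ded_16_1 (flp_i L22891) (flp_a L22795) L25021
theorem L25025 : sm gb N2876 = N2876 := ded_23_1 (flp_i L25021) L22797 L25021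
theorem L25026 : sm gc N2876 = N2684 := ded_29_1 (flp_i L23375) (flp_c L22801) L25021
theorem L25028 : sm gd N2876 = N2629 := ded_34_1 (flp_i L22806) L22793 L25021
theorem L25030 : sm ge N2876 = N2674 := ded_38_1 (flp_i L23291) (flp_e L22803) L25021
theorem L25032 : sm gf N2876 = N2876 := ded_41_1 (flp_i L25021) L22798 L25021
theorem L25033 : sm gg N2876 = N2632 := ded_43_1 (flp_i L22846) (flp_g L22799) L25021
theorem L25035 : sm gf N2631 = N2877 := rfl
theorem L25037 : sm ga N2877 = N2691 := ded_13_1 L23434 (flp_a L22836) L25035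
theorem L25039 : sm gb N2877 = N2877 := ded_20_1 (flp_f L25035) L22838 L25035
theorem L25040 : sm gc N2877 = N2685 := ded_26_1 (flp_f L23384) (flp_c L22839) L25035
theorem L25042 : sm gd N2877 = N2671 := ded_31_1 L23263 (flp_d L22844) L25035
theorem L25044 : sm gh N2877 = N2877 := ded_40_2 (flp_f L25035) L22843 L25035
theorem L25045 : sm ge N2877 = N2633 := ded_35_1 (flp_f L22855) (flp_e L20660) (flp_f L20647) L22834 L25035
theorem L25047 : sm gg N2877 = N2784 := ded_39_2 L24307 L22131 (flp_f L20994) (flp_g L22841) L25035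
theorem L25049 : sm gi N2631 = N2878 := rfl
theorem L25051 : sm ga N2878 = N2693 := ded_16_1 (flp_i L23450) (flp_a L22836) L25049
theorem L25053 : sm gb N2878 = N2878 := ded_23_1 (flp_i L25049) L22838 L25049
theorem L25054 : sm gc N2878 = N2686 := ded_29_1 (flp_i L23391) (flp_c L22839) L25049
theorem L25056 : sm gd N2878 = N2672 := ded_34_1 (flp_i L23267) (flp_d L22844) L25049
theorem L25058 : sm ge N2878 = N2632 := ded_38_1 (flp_i L22846) L22834 L25049
theorem L25060 : sm gg N2878 = N2674 := ded_43_1 (flp_i L23291) (flp_g L22841) L25049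
theorem L25062 : sm gh N2632 = N2879 := rfl
theorem L25064 : sm gb N2879 = N2879 := ded_22_1 (flp_h L25062) L22848 L25062
theorem L25065 : sm gc N2879 = N2687 := ded_28_1 (flp_h L23397) (flp_c L22849) L25062
theorem L25067 : sm gf N2879 = N2635 := ded_40_1 (flp_h L22871) (flp_f L22853) L25062
theorem L25069 : sm gd N2879 = N2879 := ded_33_1 (flp_h L25062) L22851 L20659 (flp_d L22851) L25062
theorem L25070 : sm gi N2879 = N2879 := ded_44_2 (flp_h L25062) (flp_i L22846) L20651 L22846 L25062
theorem L25071 : sm gg N2633 = N2880 := rfl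
theorem L25073 : sm ga N2880 = N2770 := ded_14_1 L25000 L24990 L25071
theorem L25075 : sm gb N2880 = N2880 := ded_21_1 (flp_g L25071) L22857 L25071
theorem L25076 : sm gc N2880 = N2688 := ded_27_1 (flp_g L23404) (flp_c L22858) L25071
theorem L25078 : sm gd N2880 = N2880 := ded_32_1 (flp_g L25071) L22860 L25071
theorem L25079 : sm ge N2880 = N2784 := ded_36_1 (flp_g L25047) L25045 L25071
theorem L25081 : sm gh N2880 = N2880 := ded_42_2 (flp_g L25071) L22861 L25071
theorem L25082 : sm gf N2880 = N2880 := ded_39_1 (flp_g L25071) (flp_f L22855) L20665 L22855 L25071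
theorem L25083 : sm gi N2633 = N2881 := rfl
theorem L25085 : sm gb N2881 = N2881 := ded_23_1 (flp_i L25083) L22857 L25083
theorem L25086 : sm gc N2881 = N2689 := ded_29_1 (flp_i L23414) (flp_c L22858) L25083
theorem L25088 : sm gd N2881 = N2881 := ded_34_1 (flp_i L25083) L22860 L25083
theorem L25089 : sm gf N2881 = N2634 := ded_41_1 (flp_i L22862) L22855 L25083
theorem L25091 : sm gh N2634 = N2882 := rfl
theorem L25093 : sm gb N2882 = N2882 := ded_22_1 (flp_h L25091) L22864 L25091
theorem L25094 : sm gc N2882 = N2690 := ded_28_1 (flp_h L23422) (flp_c L22865) L25091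
theorem L25096 : sm ge N2882 = N2635 := ded_37_1 (flp_h L22871) (flp_e L22868) L25091
theorem L25098 : sm gg N2882 = N2882 := ded_42_1 (flp_h L25091) L22870 L25091
theorem L25099 : sm gi N2882 = N2882 := ded_44_2 (flp_h L25091) (flp_i L22862) L20666 L22862 L25091
theorem L25100 : sm gb N2636 = N2883 := rfl
theorem L25102 : sm gd N2883 = N2654 := ded_18_2 L23086 (flp_d L22889) L25100
theorem L25104 : sm ge N2883 = N2694 := ded_19_2 (flp_b L23458) (flp_e L22883) L25100
theorem L25106 : sm gf N2883 = N2883 := ded_20_2 (flp_b L25100) L22885 L25100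
theorem L25107 : sm gg N2883 = N2655 := ded_21_2 L23096 (flp_g L22886) L25100
theorem L25109 : sm gh N2883 = N2883 := ded_22_2 (flp_b L25100) L22888 L25100
theorem L25110 : sm ga N2883 = N2725 := ded_9_1 L23767 L21538 (flp_b L21079) (flp_a L22881) L25100
theorem L25112 : sm gc N2883 = N2640 := ded_17_2 (flp_b L22918) (flp_c L20719) (flp_b L20678) L22879 L25100
theorem L25114 : sm gi N2636 = N2884 := rfl
theorem L25116 : sm ga N2884 = N2684 := ded_16_1 (flp_i L23375) (flp_a L22881) L25114
theorem L25118 : sm gc N2884 = N2637 := ded_29_1 (flp_i L22891) L22879 L25114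
theorem L25120 : sm gd N2884 = N2665 := ded_34_1 (flp_i L23199) (flp_d L22889) L25114
theorem L25122 : sm ge N2884 = N2695 := ded_38_1 (flp_i L23465) (flp_e L22883) L25114
theorem L25124 : sm gf N2884 = N2884 := ded_41_1 (flp_i L25114) L22885 L25114
theorem L25125 : sm gg N2884 = N2667 := ded_43_1 (flp_i L23219) (flp_g L22886) L25114
theorem L25127 : sm gh N2637 = N2885 := rfl
theorem L25129 : sm gb N2885 = N2642 := ded_22_1 (flp_h L22934) (flp_b L22893) L25127
theorem L25131 : sm ge N2885 = N2696 := ded_37_1 (flp_h L23471) (flp_e L22897) L25127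
theorem L25133 : sm gf N2885 = N2885 := ded_40_1 (flp_h L25127) L22899 L25127
theorem L25134 : sm gd N2885 = N2885 := ded_33_1 (flp_h L25127) L22895 L20691 (flp_d L22895) L25127
theorem L25135 : sm gi N2885 = N2885 := ded_44_2 (flp_h L25127) (flp_i L22891) L20683 L22891 L25127
theorem L25136 : sm gb N2638 = N2886 := rfl
theorem L25138 : sm gd N2886 = N2886 := ded_18_2 (flp_b L25136) L22908 L25136
theorem L25139 : sm ge N2886 = N2699 := ded_19_2 (flp_b L23498) (flp_e L22903) L25136
theorem L25141 : sm gf N2886 = N2657 := ded_20_2 (flp_b L24945) L24941 L25136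
theorem L25143 : sm gg N2886 = N2640 := ded_21_2 (flp_b L22918) (flp_g L22905) L25136
theorem L25145 : sm gh N2886 = N2886 := ded_22_2 (flp_b L25136) L22907 L25136
theorem L25146 : sm gc N2886 = N2655 := ded_17_2 L23096 (flp_c L22755) L22749 L22900 L25136
theorem L25148 : sm ga N2886 = N2708 := ded_46_6 L23591 (flp_f L23585) (flp_e L21262) (flp_d L18985) L16947 L15113 L13479 (flp_h L13477) L11857 L10956 L9193 L7601 L6141 (flp_a L5563) (flp_h L6929) L6931 L6927 L5520 (flp_c L7077) (flp_b L8442) L8440 (flp_h L8557) L8560 L7174 L7173 L7172 L7170 L6752 (flp_h L6742) (flp_f L7932) (flp_e L9459) (flp_d L11289) (flp_c L13109) (flp_b L14700) (flp_a L16452) (flp_h L16463) L14697 (flp_e L14691) (flp_d L13984) L13982 L12299 L10535 L12332 L12337 (flp_e L11820) (flp_d L13318) L13315 (flp_b L14861) (flp_a L16561) (flp_h L16559) L16551 L18470 L18476 L18495 L16602 L14886 L16640 L16644 (flp_e L18573) L20702 L22900 L25136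
theorem L25150 : sm gi N2638 = N2887 := rfl
theorem L25152 : sm ga N2887 = N2887 := ded_16_1 (flp_i L25150) L22902 L25150
theorem L25153 : sm gc N2887 = N2639 := ded_29_1 (flp_i L22909) L22900 L25150
theorem L25155 : sm gd N2887 = N2887 := ded_34_1 (flp_i L25150) L22908 L25150
theorem L25156 : sm ge N2887 = N2700 := ded_38_1 (flp_i L23509) (flp_e L22903) L25150
theorem L25158 : sm gg N2887 = N2641 := ded_43_1 (flp_i L22925) (flp_g L22905) L25150
theorem L25160 : sm gh N2639 = N2888 := rfl
theorem L25162 : sm ga N2888 = N2888 := ded_15_1 (flp_h L25160) L22911 L25160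
theorem L25163 : sm ge N2888 = N2701 := ded_37_1 (flp_h L23520) (flp_e L22914) L25160
theorem L25165 : sm gg N2888 = N2642 := ded_42_1 (flp_h L22934) (flp_g L22916) L25160
theorem L25167 : sm gd N2888 = N2888 := ded_33_1 (flp_h L25160) L22912 L20718 (flp_d L22912) L25160
theorem L25168 : sm gi N2888 = N2888 := ded_44_2 (flp_h L25160) (flp_i L22909) L20709 L22909 L25160
theorem L25169 : sm ga N2640 = N2889 := rfl
theorem L25171 : sm gc N2889 = N2725 := ded_10_2 (flp_a L25110) L25112 L25169
theorem L25173 : sm gd N2889 = N2889 := ded_11_2 (flp_a L25169) L22920 L25169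
theorem L25174 : sm ge N2889 = N2702 := ded_12_2 (flp_a L23528) (flp_e L22921) L25169
theorem L25176 : sm gf N2889 = N2889 := ded_13_2 (flp_a L25169) L22923 L25169
theorem L25177 : sm gg N2889 = N2708 := ded_14_2 (flp_a L25148) L25143 L25169
theorem L25179 : sm gh N2889 = N2889 := ded_15_2 (flp_a L25169) L22924 L25169
theorem L25180 : sm gb N2889 = N2889 := ded_9_2 (flp_a L25169) (flp_b L22918) L20721 L22918 L25169
theorem L25181 : sm gi N2640 = N2890 := rfl
theorem L25183 : sm gb N2890 = N2641 := ded_23_1 (flp_i L22925) L22918 L25181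
theorem L25185 : sm gd N2890 = N2890 := ded_34_1 (flp_i L25181) L22920 L25181
theorem L25186 : sm ge N2890 = N2703 := ded_38_1 (flp_i L23538) (flp_e L22921) L25181
theorem L25188 : sm gf N2890 = N2890 := ded_41_1 (flp_i L25181) L22923 L25181
theorem L25189 : sm gh N2641 = N2891 := rfl
theorem L25191 : sm ga N2891 = N2891 := ded_15_1 (flp_h L25189) L22927 L25189
theorem L25192 : sm gc N2891 = N2642 := ded_28_1 (flp_h L22934) (flp_c L22928) L25189
theorem L25194 : sm ge N2891 = N2704 := ded_37_1 (flp_h L23546) (flp_e L22931) L25189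
theorem L25196 : sm gf N2891 = N2891 := ded_40_1 (flp_h L25189) L22933 L25189
theorem L25197 : sm gi N2891 = N2891 := ded_44_2 (flp_h L25189) (flp_i L22925) L20725 L22925 L25189
theorem L25198 : sm gd N2643 = N2892 := rfl
theorem L25200 : sm ga N2892 = N2839 := ded_11_1 L24745 (flp_a L22944) L25198
theorem L25202 : sm gb N2892 = N2718 := ded_18_1 (flp_d L23694) (flp_b L22946) L25198
theorem L25204 : sm gf N2892 = N2773 := ded_31_2 (flp_d L24186) (flp_f L22950) L25198
theorem L25206 : sm gg N2892 = N2836 := ded_32_2 L24726 (flp_g L22952) L25198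
theorem L25208 : sm gh N2892 = N2644 := ded_33_2 (flp_d L22954) (flp_h L20749) L20735 L22942 L25198
theorem L25210 : sm gi N2643 = N2893 := rfl
theorem L25212 : sm ga N2893 = N2868 := ded_16_1 (flp_i L24932) (flp_a L22944) L25210
theorem L25214 : sm gb N2893 = N2719 := ded_23_1 (flp_i L23706) (flp_b L22946) L25210
theorem L25216 : sm gc N2893 = N2893 := ded_29_1 (flp_i L25210) L22948 L25210
theorem L25217 : sm ge N2893 = N2893 := ded_38_1 (flp_i L25210) L22949 L25210
theorem L25218 : sm gf N2893 = N2774 := ded_41_1 (flp_i L24198) (flp_f L22950) L25210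
theorem L25220 : sm gg N2893 = N2856 := ded_43_1 (flp_i L24846) (flp_g L22952) L25210
theorem L25222 : sm gh N2893 = N2677 := ded_44_1 (flp_i L23318) (flp_h L21030) (flp_i L20745) L22942 L25210
theorem L25224 : sm gc N2644 = N2894 := rfl
theorem L25226 : sm ga N2894 = N2848 := ded_10_1 L24795 (flp_a L22956) L25224
theorem L25228 : sm gf N2894 = N2777 := ded_26_2 (flp_c L24237) (flp_f L22960) L25224
theorem L25230 : sm gg N2894 = N2809 := ded_27_2 L24539 (flp_g L22962) L25224
theorem L25232 : sm gb N2894 = N2807 := ded_17_1 (flp_c L24521) L22184 (flp_c L21392) (flp_b L22958) L25224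
theorem L25234 : sm gd N2894 = N2649 := ded_24_2 (flp_c L23018) (flp_d L20801) (flp_c L20755) L22954 L25224
theorem L25236 : sm ge N2644 = N2895 := rfl
theorem L25238 : sm ga N2895 = N2754 := ded_12_1 L24032 (flp_a L22956) L25236
theorem L25240 : sm gb N2895 = N2720 := ded_19_1 (flp_e L23719) (flp_b L22958) L25236
theorem L25242 : sm gg N2895 = N2846 := ded_36_2 (flp_e L24781) (flp_g L22962) L25236
theorem L25244 : sm gd N2895 = N2646 := ded_30_1 (flp_e L22980) (flp_d L20763) (flp_e L20757) L22954 L25236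
theorem L25246 : sm gf N2895 = N2738 := ded_35_2 (flp_e L23901) L21524 (flp_e L21903) (flp_f L22960) L25236
theorem L25248 : sm gi N2644 = N2896 := rfl
theorem L25250 : sm ga N2896 = N2851 := ded_16_1 (flp_i L24811) (flp_a L22956) L25248
theorem L25252 : sm gb N2896 = N2721 := ded_23_1 (flp_i L23727) (flp_b L22958) L25248
theorem L25254 : sm gd N2896 = N2645 := ded_34_1 (flp_i L22964) L22954 L25248
theorem L25256 : sm gf N2896 = N2778 := ded_41_1 (flp_i L24245) (flp_f L22960) L25248
theorem L25258 : sm gg N2896 = N2847 := ded_43_1 (flp_i L24787) (flp_g L22962) L25248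
theorem L25260 : sm gi N2646 = N2897 := rfl
theorem L25262 : sm ga N2897 = N2761 := ded_16_1 (flp_i L24075) (flp_a L22982) L25260
theorem L25264 : sm gb N2897 = N2723 := ded_23_1 (flp_i L23746) (flp_b L22984) L25260
theorem L25266 : sm gc N2897 = N2897 := ded_29_1 (flp_i L25260) L22986 L25260
theorem L25267 : sm ge N2897 = N2647 := ded_38_1 (flp_i L22992) L22980 L25260
theorem L25269 : sm gf N2897 = N2742 := ded_41_1 (flp_i L23933) (flp_f L22990) L25260
theorem L25271 : sm gg N2897 = N2863 := ded_43_1 (flp_i L24897) (flp_g L22987) L25260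
theorem L25273 : sm gh N2647 = N2898 := rfl
theorem L25275 : sm ga N2898 = N2764 := ded_15_1 (flp_h L24098) (flp_a L22994) L25273
theorem L25277 : sm gb N2898 = N2724 := ded_22_1 (flp_h L23754) (flp_b L22996) L25273
theorem L25279 : sm gc N2898 = N2898 := ded_28_1 (flp_h L25273) L22998 L25273
theorem L25280 : sm gf N2898 = N2648 := ded_40_1 (flp_h L23005) (flp_f L23001) L25273
theorem L25282 : sm gg N2898 = N2864 := ded_42_1 (flp_h L24904) (flp_g L23003) L25273
theorem L25284 : sm gd N2898 = N2687 := ded_33_1 (flp_h L23397) L21105 (flp_h L20787) (flp_d L22999) L25273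
theorem L25286 : sm gi N2898 = N2898 := ded_44_2 (flp_h L25273) (flp_i L22992) L20774 L22992 L25273
theorem L25287 : sm gi N2649 = N2899 := rfl
theorem L25289 : sm ga N2899 = N2865 := ded_16_1 (flp_i L24911) (flp_a L23020) L25287
theorem L25291 : sm gb N2899 = N2818 := ded_23_1 (flp_i L24600) (flp_b L23028) L25287
theorem L25293 : sm gc N2899 = N2650 := ded_29_1 (flp_i L23030) L23018 L25287
theorem L25295 : sm ge N2899 = N2899 := ded_38_1 (flp_i L25287) L23022 L25287
theorem L25296 : sm gf N2899 = N2781 := ded_41_1 (flp_i L24276) (flp_f L23023) L25287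
theorem L25298 : sm gg N2899 = N2821 := ded_43_1 (flp_i L24623) (flp_g L23025) L25287
theorem L25300 : sm gh N2650 = N2900 := rfl
theorem L25302 : sm ga N2900 = N2867 := ded_15_1 (flp_h L24925) (flp_a L23032) L25300
theorem L25304 : sm gb N2900 = N2651 := ded_22_1 (flp_h L23043) (flp_b L23034) L25300
theorem L25306 : sm ge N2900 = N2900 := ded_37_1 (flp_h L25300) L23038 L25300
theorem L25307 : sm gf N2900 = N2782 := ded_40_1 (flp_h L24284) (flp_f L23039) L25300
theorem L25309 : sm gg N2900 = N2824 := ded_42_1 (flp_h L24646) (flp_g L23041) L25300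
theorem L25311 : sm gd N2900 = N2696 := ded_33_1 (flp_h L23471) L21166 (flp_h L20825) (flp_d L23036) L25300
theorem L25313 : sm gi N2900 = N2900 := ded_44_2 (flp_h L25300) (flp_i L23030) L20812 L23030 L25300
theorem L25314 : sm gh N2652 = N2901 := rfl
theorem L25316 : sm ga N2901 = N2729 := ded_15_1 (flp_h L23802) (flp_a L23058) L25314
theorem L25318 : sm gb N2901 = N2662 := ded_22_1 (flp_h L23171) (flp_b L23060) L25314
theorem L25320 : sm gc N2901 = N2901 := ded_28_1 (flp_h L25314) L23062 L25314
theorem L25321 : sm ge N2901 = N2654 := ded_37_1 (flp_h L23082) (flp_e L23065) L25314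
theorem L25323 : sm gf N2901 = N2855 := ded_40_1 L24844 (flp_f L23069) L25314
theorem L25325 : sm gg N2901 = N2653 := ded_42_1 (flp_h L23071) L23056 L25314
theorem L25327 : sm gd N2653 = N2902 := rfl
theorem L25329 : sm ga N2902 = N2730 := ded_11_1 (flp_d L23813) (flp_a L23073) L25327
theorem L25331 : sm gb N2902 = N2663 := ded_18_1 (flp_d L23181) (flp_b L23075) L25327
theorem L25333 : sm gf N2902 = N2787 := ded_31_2 (flp_d L24327) (flp_f L23080) L25327
theorem L25335 : sm gh N2902 = N2842 := ded_33_2 L24761 L22521 L20850 L23071 L25327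
theorem L25337 : sm gi N2653 = N2903 := rfl
theorem L25339 : sm ga N2903 = N2731 := ded_16_1 (flp_i L23819) (flp_a L23073) L25337
theorem L25341 : sm gb N2903 = N2664 := ded_23_1 (flp_i L23187) (flp_b L23075) L25337
theorem L25343 : sm gc N2903 = N2903 := ded_29_1 (flp_i L25337) L23077 L25337
theorem L25344 : sm ge N2903 = N2656 := ded_38_1 (flp_i L23101) (flp_e L23078) L25337
theorem L25346 : sm gf N2903 = N2788 := ded_41_1 (flp_i L24339) (flp_f L23080) L25337
theorem L25348 : sm gh N2903 = N2816 := ded_44_1 (flp_i L24581) L22233 (flp_i L20846) L23071 L25337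
theorem L25350 : sm gi N2654 = N2904 := rfl
theorem L25352 : sm ga N2904 = N2732 := ded_16_1 (flp_i L23828) (flp_a L23084) L25350
theorem L25354 : sm gb N2904 = N2665 := ded_23_1 (flp_i L23199) (flp_b L23086) L25350
theorem L25356 : sm gc N2904 = N2904 := ded_29_1 (flp_i L25350) L23088 L25350
theorem L25357 : sm gf N2904 = N2904 := ded_41_1 (flp_i L25350) L23089 L25350
theorem L25358 : sm gg N2904 = N2656 := ded_43_1 (flp_i L23101) (flp_g L23090) L25350
theorem L25360 : sm gh N2904 = N2817 := ded_44_1 (flp_i L24590) L22251 (flp_i L20860) L23082 L25350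
theorem L25362 : sm ge N2655 = N2905 := rfl
theorem L25364 : sm ga N2905 = N2722 := ded_12_1 L23744 (flp_a L23094) L25362
theorem L25366 : sm gb N2905 = N2666 := ded_19_1 (flp_e L23210) (flp_b L23096) L25362
theorem L25368 : sm gc N2905 = N2699 := ded_25_1 (flp_e L25139) L25146 L25362
theorem L25370 : sm gg N2905 = N2694 := ded_36_2 (flp_e L25104) L25107 L25362
theorem L25372 : sm gh N2905 = N2905 := ded_37_2 (flp_e L25362) L23100 L25362
theorem L25373 : sm gf N2905 = N2715 := ded_35_2 (flp_e L23665) L21334 (flp_e L20879) (flp_f L23098) L25362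
theorem L25375 : sm gi N2655 = N2906 := rfl
theorem L25377 : sm ga N2906 = N2726 := ded_16_1 (flp_i L23773) (flp_a L23094) L25375
theorem L25379 : sm gb N2906 = N2667 := ded_23_1 (flp_i L23219) (flp_b L23096) L25375
theorem L25381 : sm gd N2906 = N2656 := ded_34_1 (flp_i L23101) L23092 L25375
theorem L25383 : sm gf N2906 = N2658 := ded_41_1 (flp_i L23121) (flp_f L23098) L25375
theorem L25385 : sm gi N2657 = N2907 := rfl
theorem L25387 : sm ga N2907 = N2709 := ded_16_1 (flp_i L23594) (flp_a L23114) L25385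
theorem L25389 : sm gc N2907 = N2658 := ded_29_1 (flp_i L23121) L23112 L25385
theorem L25391 : sm gd N2907 = N2907 := ded_34_1 (flp_i L25385) L23120 L25385
theorem L25392 : sm ge N2907 = N2707 := ded_38_1 (flp_i L23574) (flp_e L23116) L25385
theorem L25394 : sm gg N2907 = N2907 := ded_43_1 (flp_i L25385) L23118 L25385
theorem L25395 : sm gh N2658 = N2908 := rfl
theorem L25397 : sm ga N2908 = N2727 := ded_15_1 (flp_h L23781) (flp_a L23123) L25395
theorem L25399 : sm gb N2908 = N2670 := ded_22_1 (flp_h L23249) (flp_b L23125) L25395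
theorem L25401 : sm ge N2908 = N2717 := ded_37_1 (flp_h L23686) (flp_e L23129) L25395
theorem L25403 : sm gg N2908 = N2908 := ded_42_1 (flp_h L25395) L23131 L25395
theorem L25404 : sm gd N2908 = N2690 := ded_33_1 (flp_h L23422) L21120 (flp_h L20892) (flp_d L23127) L25395
theorem L25406 : sm gi N2908 = N2908 := ded_44_2 (flp_h L25395) (flp_i L23121) L20881 L23121 L25395
theorem L25407 : sm gh N2659 = N2909 := rfl
theorem L25409 : sm ga N2909 = N2675 := ded_15_1 (flp_h L23300) (flp_a L23134) L25407
theorem L25411 : sm gb N2909 = N2765 := ded_22_1 L24113 (flp_b L23136) L25407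
theorem L25413 : sm gc N2909 = N2909 := ded_28_1 (flp_h L25407) L23138 L25407
theorem L25414 : sm ge N2909 = N2909 := ded_37_1 (flp_h L25407) L23141 L25407
theorem L25415 : sm gf N2909 = N2815 := ded_40_1 L24579 (flp_f L23144) L25407
theorem L25417 : sm gg N2909 = N2660 := ded_42_1 (flp_h L23146) L23132 L25407
theorem L25419 : sm gd N2660 = N2910 := rfl
theorem L25421 : sm ga N2910 = N2676 := ded_11_1 (flp_d L23310) (flp_a L23148) L25419
theorem L25423 : sm gb N2910 = N2842 := ded_18_1 L24761 (flp_b L23150) L25419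
theorem L25425 : sm gf N2910 = N2789 := ded_31_2 (flp_d L24352) (flp_f L23154) L25419
theorem L25427 : sm gh N2910 = N2663 := ded_33_2 (flp_d L23181) (flp_h L20916) L20894 L23146 L25419
theorem L25429 : sm gi N2660 = N2911 := rfl
theorem L25431 : sm ga N2911 = N2677 := ded_16_1 (flp_i L23318) (flp_a L23148) L25429
theorem L25433 : sm gb N2911 = N2853 := ded_23_1 (flp_i L24821) (flp_b L23150) L25429
theorem L25435 : sm gc N2911 = N2911 := ded_29_1 (flp_i L25429) L23152 L25429
theorem L25436 : sm ge N2911 = N2911 := ded_38_1 (flp_i L25429) L23153 L25429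
theorem L25437 : sm gf N2911 = N2790 := ded_41_1 (flp_i L24364) (flp_f L23154) L25429
theorem L25439 : sm gh N2911 = N2868 := ded_44_1 (flp_i L24932) L22717 (flp_i L20902) L23146 L25429
theorem L25441 : sm gh N2661 = N2912 := rfl
theorem L25443 : sm ga N2912 = N2678 := ded_15_1 (flp_h L23326) (flp_a L23158) L25441
theorem L25445 : sm gb N2912 = N2855 := ded_22_1 L24844 (flp_b L23160) L25441
theorem L25447 : sm gc N2912 = N2671 := ded_28_1 (flp_h L23257) (flp_c L23162) L25441
theorem L25449 : sm ge N2912 = N2912 := ded_37_1 (flp_h L25441) L23168 L25441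
theorem L25450 : sm gf N2912 = N2662 := ded_40_1 (flp_h L23171) L23156 L25441
theorem L25452 : sm gg N2912 = N2791 := ded_42_1 (flp_h L24377) (flp_g L23169) L25441
theorem L25454 : sm gd N2662 = N2913 := rfl
theorem L25456 : sm ga N2913 = N2679 := ded_11_1 (flp_d L23337) (flp_a L23173) L25454
theorem L25458 : sm gg N2913 = N2663 := ded_32_2 (flp_d L23181) (flp_g L23179) L25454
theorem L25460 : sm gc N2913 = N2682 := ded_24_1 L23365 (flp_c L22839) L22844 (flp_c L23175) L25454
theorem L25462 : sm ge N2913 = N2681 := ded_30_2 L23359 (flp_e L22883) L22889 (flp_e L23177) L25454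
theorem L25464 : sm gi N2662 = N2914 := rfl
theorem L25466 : sm ga N2914 = N2680 := ded_16_1 (flp_i L23343) (flp_a L23173) L25464
theorem L25468 : sm gc N2914 = N2672 := ded_29_1 (flp_i L23267) (flp_c L23175) L25464
theorem L25470 : sm ge N2914 = N2665 := ded_38_1 (flp_i L23199) (flp_e L23177) L25464
theorem L25472 : sm gg N2914 = N2664 := ded_43_1 (flp_i L23187) (flp_g L23179) L25464
theorem L25474 : sm gh N2914 = N2854 := ded_44_1 (flp_i L24828) L22540 (flp_i L20914) L23171 L25464
theorem L25476 : sm gc N2663 = N2915 := rfl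
theorem L25478 : sm ga N2915 = N2681 := ded_10_1 (flp_c L23355) (flp_a L23183) L25476
theorem L25480 : sm gf N2915 = N2794 := ded_26_2 (flp_c L24414) (flp_f L23185) L25476
theorem L25482 : sm gg N2915 = N2682 := ded_27_2 (flp_c L25460) L25458 L25476
theorem L25484 : sm gd N2915 = N2673 := ded_24_2 (flp_c L23278) (flp_d L20989) (flp_c L20920) L23181 L25476
theorem L25486 : sm gb N2749 = N2915 := ded_45_6 (flp_c L25476) (flp_d L23181) L23187 L23197 (flp_d L24813) L24815 L22513 L20280 (flp_b L19940) L19942 (flp_d L20029) (flp_i L20025) L17759 (flp_d L17754) (flp_f L16863) L16861 (flp_d L16614) L16610 L14895 L14898 L15085 (flp_h L16739) L16734 L16735 L14971 (flp_d L15552) L15549 L14405 (flp_d L14205) (flp_i L14200) (flp_h L12446) (flp_d L10607) L10613 L10622 (flp_d L10792) L10791 (flp_c L12572) L12574 L10737 L9100 (flp_d L9250) L9253 (flp_e L8715) L8714 (flp_b L8712) (flp_c L7260) (flp_d L5904) L4582 (flp_h L4575) L3607 (flp_f L3580) (flp_e L4520) L4519 L4516 L4517 (flp_d L4613) (flp_i L4607) L3638 (flp_d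 L3629) L2864 L2862 L2285 L2280 L1878 L1882 L2366 L2976 L3800 L3802 L3829 L3836 (flp_b L4675) (flp_c L6047) L7485 L7490 L7543 L7549 (flp_f L7672) (flp_e L9284) L11033 (flp_b L12815) L14556 L14559 (flp_i L15300) L17215 L19361 L19363 L21672 (flp_d L24001)
theorem L25488 : sm ge N2679 = N2915 := ded_12_0 L25478 (flp_e L25462) L25456
theorem L25490 : sm ge N2663 = N2916 := rfl
theorem L25492 : sm ga N2916 = N2682 := ded_12_1 (flp_e L23361) (flp_a L23183) L25490
theorem L25494 : sm gc N2916 = N2679 := ded_25_1 L25488 (flp_c L25476) L25490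
theorem L25496 : sm gg N2916 = N2681 := ded_36_2 (flp_e L25462) L25458 L25490
theorem L25498 : sm gd N2916 = N2666 := ded_30_1 (flp_e L23210) (flp_d L20935) (flp_e L20922) L23181 L25490
theorem L25500 : sm gi N2663 = N2917 := rfl
theorem L25502 : sm ga N2917 = N2683 := ded_16_1 (flp_i L23367) (flp_a L23183) L25500
theorem L25504 : sm gd N2917 = N2664 := ded_34_1 (flp_i L23187) L23181 L25500
theorem L25506 : sm gf N2917 = N2796 := ded_41_1 (flp_i L24432) (flp_f L23185) L25500
theorem L25508 : sm gf N2666 = N2918 := rfl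
theorem L25510 : sm ga N2918 = N2685 := ded_13_1 (flp_f L23384) (flp_a L23212) L25508
theorem L25512 : sm gb N2918 = N2715 := ded_20_1 (flp_f L25373) L25366 L25508
theorem L25514 : sm gc N2918 = N2691 := ded_26_1 L23434 (flp_c L23214) L25508
theorem L25516 : sm gh N2918 = N2918 := ded_40_2 (flp_f L25508) L23218 L25508
theorem L25517 : sm ge N2918 = N2668 := ded_35_1 (flp_f L23227) (flp_e L20952) (flp_f L20939) L23210 L25508
theorem L25519 : sm gg N2918 = N2780 := ded_39_2 L24271 L22271 (flp_f L21159) (flp_g L23216) L25508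
theorem L25521 : sm gi N2666 = N2919 := rfl
theorem L25523 : sm ga N2919 = N2686 := ded_16_1 (flp_i L23391) (flp_a L23212) L25521
theorem L25525 : sm gc N2919 = N2693 := ded_29_1 (flp_i L23450) (flp_c L23214) L25521
theorem L25527 : sm ge N2919 = N2667 := ded_38_1 (flp_i L23219) L23210 L25521
theorem L25529 : sm gg N2919 = N2695 := ded_43_1 (flp_i L23465) (flp_g L23216) L25521
theorem L25531 : sm gh N2667 = N2920 := rfl
theorem L25533 : sm ga N2920 = N2687 := ded_15_1 (flp_h L23397) (flp_a L23221) L25531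
theorem L25535 : sm gf N2920 = N2670 := ded_40_1 (flp_h L23249) (flp_f L23225) L25531
theorem L25537 : sm gd N2920 = N2764 := ded_33_1 (flp_h L24098) L21715 (flp_h L20950) (flp_d L23223) L25531
theorem L25539 : sm gi N2920 = N2920 := ded_44_2 (flp_h L25531) (flp_i L23219) L20941 L23219 L25531
theorem L25540 : sm gi N2668 = N2921 := rfl
theorem L25542 : sm ga N2921 = N2689 := ded_16_1 (flp_i L23414) (flp_a L23229) L25540
theorem L25544 : sm gb N2921 = N2716 := ded_23_1 (flp_i L23674) (flp_b L23231) L25540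
theorem L25546 : sm gd N2921 = N2712 := ded_34_1 (flp_i L23626) (flp_d L23233) L25540
theorem L25548 : sm gf N2921 = N2669 := ded_41_1 (flp_i L23238) L23227 L25540
theorem L25550 : sm gg N2921 = N2858 := ded_43_1 (flp_i L24860) L23236 L25540
theorem L25552 : sm gh N2669 = N2922 := rfl
theorem L25554 : sm ga N2922 = N2690 := ded_15_1 (flp_h L23422) (flp_a L23240) L25552
theorem L25556 : sm gb N2922 = N2717 := ded_22_1 (flp_h L23686) (flp_b L23242) L25552
theorem L25558 : sm ge N2922 = N2670 := ded_37_1 (flp_h L23249) (flp_e L23246) L25552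
theorem L25560 : sm gg N2922 = N2922 := ded_42_1 (flp_h L25552) L23248 L25552
theorem L25561 : sm gd N2922 = N2727 := ded_33_1 (flp_h L23781) L21434 (flp_h L21316) (flp_d L23244) L25552
theorem L25563 : sm gi N2922 = N2922 := ded_44_2 (flp_h L25552) (flp_i L23238) L20959 L23238 L25552
theorem L25564 : sm gi N2671 = N2923 := rfl
theorem L25566 : sm ga N2923 = N2692 := ded_16_1 (flp_i L23439) (flp_a L23259) L25564
theorem L25568 : sm gb N2923 = N2923 := ded_23_1 (flp_i L25564) L23261 L25564
theorem L25569 : sm ge N2923 = N2923 := ded_38_1 (flp_i L25564) L23262 L25564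
theorem L25570 : sm gf N2923 = N2672 := ded_41_1 (flp_i L23267) (flp_f L23263) L25564
theorem L25572 : sm gg N2923 = N2798 := ded_43_1 (flp_i L24451) (flp_g L23265) L25564
theorem L25574 : sm gh N2923 = N2768 := ded_44_1 (flp_i L24137) L21802 (flp_i L20975) L23257 L25564
theorem L25576 : sm gi N2673 = N2924 := rfl
theorem L25578 : sm ga N2924 = N2695 := ded_16_1 (flp_i L23465) (flp_a L23280) L25576
theorem L25580 : sm gb N2924 = N2758 := ded_23_1 (flp_i L24051) L23289 L25576
theorem L25582 : sm gc N2924 = N2674 := ded_29_1 (flp_i L23291) L23278 L25576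
theorem L25584 : sm ge N2924 = N2684 := ded_38_1 (flp_i L23375) (flp_e L23282) L25576
theorem L25586 : sm gf N2924 = N2801 := ded_41_1 (flp_i L24479) (flp_f L23284) L25576
theorem L25588 : sm gg N2924 = N2686 := ded_43_1 (flp_i L23391) (flp_g L23286) L25576
theorem L25590 : sm gh N2674 = N2925 := rfl
theorem L25592 : sm ga N2925 = N2696 := ded_15_1 (flp_h L23471) (flp_a L23293) L25590
theorem L25594 : sm gb N2925 = N2925 := ded_22_1 (flp_h L25590) L23295 L25590
theorem L25595 : sm gf N2925 = N2802 := ded_40_1 (flp_h L24486) (flp_f L23298) L25590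
theorem L25597 : sm gd N2925 = N2867 := ded_33_1 (flp_h L24925) L22697 (flp_h L21006) (flp_d L23296) L25590
theorem L25599 : sm gi N2925 = N2925 := ded_44_2 (flp_h L25590) (flp_i L23291) L20996 L23291 L25590
theorem L25600 : sm gd N2675 = N2926 := rfl
theorem L25602 : sm gb N2926 = N2737 := ded_18_1 L23899 (flp_b L23302) L25600
theorem L25604 : sm gf N2926 = N2832 := ded_31_2 L24703 (flp_f L23306) L25600
theorem L25606 : sm gg N2926 = N2676 := ded_32_2 (flp_d L23310) (flp_g L23308) L25600
theorem L25608 : sm gh N2926 = N2679 := ded_33_2 (flp_d L23337) (flp_h L21051) (flp_d L21023) L23300 L25600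
theorem L25610 : sm gi N2675 = N2927 := rfl
theorem L25612 : sm gb N2927 = N2744 := ded_23_1 (flp_i L23948) (flp_b L23302) L25610
theorem L25614 : sm gc N2927 = N2927 := ded_29_1 (flp_i L25610) L23304 L25610
theorem L25615 : sm ge N2927 = N2927 := ded_38_1 (flp_i L25610) L23305 L25610
theorem L25616 : sm gf N2927 = N2835 := ded_41_1 (flp_i L24717) (flp_f L23306) L25610
theorem L25618 : sm gg N2927 = N2677 := ded_43_1 (flp_i L23318) (flp_g L23308) L25610
theorem L25620 : sm gh N2927 = N2856 := ded_44_1 (flp_i L24846) L22588 (flp_i L21026) L23300 L25610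
theorem L25622 : sm gc N2676 = N2928 := rfl
theorem L25624 : sm gf N2928 = N2803 := ded_26_2 (flp_c L24495) (flp_f L23314) L25622
theorem L25626 : sm gh N2928 = N2681 := ded_28_2 (flp_c L23355) (flp_h L23316) L25622
theorem L25628 : sm gd N2928 = N2928 := ded_24_2 (flp_c L25622) (flp_d L23310) L21034 L23310 L25622
theorem L25629 : sm ge N2676 = N2929 := rfl
theorem L25631 : sm gb N2929 = N2745 := ded_19_1 (flp_e L23961) (flp_b L23312) L25629
theorem L25633 : sm gh N2929 = N2682 := ded_37_2 (flp_e L23361) (flp_h L23316) L25629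
theorem L25635 : sm gd N2929 = N2929 := ded_30_1 (flp_e L25629) (flp_d L23310) L21035 L23310 L25629
theorem L25636 : sm gi N2676 = N2930 := rfl
theorem L25638 : sm gb N2930 = N2746 := ded_23_1 (flp_i L23966) (flp_b L23312) L25636
theorem L25640 : sm gd N2930 = N2677 := ded_34_1 (flp_i L23318) L23310 L25636
theorem L25642 : sm gf N2930 = N2804 := ded_41_1 (flp_i L24500) (flp_f L23314) L25636
theorem L25644 : sm gd N2678 = N2931 := rfl
theorem L25646 : sm gb N2931 = N2747 := ded_18_1 (flp_d L23972) (flp_b L23328) L25644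
theorem L25648 : sm gf N2931 = N2679 := ded_31_2 (flp_d L23337) (flp_f L23333) L25644
theorem L25650 : sm gg N2931 = N2805 := ded_32_2 (flp_d L24506) (flp_g L23335) L25644
theorem L25652 : sm gh N2931 = N2832 := ded_33_2 L24703 L22450 (flp_d L21044) L23326 L25644
theorem L25654 : sm gi N2678 = N2932 := rfl
theorem L25656 : sm gb N2932 = N2748 := ded_23_1 (flp_i L23984) (flp_b L23328) L25654
theorem L25658 : sm gc N2932 = N2692 := ded_29_1 (flp_i L23439) (flp_c L23330) L25654
theorem L25660 : sm ge N2932 = N2932 := ded_38_1 (flp_i L25654) L23332 L25654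
theorem L25661 : sm gf N2932 = N2680 := ded_41_1 (flp_i L23343) (flp_f L23333) L25654
theorem L25663 : sm gg N2932 = N2806 := ded_43_1 (flp_i L24512) (flp_g L23335) L25654
theorem L25665 : sm gh N2932 = N2766 := ded_44_1 (flp_i L24115) L21761 (flp_i L21046) L23326 L25654
theorem L25667 : sm gi N2679 = N2933 := rfl
theorem L25669 : sm gb N2933 = N2750 := ded_23_1 (flp_i L24003) (flp_b L23339) L25667
theorem L25671 : sm gd N2933 = N2680 := ded_34_1 (flp_i L23343) L23337 L25667
theorem L25673 : sm gg N2933 = N2683 := ded_43_1 (flp_i L23367) (flp_g L23341) L25667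
theorem L25675 : sm gb N2681 = N2934 := rfl
theorem L25677 : sm gd N2934 = N2694 := ded_18_2 (flp_b L23458) (flp_d L23359) L25675
theorem L25679 : sm gf N2934 = N2809 := ded_20_2 (flp_b L24535) (flp_f L23357) L25675
theorem L25681 : sm gc N2934 = N2751 := ded_17_2 (flp_b L24009) (flp_c L21656) (flp_b L21063) L23355 L25675
theorem L25683 : sm gi N2681 = N2935 := rfl
theorem L25685 : sm gc N2935 = N2683 := ded_29_1 (flp_i L23367) L23355 L25683
theorem L25687 : sm gd N2935 = N2695 := ded_34_1 (flp_i L23465) (flp_d L23359) L25683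
theorem L25689 : sm gf N2935 = N2811 := ded_41_1 (flp_i L24546) (flp_f L23357) L25683
theorem L25691 : sm gf N2682 = N2936 := rfl
theorem L25693 : sm gb N2936 = N2754 := ded_20_1 (flp_f L24028) (flp_b L23363) L25691
theorem L25695 : sm gd N2936 = N2685 := ded_31_1 (flp_f L23384) (flp_d L23365) L25691
theorem L25697 : sm ge N2936 = N2812 := ded_35_1 (flp_f L24552) (flp_e L22202) (flp_f L21065) L23361 L25691
theorem L25699 : sm gi N2682 = N2937 := rfl
theorem L25701 : sm gb N2937 = N2755 := ded_23_1 (flp_i L24034) (flp_b L23363) L25699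
theorem L25703 : sm gd N2937 = N2686 := ded_34_1 (flp_i L23391) (flp_d L23365) L25699
theorem L25705 : sm ge N2937 = N2683 := ded_38_1 (flp_i L23367) L23361 L25699
theorem L25707 : sm gh N2683 = N2938 := rfl
theorem L25709 : sm gb N2938 = N2756 := ded_22_1 (flp_h L24040) (flp_b L23369) L25707
theorem L25711 : sm gf N2938 = N2814 := ded_40_1 (flp_h L24566) (flp_f L23373) L25707
theorem L25713 : sm gh N2684 = N2939 := rfl
theorem L25715 : sm gb N2939 = N2759 := ded_22_1 (flp_h L24058) (flp_b L23377) L25713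
theorem L25717 : sm gf N2939 = N2939 := ded_40_1 (flp_h L25713) L23381 L25713
theorem L25718 : sm gg N2939 = N2687 := ded_42_1 (flp_h L23397) (flp_g L23382) L25713
theorem L25720 : sm gd N2939 = N2864 := ded_33_1 (flp_h L24904) L22673 (flp_h L21094) (flp_d L23379) L25713
theorem L25722 : sm gi N2939 = N2939 := ded_44_2 (flp_h L25713) (flp_i L23375) L21084 L23375 L25713
theorem L25723 : sm gg N2685 = N2940 := rfl
theorem L25725 : sm ga N2940 = N2780 := ded_14_1 (flp_g L25519) L25510 L25723
theorem L25727 : sm gb N2940 = N2760 := ded_21_1 (flp_g L24067) (flp_b L23386) L25723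
theorem L25729 : sm gc N2940 = N2784 := ded_27_1 (flp_g L25047) L25040 L25723
theorem L25731 : sm ge N2940 = N2688 := ded_36_1 (flp_g L23404) (flp_e L23389) L25723
theorem L25733 : sm gh N2940 = N2940 := ded_42_2 (flp_g L25723) L23388 L25723
theorem L25734 : sm gf N2940 = N2799 := ded_39_1 L24466 (flp_f L23284) L23286 L23384 L25723
theorem L25736 : sm gi N2685 = N2941 := rfl
theorem L25738 : sm gb N2941 = N2761 := ded_23_1 (flp_i L24075) (flp_b L23386) L25736
theorem L25740 : sm ge N2941 = N2689 := ded_38_1 (flp_i L23414) (flp_e L23389) L25736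
theorem L25742 : sm gf N2941 = N2686 := ded_41_1 (flp_i L23391) L23384 L25736
theorem L25744 : sm gh N2686 = N2942 := rfl
theorem L25746 : sm gb N2942 = N2762 := ded_22_1 (flp_h L24082) (flp_b L23393) L25744
theorem L25748 : sm ge N2942 = N2687 := ded_37_1 (flp_h L23397) (flp_e L23395) L25744
theorem L25750 : sm gi N2942 = N2942 := ded_44_2 (flp_h L25744) (flp_i L23391) L21100 L23391 L25744
theorem L25751 : sm gi N2688 = N2943 := rfl
theorem L25753 : sm ga N2943 = N2858 := ded_16_1 (flp_i L24860) (flp_a L23406) L25751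
theorem L25755 : sm gb N2943 = N2763 := ded_23_1 (flp_i L24088) (flp_b L23408) L25751
theorem L25757 : sm gd N2943 = N2817 := ded_34_1 (flp_i L24590) (flp_d L23410) L25751
theorem L25759 : sm gf N2943 = N2943 := ded_41_1 (flp_i L25751) L23413 L25751
theorem L25760 : sm gg N2943 = N2689 := ded_43_1 (flp_i L23414) L23404 L25751
theorem L25762 : sm gh N2689 = N2944 := rfl
theorem L25764 : sm gb N2944 = N2764 := ded_22_1 (flp_h L24098) (flp_b L23416) L25762
theorem L25766 : sm gf N2944 = N2690 := ded_40_1 (flp_h L23422) (flp_f L23420) L25762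
theorem L25768 : sm gi N2944 = N2944 := ded_44_2 (flp_h L25762) (flp_i L23414) L21115 L23414 L25762
theorem L25769 : sm gi N2691 = N2945 := rfl
theorem L25771 : sm gb N2945 = N2698 := ded_23_1 (flp_i L23487) (flp_b L23432) L25769
theorem L25773 : sm gd N2945 = N2692 := ded_34_1 (flp_i L23439) L23430 L25769
theorem L25775 : sm gf N2945 = N2693 := ded_41_1 (flp_i L23450) (flp_f L23434) L25769
theorem L25777 : sm gg N2945 = N2785 := ded_43_1 (flp_i L24311) (flp_g L23436) L25769
theorem L25779 : sm gh N2693 = N2946 := rfl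
theorem L25781 : sm gb N2946 = N2701 := ded_22_1 (flp_h L23520) (flp_b L23452) L25779
theorem L25783 : sm gg N2946 = N2696 := ded_42_1 (flp_h L23471) (flp_g L23456) L25779
theorem L25785 : sm gd N2946 = N2824 := ded_33_1 (flp_h L24646) L22320 (flp_h L21155) (flp_d L23454) L25779
theorem L25787 : sm gi N2946 = N2946 := ded_44_2 (flp_h L25779) (flp_i L23450) L21146 L23450 L25779
theorem L25788 : sm ga N2694 = N2947 := rfl
theorem L25790 : sm gc N2947 = N2702 := ded_10_2 (flp_a L23528) (flp_c L23463) L25788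
theorem L25792 : sm ge N2947 = N2725 := ded_12_2 (flp_a L25110) L25104 L25788
theorem L25794 : sm gf N2947 = N2820 := ded_13_2 (flp_a L24615) (flp_f L23460) L25788
theorem L25796 : sm gg N2947 = N2722 := ded_14_2 (flp_a L25364) L25370 L25788
theorem L25798 : sm gh N2947 = N2947 := ded_15_2 (flp_a L25788) L23462 L25788
theorem L25799 : sm gb N2947 = N2740 := ded_9_2 L23917 L23289 L23280 L23458 L25788
theorem L25801 : sm gi N2694 = N2948 := rfl
theorem L25803 : sm gb N2948 = N2695 := ded_23_1 (flp_i L23465) L23458 L25801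
theorem L25805 : sm gc N2948 = N2703 := ded_29_1 (flp_i L23538) (flp_c L23463) L25801
theorem L25807 : sm gf N2948 = N2821 := ded_41_1 (flp_i L24623) (flp_f L23460) L25801
theorem L25809 : sm gh N2695 = N2949 := rfl
theorem L25811 : sm gc N2949 = N2696 := ded_28_1 (flp_h L23471) (flp_c L23467) L25809
theorem L25813 : sm gf N2949 = N2822 := ded_40_1 (flp_h L24630) (flp_f L23469) L25809
theorem L25815 : sm gi N2949 = N2949 := ded_44_2 (flp_h L25809) (flp_i L23465) L21161 L23465 L25809
theorem L25816 : sm gi N2697 = N2950 := rfl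
theorem L25818 : sm ga N2950 = N2950 := ded_16_1 (flp_i L25816) L23480 L25816
theorem L25819 : sm gc N2950 = N2769 := ded_29_1 (flp_i L24147) (flp_c L23481) L25816
theorem L25821 : sm gd N2950 = N2950 := ded_34_1 (flp_i L25816) L23486 L25816
theorem L25822 : sm ge N2950 = N2698 := ded_38_1 (flp_i L23487) L23478 L25816
theorem L25824 : sm gg N2950 = N2771 := ded_43_1 (flp_i L24167) (flp_g L23483) L25816
theorem L25826 : sm gh N2698 = N2951 := rfl
theorem L25828 : sm ga N2951 = N2951 := ded_15_1 (flp_h L25826) L23489 L25826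
theorem L25829 : sm gc N2951 = N2783 := ded_28_1 (flp_h L24295) (flp_c L23490) L25826
theorem L25831 : sm gf N2951 = N2701 := ded_40_1 (flp_h L23520) (flp_f L23494) L25826
theorem L25833 : sm gg N2951 = N2786 := ded_42_1 (flp_h L24319) (flp_g L23496) L25826
theorem L25835 : sm gd N2951 = N2704 := ded_33_1 (flp_h L23546) L21221 (flp_h L21190) (flp_d L23492) L25826
theorem L25837 : sm gi N2951 = N2951 := ded_44_2 (flp_h L25826) (flp_i L23487) L21179 L23487 L25826
theorem L25838 : sm gi N2699 = N2952 := rfl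
theorem L25840 : sm ga N2952 = N2860 := ded_16_1 (flp_i L24875) L23507 L25838
theorem L25842 : sm gb N2952 = N2700 := ded_23_1 (flp_i L23509) L23498 L25838
theorem L25844 : sm gd N2952 = N2767 := ded_34_1 (flp_i L24124) (flp_d L23500) L25838
theorem L25846 : sm gf N2952 = N2779 := ded_41_1 (flp_i L24255) (flp_f L23502) L25838
theorem L25848 : sm gg N2952 = N2703 := ded_43_1 (flp_i L23538) (flp_g L23504) L25838
theorem L25850 : sm gh N2700 = N2953 := rfl
theorem L25852 : sm ga N2953 = N2953 := ded_15_1 (flp_h L25850) L23511 L25850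
theorem L25853 : sm gc N2953 = N2701 := ded_28_1 (flp_h L23520) (flp_c L23512) L25850
theorem L25855 : sm gf N2953 = N2783 := ded_40_1 (flp_h L24295) (flp_f L23516) L25850
theorem L25857 : sm gg N2953 = N2704 := ded_42_1 (flp_h L23546) (flp_g L23518) L25850
theorem L25859 : sm gd N2953 = N2786 := ded_33_1 (flp_h L24319) L21991 (flp_h L21793) (flp_d L23514) L25850
theorem L25861 : sm gi N2953 = N2953 := ded_44_2 (flp_h L25850) (flp_i L23509) L21199 L23509 L25850
theorem L25862 : sm gi N2702 = N2954 := rfl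
theorem L25864 : sm ga N2954 = N2703 := ded_16_1 (flp_i L23538) L23528 L25862
theorem L25866 : sm gb N2954 = N2954 := ded_23_1 (flp_i L25862) L23537 L25862
theorem L25867 : sm gd N2954 = N2768 := ded_34_1 (flp_i L24137) (flp_d L23530) L25862
theorem L25869 : sm gf N2954 = N2823 := ded_41_1 (flp_i L24636) (flp_f L23532) L25862
theorem L25871 : sm gg N2954 = N2860 := ded_43_1 (flp_i L24875) (flp_g L23534) L25862
theorem L25873 : sm gh N2703 = N2955 := rfl
theorem L25875 : sm gb N2955 = N2704 := ded_22_1 (flp_h L23546) (flp_b L23540) L25873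
theorem L25877 : sm gf N2955 = N2824 := ded_40_1 (flp_h L24646) (flp_f L23544) L25873
theorem L25879 : sm gi N2955 = N2955 := ded_44_2 (flp_h L25873) (flp_i L23538) L21215 L23538 L25873
theorem L25880 : sm gi N2705 = N2956 := rfl
theorem L25882 : sm ga N2956 = N2956 := ded_16_1 (flp_i L25880) L23556 L25880
theorem L25883 : sm gb N2956 = N2707 := ded_23_1 (flp_i L23574) (flp_b L23557) L25880
theorem L25885 : sm gd N2956 = N2706 := ded_34_1 (flp_i L23563) L23554 L25880
theorem L25887 : sm gf N2956 = N2769 := ded_41_1 (flp_i L24147) (flp_f L23559) L25880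
theorem L25889 : sm gg N2956 = N2956 := ded_43_1 (flp_i L25880) L23561 L25880
theorem L25890 : sm gh N2707 = N2957 := rfl
theorem L25892 : sm ga N2957 = N2710 := ded_15_1 (flp_h L23603) (flp_a L23576) L25890
theorem L25894 : sm gc N2957 = N2717 := ded_28_1 (flp_h L23686) (flp_c L23578) L25890
theorem L25896 : sm gf N2957 = N2857 := ded_40_1 (flp_h L24852) (flp_f L23582) L25890
theorem L25898 : sm gg N2957 = N2957 := ded_42_1 (flp_h L25890) L23584 L25890
theorem L25899 : sm gd N2957 = N2957 := ded_33_1 (flp_h L25890) L23580 L21261 (flp_d L23580) L25890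
theorem L25900 : sm gi N2957 = N2957 := ded_44_2 (flp_h L25890) (flp_i L23574) L21250 L23574 L25890
theorem L25901 : sm gi N2708 = N2958 := rfl
theorem L25903 : sm gb N2958 = N2958 := ded_23_1 (flp_i L25901) L23587 L25901
theorem L25904 : sm gc N2958 = N2726 := ded_29_1 (flp_i L23773) (flp_c L23588) L25901
theorem L25906 : sm gd N2958 = N2958 := ded_34_1 (flp_i L25901) L23590 L25901
theorem L25907 : sm ge N2958 = N2860 := ded_38_1 (flp_i L24875) (flp_e L23592) L25901
theorem L25909 : sm gf N2958 = N2709 := ded_41_1 (flp_i L23594) L23585 L25901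
theorem L25911 : sm gh N2709 = N2959 := rfl
theorem L25913 : sm gb N2959 = N2959 := ded_22_1 (flp_h L25911) L23596 L25911
theorem L25914 : sm gc N2959 = N2727 := ded_28_1 (flp_h L23781) (flp_c L23597) L25911
theorem L25916 : sm ge N2959 = N2710 := ded_37_1 (flp_h L23603) (flp_e L23600) L25911
theorem L25918 : sm gg N2959 = N2959 := ded_42_1 (flp_h L25911) L23602 L25911
theorem L25919 : sm gi N2959 = N2959 := ded_44_2 (flp_h L25911) (flp_i L23594) L21268 L23594 L25911
theorem L25920 : sm gd N2711 = N2960 := rfl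
theorem L25922 : sm ga N2960 = N2812 := ded_11_1 L24556 (flp_a L23615) L25920
theorem L25924 : sm gb N2960 = N2713 := ded_18_1 (flp_d L23639) (flp_b L23617) L25920
theorem L25926 : sm gf N2960 = N2795 := ded_31_2 L24430 (flp_f L23622) L25920
theorem L25928 : sm gg N2960 = N2832 := ded_32_2 L24703 (flp_g L23624) L25920
theorem L25930 : sm gh N2960 = N2805 := ded_33_2 (flp_d L24506) (flp_h L22173) (flp_d L21293) L23613 L25920
theorem L25932 : sm gi N2711 = N2961 := rfl
theorem L25934 : sm ga N2961 = N2816 := ded_16_1 (flp_i L24581) (flp_a L23615) L25932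
theorem L25936 : sm gb N2961 = N2714 := ded_23_1 (flp_i L23651) (flp_b L23617) L25932
theorem L25938 : sm gc N2961 = N2961 := ded_29_1 (flp_i L25932) L23619 L25932
theorem L25939 : sm ge N2961 = N2712 := ded_38_1 (flp_i L23626) (flp_e L23620) L25932
theorem L25941 : sm gf N2961 = N2797 := ded_41_1 (flp_i L24438) (flp_f L23622) L25932
theorem L25943 : sm gg N2961 = N2835 := ded_43_1 (flp_i L24717) (flp_g L23624) L25932
theorem L25945 : sm gh N2961 = N2731 := ded_44_1 (flp_i L23819) (flp_h L21473) (flp_i L21289) L23613 L25932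
theorem L25947 : sm ge N2713 = N2962 := rfl
theorem L25949 : sm ga N2962 = N2720 := ded_12_1 (flp_e L23719) (flp_a L23641) L25947
theorem L25951 : sm gc N2962 = N2775 := ded_25_1 L24219 (flp_c L23647) L25947
theorem L25953 : sm gg N2962 = N2777 := ded_36_2 L24241 (flp_g L23645) L25947
theorem L25955 : sm gh N2962 = N2828 := ded_37_2 (flp_e L24676) (flp_h L23649) L25947
theorem L25957 : sm gd N2962 = N2715 := ded_30_1 (flp_e L23665) (flp_d L21330) (flp_e L21324) L23639 L25947
theorem L25959 : sm gi N2713 = N2963 := rfl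
theorem L25961 : sm ga N2963 = N2721 := ded_16_1 (flp_i L23727) (flp_a L23641) L25959
theorem L25963 : sm gc N2963 = N2826 := ded_29_1 (flp_i L24660) (flp_c L23647) L25959
theorem L25965 : sm gd N2963 = N2714 := ded_34_1 (flp_i L23651) L23639 L25959
theorem L25967 : sm gf N2963 = N2825 := ded_41_1 (flp_i L24652) (flp_f L23643) L25959
theorem L25969 : sm gg N2963 = N2833 := ded_43_1 (flp_i L24705) (flp_g L23645) L25959
theorem L25971 : sm gi N2715 = N2964 := rfl
theorem L25973 : sm ga N2964 = N2723 := ded_16_1 (flp_i L23746) (flp_a L23667) L25971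
theorem L25975 : sm gc N2964 = N2779 := ded_29_1 (flp_i L24255) (flp_c L23669) L25971
theorem L25977 : sm ge N2964 = N2716 := ded_38_1 (flp_i L23674) L23665 L25971
theorem L25979 : sm gg N2964 = N2781 := ded_43_1 (flp_i L24276) (flp_g L23671) L25971
theorem L25981 : sm gh N2716 = N2965 := rfl
theorem L25983 : sm ga N2965 = N2724 := ded_15_1 (flp_h L23754) (flp_a L23676) L25981
theorem L25985 : sm gc N2965 = N2857 := ded_28_1 (flp_h L24852) (flp_c L23678) L25981
theorem L25987 : sm gf N2965 = N2717 := ded_40_1 (flp_h L23686) (flp_f L23682) L25981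
theorem L25989 : sm gg N2965 = N2859 := ded_42_1 (flp_h L24867) (flp_g L23684) L25981
theorem L25991 : sm gd N2965 = N2743 := ded_33_1 (flp_h L23940) L21567 (flp_h L21351) (flp_d L23680) L25981
theorem L25993 : sm gi N2965 = N2965 := ded_44_2 (flp_h L25981) (flp_i L23674) L21340 L23674 L25981
theorem L25994 : sm ge N2718 = N2966 := rfl
theorem L25996 : sm ga N2966 = N2828 := ded_12_1 (flp_e L24676) (flp_a L23696) L25994
theorem L25998 : sm gc N2966 = N2787 := ded_25_1 L24335 (flp_c L23702) L25994
theorem L26000 : sm gg N2966 = N2837 := ded_36_2 (flp_e L24730) (flp_g L23700) L25994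
theorem L26002 : sm gh N2966 = N2720 := ded_37_2 (flp_e L23719) (flp_h L23704) L25994
theorem L26004 : sm gd N2966 = N2966 := ded_30_1 (flp_e L25994) (flp_d L23694) L21381 L23694 L25994
theorem L26005 : sm gi N2718 = N2967 := rfl
theorem L26007 : sm ga N2967 = N2829 := ded_16_1 (flp_i L24681) (flp_a L23696) L26005
theorem L26009 : sm gc N2967 = N2825 := ded_29_1 (flp_i L24652) (flp_c L23702) L26005
theorem L26011 : sm gd N2967 = N2719 := ded_34_1 (flp_i L23706) L23694 L26005
theorem L26013 : sm gf N2967 = N2826 := ded_41_1 (flp_i L24660) (flp_f L23698) L26005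
theorem L26015 : sm gg N2967 = N2838 := ded_43_1 (flp_i L24737) (flp_g L23700) L26005
theorem L26017 : sm gf N2720 = N2968 := rfl
theorem L26019 : sm gb N2968 = N2738 := ded_20_1 (flp_f L25246) L25240 L26017
theorem L26021 : sm gc N2968 = N2842 := ded_26_1 (flp_f L24759) (flp_c L23721) L26017
theorem L26023 : sm gd N2968 = N2722 := ded_31_1 (flp_f L23737) (flp_d L23725) L26017
theorem L26025 : sm ge N2968 = N2730 := ded_35_1 L23817 (flp_e L22396) (flp_f L21388) L23719 L26017
theorem L26027 : sm gi N2720 = N2969 := rfl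
theorem L26029 : sm gc N2969 = N2843 := ded_29_1 (flp_i L24763) (flp_c L23721) L26027
theorem L26031 : sm gd N2969 = N2723 := ded_34_1 (flp_i L23746) (flp_d L23725) L26027
theorem L26033 : sm ge N2969 = N2721 := ded_38_1 (flp_i L23727) L23719 L26027
theorem L26035 : sm gg N2969 = N2849 := ded_43_1 (flp_i L24799) (flp_g L23723) L26027
theorem L26037 : sm gh N2721 = N2970 := rfl
theorem L26039 : sm gc N2970 = N2844 := ded_28_1 (flp_h L24771) (flp_c L23729) L26037
theorem L26041 : sm gf N2970 = N2831 := ded_40_1 (flp_h L24697) (flp_f L23733) L26037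
theorem L26043 : sm gg N2970 = N2850 := ded_42_1 (flp_h L24807) (flp_g L23735) L26037
theorem L26045 : sm gd N2970 = N2756 := ded_33_1 (flp_h L24040) L21668 (flp_h L21404) (flp_d L23731) L26037
theorem L26047 : sm gi N2722 = N2971 := rfl
theorem L26049 : sm gb N2971 = N2742 := ded_23_1 (flp_i L23933) (flp_b L23739) L26047
theorem L26051 : sm gc N2971 = N2860 := ded_29_1 (flp_i L24875) (flp_c L23741) L26047
theorem L26053 : sm ge N2971 = N2726 := ded_38_1 (flp_i L23773) (flp_e L23744) L26047
theorem L26055 : sm gf N2971 = N2723 := ded_41_1 (flp_i L23746) L23737 L26047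
theorem L26057 : sm gh N2723 = N2972 := rfl
theorem L26059 : sm gc N2972 = N2861 := ded_28_1 (flp_h L24882) (flp_c L23748) L26057
theorem L26061 : sm ge N2972 = N2724 := ded_37_1 (flp_h L23754) (flp_e L23750) L26057
theorem L26063 : sm gg N2972 = N2866 := ded_42_1 (flp_h L24918) (flp_g L23752) L26057
theorem L26065 : sm gi N2972 = N2972 := ded_44_2 (flp_h L26057) (flp_i L23746) L21412 L23746 L26057
theorem L26066 : sm gi N2725 = N2973 := rfl
theorem L26068 : sm gb N2973 = N2741 := ded_23_1 (flp_i L23923) (flp_b L23767) L26066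
theorem L26070 : sm gd N2973 = N2732 := ded_34_1 (flp_i L23828) (flp_d L23769) L26066
theorem L26072 : sm gf N2973 = N2973 := ded_41_1 (flp_i L26066) L23772 L26066
theorem L26073 : sm gg N2973 = N2726 := ded_43_1 (flp_i L23773) L23765 L26066
theorem L26075 : sm gh N2726 = N2974 := rfl
theorem L26077 : sm gb N2974 = N2743 := ded_22_1 (flp_h L23940) (flp_b L23775) L26075
theorem L26079 : sm gf N2974 = N2727 := ded_40_1 (flp_h L23781) (flp_f L23779) L26075
theorem L26081 : sm gi N2974 = N2974 := ded_44_2 (flp_h L26075) (flp_i L23773) L21429 L23773 L26075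
theorem L26082 : sm gd N2728 = N2975 := rfl
theorem L26084 : sm ga N2975 = N2842 := ded_11_1 L24761 (flp_a L23791) L26082
theorem L26086 : sm gb N2975 = N2733 := ded_18_1 (flp_d L23838) (flp_b L23793) L26082
theorem L26088 : sm gf N2975 = N2775 := ded_31_2 (flp_d L24211) (flp_f L23798) L26082
theorem L26090 : sm gg N2975 = N2751 := ded_32_2 L24011 (flp_g L23800) L26082
theorem L26092 : sm gh N2975 = N2730 := ded_33_2 (flp_d L23813) (flp_h L21473) L21445 L23789 L26082
theorem L26094 : sm gi N2728 = N2976 := rfl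
theorem L26096 : sm ga N2976 = N2853 := ded_16_1 (flp_i L24821) (flp_a L23791) L26094
theorem L26098 : sm gb N2976 = N2734 := ded_23_1 (flp_i L23850) (flp_b L23793) L26094
theorem L26100 : sm gc N2976 = N2767 := ded_29_1 (flp_i L24124) (flp_c L23795) L26094
theorem L26102 : sm ge N2976 = N2976 := ded_38_1 (flp_i L26094) L23797 L26094
theorem L26103 : sm gf N2976 = N2776 := ded_41_1 (flp_i L24223) (flp_f L23798) L26094
theorem L26105 : sm gg N2976 = N2766 := ded_43_1 (flp_i L24115) (flp_g L23800) L26094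
theorem L26107 : sm gh N2976 = N2806 := ded_44_1 (flp_i L24512) (flp_h L22173) (flp_i L21453) L23789 L26094
theorem L26109 : sm gd N2729 = N2977 := rfl
theorem L26111 : sm gb N2977 = N2735 := ded_18_1 (flp_d L23863) (flp_b L23804) L26109
theorem L26113 : sm gf N2977 = N2836 := ded_31_2 L24726 (flp_f L23809) L26109
theorem L26115 : sm gg N2977 = N2730 := ded_32_2 (flp_d L23813) (flp_g L23811) L26109
theorem L26117 : sm gh N2977 = N2751 := ded_33_2 L24011 L21761 (flp_d L21465) L23802 L26109
theorem L26119 : sm gi N2729 = N2978 := rfl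
theorem L26121 : sm gb N2978 = N2736 := ded_23_1 (flp_i L23875) (flp_b L23804) L26119
theorem L26123 : sm gc N2978 = N2978 := ded_29_1 (flp_i L26119) L23806 L26119
theorem L26124 : sm ge N2978 = N2732 := ded_38_1 (flp_i L23828) (flp_e L23807) L26119
theorem L26126 : sm gf N2978 = N2856 := ded_41_1 (flp_i L24846) (flp_f L23809) L26119
theorem L26128 : sm gg N2978 = N2731 := ded_43_1 (flp_i L23819) (flp_g L23811) L26119
theorem L26130 : sm gh N2978 = N2835 := ded_44_1 (flp_i L24717) L22450 (flp_i L21469) L23802 L26119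
theorem L26132 : sm gc N2730 = N2979 := rfl
theorem L26134 : sm ge N2979 = N2842 := ded_25_2 (flp_c L26021) L26025 L26132
theorem L26136 : sm gf N2979 = N2828 := ded_26_2 L24678 (flp_f L23817) L26132
theorem L26138 : sm gd N2979 = N2979 := ded_24_2 (flp_c L26132) (flp_d L23813) L21477 L23813 L26132
theorem L26139 : sm gi N2730 = N2980 := rfl
theorem L26141 : sm gb N2980 = N2739 := ded_23_1 (flp_i L23907) (flp_b L23815) L26139
theorem L26143 : sm gd N2980 = N2731 := ded_34_1 (flp_i L23819) L23813 L26139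
theorem L26145 : sm gf N2980 = N2830 := ded_41_1 (flp_i L24689) (flp_f L23817) L26139
theorem L26147 : sm ge N2733 = N2981 := rfl
theorem L26149 : sm ga N2981 = N2745 := ded_12_1 (flp_e L23961) (flp_a L23840) L26147
theorem L26151 : sm gc N2981 = N2749 := ded_25_1 (flp_e L23997) (flp_c L23846) L26147
theorem L26153 : sm gg N2981 = N2752 := ded_36_2 (flp_e L24015) (flp_g L23844) L26147
theorem L26155 : sm gh N2981 = N2738 := ded_37_2 (flp_e L23901) (flp_h L23848) L26147
theorem L26157 : sm gd N2981 = N2981 := ded_30_1 (flp_e L26147) (flp_d L23838) L21503 L23838 L26147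
theorem L26158 : sm gi N2733 = N2982 := rfl
theorem L26160 : sm ga N2982 = N2746 := ded_16_1 (flp_i L23966) (flp_a L23840) L26158
theorem L26162 : sm gc N2982 = N2750 := ded_29_1 (flp_i L24003) (flp_c L23846) L26158
theorem L26164 : sm gd N2982 = N2734 := ded_34_1 (flp_i L23850) L23838 L26158
theorem L26166 : sm gf N2982 = N2827 := ded_41_1 (flp_i L24668) (flp_f L23842) L26158
theorem L26168 : sm gg N2982 = N2753 := ded_43_1 (flp_i L24020) (flp_g L23844) L26158
theorem L26170 : sm ge N2735 = N2983 := rfl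
theorem L26172 : sm ga N2983 = N2749 := ded_12_1 (flp_e L23997) (flp_a L23865) L26170
theorem L26174 : sm gc N2983 = N2745 := ded_25_1 (flp_e L23961) (flp_c L23871) L26170
theorem L26176 : sm gg N2983 = N2738 := ded_36_2 (flp_e L23901) (flp_g L23869) L26170
theorem L26178 : sm gh N2983 = N2752 := ded_37_2 (flp_e L24015) (flp_h L23873) L26170
theorem L26180 : sm gd N2983 = N2740 := ded_30_1 (flp_e L23915) (flp_d L21536) (flp_e L21514) L23863 L26170
theorem L26182 : sm gi N2735 = N2984 := rfl
theorem L26184 : sm ga N2984 = N2750 := ded_16_1 (flp_i L24003) (flp_a L23865) L26182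
theorem L26186 : sm gc N2984 = N2746 := ded_29_1 (flp_i L23966) (flp_c L23871) L26182
theorem L26188 : sm gd N2984 = N2736 := ded_34_1 (flp_i L23875) L23863 L26182
theorem L26190 : sm gf N2984 = N2838 := ded_41_1 (flp_i L24737) (flp_f L23867) L26182
theorem L26192 : sm gg N2984 = N2739 := ded_43_1 (flp_i L23907) (flp_g L23869) L26182
theorem L26194 : sm ge N2737 = N2985 := rfl
theorem L26196 : sm ga N2985 = N2752 := ded_12_1 (flp_e L24015) (flp_a L23891) L26194
theorem L26198 : sm gc N2985 = N2738 := ded_25_1 (flp_e L23901) L23889 L26194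
theorem L26200 : sm gg N2985 = N2745 := ded_36_2 (flp_e L23961) (flp_g L23895) L26194
theorem L26202 : sm gh N2985 = N2749 := ded_37_2 (flp_e L23997) (flp_h L23897) L26194
theorem L26204 : sm gd N2985 = N2985 := ded_30_1 (flp_e L26194) L23899 L21597 (flp_d L23899) L26194
theorem L26205 : sm gi N2737 = N2986 := rfl
theorem L26207 : sm ga N2986 = N2753 := ded_16_1 (flp_i L24020) (flp_a L23891) L26205
theorem L26209 : sm gc N2986 = N2739 := ded_29_1 (flp_i L23907) L23889 L26205
theorem L26211 : sm gd N2986 = N2744 := ded_34_1 (flp_i L23948) (flp_d L23899) L26205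
theorem L26213 : sm gf N2986 = N2833 := ded_41_1 (flp_i L24705) (flp_f L23893) L26205
theorem L26215 : sm gg N2986 = N2746 := ded_43_1 (flp_i L23966) (flp_g L23895) L26205
theorem L26217 : sm gi N2738 = N2987 := rfl
theorem L26219 : sm ga N2987 = N2755 := ded_16_1 (flp_i L24034) (flp_a L23903) L26217
theorem L26221 : sm gd N2987 = N2742 := ded_34_1 (flp_i L23933) (flp_d L23905) L26217
theorem L26223 : sm ge N2987 = N2739 := ded_38_1 (flp_i L23907) L23901 L26217
theorem L26225 : sm gh N2739 = N2988 := rfl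
theorem L26227 : sm ga N2988 = N2756 := ded_15_1 (flp_h L24040) (flp_a L23909) L26225
theorem L26229 : sm gf N2988 = N2834 := ded_40_1 (flp_h L24713) (flp_f L23913) L26225
theorem L26231 : sm gf N2740 = N2989 := rfl
theorem L26233 : sm ga N2989 = N2757 := ded_13_1 (flp_f L24044) (flp_a L23917) L26231
theorem L26235 : sm gb N2989 = N2820 := ded_20_1 (flp_f L25794) L25799 L26231
theorem L26237 : sm gc N2989 = N2989 := ded_26_1 (flp_f L26231) L23919 L26231
theorem L26238 : sm gh N2989 = N2989 := ded_40_2 (flp_f L26231) L23922 L26231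
theorem L26239 : sm ge N2989 = N2989 := ded_35_1 (flp_f L26231) (flp_e L23915) L21540 L23915 L26231
theorem L26240 : sm gg N2989 = N2862 := ded_39_2 (flp_f L24890) (flp_g L22987) L22990 (flp_g L23920) L26231
theorem L26242 : sm gi N2740 = N2990 := rfl
theorem L26244 : sm ga N2990 = N2758 := ded_16_1 (flp_i L24051) (flp_a L23917) L26242
theorem L26246 : sm gc N2990 = N2990 := ded_29_1 (flp_i L26242) L23919 L26242
theorem L26247 : sm ge N2990 = N2741 := ded_38_1 (flp_i L23923) L23915 L26242
theorem L26249 : sm gg N2990 = N2742 := ded_43_1 (flp_i L23933) (flp_g L23920) L26242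
theorem L26251 : sm gh N2741 = N2991 := rfl
theorem L26253 : sm ga N2991 = N2759 := ded_15_1 (flp_h L24058) (flp_a L23925) L26251
theorem L26255 : sm gc N2991 = N2991 := ded_28_1 (flp_h L26251) L23927 L26251
theorem L26256 : sm gf N2991 = N2991 := ded_40_1 (flp_h L26251) L23930 L26251
theorem L26257 : sm gg N2991 = N2743 := ded_42_1 (flp_h L23940) (flp_g L23931) L26251
theorem L26259 : sm gd N2991 = N2859 := ded_33_1 (flp_h L24867) L22624 (flp_h L21554) (flp_d L23928) L26251
theorem L26261 : sm gi N2991 = N2991 := ded_44_2 (flp_h L26251) (flp_i L23923) L21544 L23923 L26251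
theorem L26262 : sm gh N2742 = N2992 := rfl
theorem L26264 : sm ga N2992 = N2762 := ded_15_1 (flp_h L24082) (flp_a L23935) L26262
theorem L26266 : sm gc N2992 = N2992 := ded_28_1 (flp_h L26262) L23937 L26262
theorem L26267 : sm ge N2992 = N2743 := ded_37_1 (flp_h L23940) (flp_e L23938) L26262
theorem L26269 : sm gi N2992 = N2992 := ded_44_2 (flp_h L26262) (flp_i L23933) L21561 L23933 L26262
theorem L26270 : sm gf N2745 = N2993 := rfl
theorem L26272 : sm gd N2993 = N2993 := ded_31_1 (flp_f L26270) L23965 L26270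
theorem L26273 : sm gh N2993 = N2754 := ded_40_2 (flp_f L24028) (flp_h L23963) L26270
theorem L26275 : sm ge N2993 = N2839 := ded_35_1 (flp_f L24743) (flp_e L22467) (flp_f L21620) L23961 L26270
theorem L26277 : sm gi N2745 = N2994 := rfl
theorem L26279 : sm gd N2994 = N2994 := ded_34_1 (flp_i L26277) L23965 L26277
theorem L26280 : sm ge N2994 = N2746 := ded_38_1 (flp_i L23966) L23961 L26277
theorem L26282 : sm gh N2746 = N2995 := rfl
theorem L26284 : sm gf N2995 = N2841 := ded_40_1 (flp_h L24755) (flp_f L23970) L26282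
theorem L26286 : sm gi N2995 = N2756 := ded_44_2 (flp_h L24040) (flp_i L21666) (flp_h L21622) L23966 L26282
theorem L26288 : sm ge N2747 = N2996 := rfl
theorem L26290 : sm ga N2996 = N2837 := ded_12_1 (flp_e L24730) (flp_a L23974) L26288
theorem L26292 : sm gc N2996 = N2773 := ded_25_1 L24194 (flp_c L23980) L26288
theorem L26294 : sm gg N2996 = N2828 := ded_36_2 (flp_e L24676) (flp_g L23978) L26288
theorem L26296 : sm gh N2996 = N2777 := ded_37_2 L24241 (flp_h L23982) L26288
theorem L26298 : sm gd N2996 = N2996 := ded_30_1 (flp_e L26288) (flp_d L23972) L21637 L23972 L26288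
theorem L26299 : sm gi N2747 = N2997 := rfl
theorem L26301 : sm ga N2997 = N2838 := ded_16_1 (flp_i L24737) (flp_a L23974) L26299
theorem L26303 : sm gc N2997 = N2827 := ded_29_1 (flp_i L24668) (flp_c L23980) L26299
theorem L26305 : sm gd N2997 = N2748 := ded_34_1 (flp_i L23984) L23972 L26299
theorem L26307 : sm gf N2997 = N2750 := ded_41_1 (flp_i L24003) (flp_f L23976) L26299
theorem L26309 : sm gg N2997 = N2829 := ded_43_1 (flp_i L24681) (flp_g L23978) L26299
theorem L26311 : sm gf N2749 = N2998 := rfl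
theorem L26313 : sm gb N2998 = N2794 := ded_20_1 (flp_f L25480) (flp_b L25486) L26311
theorem L26315 : sm gd N2998 = N2757 := ded_31_1 (flp_f L24044) (flp_d L24001) L26311
theorem L26317 : sm gi N2749 = N2999 := rfl
theorem L26319 : sm gd N2999 = N2758 := ded_34_1 (flp_i L24051) (flp_d L24001) L26317
theorem L26321 : sm ge N2999 = N2750 := ded_38_1 (flp_i L24003) L23997 L26317
theorem L26323 : sm gg N2999 = N2755 := ded_43_1 (flp_i L24034) (flp_g L23999) L26317
theorem L26325 : sm gh N2750 = N3000 := rfl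
theorem L26327 : sm gg N3000 = N2756 := ded_42_1 (flp_h L24040) (flp_g L24007) L26325
theorem L26329 : sm gd N3000 = N2850 := ded_33_1 (flp_h L24807) L22503 (flp_h L21654) (flp_d L24005) L26325
theorem L26331 : sm ga N2751 = N3001 := rfl
theorem L26333 : sm gd N3001 = N2765 := ded_11_2 (flp_a L24104) (flp_d L24011) L26331
theorem L26335 : sm gf N3001 = N2845 := ded_13_2 (flp_a L24775) (flp_f L24013) L26331
theorem L26337 : sm gg N3001 = N2842 := ded_14_2 (flp_a L26084) L26090 L26331
theorem L26339 : sm ge N2751 = N3002 := rfl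
theorem L26341 : sm gb N3002 = N2752 := ded_19_1 (flp_e L24015) L24009 L26339
theorem L26343 : sm gd N3002 = N3002 := ded_30_1 (flp_e L26339) L24011 L21758 (flp_d L24011) L26339
theorem L26344 : sm gi N2751 = N3003 := rfl
theorem L26346 : sm gb N3003 = N2753 := ded_23_1 (flp_i L24020) L24009 L26344
theorem L26348 : sm gd N3003 = N2766 := ded_34_1 (flp_i L24115) (flp_d L24011) L26344
theorem L26350 : sm gf N3003 = N2847 := ded_41_1 (flp_i L24787) (flp_f L24013) L26344
theorem L26352 : sm gf N2752 = N3004 := rfl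
theorem L26354 : sm gc N3004 = N2754 := ded_26_1 (flp_f L24028) (flp_c L24017) L26352
theorem L26356 : sm gd N3004 = N3004 := ded_31_1 (flp_f L26352) L24019 L26352
theorem L26357 : sm ge N3004 = N2848 := ded_35_1 (flp_f L24793) (flp_e L22493) (flp_f L21658) L24015 L26352
theorem L26359 : sm gi N2752 = N3005 := rfl
theorem L26361 : sm gc N3005 = N2755 := ded_29_1 (flp_i L24034) (flp_c L24017) L26359
theorem L26363 : sm gd N3005 = N3005 := ded_34_1 (flp_i L26359) L24019 L26359
theorem L26364 : sm ge N3005 = N2753 := ded_38_1 (flp_i L24020) L24015 L26359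
theorem L26366 : sm gh N2753 = N3006 := rfl
theorem L26368 : sm gc N3006 = N2756 := ded_28_1 (flp_h L24040) (flp_c L24022) L26366
theorem L26370 : sm gf N3006 = N2850 := ded_40_1 (flp_h L24807) (flp_f L24026) L26366
theorem L26372 : sm gg N2754 = N3007 := rfl
theorem L26374 : sm ga N3007 = N2846 := ded_14_1 (flp_g L25242) L25238 L26372
theorem L26376 : sm gd N3007 = N2760 := ded_32_1 (flp_g L24067) (flp_d L24030) L26372
theorem L26378 : sm ge N3007 = N2845 := ded_36_1 L24779 (flp_e L24032) L26372
theorem L26380 : sm gi N2754 = N3008 := rfl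
theorem L26382 : sm gd N3008 = N2761 := ded_34_1 (flp_i L24075) (flp_d L24030) L26380
theorem L26384 : sm ge N3008 = N2851 := ded_38_1 (flp_i L24811) (flp_e L24032) L26380
theorem L26386 : sm gf N3008 = N2755 := ded_41_1 (flp_i L24034) L24028 L26380
theorem L26388 : sm gh N2755 = N3009 := rfl
theorem L26390 : sm ge N3009 = N2756 := ded_37_1 (flp_h L24040) (flp_e L24038) L26388
theorem L26392 : sm gg N2757 = N3010 := rfl
theorem L26394 : sm ga N3010 = N2862 := ded_14_1 (flp_g L26240) L26233 L26392
theorem L26396 : sm gb N3010 = N2799 := ded_21_1 L24466 (flp_b L24046) L26392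
theorem L26398 : sm gc N3010 = N3010 := ded_27_1 (flp_g L26392) L24048 L26392
theorem L26399 : sm ge N3010 = N3010 := ded_36_1 (flp_g L26392) L24050 L26392
theorem L26400 : sm gh N3010 = N3010 := ded_42_2 (flp_g L26392) L24049 L26392
theorem L26401 : sm gf N3010 = N2760 := ded_39_1 (flp_g L24067) (flp_f L21686) (flp_g L21675) L24044 L26392
theorem L26403 : sm gi N2757 = N3011 := rfl
theorem L26405 : sm gb N3011 = N2801 := ded_23_1 (flp_i L24479) (flp_b L24046) L26403
theorem L26407 : sm gc N3011 = N3011 := ded_29_1 (flp_i L26403) L24048 L26403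
theorem L26408 : sm ge N3011 = N3011 := ded_38_1 (flp_i L26403) L24050 L26403
theorem L26409 : sm gf N3011 = N2758 := ded_41_1 (flp_i L24051) L24044 L26403
theorem L26411 : sm gh N2758 = N3012 := rfl
theorem L26413 : sm gc N3012 = N3012 := ded_28_1 (flp_h L26411) L24053 L26411
theorem L26414 : sm ge N3012 = N2759 := ded_37_1 (flp_h L24058) (flp_e L24054) L26411
theorem L26416 : sm gg N3012 = N2762 := ded_42_1 (flp_h L24082) (flp_g L24056) L26411
theorem L26418 : sm gi N3012 = N3012 := ded_44_2 (flp_h L26411) (flp_i L24051) L21677 L24051 L26411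
theorem L26419 : sm gi N2760 = N3013 := rfl
theorem L26421 : sm ga N3013 = N2863 := ded_16_1 (flp_i L24897) (flp_a L24069) L26419
theorem L26423 : sm gc N3013 = N3013 := ded_29_1 (flp_i L26419) L24071 L26419
theorem L26424 : sm ge N3013 = N2763 := ded_38_1 (flp_i L24088) (flp_e L24072) L26419
theorem L26426 : sm gg N3013 = N2761 := ded_43_1 (flp_i L24075) L24067 L26419
theorem L26428 : sm gh N2761 = N3014 := rfl
theorem L26430 : sm gc N3014 = N3014 := ded_28_1 (flp_h L26428) L24077 L26428
theorem L26431 : sm ge N3014 = N2764 := ded_37_1 (flp_h L24098) (flp_e L24078) L26428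
theorem L26433 : sm gf N3014 = N2762 := ded_40_1 (flp_h L24082) (flp_f L24080) L26428
theorem L26435 : sm gi N3014 = N3014 := ded_44_2 (flp_h L26428) (flp_i L24075) L21689 L24075 L26428
theorem L26436 : sm gd N2762 = N3015 := rfl
theorem L26438 : sm gi N3015 = N3015 := ded_34_2 (flp_d L26436) L24087 L26436
theorem L26439 : sm gh N2763 = N3016 := rfl
theorem L26441 : sm ga N3016 = N2864 := ded_15_1 (flp_h L24904) (flp_a L24090) L26439
theorem L26443 : sm gc N3016 = N3016 := ded_28_1 (flp_h L26439) L24092 L26439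
theorem L26444 : sm gf N3016 = N3016 := ded_40_1 (flp_h L26439) L24095 L26439
theorem L26445 : sm gg N3016 = N2764 := ded_42_1 (flp_h L24098) (flp_g L24096) L26439
theorem L26447 : sm gi N3016 = N3016 := ded_44_2 (flp_h L26439) (flp_i L24088) L21710 L24088 L26439
theorem L26448 : sm gi N2765 = N3017 := rfl
theorem L26450 : sm ga N3017 = N2766 := ded_16_1 (flp_i L24115) L24104 L26448
theorem L26452 : sm gc N3017 = N2768 := ded_29_1 (flp_i L24137) (flp_c L24106) L26448
theorem L26454 : sm ge N3017 = N3017 := ded_38_1 (flp_i L26448) L24108 L26448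
theorem L26455 : sm gf N3017 = N2854 := ded_41_1 (flp_i L24828) (flp_f L24109) L26448
theorem L26457 : sm gg N3017 = N2853 := ded_43_1 (flp_i L24821) (flp_g L24111) L26448
theorem L26459 : sm gh N2769 = N3018 := rfl
theorem L26461 : sm ga N3018 = N3018 := ded_15_1 (flp_h L26459) L24149 L26459
theorem L26462 : sm gb N3018 = N2857 := ded_22_1 (flp_h L24852) (flp_b L24150) L26459
theorem L26464 : sm ge N3018 = N2783 := ded_37_1 (flp_h L24295) (flp_e L24154) L26459
theorem L26466 : sm gg N3018 = N2772 := ded_42_1 (flp_h L24176) (flp_g L24156) L26459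
theorem L26468 : sm gd N3018 = N3018 := ded_33_1 (flp_h L26459) L24152 L21855 (flp_d L24152) L26459
theorem L26469 : sm gi N3018 = N3018 := ded_44_2 (flp_h L26459) (flp_i L24147) L21844 L24147 L26459
theorem L26470 : sm gi N2770 = N3019 := rfl
theorem L26472 : sm gb N3019 = N2771 := ded_23_1 (flp_i L24167) L24158 L26470
theorem L26474 : sm gc N3019 = N2858 := ded_29_1 (flp_i L24860) (flp_c L24165) L26470
theorem L26476 : sm gd N3019 = N3019 := ded_34_1 (flp_i L26470) L24160 L26470
theorem L26477 : sm ge N3019 = N2785 := ded_38_1 (flp_i L24311) (flp_e L24161) L26470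
theorem L26479 : sm gf N3019 = N3019 := ded_41_1 (flp_i L26470) L24163 L26470
theorem L26480 : sm gh N2771 = N3020 := rfl
theorem L26482 : sm ga N3020 = N3020 := ded_15_1 (flp_h L26480) L24169 L26480
theorem L26483 : sm gc N3020 = N2772 := ded_28_1 (flp_h L24176) (flp_c L24170) L26480
theorem L26485 : sm ge N3020 = N2786 := ded_37_1 (flp_h L24319) (flp_e L24173) L26480
theorem L26487 : sm gf N3020 = N3020 := ded_40_1 (flp_h L26480) L24175 L26480
theorem L26488 : sm gi N3020 = N3020 := ded_44_2 (flp_h L26480) (flp_i L24167) L21862 L24167 L26480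
theorem L26489 : sm gi N2773 = N3021 := rfl
theorem L26491 : sm ga N3021 = N2840 := ded_16_1 (flp_i L24749) (flp_a L24188) L26489
theorem L26493 : sm gb N3021 = N2826 := ded_23_1 (flp_i L24660) (flp_b L24190) L26489
theorem L26495 : sm gd N3021 = N2774 := ded_34_1 (flp_i L24198) L24186 L26489
theorem L26497 : sm ge N3021 = N2827 := ded_38_1 (flp_i L24668) (flp_e L24194) L26489
theorem L26499 : sm gg N3021 = N2830 := ded_43_1 (flp_i L24689) (flp_g L24192) L26489
theorem L26501 : sm gi N2775 = N3022 := rfl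
theorem L26503 : sm ga N3022 = N2843 := ded_16_1 (flp_i L24763) (flp_a L24213) L26501
theorem L26505 : sm gb N3022 = N2827 := ded_23_1 (flp_i L24668) (flp_b L24215) L26501
theorem L26507 : sm gd N3022 = N2776 := ded_34_1 (flp_i L24223) L24211 L26501
theorem L26509 : sm ge N3022 = N2826 := ded_38_1 (flp_i L24660) (flp_e L24219) L26501
theorem L26511 : sm gg N3022 = N2778 := ded_43_1 (flp_i L24245) (flp_g L24217) L26501
theorem L26513 : sm gb N2777 = N3023 := rfl
theorem L26515 : sm gd N3023 = N2780 := ded_18_2 (flp_b L24267) (flp_d L24243) L26513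
theorem L26517 : sm ge N3023 = N2832 := ded_19_2 (flp_b L24701) (flp_e L24241) L26513
theorem L26519 : sm gf N3023 = N2807 := ded_20_2 (flp_b L25232) L25228 L26513
theorem L26521 : sm gc N3023 = N2805 := ded_17_2 L24508 (flp_c L22390) (flp_b L21901) L24237 L26513
theorem L26523 : sm gi N2777 = N3024 := rfl
theorem L26525 : sm ga N3024 = N2849 := ded_16_1 (flp_i L24799) (flp_a L24239) L26523
theorem L26527 : sm gc N3024 = N2778 := ded_29_1 (flp_i L24245) L24237 L26523
theorem L26529 : sm gd N3024 = N2781 := ded_34_1 (flp_i L24276) (flp_d L24243) L26523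
theorem L26531 : sm ge N3024 = N2833 := ded_38_1 (flp_i L24705) (flp_e L24241) L26523
theorem L26533 : sm gh N2778 = N3025 := rfl
theorem L26535 : sm ga N3025 = N2852 := ded_15_1 (flp_h L24817) (flp_a L24247) L26533
theorem L26537 : sm gb N3025 = N2831 := ded_22_1 (flp_h L24697) (flp_b L24249) L26533
theorem L26539 : sm ge N3025 = N2834 := ded_37_1 (flp_h L24713) (flp_e L24253) L26533
theorem L26541 : sm gd N3025 = N2814 := ded_33_1 (flp_h L24566) L22212 (flp_h L21915) (flp_d L24251) L26533
theorem L26543 : sm gh N2779 = N3026 := rfl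
theorem L26545 : sm ga N3026 = N2861 := ded_15_1 (flp_h L24882) (flp_a L24257) L26543
theorem L26547 : sm gb N3026 = N2783 := ded_22_1 (flp_h L24295) (flp_b L24259) L26543
theorem L26549 : sm ge N3026 = N2857 := ded_37_1 (flp_h L24852) (flp_e L24263) L26543
theorem L26551 : sm gg N3026 = N2782 := ded_42_1 (flp_h L24284) (flp_g L24265) L26543
theorem L26553 : sm gd N3026 = N2819 := ded_33_1 (flp_h L24607) L22278 (flp_h L21953) (flp_d L24261) L26543
theorem L26555 : sm gi N3026 = N3026 := ded_44_2 (flp_h L26543) (flp_i L24255) L21942 L24255 L26543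
theorem L26556 : sm gi N2780 = N3027 := rfl
theorem L26558 : sm gb N3027 = N2781 := ded_23_1 (flp_i L24276) L24267 L26556
theorem L26560 : sm gc N3027 = N2785 := ded_29_1 (flp_i L24311) (flp_c L24274) L26556
theorem L26562 : sm ge N3027 = N2858 := ded_38_1 (flp_i L24860) (flp_e L24269) L26556
theorem L26564 : sm gf N3027 = N2818 := ded_41_1 (flp_i L24600) (flp_f L24271) L26556
theorem L26566 : sm gh N2781 = N3028 := rfl
theorem L26568 : sm ga N3028 = N2866 := ded_15_1 (flp_h L24918) (flp_a L24278) L26566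
theorem L26570 : sm gc N3028 = N2782 := ded_28_1 (flp_h L24284) (flp_c L24280) L26566
theorem L26572 : sm ge N3028 = N2859 := ded_37_1 (flp_h L24867) (flp_e L24282) L26566
theorem L26574 : sm gi N3028 = N3028 := ded_44_2 (flp_h L26566) (flp_i L24276) L21961 L24276 L26566
theorem L26575 : sm gi N2784 = N3029 := rfl
theorem L26577 : sm ga N3029 = N2785 := ded_16_1 (flp_i L24311) L24303 L26575
theorem L26579 : sm gb N3029 = N3029 := ded_23_1 (flp_i L26575) L24310 L26575
theorem L26580 : sm gd N3029 = N2798 := ded_34_1 (flp_i L24451) (flp_d L24305) L26575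
theorem L26582 : sm gf N3029 = N2800 := ded_41_1 (flp_i L24469) (flp_f L24307) L26575
theorem L26584 : sm gh N2785 = N3030 := rfl
theorem L26586 : sm gb N3030 = N2786 := ded_22_1 (flp_h L24319) (flp_b L24313) L26584
theorem L26588 : sm gf N3030 = N2819 := ded_40_1 (flp_h L24607) (flp_f L24317) L26584
theorem L26590 : sm gi N3030 = N3030 := ded_44_2 (flp_h L26584) (flp_i L24311) L21985 L24311 L26584
theorem L26591 : sm gi N2787 = N3031 := rfl
theorem L26593 : sm ga N3031 = N2830 := ded_16_1 (flp_i L24689) (flp_a L24329) L26591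
theorem L26595 : sm gb N3031 = N2796 := ded_23_1 (flp_i L24432) (flp_b L24331) L26591
theorem L26597 : sm gd N3031 = N2788 := ded_34_1 (flp_i L24339) L24327 L26591
theorem L26599 : sm ge N3031 = N2825 := ded_38_1 (flp_i L24652) (flp_e L24335) L26591
theorem L26601 : sm gg N3031 = N2840 := ded_43_1 (flp_i L24749) (flp_g L24333) L26591
theorem L26603 : sm gc N2789 = N3032 := rfl
theorem L26605 : sm ga N3032 = N2803 := ded_10_1 (flp_c L24495) (flp_a L24354) L26603
theorem L26607 : sm ge N3032 = N2807 := ded_25_2 (flp_c L24521) (flp_e L24360) L26603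
theorem L26609 : sm gg N3032 = N2810 := ded_27_2 L24543 (flp_g L24358) L26603
theorem L26611 : sm gh N3032 = N2794 := ded_28_2 (flp_c L24414) (flp_h L24362) L26603
theorem L26613 : sm gd N3032 = N3032 := ded_24_2 (flp_c L26603) (flp_d L24352) L22033 L24352 L26603
theorem L26614 : sm gi N2789 = N3033 := rfl
theorem L26616 : sm ga N3033 = N2804 := ded_16_1 (flp_i L24500) (flp_a L24354) L26614
theorem L26618 : sm gb N3033 = N2843 := ded_23_1 (flp_i L24763) (flp_b L24356) L26614
theorem L26620 : sm gd N3033 = N2790 := ded_34_1 (flp_i L24364) L24352 L26614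
theorem L26622 : sm ge N3033 = N2808 := ded_38_1 (flp_i L24527) (flp_e L24360) L26614
theorem L26624 : sm gg N3033 = N2813 := ded_43_1 (flp_i L24558) (flp_g L24358) L26614
theorem L26626 : sm gd N2791 = N3034 := rfl
theorem L26628 : sm ga N3034 = N2805 := ded_11_1 (flp_d L24506) (flp_a L24379) L26626
theorem L26630 : sm gb N3034 = N2839 := ded_18_1 L24745 (flp_b L24381) L26626
theorem L26632 : sm gf N3034 = N2792 := ded_31_2 (flp_d L24388) (flp_f L24386) L26626
theorem L26634 : sm gh N3034 = N2812 := ded_33_2 L24556 L22233 (flp_d L22046) L24377 L26626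
theorem L26636 : sm gi N2791 = N3035 := rfl
theorem L26638 : sm ga N3035 = N2806 := ded_16_1 (flp_i L24512) (flp_a L24379) L26636
theorem L26640 : sm gb N3035 = N2868 := ded_23_1 (flp_i L24932) (flp_b L24381) L26636
theorem L26642 : sm gc N3035 = N2798 := ded_29_1 (flp_i L24451) (flp_c L24383) L26636
theorem L26644 : sm ge N3035 = N3035 := ded_38_1 (flp_i L26636) L24385 L26636
theorem L26645 : sm gf N3035 = N2793 := ded_41_1 (flp_i L24400) (flp_f L24386) L26636
theorem L26647 : sm gh N3035 = N2853 := ded_44_1 (flp_i L24821) L22521 (flp_i L22048) L24377 L26636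
theorem L26649 : sm gc N2792 = N3036 := rfl
theorem L26651 : sm ga N3036 = N2807 := ded_10_1 (flp_c L24521) (flp_a L24390) L26649
theorem L26653 : sm ge N3036 = N2803 := ded_25_2 (flp_c L24495) (flp_e L24396) L26649
theorem L26655 : sm gg N3036 = N2794 := ded_27_2 (flp_c L24414) (flp_g L24394) L26649
theorem L26657 : sm gh N3036 = N2810 := ded_28_2 L24543 (flp_h L24398) L26649
theorem L26659 : sm gd N3036 = N2799 := ded_24_2 (flp_c L24461) (flp_d L22126) (flp_c L22057) L24388 L26649
theorem L26661 : sm gi N2792 = N3037 := rfl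
theorem L26663 : sm ga N3037 = N2808 := ded_16_1 (flp_i L24527) (flp_a L24390) L26661
theorem L26665 : sm gb N3037 = N2840 := ded_23_1 (flp_i L24749) (flp_b L24392) L26661
theorem L26667 : sm gd N3037 = N2793 := ded_34_1 (flp_i L24400) L24388 L26661
theorem L26669 : sm ge N3037 = N2804 := ded_38_1 (flp_i L24500) (flp_e L24396) L26661
theorem L26671 : sm gg N3037 = N2796 := ded_43_1 (flp_i L24432) (flp_g L24394) L26661
theorem L26673 : sm ge N2794 = N3038 := rfl
theorem L26675 : sm ga N3038 = N2810 := ded_12_1 (flp_e L24541) (flp_a L24416) L26673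
theorem L26677 : sm gc N3038 = N2795 := ded_25_1 (flp_e L24420) L24414 L26673
theorem L26679 : sm gg N3038 = N2803 := ded_36_2 (flp_e L26653) L26655 L26673
theorem L26681 : sm gh N3038 = N2807 := ded_37_2 (flp_e L26607) L26611 L26673
theorem L26683 : sm gd N3038 = N3038 := ded_30_1 (flp_e L26673) L24418 L22150 (flp_d L24418) L26673
theorem L26684 : sm gi N2794 = N3039 := rfl
theorem L26686 : sm ga N3039 = N2811 := ded_16_1 (flp_i L24546) (flp_a L24416) L26684
theorem L26688 : sm gc N3039 = N2796 := ded_29_1 (flp_i L24432) L24414 L26684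
theorem L26690 : sm gd N3039 = N2801 := ded_34_1 (flp_i L24479) (flp_d L24418) L26684
theorem L26692 : sm gi N2795 = N3040 := rfl
theorem L26694 : sm ga N3040 = N2813 := ded_16_1 (flp_i L24558) (flp_a L24422) L26692
theorem L26696 : sm gb N3040 = N2825 := ded_23_1 (flp_i L24652) (flp_b L24424) L26692
theorem L26698 : sm gd N3040 = N2797 := ded_34_1 (flp_i L24438) (flp_d L24430) L26692
theorem L26700 : sm ge N3040 = N2796 := ded_38_1 (flp_i L24432) L24420 L26692
theorem L26702 : sm gg N3040 = N2804 := ded_43_1 (flp_i L24500) (flp_g L24426) L26692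
theorem L26704 : sm gh N2796 = N3041 := rfl
theorem L26706 : sm ga N3041 = N2814 := ded_15_1 (flp_h L24566) (flp_a L24434) L26704
theorem L26708 : sm gd N3041 = N2852 := ded_33_1 (flp_h L24817) L22511 (flp_h L22075) (flp_d L24436) L26704
theorem L26710 : sm gi N2799 = N3042 := rfl
theorem L26712 : sm ga N3042 = N2818 := ded_16_1 (flp_i L24600) (flp_a L24463) L26710
theorem L26714 : sm gc N3042 = N2800 := ded_29_1 (flp_i L24469) L24461 L26710
theorem L26716 : sm ge N3042 = N3042 := ded_38_1 (flp_i L26710) L24465 L26710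
theorem L26717 : sm gg N3042 = N2801 := ded_43_1 (flp_i L24479) (flp_g L24466) L26710
theorem L26719 : sm gh N2800 = N3043 := rfl
theorem L26721 : sm ga N3043 = N2819 := ded_15_1 (flp_h L24607) (flp_a L24471) L26719
theorem L26723 : sm gb N3043 = N3043 := ded_22_1 (flp_h L26719) L24473 L26719
theorem L26724 : sm ge N3043 = N3043 := ded_37_1 (flp_h L26719) L24476 L26719
theorem L26725 : sm gg N3043 = N2802 := ded_42_1 (flp_h L24486) (flp_g L24477) L26719
theorem L26727 : sm gd N3043 = N2861 := ded_33_1 (flp_h L24882) L22649 (flp_h L22144) (flp_d L24474) L26719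
theorem L26729 : sm gi N3043 = N3043 := ded_44_2 (flp_h L26719) (flp_i L24469) L22134 L24469 L26719
theorem L26730 : sm gh N2801 = N3044 := rfl
theorem L26732 : sm ga N3044 = N2822 := ded_15_1 (flp_h L24630) (flp_a L24481) L26730
theorem L26734 : sm gc N3044 = N2802 := ded_28_1 (flp_h L24486) (flp_c L24483) L26730
theorem L26736 : sm ge N3044 = N3044 := ded_37_1 (flp_h L26730) L24485 L26730
theorem L26737 : sm gi N3044 = N3044 := ded_44_2 (flp_h L26730) (flp_i L24479) L22151 L24479 L26730
theorem L26738 : sm gb N2803 = N3045 := rfl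
theorem L26740 : sm gd N3045 = N3045 := ded_18_2 (flp_b L26738) L24499 L26738
theorem L26741 : sm gh N3045 = N2809 := ded_22_2 (flp_b L24535) (flp_h L24497) L26738
theorem L26743 : sm gc N3045 = N2836 := ded_17_2 (flp_b L24724) (flp_c L22461) (flp_b L22162) L24495 L26738
theorem L26745 : sm gi N2803 = N3046 := rfl
theorem L26747 : sm gc N3046 = N2804 := ded_29_1 (flp_i L24500) L24495 L26745
theorem L26749 : sm gd N3046 = N3046 := ded_34_1 (flp_i L26745) L24499 L26745
theorem L26750 : sm gh N2804 = N3047 := rfl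
theorem L26752 : sm gb N3047 = N2841 := ded_22_1 (flp_h L24755) (flp_b L24502) L26750
theorem L26754 : sm gi N3047 = N2814 := ded_44_2 (flp_h L24566) (flp_i L22208) (flp_h L22164) L24500 L26750
theorem L26756 : sm ge N2805 = N3048 := rfl
theorem L26758 : sm gb N3048 = N2828 := ded_19_1 (flp_e L24676) (flp_b L24508) L26756
theorem L26760 : sm gc N3048 = N2832 := ded_25_1 (flp_e L26517) L26521 L26756
theorem L26762 : sm gd N3048 = N3048 := ded_30_1 (flp_e L26756) (flp_d L24506) L22179 L24506 L26756
theorem L26763 : sm gi N2805 = N3049 := rfl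
theorem L26765 : sm gb N3049 = N2829 := ded_23_1 (flp_i L24681) (flp_b L24508) L26763
theorem L26767 : sm gd N3049 = N2806 := ded_34_1 (flp_i L24512) L24506 L26763
theorem L26769 : sm gf N3049 = N2808 := ded_41_1 (flp_i L24527) (flp_f L24510) L26763
theorem L26771 : sm gi N2807 = N3050 := rfl
theorem L26773 : sm gc N3050 = N2808 := ded_29_1 (flp_i L24527) L24521 L26771
theorem L26775 : sm gd N3050 = N2818 := ded_34_1 (flp_i L24600) (flp_d L24525) L26771
theorem L26777 : sm gg N3050 = N2811 := ded_43_1 (flp_i L24546) (flp_g L24523) L26771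
theorem L26779 : sm gh N2808 = N3051 := rfl
theorem L26781 : sm gb N3051 = N2844 := ded_22_1 (flp_h L24771) (flp_b L24529) L26779
theorem L26783 : sm gg N3051 = N2814 := ded_42_1 (flp_h L24566) (flp_g L24533) L26779
theorem L26785 : sm ga N2809 = N3052 := rfl
theorem L26787 : sm gc N3052 = N2845 := ded_10_2 (flp_a L24775) (flp_c L24539) L26785
theorem L26789 : sm gd N3052 = N2820 := ded_11_2 (flp_a L24615) (flp_d L24537) L26785
theorem L26791 : sm gg N3052 = N2848 := ded_14_2 (flp_a L25226) L25230 L26785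
theorem L26793 : sm ge N2809 = N3053 := rfl
theorem L26795 : sm gb N3053 = N2810 := ded_19_1 (flp_e L24541) L24535 L26793
theorem L26797 : sm gc N3053 = N2846 := ded_25_1 (flp_e L24781) (flp_c L24539) L26793
theorem L26799 : sm gd N3053 = N3053 := ded_30_1 (flp_e L26793) L24537 L22285 (flp_d L24537) L26793
theorem L26800 : sm gi N2809 = N3054 := rfl
theorem L26802 : sm gb N3054 = N2811 := ded_23_1 (flp_i L24546) L24535 L26800
theorem L26804 : sm gc N3054 = N2847 := ded_29_1 (flp_i L24787) (flp_c L24539) L26800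
theorem L26806 : sm gd N3054 = N2821 := ded_34_1 (flp_i L24623) (flp_d L24537) L26800
theorem L26808 : sm gf N2810 = N3055 := rfl
theorem L26810 : sm gc N3055 = N2812 := ded_26_1 (flp_f L24552) (flp_c L24543) L26808
theorem L26812 : sm gd N3055 = N3055 := ded_31_1 (flp_f L26808) L24545 L26808
theorem L26813 : sm gi N2810 = N3056 := rfl
theorem L26815 : sm gc N3056 = N2813 := ded_29_1 (flp_i L24558) (flp_c L24543) L26813
theorem L26817 : sm gd N3056 = N3056 := ded_34_1 (flp_i L26813) L24545 L26813
theorem L26818 : sm ge N3056 = N2811 := ded_38_1 (flp_i L24546) L24541 L26813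
theorem L26820 : sm gh N2811 = N3057 := rfl
theorem L26822 : sm gc N3057 = N2814 := ded_28_1 (flp_h L24566) (flp_c L24548) L26820
theorem L26824 : sm gg N2812 = N3058 := rfl
theorem L26826 : sm ga N3058 = N2832 := ded_14_1 (flp_g L25928) L25922 L26824
theorem L26828 : sm gb N3058 = N2845 := ded_21_1 L24779 (flp_b L24554) L26824
theorem L26830 : sm gd N3058 = N2815 := ded_32_1 (flp_g L24570) (flp_d L24556) L26824
theorem L26832 : sm gi N2812 = N3059 := rfl
theorem L26834 : sm gb N3059 = N2851 := ded_23_1 (flp_i L24811) (flp_b L24554) L26832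
theorem L26836 : sm gd N3059 = N2816 := ded_34_1 (flp_i L24581) (flp_d L24556) L26832
theorem L26838 : sm gf N3059 = N2813 := ded_41_1 (flp_i L24558) L24552 L26832
theorem L26840 : sm gh N2813 = N3060 := rfl
theorem L26842 : sm gb N3060 = N2852 := ded_22_1 (flp_h L24817) (flp_b L24560) L26840
theorem L26844 : sm ge N3060 = N2814 := ded_37_1 (flp_h L24566) (flp_e L24564) L26840
theorem L26846 : sm gi N2815 = N3061 := rfl
theorem L26848 : sm ga N3061 = N2835 := ded_16_1 (flp_i L24717) (flp_a L24572) L26846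
theorem L26850 : sm gb N3061 = N2854 := ded_23_1 (flp_i L24828) (flp_b L24574) L26846
theorem L26852 : sm gc N3061 = N3061 := ded_29_1 (flp_i L26846) L24576 L26846
theorem L26853 : sm ge N3061 = N2817 := ded_38_1 (flp_i L24590) (flp_e L24577) L26846
theorem L26855 : sm gg N3061 = N2816 := ded_43_1 (flp_i L24581) L24570 L26846
theorem L26857 : sm gh N2818 = N3062 := rfl
theorem L26859 : sm gc N3062 = N2819 := ded_28_1 (flp_h L24607) (flp_c L24602) L26857
theorem L26861 : sm ge N3062 = N3062 := ded_37_1 (flp_h L26857) L24604 L26857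
theorem L26862 : sm gg N3062 = N2822 := ded_42_1 (flp_h L24630) (flp_g L24605) L26857
theorem L26864 : sm gi N3062 = N3062 := ded_44_2 (flp_h L26857) (flp_i L24600) L22273 L24600 L26857
theorem L26865 : sm gi N2820 = N3063 := rfl
theorem L26867 : sm ga N3063 = N2821 := ded_16_1 (flp_i L24623) L24615 L26865
theorem L26869 : sm gc N3063 = N2823 := ded_29_1 (flp_i L24636) (flp_c L24617) L26865
theorem L26871 : sm ge N3063 = N3063 := ded_38_1 (flp_i L26865) L24619 L26865
theorem L26872 : sm gg N3063 = N2865 := ded_43_1 (flp_i L24911) (flp_g L24620) L26865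
theorem L26874 : sm gh N2821 = N3064 := rfl
theorem L26876 : sm gb N3064 = N2822 := ded_22_1 (flp_h L24630) (flp_b L24625) L26874
theorem L26878 : sm gc N3064 = N2824 := ded_28_1 (flp_h L24646) (flp_c L24627) L26874
theorem L26880 : sm ge N3064 = N3064 := ded_37_1 (flp_h L26874) L24629 L26874
theorem L26881 : sm gi N3064 = N3064 := ded_44_2 (flp_h L26874) (flp_i L24623) L22286 L24623 L26874
theorem L26882 : sm gd N2822 = N3065 := rfl
theorem L26884 : sm gi N3065 = N3065 := ded_34_2 (flp_d L26882) L24635 L26882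
theorem L26885 : sm gh N2823 = N3066 := rfl
theorem L26887 : sm ga N3066 = N2824 := ded_15_1 (flp_h L24646) (flp_a L24638) L26885
theorem L26889 : sm gb N3066 = N3066 := ded_22_1 (flp_h L26885) L24640 L26885
theorem L26890 : sm ge N3066 = N3066 := ded_37_1 (flp_h L26885) L24643 L26885
theorem L26891 : sm gg N3066 = N2867 := ded_42_1 (flp_h L24925) (flp_g L24644) L26885
theorem L26893 : sm gi N3066 = N3066 := ded_44_2 (flp_h L26885) (flp_i L24636) L22314 L24636 L26885
theorem L26894 : sm gh N2825 = N3067 := rfl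
theorem L26896 : sm ga N3067 = N2831 := ded_15_1 (flp_h L24697) (flp_a L24654) L26894
theorem L26898 : sm gg N3067 = N2841 := ded_42_1 (flp_h L24755) (flp_g L24658) L26894
theorem L26900 : sm gd N3067 = N2834 := ded_33_1 (flp_h L24713) L22444 (flp_h L22348) (flp_d L24656) L26894
theorem L26902 : sm gi N3067 = N2844 := ded_44_2 (flp_h L24771) (flp_i L22483) (flp_h L22336) L24652 L26894
theorem L26904 : sm gh N2826 = N3068 := rfl
theorem L26906 : sm ga N3068 = N2844 := ded_15_1 (flp_h L24771) (flp_a L24662) L26904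
theorem L26908 : sm gg N3068 = N2834 := ded_42_1 (flp_h L24713) (flp_g L24666) L26904
theorem L26910 : sm gd N3068 = N2841 := ded_33_1 (flp_h L24755) L22475 (flp_h L22368) (flp_d L24664) L26904
theorem L26912 : sm gi N3068 = N2831 := ded_44_2 (flp_h L24697) (flp_i L22402) (flp_h L22356) L24660 L26904
theorem L26914 : sm gh N2827 = N3069 := rfl
theorem L26916 : sm ga N3069 = N2841 := ded_15_1 (flp_h L24755) (flp_a L24670) L26914
theorem L26918 : sm gg N3069 = N2831 := ded_42_1 (flp_h L24697) (flp_g L24674) L26914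
theorem L26920 : sm gd N3069 = N2844 := ded_33_1 (flp_h L24771) L22485 (flp_h L22388) (flp_d L24672) L26914
theorem L26922 : sm gi N3069 = N2834 := ded_44_2 (flp_h L24713) (flp_i L22440) (flp_h L22376) L24668 L26914
theorem L26924 : sm gi N2828 = N3070 := rfl
theorem L26926 : sm gc N3070 = N2830 := ded_29_1 (flp_i L24689) (flp_c L24678) L26924
theorem L26928 : sm gd N3070 = N3070 := ded_34_1 (flp_i L26924) L24680 L26924
theorem L26929 : sm ge N3070 = N2829 := ded_38_1 (flp_i L24681) L24676 L26924
theorem L26931 : sm gh N2829 = N3071 := rfl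
theorem L26933 : sm gc N3071 = N2831 := ded_28_1 (flp_h L24697) (flp_c L24683) L26931
theorem L26935 : sm gf N3071 = N2844 := ded_40_1 (flp_h L24771) (flp_f L24687) L26931
theorem L26937 : sm gh N2830 = N3072 := rfl
theorem L26939 : sm gb N3072 = N2834 := ded_22_1 (flp_h L24713) (flp_b L24691) L26937
theorem L26941 : sm ge N3072 = N2831 := ded_37_1 (flp_h L24697) (flp_e L24695) L26937
theorem L26943 : sm gi N2832 = N3073 := rfl
theorem L26945 : sm gb N3073 = N2833 := ded_23_1 (flp_i L24705) L24701 L26943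
theorem L26947 : sm gd N3073 = N2835 := ded_34_1 (flp_i L24717) (flp_d L24703) L26943
theorem L26949 : sm gh N2833 = N3074 := rfl
theorem L26951 : sm ga N3074 = N2850 := ded_15_1 (flp_h L24807) (flp_a L24707) L26949
theorem L26953 : sm gc N3074 = N2834 := ded_28_1 (flp_h L24713) (flp_c L24709) L26949
theorem L26955 : sm ga N2836 = N3075 := rfl
theorem L26957 : sm gd N3075 = N2855 := ded_11_2 (flp_a L24838) (flp_d L24726) L26955
theorem L26959 : sm gg N3075 = N2839 := ded_14_2 (flp_a L25200) L25206 L26955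
theorem L26961 : sm gh N3075 = N2845 := ded_15_2 (flp_a L24775) (flp_h L24728) L26955
theorem L26963 : sm ge N2836 = N3076 := rfl
theorem L26965 : sm gb N3076 = N2837 := ded_19_1 (flp_e L24730) L24724 L26963
theorem L26967 : sm gh N3076 = N2846 := ded_37_2 (flp_e L24781) (flp_h L24728) L26963
theorem L26969 : sm gd N3076 = N3076 := ded_30_1 (flp_e L26963) L24726 L22587 (flp_d L24726) L26963
theorem L26970 : sm gi N2836 = N3077 := rfl
theorem L26972 : sm gb N3077 = N2838 := ded_23_1 (flp_i L24737) L24724 L26970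
theorem L26974 : sm gd N3077 = N2856 := ded_34_1 (flp_i L24846) (flp_d L24726) L26970
theorem L26976 : sm gf N2837 = N3078 := rfl
theorem L26978 : sm gc N3078 = N2839 := ded_26_1 (flp_f L24743) (flp_c L24732) L26976
theorem L26980 : sm gd N3078 = N3078 := ded_31_1 (flp_f L26976) L24736 L26976
theorem L26981 : sm gh N3078 = N2848 := ded_40_2 (flp_f L24793) (flp_h L24734) L26976
theorem L26983 : sm gi N2837 = N3079 := rfl
theorem L26985 : sm gc N3079 = N2840 := ded_29_1 (flp_i L24749) (flp_c L24732) L26983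
theorem L26987 : sm gd N3079 = N3079 := ded_34_1 (flp_i L26983) L24736 L26983
theorem L26988 : sm ge N3079 = N2838 := ded_38_1 (flp_i L24737) L24730 L26983
theorem L26990 : sm gh N2838 = N3080 := rfl
theorem L26992 : sm gc N3080 = N2841 := ded_28_1 (flp_h L24755) (flp_c L24739) L26990
theorem L26994 : sm gi N3080 = N2850 := ded_44_2 (flp_h L24807) (flp_i L22499) (flp_h L22463) L24737 L26990
theorem L26996 : sm gi N2839 = N3081 := rfl
theorem L26998 : sm gd N3081 = N2868 := ded_34_1 (flp_i L24932) (flp_d L24745) L26996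
theorem L27000 : sm gf N3081 = N2840 := ded_41_1 (flp_i L24749) L24743 L26996
theorem L27002 : sm gh N2840 = N3082 := rfl
theorem L27004 : sm ge N3082 = N2841 := ded_37_1 (flp_h L24755) (flp_e L24753) L27002
theorem L27006 : sm gi N3082 = N2852 := ded_44_2 (flp_h L24817) (flp_i L22509) (flp_h L22469) L24749 L27002
theorem L27008 : sm gi N2842 = N3083 := rfl
theorem L27010 : sm gd N3083 = N2853 := ded_34_1 (flp_i L24821) (flp_d L24761) L27008
theorem L27012 : sm gf N3083 = N2843 := ded_41_1 (flp_i L24763) L24759 L27008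
theorem L27014 : sm gh N2843 = N3084 := rfl
theorem L27016 : sm ge N3084 = N2844 := ded_37_1 (flp_h L24771) (flp_e L24767) L27014
theorem L27018 : sm gg N3084 = N2852 := ded_42_1 (flp_h L24817) (flp_g L24769) L27014
theorem L27020 : sm gi N2845 = N3085 := rfl
theorem L27022 : sm ga N3085 = N2847 := ded_16_1 (flp_i L24787) L24775 L27020
theorem L27024 : sm gd N3085 = N2854 := ded_34_1 (flp_i L24828) (flp_d L24777) L27020
theorem L27026 : sm gg N3085 = N2851 := ded_43_1 (flp_i L24811) (flp_g L24779) L27020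
theorem L27028 : sm gf N2846 = N3086 := rfl
theorem L27030 : sm gb N3086 = N2848 := ded_20_1 (flp_f L24793) (flp_b L24783) L27028
theorem L27032 : sm gd N3086 = N2862 := ded_31_1 (flp_f L24890) (flp_d L24785) L27028
theorem L27034 : sm gi N2846 = N3087 := rfl
theorem L27036 : sm gb N3087 = N2849 := ded_23_1 (flp_i L24799) (flp_b L24783) L27034
theorem L27038 : sm gd N3087 = N2863 := ded_34_1 (flp_i L24897) (flp_d L24785) L27034
theorem L27040 : sm ge N3087 = N2847 := ded_38_1 (flp_i L24787) L24781 L27034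
theorem L27042 : sm gh N2847 = N3088 := rfl
theorem L27044 : sm gb N3088 = N2850 := ded_22_1 (flp_h L24807) (flp_b L24789) L27042
theorem L27046 : sm gi N2848 = N3089 := rfl
theorem L27048 : sm gc N3089 = N2851 := ded_29_1 (flp_i L24811) (flp_c L24795) L27046
theorem L27050 : sm gd N3089 = N2865 := ded_34_1 (flp_i L24911) (flp_d L24797) L27046
theorem L27052 : sm gf N3089 = N2849 := ded_41_1 (flp_i L24799) L24793 L27046
theorem L27054 : sm gh N2849 = N3090 := rfl
theorem L27056 : sm gc N3090 = N2852 := ded_28_1 (flp_h L24817) (flp_c L24801) L27054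
theorem L27058 : sm ge N3090 = N2850 := ded_37_1 (flp_h L24807) (flp_e L24805) L27054
theorem L27060 : sm gh N2851 = N3091 := rfl
theorem L27062 : sm gf N3091 = N2852 := ded_40_1 (flp_h L24817) (flp_f L24815) L27060
theorem L27064 : sm gi N2855 = N3092 := rfl
theorem L27066 : sm ga N3092 = N2856 := ded_16_1 (flp_i L24846) L24838 L27064
theorem L27068 : sm gc N3092 = N3092 := ded_29_1 (flp_i L27064) L24840 L27064
theorem L27069 : sm ge N3092 = N3092 := ded_38_1 (flp_i L27064) L24841 L27064
theorem L27070 : sm gg N3092 = N2868 := ded_43_1 (flp_i L24932) (flp_g L24842) L27064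
theorem L27072 : sm gh N2858 = N3093 := rfl
theorem L27074 : sm gb N3093 = N2859 := ded_22_1 (flp_h L24867) (flp_b L24862) L27072
theorem L27076 : sm gf N3093 = N3093 := ded_40_1 (flp_h L27072) L24866 L27072
theorem L27077 : sm gi N3093 = N3093 := ded_44_2 (flp_h L27072) (flp_i L24860) L22617 L24860 L27072
theorem L27078 : sm gh N2860 = N3094 := rfl
theorem L27080 : sm gb N3094 = N3094 := ded_22_1 (flp_h L27078) L24877 L27078
theorem L27081 : sm gf N3094 = N2861 := ded_40_1 (flp_h L24882) (flp_f L24880) L27078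
theorem L27083 : sm gi N3094 = N3094 := ded_44_2 (flp_h L27078) (flp_i L24875) L22645 L24875 L27078
theorem L27084 : sm gi N2862 = N3095 := rfl
theorem L27086 : sm gb N3095 = N2865 := ded_23_1 (flp_i L24911) (flp_b L24892) L27084
theorem L27088 : sm gc N3095 = N3095 := ded_29_1 (flp_i L27084) L24894 L27084
theorem L27089 : sm ge N3095 = N3095 := ded_38_1 (flp_i L27084) L24896 L27084
theorem L27090 : sm gf N3095 = N2863 := ded_41_1 (flp_i L24897) L24890 L27084
theorem L27092 : sm gh N2863 = N3096 := rfl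
theorem L27094 : sm gb N3096 = N2866 := ded_22_1 (flp_h L24918) (flp_b L24899) L27092
theorem L27096 : sm gc N3096 = N3096 := ded_28_1 (flp_h L27092) L24901 L27092
theorem L27097 : sm ge N3096 = N2864 := ded_37_1 (flp_h L24904) (flp_e L24902) L27092
theorem L27099 : sm gi N3096 = N3096 := ded_44_2 (flp_h L27092) (flp_i L24897) L22667 L24897 L27092
theorem L27100 : sm gh N2865 = N3097 := rfl
theorem L27102 : sm gc N3097 = N2867 := ded_28_1 (flp_h L24925) (flp_c L24913) L27100
theorem L27104 : sm ge N3097 = N3097 := ded_37_1 (flp_h L27100) L24915 L27100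
theorem L27105 : sm gf N3097 = N2866 := ded_40_1 (flp_h L24918) (flp_f L24916) L27100
theorem L27107 : sm gi N3097 = N3097 := ded_44_2 (flp_h L27100) (flp_i L24911) L22680 L24911 L27100
theorem L27108 : sm gd N2866 = N3098 := rfl
theorem L27110 : sm gi N3098 = N3098 := ded_34_2 (flp_d L27108) L24924 L27108
theorem L27111 : sm gi N2869 = N3099 := rfl
theorem L27113 : sm ga N3099 = N3099 := ded_16_1 (flp_i L27111) L24940 L27111
theorem L27114 : sm gb N3099 = N2907 := ded_23_1 (flp_i L25385) (flp_b L24945) L27111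
theorem L27116 : sm gc N3099 = N2871 := ded_29_1 (flp_i L24962) L24938 L27111
theorem L27118 : sm gd N3099 = N3099 := ded_34_1 (flp_i L27111) L24947 L27111
theorem L27119 : sm ge N3099 = N2956 := ded_38_1 (flp_i L25880) L24948 L27111
theorem L27121 : sm gf N3099 = N2887 := ded_41_1 (flp_i L25150) (flp_f L24941) L27111
theorem L27123 : sm gg N3099 = N3099 := ded_43_1 (flp_i L27111) L24943 L27111
theorem L27124 : sm gi N2870 = N3100 := rfl
theorem L27126 : sm ga N3100 = N3100 := ded_16_1 (flp_i L27124) L24952 L27124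
theorem L27127 : sm gb N3100 = N2874 := ded_23_1 (flp_i L25002) (flp_b L24953) L27124
theorem L27129 : sm gc N3100 = N2956 := ded_29_1 (flp_i L25880) (flp_c L24955) L27124
theorem L27131 : sm gd N3100 = N3100 := ded_34_1 (flp_i L27124) L24959 L27124
theorem L27132 : sm ge N3100 = N2871 := ded_38_1 (flp_i L24962) L24950 L27124
theorem L27134 : sm gf N3100 = N2950 := ded_41_1 (flp_i L25816) (flp_f L24960) L27124
theorem L27136 : sm gg N3100 = N3100 := ded_43_1 (flp_i L27124) L24957 L27124
theorem L27137 : sm gh N2871 = N3101 := rfl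
theorem L27139 : sm ga N3101 = N3101 := ded_15_1 (flp_h L27137) L24964 L27137
theorem L27140 : sm gb N3101 = N2875 := ded_22_1 (flp_h L25012) (flp_b L24965) L27137
theorem L27142 : sm gf N3101 = N2888 := ded_40_1 (flp_h L25160) (flp_f L24969) L27137
theorem L27144 : sm gg N3101 = N3101 := ded_42_1 (flp_h L27137) L24971 L27137
theorem L27145 : sm gd N3101 = N3101 := ded_33_1 (flp_h L27137) L24967 L22744 (flp_d L24967) L27137
theorem L27146 : sm gi N3101 = N3101 := ded_44_2 (flp_h L27137) (flp_i L24962) L22733 L24962 L27137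
theorem L27147 : sm gh N2872 = N3102 := rfl
theorem L27149 : sm ga N3102 = N2879 := ded_15_1 (flp_h L25062) (flp_a L24974) L27147
theorem L27151 : sm gb N3102 = N2888 := ded_22_1 (flp_h L25160) (flp_b L24976) L27147
theorem L27153 : sm gc N3102 = N2920 := ded_28_1 (flp_h L25531) (flp_c L24978) L27147
theorem L27155 : sm ge N3102 = N2946 := ded_37_1 (flp_h L25779) (flp_e L24982) L27147
theorem L27157 : sm gf N3102 = N2875 := ded_40_1 (flp_h L25012) (flp_f L24984) L27147
theorem L27159 : sm gg N3102 = N2885 := ded_42_1 (flp_h L25127) (flp_g L24986) L27147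
theorem L27161 : sm gd N3102 = N3102 := ded_33_1 (flp_h L27147) L24980 L22774 (flp_d L24980) L27147
theorem L27162 : sm gi N3102 = N3102 := ded_44_2 (flp_h L27147) (flp_i L24972) L22759 L24972 L27147
theorem L27163 : sm gi N2873 = N3103 := rfl
theorem L27165 : sm ga N3103 = N2881 := ded_16_1 (flp_i L25083) (flp_a L24990) L27163
theorem L27167 : sm gb N3103 = N2950 := ded_23_1 (flp_i L25816) (flp_b L24992) L27163
theorem L27169 : sm gc N3103 = N2921 := ded_29_1 (flp_i L25540) (flp_c L24994) L27163
theorem L27171 : sm gd N3103 = N3103 := ded_34_1 (flp_i L27163) L24996 L27163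
theorem L27172 : sm ge N3103 = N2945 := ded_38_1 (flp_i L25769) (flp_e L24998) L27163
theorem L27174 : sm gf N3103 = N2874 := ded_41_1 (flp_i L25002) L24988 L27163
theorem L27176 : sm gg N3103 = N3019 := ded_43_1 (flp_i L26470) L25000 L27163
theorem L27178 : sm gh N2874 = N3104 := rfl
theorem L27180 : sm ga N3104 = N2882 := ded_15_1 (flp_h L25091) (flp_a L25004) L27178
theorem L27182 : sm gc N3104 = N2922 := ded_28_1 (flp_h L25552) (flp_c L25006) L27178
theorem L27184 : sm ge N3104 = N2875 := ded_37_1 (flp_h L25012) (flp_e L25009) L27178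
theorem L27186 : sm gg N3104 = N3104 := ded_42_1 (flp_h L27178) L25011 L27178
theorem L27187 : sm gi N3104 = N3104 := ded_44_2 (flp_h L27178) (flp_i L25002) L22782 L25002 L27178
theorem L27188 : sm gh N2876 = N3105 := rfl
theorem L27190 : sm ga N3105 = N2885 := ded_15_1 (flp_h L25127) (flp_a L25023) L27188
theorem L27192 : sm gb N3105 = N3105 := ded_22_1 (flp_h L27188) L25025 L27188
theorem L27193 : sm gc N3105 = N2939 := ded_28_1 (flp_h L25713) (flp_c L25026) L27188
theorem L27195 : sm ge N3105 = N2925 := ded_37_1 (flp_h L25590) (flp_e L25030) L27188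
theorem L27197 : sm gf N3105 = N3105 := ded_40_1 (flp_h L27188) L25032 L27188
theorem L27198 : sm gg N3105 = N2879 := ded_42_1 (flp_h L25062) (flp_g L25033) L27188
theorem L27200 : sm gd N3105 = N3105 := ded_33_1 (flp_h L27188) L25028 L22818 (flp_d L25028) L27188
theorem L27201 : sm gi N3105 = N3105 := ded_44_2 (flp_h L27188) (flp_i L25021) L22805 L25021 L27188
theorem L27202 : sm gi N2877 = N3106 := rfl
theorem L27204 : sm ga N3106 = N2945 := ded_16_1 (flp_i L25769) (flp_a L25037) L27202
theorem L27206 : sm gb N3106 = N3106 := ded_23_1 (flp_i L27202) L25039 L27202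
theorem L27207 : sm gc N3106 = N2941 := ded_29_1 (flp_i L25736) (flp_c L25040) L27202
theorem L27209 : sm gd N3106 = N2923 := ded_34_1 (flp_i L25564) (flp_d L25042) L27202
theorem L27211 : sm ge N3106 = N2881 := ded_38_1 (flp_i L25083) (flp_e L25045) L27202
theorem L27213 : sm gf N3106 = N2878 := ded_41_1 (flp_i L25049) L25035 L27202
theorem L27215 : sm gg N3106 = N3029 := ded_43_1 (flp_i L26575) (flp_g L25047) L27202
theorem L27217 : sm gh N2878 = N3107 := rfl
theorem L27219 : sm ga N3107 = N2946 := ded_15_1 (flp_h L25779) (flp_a L25051) L27217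
theorem L27221 : sm gb N3107 = N3107 := ded_22_1 (flp_h L27217) L25053 L27217
theorem L27222 : sm gc N3107 = N2942 := ded_28_1 (flp_h L25744) (flp_c L25054) L27217
theorem L27224 : sm ge N3107 = N2879 := ded_37_1 (flp_h L25062) (flp_e L25058) L27217
theorem L27226 : sm gg N3107 = N2925 := ded_42_1 (flp_h L25590) (flp_g L25060) L27217
theorem L27228 : sm gd N3107 = N3066 := ded_33_1 (flp_h L26885) L24641 (flp_h L23276) (flp_d L25056) L27217
theorem L27230 : sm gi N3107 = N3107 := ded_44_2 (flp_h L27217) (flp_i L25049) L22843 L25049 L27217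
theorem L27231 : sm gi N2880 = N3108 := rfl
theorem L27233 : sm ga N3108 = N3019 := ded_16_1 (flp_i L26470) (flp_a L25073) L27231
theorem L27235 : sm gb N3108 = N3108 := ded_23_1 (flp_i L27231) L25075 L27231
theorem L27236 : sm gc N3108 = N2943 := ded_29_1 (flp_i L25751) (flp_c L25076) L27231
theorem L27238 : sm gd N3108 = N3108 := ded_34_1 (flp_i L27231) L25078 L27231
theorem L27239 : sm ge N3108 = N3029 := ded_38_1 (flp_i L26575) (flp_e L25079) L27231
theorem L27241 : sm gf N3108 = N3108 := ded_41_1 (flp_i L27231) L25082 L27231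
theorem L27242 : sm gg N3108 = N2881 := ded_43_1 (flp_i L25083) L25071 L27231
theorem L27244 : sm gh N2881 = N3109 := rfl
theorem L27246 : sm gb N3109 = N3109 := ded_22_1 (flp_h L27244) L25085 L27244
theorem L27247 : sm gc N3109 = N2944 := ded_28_1 (flp_h L25762) (flp_c L25086) L27244
theorem L27249 : sm gf N3109 = N2882 := ded_40_1 (flp_h L25091) (flp_f L25089) L27244
theorem L27251 : sm gi N3109 = N3109 := ded_44_2 (flp_h L27244) (flp_i L25083) L22861 L25083 L27244
theorem L27252 : sm gd N2882 = N3110 := rfl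
theorem L27254 : sm gb N3110 = N3110 := ded_18_1 (flp_d L27252) L25093 L27252
theorem L27255 : sm gg N3110 = N3110 := ded_32_2 (flp_d L27252) L25098 L27252
theorem L27256 : sm gi N3110 = N3110 := ded_34_2 (flp_d L27252) L25099 L27252
theorem L27257 : sm ge N3110 = N3110 := ded_30_2 (flp_d L27252) L25096 L22877 (flp_e L25096) L27252
theorem L27258 : sm gh N3110 = N3110 := ded_33_2 (flp_d L27252) (flp_h L25091) L22867 L25091 L27252
theorem L27259 : sm gi N2883 = N3111 := rfl
theorem L27261 : sm ga N3111 = N2973 := ded_16_1 (flp_i L26066) (flp_a L25110) L27259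
theorem L27263 : sm gb N3111 = N2884 := ded_23_1 (flp_i L25114) L25100 L27259
theorem L27265 : sm gc N3111 = N2890 := ded_29_1 (flp_i L25181) (flp_c L25112) L27259
theorem L27267 : sm gd N3111 = N2904 := ded_34_1 (flp_i L25350) (flp_d L25102) L27259
theorem L27269 : sm ge N3111 = N2948 := ded_38_1 (flp_i L25801) (flp_e L25104) L27259
theorem L27271 : sm gf N3111 = N3111 := ded_41_1 (flp_i L27259) L25106 L27259
theorem L27272 : sm gg N3111 = N2906 := ded_43_1 (flp_i L25375) (flp_g L25107) L27259
theorem L27274 : sm gh N2884 = N3112 := rfl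
theorem L27276 : sm ga N3112 = N2939 := ded_15_1 (flp_h L25713) (flp_a L25116) L27274
theorem L27278 : sm gc N3112 = N2885 := ded_28_1 (flp_h L25127) (flp_c L25118) L27274
theorem L27280 : sm ge N3112 = N2949 := ded_37_1 (flp_h L25809) (flp_e L25122) L27274
theorem L27282 : sm gf N3112 = N3112 := ded_40_1 (flp_h L27274) L25124 L27274
theorem L27283 : sm gg N3112 = N2920 := ded_42_1 (flp_h L25531) (flp_g L25125) L27274
theorem L27285 : sm gd N3112 = N3016 := ded_33_1 (flp_h L26439) L24093 (flp_h L23208) (flp_d L25120) L27274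
theorem L27287 : sm gi N3112 = N3112 := ded_44_2 (flp_h L27274) (flp_i L25114) L22888 L25114 L27274
theorem L27288 : sm gi N2886 = N3113 := rfl
theorem L27290 : sm ga N3113 = N2958 := ded_16_1 (flp_i L25901) (flp_a L25148) L27288
theorem L27292 : sm gb N3113 = N2887 := ded_23_1 (flp_i L25150) L25136 L27288
theorem L27294 : sm gc N3113 = N2906 := ded_29_1 (flp_i L25375) (flp_c L25146) L27288
theorem L27296 : sm gd N3113 = N3113 := ded_34_1 (flp_i L27288) L25138 L27288
theorem L27297 : sm ge N3113 = N2952 := ded_38_1 (flp_i L25838) (flp_e L25139) L27288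
theorem L27299 : sm gf N3113 = N2907 := ded_41_1 (flp_i L25385) (flp_f L25141) L27288
theorem L27301 : sm gg N3113 = N2890 := ded_43_1 (flp_i L25181) (flp_g L25143) L27288
theorem L27303 : sm gh N2887 = N3114 := rfl
theorem L27305 : sm ga N3114 = N3114 := ded_15_1 (flp_h L27303) L25152 L27303
theorem L27306 : sm gc N3114 = N2888 := ded_28_1 (flp_h L25160) (flp_c L25153) L27303
theorem L27308 : sm ge N3114 = N2953 := ded_37_1 (flp_h L25850) (flp_e L25156) L27303
theorem L27310 : sm gg N3114 = N2891 := ded_42_1 (flp_h L25189) (flp_g L25158) L27303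
theorem L27312 : sm gi N3114 = N3114 := ded_44_2 (flp_h L27303) (flp_i L25150) L22907 L25150 L27303
theorem L27313 : sm gi N2889 = N3115 := rfl
theorem L27315 : sm ga N3115 = N2890 := ded_16_1 (flp_i L25181) L25169 L27313
theorem L27317 : sm gb N3115 = N3115 := ded_23_1 (flp_i L27313) L25180 L27313
theorem L27318 : sm gc N3115 = N2973 := ded_29_1 (flp_i L26066) (flp_c L25171) L27313
theorem L27320 : sm gd N3115 = N3115 := ded_34_1 (flp_i L27313) L25173 L27313
theorem L27321 : sm ge N3115 = N2954 := ded_38_1 (flp_i L25862) (flp_e L25174) L27313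
theorem L27323 : sm gf N3115 = N3115 := ded_41_1 (flp_i L27313) L25176 L27313
theorem L27324 : sm gg N3115 = N2958 := ded_43_1 (flp_i L25901) (flp_g L25177) L27313
theorem L27326 : sm gh N2890 = N3116 := rfl
theorem L27328 : sm gb N3116 = N2891 := ded_22_1 (flp_h L25189) (flp_b L25183) L27326
theorem L27330 : sm ge N3116 = N2955 := ded_37_1 (flp_h L25873) (flp_e L25186) L27326
theorem L27332 : sm gf N3116 = N3116 := ded_40_1 (flp_h L27326) L25188 L27326
theorem L27333 : sm gi N3116 = N3116 := ded_44_2 (flp_h L27326) (flp_i L25181) L22924 L25181 L27326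
theorem L27334 : sm gd N2891 = N3117 := rfl
theorem L27336 : sm ga N3117 = N3117 := ded_11_1 (flp_d L27334) L25191 L27334
theorem L27337 : sm gf N3117 = N3117 := ded_31_2 (flp_d L27334) L25196 L27334
theorem L27338 : sm gi N3117 = N3117 := ded_34_2 (flp_d L27334) L25197 L27334
theorem L27339 : sm gc N3117 = N3117 := ded_24_1 (flp_d L27334) L25192 L22940 (flp_c L25192) L27334
theorem L27340 : sm gh N3117 = N3117 := ded_33_2 (flp_d L27334) (flp_h L25189) L22930 L25189 L27334
theorem L27341 : sm gc N2892 = N3118 := rfl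
theorem L27343 : sm ga N3118 = N3078 := ded_10_1 L26978 (flp_a L25200) L27341
theorem L27345 : sm gf N3118 = N2996 := ded_26_2 L26292 (flp_f L25204) L27341
theorem L27347 : sm gg N3118 = N3045 := ded_27_2 L26743 (flp_g L25206) L27341
theorem L27349 : sm gh N3118 = N2894 := ded_28_2 (flp_c L25224) (flp_h L25208) L27341
theorem L27351 : sm gb N3118 = N3038 := ded_17_1 L26677 L24424 (flp_c L23702) (flp_b L25202) L27341
theorem L27353 : sm gd N3118 = N3118 := ded_24_2 (flp_c L27341) (flp_d L25198) L22948 L25198 L27341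
theorem L27354 : sm ge N2998 = N3118 := ded_35_5 L27345 (flp_e L26288) L23976 L23997 L26311
theorem L27356 : sm ge N2892 = N3119 := rfl
theorem L27358 : sm ga N3119 = N2993 := ded_12_1 L26275 (flp_a L25200) L27356
theorem L27360 : sm gb N3119 = N2966 := ded_19_1 (flp_e L25994) (flp_b L25202) L27356
theorem L27362 : sm gc N3119 = N2998 := ded_25_1 L27354 (flp_c L27341) L27356
theorem L27364 : sm gg N3119 = N3076 := ded_36_2 (flp_e L26963) (flp_g L25206) L27356
theorem L27366 : sm gh N3119 = N2895 := ded_37_2 (flp_e L25236) (flp_h L25208) L27356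
theorem L27368 : sm gd N3119 = N3119 := ded_30_1 (flp_e L27356) (flp_d L25198) L22949 L25198 L27356
theorem L27369 : sm gf N3119 = N2981 := ded_35_2 (flp_e L26147) L23842 (flp_e L24194) (flp_f L25204) L27356
theorem L27371 : sm gi N2892 = N3120 := rfl
theorem L27373 : sm ga N3120 = N3081 := ded_16_1 (flp_i L26996) (flp_a L25200) L27371
theorem L27375 : sm gb N3120 = N2967 := ded_23_1 (flp_i L26005) (flp_b L25202) L27371
theorem L27377 : sm gd N3120 = N2893 := ded_34_1 (flp_i L25210) L25198 L27371
theorem L27379 : sm gf N3120 = N3021 := ded_41_1 (flp_i L26489) (flp_f L25204) L27371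
theorem L27381 : sm gg N3120 = N3077 := ded_43_1 (flp_i L26970) (flp_g L25206) L27371
theorem L27383 : sm ge N2894 = N3121 := rfl
theorem L27385 : sm ga N3121 = N3004 := ded_12_1 L26357 (flp_a L25226) L27383
theorem L27387 : sm gb N3121 = N3032 := ded_19_1 L26607 (flp_b L25232) L27383
theorem L27389 : sm gc N3121 = N2895 := ded_25_1 (flp_e L25236) L25224 L27383
theorem L27391 : sm gg N3121 = N3053 := ded_36_2 (flp_e L26793) (flp_g L25230) L27383
theorem L27393 : sm gh N3121 = N2998 := ded_37_2 L27354 L27349 L27383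
theorem L27395 : sm gd N3121 = N3121 := ded_30_1 (flp_e L27383) L25234 L23022 (flp_d L25234) L27383
theorem L27396 : sm gf N3121 = N2985 := ded_35_2 (flp_e L26194) L23893 (flp_e L24241) (flp_f L25228) L27383
theorem L27398 : sm gi N2894 = N3122 := rfl
theorem L27400 : sm ga N3122 = N3089 := ded_16_1 (flp_i L27046) (flp_a L25226) L27398
theorem L27402 : sm gb N3122 = N3050 := ded_23_1 (flp_i L26771) (flp_b L25232) L27398
theorem L27404 : sm gc N3122 = N2896 := ded_29_1 (flp_i L25248) L25224 L27398
theorem L27406 : sm gd N3122 = N2899 := ded_34_1 (flp_i L25287) (flp_d L25234) L27398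
theorem L27408 : sm gf N3122 = N3024 := ded_41_1 (flp_i L26523) (flp_f L25228) L27398
theorem L27410 : sm gg N3122 = N3054 := ded_43_1 (flp_i L26800) (flp_g L25230) L27398
theorem L27412 : sm gi N2895 = N3123 := rfl
theorem L27414 : sm ga N3123 = N3008 := ded_16_1 (flp_i L26380) (flp_a L25238) L27412
theorem L27416 : sm gb N3123 = N2969 := ded_23_1 (flp_i L26027) (flp_b L25240) L27412
theorem L27418 : sm gd N3123 = N2897 := ded_34_1 (flp_i L25260) (flp_d L25244) L27412
theorem L27420 : sm ge N3123 = N2896 := ded_38_1 (flp_i L25248) L25236 L27412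
theorem L27422 : sm gf N3123 = N2987 := ded_41_1 (flp_i L26217) (flp_f L25246) L27412
theorem L27424 : sm gg N3123 = N3087 := ded_43_1 (flp_i L27034) (flp_g L25242) L27412
theorem L27426 : sm gh N2896 = N3124 := rfl
theorem L27428 : sm ga N3124 = N3091 := ded_15_1 (flp_h L27060) (flp_a L25250) L27426
theorem L27430 : sm gb N3124 = N2970 := ded_22_1 (flp_h L26037) (flp_b L25252) L27426
theorem L27432 : sm gf N3124 = N3025 := ded_40_1 (flp_h L26533) (flp_f L25256) L27426
theorem L27434 : sm gg N3124 = N3088 := ded_42_1 (flp_h L27042) (flp_g L25258) L27426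
theorem L27436 : sm gd N3124 = N2938 := ded_33_1 (flp_h L25707) L23371 (flp_h L22978) (flp_d L25254) L27426
theorem L27438 : sm gh N2897 = N3125 := rfl
theorem L27440 : sm ga N3125 = N3014 := ded_15_1 (flp_h L26428) (flp_a L25262) L27438
theorem L27442 : sm gb N3125 = N2972 := ded_22_1 (flp_h L26057) (flp_b L25264) L27438
theorem L27444 : sm gc N3125 = N3125 := ded_28_1 (flp_h L27438) L25266 L27438
theorem L27445 : sm ge N3125 = N2898 := ded_37_1 (flp_h L25273) (flp_e L25267) L27438
theorem L27447 : sm gf N3125 = N2992 := ded_40_1 (flp_h L26262) (flp_f L25269) L27438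
theorem L27449 : sm gg N3125 = N3096 := ded_42_1 (flp_h L27092) (flp_g L25271) L27438
theorem L27451 : sm gi N3125 = N3125 := ded_44_2 (flp_h L27438) (flp_i L25260) L22989 L25260 L27438
theorem L27452 : sm gh N2899 = N3126 := rfl
theorem L27454 : sm ga N3126 = N3097 := ded_15_1 (flp_h L27100) (flp_a L25289) L27452
theorem L27456 : sm gb N3126 = N3062 := ded_22_1 (flp_h L26857) (flp_b L25291) L27452
theorem L27458 : sm gc N3126 = N2900 := ded_28_1 (flp_h L25300) (flp_c L25293) L27452
theorem L27460 : sm ge N3126 = N3126 := ded_37_1 (flp_h L27452) L25295 L27452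
theorem L27461 : sm gf N3126 = N3028 := ded_40_1 (flp_h L26566) (flp_f L25296) L27452
theorem L27463 : sm gg N3126 = N3064 := ded_42_1 (flp_h L26874) (flp_g L25298) L27452
theorem L27465 : sm gi N3126 = N3126 := ded_44_2 (flp_h L27452) (flp_i L25287) L23027 L25287 L27452
theorem L27466 : sm gd N2901 = N3127 := rfl
theorem L27468 : sm ga N3127 = N2977 := ded_11_1 (flp_d L26109) (flp_a L25316) L27466
theorem L27470 : sm gb N3127 = N2913 := ded_18_1 (flp_d L25454) (flp_b L25318) L27466
theorem L27472 : sm gf N3127 = N3075 := ded_31_2 L26957 (flp_f L25323) L27466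
theorem L27474 : sm gg N3127 = N2902 := ded_32_2 (flp_d L25327) (flp_g L25325) L27466
theorem L27476 : sm ge N3127 = N2934 := ded_30_2 L25677 (flp_e L25104) L25102 (flp_e L25321) L27466
theorem L27478 : sm gh N3127 = N3001 := ded_33_2 L26333 L24113 (flp_d L23063) L25314 L27466
theorem L27480 : sm gc N3127 = N3002 := ded_46_4 L26341 (flp_a L26196) L26202 L26311 L27354 L27353 (flp_c L27341) L25202 L23696 (flp_h L23649) L23643 (flp_e L24335) (flp_d L24327) L22007 L22005 L19798 (flp_h L17690) (flp_f L16813) (flp_e L16807) L15019 L15017 L13403 L11810 L13441 L13446 L11820 L10546 L10543 (flp_b L10637) (flp_a L12448) (flp_h L12446) L12439 L14174 L14179 (flp_c L14329) L14327 L12589 L13813 (flp_f L13803) L12160 L10424 L8808 L7336 L7335 L7338 L7341 L6226 L6225 (flp_c L7677) (flp_b L9264) (flp_a L11009) L11016 (flp_f L12095) (flp_e L13594) (flp_d L15267) (flp_c L17123) (flp_b L19171) (flp_a L20854) L23082 L23089 (flp_e L25321) L27466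
theorem L27482 : sm gi N2901 = N3128 := rfl
theorem L27484 : sm ga N3128 = N2978 := ded_16_1 (flp_i L26119) (flp_a L25316) L27482
theorem L27486 : sm gb N3128 = N2914 := ded_23_1 (flp_i L25464) (flp_b L25318) L27482
theorem L27488 : sm gc N3128 = N3128 := ded_29_1 (flp_i L27482) L25320 L27482
theorem L27489 : sm ge N3128 = N2904 := ded_38_1 (flp_i L25350) (flp_e L25321) L27482
theorem L27491 : sm gf N3128 = N3092 := ded_41_1 (flp_i L27064) (flp_f L25323) L27482
theorem L27493 : sm gg N3128 = N2903 := ded_43_1 (flp_i L25337) (flp_g L25325) L27482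
theorem L27495 : sm gh N3128 = N3061 := ded_44_1 (flp_i L26846) L24579 (flp_i L23067) L25314 L27482
theorem L27497 : sm gc N2902 = N3129 := rfl
theorem L27499 : sm ga N3129 = N2979 := ded_10_1 (flp_c L26132) (flp_a L25329) L27497
theorem L27501 : sm gf N3129 = N2966 := ded_26_2 L25998 (flp_f L25333) L27497
theorem L27503 : sm gg N3129 = N3002 := ded_27_2 (flp_c L27480) L27474 L27497
theorem L27505 : sm gh N3129 = N2968 := ded_28_2 L26021 (flp_h L25335) L27497
theorem L27507 : sm gb N3129 = N2981 := ded_17_1 L26151 L25486 (flp_c L25476) (flp_b L25331) L27497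
theorem L27509 : sm gd N3129 = N3129 := ded_24_2 (flp_c L27497) (flp_d L25327) L23077 L25327 L27497
theorem L27510 : sm ge N2975 = N3129 := ded_46_2 L27509 (flp_c L27497) L25331 L23183 (flp_h L23316) L23314 (flp_e L24396) (flp_d L24388) L22057 L19865 L19863 (flp_h L17746) L17740 L17745 L17744 (flp_c L19921) L19919 (flp_a L19095) L21375 L21382 L20106 (flp_d L19643) L19638 L17517 L15640 (flp_h L15638) L13925 (flp_e L15627) L15626 L15624 (flp_b L15921) L15919 L16180 (flp_f L17381) L17380 (flp_d L19274) (flp_c L21512) (flp_b L23804) (flp_a L25316) (flp_h L25314) L23069 L22601 L22599 L20381 L18215 (flp_a L18208) (flp_h L18171) (flp_f L19496) L19495 (flp_d L21211) (flp_c L23463) (flp_b L23458) (flp_a L23280) L23288 L23284 L22150 (flp_d L24418) (flp_c L24414) (flp_b L24331) L24329 (flp_h L24221) (flp_f L26088)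
theorem L27512 : sm ge N2902 = N3130 := rfl
theorem L27514 : sm ga N3130 = N2968 := ded_12_1 L26025 (flp_a L25329) L27512
theorem L27516 : sm gb N3130 = N2916 := ded_19_1 (flp_e L25490) (flp_b L25331) L27512
theorem L27518 : sm gc N3130 = N2975 := ded_25_1 L27510 (flp_c L27497) L27512
theorem L27520 : sm gg N3130 = N2934 := ded_36_2 (flp_e L27476) L27474 L27512
theorem L27522 : sm gh N3130 = N2979 := ded_37_2 L26134 (flp_h L25335) L27512
theorem L27524 : sm gd N3130 = N2905 := ded_30_1 (flp_e L25362) (flp_d L23092) (flp_e L23078) L25327 L27512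
theorem L27526 : sm gf N3130 = N2962 := ded_35_2 (flp_e L25947) L23643 (flp_e L24335) (flp_f L25333) L27512
theorem L27528 : sm gi N2902 = N3131 := rfl
theorem L27530 : sm ga N3131 = N2980 := ded_16_1 (flp_i L26139) (flp_a L25329) L27528
theorem L27532 : sm gb N3131 = N2917 := ded_23_1 (flp_i L25500) (flp_b L25331) L27528
theorem L27534 : sm gd N3131 = N2903 := ded_34_1 (flp_i L25337) L25327 L27528
theorem L27536 : sm gf N3131 = N3031 := ded_41_1 (flp_i L26591) (flp_f L25333) L27528
theorem L27538 : sm gi N2905 = N3132 := rfl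
theorem L27540 : sm ga N3132 = N2971 := ded_16_1 (flp_i L26047) (flp_a L25364) L27538
theorem L27542 : sm gb N3132 = N2919 := ded_23_1 (flp_i L25521) (flp_b L25366) L27538
theorem L27544 : sm gc N3132 = N2952 := ded_29_1 (flp_i L25838) (flp_c L25368) L27538
theorem L27546 : sm ge N3132 = N2906 := ded_38_1 (flp_i L25375) L25362 L27538
theorem L27548 : sm gf N3132 = N2964 := ded_41_1 (flp_i L25971) (flp_f L25373) L27538
theorem L27550 : sm gg N3132 = N2948 := ded_43_1 (flp_i L25801) (flp_g L25370) L27538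
theorem L27552 : sm gh N2906 = N3133 := rfl
theorem L27554 : sm ga N3133 = N2974 := ded_15_1 (flp_h L26075) (flp_a L25377) L27552
theorem L27556 : sm gb N3133 = N2920 := ded_22_1 (flp_h L25531) (flp_b L25379) L27552
theorem L27558 : sm gf N3133 = N2908 := ded_40_1 (flp_h L25395) (flp_f L25383) L27552
theorem L27560 : sm gd N3133 = N2944 := ded_33_1 (flp_h L25762) L23418 (flp_h L23110) (flp_d L25381) L27552
theorem L27562 : sm gi N3133 = N3133 := ded_44_2 (flp_h L27552) (flp_i L25375) L23100 L25375 L27552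
theorem L27563 : sm gh N2907 = N3134 := rfl
theorem L27565 : sm ga N3134 = N2959 := ded_15_1 (flp_h L25911) (flp_a L25387) L27563
theorem L27567 : sm gc N3134 = N2908 := ded_28_1 (flp_h L25395) (flp_c L25389) L27563
theorem L27569 : sm ge N3134 = N2957 := ded_37_1 (flp_h L25890) (flp_e L25392) L27563
theorem L27571 : sm gg N3134 = N3134 := ded_42_1 (flp_h L27563) L25394 L27563
theorem L27572 : sm gi N3134 = N3134 := ded_44_2 (flp_h L27563) (flp_i L25385) L23119 L25385 L27563
theorem L27573 : sm gd N2909 = N3135 := rfl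
theorem L27575 : sm ga N3135 = N2926 := ded_11_1 (flp_d L25600) (flp_a L25409) L27573
theorem L27577 : sm gb N3135 = N3001 := ded_18_1 L26333 (flp_b L25411) L27573
theorem L27579 : sm gf N3135 = N3058 := ded_31_2 L26830 (flp_f L25415) L27573
theorem L27581 : sm gg N3135 = N2910 := ded_32_2 (flp_d L25419) (flp_g L25417) L27573
theorem L27583 : sm gh N3135 = N2913 := ded_33_2 (flp_d L25454) (flp_h L23171) (flp_d L23139) L25407 L27573
theorem L27585 : sm gc N3135 = N2929 := ded_46_4 L25631 (flp_a L26149) L26155 (flp_f L25246) (flp_e L25236) (flp_d L22954) L20755 L18656 L16720 (flp_h L16718) L14953 (flp_e L13908) L12252 L10493 L8859 (flp_a L8278) (flp_h L9830) (flp_f L9822) (flp_e L8251) (flp_d L6804) (flp_c L6963) L6770 L5343 L6776 L6781 L6780 L6783 L6779 L6978 L5360 L6230 L6236 L6235 L6971 L6762 L5603 L4988 L3919 L3921 (flp_e L3913) (flp_d L3859) (flp_c L4715) (flp_b L4708) L3706 (flp_h L4654) L4651 L4691 L6082 L6087 (flp_b L7525) (flp_a L9059) L10794 (flp_f L12613) (flp_e L14348) L16173 L18180 L20357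 L22576 (flp_h L24579) (flp_f L25415) L25414 L27573
theorem L27587 : sm ge N2928 = N3135 := ded_47_3 (flp_d L27573) L25413 L25411 L24113 L21833 (flp_f L20562) (flp_e L18429) (flp_d L16510) L14790 L13133 (flp_h L11312) (flp_g L9469) (flp_f L7826) L6320 (flp_d L6317) L4860 (flp_b L4659) L4662 L3717 L4724 L4731 L3741 (flp_c L3756) L3755 L3758 L4791 L4800 L4068 (flp_d L4155) L4154 L4153 (flp_h L5737) L4573 L5689 L3247 L3249 L3246 L3245 (flp_h L3242) L2566 L3234 (flp_e L5712) L5026 L6496 L8036 L8042 (flp_g L7275) (flp_f L8645) L10231 L11872 L13511 (flp_b L14918) L16671 L16681 (flp_f L18624) (flp_e L20757) L22954 L25224 L25232 (flp_h L26681) L26679 (flp_f L25624)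
theorem L27589 : sm gi N2909 = N3136 := rfl
theorem L27591 : sm ga N3136 = N2927 := ded_16_1 (flp_i L25610) (flp_a L25409) L27589
theorem L27593 : sm gb N3136 = N3017 := ded_23_1 (flp_i L26448) (flp_b L25411) L27589
theorem L27595 : sm gc N3136 = N3136 := ded_29_1 (flp_i L27589) L25413 L27589
theorem L27596 : sm ge N3136 = N3136 := ded_38_1 (flp_i L27589) L25414 L27589
theorem L27597 : sm gf N3136 = N3061 := ded_41_1 (flp_i L26846) (flp_f L25415) L27589
theorem L27599 : sm gg N3136 = N2911 := ded_43_1 (flp_i L25429) (flp_g L25417) L27589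
theorem L27601 : sm gh N3136 = N3092 := ded_44_1 (flp_i L27064) L24844 (flp_i L23142) L25407 L27589
theorem L27603 : sm gc N2910 = N3137 := rfl
theorem L27605 : sm ga N3137 = N2928 := ded_10_1 (flp_c L25622) (flp_a L25421) L27603
theorem L27607 : sm gf N3137 = N3032 := ded_26_2 (flp_c L26603) (flp_f L25425) L27603
theorem L27609 : sm gg N3137 = N2929 := ded_27_2 (flp_c L27585) L27581 L27603
theorem L27611 : sm gh N3137 = N2915 := ded_28_2 (flp_c L25476) (flp_h L25427) L27603
theorem L27613 : sm gb N3137 = N2985 := ded_17_1 L26198 (flp_b L26019) L26021 (flp_b L25423) L27603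
theorem L27615 : sm gd N3137 = N3137 := ded_24_2 (flp_c L27603) (flp_d L25419) L23152 L25419 L27603
theorem L27616 : sm ge N2926 = N3137 := ded_12_0 L27605 L27587 L27575
theorem L27618 : sm ge N2910 = N3138 := rfl
theorem L27620 : sm ga N3138 = N2929 := ded_12_1 (flp_e L25629) (flp_a L25421) L27618
theorem L27622 : sm gb N3138 = N2979 := ded_19_1 L26134 (flp_b L25423) L27618
theorem L27624 : sm gc N3138 = N2926 := ded_25_1 L27616 (flp_c L27603) L27618
theorem L27626 : sm gg N3138 = N2928 := ded_36_2 L27587 L27581 L27618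
theorem L27628 : sm gh N3138 = N2916 := ded_37_2 (flp_e L25490) (flp_h L25427) L27618
theorem L27630 : sm gd N3138 = N3138 := ded_30_1 (flp_e L27618) (flp_d L25419) L23153 L25419 L27618
theorem L27631 : sm gf N3138 = N3048 := ded_35_2 (flp_e L26756) L24510 (flp_e L24360) (flp_f L25425) L27618
theorem L27633 : sm gi N2910 = N3139 := rfl
theorem L27635 : sm ga N3139 = N2930 := ded_16_1 (flp_i L25636) (flp_a L25421) L27633
theorem L27637 : sm gb N3139 = N3083 := ded_23_1 (flp_i L27008) (flp_b L25423) L27633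
theorem L27639 : sm gd N3139 = N2911 := ded_34_1 (flp_i L25429) L25419 L27633
theorem L27641 : sm gf N3139 = N3033 := ded_41_1 (flp_i L26614) (flp_f L25425) L27633
theorem L27643 : sm gd N2912 = N3140 := rfl
theorem L27645 : sm ga N3140 = N2931 := ded_11_1 (flp_d L25644) (flp_a L25443) L27643
theorem L27647 : sm gb N3140 = N3075 := ded_18_1 L26957 (flp_b L25445) L27643
theorem L27649 : sm gf N3140 = N2913 := ded_31_2 (flp_d L25454) (flp_f L25450) L27643
theorem L27651 : sm gg N3140 = N3034 := ded_32_2 (flp_d L26626) (flp_g L25452) L27643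
theorem L27653 : sm gc N3140 = N2936 := ded_24_1 L25695 (flp_c L25040) L25042 (flp_c L25447) L27643
theorem L27655 : sm gh N3140 = N3058 := ded_33_2 L26830 L24579 (flp_d L23164) L25441 L27643
theorem L27657 : sm ge N3055 = N3140 := ded_47_3 (flp_d L27643) L25447 L23261 (flp_h L23257) L20978 (flp_f L19852) L17645 L15695 L13971 L12924 L11384 L11382 L9640 L8009 L6492 L6491 (flp_b L7738) L7735 L7734 L7733 L9335 L11090 L12891 L14615 (flp_h L14625) L13032 L14734 (flp_e L14742) (flp_d L14216) L14214 L12487 L12519 L12523 L10667 (flp_e L10291) L10294 (flp_c L11818) (flp_b L13409) (flp_h L13407) L11799 L13401 L15029 L15033 (flp_c L16811) L16809 L17207 (flp_g L19347) (flp_f L21638) L21637 L23972 L23980 (flp_b L24215) L24221 (flp_g L24192) (flp_f L25204) L27356 L27368 L27362 L26313 (flp_h L26611) L26609 L26808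
theorem L27659 : sm gi N2912 = N3141 := rfl
theorem L27661 : sm ga N3141 = N2932 := ded_16_1 (flp_i L25654) (flp_a L25443) L27659
theorem L27663 : sm gb N3141 = N3092 := ded_23_1 (flp_i L27064) (flp_b L25445) L27659
theorem L27665 : sm gc N3141 = N2923 := ded_29_1 (flp_i L25564) (flp_c L25447) L27659
theorem L27667 : sm ge N3141 = N3141 := ded_38_1 (flp_i L27659) L25449 L27659
theorem L27668 : sm gf N3141 = N2914 := ded_41_1 (flp_i L25464) (flp_f L25450) L27659
theorem L27670 : sm gg N3141 = N3035 := ded_43_1 (flp_i L26636) (flp_g L25452) L27659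
theorem L27672 : sm gh N3141 = N3017 := ded_44_1 (flp_i L26448) L24113 (flp_i L23166) L25441 L27659
theorem L27674 : sm gi N2913 = N3142 := rfl
theorem L27676 : sm ga N3142 = N2933 := ded_16_1 (flp_i L25667) (flp_a L25456) L27674
theorem L27678 : sm gc N3142 = N2937 := ded_29_1 (flp_i L25699) (flp_c L25460) L27674
theorem L27680 : sm gd N3142 = N2914 := ded_34_1 (flp_i L25464) L25454 L27674
theorem L27682 : sm ge N3142 = N2935 := ded_38_1 (flp_i L25683) (flp_e L25462) L27674
theorem L27684 : sm gg N3142 = N2917 := ded_43_1 (flp_i L25500) (flp_g L25458) L27674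
theorem L27686 : sm gi N2915 = N3143 := rfl
theorem L27688 : sm ga N3143 = N2935 := ded_16_1 (flp_i L25683) (flp_a L25478) L27686
theorem L27690 : sm gb N3143 = N2999 := ded_23_1 (flp_i L26317) L25486 L27686
theorem L27692 : sm gc N3143 = N2917 := ded_29_1 (flp_i L25500) L25476 L27686
theorem L27694 : sm gd N3143 = N2924 := ded_34_1 (flp_i L25576) (flp_d L25484) L27686
theorem L27696 : sm ge N3143 = N2933 := ded_38_1 (flp_i L25667) L25488 L27686
theorem L27698 : sm gf N3143 = N3039 := ded_41_1 (flp_i L26684) (flp_f L25480) L27686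
theorem L27700 : sm gg N3143 = N2937 := ded_43_1 (flp_i L25699) (flp_g L25482) L27686
theorem L27702 : sm gf N2916 = N3144 := rfl
theorem L27704 : sm ga N3144 = N2936 := ded_13_1 (flp_f L25691) (flp_a L25492) L27702
theorem L27706 : sm gb N3144 = N2962 := ded_20_1 (flp_f L27526) L27516 L27702
theorem L27708 : sm gc N3144 = N2931 := ded_26_1 L25648 (flp_c L25494) L27702
theorem L27710 : sm gd N3144 = N2918 := ded_31_1 (flp_f L25508) (flp_d L25498) L27702
theorem L27712 : sm gh N3144 = N3048 := ded_40_2 (flp_f L27631) L27628 L27702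
theorem L27714 : sm ge N3144 = N2960 := ded_35_1 L25926 (flp_e L24420) (flp_f L23185) L25490 L27702
theorem L27716 : sm gg N3144 = N3023 := ded_39_2 L26519 L24523 (flp_f L23357) (flp_g L25496) L27702
theorem L27718 : sm gi N2916 = N3145 := rfl
theorem L27720 : sm ga N3145 = N2937 := ded_16_1 (flp_i L25699) (flp_a L25492) L27718
theorem L27722 : sm gc N3145 = N2933 := ded_29_1 (flp_i L25667) (flp_c L25494) L27718
theorem L27724 : sm gd N3145 = N2919 := ded_34_1 (flp_i L25521) (flp_d L25498) L27718
theorem L27726 : sm ge N3145 = N2917 := ded_38_1 (flp_i L25500) L25490 L27718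
theorem L27728 : sm gg N3145 = N2935 := ded_43_1 (flp_i L25683) (flp_g L25496) L27718
theorem L27730 : sm gh N2917 = N3146 := rfl
theorem L27732 : sm ga N3146 = N2938 := ded_15_1 (flp_h L25707) (flp_a L25502) L27730
theorem L27734 : sm gf N3146 = N3041 := ded_40_1 (flp_h L26704) (flp_f L25506) L27730
theorem L27736 : sm gd N3146 = N3091 := ded_33_1 (flp_h L27060) L24813 (flp_h L23197) (flp_d L25504) L27730
theorem L27738 : sm gi N2918 = N3147 := rfl
theorem L27740 : sm ga N3147 = N2941 := ded_16_1 (flp_i L25736) (flp_a L25510) L27738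
theorem L27742 : sm gb N3147 = N2964 := ded_23_1 (flp_i L25971) (flp_b L25512) L27738
theorem L27744 : sm gc N3147 = N2945 := ded_29_1 (flp_i L25769) (flp_c L25514) L27738
theorem L27746 : sm ge N3147 = N2921 := ded_38_1 (flp_i L25540) (flp_e L25517) L27738
theorem L27748 : sm gf N3147 = N2919 := ded_41_1 (flp_i L25521) L25508 L27738
theorem L27750 : sm gg N3147 = N3027 := ded_43_1 (flp_i L26556) (flp_g L25519) L27738
theorem L27752 : sm gh N2919 = N3148 := rfl
theorem L27754 : sm ga N3148 = N2942 := ded_15_1 (flp_h L25744) (flp_a L25523) L27752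
theorem L27756 : sm gc N3148 = N2946 := ded_28_1 (flp_h L25779) (flp_c L25525) L27752
theorem L27758 : sm ge N3148 = N2920 := ded_37_1 (flp_h L25531) (flp_e L25527) L27752
theorem L27760 : sm gg N3148 = N2949 := ded_42_1 (flp_h L25809) (flp_g L25529) L27752
theorem L27762 : sm gi N3148 = N3148 := ded_44_2 (flp_h L27752) (flp_i L25521) L23218 L25521 L27752
theorem L27763 : sm gh N2921 = N3149 := rfl
theorem L27765 : sm ga N3149 = N2944 := ded_15_1 (flp_h L25762) (flp_a L25542) L27763
theorem L27767 : sm gb N3149 = N2965 := ded_22_1 (flp_h L25981) (flp_b L25544) L27763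
theorem L27769 : sm gf N3149 = N2922 := ded_40_1 (flp_h L25552) (flp_f L25548) L27763
theorem L27771 : sm gg N3149 = N3093 := ded_42_1 (flp_h L27072) (flp_g L25550) L27763
theorem L27773 : sm gd N3149 = N2974 := ded_33_1 (flp_h L26075) L23777 (flp_h L23637) (flp_d L25546) L27763
theorem L27775 : sm gi N3149 = N3149 := ded_44_2 (flp_h L27763) (flp_i L25540) L23235 L25540 L27763
theorem L27776 : sm gh N2924 = N3150 := rfl
theorem L27778 : sm ga N3150 = N2949 := ded_15_1 (flp_h L25809) (flp_a L25578) L27776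
theorem L27780 : sm gb N3150 = N3012 := ded_22_1 (flp_h L26411) (flp_b L25580) L27776
theorem L27782 : sm gc N3150 = N2925 := ded_28_1 (flp_h L25590) (flp_c L25582) L27776
theorem L27784 : sm ge N3150 = N2939 := ded_37_1 (flp_h L25713) (flp_e L25584) L27776
theorem L27786 : sm gf N3150 = N3044 := ded_40_1 (flp_h L26730) (flp_f L25586) L27776
theorem L27788 : sm gg N3150 = N2942 := ded_42_1 (flp_h L25744) (flp_g L25588) L27776
theorem L27790 : sm gi N3150 = N3150 := ded_44_2 (flp_h L27776) (flp_i L25576) L23288 L25576 L27776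
theorem L27791 : sm gi N2926 = N3151 := rfl
theorem L27793 : sm gb N3151 = N2986 := ded_23_1 (flp_i L26205) (flp_b L25602) L27791
theorem L27795 : sm gd N3151 = N2927 := ded_34_1 (flp_i L25610) L25600 L27791
theorem L27797 : sm gf N3151 = N3073 := ded_41_1 (flp_i L26943) (flp_f L25604) L27791
theorem L27799 : sm gg N3151 = N2930 := ded_43_1 (flp_i L25636) (flp_g L25606) L27791
theorem L27801 : sm gb N2928 = N3152 := rfl
theorem L27803 : sm gd N3152 = N3152 := ded_18_2 (flp_b L27801) L25628 L27801
theorem L27804 : sm ge N3152 = N3001 := ded_19_2 (flp_b L27577) (flp_e L27587) L27801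
theorem L27806 : sm gf N3152 = N3045 := ded_20_2 (flp_b L26738) (flp_f L25624) L27801
theorem L27808 : sm gg N3152 = N2979 := ded_21_2 (flp_b L27622) L27626 L27801
theorem L27810 : sm gh N3152 = N2934 := ded_22_2 (flp_b L25675) (flp_h L25626) L27801
theorem L27812 : sm ga N3152 = N3002 := ded_9_1 L26341 (flp_a L26196) (flp_b L27613) L27605 L27801
theorem L27814 : sm gc N3152 = N2977 := ded_17_2 L26111 L23871 (flp_b L23312) L25622 L27801
theorem L27816 : sm gi N2928 = N3153 := rfl
theorem L27818 : sm gc N3153 = N2930 := ded_29_1 (flp_i L25636) L25622 L27816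
theorem L27820 : sm gd N3153 = N3153 := ded_34_1 (flp_i L27816) L25628 L27816
theorem L27821 : sm gf N3153 = N3046 := ded_41_1 (flp_i L26745) (flp_f L25624) L27816
theorem L27823 : sm gf N2929 = N3154 := rfl
theorem L27825 : sm ga N3154 = N3048 := ded_13_1 (flp_f L27631) L27620 L27823
theorem L27827 : sm gb N3154 = N2993 := ded_20_1 (flp_f L26270) (flp_b L25631) L27823
theorem L27829 : sm gc N3154 = N3058 := ded_26_1 (flp_f L27579) L27585 L27823
theorem L27831 : sm gd N3154 = N3154 := ded_31_1 (flp_f L27823) L25635 L27823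
theorem L27832 : sm gh N3154 = N2936 := ded_40_2 (flp_f L25691) (flp_h L25633) L27823
theorem L27834 : sm ge N3154 = N3034 := ded_35_1 L26632 L24396 (flp_f L23314) L25629 L27823
theorem L27836 : sm gg N3154 = N3055 := ded_39_2 (flp_f L26808) (flp_g L26609) (flp_f L27607) L27609 L27823
theorem L27838 : sm gi N2929 = N3155 := rfl
theorem L27840 : sm gb N3155 = N2994 := ded_23_1 (flp_i L26277) (flp_b L25631) L27838
theorem L27842 : sm gd N3155 = N3155 := ded_34_1 (flp_i L27838) L25635 L27838
theorem L27843 : sm ge N3155 = N2930 := ded_38_1 (flp_i L25636) L25629 L27838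
theorem L27845 : sm gh N2930 = N3156 := rfl
theorem L27847 : sm gb N3156 = N2995 := ded_22_1 (flp_h L26282) (flp_b L25638) L27845
theorem L27849 : sm gf N3156 = N3047 := ded_40_1 (flp_h L26750) (flp_f L25642) L27845
theorem L27851 : sm gi N3156 = N2938 := ded_44_2 (flp_h L25707) (flp_i L23367) (flp_h L23316) L25636 L27845
theorem L27853 : sm ge N2931 = N3157 := rfl
theorem L27855 : sm ga N3157 = N3055 := ded_12_1 L27657 L27645 L27853
theorem L27857 : sm gb N3157 = N2996 := ded_19_1 (flp_e L26288) (flp_b L25646) L27853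
theorem L27859 : sm gc N3157 = N2960 := ded_25_1 (flp_e L27714) L27708 L27853
theorem L27861 : sm gg N3157 = N3048 := ded_36_2 (flp_e L26756) (flp_g L25650) L27853
theorem L27863 : sm gh N3157 = N3023 := ded_37_2 L26517 (flp_h L25652) L27853
theorem L27865 : sm gd N3157 = N3157 := ded_30_1 (flp_e L27853) (flp_d L25644) L23332 L25644 L27853
theorem L27866 : sm gf N3157 = N3038 := ded_35_2 (flp_e L26673) (flp_f L25480) (flp_e L25488) (flp_f L25648) L27853
theorem L27868 : sm gi N2931 = N3158 := rfl
theorem L27870 : sm gb N3158 = N2997 := ded_23_1 (flp_i L26299) (flp_b L25646) L27868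
theorem L27872 : sm gd N3158 = N2932 := ded_34_1 (flp_i L25654) L25644 L27868
theorem L27874 : sm gf N3158 = N2933 := ded_41_1 (flp_i L25667) (flp_f L25648) L27868
theorem L27876 : sm gg N3158 = N3049 := ded_43_1 (flp_i L26763) (flp_g L25650) L27868
theorem L27878 : sm gh N2933 = N3159 := rfl
theorem L27880 : sm gb N3159 = N3000 := ded_22_1 (flp_h L26325) (flp_b L25669) L27878
theorem L27882 : sm gg N3159 = N2938 := ded_42_1 (flp_h L25707) (flp_g L25673) L27878
theorem L27884 : sm gd N3159 = N3088 := ded_33_1 (flp_h L27042) L24791 (flp_h L23353) (flp_d L25671) L27878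
theorem L27886 : sm ga N2934 = N3160 := rfl
theorem L27888 : sm gc N3160 = N3001 := ded_10_2 (flp_a L26331) (flp_c L25681) L27886
theorem L27890 : sm gd N3160 = N2947 := ded_11_2 (flp_a L25788) (flp_d L25677) L27886
theorem L27892 : sm ge N3160 = N2977 := ded_12_2 (flp_a L27468) L27476 L27886
theorem L27894 : sm gf N3160 = N3052 := ded_13_2 (flp_a L26785) (flp_f L25679) L27886
theorem L27896 : sm gg N3160 = N2968 := ded_14_2 (flp_a L27514) L27520 L27886
theorem L27898 : sm gh N3160 = N3002 := ded_15_2 (flp_a L27812) L27810 L27886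
theorem L27900 : sm gb N3160 = N2983 := ded_9_2 L26172 L25486 L25478 L25675 L27886
theorem L27902 : sm gi N2934 = N3161 := rfl
theorem L27904 : sm gb N3161 = N2935 := ded_23_1 (flp_i L25683) L25675 L27902
theorem L27906 : sm gc N3161 = N3003 := ded_29_1 (flp_i L26344) (flp_c L25681) L27902
theorem L27908 : sm gd N3161 = N2948 := ded_34_1 (flp_i L25801) (flp_d L25677) L27902
theorem L27910 : sm gf N3161 = N3054 := ded_41_1 (flp_i L26800) (flp_f L25679) L27902
theorem L27912 : sm gh N2935 = N3162 := rfl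
theorem L27914 : sm gc N3162 = N2938 := ded_28_1 (flp_h L25707) (flp_c L25685) L27912
theorem L27916 : sm gf N3162 = N3057 := ded_40_1 (flp_h L26820) (flp_f L25689) L27912
theorem L27918 : sm gg N2936 = N3163 := rfl
theorem L27920 : sm ga N3163 = N3023 := ded_14_1 (flp_g L27716) L27704 L27918
theorem L27922 : sm gb N3163 = N3007 := ded_21_1 (flp_g L26372) (flp_b L25693) L27918
theorem L27924 : sm gc N3163 = N3034 := ded_27_1 (flp_g L27651) L27653 L27918
theorem L27926 : sm gd N3163 = N2940 := ded_32_1 (flp_g L25723) (flp_d L25695) L27918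
theorem L27928 : sm ge N3163 = N3058 := ded_36_1 (flp_g L26824) (flp_e L25697) L27918
theorem L27930 : sm gh N3163 = N3055 := ded_42_2 (flp_g L27836) L27832 L27918
theorem L27932 : sm gf N3163 = N3036 := ded_39_1 L26655 (flp_f L25480) L25482 L25691 L27918
theorem L27934 : sm gi N2936 = N3164 := rfl
theorem L27936 : sm gb N3164 = N3008 := ded_23_1 (flp_i L26380) (flp_b L25693) L27934
theorem L27938 : sm gd N3164 = N2941 := ded_34_1 (flp_i L25736) (flp_d L25695) L27934
theorem L27940 : sm ge N3164 = N3059 := ded_38_1 (flp_i L26832) (flp_e L25697) L27934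
theorem L27942 : sm gf N3164 = N2937 := ded_41_1 (flp_i L25699) L25691 L27934
theorem L27944 : sm gh N2937 = N3165 := rfl
theorem L27946 : sm gb N3165 = N3009 := ded_22_1 (flp_h L26388) (flp_b L25701) L27944
theorem L27948 : sm ge N3165 = N2938 := ded_37_1 (flp_h L25707) (flp_e L25705) L27944
theorem L27950 : sm gi N2940 = N3166 := rfl
theorem L27952 : sm ga N3166 = N3027 := ded_16_1 (flp_i L26556) (flp_a L25725) L27950
theorem L27954 : sm gb N3166 = N3013 := ded_23_1 (flp_i L26419) (flp_b L25727) L27950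
theorem L27956 : sm gc N3166 = N3029 := ded_29_1 (flp_i L26575) (flp_c L25729) L27950
theorem L27958 : sm ge N3166 = N2943 := ded_38_1 (flp_i L25751) (flp_e L25731) L27950
theorem L27960 : sm gf N3166 = N3042 := ded_41_1 (flp_i L26710) (flp_f L25734) L27950
theorem L27962 : sm gg N3166 = N2941 := ded_43_1 (flp_i L25736) L25723 L27950
theorem L27964 : sm gh N2941 = N3167 := rfl
theorem L27966 : sm gb N3167 = N3014 := ded_22_1 (flp_h L26428) (flp_b L25738) L27964
theorem L27968 : sm ge N3167 = N2944 := ded_37_1 (flp_h L25762) (flp_e L25740) L27964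
theorem L27970 : sm gf N3167 = N2942 := ded_40_1 (flp_h L25744) (flp_f L25742) L27964
theorem L27972 : sm gi N3167 = N3167 := ded_44_2 (flp_h L27964) (flp_i L25736) L23388 L25736 L27964
theorem L27973 : sm gd N2942 = N3168 := rfl
theorem L27975 : sm gb N3168 = N3015 := ded_18_1 (flp_d L26436) (flp_b L25746) L27973
theorem L27977 : sm gi N3168 = N3168 := ded_34_2 (flp_d L27973) L25750 L27973
theorem L27978 : sm gh N2943 = N3169 := rfl
theorem L27980 : sm ga N3169 = N3093 := ded_15_1 (flp_h L27072) (flp_a L25753) L27978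
theorem L27982 : sm gb N3169 = N3016 := ded_22_1 (flp_h L26439) (flp_b L25755) L27978
theorem L27984 : sm gf N3169 = N3169 := ded_40_1 (flp_h L27978) L25759 L27978
theorem L27985 : sm gg N3169 = N2944 := ded_42_1 (flp_h L25762) (flp_g L25760) L27978
theorem L27987 : sm gi N3169 = N3169 := ded_44_2 (flp_h L27978) (flp_i L25751) L23412 L25751 L27978
theorem L27988 : sm gh N2945 = N3170 := rfl
theorem L27990 : sm gb N3170 = N2951 := ded_22_1 (flp_h L25826) (flp_b L25771) L27988
theorem L27992 : sm gf N3170 = N2946 := ded_40_1 (flp_h L25779) (flp_f L25775) L27988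
theorem L27994 : sm gg N3170 = N3030 := ded_42_1 (flp_h L26584) (flp_g L25777) L27988
theorem L27996 : sm gd N3170 = N2955 := ded_33_1 (flp_h L25873) L23542 (flp_h L23448) (flp_d L25773) L27988
theorem L27998 : sm gi N3170 = N3170 := ded_44_2 (flp_h L27988) (flp_i L25769) L23438 L25769 L27988
theorem L27999 : sm gi N2947 = N3171 := rfl
theorem L28001 : sm ga N3171 = N2948 := ded_16_1 (flp_i L25801) L25788 L27999
theorem L28003 : sm gb N3171 = N2990 := ded_23_1 (flp_i L26242) (flp_b L25799) L27999
theorem L28005 : sm gc N3171 = N2954 := ded_29_1 (flp_i L25862) (flp_c L25790) L27999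
theorem L28007 : sm ge N3171 = N2973 := ded_38_1 (flp_i L26066) (flp_e L25792) L27999
theorem L28009 : sm gf N3171 = N3063 := ded_41_1 (flp_i L26865) (flp_f L25794) L27999
theorem L28011 : sm gg N3171 = N2971 := ded_43_1 (flp_i L26047) (flp_g L25796) L27999
theorem L28013 : sm gh N2948 = N3172 := rfl
theorem L28015 : sm gb N3172 = N2949 := ded_22_1 (flp_h L25809) (flp_b L25803) L28013
theorem L28017 : sm gc N3172 = N2955 := ded_28_1 (flp_h L25873) (flp_c L25805) L28013
theorem L28019 : sm gf N3172 = N3064 := ded_40_1 (flp_h L26874) (flp_f L25807) L28013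
theorem L28021 : sm gi N3172 = N3172 := ded_44_2 (flp_h L28013) (flp_i L25801) L23462 L25801 L28013
theorem L28022 : sm gd N2949 = N3173 := rfl
theorem L28024 : sm gf N3173 = N3065 := ded_31_2 (flp_d L26882) (flp_f L25813) L28022
theorem L28026 : sm gi N3173 = N3173 := ded_34_2 (flp_d L28022) L25815 L28022
theorem L28027 : sm gh N2950 = N3174 := rfl
theorem L28029 : sm ga N3174 = N3174 := ded_15_1 (flp_h L28027) L25818 L28027
theorem L28030 : sm gc N3174 = N3018 := ded_28_1 (flp_h L26459) (flp_c L25819) L28027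
theorem L28032 : sm ge N3174 = N2951 := ded_37_1 (flp_h L25826) (flp_e L25822) L28027
theorem L28034 : sm gg N3174 = N3020 := ded_42_1 (flp_h L26480) (flp_g L25824) L28027
theorem L28036 : sm gi N3174 = N3174 := ded_44_2 (flp_h L28027) (flp_i L25816) L23485 L25816 L28027
theorem L28037 : sm gh N2952 = N3175 := rfl
theorem L28039 : sm ga N3175 = N3094 := ded_15_1 (flp_h L27078) (flp_a L25840) L28037
theorem L28041 : sm gb N3175 = N2953 := ded_22_1 (flp_h L25850) (flp_b L25842) L28037
theorem L28043 : sm gf N3175 = N3026 := ded_40_1 (flp_h L26543) (flp_f L25846) L28037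
theorem L28045 : sm gg N3175 = N2955 := ded_42_1 (flp_h L25873) (flp_g L25848) L28037
theorem L28047 : sm gd N3175 = N3030 := ded_33_1 (flp_h L26584) L24315 (flp_h L24135) (flp_d L25844) L28037
theorem L28049 : sm gi N3175 = N3175 := ded_44_2 (flp_h L28037) (flp_i L25838) L23506 L25838 L28037
theorem L28050 : sm gh N2954 = N3176 := rfl
theorem L28052 : sm ga N3176 = N2955 := ded_15_1 (flp_h L25873) (flp_a L25864) L28050
theorem L28054 : sm gb N3176 = N3176 := ded_22_1 (flp_h L28050) L25866 L28050
theorem L28055 : sm gf N3176 = N3066 := ded_40_1 (flp_h L26885) (flp_f L25869) L28050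
theorem L28057 : sm gg N3176 = N3094 := ded_42_1 (flp_h L27078) (flp_g L25871) L28050
theorem L28059 : sm gi N3176 = N3176 := ded_44_2 (flp_h L28050) (flp_i L25862) L23536 L25862 L28050
theorem L28060 : sm gh N2956 = N3177 := rfl
theorem L28062 : sm ga N3177 = N3177 := ded_15_1 (flp_h L28060) L25882 L28060
theorem L28063 : sm gb N3177 = N2957 := ded_22_1 (flp_h L25890) (flp_b L25883) L28060
theorem L28065 : sm gf N3177 = N3018 := ded_40_1 (flp_h L26459) (flp_f L25887) L28060
theorem L28067 : sm gg N3177 = N3177 := ded_42_1 (flp_h L28060) L25889 L28060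
theorem L28068 : sm gd N3177 = N3177 := ded_33_1 (flp_h L28060) L25885 L23573 (flp_d L25885) L28060
theorem L28069 : sm gi N3177 = N3177 := ded_44_2 (flp_h L28060) (flp_i L25880) L23562 L25880 L28060
theorem L28070 : sm gh N2958 = N3178 := rfl
theorem L28072 : sm gb N3178 = N3178 := ded_22_1 (flp_h L28070) L25903 L28070
theorem L28073 : sm gc N3178 = N2974 := ded_28_1 (flp_h L26075) (flp_c L25904) L28070
theorem L28075 : sm ge N3178 = N3094 := ded_37_1 (flp_h L27078) (flp_e L25907) L28070
theorem L28077 : sm gf N3178 = N2959 := ded_40_1 (flp_h L25911) (flp_f L25909) L28070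
theorem L28079 : sm gi N3178 = N3178 := ded_44_2 (flp_h L28070) (flp_i L25901) L23591 L25901 L28070
theorem L28080 : sm gd N2959 = N3179 := rfl
theorem L28082 : sm gb N3179 = N3179 := ded_18_1 (flp_d L28080) L25913 L28080
theorem L28083 : sm gg N3179 = N3179 := ded_32_2 (flp_d L28080) L25918 L28080
theorem L28084 : sm gi N3179 = N3179 := ded_34_2 (flp_d L28080) L25919 L28080
theorem L28085 : sm ge N3179 = N3179 := ded_30_2 (flp_d L28080) L25916 L23611 (flp_e L25916) L28080
theorem L28086 : sm gh N3179 = N3179 := ded_33_2 (flp_d L28080) (flp_h L25911) L23599 L25911 L28080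
theorem L28087 : sm gi N2960 = N3180 := rfl
theorem L28089 : sm ga N3180 = N3059 := ded_16_1 (flp_i L26832) (flp_a L25922) L28087
theorem L28091 : sm gb N3180 = N2963 := ded_23_1 (flp_i L25959) (flp_b L25924) L28087
theorem L28093 : sm gd N3180 = N2961 := ded_34_1 (flp_i L25932) L25920 L28087
theorem L28095 : sm gf N3180 = N3040 := ded_41_1 (flp_i L26692) (flp_f L25926) L28087
theorem L28097 : sm gg N3180 = N3073 := ded_43_1 (flp_i L26943) (flp_g L25928) L28087
theorem L28099 : sm gi N2962 = N3181 := rfl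
theorem L28101 : sm ga N3181 = N2969 := ded_16_1 (flp_i L26027) (flp_a L25949) L28099
theorem L28103 : sm gc N3181 = N3022 := ded_29_1 (flp_i L26501) (flp_c L25951) L28099
theorem L28105 : sm gd N3181 = N2964 := ded_34_1 (flp_i L25971) (flp_d L25957) L28099
theorem L28107 : sm ge N3181 = N2963 := ded_38_1 (flp_i L25959) L25947 L28099
theorem L28109 : sm gg N3181 = N3024 := ded_43_1 (flp_i L26523) (flp_g L25953) L28099
theorem L28111 : sm gh N2963 = N3182 := rfl
theorem L28113 : sm ga N3182 = N2970 := ded_15_1 (flp_h L26037) (flp_a L25961) L28111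
theorem L28115 : sm gc N3182 = N3068 := ded_28_1 (flp_h L26904) (flp_c L25963) L28111
theorem L28117 : sm gf N3182 = N3067 := ded_40_1 (flp_h L26894) (flp_f L25967) L28111
theorem L28119 : sm gg N3182 = N3074 := ded_42_1 (flp_h L26949) (flp_g L25969) L28111
theorem L28121 : sm gd N3182 = N2988 := ded_33_1 (flp_h L26225) L23911 (flp_h L23663) (flp_d L25965) L28111
theorem L28123 : sm gi N3182 = N3071 := ded_44_2 (flp_h L26931) (flp_i L24681) (flp_h L23649) L25959 L28111
theorem L28125 : sm gh N2964 = N3183 := rfl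
theorem L28127 : sm ga N3183 = N2972 := ded_15_1 (flp_h L26057) (flp_a L25973) L28125
theorem L28129 : sm gc N3183 = N3026 := ded_28_1 (flp_h L26543) (flp_c L25975) L28125
theorem L28131 : sm ge N3183 = N2965 := ded_37_1 (flp_h L25981) (flp_e L25977) L28125
theorem L28133 : sm gg N3183 = N3028 := ded_42_1 (flp_h L26566) (flp_g L25979) L28125
theorem L28135 : sm gi N3183 = N3183 := ded_44_2 (flp_h L28125) (flp_i L25971) L23673 L25971 L28125
theorem L28136 : sm gi N2966 = N3184 := rfl
theorem L28138 : sm ga N3184 = N3070 := ded_16_1 (flp_i L26924) (flp_a L25996) L28136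
theorem L28140 : sm gc N3184 = N3031 := ded_29_1 (flp_i L26591) (flp_c L25998) L28136
theorem L28142 : sm gd N3184 = N3184 := ded_34_1 (flp_i L28136) L26004 L28136
theorem L28143 : sm ge N3184 = N2967 := ded_38_1 (flp_i L26005) L25994 L28136
theorem L28145 : sm gg N3184 = N3079 := ded_43_1 (flp_i L26983) (flp_g L26000) L28136
theorem L28147 : sm gh N2967 = N3185 := rfl
theorem L28149 : sm ga N3185 = N3071 := ded_15_1 (flp_h L26931) (flp_a L26007) L28147
theorem L28151 : sm gc N3185 = N3067 := ded_28_1 (flp_h L26894) (flp_c L26009) L28147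
theorem L28153 : sm gf N3185 = N3068 := ded_40_1 (flp_h L26904) (flp_f L26013) L28147
theorem L28155 : sm gg N3185 = N3080 := ded_42_1 (flp_h L26990) (flp_g L26015) L28147
theorem L28157 : sm gd N3185 = N2995 := ded_33_1 (flp_h L26282) L23968 (flp_h L23717) (flp_d L26011) L28147
theorem L28159 : sm gi N3185 = N2970 := ded_44_2 (flp_h L26037) (flp_i L23727) (flp_h L23704) L26005 L28147
theorem L28161 : sm gi N2968 = N3186 := rfl
theorem L28163 : sm gb N3186 = N2987 := ded_23_1 (flp_i L26217) (flp_b L26019) L28161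
theorem L28165 : sm gc N3186 = N3083 := ded_29_1 (flp_i L27008) (flp_c L26021) L28161
theorem L28167 : sm gd N3186 = N2971 := ded_34_1 (flp_i L26047) (flp_d L26023) L28161
theorem L28169 : sm ge N3186 = N2980 := ded_38_1 (flp_i L26139) (flp_e L26025) L28161
theorem L28171 : sm gf N3186 = N2969 := ded_41_1 (flp_i L26027) L26017 L28161
theorem L28173 : sm gh N2969 = N3187 := rfl
theorem L28175 : sm gc N3187 = N3084 := ded_28_1 (flp_h L27014) (flp_c L26029) L28173
theorem L28177 : sm ge N3187 = N2970 := ded_37_1 (flp_h L26037) (flp_e L26033) L28173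
theorem L28179 : sm gg N3187 = N3090 := ded_42_1 (flp_h L27054) (flp_g L26035) L28173
theorem L28181 : sm gh N2971 = N3188 := rfl
theorem L28183 : sm gb N3188 = N2992 := ded_22_1 (flp_h L26262) (flp_b L26049) L28181
theorem L28185 : sm gc N3188 = N3094 := ded_28_1 (flp_h L27078) (flp_c L26051) L28181
theorem L28187 : sm ge N3188 = N2974 := ded_37_1 (flp_h L26075) (flp_e L26053) L28181
theorem L28189 : sm gf N3188 = N2972 := ded_40_1 (flp_h L26057) (flp_f L26055) L28181
theorem L28191 : sm gi N3188 = N3188 := ded_44_2 (flp_h L28181) (flp_i L26047) L23743 L26047 L28181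
theorem L28192 : sm gd N2972 = N3189 := rfl
theorem L28194 : sm gg N3189 = N3098 := ded_32_2 (flp_d L27108) (flp_g L26063) L28192
theorem L28196 : sm gi N3189 = N3189 := ded_34_2 (flp_d L28192) L26065 L28192
theorem L28197 : sm ge N3189 = N3015 := ded_30_2 (flp_d L26436) L24085 (flp_d L23762) (flp_e L26061) L28192
theorem L28199 : sm gh N2973 = N3190 := rfl
theorem L28201 : sm gb N3190 = N2991 := ded_22_1 (flp_h L26251) (flp_b L26068) L28199
theorem L28203 : sm gf N3190 = N3190 := ded_40_1 (flp_h L28199) L26072 L28199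
theorem L28204 : sm gg N3190 = N2974 := ded_42_1 (flp_h L26075) (flp_g L26073) L28199
theorem L28206 : sm gd N3190 = N3093 := ded_33_1 (flp_h L27072) L24864 (flp_h L23836) (flp_d L26070) L28199
theorem L28208 : sm gi N3190 = N3190 := ded_44_2 (flp_h L28199) (flp_i L26066) L23771 L26066 L28199
theorem L28209 : sm gi N2975 = N3191 := rfl
theorem L28211 : sm ga N3191 = N3083 := ded_16_1 (flp_i L27008) (flp_a L26084) L28209
theorem L28213 : sm gb N3191 = N2982 := ded_23_1 (flp_i L26158) (flp_b L26086) L28209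
theorem L28215 : sm gd N3191 = N2976 := ded_34_1 (flp_i L26094) L26082 L28209
theorem L28217 : sm gf N3191 = N3022 := ded_41_1 (flp_i L26501) (flp_f L26088) L28209
theorem L28219 : sm gg N3191 = N3003 := ded_43_1 (flp_i L26344) (flp_g L26090) L28209
theorem L28221 : sm gi N2977 = N3192 := rfl
theorem L28223 : sm gb N3192 = N2984 := ded_23_1 (flp_i L26182) (flp_b L26111) L28221
theorem L28225 : sm gd N3192 = N2978 := ded_34_1 (flp_i L26119) L26109 L28221
theorem L28227 : sm gf N3192 = N3077 := ded_41_1 (flp_i L26970) (flp_f L26113) L28221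
theorem L28229 : sm gg N3192 = N2980 := ded_43_1 (flp_i L26139) (flp_g L26115) L28221
theorem L28231 : sm gi N2979 = N3193 := rfl
theorem L28233 : sm gc N3193 = N2980 := ded_29_1 (flp_i L26139) L26132 L28231
theorem L28235 : sm gd N3193 = N3193 := ded_34_1 (flp_i L28231) L26138 L28231
theorem L28236 : sm ge N3193 = N3083 := ded_38_1 (flp_i L27008) (flp_e L26134) L28231
theorem L28238 : sm gf N3193 = N3070 := ded_41_1 (flp_i L26924) (flp_f L26136) L28231
theorem L28240 : sm gh N2980 = N3194 := rfl
theorem L28242 : sm gb N3194 = N2988 := ded_22_1 (flp_h L26225) (flp_b L26141) L28240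
theorem L28244 : sm gf N3194 = N3072 := ded_40_1 (flp_h L26937) (flp_f L26145) L28240
theorem L28246 : sm gi N2981 = N3195 := rfl
theorem L28248 : sm ga N3195 = N2994 := ded_16_1 (flp_i L26277) (flp_a L26149) L28246
theorem L28250 : sm gc N3195 = N2999 := ded_29_1 (flp_i L26317) (flp_c L26151) L28246
theorem L28252 : sm gd N3195 = N3195 := ded_34_1 (flp_i L28246) L26157 L28246
theorem L28253 : sm ge N3195 = N2982 := ded_38_1 (flp_i L26158) L26147 L28246
theorem L28255 : sm gg N3195 = N3005 := ded_43_1 (flp_i L26359) (flp_g L26153) L28246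
theorem L28257 : sm gh N2982 = N3196 := rfl
theorem L28259 : sm ga N3196 = N2995 := ded_15_1 (flp_h L26282) (flp_a L26160) L28257
theorem L28261 : sm gc N3196 = N3000 := ded_28_1 (flp_h L26325) (flp_c L26162) L28257
theorem L28263 : sm gf N3196 = N3069 := ded_40_1 (flp_h L26914) (flp_f L26166) L28257
theorem L28265 : sm gg N3196 = N3006 := ded_42_1 (flp_h L26366) (flp_g L26168) L28257
theorem L28267 : sm gd N3196 = N3071 := ded_33_1 (flp_h L26931) L24685 (flp_h L23861) (flp_d L26164) L28257
theorem L28269 : sm gi N3196 = N2988 := ded_44_2 (flp_h L26225) (flp_i L23907) (flp_h L23848) L26158 L28257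
theorem L28271 : sm gf N2983 = N3197 := rfl
theorem L28273 : sm ga N3197 = N2998 := ded_13_1 (flp_f L26311) (flp_a L26172) L28271
theorem L28275 : sm gb N3197 = N3052 := ded_20_1 (flp_f L27894) L27900 L28271
theorem L28277 : sm gc N3197 = N2993 := ded_26_1 (flp_f L26270) (flp_c L26174) L28271
theorem L28279 : sm gd N3197 = N2989 := ded_31_1 (flp_f L26231) (flp_d L26180) L28271
theorem L28281 : sm gh N3197 = N3004 := ded_40_2 (flp_f L26352) (flp_h L26178) L28271
theorem L28283 : sm ge N3197 = N3078 := ded_35_1 (flp_f L26976) (flp_e L24730) (flp_f L23867) L26170 L28271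
theorem L28285 : sm gg N3197 = N3086 := ded_39_2 (flp_f L27028) (flp_g L25242) L25246 (flp_g L26176) L28271
theorem L28287 : sm gi N2983 = N3198 := rfl
theorem L28289 : sm ga N3198 = N2999 := ded_16_1 (flp_i L26317) (flp_a L26172) L28287
theorem L28291 : sm gc N3198 = N2994 := ded_29_1 (flp_i L26277) (flp_c L26174) L28287
theorem L28293 : sm gd N3198 = N2990 := ded_34_1 (flp_i L26242) (flp_d L26180) L28287
theorem L28295 : sm ge N3198 = N2984 := ded_38_1 (flp_i L26182) L26170 L28287
theorem L28297 : sm gg N3198 = N2987 := ded_43_1 (flp_i L26217) (flp_g L26176) L28287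
theorem L28299 : sm gh N2984 = N3199 := rfl
theorem L28301 : sm ga N3199 = N3000 := ded_15_1 (flp_h L26325) (flp_a L26184) L28299
theorem L28303 : sm gc N3199 = N2995 := ded_28_1 (flp_h L26282) (flp_c L26186) L28299
theorem L28305 : sm gf N3199 = N3080 := ded_40_1 (flp_h L26990) (flp_f L26190) L28299
theorem L28307 : sm gg N3199 = N2988 := ded_42_1 (flp_h L26225) (flp_g L26192) L28299
theorem L28309 : sm gd N3199 = N3074 := ded_33_1 (flp_h L26949) L24711 (flp_h L23887) (flp_d L26188) L28299
theorem L28311 : sm gi N3199 = N3006 := ded_44_2 (flp_h L26366) (flp_i L24020) (flp_h L23873) L26182 L28299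
theorem L28313 : sm gi N2985 = N3200 := rfl
theorem L28315 : sm ga N3200 = N3005 := ded_16_1 (flp_i L26359) (flp_a L26196) L28313
theorem L28317 : sm gc N3200 = N2987 := ded_29_1 (flp_i L26217) (flp_c L26198) L28313
theorem L28319 : sm gd N3200 = N3200 := ded_34_1 (flp_i L28313) L26204 L28313
theorem L28320 : sm ge N3200 = N2986 := ded_38_1 (flp_i L26205) L26194 L28313
theorem L28322 : sm gg N3200 = N2994 := ded_43_1 (flp_i L26277) (flp_g L26200) L28313
theorem L28324 : sm gh N2986 = N3201 := rfl
theorem L28326 : sm ga N3201 = N3006 := ded_15_1 (flp_h L26366) (flp_a L26207) L28324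
theorem L28328 : sm gc N3201 = N2988 := ded_28_1 (flp_h L26225) (flp_c L26209) L28324
theorem L28330 : sm gf N3201 = N3074 := ded_40_1 (flp_h L26949) (flp_f L26213) L28324
theorem L28332 : sm gg N3201 = N2995 := ded_42_1 (flp_h L26282) (flp_g L26215) L28324
theorem L28334 : sm gd N3201 = N3080 := ded_33_1 (flp_h L26990) L24741 (flp_h L23959) (flp_d L26211) L28324
theorem L28336 : sm gi N3201 = N3000 := ded_44_2 (flp_h L26325) (flp_i L24003) (flp_h L23897) L26205 L28324
theorem L28338 : sm gh N2987 = N3202 := rfl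
theorem L28340 : sm ga N3202 = N3009 := ded_15_1 (flp_h L26388) (flp_a L26219) L28338
theorem L28342 : sm ge N3202 = N2988 := ded_37_1 (flp_h L26225) (flp_e L26223) L28338
theorem L28344 : sm gi N2989 = N3203 := rfl
theorem L28346 : sm ga N3203 = N3011 := ded_16_1 (flp_i L26403) (flp_a L26233) L28344
theorem L28348 : sm gb N3203 = N3063 := ded_23_1 (flp_i L26865) (flp_b L26235) L28344
theorem L28350 : sm gc N3203 = N3203 := ded_29_1 (flp_i L28344) L26237 L28344
theorem L28351 : sm ge N3203 = N3203 := ded_38_1 (flp_i L28344) L26239 L28344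
theorem L28352 : sm gf N3203 = N2990 := ded_41_1 (flp_i L26242) L26231 L28344
theorem L28354 : sm gg N3203 = N3095 := ded_43_1 (flp_i L27084) (flp_g L26240) L28344
theorem L28356 : sm gh N2990 = N3204 := rfl
theorem L28358 : sm ga N3204 = N3012 := ded_15_1 (flp_h L26411) (flp_a L26244) L28356
theorem L28360 : sm gc N3204 = N3204 := ded_28_1 (flp_h L28356) L26246 L28356
theorem L28361 : sm ge N3204 = N2991 := ded_37_1 (flp_h L26251) (flp_e L26247) L28356
theorem L28363 : sm gg N3204 = N2992 := ded_42_1 (flp_h L26262) (flp_g L26249) L28356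
theorem L28365 : sm gi N3204 = N3204 := ded_44_2 (flp_h L28356) (flp_i L26242) L23922 L26242 L28356
theorem L28366 : sm gd N2992 = N3205 := rfl
theorem L28368 : sm ga N3205 = N3015 := ded_11_1 (flp_d L26436) (flp_a L26264) L28366
theorem L28370 : sm gi N3205 = N3205 := ded_34_2 (flp_d L28366) L26269 L28366
theorem L28371 : sm gg N2993 = N3206 := rfl
theorem L28373 : sm ga N3206 = N3076 := ded_14_1 (flp_g L27364) L27358 L28371
theorem L28375 : sm gb N3206 = N3055 := ded_21_1 (flp_g L27836) L27827 L28371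
theorem L28377 : sm gc N3206 = N3086 := ded_27_1 (flp_g L28285) L28277 L28371
theorem L28379 : sm gd N3206 = N3206 := ded_32_1 (flp_g L28371) L26272 L28371
theorem L28380 : sm ge N3206 = N3075 := ded_36_1 L26959 (flp_e L26275) L28371
theorem L28382 : sm gh N3206 = N3007 := ded_42_2 (flp_g L26372) (flp_h L26273) L28371
theorem L28384 : sm gf N3206 = N3053 := ded_39_1 (flp_g L27391) L27396 L26200 L26270 L28371
theorem L28386 : sm gi N2993 = N3207 := rfl
theorem L28388 : sm gd N3207 = N3207 := ded_34_1 (flp_i L28386) L26272 L28386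
theorem L28389 : sm ge N3207 = N3081 := ded_38_1 (flp_i L26996) (flp_e L26275) L28386
theorem L28391 : sm gf N3207 = N2994 := ded_41_1 (flp_i L26277) L26270 L28386
theorem L28393 : sm gh N2994 = N3208 := rfl
theorem L28395 : sm ge N3208 = N2995 := ded_37_1 (flp_h L26282) (flp_e L26280) L28393
theorem L28397 : sm gi N3208 = N3009 := ded_44_2 (flp_h L26388) (flp_i L24034) (flp_h L23963) L26277 L28393
theorem L28399 : sm gi N2996 = N3209 := rfl
theorem L28401 : sm ga N3209 = N3079 := ded_16_1 (flp_i L26983) (flp_a L26290) L28399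
theorem L28403 : sm gc N3209 = N3021 := ded_29_1 (flp_i L26489) (flp_c L26292) L28399
theorem L28405 : sm gd N3209 = N3209 := ded_34_1 (flp_i L28399) L26298 L28399
theorem L28406 : sm ge N3209 = N2997 := ded_38_1 (flp_i L26299) L26288 L28399
theorem L28408 : sm gg N3209 = N3070 := ded_43_1 (flp_i L26924) (flp_g L26294) L28399
theorem L28410 : sm gh N2997 = N3210 := rfl
theorem L28412 : sm ga N3210 = N3080 := ded_15_1 (flp_h L26990) (flp_a L26301) L28410
theorem L28414 : sm gc N3210 = N3069 := ded_28_1 (flp_h L26914) (flp_c L26303) L28410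
theorem L28416 : sm gf N3210 = N3000 := ded_40_1 (flp_h L26325) (flp_f L26307) L28410
theorem L28418 : sm gg N3210 = N3071 := ded_42_1 (flp_h L26931) (flp_g L26309) L28410
theorem L28420 : sm gd N3210 = N3006 := ded_33_1 (flp_h L26366) L24024 (flp_h L23995) (flp_d L26305) L28410
theorem L28422 : sm gi N3210 = N3074 := ded_44_2 (flp_h L26949) (flp_i L24705) (flp_h L23982) L26299 L28410
theorem L28424 : sm gg N2998 = N3211 := rfl
theorem L28426 : sm ga N3211 = N3086 := ded_14_1 (flp_g L28285) L28273 L28424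
theorem L28428 : sm gb N3211 = N3036 := ded_21_1 L26655 (flp_b L26313) L28424
theorem L28430 : sm gc N3211 = N3076 := ded_27_1 (flp_g L27364) L27362 L28424
theorem L28432 : sm gd N3211 = N3010 := ded_32_1 (flp_g L26392) (flp_d L26315) L28424
theorem L28434 : sm ge N3211 = N3045 := ded_36_1 (flp_g L27347) (flp_e L27354) L28424
theorem L28436 : sm gh N3211 = N3053 := ded_42_2 (flp_g L27391) L27393 L28424
theorem L28438 : sm gf N3211 = N3007 := ded_39_1 (flp_g L26372) (flp_f L24028) (flp_g L23999) L26311 L28424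
theorem L28440 : sm gi N2998 = N3212 := rfl
theorem L28442 : sm gb N3212 = N3039 := ded_23_1 (flp_i L26684) (flp_b L26313) L28440
theorem L28444 : sm gd N3212 = N3011 := ded_34_1 (flp_i L26403) (flp_d L26315) L28440
theorem L28446 : sm gf N3212 = N2999 := ded_41_1 (flp_i L26317) L26311 L28440
theorem L28448 : sm gh N2999 = N3213 := rfl
theorem L28450 : sm ge N3213 = N3000 := ded_37_1 (flp_h L26325) (flp_e L26321) L28448
theorem L28452 : sm gg N3213 = N3009 := ded_42_1 (flp_h L26388) (flp_g L26323) L28448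
theorem L28454 : sm gi N3001 = N3214 := rfl
theorem L28456 : sm ga N3214 = N3003 := ded_16_1 (flp_i L26344) L26331 L28454
theorem L28458 : sm gd N3214 = N3017 := ded_34_1 (flp_i L26448) (flp_d L26333) L28454
theorem L28460 : sm gf N3214 = N3085 := ded_41_1 (flp_i L27020) (flp_f L26335) L28454
theorem L28462 : sm gg N3214 = N3083 := ded_43_1 (flp_i L27008) (flp_g L26337) L28454
theorem L28464 : sm gf N3002 = N3215 := rfl
theorem L28466 : sm ga N3215 = N3045 := ded_13_1 (flp_f L27806) L27812 L28464
theorem L28468 : sm gb N3215 = N3004 := ded_20_1 (flp_f L26352) (flp_b L26341) L28464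
theorem L28470 : sm gc N3215 = N3075 := ded_26_1 (flp_f L27472) L27480 L28464
theorem L28472 : sm gd N3215 = N3215 := ded_31_1 (flp_f L28464) L26343 L28464
theorem L28473 : sm gh N3215 = N3052 := ded_40_2 (flp_f L27894) L27898 L28464
theorem L28475 : sm ge N3215 = N3086 := ded_35_1 (flp_f L27028) (flp_e L24781) (flp_f L24013) L26339 L28464
theorem L28477 : sm gg N3215 = N3078 := ded_39_2 (flp_f L26976) (flp_g L26000) (flp_f L27501) L27503 L28464
theorem L28479 : sm gi N3002 = N3216 := rfl
theorem L28481 : sm gb N3216 = N3005 := ded_23_1 (flp_i L26359) (flp_b L26341) L28479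
theorem L28483 : sm gd N3216 = N3216 := ded_34_1 (flp_i L28479) L26343 L28479
theorem L28484 : sm ge N3216 = N3003 := ded_38_1 (flp_i L26344) L26339 L28479
theorem L28486 : sm gh N3003 = N3217 := rfl
theorem L28488 : sm gb N3217 = N3006 := ded_22_1 (flp_h L26366) (flp_b L26346) L28486
theorem L28490 : sm gf N3217 = N3088 := ded_40_1 (flp_h L27042) (flp_f L26350) L28486
theorem L28492 : sm gg N3004 = N3218 := rfl
theorem L28494 : sm ga N3218 = N3053 := ded_14_1 (flp_g L27391) L27385 L28492
theorem L28496 : sm gb N3218 = N3078 := ded_21_1 (flp_g L28477) L28468 L28492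
theorem L28498 : sm gc N3218 = N3007 := ded_27_1 (flp_g L26372) (flp_c L26354) L28492
theorem L28500 : sm gd N3218 = N3218 := ded_32_1 (flp_g L28492) L26356 L28492
theorem L28501 : sm ge N3218 = N3052 := ded_36_1 L26791 (flp_e L26357) L28492
theorem L28503 : sm gh N3218 = N3086 := ded_42_2 (flp_g L28285) L28281 L28492
theorem L28505 : sm gf N3218 = N3076 := ded_39_1 (flp_g L27364) L27369 L26153 L26352 L28492
theorem L28507 : sm gi N3004 = N3219 := rfl
theorem L28509 : sm gc N3219 = N3008 := ded_29_1 (flp_i L26380) (flp_c L26354) L28507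
theorem L28511 : sm gd N3219 = N3219 := ded_34_1 (flp_i L28507) L26356 L28507
theorem L28512 : sm ge N3219 = N3089 := ded_38_1 (flp_i L27046) (flp_e L26357) L28507
theorem L28514 : sm gf N3219 = N3005 := ded_41_1 (flp_i L26359) L26352 L28507
theorem L28516 : sm gh N3005 = N3220 := rfl
theorem L28518 : sm gc N3220 = N3009 := ded_28_1 (flp_h L26388) (flp_c L26361) L28516
theorem L28520 : sm ge N3220 = N3006 := ded_37_1 (flp_h L26366) (flp_e L26364) L28516
theorem L28522 : sm gi N3007 = N3221 := rfl
theorem L28524 : sm ga N3221 = N3087 := ded_16_1 (flp_i L27034) (flp_a L26374) L28522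
theorem L28526 : sm gd N3221 = N3013 := ded_34_1 (flp_i L26419) (flp_d L26376) L28522
theorem L28528 : sm ge N3221 = N3085 := ded_38_1 (flp_i L27020) (flp_e L26378) L28522
theorem L28530 : sm gg N3221 = N3008 := ded_43_1 (flp_i L26380) L26372 L28522
theorem L28532 : sm gh N3008 = N3222 := rfl
theorem L28534 : sm ge N3222 = N3091 := ded_37_1 (flp_h L27060) (flp_e L26384) L28532
theorem L28536 : sm gf N3222 = N3009 := ded_40_1 (flp_h L26388) (flp_f L26386) L28532
theorem L28538 : sm gd N3009 = N3223 := rfl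
theorem L28540 : sm gh N3223 = N3015 := ded_33_2 (flp_d L26436) (flp_h L24082) (flp_d L24036) L26388 L28538
theorem L28542 : sm gi N3010 = N3224 := rfl
theorem L28544 : sm ga N3224 = N3095 := ded_16_1 (flp_i L27084) (flp_a L26394) L28542
theorem L28546 : sm gb N3224 = N3042 := ded_23_1 (flp_i L26710) (flp_b L26396) L28542
theorem L28548 : sm gc N3224 = N3224 := ded_29_1 (flp_i L28542) L26398 L28542
theorem L28549 : sm ge N3224 = N3224 := ded_38_1 (flp_i L28542) L26399 L28542
theorem L28550 : sm gf N3224 = N3013 := ded_41_1 (flp_i L26419) (flp_f L26401) L28542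
theorem L28552 : sm gg N3224 = N3011 := ded_43_1 (flp_i L26403) L26392 L28542
theorem L28554 : sm gh N3011 = N3225 := rfl
theorem L28556 : sm gb N3225 = N3044 := ded_22_1 (flp_h L26730) (flp_b L26405) L28554
theorem L28558 : sm gc N3225 = N3225 := ded_28_1 (flp_h L28554) L26407 L28554
theorem L28559 : sm ge N3225 = N3225 := ded_37_1 (flp_h L28554) L26408 L28554
theorem L28560 : sm gf N3225 = N3012 := ded_40_1 (flp_h L26411) (flp_f L26409) L28554
theorem L28562 : sm gi N3225 = N3225 := ded_44_2 (flp_h L28554) (flp_i L26403) L24049 L26403 L28554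
theorem L28563 : sm gd N3012 = N3226 := rfl
theorem L28565 : sm gg N3226 = N3015 := ded_32_2 (flp_d L26436) (flp_g L26416) L28563
theorem L28567 : sm gi N3226 = N3226 := ded_34_2 (flp_d L28563) L26418 L28563
theorem L28568 : sm ge N3226 = N3098 := ded_30_2 (flp_d L27108) L24922 (flp_d L24064) (flp_e L26414) L28563
theorem L28570 : sm gh N3013 = N3227 := rfl
theorem L28572 : sm ga N3227 = N3096 := ded_15_1 (flp_h L27092) (flp_a L26421) L28570
theorem L28574 : sm gc N3227 = N3227 := ded_28_1 (flp_h L28570) L26423 L28570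
theorem L28575 : sm ge N3227 = N3016 := ded_37_1 (flp_h L26439) (flp_e L26424) L28570
theorem L28577 : sm gg N3227 = N3014 := ded_42_1 (flp_h L26428) (flp_g L26426) L28570
theorem L28579 : sm gi N3227 = N3227 := ded_44_2 (flp_h L28570) (flp_i L26419) L24074 L26419 L28570
theorem L28580 : sm gd N3014 = N3228 := rfl
theorem L28582 : sm gf N3228 = N3015 := ded_31_2 (flp_d L26436) (flp_f L26433) L28580
theorem L28584 : sm gi N3228 = N3228 := ded_34_2 (flp_d L28580) L26435 L28580
theorem L28585 : sm gc N3015 = N3229 := rfl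
theorem L28587 : sm gi N3229 = N3229 := ded_29_2 (flp_c L28585) L26438 L28585
theorem L28588 : sm gd N3229 = N3229 := ded_24_2 (flp_c L28585) (flp_d L26436) L24084 L26436 L28585
theorem L28589 : sm gh N3019 = N3230 := rfl
theorem L28591 : sm gb N3230 = N3020 := ded_22_1 (flp_h L26480) (flp_b L26472) L28589
theorem L28593 : sm gc N3230 = N3093 := ded_28_1 (flp_h L27072) (flp_c L26474) L28589
theorem L28595 : sm ge N3230 = N3030 := ded_37_1 (flp_h L26584) (flp_e L26477) L28589
theorem L28597 : sm gf N3230 = N3230 := ded_40_1 (flp_h L28589) L26479 L28589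
theorem L28598 : sm gi N3230 = N3230 := ded_44_2 (flp_h L28589) (flp_i L26470) L24164 L26470 L28589
theorem L28599 : sm gd N3020 = N3231 := rfl
theorem L28601 : sm ga N3231 = N3231 := ded_11_1 (flp_d L28599) L26482 L28599
theorem L28602 : sm gf N3231 = N3231 := ded_31_2 (flp_d L28599) L26487 L28599
theorem L28603 : sm gi N3231 = N3231 := ded_34_2 (flp_d L28599) L26488 L28599
theorem L28604 : sm gc N3231 = N3231 := ded_24_1 (flp_d L28599) L26483 L24184 (flp_c L26483) L28599
theorem L28605 : sm gh N3231 = N3231 := ded_33_2 (flp_d L28599) (flp_h L26480) L24172 L26480 L28599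
theorem L28606 : sm gh N3021 = N3232 := rfl
theorem L28608 : sm ga N3232 = N3082 := ded_15_1 (flp_h L27002) (flp_a L26491) L28606
theorem L28610 : sm gb N3232 = N3068 := ded_22_1 (flp_h L26904) (flp_b L26493) L28606
theorem L28612 : sm ge N3232 = N3069 := ded_37_1 (flp_h L26914) (flp_e L26497) L28606
theorem L28614 : sm gg N3232 = N3072 := ded_42_1 (flp_h L26937) (flp_g L26499) L28606
theorem L28616 : sm gd N3232 = N3047 := ded_33_1 (flp_h L26750) L24504 (flp_h L24209) (flp_d L26495) L28606
theorem L28618 : sm gi N3232 = N3025 := ded_44_2 (flp_h L26533) (flp_i L24245) (flp_h L24196) L26489 L28606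
theorem L28620 : sm gh N3022 = N3233 := rfl
theorem L28622 : sm ga N3233 = N3084 := ded_15_1 (flp_h L27014) (flp_a L26503) L28620
theorem L28624 : sm gb N3233 = N3069 := ded_22_1 (flp_h L26914) (flp_b L26505) L28620
theorem L28626 : sm ge N3233 = N3068 := ded_37_1 (flp_h L26904) (flp_e L26509) L28620
theorem L28628 : sm gg N3233 = N3025 := ded_42_1 (flp_h L26533) (flp_g L26511) L28620
theorem L28630 : sm gd N3233 = N3051 := ded_33_1 (flp_h L26779) L24531 (flp_h L24235) (flp_d L26507) L28620
theorem L28632 : sm gi N3233 = N3072 := ded_44_2 (flp_h L26937) (flp_i L24689) (flp_h L24221) L26501 L28620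
theorem L28634 : sm gi N3023 = N3234 := rfl
theorem L28636 : sm gb N3234 = N3024 := ded_23_1 (flp_i L26523) L26513 L28634
theorem L28638 : sm gc N3234 = N3049 := ded_29_1 (flp_i L26763) (flp_c L26521) L28634
theorem L28640 : sm gd N3234 = N3027 := ded_34_1 (flp_i L26556) (flp_d L26515) L28634
theorem L28642 : sm ge N3234 = N3073 := ded_38_1 (flp_i L26943) (flp_e L26517) L28634
theorem L28644 : sm gf N3234 = N3050 := ded_41_1 (flp_i L26771) (flp_f L26519) L28634
theorem L28646 : sm gh N3024 = N3235 := rfl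
theorem L28648 : sm ga N3235 = N3090 := ded_15_1 (flp_h L27054) (flp_a L26525) L28646
theorem L28650 : sm gc N3235 = N3025 := ded_28_1 (flp_h L26533) (flp_c L26527) L28646
theorem L28652 : sm ge N3235 = N3074 := ded_37_1 (flp_h L26949) (flp_e L26531) L28646
theorem L28654 : sm gh N3027 = N3236 := rfl
theorem L28656 : sm gb N3236 = N3028 := ded_22_1 (flp_h L26566) (flp_b L26558) L28654
theorem L28658 : sm gc N3236 = N3030 := ded_28_1 (flp_h L26584) (flp_c L26560) L28654
theorem L28660 : sm ge N3236 = N3093 := ded_37_1 (flp_h L27072) (flp_e L26562) L28654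
theorem L28662 : sm gf N3236 = N3062 := ded_40_1 (flp_h L26857) (flp_f L26564) L28654
theorem L28664 : sm gi N3236 = N3236 := ded_44_2 (flp_h L28654) (flp_i L26556) L24273 L26556 L28654
theorem L28665 : sm gd N3028 = N3237 := rfl
theorem L28667 : sm ga N3237 = N3098 := ded_11_1 (flp_d L27108) (flp_a L26568) L28665
theorem L28669 : sm gi N3237 = N3237 := ded_34_2 (flp_d L28665) L26574 L28665
theorem L28670 : sm gc N3237 = N3065 := ded_24_1 (flp_d L26882) L24632 (flp_d L24292) (flp_c L26570) L28665
theorem L28672 : sm gh N3029 = N3238 := rfl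
theorem L28674 : sm ga N3238 = N3030 := ded_15_1 (flp_h L26584) (flp_a L26577) L28672
theorem L28676 : sm gb N3238 = N3238 := ded_22_1 (flp_h L28672) L26579 L28672
theorem L28677 : sm gf N3238 = N3043 := ded_40_1 (flp_h L26719) (flp_f L26582) L28672
theorem L28679 : sm gd N3238 = N3094 := ded_33_1 (flp_h L27078) L24878 (flp_h L24459) (flp_d L26580) L28672
theorem L28681 : sm gi N3238 = N3238 := ded_44_2 (flp_h L28672) (flp_i L26575) L24309 L26575 L28672
theorem L28682 : sm gh N3031 = N3239 := rfl
theorem L28684 : sm ga N3239 = N3072 := ded_15_1 (flp_h L26937) (flp_a L26593) L28682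
theorem L28686 : sm gb N3239 = N3041 := ded_22_1 (flp_h L26704) (flp_b L26595) L28682
theorem L28688 : sm ge N3239 = N3067 := ded_37_1 (flp_h L26894) (flp_e L26599) L28682
theorem L28690 : sm gg N3239 = N3082 := ded_42_1 (flp_h L27002) (flp_g L26601) L28682
theorem L28692 : sm gd N3239 = N3060 := ded_33_1 (flp_h L26840) L24562 (flp_h L24350) (flp_d L26597) L28682
theorem L28694 : sm gi N3239 = N3084 := ded_44_2 (flp_h L27014) (flp_i L24763) (flp_h L24337) L26591 L28682
theorem L28696 : sm gi N3032 = N3240 := rfl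
theorem L28698 : sm ga N3240 = N3046 := ded_16_1 (flp_i L26745) (flp_a L26605) L28696
theorem L28700 : sm gc N3240 = N3033 := ded_29_1 (flp_i L26614) L26603 L28696
theorem L28702 : sm gd N3240 = N3240 := ded_34_1 (flp_i L28696) L26613 L28696
theorem L28703 : sm ge N3240 = N3050 := ded_38_1 (flp_i L26771) (flp_e L26607) L28696
theorem L28705 : sm gg N3240 = N3056 := ded_43_1 (flp_i L26813) (flp_g L26609) L28696
theorem L28707 : sm gh N3033 = N3241 := rfl
theorem L28709 : sm ga N3241 = N3047 := ded_15_1 (flp_h L26750) (flp_a L26616) L28707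
theorem L28711 : sm gb N3241 = N3084 := ded_22_1 (flp_h L27014) (flp_b L26618) L28707
theorem L28713 : sm ge N3241 = N3051 := ded_37_1 (flp_h L26779) (flp_e L26622) L28707
theorem L28715 : sm gg N3241 = N3060 := ded_42_1 (flp_h L26840) (flp_g L26624) L28707
theorem L28717 : sm gd N3241 = N3082 := ded_33_1 (flp_h L27002) L24751 (flp_h L24375) (flp_d L26620) L28707
theorem L28719 : sm gi N3241 = N3041 := ded_44_2 (flp_h L26704) (flp_i L24432) (flp_h L24362) L26614 L28707
theorem L28721 : sm gi N3034 = N3242 := rfl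
theorem L28723 : sm ga N3242 = N3049 := ded_16_1 (flp_i L26763) (flp_a L26628) L28721
theorem L28725 : sm gb N3242 = N3081 := ded_23_1 (flp_i L26996) (flp_b L26630) L28721
theorem L28727 : sm gd N3242 = N3035 := ded_34_1 (flp_i L26636) L26626 L28721
theorem L28729 : sm gf N3242 = N3037 := ded_41_1 (flp_i L26661) (flp_f L26632) L28721
theorem L28731 : sm gi N3036 = N3243 := rfl
theorem L28733 : sm ga N3243 = N3050 := ded_16_1 (flp_i L26771) (flp_a L26651) L28731
theorem L28735 : sm gc N3243 = N3037 := ded_29_1 (flp_i L26661) L26649 L28731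
theorem L28737 : sm gd N3243 = N3042 := ded_34_1 (flp_i L26710) (flp_d L26659) L28731
theorem L28739 : sm ge N3243 = N3046 := ded_38_1 (flp_i L26745) (flp_e L26653) L28731
theorem L28741 : sm gg N3243 = N3039 := ded_43_1 (flp_i L26684) (flp_g L26655) L28731
theorem L28743 : sm gh N3037 = N3244 := rfl
theorem L28745 : sm ga N3244 = N3051 := ded_15_1 (flp_h L26779) (flp_a L26663) L28743
theorem L28747 : sm gb N3244 = N3082 := ded_22_1 (flp_h L27002) (flp_b L26665) L28743
theorem L28749 : sm ge N3244 = N3047 := ded_37_1 (flp_h L26750) (flp_e L26669) L28743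
theorem L28751 : sm gg N3244 = N3041 := ded_42_1 (flp_h L26704) (flp_g L26671) L28743
theorem L28753 : sm gd N3244 = N3084 := ded_33_1 (flp_h L27014) L24765 (flp_h L24412) (flp_d L26667) L28743
theorem L28755 : sm gi N3244 = N3060 := ded_44_2 (flp_h L26840) (flp_i L24558) (flp_h L24398) L26661 L28743
theorem L28757 : sm gi N3038 = N3245 := rfl
theorem L28759 : sm ga N3245 = N3056 := ded_16_1 (flp_i L26813) (flp_a L26675) L28757
theorem L28761 : sm gc N3245 = N3040 := ded_29_1 (flp_i L26692) (flp_c L26677) L28757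
theorem L28763 : sm gd N3245 = N3245 := ded_34_1 (flp_i L28757) L26683 L28757
theorem L28764 : sm ge N3245 = N3039 := ded_38_1 (flp_i L26684) L26673 L28757
theorem L28766 : sm gg N3245 = N3046 := ded_43_1 (flp_i L26745) (flp_g L26679) L28757
theorem L28768 : sm gh N3039 = N3246 := rfl
theorem L28770 : sm ga N3246 = N3057 := ded_15_1 (flp_h L26820) (flp_a L26686) L28768
theorem L28772 : sm gc N3246 = N3041 := ded_28_1 (flp_h L26704) (flp_c L26688) L28768
theorem L28774 : sm gh N3040 = N3247 := rfl
theorem L28776 : sm ga N3247 = N3060 := ded_15_1 (flp_h L26840) (flp_a L26694) L28774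
theorem L28778 : sm gb N3247 = N3067 := ded_22_1 (flp_h L26894) (flp_b L26696) L28774
theorem L28780 : sm ge N3247 = N3041 := ded_37_1 (flp_h L26704) (flp_e L26700) L28774
theorem L28782 : sm gg N3247 = N3047 := ded_42_1 (flp_h L26750) (flp_g L26702) L28774
theorem L28784 : sm gd N3247 = N3072 := ded_33_1 (flp_h L26937) L24693 (flp_h L24449) (flp_d L26698) L28774
theorem L28786 : sm gi N3247 = N3051 := ded_44_2 (flp_h L26779) (flp_i L24527) (flp_h L24428) L26692 L28774
theorem L28788 : sm gh N3042 = N3248 := rfl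
theorem L28790 : sm ga N3248 = N3062 := ded_15_1 (flp_h L26857) (flp_a L26712) L28788
theorem L28792 : sm gc N3248 = N3043 := ded_28_1 (flp_h L26719) (flp_c L26714) L28788
theorem L28794 : sm ge N3248 = N3248 := ded_37_1 (flp_h L28788) L26716 L28788
theorem L28795 : sm gg N3248 = N3044 := ded_42_1 (flp_h L26730) (flp_g L26717) L28788
theorem L28797 : sm gi N3248 = N3248 := ded_44_2 (flp_h L28788) (flp_i L26710) L24468 L26710 L28788
theorem L28798 : sm gd N3044 = N3249 := rfl
theorem L28800 : sm ga N3249 = N3065 := ded_11_1 (flp_d L26882) (flp_a L26732) L28798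
theorem L28802 : sm gi N3249 = N3249 := ded_34_2 (flp_d L28798) L26737 L28798
theorem L28803 : sm gc N3249 = N3098 := ded_24_1 (flp_d L27108) L24920 (flp_d L24492) (flp_c L26734) L28798
theorem L28805 : sm gi N3045 = N3250 := rfl
theorem L28807 : sm gb N3250 = N3046 := ded_23_1 (flp_i L26745) L26738 L28805
theorem L28809 : sm gc N3250 = N3077 := ded_29_1 (flp_i L26970) (flp_c L26743) L28805
theorem L28811 : sm gd N3250 = N3250 := ded_34_1 (flp_i L28805) L26740 L28805
theorem L28812 : sm gh N3046 = N3251 := rfl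
theorem L28814 : sm gc N3251 = N3047 := ded_28_1 (flp_h L26750) (flp_c L26747) L28812
theorem L28816 : sm gi N3251 = N3057 := ded_44_2 (flp_h L26820) (flp_i L24546) (flp_h L24497) L26745 L28812
theorem L28818 : sm gi N3048 = N3252 := rfl
theorem L28820 : sm gb N3252 = N3070 := ded_23_1 (flp_i L26924) (flp_b L26758) L28818
theorem L28822 : sm gc N3252 = N3073 := ded_29_1 (flp_i L26943) (flp_c L26760) L28818
theorem L28824 : sm gd N3252 = N3252 := ded_34_1 (flp_i L28818) L26762 L28818
theorem L28825 : sm ge N3252 = N3049 := ded_38_1 (flp_i L26763) L26756 L28818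
theorem L28827 : sm gh N3049 = N3253 := rfl
theorem L28829 : sm gb N3253 = N3071 := ded_22_1 (flp_h L26931) (flp_b L26765) L28827
theorem L28831 : sm gf N3253 = N3051 := ded_40_1 (flp_h L26779) (flp_f L26769) L28827
theorem L28833 : sm gh N3050 = N3254 := rfl
theorem L28835 : sm gc N3254 = N3051 := ded_28_1 (flp_h L26779) (flp_c L26773) L28833
theorem L28837 : sm gg N3254 = N3057 := ded_42_1 (flp_h L26820) (flp_g L26777) L28833
theorem L28839 : sm gi N3052 = N3255 := rfl
theorem L28841 : sm ga N3255 = N3054 := ded_16_1 (flp_i L26800) L26785 L28839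
theorem L28843 : sm gc N3255 = N3085 := ded_29_1 (flp_i L27020) (flp_c L26787) L28839
theorem L28845 : sm gd N3255 = N3063 := ded_34_1 (flp_i L26865) (flp_d L26789) L28839
theorem L28847 : sm gg N3255 = N3089 := ded_43_1 (flp_i L27046) (flp_g L26791) L28839
theorem L28849 : sm gi N3053 = N3256 := rfl
theorem L28851 : sm gb N3256 = N3056 := ded_23_1 (flp_i L26813) (flp_b L26795) L28849
theorem L28853 : sm gc N3256 = N3087 := ded_29_1 (flp_i L27034) (flp_c L26797) L28849
theorem L28855 : sm gd N3256 = N3256 := ded_34_1 (flp_i L28849) L26799 L28849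
theorem L28856 : sm ge N3256 = N3054 := ded_38_1 (flp_i L26800) L26793 L28849
theorem L28858 : sm gh N3054 = N3257 := rfl
theorem L28860 : sm gb N3257 = N3057 := ded_22_1 (flp_h L26820) (flp_b L26802) L28858
theorem L28862 : sm gc N3257 = N3088 := ded_28_1 (flp_h L27042) (flp_c L26804) L28858
theorem L28864 : sm gi N3055 = N3258 := rfl
theorem L28866 : sm gc N3258 = N3059 := ded_29_1 (flp_i L26832) (flp_c L26810) L28864
theorem L28868 : sm gd N3258 = N3258 := ded_34_1 (flp_i L28864) L26812 L28864
theorem L28869 : sm gf N3258 = N3056 := ded_41_1 (flp_i L26813) L26808 L28864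
theorem L28871 : sm gh N3056 = N3259 := rfl
theorem L28873 : sm gc N3259 = N3060 := ded_28_1 (flp_h L26840) (flp_c L26815) L28871
theorem L28875 : sm ge N3259 = N3057 := ded_37_1 (flp_h L26820) (flp_e L26818) L28871
theorem L28877 : sm gd N3057 = N3260 := rfl
theorem L28879 : sm gh N3260 = N3065 := ded_33_2 (flp_d L26882) (flp_h L24630) (flp_d L24550) L26820 L28877
theorem L28881 : sm gi N3058 = N3261 := rfl
theorem L28883 : sm ga N3261 = N3073 := ded_16_1 (flp_i L26943) (flp_a L26826) L28881
theorem L28885 : sm gb N3261 = N3085 := ded_23_1 (flp_i L27020) (flp_b L26828) L28881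
theorem L28887 : sm gd N3261 = N3061 := ded_34_1 (flp_i L26846) (flp_d L26830) L28881
theorem L28889 : sm gg N3261 = N3059 := ded_43_1 (flp_i L26832) L26824 L28881
theorem L28891 : sm gh N3059 = N3262 := rfl
theorem L28893 : sm gb N3262 = N3091 := ded_22_1 (flp_h L27060) (flp_b L26834) L28891
theorem L28895 : sm gf N3262 = N3060 := ded_40_1 (flp_h L26840) (flp_f L26838) L28891
theorem L28897 : sm gd N3062 = N3263 := rfl
theorem L28899 : sm gg N3263 = N3065 := ded_32_2 (flp_d L26882) (flp_g L26862) L28897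
theorem L28901 : sm gi N3263 = N3263 := ded_34_2 (flp_d L28897) L26864 L28897
theorem L28902 : sm gh N3063 = N3264 := rfl
theorem L28904 : sm ga N3264 = N3064 := ded_15_1 (flp_h L26874) (flp_a L26867) L28902
theorem L28906 : sm gc N3264 = N3066 := ded_28_1 (flp_h L26885) (flp_c L26869) L28902
theorem L28908 : sm ge N3264 = N3264 := ded_37_1 (flp_h L28902) L26871 L28902
theorem L28909 : sm gg N3264 = N3097 := ded_42_1 (flp_h L27100) (flp_g L26872) L28902
theorem L28911 : sm gi N3264 = N3264 := ded_44_2 (flp_h L28902) (flp_i L26865) L24622 L26865 L28902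
theorem L28912 : sm gd N3064 = N3265 := rfl
theorem L28914 : sm gb N3265 = N3065 := ded_18_1 (flp_d L26882) (flp_b L26876) L28912
theorem L28916 : sm gi N3265 = N3265 := ded_34_2 (flp_d L28912) L26881 L28912
theorem L28917 : sm ge N3065 = N3266 := rfl
theorem L28919 : sm gi N3266 = N3266 := ded_38_2 (flp_e L28917) L26884 L28917
theorem L28920 : sm gd N3266 = N3266 := ded_30_1 (flp_e L28917) (flp_d L26882) L24634 L26882 L28917
theorem L28921 : sm gh N3070 = N3267 := rfl
theorem L28923 : sm gc N3267 = N3072 := ded_28_1 (flp_h L26937) (flp_c L26926) L28921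
theorem L28925 : sm ge N3267 = N3071 := ded_37_1 (flp_h L26931) (flp_e L26929) L28921
theorem L28927 : sm gh N3073 = N3268 := rfl
theorem L28929 : sm gb N3268 = N3074 := ded_22_1 (flp_h L26949) (flp_b L26945) L28927
theorem L28931 : sm gi N3075 = N3269 := rfl
theorem L28933 : sm ga N3269 = N3077 := ded_16_1 (flp_i L26970) L26955 L28931
theorem L28935 : sm gd N3269 = N3092 := ded_34_1 (flp_i L27064) (flp_d L26957) L28931
theorem L28937 : sm gg N3269 = N3081 := ded_43_1 (flp_i L26996) (flp_g L26959) L28931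
theorem L28939 : sm gi N3076 = N3270 := rfl
theorem L28941 : sm gb N3270 = N3079 := ded_23_1 (flp_i L26983) (flp_b L26965) L28939
theorem L28943 : sm gd N3270 = N3270 := ded_34_1 (flp_i L28939) L26969 L28939
theorem L28944 : sm ge N3270 = N3077 := ded_38_1 (flp_i L26970) L26963 L28939
theorem L28946 : sm gh N3077 = N3271 := rfl
theorem L28948 : sm gb N3271 = N3080 := ded_22_1 (flp_h L26990) (flp_b L26972) L28946
theorem L28950 : sm gi N3271 = N3088 := ded_44_2 (flp_h L27042) (flp_i L24787) (flp_h L24728) L26970 L28946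
theorem L28952 : sm gi N3078 = N3272 := rfl
theorem L28954 : sm gc N3272 = N3081 := ded_29_1 (flp_i L26996) (flp_c L26978) L28952
theorem L28956 : sm gd N3272 = N3272 := ded_34_1 (flp_i L28952) L26980 L28952
theorem L28957 : sm gf N3272 = N3079 := ded_41_1 (flp_i L26983) L26976 L28952
theorem L28959 : sm gh N3079 = N3273 := rfl
theorem L28961 : sm gc N3273 = N3082 := ded_28_1 (flp_h L27002) (flp_c L26985) L28959
theorem L28963 : sm ge N3273 = N3080 := ded_37_1 (flp_h L26990) (flp_e L26988) L28959
theorem L28965 : sm gi N3273 = N3090 := ded_44_2 (flp_h L27054) (flp_i L24799) (flp_h L24734) L26983 L28959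
theorem L28967 : sm gh N3081 = N3274 := rfl
theorem L28969 : sm gf N3274 = N3082 := ded_40_1 (flp_h L27002) (flp_f L27000) L28967
theorem L28971 : sm gi N3274 = N3091 := ded_44_2 (flp_h L27060) (flp_i L24811) (flp_h L24747) L26996 L28967
theorem L28973 : sm gh N3083 = N3275 := rfl
theorem L28975 : sm gf N3275 = N3084 := ded_40_1 (flp_h L27014) (flp_f L27012) L28973
theorem L28977 : sm gh N3085 = N3276 := rfl
theorem L28979 : sm ga N3276 = N3088 := ded_15_1 (flp_h L27042) (flp_a L27022) L28977
theorem L28981 : sm gg N3276 = N3091 := ded_42_1 (flp_h L27060) (flp_g L27026) L28977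
theorem L28983 : sm gi N3086 = N3277 := rfl
theorem L28985 : sm gb N3277 = N3089 := ded_23_1 (flp_i L27046) (flp_b L27030) L28983
theorem L28987 : sm gd N3277 = N3095 := ded_34_1 (flp_i L27084) (flp_d L27032) L28983
theorem L28989 : sm gf N3277 = N3087 := ded_41_1 (flp_i L27034) L27028 L28983
theorem L28991 : sm gh N3087 = N3278 := rfl
theorem L28993 : sm gb N3278 = N3090 := ded_22_1 (flp_h L27054) (flp_b L27036) L28991
theorem L28995 : sm ge N3278 = N3088 := ded_37_1 (flp_h L27042) (flp_e L27040) L28991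
theorem L28997 : sm gh N3089 = N3279 := rfl
theorem L28999 : sm gc N3279 = N3091 := ded_28_1 (flp_h L27060) (flp_c L27048) L28997
theorem L29001 : sm gf N3279 = N3090 := ded_40_1 (flp_h L27054) (flp_f L27052) L28997
theorem L29003 : sm gd N3090 = N3280 := rfl
theorem L29005 : sm gh N3280 = N3098 := ded_33_2 (flp_d L27108) (flp_h L24918) (flp_d L24803) L27054 L29003
theorem L29007 : sm gh N3095 = N3281 := rfl
theorem L29009 : sm gb N3281 = N3097 := ded_22_1 (flp_h L27100) (flp_b L27086) L29007
theorem L29011 : sm gc N3281 = N3281 := ded_28_1 (flp_h L29007) L27088 L29007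
theorem L29012 : sm ge N3281 = N3281 := ded_37_1 (flp_h L29007) L27089 L29007
theorem L29013 : sm gf N3281 = N3096 := ded_40_1 (flp_h L27092) (flp_f L27090) L29007
theorem L29015 : sm gi N3281 = N3281 := ded_44_2 (flp_h L29007) (flp_i L27084) L24895 L27084 L29007
theorem L29016 : sm gd N3096 = N3282 := rfl
theorem L29018 : sm gb N3282 = N3098 := ded_18_1 (flp_d L27108) (flp_b L27094) L29016
theorem L29020 : sm gi N3282 = N3282 := ded_34_2 (flp_d L29016) L27099 L29016
theorem L29021 : sm gd N3097 = N3283 := rfl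
theorem L29023 : sm gf N3283 = N3098 := ded_31_2 (flp_d L27108) (flp_f L27105) L29021
theorem L29025 : sm gi N3283 = N3283 := ded_34_2 (flp_d L29021) L27107 L29021
theorem L29026 : sm gh N3099 = N3284 := rfl
theorem L29028 : sm ga N3284 = N3284 := ded_15_1 (flp_h L29026) L27113 L29026
theorem L29029 : sm gb N3284 = N3134 := ded_22_1 (flp_h L27563) (flp_b L27114) L29026
theorem L29031 : sm gc N3284 = N3101 := ded_28_1 (flp_h L27137) (flp_c L27116) L29026
theorem L29033 : sm ge N3284 = N3177 := ded_37_1 (flp_h L28060) (flp_e L27119) L29026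
theorem L29035 : sm gf N3284 = N3114 := ded_40_1 (flp_h L27303) (flp_f L27121) L29026
theorem L29037 : sm gg N3284 = N3284 := ded_42_1 (flp_h L29026) L27123 L29026
theorem L29038 : sm gi N3284 = N3284 := ded_44_2 (flp_h L29026) (flp_i L27111) L24944 L27111 L29026
theorem L29039 : sm gh N3100 = N3285 := rfl
theorem L29041 : sm ga N3285 = N3285 := ded_15_1 (flp_h L29039) L27126 L29039
theorem L29042 : sm gb N3285 = N3104 := ded_22_1 (flp_h L27178) (flp_b L27127) L29039
theorem L29044 : sm gc N3285 = N3177 := ded_28_1 (flp_h L28060) (flp_c L27129) L29039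
theorem L29046 : sm ge N3285 = N3101 := ded_37_1 (flp_h L27137) (flp_e L27132) L29039
theorem L29048 : sm gf N3285 = N3174 := ded_40_1 (flp_h L28027) (flp_f L27134) L29039
theorem L29050 : sm gg N3285 = N3285 := ded_42_1 (flp_h L29039) L27136 L29039
theorem L29051 : sm gi N3285 = N3285 := ded_44_2 (flp_h L29039) (flp_i L27124) L24958 L27124 L29039
theorem L29052 : sm gh N3103 = N3286 := rfl
theorem L29054 : sm ga N3286 = N3109 := ded_15_1 (flp_h L27244) (flp_a L27165) L29052
theorem L29056 : sm gb N3286 = N3174 := ded_22_1 (flp_h L28027) (flp_b L27167) L29052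
theorem L29058 : sm gc N3286 = N3149 := ded_28_1 (flp_h L27763) (flp_c L27169) L29052
theorem L29060 : sm ge N3286 = N3170 := ded_37_1 (flp_h L27988) (flp_e L27172) L29052
theorem L29062 : sm gf N3286 = N3104 := ded_40_1 (flp_h L27178) (flp_f L27174) L29052
theorem L29064 : sm gg N3286 = N3230 := ded_42_1 (flp_h L28589) (flp_g L27176) L29052
theorem L29066 : sm gi N3286 = N3286 := ded_44_2 (flp_h L29052) (flp_i L27163) L24997 L27163 L29052
theorem L29067 : sm gd N3104 = N3287 := rfl
theorem L29069 : sm ga N3287 = N3110 := ded_11_1 (flp_d L27252) (flp_a L27180) L29067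
theorem L29071 : sm gg N3287 = N3287 := ded_32_2 (flp_d L29067) L27186 L29067
theorem L29072 : sm gi N3287 = N3287 := ded_34_2 (flp_d L29067) L27187 L29067
theorem L29073 : sm gc N3287 = N3179 := ded_24_1 (flp_d L28080) L25914 (flp_d L25561) (flp_c L27182) L29067
theorem L29075 : sm ge N3287 = N3287 := ded_30_2 (flp_d L29067) L27184 L25019 (flp_e L27184) L29067
theorem L29076 : sm gh N3287 = N3287 := ded_33_2 (flp_d L29067) (flp_h L27178) L25008 L27178 L29067
theorem L29077 : sm gh N3106 = N3288 := rfl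
theorem L29079 : sm ga N3288 = N3170 := ded_15_1 (flp_h L27988) (flp_a L27204) L29077
theorem L29081 : sm gb N3288 = N3288 := ded_22_1 (flp_h L29077) L27206 L29077
theorem L29082 : sm gc N3288 = N3167 := ded_28_1 (flp_h L27964) (flp_c L27207) L29077
theorem L29084 : sm ge N3288 = N3109 := ded_37_1 (flp_h L27244) (flp_e L27211) L29077
theorem L29086 : sm gf N3288 = N3107 := ded_40_1 (flp_h L27217) (flp_f L27213) L29077
theorem L29088 : sm gg N3288 = N3238 := ded_42_1 (flp_h L28672) (flp_g L27215) L29077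
theorem L29090 : sm gd N3288 = N3176 := ded_33_1 (flp_h L28050) L25867 (flp_h L25574) (flp_d L27209) L29077
theorem L29092 : sm gi N3288 = N3288 := ded_44_2 (flp_h L29077) (flp_i L27202) L25044 L27202 L29077
theorem L29093 : sm gh N3108 = N3289 := rfl
theorem L29095 : sm ga N3289 = N3230 := ded_15_1 (flp_h L28589) (flp_a L27233) L29093
theorem L29097 : sm gb N3289 = N3289 := ded_22_1 (flp_h L29093) L27235 L29093
theorem L29098 : sm gc N3289 = N3169 := ded_28_1 (flp_h L27978) (flp_c L27236) L29093
theorem L29100 : sm ge N3289 = N3238 := ded_37_1 (flp_h L28672) (flp_e L27239) L29093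
theorem L29102 : sm gf N3289 = N3289 := ded_40_1 (flp_h L29093) L27241 L29093
theorem L29103 : sm gg N3289 = N3109 := ded_42_1 (flp_h L27244) (flp_g L27242) L29093
theorem L29105 : sm gi N3289 = N3289 := ded_44_2 (flp_h L29093) (flp_i L27231) L25081 L27231 L29093
theorem L29106 : sm gd N3109 = N3290 := rfl
theorem L29108 : sm gb N3290 = N3290 := ded_18_1 (flp_d L29106) L27246 L29106
theorem L29109 : sm gf N3290 = N3110 := ded_31_2 (flp_d L27252) (flp_f L27249) L29106
theorem L29111 : sm gi N3290 = N3290 := ded_34_2 (flp_d L29106) L27251 L29106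
theorem L29112 : sm gh N3290 = N3290 := ded_33_2 (flp_d L29106) (flp_h L27244) L25088 L27244 L29106
theorem L29113 : sm gc N3110 = N3291 := rfl
theorem L29115 : sm ga N3291 = N3179 := ded_10_1 (flp_c L29073) L29069 L29113
theorem L29117 : sm ge N3291 = N3291 := ded_25_2 (flp_c L29113) L27257 L29113
theorem L29118 : sm gg N3291 = N3291 := ded_27_2 (flp_c L29113) L27255 L29113
theorem L29119 : sm gh N3291 = N3291 := ded_28_2 (flp_c L29113) L27258 L29113
theorem L29120 : sm gi N3291 = N3291 := ded_29_2 (flp_c L29113) L27256 L29113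
theorem L29121 : sm gd N3291 = N3134 := ded_24_2 L27567 L25404 (flp_c L25094) L27252 L29113
theorem L29123 : sm gh N3111 = N3292 := rfl
theorem L29125 : sm ga N3292 = N3190 := ded_15_1 (flp_h L28199) (flp_a L27261) L29123
theorem L29127 : sm gb N3292 = N3112 := ded_22_1 (flp_h L27274) (flp_b L27263) L29123
theorem L29129 : sm gc N3292 = N3116 := ded_28_1 (flp_h L27326) (flp_c L27265) L29123
theorem L29131 : sm ge N3292 = N3172 := ded_37_1 (flp_h L28013) (flp_e L27269) L29123
theorem L29133 : sm gf N3292 = N3292 := ded_40_1 (flp_h L29123) L27271 L29123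
theorem L29134 : sm gg N3292 = N3133 := ded_42_1 (flp_h L27552) (flp_g L27272) L29123
theorem L29136 : sm gd N3292 = N3169 := ded_33_1 (flp_h L27978) L25757 (flp_h L25360) (flp_d L27267) L29123
theorem L29138 : sm gi N3292 = N3292 := ded_44_2 (flp_h L29123) (flp_i L27259) L25109 L27259 L29123
theorem L29139 : sm gh N3113 = N3293 := rfl
theorem L29141 : sm ga N3293 = N3178 := ded_15_1 (flp_h L28070) (flp_a L27290) L29139
theorem L29143 : sm gb N3293 = N3114 := ded_22_1 (flp_h L27303) (flp_b L27292) L29139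
theorem L29145 : sm gc N3293 = N3133 := ded_28_1 (flp_h L27552) (flp_c L27294) L29139
theorem L29147 : sm ge N3293 = N3175 := ded_37_1 (flp_h L28037) (flp_e L27297) L29139
theorem L29149 : sm gf N3293 = N3134 := ded_40_1 (flp_h L27563) (flp_f L27299) L29139
theorem L29151 : sm gg N3293 = N3116 := ded_42_1 (flp_h L27326) (flp_g L27301) L29139
theorem L29153 : sm gi N3293 = N3293 := ded_44_2 (flp_h L29139) (flp_i L27288) L25145 L27288 L29139
theorem L29154 : sm gd N3114 = N3294 := rfl
theorem L29156 : sm ga N3294 = N3294 := ded_11_1 (flp_d L29154) L27305 L29154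
theorem L29157 : sm gg N3294 = N3117 := ded_32_2 (flp_d L27334) (flp_g L27310) L29154
theorem L29159 : sm gi N3294 = N3294 := ded_34_2 (flp_d L29154) L27312 L29154
theorem L29160 : sm gc N3294 = N3294 := ded_24_1 (flp_d L29154) L27306 L25167 (flp_c L27306) L29154
theorem L29161 : sm ge N3294 = N3231 := ded_30_2 (flp_d L28599) L26485 (flp_d L25859) (flp_e L27308) L29154
theorem L29163 : sm gh N3294 = N3294 := ded_33_2 (flp_d L29154) (flp_h L27303) L25155 L27303 L29154
theorem L29164 : sm gh N3115 = N3295 := rfl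
theorem L29166 : sm ga N3295 = N3116 := ded_15_1 (flp_h L27326) (flp_a L27315) L29164
theorem L29168 : sm gb N3295 = N3295 := ded_22_1 (flp_h L29164) L27317 L29164
theorem L29169 : sm gc N3295 = N3190 := ded_28_1 (flp_h L28199) (flp_c L27318) L29164
theorem L29171 : sm ge N3295 = N3176 := ded_37_1 (flp_h L28050) (flp_e L27321) L29164
theorem L29173 : sm gf N3295 = N3295 := ded_40_1 (flp_h L29164) L27323 L29164
theorem L29174 : sm gg N3295 = N3178 := ded_42_1 (flp_h L28070) (flp_g L27324) L29164
theorem L29176 : sm gi N3295 = N3295 := ded_44_2 (flp_h L29164) (flp_i L27313) L25179 L27313 L29164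
theorem L29177 : sm gd N3116 = N3296 := rfl
theorem L29179 : sm gb N3296 = N3117 := ded_18_1 (flp_d L27334) (flp_b L27328) L29177
theorem L29181 : sm gf N3296 = N3296 := ded_31_2 (flp_d L29177) L27332 L29177
theorem L29182 : sm gi N3296 = N3296 := ded_34_2 (flp_d L29177) L27333 L29177
theorem L29183 : sm gh N3296 = N3296 := ded_33_2 (flp_d L29177) (flp_h L27326) L25185 L27326 L29177
theorem L29184 : sm ge N3117 = N3297 := rfl
theorem L29186 : sm ga N3297 = N3297 := ded_12_1 (flp_e L29184) L27336 L29184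
theorem L29187 : sm gc N3297 = N3297 := ded_25_1 (flp_e L29184) L27339 L29184
theorem L29188 : sm gg N3297 = N3231 := ded_36_2 (flp_e L29161) L29157 L29184
theorem L29190 : sm gh N3297 = N3297 := ded_37_2 (flp_e L29184) L27340 L29184
theorem L29191 : sm gi N3297 = N3297 := ded_38_2 (flp_e L29184) L27338 L29184
theorem L29192 : sm gd N3297 = N3174 := ded_30_1 L28032 L25835 (flp_e L25194) L27334 L29184
theorem L29194 : sm gi N3118 = N3298 := rfl
theorem L29196 : sm ga N3298 = N3272 := ded_16_1 (flp_i L28952) (flp_a L27343) L29194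
theorem L29198 : sm gb N3298 = N3245 := ded_23_1 (flp_i L28757) (flp_b L27351) L29194
theorem L29200 : sm gc N3298 = N3120 := ded_29_1 (flp_i L27371) L27341 L29194
theorem L29202 : sm gd N3298 = N3298 := ded_34_1 (flp_i L29194) L27353 L29194
theorem L29203 : sm ge N3298 = N3212 := ded_38_1 (flp_i L28440) L27354 L29194
theorem L29205 : sm gf N3298 = N3209 := ded_41_1 (flp_i L28399) (flp_f L27345) L29194
theorem L29207 : sm gg N3298 = N3250 := ded_43_1 (flp_i L28805) (flp_g L27347) L29194
theorem L29209 : sm gi N3119 = N3299 := rfl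
theorem L29211 : sm ga N3299 = N3207 := ded_16_1 (flp_i L28386) (flp_a L27358) L29209
theorem L29213 : sm gb N3299 = N3184 := ded_23_1 (flp_i L28136) (flp_b L27360) L29209
theorem L29215 : sm gc N3299 = N3212 := ded_29_1 (flp_i L28440) (flp_c L27362) L29209
theorem L29217 : sm gd N3299 = N3299 := ded_34_1 (flp_i L29209) L27368 L29209
theorem L29218 : sm ge N3299 = N3120 := ded_38_1 (flp_i L27371) L27356 L29209
theorem L29220 : sm gf N3299 = N3195 := ded_41_1 (flp_i L28246) (flp_f L27369) L29209
theorem L29222 : sm gg N3299 = N3270 := ded_43_1 (flp_i L28939) (flp_g L27364) L29209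
theorem L29224 : sm gh N3120 = N3300 := rfl
theorem L29226 : sm ga N3300 = N3274 := ded_15_1 (flp_h L28967) (flp_a L27373) L29224
theorem L29228 : sm gb N3300 = N3185 := ded_22_1 (flp_h L28147) (flp_b L27375) L29224
theorem L29230 : sm gf N3300 = N3232 := ded_40_1 (flp_h L28606) (flp_f L27379) L29224
theorem L29232 : sm gg N3300 = N3271 := ded_42_1 (flp_h L28946) (flp_g L27381) L29224
theorem L29234 : sm gd N3300 = N3156 := ded_33_1 (flp_h L27845) L25640 (flp_h L25222) (flp_d L27377) L29224
theorem L29236 : sm gi N3300 = N3124 := ded_44_2 (flp_h L27426) (flp_i L25248) (flp_h L25208) L27371 L29224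
theorem L29238 : sm gi N3121 = N3301 := rfl
theorem L29240 : sm ga N3301 = N3219 := ded_16_1 (flp_i L28507) (flp_a L27385) L29238
theorem L29242 : sm gb N3301 = N3240 := ded_23_1 (flp_i L28696) (flp_b L27387) L29238
theorem L29244 : sm gc N3301 = N3123 := ded_29_1 (flp_i L27412) (flp_c L27389) L29238
theorem L29246 : sm gd N3301 = N3301 := ded_34_1 (flp_i L29238) L27395 L29238
theorem L29247 : sm ge N3301 = N3122 := ded_38_1 (flp_i L27398) L27383 L29238
theorem L29249 : sm gf N3301 = N3200 := ded_41_1 (flp_i L28313) (flp_f L27396) L29238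
theorem L29251 : sm gg N3301 = N3256 := ded_43_1 (flp_i L28849) (flp_g L27391) L29238
theorem L29253 : sm gh N3122 = N3302 := rfl
theorem L29255 : sm ga N3302 = N3279 := ded_15_1 (flp_h L28997) (flp_a L27400) L29253
theorem L29257 : sm gb N3302 = N3254 := ded_22_1 (flp_h L28833) (flp_b L27402) L29253
theorem L29259 : sm gc N3302 = N3124 := ded_28_1 (flp_h L27426) (flp_c L27404) L29253
theorem L29261 : sm gf N3302 = N3235 := ded_40_1 (flp_h L28646) (flp_f L27408) L29253
theorem L29263 : sm gg N3302 = N3257 := ded_42_1 (flp_h L28858) (flp_g L27410) L29253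
theorem L29265 : sm gh N3123 = N3303 := rfl
theorem L29267 : sm ga N3303 = N3222 := ded_15_1 (flp_h L28532) (flp_a L27414) L29265
theorem L29269 : sm gb N3303 = N3187 := ded_22_1 (flp_h L28173) (flp_b L27416) L29265
theorem L29271 : sm ge N3303 = N3124 := ded_37_1 (flp_h L27426) (flp_e L27420) L29265
theorem L29273 : sm gf N3303 = N3202 := ded_40_1 (flp_h L28338) (flp_f L27422) L29265
theorem L29275 : sm gg N3303 = N3278 := ded_42_1 (flp_h L28991) (flp_g L27424) L29265
theorem L29277 : sm gd N3125 = N3304 := rfl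
theorem L29279 : sm ga N3304 = N3228 := ded_11_1 (flp_d L28580) (flp_a L27440) L29277
theorem L29281 : sm gb N3304 = N3189 := ded_18_1 (flp_d L28192) (flp_b L27442) L29277
theorem L29283 : sm gf N3304 = N3205 := ded_31_2 (flp_d L28366) (flp_f L27447) L29277
theorem L29285 : sm gg N3304 = N3282 := ded_32_2 (flp_d L29016) (flp_g L27449) L29277
theorem L29287 : sm gi N3304 = N3304 := ded_34_2 (flp_d L29277) L27451 L29277
theorem L29288 : sm ge N3304 = N3168 := ded_30_2 (flp_d L27973) L25748 (flp_d L25284) (flp_e L27445) L29277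
theorem L29290 : sm gd N3126 = N3305 := rfl
theorem L29292 : sm ga N3305 = N3283 := ded_11_1 (flp_d L29021) (flp_a L27454) L29290
theorem L29294 : sm gb N3305 = N3263 := ded_18_1 (flp_d L28897) (flp_b L27456) L29290
theorem L29296 : sm gf N3305 = N3237 := ded_31_2 (flp_d L28665) (flp_f L27461) L29290
theorem L29298 : sm gg N3305 = N3265 := ded_32_2 (flp_d L28912) (flp_g L27463) L29290
theorem L29300 : sm gi N3305 = N3305 := ded_34_2 (flp_d L29290) L27465 L29290
theorem L29301 : sm gc N3305 = N3173 := ded_24_1 (flp_d L28022) L25811 (flp_d L25311) (flp_c L27458) L29290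
theorem L29303 : sm gi N3127 = N3306 := rfl
theorem L29305 : sm ga N3306 = N3192 := ded_16_1 (flp_i L28221) (flp_a L27468) L29303
theorem L29307 : sm gb N3306 = N3142 := ded_23_1 (flp_i L27674) (flp_b L27470) L29303
theorem L29309 : sm gc N3306 = N3216 := ded_29_1 (flp_i L28479) (flp_c L27480) L29303
theorem L29311 : sm gd N3306 = N3128 := ded_34_1 (flp_i L27482) L27466 L29303
theorem L29313 : sm ge N3306 = N3161 := ded_38_1 (flp_i L27902) (flp_e L27476) L29303
theorem L29315 : sm gf N3306 = N3269 := ded_41_1 (flp_i L28931) (flp_f L27472) L29303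
theorem L29317 : sm gg N3306 = N3131 := ded_43_1 (flp_i L27528) (flp_g L27474) L29303
theorem L29319 : sm gi N3129 = N3307 := rfl
theorem L29321 : sm ga N3307 = N3193 := ded_16_1 (flp_i L28231) (flp_a L27499) L29319
theorem L29323 : sm gb N3307 = N3195 := ded_23_1 (flp_i L28246) (flp_b L27507) L29319
theorem L29325 : sm gc N3307 = N3131 := ded_29_1 (flp_i L27528) L27497 L29319
theorem L29327 : sm gd N3307 = N3307 := ded_34_1 (flp_i L29319) L27509 L29319
theorem L29328 : sm ge N3307 = N3191 := ded_38_1 (flp_i L28209) L27510 L29319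
theorem L29330 : sm gf N3307 = N3184 := ded_41_1 (flp_i L28136) (flp_f L27501) L29319
theorem L29332 : sm gg N3307 = N3216 := ded_43_1 (flp_i L28479) (flp_g L27503) L29319
theorem L29334 : sm gi N3130 = N3308 := rfl
theorem L29336 : sm ga N3308 = N3186 := ded_16_1 (flp_i L28161) (flp_a L27514) L29334
theorem L29338 : sm gb N3308 = N3145 := ded_23_1 (flp_i L27718) (flp_b L27516) L29334
theorem L29340 : sm gc N3308 = N3191 := ded_29_1 (flp_i L28209) (flp_c L27518) L29334
theorem L29342 : sm gd N3308 = N3132 := ded_34_1 (flp_i L27538) (flp_d L27524) L29334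
theorem L29344 : sm ge N3308 = N3131 := ded_38_1 (flp_i L27528) L27512 L29334
theorem L29346 : sm gf N3308 = N3181 := ded_41_1 (flp_i L28099) (flp_f L27526) L29334
theorem L29348 : sm gg N3308 = N3161 := ded_43_1 (flp_i L27902) (flp_g L27520) L29334
theorem L29350 : sm gh N3131 = N3309 := rfl
theorem L29352 : sm ga N3309 = N3194 := ded_15_1 (flp_h L28240) (flp_a L27530) L29350
theorem L29354 : sm gb N3309 = N3146 := ded_22_1 (flp_h L27730) (flp_b L27532) L29350
theorem L29356 : sm gf N3309 = N3239 := ded_40_1 (flp_h L28682) (flp_f L27536) L29350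
theorem L29358 : sm gd N3309 = N3262 := ded_33_1 (flp_h L28891) L26836 (flp_h L25348) (flp_d L27534) L29350
theorem L29360 : sm gi N3309 = N3275 := ded_44_2 (flp_h L28973) (flp_i L27008) (flp_h L25335) L27528 L29350
theorem L29362 : sm gh N3132 = N3310 := rfl
theorem L29364 : sm ga N3310 = N3188 := ded_15_1 (flp_h L28181) (flp_a L27540) L29362
theorem L29366 : sm gb N3310 = N3148 := ded_22_1 (flp_h L27752) (flp_b L27542) L29362
theorem L29368 : sm gc N3310 = N3175 := ded_28_1 (flp_h L28037) (flp_c L27544) L29362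
theorem L29370 : sm ge N3310 = N3133 := ded_37_1 (flp_h L27552) (flp_e L27546) L29362
theorem L29372 : sm gf N3310 = N3183 := ded_40_1 (flp_h L28125) (flp_f L27548) L29362
theorem L29374 : sm gg N3310 = N3172 := ded_42_1 (flp_h L28013) (flp_g L27550) L29362
theorem L29376 : sm gi N3310 = N3310 := ded_44_2 (flp_h L29362) (flp_i L27538) L25372 L27538 L29362
theorem L29377 : sm gi N3135 = N3311 := rfl
theorem L29379 : sm ga N3311 = N3151 := ded_16_1 (flp_i L27791) (flp_a L27575) L29377
theorem L29381 : sm gb N3311 = N3214 := ded_23_1 (flp_i L28454) (flp_b L27577) L29377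
theorem L29383 : sm gc N3311 = N3155 := ded_29_1 (flp_i L27838) (flp_c L27585) L29377
theorem L29385 : sm gd N3311 = N3136 := ded_34_1 (flp_i L27589) L27573 L29377
theorem L29387 : sm ge N3311 = N3153 := ded_38_1 (flp_i L27816) L27587 L29377
theorem L29389 : sm gf N3311 = N3261 := ded_41_1 (flp_i L28881) (flp_f L27579) L29377
theorem L29391 : sm gg N3311 = N3139 := ded_43_1 (flp_i L27633) (flp_g L27581) L29377
theorem L29393 : sm gi N3137 = N3312 := rfl
theorem L29395 : sm ga N3312 = N3153 := ded_16_1 (flp_i L27816) (flp_a L27605) L29393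
theorem L29397 : sm gb N3312 = N3200 := ded_23_1 (flp_i L28313) (flp_b L27613) L29393
theorem L29399 : sm gc N3312 = N3139 := ded_29_1 (flp_i L27633) L27603 L29393
theorem L29401 : sm gd N3312 = N3312 := ded_34_1 (flp_i L29393) L27615 L29393
theorem L29402 : sm ge N3312 = N3151 := ded_38_1 (flp_i L27791) L27616 L29393
theorem L29404 : sm gf N3312 = N3240 := ded_41_1 (flp_i L28696) (flp_f L27607) L29393
theorem L29406 : sm gg N3312 = N3155 := ded_43_1 (flp_i L27838) (flp_g L27609) L29393
theorem L29408 : sm gi N3138 = N3313 := rfl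
theorem L29410 : sm ga N3313 = N3155 := ded_16_1 (flp_i L27838) (flp_a L27620) L29408
theorem L29412 : sm gb N3313 = N3193 := ded_23_1 (flp_i L28231) (flp_b L27622) L29408
theorem L29414 : sm gc N3313 = N3151 := ded_29_1 (flp_i L27791) (flp_c L27624) L29408
theorem L29416 : sm gd N3313 = N3313 := ded_34_1 (flp_i L29408) L27630 L29408
theorem L29417 : sm ge N3313 = N3139 := ded_38_1 (flp_i L27633) L27618 L29408
theorem L29419 : sm gf N3313 = N3252 := ded_41_1 (flp_i L28818) (flp_f L27631) L29408
theorem L29421 : sm gg N3313 = N3153 := ded_43_1 (flp_i L27816) (flp_g L27626) L29408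
theorem L29423 : sm gh N3139 = N3314 := rfl
theorem L29425 : sm ga N3314 = N3156 := ded_15_1 (flp_h L27845) (flp_a L27635) L29423
theorem L29427 : sm gb N3314 = N3275 := ded_22_1 (flp_h L28973) (flp_b L27637) L29423
theorem L29429 : sm gf N3314 = N3241 := ded_40_1 (flp_h L28707) (flp_f L27641) L29423
theorem L29431 : sm gd N3314 = N3274 := ded_33_1 (flp_h L28967) L26998 (flp_h L25439) (flp_d L27639) L29423
theorem L29433 : sm gi N3314 = N3146 := ded_44_2 (flp_h L27730) (flp_i L25500) (flp_h L25427) L27633 L29423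
theorem L29435 : sm gi N3140 = N3315 := rfl
theorem L29437 : sm ga N3315 = N3158 := ded_16_1 (flp_i L27868) (flp_a L27645) L29435
theorem L29439 : sm gb N3315 = N3269 := ded_23_1 (flp_i L28931) (flp_b L27647) L29435
theorem L29441 : sm gc N3315 = N3164 := ded_29_1 (flp_i L27934) (flp_c L27653) L29435
theorem L29443 : sm gd N3315 = N3141 := ded_34_1 (flp_i L27659) L27643 L29435
theorem L29445 : sm ge N3315 = N3258 := ded_38_1 (flp_i L28864) L27657 L29435
theorem L29447 : sm gf N3315 = N3142 := ded_41_1 (flp_i L27674) (flp_f L27649) L29435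
theorem L29449 : sm gg N3315 = N3242 := ded_43_1 (flp_i L28721) (flp_g L27651) L29435
theorem L29451 : sm gh N3142 = N3316 := rfl
theorem L29453 : sm ga N3316 = N3159 := ded_15_1 (flp_h L27878) (flp_a L27676) L29451
theorem L29455 : sm gc N3316 = N3165 := ded_28_1 (flp_h L27944) (flp_c L27678) L29451
theorem L29457 : sm ge N3316 = N3162 := ded_37_1 (flp_h L27912) (flp_e L27682) L29451
theorem L29459 : sm gg N3316 = N3146 := ded_42_1 (flp_h L27730) (flp_g L27684) L29451
theorem L29461 : sm gd N3316 = N3276 := ded_33_1 (flp_h L28977) L27024 (flp_h L25474) (flp_d L27680) L29451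
theorem L29463 : sm gh N3143 = N3317 := rfl
theorem L29465 : sm ga N3317 = N3162 := ded_15_1 (flp_h L27912) (flp_a L27688) L29463
theorem L29467 : sm gb N3317 = N3213 := ded_22_1 (flp_h L28448) (flp_b L27690) L29463
theorem L29469 : sm gc N3317 = N3146 := ded_28_1 (flp_h L27730) (flp_c L27692) L29463
theorem L29471 : sm ge N3317 = N3159 := ded_37_1 (flp_h L27878) (flp_e L27696) L29463
theorem L29473 : sm gf N3317 = N3246 := ded_40_1 (flp_h L28768) (flp_f L27698) L29463
theorem L29475 : sm gg N3317 = N3165 := ded_42_1 (flp_h L27944) (flp_g L27700) L29463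
theorem L29477 : sm gi N3144 = N3318 := rfl
theorem L29479 : sm ga N3318 = N3164 := ded_16_1 (flp_i L27934) (flp_a L27704) L29477
theorem L29481 : sm gb N3318 = N3181 := ded_23_1 (flp_i L28099) (flp_b L27706) L29477
theorem L29483 : sm gc N3318 = N3158 := ded_29_1 (flp_i L27868) (flp_c L27708) L29477
theorem L29485 : sm gd N3318 = N3147 := ded_34_1 (flp_i L27738) (flp_d L27710) L29477
theorem L29487 : sm ge N3318 = N3180 := ded_38_1 (flp_i L28087) (flp_e L27714) L29477
theorem L29489 : sm gf N3318 = N3145 := ded_41_1 (flp_i L27718) L27702 L29477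
theorem L29491 : sm gg N3318 = N3234 := ded_43_1 (flp_i L28634) (flp_g L27716) L29477
theorem L29493 : sm gh N3145 = N3319 := rfl
theorem L29495 : sm ga N3319 = N3165 := ded_15_1 (flp_h L27944) (flp_a L27720) L29493
theorem L29497 : sm gc N3319 = N3159 := ded_28_1 (flp_h L27878) (flp_c L27722) L29493
theorem L29499 : sm ge N3319 = N3146 := ded_37_1 (flp_h L27730) (flp_e L27726) L29493
theorem L29501 : sm gg N3319 = N3162 := ded_42_1 (flp_h L27912) (flp_g L27728) L29493
theorem L29503 : sm gh N3147 = N3320 := rfl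
theorem L29505 : sm ga N3320 = N3167 := ded_15_1 (flp_h L27964) (flp_a L27740) L29503
theorem L29507 : sm gb N3320 = N3183 := ded_22_1 (flp_h L28125) (flp_b L27742) L29503
theorem L29509 : sm gc N3320 = N3170 := ded_28_1 (flp_h L27988) (flp_c L27744) L29503
theorem L29511 : sm ge N3320 = N3149 := ded_37_1 (flp_h L27763) (flp_e L27746) L29503
theorem L29513 : sm gf N3320 = N3148 := ded_40_1 (flp_h L27752) (flp_f L27748) L29503
theorem L29515 : sm gg N3320 = N3236 := ded_42_1 (flp_h L28654) (flp_g L27750) L29503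
theorem L29517 : sm gi N3320 = N3320 := ded_44_2 (flp_h L29503) (flp_i L27738) L25516 L27738 L29503
theorem L29518 : sm gd N3148 = N3321 := rfl
theorem L29520 : sm ga N3321 = N3168 := ded_11_1 (flp_d L27973) (flp_a L27754) L29518
theorem L29522 : sm gg N3321 = N3173 := ded_32_2 (flp_d L28022) (flp_g L27760) L29518
theorem L29524 : sm gi N3321 = N3321 := ded_34_2 (flp_d L29518) L27762 L29518
theorem L29525 : sm gc N3321 = N3265 := ded_24_1 (flp_d L28912) L26878 (flp_d L25785) (flp_c L27756) L29518
theorem L29527 : sm ge N3321 = N3228 := ded_30_2 (flp_d L28580) L26431 (flp_d L25537) (flp_e L27758) L29518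
theorem L29529 : sm gd N3150 = N3322 := rfl
theorem L29531 : sm ga N3322 = N3173 := ded_11_1 (flp_d L28022) (flp_a L27778) L29529
theorem L29533 : sm gb N3322 = N3226 := ded_18_1 (flp_d L28563) (flp_b L27780) L29529
theorem L29535 : sm gf N3322 = N3249 := ded_31_2 (flp_d L28798) (flp_f L27786) L29529
theorem L29537 : sm gg N3322 = N3168 := ded_32_2 (flp_d L27973) (flp_g L27788) L29529
theorem L29539 : sm gi N3322 = N3322 := ded_34_2 (flp_d L29529) L27790 L29529
theorem L29540 : sm gc N3322 = N3283 := ded_24_1 (flp_d L29021) L27102 (flp_d L25597) (flp_c L27782) L29529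
theorem L29542 : sm ge N3322 = N3282 := ded_30_2 (flp_d L29016) L27097 (flp_d L25720) (flp_e L27784) L29529
theorem L29544 : sm gh N3151 = N3323 := rfl
theorem L29546 : sm gb N3323 = N3201 := ded_22_1 (flp_h L28324) (flp_b L27793) L29544
theorem L29548 : sm gf N3323 = N3268 := ded_40_1 (flp_h L28927) (flp_f L27797) L29544
theorem L29550 : sm gg N3323 = N3156 := ded_42_1 (flp_h L27845) (flp_g L27799) L29544
theorem L29552 : sm gd N3323 = N3271 := ded_33_1 (flp_h L28946) L26974 (flp_h L25620) (flp_d L27795) L29544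
theorem L29554 : sm gi N3323 = N3159 := ded_44_2 (flp_h L27878) (flp_i L25667) (flp_h L25608) L27791 L29544
theorem L29556 : sm gi N3152 = N3324 := rfl
theorem L29558 : sm ga N3324 = N3216 := ded_16_1 (flp_i L28479) (flp_a L27812) L29556
theorem L29560 : sm gb N3324 = N3153 := ded_23_1 (flp_i L27816) L27801 L29556
theorem L29562 : sm gc N3324 = N3192 := ded_29_1 (flp_i L28221) (flp_c L27814) L29556
theorem L29564 : sm gd N3324 = N3324 := ded_34_1 (flp_i L29556) L27803 L29556
theorem L29565 : sm ge N3324 = N3214 := ded_38_1 (flp_i L28454) (flp_e L27804) L29556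
theorem L29567 : sm gf N3324 = N3250 := ded_41_1 (flp_i L28805) (flp_f L27806) L29556
theorem L29569 : sm gg N3324 = N3193 := ded_43_1 (flp_i L28231) (flp_g L27808) L29556
theorem L29571 : sm gh N3153 = N3325 := rfl
theorem L29573 : sm gc N3325 = N3156 := ded_28_1 (flp_h L27845) (flp_c L27818) L29571
theorem L29575 : sm gf N3325 = N3251 := ded_40_1 (flp_h L28812) (flp_f L27821) L29571
theorem L29577 : sm gi N3325 = N3162 := ded_44_2 (flp_h L27912) (flp_i L25683) (flp_h L25626) L27816 L29571
theorem L29579 : sm gi N3154 = N3326 := rfl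
theorem L29581 : sm ga N3326 = N3252 := ded_16_1 (flp_i L28818) (flp_a L27825) L29579
theorem L29583 : sm gb N3326 = N3207 := ded_23_1 (flp_i L28386) (flp_b L27827) L29579
theorem L29585 : sm gc N3326 = N3261 := ded_29_1 (flp_i L28881) (flp_c L27829) L29579
theorem L29587 : sm gd N3326 = N3326 := ded_34_1 (flp_i L29579) L27831 L29579
theorem L29588 : sm ge N3326 = N3242 := ded_38_1 (flp_i L28721) (flp_e L27834) L29579
theorem L29590 : sm gf N3326 = N3155 := ded_41_1 (flp_i L27838) L27823 L29579
theorem L29592 : sm gg N3326 = N3258 := ded_43_1 (flp_i L28864) (flp_g L27836) L29579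
theorem L29594 : sm gh N3155 = N3327 := rfl
theorem L29596 : sm gb N3327 = N3208 := ded_22_1 (flp_h L28393) (flp_b L27840) L29594
theorem L29598 : sm ge N3327 = N3156 := ded_37_1 (flp_h L27845) (flp_e L27843) L29594
theorem L29600 : sm gi N3327 = N3165 := ded_44_2 (flp_h L27944) (flp_i L25699) (flp_h L25633) L27838 L29594
theorem L29602 : sm gi N3157 = N3328 := rfl
theorem L29604 : sm ga N3328 = N3258 := ded_16_1 (flp_i L28864) (flp_a L27855) L29602
theorem L29606 : sm gb N3328 = N3209 := ded_23_1 (flp_i L28399) (flp_b L27857) L29602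
theorem L29608 : sm gc N3328 = N3180 := ded_29_1 (flp_i L28087) (flp_c L27859) L29602
theorem L29610 : sm gd N3328 = N3328 := ded_34_1 (flp_i L29602) L27865 L29602
theorem L29611 : sm ge N3328 = N3158 := ded_38_1 (flp_i L27868) L27853 L29602
theorem L29613 : sm gf N3328 = N3245 := ded_41_1 (flp_i L28757) (flp_f L27866) L29602
theorem L29615 : sm gg N3328 = N3252 := ded_43_1 (flp_i L28818) (flp_g L27861) L29602
theorem L29617 : sm gh N3158 = N3329 := rfl
theorem L29619 : sm gb N3329 = N3210 := ded_22_1 (flp_h L28410) (flp_b L27870) L29617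
theorem L29621 : sm gf N3329 = N3159 := ded_40_1 (flp_h L27878) (flp_f L27874) L29617
theorem L29623 : sm gg N3329 = N3253 := ded_42_1 (flp_h L28827) (flp_g L27876) L29617
theorem L29625 : sm gd N3329 = N3217 := ded_33_1 (flp_h L28486) L26348 (flp_h L25665) (flp_d L27872) L29617
theorem L29627 : sm gi N3329 = N3268 := ded_44_2 (flp_h L28927) (flp_i L26943) (flp_h L25652) L27868 L29617
theorem L29629 : sm gi N3160 = N3330 := rfl
theorem L29631 : sm ga N3330 = N3161 := ded_16_1 (flp_i L27902) L27886 L29629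
theorem L29633 : sm gb N3330 = N3198 := ded_23_1 (flp_i L28287) (flp_b L27900) L29629
theorem L29635 : sm gc N3330 = N3214 := ded_29_1 (flp_i L28454) (flp_c L27888) L29629
theorem L29637 : sm gd N3330 = N3171 := ded_34_1 (flp_i L27999) (flp_d L27890) L29629
theorem L29639 : sm ge N3330 = N3192 := ded_38_1 (flp_i L28221) (flp_e L27892) L29629
theorem L29641 : sm gf N3330 = N3255 := ded_41_1 (flp_i L28839) (flp_f L27894) L29629
theorem L29643 : sm gg N3330 = N3186 := ded_43_1 (flp_i L28161) (flp_g L27896) L29629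
theorem L29645 : sm gh N3161 = N3331 := rfl
theorem L29647 : sm gb N3331 = N3162 := ded_22_1 (flp_h L27912) (flp_b L27904) L29645
theorem L29649 : sm gc N3331 = N3217 := ded_28_1 (flp_h L28486) (flp_c L27906) L29645
theorem L29651 : sm gf N3331 = N3257 := ded_40_1 (flp_h L28858) (flp_f L27910) L29645
theorem L29653 : sm gd N3162 = N3332 := rfl
theorem L29655 : sm gf N3332 = N3260 := ded_31_2 (flp_d L28877) (flp_f L27916) L29653
theorem L29657 : sm gh N3332 = N3173 := ded_33_2 (flp_d L28022) (flp_h L25809) (flp_d L25687) L27912 L29653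
theorem L29659 : sm gi N3163 = N3333 := rfl
theorem L29661 : sm ga N3333 = N3234 := ded_16_1 (flp_i L28634) (flp_a L27920) L29659
theorem L29663 : sm gb N3333 = N3221 := ded_23_1 (flp_i L28522) (flp_b L27922) L29659
theorem L29665 : sm gc N3333 = N3242 := ded_29_1 (flp_i L28721) (flp_c L27924) L29659
theorem L29667 : sm gd N3333 = N3166 := ded_34_1 (flp_i L27950) (flp_d L27926) L29659
theorem L29669 : sm ge N3333 = N3261 := ded_38_1 (flp_i L28881) (flp_e L27928) L29659
theorem L29671 : sm gf N3333 = N3243 := ded_41_1 (flp_i L28731) (flp_f L27932) L29659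
theorem L29673 : sm gg N3333 = N3164 := ded_43_1 (flp_i L27934) L27918 L29659
theorem L29675 : sm gh N3164 = N3334 := rfl
theorem L29677 : sm gb N3334 = N3222 := ded_22_1 (flp_h L28532) (flp_b L27936) L29675
theorem L29679 : sm ge N3334 = N3262 := ded_37_1 (flp_h L28891) (flp_e L27940) L29675
theorem L29681 : sm gf N3334 = N3165 := ded_40_1 (flp_h L27944) (flp_f L27942) L29675
theorem L29683 : sm gd N3165 = N3335 := rfl
theorem L29685 : sm gb N3335 = N3223 := ded_18_1 (flp_d L28538) (flp_b L27946) L29683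
theorem L29687 : sm gh N3335 = N3168 := ded_33_2 (flp_d L27973) (flp_h L25744) (flp_d L25703) L27944 L29683
theorem L29689 : sm gh N3166 = N3336 := rfl
theorem L29691 : sm ga N3336 = N3236 := ded_15_1 (flp_h L28654) (flp_a L27952) L29689
theorem L29693 : sm gb N3336 = N3227 := ded_22_1 (flp_h L28570) (flp_b L27954) L29689
theorem L29695 : sm gc N3336 = N3238 := ded_28_1 (flp_h L28672) (flp_c L27956) L29689
theorem L29697 : sm ge N3336 = N3169 := ded_37_1 (flp_h L27978) (flp_e L27958) L29689
theorem L29699 : sm gf N3336 = N3248 := ded_40_1 (flp_h L28788) (flp_f L27960) L29689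
theorem L29701 : sm gg N3336 = N3167 := ded_42_1 (flp_h L27964) (flp_g L27962) L29689
theorem L29703 : sm gi N3336 = N3336 := ded_44_2 (flp_h L29689) (flp_i L27950) L25733 L27950 L29689
theorem L29704 : sm gd N3167 = N3337 := rfl
theorem L29706 : sm gb N3337 = N3228 := ded_18_1 (flp_d L28580) (flp_b L27966) L29704
theorem L29708 : sm gf N3337 = N3168 := ded_31_2 (flp_d L27973) (flp_f L27970) L29704
theorem L29710 : sm gi N3337 = N3337 := ded_34_2 (flp_d L29704) L27972 L29704
theorem L29711 : sm gc N3168 = N3338 := rfl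
theorem L29713 : sm ga N3338 = N3265 := ded_10_1 (flp_c L29525) L29520 L29711
theorem L29715 : sm gg N3338 = N3283 := ded_27_2 (flp_c L29540) L29537 L29711
theorem L29717 : sm gi N3338 = N3338 := ded_29_2 (flp_c L29711) L27977 L29711
theorem L29718 : sm gd N3338 = N3264 := ded_24_2 L28906 (flp_d L27228) L27222 L27973 L29711
theorem L29720 : sm gh N3171 = N3339 := rfl
theorem L29722 : sm ga N3339 = N3172 := ded_15_1 (flp_h L28013) (flp_a L28001) L29720
theorem L29724 : sm gb N3339 = N3204 := ded_22_1 (flp_h L28356) (flp_b L28003) L29720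
theorem L29726 : sm gc N3339 = N3176 := ded_28_1 (flp_h L28050) (flp_c L28005) L29720
theorem L29728 : sm ge N3339 = N3190 := ded_37_1 (flp_h L28199) (flp_e L28007) L29720
theorem L29730 : sm gf N3339 = N3264 := ded_40_1 (flp_h L28902) (flp_f L28009) L29720
theorem L29732 : sm gg N3339 = N3188 := ded_42_1 (flp_h L28181) (flp_g L28011) L29720
theorem L29734 : sm gi N3339 = N3339 := ded_44_2 (flp_h L29720) (flp_i L27999) L25798 L27999 L29720
theorem L29735 : sm gd N3172 = N3340 := rfl
theorem L29737 : sm gb N3340 = N3173 := ded_18_1 (flp_d L28022) (flp_b L28015) L29735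
theorem L29739 : sm gf N3340 = N3265 := ded_31_2 (flp_d L28912) (flp_f L28019) L29735
theorem L29741 : sm gi N3340 = N3340 := ded_34_2 (flp_d L29735) L28021 L29735
theorem L29742 : sm ge N3173 = N3341 := rfl
theorem L29744 : sm ga N3341 = N3282 := ded_12_1 (flp_e L29542) L29531 L29742
theorem L29746 : sm gg N3341 = N3228 := ded_36_2 (flp_e L29527) L29522 L29742
theorem L29748 : sm gi N3341 = N3341 := ded_38_2 (flp_e L29742) L28026 L29742
theorem L29749 : sm gd N3341 = N3227 := ded_30_1 L28575 (flp_d L27285) L27280 L28022 L29742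
theorem L29751 : sm gd N3178 = N3342 := rfl
theorem L29753 : sm gb N3342 = N3342 := ded_18_1 (flp_d L29751) L28072 L29751
theorem L29754 : sm gf N3342 = N3179 := ded_31_2 (flp_d L28080) (flp_f L28077) L29751
theorem L29756 : sm gi N3342 = N3342 := ded_34_2 (flp_d L29751) L28079 L29751
theorem L29757 : sm gh N3342 = N3342 := ded_33_2 (flp_d L29751) (flp_h L28070) L25906 L28070 L29751
theorem L29758 : sm gh N3180 = N3343 := rfl
theorem L29760 : sm ga N3343 = N3262 := ded_15_1 (flp_h L28891) (flp_a L28089) L29758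
theorem L29762 : sm gb N3343 = N3182 := ded_22_1 (flp_h L28111) (flp_b L28091) L29758
theorem L29764 : sm gf N3343 = N3247 := ded_40_1 (flp_h L28774) (flp_f L28095) L29758
theorem L29766 : sm gg N3343 = N3268 := ded_42_1 (flp_h L28927) (flp_g L28097) L29758
theorem L29768 : sm gd N3343 = N3194 := ded_33_1 (flp_h L28240) L26143 (flp_h L25945) (flp_d L28093) L29758
theorem L29770 : sm gi N3343 = N3253 := ded_44_2 (flp_h L28827) (flp_i L26763) (flp_h L25930) L28087 L29758
theorem L29772 : sm gh N3181 = N3344 := rfl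
theorem L29774 : sm ga N3344 = N3187 := ded_15_1 (flp_h L28173) (flp_a L28101) L29772
theorem L29776 : sm gc N3344 = N3233 := ded_28_1 (flp_h L28620) (flp_c L28103) L29772
theorem L29778 : sm ge N3344 = N3182 := ded_37_1 (flp_h L28111) (flp_e L28107) L29772
theorem L29780 : sm gg N3344 = N3235 := ded_42_1 (flp_h L28646) (flp_g L28109) L29772
theorem L29782 : sm gi N3344 = N3267 := ded_44_2 (flp_h L28921) (flp_i L26924) (flp_h L25955) L28099 L29772
theorem L29784 : sm gd N3183 = N3345 := rfl
theorem L29786 : sm ga N3345 = N3189 := ded_11_1 (flp_d L28192) (flp_a L28127) L29784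
theorem L29788 : sm gg N3345 = N3237 := ded_32_2 (flp_d L28665) (flp_g L28133) L29784
theorem L29790 : sm gi N3345 = N3345 := ded_34_2 (flp_d L29784) L28135 L29784
theorem L29791 : sm gc N3345 = N3263 := ded_24_1 (flp_d L28897) L26859 (flp_d L26553) (flp_c L28129) L29784
theorem L29793 : sm ge N3345 = N3205 := ded_30_2 (flp_d L28366) L26267 (flp_d L25991) (flp_e L28131) L29784
theorem L29795 : sm gh N3184 = N3346 := rfl
theorem L29797 : sm ga N3346 = N3267 := ded_15_1 (flp_h L28921) (flp_a L28138) L29795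
theorem L29799 : sm gc N3346 = N3239 := ded_28_1 (flp_h L28682) (flp_c L28140) L29795
theorem L29801 : sm ge N3346 = N3185 := ded_37_1 (flp_h L28147) (flp_e L28143) L29795
theorem L29803 : sm gg N3346 = N3273 := ded_42_1 (flp_h L28959) (flp_g L28145) L29795
theorem L29805 : sm gi N3346 = N3187 := ded_44_2 (flp_h L28173) (flp_i L26027) (flp_h L26002) L28136 L29795
theorem L29807 : sm gh N3186 = N3347 := rfl
theorem L29809 : sm gb N3347 = N3202 := ded_22_1 (flp_h L28338) (flp_b L28163) L29807
theorem L29811 : sm gc N3347 = N3275 := ded_28_1 (flp_h L28973) (flp_c L28165) L29807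
theorem L29813 : sm ge N3347 = N3194 := ded_37_1 (flp_h L28240) (flp_e L28169) L29807
theorem L29815 : sm gf N3347 = N3187 := ded_40_1 (flp_h L28173) (flp_f L28171) L29807
theorem L29817 : sm gd N3187 = N3348 := rfl
theorem L29819 : sm gg N3348 = N3280 := ded_32_2 (flp_d L29003) (flp_g L28179) L29817
theorem L29821 : sm ge N3348 = N3223 := ded_30_2 (flp_d L28538) L26390 (flp_d L26045) (flp_e L28177) L29817
theorem L29823 : sm gh N3348 = N3189 := ded_33_2 (flp_d L28192) (flp_h L26057) (flp_d L26031) L28173 L29817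
theorem L29825 : sm gd N3188 = N3349 := rfl
theorem L29827 : sm gb N3349 = N3205 := ded_18_1 (flp_d L28366) (flp_b L28183) L29825
theorem L29829 : sm gf N3349 = N3189 := ded_31_2 (flp_d L28192) (flp_f L28189) L29825
theorem L29831 : sm gi N3349 = N3349 := ded_34_2 (flp_d L29825) L28191 L29825
theorem L29832 : sm gc N3189 = N3350 := rfl
theorem L29834 : sm ga N3350 = N3263 := ded_10_1 (flp_c L29791) L29786 L29832
theorem L29836 : sm ge N3350 = N3229 := ded_25_2 (flp_c L28585) (flp_e L28197) L29832
theorem L29838 : sm gg N3350 = N3249 := ded_27_2 L28803 (flp_g L28194) L29832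
theorem L29840 : sm gi N3350 = N3350 := ded_29_2 (flp_c L29832) L28196 L29832
theorem L29841 : sm gd N3350 = N3248 := ded_24_2 L28792 L26727 (flp_c L26059) L28192 L29832
theorem L29843 : sm gh N3191 = N3351 := rfl
theorem L29845 : sm ga N3351 = N3275 := ded_15_1 (flp_h L28973) (flp_a L28211) L29843
theorem L29847 : sm gb N3351 = N3196 := ded_22_1 (flp_h L28257) (flp_b L28213) L29843
theorem L29849 : sm gf N3351 = N3233 := ded_40_1 (flp_h L28620) (flp_f L28217) L29843
theorem L29851 : sm gg N3351 = N3217 := ded_42_1 (flp_h L28486) (flp_g L28219) L29843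
theorem L29853 : sm gd N3351 = N3253 := ded_33_1 (flp_h L28827) L26767 (flp_h L26107) (flp_d L28215) L29843
theorem L29855 : sm gi N3351 = N3194 := ded_44_2 (flp_h L28240) (flp_i L26139) (flp_h L26092) L28209 L29843
theorem L29857 : sm gh N3192 = N3352 := rfl
theorem L29859 : sm gb N3352 = N3199 := ded_22_1 (flp_h L28299) (flp_b L28223) L29857
theorem L29861 : sm gf N3352 = N3271 := ded_40_1 (flp_h L28946) (flp_f L28227) L29857
theorem L29863 : sm gg N3352 = N3194 := ded_42_1 (flp_h L28240) (flp_g L28229) L29857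
theorem L29865 : sm gd N3352 = N3268 := ded_33_1 (flp_h L28927) L26947 (flp_h L26130) (flp_d L28225) L29857
theorem L29867 : sm gi N3352 = N3217 := ded_44_2 (flp_h L28486) (flp_i L26344) (flp_h L26117) L28221 L29857
theorem L29869 : sm gh N3193 = N3353 := rfl
theorem L29871 : sm gc N3353 = N3194 := ded_28_1 (flp_h L28240) (flp_c L28233) L29869
theorem L29873 : sm ge N3353 = N3275 := ded_37_1 (flp_h L28973) (flp_e L28236) L29869
theorem L29875 : sm gf N3353 = N3267 := ded_40_1 (flp_h L28921) (flp_f L28238) L29869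
theorem L29877 : sm gh N3195 = N3354 := rfl
theorem L29879 : sm ga N3354 = N3208 := ded_15_1 (flp_h L28393) (flp_a L28248) L29877
theorem L29881 : sm gc N3354 = N3213 := ded_28_1 (flp_h L28448) (flp_c L28250) L29877
theorem L29883 : sm ge N3354 = N3196 := ded_37_1 (flp_h L28257) (flp_e L28253) L29877
theorem L29885 : sm gg N3354 = N3220 := ded_42_1 (flp_h L28516) (flp_g L28255) L29877
theorem L29887 : sm gi N3354 = N3202 := ded_44_2 (flp_h L28338) (flp_i L26217) (flp_h L26155) L28246 L29877
theorem L29889 : sm gi N3197 = N3355 := rfl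
theorem L29891 : sm ga N3355 = N3212 := ded_16_1 (flp_i L28440) (flp_a L28273) L29889
theorem L29893 : sm gb N3355 = N3255 := ded_23_1 (flp_i L28839) (flp_b L28275) L29889
theorem L29895 : sm gc N3355 = N3207 := ded_29_1 (flp_i L28386) (flp_c L28277) L29889
theorem L29897 : sm gd N3355 = N3203 := ded_34_1 (flp_i L28344) (flp_d L28279) L29889
theorem L29899 : sm ge N3355 = N3272 := ded_38_1 (flp_i L28952) (flp_e L28283) L29889
theorem L29901 : sm gf N3355 = N3198 := ded_41_1 (flp_i L28287) L28271 L29889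
theorem L29903 : sm gg N3355 = N3277 := ded_43_1 (flp_i L28983) (flp_g L28285) L29889
theorem L29905 : sm gh N3198 = N3356 := rfl
theorem L29907 : sm ga N3356 = N3213 := ded_15_1 (flp_h L28448) (flp_a L28289) L29905
theorem L29909 : sm gc N3356 = N3208 := ded_28_1 (flp_h L28393) (flp_c L28291) L29905
theorem L29911 : sm ge N3356 = N3199 := ded_37_1 (flp_h L28299) (flp_e L28295) L29905
theorem L29913 : sm gg N3356 = N3202 := ded_42_1 (flp_h L28338) (flp_g L28297) L29905
theorem L29915 : sm gi N3356 = N3220 := ded_44_2 (flp_h L28516) (flp_i L26359) (flp_h L26178) L28287 L29905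
theorem L29917 : sm gh N3200 = N3357 := rfl
theorem L29919 : sm ga N3357 = N3220 := ded_15_1 (flp_h L28516) (flp_a L28315) L29917
theorem L29921 : sm gc N3357 = N3202 := ded_28_1 (flp_h L28338) (flp_c L28317) L29917
theorem L29923 : sm ge N3357 = N3201 := ded_37_1 (flp_h L28324) (flp_e L28320) L29917
theorem L29925 : sm gg N3357 = N3208 := ded_42_1 (flp_h L28393) (flp_g L28322) L29917
theorem L29927 : sm gi N3357 = N3213 := ded_44_2 (flp_h L28448) (flp_i L26317) (flp_h L26202) L28313 L29917
theorem L29929 : sm gd N3202 = N3358 := rfl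
theorem L29931 : sm ga N3358 = N3223 := ded_11_1 (flp_d L28538) (flp_a L28340) L29929
theorem L29933 : sm gh N3358 = N3205 := ded_33_2 (flp_d L28366) (flp_h L26262) (flp_d L26221) L28338 L29929
theorem L29935 : sm gh N3203 = N3359 := rfl
theorem L29937 : sm ga N3359 = N3225 := ded_15_1 (flp_h L28554) (flp_a L28346) L29935
theorem L29939 : sm gb N3359 = N3264 := ded_22_1 (flp_h L28902) (flp_b L28348) L29935
theorem L29941 : sm gc N3359 = N3359 := ded_28_1 (flp_h L29935) L28350 L29935
theorem L29942 : sm ge N3359 = N3359 := ded_37_1 (flp_h L29935) L28351 L29935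
theorem L29943 : sm gf N3359 = N3204 := ded_40_1 (flp_h L28356) (flp_f L28352) L29935
theorem L29945 : sm gg N3359 = N3281 := ded_42_1 (flp_h L29007) (flp_g L28354) L29935
theorem L29947 : sm gi N3359 = N3359 := ded_44_2 (flp_h L29935) (flp_i L28344) L26238 L28344 L29935
theorem L29948 : sm gd N3204 = N3360 := rfl
theorem L29950 : sm ga N3360 = N3226 := ded_11_1 (flp_d L28563) (flp_a L28358) L29948
theorem L29952 : sm gg N3360 = N3205 := ded_32_2 (flp_d L28366) (flp_g L28363) L29948
theorem L29954 : sm gi N3360 = N3360 := ded_34_2 (flp_d L29948) L28365 L29948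
theorem L29955 : sm ge N3360 = N3237 := ded_30_2 (flp_d L28665) L26572 (flp_d L26259) (flp_e L28361) L29948
theorem L29957 : sm gc N3266 = N3360 := ded_25_3 L29955 L28670 L28917
theorem L29959 : sm gc N3205 = N3361 := rfl
theorem L29961 : sm ga N3361 = N3229 := ded_10_1 (flp_c L28585) (flp_a L28368) L29959
theorem L29963 : sm ge N3361 = N3263 := ded_25_2 (flp_c L29791) L29793 L29959
theorem L29965 : sm gg N3361 = N3266 := ded_27_2 L29957 L29952 L29959
theorem L29967 : sm gi N3361 = N3361 := ded_29_2 (flp_c L29959) L28370 L29959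
theorem L29968 : sm gd N3361 = N3361 := ded_24_2 (flp_c L29959) (flp_d L28366) L26266 L28366 L29959
theorem L29969 : sm gi N3206 = N3362 := rfl
theorem L29971 : sm ga N3362 = N3270 := ded_16_1 (flp_i L28939) (flp_a L28373) L29969
theorem L29973 : sm gb N3362 = N3258 := ded_23_1 (flp_i L28864) (flp_b L28375) L29969
theorem L29975 : sm gc N3362 = N3277 := ded_29_1 (flp_i L28983) (flp_c L28377) L29969
theorem L29977 : sm gd N3362 = N3362 := ded_34_1 (flp_i L29969) L28379 L29969
theorem L29978 : sm ge N3362 = N3269 := ded_38_1 (flp_i L28931) (flp_e L28380) L29969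
theorem L29980 : sm gf N3362 = N3256 := ded_41_1 (flp_i L28849) (flp_f L28384) L29969
theorem L29982 : sm gg N3362 = N3207 := ded_43_1 (flp_i L28386) L28371 L29969
theorem L29984 : sm gh N3207 = N3363 := rfl
theorem L29986 : sm ge N3363 = N3274 := ded_37_1 (flp_h L28967) (flp_e L28389) L29984
theorem L29988 : sm gf N3363 = N3208 := ded_40_1 (flp_h L28393) (flp_f L28391) L29984
theorem L29990 : sm gi N3363 = N3222 := ded_44_2 (flp_h L28532) (flp_i L26380) (flp_h L26273) L28386 L29984
theorem L29992 : sm gd N3208 = N3364 := rfl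
theorem L29994 : sm gi N3364 = N3223 := ded_34_2 (flp_d L28538) (flp_i L28397) L29992
theorem L29996 : sm gh N3364 = N3364 := ded_33_2 (flp_d L29992) (flp_h L28393) L26279 L28393 L29992
theorem L29997 : sm gh N3209 = N3365 := rfl
theorem L29999 : sm ga N3365 = N3273 := ded_15_1 (flp_h L28959) (flp_a L28401) L29997
theorem L30001 : sm gc N3365 = N3232 := ded_28_1 (flp_h L28606) (flp_c L28403) L29997
theorem L30003 : sm ge N3365 = N3210 := ded_37_1 (flp_h L28410) (flp_e L28406) L29997
theorem L30005 : sm gg N3365 = N3267 := ded_42_1 (flp_h L28921) (flp_g L28408) L29997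
theorem L30007 : sm gi N3365 = N3235 := ded_44_2 (flp_h L28646) (flp_i L26523) (flp_h L26296) L28399 L29997
theorem L30009 : sm gi N3211 = N3366 := rfl
theorem L30011 : sm ga N3366 = N3277 := ded_16_1 (flp_i L28983) (flp_a L28426) L30009
theorem L30013 : sm gb N3366 = N3243 := ded_23_1 (flp_i L28731) (flp_b L28428) L30009
theorem L30015 : sm gc N3366 = N3270 := ded_29_1 (flp_i L28939) (flp_c L28430) L30009
theorem L30017 : sm gd N3366 = N3224 := ded_34_1 (flp_i L28542) (flp_d L28432) L30009
theorem L30019 : sm ge N3366 = N3250 := ded_38_1 (flp_i L28805) (flp_e L28434) L30009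
theorem L30021 : sm gf N3366 = N3221 := ded_41_1 (flp_i L28522) (flp_f L28438) L30009
theorem L30023 : sm gg N3366 = N3212 := ded_43_1 (flp_i L28440) L28424 L30009
theorem L30025 : sm gh N3212 = N3367 := rfl
theorem L30027 : sm gb N3367 = N3246 := ded_22_1 (flp_h L28768) (flp_b L28442) L30025
theorem L30029 : sm gf N3367 = N3213 := ded_40_1 (flp_h L28448) (flp_f L28446) L30025
theorem L30031 : sm gd N3213 = N3368 := rfl
theorem L30033 : sm gg N3368 = N3223 := ded_32_2 (flp_d L28538) (flp_g L28452) L30031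
theorem L30035 : sm ge N3368 = N3280 := ded_30_2 (flp_d L29003) L27058 (flp_d L26329) (flp_e L28450) L30031
theorem L30037 : sm gh N3368 = N3226 := ded_33_2 (flp_d L28563) (flp_h L26411) (flp_d L26319) L28448 L30031
theorem L30039 : sm gh N3214 = N3369 := rfl
theorem L30041 : sm ga N3369 = N3217 := ded_15_1 (flp_h L28486) (flp_a L28456) L30039
theorem L30043 : sm gf N3369 = N3276 := ded_40_1 (flp_h L28977) (flp_f L28460) L30039
theorem L30045 : sm gg N3369 = N3275 := ded_42_1 (flp_h L28973) (flp_g L28462) L30039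
theorem L30047 : sm gi N3215 = N3370 := rfl
theorem L30049 : sm ga N3370 = N3250 := ded_16_1 (flp_i L28805) (flp_a L28466) L30047
theorem L30051 : sm gb N3370 = N3219 := ded_23_1 (flp_i L28507) (flp_b L28468) L30047
theorem L30053 : sm gc N3370 = N3269 := ded_29_1 (flp_i L28931) (flp_c L28470) L30047
theorem L30055 : sm gd N3370 = N3370 := ded_34_1 (flp_i L30047) L28472 L30047
theorem L30056 : sm ge N3370 = N3277 := ded_38_1 (flp_i L28983) (flp_e L28475) L30047
theorem L30058 : sm gf N3370 = N3216 := ded_41_1 (flp_i L28479) L28464 L30047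
theorem L30060 : sm gg N3370 = N3272 := ded_43_1 (flp_i L28952) (flp_g L28477) L30047
theorem L30062 : sm gh N3216 = N3371 := rfl
theorem L30064 : sm gb N3371 = N3220 := ded_22_1 (flp_h L28516) (flp_b L28481) L30062
theorem L30066 : sm ge N3371 = N3217 := ded_37_1 (flp_h L28486) (flp_e L28484) L30062
theorem L30068 : sm gi N3218 = N3372 := rfl
theorem L30070 : sm ga N3372 = N3256 := ded_16_1 (flp_i L28849) (flp_a L28494) L30068
theorem L30072 : sm gb N3372 = N3272 := ded_23_1 (flp_i L28952) (flp_b L28496) L30068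
theorem L30074 : sm gc N3372 = N3221 := ded_29_1 (flp_i L28522) (flp_c L28498) L30068
theorem L30076 : sm gd N3372 = N3372 := ded_34_1 (flp_i L30068) L28500 L30068
theorem L30077 : sm ge N3372 = N3255 := ded_38_1 (flp_i L28839) (flp_e L28501) L30068
theorem L30079 : sm gf N3372 = N3270 := ded_41_1 (flp_i L28939) (flp_f L28505) L30068
theorem L30081 : sm gg N3372 = N3219 := ded_43_1 (flp_i L28507) L28492 L30068
theorem L30083 : sm gh N3219 = N3373 := rfl
theorem L30085 : sm gc N3373 = N3222 := ded_28_1 (flp_h L28532) (flp_c L28509) L30083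
theorem L30087 : sm ge N3373 = N3279 := ded_37_1 (flp_h L28997) (flp_e L28512) L30083
theorem L30089 : sm gf N3373 = N3220 := ded_40_1 (flp_h L28516) (flp_f L28514) L30083
theorem L30091 : sm gd N3220 = N3374 := rfl
theorem L30093 : sm gh N3374 = N3374 := ded_33_2 (flp_d L30091) (flp_h L28516) L26363 L28516 L30091
theorem L30094 : sm gh N3221 = N3375 := rfl
theorem L30096 : sm ga N3375 = N3278 := ded_15_1 (flp_h L28991) (flp_a L28524) L30094
theorem L30098 : sm ge N3375 = N3276 := ded_37_1 (flp_h L28977) (flp_e L28528) L30094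
theorem L30100 : sm gg N3375 = N3222 := ded_42_1 (flp_h L28532) (flp_g L28530) L30094
theorem L30102 : sm gd N3222 = N3376 := rfl
theorem L30104 : sm gf N3376 = N3223 := ded_31_2 (flp_d L28538) (flp_f L28536) L30102
theorem L30106 : sm gh N3376 = N3228 := ded_33_2 (flp_d L28580) (flp_h L26428) (flp_d L26382) L28532 L30102
theorem L30108 : sm gc N3223 = N3377 := rfl
theorem L30110 : sm gh N3377 = N3229 := ded_28_2 (flp_c L28585) (flp_h L28540) L30108
theorem L30112 : sm gh N3224 = N3378 := rfl
theorem L30114 : sm ga N3378 = N3281 := ded_15_1 (flp_h L29007) (flp_a L28544) L30112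
theorem L30116 : sm gb N3378 = N3248 := ded_22_1 (flp_h L28788) (flp_b L28546) L30112
theorem L30118 : sm gc N3378 = N3378 := ded_28_1 (flp_h L30112) L28548 L30112
theorem L30119 : sm ge N3378 = N3378 := ded_37_1 (flp_h L30112) L28549 L30112
theorem L30120 : sm gf N3378 = N3227 := ded_40_1 (flp_h L28570) (flp_f L28550) L30112
theorem L30122 : sm gg N3378 = N3225 := ded_42_1 (flp_h L28554) (flp_g L28552) L30112
theorem L30124 : sm gi N3378 = N3378 := ded_44_2 (flp_h L30112) (flp_i L28542) L26400 L28542 L30112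
theorem L30125 : sm gd N3225 = N3379 := rfl
theorem L30127 : sm gb N3379 = N3249 := ded_18_1 (flp_d L28798) (flp_b L28556) L30125
theorem L30129 : sm gf N3379 = N3226 := ded_31_2 (flp_d L28563) (flp_f L28560) L30125
theorem L30131 : sm gi N3379 = N3379 := ded_34_2 (flp_d L30125) L28562 L30125
theorem L30132 : sm gc N3226 = N3380 := rfl
theorem L30134 : sm ga N3380 = N3266 := ded_10_1 L29957 L29950 L30132
theorem L30136 : sm ge N3380 = N3249 := ded_25_2 L28803 (flp_e L28568) L30132
theorem L30138 : sm gg N3380 = N3229 := ded_27_2 (flp_c L28585) (flp_g L28565) L30132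
theorem L30140 : sm gi N3380 = N3380 := ded_29_2 (flp_c L30132) L28567 L30132
theorem L30141 : sm gd N3380 = N3380 := ded_24_2 (flp_c L30132) (flp_d L28563) L26413 L28563 L30132
theorem L30142 : sm gc N3228 = N3381 := rfl
theorem L30144 : sm ge N3381 = N3265 := ded_25_2 (flp_c L29525) L29527 L30142
theorem L30146 : sm gf N3381 = N3229 := ded_26_2 (flp_c L28585) (flp_f L28582) L30142
theorem L30148 : sm gi N3381 = N3381 := ded_29_2 (flp_c L30142) L28584 L30142
theorem L30149 : sm gd N3381 = N3381 := ded_24_2 (flp_c L30142) (flp_d L28580) L26430 L28580 L30142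
theorem L30150 : sm gb N3266 = N3381 := ded_19_3 L30144 L28914 L28917
theorem L30152 : sm gb N3229 = N3382 := rfl
theorem L30154 : sm gd N3382 = N3382 := ded_18_2 (flp_b L30152) L28588 L30152
theorem L30155 : sm gf N3382 = N3266 := ded_20_2 L30150 L30146 L30152
theorem L30157 : sm gi N3382 = N3382 := ded_23_2 (flp_b L30152) L28587 L30152
theorem L30158 : sm gd N3230 = N3383 := rfl
theorem L30160 : sm gb N3383 = N3231 := ded_18_1 (flp_d L28599) (flp_b L28591) L30158
theorem L30162 : sm gf N3383 = N3383 := ded_31_2 (flp_d L30158) L28597 L30158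
theorem L30163 : sm gi N3383 = N3383 := ded_34_2 (flp_d L30158) L28598 L30158
theorem L30164 : sm gh N3383 = N3383 := ded_33_2 (flp_d L30158) (flp_h L28589) L26476 L28589 L30158
theorem L30165 : sm gh N3234 = N3384 := rfl
theorem L30167 : sm gb N3384 = N3235 := ded_22_1 (flp_h L28646) (flp_b L28636) L30165
theorem L30169 : sm gc N3384 = N3253 := ded_28_1 (flp_h L28827) (flp_c L28638) L30165
theorem L30171 : sm ge N3384 = N3268 := ded_37_1 (flp_h L28927) (flp_e L28642) L30165
theorem L30173 : sm gf N3384 = N3254 := ded_40_1 (flp_h L28833) (flp_f L28644) L30165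
theorem L30175 : sm gd N3235 = N3385 := rfl
theorem L30177 : sm ga N3385 = N3280 := ded_11_1 (flp_d L29003) (flp_a L28648) L30175
theorem L30179 : sm gc N3385 = N3260 := ded_24_1 (flp_d L28877) L26822 (flp_d L26541) (flp_c L28650) L30175
theorem L30181 : sm gh N3385 = N3237 := ded_33_2 (flp_d L28665) (flp_h L26566) (flp_d L26529) L28646 L30175
theorem L30183 : sm gd N3236 = N3386 := rfl
theorem L30185 : sm gb N3386 = N3237 := ded_18_1 (flp_d L28665) (flp_b L28656) L30183
theorem L30187 : sm gf N3386 = N3263 := ded_31_2 (flp_d L28897) (flp_f L28662) L30183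
theorem L30189 : sm gi N3386 = N3386 := ded_34_2 (flp_d L30183) L28664 L30183
theorem L30190 : sm gh N3240 = N3387 := rfl
theorem L30192 : sm ga N3387 = N3251 := ded_15_1 (flp_h L28812) (flp_a L28698) L30190
theorem L30194 : sm gc N3387 = N3241 := ded_28_1 (flp_h L28707) (flp_c L28700) L30190
theorem L30196 : sm ge N3387 = N3254 := ded_37_1 (flp_h L28833) (flp_e L28703) L30190
theorem L30198 : sm gg N3387 = N3259 := ded_42_1 (flp_h L28871) (flp_g L28705) L30190
theorem L30200 : sm gi N3387 = N3246 := ded_44_2 (flp_h L28768) (flp_i L26684) (flp_h L26611) L28696 L30190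
theorem L30202 : sm gh N3242 = N3388 := rfl
theorem L30204 : sm ga N3388 = N3253 := ded_15_1 (flp_h L28827) (flp_a L28723) L30202
theorem L30206 : sm gb N3388 = N3274 := ded_22_1 (flp_h L28967) (flp_b L28725) L30202
theorem L30208 : sm gf N3388 = N3244 := ded_40_1 (flp_h L28743) (flp_f L28729) L30202
theorem L30210 : sm gd N3388 = N3275 := ded_33_1 (flp_h L28973) L27010 (flp_h L26647) (flp_d L28727) L30202
theorem L30212 : sm gi N3388 = N3262 := ded_44_2 (flp_h L28891) (flp_i L26832) (flp_h L26634) L28721 L30202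
theorem L30214 : sm gh N3243 = N3389 := rfl
theorem L30216 : sm ga N3389 = N3254 := ded_15_1 (flp_h L28833) (flp_a L28733) L30214
theorem L30218 : sm gc N3389 = N3244 := ded_28_1 (flp_h L28743) (flp_c L28735) L30214
theorem L30220 : sm ge N3389 = N3251 := ded_37_1 (flp_h L28812) (flp_e L28739) L30214
theorem L30222 : sm gg N3389 = N3246 := ded_42_1 (flp_h L28768) (flp_g L28741) L30214
theorem L30224 : sm gi N3389 = N3259 := ded_44_2 (flp_h L28871) (flp_i L26813) (flp_h L26657) L28731 L30214
theorem L30226 : sm gh N3245 = N3390 := rfl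
theorem L30228 : sm ga N3390 = N3259 := ded_15_1 (flp_h L28871) (flp_a L28759) L30226
theorem L30230 : sm gc N3390 = N3247 := ded_28_1 (flp_h L28774) (flp_c L28761) L30226
theorem L30232 : sm ge N3390 = N3246 := ded_37_1 (flp_h L28768) (flp_e L28764) L30226
theorem L30234 : sm gg N3390 = N3251 := ded_42_1 (flp_h L28812) (flp_g L28766) L30226
theorem L30236 : sm gi N3390 = N3254 := ded_44_2 (flp_h L28833) (flp_i L26771) (flp_h L26681) L28757 L30226
theorem L30238 : sm gd N3246 = N3391 := rfl
theorem L30240 : sm ga N3391 = N3260 := ded_11_1 (flp_d L28877) (flp_a L28770) L30238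
theorem L30242 : sm gc N3391 = N3280 := ded_24_1 (flp_d L29003) L27056 (flp_d L26708) (flp_c L28772) L30238
theorem L30244 : sm gh N3391 = N3249 := ded_33_2 (flp_d L28798) (flp_h L26730) (flp_d L26690) L28768 L30238
theorem L30246 : sm gh N3250 = N3392 := rfl
theorem L30248 : sm gb N3392 = N3251 := ded_22_1 (flp_h L28812) (flp_b L28807) L30246
theorem L30250 : sm gc N3392 = N3271 := ded_28_1 (flp_h L28946) (flp_c L28809) L30246
theorem L30252 : sm gi N3392 = N3257 := ded_44_2 (flp_h L28858) (flp_i L26800) (flp_h L26741) L28805 L30246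
theorem L30254 : sm gd N3251 = N3393 := rfl
theorem L30256 : sm gi N3393 = N3260 := ded_34_2 (flp_d L28877) (flp_i L28816) L30254
theorem L30258 : sm gh N3393 = N3393 := ded_33_2 (flp_d L30254) (flp_h L28812) L26749 L28812 L30254
theorem L30259 : sm gh N3252 = N3394 := rfl
theorem L30261 : sm gb N3394 = N3267 := ded_22_1 (flp_h L28921) (flp_b L28820) L30259
theorem L30263 : sm gc N3394 = N3268 := ded_28_1 (flp_h L28927) (flp_c L28822) L30259
theorem L30265 : sm ge N3394 = N3253 := ded_37_1 (flp_h L28827) (flp_e L28825) L30259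
theorem L30267 : sm gd N3254 = N3395 := rfl
theorem L30269 : sm gg N3395 = N3260 := ded_32_2 (flp_d L28877) (flp_g L28837) L30267
theorem L30271 : sm gh N3395 = N3263 := ded_33_2 (flp_d L28897) (flp_h L26857) (flp_d L26775) L28833 L30267
theorem L30273 : sm gh N3255 = N3396 := rfl
theorem L30275 : sm ga N3396 = N3257 := ded_15_1 (flp_h L28858) (flp_a L28841) L30273
theorem L30277 : sm gc N3396 = N3276 := ded_28_1 (flp_h L28977) (flp_c L28843) L30273
theorem L30279 : sm gg N3396 = N3279 := ded_42_1 (flp_h L28997) (flp_g L28847) L30273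
theorem L30281 : sm gh N3256 = N3397 := rfl
theorem L30283 : sm gb N3397 = N3259 := ded_22_1 (flp_h L28871) (flp_b L28851) L30281
theorem L30285 : sm gc N3397 = N3278 := ded_28_1 (flp_h L28991) (flp_c L28853) L30281
theorem L30287 : sm ge N3397 = N3257 := ded_37_1 (flp_h L28858) (flp_e L28856) L30281
theorem L30289 : sm gd N3257 = N3398 := rfl
theorem L30291 : sm gb N3398 = N3260 := ded_18_1 (flp_d L28877) (flp_b L28860) L30289
theorem L30293 : sm gh N3398 = N3265 := ded_33_2 (flp_d L28912) (flp_h L26874) (flp_d L26806) L28858 L30289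
theorem L30295 : sm gh N3258 = N3399 := rfl
theorem L30297 : sm gc N3399 = N3262 := ded_28_1 (flp_h L28891) (flp_c L28866) L30295
theorem L30299 : sm gf N3399 = N3259 := ded_40_1 (flp_h L28871) (flp_f L28869) L30295
theorem L30301 : sm gd N3259 = N3400 := rfl
theorem L30303 : sm gh N3400 = N3400 := ded_33_2 (flp_d L30301) (flp_h L28871) L26817 L28871 L30301
theorem L30304 : sm ge N3260 = N3401 := rfl
theorem L30306 : sm gh N3401 = N3266 := ded_37_2 (flp_e L28917) (flp_h L28879) L30304
theorem L30308 : sm gh N3261 = N3402 := rfl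
theorem L30310 : sm ga N3402 = N3268 := ded_15_1 (flp_h L28927) (flp_a L28883) L30308
theorem L30312 : sm gb N3402 = N3276 := ded_22_1 (flp_h L28977) (flp_b L28885) L30308
theorem L30314 : sm gg N3402 = N3262 := ded_42_1 (flp_h L28891) (flp_g L28889) L30308
theorem L30316 : sm gd N3267 = N3403 := rfl
theorem L30318 : sm gh N3403 = N3403 := ded_33_2 (flp_d L30316) (flp_h L28921) L26928 L28921 L30316
theorem L30319 : sm gh N3269 = N3404 := rfl
theorem L30321 : sm ga N3404 = N3271 := ded_15_1 (flp_h L28946) (flp_a L28933) L30319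
theorem L30323 : sm gg N3404 = N3274 := ded_42_1 (flp_h L28967) (flp_g L28937) L30319
theorem L30325 : sm gi N3404 = N3276 := ded_44_2 (flp_h L28977) (flp_i L27020) (flp_h L26961) L28931 L30319
theorem L30327 : sm gh N3270 = N3405 := rfl
theorem L30329 : sm gb N3405 = N3273 := ded_22_1 (flp_h L28959) (flp_b L28941) L30327
theorem L30331 : sm ge N3405 = N3271 := ded_37_1 (flp_h L28946) (flp_e L28944) L30327
theorem L30333 : sm gi N3405 = N3278 := ded_44_2 (flp_h L28991) (flp_i L27034) (flp_h L26967) L28939 L30327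
theorem L30335 : sm gh N3272 = N3406 := rfl
theorem L30337 : sm gc N3406 = N3274 := ded_28_1 (flp_h L28967) (flp_c L28954) L30335
theorem L30339 : sm gf N3406 = N3273 := ded_40_1 (flp_h L28959) (flp_f L28957) L30335
theorem L30341 : sm gi N3406 = N3279 := ded_44_2 (flp_h L28997) (flp_i L27046) (flp_h L26981) L28952 L30335
theorem L30343 : sm gd N3273 = N3407 := rfl
theorem L30345 : sm gi N3407 = N3280 := ded_34_2 (flp_d L29003) (flp_i L28965) L30343
theorem L30347 : sm gh N3407 = N3407 := ded_33_2 (flp_d L30343) (flp_h L28959) L26987 L28959 L30343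
theorem L30348 : sm gh N3277 = N3408 := rfl
theorem L30350 : sm gb N3408 = N3279 := ded_22_1 (flp_h L28997) (flp_b L28985) L30348
theorem L30352 : sm gf N3408 = N3278 := ded_40_1 (flp_h L28991) (flp_f L28989) L30348
theorem L30354 : sm gd N3278 = N3409 := rfl
theorem L30356 : sm gb N3409 = N3280 := ded_18_1 (flp_d L29003) (flp_b L28993) L30354
theorem L30358 : sm gh N3409 = N3282 := ded_33_2 (flp_d L29016) (flp_h L27092) (flp_d L27038) L28991 L30354
theorem L30360 : sm gd N3279 = N3410 := rfl
theorem L30362 : sm gf N3410 = N3280 := ded_31_2 (flp_d L29003) (flp_f L29001) L30360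
theorem L30364 : sm gh N3410 = N3283 := ded_33_2 (flp_d L29021) (flp_h L27100) (flp_d L27050) L28997 L30360
theorem L30366 : sm gd N3281 = N3411 := rfl
theorem L30368 : sm gb N3411 = N3283 := ded_18_1 (flp_d L29021) (flp_b L29009) L30366
theorem L30370 : sm gf N3411 = N3282 := ded_31_2 (flp_d L29016) (flp_f L29013) L30366
theorem L30372 : sm gi N3411 = N3411 := ded_34_2 (flp_d L30366) L29015 L30366
theorem L30373 : sm gc N3282 = N3412 := rfl
theorem L30375 : sm ge N3412 = N3283 := ded_25_2 (flp_c L29540) L29542 L30373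
theorem L30377 : sm gi N3412 = N3412 := ded_29_2 (flp_c L30373) L29020 L30373
theorem L30378 : sm gd N3412 = N3412 := ded_24_2 (flp_c L30373) (flp_d L29016) L27096 L29016 L30373
theorem L30379 : sm gd N3284 = N3413 := rfl
theorem L30381 : sm ga N3413 = N3413 := ded_11_1 (flp_d L30379) L29028 L30379
theorem L30382 : sm gb N3413 = N3291 := ded_18_1 L29121 (flp_b L29029) L30379
theorem L30384 : sm gf N3413 = N3294 := ded_31_2 (flp_d L29154) (flp_f L29035) L30379
theorem L30386 : sm gg N3413 = N3413 := ded_32_2 (flp_d L30379) L29037 L30379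
theorem L30387 : sm gi N3413 = N3413 := ded_34_2 (flp_d L30379) L29038 L30379
theorem L30388 : sm gc N3413 = N3413 := ded_24_1 (flp_d L30379) L29031 L27145 (flp_c L29031) L30379
theorem L30389 : sm ge N3413 = N3413 := ded_30_2 (flp_d L30379) L29033 L28068 (flp_e L29033) L30379
theorem L30390 : sm gh N3413 = N3413 := ded_33_2 (flp_d L30379) (flp_h L29026) L27118 L29026 L30379
theorem L30391 : sm gd N3285 = N3414 := rfl
theorem L30393 : sm ga N3414 = N3414 := ded_11_1 (flp_d L30391) L29041 L30391
theorem L30394 : sm gb N3414 = N3287 := ded_18_1 (flp_d L29067) (flp_b L29042) L30391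
theorem L30396 : sm gf N3414 = N3297 := ded_31_2 L29192 (flp_f L29048) L30391
theorem L30398 : sm gg N3414 = N3414 := ded_32_2 (flp_d L30391) L29050 L30391
theorem L30399 : sm gi N3414 = N3414 := ded_34_2 (flp_d L30391) L29051 L30391
theorem L30400 : sm gc N3414 = N3414 := ded_24_1 (flp_d L30391) L29044 L28068 (flp_c L29044) L30391
theorem L30401 : sm ge N3414 = N3414 := ded_30_2 (flp_d L30391) L29046 L27145 (flp_e L29046) L30391
theorem L30402 : sm gh N3414 = N3414 := ded_33_2 (flp_d L30391) (flp_h L29039) L27131 L29039 L30391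
theorem L30403 : sm gd N3286 = N3415 := rfl
theorem L30405 : sm ga N3415 = N3290 := ded_11_1 (flp_d L29106) (flp_a L29054) L30403
theorem L30407 : sm gb N3415 = N3297 := ded_18_1 L29192 (flp_b L29056) L30403
theorem L30409 : sm gf N3415 = N3287 := ded_31_2 (flp_d L29067) (flp_f L29062) L30403
theorem L30411 : sm gg N3415 = N3383 := ded_32_2 (flp_d L30158) (flp_g L29064) L30403
theorem L30413 : sm gi N3415 = N3415 := ded_34_2 (flp_d L30403) L29066 L30403
theorem L30414 : sm gc N3415 = N3342 := ded_24_1 (flp_d L29751) L28073 (flp_d L27773) (flp_c L29058) L30403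
theorem L30416 : sm ge N3415 = N3296 := ded_30_2 (flp_d L29177) L27330 (flp_d L27996) (flp_e L29060) L30403
theorem L30418 : sm gh N3415 = N3415 := ded_33_2 (flp_d L30403) (flp_h L29052) L27171 L29052 L30403
theorem L30419 : sm gd N3289 = N3416 := rfl
theorem L30421 : sm ga N3416 = N3383 := ded_11_1 (flp_d L30158) (flp_a L29095) L30419
theorem L30423 : sm gb N3416 = N3416 := ded_18_1 (flp_d L30419) L29097 L30419
theorem L30424 : sm gf N3416 = N3416 := ded_31_2 (flp_d L30419) L29102 L30419
theorem L30425 : sm gg N3416 = N3290 := ded_32_2 (flp_d L29106) (flp_g L29103) L30419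
theorem L30427 : sm gi N3416 = N3416 := ded_34_2 (flp_d L30419) L29105 L30419
theorem L30428 : sm gc N3416 = N3296 := ded_24_1 (flp_d L29177) (flp_c L29129) L29136 (flp_c L29098) L30419
theorem L30430 : sm ge N3416 = N3342 := ded_30_2 (flp_d L29751) L28075 (flp_d L28679) (flp_e L29100) L30419
theorem L30432 : sm gh N3416 = N3416 := ded_33_2 (flp_d L30419) (flp_h L29093) L27238 L29093 L30419
theorem L30433 : sm gc N3290 = N3417 := rfl
theorem L30435 : sm ga N3417 = N3342 := ded_10_1 (flp_c L30414) L30405 L30433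
theorem L30437 : sm gf N3417 = N3291 := ded_26_2 (flp_c L29113) (flp_f L29109) L30433
theorem L30439 : sm gg N3417 = N3296 := ded_27_2 (flp_c L30428) L30425 L30433
theorem L30441 : sm gh N3417 = N3417 := ded_28_2 (flp_c L30433) L29112 L30433
theorem L30442 : sm gi N3417 = N3417 := ded_29_2 (flp_c L30433) L29111 L30433
theorem L30443 : sm gd N3417 = N3293 := ded_24_2 L29145 L27560 (flp_c L27247) L29106 L30433
theorem L30445 : sm ge N3383 = N3417 := ded_12_0 L30435 (flp_e L30430) L30421
theorem L30447 : sm gb N3294 = N3417 := ded_20_3 L30437 (flp_b L30382) L30384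
theorem L30449 : sm ge N3290 = N3418 := rfl
theorem L30451 : sm ga N3418 = N3296 := ded_12_1 (flp_e L30416) L30405 L30449
theorem L30453 : sm gb N3418 = N3418 := ded_19_1 (flp_e L30449) L29108 L30449
theorem L30454 : sm gc N3418 = N3383 := ded_25_1 L30445 (flp_c L30433) L30449
theorem L30456 : sm gg N3418 = N3342 := ded_36_2 (flp_e L30430) L30425 L30449
theorem L30458 : sm gh N3418 = N3418 := ded_37_2 (flp_e L30449) L29112 L30449
theorem L30459 : sm gi N3418 = N3418 := ded_38_2 (flp_e L30449) L29111 L30449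
theorem L30460 : sm gd N3418 = N3295 := ded_30_1 L29171 (flp_d L29090) L29084 L29106 L30449
theorem L30462 : sm gf N3418 = N3418 := ded_35_2 (flp_e L30449) L29109 L27257 (flp_f L29109) L30449
theorem L30463 : sm gh N3298 = N3419 := rfl
theorem L30465 : sm ga N3419 = N3406 := ded_15_1 (flp_h L30335) (flp_a L29196) L30463
theorem L30467 : sm gb N3419 = N3390 := ded_22_1 (flp_h L30226) (flp_b L29198) L30463
theorem L30469 : sm gc N3419 = N3300 := ded_28_1 (flp_h L29224) (flp_c L29200) L30463
theorem L30471 : sm ge N3419 = N3367 := ded_37_1 (flp_h L30025) (flp_e L29203) L30463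
theorem L30473 : sm gf N3419 = N3365 := ded_40_1 (flp_h L29997) (flp_f L29205) L30463
theorem L30475 : sm gg N3419 = N3392 := ded_42_1 (flp_h L30246) (flp_g L29207) L30463
theorem L30477 : sm gi N3419 = N3302 := ded_44_2 (flp_h L29253) (flp_i L27398) (flp_h L27349) L29194 L30463
theorem L30479 : sm gh N3299 = N3420 := rfl
theorem L30481 : sm ga N3420 = N3363 := ded_15_1 (flp_h L29984) (flp_a L29211) L30479
theorem L30483 : sm gb N3420 = N3346 := ded_22_1 (flp_h L29795) (flp_b L29213) L30479
theorem L30485 : sm gc N3420 = N3367 := ded_28_1 (flp_h L30025) (flp_c L29215) L30479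
theorem L30487 : sm ge N3420 = N3300 := ded_37_1 (flp_h L29224) (flp_e L29218) L30479
theorem L30489 : sm gf N3420 = N3354 := ded_40_1 (flp_h L29877) (flp_f L29220) L30479
theorem L30491 : sm gg N3420 = N3405 := ded_42_1 (flp_h L30327) (flp_g L29222) L30479
theorem L30493 : sm gi N3420 = N3303 := ded_44_2 (flp_h L29265) (flp_i L27412) (flp_h L27366) L29209 L30479
theorem L30495 : sm gh N3301 = N3421 := rfl
theorem L30497 : sm ga N3421 = N3373 := ded_15_1 (flp_h L30083) (flp_a L29240) L30495
theorem L30499 : sm gb N3421 = N3387 := ded_22_1 (flp_h L30190) (flp_b L29242) L30495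
theorem L30501 : sm gc N3421 = N3303 := ded_28_1 (flp_h L29265) (flp_c L29244) L30495
theorem L30503 : sm ge N3421 = N3302 := ded_37_1 (flp_h L29253) (flp_e L29247) L30495
theorem L30505 : sm gf N3421 = N3357 := ded_40_1 (flp_h L29917) (flp_f L29249) L30495
theorem L30507 : sm gg N3421 = N3397 := ded_42_1 (flp_h L30281) (flp_g L29251) L30495
theorem L30509 : sm gi N3421 = N3367 := ded_44_2 (flp_h L30025) (flp_i L28440) (flp_h L27393) L29238 L30495
theorem L30511 : sm gd N3302 = N3422 := rfl
theorem L30513 : sm ga N3422 = N3410 := ded_11_1 (flp_d L30360) (flp_a L29255) L30511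
theorem L30515 : sm gb N3422 = N3395 := ded_18_1 (flp_d L30267) (flp_b L29257) L30511
theorem L30517 : sm gf N3422 = N3385 := ded_31_2 (flp_d L30175) (flp_f L29261) L30511
theorem L30519 : sm gg N3422 = N3398 := ded_32_2 (flp_d L30289) (flp_g L29263) L30511
theorem L30521 : sm gc N3422 = N3332 := ded_24_1 (flp_d L29653) L27914 (flp_d L27436) (flp_c L29259) L30511
theorem L30523 : sm gh N3422 = N3305 := ded_33_2 (flp_d L29290) (flp_h L27452) (flp_d L27406) L29253 L30511
theorem L30525 : sm gd N3303 = N3423 := rfl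
theorem L30527 : sm ga N3423 = N3376 := ded_11_1 (flp_d L30102) (flp_a L29267) L30525
theorem L30529 : sm gb N3423 = N3348 := ded_18_1 (flp_d L29817) (flp_b L29269) L30525
theorem L30531 : sm gf N3423 = N3358 := ded_31_2 (flp_d L29929) (flp_f L29273) L30525
theorem L30533 : sm gg N3423 = N3409 := ded_32_2 (flp_d L30354) (flp_g L29275) L30525
theorem L30535 : sm ge N3423 = N3335 := ded_30_2 (flp_d L29683) L27948 (flp_d L27436) (flp_e L29271) L30525
theorem L30537 : sm gh N3423 = N3304 := ded_33_2 (flp_d L29277) (flp_h L27438) (flp_d L27418) L29265 L30525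
theorem L30539 : sm gc N3304 = N3424 := rfl
theorem L30541 : sm ga N3424 = N3381 := ded_10_1 (flp_c L30142) (flp_a L29279) L30539
theorem L30543 : sm ge N3424 = N3338 := ded_25_2 (flp_c L29711) (flp_e L29288) L30539
theorem L30545 : sm gf N3424 = N3361 := ded_26_2 (flp_c L29959) (flp_f L29283) L30539
theorem L30547 : sm gg N3424 = N3412 := ded_27_2 (flp_c L30373) (flp_g L29285) L30539
theorem L30549 : sm gi N3424 = N3424 := ded_29_2 (flp_c L30539) L29287 L30539
theorem L30550 : sm gd N3424 = N3424 := ded_24_2 (flp_c L30539) (flp_d L29277) L27444 L29277 L30539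
theorem L30551 : sm ge N3305 = N3425 := rfl
theorem L30553 : sm ga N3425 = N3412 := ded_12_1 L30375 (flp_a L29292) L30551
theorem L30555 : sm gb N3425 = N3361 := ded_19_1 L29963 (flp_b L29294) L30551
theorem L30557 : sm gc N3425 = N3341 := ded_25_1 (flp_e L29742) (flp_c L29301) L30551
theorem L30559 : sm gg N3425 = N3381 := ded_36_2 L30144 (flp_g L29298) L30551
theorem L30561 : sm gi N3425 = N3425 := ded_38_2 (flp_e L30551) L29300 L30551
theorem L30562 : sm gd N3425 = N3425 := ded_30_1 (flp_e L30551) (flp_d L29290) L27460 L29290 L30551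
theorem L30563 : sm gh N3306 = N3426 := rfl
theorem L30565 : sm ga N3426 = N3352 := ded_15_1 (flp_h L29857) (flp_a L29305) L30563
theorem L30567 : sm gb N3426 = N3316 := ded_22_1 (flp_h L29451) (flp_b L29307) L30563
theorem L30569 : sm gc N3426 = N3371 := ded_28_1 (flp_h L30062) (flp_c L29309) L30563
theorem L30571 : sm ge N3426 = N3331 := ded_37_1 (flp_h L29645) (flp_e L29313) L30563
theorem L30573 : sm gf N3426 = N3404 := ded_40_1 (flp_h L30319) (flp_f L29315) L30563
theorem L30575 : sm gg N3426 = N3309 := ded_42_1 (flp_h L29350) (flp_g L29317) L30563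
theorem L30577 : sm gd N3426 = N3402 := ded_33_1 (flp_h L30308) L28887 (flp_h L27495) (flp_d L29311) L30563
theorem L30579 : sm gi N3426 = N3369 := ded_44_2 (flp_h L30039) (flp_i L28454) (flp_h L27478) L29303 L30563
theorem L30581 : sm gh N3307 = N3427 := rfl
theorem L30583 : sm ga N3427 = N3353 := ded_15_1 (flp_h L29869) (flp_a L29321) L30581
theorem L30585 : sm gb N3427 = N3354 := ded_22_1 (flp_h L29877) (flp_b L29323) L30581
theorem L30587 : sm gc N3427 = N3309 := ded_28_1 (flp_h L29350) (flp_c L29325) L30581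
theorem L30589 : sm ge N3427 = N3351 := ded_37_1 (flp_h L29843) (flp_e L29328) L30581
theorem L30591 : sm gf N3427 = N3346 := ded_40_1 (flp_h L29795) (flp_f L29330) L30581
theorem L30593 : sm gg N3427 = N3371 := ded_42_1 (flp_h L30062) (flp_g L29332) L30581
theorem L30595 : sm gi N3427 = N3347 := ded_44_2 (flp_h L29807) (flp_i L28161) (flp_h L27505) L29319 L30581
theorem L30597 : sm gh N3308 = N3428 := rfl
theorem L30599 : sm ga N3428 = N3347 := ded_15_1 (flp_h L29807) (flp_a L29336) L30597
theorem L30601 : sm gb N3428 = N3319 := ded_22_1 (flp_h L29493) (flp_b L29338) L30597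
theorem L30603 : sm gc N3428 = N3351 := ded_28_1 (flp_h L29843) (flp_c L29340) L30597
theorem L30605 : sm ge N3428 = N3309 := ded_37_1 (flp_h L29350) (flp_e L29344) L30597
theorem L30607 : sm gf N3428 = N3344 := ded_40_1 (flp_h L29772) (flp_f L29346) L30597
theorem L30609 : sm gg N3428 = N3331 := ded_42_1 (flp_h L29645) (flp_g L29348) L30597
theorem L30611 : sm gi N3428 = N3353 := ded_44_2 (flp_h L29869) (flp_i L28231) (flp_h L27522) L29334 L30597
theorem L30613 : sm gd N3310 = N3429 := rfl
theorem L30615 : sm ga N3429 = N3349 := ded_11_1 (flp_d L29825) (flp_a L29364) L30613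
theorem L30617 : sm gb N3429 = N3321 := ded_18_1 (flp_d L29518) (flp_b L29366) L30613
theorem L30619 : sm gf N3429 = N3345 := ded_31_2 (flp_d L29784) (flp_f L29372) L30613
theorem L30621 : sm gg N3429 = N3340 := ded_32_2 (flp_d L29735) (flp_g L29374) L30613
theorem L30623 : sm gi N3429 = N3429 := ded_34_2 (flp_d L30613) L29376 L30613
theorem L30624 : sm gc N3429 = N3386 := ded_24_1 (flp_d L30183) L28658 (flp_d L28047) (flp_c L29368) L30613
theorem L30626 : sm ge N3429 = N3337 := ded_30_2 (flp_d L29704) L27968 (flp_d L27560) (flp_e L29370) L30613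
theorem L30628 : sm gh N3311 = N3430 := rfl
theorem L30630 : sm ga N3430 = N3323 := ded_15_1 (flp_h L29544) (flp_a L29379) L30628
theorem L30632 : sm gb N3430 = N3369 := ded_22_1 (flp_h L30039) (flp_b L29381) L30628
theorem L30634 : sm gc N3430 = N3327 := ded_28_1 (flp_h L29594) (flp_c L29383) L30628
theorem L30636 : sm ge N3430 = N3325 := ded_37_1 (flp_h L29571) (flp_e L29387) L30628
theorem L30638 : sm gf N3430 = N3402 := ded_40_1 (flp_h L30308) (flp_f L29389) L30628
theorem L30640 : sm gg N3430 = N3314 := ded_42_1 (flp_h L29423) (flp_g L29391) L30628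
theorem L30642 : sm gd N3430 = N3404 := ded_33_1 (flp_h L30319) L28935 (flp_h L27601) (flp_d L29385) L30628
theorem L30644 : sm gi N3430 = N3316 := ded_44_2 (flp_h L29451) (flp_i L27674) (flp_h L27583) L29377 L30628
theorem L30646 : sm gh N3312 = N3431 := rfl
theorem L30648 : sm ga N3431 = N3325 := ded_15_1 (flp_h L29571) (flp_a L29395) L30646
theorem L30650 : sm gb N3431 = N3357 := ded_22_1 (flp_h L29917) (flp_b L29397) L30646
theorem L30652 : sm gc N3431 = N3314 := ded_28_1 (flp_h L29423) (flp_c L29399) L30646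
theorem L30654 : sm ge N3431 = N3323 := ded_37_1 (flp_h L29544) (flp_e L29402) L30646
theorem L30656 : sm gf N3431 = N3387 := ded_40_1 (flp_h L30190) (flp_f L29404) L30646
theorem L30658 : sm gg N3431 = N3327 := ded_42_1 (flp_h L29594) (flp_g L29406) L30646
theorem L30660 : sm gi N3431 = N3317 := ded_44_2 (flp_h L29463) (flp_i L27686) (flp_h L27611) L29393 L30646
theorem L30662 : sm gh N3313 = N3432 := rfl
theorem L30664 : sm ga N3432 = N3327 := ded_15_1 (flp_h L29594) (flp_a L29410) L30662
theorem L30666 : sm gb N3432 = N3353 := ded_22_1 (flp_h L29869) (flp_b L29412) L30662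
theorem L30668 : sm gc N3432 = N3323 := ded_28_1 (flp_h L29544) (flp_c L29414) L30662
theorem L30670 : sm ge N3432 = N3314 := ded_37_1 (flp_h L29423) (flp_e L29417) L30662
theorem L30672 : sm gf N3432 = N3394 := ded_40_1 (flp_h L30259) (flp_f L29419) L30662
theorem L30674 : sm gg N3432 = N3325 := ded_42_1 (flp_h L29571) (flp_g L29421) L30662
theorem L30676 : sm gi N3432 = N3319 := ded_44_2 (flp_h L29493) (flp_i L27718) (flp_h L27628) L29408 L30662
theorem L30678 : sm gh N3315 = N3433 := rfl
theorem L30680 : sm ga N3433 = N3329 := ded_15_1 (flp_h L29617) (flp_a L29437) L30678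
theorem L30682 : sm gb N3433 = N3404 := ded_22_1 (flp_h L30319) (flp_b L29439) L30678
theorem L30684 : sm gc N3433 = N3334 := ded_28_1 (flp_h L29675) (flp_c L29441) L30678
theorem L30686 : sm ge N3433 = N3399 := ded_37_1 (flp_h L30295) (flp_e L29445) L30678
theorem L30688 : sm gf N3433 = N3316 := ded_40_1 (flp_h L29451) (flp_f L29447) L30678
theorem L30690 : sm gg N3433 = N3388 := ded_42_1 (flp_h L30202) (flp_g L29449) L30678
theorem L30692 : sm gd N3433 = N3369 := ded_33_1 (flp_h L30039) L28458 (flp_h L27672) (flp_d L29443) L30678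
theorem L30694 : sm gi N3433 = N3402 := ded_44_2 (flp_h L30308) (flp_i L28881) (flp_h L27655) L29435 L30678
theorem L30696 : sm gd N3317 = N3434 := rfl
theorem L30698 : sm ga N3434 = N3332 := ded_11_1 (flp_d L29653) (flp_a L29465) L30696
theorem L30700 : sm gb N3434 = N3368 := ded_18_1 (flp_d L30031) (flp_b L29467) L30696
theorem L30702 : sm gf N3434 = N3391 := ded_31_2 (flp_d L30238) (flp_f L29473) L30696
theorem L30704 : sm gg N3434 = N3335 := ded_32_2 (flp_d L29683) (flp_g L29475) L30696
theorem L30706 : sm gc N3434 = N3410 := ded_24_1 (flp_d L30360) L28999 (flp_d L27736) (flp_c L29469) L30696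
theorem L30708 : sm ge N3434 = N3409 := ded_30_2 (flp_d L30354) L28995 (flp_d L27884) (flp_e L29471) L30696
theorem L30710 : sm gh N3434 = N3322 := ded_33_2 (flp_d L29529) (flp_h L27776) (flp_d L27694) L29463 L30696
theorem L30712 : sm gh N3318 = N3435 := rfl
theorem L30714 : sm ga N3435 = N3334 := ded_15_1 (flp_h L29675) (flp_a L29479) L30712
theorem L30716 : sm gb N3435 = N3344 := ded_22_1 (flp_h L29772) (flp_b L29481) L30712
theorem L30718 : sm gc N3435 = N3329 := ded_28_1 (flp_h L29617) (flp_c L29483) L30712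
theorem L30720 : sm ge N3435 = N3343 := ded_37_1 (flp_h L29758) (flp_e L29487) L30712
theorem L30722 : sm gf N3435 = N3319 := ded_40_1 (flp_h L29493) (flp_f L29489) L30712
theorem L30724 : sm gg N3435 = N3384 := ded_42_1 (flp_h L30165) (flp_g L29491) L30712
theorem L30726 : sm gi N3435 = N3394 := ded_44_2 (flp_h L30259) (flp_i L28818) (flp_h L27712) L29477 L30712
theorem L30728 : sm gd N3319 = N3436 := rfl
theorem L30730 : sm ga N3436 = N3335 := ded_11_1 (flp_d L29683) (flp_a L29495) L30728
theorem L30732 : sm gg N3436 = N3332 := ded_32_2 (flp_d L29653) (flp_g L29501) L30728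
theorem L30734 : sm gc N3436 = N3398 := ded_24_1 (flp_d L30289) L28862 (flp_d L27884) (flp_c L29497) L30728
theorem L30736 : sm ge N3436 = N3376 := ded_30_2 (flp_d L30102) L28534 (flp_d L27736) (flp_e L29499) L30728
theorem L30738 : sm gh N3436 = N3321 := ded_33_2 (flp_d L29518) (flp_h L27752) (flp_d L27724) L29493 L30728
theorem L30740 : sm gd N3320 = N3437 := rfl
theorem L30742 : sm ga N3437 = N3337 := ded_11_1 (flp_d L29704) (flp_a L29505) L30740
theorem L30744 : sm gb N3437 = N3345 := ded_18_1 (flp_d L29784) (flp_b L29507) L30740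
theorem L30746 : sm gf N3437 = N3321 := ded_31_2 (flp_d L29518) (flp_f L29513) L30740
theorem L30748 : sm gg N3437 = N3386 := ded_32_2 (flp_d L30183) (flp_g L29515) L30740
theorem L30750 : sm gi N3437 = N3437 := ded_34_2 (flp_d L30740) L29517 L30740
theorem L30751 : sm gc N3437 = N3340 := ded_24_1 (flp_d L29735) L28017 (flp_d L27996) (flp_c L29509) L30740
theorem L30753 : sm ge N3437 = N3349 := ded_30_2 (flp_d L29825) L28187 (flp_d L27773) (flp_e L29511) L30740
theorem L30755 : sm gh N3324 = N3438 := rfl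
theorem L30757 : sm ga N3438 = N3371 := ded_15_1 (flp_h L30062) (flp_a L29558) L30755
theorem L30759 : sm gb N3438 = N3325 := ded_22_1 (flp_h L29571) (flp_b L29560) L30755
theorem L30761 : sm gc N3438 = N3352 := ded_28_1 (flp_h L29857) (flp_c L29562) L30755
theorem L30763 : sm ge N3438 = N3369 := ded_37_1 (flp_h L30039) (flp_e L29565) L30755
theorem L30765 : sm gf N3438 = N3392 := ded_40_1 (flp_h L30246) (flp_f L29567) L30755
theorem L30767 : sm gg N3438 = N3353 := ded_42_1 (flp_h L29869) (flp_g L29569) L30755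
theorem L30769 : sm gi N3438 = N3331 := ded_44_2 (flp_h L29645) (flp_i L27902) (flp_h L27810) L29556 L30755
theorem L30771 : sm gd N3325 = N3439 := rfl
theorem L30773 : sm gf N3439 = N3393 := ded_31_2 (flp_d L30254) (flp_f L29575) L30771
theorem L30775 : sm gi N3439 = N3332 := ded_34_2 (flp_d L29653) (flp_i L29577) L30771
theorem L30777 : sm gh N3439 = N3439 := ded_33_2 (flp_d L30771) (flp_h L29571) L27820 L29571 L30771
theorem L30778 : sm gh N3326 = N3440 := rfl
theorem L30780 : sm ga N3440 = N3394 := ded_15_1 (flp_h L30259) (flp_a L29581) L30778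
theorem L30782 : sm gb N3440 = N3363 := ded_22_1 (flp_h L29984) (flp_b L29583) L30778
theorem L30784 : sm gc N3440 = N3402 := ded_28_1 (flp_h L30308) (flp_c L29585) L30778
theorem L30786 : sm ge N3440 = N3388 := ded_37_1 (flp_h L30202) (flp_e L29588) L30778
theorem L30788 : sm gf N3440 = N3327 := ded_40_1 (flp_h L29594) (flp_f L29590) L30778
theorem L30790 : sm gg N3440 = N3399 := ded_42_1 (flp_h L30295) (flp_g L29592) L30778
theorem L30792 : sm gi N3440 = N3334 := ded_44_2 (flp_h L29675) (flp_i L27934) (flp_h L27832) L29579 L30778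
theorem L30794 : sm gd N3327 = N3441 := rfl
theorem L30796 : sm gb N3441 = N3364 := ded_18_1 (flp_d L29992) (flp_b L29596) L30794
theorem L30798 : sm gi N3441 = N3335 := ded_34_2 (flp_d L29683) (flp_i L29600) L30794
theorem L30800 : sm gh N3441 = N3441 := ded_33_2 (flp_d L30794) (flp_h L29594) L27842 L29594 L30794
theorem L30801 : sm gh N3328 = N3442 := rfl
theorem L30803 : sm ga N3442 = N3399 := ded_15_1 (flp_h L30295) (flp_a L29604) L30801
theorem L30805 : sm gb N3442 = N3365 := ded_22_1 (flp_h L29997) (flp_b L29606) L30801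
theorem L30807 : sm gc N3442 = N3343 := ded_28_1 (flp_h L29758) (flp_c L29608) L30801
theorem L30809 : sm ge N3442 = N3329 := ded_37_1 (flp_h L29617) (flp_e L29611) L30801
theorem L30811 : sm gf N3442 = N3390 := ded_40_1 (flp_h L30226) (flp_f L29613) L30801
theorem L30813 : sm gg N3442 = N3394 := ded_42_1 (flp_h L30259) (flp_g L29615) L30801
theorem L30815 : sm gi N3442 = N3384 := ded_44_2 (flp_h L30165) (flp_i L28634) (flp_h L27863) L29602 L30801
theorem L30817 : sm gh N3330 = N3443 := rfl
theorem L30819 : sm ga N3443 = N3331 := ded_15_1 (flp_h L29645) (flp_a L29631) L30817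
theorem L30821 : sm gb N3443 = N3356 := ded_22_1 (flp_h L29905) (flp_b L29633) L30817
theorem L30823 : sm gc N3443 = N3369 := ded_28_1 (flp_h L30039) (flp_c L29635) L30817
theorem L30825 : sm ge N3443 = N3352 := ded_37_1 (flp_h L29857) (flp_e L29639) L30817
theorem L30827 : sm gf N3443 = N3396 := ded_40_1 (flp_h L30273) (flp_f L29641) L30817
theorem L30829 : sm gg N3443 = N3347 := ded_42_1 (flp_h L29807) (flp_g L29643) L30817
theorem L30831 : sm gi N3443 = N3371 := ded_44_2 (flp_h L30062) (flp_i L28479) (flp_h L27898) L29629 L30817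
theorem L30833 : sm gd N3331 = N3444 := rfl
theorem L30835 : sm gb N3444 = N3332 := ded_18_1 (flp_d L29653) (flp_b L29647) L30833
theorem L30837 : sm gf N3444 = N3398 := ded_31_2 (flp_d L30289) (flp_f L29651) L30833
theorem L30839 : sm gh N3444 = N3340 := ded_33_2 (flp_d L29735) (flp_h L28013) (flp_d L27908) L29645 L30833
theorem L30841 : sm ge N3332 = N3445 := rfl
theorem L30843 : sm ga N3445 = N3409 := ded_12_1 (flp_e L30708) L30698 L30841
theorem L30845 : sm gg N3445 = N3376 := ded_36_2 (flp_e L30736) L30732 L30841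
theorem L30847 : sm gh N3445 = N3341 := ded_37_2 (flp_e L29742) (flp_h L29657) L30841
theorem L30849 : sm gd N3445 = N3375 := ded_30_1 L30098 (flp_d L29461) L29457 L29653 L30841
theorem L30851 : sm gh N3333 = N3446 := rfl
theorem L30853 : sm ga N3446 = N3384 := ded_15_1 (flp_h L30165) (flp_a L29661) L30851
theorem L30855 : sm gb N3446 = N3375 := ded_22_1 (flp_h L30094) (flp_b L29663) L30851
theorem L30857 : sm gc N3446 = N3388 := ded_28_1 (flp_h L30202) (flp_c L29665) L30851
theorem L30859 : sm ge N3446 = N3402 := ded_37_1 (flp_h L30308) (flp_e L29669) L30851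
theorem L30861 : sm gf N3446 = N3389 := ded_40_1 (flp_h L30214) (flp_f L29671) L30851
theorem L30863 : sm gg N3446 = N3334 := ded_42_1 (flp_h L29675) (flp_g L29673) L30851
theorem L30865 : sm gi N3446 = N3399 := ded_44_2 (flp_h L30295) (flp_i L28864) (flp_h L27930) L29659 L30851
theorem L30867 : sm gd N3334 = N3447 := rfl
theorem L30869 : sm gb N3447 = N3376 := ded_18_1 (flp_d L30102) (flp_b L29677) L30867
theorem L30871 : sm gf N3447 = N3335 := ded_31_2 (flp_d L29683) (flp_f L29681) L30867
theorem L30873 : sm gh N3447 = N3337 := ded_33_2 (flp_d L29704) (flp_h L27964) (flp_d L27938) L29675 L30867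
theorem L30875 : sm gc N3335 = N3448 := rfl
theorem L30877 : sm ga N3448 = N3398 := ded_10_1 (flp_c L30734) L30730 L30875
theorem L30879 : sm gg N3448 = N3410 := ded_27_2 (flp_c L30706) L30704 L30875
theorem L30881 : sm gh N3448 = N3338 := ded_28_2 (flp_c L29711) (flp_h L29687) L30875
theorem L30883 : sm gd N3448 = N3396 := ded_24_2 L30277 (flp_d L29461) L29455 L29683 L30875
theorem L30885 : sm gd N3336 = N3449 := rfl
theorem L30887 : sm ga N3449 = N3386 := ded_11_1 (flp_d L30183) (flp_a L29691) L30885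
theorem L30889 : sm gb N3449 = N3341 := ded_18_1 L29749 (flp_b L29693) L30885
theorem L30891 : sm gf N3449 = N3350 := ded_31_2 L29841 (flp_f L29699) L30885
theorem L30893 : sm gg N3449 = N3337 := ded_32_2 (flp_d L29704) (flp_g L29701) L30885
theorem L30895 : sm gi N3449 = N3449 := ded_34_2 (flp_d L30885) L29703 L30885
theorem L30896 : sm gc N3449 = N3349 := ded_24_1 (flp_d L29825) L28185 (flp_d L28679) (flp_c L29695) L30885
theorem L30898 : sm ge N3449 = N3340 := ded_30_2 (flp_d L29735) (flp_e L29131) L29136 (flp_e L29697) L30885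
theorem L30900 : sm gc N3337 = N3450 := rfl
theorem L30902 : sm ga N3450 = N3340 := ded_10_1 (flp_c L30751) L30742 L30900
theorem L30904 : sm ge N3450 = N3386 := ded_25_2 (flp_c L30624) L30626 L30900
theorem L30906 : sm gf N3450 = N3338 := ded_26_2 (flp_c L29711) (flp_f L29708) L30900
theorem L30908 : sm gg N3450 = N3349 := ded_27_2 (flp_c L30896) L30893 L30900
theorem L30910 : sm gi N3450 = N3450 := ded_29_2 (flp_c L30900) L29710 L30900
theorem L30911 : sm gb N3450 = N3360 := ded_17_1 (flp_c L29957) L30150 (flp_c L30142) (flp_b L29706) L30900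
theorem L30913 : sm gd N3450 = N3339 := ded_24_2 L29726 (flp_d L29090) L29082 L29704 L30900
theorem L30915 : sm gb N3338 = N3451 := rfl
theorem L30917 : sm gd N3451 = N3359 := ded_18_2 L29939 (flp_d L29718) L30915
theorem L30919 : sm gf N3451 = N3360 := ded_20_2 (flp_b L30911) L30906 L30915
theorem L30921 : sm gg N3451 = N3411 := ded_21_2 L30368 (flp_g L29715) L30915
theorem L30923 : sm gi N3451 = N3451 := ded_23_2 (flp_b L30915) L29717 L30915
theorem L30924 : sm ga N3451 = N3379 := ded_9_1 L30127 L28800 (flp_b L28914) (flp_a L29713) L30915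
theorem L30926 : sm gc N3451 = N3382 := ded_17_2 (flp_b L30152) (flp_c L28585) (flp_b L27975) L29711 L30915
theorem L30928 : sm gf N3341 = N3452 := rfl
theorem L30930 : sm ga N3452 = N3411 := ded_13_1 L30370 (flp_a L29744) L30928
theorem L30932 : sm gb N3452 = N3350 := ded_20_1 (flp_f L30891) L30889 L30928
theorem L30934 : sm gd N3452 = N3378 := ded_31_1 L30120 (flp_d L29749) L30928
theorem L30936 : sm gi N3452 = N3452 := ded_41_2 (flp_f L30928) L29748 L30928
theorem L30937 : sm ge N3452 = N3382 := ded_35_1 L30155 (flp_e L28917) (flp_f L28024) L29742 L30928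
theorem L30939 : sm gg N3452 = N3379 := ded_39_2 L30129 L28565 (flp_f L28582) (flp_g L29746) L30928
theorem L30941 : sm gd N3344 = N3453 := rfl
theorem L30943 : sm ga N3453 = N3348 := ded_11_1 (flp_d L29817) (flp_a L29774) L30941
theorem L30945 : sm gg N3453 = N3385 := ded_32_2 (flp_d L30175) (flp_g L29780) L30941
theorem L30947 : sm gi N3453 = N3403 := ded_34_2 (flp_d L30316) (flp_i L29782) L30941
theorem L30949 : sm gc N3453 = N3395 := ded_24_1 (flp_d L30267) L28835 (flp_d L28630) (flp_c L29776) L30941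
theorem L30951 : sm ge N3453 = N3358 := ded_30_2 (flp_d L29929) L28342 (flp_d L28121) (flp_e L29778) L30941
theorem L30953 : sm gh N3453 = N3345 := ded_33_2 (flp_d L29784) (flp_h L28125) (flp_d L28105) L29772 L30941
theorem L30955 : sm gd N3346 = N3454 := rfl
theorem L30957 : sm ga N3454 = N3403 := ded_11_1 (flp_d L30316) (flp_a L29797) L30955
theorem L30959 : sm gg N3454 = N3407 := ded_32_2 (flp_d L30343) (flp_g L29803) L30955
theorem L30961 : sm gi N3454 = N3348 := ded_34_2 (flp_d L29817) (flp_i L29805) L30955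
theorem L30963 : sm gc N3454 = N3400 := ded_24_1 (flp_d L30301) L28873 (flp_d L28692) (flp_c L29799) L30955
theorem L30965 : sm ge N3454 = N3364 := ded_30_2 (flp_d L29992) L28395 (flp_d L28157) (flp_e L29801) L30955
theorem L30967 : sm gh N3454 = N3454 := ded_33_2 (flp_d L30955) (flp_h L29795) L28142 L29795 L30955
theorem L30968 : sm gd N3347 = N3455 := rfl
theorem L30970 : sm gb N3455 = N3358 := ded_18_1 (flp_d L29929) (flp_b L29809) L30968
theorem L30972 : sm gf N3455 = N3348 := ded_31_2 (flp_d L29817) (flp_f L29815) L30968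
theorem L30974 : sm gh N3455 = N3349 := ded_33_2 (flp_d L29825) (flp_h L28181) (flp_d L28167) L29807 L30968
theorem L30976 : sm gc N3348 = N3456 := rfl
theorem L30978 : sm ga N3456 = N3395 := ded_10_1 (flp_c L30949) L30943 L30976
theorem L30980 : sm ge N3456 = N3377 := ded_25_2 (flp_c L30108) (flp_e L29821) L30976
theorem L30982 : sm gg N3456 = N3391 := ded_27_2 L30242 (flp_g L29819) L30976
theorem L30984 : sm gh N3456 = N3350 := ded_28_2 (flp_c L29832) (flp_h L29823) L30976
theorem L30986 : sm gi N3456 = N3400 := ded_29_2 (flp_c L30963) L30961 L30976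
theorem L30988 : sm gd N3456 = N3389 := ded_24_2 L30218 L28753 (flp_c L28175) L29817 L30976
theorem L30990 : sm gd N3353 = N3457 := rfl
theorem L30992 : sm gf N3457 = N3403 := ded_31_2 (flp_d L30316) (flp_f L29875) L30990
theorem L30994 : sm gh N3457 = N3457 := ded_33_2 (flp_d L30990) (flp_h L29869) L28235 L29869 L30990
theorem L30995 : sm gd N3354 = N3458 := rfl
theorem L30997 : sm ga N3458 = N3364 := ded_11_1 (flp_d L29992) (flp_a L29879) L30995
theorem L30999 : sm gg N3458 = N3374 := ded_32_2 (flp_d L30091) (flp_g L29885) L30995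
theorem L31001 : sm gi N3458 = N3358 := ded_34_2 (flp_d L29929) (flp_i L29887) L30995
theorem L31003 : sm ge N3458 = N3403 := ded_30_2 (flp_d L30316) L28925 (flp_d L28267) (flp_e L29883) L30995
theorem L31005 : sm gh N3458 = N3458 := ded_33_2 (flp_d L30995) (flp_h L29877) L28252 L29877 L30995
theorem L31006 : sm gh N3355 = N3459 := rfl
theorem L31008 : sm ga N3459 = N3367 := ded_15_1 (flp_h L30025) (flp_a L29891) L31006
theorem L31010 : sm gb N3459 = N3396 := ded_22_1 (flp_h L30273) (flp_b L29893) L31006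
theorem L31012 : sm gc N3459 = N3363 := ded_28_1 (flp_h L29984) (flp_c L29895) L31006
theorem L31014 : sm ge N3459 = N3406 := ded_37_1 (flp_h L30335) (flp_e L29899) L31006
theorem L31016 : sm gf N3459 = N3356 := ded_40_1 (flp_h L29905) (flp_f L29901) L31006
theorem L31018 : sm gg N3459 = N3408 := ded_42_1 (flp_h L30348) (flp_g L29903) L31006
theorem L31020 : sm gi N3459 = N3373 := ded_44_2 (flp_h L30083) (flp_i L28507) (flp_h L28281) L29889 L31006
theorem L31022 : sm gd N3356 = N3460 := rfl
theorem L31024 : sm ga N3460 = N3368 := ded_11_1 (flp_d L30031) (flp_a L29907) L31022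
theorem L31026 : sm gg N3460 = N3358 := ded_32_2 (flp_d L29929) (flp_g L29913) L31022
theorem L31028 : sm gi N3460 = N3374 := ded_34_2 (flp_d L30091) (flp_i L29915) L31022
theorem L31030 : sm ge N3460 = N3385 := ded_30_2 (flp_d L30175) L28652 (flp_d L28309) (flp_e L29911) L31022
theorem L31032 : sm gh N3460 = N3360 := ded_33_2 (flp_d L29948) (flp_h L28356) (flp_d L28293) L29905 L31022
theorem L31034 : sm gc N3401 = N3460 := ded_25_3 L31030 L30179 L30304
theorem L31036 : sm gd N3357 = N3461 := rfl
theorem L31038 : sm ga N3461 = N3374 := ded_11_1 (flp_d L30091) (flp_a L29919) L31036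
theorem L31040 : sm gg N3461 = N3364 := ded_32_2 (flp_d L29992) (flp_g L29925) L31036
theorem L31042 : sm gi N3461 = N3368 := ded_34_2 (flp_d L30031) (flp_i L29927) L31036
theorem L31044 : sm ge N3461 = N3407 := ded_30_2 (flp_d L30343) L28963 (flp_d L28334) (flp_e L29923) L31036
theorem L31046 : sm gh N3461 = N3461 := ded_33_2 (flp_d L31036) (flp_h L29917) L28319 L29917 L31036
theorem L31047 : sm gc N3358 = N3462 := rfl
theorem L31049 : sm ga N3462 = N3377 := ded_10_1 (flp_c L30108) (flp_a L29931) L31047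
theorem L31051 : sm ge N3462 = N3395 := ded_25_2 (flp_c L30949) L30951 L31047
theorem L31053 : sm gg N3462 = N3401 := ded_27_2 L31034 L31026 L31047
theorem L31055 : sm gh N3462 = N3361 := ded_28_2 (flp_c L29959) (flp_h L29933) L31047
theorem L31057 : sm gh N3362 = N3463 := rfl
theorem L31059 : sm ga N3463 = N3405 := ded_15_1 (flp_h L30327) (flp_a L29971) L31057
theorem L31061 : sm gb N3463 = N3399 := ded_22_1 (flp_h L30295) (flp_b L29973) L31057
theorem L31063 : sm gc N3463 = N3408 := ded_28_1 (flp_h L30348) (flp_c L29975) L31057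
theorem L31065 : sm ge N3463 = N3404 := ded_37_1 (flp_h L30319) (flp_e L29978) L31057
theorem L31067 : sm gf N3463 = N3397 := ded_40_1 (flp_h L30281) (flp_f L29980) L31057
theorem L31069 : sm gg N3463 = N3363 := ded_42_1 (flp_h L29984) (flp_g L29982) L31057
theorem L31071 : sm gi N3463 = N3375 := ded_44_2 (flp_h L30094) (flp_i L28522) (flp_h L28382) L29969 L31057
theorem L31073 : sm gd N3363 = N3464 := rfl
theorem L31075 : sm gf N3464 = N3364 := ded_31_2 (flp_d L29992) (flp_f L29988) L31073
theorem L31077 : sm gi N3464 = N3376 := ded_34_2 (flp_d L30102) (flp_i L29990) L31073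
theorem L31079 : sm gh N3464 = N3464 := ded_33_2 (flp_d L31073) (flp_h L29984) L28388 L29984 L31073
theorem L31080 : sm gc N3364 = N3465 := rfl
theorem L31082 : sm ge N3465 = N3400 := ded_25_2 (flp_c L30963) L30965 L31080
theorem L31084 : sm gh N3465 = N3465 := ded_28_2 (flp_c L31080) L29996 L31080
theorem L31085 : sm gi N3465 = N3377 := ded_29_2 (flp_c L30108) (flp_i L29994) L31080
theorem L31087 : sm gd N3465 = N3401 := ded_24_2 L31034 (flp_d L31022) L29909 L29992 L31080
theorem L31089 : sm gd N3365 = N3466 := rfl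
theorem L31091 : sm ga N3466 = N3407 := ded_11_1 (flp_d L30343) (flp_a L29999) L31089
theorem L31093 : sm gg N3466 = N3403 := ded_32_2 (flp_d L30316) (flp_g L30005) L31089
theorem L31095 : sm gi N3466 = N3385 := ded_34_2 (flp_d L30175) (flp_i L30007) L31089
theorem L31097 : sm gc N3466 = N3393 := ded_24_1 (flp_d L30254) L28814 (flp_d L28616) (flp_c L30001) L31089
theorem L31099 : sm ge N3466 = N3374 := ded_30_2 (flp_d L30091) L28520 (flp_d L28420) (flp_e L30003) L31089
theorem L31101 : sm gh N3466 = N3466 := ded_33_2 (flp_d L31089) (flp_h L29997) L28405 L29997 L31089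
theorem L31102 : sm gh N3366 = N3467 := rfl
theorem L31104 : sm ga N3467 = N3408 := ded_15_1 (flp_h L30348) (flp_a L30011) L31102
theorem L31106 : sm gb N3467 = N3389 := ded_22_1 (flp_h L30214) (flp_b L30013) L31102
theorem L31108 : sm gc N3467 = N3405 := ded_28_1 (flp_h L30327) (flp_c L30015) L31102
theorem L31110 : sm ge N3467 = N3392 := ded_37_1 (flp_h L30246) (flp_e L30019) L31102
theorem L31112 : sm gf N3467 = N3375 := ded_40_1 (flp_h L30094) (flp_f L30021) L31102
theorem L31114 : sm gg N3467 = N3367 := ded_42_1 (flp_h L30025) (flp_g L30023) L31102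
theorem L31116 : sm gi N3467 = N3397 := ded_44_2 (flp_h L30281) (flp_i L28849) (flp_h L28436) L30009 L31102
theorem L31118 : sm gd N3367 = N3468 := rfl
theorem L31120 : sm gb N3468 = N3391 := ded_18_1 (flp_d L30238) (flp_b L30027) L31118
theorem L31122 : sm gf N3468 = N3368 := ded_31_2 (flp_d L30031) (flp_f L30029) L31118
theorem L31124 : sm gh N3468 = N3379 := ded_33_2 (flp_d L30125) (flp_h L28554) (flp_d L28444) L30025 L31118
theorem L31126 : sm gc N3368 = N3469 := rfl
theorem L31128 : sm ga N3469 = N3401 := ded_10_1 L31034 L31024 L31126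
theorem L31130 : sm ge N3469 = N3391 := ded_25_2 L30242 (flp_e L30035) L31126
theorem L31132 : sm gg N3469 = N3377 := ded_27_2 (flp_c L30108) (flp_g L30033) L31126
theorem L31134 : sm gh N3469 = N3380 := ded_28_2 (flp_c L30132) (flp_h L30037) L31126
theorem L31136 : sm gh N3370 = N3470 := rfl
theorem L31138 : sm ga N3470 = N3392 := ded_15_1 (flp_h L30246) (flp_a L30049) L31136
theorem L31140 : sm gb N3470 = N3373 := ded_22_1 (flp_h L30083) (flp_b L30051) L31136
theorem L31142 : sm gc N3470 = N3404 := ded_28_1 (flp_h L30319) (flp_c L30053) L31136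
theorem L31144 : sm ge N3470 = N3408 := ded_37_1 (flp_h L30348) (flp_e L30056) L31136
theorem L31146 : sm gf N3470 = N3371 := ded_40_1 (flp_h L30062) (flp_f L30058) L31136
theorem L31148 : sm gg N3470 = N3406 := ded_42_1 (flp_h L30335) (flp_g L30060) L31136
theorem L31150 : sm gi N3470 = N3396 := ded_44_2 (flp_h L30273) (flp_i L28839) (flp_h L28473) L30047 L31136
theorem L31152 : sm gd N3371 = N3471 := rfl
theorem L31154 : sm gb N3471 = N3374 := ded_18_1 (flp_d L30091) (flp_b L30064) L31152
theorem L31156 : sm gh N3471 = N3471 := ded_33_2 (flp_d L31152) (flp_h L30062) L28483 L30062 L31152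
theorem L31157 : sm gh N3372 = N3472 := rfl
theorem L31159 : sm ga N3472 = N3397 := ded_15_1 (flp_h L30281) (flp_a L30070) L31157
theorem L31161 : sm gb N3472 = N3406 := ded_22_1 (flp_h L30335) (flp_b L30072) L31157
theorem L31163 : sm gc N3472 = N3375 := ded_28_1 (flp_h L30094) (flp_c L30074) L31157
theorem L31165 : sm ge N3472 = N3396 := ded_37_1 (flp_h L30273) (flp_e L30077) L31157
theorem L31167 : sm gf N3472 = N3405 := ded_40_1 (flp_h L30327) (flp_f L30079) L31157
theorem L31169 : sm gg N3472 = N3373 := ded_42_1 (flp_h L30083) (flp_g L30081) L31157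
theorem L31171 : sm gi N3472 = N3408 := ded_44_2 (flp_h L30348) (flp_i L28983) (flp_h L28503) L30068 L31157
theorem L31173 : sm gd N3373 = N3473 := rfl
theorem L31175 : sm gf N3473 = N3374 := ded_31_2 (flp_d L30091) (flp_f L30089) L31173
theorem L31177 : sm gh N3473 = N3473 := ded_33_2 (flp_d L31173) (flp_h L30083) L28511 L30083 L31173
theorem L31178 : sm gc N3374 = N3474 := rfl
theorem L31180 : sm ge N3474 = N3393 := ded_25_2 (flp_c L31097) L31099 L31178
theorem L31182 : sm gh N3474 = N3474 := ded_28_2 (flp_c L31178) L30093 L31178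
theorem L31183 : sm gi N3474 = N3401 := ded_29_2 L31034 L31028 L31178
theorem L31185 : sm gd N3474 = N3377 := ded_24_2 (flp_c L30108) (flp_d L28538) (flp_c L28518) L30091 L31178
theorem L31187 : sm gc N3376 = N3475 := rfl
theorem L31189 : sm ge N3475 = N3398 := ded_25_2 (flp_c L30734) L30736 L31187
theorem L31191 : sm gf N3475 = N3377 := ded_26_2 (flp_c L30108) (flp_f L30104) L31187
theorem L31193 : sm gh N3475 = N3381 := ded_28_2 (flp_c L30142) (flp_h L30106) L31187
theorem L31195 : sm gb N3475 = N3401 := ded_47_6 L30306 (flp_g L29965) (flp_f L30545) L30543 L29718 L28906 L26889 (flp_h L26885) L24644 L22700 L20479 L18308 L16287 L14514 L12786 (flp_g L14534) (flp_f L15128) L15127 L15125 (flp_c L14968) (flp_b L16710) L16716 L15057 (flp_f L16876) (flp_e L18898) (flp_d L21166) (flp_c L23467) (flp_b L25803) L28013 (flp_g L29374) L29372 L28131 L25991 L23944 (flp_b L26077) (flp_h L26075) (flp_g L26073) L26072 (flp_e L28007) (flp_d L29637) L29635 (flp_b L29381) L30628 L30640 L29429 L28713 (flp_d L28630) (flp_c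 L29776) (flp_b L30716) (flp_h L30712) L29491 L28644 (flp_e L28703) L28702 L28700 L26618 L27014 L27018 (flp_f L27062) (flp_e L28534) L30102 L31187
theorem L31197 : sm gb N3377 = N3476 := rfl
theorem L31199 : sm gf N3476 = N3401 := ded_20_2 (flp_b L31195) L31191 L31197
theorem L31201 : sm gh N3476 = N3382 := ded_22_2 (flp_b L30152) (flp_h L30110) L31197
theorem L31203 : sm gc N3379 = N3477 := rfl
theorem L31205 : sm ga N3477 = N3382 := ded_10_1 (flp_c L30926) L30924 L31203
theorem L31207 : sm gf N3477 = N3380 := ded_26_2 (flp_c L30132) (flp_f L30129) L31203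
theorem L31209 : sm gi N3477 = N3477 := ded_29_2 (flp_c L31203) L30131 L31203
theorem L31210 : sm gb N3477 = N3412 := ded_17_1 (flp_c L30373) L29018 (flp_c L28803) (flp_b L30127) L31203
theorem L31212 : sm gd N3477 = N3477 := ded_24_2 (flp_c L31203) (flp_d L30125) L28558 L30125 L31203
theorem L31213 : sm ge N3411 = N3477 := ded_12_0 L31205 (flp_e L30937) L30930
theorem L31215 : sm ge N3379 = N3478 := rfl
theorem L31217 : sm gb N3478 = N3380 := ded_19_1 L30136 (flp_b L30127) L31215
theorem L31219 : sm gc N3478 = N3411 := ded_25_1 L31213 (flp_c L31203) L31215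
theorem L31221 : sm gg N3478 = N3382 := ded_36_2 (flp_e L30937) L30939 L31215
theorem L31223 : sm gi N3478 = N3478 := ded_38_2 (flp_e L31215) L30131 L31215
theorem L31224 : sm gd N3478 = N3478 := ded_30_1 (flp_e L31215) (flp_d L30125) L28559 L30125 L31215
theorem L31225 : sm gf N3478 = N3412 := ded_35_2 L30375 L29023 (flp_e L28568) (flp_f L30129) L31215
theorem L31227 : sm gd N3384 = N3479 := rfl
theorem L31229 : sm gb N3479 = N3385 := ded_18_1 (flp_d L30175) (flp_b L30167) L31227
theorem L31231 : sm gf N3479 = N3395 := ded_31_2 (flp_d L30267) (flp_f L30173) L31227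
theorem L31233 : sm gh N3479 = N3386 := ded_33_2 (flp_d L30183) (flp_h L28654) (flp_d L28640) L30165 L31227
theorem L31235 : sm gd N3387 = N3480 := rfl
theorem L31237 : sm ga N3480 = N3393 := ded_11_1 (flp_d L30254) (flp_a L30192) L31235
theorem L31239 : sm gg N3480 = N3400 := ded_32_2 (flp_d L30301) (flp_g L30198) L31235
theorem L31241 : sm gi N3480 = N3391 := ded_34_2 (flp_d L30238) (flp_i L30200) L31235
theorem L31243 : sm gc N3480 = N3407 := ded_24_1 (flp_d L30343) L28961 (flp_d L28717) (flp_c L30194) L31235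
theorem L31245 : sm gh N3480 = N3480 := ded_33_2 (flp_d L31235) (flp_h L30190) L28702 L30190 L31235
theorem L31246 : sm gd N3390 = N3481 := rfl
theorem L31248 : sm ga N3481 = N3400 := ded_11_1 (flp_d L30301) (flp_a L30228) L31246
theorem L31250 : sm gg N3481 = N3393 := ded_32_2 (flp_d L30254) (flp_g L30234) L31246
theorem L31252 : sm gi N3481 = N3395 := ded_34_2 (flp_d L30267) (flp_i L30236) L31246
theorem L31254 : sm gc N3481 = N3403 := ded_24_1 (flp_d L30316) L28923 (flp_d L28784) (flp_c L30230) L31246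
theorem L31256 : sm gh N3481 = N3481 := ded_33_2 (flp_d L31246) (flp_h L30226) L28763 L30226 L31246
theorem L31257 : sm gd N3392 = N3482 := rfl
theorem L31259 : sm gb N3482 = N3393 := ded_18_1 (flp_d L30254) (flp_b L30248) L31257
theorem L31261 : sm gi N3482 = N3398 := ded_34_2 (flp_d L30289) (flp_i L30252) L31257
theorem L31263 : sm gh N3482 = N3482 := ded_33_2 (flp_d L31257) (flp_h L30246) L28811 L30246 L31257
theorem L31264 : sm gd N3394 = N3483 := rfl
theorem L31266 : sm gb N3483 = N3403 := ded_18_1 (flp_d L30316) (flp_b L30261) L31264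
theorem L31268 : sm gh N3483 = N3483 := ded_33_2 (flp_d L31264) (flp_h L30259) L28824 L30259 L31264
theorem L31269 : sm gd N3397 = N3484 := rfl
theorem L31271 : sm gb N3484 = N3400 := ded_18_1 (flp_d L30301) (flp_b L30283) L31269
theorem L31273 : sm gh N3484 = N3484 := ded_33_2 (flp_d L31269) (flp_h L30281) L28855 L30281 L31269
theorem L31274 : sm gd N3399 = N3485 := rfl
theorem L31276 : sm gf N3485 = N3400 := ded_31_2 (flp_d L30301) (flp_f L30299) L31274
theorem L31278 : sm gh N3485 = N3485 := ded_33_2 (flp_d L31274) (flp_h L30295) L28868 L30295 L31274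
theorem L31279 : sm gd N3405 = N3486 := rfl
theorem L31281 : sm gb N3486 = N3407 := ded_18_1 (flp_d L30343) (flp_b L30329) L31279
theorem L31283 : sm gi N3486 = N3409 := ded_34_2 (flp_d L30354) (flp_i L30333) L31279
theorem L31285 : sm gh N3486 = N3486 := ded_33_2 (flp_d L31279) (flp_h L30327) L28943 L30327 L31279
theorem L31286 : sm gd N3406 = N3487 := rfl
theorem L31288 : sm gf N3487 = N3407 := ded_31_2 (flp_d L30343) (flp_f L30339) L31286
theorem L31290 : sm gi N3487 = N3410 := ded_34_2 (flp_d L30360) (flp_i L30341) L31286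
theorem L31292 : sm gh N3487 = N3487 := ded_33_2 (flp_d L31286) (flp_h L30335) L28956 L30335 L31286
theorem L31293 : sm gd N3408 = N3488 := rfl
theorem L31295 : sm gb N3488 = N3410 := ded_18_1 (flp_d L30360) (flp_b L30350) L31293
theorem L31297 : sm gf N3488 = N3409 := ded_31_2 (flp_d L30354) (flp_f L30352) L31293
theorem L31299 : sm gh N3488 = N3411 := ded_33_2 (flp_d L30366) (flp_h L29007) (flp_d L28987) L30348 L31293
theorem L31301 : sm gc N3409 = N3489 := rfl
theorem L31303 : sm ge N3489 = N3410 := ded_25_2 (flp_c L30706) L30708 L31301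
theorem L31305 : sm gh N3489 = N3412 := ded_28_2 (flp_c L30373) (flp_h L30358) L31301
theorem L31307 : sm gd N3419 = N3490 := rfl
theorem L31309 : sm ga N3490 = N3487 := ded_11_1 (flp_d L31286) (flp_a L30465) L31307
theorem L31311 : sm gb N3490 = N3481 := ded_18_1 (flp_d L31246) (flp_b L30467) L31307
theorem L31313 : sm gf N3490 = N3466 := ded_31_2 (flp_d L31089) (flp_f L30473) L31307
theorem L31315 : sm gg N3490 = N3482 := ded_32_2 (flp_d L31257) (flp_g L30475) L31307
theorem L31317 : sm gi N3490 = N3422 := ded_34_2 (flp_d L30511) (flp_i L30477) L31307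
theorem L31319 : sm gc N3490 = N3439 := ded_24_1 (flp_d L30771) L29573 (flp_d L29234) (flp_c L30469) L31307
theorem L31321 : sm gh N3490 = N3490 := ded_33_2 (flp_d L31307) (flp_h L30463) L29202 L30463 L31307
theorem L31322 : sm gd N3420 = N3491 := rfl
theorem L31324 : sm ga N3491 = N3464 := ded_11_1 (flp_d L31073) (flp_a L30481) L31322
theorem L31326 : sm gb N3491 = N3454 := ded_18_1 (flp_d L30955) (flp_b L30483) L31322
theorem L31328 : sm gf N3491 = N3458 := ded_31_2 (flp_d L30995) (flp_f L30489) L31322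
theorem L31330 : sm gg N3491 = N3486 := ded_32_2 (flp_d L31279) (flp_g L30491) L31322
theorem L31332 : sm gi N3491 = N3423 := ded_34_2 (flp_d L30525) (flp_i L30493) L31322
theorem L31334 : sm ge N3491 = N3441 := ded_30_2 (flp_d L30794) L29598 (flp_d L29234) (flp_e L30487) L31322
theorem L31336 : sm gh N3491 = N3491 := ded_33_2 (flp_d L31322) (flp_h L30479) L29217 L30479 L31322
theorem L31337 : sm gd N3421 = N3492 := rfl
theorem L31339 : sm ga N3492 = N3473 := ded_11_1 (flp_d L31173) (flp_a L30497) L31337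
theorem L31341 : sm gb N3492 = N3480 := ded_18_1 (flp_d L31235) (flp_b L30499) L31337
theorem L31343 : sm gf N3492 = N3461 := ded_31_2 (flp_d L31036) (flp_f L30505) L31337
theorem L31345 : sm gg N3492 = N3484 := ded_32_2 (flp_d L31269) (flp_g L30507) L31337
theorem L31347 : sm gi N3492 = N3468 := ded_34_2 (flp_d L31118) (flp_i L30509) L31337
theorem L31349 : sm gh N3492 = N3492 := ded_33_2 (flp_d L31337) (flp_h L30495) L29246 L30495 L31337
theorem L31350 : sm ge N3422 = N3493 := rfl
theorem L31352 : sm ga N3493 = N3489 := ded_12_1 L31303 (flp_a L30513) L31350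
theorem L31354 : sm gb N3493 = N3462 := ded_19_1 L31051 (flp_b L30515) L31350
theorem L31356 : sm gc N3493 = N3445 := ded_25_1 (flp_e L30841) (flp_c L30521) L31350
theorem L31358 : sm gg N3493 = N3475 := ded_36_2 L31189 (flp_g L30519) L31350
theorem L31360 : sm gh N3493 = N3425 := ded_37_2 (flp_e L30551) (flp_h L30523) L31350
theorem L31362 : sm gc N3423 = N3494 := rfl
theorem L31364 : sm ga N3494 = N3475 := ded_10_1 (flp_c L31187) (flp_a L30527) L31362
theorem L31366 : sm ge N3494 = N3448 := ded_25_2 (flp_c L30875) (flp_e L30535) L31362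
theorem L31368 : sm gf N3494 = N3462 := ded_26_2 (flp_c L31047) (flp_f L30531) L31362
theorem L31370 : sm gg N3494 = N3489 := ded_27_2 (flp_c L31301) (flp_g L30533) L31362
theorem L31372 : sm gh N3494 = N3424 := ded_28_2 (flp_c L30539) (flp_h L30537) L31362
theorem L31374 : sm gb N3424 = N3495 := rfl
theorem L31376 : sm gd N3495 = N3495 := ded_18_2 (flp_b L31374) L30550 L31374
theorem L31377 : sm ge N3495 = N3451 := ded_19_2 (flp_b L30915) (flp_e L30543) L31374
theorem L31379 : sm gf N3495 = N3425 := ded_20_2 L30555 (flp_f L30545) L31374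
theorem L31381 : sm gg N3495 = N3477 := ded_21_2 L31210 (flp_g L30547) L31374
theorem L31383 : sm gi N3495 = N3495 := ded_23_2 (flp_b L31374) L30549 L31374
theorem L31384 : sm ga N3495 = N3478 := ded_9_1 L31217 L30134 L30150 (flp_a L30541) L31374
theorem L31386 : sm gc N3495 = N3452 := ded_17_2 L30932 (flp_c L29832) (flp_b L29281) L30539 L31374
theorem L31388 : sm gd N3427 = N3496 := rfl
theorem L31390 : sm ga N3496 = N3457 := ded_11_1 (flp_d L30990) (flp_a L30583) L31388
theorem L31392 : sm gb N3496 = N3458 := ded_18_1 (flp_d L30995) (flp_b L30585) L31388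
theorem L31394 : sm gf N3496 = N3454 := ded_31_2 (flp_d L30955) (flp_f L30591) L31388
theorem L31396 : sm gg N3496 = N3471 := ded_32_2 (flp_d L31152) (flp_g L30593) L31388
theorem L31398 : sm gi N3496 = N3455 := ded_34_2 (flp_d L30968) (flp_i L30595) L31388
theorem L31400 : sm gc N3496 = N3485 := ded_24_1 (flp_d L31274) L30297 (flp_d L29358) (flp_c L30587) L31388
theorem L31402 : sm ge N3496 = N3483 := ded_30_2 (flp_d L31264) L30265 (flp_d L29853) (flp_e L30589) L31388
theorem L31404 : sm gh N3496 = N3496 := ded_33_2 (flp_d L31388) (flp_h L30581) L29327 L30581 L31388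
theorem L31405 : sm gd N3428 = N3497 := rfl
theorem L31407 : sm ga N3497 = N3455 := ded_11_1 (flp_d L30968) (flp_a L30599) L31405
theorem L31409 : sm gb N3497 = N3436 := ded_18_1 (flp_d L30728) (flp_b L30601) L31405
theorem L31411 : sm gf N3497 = N3453 := ded_31_2 (flp_d L30941) (flp_f L30607) L31405
theorem L31413 : sm gg N3497 = N3444 := ded_32_2 (flp_d L30833) (flp_g L30609) L31405
theorem L31415 : sm gi N3497 = N3457 := ded_34_2 (flp_d L30990) (flp_i L30611) L31405
theorem L31417 : sm gc N3497 = N3479 := ded_24_1 (flp_d L31227) L30169 (flp_d L29853) (flp_c L30603) L31405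
theorem L31419 : sm ge N3497 = N3447 := ded_30_2 (flp_d L30867) L29679 (flp_d L29358) (flp_e L30605) L31405
theorem L31421 : sm gh N3497 = N3429 := ded_33_2 (flp_d L30613) (flp_h L29362) (flp_d L29342) L30597 L31405
theorem L31423 : sm gd N3431 = N3498 := rfl
theorem L31425 : sm ga N3498 = N3439 := ded_11_1 (flp_d L30771) (flp_a L30648) L31423
theorem L31427 : sm gb N3498 = N3461 := ded_18_1 (flp_d L31036) (flp_b L30650) L31423
theorem L31429 : sm gf N3498 = N3480 := ded_31_2 (flp_d L31235) (flp_f L30656) L31423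
theorem L31431 : sm gg N3498 = N3441 := ded_32_2 (flp_d L30794) (flp_g L30658) L31423
theorem L31433 : sm gi N3498 = N3434 := ded_34_2 (flp_d L30696) (flp_i L30660) L31423
theorem L31435 : sm gc N3498 = N3487 := ded_24_1 (flp_d L31286) L30337 (flp_d L29431) (flp_c L30652) L31423
theorem L31437 : sm ge N3498 = N3486 := ded_30_2 (flp_d L31279) L30331 (flp_d L29552) (flp_e L30654) L31423
theorem L31439 : sm gh N3498 = N3498 := ded_33_2 (flp_d L31423) (flp_h L30646) L29401 L30646 L31423
theorem L31440 : sm gd N3432 = N3499 := rfl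
theorem L31442 : sm ga N3499 = N3441 := ded_11_1 (flp_d L30794) (flp_a L30664) L31440
theorem L31444 : sm gb N3499 = N3457 := ded_18_1 (flp_d L30990) (flp_b L30666) L31440
theorem L31446 : sm gf N3499 = N3483 := ded_31_2 (flp_d L31264) (flp_f L30672) L31440
theorem L31448 : sm gg N3499 = N3439 := ded_32_2 (flp_d L30771) (flp_g L30674) L31440
theorem L31450 : sm gi N3499 = N3436 := ded_34_2 (flp_d L30728) (flp_i L30676) L31440
theorem L31452 : sm gc N3499 = N3482 := ded_24_1 (flp_d L31257) L30250 (flp_d L29552) (flp_c L30668) L31440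
theorem L31454 : sm ge N3499 = N3464 := ded_30_2 (flp_d L31073) L29986 (flp_d L29431) (flp_e L30670) L31440
theorem L31456 : sm gh N3499 = N3499 := ded_33_2 (flp_d L31440) (flp_h L30662) L29416 L30662 L31440
theorem L31457 : sm gd N3435 = N3500 := rfl
theorem L31459 : sm ga N3500 = N3447 := ded_11_1 (flp_d L30867) (flp_a L30714) L31457
theorem L31461 : sm gb N3500 = N3453 := ded_18_1 (flp_d L30941) (flp_b L30716) L31457
theorem L31463 : sm gf N3500 = N3436 := ded_31_2 (flp_d L30728) (flp_f L30722) L31457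
theorem L31465 : sm gg N3500 = N3479 := ded_32_2 (flp_d L31227) (flp_g L30724) L31457
theorem L31467 : sm gi N3500 = N3483 := ded_34_2 (flp_d L31264) (flp_i L30726) L31457
theorem L31469 : sm gc N3500 = N3444 := ded_24_1 (flp_d L30833) L29649 (flp_d L29625) (flp_c L30718) L31457
theorem L31471 : sm ge N3500 = N3455 := ded_30_2 (flp_d L30968) L29813 (flp_d L29768) (flp_e L30720) L31457
theorem L31473 : sm gh N3500 = N3437 := ded_33_2 (flp_d L30740) (flp_h L29503) (flp_d L29485) L30712 L31457
theorem L31475 : sm gd N3438 = N3501 := rfl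
theorem L31477 : sm ga N3501 = N3471 := ded_11_1 (flp_d L31152) (flp_a L30757) L31475
theorem L31479 : sm gb N3501 = N3439 := ded_18_1 (flp_d L30771) (flp_b L30759) L31475
theorem L31481 : sm gf N3501 = N3482 := ded_31_2 (flp_d L31257) (flp_f L30765) L31475
theorem L31483 : sm gg N3501 = N3457 := ded_32_2 (flp_d L30990) (flp_g L30767) L31475
theorem L31485 : sm gi N3501 = N3444 := ded_34_2 (flp_d L30833) (flp_i L30769) L31475
theorem L31487 : sm gc N3501 = N3483 := ded_24_1 (flp_d L31264) L30263 (flp_d L29865) (flp_c L30761) L31475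
theorem L31489 : sm ge N3501 = N3485 := ded_30_2 (flp_d L31274) (flp_e L30686) L30692 (flp_e L30763) L31475
theorem L31491 : sm gh N3501 = N3501 := ded_33_2 (flp_d L31475) (flp_h L30755) L29564 L30755 L31475
theorem L31492 : sm ge N3439 = N3502 := rfl
theorem L31494 : sm ga N3502 = N3486 := ded_12_1 (flp_e L31437) L31425 L31492
theorem L31496 : sm gb N3502 = N3485 := ded_19_1 (flp_e L31489) L31479 L31492
theorem L31498 : sm gg N3502 = N3464 := ded_36_2 (flp_e L31454) L31448 L31492
theorem L31500 : sm gh N3502 = N3502 := ded_37_2 (flp_e L31492) L30777 L31492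
theorem L31501 : sm gi N3502 = N3445 := ded_38_2 (flp_e L30841) (flp_i L30775) L31492
theorem L31503 : sm gd N3502 = N3463 := ded_30_1 L31065 (flp_d L30642) L30636 L30771 L31492
theorem L31505 : sm gf N3484 = N3502 := ded_45_3 (flp_e L31492) (flp_d L30771) (flp_b L30759) L30761 L29865 (flp_i L29627) (flp_h L29617) L27872 L25661 L23349 (flp_d L23379) L23377 L21680 L21681 (flp_i L19368) (flp_h L17215) L15299 L15302 (flp_e L17203) (flp_d L19314) (flp_b L21020) L21022 L21023 L18818 (flp_h L20332) (flp_d L22491) (flp_f L24013) L26339 L26343 L26341 L24017 L21664 L21692 L24082 L26436 (flp_f L28582) (flp_e L29527) (flp_d L29518) (flp_b L29366) L29368 L28047 L26590 (flp_h L26584) L24315 L22266 L20017 L17770 L17768 L15814 L14296 (flp_i L12787) (flp_h L10966) L9193 L7606 L7603 (flp_d L7662) (flp_b L9247) L9249 L9250 L7647 (flp_h L9100) (flp_d L10839) L10841 (flp_e L10723) L10727 L10721 L9041 L9046 L10764 L10773 L9128 (flp_f L8813) (flp_e L10300) (flp_d L11967) (flp_b L13622) (flp_c L15297) L15299 L15300 (flp_h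 L16347) (flp_d L18297) L18295 L20455 (flp_d L22497) (flp_b L24783) (flp_c L26797) L26799 L28849 L30281 L31269
theorem L31507 : sm gd N3440 = N3503 := rfl
theorem L31509 : sm ga N3503 = N3483 := ded_11_1 (flp_d L31264) (flp_a L30780) L31507
theorem L31511 : sm gb N3503 = N3464 := ded_18_1 (flp_d L31073) (flp_b L30782) L31507
theorem L31513 : sm gf N3503 = N3441 := ded_31_2 (flp_d L30794) (flp_f L30788) L31507
theorem L31515 : sm gg N3503 = N3485 := ded_32_2 (flp_d L31274) (flp_g L30790) L31507
theorem L31517 : sm gi N3503 = N3447 := ded_34_2 (flp_d L30867) (flp_i L30792) L31507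
theorem L31519 : sm gc N3503 = N3471 := ded_24_1 (flp_d L31152) (flp_c L30569) L30577 (flp_c L30784) L31507
theorem L31521 : sm ge N3503 = N3457 := ded_30_2 (flp_d L30990) L29873 (flp_d L30210) (flp_e L30786) L31507
theorem L31523 : sm gh N3503 = N3503 := ded_33_2 (flp_d L31507) (flp_h L30778) L29587 L30778 L31507
theorem L31524 : sm gc N3441 = N3504 := rfl
theorem L31526 : sm ga N3504 = N3482 := ded_10_1 (flp_c L31452) L31442 L31524
theorem L31528 : sm gf N3504 = N3471 := ded_26_2 (flp_c L31519) L31513 L31524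
theorem L31530 : sm gg N3504 = N3487 := ded_27_2 (flp_c L31435) L31431 L31524
theorem L31532 : sm gh N3504 = N3504 := ded_28_2 (flp_c L31524) L30800 L31524
theorem L31533 : sm gi N3504 = N3448 := ded_29_2 (flp_c L30875) (flp_i L30798) L31524
theorem L31535 : sm gd N3504 = N3470 := ded_24_2 L31142 (flp_d L30642) L30634 L30794 L31524
theorem L31537 : sm gb N3473 = N3504 := ded_45_6 (flp_c L31524) (flp_d L30794) L29600 (flp_h L27944) L25703 (flp_f L25742) L25740 L23418 L22256 L20324 L18350 (flp_i L18347) L16326 L14825 (flp_f L13173) (flp_e L11385) (flp_d L9643) L8031 L8032 L6488 (flp_i L7736) L7735 L7732 L7733 L9335 L11090 L11094 (flp_c L11158) L11160 (flp_i L11156) (flp_h L9363) (flp_d L7746) L7752 L7757 (flp_d L9361) (flp_b L11118) (flp_c L12935) (flp_d L13984) (flp_i L15567) L17469 L17479 L16015 (flp_e L15250) L17137 (flp_b L19137) (flp_c L21265) L21269 L23594 L25911 L28080 (flp_f L29754) (flp_e L30430) (flp_d L30419) L29097 L29098 (flp_d L29136) L29138 (flp_h L29123) L27267 L25357 (flp_e L27489) (flp_d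 L29311) L29307 L27678 L25703 (flp_i L23391) L21100 (flp_d L23365) L25691 L25697 L24556 L22230 L20301 (flp_d L20470) L22694 L24925 (flp_d L25597) L25595 L24491 L24492 L22704 (flp_c L24920) L27108 L27110 (flp_h L29005) (flp_d L29003) (flp_f L29001) (flp_e L30087) L31173
theorem L31539 : sm gd N3442 = N3505 := rfl
theorem L31541 : sm ga N3505 = N3485 := ded_11_1 (flp_d L31274) (flp_a L30803) L31539
theorem L31543 : sm gb N3505 = N3466 := ded_18_1 (flp_d L31089) (flp_b L30805) L31539
theorem L31545 : sm gf N3505 = N3481 := ded_31_2 (flp_d L31246) (flp_f L30811) L31539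
theorem L31547 : sm gg N3505 = N3483 := ded_32_2 (flp_d L31264) (flp_g L30813) L31539
theorem L31549 : sm gi N3505 = N3479 := ded_34_2 (flp_d L31227) (flp_i L30815) L31539
theorem L31551 : sm gc N3505 = N3457 := ded_24_1 (flp_d L30990) L29871 (flp_d L29768) (flp_c L30807) L31539
theorem L31553 : sm ge N3505 = N3471 := ded_30_2 (flp_d L31152) L30066 (flp_d L29625) (flp_e L30809) L31539
theorem L31555 : sm gh N3505 = N3505 := ded_33_2 (flp_d L31539) (flp_h L30801) L29610 L30801 L31539
theorem L31556 : sm gd N3443 = N3506 := rfl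
theorem L31558 : sm ga N3506 = N3444 := ded_11_1 (flp_d L30833) (flp_a L30819) L31556
theorem L31560 : sm gb N3506 = N3460 := ded_18_1 (flp_d L31022) (flp_b L30821) L31556
theorem L31562 : sm gf N3506 = N3448 := ded_31_2 L30883 (flp_f L30827) L31556
theorem L31564 : sm gg N3506 = N3455 := ded_32_2 (flp_d L30968) (flp_g L30829) L31556
theorem L31566 : sm gi N3506 = N3471 := ded_34_2 (flp_d L31152) (flp_i L30831) L31556
theorem L31568 : sm gc N3506 = N3447 := ded_24_1 (flp_d L30867) (flp_c L30684) L30692 (flp_c L30823) L31556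
theorem L31570 : sm ge N3506 = N3479 := ded_30_2 (flp_d L31227) L30171 (flp_d L29865) (flp_e L30825) L31556
theorem L31572 : sm gh N3506 = N3450 := ded_33_2 L30913 (flp_h L29720) (flp_d L29637) L30817 L31556
theorem L31574 : sm ge N3444 = N3507 := rfl
theorem L31576 : sm ga N3507 = N3479 := ded_12_1 (flp_e L31570) L31558 L31574
theorem L31578 : sm gb N3507 = N3445 := ded_19_1 (flp_e L30841) (flp_b L30835) L31574
theorem L31580 : sm gc N3507 = N3455 := ded_25_1 (flp_e L31471) L31469 L31574
theorem L31582 : sm gg N3507 = N3447 := ded_36_2 (flp_e L31419) L31413 L31574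
theorem L31584 : sm gh N3507 = N3449 := ded_37_2 L30898 (flp_h L30839) L31574
theorem L31586 : sm gi N3507 = N3485 := ded_38_2 (flp_e L31489) L31485 L31574
theorem L31588 : sm gd N3507 = N3446 := ded_30_1 L30859 (flp_d L30577) L30571 L30833 L31574
theorem L31590 : sm gf N3507 = N3456 := ded_35_2 L30980 (flp_f L31191) L31189 (flp_f L30837) L31574
theorem L31592 : sm gf N3445 = N3508 := rfl
theorem L31594 : sm ga N3508 = N3488 := ded_13_1 L31297 (flp_a L30843) L31592
theorem L31596 : sm gb N3508 = N3456 := ded_20_1 (flp_f L31590) L31578 L31592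
theorem L31598 : sm gd N3508 = N3467 := ded_31_1 L31112 (flp_d L30849) L31592
theorem L31600 : sm gh N3508 = N3452 := ded_40_2 (flp_f L30928) (flp_h L30847) L31592
theorem L31602 : sm gi N3508 = N3484 := ded_41_2 L31505 L31501 L31592
theorem L31604 : sm ge N3508 = N3476 := ded_35_1 L31199 (flp_e L30304) (flp_f L29655) L30841 L31592
theorem L31606 : sm gg N3508 = N3468 := ded_39_2 L31122 L30033 (flp_f L30104) (flp_g L30845) L31592
theorem L31608 : sm gb N3448 = N3509 := rfl
theorem L31610 : sm gd N3509 = N3459 := ded_18_2 L31010 (flp_d L30883) L31608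
theorem L31612 : sm gf N3509 = N3460 := ded_20_2 (flp_b L31560) L31562 L31608
theorem L31614 : sm gg N3509 = N3488 := ded_21_2 L31295 (flp_g L30879) L31608
theorem L31616 : sm gh N3509 = N3451 := ded_22_2 (flp_b L30915) (flp_h L30881) L31608
theorem L31618 : sm gi N3509 = N3473 := ded_23_2 L31537 L31533 L31608
theorem L31620 : sm ga N3509 = N3468 := ded_9_1 L31120 L30240 (flp_b L30291) (flp_a L30877) L31608
theorem L31622 : sm gc N3509 = N3476 := ded_17_2 (flp_b L31197) (flp_c L30108) (flp_b L29685) L30875 L31608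
theorem L31624 : sm gc N3458 = N3510 := rfl
theorem L31626 : sm ga N3510 = N3465 := ded_10_1 (flp_c L31080) (flp_a L30997) L31624
theorem L31628 : sm ge N3510 = N3481 := ded_25_2 L31254 (flp_e L31003) L31624
theorem L31630 : sm gg N3510 = N3474 := ded_27_2 (flp_c L31178) (flp_g L30999) L31624
theorem L31632 : sm gh N3510 = N3510 := ded_28_2 (flp_c L31624) L31005 L31624
theorem L31633 : sm gi N3510 = N3462 := ded_29_2 (flp_c L31047) (flp_i L31001) L31624
theorem L31635 : sm gd N3510 = N3469 := ded_24_2 (flp_c L31126) (flp_d L30031) (flp_c L29881) L30995 L31624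
theorem L31637 : sm gc N3461 = N3511 := rfl
theorem L31639 : sm ga N3511 = N3474 := ded_10_1 (flp_c L31178) (flp_a L31038) L31637
theorem L31641 : sm ge N3511 = N3480 := ded_25_2 L31243 (flp_e L31044) L31637
theorem L31643 : sm gg N3511 = N3465 := ded_27_2 (flp_c L31080) (flp_g L31040) L31637
theorem L31645 : sm gh N3511 = N3511 := ded_28_2 (flp_c L31637) L31046 L31637
theorem L31646 : sm gi N3511 = N3469 := ded_29_2 (flp_c L31126) (flp_i L31042) L31637
theorem L31648 : sm gd N3511 = N3462 := ded_24_2 (flp_c L31047) (flp_d L29929) (flp_c L29921) L31036 L31637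
theorem L31650 : sm gc N3464 = N3512 := rfl
theorem L31652 : sm ge N3512 = N3482 := ded_25_2 (flp_c L31452) L31454 L31650
theorem L31654 : sm gf N3512 = N3465 := ded_26_2 (flp_c L31080) (flp_f L31075) L31650
theorem L31656 : sm gh N3512 = N3512 := ded_28_2 (flp_c L31650) L31079 L31650
theorem L31657 : sm gi N3512 = N3475 := ded_29_2 (flp_c L31187) (flp_i L31077) L31650
theorem L31659 : sm gb N3512 = N3474 := ded_17_1 (flp_c L31178) (flp_b L31154) (flp_c L31519) L31511 L31650
theorem L31661 : sm gd N3512 = N3476 := ded_24_2 (flp_c L31622) L31610 L31012 L31073 L31650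
theorem L31663 : sm gb N3465 = N3513 := rfl
theorem L31665 : sm gd N3513 = N3475 := ded_18_2 L31195 (flp_d L31087) L31663
theorem L31667 : sm ge N3513 = N3484 := ded_19_2 L31271 (flp_e L31082) L31663
theorem L31669 : sm gf N3513 = N3474 := ded_20_2 (flp_b L31659) L31654 L31663
theorem L31671 : sm gh N3513 = N3513 := ded_22_2 (flp_b L31663) L31084 L31663
theorem L31672 : sm gi N3513 = N3476 := ded_23_2 (flp_b L31197) (flp_i L31085) L31663
theorem L31674 : sm gc N3513 = N3473 := ded_17_2 L31537 (flp_c L31524) L30796 L31080 L31663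
theorem L31676 : sm gc N3468 = N3514 := rfl
theorem L31678 : sm ga N3514 = N3476 := ded_10_1 (flp_c L31622) L31620 L31676
theorem L31680 : sm gf N3514 = N3469 := ded_26_2 (flp_c L31126) (flp_f L31122) L31676
theorem L31682 : sm gh N3514 = N3477 := ded_28_2 (flp_c L31203) (flp_h L31124) L31676
theorem L31684 : sm gb N3514 = N3489 := ded_17_1 (flp_c L31301) L30356 (flp_c L30242) (flp_b L31120) L31676
theorem L31686 : sm ge N3488 = N3514 := ded_12_0 L31678 (flp_e L31604) L31594
theorem L31688 : sm ge N3468 = N3515 := rfl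
theorem L31690 : sm gb N3515 = N3469 := ded_19_1 L31130 (flp_b L31120) L31688
theorem L31692 : sm gc N3515 = N3488 := ded_25_1 L31686 (flp_c L31676) L31688
theorem L31694 : sm gg N3515 = N3476 := ded_36_2 (flp_e L31604) L31606 L31688
theorem L31696 : sm gh N3515 = N3478 := ded_37_2 (flp_e L31215) (flp_h L31124) L31688
theorem L31698 : sm gf N3515 = N3489 := ded_35_2 L31303 L30362 (flp_e L30035) (flp_f L31122) L31688
theorem L31700 : sm gd N3472 = N3516 := rfl
theorem L31702 : sm ga N3516 = N3484 := ded_11_1 (flp_d L31269) (flp_a L31159) L31700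
theorem L31704 : sm gb N3516 = N3487 := ded_18_1 (flp_d L31286) (flp_b L31161) L31700
theorem L31706 : sm gf N3516 = N3486 := ded_31_2 (flp_d L31279) (flp_f L31167) L31700
theorem L31708 : sm gg N3516 = N3473 := ded_32_2 (flp_d L31173) (flp_g L31169) L31700
theorem L31710 : sm gi N3516 = N3488 := ded_34_2 (flp_d L31293) (flp_i L31171) L31700
theorem L31712 : sm gh N3516 = N3516 := ded_33_2 (flp_d L31700) (flp_h L31157) L30076 L31157 L31700
theorem L31713 : sm ge N3473 = N3517 := rfl
theorem L31715 : sm gc N3517 = N3484 := ded_25_1 (flp_e L31667) L31674 L31713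
theorem L31717 : sm gh N3517 = N3517 := ded_37_2 (flp_e L31713) L31177 L31713
theorem L31718 : sm gd N3517 = N3489 := ded_30_1 L31303 (flp_d L30360) (flp_e L30087) L31173 L31713
theorem L31720 : sm gc N3486 = N3518 := rfl
theorem L31722 : sm ge N3518 = N3487 := ded_25_2 (flp_c L31435) L31437 L31720
theorem L31724 : sm gh N3518 = N3518 := ded_28_2 (flp_c L31720) L31285 L31720
theorem L31725 : sm gi N3518 = N3489 := ded_29_2 (flp_c L31301) (flp_i L31283) L31720
theorem L31727 : sm ge N3490 = N3519 := rfl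
theorem L31729 : sm ga N3519 = N3518 := ded_12_1 L31722 (flp_a L31309) L31727
theorem L31731 : sm gb N3519 = N3510 := ded_19_1 L31628 (flp_b L31311) L31727
theorem L31733 : sm gc N3519 = N3502 := ded_25_1 (flp_e L31492) (flp_c L31319) L31727
theorem L31735 : sm gg N3519 = N3512 := ded_36_2 L31652 (flp_g L31315) L31727
theorem L31737 : sm gh N3519 = N3519 := ded_37_2 (flp_e L31727) L31321 L31727
theorem L31738 : sm gi N3519 = N3493 := ded_38_2 (flp_e L31350) (flp_i L31317) L31727
theorem L31740 : sm gd N3519 = N3515 := ded_30_1 (flp_e L31688) (flp_d L31118) (flp_e L30471) L31307 L31727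
theorem L31742 : sm gf N3519 = N3517 := ded_35_2 (flp_e L31713) L31175 (flp_e L31099) (flp_f L31313) L31727
theorem L31744 : sm gc N3491 = N3520 := rfl
theorem L31746 : sm ga N3520 = N3512 := ded_10_1 (flp_c L31650) (flp_a L31324) L31744
theorem L31748 : sm ge N3520 = N3504 := ded_25_2 (flp_c L31524) (flp_e L31334) L31744
theorem L31750 : sm gf N3520 = N3510 := ded_26_2 (flp_c L31624) (flp_f L31328) L31744
theorem L31752 : sm gg N3520 = N3518 := ded_27_2 (flp_c L31720) (flp_g L31330) L31744
theorem L31754 : sm gh N3520 = N3520 := ded_28_2 (flp_c L31744) L31336 L31744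
theorem L31755 : sm gi N3520 = N3494 := ded_29_2 (flp_c L31362) (flp_i L31332) L31744
theorem L31757 : sm gb N3520 = N3517 := ded_17_1 L31715 L31271 (flp_c L30963) (flp_b L31326) L31744
theorem L31759 : sm gd N3520 = N3514 := ded_24_2 (flp_c L31676) (flp_d L31118) (flp_c L30485) L31322 L31744
theorem L31761 : sm gc N3492 = N3521 := rfl
theorem L31763 : sm ga N3521 = N3513 := ded_10_1 L31674 (flp_a L31339) L31761
theorem L31765 : sm gf N3521 = N3511 := ded_26_2 (flp_c L31637) (flp_f L31343) L31761
theorem L31767 : sm gg N3521 = N3517 := ded_27_2 L31715 (flp_g L31345) L31761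
theorem L31769 : sm gh N3521 = N3521 := ded_28_2 (flp_c L31761) L31349 L31761
theorem L31770 : sm gi N3521 = N3514 := ded_29_2 (flp_c L31676) (flp_i L31347) L31761
theorem L31772 : sm gb N3521 = N3518 := ded_17_1 (flp_c L31720) L31281 (flp_c L31243) (flp_b L31341) L31761
theorem L31774 : sm gd N3521 = N3494 := ded_24_2 (flp_c L31362) (flp_d L30525) (flp_c L30501) L31337 L31761
theorem L31776 : sm ge N3516 = N3521 := ded_12_0 L31763 L31667 (flp_a L31702)
theorem L31778 : sm ge N3492 = N3522 := rfl
theorem L31780 : sm ga N3522 = N3517 := ded_12_1 (flp_e L31713) (flp_a L31339) L31778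
theorem L31782 : sm gb N3522 = N3511 := ded_19_1 L31641 (flp_b L31341) L31778
theorem L31784 : sm gc N3522 = N3516 := ded_25_1 L31776 (flp_c L31761) L31778
theorem L31786 : sm gg N3522 = N3513 := ded_36_2 L31667 (flp_g L31345) L31778
theorem L31788 : sm gh N3522 = N3522 := ded_37_2 (flp_e L31778) L31349 L31778
theorem L31789 : sm gi N3522 = N3515 := ded_38_2 (flp_e L31688) (flp_i L31347) L31778
theorem L31791 : sm gd N3522 = N3493 := ded_30_1 (flp_e L31350) (flp_d L30511) (flp_e L30503) L31337 L31778
theorem L31793 : sm gf N3522 = N3518 := ded_35_2 L31722 L31288 (flp_e L31044) (flp_f L31343) L31778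
theorem L31795 : sm gf N3493 = N3523 := rfl
theorem L31797 : sm ga N3523 = N3515 := ded_13_1 L31698 (flp_a L31352) L31795
theorem L31799 : sm gb N3523 = N3494 := ded_20_1 L31368 (flp_b L31354) L31795
theorem L31801 : sm gc N3523 = N3508 := ded_26_1 (flp_f L31592) (flp_c L31356) L31795
theorem L31803 : sm gd N3523 = N3518 := ded_31_1 (flp_f L31793) L31791 L31795
theorem L31805 : sm gh N3523 = N3495 := ded_40_2 L31379 (flp_h L31360) L31795
theorem L31807 : sm gi N3523 = N3517 := ded_41_2 (flp_f L31742) L31738 L31795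
theorem L31809 : sm ge N3523 = N3509 := ded_35_1 L31612 L31030 (flp_f L30517) L31350 L31795
theorem L31811 : sm gg N3523 = N3514 := ded_39_2 L31680 L31132 (flp_f L31191) (flp_g L31358) L31795

end Cfsg.Agent.Helper28.FiaA
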