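import Cfsg.Agent.Helper28.FiaC0

/-!
# The Fi₂₂ presentation, cosets of the subgroup generated by a, c, d, e, f, g, h, i, (abcdeh)⁵: the action of the generator a (helper28; generated)
-/

set_option autoImplicit false
set_option maxRecDepth 100000
set_option linter.unusedSimpArgs false
set_option linter.constructorNameAsVariable false

noncomputable section

namespace Cfsg.Agent.Helper28.FiaA

open Cfsg.Spor Cfsg.Spor.Fi22 Cfsg.Agent.Helper28.CosetTable

theorem ce_a_0 : ∀ r, r < 64 → sm ga (Qf (0 + r)) = Qf (tab Gen.a (0 + r)) :=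
  edges_tab (sm ga) Qf (tab Gen.a) 0 [(0, 0), (1, 2), (2, 1), (3, 4), (4, 3), (5, 7), (6, 6), (7, 5), (8, 11), (9, 12), (10, 10), (11, 8), (12, 9), (13, 19), (14, 20), (15, 21), (16, 16), (17, 17), (18, 18), (19, 13), (20, 14), (21, 15), (22, 31), (23, 32), (24, 33), (25, 34), (26, 26), (27, 27), (28, 28), (29, 29), (30, 30), (31, 22), (32, 23), (33, 24), (34, 25), (35, 49), (36, 50), (37, 51), (38, 52), (39, 53), (40, 40), (41, 41), (42, 42), (43, 43), (44, 44), (45, 45), (46, 46), (47, 47), (48, 48), (49, 35), (50, 36), (51, 37), (52, 38), (53, 39), (54, 71), (55, 72), (56, 73), (57, 74), (58, 75), (59, 59), (60, 76), (61, 77), (62, 62), (63, 63)]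
    ⟨e3 q0 L0 q0, e3 q1 L16 q2, e3 q2 (flp_a L16) q1, e3 q3 (flp_a L35) q4, e3 q4 L35 q3, e3 q5 (flp_a L60) q7, e3 q6 L56 q6, e3 q7 L60 q5, e3 q8 (flp_a L90) q11, e3 q9 (flp_a L98) q12, e3 q10 L82 q10, e3 q11 L90 q8, e3 q12 L98 q9, e3 q13 (flp_a L152) q19, e3 q14 (flp_a L160) q20, e3 q15 (flp_a L168) q21, e3 q16 L128 q16, e3 q17 L136 q17, e3 q18 L144 q18, e3 q19 L152 q13, e3 q20 L160 q14, e3 q21 L168 q15, e3 q22 (flp_a L247) q31, e3 q23 (flp_a L256) q32, e3 q24 (flp_a L264) q33, e3 q25 (flp_a L271) q34, e3 q26 L206 q26, e3 q27 L214 q27, e3 q28 L222 q28, e3 q29 L230 q29, e3 q30 L238 q30, e3 q31 L247 q22, e3 q32 L256 q23, e3 q33 L264 q24, e3 q34 L271 q25, e3 q35 (flp_a L395) q49, e3 q36 (flp_a L404) q50, e3 q37 (flp_a L411) q51, e3 q38 (flp_a L420) q52, e3 q39 (flp_a L429) q53, e3 q40 L315 q40, e3 q41 L323 q41, e3 q42 L331 q42, e3 q43 L342 q43, e3 q44 L351 q44, e3 q45 L360 q45, e3 q46 L369 q46, e3 q47 L377 q47, e3 q48 L386 q48, e3 q49 L395 q35, e3 q50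 L404 q36, e3 q51 L411 q37, e3 q52 L420 q38, e3 q53 L429 q39, e3 q54 (flp_a L580) q71, e3 q55 (flp_a L588) q72, e3 q56 (flp_a L598) q73, e3 q57 (flp_a L607) q74, e3 q58 (flp_a L614) q75, e3 q59 L476 q59, e3 q60 (flp_a L622) q76, e3 q61 (flp_a L632) q77, e3 q62 L494 q62, e3 q63 L503 q63, trivial⟩ (by decide +kernel)

theorem ce_a_1 : ∀ r, r < 64 → sm ga (Qf (64 + r)) = Qf (tab Gen.a (64 + r)) :=
  edges_tab (sm ga) Qf (tab Gen.a) 64 [(64, 64), (65, 65), (66, 66), (67, 67), (68, 68), (69, 69), (70, 70), (71, 54), (72, 55), (73, 56), (74, 57), (75, 58), (76, 60), (77, 61), (78, 98), (79, 99), (80, 100), (81, 81), (82, 101), (83, 102), (84, 103), (85, 104), (86, 86), (87, 105), (88, 88), (89, 89), (90, 90), (91, 91), (92, 92), (93, 93), (94, 94), (95, 95), (96, 96), (97, 97), (98, 78), (99, 79), (100, 80), (101, 82), (102, 83), (103, 84), (104, 85), (105, 87), (106, 106), (107, 126), (108, 127), (109, 128), (110, 129), (111, 130), (112, 112), (113, 113),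 (114, 131), (115, 132), (116, 133), (117, 134), (118, 118), (119, 135), (120, 120), (121, 121), (122, 122), (123, 123), (124, 124), (125, 125), (126, 107), (127, 108)]
    ⟨e3 q64 L512 q64, e3 q65 L522 q65, e3 q66 L533 q66, e3 q67 L543 q67, e3 q68 L552 q68, e3 q69 L561 q69, e3 q70 L570 q70, e3 q71 L580 q54, e3 q72 L588 q55, e3 q73 L598 q56, e3 q74 L607 q57, e3 q75 L614 q58, e3 q76 L622 q60, e3 q77 L632 q61, e3 q78 (flp_a L813) q98, e3 q79 (flp_a L823) q99, e3 q80 (flp_a L831) q100, e3 q81 L666 q81, e3 q82 (flp_a L840) q101, e3 q83 (flp_a L849) q102, e3 q84 (flp_a L859) q103, e3 q85 (flp_a L867) q104, e3 q86 L697 q86, e3 q87 (flp_a L875) q105, e3 q88 L713 q88, e3 q89 L722 q89, e3 q90 L732 q90, e3 q91 L743 q91, e3 q92 L754 q92, e3 q93 L764 q93, e3 q94 L774 q94, e3 q95 L784 q95, e3 q96 L793 q96, e3 q97 L803 q97, e3 q98 L813 q78, e3 q99 L823 q79, e3 q100 L831 q80, e3 q101 L840 q82, e3 q102 L849 q83, e3 q103 L859 q84, e3 q104 L867 q85, e3 q105 L875 q87,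 e3 q106 L890 q106, e3 q107 (flp_a L1053) q126, e3 q108 (flp_a L1063) q127, e3 q109 (flp_a L1074) q128, e3 q110 (flp_a L1082) q129, e3 q111 (flp_a L1091) q130, e3 q112 L932 q112, e3 q113 L940 q113, e3 q114 (flp_a L1100) q131, e3 q115 (flp_a L1108) q132, e3 q116 (flp_a L1118) q133, e3 q117 (flp_a L1128) q134, e3 q118 L975 q118, e3 q119 (flp_a L1136) q135, e3 q120 L990 q120, e3 q121 L1000 q121, e3 q122 L1012 q122, e3 q123 L1022 q123, e3 q124 L1033 q124, e3 q125 L1043 q125, e3 q126 L1053 q107, e3 q127 L1063 q108, trivial⟩ (by decide +kernel)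

theorem ce_a_2 : ∀ r, r < 64 → sm ga (Qf (128 + r)) = Qf (tab Gen.a (128 + r)) :=
  edges_tab (sm ga) Qf (tab Gen.a) 128 [(128, 109), (129, 110), (130, 111), (131, 114), (132, 115), (133, 116), (134, 117), (135, 119), (136, 136), (137, 137), (138, 159), (139, 160), (140, 161), (141, 162), (142, 163), (143, 164), (144, 144), (145, 145), (146, 146), (147, 165), (148, 166), (149, 167), (150, 168), (151, 169), (152, 152), (153, 170), (154, 154), (155, 155), (156, 156), (157, 157), (158, 158), (159, 138), (160, 139), (161, 140), (162, 141), (163, 142), (164, 143), (165, 147), (166, 148), (167, 149), (168, 150), (169, 151), (170, 153), (171, 171), (172, 172), (173, 173), (174, 174), (175, 199), (176, 200), (177, 201), (178, 202), (179, 203), (180, 204), (181, 205), (182, 206), (183, 183), (184, 184), (185, 185), (186, 186), (187, 187), (188, 207), (189, 208), (190, 209), (191, 210)]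
    ⟨e3 q128 L1074 q109, e3 q129 L1082 q110, e3 q130 L1091 q111, e3 q131 L1100 q114, e3 q132 L1108 q115, e3 q133 L1118 q116, e3 q134 L1128 q117, e3 q135 L1136 q119, e3 q136 L1145 q136, e3 q137 L1154 q137, e3 q138 (flp_a L1336) q159, e3 q139 (flp_a L1345) q160, e3 q140 (flp_a L1355) q161, e3 q141 (flp_a L1366) q162, e3 q142 (flp_a L1377) q163, e3 q143 (flp_a L1386) q164, e3 q144 L1209 q144, e3 q145 L1216 q145, e3 q146 L1225 q146, e3 q147 (flp_a L1395) q165, e3 q148 (flp_a L1404) q166, e3 q149 (flp_a L1414) q167, e3 q150 (flp_a L1425) q168, e3 q151 (flp_a L1435) q169, e3 q152 L1269 q152, e3 q153 (flp_a L1443) q170, e3 q154 L1284 q154, e3 q155 L1294 q155, e3 q156 L1304 q156, e3 q157 L1315 q157, e3 q158 L1326 q158, e3 q159 L1336 q138, e3 q160 L1345 q139, e3 q161 L1355 q140, e3 q162 L1366 q141, e3 q163 L1377 q142, e3 q164 L1386 q143, e3 q165 L1395 q147, e3 q166 L1404 q148, e3 q167 L1414 q149, e3 q168 L1425 q150, e3 q169 L1435 q151, e3 q170 L1443 q153, e3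 q171 L1453 q171, e3 q172 L1461 q172, e3 q173 L1470 q173, e3 q174 L1480 q174, e3 q175 (flp_a L1675) q199, e3 q176 (flp_a L1684) q200, e3 q177 (flp_a L1694) q201, e3 q178 (flp_a L1705) q202, e3 q179 (flp_a L1716) q203, e3 q180 (flp_a L1728) q204, e3 q181 (flp_a L1739) q205, e3 q182 (flp_a L1748) q206, e3 q183 L1552 q183, e3 q184 L1559 q184, e3 q185 L1567 q185, e3 q186 L1576 q186, e3 q187 L1586 q187, e3 q188 (flp_a L1757) q207, e3 q189 (flp_a L1766) q208, e3 q190 (flp_a L1774) q209, e3 q191 (flp_a L1781) q210, trivial⟩ (by decide +kernel)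

theorem ce_a_3 : ∀ r, r < 64 → sm ga (Qf (192 + r)) = Qf (tab Gen.a (192 + r)) :=
  edges_tab (sm ga) Qf (tab Gen.a) 192 [(192, 211), (193, 193), (194, 194), (195, 212), (196, 196), (197, 197), (198, 198), (199, 175), (200, 176), (201, 177), (202, 178), (203, 179), (204, 180), (205, 181), (206, 182), (207, 188), (208, 189), (209, 190), (210, 191), (211, 192), (212, 195), (213, 213), (214, 214), (215, 215), (216, 216), (217, 217), (218, 218), (219, 219), (220, 249), (221, 250), (222, 251), (223, 252), (224, 253), (225, 254), (226, 255), (227, 256), (228, 257), (229, 258), (230, 230), (231, 231), (232, 232), (233, 233), (234, 234), (235, 235), (236, 236), (237, 259), (238, 260), (239, 261), (240, 262), (241, 263), (242, 307), (243, 243), (244, 244), (245, 265), (246, 246), (247, 247), (248, 248), (249, 220), (250, 221), (251, 222), (252, 223), (253, 224), (254, 225), (255, 226)]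
    ⟨e3 q192 (flp_a L1789) q211, e3 q193 L1621 q193, e3 q194 L1629 q194, e3 q195 (flp_a L1797) q212, e3 q196 L1644 q196, e3 q197 L1655 q197, e3 q198 L1666 q198, e3 q199 L1675 q175, e3 q200 L1684 q176, e3 q201 L1694 q177, e3 q202 L1705 q178, e3 q203 L1716 q179, e3 q204 L1728 q180, e3 q205 L1739 q181, e3 q206 L1748 q182, e3 q207 L1757 q188, e3 q208 L1766 q189, e3 q209 L1774 q190, e3 q210 L1781 q191, e3 q211 L1789 q192, e3 q212 L1797 q195, e3 q213 L1806 q213, e3 q214 L1814 q214, e3 q215 L1822 q215, e3 q216 L1831 q216, e3 q217 L1841 q217, e3 q218 L1851 q218, e3 q219 L1862 q219, e3 q220 (flp_a L2087) q249, e3 q221 (flp_a L2096) q250, e3 q222 (flp_a L2106) q251, e3 q223 (flp_a L2117) q252, e3 q224 (flp_a L2127) q253, e3 q225 (flp_a L2136) q254, e3 q226 (flp_a L2148) q255, e3 q227 (flp_a L2156) q256, e3 q228 (flp_a L2166) q257, e3 q229 (flp_a L2175) q258, e3 q230 L1942 q230, e3 q231 L1950 q231, e3 q232 L1959 q232, e3 q233 L1967 q233, e3 q234 L1974 q234, e3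 q235 L1981 q235, e3 q236 L1990 q236, e3 q237 (flp_a L2184) q259, e3 q238 (flp_a L2194) q260, e3 q239 (flp_a L2202) q261, e3 q240 (flp_a L2210) q262, e3 q241 (flp_a L2218) q263, e3 q242 L2555 q307, e3 q243 L2034 q243, e3 q244 L2043 q244, e3 q245 (flp_a L2234) q265, e3 q246 L2058 q246, e3 q247 L2069 q247, e3 q248 L2079 q248, e3 q249 L2087 q220, e3 q250 L2096 q221, e3 q251 L2106 q222, e3 q252 L2117 q223, e3 q253 L2127 q224, e3 q254 L2136 q225, e3 q255 L2148 q226, trivial⟩ (by decide +kernel)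

theorem ce_a_4 : ∀ r, r < 64 → sm ga (Qf (256 + r)) = Qf (tab Gen.a (256 + r)) :=
  edges_tab (sm ga) Qf (tab Gen.a) 256 [(256, 227), (257, 228), (258, 229), (259, 237), (260, 238), (261, 239), (262, 240), (263, 241), (264, 334), (265, 245), (266, 266), (267, 267), (268, 268), (269, 269), (270, 270), (271, 271), (272, 272), (273, 273), (274, 274), (275, 275), (276, 276), (277, 277), (278, 314), (279, 315), (280, 316), (281, 317), (282, 318), (283, 319), (284, 320), (285, 321), (286, 322), (287, 323), (288, 324), (289, 325), (290, 368), (291, 291), (292, 292), (293, 293), (294, 294), (295, 295), (296, 296), (297, 297), (298, 298), (299, 299), (300, 327), (301, 328), (302, 329), (303, 387), (304, 331), (305, 332), (306, 333), (307, 242), (308, 308), (309, 309), (310, 310), (311, 311), (312, 312), (313, 397), (314, 278), (315, 279), (316, 280), (317, 281), (318, 282), (319, 283)]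
    ⟨e3 q256 L2156 q227, e3 q257 L2166 q228, e3 q258 L2175 q229, e3 q259 L2184 q237, e3 q260 L2194 q238, e3 q261 L2202 q239, e3 q262 L2210 q240, e3 q263 L2218 q241, e3 q264 L2796 q334, e3 q265 L2234 q245, e3 q266 L2244 q266, e3 q267 L2252 q267, e3 q268 L2261 q268, e3 q269 L2271 q269, e3 q270 L2279 q270, e3 q271 L2288 q271, e3 q272 L2298 q272, e3 q273 L2307 q273, e3 q274 L2315 q274, e3 q275 L2326 q275, e3 q276 L2334 q276, e3 q277 L2344 q277, e3 q278 (flp_a L2617) q314, e3 q279 (flp_a L2627) q315, e3 q280 (flp_a L2638) q316, e3 q281 (flp_a L2648) q317, e3 q282 (flp_a L2657) q318, e3 q283 (flp_a L2668) q319, e3 q284 (flp_a L2677) q320, e3 q285 (flp_a L2686) q321, e3 q286 (flp_a L2695) q322, e3 q287 (flp_a L2705) q323, e3 q288 (flp_a L2714) q324, e3 q289 (flp_a L2723) q325, e3 q290 L3069 q368, e3 q291 L2444 q291, e3 q292 L2451 q292, e3 q293 L2459 q293, e3 q294 L2467 q294, e3 q295 L2476 q295, e3 q296 L2484 q296, e3 q297 L2490 q297, e3 q298 L2498 q298, e3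 q299 L2506 q299, e3 q300 (flp_a L2739) q327, e3 q301 (flp_a L2748) q328, e3 q302 (flp_a L2756) q329, e3 q303 L3209 q387, e3 q304 (flp_a L2771) q331, e3 q305 (flp_a L2779) q332, e3 q306 (flp_a L2788) q333, e3 q307 (flp_a L2555) q242, e3 q308 L2564 q308, e3 q309 L2572 q309, e3 q310 L2580 q310, e3 q311 L2589 q311, e3 q312 L2599 q312, e3 q313 L3288 q397, e3 q314 L2617 q278, e3 q315 L2627 q279, e3 q316 L2638 q280, e3 q317 L2648 q281, e3 q318 L2657 q282, e3 q319 L2668 q283, trivial⟩ (by decide +kernel)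

theorem ce_a_5 : ∀ r, r < 64 → sm ga (Qf (320 + r)) = Qf (tab Gen.a (320 + r)) :=
  edges_tab (sm ga) Qf (tab Gen.a) 320 [(320, 284), (321, 285), (322, 286), (323, 287), (324, 288), (325, 289), (326, 414), (327, 300), (328, 301), (329, 302), (330, 420), (331, 304), (332, 305), (333, 306), (334, 264), (335, 335), (336, 336), (337, 337), (338, 338), (339, 339), (340, 340), (341, 341), (342, 342), (343, 343), (344, 344), (345, 345), (346, 346), (347, 347), (348, 348), (349, 349), (350, 350), (351, 351), (352, 398), (353, 399), (354, 400), (355, 401), (356, 402), (357, 403), (358, 404), (359, 405), (360, 406), (361, 407), (362, 465), (363, 409), (364, 410), (365, 411), (366, 469), (367, 413), (368, 290), (369, 369), (370, 370), (371, 371), (372, 372), (373, 373), (374, 374), (375, 375), (376, 483), (377, 377), (378, 378), (379, 379), (380, 380), (381, 381), (382, 415), (383, 416)]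
    ⟨e3 q320 L2677 q284, e3 q321 L2686 q285, e3 q322 L2695 q286, e3 q323 L2705 q287, e3 q324 L2714 q288, e3 q325 L2723 q289, e3 q326 L3449 q414, e3 q327 L2739 q300, e3 q328 L2748 q301, e3 q329 L2756 q302, e3 q330 L3500 q420, e3 q331 L2771 q304, e3 q332 L2779 q305, e3 q333 L2788 q306, e3 q334 (flp_a L2796) q264, e3 q335 L2806 q335, e3 q336 L2814 q336, e3 q337 L2823 q337, e3 q338 L2833 q338, e3 q339 L2841 q339, e3 q340 L2850 q340, e3 q341 L2859 q341, e3 q342 L2868 q342, e3 q343 L2878 q343, e3 q344 L2887 q344, e3 q345 L2895 q345, e3 q346 L2905 q346, e3 q347 L2914 q347, e3 q348 L2923 q348, e3 q349 L2930 q349, e3 q350 L2940 q350, e3 q351 L2950 q351, e3 q352 (flp_a L3300) q398, e3 q353 (flp_a L3309) q399, e3 q354 (flp_a L3319) q400, e3 q355 (flp_a L3329) q401, e3 q356 (flp_a L3340) q402, e3 q357 (flp_a L3350) q403, e3 q358 (flp_a L3360) q404, e3 q359 (flp_a L3369) q405, e3 q360 (flp_a L3379) q406, e3 q361 (flp_a L3389) q407, e3 q362 L3877 q465, e3 q363 (flp_a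 L3405) q409, e3 q364 (flp_a L3415) q410, e3 q365 (flp_a L3423) q411, e3 q366 L3905 q469, e3 q367 (flp_a L3441) q413, e3 q368 (flp_a L3069) q290, e3 q369 L3079 q369, e3 q370 L3086 q370, e3 q371 L3094 q371, e3 q372 L3104 q372, e3 q373 L3110 q373, e3 q374 L3119 q374, e3 q375 L3125 q375, e3 q376 L4011 q483, e3 q377 L3140 q377, e3 q378 L3146 q378, e3 q379 L3155 q379, e3 q380 L3161 q380, e3 q381 L3171 q381, e3 q382 (flp_a L3460) q415, e3 q383 (flp_a L3469) q416, trivial⟩ (by decide +kernel)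

theorem ce_a_6 : ∀ r, r < 64 → sm ga (Qf (384 + r)) = Qf (tab Gen.a (384 + r)) :=
  edges_tab (sm ga) Qf (tab Gen.a) 384 [(384, 494), (385, 418), (386, 419), (387, 303), (388, 499), (389, 422), (390, 423), (391, 391), (392, 392), (393, 393), (394, 394), (395, 395), (396, 505), (397, 313), (398, 352), (399, 353), (400, 354), (401, 355), (402, 356), (403, 357), (404, 358), (405, 359), (406, 360), (407, 361), (408, 521), (409, 363), (410, 364), (411, 365), (412, 525), (413, 367), (414, 326), (415, 382), (416, 383), (417, 531), (418, 385), (419, 386), (420, 330), (421, 536), (422, 389), (423, 390), (424, 424), (425, 425), (426, 426), (427, 427), (428, 428), (429, 429), (430, 430), (431, 431), (432, 432), (433, 433), (434, 434), (435, 435), (436, 436), (437, 437), (438, 438), (439, 439), (440, 440), (441, 441), (442, 442), (443, 443), (444, 564), (445, 445), (446, 446), (447, 447)]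
    ⟨e3 q384 L4093 q494, e3 q385 (flp_a L3485) q418, e3 q386 (flp_a L3493) q419, e3 q387 (flp_a L3209) q303, e3 q388 (flp_a L4125) q499, e3 q389 (flp_a L3518) q422, e3 q390 (flp_a L3527) q423, e3 q391 L3236 q391, e3 q392 L3244 q392, e3 q393 L3252 q393, e3 q394 L3261 q394, e3 q395 L3270 q395, e3 q396 L4195 q505, e3 q397 (flp_a L3288) q313, e3 q398 L3300 q352, e3 q399 L3309 q353, e3 q400 L3319 q354, e3 q401 L3329 q355, e3 q402 L3340 q356, e3 q403 L3350 q357, e3 q404 L3360 q358, e3 q405 L3369 q359, e3 q406 L3379 q360, e3 q407 L3389 q361, e3 q408 L4347 q521, e3 q409 L3405 q363, e3 q410 L3415 q364, e3 q411 L3423 q365, e3 q412 L4384 q525, e3 q413 L3441 q367, e3 q414 (flp_a L3449) q326, e3 q415 L3460 q382, e3 q416 L3469 q383, e3 q417 L4436 q531, e3 q418 L3485 q385, e3 q419 L3493 q386, e3 q420 (flp_a L3500) q330, e3 q421 (flp_a L4479) q536, e3 q422 L3518 q389, e3 q423 L3527 q390, e3 q424 L3536 q424, e3 q425 L3545 q425, e3 q426 L3556 q426, e3 q427 L3566 q427,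 e3 q428 L3576 q428, e3 q429 L3585 q429, e3 q430 L3594 q430, e3 q431 L3604 q431, e3 q432 L3613 q432, e3 q433 L3624 q433, e3 q434 L3631 q434, e3 q435 L3641 q435, e3 q436 L3650 q436, e3 q437 L3659 q437, e3 q438 L3669 q438, e3 q439 L3679 q439, e3 q440 L3689 q440, e3 q441 L3696 q441, e3 q442 L3706 q442, e3 q443 L3714 q443, e3 q444 L4733 q564, e3 q445 L3730 q445, e3 q446 L3738 q446, e3 q447 L3746 q447, trivial⟩ (by decide +kernel)

theorem ce_a_7 : ∀ r, r < 64 → sm ga (Qf (448 + r)) = Qf (tab Gen.a (448 + r)) :=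
  edges_tab (sm ga) Qf (tab Gen.a) 448 [(448, 448), (449, 449), (450, 506), (451, 507), (452, 508), (453, 509), (454, 510), (455, 511), (456, 512), (457, 513), (458, 514), (459, 585), (460, 516), (461, 517), (462, 590), (463, 519), (464, 520), (465, 362), (466, 595), (467, 523), (468, 524), (469, 366), (470, 598), (471, 527), (472, 472), (473, 473), (474, 474), (475, 475), (476, 476), (477, 477), (478, 478), (479, 479), (480, 610), (481, 481), (482, 482), (483, 376), (484, 615), (485, 485), (486, 486), (487, 487), (488, 488), (489, 489), (490, 490), (491, 622), (492, 529), (493, 530), (494, 384), (495, 627), (496, 533), (497, 534), (498, 535), (499, 388), (500, 632), (501, 538), (502, 502), (503, 634), (504, 504), (505, 396), (506, 450), (507, 451), (508, 452), (509, 453), (510, 454), (511, 455)]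
    ⟨e3 q448 L3754 q448, e3 q449 L3763 q449, e3 q450 (flp_a L4208) q506, e3 q451 (flp_a L4217) q507, e3 q452 (flp_a L4227) q508, e3 q453 (flp_a L4239) q509, e3 q454 (flp_a L4247) q510, e3 q455 (flp_a L4258) q511, e3 q456 (flp_a L4268) q512, e3 q457 (flp_a L4276) q513, e3 q458 (flp_a L4286) q514, e3 q459 L4894 q585, e3 q460 (flp_a L4305) q516, e3 q461 (flp_a L4315) q517, e3 q462 L4929 q590, e3 q463 (flp_a L4332) q519, e3 q464 (flp_a L4340) q520, e3 q465 (flp_a L3877) q362, e3 q466 (flp_a L4966) q595, e3 q467 (flp_a L4368) q523, e3 q468 (flp_a L4376) q524, e3 q469 (flp_a L3905) q366, e3 q470 (flp_a L4988) q598, e3 q471 (flp_a L4403) q527, e3 q472 L3930 q472, e3 q473 L3939 q473, e3 q474 L3947 q474, e3 q475 L3954 q475, e3 q476 L3961 q476, e3 q477 L3968 q477, e3 q478 L3974 q478, e3 q479 L3981 q479, e3 q480 L5095 q610, e3 q481 L3997 q481, e3 q482 L4004 q482, e3 q483 (flp_a L4011) q376, e3 q484 (flp_a L5134) q615, e3 q485 L4028 q485, e3 q486 L4035 q486, e3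 q487 L4042 q487, e3 q488 L4051 q488, e3 q489 L4058 q489, e3 q490 L4064 q490, e3 q491 L5205 q622, e3 q492 (flp_a L4419) q529, e3 q493 (flp_a L4428) q530, e3 q494 (flp_a L4093) q384, e3 q495 (flp_a L5242) q627, e3 q496 (flp_a L4454) q533, e3 q497 (flp_a L4461) q534, e3 q498 (flp_a L4470) q535, e3 q499 L4125 q388, e3 q500 (flp_a L5274) q632, e3 q501 (flp_a L4496) q538, e3 q502 L4152 q502, e3 q503 L5320 q634, e3 q504 L4188 q504, e3 q505 (flp_a L4195) q396, e3 q506 L4208 q450, e3 q507 L4217 q451, e3 q508 L4227 q452, e3 q509 L4239 q453, e3 q510 L4247 q454, e3 q511 L4258 q455, trivial⟩ (by decide +kernel)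

theorem ce_a_8 : ∀ r, r < 64 → sm ga (Qf (512 + r)) = Qf (tab Gen.a (512 + r)) :=
  edges_tab (sm ga) Qf (tab Gen.a) 512 [(512, 456), (513, 457), (514, 458), (515, 651), (516, 460), (517, 461), (518, 656), (519, 463), (520, 464), (521, 408), (522, 661), (523, 467), (524, 468), (525, 412), (526, 664), (527, 471), (528, 667), (529, 492), (530, 493), (531, 417), (532, 672), (533, 496), (534, 497), (535, 498), (536, 421), (537, 674), (538, 501), (539, 539), (540, 540), (541, 541), (542, 542), (543, 543), (544, 544), (545, 545), (546, 546), (547, 547), (548, 548), (549, 549), (550, 550), (551, 551), (552, 552), (553, 553), (554, 554), (555, 555), (556, 556), (557, 557), (558, 701), (559, 559), (560, 560), (561, 706), (562, 562), (563, 563), (564, 444), (565, 711), (566, 566), (567, 567), (568, 568), (569, 569), (570, 570), (571, 571), (572, 638), (573, 639), (574, 640), (575, 641)]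
    ⟨e3 q512 L4268 q456, e3 q513 L4276 q457, e3 q514 L4286 q458, e3 q515 L5479 q651, e3 q516 L4305 q460, e3 q517 L4315 q461, e3 q518 L5525 q656, e3 q519 L4332 q463, e3 q520 L4340 q464, e3 q521 (flp_a L4347) q408, e3 q522 (flp_a L5573) q661, e3 q523 L4368 q467, e3 q524 L4376 q468, e3 q525 (flp_a L4384) q412, e3 q526 (flp_a L5601) q664, e3 q527 L4403 q471, e3 q528 L5624 q667, e3 q529 L4419 q492, e3 q530 L4428 q493, e3 q531 (flp_a L4436) q417, e3 q532 (flp_a L5801) q672, e3 q533 L4454 q496, e3 q534 L4461 q497, e3 q535 L4470 q498, e3 q536 L4479 q421, e3 q537 (flp_a L5825) q674, e3 q538 L4496 q501, e3 q539 L4505 q539, e3 q540 L4515 q540, e3 q541 L4526 q541, e3 q542 L4536 q542, e3 q543 L4547 q543, e3 q544 L4558 q544, e3 q545 L4566 q545, e3 q546 L4577 q546, e3 q547 L4585 q547, e3 q548 L4593 q548, e3 q549 L4601 q549, e3 q550 L4609 q550, e3 q551 L4620 q551, e3 q552 L4631 q552, e3 q553 L4639 q553, e3 q554 L4650 q554, e3 q555 L4658 q555, e3 q556 L4666 q556, e3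 q557 L4674 q557, e3 q558 L6063 q701, e3 q559 L4693 q559, e3 q560 L4702 q560, e3 q561 L6105 q706, e3 q562 L4719 q562, e3 q563 L4726 q563, e3 q564 (flp_a L4733) q444, e3 q565 (flp_a L6150) q711, e3 q566 L4753 q566, e3 q567 L4762 q567, e3 q568 L4768 q568, e3 q569 L4778 q569, e3 q570 L4785 q570, e3 q571 L4793 q571, e3 q572 (flp_a L5360) q638, e3 q573 (flp_a L5370) q639, e3 q574 (flp_a L5379) q640, e3 q575 (flp_a L5388) q641, trivial⟩ (by decide +kernel)

theorem ce_a_9 : ∀ r, r < 64 → sm ga (Qf (576 + r)) = Qf (tab Gen.a (576 + r)) :=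
  edges_tab (sm ga) Qf (tab Gen.a) 576 [(576, 642), (577, 643), (578, 644), (579, 731), (580, 646), (581, 647), (582, 736), (583, 649), (584, 650), (585, 459), (586, 741), (587, 653), (588, 654), (589, 655), (590, 462), (591, 746), (592, 658), (593, 659), (594, 660), (595, 466), (596, 752), (597, 663), (598, 470), (599, 754), (600, 666), (601, 601), (602, 602), (603, 603), (604, 761), (605, 605), (606, 606), (607, 765), (608, 608), (609, 609), (610, 480), (611, 770), (612, 612), (613, 613), (614, 614), (615, 484), (616, 776), (617, 777), (618, 618), (619, 619), (620, 620), (621, 621), (622, 491), (623, 782), (624, 669), (625, 670), (626, 671), (627, 495), (628, 784), (629, 783), (630, 668), (631, 673), (632, 500), (633, 789), (634, 503), (635, 790), (636, 636), (637, 637), (638, 572), (639, 573)]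
    ⟨e3 q576 (flp_a L5396) q642, e3 q577 (flp_a L5405) q643, e3 q578 (flp_a L5416) q644, e3 q579 L6302 q731, e3 q580 (flp_a L5434) q646, e3 q581 (flp_a L5443) q647, e3 q582 L6336 q736, e3 q583 (flp_a L5461) q649, e3 q584 (flp_a L5472) q650, e3 q585 (flp_a L4894) q459, e3 q586 (flp_a L6378) q741, e3 q587 (flp_a L5500) q653, e3 q588 (flp_a L5509) q654, e3 q589 (flp_a L5517) q655, e3 q590 (flp_a L4929) q462, e3 q591 (flp_a L6414) q746, e3 q592 (flp_a L5545) q658, e3 q593 (flp_a L5554) q659, e3 q594 (flp_a L5563) q660, e3 q595 L4966 q466, e3 q596 (flp_a L6456) q752, e3 q597 (flp_a L5591) q663, e3 q598 L4988 q470, e3 q599 (flp_a L6470) q754, e3 q600 (flp_a L5618) q666, e3 q601 L5028 q601, e3 q602 L5036 q602, e3 q603 L5044 q603, e3 q604 L6525 q761, e3 q605 L5058 q605, e3 q606 L5064 q606, e3 q607 L6554 q765, e3 q608 L5079 q608, e3 q609 L5087 q609, e3 q610 (flp_a L5095) q480, e3 q611 (flp_a L6599) q770, e3 q612 L5113 q612, e3 q613 L5117 q613, e3 q614 L5125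 q614, e3 q615 L5134 q484, e3 q616 (flp_a L6641) q776, e3 q617 (flp_a L6649) q777, e3 q618 L5157 q618, e3 q619 L5165 q619, e3 q620 L5171 q620, e3 q621 L5186 q621, e3 q622 (flp_a L5205) q491, e3 q623 (flp_a L6688) q782, e3 q624 (flp_a L5763) q669, e3 q625 (flp_a L5777) q670, e3 q626 (flp_a L5791) q671, e3 q627 L5242 q495, e3 q628 (flp_a L6714) q784, e3 q629 (flp_a L6701) q783, e3 q630 (flp_a L5644) q668, e3 q631 (flp_a L5816) q673, e3 q632 L5274 q500, e3 q633 (flp_a L6752) q789, e3 q634 (flp_a L5320) q503, e3 q635 (flp_a L6759) q790, e3 q636 L5343 q636, e3 q637 L5356 q637, e3 q638 L5360 q572, e3 q639 L5370 q573, trivial⟩ (by decide +kernel)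

theorem ce_a_10 : ∀ r, r < 64 → sm ga (Qf (640 + r)) = Qf (tab Gen.a (640 + r)) :=
  edges_tab (sm ga) Qf (tab Gen.a) 640 [(640, 574), (641, 575), (642, 576), (643, 577), (644, 578), (645, 802), (646, 580), (647, 581), (648, 807), (649, 583), (650, 584), (651, 515), (652, 812), (653, 587), (654, 588), (655, 589), (656, 518), (657, 817), (658, 592), (659, 593), (660, 594), (661, 522), (662, 823), (663, 597), (664, 526), (665, 825), (666, 600), (667, 528), (668, 630), (669, 624), (670, 625), (671, 626), (672, 532), (673, 631), (674, 537), (675, 826), (676, 676), (677, 677), (678, 678), (679, 679), (680, 680), (681, 681), (682, 682), (683, 683), (684, 684), (685, 685), (686, 841), (687, 687), (688, 688), (689, 689), (690, 690), (691, 691), (692, 692), (693, 693), (694, 694), (695, 855), (696, 696), (697, 697), (698, 860), (699, 699), (700, 700), (701, 558), (702, 865), (703, 703)]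
    ⟨e3 q640 L5379 q574, e3 q641 L5388 q575, e3 q642 L5396 q576, e3 q643 L5405 q577, e3 q644 L5416 q578, e3 q645 L6887 q802, e3 q646 L5434 q580, e3 q647 L5443 q581, e3 q648 L6932 q807, e3 q649 L5461 q583, e3 q650 L5472 q584, e3 q651 (flp_a L5479) q515, e3 q652 (flp_a L7031) q812, e3 q653 L5500 q587, e3 q654 L5509 q588, e3 q655 L5517 q589, e3 q656 (flp_a L5525) q518, e3 q657 (flp_a L7085) q817, e3 q658 L5545 q592, e3 q659 L5554 q593, e3 q660 L5563 q594, e3 q661 L5573 q522, e3 q662 (flp_a L7137) q823, e3 q663 L5591 q597, e3 q664 L5601 q526, e3 q665 (flp_a L7155) q825, e3 q666 L5618 q600, e3 q667 (flp_a L5624) q528, e3 q668 L5644 q630, e3 q669 L5763 q624, e3 q670 L5777 q625, e3 q671 L5791 q626, e3 q672 L5801 q532, e3 q673 L5816 q631, e3 q674 L5825 q537, e3 q675 (flp_a L7168) q826, e3 q676 L5845 q676, e3 q677 L5854 q677, e3 q678 L5866 q678, e3 q679 L5872 q679, e3 q680 L5882 q680, e3 q681 L5891 q681, e3 q682 L5900 q682, e3 q683 L5906 q683, e3 q684 L5917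 q684, e3 q685 L5926 q685, e3 q686 L7302 q841, e3 q687 L5945 q687, e3 q688 L5953 q688, e3 q689 L5959 q689, e3 q690 L5969 q690, e3 q691 L5978 q691, e3 q692 L5984 q692, e3 q693 L5993 q693, e3 q694 L6002 q694, e3 q695 L7422 q855, e3 q696 L6020 q696, e3 q697 L6028 q697, e3 q698 L7464 q860, e3 q699 L6046 q699, e3 q700 L6056 q700, e3 q701 (flp_a L6063) q558, e3 q702 (flp_a L7514) q865, e3 q703 L6084 q703, trivial⟩ (by decide +kernel)

theorem ce_a_11 : ∀ r, r < 64 → sm ga (Qf (704 + r)) = Qf (tab Gen.a (704 + r)) :=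
  edges_tab (sm ga) Qf (tab Gen.a) 704 [(704, 704), (705, 705), (706, 561), (707, 871), (708, 708), (709, 709), (710, 710), (711, 565), (712, 877), (713, 878), (714, 714), (715, 715), (716, 716), (717, 717), (718, 718), (719, 719), (720, 720), (721, 791), (722, 793), (723, 794), (724, 795), (725, 892), (726, 797), (727, 798), (728, 897), (729, 800), (730, 801), (731, 579), (732, 902), (733, 804), (734, 805), (735, 806), (736, 582), (737, 908), (738, 809), (739, 810), (740, 811), (741, 586), (742, 913), (743, 914), (744, 815), (745, 816), (746, 591), (747, 920), (748, 921), (749, 820), (750, 821), (751, 822), (752, 596), (753, 929), (754, 599), (755, 930), (756, 889), (757, 796), (758, 758), (759, 933), (760, 760), (761, 604), (762, 936), (763, 763), (764, 764), (765, 607), (766, 941), (767, 767)]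
    ⟨e3 q704 L6090 q704, e3 q705 L6097 q705, e3 q706 (flp_a L6105) q561, e3 q707 (flp_a L7562) q871, e3 q708 L6125 q708, e3 q709 L6132 q709, e3 q710 L6140 q710, e3 q711 L6150 q565, e3 q712 (flp_a L7609) q877, e3 q713 (flp_a L7619) q878, e3 q714 L6176 q714, e3 q715 L6184 q715, e3 q716 L6192 q716, e3 q717 L6200 q717, e3 q718 L6207 q718, e3 q719 L6216 q719, e3 q720 L6223 q720, e3 q721 (flp_a L6961) q791, e3 q722 (flp_a L6806) q793, e3 q723 (flp_a L6816) q794, e3 q724 (flp_a L6825) q795, e3 q725 L7730 q892, e3 q726 (flp_a L6842) q797, e3 q727 (flp_a L6850) q798, e3 q728 L7765 q897, e3 q729 (flp_a L6869) q800, e3 q730 (flp_a L6879) q801, e3 q731 (flp_a L6302) q579, e3 q732 (flp_a L7807) q902, e3 q733 (flp_a L6908) q804, e3 q734 (flp_a L6914) q805, e3 q735 (flp_a L6924) q806, e3 q736 (flp_a L6336) q582, e3 q737 (flp_a L7847) q908, e3 q738 (flp_a L6997) q809, e3 q739 (flp_a L7011) q810, e3 q740 (flp_a L7020) q811, e3 q741 L6378 q586, e3 q742 (flp_a L7896)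 q913, e3 q743 (flp_a L7908) q914, e3 q744 (flp_a L7067) q815, e3 q745 (flp_a L7075) q816, e3 q746 L6414 q591, e3 q747 (flp_a L7949) q920, e3 q748 (flp_a L7957) q921, e3 q749 (flp_a L7110) q820, e3 q750 (flp_a L7119) q821, e3 q751 (flp_a L7127) q822, e3 q752 L6456 q596, e3 q753 (flp_a L8015) q929, e3 q754 L6470 q599, e3 q755 (flp_a L8023) q930, e3 q756 (flp_a L7714) q889, e3 q757 (flp_a L6993) q796, e3 q758 L6498 q758, e3 q759 L8046 q933, e3 q760 L6516 q760, e3 q761 (flp_a L6525) q604, e3 q762 (flp_a L8080) q936, e3 q763 L6541 q763, e3 q764 L6547 q764, e3 q765 (flp_a L6554) q607, e3 q766 (flp_a L8117) q941, e3 q767 L6574 q767, trivial⟩ (by decide +kernel)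

theorem ce_a_12 : ∀ r, r < 64 → sm ga (Qf (768 + r)) = Qf (tab Gen.a (768 + r)) :=
  edges_tab (sm ga) Qf (tab Gen.a) 768 [(768, 768), (769, 769), (770, 611), (771, 947), (772, 948), (773, 773), (774, 774), (775, 775), (776, 616), (777, 617), (778, 954), (779, 955), (780, 956), (781, 781), (782, 623), (783, 629), (784, 628), (785, 813), (786, 943), (787, 909), (788, 808), (789, 633), (790, 635), (791, 721), (792, 792), (793, 722), (794, 723), (795, 724), (796, 757), (797, 726), (798, 727), (799, 965), (800, 729), (801, 730), (802, 645), (803, 970), (804, 733), (805, 734), (806, 735), (807, 648), (808, 788), (809, 738), (810, 739), (811, 740), (812, 652), (813, 785), (814, 979), (815, 744), (816, 745), (817, 657), (818, 981), (819, 982), (820, 749), (821, 750), (822, 751), (823, 662), (824, 987), (825, 665), (826, 675), (827, 827), (828, 828), (829, 829), (830, 830), (831, 831)]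
    ⟨e3 q768 L6580 q768, e3 q769 L6589 q769, e3 q770 L6599 q611, e3 q771 (flp_a L8171) q947, e3 q772 (flp_a L8176) q948, e3 q773 L6621 q773, e3 q774 L6627 q774, e3 q775 L6633 q775, e3 q776 L6641 q616, e3 q777 L6649 q617, e3 q778 (flp_a L8220) q954, e3 q779 (flp_a L8229) q955, e3 q780 (flp_a L8236) q956, e3 q781 L6680 q781, e3 q782 L6688 q623, e3 q783 L6701 q629, e3 q784 L6714 q628, e3 q785 (flp_a L7046) q813, e3 q786 (flp_a L8135) q943, e3 q787 (flp_a L7860) q909, e3 q788 (flp_a L6947) q808, e3 q789 L6752 q633, e3 q790 L6759 q635, e3 q791 L6961 q721, e3 q792 L6778 q792, e3 q793 L6806 q722, e3 q794 L6816 q723, e3 q795 L6825 q724, e3 q796 L6993 q757, e3 q797 L6842 q726, e3 q798 L6850 q727, e3 q799 L8323 q965, e3 q800 L6869 q729, e3 q801 L6879 q730, e3 q802 (flp_a L6887) q645, e3 q803 (flp_a L8376) q970, e3 q804 L6908 q733, e3 q805 L6914 q734, e3 q806 L6924 q735, e3 q807 (flp_a L6932) q648, e3 q808 L6947 q788, e3 q809 L6997 q738, e3 q810 L7011 q739, e3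 q811 L7020 q740, e3 q812 L7031 q652, e3 q813 L7046 q785, e3 q814 (flp_a L8470) q979, e3 q815 L7067 q744, e3 q816 L7075 q745, e3 q817 L7085 q657, e3 q818 (flp_a L8492) q981, e3 q819 (flp_a L8506) q982, e3 q820 L7110 q749, e3 q821 L7119 q750, e3 q822 L7127 q751, e3 q823 L7137 q662, e3 q824 (flp_a L8551) q987, e3 q825 L7155 q665, e3 q826 L7168 q675, e3 q827 L7180 q827, e3 q828 L7189 q828, e3 q829 L7198 q829, e3 q830 L7205 q830, e3 q831 L7212 q831, trivial⟩ (by decide +kernel)

theorem ce_a_13 : ∀ r, r < 64 → sm ga (Qf (832 + r)) = Qf (tab Gen.a (832 + r)) :=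
  edges_tab (sm ga) Qf (tab Gen.a) 832 [(832, 832), (833, 833), (834, 1000), (835, 835), (836, 836), (837, 837), (838, 1006), (839, 839), (840, 840), (841, 686), (842, 1010), (843, 843), (844, 844), (845, 845), (846, 846), (847, 847), (848, 848), (849, 1021), (850, 850), (851, 851), (852, 1026), (853, 853), (854, 854), (855, 695), (856, 1031), (857, 857), (858, 858), (859, 859), (860, 698), (861, 1037), (862, 862), (863, 863), (864, 864), (865, 702), (866, 1043), (867, 1044), (868, 868), (869, 869), (870, 870), (871, 707), (872, 1053), (873, 1054), (874, 874), (875, 875), (876, 876), (877, 712), (878, 713), (879, 1063), (880, 1064), (881, 1065), (882, 882), (883, 883), (884, 884), (885, 885), (886, 886), (887, 887), (888, 958), (889, 756), (890, 959), (891, 960), (892, 725), (893, 1078), (894, 962), (895, 963)]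
    ⟨e3 q832 L7222 q832, e3 q833 L7232 q833, e3 q834 L8671 q1000, e3 q835 L7248 q835, e3 q836 L7255 q836, e3 q837 L7262 q837, e3 q838 L8723 q1006, e3 q839 L7282 q839, e3 q840 L7293 q840, e3 q841 (flp_a L7302) q686, e3 q842 (flp_a L8769) q1010, e3 q843 L7321 q843, e3 q844 L7329 q844, e3 q845 L7335 q845, e3 q846 L7345 q846, e3 q847 L7355 q847, e3 q848 L7362 q848, e3 q849 L8866 q1021, e3 q850 L7379 q850, e3 q851 L7386 q851, e3 q852 L8907 q1026, e3 q853 L7405 q853, e3 q854 L7414 q854, e3 q855 (flp_a L7422) q695, e3 q856 (flp_a L8957) q1031, e3 q857 L7443 q857, e3 q858 L7447 q858, e3 q859 L7456 q859, e3 q860 (flp_a L7464) q698, e3 q861 (flp_a L9003) q1037, e3 q862 L7487 q862, e3 q863 L7495 q863, e3 q864 L7503 q864, e3 q865 L7514 q702, e3 q866 (flp_a L9059) q1043, e3 q867 (flp_a L9066) q1044, e3 q868 L7539 q868, e3 q869 L7545 q869, e3 q870 L7553 q870, e3 q871 L7562 q707, e3 q872 (flp_a L9134) q1053, e3 q873 (flp_a L9142) q1054, e3 q874 L7587 q874, e3 q875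 L7594 q875, e3 q876 L7600 q876, e3 q877 L7609 q712, e3 q878 L7619 q713, e3 q879 (flp_a L9212) q1063, e3 q880 (flp_a L9221) q1064, e3 q881 (flp_a L9230) q1065, e3 q882 L7652 q882, e3 q883 L7659 q883, e3 q884 L7669 q884, e3 q885 L7676 q885, e3 q886 L7685 q886, e3 q887 L7693 q887, e3 q888 (flp_a L8253) q958, e3 q889 L7714 q756, e3 q890 (flp_a L8265) q959, e3 q891 (flp_a L8278) q960, e3 q892 (flp_a L7730) q725, e3 q893 (flp_a L9337) q1078, e3 q894 (flp_a L8299) q962, e3 q895 (flp_a L8307) q963, trivial⟩ (by decide +kernel)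

theorem ce_a_14 : ∀ r, r < 64 → sm ga (Qf (896 + r)) = Qf (tab Gen.a (896 + r)) :=
  edges_tab (sm ga) Qf (tab Gen.a) 896 [(896, 964), (897, 728), (898, 1084), (899, 967), (900, 968), (901, 969), (902, 732), (903, 1090), (904, 1091), (905, 973), (906, 974), (907, 975), (908, 737), (909, 787), (910, 1100), (911, 977), (912, 978), (913, 742), (914, 743), (915, 1105), (916, 1103), (917, 1102), (918, 980), (919, 976), (920, 747), (921, 748), (922, 1109), (923, 1110), (924, 1074), (925, 1111), (926, 985), (927, 986), (928, 961), (929, 753), (930, 755), (931, 1018), (932, 1119), (933, 759), (934, 1120), (935, 935), (936, 762), (937, 1122), (938, 1123), (939, 939), (940, 940), (941, 766), (942, 1129), (943, 786), (944, 944), (945, 945), (946, 946), (947, 771), (948, 772), (949, 1131), (950, 1130), (951, 1134), (952, 1101), (953, 953), (954, 778), (955, 779), (956, 780), (957, 1137), (958, 888), (959, 890)]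
    ⟨e3 q896 (flp_a L8315) q964, e3 q897 (flp_a L7765) q728, e3 q898 (flp_a L9379) q1084, e3 q899 (flp_a L8346) q967, e3 q900 (flp_a L8354) q968, e3 q901 (flp_a L8365) q969, e3 q902 L7807 q732, e3 q903 (flp_a L9425) q1090, e3 q904 (flp_a L9431) q1091, e3 q905 (flp_a L8401) q973, e3 q906 (flp_a L8407) q974, e3 q907 (flp_a L8415) q975, e3 q908 L7847 q737, e3 q909 L7860 q787, e3 q910 (flp_a L9488) q1100, e3 q911 (flp_a L8440) q977, e3 q912 (flp_a L8455) q978, e3 q913 L7896 q742, e3 q914 L7908 q743, e3 q915 (flp_a L9546) q1105, e3 q916 (flp_a L9527) q1103, e3 q917 (flp_a L9513) q1102, e3 q918 (flp_a L8485) q980, e3 q919 (flp_a L8426) q976, e3 q920 L7949 q747, e3 q921 L7957 q748, e3 q922 (flp_a L9576) q1109, e3 q923 (flp_a L9584) q1110, e3 q924 (flp_a L9303) q1074, e3 q925 (flp_a L9592) q1111, e3 q926 (flp_a L8533) q985, e3 q927 (flp_a L8543) q986, e3 q928 (flp_a L8288) q961, e3 q929 L8015 q753, e3 q930 L8023 q755, e3 q931 L8846 q1018, e3 q932 L9650 q1119,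 e3 q933 (flp_a L8046) q759, e3 q934 (flp_a L9663) q1120, e3 q935 L8068 q935, e3 q936 L8080 q762, e3 q937 (flp_a L9687) q1122, e3 q938 (flp_a L9694) q1123, e3 q939 L8102 q939, e3 q940 L8110 q940, e3 q941 L8117 q766, e3 q942 (flp_a L9747) q1129, e3 q943 L8135 q786, e3 q944 L8147 q944, e3 q945 L8155 q945, e3 q946 L8162 q946, e3 q947 L8171 q771, e3 q948 L8176 q772, e3 q949 (flp_a L9769) q1131, e3 q950 (flp_a L9758) q1130, e3 q951 (flp_a L9796) q1134, e3 q952 (flp_a L9501) q1101, e3 q953 L8214 q953, e3 q954 L8220 q778, e3 q955 L8229 q779, e3 q956 L8236 q780, e3 q957 (flp_a L9815) q1137, e3 q958 L8253 q888, e3 q959 L8265 q890, trivial⟩ (by decide +kernel)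

theorem ce_a_15 : ∀ r, r < 64 → sm ga (Qf (960 + r)) = Qf (tab Gen.a (960 + r)) :=
  edges_tab (sm ga) Qf (tab Gen.a) 960 [(960, 891), (961, 928), (962, 894), (963, 895), (964, 896), (965, 799), (966, 1147), (967, 899), (968, 900), (969, 901), (970, 803), (971, 1153), (972, 1154), (973, 905), (974, 906), (975, 907), (976, 919), (977, 911), (978, 912), (979, 814), (980, 918), (981, 818), (982, 819), (983, 1160), (984, 1161), (985, 926), (986, 927), (987, 824), (988, 988), (989, 989), (990, 990), (991, 991), (992, 1170), (993, 993), (994, 994), (995, 995), (996, 996), (997, 1177), (998, 998), (999, 999), (1000, 834), (1001, 1181), (1002, 1002), (1003, 1003), (1004, 1004), (1005, 1187), (1006, 838), (1007, 1188), (1008, 1008), (1009, 1009), (1010, 842), (1011, 1192), (1012, 1193), (1013, 1013), (1014, 1014), (1015, 1015), (1016, 1016), (1017, 1017), (1018, 931), (1019, 1019), (1020, 1020), (1021, 849), (1022, 1208), (1023, 1023)]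
    ⟨e3 q960 L8278 q891, e3 q961 L8288 q928, e3 q962 L8299 q894, e3 q963 L8307 q895, e3 q964 L8315 q896, e3 q965 (flp_a L8323) q799, e3 q966 (flp_a L9921) q1147, e3 q967 L8346 q899, e3 q968 L8354 q900, e3 q969 L8365 q901, e3 q970 L8376 q803, e3 q971 (flp_a L9987) q1153, e3 q972 (flp_a L9999) q1154, e3 q973 L8401 q905, e3 q974 L8407 q906, e3 q975 L8415 q907, e3 q976 L8426 q919, e3 q977 L8440 q911, e3 q978 L8455 q912, e3 q979 L8470 q814, e3 q980 L8485 q918, e3 q981 L8492 q818, e3 q982 L8506 q819, e3 q983 (flp_a L10056) q1160, e3 q984 (flp_a L10070) q1161, e3 q985 L8533 q926, e3 q986 L8543 q927, e3 q987 L8551 q824, e3 q988 L8564 q988, e3 q989 L8573 q989, e3 q990 L8582 q990, e3 q991 L8592 q991, e3 q992 L10159 q1170, e3 q993 L8609 q993, e3 q994 L8615 q994, e3 q995 L8622 q995, e3 q996 L8632 q996, e3 q997 L10220 q1177, e3 q998 L8653 q998, e3 q999 L8661 q999, e3 q1000 (flp_a L8671) q834, e3 q1001 (flp_a L10262) q1181, e3 q1002 L8690 q1002, e3 q1003 L8696 q1003,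 e3 q1004 L8704 q1004, e3 q1005 L10306 q1187, e3 q1006 (flp_a L8723) q838, e3 q1007 (flp_a L10320) q1188, e3 q1008 L8746 q1008, e3 q1009 L8758 q1009, e3 q1010 L8769 q842, e3 q1011 (flp_a L10367) q1192, e3 q1012 (flp_a L10376) q1193, e3 q1013 L8792 q1013, e3 q1014 L8798 q1014, e3 q1015 L8807 q1015, e3 q1016 L8817 q1016, e3 q1017 L8828 q1017, e3 q1018 (flp_a L8846) q931, e3 q1019 L8850 q1019, e3 q1020 L8858 q1020, e3 q1021 (flp_a L8866) q849, e3 q1022 (flp_a L10511) q1208, e3 q1023 L8886 q1023, trivial⟩ (by decide +kernel)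

theorem ce_a_16 : ∀ r, r < 64 → sm ga (Qf (1024 + r)) = Qf (tab Gen.a (1024 + r)) :=
  edges_tab (sm ga) Qf (tab Gen.a) 1024 [(1024, 1024), (1025, 1025), (1026, 852), (1027, 1214), (1028, 1028), (1029, 1029), (1030, 1030), (1031, 856), (1032, 1220), (1033, 1221), (1034, 1034), (1035, 1035), (1036, 1036), (1037, 861), (1038, 1230), (1039, 1231), (1040, 1040), (1041, 1041), (1042, 1042), (1043, 866), (1044, 867), (1045, 1240), (1046, 1241), (1047, 1242), (1048, 1243), (1049, 1049), (1050, 1050), (1051, 1051), (1052, 1052), (1053, 872), (1054, 873), (1055, 1252), (1056, 1253), (1057, 1254), (1058, 1255), (1059, 1059), (1060, 1060), (1061, 1061), (1062, 1062), (1063, 879), (1064, 880), (1065, 881), (1066, 1266), (1067, 1267), (1068, 1268), (1069, 1269), (1070, 1070), (1071, 1071), (1072, 1072), (1073, 1138), (1074, 924), (1075, 1139), (1076, 1140), (1077, 1141), (1078, 893), (1079, 1279), (1080, 1280), (1081, 1144), (1082, 1145), (1083, 1146), (1084,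 898), (1085, 1289), (1086, 1290), (1087, 1150)]
    ⟨e3 q1024 L8892 q1024, e3 q1025 L8899 q1025, e3 q1026 (flp_a L8907) q852, e3 q1027 (flp_a L10557) q1214, e3 q1028 L8930 q1028, e3 q1029 L8936 q1029, e3 q1030 L8946 q1030, e3 q1031 L8957 q856, e3 q1032 (flp_a L10609) q1220, e3 q1033 (flp_a L10615) q1221, e3 q1034 L8982 q1034, e3 q1035 L8987 q1035, e3 q1036 L8993 q1036, e3 q1037 L9003 q861, e3 q1038 (flp_a L10679) q1230, e3 q1039 (flp_a L10690) q1231, e3 q1040 L9032 q1040, e3 q1041 L9040 q1041, e3 q1042 L9049 q1042, e3 q1043 L9059 q866, e3 q1044 L9066 q867, e3 q1045 (flp_a L10777) q1240, e3 q1046 (flp_a L10789) q1241, e3 q1047 (flp_a L10796) q1242, e3 q1048 (flp_a L10805) q1243, e3 q1049 L9106 q1049, e3 q1050 L9110 q1050, e3 q1051 L9118 q1051, e3 q1052 L9126 q1052, e3 q1053 L9134 q872, e3 q1054 L9142 q873, e3 q1055 (flp_a L10873) q1252, e3 q1056 (flp_a L10882) q1253, e3 q1057 (flp_a L10890) q1254, e3 q1058 (flp_a L10897) q1255, e3 q1059 L9183 q1059,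 e3 q1060 L9191 q1060, e3 q1061 L9199 q1061, e3 q1062 L9205 q1062, e3 q1063 L9212 q879, e3 q1064 L9221 q880, e3 q1065 L9230 q881, e3 q1066 (flp_a L10982) q1266, e3 q1067 (flp_a L10990) q1267, e3 q1068 (flp_a L11001) q1268, e3 q1069 (flp_a L11009) q1269, e3 q1070 L9273 q1070, e3 q1071 L9281 q1071, e3 q1072 L9289 q1072, e3 q1073 (flp_a L9824) q1138, e3 q1074 L9303 q924, e3 q1075 (flp_a L9836) q1139, e3 q1076 (flp_a L9850) q1140, e3 q1077 (flp_a L9863) q1141, e3 q1078 L9337 q893, e3 q1079 (flp_a L11092) q1279, e3 q1080 (flp_a L11102) q1280, e3 q1081 (flp_a L9895) q1144, e3 q1082 (flp_a L9903) q1145, e3 q1083 (flp_a L9912) q1146, e3 q1084 L9379 q898, e3 q1085 (flp_a L11165) q1289, e3 q1086 (flp_a L11173) q1290, e3 q1087 (flp_a L9956) q1150, trivial⟩ (by decide +kernel)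

theorem ce_a_17 : ∀ r, r < 64 → sm ga (Qf (1088 + r)) = Qf (tab Gen.a (1088 + r)) :=
  edges_tab (sm ga) Qf (tab Gen.a) 1088 [(1088, 1151), (1089, 1152), (1090, 903), (1091, 904), (1092, 1299), (1093, 1300), (1094, 1275), (1095, 1301), (1096, 1157), (1097, 1158), (1098, 1159), (1099, 1142), (1100, 910), (1101, 952), (1102, 917), (1103, 916), (1104, 1156), (1105, 915), (1106, 1235), (1107, 1294), (1108, 1149), (1109, 922), (1110, 923), (1111, 925), (1112, 1312), (1113, 1204), (1114, 1313), (1115, 1276), (1116, 1163), (1117, 1143), (1118, 1167), (1119, 932), (1120, 934), (1121, 1320), (1122, 937), (1123, 938), (1124, 1322), (1125, 1323), (1126, 1324), (1127, 1127), (1128, 1128), (1129, 942), (1130, 950), (1131, 949), (1132, 1321), (1133, 1133), (1134, 951), (1135, 1325), (1136, 1232), (1137, 957), (1138, 1073), (1139, 1075), (1140, 1076), (1141, 1077), (1142, 1099), (1143, 1117), (1144, 1081), (1145, 1082), (1146, 1083), (1147, 966), (1148, 1336), (1149,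 1108), (1150, 1087), (1151, 1088)]
    ⟨e3 q1088 (flp_a L9964) q1151, e3 q1089 (flp_a L9973) q1152, e3 q1090 L9425 q903, e3 q1091 L9431 q904, e3 q1092 (flp_a L11245) q1299, e3 q1093 (flp_a L11251) q1300, e3 q1094 (flp_a L11053) q1275, e3 q1095 (flp_a L11257) q1301, e3 q1096 (flp_a L10034) q1157, e3 q1097 (flp_a L10041) q1158, e3 q1098 (flp_a L10048) q1159, e3 q1099 (flp_a L9874) q1142, e3 q1100 L9488 q910, e3 q1101 L9501 q952, e3 q1102 L9513 q917, e3 q1103 L9527 q916, e3 q1104 (flp_a L10020) q1156, e3 q1105 L9546 q915, e3 q1106 (flp_a L10730) q1235, e3 q1107 (flp_a L11207) q1294, e3 q1108 (flp_a L9942) q1149, e3 q1109 L9576 q922, e3 q1110 L9584 q923, e3 q1111 L9592 q925, e3 q1112 (flp_a L11334) q1312, e3 q1113 (flp_a L10471) q1204, e3 q1114 (flp_a L11342) q1313, e3 q1115 (flp_a L11065) q1276, e3 q1116 (flp_a L10092) q1163, e3 q1117 (flp_a L9884) q1143, e3 q1118 L10136 q1167, e3 q1119 (flp_a L9650) q932, e3 q1120 L9663 q934, e3 q1121 (flp_a L11393)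 q1320, e3 q1122 L9687 q937, e3 q1123 L9694 q938, e3 q1124 (flp_a L11422) q1322, e3 q1125 (flp_a L11437) q1323, e3 q1126 (flp_a L11452) q1324, e3 q1127 L9725 q1127, e3 q1128 L9736 q1128, e3 q1129 L9747 q942, e3 q1130 L9758 q950, e3 q1131 L9769 q949, e3 q1132 (flp_a L11408) q1321, e3 q1133 L9788 q1133, e3 q1134 L9796 q951, e3 q1135 (flp_a L11466) q1325, e3 q1136 (flp_a L10702) q1232, e3 q1137 L9815 q957, e3 q1138 L9824 q1073, e3 q1139 L9836 q1075, e3 q1140 L9850 q1076, e3 q1141 L9863 q1077, e3 q1142 L9874 q1099, e3 q1143 L9884 q1117, e3 q1144 L9895 q1081, e3 q1145 L9903 q1082, e3 q1146 L9912 q1083, e3 q1147 L9921 q966, e3 q1148 (flp_a L11596) q1336, e3 q1149 L9942 q1108, e3 q1150 L9956 q1087, e3 q1151 L9964 q1088, trivial⟩ (by decide +kernel)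

theorem ce_a_18 : ∀ r, r < 64 → sm ga (Qf (1152 + r)) = Qf (tab Gen.a (1152 + r)) :=
  edges_tab (sm ga) Qf (tab Gen.a) 1152 [(1152, 1089), (1153, 971), (1154, 972), (1155, 1341), (1156, 1104), (1157, 1096), (1158, 1097), (1159, 1098), (1160, 983), (1161, 984), (1162, 1344), (1163, 1116), (1164, 1345), (1165, 1165), (1166, 1166), (1167, 1118), (1168, 1168), (1169, 1169), (1170, 992), (1171, 1353), (1172, 1172), (1173, 1173), (1174, 1174), (1175, 1359), (1176, 1176), (1177, 997), (1178, 1362), (1179, 1179), (1180, 1180), (1181, 1001), (1182, 1367), (1183, 1368), (1184, 1184), (1185, 1185), (1186, 1186), (1187, 1005), (1188, 1007), (1189, 1377), (1190, 1378), (1191, 1191), (1192, 1011), (1193, 1012), (1194, 1382), (1195, 1383), (1196, 1384), (1197, 1385), (1198, 1198), (1199, 1199), (1200, 1200), (1201, 1201), (1202, 1202), (1203, 1203), (1204, 1113), (1205, 1205), (1206, 1206), (1207, 1207), (1208, 1022), (1209, 1404), (1210, 1405), (1211, 1211), (1212,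 1212), (1213, 1213), (1214, 1027), (1215, 1414)]
    ⟨e3 q1152 L9973 q1089, e3 q1153 L9987 q971, e3 q1154 L9999 q972, e3 q1155 (flp_a L11661) q1341, e3 q1156 L10020 q1104, e3 q1157 L10034 q1096, e3 q1158 L10041 q1097, e3 q1159 L10048 q1098, e3 q1160 L10056 q983, e3 q1161 L10070 q984, e3 q1162 (flp_a L11696) q1344, e3 q1163 L10092 q1116, e3 q1164 L11709 q1345, e3 q1165 L10110 q1165, e3 q1166 L10119 q1166, e3 q1167 (flp_a L10136) q1118, e3 q1168 L10140 q1168, e3 q1169 L10149 q1169, e3 q1170 (flp_a L10159) q992, e3 q1171 (flp_a L11788) q1353, e3 q1172 L10177 q1172, e3 q1173 L10185 q1173, e3 q1174 L10191 q1174, e3 q1175 L11832 q1359, e3 q1176 L10211 q1176, e3 q1177 (flp_a L10220) q997, e3 q1178 (flp_a L11865) q1362, e3 q1179 L10241 q1179, e3 q1180 L10249 q1180, e3 q1181 L10262 q1001, e3 q1182 (flp_a L11911) q1367, e3 q1183 (flp_a L11919) q1368, e3 q1184 L10285 q1184, e3 q1185 L10290 q1185, e3 q1186 L10297 q1186, e3 q1187 (flp_a L10306) q1005, e3 q1188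 L10320 q1007, e3 q1189 (flp_a L11987) q1377, e3 q1190 (flp_a L12002) q1378, e3 q1191 L10355 q1191, e3 q1192 L10367 q1011, e3 q1193 L10376 q1012, e3 q1194 (flp_a L12052) q1382, e3 q1195 (flp_a L12067) q1383, e3 q1196 (flp_a L12074) q1384, e3 q1197 (flp_a L12088) q1385, e3 q1198 L10416 q1198, e3 q1199 L10422 q1199, e3 q1200 L10432 q1200, e3 q1201 L10439 q1201, e3 q1202 L10450 q1202, e3 q1203 L10461 q1203, e3 q1204 L10471 q1113, e3 q1205 L10484 q1205, e3 q1206 L10492 q1206, e3 q1207 L10500 q1207, e3 q1208 L10511 q1022, e3 q1209 (flp_a L12273) q1404, e3 q1210 (flp_a L12281) q1405, e3 q1211 L10535 q1211, e3 q1212 L10542 q1212, e3 q1213 L10549 q1213, e3 q1214 L10557 q1027, e3 q1215 (flp_a L12349) q1414, trivial⟩ (by decide +kernel)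

theorem ce_a_19 : ∀ r, r < 64 → sm ga (Qf (1216 + r)) = Qf (tab Gen.a (1216 + r)) :=
  edges_tab (sm ga) Qf (tab Gen.a) 1216 [(1216, 1415), (1217, 1217), (1218, 1218), (1219, 1219), (1220, 1032), (1221, 1033), (1222, 1424), (1223, 1425), (1224, 1426), (1225, 1427), (1226, 1226), (1227, 1227), (1228, 1228), (1229, 1229), (1230, 1038), (1231, 1039), (1232, 1136), (1233, 1438), (1234, 1379), (1235, 1106), (1236, 1236), (1237, 1237), (1238, 1238), (1239, 1239), (1240, 1045), (1241, 1046), (1242, 1047), (1243, 1048), (1244, 1441), (1245, 1391), (1246, 1445), (1247, 1439), (1248, 1446), (1249, 1387), (1250, 1250), (1251, 1251), (1252, 1055), (1253, 1056), (1254, 1057), (1255, 1058), (1256, 1452), (1257, 1453), (1258, 1454), (1259, 1455), (1260, 1456), (1261, 1457), (1262, 1262), (1263, 1263), (1264, 1264), (1265, 1265), (1266, 1066), (1267, 1067), (1268, 1068), (1269, 1069), (1270, 1471), (1271, 1472), (1272, 1272), (1273, 1273), (1274, 1326), (1275, 1094),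 (1276, 1115), (1277, 1327), (1278, 1328), (1279, 1079)]
    ⟨e3 q1216 (flp_a L12357) q1415, e3 q1217 L10586 q1217, e3 q1218 L10593 q1218, e3 q1219 L10598 q1219, e3 q1220 L10609 q1032, e3 q1221 L10615 q1033, e3 q1222 (flp_a L12434) q1424, e3 q1223 (flp_a L12441) q1425, e3 q1224 (flp_a L12448) q1426, e3 q1225 (flp_a L12456) q1427, e3 q1226 L10655 q1226, e3 q1227 L10660 q1227, e3 q1228 L10666 q1228, e3 q1229 L10673 q1229, e3 q1230 L10679 q1038, e3 q1231 L10690 q1039, e3 q1232 L10702 q1136, e3 q1233 (flp_a L12536) q1438, e3 q1234 (flp_a L12014) q1379, e3 q1235 L10730 q1106, e3 q1236 L10743 q1236, e3 q1237 L10749 q1237, e3 q1238 L10759 q1238, e3 q1239 L10766 q1239, e3 q1240 L10777 q1045, e3 q1241 L10789 q1046, e3 q1242 L10796 q1047, e3 q1243 L10805 q1048, e3 q1244 (flp_a L12568) q1441, e3 q1245 (flp_a L12143) q1391, e3 q1246 (flp_a L12605) q1445, e3 q1247 (flp_a L12549) q1439, e3 q1248 (flp_a L12610) q1446, e3 q1249 (flp_a L12105) q1387, e3 q1250 L10861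 q1250, e3 q1251 L10867 q1251, e3 q1252 L10873 q1055, e3 q1253 L10882 q1056, e3 q1254 L10890 q1057, e3 q1255 L10897 q1058, e3 q1256 (flp_a L12649) q1452, e3 q1257 (flp_a L12658) q1453, e3 q1258 (flp_a L12666) q1454, e3 q1259 (flp_a L12675) q1455, e3 q1260 (flp_a L12684) q1456, e3 q1261 (flp_a L12691) q1457, e3 q1262 L10952 q1262, e3 q1263 L10961 q1263, e3 q1264 L10968 q1264, e3 q1265 L10975 q1265, e3 q1266 L10982 q1066, e3 q1267 L10990 q1067, e3 q1268 L11001 q1068, e3 q1269 L11009 q1069, e3 q1270 (flp_a L12797) q1471, e3 q1271 (flp_a L12806) q1472, e3 q1272 L11035 q1272, e3 q1273 L11039 q1273, e3 q1274 (flp_a L11481) q1326, e3 q1275 L11053 q1094, e3 q1276 L11065 q1115, e3 q1277 (flp_a L11494) q1327, e3 q1278 (flp_a L11508) q1328, e3 q1279 L11092 q1079, trivial⟩ (by decide +kernel)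

theorem ce_a_20 : ∀ r, r < 64 → sm ga (Qf (1280 + r)) = Qf (tab Gen.a (1280 + r)) :=
  edges_tab (sm ga) Qf (tab Gen.a) 1280 [(1280, 1080), (1281, 1481), (1282, 1482), (1283, 1483), (1284, 1484), (1285, 1333), (1286, 1334), (1287, 1335), (1288, 1329), (1289, 1085), (1290, 1086), (1291, 1495), (1292, 1496), (1293, 1490), (1294, 1107), (1295, 1338), (1296, 1339), (1297, 1340), (1298, 1331), (1299, 1092), (1300, 1093), (1301, 1095), (1302, 1502), (1303, 1476), (1304, 1500), (1305, 1499), (1306, 1477), (1307, 1337), (1308, 1342), (1309, 1343), (1310, 1330), (1311, 1419), (1312, 1112), (1313, 1114), (1314, 1510), (1315, 1400), (1316, 1399), (1317, 1478), (1318, 1332), (1319, 1350), (1320, 1121), (1321, 1132), (1322, 1124), (1323, 1125), (1324, 1126), (1325, 1135), (1326, 1274), (1327, 1277), (1328, 1278), (1329, 1288), (1330, 1310), (1331, 1298), (1332, 1318), (1333, 1285), (1334, 1286), (1335, 1287), (1336, 1148), (1337, 1307), (1338, 1295), (1339, 1296),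 (1340, 1297), (1341, 1155), (1342, 1308), (1343, 1309)]
    ⟨e3 q1280 L11102 q1080, e3 q1281 (flp_a L12893) q1481, e3 q1282 (flp_a L12901) q1482, e3 q1283 (flp_a L12911) q1483, e3 q1284 (flp_a L12922) q1484, e3 q1285 (flp_a L11570) q1333, e3 q1286 (flp_a L11578) q1334, e3 q1287 (flp_a L11587) q1335, e3 q1288 (flp_a L11522) q1329, e3 q1289 L11165 q1085, e3 q1290 L11173 q1086, e3 q1291 (flp_a L13029) q1495, e3 q1292 (flp_a L13037) q1496, e3 q1293 (flp_a L12967) q1490, e3 q1294 L11207 q1107, e3 q1295 (flp_a L11626) q1338, e3 q1296 (flp_a L11639) q1339, e3 q1297 (flp_a L11652) q1340, e3 q1298 (flp_a L11545) q1331, e3 q1299 L11245 q1092, e3 q1300 L11251 q1093, e3 q1301 L11257 q1095, e3 q1302 (flp_a L13098) q1502, e3 q1303 (flp_a L12832) q1476, e3 q1304 (flp_a L13078) q1500, e3 q1305 (flp_a L13065) q1499, e3 q1306 (flp_a L12844) q1477, e3 q1307 (flp_a L11612) q1337, e3 q1308 (flp_a L11679) q1342, e3 q1309 (flp_a L11687) q1343, e3 q1310 (flp_a L11535) q1330,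 e3 q1311 (flp_a L12392) q1419, e3 q1312 L11334 q1112, e3 q1313 L11342 q1114, e3 q1314 (flp_a L13146) q1510, e3 q1315 (flp_a L12236) q1400, e3 q1316 (flp_a L12227) q1399, e3 q1317 (flp_a L12856) q1478, e3 q1318 (flp_a L11558) q1332, e3 q1319 (flp_a L11756) q1350, e3 q1320 L11393 q1121, e3 q1321 L11408 q1132, e3 q1322 L11422 q1124, e3 q1323 L11437 q1125, e3 q1324 L11452 q1126, e3 q1325 L11466 q1135, e3 q1326 L11481 q1274, e3 q1327 L11494 q1277, e3 q1328 L11508 q1278, e3 q1329 L11522 q1288, e3 q1330 L11535 q1310, e3 q1331 L11545 q1298, e3 q1332 L11558 q1318, e3 q1333 L11570 q1285, e3 q1334 L11578 q1286, e3 q1335 L11587 q1287, e3 q1336 L11596 q1148, e3 q1337 L11612 q1307, e3 q1338 L11626 q1295, e3 q1339 L11639 q1296, e3 q1340 L11652 q1297, e3 q1341 L11661 q1155, e3 q1342 L11679 q1308, e3 q1343 L11687 q1309, trivial⟩ (by decide +kernel)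

theorem ce_a_21 : ∀ r, r < 64 → sm ga (Qf (1344 + r)) = Qf (tab Gen.a (1344 + r)) :=
  edges_tab (sm ga) Qf (tab Gen.a) 1344 [(1344, 1162), (1345, 1164), (1346, 1521), (1347, 1347), (1348, 1348), (1349, 1349), (1350, 1319), (1351, 1351), (1352, 1352), (1353, 1171), (1354, 1531), (1355, 1532), (1356, 1356), (1357, 1357), (1358, 1358), (1359, 1175), (1360, 1541), (1361, 1361), (1362, 1178), (1363, 1544), (1364, 1545), (1365, 1365), (1366, 1366), (1367, 1182), (1368, 1183), (1369, 1552), (1370, 1553), (1371, 1554), (1372, 1555), (1373, 1373), (1374, 1374), (1375, 1375), (1376, 1376), (1377, 1189), (1378, 1190), (1379, 1234), (1380, 1566), (1381, 1381), (1382, 1194), (1383, 1195), (1384, 1196), (1385, 1197), (1386, 1569), (1387, 1249), (1388, 1570), (1389, 1571), (1390, 1572), (1391, 1245), (1392, 1392), (1393, 1393), (1394, 1394), (1395, 1395), (1396, 1396), (1397, 1397), (1398, 1398), (1399, 1316), (1400, 1315), (1401, 1401), (1402, 1402), (1403, 1403),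 (1404, 1209), (1405, 1210), (1406, 1591), (1407, 1592)]
    ⟨e3 q1344 L11696 q1162, e3 q1345 (flp_a L11709) q1164, e3 q1346 (flp_a L13281) q1521, e3 q1347 L11730 q1347, e3 q1348 L11737 q1348, e3 q1349 L11746 q1349, e3 q1350 L11756 q1319, e3 q1351 L11767 q1351, e3 q1352 L11777 q1352, e3 q1353 L11788 q1171, e3 q1354 (flp_a L13376) q1531, e3 q1355 (flp_a L13386) q1532, e3 q1356 L11810 q1356, e3 q1357 L11817 q1357, e3 q1358 L11825 q1358, e3 q1359 (flp_a L11832) q1175, e3 q1360 (flp_a L13458) q1541, e3 q1361 L11856 q1361, e3 q1362 L11865 q1178, e3 q1363 (flp_a L13489) q1544, e3 q1364 (flp_a L13499) q1545, e3 q1365 L11896 q1365, e3 q1366 L11905 q1366, e3 q1367 L11911 q1182, e3 q1368 L11919 q1183, e3 q1369 (flp_a L13566) q1552, e3 q1370 (flp_a L13574) q1553, e3 q1371 (flp_a L13581) q1554, e3 q1372 (flp_a L13590) q1555, e3 q1373 L11959 q1373, e3 q1374 L11966 q1374, e3 q1375 L11974 q1375, e3 q1376 L11980 q1376, e3 q1377 L11987 q1189, e3 q1378 L12002 q1190,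 e3 q1379 L12014 q1234, e3 q1380 (flp_a L13675) q1566, e3 q1381 L12040 q1381, e3 q1382 L12052 q1194, e3 q1383 L12067 q1195, e3 q1384 L12074 q1196, e3 q1385 L12088 q1197, e3 q1386 (flp_a L13716) q1569, e3 q1387 L12105 q1249, e3 q1388 (flp_a L13731) q1570, e3 q1389 (flp_a L13738) q1571, e3 q1390 (flp_a L13753) q1572, e3 q1391 L12143 q1245, e3 q1392 L12158 q1392, e3 q1393 L12166 q1393, e3 q1394 L12174 q1394, e3 q1395 L12185 q1395, e3 q1396 L12196 q1396, e3 q1397 L12205 q1397, e3 q1398 L12216 q1398, e3 q1399 L12227 q1316, e3 q1400 L12236 q1315, e3 q1401 L12249 q1401, e3 q1402 L12258 q1402, e3 q1403 L12264 q1403, e3 q1404 L12273 q1209, e3 q1405 L12281 q1210, e3 q1406 (flp_a L13943) q1591, e3 q1407 (flp_a L13952) q1592, trivial⟩ (by decide +kernel)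

theorem ce_a_22 : ∀ r, r < 64 → sm ga (Qf (1408 + r)) = Qf (tab Gen.a (1408 + r)) :=
  edges_tab (sm ga) Qf (tab Gen.a) 1408 [(1408, 1593), (1409, 1594), (1410, 1410), (1411, 1411), (1412, 1412), (1413, 1413), (1414, 1215), (1415, 1216), (1416, 1605), (1417, 1606), (1418, 1607), (1419, 1311), (1420, 1420), (1421, 1421), (1422, 1422), (1423, 1423), (1424, 1222), (1425, 1223), (1426, 1224), (1427, 1225), (1428, 1619), (1429, 1620), (1430, 1621), (1431, 1622), (1432, 1623), (1433, 1624), (1434, 1434), (1435, 1435), (1436, 1436), (1437, 1437), (1438, 1233), (1439, 1247), (1440, 1639), (1441, 1244), (1442, 1567), (1443, 1443), (1444, 1444), (1445, 1246), (1446, 1248), (1447, 1641), (1448, 1576), (1449, 1640), (1450, 1643), (1451, 1451), (1452, 1256), (1453, 1257), (1454, 1258), (1455, 1259), (1456, 1260), (1457, 1261), (1458, 1648), (1459, 1649), (1460, 1650), (1461, 1585), (1462, 1651), (1463, 1652), (1464, 1653), (1465, 1654), (1466, 1655), (1467, 1467),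 (1468, 1468), (1469, 1469), (1470, 1470), (1471, 1270)]
    ⟨e3 q1408 (flp_a L13961) q1593, e3 q1409 (flp_a L13968) q1594, e3 q1410 L12320 q1410, e3 q1411 L12326 q1411, e3 q1412 L12334 q1412, e3 q1413 L12342 q1413, e3 q1414 L12349 q1215, e3 q1415 L12357 q1216, e3 q1416 (flp_a L14052) q1605, e3 q1417 (flp_a L14061) q1606, e3 q1418 (flp_a L14072) q1607, e3 q1419 L12392 q1311, e3 q1420 L12406 q1420, e3 q1421 L12413 q1421, e3 q1422 L12421 q1422, e3 q1423 L12427 q1423, e3 q1424 L12434 q1222, e3 q1425 L12441 q1223, e3 q1426 L12448 q1224, e3 q1427 L12456 q1225, e3 q1428 (flp_a L14161) q1619, e3 q1429 (flp_a L14169) q1620, e3 q1430 (flp_a L14176) q1621, e3 q1431 (flp_a L14183) q1622, e3 q1432 (flp_a L14193) q1623, e3 q1433 (flp_a L14202) q1624, e3 q1434 L12509 q1434, e3 q1435 L12516 q1435, e3 q1436 L12521 q1436, e3 q1437 L12529 q1437, e3 q1438 L12536 q1233, e3 q1439 L12549 q1247, e3 q1440 (flp_a L14303) q1639, e3 q1441 L12568 q1244, e3 q1442 (flp_a L13690)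 q1567, e3 q1443 L12589 q1443, e3 q1444 L12597 q1444, e3 q1445 L12605 q1246, e3 q1446 L12610 q1248, e3 q1447 (flp_a L14325) q1641, e3 q1448 (flp_a L13790) q1576, e3 q1449 (flp_a L14314) q1640, e3 q1450 (flp_a L14345) q1643, e3 q1451 L12644 q1451, e3 q1452 L12649 q1256, e3 q1453 L12658 q1257, e3 q1454 L12666 q1258, e3 q1455 L12675 q1259, e3 q1456 L12684 q1260, e3 q1457 L12691 q1261, e3 q1458 (flp_a L14376) q1648, e3 q1459 (flp_a L14385) q1649, e3 q1460 (flp_a L14395) q1650, e3 q1461 (flp_a L13887) q1585, e3 q1462 (flp_a L14403) q1651, e3 q1463 (flp_a L14412) q1652, e3 q1464 (flp_a L14422) q1653, e3 q1465 (flp_a L14430) q1654, e3 q1466 (flp_a L14438) q1655, e3 q1467 L12767 q1467, e3 q1468 L12775 q1468, e3 q1469 L12781 q1469, e3 q1470 L12789 q1470, e3 q1471 L12797 q1270, trivial⟩ (by decide +kernel)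

theorem ce_a_23 : ∀ r, r < 64 → sm ga (Qf (1472 + r)) = Qf (tab Gen.a (1472 + r)) :=
  edges_tab (sm ga) Qf (tab Gen.a) 1472 [(1472, 1271), (1473, 1670), (1474, 1474), (1475, 1673), (1476, 1303), (1477, 1306), (1478, 1317), (1479, 1515), (1480, 1516), (1481, 1281), (1482, 1282), (1483, 1283), (1484, 1284), (1485, 1678), (1486, 1679), (1487, 1680), (1488, 1681), (1489, 1682), (1490, 1293), (1491, 1520), (1492, 1519), (1493, 1518), (1494, 1517), (1495, 1291), (1496, 1292), (1497, 1688), (1498, 1677), (1499, 1305), (1500, 1304), (1501, 1687), (1502, 1302), (1503, 1690), (1504, 1689), (1505, 1674), (1506, 1583), (1507, 1675), (1508, 1676), (1509, 1611), (1510, 1314), (1511, 1586), (1512, 1584), (1513, 1527), (1514, 1528), (1515, 1479), (1516, 1480), (1517, 1494), (1518, 1493), (1519, 1492), (1520, 1491), (1521, 1346), (1522, 1701), (1523, 1702), (1524, 1524), (1525, 1525), (1526, 1526), (1527, 1513), (1528, 1514), (1529, 1529), (1530, 1530), (1531, 1354),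 (1532, 1355), (1533, 1717), (1534, 1718), (1535, 1719)]
    ⟨e3 q1472 L12806 q1271, e3 q1473 (flp_a L14552) q1670, e3 q1474 L12820 q1474, e3 q1475 L14565 q1673, e3 q1476 L12832 q1303, e3 q1477 L12844 q1306, e3 q1478 L12856 q1317, e3 q1479 (flp_a L13181) q1515, e3 q1480 (flp_a L13197) q1516, e3 q1481 L12893 q1281, e3 q1482 L12901 q1282, e3 q1483 L12911 q1283, e3 q1484 L12922 q1284, e3 q1485 (flp_a L14629) q1678, e3 q1486 (flp_a L14637) q1679, e3 q1487 (flp_a L14649) q1680, e3 q1488 (flp_a L14663) q1681, e3 q1489 (flp_a L14678) q1682, e3 q1490 L12967 q1293, e3 q1491 (flp_a L13264) q1520, e3 q1492 (flp_a L13247) q1519, e3 q1493 (flp_a L13231) q1518, e3 q1494 (flp_a L13214) q1517, e3 q1495 L13029 q1291, e3 q1496 L13037 q1292, e3 q1497 (flp_a L14736) q1688, e3 q1498 (flp_a L14621) q1677, e3 q1499 L13065 q1305, e3 q1500 L13078 q1304, e3 q1501 (flp_a L14721) q1687, e3 q1502 L13098 q1302, e3 q1503 (flp_a L14759) q1690, e3 q1504 (flp_a L14748) q1689, e3 q1505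 (flp_a L14576) q1674, e3 q1506 (flp_a L13866) q1583, e3 q1507 (flp_a L14588) q1675, e3 q1508 (flp_a L14602) q1676, e3 q1509 (flp_a L14100) q1611, e3 q1510 L13146 q1314, e3 q1511 (flp_a L13896) q1586, e3 q1512 (flp_a L13877) q1584, e3 q1513 (flp_a L13332) q1527, e3 q1514 (flp_a L13343) q1528, e3 q1515 L13181 q1479, e3 q1516 L13197 q1480, e3 q1517 L13214 q1494, e3 q1518 L13231 q1493, e3 q1519 L13247 q1492, e3 q1520 L13264 q1491, e3 q1521 L13281 q1346, e3 q1522 (flp_a L14829) q1701, e3 q1523 (flp_a L14837) q1702, e3 q1524 L13307 q1524, e3 q1525 L13314 q1525, e3 q1526 L13322 q1526, e3 q1527 L13332 q1513, e3 q1528 L13343 q1514, e3 q1529 L13356 q1529, e3 q1530 L13367 q1530, e3 q1531 L13376 q1354, e3 q1532 L13386 q1355, e3 q1533 (flp_a L14978) q1717, e3 q1534 (flp_a L14988) q1718, e3 q1535 (flp_a L14997) q1719, trivial⟩ (by decide +kernel)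

theorem ce_a_24 : ∀ r, r < 64 → sm ga (Qf (1536 + r)) = Qf (tab Gen.a (1536 + r)) :=
  edges_tab (sm ga) Qf (tab Gen.a) 1536 [(1536, 1720), (1537, 1537), (1538, 1538), (1539, 1539), (1540, 1540), (1541, 1360), (1542, 1731), (1543, 1543), (1544, 1363), (1545, 1364), (1546, 1735), (1547, 1736), (1548, 1737), (1549, 1549), (1550, 1550), (1551, 1551), (1552, 1369), (1553, 1370), (1554, 1371), (1555, 1372), (1556, 1746), (1557, 1747), (1558, 1748), (1559, 1749), (1560, 1750), (1561, 1751), (1562, 1562), (1563, 1563), (1564, 1564), (1565, 1565), (1566, 1380), (1567, 1442), (1568, 1766), (1569, 1386), (1570, 1388), (1571, 1389), (1572, 1390), (1573, 1768), (1574, 1769), (1575, 1770), (1576, 1448), (1577, 1577), (1578, 1578), (1579, 1579), (1580, 1580), (1581, 1581), (1582, 1582), (1583, 1506), (1584, 1512), (1585, 1461), (1586, 1511), (1587, 1587), (1588, 1588), (1589, 1589), (1590, 1590), (1591, 1406), (1592, 1407), (1593, 1408), (1594, 1409), (1595, 1791),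 (1596, 1792), (1597, 1793), (1598, 1794), (1599, 1795)]
    ⟨e3 q1536 (flp_a L15005) q1720, e3 q1537 L13425 q1537, e3 q1538 L13433 q1538, e3 q1539 L13443 q1539, e3 q1540 L13450 q1540, e3 q1541 L13458 q1360, e3 q1542 (flp_a L15094) q1731, e3 q1543 L13479 q1543, e3 q1544 L13489 q1363, e3 q1545 L13499 q1364, e3 q1546 (flp_a L15134) q1735, e3 q1547 (flp_a L15144) q1736, e3 q1548 (flp_a L15155) q1737, e3 q1549 L13538 q1549, e3 q1550 L13549 q1550, e3 q1551 L13558 q1551, e3 q1552 L13566 q1369, e3 q1553 L13574 q1370, e3 q1554 L13581 q1371, e3 q1555 L13590 q1372, e3 q1556 (flp_a L15239) q1746, e3 q1557 (flp_a L15246) q1747, e3 q1558 (flp_a L15255) q1748, e3 q1559 (flp_a L15264) q1749, e3 q1560 (flp_a L15274) q1750, e3 q1561 (flp_a L15282) q1751, e3 q1562 L13646 q1562, e3 q1563 L13655 q1563, e3 q1564 L13662 q1564, e3 q1565 L13669 q1565, e3 q1566 L13675 q1380, e3 q1567 L13690 q1442, e3 q1568 (flp_a L15397) q1766, e3 q1569 L13716 q1386, e3 q1570 L13731 q1388,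 e3 q1571 L13738 q1389, e3 q1572 L13753 q1390, e3 q1573 (flp_a L15427) q1768, e3 q1574 (flp_a L15443) q1769, e3 q1575 (flp_a L15458) q1770, e3 q1576 L13790 q1448, e3 q1577 L13805 q1577, e3 q1578 L13817 q1578, e3 q1579 L13829 q1579, e3 q1580 L13835 q1580, e3 q1581 L13844 q1581, e3 q1582 L13854 q1582, e3 q1583 L13866 q1506, e3 q1584 L13877 q1512, e3 q1585 L13887 q1461, e3 q1586 L13896 q1511, e3 q1587 L13910 q1587, e3 q1588 L13918 q1588, e3 q1589 L13928 q1589, e3 q1590 L13935 q1590, e3 q1591 L13943 q1406, e3 q1592 L13952 q1407, e3 q1593 L13961 q1408, e3 q1594 L13968 q1409, e3 q1595 (flp_a L15667) q1791, e3 q1596 (flp_a L15677) q1792, e3 q1597 (flp_a L15684) q1793, e3 q1598 (flp_a L15692) q1794, e3 q1599 (flp_a L15702) q1795, trivial⟩ (by decide +kernel)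

theorem ce_a_25 : ∀ r, r < 64 → sm ga (Qf (1600 + r)) = Qf (tab Gen.a (1600 + r)) :=
  edges_tab (sm ga) Qf (tab Gen.a) 1600 [(1600, 1796), (1601, 1601), (1602, 1602), (1603, 1603), (1604, 1604), (1605, 1416), (1606, 1417), (1607, 1418), (1608, 1812), (1609, 1813), (1610, 1814), (1611, 1509), (1612, 1815), (1613, 1816), (1614, 1614), (1615, 1615), (1616, 1616), (1617, 1617), (1618, 1790), (1619, 1428), (1620, 1429), (1621, 1430), (1622, 1431), (1623, 1432), (1624, 1433), (1625, 1831), (1626, 1832), (1627, 1833), (1628, 1781), (1629, 1834), (1630, 1835), (1631, 1836), (1632, 1837), (1633, 1838), (1634, 1634), (1635, 1635), (1636, 1636), (1637, 1637), (1638, 1638), (1639, 1440), (1640, 1449), (1641, 1447), (1642, 1767), (1643, 1450), (1644, 1822), (1645, 1772), (1646, 1855), (1647, 1647), (1648, 1458), (1649, 1459), (1650, 1460), (1651, 1462), (1652, 1463), (1653, 1464), (1654, 1465), (1655, 1466), (1656, 1860), (1657, 1861), (1658, 1862), (1659, 1784),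 (1660, 1863), (1661, 1713), (1662, 1785), (1663, 1864)]
    ⟨e3 q1600 (flp_a L15710) q1796, e3 q1601 L14020 q1601, e3 q1602 L14028 q1602, e3 q1603 L14035 q1603, e3 q1604 L14044 q1604, e3 q1605 L14052 q1416, e3 q1606 L14061 q1417, e3 q1607 L14072 q1418, e3 q1608 (flp_a L15832) q1812, e3 q1609 (flp_a L15844) q1813, e3 q1610 (flp_a L15851) q1814, e3 q1611 L14100 q1509, e3 q1612 (flp_a L15862) q1815, e3 q1613 (flp_a L15872) q1816, e3 q1614 L14126 q1614, e3 q1615 L14135 q1615, e3 q1616 L14140 q1616, e3 q1617 L14147 q1617, e3 q1618 (flp_a L15662) q1790, e3 q1619 L14161 q1428, e3 q1620 L14169 q1429, e3 q1621 L14176 q1430, e3 q1622 L14183 q1431, e3 q1623 L14193 q1432, e3 q1624 L14202 q1433, e3 q1625 (flp_a L15994) q1831, e3 q1626 (flp_a L16000) q1832, e3 q1627 (flp_a L16011) q1833, e3 q1628 (flp_a L15571) q1781, e3 q1629 (flp_a L16019) q1834, e3 q1630 (flp_a L16026) q1835, e3 q1631 (flp_a L16037) q1836, e3 q1632 (flp_a L16044) q1837, e3 q1633 (flp_a L16054)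 q1838, e3 q1634 L14270 q1634, e3 q1635 L14276 q1635, e3 q1636 L14283 q1636, e3 q1637 L14290 q1637, e3 q1638 L14295 q1638, e3 q1639 L14303 q1440, e3 q1640 L14314 q1449, e3 q1641 L14325 q1447, e3 q1642 (flp_a L15412) q1767, e3 q1643 L14345 q1450, e3 q1644 (flp_a L15919) q1822, e3 q1645 (flp_a L15479) q1772, e3 q1646 (flp_a L16175) q1855, e3 q1647 L14370 q1647, e3 q1648 L14376 q1458, e3 q1649 L14385 q1459, e3 q1650 L14395 q1460, e3 q1651 L14403 q1462, e3 q1652 L14412 q1463, e3 q1653 L14422 q1464, e3 q1654 L14430 q1465, e3 q1655 L14438 q1466, e3 q1656 (flp_a L16200) q1860, e3 q1657 (flp_a L16210) q1861, e3 q1658 (flp_a L16219) q1862, e3 q1659 (flp_a L15602) q1784, e3 q1660 (flp_a L16228) q1863, e3 q1661 (flp_a L14935) q1713, e3 q1662 (flp_a L15612) q1785, e3 q1663 (flp_a L16237) q1864, trivial⟩ (by decide +kernel)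

theorem ce_a_26 : ∀ r, r < 64 → sm ga (Qf (1664 + r)) = Qf (tab Gen.a (1664 + r)) :=
  edges_tab (sm ga) Qf (tab Gen.a) 1664 [(1664, 1865), (1665, 1866), (1666, 1867), (1667, 1667), (1668, 1668), (1669, 1669), (1670, 1473), (1671, 1882), (1672, 1884), (1673, 1475), (1674, 1505), (1675, 1507), (1676, 1508), (1677, 1498), (1678, 1485), (1679, 1486), (1680, 1487), (1681, 1488), (1682, 1489), (1683, 1888), (1684, 1889), (1685, 1890), (1686, 1811), (1687, 1501), (1688, 1497), (1689, 1504), (1690, 1503), (1691, 1887), (1692, 1818), (1693, 1885), (1694, 1886), (1695, 1780), (1696, 1711), (1697, 1824), (1698, 1783), (1699, 1782), (1700, 1712), (1701, 1522), (1702, 1523), (1703, 1902), (1704, 1903), (1705, 1904), (1706, 1905), (1707, 1707), (1708, 1708), (1709, 1709), (1710, 1710), (1711, 1696), (1712, 1700), (1713, 1661), (1714, 1714), (1715, 1715), (1716, 1716), (1717, 1533), (1718, 1534), (1719, 1535), (1720, 1536), (1721, 1924), (1722, 1925), (1723, 1926),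 (1724, 1927), (1725, 1928), (1726, 1929), (1727, 1727)]
    ⟨e3 q1664 (flp_a L16246) q1865, e3 q1665 (flp_a L16254) q1866, e3 q1666 (flp_a L16263) q1867, e3 q1667 L14530 q1667, e3 q1668 L14539 q1668, e3 q1669 L14546 q1669, e3 q1670 L14552 q1473, e3 q1671 (flp_a L16371) q1882, e3 q1672 L16381 q1884, e3 q1673 (flp_a L14565) q1475, e3 q1674 L14576 q1505, e3 q1675 L14588 q1507, e3 q1676 L14602 q1508, e3 q1677 L14621 q1498, e3 q1678 L14629 q1485, e3 q1679 L14637 q1486, e3 q1680 L14649 q1487, e3 q1681 L14663 q1488, e3 q1682 L14678 q1489, e3 q1683 (flp_a L16437) q1888, e3 q1684 (flp_a L16452) q1889, e3 q1685 (flp_a L16467) q1890, e3 q1686 (flp_a L15827) q1811, e3 q1687 L14721 q1501, e3 q1688 L14736 q1497, e3 q1689 L14748 q1504, e3 q1690 L14759 q1503, e3 q1691 (flp_a L16421) q1887, e3 q1692 (flp_a L15887) q1818, e3 q1693 (flp_a L16391) q1885, e3 q1694 (flp_a L16406) q1886, e3 q1695 (flp_a L15559) q1780, e3 q1696 (flp_a L14911) q1711, e3 q1697 (flp_a L15937)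 q1824, e3 q1698 (flp_a L15591) q1783, e3 q1699 (flp_a L15582) q1782, e3 q1700 (flp_a L14923) q1712, e3 q1701 L14829 q1522, e3 q1702 L14837 q1523, e3 q1703 (flp_a L16545) q1902, e3 q1704 (flp_a L16553) q1903, e3 q1705 (flp_a L16561) q1904, e3 q1706 (flp_a L16570) q1905, e3 q1707 L14879 q1707, e3 q1708 L14886 q1708, e3 q1709 L14894 q1709, e3 q1710 L14902 q1710, e3 q1711 L14911 q1696, e3 q1712 L14923 q1700, e3 q1713 L14935 q1661, e3 q1714 L14945 q1714, e3 q1715 L14957 q1715, e3 q1716 L14967 q1716, e3 q1717 L14978 q1533, e3 q1718 L14988 q1534, e3 q1719 L14997 q1535, e3 q1720 L15005 q1536, e3 q1721 (flp_a L16754) q1924, e3 q1722 (flp_a L16763) q1925, e3 q1723 (flp_a L16772) q1926, e3 q1724 (flp_a L16782) q1927, e3 q1725 (flp_a L16792) q1928, e3 q1726 (flp_a L16799) q1929, e3 q1727 L15060 q1727, trivial⟩ (by decide +kernel)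

theorem ce_a_27 : ∀ r, r < 64 → sm ga (Qf (1728 + r)) = Qf (tab Gen.a (1728 + r)) :=
  edges_tab (sm ga) Qf (tab Gen.a) 1728 [(1728, 1728), (1729, 1729), (1730, 1730), (1731, 1542), (1732, 1944), (1733, 1945), (1734, 1734), (1735, 1546), (1736, 1547), (1737, 1548), (1738, 1949), (1739, 1950), (1740, 1951), (1741, 1952), (1742, 1953), (1743, 1743), (1744, 1744), (1745, 1923), (1746, 1556), (1747, 1557), (1748, 1558), (1749, 1559), (1750, 1560), (1751, 1561), (1752, 1963), (1753, 1964), (1754, 1965), (1755, 1966), (1756, 1967), (1757, 1968), (1758, 1969), (1759, 1970), (1760, 1971), (1761, 1761), (1762, 1762), (1763, 1763), (1764, 1764), (1765, 1765), (1766, 1568), (1767, 1642), (1768, 1573), (1769, 1574), (1770, 1575), (1771, 1991), (1772, 1645), (1773, 1992), (1774, 1774), (1775, 1775), (1776, 1776), (1777, 1777), (1778, 1778), (1779, 1779), (1780, 1695), (1781, 1628), (1782, 1699), (1783, 1698), (1784, 1659), (1785, 1662), (1786, 1786), (1787, 1787),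 (1788, 1788), (1789, 1789), (1790, 1618), (1791, 1595)]
    ⟨e3 q1728 L15070 q1728, e3 q1729 L15079 q1729, e3 q1730 L15087 q1730, e3 q1731 L15094 q1542, e3 q1732 (flp_a L16925) q1944, e3 q1733 (flp_a L16935) q1945, e3 q1734 L15123 q1734, e3 q1735 L15134 q1546, e3 q1736 L15144 q1547, e3 q1737 L15155 q1548, e3 q1738 (flp_a L16977) q1949, e3 q1739 (flp_a L16988) q1950, e3 q1740 (flp_a L16997) q1951, e3 q1741 (flp_a L17010) q1952, e3 q1742 (flp_a L17021) q1953, e3 q1743 L15210 q1743, e3 q1744 L15221 q1744, e3 q1745 (flp_a L16749) q1923, e3 q1746 L15239 q1556, e3 q1747 L15246 q1557, e3 q1748 L15255 q1558, e3 q1749 L15264 q1559, e3 q1750 L15274 q1560, e3 q1751 L15282 q1561, e3 q1752 (flp_a L17113) q1963, e3 q1753 (flp_a L17121) q1964, e3 q1754 (flp_a L17131) q1965, e3 q1755 (flp_a L17139) q1966, e3 q1756 (flp_a L17146) q1967, e3 q1757 (flp_a L17155) q1968, e3 q1758 (flp_a L17168) q1969, e3 q1759 (flp_a L17177) q1970, e3 q1760 (flp_a L17186) q1971, e3 q1761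 L15356 q1761, e3 q1762 L15366 q1762, e3 q1763 L15373 q1763, e3 q1764 L15381 q1764, e3 q1765 L15388 q1765, e3 q1766 L15397 q1568, e3 q1767 L15412 q1642, e3 q1768 L15427 q1573, e3 q1769 L15443 q1574, e3 q1770 L15458 q1575, e3 q1771 (flp_a L17354) q1991, e3 q1772 L15479 q1645, e3 q1773 (flp_a L17367) q1992, e3 q1774 L15502 q1774, e3 q1775 L15512 q1775, e3 q1776 L15519 q1776, e3 q1777 L15528 q1777, e3 q1778 L15538 q1778, e3 q1779 L15548 q1779, e3 q1780 L15559 q1695, e3 q1781 L15571 q1628, e3 q1782 L15582 q1699, e3 q1783 L15591 q1698, e3 q1784 L15602 q1659, e3 q1785 L15612 q1662, e3 q1786 L15623 q1786, e3 q1787 L15633 q1787, e3 q1788 L15640 q1788, e3 q1789 L15648 q1789, e3 q1790 L15662 q1618, e3 q1791 L15667 q1595, trivial⟩ (by decide +kernel)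

theorem ce_a_28 : ∀ r, r < 64 → sm ga (Qf (1792 + r)) = Qf (tab Gen.a (1792 + r)) :=
  edges_tab (sm ga) Qf (tab Gen.a) 1792 [(1792, 1596), (1793, 1597), (1794, 1598), (1795, 1599), (1796, 1600), (1797, 2015), (1798, 2016), (1799, 2017), (1800, 2018), (1801, 2019), (1802, 2020), (1803, 2021), (1804, 2022), (1805, 2023), (1806, 1806), (1807, 1807), (1808, 1808), (1809, 1809), (1810, 1810), (1811, 1686), (1812, 1608), (1813, 1609), (1814, 1610), (1815, 1612), (1816, 1613), (1817, 2043), (1818, 1692), (1819, 2044), (1820, 2014), (1821, 2045), (1822, 1644), (1823, 2046), (1824, 1697), (1825, 2047), (1826, 1826), (1827, 1827), (1828, 1828), (1829, 1829), (1830, 2013), (1831, 1625), (1832, 1626), (1833, 1627), (1834, 1629), (1835, 1630), (1836, 1631), (1837, 1632), (1838, 1633), (1839, 2049), (1840, 2048), (1841, 2063), (1842, 2064), (1843, 2003), (1844, 2065), (1845, 1917), (1846, 2004), (1847, 1990), (1848, 2066), (1849, 2067), (1850, 2068), (1851, 2069),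 (1852, 1852), (1853, 1853), (1854, 1854), (1855, 1646)]
    ⟨e3 q1792 L15677 q1596, e3 q1793 L15684 q1597, e3 q1794 L15692 q1598, e3 q1795 L15702 q1599, e3 q1796 L15710 q1600, e3 q1797 (flp_a L17593) q2015, e3 q1798 (flp_a L17601) q2016, e3 q1799 (flp_a L17614) q2017, e3 q1800 (flp_a L17622) q2018, e3 q1801 (flp_a L17632) q2019, e3 q1802 (flp_a L17641) q2020, e3 q1803 (flp_a L17651) q2021, e3 q1804 (flp_a L17658) q2022, e3 q1805 (flp_a L17667) q2023, e3 q1806 L15785 q1806, e3 q1807 L15792 q1807, e3 q1808 L15801 q1808, e3 q1809 L15806 q1809, e3 q1810 L15813 q1810, e3 q1811 L15827 q1686, e3 q1812 L15832 q1608, e3 q1813 L15844 q1609, e3 q1814 L15851 q1610, e3 q1815 L15862 q1612, e3 q1816 L15872 q1613, e3 q1817 (flp_a L17826) q2043, e3 q1818 L15887 q1692, e3 q1819 (flp_a L17838) q2044, e3 q1820 (flp_a L17583) q2014, e3 q1821 (flp_a L17848) q2045, e3 q1822 L15919 q1644, e3 q1823 (flp_a L17857) q2046, e3 q1824 L15937 q1697, e3 q1825 (flp_a L17866) q2047,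 e3 q1826 L15956 q1826, e3 q1827 L15963 q1827, e3 q1828 L15971 q1828, e3 q1829 L15978 q1829, e3 q1830 (flp_a L17570) q2013, e3 q1831 L15994 q1625, e3 q1832 L16000 q1626, e3 q1833 L16011 q1627, e3 q1834 L16019 q1629, e3 q1835 L16026 q1630, e3 q1836 L16037 q1631, e3 q1837 L16044 q1632, e3 q1838 L16054 q1633, e3 q1839 (flp_a L17890) q2049, e3 q1840 (flp_a L17878) q2048, e3 q1841 (flp_a L18015) q2063, e3 q1842 (flp_a L18023) q2064, e3 q1843 (flp_a L17471) q2003, e3 q1844 (flp_a L18032) q2065, e3 q1845 (flp_a L16673) q1917, e3 q1846 (flp_a L17483) q2004, e3 q1847 (flp_a L17342) q1990, e3 q1848 (flp_a L18040) q2066, e3 q1849 (flp_a L18049) q2067, e3 q1850 (flp_a L18058) q2068, e3 q1851 (flp_a L18065) q2069, e3 q1852 L16154 q1852, e3 q1853 L16161 q1853, e3 q1854 L16168 q1854, e3 q1855 L16175 q1646, trivial⟩ (by decide +kernel)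

theorem ce_a_29 : ∀ r, r < 64 → sm ga (Qf (1856 + r)) = Qf (tab Gen.a (1856 + r)) :=
  edges_tab (sm ga) Qf (tab Gen.a) 1856 [(1856, 2055), (1857, 1980), (1858, 2086), (1859, 2091), (1860, 1656), (1861, 1657), (1862, 1658), (1863, 1660), (1864, 1663), (1865, 1664), (1866, 1665), (1867, 1666), (1868, 2092), (1869, 2093), (1870, 2094), (1871, 2007), (1872, 2095), (1873, 2006), (1874, 2008), (1875, 1919), (1876, 1920), (1877, 2096), (1878, 2097), (1879, 2098), (1880, 2108), (1881, 1881), (1882, 1671), (1883, 2114), (1884, 1672), (1885, 1693), (1886, 1694), (1887, 1691), (1888, 1683), (1889, 1684), (1890, 1685), (1891, 2115), (1892, 2042), (1893, 1948), (1894, 2051), (1895, 2062), (1896, 2002), (1897, 2001), (1898, 1916), (1899, 2058), (1900, 2005), (1901, 1918), (1902, 1703), (1903, 1704), (1904, 1705), (1905, 1706), (1906, 2126), (1907, 2127), (1908, 2128), (1909, 2129), (1910, 2130), (1911, 2131), (1912, 1912), (1913, 1913), (1914, 1914), (1915, 1915),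 (1916, 1898), (1917, 1845), (1918, 1901), (1919, 1875)]
    ⟨e3 q1856 (flp_a L17942) q2055, e3 q1857 (flp_a L17249) q1980, e3 q1858 (flp_a L18182) q2086, e3 q1859 L18208 q2091, e3 q1860 L16200 q1656, e3 q1861 L16210 q1657, e3 q1862 L16219 q1658, e3 q1863 L16228 q1660, e3 q1864 L16237 q1663, e3 q1865 L16246 q1664, e3 q1866 L16254 q1665, e3 q1867 L16263 q1666, e3 q1868 (flp_a L18218) q2092, e3 q1869 (flp_a L18228) q2093, e3 q1870 (flp_a L18234) q2094, e3 q1871 (flp_a L17515) q2007, e3 q1872 (flp_a L18244) q2095, e3 q1873 (flp_a L17507) q2006, e3 q1874 (flp_a L17526) q2008, e3 q1875 (flp_a L16697) q1919, e3 q1876 (flp_a L16708) q1920, e3 q1877 (flp_a L18254) q2096, e3 q1878 (flp_a L18264) q2097, e3 q1879 (flp_a L18271) q2098, e3 q1880 (flp_a L18340) q2108, e3 q1881 L16364 q1881, e3 q1882 L16371 q1671, e3 q1883 L18376 q2114, e3 q1884 (flp_a L16381) q1672, e3 q1885 L16391 q1693, e3 q1886 L16406 q1694, e3 q1887 L16421 q1691, e3 q1888 L16437 q1683, e3 q1889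 L16452 q1684, e3 q1890 L16467 q1685, e3 q1891 (flp_a L18386) q2115, e3 q1892 (flp_a L17813) q2042, e3 q1893 (flp_a L16972) q1948, e3 q1894 (flp_a L17908) q2051, e3 q1895 (flp_a L18003) q2062, e3 q1896 (flp_a L17458) q2002, e3 q1897 (flp_a L17448) q2001, e3 q1898 (flp_a L16660) q1916, e3 q1899 (flp_a L17969) q2058, e3 q1900 (flp_a L17496) q2005, e3 q1901 (flp_a L16684) q1918, e3 q1902 L16545 q1703, e3 q1903 L16553 q1704, e3 q1904 L16561 q1705, e3 q1905 L16570 q1706, e3 q1906 (flp_a L18456) q2126, e3 q1907 (flp_a L18464) q2127, e3 q1908 (flp_a L18472) q2128, e3 q1909 (flp_a L18480) q2129, e3 q1910 (flp_a L18505) q2130, e3 q1911 (flp_a L18514) q2131, e3 q1912 L16627 q1912, e3 q1913 L16635 q1913, e3 q1914 L16642 q1914, e3 q1915 L16651 q1915, e3 q1916 L16660 q1898, e3 q1917 L16673 q1845, e3 q1918 L16684 q1901, e3 q1919 L16697 q1875, trivial⟩ (by decide +kernel)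

theorem ce_a_30 : ∀ r, r < 64 → sm ga (Qf (1920 + r)) = Qf (tab Gen.a (1920 + r)) :=
  edges_tab (sm ga) Qf (tab Gen.a) 1920 [(1920, 1876), (1921, 1921), (1922, 1922), (1923, 1745), (1924, 1721), (1925, 1722), (1926, 1723), (1927, 1724), (1928, 1725), (1929, 1726), (1930, 2152), (1931, 2153), (1932, 2154), (1933, 2155), (1934, 2156), (1935, 2157), (1936, 2158), (1937, 2159), (1938, 2160), (1939, 1939), (1940, 1940), (1941, 1941), (1942, 1942), (1943, 1943), (1944, 1732), (1945, 1733), (1946, 2180), (1947, 2181), (1948, 1893), (1949, 1738), (1950, 1739), (1951, 1740), (1952, 1741), (1953, 1742), (1954, 2186), (1955, 2187), (1956, 2188), (1957, 2189), (1958, 2190), (1959, 2191), (1960, 1960), (1961, 2150), (1962, 2151), (1963, 1752), (1964, 1753), (1965, 1754), (1966, 1755), (1967, 1756), (1968, 1757), (1969, 1758), (1970, 1759), (1971, 1760), (1972, 2203), (1973, 2204), (1974, 2205), (1975, 2206), (1976, 2207), (1977, 2208), (1978, 2144), (1979, 2209),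 (1980, 1857), (1981, 2210), (1982, 2211), (1983, 2212)]
    ⟨e3 q1920 L16708 q1876, e3 q1921 L16720 q1921, e3 q1922 L16731 q1922, e3 q1923 L16749 q1745, e3 q1924 L16754 q1721, e3 q1925 L16763 q1722, e3 q1926 L16772 q1723, e3 q1927 L16782 q1724, e3 q1928 L16792 q1725, e3 q1929 L16799 q1726, e3 q1930 (flp_a L18723) q2152, e3 q1931 (flp_a L18733) q2153, e3 q1932 (flp_a L18743) q2154, e3 q1933 (flp_a L18751) q2155, e3 q1934 (flp_a L18757) q2156, e3 q1935 (flp_a L18768) q2157, e3 q1936 (flp_a L18778) q2158, e3 q1937 (flp_a L18787) q2159, e3 q1938 (flp_a L18795) q2160, e3 q1939 L16880 q1939, e3 q1940 L16891 q1940, e3 q1941 L16900 q1941, e3 q1942 L16906 q1942, e3 q1943 L16915 q1943, e3 q1944 L16925 q1732, e3 q1945 L16935 q1733, e3 q1946 (flp_a L18965) q2180, e3 q1947 (flp_a L18975) q2181, e3 q1948 L16972 q1893, e3 q1949 L16977 q1738, e3 q1950 L16988 q1739, e3 q1951 L16997 q1740, e3 q1952 L17010 q1741, e3 q1953 L17021 q1742, e3 q1954 (flp_a L19028) q2186,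 e3 q1955 (flp_a L19042) q2187, e3 q1956 (flp_a L19052) q2188, e3 q1957 (flp_a L19058) q2189, e3 q1958 (flp_a L19069) q2190, e3 q1959 (flp_a L19082) q2191, e3 q1960 L17086 q1960, e3 q1961 (flp_a L18703) q2150, e3 q1962 (flp_a L18713) q2151, e3 q1963 L17113 q1752, e3 q1964 L17121 q1753, e3 q1965 L17131 q1754, e3 q1966 L17139 q1755, e3 q1967 L17146 q1756, e3 q1968 L17155 q1757, e3 q1969 L17168 q1758, e3 q1970 L17177 q1759, e3 q1971 L17186 q1760, e3 q1972 (flp_a L19195) q2203, e3 q1973 (flp_a L19208) q2204, e3 q1974 (flp_a L19222) q2205, e3 q1975 (flp_a L19232) q2206, e3 q1976 (flp_a L19241) q2207, e3 q1977 (flp_a L19249) q2208, e3 q1978 (flp_a L18630) q2144, e3 q1979 (flp_a L19257) q2209, e3 q1980 L17249 q1857, e3 q1981 (flp_a L19265) q2210, e3 q1982 (flp_a L19278) q2211, e3 q1983 (flp_a L19290) q2212, trivial⟩ (by decide +kernel)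

theorem ce_a_31 : ∀ r, r < 64 → sm ga (Qf (1984 + r)) = Qf (tab Gen.a (1984 + r)) :=
  edges_tab (sm ga) Qf (tab Gen.a) 1984 [(1984, 2213), (1985, 1985), (1986, 1986), (1987, 1987), (1988, 1988), (1989, 1989), (1990, 1847), (1991, 1771), (1992, 1773), (1993, 2228), (1994, 2214), (1995, 1995), (1996, 2241), (1997, 1997), (1998, 1998), (1999, 1999), (2000, 2000), (2001, 1897), (2002, 1896), (2003, 1843), (2004, 1846), (2005, 1900), (2006, 1873), (2007, 1871), (2008, 1874), (2009, 2009), (2010, 2010), (2011, 2011), (2012, 2012), (2013, 1830), (2014, 1820), (2015, 1797), (2016, 1798), (2017, 1799), (2018, 1800), (2019, 1801), (2020, 1802), (2021, 1803), (2022, 1804), (2023, 1805), (2024, 2262), (2025, 2263), (2026, 2264), (2027, 2265), (2028, 2266), (2029, 2267), (2030, 2185), (2031, 2268), (2032, 2269), (2033, 2270), (2034, 2271), (2035, 2272), (2036, 2273), (2037, 2037), (2038, 2038), (2039, 2039), (2040, 2040), (2041, 2041), (2042, 1892), (2043, 1817),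 (2044, 1819), (2045, 1821), (2046, 1823), (2047, 1825)]
    ⟨e3 q1984 (flp_a L19299) q2213, e3 q1985 L17297 q1985, e3 q1986 L17307 q1986, e3 q1987 L17317 q1987, e3 q1988 L17326 q1988, e3 q1989 L17334 q1989, e3 q1990 L17342 q1847, e3 q1991 L17354 q1771, e3 q1992 L17367 q1773, e3 q1993 (flp_a L19422) q2228, e3 q1994 (flp_a L19310) q2214, e3 q1995 L17390 q1995, e3 q1996 L19545 q2241, e3 q1997 L17407 q1997, e3 q1998 L17417 q1998, e3 q1999 L17426 q1999, e3 q2000 L17437 q2000, e3 q2001 L17448 q1897, e3 q2002 L17458 q1896, e3 q2003 L17471 q1843, e3 q2004 L17483 q1846, e3 q2005 L17496 q1900, e3 q2006 L17507 q1873, e3 q2007 L17515 q1871, e3 q2008 L17526 q1874, e3 q2009 L17538 q2009, e3 q2010 L17547 q2010, e3 q2011 L17551 q2011, e3 q2012 L17560 q2012, e3 q2013 L17570 q1830, e3 q2014 L17583 q1820, e3 q2015 L17593 q1797, e3 q2016 L17601 q1798, e3 q2017 L17614 q1799, e3 q2018 L17622 q1800, e3 q2019 L17632 q1801, e3 q2020 L17641 q1802, e3 q2021 L17651 q1803, e3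 q2022 L17658 q1804, e3 q2023 L17667 q1805, e3 q2024 (flp_a L19771) q2262, e3 q2025 (flp_a L19784) q2263, e3 q2026 (flp_a L19798) q2264, e3 q2027 (flp_a L19806) q2265, e3 q2028 (flp_a L19819) q2266, e3 q2029 (flp_a L19832) q2267, e3 q2030 (flp_a L19018) q2185, e3 q2031 (flp_a L19842) q2268, e3 q2032 (flp_a L19854) q2269, e3 q2033 (flp_a L19863) q2270, e3 q2034 (flp_a L19872) q2271, e3 q2035 (flp_a L19879) q2272, e3 q2036 (flp_a L19888) q2273, e3 q2037 L17776 q2037, e3 q2038 L17784 q2038, e3 q2039 L17791 q2039, e3 q2040 L17800 q2040, e3 q2041 L17807 q2041, e3 q2042 L17813 q1892, e3 q2043 L17826 q1817, e3 q2044 L17838 q1819, e3 q2045 L17848 q1821, e3 q2046 L17857 q1823, e3 q2047 L17866 q1825, trivial⟩ (by decide +kernel)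

theorem ce_a_32 : ∀ r, r < 64 → sm ga (Qf (2048 + r)) = Qf (tab Gen.a (2048 + r)) :=
  edges_tab (sm ga) Qf (tab Gen.a) 2048 [(2048, 1840), (2049, 1839), (2050, 2296), (2051, 1894), (2052, 2260), (2053, 2297), (2054, 2261), (2055, 1856), (2056, 2237), (2057, 2298), (2058, 1899), (2059, 2059), (2060, 2060), (2061, 2259), (2062, 1895), (2063, 1841), (2064, 1842), (2065, 1844), (2066, 1848), (2067, 1849), (2068, 1850), (2069, 1851), (2070, 2300), (2071, 2192), (2072, 2299), (2073, 2310), (2074, 2311), (2075, 2249), (2076, 2312), (2077, 2248), (2078, 2250), (2079, 2143), (2080, 2145), (2081, 2313), (2082, 2314), (2083, 2315), (2084, 2331), (2085, 2085), (2086, 1858), (2087, 2227), (2088, 2307), (2089, 2216), (2090, 2337), (2091, 1859), (2092, 1868), (2093, 1869), (2094, 1870), (2095, 1872), (2096, 1877), (2097, 1878), (2098, 1879), (2099, 2338), (2100, 2339), (2101, 2340), (2102, 2252), (2103, 2341), (2104, 2251), (2105, 2254), (2106, 2146), (2107, 2253),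 (2108, 1880), (2109, 2147), (2110, 2327), (2111, 2343)]
    ⟨e3 q2048 L17878 q1840, e3 q2049 L17890 q1839, e3 q2050 (flp_a L20069) q2296, e3 q2051 L17908 q1894, e3 q2052 (flp_a L19746) q2260, e3 q2053 (flp_a L20079) q2297, e3 q2054 (flp_a L19759) q2261, e3 q2055 L17942 q1856, e3 q2056 (flp_a L19510) q2237, e3 q2057 (flp_a L20091) q2298, e3 q2058 L17969 q1899, e3 q2059 L17981 q2059, e3 q2060 L17990 q2060, e3 q2061 (flp_a L19733) q2259, e3 q2062 L18003 q1895, e3 q2063 L18015 q1841, e3 q2064 L18023 q1842, e3 q2065 L18032 q1844, e3 q2066 L18040 q1848, e3 q2067 L18049 q1849, e3 q2068 L18058 q1850, e3 q2069 L18065 q1851, e3 q2070 (flp_a L20112) q2300, e3 q2071 (flp_a L19095) q2192, e3 q2072 (flp_a L20102) q2299, e3 q2073 (flp_a L20199) q2310, e3 q2074 (flp_a L20203) q2311, e3 q2075 (flp_a L19634) q2249, e3 q2076 (flp_a L20211) q2312, e3 q2077 (flp_a L19624) q2248, e3 q2078 (flp_a L19647) q2250, e3 q2079 (flp_a L18618) q2143, e3 q2080 (flp_a L18641) q2145,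 e3 q2081 (flp_a L20222) q2313, e3 q2082 (flp_a L20233) q2314, e3 q2083 (flp_a L20241) q2315, e3 q2084 L20342 q2331, e3 q2085 L18175 q2085, e3 q2086 L18182 q1858, e3 q2087 (flp_a L19409) q2227, e3 q2088 (flp_a L20171) q2307, e3 q2089 (flp_a L19330) q2216, e3 q2090 L20379 q2337, e3 q2091 (flp_a L18208) q1859, e3 q2092 L18218 q1868, e3 q2093 L18228 q1869, e3 q2094 L18234 q1870, e3 q2095 L18244 q1872, e3 q2096 L18254 q1877, e3 q2097 L18264 q1878, e3 q2098 L18271 q1879, e3 q2099 (flp_a L20389) q2338, e3 q2100 (flp_a L20396) q2339, e3 q2101 (flp_a L20407) q2340, e3 q2102 (flp_a L19671) q2252, e3 q2103 (flp_a L20415) q2341, e3 q2104 (flp_a L19661) q2251, e3 q2105 (flp_a L19690) q2254, e3 q2106 (flp_a L18654) q2146, e3 q2107 (flp_a L19680) q2253, e3 q2108 L18340 q1880, e3 q2109 (flp_a L18666) q2147, e3 q2110 (flp_a L20315) q2327, e3 q2111 (flp_a L20428) q2343, trivial⟩ (by decide +kernel)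

theorem ce_a_33 : ∀ r, r < 64 → sm ga (Qf (2112 + r)) = Qf (tab Gen.a (2112 + r)) :=
  edges_tab (sm ga) Qf (tab Gen.a) 2112 [(2112, 2355), (2113, 2357), (2114, 1883), (2115, 1891), (2116, 2280), (2117, 2274), (2118, 2184), (2119, 2303), (2120, 2304), (2121, 2246), (2122, 2247), (2123, 2142), (2124, 2240), (2125, 2125), (2126, 1906), (2127, 1907), (2128, 1908), (2129, 1909), (2130, 1910), (2131, 1911), (2132, 2365), (2133, 2366), (2134, 2367), (2135, 2368), (2136, 2369), (2137, 2370), (2138, 2138), (2139, 2139), (2140, 2140), (2141, 2141), (2142, 2123), (2143, 2079), (2144, 1978), (2145, 2080), (2146, 2106), (2147, 2109), (2148, 2148), (2149, 2149), (2150, 1961), (2151, 1962), (2152, 1930), (2153, 1931), (2154, 1932), (2155, 1933), (2156, 1934), (2157, 1935), (2158, 1936), (2159, 1937), (2160, 1938), (2161, 2395), (2162, 2396), (2163, 2397), (2164, 2398), (2165, 2399), (2166, 2400), (2167, 2401), (2168, 2402), (2169, 2403), (2170, 2404), (2171, 2405),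 (2172, 2406), (2173, 2407), (2174, 2174), (2175, 2175)]
    ⟨e3 q2112 (flp_a L20509) q2355, e3 q2113 L20523 q2357, e3 q2114 (flp_a L18376) q1883, e3 q2115 L18386 q1891, e3 q2116 (flp_a L19948) q2280, e3 q2117 (flp_a L19899) q2274, e3 q2118 (flp_a L19006) q2184, e3 q2119 (flp_a L20132) q2303, e3 q2120 (flp_a L20144) q2304, e3 q2121 (flp_a L19597) q2246, e3 q2122 (flp_a L19610) q2247, e3 q2123 (flp_a L18604) q2142, e3 q2124 L19543 q2240, e3 q2125 L18452 q2125, e3 q2126 L18456 q1906, e3 q2127 L18464 q1907, e3 q2128 L18472 q1908, e3 q2129 L18480 q1909, e3 q2130 L18505 q1910, e3 q2131 L18514 q1911, e3 q2132 (flp_a L20579) q2365, e3 q2133 (flp_a L20593) q2366, e3 q2134 (flp_a L20601) q2367, e3 q2135 (flp_a L20610) q2368, e3 q2136 (flp_a L20622) q2369, e3 q2137 (flp_a L20636) q2370, e3 q2138 L18571 q2138, e3 q2139 L18579 q2139, e3 q2140 L18586 q2140, e3 q2141 L18594 q2141, e3 q2142 L18604 q2123, e3 q2143 L18618 q2079, e3 q2144 L18630 q1978, e3 q2145 L18641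 q2080, e3 q2146 L18654 q2106, e3 q2147 L18666 q2109, e3 q2148 L18679 q2148, e3 q2149 L18690 q2149, e3 q2150 L18703 q1961, e3 q2151 L18713 q1962, e3 q2152 L18723 q1930, e3 q2153 L18733 q1931, e3 q2154 L18743 q1932, e3 q2155 L18751 q1933, e3 q2156 L18757 q1934, e3 q2157 L18768 q1935, e3 q2158 L18778 q1936, e3 q2159 L18787 q1937, e3 q2160 L18795 q1938, e3 q2161 (flp_a L20896) q2395, e3 q2162 (flp_a L20908) q2396, e3 q2163 (flp_a L20918) q2397, e3 q2164 (flp_a L20928) q2398, e3 q2165 (flp_a L20937) q2399, e3 q2166 (flp_a L20944) q2400, e3 q2167 (flp_a L20954) q2401, e3 q2168 (flp_a L20964) q2402, e3 q2169 (flp_a L20971) q2403, e3 q2170 (flp_a L20982) q2404, e3 q2171 (flp_a L20991) q2405, e3 q2172 (flp_a L20999) q2406, e3 q2173 (flp_a L21010) q2407, e3 q2174 L18913 q2174, e3 q2175 L18923 q2175, trivial⟩ (by decide +kernel)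

theorem ce_a_34 : ∀ r, r < 64 → sm ga (Qf (2176 + r)) = Qf (tab Gen.a (2176 + r)) :=
  edges_tab (sm ga) Qf (tab Gen.a) 2176 [(2176, 2176), (2177, 2177), (2178, 2178), (2179, 2179), (2180, 1946), (2181, 1947), (2182, 2434), (2183, 2435), (2184, 2118), (2185, 2030), (2186, 1954), (2187, 1955), (2188, 1956), (2189, 1957), (2190, 1958), (2191, 1959), (2192, 2071), (2193, 2441), (2194, 2442), (2195, 2443), (2196, 2393), (2197, 2444), (2198, 2445), (2199, 2390), (2200, 2391), (2201, 2392), (2202, 2394), (2203, 1972), (2204, 1973), (2205, 1974), (2206, 1975), (2207, 1976), (2208, 1977), (2209, 1979), (2210, 1981), (2211, 1982), (2212, 1983), (2213, 1984), (2214, 1994), (2215, 2459), (2216, 2089), (2217, 2460), (2218, 2461), (2219, 2462), (2220, 2463), (2221, 2464), (2222, 2465), (2223, 2466), (2224, 2384), (2225, 2386), (2226, 2467), (2227, 2087), (2228, 1993), (2229, 2468), (2230, 2469), (2231, 2470), (2232, 2232), (2233, 2233), (2234, 2234), (2235, 2493),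 (2236, 2236), (2237, 2056), (2238, 2488), (2239, 2496)]
    ⟨e3 q2176 L18929 q2176, e3 q2177 L18940 q2177, e3 q2178 L18948 q2178, e3 q2179 L18961 q2179, e3 q2180 L18965 q1946, e3 q2181 L18975 q1947, e3 q2182 (flp_a L21243) q2434, e3 q2183 (flp_a L21253) q2435, e3 q2184 L19006 q2118, e3 q2185 L19018 q2030, e3 q2186 L19028 q1954, e3 q2187 L19042 q1955, e3 q2188 L19052 q1956, e3 q2189 L19058 q1957, e3 q2190 L19069 q1958, e3 q2191 L19082 q1959, e3 q2192 L19095 q2071, e3 q2193 (flp_a L21320) q2441, e3 q2194 (flp_a L21332) q2442, e3 q2195 (flp_a L21343) q2443, e3 q2196 (flp_a L20874) q2393, e3 q2197 (flp_a L21355) q2444, e3 q2198 (flp_a L21362) q2445, e3 q2199 (flp_a L20841) q2390, e3 q2200 (flp_a L20854) q2391, e3 q2201 (flp_a L20865) q2392, e3 q2202 (flp_a L20884) q2394, e3 q2203 L19195 q1972, e3 q2204 L19208 q1973, e3 q2205 L19222 q1974, e3 q2206 L19232 q1975, e3 q2207 L19241 q1976, e3 q2208 L19249 q1977, e3 q2209 L19257 q1979, e3 q2210 L19265 q1981,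 e3 q2211 L19278 q1982, e3 q2212 L19290 q1983, e3 q2213 L19299 q1984, e3 q2214 L19310 q1994, e3 q2215 (flp_a L21499) q2459, e3 q2216 L19330 q2089, e3 q2217 (flp_a L21510) q2460, e3 q2218 (flp_a L21522) q2461, e3 q2219 (flp_a L21528) q2462, e3 q2220 (flp_a L21538) q2463, e3 q2221 (flp_a L21547) q2464, e3 q2222 (flp_a L21558) q2465, e3 q2223 (flp_a L21564) q2466, e3 q2224 (flp_a L20765) q2384, e3 q2225 (flp_a L20791) q2386, e3 q2226 (flp_a L21573) q2467, e3 q2227 L19409 q2087, e3 q2228 L19422 q1993, e3 q2229 (flp_a L21580) q2468, e3 q2230 (flp_a L21595) q2469, e3 q2231 (flp_a L21606) q2470, e3 q2232 L19461 q2232, e3 q2233 L19473 q2233, e3 q2234 L19483 q2234, e3 q2235 L21795 q2493, e3 q2236 L19502 q2236, e3 q2237 L19510 q2056, e3 q2238 (flp_a L21743) q2488, e3 q2239 L21826 q2496, trivial⟩ (by decide +kernel)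

theorem ce_a_35 : ∀ r, r < 64 → sm ga (Qf (2240 + r)) = Qf (tab Gen.a (2240 + r)) :=
  edges_tab (sm ga) Qf (tab Gen.a) 2240 [(2240, 2124), (2241, 1996), (2242, 2242), (2243, 2243), (2244, 2244), (2245, 2245), (2246, 2121), (2247, 2122), (2248, 2077), (2249, 2075), (2250, 2078), (2251, 2104), (2252, 2102), (2253, 2107), (2254, 2105), (2255, 2255), (2256, 2256), (2257, 2257), (2258, 2258), (2259, 2061), (2260, 2052), (2261, 2054), (2262, 2024), (2263, 2025), (2264, 2026), (2265, 2027), (2266, 2028), (2267, 2029), (2268, 2031), (2269, 2032), (2270, 2033), (2271, 2034), (2272, 2035), (2273, 2036), (2274, 2117), (2275, 2516), (2276, 2517), (2277, 2518), (2278, 2519), (2279, 2520), (2280, 2116), (2281, 2521), (2282, 2522), (2283, 2523), (2284, 2439), (2285, 2440), (2286, 2524), (2287, 2525), (2288, 2526), (2289, 2527), (2290, 2528), (2291, 2291), (2292, 2292), (2293, 2549), (2294, 2294), (2295, 2295), (2296, 2050), (2297, 2053), (2298, 2057), (2299, 2072),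 (2300, 2070), (2301, 2552), (2302, 2553), (2303, 2119)]
    ⟨e3 q2240 (flp_a L19543) q2124, e3 q2241 (flp_a L19545) q1996, e3 q2242 L19556 q2242, e3 q2243 L19566 q2243, e3 q2244 L19575 q2244, e3 q2245 L19585 q2245, e3 q2246 L19597 q2121, e3 q2247 L19610 q2122, e3 q2248 L19624 q2077, e3 q2249 L19634 q2075, e3 q2250 L19647 q2078, e3 q2251 L19661 q2104, e3 q2252 L19671 q2102, e3 q2253 L19680 q2107, e3 q2254 L19690 q2105, e3 q2255 L19703 q2255, e3 q2256 L19709 q2256, e3 q2257 L19720 q2257, e3 q2258 L19728 q2258, e3 q2259 L19733 q2061, e3 q2260 L19746 q2052, e3 q2261 L19759 q2054, e3 q2262 L19771 q2024, e3 q2263 L19784 q2025, e3 q2264 L19798 q2026, e3 q2265 L19806 q2027, e3 q2266 L19819 q2028, e3 q2267 L19832 q2029, e3 q2268 L19842 q2031, e3 q2269 L19854 q2032, e3 q2270 L19863 q2033, e3 q2271 L19872 q2034, e3 q2272 L19879 q2035, e3 q2273 L19888 q2036, e3 q2274 L19899 q2117, e3 q2275 (flp_a L22029) q2516, e3 q2276 (flp_a L22040) q2517, e3 q2277 (flp_a L22053)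 q2518, e3 q2278 (flp_a L22065) q2519, e3 q2279 (flp_a L22069) q2520, e3 q2280 L19948 q2116, e3 q2281 (flp_a L22079) q2521, e3 q2282 (flp_a L22094) q2522, e3 q2283 (flp_a L22105) q2523, e3 q2284 (flp_a L21297) q2439, e3 q2285 (flp_a L21308) q2440, e3 q2286 (flp_a L22120) q2524, e3 q2287 (flp_a L22128) q2525, e3 q2288 (flp_a L22137) q2526, e3 q2289 (flp_a L22148) q2527, e3 q2290 (flp_a L22154) q2528, e3 q2291 L20034 q2291, e3 q2292 L20042 q2292, e3 q2293 L22307 q2549, e3 q2294 L20056 q2294, e3 q2295 L20064 q2295, e3 q2296 L20069 q2050, e3 q2297 L20079 q2053, e3 q2298 L20091 q2057, e3 q2299 L20102 q2072, e3 q2300 L20112 q2070, e3 q2301 (flp_a L22332) q2552, e3 q2302 (flp_a L22340) q2553, e3 q2303 L20132 q2119, trivial⟩ (by decide +kernel)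

theorem ce_a_36 : ∀ r, r < 64 → sm ga (Qf (2304 + r)) = Qf (tab Gen.a (2304 + r)) :=
  edges_tab (sm ga) Qf (tab Gen.a) 2304 [(2304, 2120), (2305, 2514), (2306, 2515), (2307, 2088), (2308, 2446), (2309, 2495), (2310, 2073), (2311, 2074), (2312, 2076), (2313, 2081), (2314, 2082), (2315, 2083), (2316, 2556), (2317, 2557), (2318, 2554), (2319, 2555), (2320, 2564), (2321, 2503), (2322, 2565), (2323, 2502), (2324, 2505), (2325, 2383), (2326, 2504), (2327, 2110), (2328, 2385), (2329, 2581), (2330, 2567), (2331, 2084), (2332, 2585), (2333, 2586), (2334, 2473), (2335, 2487), (2336, 2589), (2337, 2090), (2338, 2099), (2339, 2100), (2340, 2101), (2341, 2103), (2342, 2540), (2343, 2111), (2344, 2506), (2345, 2590), (2346, 2484), (2347, 2508), (2348, 2592), (2349, 2387), (2350, 2509), (2351, 2593), (2352, 2491), (2353, 2507), (2354, 2388), (2355, 2112), (2356, 2583), (2357, 2113), (2358, 2537), (2359, 2438), (2360, 2501), (2361, 2561), (2362, 2382), (2363, 2454),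 (2364, 2364), (2365, 2132), (2366, 2133), (2367, 2134)]
    ⟨e3 q2304 L20144 q2120, e3 q2305 (flp_a L22003) q2514, e3 q2306 (flp_a L22014) q2515, e3 q2307 L20171 q2088, e3 q2308 (flp_a L21377) q2446, e3 q2309 (flp_a L21814) q2495, e3 q2310 L20199 q2073, e3 q2311 L20203 q2074, e3 q2312 L20211 q2076, e3 q2313 L20222 q2081, e3 q2314 L20233 q2082, e3 q2315 L20241 q2083, e3 q2316 (flp_a L22372) q2556, e3 q2317 (flp_a L22380) q2557, e3 q2318 (flp_a L22352) q2554, e3 q2319 (flp_a L22360) q2555, e3 q2320 (flp_a L22436) q2564, e3 q2321 (flp_a L21899) q2503, e3 q2322 (flp_a L22442) q2565, e3 q2323 (flp_a L21887) q2502, e3 q2324 (flp_a L21919) q2505, e3 q2325 (flp_a L20751) q2383, e3 q2326 (flp_a L21907) q2504, e3 q2327 L20315 q2110, e3 q2328 (flp_a L20777) q2385, e3 q2329 (flp_a L22534) q2581, e3 q2330 (flp_a L22455) q2567, e3 q2331 (flp_a L20342) q2084, e3 q2332 (flp_a L22569) q2585, e3 q2333 L22576 q2586, e3 q2334 (flp_a L21633) q2473, e3 q2335 (flp_a L21728)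 q2487, e3 q2336 L22596 q2589, e3 q2337 (flp_a L20379) q2090, e3 q2338 L20389 q2099, e3 q2339 L20396 q2100, e3 q2340 L20407 q2101, e3 q2341 L20415 q2103, e3 q2342 (flp_a L22246) q2540, e3 q2343 L20428 q2111, e3 q2344 (flp_a L21934) q2506, e3 q2345 (flp_a L22606) q2590, e3 q2346 (flp_a L21705) q2484, e3 q2347 (flp_a L21957) q2508, e3 q2348 (flp_a L22620) q2592, e3 q2349 (flp_a L20803) q2387, e3 q2350 (flp_a L21964) q2509, e3 q2351 (flp_a L22629) q2593, e3 q2352 L21781 q2491, e3 q2353 (flp_a L21945) q2507, e3 q2354 (flp_a L20815) q2388, e3 q2355 L20509 q2112, e3 q2356 (flp_a L22552) q2583, e3 q2357 (flp_a L20523) q2113, e3 q2358 (flp_a L22216) q2537, e3 q2359 (flp_a L21282) q2438, e3 q2360 (flp_a L21876) q2501, e3 q2361 (flp_a L22408) q2561, e3 q2362 (flp_a L20737) q2382, e3 q2363 (flp_a L21447) q2454, e3 q2364 L20569 q2364, e3 q2365 L20579 q2132, e3 q2366 L20593 q2133, e3 q2367 L20601 q2134, trivial⟩ (by decide +kernel)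

theorem ce_a_37 : ∀ r, r < 64 → sm ga (Qf (2368 + r)) = Qf (tab Gen.a (2368 + r)) :=
  edges_tab (sm ga) Qf (tab Gen.a) 2368 [(2368, 2135), (2369, 2136), (2370, 2137), (2371, 2610), (2372, 2611), (2373, 2612), (2374, 2613), (2375, 2614), (2376, 2615), (2377, 2616), (2378, 2378), (2379, 2379), (2380, 2380), (2381, 2381), (2382, 2362), (2383, 2325), (2384, 2224), (2385, 2328), (2386, 2225), (2387, 2349), (2388, 2354), (2389, 2389), (2390, 2199), (2391, 2200), (2392, 2201), (2393, 2196), (2394, 2202), (2395, 2161), (2396, 2162), (2397, 2163), (2398, 2164), (2399, 2165), (2400, 2166), (2401, 2167), (2402, 2168), (2403, 2169), (2404, 2170), (2405, 2171), (2406, 2172), (2407, 2173), (2408, 2645), (2409, 2646), (2410, 2647), (2411, 2648), (2412, 2649), (2413, 2650), (2414, 2622), (2415, 2651), (2416, 2652), (2417, 2653), (2418, 2654), (2419, 2655), (2420, 2656), (2421, 2657), (2422, 2617), (2423, 2658), (2424, 2659), (2425, 2660), (2426, 2426), (2427, 2427),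 (2428, 2428), (2429, 2429), (2430, 2688), (2431, 2431)]
    ⟨e3 q2368 L20610 q2135, e3 q2369 L20622 q2136, e3 q2370 L20636 q2137, e3 q2371 (flp_a L22747) q2610, e3 q2372 (flp_a L22762) q2611, e3 q2373 (flp_a L22777) q2612, e3 q2374 (flp_a L22786) q2613, e3 q2375 (flp_a L22795) q2614, e3 q2376 (flp_a L22808) q2615, e3 q2377 (flp_a L22821) q2616, e3 q2378 L20704 q2378, e3 q2379 L20712 q2379, e3 q2380 L20721 q2380, e3 q2381 L20729 q2381, e3 q2382 L20737 q2362, e3 q2383 L20751 q2325, e3 q2384 L20765 q2224, e3 q2385 L20777 q2328, e3 q2386 L20791 q2225, e3 q2387 L20803 q2349, e3 q2388 L20815 q2354, e3 q2389 L20829 q2389, e3 q2390 L20841 q2199, e3 q2391 L20854 q2200, e3 q2392 L20865 q2201, e3 q2393 L20874 q2196, e3 q2394 L20884 q2202, e3 q2395 L20896 q2161, e3 q2396 L20908 q2162, e3 q2397 L20918 q2163, e3 q2398 L20928 q2164, e3 q2399 L20937 q2165, e3 q2400 L20944 q2166, e3 q2401 L20954 q2167, e3 q2402 L20964 q2168, e3 q2403 L20971 q2169, e3 q2404 L20982 q2170,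 e3 q2405 L20991 q2171, e3 q2406 L20999 q2172, e3 q2407 L21010 q2173, e3 q2408 (flp_a L23134) q2645, e3 q2409 (flp_a L23148) q2646, e3 q2410 (flp_a L23158) q2647, e3 q2411 (flp_a L23173) q2648, e3 q2412 (flp_a L23183) q2649, e3 q2413 (flp_a L23189) q2650, e3 q2414 (flp_a L22881) q2622, e3 q2415 (flp_a L23201) q2651, e3 q2416 (flp_a L23212) q2652, e3 q2417 (flp_a L23221) q2653, e3 q2418 (flp_a L23229) q2654, e3 q2419 (flp_a L23240) q2655, e3 q2420 (flp_a L23251) q2656, e3 q2421 (flp_a L23259) q2657, e3 q2422 (flp_a L22836) q2617, e3 q2423 (flp_a L23269) q2658, e3 q2424 (flp_a L23280) q2659, e3 q2425 (flp_a L23293) q2660, e3 q2426 L21172 q2426, e3 q2427 L21182 q2427, e3 q2428 L21194 q2428, e3 q2429 L21204 q2429, e3 q2430 L23528 q2688, e3 q2431 L21218 q2431, trivial⟩ (by decide +kernel)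

theorem ce_a_38 : ∀ r, r < 64 → sm ga (Qf (2432 + r)) = Qf (tab Gen.a (2432 + r)) :=
  edges_tab (sm ga) Qf (tab Gen.a) 2432 [(2432, 2432), (2433, 2433), (2434, 2182), (2435, 2183), (2436, 2643), (2437, 2693), (2438, 2359), (2439, 2284), (2440, 2285), (2441, 2193), (2442, 2194), (2443, 2195), (2444, 2197), (2445, 2198), (2446, 2308), (2447, 2699), (2448, 2700), (2449, 2701), (2450, 2702), (2451, 2641), (2452, 2644), (2453, 2703), (2454, 2363), (2455, 2638), (2456, 2639), (2457, 2640), (2458, 2642), (2459, 2215), (2460, 2217), (2461, 2218), (2462, 2219), (2463, 2220), (2464, 2221), (2465, 2222), (2466, 2223), (2467, 2226), (2468, 2229), (2469, 2230), (2470, 2231), (2471, 2719), (2472, 2720), (2473, 2334), (2474, 2721), (2475, 2722), (2476, 2723), (2477, 2724), (2478, 2725), (2479, 2726), (2480, 2727), (2481, 2632), (2482, 2728), (2483, 2729), (2484, 2346), (2485, 2633), (2486, 2634), (2487, 2335), (2488, 2238), (2489, 2751), (2490, 2730), (2491, 2352),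 (2492, 2492), (2493, 2235), (2494, 2754), (2495, 2309)]
    ⟨e3 q2432 L21227 q2432, e3 q2433 L21233 q2433, e3 q2434 L21243 q2182, e3 q2435 L21253 q2183, e3 q2436 (flp_a L23114) q2643, e3 q2437 (flp_a L23576) q2693, e3 q2438 L21282 q2359, e3 q2439 L21297 q2284, e3 q2440 L21308 q2285, e3 q2441 L21320 q2193, e3 q2442 L21332 q2194, e3 q2443 L21343 q2195, e3 q2444 L21355 q2197, e3 q2445 L21362 q2198, e3 q2446 L21377 q2308, e3 q2447 (flp_a L23641) q2699, e3 q2448 (flp_a L23653) q2700, e3 q2449 (flp_a L23667) q2701, e3 q2450 (flp_a L23676) q2702, e3 q2451 (flp_a L23094) q2641, e3 q2452 (flp_a L23123) q2644, e3 q2453 (flp_a L23688) q2703, e3 q2454 L21447 q2363, e3 q2455 (flp_a L23058) q2638, e3 q2456 (flp_a L23073) q2639, e3 q2457 (flp_a L23084) q2640, e3 q2458 (flp_a L23103) q2642, e3 q2459 L21499 q2215, e3 q2460 L21510 q2217, e3 q2461 L21522 q2218, e3 q2462 L21528 q2219, e3 q2463 L21538 q2220, e3 q2464 L21547 q2221, e3 q2465 L21558 q2222, e3 q2466 L21564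 q2223, e3 q2467 L21573 q2226, e3 q2468 L21580 q2229, e3 q2469 L21595 q2230, e3 q2470 L21606 q2231, e3 q2471 (flp_a L23840) q2719, e3 q2472 (flp_a L23852) q2720, e3 q2473 L21633 q2334, e3 q2474 (flp_a L23865) q2721, e3 q2475 (flp_a L23877) q2722, e3 q2476 (flp_a L23891) q2723, e3 q2477 (flp_a L23903) q2724, e3 q2478 (flp_a L23909) q2725, e3 q2479 (flp_a L23917) q2726, e3 q2480 (flp_a L23925) q2727, e3 q2481 (flp_a L22982) q2632, e3 q2482 (flp_a L23935) q2728, e3 q2483 (flp_a L23942) q2729, e3 q2484 L21705 q2346, e3 q2485 (flp_a L22994) q2633, e3 q2486 (flp_a L23007) q2634, e3 q2487 L21728 q2335, e3 q2488 L21743 q2238, e3 q2489 L24104 q2751, e3 q2490 (flp_a L23950) q2730, e3 q2491 (flp_a L21781) q2352, e3 q2492 L21785 q2492, e3 q2493 (flp_a L21795) q2235, e3 q2494 (flp_a L24139) q2754, e3 q2495 L21814 q2309, trivial⟩ (by decide +kernel)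

theorem ce_a_39 : ∀ r, r < 64 → sm ga (Qf (2496 + r)) = Qf (tab Gen.a (2496 + r)) :=
  edges_tab (sm ga) Qf (tab Gen.a) 2496 [(2496, 2239), (2497, 2497), (2498, 2498), (2499, 2499), (2500, 2500), (2501, 2360), (2502, 2323), (2503, 2321), (2504, 2326), (2505, 2324), (2506, 2344), (2507, 2353), (2508, 2347), (2509, 2350), (2510, 2510), (2511, 2770), (2512, 2512), (2513, 2513), (2514, 2305), (2515, 2306), (2516, 2275), (2517, 2276), (2518, 2277), (2519, 2278), (2520, 2279), (2521, 2281), (2522, 2282), (2523, 2283), (2524, 2286), (2525, 2287), (2526, 2288), (2527, 2289), (2528, 2290), (2529, 2775), (2530, 2776), (2531, 2777), (2532, 2778), (2533, 2779), (2534, 2780), (2535, 2781), (2536, 2782), (2537, 2358), (2538, 2697), (2539, 2783), (2540, 2342), (2541, 2698), (2542, 2784), (2543, 2785), (2544, 2786), (2545, 2806), (2546, 2787), (2547, 2788), (2548, 2548), (2549, 2293), (2550, 2809), (2551, 2551), (2552, 2301), (2553, 2302), (2554, 2318), (2555, 2319),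 (2556, 2316), (2557, 2317), (2558, 2704), (2559, 2773)]
    ⟨e3 q2496 (flp_a L21826) q2239, e3 q2497 L21837 q2497, e3 q2498 L21847 q2498, e3 q2499 L21858 q2499, e3 q2500 L21866 q2500, e3 q2501 L21876 q2360, e3 q2502 L21887 q2323, e3 q2503 L21899 q2321, e3 q2504 L21907 q2326, e3 q2505 L21919 q2324, e3 q2506 L21934 q2344, e3 q2507 L21945 q2353, e3 q2508 L21957 q2347, e3 q2509 L21964 q2350, e3 q2510 L21974 q2510, e3 q2511 L24303 q2770, e3 q2512 L21988 q2512, e3 q2513 L21997 q2513, e3 q2514 L22003 q2305, e3 q2515 L22014 q2306, e3 q2516 L22029 q2275, e3 q2517 L22040 q2276, e3 q2518 L22053 q2277, e3 q2519 L22065 q2278, e3 q2520 L22069 q2279, e3 q2521 L22079 q2281, e3 q2522 L22094 q2282, e3 q2523 L22105 q2283, e3 q2524 L22120 q2286, e3 q2525 L22128 q2287, e3 q2526 L22137 q2288, e3 q2527 L22148 q2289, e3 q2528 L22154 q2290, e3 q2529 (flp_a L24354) q2775, e3 q2530 (flp_a L24366) q2776, e3 q2531 (flp_a L24379) q2777, e3 q2532 (flp_a L24390) q2778, e3 q2533 (flp_a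 L24402) q2779, e3 q2534 (flp_a L24416) q2780, e3 q2535 (flp_a L24422) q2781, e3 q2536 (flp_a L24434) q2782, e3 q2537 L22216 q2358, e3 q2538 (flp_a L23615) q2697, e3 q2539 (flp_a L24440) q2783, e3 q2540 L22246 q2342, e3 q2541 (flp_a L23628) q2698, e3 q2542 (flp_a L24453) q2784, e3 q2543 (flp_a L24463) q2785, e3 q2544 (flp_a L24471) q2786, e3 q2545 L24615 q2806, e3 q2546 (flp_a L24481) q2787, e3 q2547 (flp_a L24488) q2788, e3 q2548 L22302 q2548, e3 q2549 (flp_a L22307) q2293, e3 q2550 (flp_a L24638) q2809, e3 q2551 L22325 q2551, e3 q2552 L22332 q2301, e3 q2553 L22340 q2302, e3 q2554 L22352 q2318, e3 q2555 L22360 q2319, e3 q2556 L22372 q2316, e3 q2557 L22380 q2317, e3 q2558 (flp_a L23696) q2704, e3 q2559 (flp_a L24329) q2773, trivial⟩ (by decide +kernel)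

theorem ce_a_40 : ∀ r, r < 64 → sm ga (Qf (2560 + r)) = Qf (tab Gen.a (2560 + r)) :=
  edges_tab (sm ga) Qf (tab Gen.a) 2560 [(2560, 2811), (2561, 2361), (2562, 2774), (2563, 2705), (2564, 2320), (2565, 2322), (2566, 2801), (2567, 2330), (2568, 2733), (2569, 2759), (2570, 2813), (2571, 2761), (2572, 2812), (2573, 2831), (2574, 2763), (2575, 2819), (2576, 2630), (2577, 2764), (2578, 2820), (2579, 2714), (2580, 2762), (2581, 2329), (2582, 2631), (2583, 2356), (2584, 2840), (2585, 2332), (2586, 2333), (2587, 2841), (2588, 2734), (2589, 2336), (2590, 2345), (2591, 2674), (2592, 2348), (2593, 2351), (2594, 2803), (2595, 2685), (2596, 2765), (2597, 2843), (2598, 2746), (2599, 2749), (2600, 2635), (2601, 2767), (2602, 2845), (2603, 2636), (2604, 2768), (2605, 2753), (2606, 2629), (2607, 2760), (2608, 2608), (2609, 2609), (2610, 2371), (2611, 2372), (2612, 2373), (2613, 2374), (2614, 2375), (2615, 2376), (2616, 2377), (2617, 2422), (2618, 2858), (2619, 2859),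 (2620, 2860), (2621, 2861), (2622, 2414), (2623, 2862)]
    ⟨e3 q2560 (flp_a L24654) q2811, e3 q2561 L22408 q2361, e3 q2562 (flp_a L24341) q2774, e3 q2563 (flp_a L23708) q2705, e3 q2564 L22436 q2320, e3 q2565 L22442 q2322, e3 q2566 (flp_a L24572) q2801, e3 q2567 L22455 q2330, e3 q2568 (flp_a L23974) q2733, e3 q2569 (flp_a L24188) q2759, e3 q2570 (flp_a L24670) q2813, e3 q2571 (flp_a L24213) q2761, e3 q2572 (flp_a L24662) q2812, e3 q2573 L24775 q2831, e3 q2574 (flp_a L24239) q2763, e3 q2575 (flp_a L24707) q2819, e3 q2576 (flp_a L22956) q2630, e3 q2577 (flp_a L24247) q2764, e3 q2578 (flp_a L24715) q2820, e3 q2579 (flp_a L23791) q2714, e3 q2580 (flp_a L24225) q2762, e3 q2581 L22534 q2329, e3 q2582 (flp_a L22966) q2631, e3 q2583 L22552 q2356, e3 q2584 (flp_a L24830) q2840, e3 q2585 L22569 q2332, e3 q2586 (flp_a L22576) q2333, e3 q2587 L24838 q2841, e3 q2588 (flp_a L23986) q2734, e3 q2589 (flp_a L22596) q2336, e3 q2590 L22606 q2345, e3 q2591 (flp_a L23406)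 q2674, e3 q2592 L22620 q2348, e3 q2593 L22629 q2351, e3 q2594 (flp_a L24592) q2803, e3 q2595 L23507 q2685, e3 q2596 (flp_a L24257) q2765, e3 q2597 (flp_a L24854) q2843, e3 q2598 (flp_a L24069) q2746, e3 q2599 (flp_a L24090) q2749, e3 q2600 (flp_a L23020) q2635, e3 q2601 (flp_a L24278) q2767, e3 q2602 (flp_a L24869) q2845, e3 q2603 (flp_a L23032) q2636, e3 q2604 (flp_a L24286) q2768, e3 q2605 (flp_a L24126) q2753, e3 q2606 (flp_a L22944) q2629, e3 q2607 (flp_a L24200) q2760, e3 q2608 L22727 q2608, e3 q2609 L22736 q2609, e3 q2610 L22747 q2371, e3 q2611 L22762 q2372, e3 q2612 L22777 q2373, e3 q2613 L22786 q2374, e3 q2614 L22795 q2375, e3 q2615 L22808 q2376, e3 q2616 L22821 q2377, e3 q2617 L22836 q2422, e3 q2618 (flp_a L24974) q2858, e3 q2619 (flp_a L24990) q2859, e3 q2620 (flp_a L25004) q2860, e3 q2621 (flp_a L25014) q2861, e3 q2622 L22881 q2414, e3 q2623 (flp_a L25023) q2862, trivial⟩ (by decide +kernel)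

theorem ce_a_41 : ∀ r, r < 64 → sm ga (Qf (2624 + r)) = Qf (tab Gen.a (2624 + r)) :=
  edges_tab (sm ga) Qf (tab Gen.a) 2624 [(2624, 2624), (2625, 2625), (2626, 2875), (2627, 2627), (2628, 2628), (2629, 2606), (2630, 2576), (2631, 2582), (2632, 2481), (2633, 2485), (2634, 2486), (2635, 2600), (2636, 2603), (2637, 2637), (2638, 2455), (2639, 2456), (2640, 2457), (2641, 2451), (2642, 2458), (2643, 2436), (2644, 2452), (2645, 2408), (2646, 2409), (2647, 2410), (2648, 2411), (2649, 2412), (2650, 2413), (2651, 2415), (2652, 2416), (2653, 2417), (2654, 2418), (2655, 2419), (2656, 2420), (2657, 2421), (2658, 2423), (2659, 2424), (2660, 2425), (2661, 2895), (2662, 2896), (2663, 2897), (2664, 2898), (2665, 2899), (2666, 2900), (2667, 2901), (2668, 2902), (2669, 2903), (2670, 2870), (2671, 2904), (2672, 2905), (2673, 2906), (2674, 2591), (2675, 2907), (2676, 2908), (2677, 2863), (2678, 2909), (2679, 2864), (2680, 2933), (2681, 2910), (2682, 2911), (2683, 2683),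 (2684, 2684), (2685, 2595), (2686, 2686), (2687, 2687)]
    ⟨e3 q2624 L22902 q2624, e3 q2625 L22911 q2625, e3 q2626 L25169 q2875, e3 q2627 L22927 q2627, e3 q2628 L22936 q2628, e3 q2629 L22944 q2606, e3 q2630 L22956 q2576, e3 q2631 L22966 q2582, e3 q2632 L22982 q2481, e3 q2633 L22994 q2485, e3 q2634 L23007 q2486, e3 q2635 L23020 q2600, e3 q2636 L23032 q2603, e3 q2637 L23045 q2637, e3 q2638 L23058 q2455, e3 q2639 L23073 q2456, e3 q2640 L23084 q2457, e3 q2641 L23094 q2451, e3 q2642 L23103 q2458, e3 q2643 L23114 q2436, e3 q2644 L23123 q2452, e3 q2645 L23134 q2408, e3 q2646 L23148 q2409, e3 q2647 L23158 q2410, e3 q2648 L23173 q2411, e3 q2649 L23183 q2412, e3 q2650 L23189 q2413, e3 q2651 L23201 q2415, e3 q2652 L23212 q2416, e3 q2653 L23221 q2417, e3 q2654 L23229 q2418, e3 q2655 L23240 q2419, e3 q2656 L23251 q2420, e3 q2657 L23259 q2421, e3 q2658 L23269 q2423, e3 q2659 L23280 q2424, e3 q2660 L23293 q2425, e3 q2661 (flp_a L25409) q2895, e3 q2662 (flp_a L25421)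 q2896, e3 q2663 (flp_a L25431) q2897, e3 q2664 (flp_a L25443) q2898, e3 q2665 (flp_a L25456) q2899, e3 q2666 (flp_a L25466) q2900, e3 q2667 (flp_a L25478) q2901, e3 q2668 (flp_a L25492) q2902, e3 q2669 (flp_a L25502) q2903, e3 q2670 (flp_a L25116) q2870, e3 q2671 (flp_a L25510) q2904, e3 q2672 (flp_a L25523) q2905, e3 q2673 (flp_a L25533) q2906, e3 q2674 L23406 q2591, e3 q2675 (flp_a L25542) q2907, e3 q2676 (flp_a L25554) q2908, e3 q2677 (flp_a L25037) q2863, e3 q2678 (flp_a L25566) q2909, e3 q2679 (flp_a L25051) q2864, e3 q2680 L25788 q2933, e3 q2681 (flp_a L25578) q2910, e3 q2682 (flp_a L25592) q2911, e3 q2683 L23480 q2683, e3 q2684 L23489 q2684, e3 q2685 (flp_a L23507) q2595, e3 q2686 L23511 q2686, e3 q2687 L23522 q2687, trivial⟩ (by decide +kernel)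

theorem ce_a_42 : ∀ r, r < 64 → sm ga (Qf (2688 + r)) = Qf (tab Gen.a (2688 + r)) :=
  edges_tab (sm ga) Qf (tab Gen.a) 2688 [(2688, 2430), (2689, 2940), (2690, 2690), (2691, 2691), (2692, 2692), (2693, 2437), (2694, 2872), (2695, 2893), (2696, 2943), (2697, 2538), (2698, 2541), (2699, 2447), (2700, 2448), (2701, 2449), (2702, 2450), (2703, 2453), (2704, 2558), (2705, 2563), (2706, 2948), (2707, 2949), (2708, 2891), (2709, 2950), (2710, 2951), (2711, 2869), (2712, 2892), (2713, 2894), (2714, 2579), (2715, 2887), (2716, 2888), (2717, 2889), (2718, 2890), (2719, 2471), (2720, 2472), (2721, 2474), (2722, 2475), (2723, 2476), (2724, 2477), (2725, 2478), (2726, 2479), (2727, 2480), (2728, 2482), (2729, 2483), (2730, 2490), (2731, 2967), (2732, 2968), (2733, 2568), (2734, 2588), (2735, 2969), (2736, 2970), (2737, 2987), (2738, 2971), (2739, 2972), (2740, 2881), (2741, 2973), (2742, 2974), (2743, 2975), (2744, 2976), (2745, 2977), (2746, 2598), (2747, 2883),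 (2748, 2978), (2749, 2599), (2750, 2884), (2751, 2489)]
    ⟨e3 q2688 (flp_a L23528) q2430, e3 q2689 (flp_a L25864) q2940, e3 q2690 L23548 q2690, e3 q2691 L23556 q2691, e3 q2692 L23565 q2692, e3 q2693 L23576 q2437, e3 q2694 (flp_a L25148) q2872, e3 q2695 (flp_a L25387) q2893, e3 q2696 (flp_a L25892) q2943, e3 q2697 L23615 q2538, e3 q2698 L23628 q2541, e3 q2699 L23641 q2447, e3 q2700 L23653 q2448, e3 q2701 L23667 q2449, e3 q2702 L23676 q2450, e3 q2703 L23688 q2453, e3 q2704 L23696 q2558, e3 q2705 L23708 q2563, e3 q2706 (flp_a L25949) q2948, e3 q2707 (flp_a L25961) q2949, e3 q2708 (flp_a L25364) q2891, e3 q2709 (flp_a L25973) q2950, e3 q2710 (flp_a L25983) q2951, e3 q2711 (flp_a L25110) q2869, e3 q2712 (flp_a L25377) q2892, e3 q2713 (flp_a L25397) q2894, e3 q2714 L23791 q2579, e3 q2715 (flp_a L25316) q2887, e3 q2716 (flp_a L25329) q2888, e3 q2717 (flp_a L25339) q2889, e3 q2718 (flp_a L25352) q2890, e3 q2719 L23840 q2471, e3 q2720 L23852 q2472, e3 q2721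 L23865 q2474, e3 q2722 L23877 q2475, e3 q2723 L23891 q2476, e3 q2724 L23903 q2477, e3 q2725 L23909 q2478, e3 q2726 L23917 q2479, e3 q2727 L23925 q2480, e3 q2728 L23935 q2482, e3 q2729 L23942 q2483, e3 q2730 L23950 q2490, e3 q2731 (flp_a L26149) q2967, e3 q2732 (flp_a L26160) q2968, e3 q2733 L23974 q2568, e3 q2734 L23986 q2588, e3 q2735 (flp_a L26172) q2969, e3 q2736 (flp_a L26184) q2970, e3 q2737 L26331 q2987, e3 q2738 (flp_a L26196) q2971, e3 q2739 (flp_a L26207) q2972, e3 q2740 (flp_a L25238) q2881, e3 q2741 (flp_a L26219) q2973, e3 q2742 (flp_a L26227) q2974, e3 q2743 (flp_a L26233) q2975, e3 q2744 (flp_a L26244) q2976, e3 q2745 (flp_a L26253) q2977, e3 q2746 L24069 q2598, e3 q2747 (flp_a L25262) q2883, e3 q2748 (flp_a L26264) q2978, e3 q2749 L24090 q2599, e3 q2750 (flp_a L25275) q2884, e3 q2751 (flp_a L24104) q2489, trivial⟩ (by decide +kernel)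

theorem ce_a_43 : ∀ r, r < 64 → sm ga (Qf (2752 + r)) = Qf (tab Gen.a (2752 + r)) :=
  edges_tab (sm ga) Qf (tab Gen.a) 2752 [(2752, 3003), (2753, 2605), (2754, 2494), (2755, 2755), (2756, 2866), (2757, 2757), (2758, 2758), (2759, 2569), (2760, 2607), (2761, 2571), (2762, 2580), (2763, 2574), (2764, 2577), (2765, 2596), (2766, 2926), (2767, 2601), (2768, 2604), (2769, 2769), (2770, 2511), (2771, 3015), (2772, 2772), (2773, 2559), (2774, 2562), (2775, 2529), (2776, 2530), (2777, 2531), (2778, 2532), (2779, 2533), (2780, 2534), (2781, 2535), (2782, 2536), (2783, 2539), (2784, 2542), (2785, 2543), (2786, 2544), (2787, 2546), (2788, 2547), (2789, 3018), (2790, 3019), (2791, 3020), (2792, 3021), (2793, 3022), (2794, 3023), (2795, 3038), (2796, 3024), (2797, 3025), (2798, 2946), (2799, 3026), (2800, 3027), (2801, 2566), (2802, 2947), (2803, 2594), (2804, 3028), (2805, 3029), (2806, 2545), (2807, 3049), (2808, 3030), (2809, 2550), (2810, 3052), (2811, 2560),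 (2812, 2572), (2813, 2570), (2814, 2952), (2815, 2953)]
    ⟨e3 q2752 (flp_a L26450) q3003, e3 q2753 L24126 q2605, e3 q2754 L24139 q2494, e3 q2755 L24149 q2755, e3 q2756 (flp_a L25073) q2866, e3 q2757 L24169 q2757, e3 q2758 L24178 q2758, e3 q2759 L24188 q2569, e3 q2760 L24200 q2607, e3 q2761 L24213 q2571, e3 q2762 L24225 q2580, e3 q2763 L24239 q2574, e3 q2764 L24247 q2577, e3 q2765 L24257 q2596, e3 q2766 (flp_a L25725) q2926, e3 q2767 L24278 q2601, e3 q2768 L24286 q2604, e3 q2769 L24297 q2769, e3 q2770 (flp_a L24303) q2511, e3 q2771 (flp_a L26577) q3015, e3 q2772 L24321 q2772, e3 q2773 L24329 q2559, e3 q2774 L24341 q2562, e3 q2775 L24354 q2529, e3 q2776 L24366 q2530, e3 q2777 L24379 q2531, e3 q2778 L24390 q2532, e3 q2779 L24402 q2533, e3 q2780 L24416 q2534, e3 q2781 L24422 q2535, e3 q2782 L24434 q2536, e3 q2783 L24440 q2539, e3 q2784 L24453 q2542, e3 q2785 L24463 q2543, e3 q2786 L24471 q2544, e3 q2787 L24481 q2546, e3 q2788 L24488 q2547, e3 q2789 (flp_a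 L26605) q3018, e3 q2790 (flp_a L26616) q3019, e3 q2791 (flp_a L26628) q3020, e3 q2792 (flp_a L26638) q3021, e3 q2793 (flp_a L26651) q3022, e3 q2794 (flp_a L26663) q3023, e3 q2795 L26785 q3038, e3 q2796 (flp_a L26675) q3024, e3 q2797 (flp_a L26686) q3025, e3 q2798 (flp_a L25922) q2946, e3 q2799 (flp_a L26694) q3026, e3 q2800 (flp_a L26706) q3027, e3 q2801 L24572 q2566, e3 q2802 (flp_a L25934) q2947, e3 q2803 L24592 q2594, e3 q2804 (flp_a L26712) q3028, e3 q2805 (flp_a L26721) q3029, e3 q2806 (flp_a L24615) q2545, e3 q2807 (flp_a L26867) q3049, e3 q2808 (flp_a L26732) q3030, e3 q2809 L24638 q2550, e3 q2810 (flp_a L26887) q3052, e3 q2811 L24654 q2560, e3 q2812 L24662 q2572, e3 q2813 L24670 q2570, e3 q2814 (flp_a L25996) q2952, e3 q2815 (flp_a L26007) q2953, trivial⟩ (by decide +kernel)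

theorem ce_a_44 : ∀ r, r < 64 → sm ga (Qf (2816 + r)) = Qf (tab Gen.a (2816 + r)) :=
  edges_tab (sm ga) Qf (tab Gen.a) 2816 [(2816, 3017), (2817, 3053), (2818, 3044), (2819, 2575), (2820, 2578), (2821, 3047), (2822, 3061), (2823, 2982), (2824, 2983), (2825, 2878), (2826, 3007), (2827, 3055), (2828, 2961), (2829, 3008), (2830, 3054), (2831, 2573), (2832, 2993), (2833, 3071), (2834, 2880), (2835, 3010), (2836, 3060), (2837, 2882), (2838, 3011), (2839, 2962), (2840, 2584), (2841, 2587), (2842, 3078), (2843, 2597), (2844, 2929), (2845, 2602), (2846, 2938), (2847, 3012), (2848, 2996), (2849, 2999), (2850, 3002), (2851, 2885), (2852, 3014), (2853, 2886), (2854, 2879), (2855, 2855), (2856, 2856), (2857, 2857), (2858, 2618), (2859, 2619), (2860, 2620), (2861, 2621), (2862, 2623), (2863, 2677), (2864, 2679), (2865, 3088), (2866, 2756), (2867, 3089), (2868, 3090), (2869, 2711), (2870, 2670), (2871, 3091), (2872, 2694), (2873, 2873), (2874, 2874), (2875, 2626),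 (2876, 3101), (2877, 2877), (2878, 2825), (2879, 2854)]
    ⟨e3 q2816 (flp_a L26593) q3017, e3 q2817 (flp_a L26896) q3053, e3 q2818 (flp_a L26826) q3044, e3 q2819 L24707 q2575, e3 q2820 L24715 q2578, e3 q2821 (flp_a L26848) q3047, e3 q2822 L26955 q3061, e3 q2823 (flp_a L26290) q2982, e3 q2824 (flp_a L26301) q2983, e3 q2825 (flp_a L25200) q2878, e3 q2826 (flp_a L26491) q3007, e3 q2827 (flp_a L26916) q3055, e3 q2828 (flp_a L26084) q2961, e3 q2829 (flp_a L26503) q3008, e3 q2830 (flp_a L26906) q3054, e3 q2831 (flp_a L24775) q2573, e3 q2832 (flp_a L26374) q2993, e3 q2833 (flp_a L27022) q3071, e3 q2834 (flp_a L25226) q2880, e3 q2835 (flp_a L26525) q3010, e3 q2836 (flp_a L26951) q3060, e3 q2837 (flp_a L25250) q2882, e3 q2838 (flp_a L26535) q3011, e3 q2839 (flp_a L26096) q2962, e3 q2840 L24830 q2584, e3 q2841 (flp_a L24838) q2587, e3 q2842 (flp_a L27066) q3078, e3 q2843 L24854 q2597, e3 q2844 (flp_a L25753) q2929, e3 q2845 L24869 q2602, e3 q2846 (flp_a L25840)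 q2938, e3 q2847 (flp_a L26545) q3012, e3 q2848 (flp_a L26394) q2996, e3 q2849 (flp_a L26421) q2999, e3 q2850 (flp_a L26441) q3002, e3 q2851 (flp_a L25289) q2885, e3 q2852 (flp_a L26568) q3014, e3 q2853 (flp_a L25302) q2886, e3 q2854 (flp_a L25212) q2879, e3 q2855 L24940 q2855, e3 q2856 L24952 q2856, e3 q2857 L24964 q2857, e3 q2858 L24974 q2618, e3 q2859 L24990 q2619, e3 q2860 L25004 q2620, e3 q2861 L25014 q2621, e3 q2862 L25023 q2623, e3 q2863 L25037 q2677, e3 q2864 L25051 q2679, e3 q2865 (flp_a L27149) q3088, e3 q2866 L25073 q2756, e3 q2867 (flp_a L27165) q3089, e3 q2868 (flp_a L27180) q3090, e3 q2869 L25110 q2711, e3 q2870 L25116 q2670, e3 q2871 (flp_a L27190) q3091, e3 q2872 L25148 q2694, e3 q2873 L25152 q2873, e3 q2874 L25162 q2874, e3 q2875 (flp_a L25169) q2626, e3 q2876 (flp_a L27315) q3101, e3 q2877 L25191 q2877, e3 q2878 L25200 q2825, e3 q2879 L25212 q2854, trivial⟩ (by decide +kernel)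

theorem ce_a_45 : ∀ r, r < 64 → sm ga (Qf (2880 + r)) = Qf (tab Gen.a (2880 + r)) :=
  edges_tab (sm ga) Qf (tab Gen.a) 2880 [(2880, 2834), (2881, 2740), (2882, 2837), (2883, 2747), (2884, 2750), (2885, 2851), (2886, 2853), (2887, 2715), (2888, 2716), (2889, 2717), (2890, 2718), (2891, 2708), (2892, 2712), (2893, 2695), (2894, 2713), (2895, 2661), (2896, 2662), (2897, 2663), (2898, 2664), (2899, 2665), (2900, 2666), (2901, 2667), (2902, 2668), (2903, 2669), (2904, 2671), (2905, 2672), (2906, 2673), (2907, 2675), (2908, 2676), (2909, 2678), (2910, 2681), (2911, 2682), (2912, 3121), (2913, 3122), (2914, 3123), (2915, 3124), (2916, 3125), (2917, 3126), (2918, 3127), (2919, 3128), (2920, 3146), (2921, 3129), (2922, 3130), (2923, 3131), (2924, 3132), (2925, 3098), (2926, 2766), (2927, 3133), (2928, 3134), (2929, 2844), (2930, 3135), (2931, 3092), (2932, 3093), (2933, 2680), (2934, 3157), (2935, 3136), (2936, 2936), (2937, 2937), (2938, 2846), (2939, 2939),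 (2940, 2689), (2941, 3162), (2942, 2942), (2943, 2696)]
    ⟨e3 q2880 L25226 q2834, e3 q2881 L25238 q2740, e3 q2882 L25250 q2837, e3 q2883 L25262 q2747, e3 q2884 L25275 q2750, e3 q2885 L25289 q2851, e3 q2886 L25302 q2853, e3 q2887 L25316 q2715, e3 q2888 L25329 q2716, e3 q2889 L25339 q2717, e3 q2890 L25352 q2718, e3 q2891 L25364 q2708, e3 q2892 L25377 q2712, e3 q2893 L25387 q2695, e3 q2894 L25397 q2713, e3 q2895 L25409 q2661, e3 q2896 L25421 q2662, e3 q2897 L25431 q2663, e3 q2898 L25443 q2664, e3 q2899 L25456 q2665, e3 q2900 L25466 q2666, e3 q2901 L25478 q2667, e3 q2902 L25492 q2668, e3 q2903 L25502 q2669, e3 q2904 L25510 q2671, e3 q2905 L25523 q2672, e3 q2906 L25533 q2673, e3 q2907 L25542 q2675, e3 q2908 L25554 q2676, e3 q2909 L25566 q2678, e3 q2910 L25578 q2681, e3 q2911 L25592 q2682, e3 q2912 (flp_a L27575) q3121, e3 q2913 (flp_a L27591) q3122, e3 q2914 (flp_a L27605) q3123, e3 q2915 (flp_a L27620) q3124, e3 q2916 (flp_a L27635) q3125, e3 q2917 (flp_a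 L27645) q3126, e3 q2918 (flp_a L27661) q3127, e3 q2919 (flp_a L27676) q3128, e3 q2920 L27886 q3146, e3 q2921 (flp_a L27688) q3129, e3 q2922 (flp_a L27704) q3130, e3 q2923 (flp_a L27720) q3131, e3 q2924 (flp_a L27732) q3132, e3 q2925 (flp_a L27276) q3098, e3 q2926 L25725 q2766, e3 q2927 (flp_a L27740) q3133, e3 q2928 (flp_a L27754) q3134, e3 q2929 L25753 q2844, e3 q2930 (flp_a L27765) q3135, e3 q2931 (flp_a L27204) q3092, e3 q2932 (flp_a L27219) q3093, e3 q2933 (flp_a L25788) q2680, e3 q2934 (flp_a L28001) q3157, e3 q2935 (flp_a L27778) q3136, e3 q2936 L25818 q2936, e3 q2937 L25828 q2937, e3 q2938 L25840 q2846, e3 q2939 L25852 q2939, e3 q2940 L25864 q2689, e3 q2941 (flp_a L28052) q3162, e3 q2942 L25882 q2942, e3 q2943 L25892 q2696, trivial⟩ (by decide +kernel)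

theorem ce_a_46 : ∀ r, r < 64 → sm ga (Qf (2944 + r)) = Qf (tab Gen.a (2944 + r)) :=
  edges_tab (sm ga) Qf (tab Gen.a) 2944 [(2944, 3099), (2945, 3120), (2946, 2798), (2947, 2802), (2948, 2706), (2949, 2707), (2950, 2709), (2951, 2710), (2952, 2814), (2953, 2815), (2954, 3116), (2955, 3167), (2956, 3168), (2957, 3118), (2958, 3169), (2959, 3097), (2960, 3119), (2961, 2828), (2962, 2839), (2963, 3113), (2964, 3114), (2965, 3115), (2966, 3117), (2967, 2731), (2968, 2732), (2969, 2735), (2970, 2736), (2971, 2738), (2972, 2739), (2973, 2741), (2974, 2742), (2975, 2743), (2976, 2744), (2977, 2745), (2978, 2748), (2979, 3105), (2980, 3181), (2981, 3182), (2982, 2823), (2983, 2824), (2984, 3183), (2985, 3184), (2986, 3185), (2987, 2737), (2988, 3138), (2989, 3200), (2990, 3107), (2991, 3186), (2992, 3187), (2993, 2832), (2994, 3109), (2995, 3188), (2996, 2848), (2997, 3189), (2998, 3190), (2999, 2849), (3000, 3111), (3001, 3191), (3002, 2850), (3003, 2752),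 (3004, 3004), (3005, 3094), (3006, 3006), (3007, 2826)]
    ⟨e3 q2944 (flp_a L27290) q3099, e3 q2945 (flp_a L27565) q3120, e3 q2946 L25922 q2798, e3 q2947 L25934 q2802, e3 q2948 L25949 q2706, e3 q2949 L25961 q2707, e3 q2950 L25973 q2709, e3 q2951 L25983 q2710, e3 q2952 L25996 q2814, e3 q2953 L26007 q2815, e3 q2954 (flp_a L27514) q3116, e3 q2955 (flp_a L28101) q3167, e3 q2956 (flp_a L28113) q3168, e3 q2957 (flp_a L27540) q3118, e3 q2958 (flp_a L28127) q3169, e3 q2959 (flp_a L27261) q3097, e3 q2960 (flp_a L27554) q3119, e3 q2961 L26084 q2828, e3 q2962 L26096 q2839, e3 q2963 (flp_a L27468) q3113, e3 q2964 (flp_a L27484) q3114, e3 q2965 (flp_a L27499) q3115, e3 q2966 (flp_a L27530) q3117, e3 q2967 L26149 q2731, e3 q2968 L26160 q2732, e3 q2969 L26172 q2735, e3 q2970 L26184 q2736, e3 q2971 L26196 q2738, e3 q2972 L26207 q2739, e3 q2973 L26219 q2741, e3 q2974 L26227 q2742, e3 q2975 L26233 q2743, e3 q2976 L26244 q2744, e3 q2977 L26253 q2745, e3 q2978 L26264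 q2748, e3 q2979 (flp_a L27358) q3105, e3 q2980 (flp_a L28248) q3181, e3 q2981 (flp_a L28259) q3182, e3 q2982 L26290 q2823, e3 q2983 L26301 q2824, e3 q2984 (flp_a L28273) q3183, e3 q2985 (flp_a L28289) q3184, e3 q2986 (flp_a L28301) q3185, e3 q2987 (flp_a L26331) q2737, e3 q2988 (flp_a L27812) q3138, e3 q2989 (flp_a L28456) q3200, e3 q2990 (flp_a L27385) q3107, e3 q2991 (flp_a L28315) q3186, e3 q2992 (flp_a L28326) q3187, e3 q2993 L26374 q2832, e3 q2994 (flp_a L27414) q3109, e3 q2995 (flp_a L28340) q3188, e3 q2996 L26394 q2848, e3 q2997 (flp_a L28346) q3189, e3 q2998 (flp_a L28358) q3190, e3 q2999 L26421 q2849, e3 q3000 (flp_a L27440) q3111, e3 q3001 (flp_a L28368) q3191, e3 q3002 L26441 q2850, e3 q3003 L26450 q2752, e3 q3004 L26461 q3004, e3 q3005 (flp_a L27233) q3094, e3 q3006 L26482 q3006, e3 q3007 L26491 q2826, trivial⟩ (by decide +kernel)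

theorem ce_a_47 : ∀ r, r < 64 → sm ga (Qf (3008 + r)) = Qf (tab Gen.a (3008 + r)) :=
  edges_tab (sm ga) Qf (tab Gen.a) 3008 [(3008, 2829), (3009, 3149), (3010, 2835), (3011, 2838), (3012, 2847), (3013, 3152), (3014, 2852), (3015, 2771), (3016, 3224), (3017, 2816), (3018, 2789), (3019, 2790), (3020, 2791), (3021, 2792), (3022, 2793), (3023, 2794), (3024, 2796), (3025, 2797), (3026, 2799), (3027, 2800), (3028, 2804), (3029, 2805), (3030, 2808), (3031, 3201), (3032, 3226), (3033, 3227), (3034, 3140), (3035, 3228), (3036, 3229), (3037, 3230), (3038, 2795), (3039, 3204), (3040, 3241), (3041, 3143), (3042, 3231), (3043, 3232), (3044, 2818), (3045, 3166), (3046, 3233), (3047, 2821), (3048, 3234), (3049, 2807), (3050, 3250), (3051, 3235), (3052, 2810), (3053, 2817), (3054, 2830), (3055, 2827), (3056, 3170), (3057, 3171), (3058, 3225), (3059, 3247), (3060, 2836), (3061, 2822), (3062, 3192), (3063, 3255), (3064, 3104), (3065, 3195), (3066, 3196), (3067, 3106),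 (3068, 3218), (3069, 3177), (3070, 3219), (3071, 2833)]
    ⟨e3 q3008 L26503 q2829, e3 q3009 (flp_a L27920) q3149, e3 q3010 L26525 q2835, e3 q3011 L26535 q2838, e3 q3012 L26545 q2847, e3 q3013 (flp_a L27952) q3152, e3 q3014 L26568 q2852, e3 q3015 L26577 q2771, e3 q3016 (flp_a L28674) q3224, e3 q3017 L26593 q2816, e3 q3018 L26605 q2789, e3 q3019 L26616 q2790, e3 q3020 L26628 q2791, e3 q3021 L26638 q2792, e3 q3022 L26651 q2793, e3 q3023 L26663 q2794, e3 q3024 L26675 q2796, e3 q3025 L26686 q2797, e3 q3026 L26694 q2799, e3 q3027 L26706 q2800, e3 q3028 L26712 q2804, e3 q3029 L26721 q2805, e3 q3030 L26732 q2808, e3 q3031 (flp_a L28466) q3201, e3 q3032 (flp_a L28698) q3226, e3 q3033 (flp_a L28709) q3227, e3 q3034 (flp_a L27825) q3140, e3 q3035 (flp_a L28723) q3228, e3 q3036 (flp_a L28733) q3229, e3 q3037 (flp_a L28745) q3230, e3 q3038 (flp_a L26785) q2795, e3 q3039 (flp_a L28494) q3204, e3 q3040 (flp_a L28841) q3241, e3 q3041 (flp_a L27855) q3143, e3 q3042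 (flp_a L28759) q3231, e3 q3043 (flp_a L28770) q3232, e3 q3044 L26826 q2818, e3 q3045 (flp_a L28089) q3166, e3 q3046 (flp_a L28776) q3233, e3 q3047 L26848 q2821, e3 q3048 (flp_a L28790) q3234, e3 q3049 L26867 q2807, e3 q3050 (flp_a L28904) q3250, e3 q3051 (flp_a L28800) q3235, e3 q3052 L26887 q2810, e3 q3053 L26896 q2817, e3 q3054 L26906 q2830, e3 q3055 L26916 q2827, e3 q3056 (flp_a L28138) q3170, e3 q3057 (flp_a L28149) q3171, e3 q3058 (flp_a L28684) q3225, e3 q3059 (flp_a L28883) q3247, e3 q3060 L26951 q2836, e3 q3061 (flp_a L26955) q2822, e3 q3062 (flp_a L28373) q3192, e3 q3063 (flp_a L28933) q3255, e3 q3064 (flp_a L27343) q3104, e3 q3065 (flp_a L28401) q3195, e3 q3066 (flp_a L28412) q3196, e3 q3067 (flp_a L27373) q3106, e3 q3068 (flp_a L28608) q3218, e3 q3069 (flp_a L28211) q3177, e3 q3070 (flp_a L28622) q3219, e3 q3071 L27022 q2833, trivial⟩ (by decide +kernel)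

theorem ce_a_48 : ∀ r, r < 64 → sm ga (Qf (3072 + r)) = Qf (tab Gen.a (3072 + r)) :=
  edges_tab (sm ga) Qf (tab Gen.a) 3072 [(3072, 3197), (3073, 3207), (3074, 3262), (3075, 3108), (3076, 3221), (3077, 3110), (3078, 2842), (3079, 3155), (3080, 3161), (3081, 3210), (3082, 3213), (3083, 3112), (3084, 3223), (3085, 3085), (3086, 3086), (3087, 3087), (3088, 2865), (3089, 2867), (3090, 2868), (3091, 2871), (3092, 2931), (3093, 2932), (3094, 3005), (3095, 3272), (3096, 3273), (3097, 2959), (3098, 2925), (3099, 2944), (3100, 3100), (3101, 2876), (3102, 3281), (3103, 3103), (3104, 3064), (3105, 2979), (3106, 3067), (3107, 2990), (3108, 3075), (3109, 2994), (3110, 3077), (3111, 3000), (3112, 3083), (3113, 2963), (3114, 2964), (3115, 2965), (3116, 2954), (3117, 2966), (3118, 2957), (3119, 2960), (3120, 2945), (3121, 2912), (3122, 2913), (3123, 2914), (3124, 2915), (3125, 2916), (3126, 2917), (3127, 2918), (3128, 2919), (3129, 2921), (3130, 2922), (3131, 2923),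 (3132, 2924), (3133, 2927), (3134, 2928), (3135, 2930)]
    ⟨e3 q3072 (flp_a L28426) q3197, e3 q3073 (flp_a L28524) q3207, e3 q3074 (flp_a L28979) q3262, e3 q3075 (flp_a L27400) q3108, e3 q3076 (flp_a L28648) q3221, e3 q3077 (flp_a L27428) q3110, e3 q3078 L27066 q2842, e3 q3079 (flp_a L27980) q3155, e3 q3080 (flp_a L28039) q3161, e3 q3081 (flp_a L28544) q3210, e3 q3082 (flp_a L28572) q3213, e3 q3083 (flp_a L27454) q3112, e3 q3084 (flp_a L28667) q3223, e3 q3085 L27113 q3085, e3 q3086 L27126 q3086, e3 q3087 L27139 q3087, e3 q3088 L27149 q2865, e3 q3089 L27165 q2867, e3 q3090 L27180 q2868, e3 q3091 L27190 q2871, e3 q3092 L27204 q2931, e3 q3093 L27219 q2932, e3 q3094 L27233 q3005, e3 q3095 (flp_a L29054) q3272, e3 q3096 (flp_a L29069) q3273, e3 q3097 L27261 q2959, e3 q3098 L27276 q2925, e3 q3099 L27290 q2944, e3 q3100 L27305 q3100, e3 q3101 L27315 q2876, e3 q3102 (flp_a L29166) q3281, e3 q3103 L27336 q3103, e3 q3104 L27343 q3064, e3 q3105 L27358 q2979,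 e3 q3106 L27373 q3067, e3 q3107 L27385 q2990, e3 q3108 L27400 q3075, e3 q3109 L27414 q2994, e3 q3110 L27428 q3077, e3 q3111 L27440 q3000, e3 q3112 L27454 q3083, e3 q3113 L27468 q2963, e3 q3114 L27484 q2964, e3 q3115 L27499 q2965, e3 q3116 L27514 q2954, e3 q3117 L27530 q2966, e3 q3118 L27540 q2957, e3 q3119 L27554 q2960, e3 q3120 L27565 q2945, e3 q3121 L27575 q2912, e3 q3122 L27591 q2913, e3 q3123 L27605 q2914, e3 q3124 L27620 q2915, e3 q3125 L27635 q2916, e3 q3126 L27645 q2917, e3 q3127 L27661 q2918, e3 q3128 L27676 q2919, e3 q3129 L27688 q2921, e3 q3130 L27704 q2922, e3 q3131 L27720 q2923, e3 q3132 L27732 q2924, e3 q3133 L27740 q2927, e3 q3134 L27754 q2928, e3 q3135 L27765 q2930, trivial⟩ (by decide +kernel)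

theorem ce_a_49 : ∀ r, r < 64 → sm ga (Qf (3136 + r)) = Qf (tab Gen.a (3136 + r)) :=
  edges_tab (sm ga) Qf (tab Gen.a) 3136 [(3136, 2935), (3137, 3297), (3138, 2988), (3139, 3298), (3140, 3034), (3141, 3299), (3142, 3300), (3143, 3041), (3144, 3301), (3145, 3302), (3146, 2920), (3147, 3316), (3148, 3303), (3149, 3009), (3150, 3304), (3151, 3305), (3152, 3013), (3153, 3306), (3154, 3307), (3155, 3079), (3156, 3274), (3157, 2934), (3158, 3325), (3159, 3308), (3160, 3160), (3161, 3080), (3162, 2941), (3163, 3163), (3164, 3279), (3165, 3277), (3166, 3045), (3167, 2955), (3168, 2956), (3169, 2958), (3170, 3056), (3171, 3057), (3172, 3294), (3173, 3330), (3174, 3296), (3175, 3331), (3176, 3278), (3177, 3069), (3178, 3292), (3179, 3293), (3180, 3295), (3181, 2980), (3182, 2981), (3183, 2984), (3184, 2985), (3185, 2986), (3186, 2991), (3187, 2992), (3188, 2995), (3189, 2997), (3190, 2998), (3191, 3001), (3192, 3062), (3193, 3285), (3194, 3340), (3195, 3065),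 (3196, 3066), (3197, 3072), (3198, 3341), (3199, 3342)]
    ⟨e3 q3136 L27778 q2935, e3 q3137 (flp_a L29379) q3297, e3 q3138 L27812 q2988, e3 q3139 (flp_a L29395) q3298, e3 q3140 L27825 q3034, e3 q3141 (flp_a L29410) q3299, e3 q3142 (flp_a L29425) q3300, e3 q3143 L27855 q3041, e3 q3144 (flp_a L29437) q3301, e3 q3145 (flp_a L29453) q3302, e3 q3146 (flp_a L27886) q2920, e3 q3147 (flp_a L29631) q3316, e3 q3148 (flp_a L29465) q3303, e3 q3149 L27920 q3009, e3 q3150 (flp_a L29479) q3304, e3 q3151 (flp_a L29495) q3305, e3 q3152 L27952 q3013, e3 q3153 (flp_a L29505) q3306, e3 q3154 (flp_a L29520) q3307, e3 q3155 L27980 q3079, e3 q3156 (flp_a L29079) q3274, e3 q3157 L28001 q2934, e3 q3158 (flp_a L29722) q3325, e3 q3159 (flp_a L29531) q3308, e3 q3160 L28029 q3160, e3 q3161 L28039 q3080, e3 q3162 L28052 q2941, e3 q3163 L28062 q3163, e3 q3164 (flp_a L29141) q3279, e3 q3165 (flp_a L29115) q3277, e3 q3166 L28089 q3045, e3 q3167 L28101 q2955, e3 q3168 L28113 q2956,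 e3 q3169 L28127 q2958, e3 q3170 L28138 q3056, e3 q3171 L28149 q3057, e3 q3172 (flp_a L29336) q3294, e3 q3173 (flp_a L29774) q3330, e3 q3174 (flp_a L29364) q3296, e3 q3175 (flp_a L29786) q3331, e3 q3176 (flp_a L29125) q3278, e3 q3177 L28211 q3069, e3 q3178 (flp_a L29305) q3292, e3 q3179 (flp_a L29321) q3293, e3 q3180 (flp_a L29352) q3295, e3 q3181 L28248 q2980, e3 q3182 L28259 q2981, e3 q3183 L28273 q2984, e3 q3184 L28289 q2985, e3 q3185 L28301 q2986, e3 q3186 L28315 q2991, e3 q3187 L28326 q2992, e3 q3188 L28340 q2995, e3 q3189 L28346 q2997, e3 q3190 L28358 q2998, e3 q3191 L28368 q3001, e3 q3192 L28373 q3062, e3 q3193 (flp_a L29211) q3285, e3 q3194 (flp_a L29879) q3340, e3 q3195 L28401 q3065, e3 q3196 L28412 q3066, e3 q3197 L28426 q3072, e3 q3198 (flp_a L29891) q3341, e3 q3199 (flp_a L29907) q3342, trivial⟩ (by decide +kernel)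

theorem ce_a_50 : ∀ r, r < 64 → sm ga (Qf (3200 + r)) = Qf (tab Gen.a (3200 + r)) :=
  edges_tab (sm ga) Qf (tab Gen.a) 3200 [(3200, 2989), (3201, 3031), (3202, 3310), (3203, 3355), (3204, 3039), (3205, 3287), (3206, 3343), (3207, 3073), (3208, 3289), (3209, 3344), (3210, 3081), (3211, 3345), (3212, 3346), (3213, 3082), (3214, 3290), (3215, 3347), (3216, 3275), (3217, 3217), (3218, 3068), (3219, 3070), (3220, 3319), (3221, 3076), (3222, 3322), (3223, 3084), (3224, 3016), (3225, 3058), (3226, 3032), (3227, 3033), (3228, 3035), (3229, 3036), (3230, 3037), (3231, 3042), (3232, 3043), (3233, 3046), (3234, 3048), (3235, 3051), (3236, 3356), (3237, 3373), (3238, 3312), (3239, 3374), (3240, 3375), (3241, 3040), (3242, 3358), (3243, 3382), (3244, 3314), (3245, 3376), (3246, 3377), (3247, 3059), (3248, 3329), (3249, 3336), (3250, 3050), (3251, 3324), (3252, 3366), (3253, 3332), (3254, 3388), (3255, 3063), (3256, 3348), (3257, 3390), (3258, 3284), (3259, 3351),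 (3260, 3286), (3261, 3337), (3262, 3074), (3263, 3352)]
    ⟨e3 q3200 L28456 q2989, e3 q3201 L28466 q3031, e3 q3202 (flp_a L29558) q3310, e3 q3203 (flp_a L30041) q3355, e3 q3204 L28494 q3039, e3 q3205 (flp_a L29240) q3287, e3 q3206 (flp_a L29919) q3343, e3 q3207 L28524 q3073, e3 q3208 (flp_a L29267) q3289, e3 q3209 (flp_a L29931) q3344, e3 q3210 L28544 q3081, e3 q3211 (flp_a L29937) q3345, e3 q3212 (flp_a L29950) q3346, e3 q3213 L28572 q3082, e3 q3214 (flp_a L29279) q3290, e3 q3215 (flp_a L29961) q3347, e3 q3216 (flp_a L29095) q3275, e3 q3217 L28601 q3217, e3 q3218 L28608 q3068, e3 q3219 L28622 q3070, e3 q3220 (flp_a L29661) q3319, e3 q3221 L28648 q3076, e3 q3222 (flp_a L29691) q3322, e3 q3223 L28667 q3084, e3 q3224 L28674 q3016, e3 q3225 L28684 q3058, e3 q3226 L28698 q3032, e3 q3227 L28709 q3033, e3 q3228 L28723 q3035, e3 q3229 L28733 q3036, e3 q3230 L28745 q3037, e3 q3231 L28759 q3042, e3 q3232 L28770 q3043, e3 q3233 L28776 q3046, e3 q3234 L28790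 q3048, e3 q3235 L28800 q3051, e3 q3236 (flp_a L30049) q3356, e3 q3237 (flp_a L30192) q3373, e3 q3238 (flp_a L29581) q3312, e3 q3239 (flp_a L30204) q3374, e3 q3240 (flp_a L30216) q3375, e3 q3241 L28841 q3040, e3 q3242 (flp_a L30070) q3358, e3 q3243 (flp_a L30275) q3382, e3 q3244 (flp_a L29604) q3314, e3 q3245 (flp_a L30228) q3376, e3 q3246 (flp_a L30240) q3377, e3 q3247 L28883 q3059, e3 q3248 (flp_a L29760) q3329, e3 q3249 (flp_a L29834) q3336, e3 q3250 L28904 q3050, e3 q3251 (flp_a L29713) q3324, e3 q3252 (flp_a L30134) q3366, e3 q3253 (flp_a L29797) q3332, e3 q3254 (flp_a L30310) q3388, e3 q3255 L28933 q3063, e3 q3256 (flp_a L29971) q3348, e3 q3257 (flp_a L30321) q3390, e3 q3258 (flp_a L29196) q3284, e3 q3259 (flp_a L29999) q3351, e3 q3260 (flp_a L29226) q3286, e3 q3261 (flp_a L29845) q3337, e3 q3262 L28979 q3074, e3 q3263 (flp_a L30011) q3352, trivial⟩ (by decide +kernel)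

theorem ce_a_51 : ∀ r, r < 64 → sm ga (Qf (3264 + r)) = Qf (tab Gen.a (3264 + r)) :=
  edges_tab (sm ga) Qf (tab Gen.a) 3264 [(3264, 3361), (3265, 3288), (3266, 3371), (3267, 3364), (3268, 3327), (3269, 3291), (3270, 3270), (3271, 3271), (3272, 3095), (3273, 3096), (3274, 3156), (3275, 3216), (3276, 3401), (3277, 3165), (3278, 3176), (3279, 3164), (3280, 3280), (3281, 3102), (3282, 3404), (3283, 3283), (3284, 3258), (3285, 3193), (3286, 3260), (3287, 3205), (3288, 3265), (3289, 3208), (3290, 3214), (3291, 3269), (3292, 3178), (3293, 3179), (3294, 3172), (3295, 3180), (3296, 3174), (3297, 3137), (3298, 3139), (3299, 3141), (3300, 3142), (3301, 3144), (3302, 3145), (3303, 3148), (3304, 3150), (3305, 3151), (3306, 3153), (3307, 3154), (3308, 3159), (3309, 3416), (3310, 3202), (3311, 3417), (3312, 3238), (3313, 3418), (3314, 3244), (3315, 3419), (3316, 3147), (3317, 3429), (3318, 3420), (3319, 3220), (3320, 3421), (3321, 3422), (3322, 3222), (3323, 3423),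 (3324, 3251), (3325, 3158), (3326, 3436), (3327, 3268)]
    ⟨e3 q3264 (flp_a L30096) q3361, e3 q3265 (flp_a L29255) q3288, e3 q3266 (flp_a L30177) q3371, e3 q3267 (flp_a L30114) q3364, e3 q3268 (flp_a L29744) q3327, e3 q3269 (flp_a L29292) q3291, e3 q3270 L29028 q3270, e3 q3271 L29041 q3271, e3 q3272 L29054 q3095, e3 q3273 L29069 q3096, e3 q3274 L29079 q3156, e3 q3275 L29095 q3216, e3 q3276 (flp_a L30405) q3401, e3 q3277 L29115 q3165, e3 q3278 L29125 q3176, e3 q3279 L29141 q3164, e3 q3280 L29156 q3280, e3 q3281 L29166 q3102, e3 q3282 (flp_a L30451) q3404, e3 q3283 L29186 q3283, e3 q3284 L29196 q3258, e3 q3285 L29211 q3193, e3 q3286 L29226 q3260, e3 q3287 L29240 q3205, e3 q3288 L29255 q3265, e3 q3289 L29267 q3208, e3 q3290 L29279 q3214, e3 q3291 L29292 q3269, e3 q3292 L29305 q3178, e3 q3293 L29321 q3179, e3 q3294 L29336 q3172, e3 q3295 L29352 q3180, e3 q3296 L29364 q3174, e3 q3297 L29379 q3137, e3 q3298 L29395 q3139, e3 q3299 L29410 q3141, e3 q3300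 L29425 q3142, e3 q3301 L29437 q3144, e3 q3302 L29453 q3145, e3 q3303 L29465 q3148, e3 q3304 L29479 q3150, e3 q3305 L29495 q3151, e3 q3306 L29505 q3153, e3 q3307 L29520 q3154, e3 q3308 L29531 q3159, e3 q3309 (flp_a L30630) q3416, e3 q3310 L29558 q3202, e3 q3311 (flp_a L30648) q3417, e3 q3312 L29581 q3238, e3 q3313 (flp_a L30664) q3418, e3 q3314 L29604 q3244, e3 q3315 (flp_a L30680) q3419, e3 q3316 L29631 q3147, e3 q3317 (flp_a L30819) q3429, e3 q3318 (flp_a L30698) q3420, e3 q3319 L29661 q3220, e3 q3320 (flp_a L30714) q3421, e3 q3321 (flp_a L30730) q3422, e3 q3322 L29691 q3222, e3 q3323 (flp_a L30742) q3423, e3 q3324 L29713 q3251, e3 q3325 L29722 q3158, e3 q3326 (flp_a L30902) q3436, e3 q3327 L29744 q3268, trivial⟩ (by decide +kernel)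

theorem ce_a_52 : ∀ r, r < 64 → sm ga (Qf (3328 + r)) = Qf (tab Gen.a (3328 + r)) :=
  edges_tab (sm ga) Qf (tab Gen.a) 3328 [(3328, 3403), (3329, 3248), (3330, 3173), (3331, 3175), (3332, 3253), (3333, 3414), (3334, 3439), (3335, 3415), (3336, 3249), (3337, 3261), (3338, 3412), (3339, 3413), (3340, 3194), (3341, 3198), (3342, 3199), (3343, 3206), (3344, 3209), (3345, 3211), (3346, 3212), (3347, 3215), (3348, 3256), (3349, 3406), (3350, 3444), (3351, 3259), (3352, 3263), (3353, 3445), (3354, 3446), (3355, 3203), (3356, 3236), (3357, 3424), (3358, 3242), (3359, 3407), (3360, 3447), (3361, 3264), (3362, 3409), (3363, 3448), (3364, 3267), (3365, 3437), (3366, 3252), (3367, 3410), (3368, 3463), (3369, 3402), (3370, 3432), (3371, 3266), (3372, 3435), (3373, 3237), (3374, 3239), (3375, 3240), (3376, 3245), (3377, 3246), (3378, 3456), (3379, 3466), (3380, 3426), (3381, 3442), (3382, 3243), (3383, 3458), (3384, 3434), (3385, 3428), (3386, 3467), (3387, 3455),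 (3388, 3254), (3389, 3440), (3390, 3257), (3391, 3449)]
    ⟨e3 q3328 (flp_a L30435) q3403, e3 q3329 L29760 q3248, e3 q3330 L29774 q3173, e3 q3331 L29786 q3175, e3 q3332 L29797 q3253, e3 q3333 (flp_a L30599) q3414, e3 q3334 (flp_a L30943) q3439, e3 q3335 (flp_a L30615) q3415, e3 q3336 L29834 q3249, e3 q3337 L29845 q3261, e3 q3338 (flp_a L30565) q3412, e3 q3339 (flp_a L30583) q3413, e3 q3340 L29879 q3194, e3 q3341 L29891 q3198, e3 q3342 L29907 q3199, e3 q3343 L29919 q3206, e3 q3344 L29931 q3209, e3 q3345 L29937 q3211, e3 q3346 L29950 q3212, e3 q3347 L29961 q3215, e3 q3348 L29971 q3256, e3 q3349 (flp_a L30481) q3406, e3 q3350 (flp_a L30997) q3444, e3 q3351 L29999 q3259, e3 q3352 L30011 q3263, e3 q3353 (flp_a L31008) q3445, e3 q3354 (flp_a L31024) q3446, e3 q3355 L30041 q3203, e3 q3356 L30049 q3236, e3 q3357 (flp_a L30757) q3424, e3 q3358 L30070 q3242, e3 q3359 (flp_a L30497) q3407, e3 q3360 (flp_a L31038) q3447, e3 q3361 L30096 q3264, e3 q3362 (flp_a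 L30527) q3409, e3 q3363 (flp_a L31049) q3448, e3 q3364 L30114 q3267, e3 q3365 (flp_a L30924) q3437, e3 q3366 L30134 q3252, e3 q3367 (flp_a L30541) q3410, e3 q3368 (flp_a L31205) q3463, e3 q3369 (flp_a L30421) q3402, e3 q3370 (flp_a L30853) q3432, e3 q3371 L30177 q3266, e3 q3372 (flp_a L30887) q3435, e3 q3373 L30192 q3237, e3 q3374 L30204 q3239, e3 q3375 L30216 q3240, e3 q3376 L30228 q3245, e3 q3377 L30240 q3246, e3 q3378 (flp_a L31138) q3456, e3 q3379 (flp_a L31237) q3466, e3 q3380 (flp_a L30780) q3426, e3 q3381 (flp_a L30978) q3442, e3 q3382 L30275 q3243, e3 q3383 (flp_a L31159) q3458, e3 q3384 (flp_a L30877) q3434, e3 q3385 (flp_a L30803) q3428, e3 q3386 (flp_a L31248) q3467, e3 q3387 (flp_a L31128) q3455, e3 q3388 L30310 q3254, e3 q3389 (flp_a L30957) q3440, e3 q3390 L30321 q3257, e3 q3391 (flp_a L31059) q3449, trivial⟩ (by decide +kernel)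

theorem ce_a_53 : ∀ r, r < 64 → sm ga (Qf (3392 + r)) = Qf (tab Gen.a (3392 + r)) :=
  edges_tab (sm ga) Qf (tab Gen.a) 3392 [(3392, 3405), (3393, 3452), (3394, 3453), (3395, 3431), (3396, 3408), (3397, 3438), (3398, 3411), (3399, 3399), (3400, 3400), (3401, 3276), (3402, 3369), (3403, 3328), (3404, 3282), (3405, 3392), (3406, 3349), (3407, 3359), (3408, 3396), (3409, 3362), (3410, 3367), (3411, 3398), (3412, 3338), (3413, 3339), (3414, 3333), (3415, 3335), (3416, 3309), (3417, 3311), (3418, 3313), (3419, 3315), (3420, 3318), (3421, 3320), (3422, 3321), (3423, 3323), (3424, 3357), (3425, 3484), (3426, 3380), (3427, 3485), (3428, 3385), (3429, 3317), (3430, 3492), (3431, 3395), (3432, 3370), (3433, 3486), (3434, 3384), (3435, 3372), (3436, 3326), (3437, 3365), (3438, 3397), (3439, 3334), (3440, 3389), (3441, 3483), (3442, 3381), (3443, 3482), (3444, 3350), (3445, 3353), (3446, 3354), (3447, 3360), (3448, 3363), (3449, 3391), (3450, 3477), (3451, 3496),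 (3452, 3393), (3453, 3394), (3454, 3495), (3455, 3387)]
    ⟨e3 q3392 (flp_a L30465) q3405, e3 q3393 (flp_a L31091) q3452, e3 q3394 (flp_a L31104) q3453, e3 q3395 (flp_a L30843) q3431, e3 q3396 (flp_a L30513) q3408, e3 q3397 (flp_a L30930) q3438, e3 q3398 (flp_a L30553) q3411, e3 q3399 L30381 q3399, e3 q3400 L30393 q3400, e3 q3401 L30405 q3276, e3 q3402 L30421 q3369, e3 q3403 L30435 q3328, e3 q3404 L30451 q3282, e3 q3405 L30465 q3392, e3 q3406 L30481 q3349, e3 q3407 L30497 q3359, e3 q3408 L30513 q3396, e3 q3409 L30527 q3362, e3 q3410 L30541 q3367, e3 q3411 L30553 q3398, e3 q3412 L30565 q3338, e3 q3413 L30583 q3339, e3 q3414 L30599 q3333, e3 q3415 L30615 q3335, e3 q3416 L30630 q3309, e3 q3417 L30648 q3311, e3 q3418 L30664 q3313, e3 q3419 L30680 q3315, e3 q3420 L30698 q3318, e3 q3421 L30714 q3320, e3 q3422 L30730 q3321, e3 q3423 L30742 q3323, e3 q3424 L30757 q3357, e3 q3425 (flp_a L31425) q3484, e3 q3426 L30780 q3380, e3 q3427 (flp_a L31442) q3485, e3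 q3428 L30803 q3385, e3 q3429 L30819 q3317, e3 q3430 (flp_a L31558) q3492, e3 q3431 L30843 q3395, e3 q3432 L30853 q3370, e3 q3433 (flp_a L31459) q3486, e3 q3434 L30877 q3384, e3 q3435 L30887 q3372, e3 q3436 L30902 q3326, e3 q3437 L30924 q3365, e3 q3438 L30930 q3397, e3 q3439 L30943 q3334, e3 q3440 L30957 q3389, e3 q3441 (flp_a L31407) q3483, e3 q3442 L30978 q3381, e3 q3443 (flp_a L31390) q3482, e3 q3444 L30997 q3350, e3 q3445 L31008 q3353, e3 q3446 L31024 q3354, e3 q3447 L31038 q3360, e3 q3448 L31049 q3363, e3 q3449 L31059 q3391, e3 q3450 (flp_a L31324) q3477, e3 q3451 (flp_a L31626) q3496, e3 q3452 L31091 q3393, e3 q3453 L31104 q3394, e3 q3454 (flp_a L31620) q3495, e3 q3455 L31128 q3387, trivial⟩ (by decide +kernel)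

theorem ce_a_54 : ∀ r, r < 54 → sm ga (Qf (3456 + r)) = Qf (tab Gen.a (3456 + r)) :=
  edges_tab (sm ga) Qf (tab Gen.a) 3456 [(3456, 3378), (3457, 3487), (3458, 3383), (3459, 3478), (3460, 3497), (3461, 3480), (3462, 3500), (3463, 3368), (3464, 3481), (3465, 3493), (3466, 3379), (3467, 3386), (3468, 3490), (3469, 3489), (3470, 3502), (3471, 3491), (3472, 3488), (3473, 3476), (3474, 3494), (3475, 3479), (3476, 3473), (3477, 3450), (3478, 3459), (3479, 3475), (3480, 3461), (3481, 3464), (3482, 3443), (3483, 3441), (3484, 3425), (3485, 3427), (3486, 3433), (3487, 3457), (3488, 3472), (3489, 3469), (3490, 3468), (3491, 3471), (3492, 3430), (3493, 3465), (3494, 3474), (3495, 3454), (3496, 3451), (3497, 3460), (3498, 3506), (3499, 3507), (3500, 3462), (3501, 3509), (3502, 3470), (3503, 3508), (3504, 3505), (3505, 3504), (3506, 3498), (3507, 3499), (3508, 3503), (3509, 3501)]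
    ⟨e3 q3456 L31138 q3378, e3 q3457 (flp_a L31477) q3487, e3 q3458 L31159 q3383, e3 q3459 (flp_a L31339) q3478, e3 q3460 (flp_a L31639) q3497, e3 q3461 (flp_a L31364) q3480, e3 q3462 (flp_a L31678) q3500, e3 q3463 L31205 q3368, e3 q3464 (flp_a L31384) q3481, e3 q3465 (flp_a L31576) q3493, e3 q3466 L31237 q3379, e3 q3467 L31248 q3386, e3 q3468 (flp_a L31526) q3490, e3 q3469 (flp_a L31509) q3489, e3 q3470 (flp_a L31702) q3502, e3 q3471 (flp_a L31541) q3491, e3 q3472 (flp_a L31494) q3488, e3 q3473 (flp_a L31309) q3476, e3 q3474 (flp_a L31594) q3494, e3 q3475 (flp_a L31352) q3479, e3 q3476 L31309 q3473, e3 q3477 L31324 q3450, e3 q3478 L31339 q3459, e3 q3479 L31352 q3475, e3 q3480 L31364 q3461, e3 q3481 L31384 q3464, e3 q3482 L31390 q3443, e3 q3483 L31407 q3441, e3 q3484 L31425 q3425, e3 q3485 L31442 q3427, e3 q3486 L31459 q3433, e3 q3487 L31477 q3457, e3 q3488 L31494 q3472, e3 q3489 L31509 q3469, e3 q3490 L31526 q3468, e3 q3491 L31541 q3471, e3 q3492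 L31558 q3430, e3 q3493 L31576 q3465, e3 q3494 L31594 q3474, e3 q3495 L31620 q3454, e3 q3496 L31626 q3451, e3 q3497 L31639 q3460, e3 q3498 (flp_a L31746) q3506, e3 q3499 (flp_a L31763) q3507, e3 q3500 L31678 q3462, e3 q3501 (flp_a L31797) q3509, e3 q3502 L31702 q3470, e3 q3503 (flp_a L31780) q3508, e3 q3504 (flp_a L31729) q3505, e3 q3505 L31729 q3504, e3 q3506 L31746 q3498, e3 q3507 L31763 q3499, e3 q3508 L31780 q3503, e3 q3509 L31797 q3501, trivial⟩ (by decide +kernel)

theorem cl_a : ∀ i, i < 3510 → sm ga (Qf i) = Qf (tab Gen.a i) :=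
  all_of_chunks (fun i => sm ga (Qf i) = Qf (tab Gen.a i)) 54 54
    ⟨ce_a_0, ce_a_1, ce_a_2, ce_a_3, ce_a_4, ce_a_5, ce_a_6, ce_a_7, ce_a_8, ce_a_9, ce_a_10, ce_a_11, ce_a_12, ce_a_13, ce_a_14, ce_a_15, ce_a_16, ce_a_17, ce_a_18, ce_a_19, ce_a_20, ce_a_21, ce_a_22, ce_a_23, ce_a_24, ce_a_25, ce_a_26, ce_a_27, ce_a_28, ce_a_29, ce_a_30, ce_a_31, ce_a_32, ce_a_33, ce_a_34, ce_a_35, ce_a_36, ce_a_37, ce_a_38, ce_a_39, ce_a_40, ce_a_41, ce_a_42, ce_a_43, ce_a_44, ce_a_45, ce_a_46, ce_a_47, ce_a_48, ce_a_49, ce_a_50, ce_a_51, ce_a_52, ce_a_53, trivial⟩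
    ce_a_54


end Cfsg.Agent.Helper28.FiaA
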