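import Cfsg.Agent.Helper28.FiaC0

/-!
# The Fi₂₂ presentation, cosets of the subgroup generated by a, c, d, e, f, g, h, i, (abcdeh)⁵: the action of the generator b (helper28; generated)
-/

set_option autoImplicit false
set_option maxRecDepth 100000
set_option linter.unusedSimpArgs false
set_option linter.constructorNameAsVariable false

noncomputable section

namespace Cfsg.Agent.Helper28.FiaA

open Cfsg.Spor Cfsg.Spor.Fi22 Cfsg.Agent.Helper28.CosetTable

theorem ce_b_0 : ∀ r, r < 64 → sm gb (Qf (0 + r)) = Qf (tab Gen.b (0 + r)) :=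
  edges_tab (sm gb) Qf (tab Gen.b) 0 [(0, 1), (1, 0), (2, 2), (3, 3), (4, 6), (5, 5), (6, 4), (7, 10), (8, 8), (9, 9), (10, 7), (11, 17), (12, 18), (13, 13), (14, 14), (15, 15), (16, 16), (17, 11), (18, 12), (19, 28), (20, 29), (21, 30), (22, 22), (23, 23), (24, 24), (25, 25), (26, 26), (27, 27), (28, 19), (29, 20), (30, 21), (31, 45), (32, 46), (33, 47), (34, 48), (35, 35), (36, 36), (37, 37), (38, 59), (39, 39), (40, 40), (41, 41), (42, 42), (43, 43), (44, 44), (45, 31), (46, 32), (47, 33), (48, 34), (49, 67), (50, 68), (51, 69), (52, 52), (53, 70), (54, 54), (55, 55), (56, 81), (57, 57), (58, 58), (59, 38), (60, 86), (61, 61), (62, 62), (63, 63)]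
    ⟨e3 q0 L8 q1, e3 q1 (flp_b L8) q0, e3 q2 L24 q2, e3 q3 L32 q3, e3 q4 L49 q6, e3 q5 L44 q5, e3 q6 (flp_b L49) q4, e3 q7 (flp_b L83) q10, e3 q8 L68 q8, e3 q9 L75 q9, e3 q10 L83 q7, e3 q11 (flp_b L137) q17, e3 q12 (flp_b L145) q18, e3 q13 L106 q13, e3 q14 L113 q14, e3 q15 L120 q15, e3 q16 L132 q16, e3 q17 L137 q11, e3 q18 L145 q12, e3 q19 (flp_b L223) q28, e3 q20 (flp_b L231) q29, e3 q21 (flp_b L239) q30, e3 q22 L177 q22, e3 q23 L185 q23, e3 q24 L192 q24, e3 q25 L198 q25, e3 q26 L207 q26, e3 q27 L215 q27, e3 q28 L223 q19, e3 q29 L231 q20, e3 q30 L239 q21, e3 q31 (flp_b L361) q45, e3 q32 (flp_b L370) q46, e3 q33 (flp_b L378) q47, e3 q34 (flp_b L387) q48, e3 q35 L280 q35, e3 q36 L288 q36, e3 q37 L294 q37, e3 q38 L470 q59, e3 q39 L308 q39, e3 q40 L316 q40, e3 q41 L324 q41, e3 q42 L332 q42, e3 q43 L343 q43, e3 q44 L352 q44, e3 q45 L361 q31, e3 q46 L370 q32, e3 q47 L378 q33, e3 q48 L387 q34, e3 q49 (flp_b L544) q67, e3 q50 (flp_b L553) q68, e3 q51 (flp_b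 L562) q69, e3 q52 L425 q52, e3 q53 (flp_b L571) q70, e3 q54 L437 q54, e3 q55 L444 q55, e3 q56 L660 q81, e3 q57 L459 q57, e3 q58 L465 q58, e3 q59 (flp_b L470) q38, e3 q60 (flp_b L698) q86, e3 q61 L487 q61, e3 q62 L495 q62, e3 q63 L504 q63, trivial⟩ (by decide +kernel)

theorem ce_b_1 : ∀ r, r < 64 → sm gb (Qf (64 + r)) = Qf (tab Gen.b (64 + r)) :=
  edges_tab (sm gb) Qf (tab Gen.b) 64 [(64, 64), (65, 65), (66, 66), (67, 49), (68, 50), (69, 51), (70, 53), (71, 93), (72, 94), (73, 73), (74, 95), (75, 96), (76, 76), (77, 97), (78, 106), (79, 79), (80, 80), (81, 56), (82, 112), (83, 113), (84, 84), (85, 85), (86, 60), (87, 118), (88, 88), (89, 89), (90, 90), (91, 91), (92, 92), (93, 71), (94, 72), (95, 74), (96, 75), (97, 77), (98, 98), (99, 122), (100, 123), (101, 101), (102, 102), (103, 124), (104, 125), (105, 105), (106, 78), (107, 136), (108, 137), (109, 109), (110, 110), (111, 111), (112, 82), (113, 83), (114, 144), (115, 145), (116, 146), (117, 117),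 (118, 87), (119, 152), (120, 120), (121, 121), (122, 99), (123, 100), (124, 103), (125, 104), (126, 126), (127, 127)]
    ⟨e3 q64 L513 q64, e3 q65 L523 q65, e3 q66 L534 q66, e3 q67 L544 q49, e3 q68 L553 q50, e3 q69 L562 q51, e3 q70 L571 q53, e3 q71 (flp_b L765) q93, e3 q72 (flp_b L775) q94, e3 q73 L603 q73, e3 q74 (flp_b L785) q95, e3 q75 (flp_b L794) q96, e3 q76 L624 q76, e3 q77 (flp_b L804) q97, e3 q78 L883 q106, e3 q79 L647 q79, e3 q80 L654 q80, e3 q81 (flp_b L660) q56, e3 q82 (flp_b L933) q112, e3 q83 (flp_b L941) q113, e3 q84 L683 q84, e3 q85 L690 q85, e3 q86 L698 q60, e3 q87 (flp_b L976) q118, e3 q88 L714 q88, e3 q89 L723 q89, e3 q90 L733 q90, e3 q91 L744 q91, e3 q92 L755 q92, e3 q93 L765 q71, e3 q94 L775 q72, e3 q95 L785 q74, e3 q96 L794 q75, e3 q97 L804 q77, e3 q98 L819 q98, e3 q99 (flp_b L1013) q122, e3 q100 (flp_b L1023) q123, e3 q101 L842 q101, e3 q102 L851 q102, e3 q103 (flp_b L1034) q124, e3 q104 (flp_b L1044) q125, e3 q105 L877 q105, e3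 q106 (flp_b L883) q78, e3 q107 (flp_b L1146) q136, e3 q108 (flp_b L1155) q137, e3 q109 L909 q109, e3 q110 L916 q110, e3 q111 L924 q111, e3 q112 L933 q82, e3 q113 L941 q83, e3 q114 (flp_b L1210) q144, e3 q115 (flp_b L1217) q145, e3 q116 (flp_b L1226) q146, e3 q117 L968 q117, e3 q118 L976 q87, e3 q119 (flp_b L1270) q152, e3 q120 L991 q120, e3 q121 L1001 q121, e3 q122 L1013 q99, e3 q123 L1023 q100, e3 q124 L1034 q103, e3 q125 L1044 q104, e3 q126 L1055 q126, e3 q127 L1065 q127, trivial⟩ (by decide +kernel)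

theorem ce_b_2 : ∀ r, r < 64 → sm gb (Qf (128 + r)) = Qf (tab Gen.b (128 + r)) :=
  edges_tab (sm gb) Qf (tab Gen.b) 128 [(128, 155), (129, 156), (130, 157), (131, 131), (132, 132), (133, 133), (134, 158), (135, 135), (136, 107), (137, 108), (138, 171), (139, 172), (140, 173), (141, 174), (142, 142), (143, 143), (144, 114), (145, 115), (146, 116), (147, 184), (148, 185), (149, 186), (150, 187), (151, 151), (152, 119), (153, 194), (154, 154), (155, 128), (156, 129), (157, 130), (158, 134), (159, 159), (160, 160), (161, 161), (162, 162), (163, 196), (164, 197), (165, 165), (166, 166), (167, 167), (168, 168), (169, 198), (170, 170), (171, 138), (172, 139), (173, 140), (174, 141), (175, 214), (176, 215), (177, 216), (178, 217), (179, 218), (180, 219), (181, 181), (182, 182), (183, 183), (184, 147), (185, 148), (186, 149), (187, 150), (188, 232), (189, 233), (190, 234), (191, 236)]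
    ⟨e3 q128 (flp_b L1295) q155, e3 q129 (flp_b L1305) q156, e3 q130 (flp_b L1316) q157, e3 q131 L1102 q131, e3 q132 L1110 q132, e3 q133 L1120 q133, e3 q134 (flp_b L1327) q158, e3 q135 L1138 q135, e3 q136 L1146 q107, e3 q137 L1155 q108, e3 q138 (flp_b L1454) q171, e3 q139 (flp_b L1462) q172, e3 q140 (flp_b L1471) q173, e3 q141 (flp_b L1481) q174, e3 q142 L1193 q142, e3 q143 L1201 q143, e3 q144 L1210 q114, e3 q145 L1217 q115, e3 q146 L1226 q116, e3 q147 (flp_b L1560) q184, e3 q148 (flp_b L1568) q185, e3 q149 (flp_b L1577) q186, e3 q150 (flp_b L1587) q187, e3 q151 L1262 q151, e3 q152 L1270 q119, e3 q153 (flp_b L1630) q194, e3 q154 L1285 q154, e3 q155 L1295 q128, e3 q156 L1305 q129, e3 q157 L1316 q130, e3 q158 L1327 q134, e3 q159 L1338 q159, e3 q160 L1347 q160, e3 q161 L1357 q161, e3 q162 L1368 q162, e3 q163 (flp_b L1645) q196, e3 q164 (flp_b L1656) q197, e3 q165 L1397 q165, e3 q166 L1406 q166, e3 q167 L1416 q167, e3 q168 L1427 q168, e3 q169 (flp_b L1667)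 q198, e3 q170 L1445 q170, e3 q171 L1454 q138, e3 q172 L1462 q139, e3 q173 L1471 q140, e3 q174 L1481 q141, e3 q175 (flp_b L1815) q214, e3 q176 (flp_b L1823) q215, e3 q177 (flp_b L1832) q216, e3 q178 (flp_b L1842) q217, e3 q179 (flp_b L1852) q218, e3 q180 (flp_b L1863) q219, e3 q181 L1536 q181, e3 q182 L1544 q182, e3 q183 L1555 q183, e3 q184 L1560 q147, e3 q185 L1568 q148, e3 q186 L1577 q149, e3 q187 L1587 q150, e3 q188 (flp_b L1960) q232, e3 q189 (flp_b L1968) q233, e3 q190 (flp_b L1975) q234, e3 q191 (flp_b L1991) q236, trivial⟩ (by decide +kernel)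

theorem ce_b_3 : ∀ r, r < 64 → sm gb (Qf (192 + r)) = Qf (tab Gen.b (192 + r)) :=
  edges_tab (sm gb) Qf (tab Gen.b) 192 [(192, 242), (193, 193), (194, 153), (195, 244), (196, 163), (197, 164), (198, 169), (199, 199), (200, 200), (201, 201), (202, 202), (203, 203), (204, 204), (205, 246), (206, 247), (207, 207), (208, 208), (209, 209), (210, 210), (211, 264), (212, 212), (213, 213), (214, 175), (215, 176), (216, 177), (217, 178), (218, 179), (219, 180), (220, 269), (221, 270), (222, 271), (223, 272), (224, 273), (225, 274), (226, 275), (227, 277), (228, 228), (229, 290), (230, 230), (231, 231), (232, 188), (233, 189), (234, 190), (235, 235), (236, 191), (237, 294), (238, 295), (239, 303), (240, 297), (241, 299), (242, 192), (243, 243), (244, 195), (245, 310), (246, 205), (247, 206), (248, 313), (249, 249), (250, 250), (251, 251), (252, 252), (253, 253), (254, 254), (255, 255)]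
    ⟨e3 q192 L2025 q242, e3 q193 L1625 q193, e3 q194 L1630 q153, e3 q195 (flp_b L2044) q244, e3 q196 L1645 q163, e3 q197 L1656 q164, e3 q198 L1667 q169, e3 q199 L1677 q199, e3 q200 L1686 q200, e3 q201 L1696 q201, e3 q202 L1707 q202, e3 q203 L1718 q203, e3 q204 L1730 q204, e3 q205 (flp_b L2059) q246, e3 q206 (flp_b L2070) q247, e3 q207 L1759 q207, e3 q208 L1768 q208, e3 q209 L1776 q209, e3 q210 L1783 q210, e3 q211 L2226 q264, e3 q212 L1799 q212, e3 q213 L1810 q213, e3 q214 L1815 q175, e3 q215 L1823 q176, e3 q216 L1832 q177, e3 q217 L1842 q178, e3 q218 L1852 q179, e3 q219 L1863 q180, e3 q220 (flp_b L2272) q269, e3 q221 (flp_b L2280) q270, e3 q222 (flp_b L2289) q271, e3 q223 (flp_b L2299) q272, e3 q224 (flp_b L2308) q273, e3 q225 (flp_b L2316) q274, e3 q226 (flp_b L2327) q275, e3 q227 (flp_b L2345) q277, e3 q228 L1927 q228, e3 q229 L2434 q290, e3 q230 L1943 q230, e3 q231 L1951 q231, e3 q232 L1960 q188, e3 q233 L1968 q189, e3 q234 L1975 q190, e3 q235 L1986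 q235, e3 q236 L1991 q191, e3 q237 (flp_b L2468) q294, e3 q238 (flp_b L2477) q295, e3 q239 L2530 q303, e3 q240 (flp_b L2491) q297, e3 q241 (flp_b L2507) q299, e3 q242 (flp_b L2025) q192, e3 q243 L2035 q243, e3 q244 L2044 q195, e3 q245 (flp_b L2581) q310, e3 q246 L2059 q205, e3 q247 L2070 q206, e3 q248 L2606 q313, e3 q249 L2089 q249, e3 q250 L2098 q250, e3 q251 L2108 q251, e3 q252 L2119 q252, e3 q253 L2129 q253, e3 q254 L2138 q254, e3 q255 L2150 q255, trivial⟩ (by decide +kernel)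

theorem ce_b_4 : ∀ r, r < 64 → sm gb (Qf (256 + r)) = Qf (tab Gen.b (256 + r)) :=
  edges_tab (sm gb) Qf (tab Gen.b) 256 [(256, 256), (257, 311), (258, 326), (259, 259), (260, 260), (261, 330), (262, 262), (263, 263), (264, 211), (265, 265), (266, 266), (267, 267), (268, 268), (269, 220), (270, 221), (271, 222), (272, 223), (273, 224), (274, 225), (275, 226), (276, 276), (277, 227), (278, 341), (279, 342), (280, 343), (281, 344), (282, 345), (283, 346), (284, 347), (285, 362), (286, 349), (287, 351), (288, 366), (289, 289), (290, 229), (291, 291), (292, 292), (293, 293), (294, 237), (295, 238), (296, 376), (297, 240), (298, 298), (299, 241), (300, 373), (301, 384), (302, 375), (303, 239), (304, 388), (305, 378), (306, 381), (307, 334), (308, 308), (309, 309), (310, 245), (311, 257), (312, 396), (313, 248), (314, 314), (315, 315), (316, 316), (317, 317), (318, 318), (319, 319)]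
    ⟨e3 q256 L2158 q256, e3 q257 (flp_b L2590) q311, e3 q258 L2730 q326, e3 q259 L2186 q259, e3 q260 L2196 q260, e3 q261 L2762 q330, e3 q262 L2212 q262, e3 q263 L2220 q263, e3 q264 (flp_b L2226) q211, e3 q265 L2236 q265, e3 q266 L2245 q266, e3 q267 L2253 q267, e3 q268 L2262 q268, e3 q269 L2272 q220, e3 q270 L2280 q221, e3 q271 L2289 q222, e3 q272 L2299 q223, e3 q273 L2308 q224, e3 q274 L2316 q225, e3 q275 L2327 q226, e3 q276 L2340 q276, e3 q277 L2345 q227, e3 q278 (flp_b L2860) q341, e3 q279 (flp_b L2869) q342, e3 q280 (flp_b L2879) q343, e3 q281 (flp_b L2888) q344, e3 q282 (flp_b L2896) q345, e3 q283 (flp_b L2906) q346, e3 q284 (flp_b L2915) q347, e3 q285 L3025 q362, e3 q286 (flp_b L2931) q349, e3 q287 (flp_b L2951) q351, e3 q288 L3053 q366, e3 q289 L2428 q289, e3 q290 (flp_b L2434) q229, e3 q291 L2445 q291, e3 q292 L2452 q292, e3 q293 L2460 q293, e3 q294 L2468 q237, e3 q295 L2477 q238, e3 q296 L3131 q376, e3 q297 L2491 q240, e3 q298 L2499 q298, e3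 q299 L2507 q241, e3 q300 (flp_b L3111) q373, e3 q301 L3191 q384, e3 q302 (flp_b L3126) q375, e3 q303 (flp_b L2530) q239, e3 q304 (flp_b L3217) q388, e3 q305 (flp_b L3147) q378, e3 q306 (flp_b L3172) q381, e3 q307 (flp_b L2802) q334, e3 q308 L2565 q308, e3 q309 L2573 q309, e3 q310 L2581 q245, e3 q311 L2590 q257, e3 q312 L3278 q396, e3 q313 (flp_b L2606) q248, e3 q314 L2619 q314, e3 q315 L2629 q315, e3 q316 L2640 q316, e3 q317 L2650 q317, e3 q318 L2659 q318, e3 q319 L2670 q319, trivial⟩ (by decide +kernel)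

theorem ce_b_5 : ∀ r, r < 64 → sm gb (Qf (320 + r)) = Qf (tab Gen.b (320 + r)) :=
  edges_tab (sm gb) Qf (tab Gen.b) 320 [(320, 320), (321, 408), (322, 322), (323, 323), (324, 412), (325, 395), (326, 258), (327, 327), (328, 417), (329, 329), (330, 261), (331, 421), (332, 332), (333, 333), (334, 307), (335, 335), (336, 336), (337, 337), (338, 338), (339, 339), (340, 340), (341, 278), (342, 279), (343, 280), (344, 281), (345, 282), (346, 283), (347, 284), (348, 444), (349, 286), (350, 350), (351, 287), (352, 434), (353, 435), (354, 436), (355, 437), (356, 438), (357, 439), (358, 459), (359, 441), (360, 462), (361, 443), (362, 285), (363, 466), (364, 446), (365, 449), (366, 288), (367, 470), (368, 414), (369, 369), (370, 370), (371, 371), (372, 372), (373, 300), (374, 480), (375, 302), (376, 296), (377, 484), (378, 305), (379, 379), (380, 380), (381, 306), (382, 491), (383, 479)]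
    ⟨e3 q320 L2679 q320, e3 q321 L3395 q408, e3 q322 L2697 q322, e3 q323 L2707 q323, e3 q324 L3432 q412, e3 q325 (flp_b L3271) q395, e3 q326 (flp_b L2730) q258, e3 q327 L2741 q327, e3 q328 L3476 q417, e3 q329 L2758 q329, e3 q330 (flp_b L2762) q261, e3 q331 (flp_b L3511) q421, e3 q332 L2781 q332, e3 q333 L2790 q333, e3 q334 L2802 q307, e3 q335 L2807 q335, e3 q336 L2815 q336, e3 q337 L2824 q337, e3 q338 L2834 q338, e3 q339 L2842 q339, e3 q340 L2851 q340, e3 q341 L2860 q278, e3 q342 L2869 q279, e3 q343 L2879 q280, e3 q344 L2888 q281, e3 q345 L2896 q282, e3 q346 L2906 q283, e3 q347 L2915 q284, e3 q348 L3720 q444, e3 q349 L2931 q286, e3 q350 L2941 q350, e3 q351 L2951 q287, e3 q352 (flp_b L3632) q434, e3 q353 (flp_b L3642) q435, e3 q354 (flp_b L3651) q436, e3 q355 (flp_b L3660) q437, e3 q356 (flp_b L3670) q438, e3 q357 (flp_b L3680) q439, e3 q358 L3837 q459, e3 q359 (flp_b L3697) q441, e3 q360 L3857 q462, e3 q361 (flp_b L3715) q443, e3 q362 (flp_b L3025)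 q285, e3 q363 (flp_b L3886) q466, e3 q364 (flp_b L3739) q446, e3 q365 (flp_b L3764) q449, e3 q366 (flp_b L3053) q288, e3 q367 (flp_b L3915) q470, e3 q368 (flp_b L3456) q414, e3 q369 L3080 q369, e3 q370 L3087 q370, e3 q371 L3095 q371, e3 q372 L3105 q372, e3 q373 L3111 q300, e3 q374 L3988 q480, e3 q375 L3126 q302, e3 q376 (flp_b L3131) q296, e3 q377 (flp_b L4021) q484, e3 q378 L3147 q305, e3 q379 L3156 q379, e3 q380 L3162 q380, e3 q381 L3172 q306, e3 q382 L4072 q491, e3 q383 (flp_b L3982) q479, trivial⟩ (by decide +kernel)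

theorem ce_b_6 : ∀ r, r < 64 → sm gb (Qf (384 + r)) = Qf (tab Gen.b (384 + r)) :=
  edges_tab (sm gb) Qf (tab Gen.b) 384 [(384, 301), (385, 495), (386, 482), (387, 420), (388, 304), (389, 500), (390, 487), (391, 391), (392, 392), (393, 393), (394, 503), (395, 325), (396, 312), (397, 397), (398, 398), (399, 399), (400, 400), (401, 401), (402, 402), (403, 403), (404, 515), (405, 405), (406, 518), (407, 407), (408, 321), (409, 522), (410, 410), (411, 411), (412, 324), (413, 526), (414, 368), (415, 528), (416, 416), (417, 328), (418, 532), (419, 419), (420, 387), (421, 331), (422, 537), (423, 423), (424, 424), (425, 425), (426, 426), (427, 427), (428, 428), (429, 429), (430, 430), (431, 431), (432, 432), (433, 433), (434, 352), (435, 353), (436, 354), (437, 355), (438, 356), (439, 357), (440, 558), (441, 359), (442, 561), (443, 361), (444, 348), (445, 565), (446, 364), (447, 447)]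
    ⟨e3 q384 (flp_b L3191) q301, e3 q385 (flp_b L4101) q495, e3 q386 (flp_b L4005) q482, e3 q387 (flp_b L3507) q420, e3 q388 L3217 q304, e3 q389 (flp_b L4131) q500, e3 q390 (flp_b L4043) q487, e3 q391 L3237 q391, e3 q392 L3245 q392, e3 q393 L3253 q393, e3 q394 L4176 q503, e3 q395 L3271 q325, e3 q396 (flp_b L3278) q312, e3 q397 L3297 q397, e3 q398 L3302 q398, e3 q399 L3311 q399, e3 q400 L3321 q400, e3 q401 L3331 q401, e3 q402 L3342 q402, e3 q403 L3352 q403, e3 q404 L4295 q515, e3 q405 L3371 q405, e3 q406 L4321 q518, e3 q407 L3391 q407, e3 q408 (flp_b L3395) q321, e3 q409 (flp_b L4359) q522, e3 q410 L3417 q410, e3 q411 L3425 q411, e3 q412 (flp_b L3432) q324, e3 q413 (flp_b L4395) q526, e3 q414 L3456 q368, e3 q415 L4409 q528, e3 q416 L3471 q416, e3 q417 (flp_b L3476) q328, e3 q418 (flp_b L4447) q532, e3 q419 L3495 q419, e3 q420 L3507 q387, e3 q421 L3511 q331, e3 q422 (flp_b L4488) q537, e3 q423 L3529 q423, e3 q424 L3537 q424, e3 q425 L3546 q425, e3 q426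 L3557 q426, e3 q427 L3567 q427, e3 q428 L3577 q428, e3 q429 L3586 q429, e3 q430 L3595 q430, e3 q431 L3605 q431, e3 q432 L3614 q432, e3 q433 L3625 q433, e3 q434 L3632 q352, e3 q435 L3642 q353, e3 q436 L3651 q354, e3 q437 L3660 q355, e3 q438 L3670 q356, e3 q439 L3680 q357, e3 q440 L4683 q558, e3 q441 L3697 q359, e3 q442 L4708 q561, e3 q443 L3715 q361, e3 q444 (flp_b L3720) q348, e3 q445 (flp_b L4744) q565, e3 q446 L3739 q364, e3 q447 L3747 q447, trivial⟩ (by decide +kernel)

theorem ce_b_7 : ∀ r, r < 64 → sm gb (Qf (448 + r)) = Qf (tab Gen.b (448 + r)) :=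
  edges_tab (sm gb) Qf (tab Gen.b) 448 [(448, 448), (449, 365), (450, 450), (451, 550), (452, 551), (453, 552), (454, 553), (455, 579), (456, 555), (457, 582), (458, 557), (459, 358), (460, 586), (461, 560), (462, 360), (463, 591), (464, 563), (465, 521), (466, 363), (467, 596), (468, 568), (469, 525), (470, 367), (471, 599), (472, 472), (473, 473), (474, 474), (475, 475), (476, 604), (477, 477), (478, 607), (479, 383), (480, 374), (481, 611), (482, 386), (483, 483), (484, 377), (485, 616), (486, 617), (487, 390), (488, 488), (489, 489), (490, 490), (491, 382), (492, 623), (493, 609), (494, 531), (495, 385), (496, 628), (497, 629), (498, 614), (499, 536), (500, 389), (501, 633), (502, 502), (503, 394), (504, 635), (505, 505), (506, 637), (507, 507), (508, 508), (509, 509), (510, 510), (511, 645)]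
    ⟨e3 q448 L3755 q448, e3 q449 L3764 q365, e3 q450 L3777 q450, e3 q451 (flp_b L4610) q550, e3 q452 (flp_b L4621) q551, e3 q453 (flp_b L4632) q552, e3 q454 (flp_b L4640) q553, e3 q455 L4850 q579, e3 q456 (flp_b L4659) q555, e3 q457 L4871 q582, e3 q458 (flp_b L4675) q557, e3 q459 (flp_b L3837) q358, e3 q460 (flp_b L4903) q586, e3 q461 (flp_b L4703) q560, e3 q462 (flp_b L3857) q360, e3 q463 (flp_b L4939) q591, e3 q464 (flp_b L4727) q563, e3 q465 (flp_b L4355) q521, e3 q466 L3886 q363, e3 q467 (flp_b L4974) q596, e3 q468 (flp_b L4769) q568, e3 q469 (flp_b L4391) q525, e3 q470 L3915 q367, e3 q471 (flp_b L4997) q599, e3 q472 L3931 q472, e3 q473 L3940 q473, e3 q474 L3948 q474, e3 q475 L3955 q475, e3 q476 L5049 q604, e3 q477 L3969 q477, e3 q478 L5069 q607, e3 q479 L3982 q383, e3 q480 (flp_b L3988) q374, e3 q481 (flp_b L5105) q611, e3 q482 L4005 q386, e3 q483 L4018 q483, e3 q484 L4021 q377, e3 q485 (flp_b L5142) q616, e3 q486 (flp_b L5149) q617, e3 q487 L4043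 q390, e3 q488 L4052 q488, e3 q489 L4059 q489, e3 q490 L4065 q490, e3 q491 (flp_b L4072) q382, e3 q492 (flp_b L5214) q623, e3 q493 (flp_b L5088) q609, e3 q494 (flp_b L4443) q531, e3 q495 L4101 q385, e3 q496 (flp_b L5248) q628, e3 q497 (flp_b L5254) q629, e3 q498 (flp_b L5126) q614, e3 q499 (flp_b L4481) q536, e3 q500 L4131 q389, e3 q501 (flp_b L5281) q633, e3 q502 L4153 q502, e3 q503 (flp_b L4176) q394, e3 q504 (flp_b L5333) q635, e3 q505 L4205 q505, e3 q506 L5349 q637, e3 q507 L4219 q507, e3 q508 L4229 q508, e3 q509 L4241 q509, e3 q510 L4249 q510, e3 q511 L5423 q645, trivial⟩ (by decide +kernel)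

theorem ce_b_8 : ∀ r, r < 64 → sm gb (Qf (512 + r)) = Qf (tab Gen.b (512 + r)) :=
  edges_tab (sm gb) Qf (tab Gen.b) 512 [(512, 512), (513, 648), (514, 514), (515, 404), (516, 652), (517, 517), (518, 406), (519, 657), (520, 520), (521, 465), (522, 409), (523, 662), (524, 524), (525, 469), (526, 413), (527, 665), (528, 415), (529, 668), (530, 530), (531, 494), (532, 418), (533, 670), (534, 669), (535, 535), (536, 499), (537, 422), (538, 675), (539, 539), (540, 540), (541, 541), (542, 542), (543, 543), (544, 544), (545, 545), (546, 546), (547, 547), (548, 686), (549, 549), (550, 451), (551, 452), (552, 453), (553, 454), (554, 695), (555, 456), (556, 698), (557, 458), (558, 440), (559, 702), (560, 461), (561, 442), (562, 707), (563, 464), (564, 564), (565, 445), (566, 712), (567, 713), (568, 468), (569, 569), (570, 570), (571, 571), (572, 572), (573, 689), (574, 690), (575, 725)]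
    ⟨e3 q512 L4270 q512, e3 q513 L5450 q648, e3 q514 L4288 q514, e3 q515 (flp_b L4295) q404, e3 q516 (flp_b L5491) q652, e3 q517 L4317 q517, e3 q518 (flp_b L4321) q406, e3 q519 (flp_b L5538) q657, e3 q520 L4342 q520, e3 q521 L4355 q465, e3 q522 L4359 q409, e3 q523 (flp_b L5584) q662, e3 q524 L4378 q524, e3 q525 L4391 q469, e3 q526 L4395 q413, e3 q527 (flp_b L5611) q665, e3 q528 (flp_b L4409) q415, e3 q529 (flp_b L5636) q668, e3 q530 L4430 q530, e3 q531 L4443 q494, e3 q532 L4447 q418, e3 q533 (flp_b L5779) q670, e3 q534 (flp_b L5765) q669, e3 q535 L4472 q535, e3 q536 L4481 q499, e3 q537 L4488 q422, e3 q538 (flp_b L5837) q675, e3 q539 L4506 q539, e3 q540 L4516 q540, e3 q541 L4527 q541, e3 q542 L4537 q542, e3 q543 L4548 q543, e3 q544 L4559 q544, e3 q545 L4567 q545, e3 q546 L4578 q546, e3 q547 L4586 q547, e3 q548 L5935 q686, e3 q549 L4602 q549, e3 q550 L4610 q451, e3 q551 L4621 q452, e3 q552 L4632 q453, e3 q553 L4640 q454, e3 q554 L6009 q695, e3 q555 L4659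 q456, e3 q556 L6035 q698, e3 q557 L4675 q458, e3 q558 (flp_b L4683) q440, e3 q559 (flp_b L6074) q702, e3 q560 L4703 q461, e3 q561 (flp_b L4708) q442, e3 q562 (flp_b L6117) q707, e3 q563 L4727 q464, e3 q564 L4741 q564, e3 q565 L4744 q445, e3 q566 (flp_b L6160) q712, e3 q567 (flp_b L6169) q713, e3 q568 L4769 q468, e3 q569 L4779 q569, e3 q570 L4786 q570, e3 q571 L4794 q571, e3 q572 L4804 q572, e3 q573 (flp_b L5960) q689, e3 q574 (flp_b L5970) q690, e3 q575 L6260 q725, trivial⟩ (by decide +kernel)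

theorem ce_b_9 : ∀ r, r < 64 → sm gb (Qf (576 + r)) = Qf (tab Gen.b (576 + r)) :=
  edges_tab (sm gb) Qf (tab Gen.b) 576 [(576, 692), (577, 728), (578, 694), (579, 455), (580, 732), (581, 697), (582, 457), (583, 737), (584, 700), (585, 651), (586, 460), (587, 742), (588, 743), (589, 705), (590, 656), (591, 463), (592, 747), (593, 748), (594, 710), (595, 661), (596, 467), (597, 753), (598, 664), (599, 471), (600, 756), (601, 601), (602, 759), (603, 603), (604, 476), (605, 762), (606, 606), (607, 478), (608, 766), (609, 493), (610, 610), (611, 481), (612, 771), (613, 772), (614, 498), (615, 615), (616, 485), (617, 486), (618, 778), (619, 779), (620, 780), (621, 621), (622, 667), (623, 492), (624, 783), (625, 784), (626, 769), (627, 672), (628, 496), (629, 497), (630, 782), (631, 787), (632, 674), (633, 501), (634, 634), (635, 504), (636, 791), (637, 506), (638, 792), (639, 639)]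
    ⟨e3 q576 (flp_b L5985) q692, e3 q577 L6278 q728, e3 q578 (flp_b L6003) q694, e3 q579 (flp_b L4850) q455, e3 q580 (flp_b L6312) q732, e3 q581 (flp_b L6029) q697, e3 q582 (flp_b L4871) q457, e3 q583 (flp_b L6346) q737, e3 q584 (flp_b L6057) q700, e3 q585 (flp_b L5487) q651, e3 q586 L4903 q460, e3 q587 (flp_b L6386) q742, e3 q588 (flp_b L6394) q743, e3 q589 (flp_b L6098) q705, e3 q590 (flp_b L5534) q656, e3 q591 L4939 q463, e3 q592 (flp_b L6420) q747, e3 q593 (flp_b L6428) q748, e3 q594 (flp_b L6141) q710, e3 q595 (flp_b L5575) q661, e3 q596 L4974 q467, e3 q597 (flp_b L6462) q753, e3 q598 (flp_b L5603) q664, e3 q599 L4997 q471, e3 q600 (flp_b L6484) q756, e3 q601 L5029 q601, e3 q602 L6506 q759, e3 q603 L5045 q603, e3 q604 (flp_b L5049) q476, e3 q605 (flp_b L6535) q762, e3 q606 L5065 q606, e3 q607 (flp_b L5069) q478, e3 q608 (flp_b L6565) q766, e3 q609 L5088 q493, e3 q610 L5102 q610, e3 q611 L5105 q481, e3 q612 (flp_b L6608) q771, e3 q613 (flp_b L6612)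 q772, e3 q614 L5126 q498, e3 q615 L5136 q615, e3 q616 L5142 q485, e3 q617 L5149 q486, e3 q618 (flp_b L6658) q778, e3 q619 (flp_b L6666) q779, e3 q620 (flp_b L6672) q780, e3 q621 L5187 q621, e3 q622 (flp_b L5632) q667, e3 q623 L5214 q492, e3 q624 (flp_b L6703) q783, e3 q625 (flp_b L6716) q784, e3 q626 (flp_b L6590) q769, e3 q627 (flp_b L5803) q672, e3 q628 L5248 q496, e3 q629 L5254 q497, e3 q630 (flp_b L6690) q782, e3 q631 (flp_b L6739) q787, e3 q632 (flp_b L5827) q674, e3 q633 L5281 q501, e3 q634 L5330 q634, e3 q635 L5333 q504, e3 q636 (flp_b L6770) q791, e3 q637 (flp_b L5349) q506, e3 q638 (flp_b L6978) q792, e3 q639 L5372 q639, trivial⟩ (by decide +kernel)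

theorem ce_b_10 : ∀ r, r < 64 → sm gb (Qf (640 + r)) = Qf (tab Gen.b (640 + r)) :=
  edges_tab (sm gb) Qf (tab Gen.b) 640 [(640, 640), (641, 796), (642, 642), (643, 799), (644, 644), (645, 511), (646, 803), (647, 647), (648, 513), (649, 808), (650, 650), (651, 585), (652, 516), (653, 813), (654, 814), (655, 655), (656, 590), (657, 519), (658, 818), (659, 819), (660, 660), (661, 595), (662, 523), (663, 824), (664, 598), (665, 527), (666, 794), (667, 622), (668, 529), (669, 534), (670, 533), (671, 671), (672, 627), (673, 809), (674, 632), (675, 538), (676, 676), (677, 677), (678, 678), (679, 679), (680, 680), (681, 834), (682, 682), (683, 683), (684, 838), (685, 685), (686, 548), (687, 842), (688, 688), (689, 573), (690, 574), (691, 849), (692, 576), (693, 852), (694, 578), (695, 554), (696, 856), (697, 581), (698, 556), (699, 861), (700, 584), (701, 701), (702, 559), (703, 866)]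
    ⟨e3 q640 L5381 q640, e3 q641 L6833 q796, e3 q642 L5398 q642, e3 q643 L6857 q799, e3 q644 L5418 q644, e3 q645 (flp_b L5423) q511, e3 q646 (flp_b L6900) q803, e3 q647 L5445 q647, e3 q648 (flp_b L5450) q513, e3 q649 (flp_b L6949) q808, e3 q650 L5474 q650, e3 q651 L5487 q585, e3 q652 L5491 q516, e3 q653 (flp_b L7048) q813, e3 q654 (flp_b L7060) q814, e3 q655 L5519 q655, e3 q656 L5534 q590, e3 q657 L5538 q519, e3 q658 (flp_b L7094) q818, e3 q659 (flp_b L7102) q819, e3 q660 L5565 q660, e3 q661 L5575 q595, e3 q662 L5584 q523, e3 q663 (flp_b L7146) q824, e3 q664 L5603 q598, e3 q665 L5611 q527, e3 q666 (flp_b L6989) q794, e3 q667 L5632 q622, e3 q668 L5636 q529, e3 q669 L5765 q534, e3 q670 L5779 q533, e3 q671 L5793 q671, e3 q672 L5803 q627, e3 q673 (flp_b L6999) q809, e3 q674 L5827 q632, e3 q675 L5837 q538, e3 q676 L5846 q676, e3 q677 L5855 q677, e3 q678 L5867 q678, e3 q679 L5873 q679, e3 q680 L5883 q680, e3 q681 L7237 q834, e3 q682 L5901 q682, e3 q683 L5907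 q683, e3 q684 L7271 q838, e3 q685 L5927 q685, e3 q686 (flp_b L5935) q548, e3 q687 (flp_b L7313) q842, e3 q688 L5954 q688, e3 q689 L5960 q573, e3 q690 L5970 q574, e3 q691 L7370 q849, e3 q692 L5985 q576, e3 q693 L7393 q852, e3 q694 L6003 q578, e3 q695 (flp_b L6009) q554, e3 q696 (flp_b L7434) q856, e3 q697 L6029 q581, e3 q698 (flp_b L6035) q556, e3 q699 (flp_b L7476) q861, e3 q700 L6057 q584, e3 q701 L6071 q701, e3 q702 L6074 q559, e3 q703 (flp_b L7525) q866, trivial⟩ (by decide +kernel)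

theorem ce_b_11 : ∀ r, r < 64 → sm gb (Qf (704 + r)) = Qf (tab Gen.b (704 + r)) :=
  edges_tab (sm gb) Qf (tab Gen.b) 704 [(704, 867), (705, 589), (706, 706), (707, 562), (708, 872), (709, 873), (710, 594), (711, 711), (712, 566), (713, 567), (714, 879), (715, 880), (716, 881), (717, 717), (718, 718), (719, 719), (720, 720), (721, 721), (722, 846), (723, 889), (724, 848), (725, 575), (726, 893), (727, 851), (728, 577), (729, 898), (730, 854), (731, 802), (732, 580), (733, 903), (734, 904), (735, 859), (736, 807), (737, 583), (738, 909), (739, 910), (740, 864), (741, 812), (742, 587), (743, 588), (744, 916), (745, 917), (746, 817), (747, 592), (748, 593), (749, 923), (750, 924), (751, 925), (752, 823), (753, 597), (754, 825), (755, 755), (756, 600), (757, 892), (758, 932), (759, 602), (760, 934), (761, 761), (762, 605), (763, 937), (764, 938), (765, 765), (766, 608), (767, 942)]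
    ⟨e3 q704 (flp_b L7531) q867, e3 q705 L6098 q589, e3 q706 L6114 q706, e3 q707 L6117 q562, e3 q708 (flp_b L7571) q872, e3 q709 (flp_b L7578) q873, e3 q710 L6141 q594, e3 q711 L6152 q711, e3 q712 L6160 q566, e3 q713 L6169 q567, e3 q714 (flp_b L7627) q879, e3 q715 (flp_b L7635) q880, e3 q716 (flp_b L7643) q881, e3 q717 L6201 q717, e3 q718 L6208 q718, e3 q719 L6217 q719, e3 q720 L6224 q720, e3 q721 L6232 q721, e3 q722 (flp_b L7346) q846, e3 q723 L7705 q889, e3 q724 (flp_b L7363) q848, e3 q725 (flp_b L6260) q575, e3 q726 (flp_b L7742) q893, e3 q727 (flp_b L7387) q851, e3 q728 (flp_b L6278) q577, e3 q729 (flp_b L7776) q898, e3 q730 (flp_b L7415) q854, e3 q731 (flp_b L6896) q802, e3 q732 L6312 q580, e3 q733 (flp_b L7814) q903, e3 q734 (flp_b L7820) q904, e3 q735 (flp_b L7457) q859, e3 q736 (flp_b L6941) q807, e3 q737 L6346 q583, e3 q738 (flp_b L7862) q909, e3 q739 (flp_b L7873) q910, e3 q740 (flp_b L7504) q864, e3 q741 (flp_b L7033) q812, e3 q742 L6386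 q587, e3 q743 L6394 q588, e3 q744 (flp_b L7921) q916, e3 q745 (flp_b L7928) q917, e3 q746 (flp_b L7087) q817, e3 q747 L6420 q592, e3 q748 L6428 q593, e3 q749 (flp_b L7971) q923, e3 q750 (flp_b L7979) q924, e3 q751 (flp_b L7986) q925, e3 q752 (flp_b L7139) q823, e3 q753 L6462 q597, e3 q754 (flp_b L7157) q825, e3 q755 L6480 q755, e3 q756 L6484 q600, e3 q757 (flp_b L7738) q892, e3 q758 L8036 q932, e3 q759 (flp_b L6506) q602, e3 q760 (flp_b L8057) q934, e3 q761 L6532 q761, e3 q762 L6535 q605, e3 q763 (flp_b L8087) q937, e3 q764 (flp_b L8093) q938, e3 q765 L6562 q765, e3 q766 L6565 q608, e3 q767 (flp_b L8129) q942, trivial⟩ (by decide +kernel)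

theorem ce_b_12 : ∀ r, r < 64 → sm gb (Qf (768 + r)) = Qf (tab Gen.b (768 + r)) :=
  edges_tab (sm gb) Qf (tab Gen.b) 768 [(768, 943), (769, 626), (770, 770), (771, 612), (772, 613), (773, 950), (774, 951), (775, 952), (776, 776), (777, 777), (778, 618), (779, 619), (780, 620), (781, 957), (782, 630), (783, 624), (784, 625), (785, 913), (786, 786), (787, 631), (788, 908), (789, 826), (790, 790), (791, 636), (792, 638), (793, 793), (794, 666), (795, 795), (796, 641), (797, 961), (798, 798), (799, 643), (800, 966), (801, 801), (802, 731), (803, 646), (804, 971), (805, 972), (806, 806), (807, 736), (808, 649), (809, 673), (810, 976), (811, 811), (812, 741), (813, 653), (814, 654), (815, 978), (816, 977), (817, 746), (818, 658), (819, 659), (820, 983), (821, 959), (822, 984), (823, 752), (824, 663), (825, 754), (826, 789), (827, 827), (828, 828), (829, 992), (830, 830), (831, 831)]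
    ⟨e3 q768 (flp_b L8137) q943, e3 q769 L6590 q626, e3 q770 L6601 q770, e3 q771 L6608 q612, e3 q772 L6612 q613, e3 q773 (flp_b L8193) q950, e3 q774 (flp_b L8199) q951, e3 q775 (flp_b L8205) q952, e3 q776 L6643 q776, e3 q777 L6651 q777, e3 q778 L6658 q618, e3 q779 L6666 q619, e3 q780 L6672 q620, e3 q781 (flp_b L8245) q957, e3 q782 L6690 q630, e3 q783 L6703 q624, e3 q784 L6716 q625, e3 q785 (flp_b L7898) q913, e3 q786 L6736 q786, e3 q787 L6739 q631, e3 q788 (flp_b L7849) q908, e3 q789 (flp_b L7170) q826, e3 q790 L6761 q790, e3 q791 L6770 q636, e3 q792 L6978 q638, e3 q793 L6808 q793, e3 q794 L6989 q666, e3 q795 L6827 q795, e3 q796 (flp_b L6833) q641, e3 q797 (flp_b L8290) q961, e3 q798 L6852 q798, e3 q799 (flp_b L6857) q643, e3 q800 (flp_b L8337) q966, e3 q801 L6881 q801, e3 q802 L6896 q731, e3 q803 L6900 q646, e3 q804 (flp_b L8386) q971, e3 q805 (flp_b L8392) q972, e3 q806 L6926 q806, e3 q807 L6941 q736, e3 q808 L6949 q649, e3 q809 L6999 q673, e3 q810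 (flp_b L8428) q976, e3 q811 L7022 q811, e3 q812 L7033 q741, e3 q813 L7048 q653, e3 q814 L7060 q654, e3 q815 (flp_b L8457) q978, e3 q816 (flp_b L8442) q977, e3 q817 L7087 q746, e3 q818 L7094 q658, e3 q819 L7102 q659, e3 q820 (flp_b L8516) q983, e3 q821 (flp_b L8267) q959, e3 q822 (flp_b L8524) q984, e3 q823 L7139 q752, e3 q824 L7146 q663, e3 q825 L7157 q754, e3 q826 L7170 q789, e3 q827 L7181 q827, e3 q828 L7190 q828, e3 q829 L8600 q992, e3 q830 L7206 q830, e3 q831 L7213 q831, trivial⟩ (by decide +kernel)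

theorem ce_b_13 : ∀ r, r < 64 → sm gb (Qf (832 + r)) = Qf (tab Gen.b (832 + r)) :=
  edges_tab (sm gb) Qf (tab Gen.b) 832 [(832, 997), (833, 833), (834, 681), (835, 1001), (836, 836), (837, 1005), (838, 684), (839, 1007), (840, 840), (841, 841), (842, 687), (843, 1011), (844, 1012), (845, 845), (846, 722), (847, 1018), (848, 724), (849, 691), (850, 1022), (851, 727), (852, 693), (853, 1027), (854, 730), (855, 855), (856, 696), (857, 1032), (858, 1033), (859, 735), (860, 860), (861, 699), (862, 1038), (863, 1039), (864, 740), (865, 865), (866, 703), (867, 704), (868, 1046), (869, 1047), (870, 1048), (871, 871), (872, 708), (873, 709), (874, 1056), (875, 1057), (876, 1058), (877, 877), (878, 878), (879, 714), (880, 715), (881, 716), (882, 1066), (883, 1067), (884, 1068), (885, 1069), (886, 886), (887, 887), (888, 1017), (889, 723), (890, 1074), (891, 1020), (892, 757), (893, 726), (894, 1079), (895, 1080)]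
    ⟨e3 q832 L8641 q997, e3 q833 L7233 q833, e3 q834 (flp_b L7237) q681, e3 q835 (flp_b L8683) q1001, e3 q836 L7256 q836, e3 q837 L8712 q1005, e3 q838 (flp_b L7271) q684, e3 q839 (flp_b L8735) q1007, e3 q840 L7294 q840, e3 q841 L7310 q841, e3 q842 L7313 q687, e3 q843 (flp_b L8778) q1011, e3 q844 (flp_b L8786) q1012, e3 q845 L7336 q845, e3 q846 L7346 q722, e3 q847 L8836 q1018, e3 q848 L7363 q724, e3 q849 (flp_b L7370) q691, e3 q850 (flp_b L8878) q1022, e3 q851 L7387 q727, e3 q852 (flp_b L7393) q693, e3 q853 (flp_b L8920) q1027, e3 q854 L7415 q730, e3 q855 L7431 q855, e3 q856 L7434 q696, e3 q857 (flp_b L8967) q1032, e3 q858 (flp_b L8972) q1033, e3 q859 L7457 q735, e3 q860 L7473 q860, e3 q861 L7476 q699, e3 q862 (flp_b L9015) q1038, e3 q863 (flp_b L9023) q1039, e3 q864 L7504 q740, e3 q865 L7516 q865, e3 q866 L7525 q703, e3 q867 L7531 q704, e3 q868 (flp_b L9082) q1046, e3 q869 (flp_b L9088) q1047, e3 q870 (flp_b L9096) q1048, e3 q871 L7564 q871, e3 q872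 L7571 q708, e3 q873 L7578 q709, e3 q874 (flp_b L9160) q1056, e3 q875 (flp_b L9167) q1057, e3 q876 (flp_b L9173) q1058, e3 q877 L7611 q877, e3 q878 L7621 q878, e3 q879 L7627 q714, e3 q880 L7635 q715, e3 q881 L7643 q716, e3 q882 (flp_b L9240) q1066, e3 q883 (flp_b L9247) q1067, e3 q884 (flp_b L9257) q1068, e3 q885 (flp_b L9264) q1069, e3 q886 L7686 q886, e3 q887 L7694 q887, e3 q888 (flp_b L8829) q1017, e3 q889 (flp_b L7705) q723, e3 q890 (flp_b L9305) q1074, e3 q891 (flp_b L8859) q1020, e3 q892 L7738 q757, e3 q893 L7742 q726, e3 q894 (flp_b L9347) q1079, e3 q895 (flp_b L9353) q1080, trivial⟩ (by decide +kernel)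

theorem ce_b_14 : ∀ r, r < 64 → sm gb (Qf (896 + r)) = Qf (tab Gen.b (896 + r)) :=
  edges_tab (sm gb) Qf (tab Gen.b) 896 [(896, 1025), (897, 965), (898, 729), (899, 1085), (900, 1086), (901, 1030), (902, 970), (903, 733), (904, 734), (905, 1093), (906, 1094), (907, 1095), (908, 788), (909, 738), (910, 739), (911, 1102), (912, 1103), (913, 785), (914, 979), (915, 915), (916, 744), (917, 745), (918, 1107), (919, 1100), (920, 981), (921, 982), (922, 922), (923, 749), (924, 750), (925, 751), (926, 1114), (927, 1115), (928, 1078), (929, 987), (930, 1016), (931, 931), (932, 758), (933, 933), (934, 760), (935, 1121), (936, 936), (937, 763), (938, 764), (939, 1125), (940, 1126), (941, 941), (942, 767), (943, 768), (944, 1131), (945, 1132), (946, 1105), (947, 947), (948, 948), (949, 949), (950, 773), (951, 774), (952, 775), (953, 1136), (954, 954), (955, 955), (956, 956), (957, 781), (958, 958), (959, 821)]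
    ⟨e3 q896 (flp_b L8900) q1025, e3 q897 (flp_b L8333) q965, e3 q898 L7776 q729, e3 q899 (flp_b L9387) q1085, e3 q900 (flp_b L9395) q1086, e3 q901 (flp_b L8947) q1030, e3 q902 (flp_b L8378) q970, e3 q903 L7814 q733, e3 q904 L7820 q734, e3 q905 (flp_b L9443) q1093, e3 q906 (flp_b L9449) q1094, e3 q907 (flp_b L9457) q1095, e3 q908 L7849 q788, e3 q909 L7862 q738, e3 q910 L7873 q739, e3 q911 (flp_b L9515) q1102, e3 q912 (flp_b L9529) q1103, e3 q913 L7898 q785, e3 q914 (flp_b L8472) q979, e3 q915 L7918 q915, e3 q916 L7921 q744, e3 q917 L7928 q745, e3 q918 (flp_b L9564) q1107, e3 q919 (flp_b L9490) q1100, e3 q920 (flp_b L8494) q981, e3 q921 (flp_b L8508) q982, e3 q922 L7968 q922, e3 q923 L7971 q749, e3 q924 L7979 q750, e3 q925 L7986 q751, e3 q926 (flp_b L9615) q1114, e3 q927 (flp_b L9624) q1115, e3 q928 (flp_b L9339) q1078, e3 q929 (flp_b L8553) q987, e3 q930 (flp_b L8823) q1016, e3 q931 L8031 q931, e3 q932 (flp_b L8036) q758, e3 q933 L8054 q933, e3 q934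 L8057 q760, e3 q935 (flp_b L9675) q1121, e3 q936 L8082 q936, e3 q937 L8087 q763, e3 q938 L8093 q764, e3 q939 (flp_b L9710) q1125, e3 q940 (flp_b L9718) q1126, e3 q941 L8119 q941, e3 q942 L8129 q767, e3 q943 L8137 q768, e3 q944 (flp_b L9771) q1131, e3 q945 (flp_b L9781) q1132, e3 q946 (flp_b L9554) q1105, e3 q947 L8173 q947, e3 q948 L8178 q948, e3 q949 L8188 q949, e3 q950 L8193 q773, e3 q951 L8199 q774, e3 q952 L8205 q775, e3 q953 (flp_b L9809) q1136, e3 q954 L8222 q954, e3 q955 L8231 q955, e3 q956 L8238 q956, e3 q957 L8245 q781, e3 q958 L8255 q958, e3 q959 L8267 q821, trivial⟩ (by decide +kernel)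

theorem ce_b_15 : ∀ r, r < 64 → sm gb (Qf (960 + r)) = Qf (tab Gen.b (960 + r)) :=
  edges_tab (sm gb) Qf (tab Gen.b) 960 [(960, 960), (961, 797), (962, 1142), (963, 1143), (964, 964), (965, 897), (966, 800), (967, 1148), (968, 1149), (969, 969), (970, 902), (971, 804), (972, 805), (973, 1155), (974, 1139), (975, 1156), (976, 810), (977, 816), (978, 815), (979, 914), (980, 1152), (981, 920), (982, 921), (983, 820), (984, 822), (985, 1162), (986, 1140), (987, 929), (988, 1164), (989, 989), (990, 1167), (991, 991), (992, 829), (993, 1171), (994, 994), (995, 1175), (996, 996), (997, 832), (998, 1178), (999, 999), (1000, 1000), (1001, 835), (1002, 1182), (1003, 1183), (1004, 1004), (1005, 837), (1006, 1006), (1007, 839), (1008, 1189), (1009, 1190), (1010, 1010), (1011, 843), (1012, 844), (1013, 1195), (1014, 1196), (1015, 1197), (1016, 930), (1017, 888), (1018, 847), (1019, 1204), (1020, 891), (1021, 1021), (1022, 850), (1023, 1209)]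
    ⟨e3 q960 L8280 q960, e3 q961 L8290 q797, e3 q962 (flp_b L9876) q1142, e3 q963 (flp_b L9886) q1143, e3 q964 L8317 q964, e3 q965 L8333 q897, e3 q966 L8337 q800, e3 q967 (flp_b L9934) q1148, e3 q968 (flp_b L9944) q1149, e3 q969 L8367 q969, e3 q970 L8378 q902, e3 q971 L8386 q804, e3 q972 L8392 q805, e3 q973 (flp_b L10014) q1155, e3 q974 (flp_b L9838) q1139, e3 q975 (flp_b L10022) q1156, e3 q976 L8428 q810, e3 q977 L8442 q816, e3 q978 L8457 q815, e3 q979 L8472 q914, e3 q980 (flp_b L9975) q1152, e3 q981 L8494 q920, e3 q982 L8508 q921, e3 q983 L8516 q820, e3 q984 L8524 q822, e3 q985 (flp_b L10083) q1162, e3 q986 (flp_b L9852) q1140, e3 q987 L8553 q929, e3 q988 L10099 q1164, e3 q989 L8574 q989, e3 q990 L10126 q1167, e3 q991 L8593 q991, e3 q992 (flp_b L8600) q829, e3 q993 (flp_b L10171) q1171, e3 q994 L8616 q994, e3 q995 L10199 q1175, e3 q996 L8633 q996, e3 q997 (flp_b L8641) q832, e3 q998 (flp_b L10233) q1178, e3 q999 L8662 q999, e3 q1000 L8680 q1000, e3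 q1001 L8683 q835, e3 q1002 (flp_b L10270) q1182, e3 q1003 (flp_b L10277) q1183, e3 q1004 L8705 q1004, e3 q1005 (flp_b L8712) q837, e3 q1006 L8732 q1006, e3 q1007 L8735 q839, e3 q1008 (flp_b L10332) q1189, e3 q1009 (flp_b L10344) q1190, e3 q1010 L8771 q1010, e3 q1011 L8778 q843, e3 q1012 L8786 q844, e3 q1013 (flp_b L10391) q1195, e3 q1014 (flp_b L10397) q1196, e3 q1015 (flp_b L10406) q1197, e3 q1016 L8823 q930, e3 q1017 L8829 q888, e3 q1018 (flp_b L8836) q847, e3 q1019 (flp_b L10473) q1204, e3 q1020 L8859 q891, e3 q1021 L8875 q1021, e3 q1022 L8878 q850, e3 q1023 (flp_b L10522) q1209, trivial⟩ (by decide +kernel)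

theorem ce_b_16 : ∀ r, r < 64 → sm gb (Qf (1024 + r)) = Qf (tab Gen.b (1024 + r)) :=
  edges_tab (sm gb) Qf (tab Gen.b) 1024 [(1024, 1210), (1025, 896), (1026, 1026), (1027, 853), (1028, 1215), (1029, 1216), (1030, 901), (1031, 1031), (1032, 857), (1033, 858), (1034, 1223), (1035, 1224), (1036, 1225), (1037, 1037), (1038, 862), (1039, 863), (1040, 1233), (1041, 1234), (1042, 1235), (1043, 1043), (1044, 1044), (1045, 1045), (1046, 868), (1047, 869), (1048, 870), (1049, 1246), (1050, 1247), (1051, 1248), (1052, 1249), (1053, 1053), (1054, 1054), (1055, 1055), (1056, 874), (1057, 875), (1058, 876), (1059, 1258), (1060, 1259), (1061, 1260), (1062, 1261), (1063, 1063), (1064, 1064), (1065, 1065), (1066, 882), (1067, 883), (1068, 884), (1069, 885), (1070, 1270), (1071, 1271), (1072, 1072), (1073, 1203), (1074, 890), (1075, 1275), (1076, 1276), (1077, 1207), (1078, 928), (1079, 894), (1080, 895), (1081, 1282), (1082, 1283), (1083, 1284), (1084, 1147), (1085,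 899), (1086, 900), (1087, 1292)]
    ⟨e3 q1024 (flp_b L10527) q1210, e3 q1025 L8900 q896, e3 q1026 L8917 q1026, e3 q1027 L8920 q853, e3 q1028 (flp_b L10568) q1215, e3 q1029 (flp_b L10575) q1216, e3 q1030 L8947 q901, e3 q1031 L8959 q1031, e3 q1032 L8967 q857, e3 q1033 L8972 q858, e3 q1034 (flp_b L10631) q1223, e3 q1035 (flp_b L10637) q1224, e3 q1036 (flp_b L10644) q1225, e3 q1037 L9005 q1037, e3 q1038 L9015 q862, e3 q1039 L9023 q863, e3 q1040 (flp_b L10713) q1233, e3 q1041 (flp_b L10721) q1234, e3 q1042 (flp_b L10732) q1235, e3 q1043 L9061 q1043, e3 q1044 L9068 q1044, e3 q1045 L9077 q1045, e3 q1046 L9082 q868, e3 q1047 L9088 q869, e3 q1048 L9096 q870, e3 q1049 (flp_b L10833) q1246, e3 q1050 (flp_b L10837) q1247, e3 q1051 (flp_b L10845) q1248, e3 q1052 (flp_b L10853) q1249, e3 q1053 L9136 q1053, e3 q1054 L9144 q1054, e3 q1055 L9155 q1055, e3 q1056 L9160 q874, e3 q1057 L9167 q875, e3 q1058 L9173 q876, e3 q1059 (flp_b L10923) q1258, e3 q1060 (flp_b L10931)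 q1259, e3 q1061 (flp_b L10939) q1260, e3 q1062 (flp_b L10945) q1261, e3 q1063 L9214 q1063, e3 q1064 L9223 q1064, e3 q1065 L9232 q1065, e3 q1066 L9240 q882, e3 q1067 L9247 q883, e3 q1068 L9257 q884, e3 q1069 L9264 q885, e3 q1070 (flp_b L11019) q1270, e3 q1071 (flp_b L11027) q1271, e3 q1072 L9290 q1072, e3 q1073 (flp_b L10462) q1203, e3 q1074 L9305 q890, e3 q1075 (flp_b L11055) q1275, e3 q1076 (flp_b L11067) q1276, e3 q1077 (flp_b L10501) q1207, e3 q1078 L9339 q928, e3 q1079 L9347 q894, e3 q1080 L9353 q895, e3 q1081 (flp_b L11118) q1282, e3 q1082 (flp_b L11124) q1283, e3 q1083 (flp_b L11131) q1284, e3 q1084 (flp_b L9923) q1147, e3 q1085 L9387 q899, e3 q1086 L9395 q900, e3 q1087 (flp_b L11192) q1292, trivial⟩ (by decide +kernel)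

theorem ce_b_17 : ∀ r, r < 64 → sm gb (Qf (1088 + r)) = Qf (tab Gen.b (1088 + r)) :=
  edges_tab (sm gb) Qf (tab Gen.b) 1088 [(1088, 1293), (1089, 1294), (1090, 1153), (1091, 1154), (1092, 1281), (1093, 905), (1094, 906), (1095, 907), (1096, 1304), (1097, 1305), (1098, 1306), (1099, 1279), (1100, 919), (1101, 1101), (1102, 911), (1103, 912), (1104, 1301), (1105, 946), (1106, 1106), (1107, 918), (1108, 1290), (1109, 1202), (1110, 1160), (1111, 1161), (1112, 1112), (1113, 1113), (1114, 926), (1115, 927), (1116, 1317), (1117, 1280), (1118, 1118), (1119, 1119), (1120, 1120), (1121, 935), (1122, 1122), (1123, 1123), (1124, 1124), (1125, 939), (1126, 940), (1127, 1325), (1128, 1322), (1129, 1129), (1130, 1130), (1131, 944), (1132, 945), (1133, 1240), (1134, 1134), (1135, 1135), (1136, 953), (1137, 1137), (1138, 1138), (1139, 974), (1140, 986), (1141, 1141), (1142, 962), (1143, 963), (1144, 1330), (1145, 1331), (1146, 1332), (1147, 1084), (1148, 967), (1149,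 968), (1150, 1337), (1151, 1329)]
    ⟨e3 q1088 (flp_b L11200) q1293, e3 q1089 (flp_b L11209) q1294, e3 q1090 (flp_b L9989) q1153, e3 q1091 (flp_b L10001) q1154, e3 q1092 (flp_b L11114) q1281, e3 q1093 L9443 q905, e3 q1094 L9449 q906, e3 q1095 L9457 q907, e3 q1096 (flp_b L11280) q1304, e3 q1097 (flp_b L11287) q1305, e3 q1098 (flp_b L11294) q1306, e3 q1099 (flp_b L11094) q1279, e3 q1100 L9490 q919, e3 q1101 L9510 q1101, e3 q1102 L9515 q911, e3 q1103 L9529 q912, e3 q1104 (flp_b L11259) q1301, e3 q1105 L9554 q946, e3 q1106 L9558 q1106, e3 q1107 L9564 q918, e3 q1108 (flp_b L11175) q1290, e3 q1109 (flp_b L10451) q1202, e3 q1110 (flp_b L10058) q1160, e3 q1111 (flp_b L10072) q1161, e3 q1112 L9600 q1112, e3 q1113 L9607 q1113, e3 q1114 L9615 q926, e3 q1115 L9624 q927, e3 q1116 (flp_b L11371) q1317, e3 q1117 (flp_b L11104) q1280, e3 q1118 L9645 q1118, e3 q1119 L9660 q1119, e3 q1120 L9665 q1120, e3 q1121 L9675 q935, e3 q1122 L9689 q1122, e3 q1123 L9696 q1123,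 e3 q1124 L9706 q1124, e3 q1125 L9710 q939, e3 q1126 L9718 q940, e3 q1127 (flp_b L11468) q1325, e3 q1128 (flp_b L11429) q1322, e3 q1129 L9749 q1129, e3 q1130 L9762 q1130, e3 q1131 L9771 q944, e3 q1132 L9781 q945, e3 q1133 (flp_b L10785) q1240, e3 q1134 L9798 q1134, e3 q1135 L9803 q1135, e3 q1136 L9809 q953, e3 q1137 L9817 q1137, e3 q1138 L9826 q1138, e3 q1139 L9838 q974, e3 q1140 L9852 q986, e3 q1141 L9865 q1141, e3 q1142 L9876 q962, e3 q1143 L9886 q963, e3 q1144 (flp_b L11537) q1330, e3 q1145 (flp_b L11547) q1331, e3 q1146 (flp_b L11560) q1332, e3 q1147 L9923 q1084, e3 q1148 L9934 q967, e3 q1149 L9944 q968, e3 q1150 (flp_b L11614) q1337, e3 q1151 (flp_b L11528) q1329, trivial⟩ (by decide +kernel)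

theorem ce_b_18 : ∀ r, r < 64 → sm gb (Qf (1152 + r)) = Qf (tab Gen.b (1152 + r)) :=
  edges_tab (sm gb) Qf (tab Gen.b) 1152 [(1152, 980), (1153, 1090), (1154, 1091), (1155, 973), (1156, 975), (1157, 1339), (1158, 1338), (1159, 1327), (1160, 1110), (1161, 1111), (1162, 985), (1163, 1328), (1164, 988), (1165, 1346), (1166, 1166), (1167, 990), (1168, 1350), (1169, 1169), (1170, 1170), (1171, 993), (1172, 1354), (1173, 1355), (1174, 1174), (1175, 995), (1176, 1360), (1177, 1177), (1178, 998), (1179, 1363), (1180, 1364), (1181, 1181), (1182, 1002), (1183, 1003), (1184, 1370), (1185, 1371), (1186, 1372), (1187, 1187), (1188, 1188), (1189, 1008), (1190, 1009), (1191, 1380), (1192, 1192), (1193, 1193), (1194, 1194), (1195, 1013), (1196, 1014), (1197, 1015), (1198, 1388), (1199, 1389), (1200, 1390), (1201, 1391), (1202, 1109), (1203, 1073), (1204, 1019), (1205, 1399), (1206, 1400), (1207, 1077), (1208, 1208), (1209, 1023), (1210, 1024), (1211, 1407), (1212,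 1408), (1213, 1409), (1214, 1214), (1215, 1028)]
    ⟨e3 q1152 L9975 q980, e3 q1153 L9989 q1090, e3 q1154 L10001 q1091, e3 q1155 L10014 q973, e3 q1156 L10022 q975, e3 q1157 (flp_b L11641) q1339, e3 q1158 (flp_b L11628) q1338, e3 q1159 (flp_b L11496) q1327, e3 q1160 L10058 q1110, e3 q1161 L10072 q1111, e3 q1162 L10083 q985, e3 q1163 (flp_b L11510) q1328, e3 q1164 (flp_b L10099) q988, e3 q1165 (flp_b L11721) q1346, e3 q1166 L10120 q1166, e3 q1167 (flp_b L10126) q990, e3 q1168 (flp_b L11758) q1350, e3 q1169 L10150 q1169, e3 q1170 L10168 q1170, e3 q1171 L10171 q993, e3 q1172 (flp_b L11797) q1354, e3 q1173 (flp_b L11804) q1355, e3 q1174 L10192 q1174, e3 q1175 (flp_b L10199) q995, e3 q1176 (flp_b L11845) q1360, e3 q1177 L10230 q1177, e3 q1178 L10233 q998, e3 q1179 (flp_b L11874) q1363, e3 q1180 (flp_b L11883) q1364, e3 q1181 L10264 q1181, e3 q1182 L10270 q1002, e3 q1183 L10277 q1003, e3 q1184 (flp_b L11934) q1370, e3 q1185 (flp_b L11940) q1371, e3 q1186 (flp_b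 L11948) q1372, e3 q1187 L10317 q1187, e3 q1188 L10322 q1188, e3 q1189 L10332 q1008, e3 q1190 L10344 q1009, e3 q1191 (flp_b L12028) q1380, e3 q1192 L10369 q1192, e3 q1193 L10378 q1193, e3 q1194 L10387 q1194, e3 q1195 L10391 q1013, e3 q1196 L10397 q1014, e3 q1197 L10406 q1015, e3 q1198 (flp_b L12120) q1388, e3 q1199 (flp_b L12126) q1389, e3 q1200 (flp_b L12136) q1390, e3 q1201 (flp_b L12145) q1391, e3 q1202 L10451 q1109, e3 q1203 L10462 q1073, e3 q1204 L10473 q1019, e3 q1205 (flp_b L12229) q1399, e3 q1206 (flp_b L12238) q1400, e3 q1207 L10501 q1077, e3 q1208 L10513 q1208, e3 q1209 L10522 q1023, e3 q1210 L10527 q1024, e3 q1211 (flp_b L12299) q1407, e3 q1212 (flp_b L12305) q1408, e3 q1213 (flp_b L12311) q1409, e3 q1214 L10559 q1214, e3 q1215 L10568 q1028, trivial⟩ (by decide +kernel)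

theorem ce_b_19 : ∀ r, r < 64 → sm gb (Qf (1216 + r)) = Qf (tab Gen.b (1216 + r)) :=
  edges_tab (sm gb) Qf (tab Gen.b) 1216 [(1216, 1029), (1217, 1417), (1218, 1418), (1219, 1419), (1220, 1220), (1221, 1221), (1222, 1406), (1223, 1034), (1224, 1035), (1225, 1036), (1226, 1430), (1227, 1431), (1228, 1432), (1229, 1433), (1230, 1230), (1231, 1231), (1232, 1232), (1233, 1040), (1234, 1041), (1235, 1042), (1236, 1440), (1237, 1441), (1238, 1442), (1239, 1382), (1240, 1133), (1241, 1241), (1242, 1242), (1243, 1243), (1244, 1244), (1245, 1245), (1246, 1049), (1247, 1050), (1248, 1051), (1249, 1052), (1250, 1449), (1251, 1450), (1252, 1396), (1253, 1253), (1254, 1254), (1255, 1255), (1256, 1256), (1257, 1257), (1258, 1059), (1259, 1060), (1260, 1061), (1261, 1062), (1262, 1463), (1263, 1464), (1264, 1465), (1265, 1466), (1266, 1266), (1267, 1267), (1268, 1268), (1269, 1269), (1270, 1070), (1271, 1071), (1272, 1473), (1273, 1475), (1274, 1398), (1275, 1075),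 (1276, 1076), (1277, 1477), (1278, 1478), (1279, 1099)]
    ⟨e3 q1216 L10575 q1029, e3 q1217 (flp_b L12378) q1417, e3 q1218 (flp_b L12386) q1418, e3 q1219 (flp_b L12394) q1419, e3 q1220 L10611 q1220, e3 q1221 L10617 q1221, e3 q1222 (flp_b L12293) q1406, e3 q1223 L10631 q1034, e3 q1224 L10637 q1035, e3 q1225 L10644 q1036, e3 q1226 (flp_b L12481) q1430, e3 q1227 (flp_b L12487) q1431, e3 q1228 (flp_b L12494) q1432, e3 q1229 (flp_b L12502) q1433, e3 q1230 L10681 q1230, e3 q1231 L10692 q1231, e3 q1232 L10708 q1232, e3 q1233 L10713 q1040, e3 q1234 L10721 q1041, e3 q1235 L10732 q1042, e3 q1236 (flp_b L12562) q1440, e3 q1237 (flp_b L12570) q1441, e3 q1238 (flp_b L12582) q1442, e3 q1239 L12061 q1382, e3 q1240 L10785 q1133, e3 q1241 L10791 q1241, e3 q1242 L10798 q1242, e3 q1243 L10807 q1243, e3 q1244 L10818 q1244, e3 q1245 L10825 q1245, e3 q1246 L10833 q1049, e3 q1247 L10837 q1050, e3 q1248 L10845 q1051, e3 q1249 L10853 q1052, e3 q1250 (flp_b L12632) q1449, e3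 q1251 (flp_b L12638) q1450, e3 q1252 (flp_b L12197) q1396, e3 q1253 L10884 q1253, e3 q1254 L10892 q1254, e3 q1255 L10899 q1255, e3 q1256 L10908 q1256, e3 q1257 L10916 q1257, e3 q1258 L10923 q1059, e3 q1259 L10931 q1060, e3 q1260 L10939 q1061, e3 q1261 L10945 q1062, e3 q1262 (flp_b L12737) q1463, e3 q1263 (flp_b L12746) q1464, e3 q1264 (flp_b L12753) q1465, e3 q1265 (flp_b L12760) q1466, e3 q1266 L10984 q1266, e3 q1267 L10992 q1267, e3 q1268 L11003 q1268, e3 q1269 L11011 q1269, e3 q1270 L11019 q1070, e3 q1271 L11027 q1071, e3 q1272 (flp_b L12815) q1473, e3 q1273 L12824 q1475, e3 q1274 (flp_b L12217) q1398, e3 q1275 L11055 q1075, e3 q1276 L11067 q1076, e3 q1277 (flp_b L12846) q1477, e3 q1278 (flp_b L12858) q1478, e3 q1279 L11094 q1099, trivial⟩ (by decide +kernel)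

theorem ce_b_20 : ∀ r, r < 64 → sm gb (Qf (1280 + r)) = Qf (tab Gen.b (1280 + r)) :=
  edges_tab (sm gb) Qf (tab Gen.b) 1280 [(1280, 1117), (1281, 1092), (1282, 1081), (1283, 1082), (1284, 1083), (1285, 1487), (1286, 1488), (1287, 1489), (1288, 1490), (1289, 1336), (1290, 1108), (1291, 1476), (1292, 1087), (1293, 1088), (1294, 1089), (1295, 1499), (1296, 1500), (1297, 1501), (1298, 1483), (1299, 1498), (1300, 1341), (1301, 1104), (1302, 1485), (1303, 1486), (1304, 1096), (1305, 1097), (1306, 1098), (1307, 1496), (1308, 1507), (1309, 1508), (1310, 1482), (1311, 1311), (1312, 1397), (1313, 1344), (1314, 1314), (1315, 1315), (1316, 1316), (1317, 1116), (1318, 1484), (1319, 1319), (1320, 1320), (1321, 1321), (1322, 1128), (1323, 1323), (1324, 1324), (1325, 1127), (1326, 1326), (1327, 1159), (1328, 1163), (1329, 1151), (1330, 1144), (1331, 1145), (1332, 1146), (1333, 1518), (1334, 1519), (1335, 1520), (1336, 1289), (1337, 1150), (1338, 1158), (1339, 1157),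 (1340, 1517), (1341, 1300), (1342, 1515), (1343, 1516)]
    ⟨e3 q1280 L11104 q1117, e3 q1281 L11114 q1092, e3 q1282 L11118 q1081, e3 q1283 L11124 q1082, e3 q1284 L11131 q1083, e3 q1285 (flp_b L12947) q1487, e3 q1286 (flp_b L12953) q1488, e3 q1287 (flp_b L12960) q1489, e3 q1288 (flp_b L12969) q1490, e3 q1289 (flp_b L11598) q1336, e3 q1290 L11175 q1108, e3 q1291 (flp_b L12840) q1476, e3 q1292 L11192 q1087, e3 q1293 L11200 q1088, e3 q1294 L11209 q1089, e3 q1295 (flp_b L13067) q1499, e3 q1296 (flp_b L13080) q1500, e3 q1297 (flp_b L13091) q1501, e3 q1298 (flp_b L12913) q1483, e3 q1299 (flp_b L13057) q1498, e3 q1300 (flp_b L11663) q1341, e3 q1301 L11259 q1104, e3 q1302 (flp_b L12933) q1485, e3 q1303 (flp_b L12939) q1486, e3 q1304 L11280 q1096, e3 q1305 L11287 q1097, e3 q1306 L11294 q1098, e3 q1307 (flp_b L13039) q1496, e3 q1308 (flp_b L13125) q1507, e3 q1309 (flp_b L13133) q1508, e3 q1310 (flp_b L12903) q1482, e3 q1311 L11327 q1311, e3 q1312 (flp_b L12206)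 q1397, e3 q1313 (flp_b L11698) q1344, e3 q1314 L11351 q1314, e3 q1315 L11359 q1315, e3 q1316 L11367 q1316, e3 q1317 L11371 q1116, e3 q1318 (flp_b L12924) q1484, e3 q1319 L11387 q1319, e3 q1320 L11395 q1320, e3 q1321 L11418 q1321, e3 q1322 L11429 q1128, e3 q1323 L11439 q1323, e3 q1324 L11454 q1324, e3 q1325 L11468 q1127, e3 q1326 L11483 q1326, e3 q1327 L11496 q1159, e3 q1328 L11510 q1163, e3 q1329 L11528 q1151, e3 q1330 L11537 q1144, e3 q1331 L11547 q1145, e3 q1332 L11560 q1146, e3 q1333 (flp_b L13233) q1518, e3 q1334 (flp_b L13249) q1519, e3 q1335 (flp_b L13266) q1520, e3 q1336 L11598 q1289, e3 q1337 L11614 q1150, e3 q1338 L11628 q1158, e3 q1339 L11641 q1157, e3 q1340 (flp_b L13216) q1517, e3 q1341 L11663 q1300, e3 q1342 (flp_b L13183) q1515, e3 q1343 (flp_b L13199) q1516, trivial⟩ (by decide +kernel)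

theorem ce_b_21 : ∀ r, r < 64 → sm gb (Qf (1344 + r)) = Qf (tab Gen.b (1344 + r)) :=
  edges_tab (sm gb) Qf (tab Gen.b) 1344 [(1344, 1313), (1345, 1345), (1346, 1165), (1347, 1522), (1348, 1523), (1349, 1349), (1350, 1168), (1351, 1527), (1352, 1528), (1353, 1353), (1354, 1172), (1355, 1173), (1356, 1534), (1357, 1535), (1358, 1536), (1359, 1359), (1360, 1176), (1361, 1542), (1362, 1362), (1363, 1179), (1364, 1180), (1365, 1547), (1366, 1548), (1367, 1367), (1368, 1368), (1369, 1533), (1370, 1184), (1371, 1185), (1372, 1186), (1373, 1558), (1374, 1559), (1375, 1560), (1376, 1561), (1377, 1377), (1378, 1378), (1379, 1379), (1380, 1191), (1381, 1568), (1382, 1239), (1383, 1383), (1384, 1384), (1385, 1385), (1386, 1386), (1387, 1387), (1388, 1198), (1389, 1199), (1390, 1200), (1391, 1201), (1392, 1574), (1393, 1575), (1394, 1569), (1395, 1576), (1396, 1252), (1397, 1312), (1398, 1274), (1399, 1205), (1400, 1206), (1401, 1584), (1402, 1585), (1403, 1586),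 (1404, 1404), (1405, 1405), (1406, 1222), (1407, 1211)]
    ⟨e3 q1344 L11698 q1313, e3 q1345 L11718 q1345, e3 q1346 L11721 q1165, e3 q1347 (flp_b L13291) q1522, e3 q1348 (flp_b L13298) q1523, e3 q1349 L11747 q1349, e3 q1350 L11758 q1168, e3 q1351 (flp_b L13334) q1527, e3 q1352 (flp_b L13345) q1528, e3 q1353 L11790 q1353, e3 q1354 L11797 q1172, e3 q1355 L11804 q1173, e3 q1356 (flp_b L13403) q1534, e3 q1357 (flp_b L13409) q1535, e3 q1358 (flp_b L13416) q1536, e3 q1359 L11842 q1359, e3 q1360 L11845 q1176, e3 q1361 (flp_b L13470) q1542, e3 q1362 L11867 q1362, e3 q1363 L11874 q1179, e3 q1364 L11883 q1180, e3 q1365 (flp_b L13521) q1547, e3 q1366 (flp_b L13531) q1548, e3 q1367 L11913 q1367, e3 q1368 L11921 q1368, e3 q1369 (flp_b L13398) q1533, e3 q1370 L11934 q1184, e3 q1371 L11940 q1185, e3 q1372 L11948 q1186, e3 q1373 (flp_b L13614) q1558, e3 q1374 (flp_b L13622) q1559, e3 q1375 (flp_b L13631) q1560, e3 q1376 (flp_b L13638) q1561, e3 q1377 L11989 q1377,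 e3 q1378 L12004 q1378, e3 q1379 L12024 q1379, e3 q1380 L12028 q1191, e3 q1381 (flp_b L13704) q1568, e3 q1382 (flp_b L12061) q1239, e3 q1383 L12069 q1383, e3 q1384 L12076 q1384, e3 q1385 L12090 q1385, e3 q1386 L12099 q1386, e3 q1387 L12107 q1387, e3 q1388 L12120 q1198, e3 q1389 L12126 q1199, e3 q1390 L12136 q1200, e3 q1391 L12145 q1201, e3 q1392 (flp_b L13774) q1574, e3 q1393 (flp_b L13782) q1575, e3 q1394 (flp_b L13718) q1569, e3 q1395 (flp_b L13792) q1576, e3 q1396 L12197 q1252, e3 q1397 L12206 q1312, e3 q1398 L12217 q1274, e3 q1399 L12229 q1205, e3 q1400 L12238 q1206, e3 q1401 (flp_b L13879) q1584, e3 q1402 (flp_b L13889) q1585, e3 q1403 (flp_b L13898) q1586, e3 q1404 L12275 q1404, e3 q1405 L12283 q1405, e3 q1406 L12293 q1222, e3 q1407 L12299 q1211, trivial⟩ (by decide +kernel)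

theorem ce_b_22 : ∀ r, r < 64 → sm gb (Qf (1408 + r)) = Qf (tab Gen.b (1408 + r)) :=
  edges_tab (sm gb) Qf (tab Gen.b) 1408 [(1408, 1212), (1409, 1213), (1410, 1597), (1411, 1598), (1412, 1599), (1413, 1600), (1414, 1414), (1415, 1415), (1416, 1583), (1417, 1217), (1418, 1218), (1419, 1219), (1420, 1610), (1421, 1611), (1422, 1612), (1423, 1613), (1424, 1618), (1425, 1425), (1426, 1426), (1427, 1427), (1428, 1595), (1429, 1596), (1430, 1226), (1431, 1227), (1432, 1228), (1433, 1229), (1434, 1630), (1435, 1631), (1436, 1632), (1437, 1633), (1438, 1438), (1439, 1439), (1440, 1236), (1441, 1237), (1442, 1238), (1443, 1641), (1444, 1642), (1445, 1445), (1446, 1446), (1447, 1447), (1448, 1448), (1449, 1250), (1450, 1251), (1451, 1646), (1452, 1580), (1453, 1581), (1454, 1454), (1455, 1455), (1456, 1456), (1457, 1457), (1458, 1458), (1459, 1459), (1460, 1460), (1461, 1461), (1462, 1462), (1463, 1262), (1464, 1263), (1465, 1264), (1466, 1265), (1467, 1663),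 (1468, 1664), (1469, 1665), (1470, 1666), (1471, 1471)]
    ⟨e3 q1408 L12305 q1212, e3 q1409 L12311 q1213, e3 q1410 (flp_b L13995) q1597, e3 q1411 (flp_b L14000) q1598, e3 q1412 (flp_b L14007) q1599, e3 q1413 (flp_b L14014) q1600, e3 q1414 L12351 q1414, e3 q1415 L12359 q1415, e3 q1416 (flp_b L13871) q1583, e3 q1417 L12378 q1217, e3 q1418 L12386 q1218, e3 q1419 L12394 q1219, e3 q1420 (flp_b L14092) q1610, e3 q1421 (flp_b L14102) q1611, e3 q1422 (flp_b L14111) q1612, e3 q1423 (flp_b L14118) q1613, e3 q1424 L14153 q1618, e3 q1425 L12443 q1425, e3 q1426 L12450 q1426, e3 q1427 L12458 q1427, e3 q1428 (flp_b L13980) q1595, e3 q1429 (flp_b L13988) q1596, e3 q1430 L12481 q1226, e3 q1431 L12487 q1227, e3 q1432 L12494 q1228, e3 q1433 L12502 q1229, e3 q1434 (flp_b L14239) q1630, e3 q1435 (flp_b L14247) q1631, e3 q1436 (flp_b L14253) q1632, e3 q1437 (flp_b L14262) q1633, e3 q1438 L12538 q1438, e3 q1439 L12551 q1439, e3 q1440 L12562 q1236, e3 q1441 L12570 q1237,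 e3 q1442 L12582 q1238, e3 q1443 (flp_b L14327) q1641, e3 q1444 (flp_b L14337) q1642, e3 q1445 L12607 q1445, e3 q1446 L12612 q1446, e3 q1447 L12619 q1447, e3 q1448 L12624 q1448, e3 q1449 L12632 q1250, e3 q1450 L12638 q1251, e3 q1451 (flp_b L14364) q1646, e3 q1452 (flp_b L13836) q1580, e3 q1453 (flp_b L13845) q1581, e3 q1454 L12668 q1454, e3 q1455 L12677 q1455, e3 q1456 L12686 q1456, e3 q1457 L12693 q1457, e3 q1458 L12699 q1458, e3 q1459 L12707 q1459, e3 q1460 L12716 q1460, e3 q1461 L12723 q1461, e3 q1462 L12729 q1462, e3 q1463 L12737 q1262, e3 q1464 L12746 q1263, e3 q1465 L12753 q1264, e3 q1466 L12760 q1265, e3 q1467 (flp_b L14499) q1663, e3 q1468 (flp_b L14507) q1664, e3 q1469 (flp_b L14514) q1665, e3 q1470 (flp_b L14522) q1666, e3 q1471 L12799 q1471, trivial⟩ (by decide +kernel)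

theorem ce_b_23 : ∀ r, r < 64 → sm gb (Qf (1472 + r)) = Qf (tab Gen.b (1472 + r)) :=
  edges_tab (sm gb) Qf (tab Gen.b) 1472 [(1472, 1472), (1473, 1272), (1474, 1672), (1475, 1273), (1476, 1291), (1477, 1277), (1478, 1278), (1479, 1675), (1480, 1676), (1481, 1677), (1482, 1310), (1483, 1298), (1484, 1318), (1485, 1302), (1486, 1303), (1487, 1285), (1488, 1286), (1489, 1287), (1490, 1288), (1491, 1682), (1492, 1681), (1493, 1680), (1494, 1687), (1495, 1679), (1496, 1307), (1497, 1674), (1498, 1299), (1499, 1295), (1500, 1296), (1501, 1297), (1502, 1691), (1503, 1683), (1504, 1684), (1505, 1685), (1506, 1686), (1507, 1308), (1508, 1309), (1509, 1509), (1510, 1582), (1511, 1511), (1512, 1512), (1513, 1513), (1514, 1514), (1515, 1342), (1516, 1343), (1517, 1340), (1518, 1333), (1519, 1334), (1520, 1335), (1521, 1521), (1522, 1347), (1523, 1348), (1524, 1704), (1525, 1705), (1526, 1706), (1527, 1351), (1528, 1352), (1529, 1712), (1530, 1713), (1531, 1531),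 (1532, 1532), (1533, 1369), (1534, 1356), (1535, 1357)]
    ⟨e3 q1472 L12808 q1472, e3 q1473 L12815 q1272, e3 q1474 L14560 q1672, e3 q1475 (flp_b L12824) q1273, e3 q1476 L12840 q1291, e3 q1477 L12846 q1277, e3 q1478 L12858 q1278, e3 q1479 (flp_b L14590) q1675, e3 q1480 (flp_b L14604) q1676, e3 q1481 L14615 q1677, e3 q1482 L12903 q1310, e3 q1483 L12913 q1298, e3 q1484 L12924 q1318, e3 q1485 L12933 q1302, e3 q1486 L12939 q1303, e3 q1487 L12947 q1285, e3 q1488 L12953 q1286, e3 q1489 L12960 q1287, e3 q1490 L12969 q1288, e3 q1491 (flp_b L14680) q1682, e3 q1492 (flp_b L14665) q1681, e3 q1493 (flp_b L14651) q1680, e3 q1494 (flp_b L14723) q1687, e3 q1495 (flp_b L14639) q1679, e3 q1496 L13039 q1307, e3 q1497 (flp_b L14578) q1674, e3 q1498 L13057 q1299, e3 q1499 L13067 q1295, e3 q1500 L13080 q1296, e3 q1501 L13091 q1297, e3 q1502 (flp_b L14770) q1691, e3 q1503 (flp_b L14693) q1683, e3 q1504 (flp_b L14700) q1684, e3 q1505 (flp_b L14707) q1685, e3 q1506 (flp_b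 L14715) q1686, e3 q1507 L13125 q1308, e3 q1508 L13133 q1309, e3 q1509 L13142 q1509, e3 q1510 (flp_b L13855) q1582, e3 q1511 L13155 q1511, e3 q1512 L13164 q1512, e3 q1513 L13169 q1513, e3 q1514 L13175 q1514, e3 q1515 L13183 q1342, e3 q1516 L13199 q1343, e3 q1517 L13216 q1340, e3 q1518 L13233 q1333, e3 q1519 L13249 q1334, e3 q1520 L13266 q1335, e3 q1521 L13283 q1521, e3 q1522 L13291 q1347, e3 q1523 L13298 q1348, e3 q1524 (flp_b L14854) q1704, e3 q1525 (flp_b L14861) q1705, e3 q1526 (flp_b L14869) q1706, e3 q1527 L13334 q1351, e3 q1528 L13345 q1352, e3 q1529 (flp_b L14925) q1712, e3 q1530 (flp_b L14937) q1713, e3 q1531 L13378 q1531, e3 q1532 L13388 q1532, e3 q1533 L13398 q1369, e3 q1534 L13403 q1356, e3 q1535 L13409 q1357, trivial⟩ (by decide +kernel)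

theorem ce_b_24 : ∀ r, r < 64 → sm gb (Qf (1536 + r)) = Qf (tab Gen.b (1536 + r)) :=
  edges_tab (sm gb) Qf (tab Gen.b) 1536 [(1536, 1358), (1537, 1723), (1538, 1724), (1539, 1725), (1540, 1726), (1541, 1541), (1542, 1361), (1543, 1733), (1544, 1544), (1545, 1545), (1546, 1711), (1547, 1365), (1548, 1366), (1549, 1740), (1550, 1741), (1551, 1742), (1552, 1745), (1553, 1553), (1554, 1554), (1555, 1555), (1556, 1721), (1557, 1722), (1558, 1373), (1559, 1374), (1560, 1375), (1561, 1376), (1562, 1757), (1563, 1758), (1564, 1759), (1565, 1760), (1566, 1566), (1567, 1567), (1568, 1381), (1569, 1394), (1570, 1570), (1571, 1571), (1572, 1572), (1573, 1573), (1574, 1392), (1575, 1393), (1576, 1395), (1577, 1772), (1578, 1768), (1579, 1773), (1580, 1452), (1581, 1453), (1582, 1510), (1583, 1416), (1584, 1401), (1585, 1402), (1586, 1403), (1587, 1782), (1588, 1783), (1589, 1784), (1590, 1785), (1591, 1790), (1592, 1592), (1593, 1593), (1594, 1594), (1595, 1428),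 (1596, 1429), (1597, 1410), (1598, 1411), (1599, 1412)]
    ⟨e3 q1536 L13416 q1358, e3 q1537 (flp_b L15031) q1723, e3 q1538 (flp_b L15038) q1724, e3 q1539 (flp_b L15047) q1725, e3 q1540 (flp_b L15053) q1726, e3 q1541 L13460 q1541, e3 q1542 L13470 q1361, e3 q1543 (flp_b L15113) q1733, e3 q1544 L13491 q1544, e3 q1545 L13501 q1545, e3 q1546 (flp_b L14918) q1711, e3 q1547 L13521 q1365, e3 q1548 L13531 q1366, e3 q1549 (flp_b L15179) q1740, e3 q1550 (flp_b L15191) q1741, e3 q1551 (flp_b L15201) q1742, e3 q1552 L15230 q1745, e3 q1553 L13576 q1553, e3 q1554 L13583 q1554, e3 q1555 L13592 q1555, e3 q1556 (flp_b L15015) q1721, e3 q1557 (flp_b L15022) q1722, e3 q1558 L13614 q1373, e3 q1559 L13622 q1374, e3 q1560 L13631 q1375, e3 q1561 L13638 q1376, e3 q1562 (flp_b L15323) q1757, e3 q1563 (flp_b L15333) q1758, e3 q1564 (flp_b L15341) q1759, e3 q1565 (flp_b L15349) q1760, e3 q1566 L13677 q1566, e3 q1567 L13692 q1567, e3 q1568 L13704 q1381, e3 q1569 L13718 q1394,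 e3 q1570 L13733 q1570, e3 q1571 L13740 q1571, e3 q1572 L13755 q1572, e3 q1573 L13767 q1573, e3 q1574 L13774 q1392, e3 q1575 L13782 q1393, e3 q1576 L13792 q1395, e3 q1577 (flp_b L15481) q1772, e3 q1578 (flp_b L15429) q1768, e3 q1579 (flp_b L15495) q1773, e3 q1580 L13836 q1452, e3 q1581 L13845 q1453, e3 q1582 L13855 q1510, e3 q1583 L13871 q1416, e3 q1584 L13879 q1401, e3 q1585 L13889 q1402, e3 q1586 L13898 q1403, e3 q1587 (flp_b L15584) q1782, e3 q1588 (flp_b L15593) q1783, e3 q1589 (flp_b L15604) q1784, e3 q1590 (flp_b L15614) q1785, e3 q1591 L15655 q1790, e3 q1592 L13954 q1592, e3 q1593 L13963 q1593, e3 q1594 L13970 q1594, e3 q1595 L13980 q1428, e3 q1596 L13988 q1429, e3 q1597 L13995 q1410, e3 q1598 L14000 q1411, e3 q1599 L14007 q1412, trivial⟩ (by decide +kernel)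

theorem ce_b_25 : ∀ r, r < 64 → sm gb (Qf (1600 + r)) = Qf (tab Gen.b (1600 + r)) :=
  edges_tab (sm gb) Qf (tab Gen.b) 1600 [(1600, 1413), (1601, 1802), (1602, 1803), (1603, 1804), (1604, 1805), (1605, 1811), (1606, 1606), (1607, 1607), (1608, 1780), (1609, 1781), (1610, 1420), (1611, 1421), (1612, 1422), (1613, 1423), (1614, 1822), (1615, 1823), (1616, 1824), (1617, 1825), (1618, 1424), (1619, 1830), (1620, 1820), (1621, 1621), (1622, 1622), (1623, 1623), (1624, 1624), (1625, 1797), (1626, 1798), (1627, 1799), (1628, 1800), (1629, 1801), (1630, 1434), (1631, 1435), (1632, 1436), (1633, 1437), (1634, 1847), (1635, 1848), (1636, 1849), (1637, 1850), (1638, 1851), (1639, 1639), (1640, 1640), (1641, 1443), (1642, 1444), (1643, 1643), (1644, 1644), (1645, 1645), (1646, 1451), (1647, 1859), (1648, 1776), (1649, 1777), (1650, 1778), (1651, 1779), (1652, 1652), (1653, 1653), (1654, 1654), (1655, 1655), (1656, 1656), (1657, 1657), (1658, 1658), (1659, 1659),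 (1660, 1660), (1661, 1661), (1662, 1662), (1663, 1467)]
    ⟨e3 q1600 L14014 q1413, e3 q1601 (flp_b L15757) q1802, e3 q1602 (flp_b L15764) q1803, e3 q1603 (flp_b L15770) q1804, e3 q1604 (flp_b L15778) q1805, e3 q1605 L15820 q1811, e3 q1606 L14063 q1606, e3 q1607 L14074 q1607, e3 q1608 (flp_b L15561) q1780, e3 q1609 (flp_b L15573) q1781, e3 q1610 L14092 q1420, e3 q1611 L14102 q1421, e3 q1612 L14111 q1422, e3 q1613 L14118 q1423, e3 q1614 (flp_b L15921) q1822, e3 q1615 (flp_b L15931) q1823, e3 q1616 (flp_b L15939) q1824, e3 q1617 (flp_b L15947) q1825, e3 q1618 (flp_b L14153) q1424, e3 q1619 (flp_b L15987) q1830, e3 q1620 (flp_b L15904) q1820, e3 q1621 L14178 q1621, e3 q1622 L14185 q1622, e3 q1623 L14195 q1623, e3 q1624 L14204 q1624, e3 q1625 (flp_b L15719) q1797, e3 q1626 (flp_b L15725) q1798, e3 q1627 (flp_b L15734) q1799, e3 q1628 (flp_b L15742) q1800, e3 q1629 (flp_b L15750) q1801, e3 q1630 L14239 q1434, e3 q1631 L14247 q1435, e3 q1632 L14253 q1436,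 e3 q1633 L14262 q1437, e3 q1634 (flp_b L16116) q1847, e3 q1635 (flp_b L16123) q1848, e3 q1636 (flp_b L16131) q1849, e3 q1637 (flp_b L16139) q1850, e3 q1638 (flp_b L16145) q1851, e3 q1639 L14305 q1639, e3 q1640 L14316 q1640, e3 q1641 L14327 q1443, e3 q1642 L14337 q1444, e3 q1643 L14347 q1643, e3 q1644 L14352 q1644, e3 q1645 L14357 q1645, e3 q1646 L14364 q1451, e3 q1647 L16193 q1859, e3 q1648 (flp_b L15520) q1776, e3 q1649 (flp_b L15529) q1777, e3 q1650 (flp_b L15539) q1778, e3 q1651 (flp_b L15549) q1779, e3 q1652 L14414 q1652, e3 q1653 L14424 q1653, e3 q1654 L14432 q1654, e3 q1655 L14440 q1655, e3 q1656 L14446 q1656, e3 q1657 L14455 q1657, e3 q1658 L14463 q1658, e3 q1659 L14471 q1659, e3 q1660 L14478 q1660, e3 q1661 L14486 q1661, e3 q1662 L14493 q1662, e3 q1663 L14499 q1467, trivial⟩ (by decide +kernel)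

theorem ce_b_26 : ∀ r, r < 64 → sm gb (Qf (1664 + r)) = Qf (tab Gen.b (1664 + r)) :=
  edges_tab (sm gb) Qf (tab Gen.b) 1664 [(1664, 1468), (1665, 1469), (1666, 1470), (1667, 1877), (1668, 1880), (1669, 1879), (1670, 1670), (1671, 1883), (1672, 1474), (1673, 1673), (1674, 1497), (1675, 1479), (1676, 1480), (1677, 1481), (1678, 1887), (1679, 1495), (1680, 1493), (1681, 1492), (1682, 1491), (1683, 1503), (1684, 1504), (1685, 1505), (1686, 1506), (1687, 1494), (1688, 1890), (1689, 1885), (1690, 1886), (1691, 1502), (1692, 1891), (1693, 1889), (1694, 1888), (1695, 1892), (1696, 1893), (1697, 1697), (1698, 1698), (1699, 1699), (1700, 1700), (1701, 1701), (1702, 1702), (1703, 1703), (1704, 1524), (1705, 1525), (1706, 1526), (1707, 1908), (1708, 1909), (1709, 1910), (1710, 1911), (1711, 1546), (1712, 1529), (1713, 1530), (1714, 1918), (1715, 1919), (1716, 1920), (1717, 1923), (1718, 1718), (1719, 1719), (1720, 1720), (1721, 1556), (1722, 1557), (1723, 1537),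 (1724, 1538), (1725, 1539), (1726, 1540), (1727, 1935)]
    ⟨e3 q1664 L14507 q1468, e3 q1665 L14514 q1469, e3 q1666 L14522 q1470, e3 q1667 (flp_b L16337) q1877, e3 q1668 L16356 q1880, e3 q1669 (flp_b L16351) q1879, e3 q1670 L14554 q1670, e3 q1671 L16375 q1883, e3 q1672 (flp_b L14560) q1474, e3 q1673 L14573 q1673, e3 q1674 L14578 q1497, e3 q1675 L14590 q1479, e3 q1676 L14604 q1480, e3 q1677 (flp_b L14615) q1481, e3 q1678 (flp_b L16423) q1887, e3 q1679 L14639 q1495, e3 q1680 L14651 q1493, e3 q1681 L14665 q1492, e3 q1682 L14680 q1491, e3 q1683 L14693 q1503, e3 q1684 L14700 q1504, e3 q1685 L14707 q1505, e3 q1686 L14715 q1506, e3 q1687 L14723 q1494, e3 q1688 (flp_b L16469) q1890, e3 q1689 (flp_b L16393) q1885, e3 q1690 (flp_b L16408) q1886, e3 q1691 L14770 q1502, e3 q1692 (flp_b L16483) q1891, e3 q1693 (flp_b L16454) q1889, e3 q1694 (flp_b L16439) q1888, e3 q1695 (flp_b L16489) q1892, e3 q1696 (flp_b L16496) q1893, e3 q1697 L14809 q1697, e3 q1698 L14814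 q1698, e3 q1699 L14820 q1699, e3 q1700 L14824 q1700, e3 q1701 L14831 q1701, e3 q1702 L14839 q1702, e3 q1703 L14850 q1703, e3 q1704 L14854 q1524, e3 q1705 L14861 q1525, e3 q1706 L14869 q1526, e3 q1707 (flp_b L16595) q1908, e3 q1708 (flp_b L16602) q1909, e3 q1709 (flp_b L16610) q1910, e3 q1710 (flp_b L16618) q1911, e3 q1711 L14918 q1546, e3 q1712 L14925 q1529, e3 q1713 L14937 q1530, e3 q1714 (flp_b L16686) q1918, e3 q1715 (flp_b L16699) q1919, e3 q1716 (flp_b L16710) q1920, e3 q1717 L16741 q1923, e3 q1718 L14990 q1718, e3 q1719 L14999 q1719, e3 q1720 L15007 q1720, e3 q1721 L15015 q1556, e3 q1722 L15022 q1557, e3 q1723 L15031 q1537, e3 q1724 L15038 q1538, e3 q1725 L15047 q1539, e3 q1726 L15053 q1540, e3 q1727 (flp_b L16850) q1935, trivial⟩ (by decide +kernel)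

theorem ce_b_27 : ∀ r, r < 64 → sm gb (Qf (1728 + r)) = Qf (tab Gen.b (1728 + r)) :=
  edges_tab (sm gb) Qf (tab Gen.b) 1728 [(1728, 1936), (1729, 1937), (1730, 1938), (1731, 1731), (1732, 1732), (1733, 1543), (1734, 1947), (1735, 1948), (1736, 1736), (1737, 1737), (1738, 1916), (1739, 1917), (1740, 1549), (1741, 1550), (1742, 1551), (1743, 1958), (1744, 1959), (1745, 1552), (1746, 1961), (1747, 1962), (1748, 1748), (1749, 1749), (1750, 1750), (1751, 1751), (1752, 1930), (1753, 1931), (1754, 1932), (1755, 1933), (1756, 1934), (1757, 1562), (1758, 1563), (1759, 1564), (1760, 1565), (1761, 1980), (1762, 1981), (1763, 1982), (1764, 1983), (1765, 1984), (1766, 1766), (1767, 1767), (1768, 1578), (1769, 1769), (1770, 1770), (1771, 1771), (1772, 1577), (1773, 1579), (1774, 1991), (1775, 1996), (1776, 1648), (1777, 1649), (1778, 1650), (1779, 1651), (1780, 1608), (1781, 1609), (1782, 1587), (1783, 1588), (1784, 1589), (1785, 1590), (1786, 2005), (1787, 2006),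 (1788, 2007), (1789, 2008), (1790, 1591), (1791, 2013)]
    ⟨e3 q1728 (flp_b L16859) q1936, e3 q1729 (flp_b L16867) q1937, e3 q1730 (flp_b L16874) q1938, e3 q1731 L15096 q1731, e3 q1732 L15109 q1732, e3 q1733 L15113 q1543, e3 q1734 (flp_b L16955) q1947, e3 q1735 L16964 q1948, e3 q1736 L15146 q1736, e3 q1737 L15157 q1737, e3 q1738 (flp_b L16662) q1916, e3 q1739 (flp_b L16675) q1917, e3 q1740 L15179 q1549, e3 q1741 L15191 q1550, e3 q1742 L15201 q1551, e3 q1743 (flp_b L17062) q1958, e3 q1744 (flp_b L17074) q1959, e3 q1745 (flp_b L15230) q1552, e3 q1746 (flp_b L17099) q1961, e3 q1747 (flp_b L17105) q1962, e3 q1748 L15257 q1748, e3 q1749 L15266 q1749, e3 q1750 L15276 q1750, e3 q1751 L15284 q1751, e3 q1752 (flp_b L16809) q1930, e3 q1753 (flp_b L16817) q1931, e3 q1754 (flp_b L16827) q1932, e3 q1755 (flp_b L16835) q1933, e3 q1756 (flp_b L16841) q1934, e3 q1757 L15323 q1562, e3 q1758 L15333 q1563, e3 q1759 L15341 q1564, e3 q1760 L15349 q1565, e3 q1761 (flp_b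 L17251) q1980, e3 q1762 (flp_b L17262) q1981, e3 q1763 (flp_b L17270) q1982, e3 q1764 (flp_b L17279) q1983, e3 q1765 (flp_b L17287) q1984, e3 q1766 L15399 q1766, e3 q1767 L15414 q1767, e3 q1768 L15429 q1578, e3 q1769 L15445 q1769, e3 q1770 L15460 q1770, e3 q1771 L15473 q1771, e3 q1772 L15481 q1577, e3 q1773 L15495 q1579, e3 q1774 (flp_b L17356) q1991, e3 q1775 L17399 q1996, e3 q1776 L15520 q1648, e3 q1777 L15529 q1649, e3 q1778 L15539 q1650, e3 q1779 L15549 q1651, e3 q1780 L15561 q1608, e3 q1781 L15573 q1609, e3 q1782 L15584 q1587, e3 q1783 L15593 q1588, e3 q1784 L15604 q1589, e3 q1785 L15614 q1590, e3 q1786 (flp_b L17498) q2005, e3 q1787 (flp_b L17509) q2006, e3 q1788 (flp_b L17517) q2007, e3 q1789 (flp_b L17528) q2008, e3 q1790 (flp_b L15655) q1591, e3 q1791 (flp_b L17572) q2013, trivial⟩ (by decide +kernel)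

theorem ce_b_28 : ∀ r, r < 64 → sm gb (Qf (1792 + r)) = Qf (tab Gen.b (1792 + r)) :=
  edges_tab (sm gb) Qf (tab Gen.b) 1792 [(1792, 2014), (1793, 1793), (1794, 1794), (1795, 1795), (1796, 1796), (1797, 1625), (1798, 1626), (1799, 1627), (1800, 1628), (1801, 1629), (1802, 1601), (1803, 1602), (1804, 1603), (1805, 1604), (1806, 2032), (1807, 2033), (1808, 2034), (1809, 2035), (1810, 2036), (1811, 1605), (1812, 2042), (1813, 2018), (1814, 1814), (1815, 1815), (1816, 1816), (1817, 2001), (1818, 2002), (1819, 2003), (1820, 1620), (1821, 2004), (1822, 1614), (1823, 1615), (1824, 1616), (1825, 1617), (1826, 2055), (1827, 2056), (1828, 2057), (1829, 2058), (1830, 1619), (1831, 2061), (1832, 2062), (1833, 2052), (1834, 2054), (1835, 1835), (1836, 1836), (1837, 1837), (1838, 1838), (1839, 2024), (1840, 2025), (1841, 2026), (1842, 2027), (1843, 2028), (1844, 2029), (1845, 2030), (1846, 2031), (1847, 1634), (1848, 1635), (1849, 1636), (1850, 1637), (1851, 1638),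 (1852, 2081), (1853, 2084), (1854, 2083), (1855, 1855)]
    ⟨e3 q1792 (flp_b L17585) q2014, e3 q1793 L15686 q1793, e3 q1794 L15694 q1794, e3 q1795 L15704 q1795, e3 q1796 L15712 q1796, e3 q1797 L15719 q1625, e3 q1798 L15725 q1626, e3 q1799 L15734 q1627, e3 q1800 L15742 q1628, e3 q1801 L15750 q1629, e3 q1802 L15757 q1601, e3 q1803 L15764 q1602, e3 q1804 L15770 q1603, e3 q1805 L15778 q1604, e3 q1806 (flp_b L17742) q2032, e3 q1807 (flp_b L17748) q2033, e3 q1808 (flp_b L17756) q2034, e3 q1809 (flp_b L17762) q2035, e3 q1810 (flp_b L17768) q2036, e3 q1811 (flp_b L15820) q1605, e3 q1812 (flp_b L17815) q2042, e3 q1813 (flp_b L17624) q2018, e3 q1814 L15853 q1814, e3 q1815 L15864 q1815, e3 q1816 L15874 q1816, e3 q1817 (flp_b L17450) q2001, e3 q1818 (flp_b L17460) q2002, e3 q1819 (flp_b L17473) q2003, e3 q1820 L15904 q1620, e3 q1821 (flp_b L17485) q2004, e3 q1822 L15921 q1614, e3 q1823 L15931 q1615, e3 q1824 L15939 q1616, e3 q1825 L15947 q1617, e3 q1826 (flp_b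 L17944) q2055, e3 q1827 (flp_b L17952) q2056, e3 q1828 (flp_b L17961) q2057, e3 q1829 (flp_b L17971) q2058, e3 q1830 L15987 q1619, e3 q1831 (flp_b L17998) q2061, e3 q1832 (flp_b L18005) q2062, e3 q1833 (flp_b L17917) q2052, e3 q1834 (flp_b L17934) q2054, e3 q1835 L16028 q1835, e3 q1836 L16039 q1836, e3 q1837 L16046 q1837, e3 q1838 L16056 q1838, e3 q1839 (flp_b L17677) q2024, e3 q1840 (flp_b L17684) q2025, e3 q1841 (flp_b L17692) q2026, e3 q1842 (flp_b L17700) q2027, e3 q1843 (flp_b L17709) q2028, e3 q1844 (flp_b L17718) q2029, e3 q1845 (flp_b L17726) q2030, e3 q1846 (flp_b L17734) q2031, e3 q1847 L16116 q1634, e3 q1848 L16123 q1635, e3 q1849 L16131 q1636, e3 q1850 L16139 q1637, e3 q1851 L16145 q1638, e3 q1852 (flp_b L18147) q2081, e3 q1853 L18167 q2084, e3 q1854 (flp_b L18161) q2083, e3 q1855 L16177 q1855, trivial⟩ (by decide +kernel)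

theorem ce_b_29 : ∀ r, r < 64 → sm gb (Qf (1856 + r)) = Qf (tab Gen.b (1856 + r)) :=
  edges_tab (sm gb) Qf (tab Gen.b) 1856 [(1856, 1856), (1857, 1857), (1858, 2090), (1859, 1647), (1860, 1997), (1861, 1998), (1862, 1999), (1863, 2000), (1864, 1864), (1865, 1865), (1866, 1866), (1867, 1867), (1868, 1868), (1869, 1869), (1870, 1870), (1871, 1871), (1872, 1872), (1873, 1873), (1874, 1874), (1875, 1875), (1876, 1876), (1877, 1667), (1878, 2110), (1879, 1669), (1880, 1668), (1881, 2112), (1882, 2113), (1883, 1671), (1884, 1884), (1885, 1689), (1886, 1690), (1887, 1678), (1888, 1694), (1889, 1693), (1890, 1688), (1891, 1692), (1892, 1695), (1893, 1696), (1894, 2116), (1895, 2016), (1896, 2115), (1897, 2117), (1898, 2118), (1899, 1899), (1900, 1900), (1901, 1901), (1902, 2125), (1903, 1903), (1904, 1904), (1905, 1905), (1906, 1906), (1907, 1907), (1908, 1707), (1909, 1708), (1910, 1709), (1911, 1710), (1912, 2126), (1913, 2135), (1914, 2136), (1915, 2137),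 (1916, 1738), (1917, 1739), (1918, 1714), (1919, 1715)]
    ⟨e3 q1856 L16182 q1856, e3 q1857 L16187 q1857, e3 q1858 L18202 q2090, e3 q1859 (flp_b L16193) q1647, e3 q1860 (flp_b L17408) q1997, e3 q1861 (flp_b L17418) q1998, e3 q1862 (flp_b L17427) q1999, e3 q1863 (flp_b L17438) q2000, e3 q1864 L16239 q1864, e3 q1865 L16248 q1865, e3 q1866 L16256 q1866, e3 q1867 L16265 q1867, e3 q1868 L16272 q1868, e3 q1869 L16281 q1869, e3 q1870 L16286 q1870, e3 q1871 L16295 q1871, e3 q1872 L16303 q1872, e3 q1873 L16312 q1873, e3 q1874 L16317 q1874, e3 q1875 L16324 q1875, e3 q1876 L16330 q1876, e3 q1877 L16337 q1667, e3 q1878 L18353 q2110, e3 q1879 L16351 q1669, e3 q1880 (flp_b L16356) q1668, e3 q1881 (flp_b L18367) q2112, e3 q1882 L18371 q2113, e3 q1883 (flp_b L16375) q1671, e3 q1884 L16388 q1884, e3 q1885 L16393 q1689, e3 q1886 L16408 q1690, e3 q1887 L16423 q1678, e3 q1888 L16439 q1694, e3 q1889 L16454 q1693, e3 q1890 L16469 q1688, e3 q1891 L16483 q1692, e3 q1892 L16489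 q1695, e3 q1893 L16496 q1696, e3 q1894 (flp_b L18398) q2116, e3 q1895 (flp_b L17603) q2016, e3 q1896 (flp_b L18388) q2115, e3 q1897 (flp_b L18404) q2117, e3 q1898 (flp_b L18409) q2118, e3 q1899 L16528 q1899, e3 q1900 L16533 q1900, e3 q1901 L16539 q1901, e3 q1902 L18446 q2125, e3 q1903 L16555 q1903, e3 q1904 L16563 q1904, e3 q1905 L16572 q1905, e3 q1906 L16581 q1906, e3 q1907 L16588 q1907, e3 q1908 L16595 q1707, e3 q1909 L16602 q1708, e3 q1910 L16610 q1709, e3 q1911 L16618 q1710, e3 q1912 (flp_b L18499) q2126, e3 q1913 (flp_b L18546) q2135, e3 q1914 (flp_b L18553) q2136, e3 q1915 (flp_b L18562) q2137, e3 q1916 L16662 q1738, e3 q1917 L16675 q1739, e3 q1918 L16686 q1714, e3 q1919 L16699 q1715, trivial⟩ (by decide +kernel)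

theorem ce_b_30 : ∀ r, r < 64 → sm gb (Qf (1920 + r)) = Qf (tab Gen.b (1920 + r)) :=
  edges_tab (sm gb) Qf (tab Gen.b) 1920 [(1920, 1716), (1921, 2146), (1922, 2147), (1923, 1717), (1924, 2150), (1925, 2151), (1926, 1926), (1927, 1927), (1928, 1928), (1929, 1929), (1930, 1752), (1931, 1753), (1932, 1754), (1933, 1755), (1934, 1756), (1935, 1727), (1936, 1728), (1937, 1729), (1938, 1730), (1939, 2169), (1940, 2170), (1941, 2171), (1942, 2172), (1943, 2173), (1944, 2179), (1945, 1945), (1946, 1946), (1947, 1734), (1948, 1735), (1949, 2184), (1950, 2185), (1951, 1951), (1952, 1952), (1953, 1953), (1954, 2142), (1955, 2143), (1956, 2144), (1957, 2145), (1958, 1743), (1959, 1744), (1960, 2198), (1961, 1746), (1962, 1747), (1963, 2199), (1964, 2200), (1965, 2201), (1966, 2196), (1967, 2202), (1968, 1968), (1969, 1969), (1970, 1970), (1971, 1971), (1972, 2161), (1973, 2162), (1974, 2163), (1975, 2164), (1976, 2165), (1977, 2166), (1978, 2167), (1979, 2168),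 (1980, 1761), (1981, 1762), (1982, 1763), (1983, 1764)]
    ⟨e3 q1920 L16710 q1716, e3 q1921 (flp_b L18656) q2146, e3 q1922 (flp_b L18668) q2147, e3 q1923 (flp_b L16741) q1717, e3 q1924 (flp_b L18705) q2150, e3 q1925 (flp_b L18715) q2151, e3 q1926 L16774 q1926, e3 q1927 L16784 q1927, e3 q1928 L16794 q1928, e3 q1929 L16801 q1929, e3 q1930 L16809 q1752, e3 q1931 L16817 q1753, e3 q1932 L16827 q1754, e3 q1933 L16835 q1755, e3 q1934 L16841 q1756, e3 q1935 L16850 q1727, e3 q1936 L16859 q1728, e3 q1937 L16867 q1729, e3 q1938 L16874 q1730, e3 q1939 (flp_b L18871) q2169, e3 q1940 (flp_b L18881) q2170, e3 q1941 (flp_b L18889) q2171, e3 q1942 (flp_b L18896) q2172, e3 q1943 (flp_b L18904) q2173, e3 q1944 L18953 q2179, e3 q1945 L16937 q1945, e3 q1946 L16946 q1946, e3 q1947 L16955 q1734, e3 q1948 (flp_b L16964) q1735, e3 q1949 (flp_b L19008) q2184, e3 q1950 (flp_b L19020) q2185, e3 q1951 L16999 q1951, e3 q1952 L17012 q1952, e3 q1953 L17023 q1953, e3 q1954 (flp_b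 L18606) q2142, e3 q1955 (flp_b L18620) q2143, e3 q1956 (flp_b L18632) q2144, e3 q1957 (flp_b L18643) q2145, e3 q1958 L17062 q1743, e3 q1959 L17074 q1744, e3 q1960 (flp_b L19150) q2198, e3 q1961 L17099 q1746, e3 q1962 L17105 q1747, e3 q1963 (flp_b L19164) q2199, e3 q1964 (flp_b L19171) q2200, e3 q1965 (flp_b L19180) q2201, e3 q1966 (flp_b L19137) q2196, e3 q1967 (flp_b L19187) q2202, e3 q1968 L17157 q1968, e3 q1969 L17170 q1969, e3 q1970 L17179 q1970, e3 q1971 L17188 q1971, e3 q1972 (flp_b L18804) q2161, e3 q1973 (flp_b L18812) q2162, e3 q1974 (flp_b L18822) q2163, e3 q1975 (flp_b L18832) q2164, e3 q1976 (flp_b L18841) q2165, e3 q1977 (flp_b L18848) q2166, e3 q1978 (flp_b L18856) q2167, e3 q1979 (flp_b L18864) q2168, e3 q1980 L17251 q1761, e3 q1981 L17262 q1762, e3 q1982 L17270 q1763, e3 q1983 L17279 q1764, trivial⟩ (by decide +kernel)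

theorem ce_b_31 : ∀ r, r < 64 → sm gb (Qf (1984 + r)) = Qf (tab Gen.b (1984 + r)) :=
  edges_tab (sm gb) Qf (tab Gen.b) 1984 [(1984, 1765), (1985, 2227), (1986, 2228), (1987, 2229), (1988, 2235), (1989, 2231), (1990, 1990), (1991, 1774), (1992, 1992), (1993, 1993), (1994, 2239), (1995, 2240), (1996, 1775), (1997, 1860), (1998, 1861), (1999, 1862), (2000, 1863), (2001, 1817), (2002, 1818), (2003, 1819), (2004, 1821), (2005, 1786), (2006, 1787), (2007, 1788), (2008, 1789), (2009, 2251), (2010, 2252), (2011, 2253), (2012, 2254), (2013, 1791), (2014, 1792), (2015, 2259), (2016, 1895), (2017, 2260), (2018, 1813), (2019, 2261), (2020, 2020), (2021, 2021), (2022, 2022), (2023, 2023), (2024, 1839), (2025, 1840), (2026, 1841), (2027, 1842), (2028, 1843), (2029, 1844), (2030, 1845), (2031, 1846), (2032, 1806), (2033, 1807), (2034, 1808), (2035, 1809), (2036, 1810), (2037, 2286), (2038, 2287), (2039, 2288), (2040, 2293), (2041, 2290), (2042, 1812), (2043, 2274),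 (2044, 2266), (2045, 2268), (2046, 2046), (2047, 2047)]
    ⟨e3 q1984 L17287 q1765, e3 q1985 (flp_b L19411) q2227, e3 q1986 (flp_b L19424) q2228, e3 q1987 (flp_b L19435) q2229, e3 q1988 L19493 q2235, e3 q1989 (flp_b L19452) q2231, e3 q1990 L17344 q1990, e3 q1991 L17356 q1774, e3 q1992 L17369 q1992, e3 q1993 L17379 q1993, e3 q1994 L19526 q2239, e3 q1995 L19533 q2240, e3 q1996 (flp_b L17399) q1775, e3 q1997 L17408 q1860, e3 q1998 L17418 q1861, e3 q1999 L17427 q1862, e3 q2000 L17438 q1863, e3 q2001 L17450 q1817, e3 q2002 L17460 q1818, e3 q2003 L17473 q1819, e3 q2004 L17485 q1821, e3 q2005 L17498 q1786, e3 q2006 L17509 q1787, e3 q2007 L17517 q1788, e3 q2008 L17528 q1789, e3 q2009 (flp_b L19663) q2251, e3 q2010 (flp_b L19673) q2252, e3 q2011 (flp_b L19682) q2253, e3 q2012 (flp_b L19692) q2254, e3 q2013 L17572 q1791, e3 q2014 L17585 q1792, e3 q2015 (flp_b L19735) q2259, e3 q2016 L17603 q1895, e3 q2017 (flp_b L19748) q2260, e3 q2018 L17624 q1813, e3 q2019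 (flp_b L19761) q2261, e3 q2020 L17643 q2020, e3 q2021 L17653 q2021, e3 q2022 L17660 q2022, e3 q2023 L17669 q2023, e3 q2024 L17677 q1839, e3 q2025 L17684 q1840, e3 q2026 L17692 q1841, e3 q2027 L17700 q1842, e3 q2028 L17709 q1843, e3 q2029 L17718 q1844, e3 q2030 L17726 q1845, e3 q2031 L17734 q1846, e3 q2032 L17742 q1806, e3 q2033 L17748 q1807, e3 q2034 L17756 q1808, e3 q2035 L17762 q1809, e3 q2036 L17768 q1810, e3 q2037 (flp_b L20000) q2286, e3 q2038 (flp_b L20007) q2287, e3 q2039 (flp_b L20015) q2288, e3 q2040 L20048 q2293, e3 q2041 (flp_b L20027) q2290, e3 q2042 L17815 q1812, e3 q2043 (flp_b L19901) q2274, e3 q2044 (flp_b L19821) q2266, e3 q2045 (flp_b L19844) q2268, e3 q2046 L17859 q2046, e3 q2047 L17868 q2047, trivial⟩ (by decide +kernel)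

theorem ce_b_32 : ∀ r, r < 64 → sm gb (Qf (2048 + r)) = Qf (tab Gen.b (2048 + r)) :=
  edges_tab (sm gb) Qf (tab Gen.b) 2048 [(2048, 2246), (2049, 2247), (2050, 2248), (2051, 2249), (2052, 1833), (2053, 2250), (2054, 1834), (2055, 1826), (2056, 1827), (2057, 1828), (2058, 1829), (2059, 2307), (2060, 2309), (2061, 1831), (2062, 1832), (2063, 2305), (2064, 2303), (2065, 2306), (2066, 2066), (2067, 2067), (2068, 2068), (2069, 2069), (2070, 2275), (2071, 2276), (2072, 2277), (2073, 2278), (2074, 2279), (2075, 2280), (2076, 2281), (2077, 2282), (2078, 2283), (2079, 2284), (2080, 2285), (2081, 1852), (2082, 2329), (2083, 1854), (2084, 1853), (2085, 2332), (2086, 2333), (2087, 2087), (2088, 2088), (2089, 2336), (2090, 1858), (2091, 2091), (2092, 2242), (2093, 2243), (2094, 2244), (2095, 2245), (2096, 2096), (2097, 2342), (2098, 2098), (2099, 2099), (2100, 2100), (2101, 2346), (2102, 2102), (2103, 2103), (2104, 2104), (2105, 2105), (2106, 2106), (2107, 2107),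 (2108, 2108), (2109, 2109), (2110, 1878), (2111, 2356)]
    ⟨e3 q2048 (flp_b L19599) q2246, e3 q2049 (flp_b L19612) q2247, e3 q2050 (flp_b L19626) q2248, e3 q2051 (flp_b L19636) q2249, e3 q2052 L17917 q1833, e3 q2053 (flp_b L19649) q2250, e3 q2054 L17934 q1834, e3 q2055 L17944 q1826, e3 q2056 L17952 q1827, e3 q2057 L17961 q1828, e3 q2058 L17971 q1829, e3 q2059 (flp_b L20173) q2307, e3 q2060 (flp_b L20190) q2309, e3 q2061 L17998 q1831, e3 q2062 L18005 q1832, e3 q2063 (flp_b L20155) q2305, e3 q2064 (flp_b L20134) q2303, e3 q2065 (flp_b L20162) q2306, e3 q2066 L18042 q2066, e3 q2067 L18051 q2067, e3 q2068 L18060 q2068, e3 q2069 L18067 q2069, e3 q2070 (flp_b L19912) q2275, e3 q2071 (flp_b L19919) q2276, e3 q2072 (flp_b L19926) q2277, e3 q2073 (flp_b L19936) q2278, e3 q2074 (flp_b L19940) q2279, e3 q2075 (flp_b L19950) q2280, e3 q2076 (flp_b L19960) q2281, e3 q2077 (flp_b L19969) q2282, e3 q2078 (flp_b L19976) q2283, e3 q2079 (flp_b L19985) q2284, e3 q2080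 (flp_b L19992) q2285, e3 q2081 L18147 q1852, e3 q2082 L20328 q2329, e3 q2083 L18161 q1854, e3 q2084 (flp_b L18167) q1853, e3 q2085 (flp_b L20353) q2332, e3 q2086 L20357 q2333, e3 q2087 L18188 q2087, e3 q2088 L18194 q2088, e3 q2089 L20373 q2336, e3 q2090 (flp_b L18202) q1858, e3 q2091 L18215 q2091, e3 q2092 (flp_b L19557) q2242, e3 q2093 (flp_b L19567) q2243, e3 q2094 (flp_b L19576) q2244, e3 q2095 (flp_b L19586) q2245, e3 q2096 L18256 q2096, e3 q2097 L20420 q2342, e3 q2098 L18273 q2098, e3 q2099 L18279 q2099, e3 q2100 L18285 q2100, e3 q2101 L20448 q2346, e3 q2102 L18301 q2102, e3 q2103 L18307 q2103, e3 q2104 L18313 q2104, e3 q2105 L18320 q2105, e3 q2106 L18328 q2106, e3 q2107 L18335 q2107, e3 q2108 L18342 q2108, e3 q2109 L18349 q2109, e3 q2110 (flp_b L18353) q1878, e3 q2111 (flp_b L20518) q2356, trivial⟩ (by decide +kernel)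

theorem ce_b_33 : ∀ r, r < 64 → sm gb (Qf (2112 + r)) = Qf (tab Gen.b (2112 + r)) :=
  edges_tab (sm gb) Qf (tab Gen.b) 2112 [(2112, 1881), (2113, 1882), (2114, 2357), (2115, 1896), (2116, 1894), (2117, 1897), (2118, 1898), (2119, 2265), (2120, 2358), (2121, 2263), (2122, 2262), (2123, 2359), (2124, 2124), (2125, 1902), (2126, 1912), (2127, 2364), (2128, 2128), (2129, 2129), (2130, 2130), (2131, 2131), (2132, 2132), (2133, 2133), (2134, 2134), (2135, 1913), (2136, 1914), (2137, 1915), (2138, 2365), (2139, 2375), (2140, 2376), (2141, 2377), (2142, 1954), (2143, 1955), (2144, 1956), (2145, 1957), (2146, 1921), (2147, 1922), (2148, 2387), (2149, 2388), (2150, 1924), (2151, 1925), (2152, 2390), (2153, 2391), (2154, 2392), (2155, 2393), (2156, 2394), (2157, 2157), (2158, 2158), (2159, 2159), (2160, 2160), (2161, 1972), (2162, 1973), (2163, 1974), (2164, 1975), (2165, 1976), (2166, 1977), (2167, 1978), (2168, 1979), (2169, 1939), (2170, 1940), (2171, 1941),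 (2172, 1942), (2173, 1943), (2174, 2421), (2175, 2422)]
    ⟨e3 q2112 L18367 q1881, e3 q2113 (flp_b L18371) q1882, e3 q2114 (flp_b L20530) q2357, e3 q2115 L18388 q1896, e3 q2116 L18398 q1894, e3 q2117 L18404 q1897, e3 q2118 L18409 q1898, e3 q2119 (flp_b L19808) q2265, e3 q2120 (flp_b L20534) q2358, e3 q2121 (flp_b L19786) q2263, e3 q2122 (flp_b L19773) q2262, e3 q2123 (flp_b L20540) q2359, e3 q2124 L18443 q2124, e3 q2125 (flp_b L18446) q1902, e3 q2126 L18499 q1912, e3 q2127 (flp_b L20570) q2364, e3 q2128 L18474 q2128, e3 q2129 L18482 q2129, e3 q2130 L18507 q2130, e3 q2131 L18516 q2131, e3 q2132 L18524 q2132, e3 q2133 L18531 q2133, e3 q2134 L18538 q2134, e3 q2135 L18546 q1913, e3 q2136 L18553 q1914, e3 q2137 L18562 q1915, e3 q2138 (flp_b L20581) q2365, e3 q2139 (flp_b L20678) q2375, e3 q2140 (flp_b L20686) q2376, e3 q2141 (flp_b L20694) q2377, e3 q2142 L18606 q1954, e3 q2143 L18620 q1955, e3 q2144 L18632 q1956, e3 q2145 L18643 q1957, e3 q2146 L18656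 q1921, e3 q2147 L18668 q1922, e3 q2148 (flp_b L20805) q2387, e3 q2149 (flp_b L20817) q2388, e3 q2150 L18705 q1924, e3 q2151 L18715 q1925, e3 q2152 (flp_b L20843) q2390, e3 q2153 (flp_b L20856) q2391, e3 q2154 (flp_b L20867) q2392, e3 q2155 (flp_b L20876) q2393, e3 q2156 (flp_b L20886) q2394, e3 q2157 L18770 q2157, e3 q2158 L18780 q2158, e3 q2159 L18789 q2159, e3 q2160 L18797 q2160, e3 q2161 L18804 q1972, e3 q2162 L18812 q1973, e3 q2163 L18822 q1974, e3 q2164 L18832 q1975, e3 q2165 L18841 q1976, e3 q2166 L18848 q1977, e3 q2167 L18856 q1978, e3 q2168 L18864 q1979, e3 q2169 L18871 q1939, e3 q2170 L18881 q1940, e3 q2171 L18889 q1941, e3 q2172 L18896 q1942, e3 q2173 L18904 q1943, e3 q2174 (flp_b L21133) q2421, e3 q2175 (flp_b L21142) q2422, trivial⟩ (by decide +kernel)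

theorem ce_b_34 : ∀ r, r < 64 → sm gb (Qf (2176 + r)) = Qf (tab Gen.b (2176 + r)) :=
  edges_tab (sm gb) Qf (tab Gen.b) 2176 [(2176, 2423), (2177, 2430), (2178, 2425), (2179, 1944), (2180, 2433), (2181, 2181), (2182, 2182), (2183, 2183), (2184, 1949), (2185, 1950), (2186, 2438), (2187, 2439), (2188, 2401), (2189, 2440), (2190, 2190), (2191, 2191), (2192, 2382), (2193, 2383), (2194, 2384), (2195, 2385), (2196, 1966), (2197, 2386), (2198, 1960), (2199, 1963), (2200, 1964), (2201, 1965), (2202, 1967), (2203, 2454), (2204, 2455), (2205, 2456), (2206, 2457), (2207, 2451), (2208, 2458), (2209, 2452), (2210, 2210), (2211, 2211), (2212, 2212), (2213, 2213), (2214, 2408), (2215, 2409), (2216, 2410), (2217, 2411), (2218, 2412), (2219, 2413), (2220, 2414), (2221, 2415), (2222, 2416), (2223, 2417), (2224, 2418), (2225, 2419), (2226, 2420), (2227, 1985), (2228, 1986), (2229, 1987), (2230, 2489), (2231, 1989), (2232, 2487), (2233, 2491), (2234, 2488), (2235, 1988),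 (2236, 2494), (2237, 2237), (2238, 2238), (2239, 1994)]
    ⟨e3 q2176 (flp_b L21149) q2423, e3 q2177 L21209 q2430, e3 q2178 (flp_b L21164) q2425, e3 q2179 (flp_b L18953) q1944, e3 q2180 (flp_b L21234) q2433, e3 q2181 L18977 q2181, e3 q2182 L18987 q2182, e3 q2183 L18996 q2183, e3 q2184 L19008 q1949, e3 q2185 L19020 q1950, e3 q2186 (flp_b L21284) q2438, e3 q2187 (flp_b L21299) q2439, e3 q2188 (flp_b L20956) q2401, e3 q2189 (flp_b L21310) q2440, e3 q2190 L19071 q2190, e3 q2191 L19084 q2191, e3 q2192 (flp_b L20739) q2382, e3 q2193 (flp_b L20753) q2383, e3 q2194 (flp_b L20767) q2384, e3 q2195 (flp_b L20779) q2385, e3 q2196 L19137 q1966, e3 q2197 (flp_b L20793) q2386, e3 q2198 L19150 q1960, e3 q2199 L19164 q1963, e3 q2200 L19171 q1964, e3 q2201 L19180 q1965, e3 q2202 L19187 q1967, e3 q2203 (flp_b L21449) q2454, e3 q2204 (flp_b L21462) q2455, e3 q2205 (flp_b L21475) q2456, e3 q2206 (flp_b L21484) q2457, e3 q2207 (flp_b L21425) q2451, e3 q2208 (flp_b L21492)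 q2458, e3 q2209 (flp_b L21432) q2452, e3 q2210 L19267 q2210, e3 q2211 L19280 q2211, e3 q2212 L19292 q2212, e3 q2213 L19301 q2213, e3 q2214 (flp_b L21020) q2408, e3 q2215 (flp_b L21032) q2409, e3 q2216 (flp_b L21040) q2410, e3 q2217 (flp_b L21053) q2411, e3 q2218 (flp_b L21063) q2412, e3 q2219 (flp_b L21069) q2413, e3 q2220 (flp_b L21079) q2414, e3 q2221 (flp_b L21087) q2415, e3 q2222 (flp_b L21098) q2416, e3 q2223 (flp_b L21103) q2417, e3 q2224 (flp_b L21111) q2418, e3 q2225 (flp_b L21118) q2419, e3 q2226 (flp_b L21127) q2420, e3 q2227 L19411 q1985, e3 q2228 L19424 q1986, e3 q2229 L19435 q1987, e3 q2230 L21756 q2489, e3 q2231 L19452 q1989, e3 q2232 (flp_b L21730) q2487, e3 q2233 L21772 q2491, e3 q2234 (flp_b L21745) q2488, e3 q2235 (flp_b L19493) q1988, e3 q2236 (flp_b L21807) q2494, e3 q2237 L19512 q2237, e3 q2238 L19522 q2238, e3 q2239 (flp_b L19526) q1994, trivial⟩ (by decide +kernel)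

theorem ce_b_35 : ∀ r, r < 64 → sm gb (Qf (2240 + r)) = Qf (tab Gen.b (2240 + r)) :=
  edges_tab (sm gb) Qf (tab Gen.b) 2240 [(2240, 1995), (2241, 2241), (2242, 2092), (2243, 2093), (2244, 2094), (2245, 2095), (2246, 2048), (2247, 2049), (2248, 2050), (2249, 2051), (2250, 2053), (2251, 2009), (2252, 2010), (2253, 2011), (2254, 2012), (2255, 2506), (2256, 2507), (2257, 2511), (2258, 2509), (2259, 2015), (2260, 2017), (2261, 2019), (2262, 2122), (2263, 2121), (2264, 2514), (2265, 2119), (2266, 2044), (2267, 2515), (2268, 2045), (2269, 2269), (2270, 2270), (2271, 2271), (2272, 2272), (2273, 2273), (2274, 2043), (2275, 2070), (2276, 2071), (2277, 2072), (2278, 2073), (2279, 2074), (2280, 2075), (2281, 2076), (2282, 2077), (2283, 2078), (2284, 2079), (2285, 2080), (2286, 2037), (2287, 2038), (2288, 2039), (2289, 2545), (2290, 2041), (2291, 2542), (2292, 2544), (2293, 2040), (2294, 2550), (2295, 2547), (2296, 2522), (2297, 2523), (2298, 2298), (2299, 2501),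 (2300, 2502), (2301, 2503), (2302, 2504), (2303, 2064)]
    ⟨e3 q2240 (flp_b L19533) q1995, e3 q2241 L19553 q2241, e3 q2242 L19557 q2092, e3 q2243 L19567 q2093, e3 q2244 L19576 q2094, e3 q2245 L19586 q2095, e3 q2246 L19599 q2048, e3 q2247 L19612 q2049, e3 q2248 L19626 q2050, e3 q2249 L19636 q2051, e3 q2250 L19649 q2053, e3 q2251 L19663 q2009, e3 q2252 L19673 q2010, e3 q2253 L19682 q2011, e3 q2254 L19692 q2012, e3 q2255 (flp_b L21936) q2506, e3 q2256 (flp_b L21947) q2507, e3 q2257 L21979 q2511, e3 q2258 (flp_b L21966) q2509, e3 q2259 L19735 q2015, e3 q2260 L19748 q2017, e3 q2261 L19761 q2019, e3 q2262 L19773 q2122, e3 q2263 L19786 q2121, e3 q2264 (flp_b L22005) q2514, e3 q2265 L19808 q2119, e3 q2266 L19821 q2044, e3 q2267 (flp_b L22016) q2515, e3 q2268 L19844 q2045, e3 q2269 L19856 q2269, e3 q2270 L19865 q2270, e3 q2271 L19874 q2271, e3 q2272 L19881 q2272, e3 q2273 L19890 q2273, e3 q2274 L19901 q2043, e3 q2275 L19912 q2070, e3 q2276 L19919 q2071, e3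 q2277 L19926 q2072, e3 q2278 L19936 q2073, e3 q2279 L19940 q2074, e3 q2280 L19950 q2075, e3 q2281 L19960 q2076, e3 q2282 L19969 q2077, e3 q2283 L19976 q2078, e3 q2284 L19985 q2079, e3 q2285 L19992 q2080, e3 q2286 L20000 q2037, e3 q2287 L20007 q2038, e3 q2288 L20015 q2039, e3 q2289 L22283 q2545, e3 q2290 L20027 q2041, e3 q2291 (flp_b L22263) q2542, e3 q2292 (flp_b L22276) q2544, e3 q2293 (flp_b L20048) q2040, e3 q2294 (flp_b L22318) q2550, e3 q2295 (flp_b L22296) q2547, e3 q2296 (flp_b L22096) q2522, e3 q2297 (flp_b L22107) q2523, e3 q2298 L20093 q2298, e3 q2299 (flp_b L21878) q2501, e3 q2300 (flp_b L21889) q2502, e3 q2301 (flp_b L21901) q2503, e3 q2302 (flp_b L21909) q2504, e3 q2303 L20134 q2064, trivial⟩ (by decide +kernel)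

theorem ce_b_36 : ∀ r, r < 64 → sm gb (Qf (2304 + r)) = Qf (tab Gen.b (2304 + r)) :=
  edges_tab (sm gb) Qf (tab Gen.b) 2304 [(2304, 2505), (2305, 2063), (2306, 2065), (2307, 2059), (2308, 2531), (2309, 2060), (2310, 2559), (2311, 2562), (2312, 2561), (2313, 2313), (2314, 2566), (2315, 2315), (2316, 2529), (2317, 2530), (2318, 2532), (2319, 2533), (2320, 2573), (2321, 2535), (2322, 2536), (2323, 2516), (2324, 2537), (2325, 2538), (2326, 2539), (2327, 2540), (2328, 2541), (2329, 2082), (2330, 2584), (2331, 2331), (2332, 2085), (2333, 2086), (2334, 2587), (2335, 2335), (2336, 2089), (2337, 2586), (2338, 2497), (2339, 2498), (2340, 2591), (2341, 2500), (2342, 2097), (2343, 2594), (2344, 2344), (2345, 2345), (2346, 2101), (2347, 2598), (2348, 2599), (2349, 2349), (2350, 2350), (2351, 2351), (2352, 2352), (2353, 2353), (2354, 2354), (2355, 2355), (2356, 2111), (2357, 2114), (2358, 2120), (2359, 2123), (2360, 2518), (2361, 2521), (2362, 2517), (2363, 2395),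 (2364, 2127), (2365, 2138), (2366, 2608), (2367, 2609)]
    ⟨e3 q2304 (flp_b L21921) q2505, e3 q2305 L20155 q2063, e3 q2306 L20162 q2065, e3 q2307 L20173 q2059, e3 q2308 (flp_b L22175) q2531, e3 q2309 L20190 q2060, e3 q2310 (flp_b L22398) q2559, e3 q2311 (flp_b L22422) q2562, e3 q2312 (flp_b L22410) q2561, e3 q2313 L20224 q2313, e3 q2314 L22446 q2566, e3 q2315 L20243 q2315, e3 q2316 (flp_b L22162) q2529, e3 q2317 (flp_b L22168) q2530, e3 q2318 (flp_b L22184) q2532, e3 q2319 (flp_b L22190) q2533, e3 q2320 L22489 q2573, e3 q2321 (flp_b L22204) q2535, e3 q2322 (flp_b L22210) q2536, e3 q2323 (flp_b L22031) q2516, e3 q2324 (flp_b L22218) q2537, e3 q2325 (flp_b L22230) q2538, e3 q2326 (flp_b L22239) q2539, e3 q2327 (flp_b L22248) q2540, e3 q2328 (flp_b L22256) q2541, e3 q2329 (flp_b L20328) q2082, e3 q2330 (flp_b L22561) q2584, e3 q2331 L20350 q2331, e3 q2332 L20353 q2085, e3 q2333 (flp_b L20357) q2086, e3 q2334 L22585 q2587, e3 q2335 L20369 q2335, e3 q2336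 (flp_b L20373) q2089, e3 q2337 (flp_b L22583) q2586, e3 q2338 (flp_b L21838) q2497, e3 q2339 (flp_b L21848) q2498, e3 q2340 L22612 q2591, e3 q2341 (flp_b L21867) q2500, e3 q2342 (flp_b L20420) q2097, e3 q2343 (flp_b L22636) q2594, e3 q2344 L20435 q2344, e3 q2345 L20443 q2345, e3 q2346 (flp_b L20448) q2101, e3 q2347 (flp_b L22664) q2598, e3 q2348 (flp_b L22670) q2599, e3 q2349 L20469 q2349, e3 q2350 L20476 q2350, e3 q2351 L20483 q2351, e3 q2352 L20489 q2352, e3 q2353 L20495 q2353, e3 q2354 L20502 q2354, e3 q2355 L20511 q2355, e3 q2356 L20518 q2111, e3 q2357 L20530 q2114, e3 q2358 L20534 q2120, e3 q2359 L20540 q2123, e3 q2360 (flp_b L22055) q2518, e3 q2361 (flp_b L22081) q2521, e3 q2362 (flp_b L22042) q2517, e3 q2363 (flp_b L20898) q2395, e3 q2364 L20570 q2127, e3 q2365 L20581 q2138, e3 q2366 (flp_b L22728) q2608, e3 q2367 (flp_b L22737) q2609, trivial⟩ (by decide +kernel)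

theorem ce_b_37 : ∀ r, r < 64 → sm gb (Qf (2368 + r)) = Qf (tab Gen.b (2368 + r)) :=
  edges_tab (sm gb) Qf (tab Gen.b) 2368 [(2368, 2368), (2369, 2369), (2370, 2370), (2371, 2371), (2372, 2372), (2373, 2373), (2374, 2374), (2375, 2139), (2376, 2140), (2377, 2141), (2378, 2610), (2379, 2611), (2380, 2626), (2381, 2623), (2382, 2192), (2383, 2193), (2384, 2194), (2385, 2195), (2386, 2197), (2387, 2148), (2388, 2149), (2389, 2636), (2390, 2152), (2391, 2153), (2392, 2154), (2393, 2155), (2394, 2156), (2395, 2363), (2396, 2638), (2397, 2639), (2398, 2640), (2399, 2641), (2400, 2642), (2401, 2188), (2402, 2644), (2403, 2403), (2404, 2404), (2405, 2405), (2406, 2406), (2407, 2407), (2408, 2214), (2409, 2215), (2410, 2216), (2411, 2217), (2412, 2218), (2413, 2219), (2414, 2220), (2415, 2221), (2416, 2222), (2417, 2223), (2418, 2224), (2419, 2225), (2420, 2226), (2421, 2174), (2422, 2175), (2423, 2176), (2424, 2680), (2425, 2178), (2426, 2677), (2427, 2678),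 (2428, 2685), (2429, 2679), (2430, 2177), (2431, 2689)]
    ⟨e3 q2368 L20612 q2368, e3 q2369 L20624 q2369, e3 q2370 L20638 q2370, e3 q2371 L20646 q2371, e3 q2372 L20654 q2372, e3 q2373 L20662 q2373, e3 q2374 L20670 q2374, e3 q2375 L20678 q2139, e3 q2376 L20686 q2140, e3 q2377 L20694 q2141, e3 q2378 (flp_b L22749) q2610, e3 q2379 (flp_b L22764) q2611, e3 q2380 L22918 q2626, e3 q2381 (flp_b L22893) q2623, e3 q2382 L20739 q2192, e3 q2383 L20753 q2193, e3 q2384 L20767 q2194, e3 q2385 L20779 q2195, e3 q2386 L20793 q2197, e3 q2387 L20805 q2148, e3 q2388 L20817 q2149, e3 q2389 (flp_b L23034) q2636, e3 q2390 L20843 q2152, e3 q2391 L20856 q2153, e3 q2392 L20867 q2154, e3 q2393 L20876 q2155, e3 q2394 L20886 q2156, e3 q2395 L20898 q2363, e3 q2396 (flp_b L23060) q2638, e3 q2397 (flp_b L23075) q2639, e3 q2398 (flp_b L23086) q2640, e3 q2399 (flp_b L23096) q2641, e3 q2400 (flp_b L23105) q2642, e3 q2401 L20956 q2188, e3 q2402 (flp_b L23125) q2644, e3 q2403 L20973 q2403,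 e3 q2404 L20984 q2404, e3 q2405 L20993 q2405, e3 q2406 L21001 q2406, e3 q2407 L21012 q2407, e3 q2408 L21020 q2214, e3 q2409 L21032 q2215, e3 q2410 L21040 q2216, e3 q2411 L21053 q2217, e3 q2412 L21063 q2218, e3 q2413 L21069 q2219, e3 q2414 L21079 q2220, e3 q2415 L21087 q2221, e3 q2416 L21098 q2222, e3 q2417 L21103 q2223, e3 q2418 L21111 q2224, e3 q2419 L21118 q2225, e3 q2420 L21127 q2226, e3 q2421 L21133 q2174, e3 q2422 L21142 q2175, e3 q2423 L21149 q2176, e3 q2424 L23458 q2680, e3 q2425 L21164 q2178, e3 q2426 (flp_b L23432) q2677, e3 q2427 (flp_b L23441) q2678, e3 q2428 L23498 q2685, e3 q2429 (flp_b L23452) q2679, e3 q2430 (flp_b L21209) q2177, e3 q2431 (flp_b L23540) q2689, trivial⟩ (by decide +kernel)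

theorem ce_b_38 : ∀ r, r < 64 → sm gb (Qf (2432 + r)) = Qf (tab Gen.b (2432 + r)) :=
  edges_tab (sm gb) Qf (tab Gen.b) 2432 [(2432, 2682), (2433, 2180), (2434, 2691), (2435, 2692), (2436, 2436), (2437, 2437), (2438, 2186), (2439, 2187), (2440, 2189), (2441, 2697), (2442, 2654), (2443, 2698), (2444, 2655), (2445, 2445), (2446, 2629), (2447, 2630), (2448, 2631), (2449, 2632), (2450, 2633), (2451, 2207), (2452, 2209), (2453, 2634), (2454, 2203), (2455, 2204), (2456, 2205), (2457, 2206), (2458, 2208), (2459, 2714), (2460, 2715), (2461, 2716), (2462, 2717), (2463, 2711), (2464, 2718), (2465, 2708), (2466, 2712), (2467, 2713), (2468, 2468), (2469, 2661), (2470, 2470), (2471, 2662), (2472, 2663), (2473, 2664), (2474, 2665), (2475, 2666), (2476, 2737), (2477, 2668), (2478, 2669), (2479, 2659), (2480, 2670), (2481, 2671), (2482, 2672), (2483, 2673), (2484, 2674), (2485, 2675), (2486, 2676), (2487, 2232), (2488, 2234), (2489, 2230), (2490, 2752), (2491, 2233),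 (2492, 2753), (2493, 2493), (2494, 2236), (2495, 2495)]
    ⟨e3 q2432 (flp_b L23473) q2682, e3 q2433 L21234 q2180, e3 q2434 (flp_b L23557) q2691, e3 q2435 (flp_b L23566) q2692, e3 q2436 L21264 q2436, e3 q2437 L21272 q2437, e3 q2438 L21284 q2186, e3 q2439 L21299 q2187, e3 q2440 L21310 q2189, e3 q2441 (flp_b L23617) q2697, e3 q2442 (flp_b L23231) q2654, e3 q2443 (flp_b L23630) q2698, e3 q2444 (flp_b L23242) q2655, e3 q2445 L21364 q2445, e3 q2446 (flp_b L22946) q2629, e3 q2447 (flp_b L22958) q2630, e3 q2448 (flp_b L22968) q2631, e3 q2449 (flp_b L22984) q2632, e3 q2450 (flp_b L22996) q2633, e3 q2451 L21425 q2207, e3 q2452 L21432 q2209, e3 q2453 (flp_b L23009) q2634, e3 q2454 L21449 q2203, e3 q2455 L21462 q2204, e3 q2456 L21475 q2205, e3 q2457 L21484 q2206, e3 q2458 L21492 q2208, e3 q2459 (flp_b L23793) q2714, e3 q2460 (flp_b L23804) q2715, e3 q2461 (flp_b L23815) q2716, e3 q2462 (flp_b L23821) q2717, e3 q2463 (flp_b L23767) q2711, e3 q2464 (flp_b L23830)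 q2718, e3 q2465 (flp_b L23739) q2708, e3 q2466 (flp_b L23775) q2712, e3 q2467 (flp_b L23783) q2713, e3 q2468 L21582 q2468, e3 q2469 (flp_b L23302) q2661, e3 q2470 L21608 q2470, e3 q2471 (flp_b L23312) q2662, e3 q2472 (flp_b L23320) q2663, e3 q2473 (flp_b L23328) q2664, e3 q2474 (flp_b L23339) q2665, e3 q2475 (flp_b L23345) q2666, e3 q2476 L24009 q2737, e3 q2477 (flp_b L23363) q2668, e3 q2478 (flp_b L23369) q2669, e3 q2479 L23289 q2659, e3 q2480 (flp_b L23377) q2670, e3 q2481 (flp_b L23386) q2671, e3 q2482 (flp_b L23393) q2672, e3 q2483 (flp_b L23399) q2673, e3 q2484 (flp_b L23408) q2674, e3 q2485 (flp_b L23416) q2675, e3 q2486 (flp_b L23424) q2676, e3 q2487 L21730 q2232, e3 q2488 L21745 q2234, e3 q2489 (flp_b L21756) q2230, e3 q2490 (flp_b L24117) q2752, e3 q2491 (flp_b L21772) q2233, e3 q2492 (flp_b L24128) q2753, e3 q2493 L21804 q2493, e3 q2494 L21807 q2236, e3 q2495 L21816 q2495, trivial⟩ (by decide +kernel)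

theorem ce_b_39 : ∀ r, r < 64 → sm gb (Qf (2496 + r)) = Qf (tab Gen.b (2496 + r)) :=
  edges_tab (sm gb) Qf (tab Gen.b) 2496 [(2496, 2645), (2497, 2338), (2498, 2339), (2499, 2756), (2500, 2341), (2501, 2299), (2502, 2300), (2503, 2301), (2504, 2302), (2505, 2304), (2506, 2255), (2507, 2256), (2508, 2766), (2509, 2258), (2510, 2765), (2511, 2257), (2512, 2771), (2513, 2768), (2514, 2264), (2515, 2267), (2516, 2323), (2517, 2362), (2518, 2360), (2519, 2773), (2520, 2774), (2521, 2361), (2522, 2296), (2523, 2297), (2524, 2524), (2525, 2525), (2526, 2526), (2527, 2743), (2528, 2528), (2529, 2316), (2530, 2317), (2531, 2308), (2532, 2318), (2533, 2319), (2534, 2795), (2535, 2321), (2536, 2322), (2537, 2324), (2538, 2325), (2539, 2326), (2540, 2327), (2541, 2328), (2542, 2291), (2543, 2635), (2544, 2292), (2545, 2289), (2546, 2807), (2547, 2295), (2548, 2805), (2549, 2549), (2550, 2294), (2551, 2810), (2552, 2781), (2553, 2783), (2554, 2759), (2555, 2760),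 (2556, 2761), (2557, 2762), (2558, 2791), (2559, 2310)]
    ⟨e3 q2496 (flp_b L23136) q2645, e3 q2497 L21838 q2338, e3 q2498 L21848 q2339, e3 q2499 L24158 q2756, e3 q2500 L21867 q2341, e3 q2501 L21878 q2299, e3 q2502 L21889 q2300, e3 q2503 L21901 q2301, e3 q2504 L21909 q2302, e3 q2505 L21921 q2304, e3 q2506 L21936 q2255, e3 q2507 L21947 q2256, e3 q2508 L24267 q2766, e3 q2509 L21966 q2258, e3 q2510 (flp_b L24259) q2765, e3 q2511 (flp_b L21979) q2257, e3 q2512 (flp_b L24313) q2771, e3 q2513 (flp_b L24288) q2768, e3 q2514 L22005 q2264, e3 q2515 L22016 q2267, e3 q2516 L22031 q2323, e3 q2517 L22042 q2362, e3 q2518 L22055 q2360, e3 q2519 (flp_b L24331) q2773, e3 q2520 (flp_b L24343) q2774, e3 q2521 L22081 q2361, e3 q2522 L22096 q2296, e3 q2523 L22107 q2297, e3 q2524 L22122 q2524, e3 q2525 L22130 q2525, e3 q2526 L22139 q2526, e3 q2527 (flp_b L24046) q2743, e3 q2528 L22156 q2528, e3 q2529 L22162 q2316, e3 q2530 L22168 q2317, e3 q2531 L22175 q2308, e3 q2532 L22184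 q2318, e3 q2533 L22190 q2319, e3 q2534 L24535 q2795, e3 q2535 L22204 q2321, e3 q2536 L22210 q2322, e3 q2537 L22218 q2324, e3 q2538 L22230 q2325, e3 q2539 L22239 q2326, e3 q2540 L22248 q2327, e3 q2541 L22256 q2328, e3 q2542 L22263 q2291, e3 q2543 (flp_b L23028) q2635, e3 q2544 L22276 q2292, e3 q2545 (flp_b L22283) q2289, e3 q2546 (flp_b L24625) q2807, e3 q2547 L22296 q2295, e3 q2548 (flp_b L24609) q2805, e3 q2549 L22315 q2549, e3 q2550 L22318 q2294, e3 q2551 (flp_b L24648) q2810, e3 q2552 (flp_b L24424) q2781, e3 q2553 (flp_b L24442) q2783, e3 q2554 (flp_b L24190) q2759, e3 q2555 (flp_b L24202) q2760, e3 q2556 (flp_b L24215) q2761, e3 q2557 (flp_b L24227) q2762, e3 q2558 (flp_b L24508) q2791, e3 q2559 L22398 q2310, trivial⟩ (by decide +kernel)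

theorem ce_b_40 : ∀ r, r < 64 → sm gb (Qf (2560 + r)) = Qf (tab Gen.b (2560 + r)) :=
  edges_tab (sm gb) Qf (tab Gen.b) 2560 [(2560, 2764), (2561, 2312), (2562, 2311), (2563, 2792), (2564, 2818), (2565, 2816), (2566, 2314), (2567, 2821), (2568, 2822), (2569, 2778), (2570, 2790), (2571, 2775), (2572, 2794), (2573, 2320), (2574, 2832), (2575, 2833), (2576, 2798), (2577, 2799), (2578, 2800), (2579, 2646), (2580, 2776), (2581, 2801), (2582, 2802), (2583, 2803), (2584, 2330), (2585, 2585), (2586, 2337), (2587, 2334), (2588, 2842), (2589, 2647), (2590, 2755), (2591, 2340), (2592, 2844), (2593, 2758), (2594, 2343), (2595, 2595), (2596, 2596), (2597, 2597), (2598, 2347), (2599, 2348), (2600, 2848), (2601, 2849), (2602, 2850), (2603, 2603), (2604, 2604), (2605, 2605), (2606, 2777), (2607, 2779), (2608, 2366), (2609, 2367), (2610, 2378), (2611, 2379), (2612, 2856), (2613, 2857), (2614, 2614), (2615, 2615), (2616, 2616), (2617, 2617), (2618, 2618), (2619, 2619),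 (2620, 2620), (2621, 2621), (2622, 2869), (2623, 2381)]
    ⟨e3 q2560 (flp_b L24249) q2764, e3 q2561 L22410 q2312, e3 q2562 L22422 q2311, e3 q2563 (flp_b L24514) q2792, e3 q2564 L24701 q2818, e3 q2565 (flp_b L24691) q2816, e3 q2566 (flp_b L22446) q2314, e3 q2567 (flp_b L24719) q2821, e3 q2568 L24724 q2822, e3 q2569 (flp_b L24392) q2778, e3 q2570 (flp_b L24502) q2790, e3 q2571 (flp_b L24356) q2775, e3 q2572 (flp_b L24529) q2794, e3 q2573 (flp_b L22489) q2320, e3 q2574 (flp_b L24783) q2832, e3 q2575 (flp_b L24789) q2833, e3 q2576 (flp_b L24554) q2798, e3 q2577 (flp_b L24560) q2799, e3 q2578 (flp_b L24568) q2800, e3 q2579 (flp_b L23150) q2646, e3 q2580 (flp_b L24368) q2776, e3 q2581 (flp_b L24574) q2801, e3 q2582 (flp_b L24583) q2802, e3 q2583 (flp_b L24594) q2803, e3 q2584 L22561 q2330, e3 q2585 L22571 q2585, e3 q2586 L22583 q2337, e3 q2587 (flp_b L22585) q2334, e3 q2588 (flp_b L24848) q2842, e3 q2589 (flp_b L23160) q2647, e3 q2590 (flp_b L24150) q2755,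 e3 q2591 (flp_b L22612) q2340, e3 q2592 (flp_b L24862) q2844, e3 q2593 (flp_b L24179) q2758, e3 q2594 L22636 q2343, e3 q2595 L22642 q2595, e3 q2596 L22648 q2596, e3 q2597 L22657 q2597, e3 q2598 L22664 q2347, e3 q2599 L22670 q2348, e3 q2600 (flp_b L24892) q2848, e3 q2601 (flp_b L24899) q2849, e3 q2602 (flp_b L24906) q2850, e3 q2603 L22696 q2603, e3 q2604 L22704 q2604, e3 q2605 L22710 q2605, e3 q2606 (flp_b L24381) q2777, e3 q2607 (flp_b L24404) q2779, e3 q2608 L22728 q2366, e3 q2609 L22737 q2367, e3 q2610 L22749 q2378, e3 q2611 L22764 q2379, e3 q2612 (flp_b L24953) q2856, e3 q2613 (flp_b L24965) q2857, e3 q2614 L22797 q2614, e3 q2615 L22810 q2615, e3 q2616 L22823 q2616, e3 q2617 L22838 q2617, e3 q2618 L22848 q2618, e3 q2619 L22857 q2619, e3 q2620 L22864 q2620, e3 q2621 L22873 q2621, e3 q2622 L25100 q2869, e3 q2623 L22893 q2381, trivial⟩ (by decide +kernel)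

theorem ce_b_41 : ∀ r, r < 64 → sm gb (Qf (2624 + r)) = Qf (tab Gen.b (2624 + r)) :=
  edges_tab (sm gb) Qf (tab Gen.b) 2624 [(2624, 2872), (2625, 2858), (2626, 2380), (2627, 2876), (2628, 2871), (2629, 2446), (2630, 2447), (2631, 2448), (2632, 2449), (2633, 2450), (2634, 2453), (2635, 2543), (2636, 2389), (2637, 2886), (2638, 2396), (2639, 2397), (2640, 2398), (2641, 2399), (2642, 2400), (2643, 2855), (2644, 2402), (2645, 2496), (2646, 2579), (2647, 2589), (2648, 2887), (2649, 2888), (2650, 2889), (2651, 2890), (2652, 2891), (2653, 2892), (2654, 2442), (2655, 2444), (2656, 2894), (2657, 2657), (2658, 2658), (2659, 2479), (2660, 2660), (2661, 2469), (2662, 2471), (2663, 2472), (2664, 2473), (2665, 2474), (2666, 2475), (2667, 2920), (2668, 2477), (2669, 2478), (2670, 2480), (2671, 2481), (2672, 2482), (2673, 2483), (2674, 2484), (2675, 2485), (2676, 2486), (2677, 2426), (2678, 2427), (2679, 2429), (2680, 2424), (2681, 2934), (2682, 2432), (2683, 2859),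 (2684, 2931), (2685, 2428), (2686, 2938), (2687, 2932)]
    ⟨e3 q2624 L25136 q2872, e3 q2625 (flp_b L24976) q2858, e3 q2626 (flp_b L22918) q2380, e3 q2627 (flp_b L25183) q2876, e3 q2628 (flp_b L25129) q2871, e3 q2629 L22946 q2446, e3 q2630 L22958 q2447, e3 q2631 L22968 q2448, e3 q2632 L22984 q2449, e3 q2633 L22996 q2450, e3 q2634 L23009 q2453, e3 q2635 L23028 q2543, e3 q2636 L23034 q2389, e3 q2637 (flp_b L25304) q2886, e3 q2638 L23060 q2396, e3 q2639 L23075 q2397, e3 q2640 L23086 q2398, e3 q2641 L23096 q2399, e3 q2642 L23105 q2400, e3 q2643 (flp_b L24945) q2855, e3 q2644 L23125 q2402, e3 q2645 L23136 q2496, e3 q2646 L23150 q2579, e3 q2647 L23160 q2589, e3 q2648 (flp_b L25318) q2887, e3 q2649 (flp_b L25331) q2888, e3 q2650 (flp_b L25341) q2889, e3 q2651 (flp_b L25354) q2890, e3 q2652 (flp_b L25366) q2891, e3 q2653 (flp_b L25379) q2892, e3 q2654 L23231 q2442, e3 q2655 L23242 q2444, e3 q2656 (flp_b L25399) q2894, e3 q2657 L23261 q2657, e3 q2658 L23271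 q2658, e3 q2659 (flp_b L23289) q2479, e3 q2660 L23295 q2660, e3 q2661 L23302 q2469, e3 q2662 L23312 q2471, e3 q2663 L23320 q2472, e3 q2664 L23328 q2473, e3 q2665 L23339 q2474, e3 q2666 L23345 q2475, e3 q2667 L25675 q2920, e3 q2668 L23363 q2477, e3 q2669 L23369 q2478, e3 q2670 L23377 q2480, e3 q2671 L23386 q2481, e3 q2672 L23393 q2482, e3 q2673 L23399 q2483, e3 q2674 L23408 q2484, e3 q2675 L23416 q2485, e3 q2676 L23424 q2486, e3 q2677 L23432 q2426, e3 q2678 L23441 q2427, e3 q2679 L23452 q2429, e3 q2680 (flp_b L23458) q2424, e3 q2681 (flp_b L25803) q2934, e3 q2682 L23473 q2432, e3 q2683 (flp_b L24992) q2859, e3 q2684 (flp_b L25771) q2931, e3 q2685 (flp_b L23498) q2428, e3 q2686 (flp_b L25842) q2938, e3 q2687 (flp_b L25781) q2932, trivial⟩ (by decide +kernel)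

theorem ce_b_42 : ∀ r, r < 64 → sm gb (Qf (2688 + r)) = Qf (tab Gen.b (2688 + r)) :=
  edges_tab (sm gb) Qf (tab Gen.b) 2688 [(2688, 2688), (2689, 2431), (2690, 2941), (2691, 2434), (2692, 2435), (2693, 2942), (2694, 2694), (2695, 2695), (2696, 2696), (2697, 2441), (2698, 2443), (2699, 2946), (2700, 2947), (2701, 2904), (2702, 2907), (2703, 2908), (2704, 2878), (2705, 2879), (2706, 2881), (2707, 2882), (2708, 2465), (2709, 2883), (2710, 2884), (2711, 2463), (2712, 2466), (2713, 2467), (2714, 2459), (2715, 2460), (2716, 2461), (2717, 2462), (2718, 2464), (2719, 2961), (2720, 2962), (2721, 2963), (2722, 2964), (2723, 2912), (2724, 2954), (2725, 2966), (2726, 2933), (2727, 2959), (2728, 2957), (2729, 2960), (2730, 2913), (2731, 2915), (2732, 2916), (2733, 2917), (2734, 2918), (2735, 2901), (2736, 2919), (2737, 2476), (2738, 2988), (2739, 2989), (2740, 2922), (2741, 2923), (2742, 2924), (2743, 2527), (2744, 2910), (2745, 2925), (2746, 2926), (2747, 2927),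 (2748, 2928), (2749, 2929), (2750, 2930), (2751, 2895)]
    ⟨e3 q2688 L23537 q2688, e3 q2689 L23540 q2431, e3 q2690 (flp_b L25875) q2941, e3 q2691 L23557 q2434, e3 q2692 L23566 q2435, e3 q2693 (flp_b L25883) q2942, e3 q2694 L23587 q2694, e3 q2695 L23596 q2695, e3 q2696 L23605 q2696, e3 q2697 L23617 q2441, e3 q2698 L23630 q2443, e3 q2699 (flp_b L25924) q2946, e3 q2700 (flp_b L25936) q2947, e3 q2701 (flp_b L25512) q2904, e3 q2702 (flp_b L25544) q2907, e3 q2703 (flp_b L25556) q2908, e3 q2704 (flp_b L25202) q2878, e3 q2705 (flp_b L25214) q2879, e3 q2706 (flp_b L25240) q2881, e3 q2707 (flp_b L25252) q2882, e3 q2708 L23739 q2465, e3 q2709 (flp_b L25264) q2883, e3 q2710 (flp_b L25277) q2884, e3 q2711 L23767 q2463, e3 q2712 L23775 q2466, e3 q2713 L23783 q2467, e3 q2714 L23793 q2459, e3 q2715 L23804 q2460, e3 q2716 L23815 q2461, e3 q2717 L23821 q2462, e3 q2718 L23830 q2464, e3 q2719 (flp_b L26086) q2961, e3 q2720 (flp_b L26098) q2962, e3 q2721 (flp_b L26111)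 q2963, e3 q2722 (flp_b L26121) q2964, e3 q2723 (flp_b L25602) q2912, e3 q2724 (flp_b L26019) q2954, e3 q2725 (flp_b L26141) q2966, e3 q2726 (flp_b L25799) q2933, e3 q2727 (flp_b L26068) q2959, e3 q2728 (flp_b L26049) q2957, e3 q2729 (flp_b L26077) q2960, e3 q2730 (flp_b L25612) q2913, e3 q2731 (flp_b L25631) q2915, e3 q2732 (flp_b L25638) q2916, e3 q2733 (flp_b L25646) q2917, e3 q2734 (flp_b L25656) q2918, e3 q2735 L25486 q2901, e3 q2736 (flp_b L25669) q2919, e3 q2737 (flp_b L24009) q2476, e3 q2738 (flp_b L26341) q2988, e3 q2739 (flp_b L26346) q2989, e3 q2740 (flp_b L25693) q2922, e3 q2741 (flp_b L25701) q2923, e3 q2742 (flp_b L25709) q2924, e3 q2743 L24046 q2527, e3 q2744 (flp_b L25580) q2910, e3 q2745 (flp_b L25715) q2925, e3 q2746 (flp_b L25727) q2926, e3 q2747 (flp_b L25738) q2927, e3 q2748 (flp_b L25746) q2928, e3 q2749 (flp_b L25755) q2929, e3 q2750 (flp_b L25764) q2930, e3 q2751 (flp_b L25411) q2895, trivial⟩ (by decide +kernel)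

theorem ce_b_43 : ∀ r, r < 64 → sm gb (Qf (2752 + r)) = Qf (tab Gen.b (2752 + r)) :=
  edges_tab (sm gb) Qf (tab Gen.b) 2752 [(2752, 2490), (2753, 2492), (2754, 2754), (2755, 2590), (2756, 2499), (2757, 3005), (2758, 2593), (2759, 2554), (2760, 2555), (2761, 2556), (2762, 2557), (2763, 3009), (2764, 2560), (2765, 2510), (2766, 2508), (2767, 3013), (2768, 2513), (2769, 3012), (2770, 2770), (2771, 2512), (2772, 3016), (2773, 2519), (2774, 2520), (2775, 2571), (2776, 2580), (2777, 2606), (2778, 2569), (2779, 2607), (2780, 2984), (2781, 2552), (2782, 3017), (2783, 2553), (2784, 2784), (2785, 2996), (2786, 2786), (2787, 2997), (2788, 2788), (2789, 3031), (2790, 2570), (2791, 2558), (2792, 2563), (2793, 2880), (2794, 2572), (2795, 2534), (2796, 3039), (2797, 3040), (2798, 2576), (2799, 2577), (2800, 2578), (2801, 2581), (2802, 2582), (2803, 2583), (2804, 2885), (2805, 2548), (2806, 2975), (2807, 2546), (2808, 3050), (2809, 2809), (2810, 2551), (2811, 3026),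 (2812, 3007), (2813, 3008), (2814, 3034), (2815, 3035)]
    ⟨e3 q2752 L24117 q2490, e3 q2753 L24128 q2492, e3 q2754 L24141 q2754, e3 q2755 L24150 q2590, e3 q2756 (flp_b L24158) q2499, e3 q2757 (flp_b L26472) q3005, e3 q2758 L24179 q2593, e3 q2759 L24190 q2554, e3 q2760 L24202 q2555, e3 q2761 L24215 q2556, e3 q2762 L24227 q2557, e3 q2763 L26513 q3009, e3 q2764 L24249 q2560, e3 q2765 L24259 q2510, e3 q2766 (flp_b L24267) q2508, e3 q2767 (flp_b L26558) q3013, e3 q2768 L24288 q2513, e3 q2769 (flp_b L26547) q3012, e3 q2770 L24310 q2770, e3 q2771 L24313 q2512, e3 q2772 (flp_b L26586) q3016, e3 q2773 L24331 q2519, e3 q2774 L24343 q2520, e3 q2775 L24356 q2571, e3 q2776 L24368 q2580, e3 q2777 L24381 q2606, e3 q2778 L24392 q2569, e3 q2779 L24404 q2607, e3 q2780 (flp_b L26313) q2984, e3 q2781 L24424 q2552, e3 q2782 (flp_b L26595) q3017, e3 q2783 L24442 q2553, e3 q2784 L24455 q2784, e3 q2785 (flp_b L26396) q2996, e3 q2786 L24473 q2786, e3 q2787 (flp_b L26405) q2997,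 e3 q2788 L24490 q2788, e3 q2789 L26738 q3031, e3 q2790 L24502 q2570, e3 q2791 L24508 q2558, e3 q2792 L24514 q2563, e3 q2793 (flp_b L25232) q2880, e3 q2794 L24529 q2572, e3 q2795 (flp_b L24535) q2534, e3 q2796 (flp_b L26795) q3039, e3 q2797 (flp_b L26802) q3040, e3 q2798 L24554 q2576, e3 q2799 L24560 q2577, e3 q2800 L24568 q2578, e3 q2801 L24574 q2581, e3 q2802 L24583 q2582, e3 q2803 L24594 q2583, e3 q2804 (flp_b L25291) q2885, e3 q2805 L24609 q2548, e3 q2806 (flp_b L26235) q2975, e3 q2807 L24625 q2546, e3 q2808 (flp_b L26876) q3050, e3 q2809 L24640 q2809, e3 q2810 L24648 q2551, e3 q2811 (flp_b L26696) q3026, e3 q2812 (flp_b L26493) q3007, e3 q2813 (flp_b L26505) q3008, e3 q2814 (flp_b L26758) q3034, e3 q2815 (flp_b L26765) q3035, trivial⟩ (by decide +kernel)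

theorem ce_b_44 : ∀ r, r < 64 → sm gb (Qf (2816 + r)) = Qf (tab Gen.b (2816 + r)) :=
  edges_tab (sm gb) Qf (tab Gen.b) 2816 [(2816, 2565), (2817, 3011), (2818, 2564), (2819, 3059), (2820, 3058), (2821, 2567), (2822, 2568), (2823, 3062), (2824, 3063), (2825, 3020), (2826, 3023), (2827, 3033), (2828, 2896), (2829, 3019), (2830, 3037), (2831, 3044), (2832, 2574), (2833, 2575), (2834, 3072), (2835, 3073), (2836, 3074), (2837, 3045), (2838, 3046), (2839, 2897), (2840, 3047), (2841, 2898), (2842, 2588), (2843, 3004), (2844, 2592), (2845, 3079), (2846, 2846), (2847, 2847), (2848, 2600), (2849, 2601), (2850, 2602), (2851, 3081), (2852, 3082), (2853, 2853), (2854, 3021), (2855, 2643), (2856, 2612), (2857, 2613), (2858, 2625), (2859, 2683), (2860, 3086), (2861, 3087), (2862, 2862), (2863, 2863), (2864, 2864), (2865, 2865), (2866, 2866), (2867, 2867), (2868, 2868), (2869, 2622), (2870, 3097), (2871, 2628), (2872, 2624), (2873, 3099), (2874, 3088), (2875, 2875),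 (2876, 2627), (2877, 3102), (2878, 2704), (2879, 2705)]
    ⟨e3 q2816 L24691 q2565, e3 q2817 (flp_b L26537) q3011, e3 q2818 (flp_b L24701) q2564, e3 q2819 (flp_b L26945) q3059, e3 q2820 (flp_b L26939) q3058, e3 q2821 L24719 q2567, e3 q2822 (flp_b L24724) q2568, e3 q2823 (flp_b L26965) q3062, e3 q2824 (flp_b L26972) q3063, e3 q2825 (flp_b L26630) q3020, e3 q2826 (flp_b L26665) q3023, e3 q2827 (flp_b L26752) q3033, e3 q2828 (flp_b L25423) q2896, e3 q2829 (flp_b L26618) q3019, e3 q2830 (flp_b L26781) q3037, e3 q2831 (flp_b L26828) q3044, e3 q2832 L24783 q2574, e3 q2833 L24789 q2575, e3 q2834 (flp_b L27030) q3072, e3 q2835 (flp_b L27036) q3073, e3 q2836 (flp_b L27044) q3074, e3 q2837 (flp_b L26834) q3045, e3 q2838 (flp_b L26842) q3046, e3 q2839 (flp_b L25433) q2897, e3 q2840 (flp_b L26850) q3047, e3 q2841 (flp_b L25445) q2898, e3 q2842 L24848 q2588, e3 q2843 (flp_b L26462) q3004, e3 q2844 L24862 q2592, e3 q2845 (flp_b L27074) q3079, e3 q2846 L24877 q2846,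 e3 q2847 L24884 q2847, e3 q2848 L24892 q2600, e3 q2849 L24899 q2601, e3 q2850 L24906 q2602, e3 q2851 (flp_b L27086) q3081, e3 q2852 (flp_b L27094) q3082, e3 q2853 L24927 q2853, e3 q2854 (flp_b L26640) q3021, e3 q2855 L24945 q2643, e3 q2856 L24953 q2612, e3 q2857 L24965 q2613, e3 q2858 L24976 q2625, e3 q2859 L24992 q2683, e3 q2860 (flp_b L27127) q3086, e3 q2861 (flp_b L27140) q3087, e3 q2862 L25025 q2862, e3 q2863 L25039 q2863, e3 q2864 L25053 q2864, e3 q2865 L25064 q2865, e3 q2866 L25075 q2866, e3 q2867 L25085 q2867, e3 q2868 L25093 q2868, e3 q2869 (flp_b L25100) q2622, e3 q2870 (flp_b L27263) q3097, e3 q2871 L25129 q2628, e3 q2872 (flp_b L25136) q2624, e3 q2873 (flp_b L27292) q3099, e3 q2874 (flp_b L27151) q3088, e3 q2875 L25180 q2875, e3 q2876 L25183 q2627, e3 q2877 (flp_b L27328) q3102, e3 q2878 L25202 q2704, e3 q2879 L25214 q2705, trivial⟩ (by decide +kernel)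

theorem ce_b_45 : ∀ r, r < 64 → sm gb (Qf (2880 + r)) = Qf (tab Gen.b (2880 + r)) :=
  edges_tab (sm gb) Qf (tab Gen.b) 2880 [(2880, 2793), (2881, 2706), (2882, 2707), (2883, 2709), (2884, 2710), (2885, 2804), (2886, 2637), (2887, 2648), (2888, 2649), (2889, 2650), (2890, 2651), (2891, 2652), (2892, 2653), (2893, 3085), (2894, 2656), (2895, 2751), (2896, 2828), (2897, 2839), (2898, 2841), (2899, 3113), (2900, 3114), (2901, 2735), (2902, 3116), (2903, 3117), (2904, 2701), (2905, 3118), (2906, 3119), (2907, 2702), (2908, 2703), (2909, 2909), (2910, 2744), (2911, 2911), (2912, 2723), (2913, 2730), (2914, 3138), (2915, 2731), (2916, 2732), (2917, 2733), (2918, 2734), (2919, 2736), (2920, 2667), (2921, 3147), (2922, 2740), (2923, 2741), (2924, 2742), (2925, 2745), (2926, 2746), (2927, 2747), (2928, 2748), (2929, 2749), (2930, 2750), (2931, 2684), (2932, 2687), (2933, 2726), (2934, 2681), (2935, 3158), (2936, 3089), (2937, 3156), (2938, 2686), (2939, 3161),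 (2940, 2940), (2941, 2690), (2942, 2693), (2943, 3163)]
    ⟨e3 q2880 L25232 q2793, e3 q2881 L25240 q2706, e3 q2882 L25252 q2707, e3 q2883 L25264 q2709, e3 q2884 L25277 q2710, e3 q2885 L25291 q2804, e3 q2886 L25304 q2637, e3 q2887 L25318 q2648, e3 q2888 L25331 q2649, e3 q2889 L25341 q2650, e3 q2890 L25354 q2651, e3 q2891 L25366 q2652, e3 q2892 L25379 q2653, e3 q2893 (flp_b L27114) q3085, e3 q2894 L25399 q2656, e3 q2895 L25411 q2751, e3 q2896 L25423 q2828, e3 q2897 L25433 q2839, e3 q2898 L25445 q2841, e3 q2899 (flp_b L27470) q3113, e3 q2900 (flp_b L27486) q3114, e3 q2901 (flp_b L25486) q2735, e3 q2902 (flp_b L27516) q3116, e3 q2903 (flp_b L27532) q3117, e3 q2904 L25512 q2701, e3 q2905 (flp_b L27542) q3118, e3 q2906 (flp_b L27556) q3119, e3 q2907 L25544 q2702, e3 q2908 L25556 q2703, e3 q2909 L25568 q2909, e3 q2910 L25580 q2744, e3 q2911 L25594 q2911, e3 q2912 L25602 q2723, e3 q2913 L25612 q2730, e3 q2914 L27801 q3138, e3 q2915 L25631 q2731, e3 q2916 L25638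 q2732, e3 q2917 L25646 q2733, e3 q2918 L25656 q2734, e3 q2919 L25669 q2736, e3 q2920 (flp_b L25675) q2667, e3 q2921 (flp_b L27904) q3147, e3 q2922 L25693 q2740, e3 q2923 L25701 q2741, e3 q2924 L25709 q2742, e3 q2925 L25715 q2745, e3 q2926 L25727 q2746, e3 q2927 L25738 q2747, e3 q2928 L25746 q2748, e3 q2929 L25755 q2749, e3 q2930 L25764 q2750, e3 q2931 L25771 q2684, e3 q2932 L25781 q2687, e3 q2933 L25799 q2726, e3 q2934 L25803 q2681, e3 q2935 (flp_b L28015) q3158, e3 q2936 (flp_b L27167) q3089, e3 q2937 (flp_b L27990) q3156, e3 q2938 L25842 q2686, e3 q2939 (flp_b L28041) q3161, e3 q2940 L25866 q2940, e3 q2941 L25875 q2690, e3 q2942 L25883 q2693, e3 q2943 (flp_b L28063) q3163, trivial⟩ (by decide +kernel)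

theorem ce_b_46 : ∀ r, r < 64 → sm gb (Qf (2944 + r)) = Qf (tab Gen.b (2944 + r)) :=
  edges_tab (sm gb) Qf (tab Gen.b) 2944 [(2944, 2944), (2945, 2945), (2946, 2699), (2947, 2700), (2948, 3130), (2949, 3166), (2950, 3133), (2951, 3135), (2952, 3105), (2953, 3106), (2954, 2724), (2955, 3109), (2956, 3110), (2957, 2728), (2958, 3111), (2959, 2727), (2960, 2729), (2961, 2719), (2962, 2720), (2963, 2721), (2964, 2722), (2965, 3124), (2966, 2725), (2967, 3115), (2968, 3177), (2969, 3146), (2970, 3178), (2971, 3123), (2972, 3137), (2973, 3172), (2974, 3180), (2975, 2806), (2976, 3157), (2977, 3176), (2978, 3174), (2979, 3140), (2980, 3141), (2981, 3142), (2982, 3143), (2983, 3144), (2984, 2780), (2985, 3129), (2986, 3145), (2987, 3121), (2988, 2738), (2989, 2739), (2990, 3201), (2991, 3202), (2992, 3203), (2993, 3149), (2994, 3150), (2995, 3151), (2996, 2785), (2997, 2787), (2998, 3136), (2999, 3152), (3000, 3153), (3001, 3154), (3002, 3155), (3003, 3122),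 (3004, 2843), (3005, 2757), (3006, 3216), (3007, 2812)]
    ⟨e3 q2944 L25903 q2944, e3 q2945 L25913 q2945, e3 q2946 L25924 q2699, e3 q2947 L25936 q2700, e3 q2948 (flp_b L27706) q3130, e3 q2949 (flp_b L28091) q3166, e3 q2950 (flp_b L27742) q3133, e3 q2951 (flp_b L27767) q3135, e3 q2952 (flp_b L27360) q3105, e3 q2953 (flp_b L27375) q3106, e3 q2954 L26019 q2724, e3 q2955 (flp_b L27416) q3109, e3 q2956 (flp_b L27430) q3110, e3 q2957 L26049 q2728, e3 q2958 (flp_b L27442) q3111, e3 q2959 L26068 q2727, e3 q2960 L26077 q2729, e3 q2961 L26086 q2719, e3 q2962 L26098 q2720, e3 q2963 L26111 q2721, e3 q2964 L26121 q2722, e3 q2965 (flp_b L27622) q3124, e3 q2966 L26141 q2725, e3 q2967 (flp_b L27507) q3115, e3 q2968 (flp_b L28213) q3177, e3 q2969 (flp_b L27900) q3146, e3 q2970 (flp_b L28223) q3178, e3 q2971 (flp_b L27613) q3123, e3 q2972 (flp_b L27793) q3137, e3 q2973 (flp_b L28163) q3172, e3 q2974 (flp_b L28242) q3180, e3 q2975 L26235 q2806, e3 q2976 (flp_b L28003)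 q3157, e3 q2977 (flp_b L28201) q3176, e3 q2978 (flp_b L28183) q3174, e3 q2979 (flp_b L27827) q3140, e3 q2980 (flp_b L27840) q3141, e3 q2981 (flp_b L27847) q3142, e3 q2982 (flp_b L27857) q3143, e3 q2983 (flp_b L27870) q3144, e3 q2984 L26313 q2780, e3 q2985 (flp_b L27690) q3129, e3 q2986 (flp_b L27880) q3145, e3 q2987 (flp_b L27577) q3121, e3 q2988 L26341 q2738, e3 q2989 L26346 q2739, e3 q2990 (flp_b L28468) q3201, e3 q2991 (flp_b L28481) q3202, e3 q2992 (flp_b L28488) q3203, e3 q2993 (flp_b L27922) q3149, e3 q2994 (flp_b L27936) q3150, e3 q2995 (flp_b L27946) q3151, e3 q2996 L26396 q2785, e3 q2997 L26405 q2787, e3 q2998 (flp_b L27780) q3136, e3 q2999 (flp_b L27954) q3152, e3 q3000 (flp_b L27966) q3153, e3 q3001 (flp_b L27975) q3154, e3 q3002 (flp_b L27982) q3155, e3 q3003 (flp_b L27593) q3122, e3 q3004 L26462 q2843, e3 q3005 L26472 q2757, e3 q3006 (flp_b L28591) q3216, e3 q3007 L26493 q2812, trivial⟩ (by decide +kernel)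

theorem ce_b_47 : ∀ r, r < 64 → sm gb (Qf (3008 + r)) = Qf (tab Gen.b (3008 + r)) :=
  edges_tab (sm gb) Qf (tab Gen.b) 3008 [(3008, 2813), (3009, 2763), (3010, 3220), (3011, 2817), (3012, 2769), (3013, 2767), (3014, 3222), (3015, 3015), (3016, 2772), (3017, 2782), (3018, 3107), (3019, 2829), (3020, 2825), (3021, 2854), (3022, 3197), (3023, 2826), (3024, 3104), (3025, 3198), (3026, 2811), (3027, 3225), (3028, 3210), (3029, 3029), (3030, 3211), (3031, 2789), (3032, 3236), (3033, 2827), (3034, 2814), (3035, 2815), (3036, 3108), (3037, 2830), (3038, 3183), (3039, 2796), (3040, 2797), (3041, 3192), (3042, 3242), (3043, 3243), (3044, 2831), (3045, 2837), (3046, 2838), (3047, 2840), (3048, 3112), (3049, 3189), (3050, 2808), (3051, 3251), (3052, 3052), (3053, 3233), (3054, 3218), (3055, 3219), (3056, 3238), (3057, 3239), (3058, 2820), (3059, 2819), (3060, 3254), (3061, 3126), (3062, 2823), (3063, 2824), (3064, 3204), (3065, 3256), (3066, 3257), (3067, 3228),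 (3068, 3230), (3069, 3125), (3070, 3227), (3071, 3247)]
    ⟨e3 q3008 L26505 q2813, e3 q3009 (flp_b L26513) q2763, e3 q3010 (flp_b L28636) q3220, e3 q3011 L26537 q2817, e3 q3012 L26547 q2769, e3 q3013 L26558 q2767, e3 q3014 (flp_b L28656) q3222, e3 q3015 L26579 q3015, e3 q3016 L26586 q2772, e3 q3017 L26595 q2782, e3 q3018 (flp_b L27387) q3107, e3 q3019 L26618 q2829, e3 q3020 L26630 q2825, e3 q3021 L26640 q2854, e3 q3022 (flp_b L28428) q3197, e3 q3023 L26665 q2826, e3 q3024 (flp_b L27351) q3104, e3 q3025 (flp_b L28442) q3198, e3 q3026 L26696 q2811, e3 q3027 (flp_b L28686) q3225, e3 q3028 (flp_b L28546) q3210, e3 q3029 L26723 q3029, e3 q3030 (flp_b L28556) q3211, e3 q3031 (flp_b L26738) q2789, e3 q3032 (flp_b L28807) q3236, e3 q3033 L26752 q2827, e3 q3034 L26758 q2814, e3 q3035 L26765 q2815, e3 q3036 (flp_b L27402) q3108, e3 q3037 L26781 q2830, e3 q3038 (flp_b L28275) q3183, e3 q3039 L26795 q2796, e3 q3040 L26802 q2797, e3 q3041 (flp_b L28375) q3192,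 e3 q3042 (flp_b L28851) q3242, e3 q3043 (flp_b L28860) q3243, e3 q3044 L26828 q2831, e3 q3045 L26834 q2837, e3 q3046 L26842 q2838, e3 q3047 L26850 q2840, e3 q3048 (flp_b L27456) q3112, e3 q3049 (flp_b L28348) q3189, e3 q3050 L26876 q2808, e3 q3051 (flp_b L28914) q3251, e3 q3052 L26889 q3052, e3 q3053 (flp_b L28778) q3233, e3 q3054 (flp_b L28610) q3218, e3 q3055 (flp_b L28624) q3219, e3 q3056 (flp_b L28820) q3238, e3 q3057 (flp_b L28829) q3239, e3 q3058 L26939 q2820, e3 q3059 L26945 q2819, e3 q3060 (flp_b L28929) q3254, e3 q3061 (flp_b L27647) q3126, e3 q3062 L26965 q2823, e3 q3063 L26972 q2824, e3 q3064 (flp_b L28496) q3204, e3 q3065 (flp_b L28941) q3256, e3 q3066 (flp_b L28948) q3257, e3 q3067 (flp_b L28725) q3228, e3 q3068 (flp_b L28747) q3230, e3 q3069 (flp_b L27637) q3125, e3 q3070 (flp_b L28711) q3227, e3 q3071 (flp_b L28885) q3247, trivial⟩ (by decide +kernel)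

theorem ce_b_48 : ∀ r, r < 64 → sm gb (Qf (3072 + r)) = Qf (tab Gen.b (3072 + r)) :=
  edges_tab (sm gb) Qf (tab Gen.b) 3072 [(3072, 2834), (3073, 2835), (3074, 2836), (3075, 3263), (3076, 3264), (3077, 3248), (3078, 3127), (3079, 2845), (3080, 3080), (3081, 2851), (3082, 2852), (3083, 3267), (3084, 3268), (3085, 2893), (3086, 2860), (3087, 2861), (3088, 2874), (3089, 2936), (3090, 3271), (3091, 3091), (3092, 3092), (3093, 3093), (3094, 3094), (3095, 3095), (3096, 3096), (3097, 2870), (3098, 3278), (3099, 2873), (3100, 3279), (3101, 3101), (3102, 2877), (3103, 3282), (3104, 3024), (3105, 2952), (3106, 2953), (3107, 3018), (3108, 3036), (3109, 2955), (3110, 2956), (3111, 2958), (3112, 3048), (3113, 2899), (3114, 2900), (3115, 2967), (3116, 2902), (3117, 2903), (3118, 2905), (3119, 2906), (3120, 3270), (3121, 2987), (3122, 3003), (3123, 2971), (3124, 2965), (3125, 3069), (3126, 3061), (3127, 3078), (3128, 3292), (3129, 2985), (3130, 2948), (3131, 3294),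 (3132, 3295), (3133, 2950), (3134, 3296), (3135, 2951)]
    ⟨e3 q3072 L27030 q2834, e3 q3073 L27036 q2835, e3 q3074 L27044 q2836, e3 q3075 (flp_b L28985) q3263, e3 q3076 (flp_b L28993) q3264, e3 q3077 (flp_b L28893) q3248, e3 q3078 (flp_b L27663) q3127, e3 q3079 L27074 q2845, e3 q3080 L27080 q3080, e3 q3081 L27086 q2851, e3 q3082 L27094 q2852, e3 q3083 (flp_b L29009) q3267, e3 q3084 (flp_b L29018) q3268, e3 q3085 L27114 q2893, e3 q3086 L27127 q2860, e3 q3087 L27140 q2861, e3 q3088 L27151 q2874, e3 q3089 L27167 q2936, e3 q3090 (flp_b L29042) q3271, e3 q3091 L27192 q3091, e3 q3092 L27206 q3092, e3 q3093 L27221 q3093, e3 q3094 L27235 q3094, e3 q3095 L27246 q3095, e3 q3096 L27254 q3096, e3 q3097 L27263 q2870, e3 q3098 (flp_b L29127) q3278, e3 q3099 L27292 q2873, e3 q3100 (flp_b L29143) q3279, e3 q3101 L27317 q3101, e3 q3102 L27328 q2877, e3 q3103 (flp_b L29179) q3282, e3 q3104 L27351 q3024, e3 q3105 L27360 q2952, e3 q3106 L27375 q2953, e3 q3107 L27387 q3018,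 e3 q3108 L27402 q3036, e3 q3109 L27416 q2955, e3 q3110 L27430 q2956, e3 q3111 L27442 q2958, e3 q3112 L27456 q3048, e3 q3113 L27470 q2899, e3 q3114 L27486 q2900, e3 q3115 L27507 q2967, e3 q3116 L27516 q2902, e3 q3117 L27532 q2903, e3 q3118 L27542 q2905, e3 q3119 L27556 q2906, e3 q3120 (flp_b L29029) q3270, e3 q3121 L27577 q2987, e3 q3122 L27593 q3003, e3 q3123 L27613 q2971, e3 q3124 L27622 q2965, e3 q3125 L27637 q3069, e3 q3126 L27647 q3061, e3 q3127 L27663 q3078, e3 q3128 (flp_b L29307) q3292, e3 q3129 L27690 q2985, e3 q3130 L27706 q2948, e3 q3131 (flp_b L29338) q3294, e3 q3132 (flp_b L29354) q3295, e3 q3133 L27742 q2950, e3 q3134 (flp_b L29366) q3296, e3 q3135 L27767 q2951, trivial⟩ (by decide +kernel)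

theorem ce_b_49 : ∀ r, r < 64 → sm gb (Qf (3136 + r)) = Qf (tab Gen.b (3136 + r)) :=
  edges_tab (sm gb) Qf (tab Gen.b) 3136 [(3136, 2998), (3137, 2972), (3138, 2914), (3139, 3310), (3140, 2979), (3141, 2980), (3142, 2981), (3143, 2982), (3144, 2983), (3145, 2986), (3146, 2969), (3147, 2921), (3148, 3317), (3149, 2993), (3150, 2994), (3151, 2995), (3152, 2999), (3153, 3000), (3154, 3001), (3155, 3002), (3156, 2937), (3157, 2976), (3158, 2935), (3159, 3326), (3160, 3272), (3161, 2939), (3162, 3162), (3163, 2943), (3164, 3164), (3165, 3165), (3166, 2949), (3167, 3304), (3168, 3329), (3169, 3306), (3170, 3285), (3171, 3286), (3172, 2973), (3173, 3289), (3174, 2978), (3175, 3290), (3176, 2977), (3177, 2968), (3178, 2970), (3179, 3299), (3180, 2974), (3181, 3293), (3182, 3337), (3183, 3038), (3184, 3316), (3185, 3338), (3186, 3298), (3187, 3309), (3188, 3333), (3189, 3049), (3190, 3325), (3191, 3335), (3192, 3041), (3193, 3312), (3194, 3313), (3195, 3314),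 (3196, 3315), (3197, 3022), (3198, 3025), (3199, 3303)]
    ⟨e3 q3136 L27780 q2998, e3 q3137 L27793 q2972, e3 q3138 (flp_b L27801) q2914, e3 q3139 (flp_b L29560) q3310, e3 q3140 L27827 q2979, e3 q3141 L27840 q2980, e3 q3142 L27847 q2981, e3 q3143 L27857 q2982, e3 q3144 L27870 q2983, e3 q3145 L27880 q2986, e3 q3146 L27900 q2969, e3 q3147 L27904 q2921, e3 q3148 (flp_b L29647) q3317, e3 q3149 L27922 q2993, e3 q3150 L27936 q2994, e3 q3151 L27946 q2995, e3 q3152 L27954 q2999, e3 q3153 L27966 q3000, e3 q3154 L27975 q3001, e3 q3155 L27982 q3002, e3 q3156 L27990 q2937, e3 q3157 L28003 q2976, e3 q3158 L28015 q2935, e3 q3159 (flp_b L29737) q3326, e3 q3160 (flp_b L29056) q3272, e3 q3161 L28041 q2939, e3 q3162 L28054 q3162, e3 q3163 L28063 q2943, e3 q3164 L28072 q3164, e3 q3165 L28082 q3165, e3 q3166 L28091 q2949, e3 q3167 (flp_b L29481) q3304, e3 q3168 (flp_b L29762) q3329, e3 q3169 (flp_b L29507) q3306, e3 q3170 (flp_b L29213) q3285, e3 q3171 (flp_b L29228) q3286,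 e3 q3172 L28163 q2973, e3 q3173 (flp_b L29269) q3289, e3 q3174 L28183 q2978, e3 q3175 (flp_b L29281) q3290, e3 q3176 L28201 q2977, e3 q3177 L28213 q2968, e3 q3178 L28223 q2970, e3 q3179 (flp_b L29412) q3299, e3 q3180 L28242 q2974, e3 q3181 (flp_b L29323) q3293, e3 q3182 (flp_b L29847) q3337, e3 q3183 L28275 q3038, e3 q3184 (flp_b L29633) q3316, e3 q3185 (flp_b L29859) q3338, e3 q3186 (flp_b L29397) q3298, e3 q3187 (flp_b L29546) q3309, e3 q3188 (flp_b L29809) q3333, e3 q3189 L28348 q3049, e3 q3190 (flp_b L29724) q3325, e3 q3191 (flp_b L29827) q3335, e3 q3192 L28375 q3041, e3 q3193 (flp_b L29583) q3312, e3 q3194 (flp_b L29596) q3313, e3 q3195 (flp_b L29606) q3314, e3 q3196 (flp_b L29619) q3315, e3 q3197 L28428 q3022, e3 q3198 L28442 q3025, e3 q3199 (flp_b L29467) q3303, trivial⟩ (by decide +kernel)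

theorem ce_b_50 : ∀ r, r < 64 → sm gb (Qf (3200 + r)) = Qf (tab Gen.b (3200 + r)) :=
  edges_tab (sm gb) Qf (tab Gen.b) 3200 [(3200, 3297), (3201, 2990), (3202, 2991), (3203, 2992), (3204, 3064), (3205, 3356), (3206, 3357), (3207, 3319), (3208, 3320), (3209, 3321), (3210, 3028), (3211, 3030), (3212, 3308), (3213, 3322), (3214, 3323), (3215, 3368), (3216, 3006), (3217, 3369), (3218, 3054), (3219, 3055), (3220, 3010), (3221, 3370), (3222, 3014), (3223, 3372), (3224, 3224), (3225, 3027), (3226, 3287), (3227, 3070), (3228, 3067), (3229, 3352), (3230, 3068), (3231, 3284), (3232, 3353), (3233, 3053), (3234, 3364), (3235, 3365), (3236, 3032), (3237, 3378), (3238, 3056), (3239, 3057), (3240, 3288), (3241, 3341), (3242, 3042), (3243, 3043), (3244, 3348), (3245, 3383), (3246, 3384), (3247, 3071), (3248, 3077), (3249, 3291), (3250, 3345), (3251, 3051), (3252, 3367), (3253, 3380), (3254, 3060), (3255, 3301), (3256, 3065), (3257, 3066), (3258, 3358), (3259, 3391),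 (3260, 3374), (3261, 3300), (3262, 3388), (3263, 3075)]
    ⟨e3 q3200 (flp_b L29381) q3297, e3 q3201 L28468 q2990, e3 q3202 L28481 q2991, e3 q3203 L28488 q2992, e3 q3204 L28496 q3064, e3 q3205 (flp_b L30051) q3356, e3 q3206 (flp_b L30064) q3357, e3 q3207 (flp_b L29663) q3319, e3 q3208 (flp_b L29677) q3320, e3 q3209 (flp_b L29685) q3321, e3 q3210 L28546 q3028, e3 q3211 L28556 q3030, e3 q3212 (flp_b L29533) q3308, e3 q3213 (flp_b L29693) q3322, e3 q3214 (flp_b L29706) q3323, e3 q3215 L30152 q3368, e3 q3216 L28591 q3006, e3 q3217 (flp_b L30160) q3369, e3 q3218 L28610 q3054, e3 q3219 L28624 q3055, e3 q3220 L28636 q3010, e3 q3221 (flp_b L30167) q3370, e3 q3222 L28656 q3014, e3 q3223 (flp_b L30185) q3372, e3 q3224 L28676 q3224, e3 q3225 L28686 q3027, e3 q3226 (flp_b L29242) q3287, e3 q3227 L28711 q3070, e3 q3228 L28725 q3067, e3 q3229 (flp_b L30013) q3352, e3 q3230 L28747 q3068, e3 q3231 (flp_b L29198) q3284, e3 q3232 (flp_b L30027) q3353, e3 q3233 L28778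 q3053, e3 q3234 (flp_b L30116) q3364, e3 q3235 (flp_b L30127) q3365, e3 q3236 L28807 q3032, e3 q3237 (flp_b L30248) q3378, e3 q3238 L28820 q3056, e3 q3239 L28829 q3057, e3 q3240 (flp_b L29257) q3288, e3 q3241 (flp_b L29893) q3341, e3 q3242 L28851 q3042, e3 q3243 L28860 q3043, e3 q3244 (flp_b L29973) q3348, e3 q3245 (flp_b L30283) q3383, e3 q3246 (flp_b L30291) q3384, e3 q3247 L28885 q3071, e3 q3248 L28893 q3077, e3 q3249 (flp_b L29294) q3291, e3 q3250 (flp_b L29939) q3345, e3 q3251 L28914 q3051, e3 q3252 L30150 q3367, e3 q3253 (flp_b L30261) q3380, e3 q3254 L28929 q3060, e3 q3255 (flp_b L29439) q3301, e3 q3256 L28941 q3065, e3 q3257 L28948 q3066, e3 q3258 (flp_b L30072) q3358, e3 q3259 (flp_b L30329) q3391, e3 q3260 (flp_b L30206) q3374, e3 q3261 (flp_b L29427) q3300, e3 q3262 (flp_b L30312) q3388, e3 q3263 L28985 q3075, trivial⟩ (by decide +kernel)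

theorem ce_b_51 : ∀ r, r < 64 → sm gb (Qf (3264 + r)) = Qf (tab Gen.b (3264 + r)) :=
  edges_tab (sm gb) Qf (tab Gen.b) 3264 [(3264, 3076), (3265, 3394), (3266, 3395), (3267, 3083), (3268, 3084), (3269, 3397), (3270, 3120), (3271, 3090), (3272, 3160), (3273, 3400), (3274, 3274), (3275, 3275), (3276, 3276), (3277, 3399), (3278, 3098), (3279, 3100), (3280, 3403), (3281, 3281), (3282, 3103), (3283, 3401), (3284, 3231), (3285, 3170), (3286, 3171), (3287, 3226), (3288, 3240), (3289, 3173), (3290, 3175), (3291, 3249), (3292, 3128), (3293, 3181), (3294, 3131), (3295, 3132), (3296, 3134), (3297, 3200), (3298, 3186), (3299, 3179), (3300, 3261), (3301, 3255), (3302, 3412), (3303, 3199), (3304, 3167), (3305, 3414), (3306, 3169), (3307, 3415), (3308, 3212), (3309, 3187), (3310, 3139), (3311, 3424), (3312, 3193), (3313, 3194), (3314, 3195), (3315, 3196), (3316, 3184), (3317, 3148), (3318, 3430), (3319, 3207), (3320, 3208), (3321, 3209), (3322, 3213), (3323, 3214),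 (3324, 3437), (3325, 3190), (3326, 3159), (3327, 3435)]
    ⟨e3 q3264 L28993 q3076, e3 q3265 (flp_b L30350) q3394, e3 q3266 (flp_b L30356) q3395, e3 q3267 L29009 q3083, e3 q3268 L29018 q3084, e3 q3269 (flp_b L30368) q3397, e3 q3270 L29029 q3120, e3 q3271 L29042 q3090, e3 q3272 L29056 q3160, e3 q3273 (flp_b L30394) q3400, e3 q3274 L29081 q3274, e3 q3275 L29097 q3275, e3 q3276 L29108 q3276, e3 q3277 (flp_b L30382) q3399, e3 q3278 L29127 q3098, e3 q3279 L29143 q3100, e3 q3280 L30447 q3403, e3 q3281 L29168 q3281, e3 q3282 L29179 q3103, e3 q3283 (flp_b L30407) q3401, e3 q3284 L29198 q3231, e3 q3285 L29213 q3170, e3 q3286 L29228 q3171, e3 q3287 L29242 q3226, e3 q3288 L29257 q3240, e3 q3289 L29269 q3173, e3 q3290 L29281 q3175, e3 q3291 L29294 q3249, e3 q3292 L29307 q3128, e3 q3293 L29323 q3181, e3 q3294 L29338 q3131, e3 q3295 L29354 q3132, e3 q3296 L29366 q3134, e3 q3297 L29381 q3200, e3 q3298 L29397 q3186, e3 q3299 L29412 q3179, e3 q3300 L29427 q3261, e3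 q3301 L29439 q3255, e3 q3302 (flp_b L30567) q3412, e3 q3303 L29467 q3199, e3 q3304 L29481 q3167, e3 q3305 (flp_b L30601) q3414, e3 q3306 L29507 q3169, e3 q3307 (flp_b L30617) q3415, e3 q3308 L29533 q3212, e3 q3309 L29546 q3187, e3 q3310 L29560 q3139, e3 q3311 (flp_b L30759) q3424, e3 q3312 L29583 q3193, e3 q3313 L29596 q3194, e3 q3314 L29606 q3195, e3 q3315 L29619 q3196, e3 q3316 L29633 q3184, e3 q3317 L29647 q3148, e3 q3318 (flp_b L30835) q3430, e3 q3319 L29663 q3207, e3 q3320 L29677 q3208, e3 q3321 L29685 q3209, e3 q3322 L29693 q3213, e3 q3323 L29706 q3214, e3 q3324 L30915 q3437, e3 q3325 L29724 q3190, e3 q3326 L29737 q3159, e3 q3327 (flp_b L30889) q3435, trivial⟩ (by decide +kernel)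

theorem ce_b_52 : ∀ r, r < 64 → sm gb (Qf (3328 + r)) = Qf (tab Gen.b (3328 + r)) :=
  edges_tab (sm gb) Qf (tab Gen.b) 3328 [(3328, 3328), (3329, 3168), (3330, 3421), (3331, 3423), (3332, 3406), (3333, 3188), (3334, 3409), (3335, 3191), (3336, 3438), (3337, 3182), (3338, 3185), (3339, 3418), (3340, 3413), (3341, 3241), (3342, 3429), (3343, 3417), (3344, 3441), (3345, 3250), (3346, 3436), (3347, 3411), (3348, 3244), (3349, 3426), (3350, 3427), (3351, 3428), (3352, 3229), (3353, 3232), (3354, 3420), (3355, 3416), (3356, 3205), (3357, 3206), (3358, 3258), (3359, 3456), (3360, 3457), (3361, 3432), (3362, 3433), (3363, 3462), (3364, 3234), (3365, 3235), (3366, 3464), (3367, 3252), (3368, 3215), (3369, 3217), (3370, 3221), (3371, 3465), (3372, 3223), (3373, 3407), (3374, 3260), (3375, 3453), (3376, 3405), (3377, 3454), (3378, 3237), (3379, 3468), (3380, 3253), (3381, 3408), (3382, 3445), (3383, 3245), (3384, 3246), (3385, 3449), (3386, 3470), (3387, 3461),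 (3388, 3262), (3389, 3469), (3390, 3419), (3391, 3259)]
    ⟨e3 q3328 L29753 q3328, e3 q3329 L29762 q3168, e3 q3330 (flp_b L30716) q3421, e3 q3331 (flp_b L30744) q3423, e3 q3332 (flp_b L30483) q3406, e3 q3333 L29809 q3188, e3 q3334 (flp_b L30529) q3409, e3 q3335 L29827 q3191, e3 q3336 (flp_b L30932) q3438, e3 q3337 L29847 q3182, e3 q3338 L29859 q3185, e3 q3339 (flp_b L30666) q3418, e3 q3340 (flp_b L30585) q3413, e3 q3341 L29893 q3241, e3 q3342 (flp_b L30821) q3429, e3 q3343 (flp_b L30650) q3417, e3 q3344 (flp_b L30970) q3441, e3 q3345 L29939 q3250, e3 q3346 (flp_b L30911) q3436, e3 q3347 (flp_b L30555) q3411, e3 q3348 L29973 q3244, e3 q3349 (flp_b L30782) q3426, e3 q3350 (flp_b L30796) q3427, e3 q3351 (flp_b L30805) q3428, e3 q3352 L30013 q3229, e3 q3353 L30027 q3232, e3 q3354 (flp_b L30700) q3420, e3 q3355 (flp_b L30632) q3416, e3 q3356 L30051 q3205, e3 q3357 L30064 q3206, e3 q3358 L30072 q3258, e3 q3359 (flp_b L31140) q3456, e3 q3360 (flp_b L31154)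 q3457, e3 q3361 (flp_b L30855) q3432, e3 q3362 (flp_b L30869) q3433, e3 q3363 L31197 q3462, e3 q3364 L30116 q3234, e3 q3365 L30127 q3235, e3 q3366 (flp_b L31217) q3464, e3 q3367 (flp_b L30150) q3252, e3 q3368 (flp_b L30152) q3215, e3 q3369 L30160 q3217, e3 q3370 L30167 q3221, e3 q3371 (flp_b L31229) q3465, e3 q3372 L30185 q3223, e3 q3373 (flp_b L30499) q3407, e3 q3374 L30206 q3260, e3 q3375 (flp_b L31106) q3453, e3 q3376 (flp_b L30467) q3405, e3 q3377 (flp_b L31120) q3454, e3 q3378 L30248 q3237, e3 q3379 (flp_b L31259) q3468, e3 q3380 L30261 q3253, e3 q3381 (flp_b L30515) q3408, e3 q3382 (flp_b L31010) q3445, e3 q3383 L30283 q3245, e3 q3384 L30291 q3246, e3 q3385 (flp_b L31061) q3449, e3 q3386 (flp_b L31271) q3470, e3 q3387 (flp_b L31195) q3461, e3 q3388 L30312 q3262, e3 q3389 (flp_b L31266) q3469, e3 q3390 (flp_b L30682) q3419, e3 q3391 L30329 q3259, trivial⟩ (by decide +kernel)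

theorem ce_b_53 : ∀ r, r < 64 → sm gb (Qf (3392 + r)) = Qf (tab Gen.b (3392 + r)) :=
  edges_tab (sm gb) Qf (tab Gen.b) 3392 [(3392, 3458), (3393, 3472), (3394, 3265), (3395, 3266), (3396, 3474), (3397, 3269), (3398, 3463), (3399, 3277), (3400, 3273), (3401, 3283), (3402, 3402), (3403, 3280), (3404, 3404), (3405, 3376), (3406, 3332), (3407, 3373), (3408, 3381), (3409, 3334), (3410, 3481), (3411, 3347), (3412, 3302), (3413, 3340), (3414, 3305), (3415, 3307), (3416, 3355), (3417, 3343), (3418, 3339), (3419, 3390), (3420, 3354), (3421, 3330), (3422, 3483), (3423, 3331), (3424, 3311), (3425, 3487), (3426, 3349), (3427, 3350), (3428, 3351), (3429, 3342), (3430, 3318), (3431, 3493), (3432, 3361), (3433, 3362), (3434, 3495), (3435, 3327), (3436, 3346), (3437, 3324), (3438, 3336), (3439, 3486), (3440, 3477), (3441, 3344), (3442, 3494), (3443, 3485), (3444, 3482), (3445, 3382), (3446, 3492), (3447, 3484), (3448, 3479), (3449, 3385), (3450, 3489), (3451, 3499),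 (3452, 3491), (3453, 3375), (3454, 3377), (3455, 3501)]
    ⟨e3 q3392 (flp_b L31161) q3458, e3 q3393 (flp_b L31281) q3472, e3 q3394 L30350 q3265, e3 q3395 L30356 q3266, e3 q3396 (flp_b L31295) q3474, e3 q3397 L30368 q3269, e3 q3398 (flp_b L31210) q3463, e3 q3399 L30382 q3277, e3 q3400 L30394 q3273, e3 q3401 L30407 q3283, e3 q3402 L30423 q3402, e3 q3403 (flp_b L30447) q3280, e3 q3404 L30453 q3404, e3 q3405 L30467 q3376, e3 q3406 L30483 q3332, e3 q3407 L30499 q3373, e3 q3408 L30515 q3381, e3 q3409 L30529 q3334, e3 q3410 L31374 q3481, e3 q3411 L30555 q3347, e3 q3412 L30567 q3302, e3 q3413 L30585 q3340, e3 q3414 L30601 q3305, e3 q3415 L30617 q3307, e3 q3416 L30632 q3355, e3 q3417 L30650 q3343, e3 q3418 L30666 q3339, e3 q3419 L30682 q3390, e3 q3420 L30700 q3354, e3 q3421 L30716 q3330, e3 q3422 (flp_b L31409) q3483, e3 q3423 L30744 q3331, e3 q3424 L30759 q3311, e3 q3425 (flp_b L31479) q3487, e3 q3426 L30782 q3349, e3 q3427 L30796 q3350, e3 q3428 L30805 q3351,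 e3 q3429 L30821 q3342, e3 q3430 L30835 q3318, e3 q3431 (flp_b L31578) q3493, e3 q3432 L30855 q3361, e3 q3433 L30869 q3362, e3 q3434 L31608 q3495, e3 q3435 L30889 q3327, e3 q3436 L30911 q3346, e3 q3437 (flp_b L30915) q3324, e3 q3438 L30932 q3336, e3 q3439 (flp_b L31461) q3486, e3 q3440 (flp_b L31326) q3477, e3 q3441 L30970 q3344, e3 q3442 (flp_b L31596) q3494, e3 q3443 (flp_b L31444) q3485, e3 q3444 (flp_b L31392) q3482, e3 q3445 L31010 q3382, e3 q3446 (flp_b L31560) q3492, e3 q3447 (flp_b L31427) q3484, e3 q3448 (flp_b L31354) q3479, e3 q3449 L31061 q3385, e3 q3450 (flp_b L31511) q3489, e3 q3451 L31663 q3499, e3 q3452 (flp_b L31543) q3491, e3 q3453 L31106 q3375, e3 q3454 L31120 q3377, e3 q3455 (flp_b L31690) q3501, trivial⟩ (by decide +kernel)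

theorem ce_b_54 : ∀ r, r < 54 → sm gb (Qf (3456 + r)) = Qf (tab Gen.b (3456 + r)) :=
  edges_tab (sm gb) Qf (tab Gen.b) 3456 [(3456, 3359), (3457, 3360), (3458, 3392), (3459, 3490), (3460, 3498), (3461, 3387), (3462, 3363), (3463, 3398), (3464, 3366), (3465, 3371), (3466, 3478), (3467, 3476), (3468, 3379), (3469, 3389), (3470, 3386), (3471, 3488), (3472, 3393), (3473, 3502), (3474, 3396), (3475, 3500), (3476, 3467), (3477, 3440), (3478, 3466), (3479, 3448), (3480, 3509), (3481, 3410), (3482, 3444), (3483, 3422), (3484, 3447), (3485, 3443), (3486, 3439), (3487, 3425), (3488, 3471), (3489, 3450), (3490, 3459), (3491, 3452), (3492, 3446), (3493, 3431), (3494, 3442), (3495, 3434), (3496, 3505), (3497, 3508), (3498, 3460), (3499, 3451), (3500, 3475), (3501, 3455), (3502, 3473), (3503, 3506), (3504, 3507), (3505, 3496), (3506, 3503), (3507, 3504), (3508, 3497), (3509, 3480)]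
    ⟨e3 q3456 L31140 q3359, e3 q3457 L31154 q3360, e3 q3458 L31161 q3392, e3 q3459 L31537 q3490, e3 q3460 (flp_b L31659) q3498, e3 q3461 L31195 q3387, e3 q3462 (flp_b L31197) q3363, e3 q3463 L31210 q3398, e3 q3464 L31217 q3366, e3 q3465 L31229 q3371, e3 q3466 (flp_b L31341) q3478, e3 q3467 (flp_b L31311) q3476, e3 q3468 L31259 q3379, e3 q3469 L31266 q3389, e3 q3470 L31271 q3386, e3 q3471 (flp_b L31496) q3488, e3 q3472 L31281 q3393, e3 q3473 (flp_b L31704) q3502, e3 q3474 L31295 q3396, e3 q3475 (flp_b L31684) q3500, e3 q3476 L31311 q3467, e3 q3477 L31326 q3440, e3 q3478 L31341 q3466, e3 q3479 L31354 q3448, e3 q3480 (flp_b L31799) q3509, e3 q3481 (flp_b L31374) q3410, e3 q3482 L31392 q3444, e3 q3483 L31409 q3422, e3 q3484 L31427 q3447, e3 q3485 L31444 q3443, e3 q3486 L31461 q3439, e3 q3487 L31479 q3425, e3 q3488 L31496 q3471, e3 q3489 L31511 q3450, e3 q3490 (flp_b L31537) q3459, e3 q3491 L31543 q3452, e3 q3492 L31560 q3446, e3 q3493 L31578 q3431, e3 q3494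 L31596 q3442, e3 q3495 (flp_b L31608) q3434, e3 q3496 (flp_b L31731) q3505, e3 q3497 (flp_b L31782) q3508, e3 q3498 L31659 q3460, e3 q3499 (flp_b L31663) q3451, e3 q3500 L31684 q3475, e3 q3501 L31690 q3455, e3 q3502 L31704 q3473, e3 q3503 (flp_b L31757) q3506, e3 q3504 (flp_b L31772) q3507, e3 q3505 L31731 q3496, e3 q3506 L31757 q3503, e3 q3507 L31772 q3504, e3 q3508 L31782 q3497, e3 q3509 L31799 q3480, trivial⟩ (by decide +kernel)

theorem cl_b : ∀ i, i < 3510 → sm gb (Qf i) = Qf (tab Gen.b i) :=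
  all_of_chunks (fun i => sm gb (Qf i) = Qf (tab Gen.b i)) 54 54
    ⟨ce_b_0, ce_b_1, ce_b_2, ce_b_3, ce_b_4, ce_b_5, ce_b_6, ce_b_7, ce_b_8, ce_b_9, ce_b_10, ce_b_11, ce_b_12, ce_b_13, ce_b_14, ce_b_15, ce_b_16, ce_b_17, ce_b_18, ce_b_19, ce_b_20, ce_b_21, ce_b_22, ce_b_23, ce_b_24, ce_b_25, ce_b_26, ce_b_27, ce_b_28, ce_b_29, ce_b_30, ce_b_31, ce_b_32, ce_b_33, ce_b_34, ce_b_35, ce_b_36, ce_b_37, ce_b_38, ce_b_39, ce_b_40, ce_b_41, ce_b_42, ce_b_43, ce_b_44, ce_b_45, ce_b_46, ce_b_47, ce_b_48, ce_b_49, ce_b_50, ce_b_51, ce_b_52, ce_b_53, trivial⟩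
    ce_b_54


end Cfsg.Agent.Helper28.FiaA
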