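import Cfsg.Agent.Helper28.FiaC0

/-!
# The Fi₂₂ presentation, cosets of the subgroup generated by a, c, d, e, f, g, h, i, (abcdeh)⁵: the action of the generator c (helper28; generated)
-/

set_option autoImplicit false
set_option maxRecDepth 100000
set_option linter.unusedSimpArgs false
set_option linter.constructorNameAsVariable false

noncomputable section

namespace Cfsg.Agent.Helper28.FiaA

open Cfsg.Spor Cfsg.Spor.Fi22 Cfsg.Agent.Helper28.CosetTable

theorem ce_c_0 : ∀ r, r < 64 → sm gc (Qf (0 + r)) = Qf (tab Gen.c (0 + r)) :=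
  edges_tab (sm gc) Qf (tab Gen.c) 0 [(0, 0), (1, 3), (2, 4), (3, 1), (4, 2), (5, 5), (6, 6), (7, 7), (8, 8), (9, 9), (10, 16), (11, 11), (12, 12), (13, 13), (14, 14), (15, 15), (16, 10), (17, 26), (18, 27), (19, 19), (20, 20), (21, 21), (22, 22), (23, 23), (24, 38), (25, 25), (26, 17), (27, 18), (28, 41), (29, 42), (30, 44), (31, 31), (32, 32), (33, 52), (34, 34), (35, 35), (36, 56), (37, 37), (38, 24), (39, 60), (40, 40), (41, 28), (42, 29), (43, 43), (44, 30), (45, 63), (46, 64), (47, 47), (48, 65), (49, 49), (50, 73), (51, 51), (52, 33), (53, 76), (54, 78), (55, 55), (56, 36), (57, 82), (58, 83), (59, 59), (60, 39), (61, 87), (62, 62), (63, 45)]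
    ⟨e3 q0 L1 q0, e3 q1 L25 q3, e3 q2 L33 q4, e3 q3 (flp_c L25) q1, e3 q4 (flp_c L33) q2, e3 q5 L48 q5, e3 q6 L57 q6, e3 q7 L65 q7, e3 q8 L69 q8, e3 q9 L76 q9, e3 q10 L126 q16, e3 q11 L92 q11, e3 q12 L100 q12, e3 q13 L107 q13, e3 q14 L114 q14, e3 q15 L121 q15, e3 q16 (flp_c L126) q10, e3 q17 (flp_c L208) q26, e3 q18 (flp_c L216) q27, e3 q19 L154 q19, e3 q20 L162 q20, e3 q21 L170 q21, e3 q22 L178 q22, e3 q23 L186 q23, e3 q24 L300 q38, e3 q25 L199 q25, e3 q26 L208 q17, e3 q27 L216 q18, e3 q28 (flp_c L325) q41, e3 q29 (flp_c L333) q42, e3 q30 (flp_c L353) q44, e3 q31 L249 q31, e3 q32 L258 q32, e3 q33 L418 q52, e3 q34 L273 q34, e3 q35 L281 q35, e3 q36 L451 q56, e3 q37 L295 q37, e3 q38 (flp_c L300) q24, e3 q39 (flp_c L480) q60, e3 q40 L319 q40, e3 q41 L325 q28, e3 q42 L333 q29, e3 q43 L346 q43, e3 q44 L353 q30, e3 q45 (flp_c L505) q63, e3 q46 (flp_c L514) q64, e3 q47 L381 q47, e3 q48 (flp_c L524) q65, e3 q49 L397 q49, e3 q50 L596 q73, e3 q51 L413 q51, e3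 q52 (flp_c L418) q33, e3 q53 (flp_c L625) q76, e3 q54 L638 q78, e3 q55 L445 q55, e3 q56 (flp_c L451) q36, e3 q57 (flp_c L670) q82, e3 q58 (flp_c L676) q83, e3 q59 L477 q59, e3 q60 L480 q39, e3 q61 (flp_c L706) q87, e3 q62 L496 q62, e3 q63 L505 q45, trivial⟩ (by decide +kernel)

theorem ce_c_1 : ∀ r, r < 64 → sm gc (Qf (64 + r)) = Qf (tab Gen.c (64 + r)) :=
  edges_tab (sm gc) Qf (tab Gen.c) 64 [(64, 46), (65, 48), (66, 66), (67, 90), (68, 68), (69, 91), (70, 70), (71, 98), (72, 72), (73, 50), (74, 101), (75, 102), (76, 53), (77, 105), (78, 54), (79, 107), (80, 108), (81, 81), (82, 57), (83, 58), (84, 115), (85, 116), (86, 86), (87, 61), (88, 88), (89, 89), (90, 67), (91, 69), (92, 92), (93, 93), (94, 121), (95, 95), (96, 96), (97, 97), (98, 71), (99, 126), (100, 127), (101, 74), (102, 75), (103, 132), (104, 133), (105, 77), (106, 106), (107, 79), (108, 80), (109, 139), (110, 140), (111, 141), (112, 112), (113, 113), (114, 114), (115, 84), (116, 85),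 (117, 149), (118, 118), (119, 119), (120, 120), (121, 94), (122, 122), (123, 123), (124, 124), (125, 125), (126, 99), (127, 100)]
    ⟨e3 q64 L514 q46, e3 q65 L524 q48, e3 q66 L535 q66, e3 q67 (flp_c L734) q90, e3 q68 L557 q68, e3 q69 (flp_c L745) q91, e3 q70 L573 q70, e3 q71 L811 q98, e3 q72 L590 q72, e3 q73 (flp_c L596) q50, e3 q74 (flp_c L843) q101, e3 q75 (flp_c L852) q102, e3 q76 L625 q53, e3 q77 (flp_c L878) q105, e3 q78 (flp_c L638) q54, e3 q79 (flp_c L894) q107, e3 q80 (flp_c L901) q108, e3 q81 L667 q81, e3 q82 L670 q57, e3 q83 L676 q58, e3 q84 (flp_c L954) q115, e3 q85 (flp_c L961) q116, e3 q86 L700 q86, e3 q87 L706 q61, e3 q88 L715 q88, e3 q89 L724 q89, e3 q90 L734 q67, e3 q91 L745 q69, e3 q92 L756 q92, e3 q93 L770 q93, e3 q94 (flp_c L1002) q121, e3 q95 L787 q95, e3 q96 L796 q96, e3 q97 L806 q97, e3 q98 (flp_c L811) q71, e3 q99 (flp_c L1056) q126, e3 q100 (flp_c L1066) q127, e3 q101 L843 q74, e3 q102 L852 q75, e3 q103 (flp_c L1111) q132, e3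 q104 (flp_c L1121) q133, e3 q105 L878 q77, e3 q106 L891 q106, e3 q107 L894 q79, e3 q108 L901 q80, e3 q109 (flp_c L1170) q139, e3 q110 (flp_c L1177) q140, e3 q111 (flp_c L1185) q141, e3 q112 L935 q112, e3 q113 L943 q113, e3 q114 L950 q114, e3 q115 L954 q84, e3 q116 L961 q85, e3 q117 (flp_c L1247) q149, e3 q118 L978 q118, e3 q119 L986 q119, e3 q120 L992 q120, e3 q121 L1002 q94, e3 q122 L1015 q122, e3 q123 L1025 q123, e3 q124 L1036 q124, e3 q125 L1046 q125, e3 q126 L1056 q99, e3 q127 L1066 q100, trivial⟩ (by decide +kernel)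

theorem ce_c_2 : ∀ r, r < 64 → sm gc (Qf (128 + r)) = Qf (tab Gen.c (128 + r)) :=
  edges_tab (sm gc) Qf (tab Gen.c) 128 [(128, 160), (129, 161), (130, 162), (131, 131), (132, 103), (133, 104), (134, 167), (135, 135), (136, 136), (137, 137), (138, 138), (139, 109), (140, 110), (141, 111), (142, 178), (143, 179), (144, 183), (145, 145), (146, 146), (147, 147), (148, 148), (149, 117), (150, 150), (151, 192), (152, 193), (153, 153), (154, 154), (155, 155), (156, 156), (157, 157), (158, 158), (159, 159), (160, 128), (161, 129), (162, 130), (163, 202), (164, 203), (165, 165), (166, 166), (167, 134), (168, 168), (169, 211), (170, 170), (171, 213), (172, 172), (173, 173), (174, 174), (175, 175), (176, 176), (177, 177), (178, 142), (179, 143), (180, 180), (181, 225), (182, 229), (183, 144), (184, 230), (185, 231), (186, 186), (187, 235), (188, 188), (189, 189), (190, 239), (191, 191)]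
    ⟨e3 q128 (flp_c L1348) q160, e3 q129 (flp_c L1358) q161, e3 q130 (flp_c L1369) q162, e3 q131 L1104 q131, e3 q132 L1111 q103, e3 q133 L1121 q104, e3 q134 (flp_c L1417) q167, e3 q135 L1141 q135, e3 q136 L1148 q136, e3 q137 L1157 q137, e3 q138 L1166 q138, e3 q139 L1170 q109, e3 q140 L1177 q110, e3 q141 L1185 q111, e3 q142 (flp_c L1511) q178, e3 q143 (flp_c L1519) q179, e3 q144 L1550 q183, e3 q145 L1219 q145, e3 q146 L1228 q146, e3 q147 L1234 q147, e3 q148 L1240 q148, e3 q149 L1247 q117, e3 q150 L1258 q150, e3 q151 L1613 q192, e3 q152 L1619 q193, e3 q153 L1277 q153, e3 q154 L1286 q154, e3 q155 L1297 q155, e3 q156 L1307 q156, e3 q157 L1318 q157, e3 q158 L1329 q158, e3 q159 L1341 q159, e3 q160 L1348 q128, e3 q161 L1358 q129, e3 q162 L1369 q130, e3 q163 (flp_c L1708) q202, e3 q164 (flp_c L1719) q203, e3 q165 L1398 q165, e3 q166 L1407 q166, e3 q167 L1417 q134, e3 q168 L1431 q168, e3 q169 L1787 q211, e3 q170 L1446 q170, e3 q171 L1804 q213, e3 q172 L1464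 q172, e3 q173 L1473 q173, e3 q174 L1483 q174, e3 q175 L1490 q175, e3 q176 L1496 q176, e3 q177 L1503 q177, e3 q178 L1511 q142, e3 q179 L1519 q143, e3 q180 L1532 q180, e3 q181 (flp_c L1906) q225, e3 q182 L1933 q229, e3 q183 (flp_c L1550) q144, e3 q184 (flp_c L1944) q230, e3 q185 (flp_c L1952) q231, e3 q186 L1579 q186, e3 q187 L1979 q235, e3 q188 L1595 q188, e3 q189 L1601 q189, e3 q190 L2007 q239, e3 q191 L1610 q191, trivial⟩ (by decide +kernel)

theorem ce_c_3 : ∀ r, r < 64 → sm gc (Qf (192 + r)) = Qf (tab Gen.c (192 + r)) :=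
  edges_tab (sm gc) Qf (tab Gen.c) 192 [(192, 151), (193, 152), (194, 243), (195, 195), (196, 196), (197, 197), (198, 248), (199, 199), (200, 200), (201, 201), (202, 163), (203, 164), (204, 204), (205, 254), (206, 258), (207, 207), (208, 208), (209, 261), (210, 210), (211, 169), (212, 212), (213, 171), (214, 266), (215, 267), (216, 268), (217, 217), (218, 218), (219, 276), (220, 220), (221, 221), (222, 222), (223, 223), (224, 224), (225, 181), (226, 285), (227, 227), (228, 288), (229, 182), (230, 184), (231, 185), (232, 292), (233, 293), (234, 296), (235, 187), (236, 298), (237, 237), (238, 301), (239, 190), (240, 304), (241, 241), (242, 242), (243, 194), (244, 309), (245, 245), (246, 246), (247, 312), (248, 198), (249, 249), (250, 250), (251, 251), (252, 252), (253, 253), (254, 205), (255, 321)]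
    ⟨e3 q192 (flp_c L1613) q151, e3 q193 (flp_c L1619) q152, e3 q194 (flp_c L2036) q243, e3 q195 L1638 q195, e3 q196 L1647 q196, e3 q197 L1658 q197, e3 q198 L2077 q248, e3 q199 L1678 q199, e3 q200 L1687 q200, e3 q201 L1697 q201, e3 q202 L1708 q163, e3 q203 L1719 q164, e3 q204 L1735 q204, e3 q205 (flp_c L2139) q254, e3 q206 L2173 q258, e3 q207 L1760 q207, e3 q208 L1769 q208, e3 q209 L2200 q261, e3 q210 L1784 q210, e3 q211 (flp_c L1787) q169, e3 q212 L1800 q212, e3 q213 (flp_c L1804) q171, e3 q214 (flp_c L2246) q266, e3 q215 (flp_c L2254) q267, e3 q216 (flp_c L2263) q268, e3 q217 L1844 q217, e3 q218 L1854 q218, e3 q219 L2332 q276, e3 q220 L1872 q220, e3 q221 L1878 q221, e3 q222 L1885 q222, e3 q223 L1893 q223, e3 q224 L1900 q224, e3 q225 L1906 q181, e3 q226 L2399 q285, e3 q227 L1920 q227, e3 q228 L2419 q288, e3 q229 (flp_c L1933) q182, e3 q230 L1944 q184, e3 q231 L1952 q185, e3 q232 (flp_c L2453) q292, e3 q233 (flp_c L2461) q293, e3 q234 L2482 q296, e3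 q235 (flp_c L1979) q187, e3 q236 (flp_c L2500) q298, e3 q237 L1997 q237, e3 q238 L2519 q301, e3 q239 (flp_c L2007) q190, e3 q240 (flp_c L2538) q304, e3 q241 L2020 q241, e3 q242 L2031 q242, e3 q243 L2036 q194, e3 q244 (flp_c L2574) q309, e3 q245 L2051 q245, e3 q246 L2061 q246, e3 q247 L2597 q312, e3 q248 (flp_c L2077) q198, e3 q249 L2090 q249, e3 q250 L2099 q250, e3 q251 L2109 q251, e3 q252 L2120 q252, e3 q253 L2130 q253, e3 q254 L2139 q205, e3 q255 L2684 q321, trivial⟩ (by decide +kernel)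

theorem ce_c_4 : ∀ r, r < 64 → sm gc (Qf (256 + r)) = Qf (tab Gen.c (256 + r)) :=
  edges_tab (sm gc) Qf (tab Gen.c) 256 [(256, 256), (257, 324), (258, 206), (259, 259), (260, 328), (261, 209), (262, 331), (263, 263), (264, 313), (265, 265), (266, 214), (267, 215), (268, 216), (269, 335), (270, 336), (271, 337), (272, 339), (273, 340), (274, 274), (275, 348), (276, 219), (277, 350), (278, 278), (279, 279), (280, 280), (281, 281), (282, 282), (283, 358), (284, 360), (285, 226), (286, 363), (287, 287), (288, 228), (289, 367), (290, 290), (291, 291), (292, 232), (293, 233), (294, 371), (295, 374), (296, 234), (297, 377), (298, 236), (299, 380), (300, 382), (301, 238), (302, 385), (303, 376), (304, 240), (305, 389), (306, 306), (307, 307), (308, 308), (309, 244), (310, 393), (311, 394), (312, 247), (313, 264), (314, 314), (315, 315), (316, 316), (317, 317), (318, 318), (319, 404)]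
    ⟨e3 q256 L2159 q256, e3 q257 L2712 q324, e3 q258 (flp_c L2173) q206, e3 q259 L2187 q259, e3 q260 L2746 q328, e3 q261 (flp_c L2200) q209, e3 q262 (flp_c L2773) q331, e3 q263 L2221 q263, e3 q264 (flp_c L2613) q313, e3 q265 L2237 q265, e3 q266 L2246 q214, e3 q267 L2254 q215, e3 q268 L2263 q216, e3 q269 (flp_c L2808) q335, e3 q270 (flp_c L2816) q336, e3 q271 (flp_c L2825) q337, e3 q272 (flp_c L2843) q339, e3 q273 (flp_c L2852) q340, e3 q274 L2318 q274, e3 q275 L2921 q348, e3 q276 (flp_c L2332) q219, e3 q277 (flp_c L2942) q350, e3 q278 L2353 q278, e3 q279 L2360 q279, e3 q280 L2368 q280, e3 q281 L2375 q281, e3 q282 L2381 q282, e3 q283 L2998 q358, e3 q284 L3012 q360, e3 q285 (flp_c L2399) q226, e3 q286 (flp_c L3034) q363, e3 q287 L2415 q287, e3 q288 (flp_c L2419) q228, e3 q289 (flp_c L3063) q367, e3 q290 L2441 q290, e3 q291 L2447 q291, e3 q292 L2453 q232, e3 q293 L2461 q233, e3 q294 (flp_c L3096) q371, e3 q295 L3117 q374, e3 q296 (flp_c L2482) q234, e3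 q297 (flp_c L3141) q377, e3 q298 L2500 q236, e3 q299 (flp_c L3163) q380, e3 q300 L3178 q382, e3 q301 (flp_c L2519) q238, e3 q302 (flp_c L3199) q385, e3 q303 (flp_c L3136) q376, e3 q304 L2538 q240, e3 q305 (flp_c L3223) q389, e3 q306 L2550 q306, e3 q307 L2557 q307, e3 q308 L2568 q308, e3 q309 L2574 q244, e3 q310 (flp_c L3254) q393, e3 q311 L3259 q394, e3 q312 (flp_c L2597) q247, e3 q313 L2613 q264, e3 q314 L2620 q314, e3 q315 L2630 q315, e3 q316 L2641 q316, e3 q317 L2651 q317, e3 q318 L2660 q318, e3 q319 L3358 q404, trivial⟩ (by decide +kernel)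

theorem ce_c_5 : ∀ r, r < 64 → sm gc (Qf (320 + r)) = Qf (tab Gen.c (320 + r)) :=
  edges_tab (sm gc) Qf (tab Gen.c) 320 [(320, 406), (321, 255), (322, 409), (323, 323), (324, 257), (325, 413), (326, 396), (327, 415), (328, 260), (329, 418), (330, 330), (331, 262), (332, 422), (333, 333), (334, 397), (335, 269), (336, 270), (337, 271), (338, 338), (339, 272), (340, 273), (341, 425), (342, 426), (343, 428), (344, 429), (345, 432), (346, 440), (347, 442), (348, 275), (349, 445), (350, 277), (351, 448), (352, 450), (353, 353), (354, 354), (355, 355), (356, 455), (357, 457), (358, 283), (359, 460), (360, 284), (361, 463), (362, 444), (363, 286), (364, 467), (365, 365), (366, 366), (367, 289), (368, 368), (369, 369), (370, 370), (371, 294), (372, 476), (373, 478), (374, 295), (375, 481), (376, 303), (377, 297), (378, 486), (379, 485), (380, 299), (381, 490), (382, 300), (383, 492)]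
    ⟨e3 q320 L3377 q406, e3 q321 (flp_c L2684) q255, e3 q322 (flp_c L3407) q409, e3 q323 L2708 q323, e3 q324 (flp_c L2712) q257, e3 q325 (flp_c L3443) q413, e3 q326 (flp_c L3286) q396, e3 q327 L3458 q415, e3 q328 (flp_c L2746) q260, e3 q329 (flp_c L3487) q418, e3 q330 L2768 q330, e3 q331 L2773 q262, e3 q332 (flp_c L3520) q422, e3 q333 L2791 q333, e3 q334 (flp_c L3290) q397, e3 q335 L2808 q269, e3 q336 L2816 q270, e3 q337 L2825 q271, e3 q338 L2837 q338, e3 q339 L2843 q272, e3 q340 L2852 q273, e3 q341 (flp_c L3547) q425, e3 q342 (flp_c L3558) q426, e3 q343 (flp_c L3578) q428, e3 q344 (flp_c L3587) q429, e3 q345 (flp_c L3615) q432, e3 q346 L3687 q440, e3 q347 L3704 q442, e3 q348 (flp_c L2921) q275, e3 q349 (flp_c L3731) q445, e3 q350 L2942 q277, e3 q351 (flp_c L3756) q448, e3 q352 L3771 q450, e3 q353 L2964 q353, e3 q354 L2971 q354, e3 q355 L2978 q355, e3 q356 L3808 q455, e3 q357 L3821 q457, e3 q358 (flp_c L2998) q283, e3 q359 (flp_c L3846) q460, e3 q360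 (flp_c L3012) q284, e3 q361 (flp_c L3867) q463, e3 q362 (flp_c L3726) q444, e3 q363 L3034 q286, e3 q364 (flp_c L3894) q467, e3 q365 L3047 q365, e3 q366 L3060 q366, e3 q367 L3063 q289, e3 q368 L3071 q368, e3 q369 L3081 q369, e3 q370 L3088 q370, e3 q371 L3096 q294, e3 q372 L3959 q476, e3 q373 L3972 q478, e3 q374 (flp_c L3117) q295, e3 q375 (flp_c L3998) q481, e3 q376 L3136 q303, e3 q377 L3141 q297, e3 q378 (flp_c L4036) q486, e3 q379 (flp_c L4030) q485, e3 q380 L3163 q299, e3 q381 (flp_c L4066) q490, e3 q382 (flp_c L3178) q300, e3 q383 (flp_c L4081) q492, trivial⟩ (by decide +kernel)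

theorem ce_c_6 : ∀ r, r < 64 → sm gc (Qf (384 + r)) = Qf (tab Gen.c (384 + r)) :=
  edges_tab (sm gc) Qf (tab Gen.c) 384 [(384, 480), (385, 302), (386, 497), (387, 483), (388, 484), (389, 305), (390, 501), (391, 391), (392, 392), (393, 310), (394, 311), (395, 504), (396, 326), (397, 334), (398, 506), (399, 399), (400, 400), (401, 401), (402, 511), (403, 513), (404, 319), (405, 516), (406, 320), (407, 519), (408, 408), (409, 322), (410, 523), (411, 411), (412, 503), (413, 325), (414, 505), (415, 327), (416, 529), (417, 417), (418, 329), (419, 534), (420, 420), (421, 421), (422, 332), (423, 538), (424, 424), (425, 341), (426, 342), (427, 427), (428, 343), (429, 344), (430, 430), (431, 431), (432, 345), (433, 548), (434, 434), (435, 540), (436, 541), (437, 543), (438, 554), (439, 556), (440, 346), (441, 559), (442, 347), (443, 562), (444, 362), (445, 349), (446, 567), (447, 566)]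
    ⟨e3 q384 (flp_c L3993) q480, e3 q385 L3199 q302, e3 q386 (flp_c L4112) q497, e3 q387 (flp_c L4013) q483, e3 q388 (flp_c L4023) q484, e3 q389 L3223 q305, e3 q390 (flp_c L4138) q501, e3 q391 L3238 q391, e3 q392 L3246 q392, e3 q393 L3254 q310, e3 q394 (flp_c L3259) q311, e3 q395 (flp_c L4189) q504, e3 q396 L3286 q326, e3 q397 L3290 q334, e3 q398 L4206 q506, e3 q399 L3312 q399, e3 q400 L3322 q400, e3 q401 L3332 q401, e3 q402 L4256 q511, e3 q403 L4274 q513, e3 q404 (flp_c L3358) q319, e3 q405 (flp_c L4307) q516, e3 q406 (flp_c L3377) q320, e3 q407 (flp_c L4334) q519, e3 q408 L3402 q408, e3 q409 L3407 q322, e3 q410 (flp_c L4370) q523, e3 q411 L3426 q411, e3 q412 (flp_c L4184) q503, e3 q413 L3443 q325, e3 q414 (flp_c L4197) q505, e3 q415 (flp_c L3458) q327, e3 q416 (flp_c L4421) q529, e3 q417 L3482 q417, e3 q418 L3487 q329, e3 q419 (flp_c L4463) q534, e3 q420 L3502 q420, e3 q421 L3513 q421, e3 q422 L3520 q332, e3 q423 (flp_c L4498) q538, e3 q424 L3540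 q424, e3 q425 L3547 q341, e3 q426 L3558 q342, e3 q427 L3571 q427, e3 q428 L3578 q343, e3 q429 L3587 q344, e3 q430 L3596 q430, e3 q431 L3606 q431, e3 q432 L3615 q345, e3 q433 L4591 q548, e3 q434 L3636 q434, e3 q435 (flp_c L4517) q540, e3 q436 (flp_c L4528) q541, e3 q437 (flp_c L4549) q543, e3 q438 L4648 q554, e3 q439 L4664 q556, e3 q440 (flp_c L3687) q346, e3 q441 (flp_c L4694) q559, e3 q442 (flp_c L3704) q347, e3 q443 (flp_c L4720) q562, e3 q444 L3726 q362, e3 q445 L3731 q349, e3 q446 (flp_c L4763) q567, e3 q447 (flp_c L4757) q566, trivial⟩ (by decide +kernel)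

theorem ce_c_7 : ∀ r, r < 64 → sm gc (Qf (448 + r)) = Qf (tab Gen.c (448 + r)) :=
  edges_tab (sm gc) Qf (tab Gen.c) 448 [(448, 351), (449, 571), (450, 352), (451, 572), (452, 452), (453, 575), (454, 577), (455, 356), (456, 580), (457, 357), (458, 583), (459, 558), (460, 359), (461, 588), (462, 561), (463, 361), (464, 593), (465, 564), (466, 565), (467, 364), (468, 597), (469, 469), (470, 470), (471, 471), (472, 472), (473, 473), (474, 474), (475, 602), (476, 372), (477, 605), (478, 373), (479, 608), (480, 384), (481, 375), (482, 613), (483, 387), (484, 388), (485, 379), (486, 378), (487, 620), (488, 618), (489, 619), (490, 381), (491, 607), (492, 383), (493, 625), (494, 610), (495, 611), (496, 496), (497, 386), (498, 631), (499, 615), (500, 617), (501, 390), (502, 502), (503, 412), (504, 395), (505, 414), (506, 398), (507, 638), (508, 508), (509, 641), (510, 643), (511, 402)]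
    ⟨e3 q448 L3756 q351, e3 q449 (flp_c L4795) q571, e3 q450 (flp_c L3771) q352, e3 q451 (flp_c L4805) q572, e3 q452 L3788 q452, e3 q453 L4823 q575, e3 q454 L4835 q577, e3 q455 (flp_c L3808) q356, e3 q456 (flp_c L4860) q580, e3 q457 (flp_c L3821) q357, e3 q458 (flp_c L4881) q583, e3 q459 (flp_c L4689) q558, e3 q460 L3846 q359, e3 q461 (flp_c L4918) q588, e3 q462 (flp_c L4715) q561, e3 q463 L3867 q361, e3 q464 (flp_c L4952) q593, e3 q465 (flp_c L4735) q564, e3 q466 (flp_c L4746) q565, e3 q467 L3894 q364, e3 q468 (flp_c L4980) q597, e3 q469 L3907 q469, e3 q470 L3917 q470, e3 q471 L3927 q471, e3 q472 L3932 q472, e3 q473 L3941 q473, e3 q474 L3949 q474, e3 q475 L5034 q602, e3 q476 (flp_c L3959) q372, e3 q477 (flp_c L5059) q605, e3 q478 (flp_c L3972) q373, e3 q479 (flp_c L5080) q608, e3 q480 L3993 q384, e3 q481 L3998 q375, e3 q482 (flp_c L5118) q613, e3 q483 L4013 q387, e3 q484 L4023 q388, e3 q485 L4030 q379, e3 q486 L4036 q378, e3 q487 (flp_c L5172) q620,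 e3 q488 (flp_c L5158) q618, e3 q489 (flp_c L5166) q619, e3 q490 L4066 q381, e3 q491 (flp_c L5075) q607, e3 q492 L4081 q383, e3 q493 (flp_c L5227) q625, e3 q494 (flp_c L5097) q610, e3 q495 (flp_c L5107) q611, e3 q496 L4107 q496, e3 q497 L4112 q386, e3 q498 (flp_c L5267) q631, e3 q499 (flp_c L5137) q615, e3 q500 (flp_c L5151) q617, e3 q501 L4138 q390, e3 q502 L4154 q502, e3 q503 L4184 q412, e3 q504 L4189 q395, e3 q505 L4197 q414, e3 q506 (flp_c L4206) q398, e3 q507 (flp_c L5362) q638, e3 q508 L4230 q508, e3 q509 L5386 q641, e3 q510 L5403 q643, e3 q511 (flp_c L4256) q402, trivial⟩ (by decide +kernel)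

theorem ce_c_8 : ∀ r, r < 64 → sm gc (Qf (512 + r)) = Qf (tab Gen.c (512 + r)) :=
  edges_tab (sm gc) Qf (tab Gen.c) 512 [(512, 646), (513, 403), (514, 649), (515, 515), (516, 405), (517, 654), (518, 518), (519, 407), (520, 659), (521, 521), (522, 522), (523, 410), (524, 663), (525, 634), (526, 635), (527, 527), (528, 528), (529, 416), (530, 670), (531, 531), (532, 532), (533, 533), (534, 419), (535, 673), (536, 536), (537, 537), (538, 423), (539, 539), (540, 435), (541, 436), (542, 542), (543, 437), (544, 681), (545, 545), (546, 546), (547, 684), (548, 433), (549, 687), (550, 550), (551, 677), (552, 691), (553, 693), (554, 438), (555, 696), (556, 439), (557, 699), (558, 459), (559, 441), (560, 704), (561, 462), (562, 443), (563, 709), (564, 465), (565, 466), (566, 447), (567, 446), (568, 716), (569, 714), (570, 715), (571, 449), (572, 451), (573, 721), (574, 723), (575, 453)]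
    ⟨e3 q512 (flp_c L5436) q646, e3 q513 (flp_c L4274) q403, e3 q514 (flp_c L5463) q649, e3 q515 L4302 q515, e3 q516 L4307 q405, e3 q517 (flp_c L5511) q654, e3 q518 L4329 q518, e3 q519 L4334 q407, e3 q520 (flp_c L5556) q659, e3 q521 L4349 q521, e3 q522 L4361 q522, e3 q523 L4370 q410, e3 q524 (flp_c L5593) q663, e3 q525 (flp_c L5322) q634, e3 q526 (flp_c L5335) q635, e3 q527 L4408 q527, e3 q528 L4416 q528, e3 q529 L4421 q416, e3 q530 (flp_c L5781) q670, e3 q531 L4438 q531, e3 q532 L4449 q532, e3 q533 L4456 q533, e3 q534 L4463 q419, e3 q535 (flp_c L5818) q673, e3 q536 L4483 q536, e3 q537 L4490 q537, e3 q538 L4498 q423, e3 q539 L4507 q539, e3 q540 L4517 q435, e3 q541 L4528 q436, e3 q542 L4538 q542, e3 q543 L4549 q437, e3 q544 L5889 q681, e3 q545 L4568 q545, e3 q546 L4579 q546, e3 q547 L5915 q684, e3 q548 (flp_c L4591) q433, e3 q549 (flp_c L5946) q687, e3 q550 L4612 q550, e3 q551 (flp_c L5856) q677, e3 q552 L5976 q691, e3 q553 L5991 q693, e3 q554 (flp_c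 L4648) q438, e3 q555 (flp_c L6021) q696, e3 q556 (flp_c L4664) q439, e3 q557 (flp_c L6047) q699, e3 q558 L4689 q459, e3 q559 L4694 q441, e3 q560 (flp_c L6091) q704, e3 q561 L4715 q462, e3 q562 L4720 q443, e3 q563 (flp_c L6133) q709, e3 q564 L4735 q465, e3 q565 L4746 q466, e3 q566 L4757 q447, e3 q567 L4763 q446, e3 q568 (flp_c L6193) q716, e3 q569 (flp_c L6177) q714, e3 q570 (flp_c L6185) q715, e3 q571 L4795 q449, e3 q572 L4805 q451, e3 q573 (flp_c L6233) q721, e3 q574 L6246 q723, e3 q575 (flp_c L4823) q453, trivial⟩ (by decide +kernel)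

theorem ce_c_9 : ∀ r, r < 64 → sm gc (Qf (576 + r)) = Qf (tab Gen.c (576 + r)) :=
  edges_tab (sm gc) Qf (tab Gen.c) 576 [(576, 726), (577, 454), (578, 729), (579, 695), (580, 456), (581, 734), (582, 698), (583, 458), (584, 739), (585, 701), (586, 702), (587, 587), (588, 461), (589, 745), (590, 706), (591, 707), (592, 592), (593, 464), (594, 751), (595, 711), (596, 713), (597, 468), (598, 598), (599, 755), (600, 600), (601, 758), (602, 475), (603, 760), (604, 604), (605, 477), (606, 764), (607, 491), (608, 479), (609, 768), (610, 494), (611, 495), (612, 612), (613, 482), (614, 775), (615, 499), (616, 616), (617, 500), (618, 488), (619, 489), (620, 487), (621, 781), (622, 765), (623, 766), (624, 624), (625, 493), (626, 785), (627, 770), (628, 786), (629, 772), (630, 630), (631, 498), (632, 777), (633, 780), (634, 525), (635, 526), (636, 636), (637, 637), (638, 507), (639, 791)]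
    ⟨e3 q576 (flp_c L6268) q726, e3 q577 (flp_c L4835) q454, e3 q578 (flp_c L6289) q729, e3 q579 (flp_c L6016) q695, e3 q580 L4860 q456, e3 q581 (flp_c L6323) q734, e3 q582 (flp_c L6042) q698, e3 q583 L4881 q458, e3 q584 (flp_c L6363) q739, e3 q585 (flp_c L6065) q701, e3 q586 (flp_c L6076) q702, e3 q587 L4913 q587, e3 q588 L4918 q461, e3 q589 (flp_c L6406) q745, e3 q590 (flp_c L6107) q706, e3 q591 (flp_c L6119) q707, e3 q592 L4947 q592, e3 q593 L4952 q464, e3 q594 (flp_c L6448) q751, e3 q595 (flp_c L6153) q711, e3 q596 (flp_c L6171) q713, e3 q597 L4980 q468, e3 q598 L4990 q598, e3 q599 L6475 q755, e3 q600 L5004 q600, e3 q601 L6496 q758, e3 q602 (flp_c L5034) q475, e3 q603 (flp_c L6517) q760, e3 q604 L5055 q604, e3 q605 L5059 q477, e3 q606 (flp_c L6548) q764, e3 q607 L5075 q491, e3 q608 L5080 q479, e3 q609 (flp_c L6581) q768, e3 q610 L5097 q494, e3 q611 L5107 q495, e3 q612 L5114 q612, e3 q613 L5118 q482, e3 q614 (flp_c L6634) q775, e3 q615 L5137 q499,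 e3 q616 L5145 q616, e3 q617 L5151 q500, e3 q618 L5158 q488, e3 q619 L5166 q489, e3 q620 L5172 q487, e3 q621 (flp_c L6681) q781, e3 q622 (flp_c L6556) q765, e3 q623 (flp_c L6567) q766, e3 q624 L5223 q624, e3 q625 L5227 q493, e3 q626 (flp_c L6726) q785, e3 q627 (flp_c L6602) q770, e3 q628 L6732 q786, e3 q629 (flp_c L6614) q772, e3 q630 L5261 q630, e3 q631 L5267 q498, e3 q632 (flp_c L6652) q777, e3 q633 (flp_c L6674) q780, e3 q634 L5322 q525, e3 q635 L5335 q526, e3 q636 L5347 q636, e3 q637 L5357 q637, e3 q638 L5362 q507, e3 q639 (flp_c L6963) q791, trivial⟩ (by decide +kernel)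

theorem ce_c_10 : ∀ r, r < 64 → sm gc (Qf (640 + r)) = Qf (tab Gen.c (640 + r)) :=
  edges_tab (sm gc) Qf (tab Gen.c) 640 [(640, 794), (641, 509), (642, 797), (643, 510), (644, 800), (645, 645), (646, 512), (647, 805), (648, 648), (649, 514), (650, 810), (651, 651), (652, 652), (653, 653), (654, 517), (655, 816), (656, 656), (657, 657), (658, 658), (659, 520), (660, 822), (661, 661), (662, 662), (663, 524), (664, 790), (665, 793), (666, 666), (667, 667), (668, 668), (669, 669), (670, 530), (671, 813), (672, 672), (673, 535), (674, 674), (675, 675), (676, 676), (677, 551), (678, 829), (679, 679), (680, 832), (681, 544), (682, 835), (683, 837), (684, 547), (685, 839), (686, 686), (687, 549), (688, 844), (689, 689), (690, 847), (691, 552), (692, 850), (693, 553), (694, 853), (695, 579), (696, 555), (697, 858), (698, 582), (699, 557), (700, 863), (701, 585), (702, 586), (703, 703)]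
    ⟨e3 q640 L6814 q794, e3 q641 (flp_c L5386) q509, e3 q642 (flp_c L6844) q797, e3 q643 (flp_c L5403) q510, e3 q644 (flp_c L6871) q800, e3 q645 L5431 q645, e3 q646 L5436 q512, e3 q647 (flp_c L6916) q805, e3 q648 L5458 q648, e3 q649 L5463 q514, e3 q650 (flp_c L7013) q810, e3 q651 L5481 q651, e3 q652 L5493 q652, e3 q653 L5504 q653, e3 q654 L5511 q517, e3 q655 (flp_c L7077) q816, e3 q656 L5527 q656, e3 q657 L5540 q657, e3 q658 L5549 q658, e3 q659 L5556 q520, e3 q660 (flp_c L7129) q822, e3 q661 L5577 q661, e3 q662 L5586 q662, e3 q663 L5593 q524, e3 q664 (flp_c L6762) q790, e3 q665 (flp_c L6973) q793, e3 q666 L5620 q666, e3 q667 L5626 q667, e3 q668 L5638 q668, e3 q669 L5769 q669, e3 q670 L5781 q530, e3 q671 (flp_c L7056) q813, e3 q672 L5805 q672, e3 q673 L5818 q535, e3 q674 L5829 q674, e3 q675 L5839 q675, e3 q676 L5847 q676, e3 q677 L5856 q551, e3 q678 L7196 q829, e3 q679 L5874 q679, e3 q680 L7220 q832, e3 q681 (flp_c L5889) q544, e3 q682 (flp_c L7249)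 q835, e3 q683 L7260 q837, e3 q684 (flp_c L5915) q547, e3 q685 (flp_c L7283) q839, e3 q686 L5942 q686, e3 q687 L5946 q549, e3 q688 (flp_c L7330) q844, e3 q689 L5962 q689, e3 q690 L7353 q847, e3 q691 (flp_c L5976) q552, e3 q692 (flp_c L7380) q850, e3 q693 (flp_c L5991) q553, e3 q694 (flp_c L7406) q853, e3 q695 L6016 q579, e3 q696 L6021 q555, e3 q697 (flp_c L7448) q858, e3 q698 L6042 q582, e3 q699 L6047 q557, e3 q700 (flp_c L7496) q863, e3 q701 L6065 q585, e3 q702 L6076 q586, e3 q703 L6087 q703, trivial⟩ (by decide +kernel)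

theorem ce_c_11 : ∀ r, r < 64 → sm gc (Qf (704 + r)) = Qf (tab Gen.c (704 + r)) :=
  edges_tab (sm gc) Qf (tab Gen.c) 704 [(704, 560), (705, 870), (706, 590), (707, 591), (708, 708), (709, 563), (710, 876), (711, 595), (712, 712), (713, 596), (714, 569), (715, 570), (716, 568), (717, 882), (718, 883), (719, 884), (720, 885), (721, 573), (722, 825), (723, 574), (724, 890), (725, 849), (726, 576), (727, 895), (728, 852), (729, 578), (730, 900), (731, 855), (732, 856), (733, 894), (734, 581), (735, 907), (736, 860), (737, 861), (738, 738), (739, 584), (740, 912), (741, 865), (742, 915), (743, 867), (744, 744), (745, 589), (746, 871), (747, 922), (748, 873), (749, 749), (750, 750), (751, 594), (752, 878), (753, 881), (754, 930), (755, 599), (756, 931), (757, 757), (758, 601), (759, 759), (760, 603), (761, 761), (762, 762), (763, 763), (764, 606), (765, 622), (766, 623), (767, 767)]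
    ⟨e3 q704 L6091 q560, e3 q705 (flp_c L7554) q870, e3 q706 L6107 q590, e3 q707 L6119 q591, e3 q708 L6128 q708, e3 q709 L6133 q563, e3 q710 (flp_c L7601) q876, e3 q711 L6153 q595, e3 q712 L6165 q712, e3 q713 L6171 q596, e3 q714 L6177 q569, e3 q715 L6185 q570, e3 q716 L6193 q568, e3 q717 (flp_c L7653) q882, e3 q718 (flp_c L7660) q883, e3 q719 (flp_c L7670) q884, e3 q720 (flp_c L7677) q885, e3 q721 L6233 q573, e3 q722 (flp_c L7162) q825, e3 q723 (flp_c L6246) q574, e3 q724 (flp_c L7718) q890, e3 q725 (flp_c L7375) q849, e3 q726 L6268 q576, e3 q727 (flp_c L7754) q895, e3 q728 (flp_c L7401) q852, e3 q729 L6289 q578, e3 q730 (flp_c L7790) q900, e3 q731 (flp_c L7424) q855, e3 q732 (flp_c L7436) q856, e3 q733 (flp_c L7749) q894, e3 q734 L6323 q581, e3 q735 (flp_c L7838) q907, e3 q736 (flp_c L7466) q860, e3 q737 (flp_c L7478) q861, e3 q738 L6359 q738, e3 q739 L6363 q584, e3 q740 (flp_c L7887) q912, e3 q741 (flp_c L7517) q865, e3 q742 L7912 q915, e3 q743 (flp_c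 L7533) q867, e3 q744 L6400 q744, e3 q745 L6406 q589, e3 q746 (flp_c L7565) q871, e3 q747 L7962 q922, e3 q748 (flp_c L7580) q873, e3 q749 L6435 q749, e3 q750 L6442 q750, e3 q751 L6448 q594, e3 q752 (flp_c L7622) q878, e3 q753 (flp_c L7645) q881, e3 q754 L8021 q930, e3 q755 (flp_c L6475) q599, e3 q756 (flp_c L8032) q931, e3 q757 L6491 q757, e3 q758 (flp_c L6496) q601, e3 q759 L6513 q759, e3 q760 L6517 q603, e3 q761 L6527 q761, e3 q762 L6537 q762, e3 q763 L6542 q763, e3 q764 L6548 q606, e3 q765 L6556 q622, e3 q766 L6567 q623, e3 q767 L6577 q767, trivial⟩ (by decide +kernel)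

theorem ce_c_12 : ∀ r, r < 64 → sm gc (Qf (768 + r)) = Qf (tab Gen.c (768 + r)) :=
  edges_tab (sm gc) Qf (tab Gen.c) 768 [(768, 609), (769, 946), (770, 627), (771, 949), (772, 629), (773, 773), (774, 774), (775, 614), (776, 776), (777, 632), (778, 778), (779, 779), (780, 633), (781, 621), (782, 941), (783, 948), (784, 943), (785, 626), (786, 628), (787, 952), (788, 788), (789, 956), (790, 664), (791, 639), (792, 792), (793, 665), (794, 640), (795, 959), (796, 796), (797, 642), (798, 963), (799, 799), (800, 644), (801, 968), (802, 802), (803, 803), (804, 962), (805, 647), (806, 975), (807, 807), (808, 808), (809, 809), (810, 650), (811, 978), (812, 812), (813, 671), (814, 814), (815, 815), (816, 655), (817, 817), (818, 958), (819, 819), (820, 820), (821, 821), (822, 660), (823, 823), (824, 824), (825, 722), (826, 826), (827, 988), (828, 990), (829, 678), (830, 993), (831, 995)]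
    ⟨e3 q768 L6581 q609, e3 q769 (flp_c L8163) q946, e3 q770 L6602 q627, e3 q771 L8186 q949, e3 q772 L6614 q629, e3 q773 L6622 q773, e3 q774 L6628 q774, e3 q775 L6634 q614, e3 q776 L6645 q776, e3 q777 L6652 q632, e3 q778 L6660 q778, e3 q779 L6668 q779, e3 q780 L6674 q633, e3 q781 L6681 q621, e3 q782 (flp_c L8120) q941, e3 q783 (flp_c L8179) q948, e3 q784 (flp_c L8139) q943, e3 q785 L6726 q626, e3 q786 (flp_c L6732) q628, e3 q787 (flp_c L8207) q952, e3 q788 L6746 q788, e3 q789 (flp_c L8239) q956, e3 q790 L6762 q664, e3 q791 L6963 q639, e3 q792 L6779 q792, e3 q793 L6973 q665, e3 q794 (flp_c L6814) q640, e3 q795 (flp_c L8269) q959, e3 q796 L6839 q796, e3 q797 L6844 q642, e3 q798 (flp_c L8309) q963, e3 q799 L6866 q799, e3 q800 L6871 q644, e3 q801 (flp_c L8356) q968, e3 q802 L6889 q802, e3 q803 L6902 q803, e3 q804 (flp_c L8302) q962, e3 q805 L6916 q647, e3 q806 (flp_c L8417) q975, e3 q807 L6934 q807, e3 q808 L6951 q808, e3 q809 L7005 q809, e3 q810 L7013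 q650, e3 q811 (flp_c L8459) q978, e3 q812 L7035 q812, e3 q813 L7056 q671, e3 q814 L7062 q814, e3 q815 L7069 q815, e3 q816 L7077 q655, e3 q817 L7089 q817, e3 q818 (flp_c L8256) q958, e3 q819 L7104 q819, e3 q820 L7112 q820, e3 q821 L7121 q821, e3 q822 L7129 q660, e3 q823 L7141 q823, e3 q824 L7148 q824, e3 q825 L7162 q722, e3 q826 L7172 q826, e3 q827 L8562 q988, e3 q828 L8580 q990, e3 q829 (flp_c L7196) q678, e3 q830 (flp_c L8610) q993, e3 q831 L8620 q995, trivial⟩ (by decide +kernel)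

theorem ce_c_13 : ∀ r, r < 64 → sm gc (Qf (832 + r)) = Qf (tab Gen.c (832 + r)) :=
  edges_tab (sm gc) Qf (tab Gen.c) 832 [(832, 680), (833, 998), (834, 834), (835, 682), (836, 1003), (837, 683), (838, 838), (839, 685), (840, 1009), (841, 841), (842, 842), (843, 843), (844, 688), (845, 1015), (846, 1016), (847, 690), (848, 1019), (849, 725), (850, 692), (851, 1024), (852, 728), (853, 694), (854, 1029), (855, 731), (856, 732), (857, 1023), (858, 697), (859, 1036), (860, 736), (861, 737), (862, 862), (863, 700), (864, 1042), (865, 741), (866, 1045), (867, 743), (868, 868), (869, 869), (870, 705), (871, 746), (872, 1055), (873, 748), (874, 874), (875, 875), (876, 710), (877, 877), (878, 752), (879, 879), (880, 880), (881, 753), (882, 717), (883, 718), (884, 719), (885, 720), (886, 1070), (887, 1071), (888, 981), (889, 1018), (890, 724), (891, 1076), (892, 1021), (893, 1022), (894, 733), (895, 727)]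
    ⟨e3 q832 (flp_c L7220) q680, e3 q833 (flp_c L8654) q998, e3 q834 L7245 q834, e3 q835 L7249 q682, e3 q836 (flp_c L8697) q1003, e3 q837 (flp_c L7260) q683, e3 q838 L7279 q838, e3 q839 L7283 q685, e3 q840 (flp_c L8759) q1009, e3 q841 L7304 q841, e3 q842 L7315 q842, e3 q843 L7324 q843, e3 q844 L7330 q688, e3 q845 (flp_c L8808) q1015, e3 q846 L8815 q1016, e3 q847 (flp_c L7353) q690, e3 q848 (flp_c L8851) q1019, e3 q849 L7375 q725, e3 q850 L7380 q692, e3 q851 (flp_c L8893) q1024, e3 q852 L7401 q728, e3 q853 L7406 q694, e3 q854 (flp_c L8937) q1029, e3 q855 L7424 q731, e3 q856 L7436 q732, e3 q857 (flp_c L8888) q1023, e3 q858 L7448 q697, e3 q859 (flp_c L8994) q1036, e3 q860 L7466 q736, e3 q861 L7478 q737, e3 q862 L7492 q862, e3 q863 L7496 q700, e3 q864 (flp_c L9050) q1042, e3 q865 L7517 q741, e3 q866 L9073 q1045, e3 q867 L7533 q743, e3 q868 L7540 q868, e3 q869 L7546 q869, e3 q870 L7554 q705, e3 q871 L7565 q746, e3 q872 L9150 q1055, e3 q873 L7580 q748, e3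 q874 L7588 q874, e3 q875 L7595 q875, e3 q876 L7601 q710, e3 q877 L7615 q877, e3 q878 L7622 q752, e3 q879 L7629 q879, e3 q880 L7637 q880, e3 q881 L7645 q753, e3 q882 L7653 q717, e3 q883 L7660 q718, e3 q884 L7670 q719, e3 q885 L7677 q720, e3 q886 (flp_c L9274) q1070, e3 q887 (flp_c L9282) q1071, e3 q888 L8500 q981, e3 q889 (flp_c L8844) q1018, e3 q890 L7718 q724, e3 q891 (flp_c L9322) q1076, e3 q892 (flp_c L8868) q1021, e3 q893 (flp_c L8880) q1022, e3 q894 L7749 q733, e3 q895 L7754 q727, trivial⟩ (by decide +kernel)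

theorem ce_c_14 : ∀ r, r < 64 → sm gc (Qf (896 + r)) = Qf (tab Gen.c (896 + r)) :=
  edges_tab (sm gc) Qf (tab Gen.c) 896 [(896, 1083), (897, 1026), (898, 1027), (899, 1075), (900, 730), (901, 1089), (902, 1031), (903, 1092), (904, 1033), (905, 1081), (906, 1082), (907, 735), (908, 1037), (909, 1101), (910, 1039), (911, 911), (912, 740), (913, 1105), (914, 1044), (915, 742), (916, 1106), (917, 1048), (918, 918), (919, 919), (920, 1109), (921, 1054), (922, 747), (923, 1112), (924, 1113), (925, 1058), (926, 926), (927, 927), (928, 928), (929, 1065), (930, 754), (931, 756), (932, 932), (933, 933), (934, 934), (935, 935), (936, 936), (937, 1124), (938, 938), (939, 939), (940, 940), (941, 782), (942, 1130), (943, 784), (944, 944), (945, 945), (946, 769), (947, 1131), (948, 783), (949, 771), (950, 1129), (951, 1135), (952, 787), (953, 953), (954, 954), (955, 955), (956, 789), (957, 957), (958, 818), (959, 795)]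
    ⟨e3 q896 (flp_c L9372) q1083, e3 q897 (flp_c L8909) q1026, e3 q898 (flp_c L8922) q1027, e3 q899 (flp_c L9317) q1075, e3 q900 L7790 q730, e3 q901 (flp_c L9415) q1089, e3 q902 (flp_c L8960) q1031, e3 q903 L9437 q1092, e3 q904 (flp_c L8974) q1033, e3 q905 (flp_c L9359) q1081, e3 q906 (flp_c L9365) q1082, e3 q907 L7838 q735, e3 q908 (flp_c L9006) q1037, e3 q909 L9499 q1101, e3 q910 (flp_c L9025) q1039, e3 q911 L7880 q911, e3 q912 L7887 q740, e3 q913 L9544 q1105, e3 q914 (flp_c L9069) q1044, e3 q915 (flp_c L7912) q742, e3 q916 (flp_c L9559) q1106, e3 q917 (flp_c L9098) q1048, e3 q918 L7936 q918, e3 q919 L7941 q919, e3 q920 L9574 q1109, e3 q921 (flp_c L9145) q1054, e3 q922 (flp_c L7962) q747, e3 q923 (flp_c L9601) q1112, e3 q924 (flp_c L9608) q1113, e3 q925 (flp_c L9175) q1058, e3 q926 L7994 q926, e3 q927 L8002 q927, e3 q928 L8008 q928, e3 q929 (flp_c L9233) q1065, e3 q930 (flp_c L8021) q754, e3 q931 L8032 q756, e3 q932 L8045 q932, e3 q933 L8048 q933,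 e3 q934 L8059 q934, e3 q935 L8073 q935, e3 q936 L8083 q936, e3 q937 L9702 q1124, e3 q938 L8095 q938, e3 q939 L8103 q939, e3 q940 L8111 q940, e3 q941 L8120 q782, e3 q942 L9756 q1130, e3 q943 L8139 q784, e3 q944 L8148 q944, e3 q945 L8156 q945, e3 q946 L8163 q769, e3 q947 (flp_c L9773) q1131, e3 q948 L8179 q783, e3 q949 (flp_c L8186) q771, e3 q950 (flp_c L9754) q1129, e3 q951 (flp_c L9804) q1135, e3 q952 L8207 q787, e3 q953 L8215 q953, e3 q954 L8223 q954, e3 q955 L8232 q955, e3 q956 L8239 q789, e3 q957 L8247 q957, e3 q958 L8256 q818, e3 q959 L8269 q795, trivial⟩ (by decide +kernel)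

theorem ce_c_15 : ∀ r, r < 64 → sm gc (Qf (960 + r)) = Qf (tab Gen.c (960 + r)) :=
  edges_tab (sm gc) Qf (tab Gen.c) 960 [(960, 1140), (961, 961), (962, 804), (963, 798), (964, 1146), (965, 965), (966, 966), (967, 1139), (968, 801), (969, 1152), (970, 970), (971, 1151), (972, 972), (973, 1144), (974, 1145), (975, 806), (976, 976), (977, 977), (978, 811), (979, 979), (980, 980), (981, 888), (982, 982), (983, 1138), (984, 984), (985, 985), (986, 986), (987, 987), (988, 827), (989, 1165), (990, 828), (991, 1168), (992, 992), (993, 830), (994, 1173), (995, 831), (996, 1176), (997, 997), (998, 833), (999, 1180), (1000, 1000), (1001, 1001), (1002, 1172), (1003, 836), (1004, 1186), (1005, 1005), (1006, 1006), (1007, 1007), (1008, 1008), (1009, 840), (1010, 1010), (1011, 1194), (1012, 1012), (1013, 1013), (1014, 1014), (1015, 845), (1016, 846), (1017, 1202), (1018, 889), (1019, 848), (1020, 1206), (1021, 892), (1022, 893), (1023, 857)]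
    ⟨e3 q960 (flp_c L9854) q1140, e3 q961 L8292 q961, e3 q962 L8302 q804, e3 q963 L8309 q798, e3 q964 (flp_c L9914) q1146, e3 q965 L8325 q965, e3 q966 L8339 q966, e3 q967 (flp_c L9843) q1139, e3 q968 L8356 q801, e3 q969 (flp_c L9977) q1152, e3 q970 L8380 q970, e3 q971 (flp_c L9966) q1151, e3 q972 L8394 q972, e3 q973 (flp_c L9897) q1144, e3 q974 (flp_c L9905) q1145, e3 q975 L8417 q806, e3 q976 L8430 q976, e3 q977 L8444 q977, e3 q978 L8459 q811, e3 q979 L8474 q979, e3 q980 L8487 q980, e3 q981 (flp_c L8500) q888, e3 q982 L8510 q982, e3 q983 (flp_c L9827) q1138, e3 q984 L8526 q984, e3 q985 L8535 q985, e3 q986 L8545 q986, e3 q987 L8555 q987, e3 q988 (flp_c L8562) q827, e3 q989 (flp_c L10111) q1165, e3 q990 (flp_c L8580) q828, e3 q991 (flp_c L10141) q1168, e3 q992 L8606 q992, e3 q993 L8610 q830, e3 q994 (flp_c L10186) q1173, e3 q995 (flp_c L8620) q831, e3 q996 (flp_c L10212) q1176, e3 q997 L8650 q997, e3 q998 L8654 q833, e3 q999 (flp_c L10250) q1180, e3 q1000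 L8673 q1000, e3 q1001 L8685 q1001, e3 q1002 (flp_c L10179) q1172, e3 q1003 L8697 q836, e3 q1004 (flp_c L10298) q1186, e3 q1005 L8722 q1005, e3 q1006 L8725 q1006, e3 q1007 L8737 q1007, e3 q1008 L8751 q1008, e3 q1009 L8759 q840, e3 q1010 L8772 q1010, e3 q1011 L10381 q1194, e3 q1012 L8788 q1012, e3 q1013 L8793 q1013, e3 q1014 L8799 q1014, e3 q1015 L8808 q845, e3 q1016 (flp_c L8815) q846, e3 q1017 (flp_c L10453) q1202, e3 q1018 L8844 q889, e3 q1019 L8851 q848, e3 q1020 (flp_c L10493) q1206, e3 q1021 L8868 q892, e3 q1022 L8880 q893, e3 q1023 L8888 q857, trivial⟩ (by decide +kernel)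

theorem ce_c_16 : ∀ r, r < 64 → sm gc (Qf (1024 + r)) = Qf (tab Gen.c (1024 + r)) :=
  edges_tab (sm gc) Qf (tab Gen.c) 1024 [(1024, 851), (1025, 1213), (1026, 897), (1027, 898), (1028, 1205), (1029, 854), (1030, 1219), (1031, 902), (1032, 1222), (1033, 904), (1034, 1211), (1035, 1212), (1036, 859), (1037, 908), (1038, 1232), (1039, 910), (1040, 1040), (1041, 1041), (1042, 864), (1043, 1240), (1044, 914), (1045, 866), (1046, 1244), (1047, 1245), (1048, 917), (1049, 1049), (1050, 1050), (1051, 1051), (1052, 1052), (1053, 1252), (1054, 921), (1055, 872), (1056, 1256), (1057, 1257), (1058, 925), (1059, 1059), (1060, 1060), (1061, 1061), (1062, 1062), (1063, 1063), (1064, 1064), (1065, 929), (1066, 1066), (1067, 1067), (1068, 1068), (1069, 1069), (1070, 886), (1071, 887), (1072, 1273), (1073, 1160), (1074, 1204), (1075, 899), (1076, 891), (1077, 1278), (1078, 1208), (1079, 1281), (1080, 1210), (1081, 905), (1082, 906), (1083, 896), (1084, 1214), (1085,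 1291), (1086, 1216), (1087, 1277)]
    ⟨e3 q1024 L8893 q851, e3 q1025 (flp_c L10550) q1213, e3 q1026 L8909 q897, e3 q1027 L8922 q898, e3 q1028 (flp_c L10488) q1205, e3 q1029 L8937 q854, e3 q1030 (flp_c L10599) q1219, e3 q1031 L8960 q902, e3 q1032 L10624 q1222, e3 q1033 L8974 q904, e3 q1034 (flp_c L10536) q1211, e3 q1035 (flp_c L10543) q1212, e3 q1036 L8994 q859, e3 q1037 L9006 q908, e3 q1038 L10700 q1232, e3 q1039 L9025 q910, e3 q1040 L9033 q1040, e3 q1041 L9041 q1041, e3 q1042 L9050 q864, e3 q1043 L10775 q1240, e3 q1044 L9069 q914, e3 q1045 (flp_c L9073) q866, e3 q1046 (flp_c L10819) q1244, e3 q1047 (flp_c L10826) q1245, e3 q1048 L9098 q917, e3 q1049 L9107 q1049, e3 q1050 L9111 q1050, e3 q1051 L9119 q1051, e3 q1052 L9127 q1052, e3 q1053 L10871 q1252, e3 q1054 L9145 q921, e3 q1055 (flp_c L9150) q872, e3 q1056 (flp_c L10909) q1256, e3 q1057 (flp_c L10917) q1257, e3 q1058 L9175 q925, e3 q1059 L9184 q1059, e3 q1060 L9192 q1060, e3 q1061 L9200 q1061, e3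 q1062 L9206 q1062, e3 q1063 L9215 q1063, e3 q1064 L9224 q1064, e3 q1065 L9233 q929, e3 q1066 L9242 q1066, e3 q1067 L9249 q1067, e3 q1068 L9259 q1068, e3 q1069 L9266 q1069, e3 q1070 L9274 q886, e3 q1071 L9282 q887, e3 q1072 L11037 q1273, e3 q1073 (flp_c L10060) q1160, e3 q1074 (flp_c L10475) q1204, e3 q1075 L9317 q899, e3 q1076 L9322 q891, e3 q1077 (flp_c L11084) q1278, e3 q1078 (flp_c L10514) q1208, e3 q1079 L11110 q1281, e3 q1080 (flp_c L10529) q1210, e3 q1081 L9359 q905, e3 q1082 L9365 q906, e3 q1083 L9372 q896, e3 q1084 (flp_c L10560) q1214, e3 q1085 L11184 q1291, e3 q1086 (flp_c L10577) q1216, e3 q1087 (flp_c L11076) q1277, trivial⟩ (by decide +kernel)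

theorem ce_c_17 : ∀ r, r < 64 → sm gc (Qf (1088 + r)) = Qf (tab Gen.c (1088 + r)) :=
  edges_tab (sm gc) Qf (tab Gen.c) 1088 [(1088, 1153), (1089, 901), (1090, 1299), (1091, 1221), (1092, 903), (1093, 1302), (1094, 1303), (1095, 1225), (1096, 1285), (1097, 1286), (1098, 1287), (1099, 1288), (1100, 1231), (1101, 909), (1102, 1243), (1103, 1235), (1104, 1104), (1105, 913), (1106, 916), (1107, 1311), (1108, 1108), (1109, 920), (1110, 1312), (1111, 1255), (1112, 923), (1113, 924), (1114, 1314), (1115, 1315), (1116, 1116), (1117, 1117), (1118, 1118), (1119, 1119), (1120, 1120), (1121, 1321), (1122, 1322), (1123, 1123), (1124, 937), (1125, 1324), (1126, 1323), (1127, 1127), (1128, 1128), (1129, 950), (1130, 942), (1131, 947), (1132, 1320), (1133, 1133), (1134, 1325), (1135, 951), (1136, 1230), (1137, 1137), (1138, 983), (1139, 967), (1140, 960), (1141, 1328), (1142, 1329), (1143, 1143), (1144, 973), (1145, 974), (1146, 964), (1147, 1147), (1148, 1331), (1149,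 1149), (1150, 1327), (1151, 971)]
    ⟨e3 q1088 L9995 q1153, e3 q1089 L9415 q901, e3 q1090 L11243 q1299, e3 q1091 (flp_c L10618) q1221, e3 q1092 (flp_c L9437) q903, e3 q1093 (flp_c L11270) q1302, e3 q1094 (flp_c L11274) q1303, e3 q1095 (flp_c L10646) q1225, e3 q1096 (flp_c L11138) q1285, e3 q1097 (flp_c L11144) q1286, e3 q1098 (flp_c L11151) q1287, e3 q1099 (flp_c L11158) q1288, e3 q1100 (flp_c L10693) q1231, e3 q1101 (flp_c L9499) q909, e3 q1102 (flp_c L10808) q1243, e3 q1103 (flp_c L10734) q1235, e3 q1104 L9540 q1104, e3 q1105 (flp_c L9544) q913, e3 q1106 L9559 q916, e3 q1107 (flp_c L11328) q1311, e3 q1108 L9570 q1108, e3 q1109 (flp_c L9574) q920, e3 q1110 (flp_c L11336) q1312, e3 q1111 (flp_c L10900) q1255, e3 q1112 L9601 q923, e3 q1113 L9608 q924, e3 q1114 (flp_c L11352) q1314, e3 q1115 (flp_c L11360) q1315, e3 q1116 L9631 q1116, e3 q1117 L9638 q1117, e3 q1118 L9648 q1118, e3 q1119 L9652 q1119, e3 q1120 L9666 q1120, e3 q1121 L11406 q1321, e3 q1122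 L11420 q1322, e3 q1123 L9697 q1123, e3 q1124 (flp_c L9702) q937, e3 q1125 (flp_c L11455) q1324, e3 q1126 (flp_c L11440) q1323, e3 q1127 L9726 q1127, e3 q1128 L9737 q1128, e3 q1129 L9754 q950, e3 q1130 (flp_c L9756) q942, e3 q1131 L9773 q947, e3 q1132 L11404 q1320, e3 q1133 L9789 q1133, e3 q1134 (flp_c L11470) q1325, e3 q1135 L9804 q951, e3 q1136 (flp_c L10686) q1230, e3 q1137 L9818 q1137, e3 q1138 L9827 q983, e3 q1139 L9843 q967, e3 q1140 L9854 q960, e3 q1141 (flp_c L11512) q1328, e3 q1142 L11520 q1329, e3 q1143 L9888 q1143, e3 q1144 L9897 q973, e3 q1145 L9905 q974, e3 q1146 L9914 q964, e3 q1147 L9925 q1147, e3 q1148 (flp_c L11549) q1331, e3 q1149 L9946 q1149, e3 q1150 (flp_c L11498) q1327, e3 q1151 L9966 q971, trivial⟩ (by decide +kernel)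

theorem ce_c_18 : ∀ r, r < 64 → sm gc (Qf (1152 + r)) = Qf (tab Gen.c (1152 + r)) :=
  edges_tab (sm gc) Qf (tab Gen.c) 1152 [(1152, 969), (1153, 1088), (1154, 1154), (1155, 1340), (1156, 1156), (1157, 1333), (1158, 1334), (1159, 1335), (1160, 1073), (1161, 1161), (1162, 1326), (1163, 1163), (1164, 1164), (1165, 989), (1166, 1348), (1167, 1167), (1168, 991), (1169, 1352), (1170, 1170), (1171, 1171), (1172, 1002), (1173, 994), (1174, 1358), (1175, 1175), (1176, 996), (1177, 1177), (1178, 1178), (1179, 1351), (1180, 999), (1181, 1181), (1182, 1369), (1183, 1183), (1184, 1356), (1185, 1357), (1186, 1004), (1187, 1187), (1188, 1188), (1189, 1379), (1190, 1190), (1191, 1191), (1192, 1382), (1193, 1193), (1194, 1011), (1195, 1386), (1196, 1387), (1197, 1197), (1198, 1198), (1199, 1199), (1200, 1200), (1201, 1201), (1202, 1017), (1203, 1397), (1204, 1074), (1205, 1028), (1206, 1020), (1207, 1403), (1208, 1078), (1209, 1406), (1210, 1080), (1211, 1034), (1212,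 1035), (1213, 1025), (1214, 1084), (1215, 1416)]
    ⟨e3 q1152 L9977 q969, e3 q1153 (flp_c L9995) q1088, e3 q1154 L10003 q1154, e3 q1155 (flp_c L11654) q1340, e3 q1156 L10024 q1156, e3 q1157 (flp_c L11572) q1333, e3 q1158 (flp_c L11580) q1334, e3 q1159 (flp_c L11589) q1335, e3 q1160 L10060 q1073, e3 q1161 L10074 q1161, e3 q1162 (flp_c L11484) q1326, e3 q1163 L10094 q1163, e3 q1164 L10107 q1164, e3 q1165 L10111 q989, e3 q1166 (flp_c L11738) q1348, e3 q1167 L10135 q1167, e3 q1168 L10141 q991, e3 q1169 (flp_c L11778) q1352, e3 q1170 L10161 q1170, e3 q1171 L10173 q1171, e3 q1172 L10179 q1002, e3 q1173 L10186 q994, e3 q1174 (flp_c L11826) q1358, e3 q1175 L10208 q1175, e3 q1176 L10212 q996, e3 q1177 L10222 q1177, e3 q1178 L10235 q1178, e3 q1179 (flp_c L11771) q1351, e3 q1180 L10250 q999, e3 q1181 L10265 q1181, e3 q1182 L11926 q1369, e3 q1183 L10279 q1183, e3 q1184 (flp_c L11811) q1356, e3 q1185 (flp_c L11818) q1357, e3 q1186 L10298 q1004, e3 q1187 L10308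 q1187, e3 q1188 L10323 q1188, e3 q1189 L12012 q1379, e3 q1190 L10346 q1190, e3 q1191 L10356 q1191, e3 q1192 L12050 q1382, e3 q1193 L10379 q1193, e3 q1194 (flp_c L10381) q1011, e3 q1195 (flp_c L12100) q1386, e3 q1196 (flp_c L12108) q1387, e3 q1197 L10408 q1197, e3 q1198 L10417 q1198, e3 q1199 L10423 q1199, e3 q1200 L10433 q1200, e3 q1201 L10440 q1201, e3 q1202 L10453 q1017, e3 q1203 (flp_c L12208) q1397, e3 q1204 L10475 q1074, e3 q1205 L10488 q1028, e3 q1206 L10493 q1020, e3 q1207 (flp_c L12265) q1403, e3 q1208 L10514 q1078, e3 q1209 L12290 q1406, e3 q1210 L10529 q1080, e3 q1211 L10536 q1034, e3 q1212 L10543 q1035, e3 q1213 L10550 q1025, e3 q1214 L10560 q1084, e3 q1215 L12369 q1416, trivial⟩ (by decide +kernel)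

theorem ce_c_19 : ∀ r, r < 64 → sm gc (Qf (1216 + r)) = Qf (tab Gen.c (1216 + r)) :=
  edges_tab (sm gc) Qf (tab Gen.c) 1216 [(1216, 1086), (1217, 1401), (1218, 1402), (1219, 1030), (1220, 1424), (1221, 1091), (1222, 1032), (1223, 1428), (1224, 1429), (1225, 1095), (1226, 1410), (1227, 1411), (1228, 1412), (1229, 1413), (1230, 1136), (1231, 1100), (1232, 1038), (1233, 1439), (1234, 1377), (1235, 1103), (1236, 1236), (1237, 1237), (1238, 1238), (1239, 1239), (1240, 1043), (1241, 1441), (1242, 1391), (1243, 1102), (1244, 1046), (1245, 1047), (1246, 1447), (1247, 1438), (1248, 1448), (1249, 1384), (1250, 1250), (1251, 1251), (1252, 1053), (1253, 1452), (1254, 1453), (1255, 1111), (1256, 1056), (1257, 1057), (1258, 1458), (1259, 1459), (1260, 1460), (1261, 1462), (1262, 1262), (1263, 1263), (1264, 1264), (1265, 1265), (1266, 1266), (1267, 1267), (1268, 1268), (1269, 1269), (1270, 1270), (1271, 1271), (1272, 1474), (1273, 1072), (1274, 1344), (1275, 1476),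 (1276, 1400), (1277, 1087), (1278, 1077), (1279, 1481)]
    ⟨e3 q1216 L10577 q1086, e3 q1217 (flp_c L12250) q1401, e3 q1218 (flp_c L12259) q1402, e3 q1219 L10599 q1030, e3 q1220 L12432 q1424, e3 q1221 L10618 q1091, e3 q1222 (flp_c L10624) q1032, e3 q1223 (flp_c L12470) q1428, e3 q1224 (flp_c L12476) q1429, e3 q1225 L10646 q1095, e3 q1226 (flp_c L12321) q1410, e3 q1227 (flp_c L12327) q1411, e3 q1228 (flp_c L12335) q1412, e3 q1229 (flp_c L12343) q1413, e3 q1230 L10686 q1136, e3 q1231 L10693 q1100, e3 q1232 (flp_c L10700) q1038, e3 q1233 (flp_c L12552) q1439, e3 q1234 L11998 q1377, e3 q1235 L10734 q1103, e3 q1236 L10744 q1236, e3 q1237 L10750 q1237, e3 q1238 L10760 q1238, e3 q1239 L10767 q1239, e3 q1240 (flp_c L10775) q1043, e3 q1241 (flp_c L12572) q1441, e3 q1242 (flp_c L12147) q1391, e3 q1243 L10808 q1102, e3 q1244 L10819 q1046, e3 q1245 L10826 q1047, e3 q1246 (flp_c L12620) q1447, e3 q1247 (flp_c L12539) q1438, e3 q1248 (flp_c L12625) q1448, e3 q1249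 (flp_c L12077) q1384, e3 q1250 L10862 q1250, e3 q1251 L10868 q1251, e3 q1252 (flp_c L10871) q1053, e3 q1253 (flp_c L12651) q1452, e3 q1254 (flp_c L12660) q1453, e3 q1255 L10900 q1111, e3 q1256 L10909 q1056, e3 q1257 L10917 q1057, e3 q1258 (flp_c L12700) q1458, e3 q1259 (flp_c L12708) q1459, e3 q1260 (flp_c L12717) q1460, e3 q1261 (flp_c L12730) q1462, e3 q1262 L10953 q1262, e3 q1263 L10962 q1263, e3 q1264 L10969 q1264, e3 q1265 L10976 q1265, e3 q1266 L10985 q1266, e3 q1267 L10993 q1267, e3 q1268 L11004 q1268, e3 q1269 L11012 q1269, e3 q1270 L11021 q1270, e3 q1271 L11029 q1271, e3 q1272 L12818 q1474, e3 q1273 (flp_c L11037) q1072, e3 q1274 (flp_c L11700) q1344, e3 q1275 L12830 q1476, e3 q1276 (flp_c L12240) q1400, e3 q1277 L11076 q1087, e3 q1278 L11084 q1077, e3 q1279 L12891 q1481, trivial⟩ (by decide +kernel)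

theorem ce_c_20 : ∀ r, r < 64 → sm gc (Qf (1280 + r)) = Qf (tab Gen.c (1280 + r)) :=
  edges_tab (sm gc) Qf (tab Gen.c) 1280 [(1280, 1405), (1281, 1079), (1282, 1485), (1283, 1486), (1284, 1409), (1285, 1096), (1286, 1097), (1287, 1098), (1288, 1099), (1289, 1495), (1290, 1415), (1291, 1085), (1292, 1497), (1293, 1498), (1294, 1419), (1295, 1479), (1296, 1480), (1297, 1341), (1298, 1336), (1299, 1090), (1300, 1502), (1301, 1427), (1302, 1093), (1303, 1094), (1304, 1503), (1305, 1504), (1306, 1505), (1307, 1491), (1308, 1492), (1309, 1493), (1310, 1494), (1311, 1107), (1312, 1110), (1313, 1510), (1314, 1114), (1315, 1115), (1316, 1506), (1317, 1511), (1318, 1318), (1319, 1319), (1320, 1132), (1321, 1121), (1322, 1122), (1323, 1126), (1324, 1125), (1325, 1134), (1326, 1162), (1327, 1150), (1328, 1141), (1329, 1142), (1330, 1517), (1331, 1148), (1332, 1332), (1333, 1157), (1334, 1158), (1335, 1159), (1336, 1298), (1337, 1520), (1338, 1515), (1339, 1516),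 (1340, 1155), (1341, 1297), (1342, 1519), (1343, 1518)]
    ⟨e3 q1280 (flp_c L12284) q1405, e3 q1281 (flp_c L11110) q1079, e3 q1282 (flp_c L12935) q1485, e3 q1283 (flp_c L12941) q1486, e3 q1284 (flp_c L12313) q1409, e3 q1285 L11138 q1096, e3 q1286 L11144 q1097, e3 q1287 L11151 q1098, e3 q1288 L11158 q1099, e3 q1289 L13027 q1495, e3 q1290 (flp_c L12360) q1415, e3 q1291 (flp_c L11184) q1085, e3 q1292 (flp_c L13051) q1497, e3 q1293 (flp_c L13059) q1498, e3 q1294 (flp_c L12396) q1419, e3 q1295 (flp_c L12868) q1479, e3 q1296 (flp_c L12880) q1480, e3 q1297 (flp_c L11665) q1341, e3 q1298 L11606 q1336, e3 q1299 (flp_c L11243) q1090, e3 q1300 (flp_c L13100) q1502, e3 q1301 (flp_c L12459) q1427, e3 q1302 L11270 q1093, e3 q1303 L11274 q1094, e3 q1304 (flp_c L13104) q1503, e3 q1305 (flp_c L13109) q1504, e3 q1306 (flp_c L13114) q1505, e3 q1307 (flp_c L12978) q1491, e3 q1308 (flp_c L12991) q1492, e3 q1309 (flp_c L13004) q1493, e3 q1310 (flp_c L13016) q1494, e3 q1311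 L11328 q1107, e3 q1312 L11336 q1110, e3 q1313 (flp_c L13148) q1510, e3 q1314 L11352 q1114, e3 q1315 L11360 q1115, e3 q1316 (flp_c L13121) q1506, e3 q1317 (flp_c L13156) q1511, e3 q1318 L11379 q1318, e3 q1319 L11388 q1319, e3 q1320 (flp_c L11404) q1132, e3 q1321 (flp_c L11406) q1121, e3 q1322 (flp_c L11420) q1122, e3 q1323 L11440 q1126, e3 q1324 L11455 q1125, e3 q1325 L11470 q1134, e3 q1326 L11484 q1162, e3 q1327 L11498 q1150, e3 q1328 L11512 q1141, e3 q1329 (flp_c L11520) q1142, e3 q1330 (flp_c L13218) q1517, e3 q1331 L11549 q1148, e3 q1332 L11562 q1332, e3 q1333 L11572 q1157, e3 q1334 L11580 q1158, e3 q1335 L11589 q1159, e3 q1336 (flp_c L11606) q1298, e3 q1337 (flp_c L13268) q1520, e3 q1338 (flp_c L13185) q1515, e3 q1339 (flp_c L13201) q1516, e3 q1340 L11654 q1155, e3 q1341 L11665 q1297, e3 q1342 (flp_c L13251) q1519, e3 q1343 (flp_c L13235) q1518, trivial⟩ (by decide +kernel)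

theorem ce_c_21 : ∀ r, r < 64 → sm gc (Qf (1344 + r)) = Qf (tab Gen.c (1344 + r)) :=
  edges_tab (sm gc) Qf (tab Gen.c) 1344 [(1344, 1274), (1345, 1345), (1346, 1346), (1347, 1347), (1348, 1166), (1349, 1526), (1350, 1350), (1351, 1179), (1352, 1169), (1353, 1353), (1354, 1533), (1355, 1355), (1356, 1184), (1357, 1185), (1358, 1174), (1359, 1359), (1360, 1360), (1361, 1361), (1362, 1362), (1363, 1546), (1364, 1364), (1365, 1529), (1366, 1530), (1367, 1552), (1368, 1368), (1369, 1182), (1370, 1556), (1371, 1557), (1372, 1372), (1373, 1537), (1374, 1538), (1375, 1539), (1376, 1540), (1377, 1234), (1378, 1378), (1379, 1189), (1380, 1567), (1381, 1381), (1382, 1192), (1383, 1569), (1384, 1249), (1385, 1385), (1386, 1195), (1387, 1196), (1388, 1573), (1389, 1572), (1390, 1571), (1391, 1242), (1392, 1392), (1393, 1393), (1394, 1394), (1395, 1395), (1396, 1396), (1397, 1203), (1398, 1582), (1399, 1583), (1400, 1276), (1401, 1217), (1402, 1218), (1403, 1207),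 (1404, 1591), (1405, 1280), (1406, 1209), (1407, 1595)]
    ⟨e3 q1344 L11700 q1274, e3 q1345 L11711 q1345, e3 q1346 L11723 q1346, e3 q1347 L11733 q1347, e3 q1348 L11738 q1166, e3 q1349 (flp_c L13323) q1526, e3 q1350 L11760 q1350, e3 q1351 L11771 q1179, e3 q1352 L11778 q1169, e3 q1353 L11791 q1353, e3 q1354 L13393 q1533, e3 q1355 L11806 q1355, e3 q1356 L11811 q1184, e3 q1357 L11818 q1185, e3 q1358 L11826 q1174, e3 q1359 L11834 q1359, e3 q1360 L11847 q1360, e3 q1361 L11861 q1361, e3 q1362 L11868 q1362, e3 q1363 L13511 q1546, e3 q1364 L11885 q1364, e3 q1365 (flp_c L13357) q1529, e3 q1366 (flp_c L13368) q1530, e3 q1367 L13564 q1552, e3 q1368 L11922 q1368, e3 q1369 (flp_c L11926) q1182, e3 q1370 (flp_c L13602) q1556, e3 q1371 (flp_c L13607) q1557, e3 q1372 L11950 q1372, e3 q1373 (flp_c L13426) q1537, e3 q1374 (flp_c L13434) q1538, e3 q1375 (flp_c L13444) q1539, e3 q1376 (flp_c L13451) q1540, e3 q1377 (flp_c L11998) q1234, e3 q1378 L12005 q1378, e3 q1379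 (flp_c L12012) q1189, e3 q1380 (flp_c L13693) q1567, e3 q1381 L12041 q1381, e3 q1382 (flp_c L12050) q1192, e3 q1383 (flp_c L13720) q1569, e3 q1384 L12077 q1249, e3 q1385 L12091 q1385, e3 q1386 L12100 q1195, e3 q1387 L12108 q1196, e3 q1388 (flp_c L13768) q1573, e3 q1389 (flp_c L13756) q1572, e3 q1390 (flp_c L13741) q1571, e3 q1391 L12147 q1242, e3 q1392 L12159 q1392, e3 q1393 L12167 q1393, e3 q1394 L12175 q1394, e3 q1395 L12186 q1395, e3 q1396 L12201 q1396, e3 q1397 L12208 q1203, e3 q1398 (flp_c L13857) q1582, e3 q1399 L13864 q1583, e3 q1400 L12240 q1276, e3 q1401 L12250 q1217, e3 q1402 L12259 q1218, e3 q1403 L12265 q1207, e3 q1404 L13941 q1591, e3 q1405 L12284 q1280, e3 q1406 (flp_c L12290) q1209, e3 q1407 (flp_c L13982) q1595, trivial⟩ (by decide +kernel)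

theorem ce_c_22 : ∀ r, r < 64 → sm gc (Qf (1408 + r)) = Qf (tab Gen.c (1408 + r)) :=
  edges_tab (sm gc) Qf (tab Gen.c) 1408 [(1408, 1596), (1409, 1284), (1410, 1226), (1411, 1227), (1412, 1228), (1413, 1229), (1414, 1605), (1415, 1290), (1416, 1215), (1417, 1608), (1418, 1609), (1419, 1294), (1420, 1587), (1421, 1588), (1422, 1589), (1423, 1590), (1424, 1220), (1425, 1619), (1426, 1620), (1427, 1301), (1428, 1223), (1429, 1224), (1430, 1625), (1431, 1626), (1432, 1627), (1433, 1629), (1434, 1601), (1435, 1602), (1436, 1603), (1437, 1604), (1438, 1247), (1439, 1233), (1440, 1640), (1441, 1241), (1442, 1566), (1443, 1443), (1444, 1444), (1445, 1641), (1446, 1576), (1447, 1246), (1448, 1248), (1449, 1639), (1450, 1645), (1451, 1647), (1452, 1253), (1453, 1254), (1454, 1648), (1455, 1649), (1456, 1650), (1457, 1651), (1458, 1258), (1459, 1259), (1460, 1260), (1461, 1628), (1462, 1261), (1463, 1656), (1464, 1657), (1465, 1658), (1466, 1660), (1467, 1467),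 (1468, 1668), (1469, 1469), (1470, 1470), (1471, 1471)]
    ⟨e3 q1408 (flp_c L13990) q1596, e3 q1409 L12313 q1284, e3 q1410 L12321 q1226, e3 q1411 L12327 q1227, e3 q1412 L12335 q1228, e3 q1413 L12343 q1229, e3 q1414 L14050 q1605, e3 q1415 L12360 q1290, e3 q1416 (flp_c L12369) q1215, e3 q1417 (flp_c L14079) q1608, e3 q1418 (flp_c L14087) q1609, e3 q1419 L12396 q1294, e3 q1420 (flp_c L13911) q1587, e3 q1421 (flp_c L13919) q1588, e3 q1422 (flp_c L13929) q1589, e3 q1423 (flp_c L13936) q1590, e3 q1424 (flp_c L12432) q1220, e3 q1425 (flp_c L14163) q1619, e3 q1426 (flp_c L14171) q1620, e3 q1427 L12459 q1301, e3 q1428 L12470 q1223, e3 q1429 L12476 q1224, e3 q1430 (flp_c L14210) q1625, e3 q1431 (flp_c L14214) q1626, e3 q1432 (flp_c L14221) q1627, e3 q1433 (flp_c L14234) q1629, e3 q1434 (flp_c L14021) q1601, e3 q1435 (flp_c L14029) q1602, e3 q1436 (flp_c L14036) q1603, e3 q1437 (flp_c L14045) q1604, e3 q1438 L12539 q1247, e3 q1439 L12552 q1233, e3 q1440 (flp_c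 L14317) q1640, e3 q1441 L12572 q1241, e3 q1442 (flp_c L13678) q1566, e3 q1443 L12590 q1443, e3 q1444 L12598 q1444, e3 q1445 (flp_c L14329) q1641, e3 q1446 (flp_c L13794) q1576, e3 q1447 L12620 q1246, e3 q1448 L12625 q1248, e3 q1449 (flp_c L14306) q1639, e3 q1450 (flp_c L14358) q1645, e3 q1451 L14368 q1647, e3 q1452 L12651 q1253, e3 q1453 L12660 q1254, e3 q1454 (flp_c L14378) q1648, e3 q1455 (flp_c L14387) q1649, e3 q1456 (flp_c L14397) q1650, e3 q1457 (flp_c L14405) q1651, e3 q1458 L12700 q1258, e3 q1459 L12708 q1259, e3 q1460 L12717 q1260, e3 q1461 (flp_c L14228) q1628, e3 q1462 L12730 q1261, e3 q1463 (flp_c L14447) q1656, e3 q1464 (flp_c L14456) q1657, e3 q1465 (flp_c L14464) q1658, e3 q1466 (flp_c L14479) q1660, e3 q1467 L12768 q1467, e3 q1468 L14537 q1668, e3 q1469 L12782 q1469, e3 q1470 L12790 q1470, e3 q1471 L12800 q1471, trivial⟩ (by decide +kernel)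

theorem ce_c_23 : ∀ r, r < 64 → sm gc (Qf (1472 + r)) = Qf (tab Gen.c (1472 + r)) :=
  edges_tab (sm gc) Qf (tab Gen.c) 1472 [(1472, 1472), (1473, 1671), (1474, 1272), (1475, 1475), (1476, 1275), (1477, 1674), (1478, 1586), (1479, 1295), (1480, 1296), (1481, 1279), (1482, 1678), (1483, 1679), (1484, 1594), (1485, 1282), (1486, 1283), (1487, 1683), (1488, 1684), (1489, 1685), (1490, 1677), (1491, 1307), (1492, 1308), (1493, 1309), (1494, 1310), (1495, 1289), (1496, 1688), (1497, 1292), (1498, 1293), (1499, 1689), (1500, 1690), (1501, 1691), (1502, 1300), (1503, 1304), (1504, 1305), (1505, 1306), (1506, 1316), (1507, 1693), (1508, 1694), (1509, 1692), (1510, 1313), (1511, 1317), (1512, 1695), (1513, 1696), (1514, 1514), (1515, 1338), (1516, 1339), (1517, 1330), (1518, 1343), (1519, 1342), (1520, 1337), (1521, 1521), (1522, 1703), (1523, 1523), (1524, 1524), (1525, 1525), (1526, 1349), (1527, 1711), (1528, 1528), (1529, 1365), (1530, 1366), (1531, 1717),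 (1532, 1532), (1533, 1354), (1534, 1721), (1535, 1722)]
    ⟨e3 q1472 L12809 q1472, e3 q1473 L14556 q1671, e3 q1474 (flp_c L12818) q1272, e3 q1475 L12829 q1475, e3 q1476 (flp_c L12830) q1275, e3 q1477 (flp_c L14580) q1674, e3 q1478 (flp_c L13900) q1586, e3 q1479 L12868 q1295, e3 q1480 L12880 q1296, e3 q1481 (flp_c L12891) q1279, e3 q1482 (flp_c L14631) q1678, e3 q1483 (flp_c L14641) q1679, e3 q1484 (flp_c L13971) q1594, e3 q1485 L12935 q1282, e3 q1486 L12941 q1283, e3 q1487 (flp_c L14695) q1683, e3 q1488 (flp_c L14702) q1684, e3 q1489 (flp_c L14709) q1685, e3 q1490 (flp_c L14623) q1677, e3 q1491 L12978 q1307, e3 q1492 L12991 q1308, e3 q1493 L13004 q1309, e3 q1494 L13016 q1310, e3 q1495 (flp_c L13027) q1289, e3 q1496 (flp_c L14738) q1688, e3 q1497 L13051 q1292, e3 q1498 L13059 q1293, e3 q1499 (flp_c L14750) q1689, e3 q1500 (flp_c L14761) q1690, e3 q1501 (flp_c L14772) q1691, e3 q1502 L13100 q1300, e3 q1503 L13104 q1304, e3 q1504 L13109 q1305, e3 q1505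 L13114 q1306, e3 q1506 L13121 q1316, e3 q1507 (flp_c L14783) q1693, e3 q1508 (flp_c L14790) q1694, e3 q1509 (flp_c L14779) q1692, e3 q1510 L13148 q1313, e3 q1511 L13156 q1317, e3 q1512 (flp_c L14799) q1695, e3 q1513 (flp_c L14803) q1696, e3 q1514 L13176 q1514, e3 q1515 L13185 q1338, e3 q1516 L13201 q1339, e3 q1517 L13218 q1330, e3 q1518 L13235 q1343, e3 q1519 L13251 q1342, e3 q1520 L13268 q1337, e3 q1521 L13284 q1521, e3 q1522 L14845 q1703, e3 q1523 L13300 q1523, e3 q1524 L13308 q1524, e3 q1525 L13315 q1525, e3 q1526 L13323 q1349, e3 q1527 L14909 q1711, e3 q1528 L13347 q1528, e3 q1529 L13357 q1365, e3 q1530 L13368 q1366, e3 q1531 L14976 q1717, e3 q1532 L13389 q1532, e3 q1533 (flp_c L13393) q1354, e3 q1534 (flp_c L15017) q1721, e3 q1535 (flp_c L15024) q1722, trivial⟩ (by decide +kernel)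

theorem ce_c_24 : ∀ r, r < 64 → sm gc (Qf (1536 + r)) = Qf (tab Gen.c (1536 + r)) :=
  edges_tab (sm gc) Qf (tab Gen.c) 1536 [(1536, 1536), (1537, 1373), (1538, 1374), (1539, 1375), (1540, 1376), (1541, 1541), (1542, 1732), (1543, 1543), (1544, 1735), (1545, 1545), (1546, 1363), (1547, 1738), (1548, 1739), (1549, 1714), (1550, 1715), (1551, 1716), (1552, 1367), (1553, 1746), (1554, 1747), (1555, 1555), (1556, 1370), (1557, 1371), (1558, 1752), (1559, 1753), (1560, 1754), (1561, 1756), (1562, 1727), (1563, 1728), (1564, 1729), (1565, 1730), (1566, 1442), (1567, 1380), (1568, 1767), (1569, 1383), (1570, 1768), (1571, 1390), (1572, 1389), (1573, 1388), (1574, 1770), (1575, 1769), (1576, 1446), (1577, 1577), (1578, 1578), (1579, 1775), (1580, 1580), (1581, 1581), (1582, 1398), (1583, 1399), (1584, 1780), (1585, 1781), (1586, 1478), (1587, 1420), (1588, 1421), (1589, 1422), (1590, 1423), (1591, 1404), (1592, 1791), (1593, 1792), (1594, 1484), (1595, 1407),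 (1596, 1408), (1597, 1797), (1598, 1798), (1599, 1799)]
    ⟨e3 q1536 L13418 q1536, e3 q1537 L13426 q1373, e3 q1538 L13434 q1374, e3 q1539 L13444 q1375, e3 q1540 L13451 q1376, e3 q1541 L13461 q1541, e3 q1542 L15102 q1732, e3 q1543 L13480 q1543, e3 q1544 L15132 q1735, e3 q1545 L13502 q1545, e3 q1546 (flp_c L13511) q1363, e3 q1547 (flp_c L15163) q1738, e3 q1548 (flp_c L15172) q1739, e3 q1549 (flp_c L14946) q1714, e3 q1550 (flp_c L14958) q1715, e3 q1551 (flp_c L14968) q1716, e3 q1552 (flp_c L13564) q1367, e3 q1553 (flp_c L15241) q1746, e3 q1554 (flp_c L15248) q1747, e3 q1555 L13593 q1555, e3 q1556 L13602 q1370, e3 q1557 L13607 q1371, e3 q1558 (flp_c L15291) q1752, e3 q1559 (flp_c L15297) q1753, e3 q1560 (flp_c L15305) q1754, e3 q1561 (flp_c L15316) q1756, e3 q1562 (flp_c L15061) q1727, e3 q1563 (flp_c L15071) q1728, e3 q1564 (flp_c L15080) q1729, e3 q1565 (flp_c L15088) q1730, e3 q1566 L13678 q1442, e3 q1567 L13693 q1380, e3 q1568 (flp_c L15415) q1767,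 e3 q1569 L13720 q1383, e3 q1570 (flp_c L15431) q1768, e3 q1571 L13741 q1390, e3 q1572 L13756 q1389, e3 q1573 L13768 q1388, e3 q1574 (flp_c L15461) q1770, e3 q1575 (flp_c L15446) q1769, e3 q1576 L13794 q1446, e3 q1577 L13806 q1577, e3 q1578 L13818 q1578, e3 q1579 L15510 q1775, e3 q1580 L13838 q1580, e3 q1581 L13847 q1581, e3 q1582 L13857 q1398, e3 q1583 (flp_c L13864) q1399, e3 q1584 (flp_c L15563) q1780, e3 q1585 (flp_c L15575) q1781, e3 q1586 L13900 q1478, e3 q1587 L13911 q1420, e3 q1588 L13919 q1421, e3 q1589 L13929 q1422, e3 q1590 L13936 q1423, e3 q1591 (flp_c L13941) q1404, e3 q1592 (flp_c L15669) q1791, e3 q1593 (flp_c L15679) q1792, e3 q1594 L13971 q1484, e3 q1595 L13982 q1407, e3 q1596 L13990 q1408, e3 q1597 (flp_c L15721) q1797, e3 q1598 (flp_c L15727) q1798, e3 q1599 (flp_c L15736) q1799, trivial⟩ (by decide +kernel)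

theorem ce_c_25 : ∀ r, r < 64 → sm gc (Qf (1600 + r)) = Qf (tab Gen.c (1600 + r)) :=
  edges_tab (sm gc) Qf (tab Gen.c) 1600 [(1600, 1801), (1601, 1434), (1602, 1435), (1603, 1436), (1604, 1437), (1605, 1414), (1606, 1812), (1607, 1813), (1608, 1417), (1609, 1418), (1610, 1817), (1611, 1818), (1612, 1819), (1613, 1821), (1614, 1786), (1615, 1787), (1616, 1788), (1617, 1789), (1618, 1618), (1619, 1425), (1620, 1426), (1621, 1831), (1622, 1832), (1623, 1833), (1624, 1834), (1625, 1430), (1626, 1431), (1627, 1432), (1628, 1461), (1629, 1433), (1630, 1840), (1631, 1841), (1632, 1842), (1633, 1844), (1634, 1806), (1635, 1807), (1636, 1853), (1637, 1809), (1638, 1810), (1639, 1449), (1640, 1440), (1641, 1445), (1642, 1766), (1643, 1772), (1644, 1839), (1645, 1450), (1646, 1858), (1647, 1451), (1648, 1454), (1649, 1455), (1650, 1456), (1651, 1457), (1652, 1860), (1653, 1861), (1654, 1862), (1655, 1863), (1656, 1463), (1657, 1464), (1658, 1465), (1659, 1843),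 (1660, 1466), (1661, 1845), (1662, 1846), (1663, 1868)]
    ⟨e3 q1600 (flp_c L15752) q1801, e3 q1601 L14021 q1434, e3 q1602 L14029 q1435, e3 q1603 L14036 q1436, e3 q1604 L14045 q1437, e3 q1605 (flp_c L14050) q1414, e3 q1606 (flp_c L15834) q1812, e3 q1607 (flp_c L15846) q1813, e3 q1608 L14079 q1417, e3 q1609 L14087 q1418, e3 q1610 (flp_c L15881) q1817, e3 q1611 (flp_c L15889) q1818, e3 q1612 (flp_c L15898) q1819, e3 q1613 (flp_c L15912) q1821, e3 q1614 (flp_c L15624) q1786, e3 q1615 (flp_c L15634) q1787, e3 q1616 (flp_c L15641) q1788, e3 q1617 (flp_c L15649) q1789, e3 q1618 L14158 q1618, e3 q1619 L14163 q1425, e3 q1620 L14171 q1426, e3 q1621 (flp_c L15996) q1831, e3 q1622 (flp_c L16002) q1832, e3 q1623 (flp_c L16013) q1833, e3 q1624 (flp_c L16021) q1834, e3 q1625 L14210 q1430, e3 q1626 L14214 q1431, e3 q1627 L14221 q1432, e3 q1628 L14228 q1461, e3 q1629 L14234 q1433, e3 q1630 (flp_c L16069) q1840, e3 q1631 (flp_c L16075) q1841, e3 q1632 (flp_c L16081)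 q1842, e3 q1633 (flp_c L16096) q1844, e3 q1634 (flp_c L15786) q1806, e3 q1635 (flp_c L15793) q1807, e3 q1636 L16159 q1853, e3 q1637 (flp_c L15807) q1809, e3 q1638 (flp_c L15814) q1810, e3 q1639 L14306 q1449, e3 q1640 L14317 q1440, e3 q1641 L14329 q1445, e3 q1642 (flp_c L15400) q1766, e3 q1643 (flp_c L15483) q1772, e3 q1644 (flp_c L16063) q1839, e3 q1645 L14358 q1450, e3 q1646 L16189 q1858, e3 q1647 (flp_c L14368) q1451, e3 q1648 L14378 q1454, e3 q1649 L14387 q1455, e3 q1650 L14397 q1456, e3 q1651 L14405 q1457, e3 q1652 (flp_c L16202) q1860, e3 q1653 (flp_c L16212) q1861, e3 q1654 (flp_c L16221) q1862, e3 q1655 (flp_c L16230) q1863, e3 q1656 L14447 q1463, e3 q1657 L14456 q1464, e3 q1658 L14464 q1465, e3 q1659 (flp_c L16090) q1843, e3 q1660 L14479 q1466, e3 q1661 (flp_c L16102) q1845, e3 q1662 (flp_c L16109) q1846, e3 q1663 (flp_c L16273) q1868, trivial⟩ (by decide +kernel)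

theorem ce_c_26 : ∀ r, r < 64 → sm gc (Qf (1664 + r)) = Qf (tab Gen.c (1664 + r)) :=
  edges_tab (sm gc) Qf (tab Gen.c) 1664 [(1664, 1878), (1665, 1870), (1666, 1872), (1667, 1667), (1668, 1468), (1669, 1881), (1670, 1882), (1671, 1473), (1672, 1883), (1673, 1673), (1674, 1477), (1675, 1885), (1676, 1886), (1677, 1490), (1678, 1482), (1679, 1483), (1680, 1888), (1681, 1889), (1682, 1890), (1683, 1487), (1684, 1488), (1685, 1489), (1686, 1686), (1687, 1887), (1688, 1496), (1689, 1499), (1690, 1500), (1691, 1501), (1692, 1509), (1693, 1507), (1694, 1508), (1695, 1512), (1696, 1513), (1697, 1894), (1698, 1896), (1699, 1897), (1700, 1898), (1701, 1902), (1702, 1702), (1703, 1522), (1704, 1906), (1705, 1907), (1706, 1706), (1707, 1707), (1708, 1708), (1709, 1709), (1710, 1710), (1711, 1527), (1712, 1916), (1713, 1917), (1714, 1549), (1715, 1550), (1716, 1551), (1717, 1531), (1718, 1924), (1719, 1925), (1720, 1720), (1721, 1534), (1722, 1535), (1723, 1930),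 (1724, 1931), (1725, 1932), (1726, 1934), (1727, 1562)]
    ⟨e3 q1664 L16344 q1878, e3 q1665 (flp_c L16287) q1870, e3 q1666 (flp_c L16304) q1872, e3 q1667 L14531 q1667, e3 q1668 (flp_c L14537) q1468, e3 q1669 (flp_c L16365) q1881, e3 q1670 L16369 q1882, e3 q1671 (flp_c L14556) q1473, e3 q1672 (flp_c L16379) q1883, e3 q1673 L14567 q1673, e3 q1674 L14580 q1477, e3 q1675 (flp_c L16395) q1885, e3 q1676 (flp_c L16410) q1886, e3 q1677 L14623 q1490, e3 q1678 L14631 q1482, e3 q1679 L14641 q1483, e3 q1680 (flp_c L16441) q1888, e3 q1681 (flp_c L16456) q1889, e3 q1682 (flp_c L16471) q1890, e3 q1683 L14695 q1487, e3 q1684 L14702 q1488, e3 q1685 L14709 q1489, e3 q1686 L14718 q1686, e3 q1687 (flp_c L16425) q1887, e3 q1688 L14738 q1496, e3 q1689 L14750 q1499, e3 q1690 L14761 q1500, e3 q1691 L14772 q1501, e3 q1692 L14779 q1509, e3 q1693 L14783 q1507, e3 q1694 L14790 q1508, e3 q1695 L14799 q1512, e3 q1696 L14803 q1513, e3 q1697 (flp_c L16503) q1894, e3 q1698 (flp_c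 L16515) q1896, e3 q1699 (flp_c L16519) q1897, e3 q1700 (flp_c L16523) q1898, e3 q1701 L16543 q1902, e3 q1702 L14840 q1702, e3 q1703 (flp_c L14845) q1522, e3 q1704 (flp_c L16582) q1906, e3 q1705 (flp_c L16589) q1907, e3 q1706 L14871 q1706, e3 q1707 L14880 q1707, e3 q1708 L14887 q1708, e3 q1709 L14895 q1709, e3 q1710 L14903 q1710, e3 q1711 (flp_c L14909) q1527, e3 q1712 (flp_c L16664) q1916, e3 q1713 (flp_c L16677) q1917, e3 q1714 L14946 q1549, e3 q1715 L14958 q1550, e3 q1716 L14968 q1551, e3 q1717 (flp_c L14976) q1531, e3 q1718 (flp_c L16756) q1924, e3 q1719 (flp_c L16765) q1925, e3 q1720 L15008 q1720, e3 q1721 L15017 q1534, e3 q1722 L15024 q1535, e3 q1723 (flp_c L16811) q1930, e3 q1724 (flp_c L16819) q1931, e3 q1725 (flp_c L16829) q1932, e3 q1726 (flp_c L16843) q1934, e3 q1727 L15061 q1562, trivial⟩ (by decide +kernel)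

theorem ce_c_27 : ∀ r, r < 64 → sm gc (Qf (1728 + r)) = Qf (tab Gen.c (1728 + r)) :=
  edges_tab (sm gc) Qf (tab Gen.c) 1728 [(1728, 1563), (1729, 1564), (1730, 1565), (1731, 1944), (1732, 1542), (1733, 1946), (1734, 1734), (1735, 1544), (1736, 1949), (1737, 1950), (1738, 1547), (1739, 1548), (1740, 1954), (1741, 1955), (1742, 1957), (1743, 1921), (1744, 1922), (1745, 1745), (1746, 1553), (1747, 1554), (1748, 1963), (1749, 1964), (1750, 1965), (1751, 1967), (1752, 1558), (1753, 1559), (1754, 1560), (1755, 1755), (1756, 1561), (1757, 1973), (1758, 1974), (1759, 1975), (1760, 1977), (1761, 1939), (1762, 1940), (1763, 1988), (1764, 1942), (1765, 1943), (1766, 1642), (1767, 1568), (1768, 1570), (1769, 1575), (1770, 1574), (1771, 1972), (1772, 1643), (1773, 1994), (1774, 1995), (1775, 1579), (1776, 1776), (1777, 1777), (1778, 1778), (1779, 1779), (1780, 1584), (1781, 1585), (1782, 2001), (1783, 2002), (1784, 2003), (1785, 2004), (1786, 1614), (1787, 1615),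 (1788, 1616), (1789, 1617), (1790, 1790), (1791, 1592)]
    ⟨e3 q1728 L15071 q1563, e3 q1729 L15080 q1564, e3 q1730 L15088 q1565, e3 q1731 L16923 q1944, e3 q1732 (flp_c L15102) q1542, e3 q1733 (flp_c L16947) q1946, e3 q1734 L15124 q1734, e3 q1735 (flp_c L15132) q1544, e3 q1736 (flp_c L16979) q1949, e3 q1737 (flp_c L16990) q1950, e3 q1738 L15163 q1547, e3 q1739 L15172 q1548, e3 q1740 (flp_c L17031) q1954, e3 q1741 (flp_c L17041) q1955, e3 q1742 (flp_c L17053) q1957, e3 q1743 (flp_c L16721) q1921, e3 q1744 (flp_c L16732) q1922, e3 q1745 L15236 q1745, e3 q1746 L15241 q1553, e3 q1747 L15248 q1554, e3 q1748 (flp_c L17115) q1963, e3 q1749 (flp_c L17123) q1964, e3 q1750 (flp_c L17133) q1965, e3 q1751 (flp_c L17148) q1967, e3 q1752 L15291 q1558, e3 q1753 L15297 q1559, e3 q1754 L15305 q1560, e3 q1755 L15312 q1755, e3 q1756 L15316 q1561, e3 q1757 (flp_c L17201) q1973, e3 q1758 (flp_c L17209) q1974, e3 q1759 (flp_c L17217) q1975, e3 q1760 (flp_c L17230) q1977,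 e3 q1761 (flp_c L16881) q1939, e3 q1762 (flp_c L16892) q1940, e3 q1763 L17324 q1988, e3 q1764 (flp_c L16907) q1942, e3 q1765 (flp_c L16916) q1943, e3 q1766 L15400 q1642, e3 q1767 L15415 q1568, e3 q1768 L15431 q1570, e3 q1769 L15446 q1575, e3 q1770 L15461 q1574, e3 q1771 (flp_c L17196) q1972, e3 q1772 L15483 q1643, e3 q1773 L17383 q1994, e3 q1774 L17388 q1995, e3 q1775 (flp_c L15510) q1579, e3 q1776 L15522 q1776, e3 q1777 L15531 q1777, e3 q1778 L15541 q1778, e3 q1779 L15551 q1779, e3 q1780 L15563 q1584, e3 q1781 L15575 q1585, e3 q1782 (flp_c L17452) q2001, e3 q1783 (flp_c L17462) q2002, e3 q1784 (flp_c L17475) q2003, e3 q1785 (flp_c L17487) q2004, e3 q1786 L15624 q1614, e3 q1787 L15634 q1615, e3 q1788 L15641 q1616, e3 q1789 L15649 q1617, e3 q1790 L15664 q1790, e3 q1791 L15669 q1592, trivial⟩ (by decide +kernel)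

theorem ce_c_28 : ∀ r, r < 64 → sm gc (Qf (1792 + r)) = Qf (tab Gen.c (1792 + r)) :=
  edges_tab (sm gc) Qf (tab Gen.c) 1792 [(1792, 1593), (1793, 2015), (1794, 2016), (1795, 2017), (1796, 2019), (1797, 1597), (1798, 1598), (1799, 1599), (1800, 1800), (1801, 1600), (1802, 2025), (1803, 2026), (1804, 2027), (1805, 2029), (1806, 1634), (1807, 1635), (1808, 2040), (1809, 1637), (1810, 1638), (1811, 1811), (1812, 1606), (1813, 1607), (1814, 2043), (1815, 2044), (1816, 2045), (1817, 1610), (1818, 1611), (1819, 1612), (1820, 1820), (1821, 1613), (1822, 2049), (1823, 2050), (1824, 2051), (1825, 2053), (1826, 2009), (1827, 2037), (1828, 2011), (1829, 2012), (1830, 1830), (1831, 1621), (1832, 1622), (1833, 1623), (1834, 1624), (1835, 2048), (1836, 2063), (1837, 2064), (1838, 2065), (1839, 1644), (1840, 1630), (1841, 1631), (1842, 1632), (1843, 1659), (1844, 1633), (1845, 1661), (1846, 1662), (1847, 2071), (1848, 2072), (1849, 2082), (1850, 2074), (1851, 2076),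 (1852, 2039), (1853, 1636), (1854, 2085), (1855, 2086)]
    ⟨e3 q1792 L15679 q1593, e3 q1793 (flp_c L17595) q2015, e3 q1794 (flp_c L17605) q2016, e3 q1795 (flp_c L17616) q2017, e3 q1796 (flp_c L17634) q2019, e3 q1797 L15721 q1597, e3 q1798 L15727 q1598, e3 q1799 L15736 q1599, e3 q1800 L15745 q1800, e3 q1801 L15752 q1600, e3 q1802 (flp_c L17686) q2025, e3 q1803 (flp_c L17694) q2026, e3 q1804 (flp_c L17702) q2027, e3 q1805 (flp_c L17720) q2029, e3 q1806 L15786 q1634, e3 q1807 L15793 q1635, e3 q1808 L17798 q2040, e3 q1809 L15807 q1637, e3 q1810 L15814 q1638, e3 q1811 L15829 q1811, e3 q1812 L15834 q1606, e3 q1813 L15846 q1607, e3 q1814 (flp_c L17828) q2043, e3 q1815 (flp_c L17840) q2044, e3 q1816 (flp_c L17850) q2045, e3 q1817 L15881 q1610, e3 q1818 L15889 q1611, e3 q1819 L15898 q1612, e3 q1820 L15907 q1820, e3 q1821 L15912 q1613, e3 q1822 (flp_c L17892) q2049, e3 q1823 (flp_c L17902) q2050, e3 q1824 (flp_c L17910) q2051, e3 q1825 (flp_c L17926) q2053,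 e3 q1826 (flp_c L17539) q2009, e3 q1827 (flp_c L17777) q2037, e3 q1828 (flp_c L17552) q2011, e3 q1829 (flp_c L17561) q2012, e3 q1830 L15989 q1830, e3 q1831 L15996 q1621, e3 q1832 L16002 q1622, e3 q1833 L16013 q1623, e3 q1834 L16021 q1624, e3 q1835 (flp_c L17882) q2048, e3 q1836 (flp_c L18017) q2063, e3 q1837 (flp_c L18025) q2064, e3 q1838 (flp_c L18034) q2065, e3 q1839 L16063 q1644, e3 q1840 L16069 q1630, e3 q1841 L16075 q1631, e3 q1842 L16081 q1632, e3 q1843 L16090 q1659, e3 q1844 L16096 q1633, e3 q1845 L16102 q1661, e3 q1846 L16109 q1662, e3 q1847 (flp_c L18083) q2071, e3 q1848 (flp_c L18088) q2072, e3 q1849 L18153 q2082, e3 q1850 (flp_c L18098) q2074, e3 q1851 (flp_c L18113) q2076, e3 q1852 (flp_c L17792) q2039, e3 q1853 (flp_c L16159) q1636, e3 q1854 (flp_c L18176) q2085, e3 q1855 L18180 q2086, trivial⟩ (by decide +kernel)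

theorem ce_c_29 : ∀ r, r < 64 → sm gc (Qf (1856 + r)) = Qf (tab Gen.c (1856 + r)) :=
  edges_tab (sm gc) Qf (tab Gen.c) 1856 [(1856, 2070), (1857, 2089), (1858, 1646), (1859, 2090), (1860, 1652), (1861, 1653), (1862, 1654), (1863, 1655), (1864, 2092), (1865, 2097), (1866, 2094), (1867, 2095), (1868, 1663), (1869, 2101), (1870, 1665), (1871, 2075), (1872, 1666), (1873, 2077), (1874, 2078), (1875, 2079), (1876, 2080), (1877, 2100), (1878, 1664), (1879, 2111), (1880, 2110), (1881, 1669), (1882, 1670), (1883, 1672), (1884, 2114), (1885, 1675), (1886, 1676), (1887, 1687), (1888, 1680), (1889, 1681), (1890, 1682), (1891, 1891), (1892, 1892), (1893, 1893), (1894, 1697), (1895, 1895), (1896, 1698), (1897, 1699), (1898, 1700), (1899, 2120), (1900, 2122), (1901, 2123), (1902, 1701), (1903, 2126), (1904, 2127), (1905, 1905), (1906, 1704), (1907, 1705), (1908, 2129), (1909, 2128), (1910, 2132), (1911, 2134), (1912, 1912), (1913, 1913), (1914, 1914), (1915, 1915),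 (1916, 1712), (1917, 1713), (1918, 2142), (1919, 2143)]
    ⟨e3 q1856 (flp_c L18077) q2070, e3 q1857 L18197 q2089, e3 q1858 (flp_c L16189) q1646, e3 q1859 (flp_c L18206) q2090, e3 q1860 L16202 q1652, e3 q1861 L16212 q1653, e3 q1862 L16221 q1654, e3 q1863 L16230 q1655, e3 q1864 (flp_c L18220) q2092, e3 q1865 L18262 q2097, e3 q1866 (flp_c L18236) q2094, e3 q1867 (flp_c L18246) q2095, e3 q1868 L16273 q1663, e3 q1869 L18293 q2101, e3 q1870 L16287 q1665, e3 q1871 (flp_c L18107) q2075, e3 q1872 L16304 q1666, e3 q1873 (flp_c L18120) q2077, e3 q1874 (flp_c L18126) q2078, e3 q1875 (flp_c L18134) q2079, e3 q1876 (flp_c L18140) q2080, e3 q1877 (flp_c L18286) q2100, e3 q1878 (flp_c L16344) q1664, e3 q1879 (flp_c L18362) q2111, e3 q1880 (flp_c L18358) q2110, e3 q1881 L16365 q1669, e3 q1882 (flp_c L16369) q1670, e3 q1883 L16379 q1672, e3 q1884 (flp_c L18378) q2114, e3 q1885 L16395 q1675, e3 q1886 L16410 q1676, e3 q1887 L16425 q1687, e3 q1888 L16441 q1680, e3 q1889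 L16456 q1681, e3 q1890 L16471 q1682, e3 q1891 L16486 q1891, e3 q1892 L16493 q1892, e3 q1893 L16498 q1893, e3 q1894 L16503 q1697, e3 q1895 L16509 q1895, e3 q1896 L16515 q1698, e3 q1897 L16519 q1699, e3 q1898 L16523 q1700, e3 q1899 (flp_c L18421) q2120, e3 q1900 (flp_c L18431) q2122, e3 q1901 (flp_c L18437) q2123, e3 q1902 (flp_c L16543) q1701, e3 q1903 (flp_c L18458) q2126, e3 q1904 (flp_c L18466) q2127, e3 q1905 L16573 q1905, e3 q1906 L16582 q1704, e3 q1907 L16589 q1705, e3 q1908 (flp_c L18489) q2129, e3 q1909 (flp_c L18495) q2128, e3 q1910 (flp_c L18525) q2132, e3 q1911 (flp_c L18539) q2134, e3 q1912 L16628 q1912, e3 q1913 L16636 q1913, e3 q1914 L16643 q1914, e3 q1915 L16652 q1915, e3 q1916 L16664 q1712, e3 q1917 L16677 q1713, e3 q1918 (flp_c L18608) q2142, e3 q1919 (flp_c L18622) q2143, trivial⟩ (by decide +kernel)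

theorem ce_c_30 : ∀ r, r < 64 → sm gc (Qf (1920 + r)) = Qf (tab Gen.c (1920 + r)) :=
  edges_tab (sm gc) Qf (tab Gen.c) 1920 [(1920, 2145), (1921, 1743), (1922, 1744), (1923, 1923), (1924, 1718), (1925, 1719), (1926, 2152), (1927, 2153), (1928, 2154), (1929, 2156), (1930, 1723), (1931, 1724), (1932, 1725), (1933, 2133), (1934, 1726), (1935, 2162), (1936, 2163), (1937, 2164), (1938, 2166), (1939, 1761), (1940, 1762), (1941, 2177), (1942, 1764), (1943, 1765), (1944, 1731), (1945, 2180), (1946, 1733), (1947, 2183), (1948, 1948), (1949, 1736), (1950, 1737), (1951, 2186), (1952, 2187), (1953, 2189), (1954, 1740), (1955, 1741), (1956, 2182), (1957, 1742), (1958, 2193), (1959, 2195), (1960, 2149), (1961, 1961), (1962, 1962), (1963, 1748), (1964, 1749), (1965, 1750), (1966, 1966), (1967, 1751), (1968, 2204), (1969, 2205), (1970, 2206), (1971, 2208), (1972, 1771), (1973, 1757), (1974, 1758), (1975, 1759), (1976, 1976), (1977, 1760), (1978, 1978), (1979, 1979),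 (1980, 2216), (1981, 2217), (1982, 2230), (1983, 2219)]
    ⟨e3 q1920 (flp_c L18645) q2145, e3 q1921 L16721 q1743, e3 q1922 L16732 q1744, e3 q1923 L16751 q1923, e3 q1924 L16756 q1718, e3 q1925 L16765 q1719, e3 q1926 (flp_c L18725) q2152, e3 q1927 (flp_c L18735) q2153, e3 q1928 (flp_c L18745) q2154, e3 q1929 (flp_c L18759) q2156, e3 q1930 L16811 q1723, e3 q1931 L16819 q1724, e3 q1932 L16829 q1725, e3 q1933 (flp_c L18533) q2133, e3 q1934 L16843 q1726, e3 q1935 (flp_c L18814) q2162, e3 q1936 (flp_c L18824) q2163, e3 q1937 (flp_c L18834) q2164, e3 q1938 (flp_c L18850) q2166, e3 q1939 L16881 q1761, e3 q1940 L16892 q1762, e3 q1941 L18938 q2177, e3 q1942 L16907 q1764, e3 q1943 L16916 q1765, e3 q1944 (flp_c L16923) q1731, e3 q1945 (flp_c L18967) q2180, e3 q1946 L16947 q1733, e3 q1947 (flp_c L18997) q2183, e3 q1948 L16974 q1948, e3 q1949 L16979 q1736, e3 q1950 L16990 q1737, e3 q1951 (flp_c L19030) q2186, e3 q1952 (flp_c L19044) q2187, e3 q1953 (flp_c L19060)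 q2189, e3 q1954 L17031 q1740, e3 q1955 L17041 q1741, e3 q1956 (flp_c L18991) q2182, e3 q1957 L17053 q1742, e3 q1958 (flp_c L19108) q2193, e3 q1959 (flp_c L19127) q2195, e3 q1960 (flp_c L18691) q2149, e3 q1961 L17101 q1961, e3 q1962 L17107 q1962, e3 q1963 L17115 q1748, e3 q1964 L17123 q1749, e3 q1965 L17133 q1750, e3 q1966 L17142 q1966, e3 q1967 L17148 q1751, e3 q1968 (flp_c L19210) q2204, e3 q1969 (flp_c L19224) q2205, e3 q1970 (flp_c L19234) q2206, e3 q1971 (flp_c L19251) q2208, e3 q1972 L17196 q1771, e3 q1973 L17201 q1757, e3 q1974 L17209 q1758, e3 q1975 L17217 q1759, e3 q1976 L17226 q1976, e3 q1977 L17230 q1760, e3 q1978 L17236 q1978, e3 q1979 L17243 q1979, e3 q1980 (flp_c L19332) q2216, e3 q1981 (flp_c L19343) q2217, e3 q1982 L19443 q2230, e3 q1983 (flp_c L19355) q2219, trivial⟩ (by decide +kernel)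

theorem ce_c_31 : ∀ r, r < 64 → sm gc (Qf (1984 + r)) = Qf (tab Gen.c (1984 + r)) :=
  edges_tab (sm gc) Qf (tab Gen.c) 1984 [(1984, 2221), (1985, 2174), (1986, 2233), (1987, 2176), (1988, 1763), (1989, 2236), (1990, 2192), (1991, 2203), (1992, 2214), (1993, 2215), (1994, 1773), (1995, 1774), (1996, 2239), (1997, 1997), (1998, 1998), (1999, 1999), (2000, 2000), (2001, 1782), (2002, 1783), (2003, 1784), (2004, 1785), (2005, 2247), (2006, 2248), (2007, 2249), (2008, 2250), (2009, 1826), (2010, 2257), (2011, 1828), (2012, 1829), (2013, 2013), (2014, 2014), (2015, 1793), (2016, 1794), (2017, 1795), (2018, 2018), (2019, 1796), (2020, 2263), (2021, 2264), (2022, 2265), (2023, 2267), (2024, 2024), (2025, 1802), (2026, 1803), (2027, 1804), (2028, 2028), (2029, 1805), (2030, 2030), (2031, 2031), (2032, 2276), (2033, 2277), (2034, 2289), (2035, 2279), (2036, 2281), (2037, 1827), (2038, 2148), (2039, 1852), (2040, 1808), (2041, 2294), (2042, 2042), (2043, 1814),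 (2044, 1815), (2045, 1816), (2046, 2296), (2047, 2297)]
    ⟨e3 q1984 (flp_c L19370) q2221, e3 q1985 (flp_c L18914) q2174, e3 q1986 L19471 q2233, e3 q1987 (flp_c L18930) q2176, e3 q1988 (flp_c L17324) q1763, e3 q1989 (flp_c L19503) q2236, e3 q1990 (flp_c L19103) q2192, e3 q1991 (flp_c L19201) q2203, e3 q1992 (flp_c L19312) q2214, e3 q1993 (flp_c L19323) q2215, e3 q1994 (flp_c L17383) q1773, e3 q1995 (flp_c L17388) q1774, e3 q1996 (flp_c L19531) q2239, e3 q1997 L17410 q1997, e3 q1998 L17420 q1998, e3 q1999 L17429 q1999, e3 q2000 L17440 q2000, e3 q2001 L17452 q1782, e3 q2002 L17462 q1783, e3 q2003 L17475 q1784, e3 q2004 L17487 q1785, e3 q2005 (flp_c L19614) q2247, e3 q2006 (flp_c L19628) q2248, e3 q2007 (flp_c L19638) q2249, e3 q2008 (flp_c L19651) q2250, e3 q2009 L17539 q1826, e3 q2010 L19718 q2257, e3 q2011 L17552 q1828, e3 q2012 L17561 q1829, e3 q2013 L17574 q2013, e3 q2014 L17587 q2014, e3 q2015 L17595 q1793, e3 q2016 L17605 q1794, e3 q2017 L17616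 q1795, e3 q2018 L17627 q2018, e3 q2019 L17634 q1796, e3 q2020 (flp_c L19788) q2263, e3 q2021 (flp_c L19800) q2264, e3 q2022 (flp_c L19810) q2265, e3 q2023 (flp_c L19834) q2267, e3 q2024 L17679 q2024, e3 q2025 L17686 q1802, e3 q2026 L17694 q1803, e3 q2027 L17702 q1804, e3 q2028 L17713 q2028, e3 q2029 L17720 q1805, e3 q2030 L17728 q2030, e3 q2031 L17736 q2031, e3 q2032 (flp_c L19921) q2276, e3 q2033 (flp_c L19928) q2277, e3 q2034 L20021 q2289, e3 q2035 (flp_c L19942) q2279, e3 q2036 (flp_c L19962) q2281, e3 q2037 L17777 q1827, e3 q2038 (flp_c L18684) q2148, e3 q2039 L17792 q1852, e3 q2040 (flp_c L17798) q1808, e3 q2041 (flp_c L20057) q2294, e3 q2042 L17817 q2042, e3 q2043 L17828 q1814, e3 q2044 L17840 q1815, e3 q2045 L17850 q1816, e3 q2046 (flp_c L20071) q2296, e3 q2047 (flp_c L20081) q2297, trivial⟩ (by decide +kernel)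

theorem ce_c_32 : ∀ r, r < 64 → sm gc (Qf (2048 + r)) = Qf (tab Gen.c (2048 + r)) :=
  edges_tab (sm gc) Qf (tab Gen.c) 2048 [(2048, 1835), (2049, 1822), (2050, 1823), (2051, 1824), (2052, 2052), (2053, 1825), (2054, 2054), (2055, 2300), (2056, 2308), (2057, 2302), (2058, 2304), (2059, 2256), (2060, 2291), (2061, 2061), (2062, 2062), (2063, 1836), (2064, 1837), (2065, 1838), (2066, 2299), (2067, 2314), (2068, 2311), (2069, 2312), (2070, 1856), (2071, 1847), (2072, 1848), (2073, 2320), (2074, 1850), (2075, 1871), (2076, 1851), (2077, 1873), (2078, 1874), (2079, 1875), (2080, 1876), (2081, 2319), (2082, 1849), (2083, 2330), (2084, 2329), (2085, 1854), (2086, 1855), (2087, 2334), (2088, 2317), (2089, 1857), (2090, 1859), (2091, 2337), (2092, 1864), (2093, 2340), (2094, 1866), (2095, 1867), (2096, 2339), (2097, 1865), (2098, 2343), (2099, 2194), (2100, 1877), (2101, 1869), (2102, 2347), (2103, 2348), (2104, 2323), (2105, 2324), (2106, 2325), (2107, 2326),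 (2108, 2327), (2109, 2328), (2110, 1880), (2111, 1879)]
    ⟨e3 q2048 L17882 q1835, e3 q2049 L17892 q1822, e3 q2050 L17902 q1823, e3 q2051 L17910 q1824, e3 q2052 L17921 q2052, e3 q2053 L17926 q1825, e3 q2054 L17936 q2054, e3 q2055 (flp_c L20114) q2300, e3 q2056 L20181 q2308, e3 q2057 (flp_c L20124) q2302, e3 q2058 (flp_c L20146) q2304, e3 q2059 (flp_c L19710) q2256, e3 q2060 (flp_c L20035) q2291, e3 q2061 L18000 q2061, e3 q2062 L18007 q2062, e3 q2063 L18017 q1836, e3 q2064 L18025 q1837, e3 q2065 L18034 q1838, e3 q2066 (flp_c L20104) q2299, e3 q2067 L20231 q2314, e3 q2068 (flp_c L20205) q2311, e3 q2069 (flp_c L20213) q2312, e3 q2070 L18077 q1856, e3 q2071 L18083 q1847, e3 q2072 L18088 q1848, e3 q2073 L20270 q2320, e3 q2074 L18098 q1850, e3 q2075 L18107 q1871, e3 q2076 L18113 q1851, e3 q2077 L18120 q1873, e3 q2078 L18126 q1874, e3 q2079 L18134 q1875, e3 q2080 L18140 q1876, e3 q2081 (flp_c L20264) q2319, e3 q2082 (flp_c L18153) q1849, e3 q2083 (flp_c L20338)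 q2330, e3 q2084 (flp_c L20334) q2329, e3 q2085 L18176 q1854, e3 q2086 (flp_c L18180) q1855, e3 q2087 L20362 q2334, e3 q2088 (flp_c L20254) q2317, e3 q2089 (flp_c L18197) q1857, e3 q2090 L18206 q1859, e3 q2091 (flp_c L20381) q2337, e3 q2092 L18220 q1864, e3 q2093 L20405 q2340, e3 q2094 L18236 q1866, e3 q2095 L18246 q1867, e3 q2096 (flp_c L20398) q2339, e3 q2097 (flp_c L18262) q1865, e3 q2098 (flp_c L20430) q2343, e3 q2099 (flp_c L19122) q2194, e3 q2100 L18286 q1877, e3 q2101 (flp_c L18293) q1869, e3 q2102 (flp_c L20457) q2347, e3 q2103 (flp_c L20462) q2348, e3 q2104 (flp_c L20284) q2323, e3 q2105 (flp_c L20292) q2324, e3 q2106 (flp_c L20301) q2325, e3 q2107 (flp_c L20309) q2326, e3 q2108 (flp_c L20317) q2327, e3 q2109 (flp_c L20324) q2328, e3 q2110 L18358 q1880, e3 q2111 L18362 q1879, trivial⟩ (by decide +kernel)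

theorem ce_c_33 : ∀ r, r < 64 → sm gc (Qf (2112 + r)) = Qf (tab Gen.c (2112 + r)) :=
  edges_tab (sm gc) Qf (tab Gen.c) 2112 [(2112, 2356), (2113, 2113), (2114, 1884), (2115, 2115), (2116, 2116), (2117, 2117), (2118, 2118), (2119, 2119), (2120, 1899), (2121, 2121), (2122, 1900), (2123, 1901), (2124, 2363), (2125, 2125), (2126, 1903), (2127, 1904), (2128, 1909), (2129, 1908), (2130, 2365), (2131, 2367), (2132, 1910), (2133, 1933), (2134, 1911), (2135, 2369), (2136, 2368), (2137, 2372), (2138, 2138), (2139, 2380), (2140, 2140), (2141, 2141), (2142, 1918), (2143, 1919), (2144, 2144), (2145, 1920), (2146, 2383), (2147, 2385), (2148, 2038), (2149, 1960), (2150, 2150), (2151, 2151), (2152, 1926), (2153, 1927), (2154, 1928), (2155, 2366), (2156, 1929), (2157, 2396), (2158, 2397), (2159, 2398), (2160, 2400), (2161, 2161), (2162, 1935), (2163, 1936), (2164, 1937), (2165, 2371), (2166, 1938), (2167, 2373), (2168, 2374), (2169, 2410), (2170, 2411), (2171, 2424),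 (2172, 2413), (2173, 2415), (2174, 1985), (2175, 2428)]
    ⟨e3 q2112 (flp_c L20520) q2356, e3 q2113 L18375 q2113, e3 q2114 L18378 q1884, e3 q2115 L18395 q2115, e3 q2116 L18400 q2116, e3 q2117 L18406 q2117, e3 q2118 L18411 q2118, e3 q2119 L18416 q2119, e3 q2120 L18421 q1899, e3 q2121 L18426 q2121, e3 q2122 L18431 q1900, e3 q2123 L18437 q1901, e3 q2124 (flp_c L20564) q2363, e3 q2125 L18453 q2125, e3 q2126 L18458 q1903, e3 q2127 L18466 q1904, e3 q2128 L18495 q1909, e3 q2129 L18489 q1908, e3 q2130 (flp_c L20583) q2365, e3 q2131 (flp_c L20603) q2367, e3 q2132 L18525 q1910, e3 q2133 L18533 q1933, e3 q2134 L18539 q1911, e3 q2135 (flp_c L20625) q2369, e3 q2136 (flp_c L20613) q2368, e3 q2137 (flp_c L20655) q2372, e3 q2138 L18572 q2138, e3 q2139 L20719 q2380, e3 q2140 L18587 q2140, e3 q2141 L18595 q2141, e3 q2142 L18608 q1918, e3 q2143 L18622 q1919, e3 q2144 L18635 q2144, e3 q2145 L18645 q1920, e3 q2146 (flp_c L20755) q2383, e3 q2147 (flp_c L20781) q2385, e3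 q2148 L18684 q2038, e3 q2149 L18691 q1960, e3 q2150 L18707 q2150, e3 q2151 L18717 q2151, e3 q2152 L18725 q1926, e3 q2153 L18735 q1927, e3 q2154 L18745 q1928, e3 q2155 (flp_c L20596) q2366, e3 q2156 L18759 q1929, e3 q2157 (flp_c L20910) q2396, e3 q2158 (flp_c L20920) q2397, e3 q2159 (flp_c L20930) q2398, e3 q2160 (flp_c L20946) q2400, e3 q2161 L18808 q2161, e3 q2162 L18814 q1935, e3 q2163 L18824 q1936, e3 q2164 L18834 q1937, e3 q2165 (flp_c L20649) q2371, e3 q2166 L18850 q1938, e3 q2167 (flp_c L20663) q2373, e3 q2168 (flp_c L20671) q2374, e3 q2169 (flp_c L21042) q2410, e3 q2170 (flp_c L21055) q2411, e3 q2171 L21157 q2424, e3 q2172 (flp_c L21071) q2413, e3 q2173 (flp_c L21089) q2415, e3 q2174 L18914 q1985, e3 q2175 L21192 q2428, trivial⟩ (by decide +kernel)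

theorem ce_c_34 : ∀ r, r < 64 → sm gc (Qf (2176 + r)) = Qf (tab Gen.c (2176 + r)) :=
  edges_tab (sm gc) Qf (tab Gen.c) 2176 [(2176, 1987), (2177, 1941), (2178, 2431), (2179, 2179), (2180, 1945), (2181, 2435), (2182, 1956), (2183, 1947), (2184, 2184), (2185, 2185), (2186, 1951), (2187, 1952), (2188, 2434), (2189, 1953), (2190, 2441), (2191, 2443), (2192, 1990), (2193, 1958), (2194, 2099), (2195, 1959), (2196, 2436), (2197, 2437), (2198, 2448), (2199, 2199), (2200, 2200), (2201, 2201), (2202, 2202), (2203, 1991), (2204, 1968), (2205, 1969), (2206, 1970), (2207, 2207), (2208, 1971), (2209, 2209), (2210, 2460), (2211, 2469), (2212, 2462), (2213, 2464), (2214, 1992), (2215, 1993), (2216, 1980), (2217, 1981), (2218, 2476), (2219, 1983), (2220, 2220), (2221, 1984), (2222, 2222), (2223, 2223), (2224, 2224), (2225, 2225), (2226, 2226), (2227, 2473), (2228, 2459), (2229, 2475), (2230, 1982), (2231, 2490), (2232, 2427), (2233, 1986), (2234, 2492), (2235, 2489),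 (2236, 1989), (2237, 2446), (2238, 2472), (2239, 1996)]
    ⟨e3 q2176 L18930 q1987, e3 q2177 (flp_c L18938) q1941, e3 q2178 (flp_c L21219) q2431, e3 q2179 L18962 q2179, e3 q2180 L18967 q1945, e3 q2181 (flp_c L21255) q2435, e3 q2182 L18991 q1956, e3 q2183 L18997 q1947, e3 q2184 L19010 q2184, e3 q2185 L19022 q2185, e3 q2186 L19030 q1951, e3 q2187 L19044 q1952, e3 q2188 (flp_c L21248) q2434, e3 q2189 L19060 q1953, e3 q2190 (flp_c L21322) q2441, e3 q2191 (flp_c L21345) q2443, e3 q2192 L19103 q1990, e3 q2193 L19108 q1958, e3 q2194 L19122 q2099, e3 q2195 L19127 q1959, e3 q2196 (flp_c L21265) q2436, e3 q2197 (flp_c L21273) q2437, e3 q2198 (flp_c L21396) q2448, e3 q2199 L19166 q2199, e3 q2200 L19173 q2200, e3 q2201 L19182 q2201, e3 q2202 L19189 q2202, e3 q2203 L19201 q1991, e3 q2204 L19210 q1968, e3 q2205 L19224 q1969, e3 q2206 L19234 q1970, e3 q2207 L19245 q2207, e3 q2208 L19251 q1971, e3 q2209 L19259 q2209, e3 q2210 (flp_c L21512) q2460, e3 q2211 L21593 q2469,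 e3 q2212 (flp_c L21530) q2462, e3 q2213 (flp_c L21549) q2464, e3 q2214 L19312 q1992, e3 q2215 L19323 q1993, e3 q2216 L19332 q1980, e3 q2217 L19343 q1981, e3 q2218 L21656 q2476, e3 q2219 L19355 q1983, e3 q2220 L19366 q2220, e3 q2221 L19370 q1984, e3 q2222 L19379 q2222, e3 q2223 L19383 q2223, e3 q2224 L19390 q2224, e3 q2225 L19396 q2225, e3 q2226 L19404 q2226, e3 q2227 (flp_c L21635) q2473, e3 q2228 (flp_c L21501) q2459, e3 q2229 (flp_c L21648) q2475, e3 q2230 (flp_c L19443) q1982, e3 q2231 (flp_c L21767) q2490, e3 q2232 (flp_c L21183) q2427, e3 q2233 (flp_c L19471) q1986, e3 q2234 (flp_c L21786) q2492, e3 q2235 (flp_c L21763) q2489, e3 q2236 L19503 q1989, e3 q2237 (flp_c L21379) q2446, e3 q2238 (flp_c L21626) q2472, e3 q2239 L19531 q1996, trivial⟩ (by decide +kernel)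

theorem ce_c_35 : ∀ r, r < 64 → sm gc (Qf (2240 + r)) = Qf (tab Gen.c (2240 + r)) :=
  edges_tab (sm gc) Qf (tab Gen.c) 2240 [(2240, 2454), (2241, 2496), (2242, 2242), (2243, 2499), (2244, 2244), (2245, 2245), (2246, 2246), (2247, 2005), (2248, 2006), (2249, 2007), (2250, 2008), (2251, 2502), (2252, 2508), (2253, 2504), (2254, 2505), (2255, 2426), (2256, 2059), (2257, 2010), (2258, 2512), (2259, 2259), (2260, 2260), (2261, 2261), (2262, 2262), (2263, 2020), (2264, 2021), (2265, 2022), (2266, 2266), (2267, 2023), (2268, 2268), (2269, 2517), (2270, 2518), (2271, 2527), (2272, 2520), (2273, 2521), (2274, 2274), (2275, 2275), (2276, 2032), (2277, 2033), (2278, 2534), (2279, 2035), (2280, 2280), (2281, 2036), (2282, 2282), (2283, 2283), (2284, 2284), (2285, 2285), (2286, 2531), (2287, 2543), (2288, 2533), (2289, 2034), (2290, 2546), (2291, 2060), (2292, 2389), (2293, 2545), (2294, 2041), (2295, 2551), (2296, 2046), (2297, 2047), (2298, 2553), (2299, 2066),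 (2300, 2055), (2301, 2558), (2302, 2057), (2303, 2303)]
    ⟨e3 q2240 (flp_c L21456) q2454, e3 q2241 (flp_c L21828) q2496, e3 q2242 L19559 q2242, e3 q2243 L21856 q2499, e3 q2244 L19578 q2244, e3 q2245 L19588 q2245, e3 q2246 L19603 q2246, e3 q2247 L19614 q2005, e3 q2248 L19628 q2006, e3 q2249 L19638 q2007, e3 q2250 L19651 q2008, e3 q2251 (flp_c L21891) q2502, e3 q2252 L21955 q2508, e3 q2253 (flp_c L21911) q2504, e3 q2254 (flp_c L21923) q2505, e3 q2255 (flp_c L21177) q2426, e3 q2256 L19710 q2059, e3 q2257 (flp_c L19718) q2010, e3 q2258 (flp_c L21989) q2512, e3 q2259 L19737 q2259, e3 q2260 L19750 q2260, e3 q2261 L19763 q2261, e3 q2262 L19777 q2262, e3 q2263 L19788 q2020, e3 q2264 L19800 q2021, e3 q2265 L19810 q2022, e3 q2266 L19827 q2266, e3 q2267 L19834 q2023, e3 q2268 L19846 q2268, e3 q2269 (flp_c L22044) q2517, e3 q2270 (flp_c L22057) q2518, e3 q2271 L22146 q2527, e3 q2272 (flp_c L22071) q2520, e3 q2273 (flp_c L22083) q2521, e3 q2274 L19903 q2274, e3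 q2275 L19914 q2275, e3 q2276 L19921 q2032, e3 q2277 L19928 q2033, e3 q2278 L22198 q2534, e3 q2279 L19942 q2035, e3 q2280 L19955 q2280, e3 q2281 L19962 q2036, e3 q2282 L19971 q2282, e3 q2283 L19978 q2283, e3 q2284 L19987 q2284, e3 q2285 L19994 q2285, e3 q2286 (flp_c L22177) q2531, e3 q2287 L22268 q2543, e3 q2288 (flp_c L22192) q2533, e3 q2289 (flp_c L20021) q2034, e3 q2290 (flp_c L22291) q2546, e3 q2291 L20035 q2060, e3 q2292 (flp_c L20830) q2389, e3 q2293 (flp_c L22287) q2545, e3 q2294 L20057 q2041, e3 q2295 (flp_c L22326) q2551, e3 q2296 L20071 q2046, e3 q2297 L20081 q2047, e3 q2298 (flp_c L22342) q2553, e3 q2299 L20104 q2066, e3 q2300 L20114 q2055, e3 q2301 L22390 q2558, e3 q2302 L20124 q2057, e3 q2303 L20139 q2303, trivial⟩ (by decide +kernel)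

theorem ce_c_36 : ∀ r, r < 64 → sm gc (Qf (2304 + r)) = Qf (tab Gen.c (2304 + r)) :=
  edges_tab (sm gc) Qf (tab Gen.c) 2304 [(2304, 2058), (2305, 2305), (2306, 2306), (2307, 2557), (2308, 2056), (2309, 2563), (2310, 2564), (2311, 2068), (2312, 2069), (2313, 2555), (2314, 2067), (2315, 2567), (2316, 2568), (2317, 2088), (2318, 2447), (2319, 2081), (2320, 2073), (2321, 2574), (2322, 2575), (2323, 2104), (2324, 2105), (2325, 2106), (2326, 2107), (2327, 2108), (2328, 2109), (2329, 2084), (2330, 2083), (2331, 2581), (2332, 2584), (2333, 2333), (2334, 2087), (2335, 2588), (2336, 2336), (2337, 2091), (2338, 2442), (2339, 2096), (2340, 2093), (2341, 2592), (2342, 2342), (2343, 2098), (2344, 2449), (2345, 2450), (2346, 2346), (2347, 2102), (2348, 2103), (2349, 2600), (2350, 2601), (2351, 2602), (2352, 2579), (2353, 2580), (2354, 2582), (2355, 2583), (2356, 2112), (2357, 2357), (2358, 2358), (2359, 2359), (2360, 2360), (2361, 2361), (2362, 2362), (2363, 2124),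 (2364, 2364), (2365, 2130), (2366, 2155), (2367, 2131)]
    ⟨e3 q2304 L20146 q2058, e3 q2305 L20157 q2305, e3 q2306 L20164 q2306, e3 q2307 (flp_c L22382) q2557, e3 q2308 (flp_c L20181) q2056, e3 q2309 (flp_c L22429) q2563, e3 q2310 L22434 q2564, e3 q2311 L20205 q2068, e3 q2312 L20213 q2069, e3 q2313 (flp_c L22362) q2555, e3 q2314 (flp_c L20231) q2067, e3 q2315 (flp_c L22457) q2567, e3 q2316 L22461 q2568, e3 q2317 L20254 q2088, e3 q2318 (flp_c L21392) q2447, e3 q2319 L20264 q2081, e3 q2320 (flp_c L20270) q2073, e3 q2321 (flp_c L22495) q2574, e3 q2322 (flp_c L22501) q2575, e3 q2323 L20284 q2104, e3 q2324 L20292 q2105, e3 q2325 L20301 q2106, e3 q2326 L20309 q2107, e3 q2327 L20317 q2108, e3 q2328 L20324 q2109, e3 q2329 L20334 q2084, e3 q2330 L20338 q2083, e3 q2331 (flp_c L22536) q2581, e3 q2332 (flp_c L22563) q2584, e3 q2333 L20361 q2333, e3 q2334 (flp_c L20362) q2087, e3 q2335 (flp_c L22593) q2588, e3 q2336 L20378 q2336, e3 q2337 L20381 q2091, e3 q2338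 (flp_c L21338) q2442, e3 q2339 L20398 q2096, e3 q2340 (flp_c L20405) q2093, e3 q2341 (flp_c L22622) q2592, e3 q2342 L20425 q2342, e3 q2343 L20430 q2098, e3 q2344 (flp_c L21408) q2449, e3 q2345 (flp_c L21415) q2450, e3 q2346 L20454 q2346, e3 q2347 L20457 q2102, e3 q2348 L20462 q2103, e3 q2349 (flp_c L22678) q2600, e3 q2350 (flp_c L22684) q2601, e3 q2351 (flp_c L22690) q2602, e3 q2352 (flp_c L22519) q2579, e3 q2353 (flp_c L22526) q2580, e3 q2354 (flp_c L22544) q2582, e3 q2355 (flp_c L22554) q2583, e3 q2356 L20520 q2112, e3 q2357 L20525 q2357, e3 q2358 L20536 q2358, e3 q2359 L20542 q2359, e3 q2360 L20547 q2360, e3 q2361 L20552 q2361, e3 q2362 L20558 q2362, e3 q2363 L20564 q2124, e3 q2364 L20572 q2364, e3 q2365 L20583 q2130, e3 q2366 L20596 q2155, e3 q2367 L20603 q2131, trivial⟩ (by decide +kernel)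

theorem ce_c_37 : ∀ r, r < 64 → sm gc (Qf (2368 + r)) = Qf (tab Gen.c (2368 + r)) :=
  edges_tab (sm gc) Qf (tab Gen.c) 2368 [(2368, 2136), (2369, 2135), (2370, 2611), (2371, 2165), (2372, 2137), (2373, 2167), (2374, 2168), (2375, 2622), (2376, 2616), (2377, 2615), (2378, 2624), (2379, 2379), (2380, 2139), (2381, 2627), (2382, 2382), (2383, 2146), (2384, 2384), (2385, 2147), (2386, 2386), (2387, 2635), (2388, 2631), (2389, 2292), (2390, 2390), (2391, 2391), (2392, 2392), (2393, 2643), (2394, 2394), (2395, 2395), (2396, 2157), (2397, 2158), (2398, 2159), (2399, 2610), (2400, 2160), (2401, 2612), (2402, 2613), (2403, 2647), (2404, 2648), (2405, 2659), (2406, 2650), (2407, 2651), (2408, 2408), (2409, 2409), (2410, 2169), (2411, 2170), (2412, 2667), (2413, 2172), (2414, 2614), (2415, 2173), (2416, 2617), (2417, 2618), (2418, 2619), (2419, 2620), (2420, 2621), (2421, 2664), (2422, 2652), (2423, 2666), (2424, 2171), (2425, 2681), (2426, 2255), (2427, 2232),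 (2428, 2175), (2429, 2686), (2430, 2680), (2431, 2178)]
    ⟨e3 q2368 L20613 q2136, e3 q2369 L20625 q2135, e3 q2370 (flp_c L22766) q2611, e3 q2371 L20649 q2165, e3 q2372 L20655 q2137, e3 q2373 L20663 q2167, e3 q2374 L20671 q2168, e3 q2375 L22879 q2622, e3 q2376 (flp_c L22824) q2616, e3 q2377 (flp_c L22811) q2615, e3 q2378 L22900 q2624, e3 q2379 L20713 q2379, e3 q2380 (flp_c L20719) q2139, e3 q2381 (flp_c L22928) q2627, e3 q2382 L20747 q2382, e3 q2383 L20755 q2146, e3 q2384 L20773 q2384, e3 q2385 L20781 q2147, e3 q2386 L20795 q2386, e3 q2387 L23018 q2635, e3 q2388 (flp_c L22970) q2631, e3 q2389 L20830 q2292, e3 q2390 L20845 q2390, e3 q2391 L20858 q2391, e3 q2392 L20869 q2392, e3 q2393 L23112 q2643, e3 q2394 L20888 q2394, e3 q2395 L20904 q2395, e3 q2396 L20910 q2157, e3 q2397 L20920 q2158, e3 q2398 L20930 q2159, e3 q2399 (flp_c L22755) q2610, e3 q2400 L20946 q2160, e3 q2401 (flp_c L22779) q2612, e3 q2402 (flp_c L22788) q2613, e3 q2403 (flp_c L23162) q2647,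 e3 q2404 (flp_c L23175) q2648, e3 q2405 L23278 q2659, e3 q2406 (flp_c L23191) q2650, e3 q2407 (flp_c L23203) q2651, e3 q2408 L21022 q2408, e3 q2409 L21034 q2409, e3 q2410 L21042 q2169, e3 q2411 L21055 q2170, e3 q2412 L23355 q2667, e3 q2413 L21071 q2172, e3 q2414 (flp_c L22801) q2614, e3 q2415 L21089 q2173, e3 q2416 (flp_c L22839) q2617, e3 q2417 (flp_c L22849) q2618, e3 q2418 (flp_c L22858) q2619, e3 q2419 (flp_c L22865) q2620, e3 q2420 (flp_c L22874) q2621, e3 q2421 (flp_c L23330) q2664, e3 q2422 (flp_c L23214) q2652, e3 q2423 (flp_c L23347) q2666, e3 q2424 (flp_c L21157) q2171, e3 q2425 (flp_c L23467) q2681, e3 q2426 L21177 q2255, e3 q2427 L21183 q2232, e3 q2428 (flp_c L21192) q2175, e3 q2429 (flp_c L23512) q2686, e3 q2430 (flp_c L23463) q2680, e3 q2431 L21219 q2178, trivial⟩ (by decide +kernel)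

theorem ce_c_38 : ∀ r, r < 64 → sm gc (Qf (2432 + r)) = Qf (tab Gen.c (2432 + r)) :=
  edges_tab (sm gc) Qf (tab Gen.c) 2432 [(2432, 2690), (2433, 2433), (2434, 2188), (2435, 2181), (2436, 2196), (2437, 2197), (2438, 2438), (2439, 2439), (2440, 2440), (2441, 2190), (2442, 2338), (2443, 2191), (2444, 2693), (2445, 2700), (2446, 2237), (2447, 2318), (2448, 2198), (2449, 2344), (2450, 2345), (2451, 2694), (2452, 2695), (2453, 2696), (2454, 2240), (2455, 2455), (2456, 2456), (2457, 2457), (2458, 2458), (2459, 2228), (2460, 2210), (2461, 2723), (2462, 2212), (2463, 2463), (2464, 2213), (2465, 2465), (2466, 2466), (2467, 2467), (2468, 2722), (2469, 2211), (2470, 2730), (2471, 2721), (2472, 2238), (2473, 2227), (2474, 2719), (2475, 2229), (2476, 2218), (2477, 2738), (2478, 2739), (2479, 2479), (2480, 2480), (2481, 2481), (2482, 2482), (2483, 2483), (2484, 2484), (2485, 2485), (2486, 2486), (2487, 2734), (2488, 2720), (2489, 2235), (2490, 2231), (2491, 2714),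 (2492, 2234), (2493, 2751), (2494, 2752), (2495, 2705)]
    ⟨e3 q2432 (flp_c L23549) q2690, e3 q2433 L21236 q2433, e3 q2434 L21248 q2188, e3 q2435 L21255 q2181, e3 q2436 L21265 q2196, e3 q2437 L21273 q2197, e3 q2438 L21286 q2438, e3 q2439 L21301 q2439, e3 q2440 L21312 q2440, e3 q2441 L21322 q2190, e3 q2442 L21338 q2338, e3 q2443 L21345 q2191, e3 q2444 (flp_c L23578) q2693, e3 q2445 (flp_c L23655) q2700, e3 q2446 L21379 q2237, e3 q2447 L21392 q2318, e3 q2448 L21396 q2198, e3 q2449 L21408 q2344, e3 q2450 L21415 q2345, e3 q2451 (flp_c L23588) q2694, e3 q2452 (flp_c L23597) q2695, e3 q2453 (flp_c L23606) q2696, e3 q2454 L21456 q2240, e3 q2455 L21464 q2455, e3 q2456 L21477 q2456, e3 q2457 L21486 q2457, e3 q2458 L21494 q2458, e3 q2459 L21501 q2228, e3 q2460 L21512 q2210, e3 q2461 L23889 q2723, e3 q2462 L21530 q2212, e3 q2463 L21543 q2463, e3 q2464 L21549 q2213, e3 q2465 L21560 q2465, e3 q2466 L21566 q2466, e3 q2467 L21575 q2467, e3 q2468 (flp_c L23879) q2722,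 e3 q2469 (flp_c L21593) q2211, e3 q2470 (flp_c L23952) q2730, e3 q2471 (flp_c L23871) q2721, e3 q2472 L21626 q2238, e3 q2473 L21635 q2227, e3 q2474 (flp_c L23846) q2719, e3 q2475 L21648 q2229, e3 q2476 (flp_c L21656) q2218, e3 q2477 (flp_c L24017) q2738, e3 q2478 (flp_c L24022) q2739, e3 q2479 L21674 q2479, e3 q2480 L21680 q2480, e3 q2481 L21688 q2481, e3 q2482 L21694 q2482, e3 q2483 L21699 q2483, e3 q2484 L21707 q2484, e3 q2485 L21714 q2485, e3 q2486 L21721 q2486, e3 q2487 (flp_c L23988) q2734, e3 q2488 (flp_c L23854) q2720, e3 q2489 L21763 q2235, e3 q2490 L21767 q2231, e3 q2491 (flp_c L23795) q2714, e3 q2492 L21786 q2234, e3 q2493 (flp_c L24106) q2751, e3 q2494 (flp_c L24119) q2752, e3 q2495 (flp_c L23710) q2705, trivial⟩ (by decide +kernel)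

theorem ce_c_39 : ∀ r, r < 64 → sm gc (Qf (2496 + r)) = Qf (tab Gen.c (2496 + r)) :=
  edges_tab (sm gc) Qf (tab Gen.c) 2496 [(2496, 2241), (2497, 2683), (2498, 2498), (2499, 2243), (2500, 2757), (2501, 2501), (2502, 2251), (2503, 2763), (2504, 2253), (2505, 2254), (2506, 2701), (2507, 2762), (2508, 2252), (2509, 2767), (2510, 2684), (2511, 2766), (2512, 2258), (2513, 2772), (2514, 2514), (2515, 2515), (2516, 2516), (2517, 2269), (2518, 2270), (2519, 2780), (2520, 2272), (2521, 2273), (2522, 2522), (2523, 2523), (2524, 2777), (2525, 2785), (2526, 2779), (2527, 2271), (2528, 2787), (2529, 2789), (2530, 2530), (2531, 2286), (2532, 2793), (2533, 2288), (2534, 2278), (2535, 2796), (2536, 2797), (2537, 2537), (2538, 2538), (2539, 2539), (2540, 2540), (2541, 2541), (2542, 2792), (2543, 2287), (2544, 2804), (2545, 2293), (2546, 2290), (2547, 2808), (2548, 2637), (2549, 2806), (2550, 2807), (2551, 2295), (2552, 2704), (2553, 2298), (2554, 2699), (2555, 2313),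 (2556, 2733), (2557, 2307), (2558, 2301), (2559, 2814)]
    ⟨e3 q2496 L21828 q2241, e3 q2497 (flp_c L23481) q2683, e3 q2498 L21850 q2498, e3 q2499 (flp_c L21856) q2243, e3 q2500 (flp_c L24170) q2757, e3 q2501 L21880 q2501, e3 q2502 L21891 q2251, e3 q2503 L24237 q2763, e3 q2504 L21911 q2253, e3 q2505 L21923 q2254, e3 q2506 (flp_c L23669) q2701, e3 q2507 (flp_c L24229) q2762, e3 q2508 (flp_c L21955) q2252, e3 q2509 (flp_c L24280) q2767, e3 q2510 (flp_c L23490) q2684, e3 q2511 (flp_c L24274) q2766, e3 q2512 L21989 q2258, e3 q2513 (flp_c L24322) q2772, e3 q2514 L22007 q2514, e3 q2515 L22018 q2515, e3 q2516 L22033 q2516, e3 q2517 L22044 q2269, e3 q2518 L22057 q2270, e3 q2519 L24414 q2780, e3 q2520 L22071 q2272, e3 q2521 L22083 q2273, e3 q2522 L22098 q2522, e3 q2523 L22109 q2523, e3 q2524 (flp_c L24383) q2777, e3 q2525 L24461 q2785, e3 q2526 (flp_c L24406) q2779, e3 q2527 (flp_c L22146) q2271, e3 q2528 (flp_c L24483) q2787, e3 q2529 L24495 q2789, e3 q2530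 L22170 q2530, e3 q2531 L22177 q2286, e3 q2532 L24521 q2793, e3 q2533 L22192 q2288, e3 q2534 (flp_c L22198) q2278, e3 q2535 (flp_c L24543) q2796, e3 q2536 (flp_c L24548) q2797, e3 q2537 L22220 q2537, e3 q2538 L22232 q2538, e3 q2539 L22241 q2539, e3 q2540 L22250 q2540, e3 q2541 L22258 q2541, e3 q2542 (flp_c L24516) q2792, e3 q2543 (flp_c L22268) q2287, e3 q2544 (flp_c L24602) q2804, e3 q2545 L22287 q2293, e3 q2546 L22291 q2290, e3 q2547 (flp_c L24632) q2808, e3 q2548 (flp_c L23046) q2637, e3 q2549 (flp_c L24617) q2806, e3 q2550 (flp_c L24627) q2807, e3 q2551 L22326 q2295, e3 q2552 (flp_c L23702) q2704, e3 q2553 L22342 q2298, e3 q2554 (flp_c L23647) q2699, e3 q2555 L22362 q2313, e3 q2556 (flp_c L23980) q2733, e3 q2557 L22382 q2307, e3 q2558 (flp_c L22390) q2301, e3 q2559 (flp_c L24678) q2814, trivial⟩ (by decide +kernel)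

theorem ce_c_40 : ∀ r, r < 64 → sm gc (Qf (2560 + r)) = Qf (tab Gen.c (2560 + r)) :=
  edges_tab (sm gc) Qf (tab Gen.c) 2560 [(2560, 2815), (2561, 2561), (2562, 2562), (2563, 2309), (2564, 2310), (2565, 2819), (2566, 2566), (2567, 2315), (2568, 2316), (2569, 2823), (2570, 2824), (2571, 2706), (2572, 2707), (2573, 2795), (2574, 2321), (2575, 2322), (2576, 2834), (2577, 2835), (2578, 2836), (2579, 2352), (2580, 2353), (2581, 2331), (2582, 2354), (2583, 2355), (2584, 2332), (2585, 2840), (2586, 2586), (2587, 2587), (2588, 2335), (2589, 2589), (2590, 2702), (2591, 2756), (2592, 2341), (2593, 2845), (2594, 2594), (2595, 2708), (2596, 2709), (2597, 2710), (2598, 2598), (2599, 2599), (2600, 2349), (2601, 2350), (2602, 2351), (2603, 2851), (2604, 2852), (2605, 2839), (2606, 2606), (2607, 2607), (2608, 2855), (2609, 2609), (2610, 2399), (2611, 2370), (2612, 2401), (2613, 2402), (2614, 2414), (2615, 2377), (2616, 2376), (2617, 2416), (2618, 2417), (2619, 2418),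 (2620, 2419), (2621, 2420), (2622, 2375), (2623, 2870)]
    ⟨e3 q2560 (flp_c L24683) q2815, e3 q2561 L22412 q2561, e3 q2562 L22424 q2562, e3 q2563 L22429 q2309, e3 q2564 (flp_c L22434) q2310, e3 q2565 (flp_c L24709) q2819, e3 q2566 L22452 q2566, e3 q2567 L22457 q2315, e3 q2568 (flp_c L22461) q2316, e3 q2569 (flp_c L24732) q2823, e3 q2570 (flp_c L24739) q2824, e3 q2571 (flp_c L23721) q2706, e3 q2572 (flp_c L23729) q2707, e3 q2573 (flp_c L24539) q2795, e3 q2574 L22495 q2321, e3 q2575 L22501 q2322, e3 q2576 (flp_c L24795) q2834, e3 q2577 (flp_c L24801) q2835, e3 q2578 (flp_c L24809) q2836, e3 q2579 L22519 q2352, e3 q2580 L22526 q2353, e3 q2581 L22536 q2331, e3 q2582 L22544 q2354, e3 q2583 L22554 q2355, e3 q2584 L22563 q2332, e3 q2585 (flp_c L24832) q2840, e3 q2586 L22578 q2586, e3 q2587 L22590 q2587, e3 q2588 L22593 q2335, e3 q2589 L22598 q2589, e3 q2590 (flp_c L23678) q2702, e3 q2591 (flp_c L24165) q2756, e3 q2592 L22622 q2341, e3 q2593 (flp_c L24871)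 q2845, e3 q2594 L22638 q2594, e3 q2595 (flp_c L23741) q2708, e3 q2596 (flp_c L23748) q2709, e3 q2597 (flp_c L23756) q2710, e3 q2598 L22666 q2598, e3 q2599 L22672 q2599, e3 q2600 L22678 q2349, e3 q2601 L22684 q2350, e3 q2602 L22690 q2351, e3 q2603 (flp_c L24913) q2851, e3 q2604 (flp_c L24920) q2852, e3 q2605 (flp_c L24823) q2839, e3 q2606 L22716 q2606, e3 q2607 L22722 q2607, e3 q2608 L24938 q2855, e3 q2609 L22739 q2609, e3 q2610 L22755 q2399, e3 q2611 L22766 q2370, e3 q2612 L22779 q2401, e3 q2613 L22788 q2402, e3 q2614 L22801 q2414, e3 q2615 L22811 q2377, e3 q2616 L22824 q2376, e3 q2617 L22839 q2416, e3 q2618 L22849 q2417, e3 q2619 L22858 q2418, e3 q2620 L22865 q2419, e3 q2621 L22874 q2420, e3 q2622 (flp_c L22879) q2375, e3 q2623 (flp_c L25118) q2870, trivial⟩ (by decide +kernel)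

theorem ce_c_41 : ∀ r, r < 64 → sm gc (Qf (2624 + r)) = Qf (tab Gen.c (2624 + r)) :=
  edges_tab (sm gc) Qf (tab Gen.c) 2624 [(2624, 2378), (2625, 2873), (2626, 2869), (2627, 2381), (2628, 2877), (2629, 2629), (2630, 2880), (2631, 2388), (2632, 2632), (2633, 2633), (2634, 2634), (2635, 2387), (2636, 2885), (2637, 2548), (2638, 2638), (2639, 2639), (2640, 2640), (2641, 2872), (2642, 2642), (2643, 2393), (2644, 2893), (2645, 2645), (2646, 2646), (2647, 2403), (2648, 2404), (2649, 2901), (2650, 2406), (2651, 2407), (2652, 2422), (2653, 2858), (2654, 2859), (2655, 2860), (2656, 2861), (2657, 2898), (2658, 2900), (2659, 2405), (2660, 2910), (2661, 2661), (2662, 2914), (2663, 2663), (2664, 2421), (2665, 2902), (2666, 2423), (2667, 2412), (2668, 2899), (2669, 2921), (2670, 2862), (2671, 2863), (2672, 2864), (2673, 2865), (2674, 2866), (2675, 2867), (2676, 2868), (2677, 2904), (2678, 2918), (2679, 2905), (2680, 2430), (2681, 2425), (2682, 2935), (2683, 2497),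 (2684, 2510), (2685, 2891), (2686, 2429), (2687, 2939)]
    ⟨e3 q2624 (flp_c L22900) q2378, e3 q2625 (flp_c L25153) q2873, e3 q2626 (flp_c L25112) q2869, e3 q2627 L22928 q2381, e3 q2628 (flp_c L25192) q2877, e3 q2629 L22948 q2629, e3 q2630 L25224 q2880, e3 q2631 L22970 q2388, e3 q2632 L22986 q2632, e3 q2633 L22998 q2633, e3 q2634 L23011 q2634, e3 q2635 (flp_c L23018) q2387, e3 q2636 (flp_c L25293) q2885, e3 q2637 L23046 q2548, e3 q2638 L23062 q2638, e3 q2639 L23077 q2639, e3 q2640 L23088 q2640, e3 q2641 (flp_c L25146) q2872, e3 q2642 L23107 q2642, e3 q2643 (flp_c L23112) q2393, e3 q2644 (flp_c L25389) q2893, e3 q2645 L23138 q2645, e3 q2646 L23152 q2646, e3 q2647 L23162 q2403, e3 q2648 L23175 q2404, e3 q2649 L25476 q2901, e3 q2650 L23191 q2406, e3 q2651 L23203 q2407, e3 q2652 L23214 q2422, e3 q2653 (flp_c L24978) q2858, e3 q2654 (flp_c L24994) q2859, e3 q2655 (flp_c L25006) q2860, e3 q2656 (flp_c L25016) q2861, e3 q2657 (flp_c L25447) q2898, e3 q2658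 (flp_c L25468) q2900, e3 q2659 (flp_c L23278) q2405, e3 q2660 (flp_c L25582) q2910, e3 q2661 L23304 q2661, e3 q2662 L25622 q2914, e3 q2663 L23322 q2663, e3 q2664 L23330 q2421, e3 q2665 (flp_c L25494) q2902, e3 q2666 L23347 q2423, e3 q2667 (flp_c L23355) q2412, e3 q2668 (flp_c L25460) q2899, e3 q2669 (flp_c L25685) q2921, e3 q2670 (flp_c L25026) q2862, e3 q2671 (flp_c L25040) q2863, e3 q2672 (flp_c L25054) q2864, e3 q2673 (flp_c L25065) q2865, e3 q2674 (flp_c L25076) q2866, e3 q2675 (flp_c L25086) q2867, e3 q2676 (flp_c L25094) q2868, e3 q2677 (flp_c L25514) q2904, e3 q2678 (flp_c L25658) q2918, e3 q2679 (flp_c L25525) q2905, e3 q2680 L23463 q2430, e3 q2681 L23467 q2425, e3 q2682 (flp_c L25811) q2935, e3 q2683 L23481 q2497, e3 q2684 L23490 q2510, e3 q2685 (flp_c L25368) q2891, e3 q2686 L23512 q2429, e3 q2687 (flp_c L25853) q2939, trivial⟩ (by decide +kernel)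

theorem ce_c_42 : ∀ r, r < 64 → sm gc (Qf (2688 + r)) = Qf (tab Gen.c (2688 + r)) :=
  edges_tab (sm gc) Qf (tab Gen.c) 2688 [(2688, 2933), (2689, 2934), (2690, 2432), (2691, 2856), (2692, 2692), (2693, 2444), (2694, 2451), (2695, 2452), (2696, 2453), (2697, 2697), (2698, 2698), (2699, 2554), (2700, 2445), (2701, 2506), (2702, 2590), (2703, 2943), (2704, 2552), (2705, 2495), (2706, 2571), (2707, 2572), (2708, 2595), (2709, 2596), (2710, 2597), (2711, 2875), (2712, 2944), (2713, 2945), (2714, 2491), (2715, 2715), (2716, 2965), (2717, 2717), (2718, 2718), (2719, 2474), (2720, 2488), (2721, 2471), (2722, 2468), (2723, 2461), (2724, 2971), (2725, 2972), (2726, 2726), (2727, 2727), (2728, 2728), (2729, 2729), (2730, 2470), (2731, 2969), (2732, 2970), (2733, 2556), (2734, 2487), (2735, 2967), (2736, 2968), (2737, 2920), (2738, 2477), (2739, 2478), (2740, 2990), (2741, 2991), (2742, 2992), (2743, 2743), (2744, 2744), (2745, 2745), (2746, 2746), (2747, 2747),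 (2748, 2748), (2749, 2749), (2750, 2750), (2751, 2493)]
    ⟨e3 q2688 (flp_c L25790) q2933, e3 q2689 (flp_c L25805) q2934, e3 q2690 L23549 q2432, e3 q2691 (flp_c L24955) q2856, e3 q2692 L23568 q2692, e3 q2693 L23578 q2444, e3 q2694 L23588 q2451, e3 q2695 L23597 q2452, e3 q2696 L23606 q2453, e3 q2697 L23619 q2697, e3 q2698 L23632 q2698, e3 q2699 L23647 q2554, e3 q2700 L23655 q2445, e3 q2701 L23669 q2506, e3 q2702 L23678 q2590, e3 q2703 (flp_c L25894) q2943, e3 q2704 L23702 q2552, e3 q2705 L23710 q2495, e3 q2706 L23721 q2571, e3 q2707 L23729 q2572, e3 q2708 L23741 q2595, e3 q2709 L23748 q2596, e3 q2710 L23756 q2597, e3 q2711 (flp_c L25171) q2875, e3 q2712 (flp_c L25904) q2944, e3 q2713 (flp_c L25914) q2945, e3 q2714 L23795 q2491, e3 q2715 L23806 q2715, e3 q2716 L26132 q2965, e3 q2717 L23823 q2717, e3 q2718 L23832 q2718, e3 q2719 L23846 q2474, e3 q2720 L23854 q2488, e3 q2721 L23871 q2471, e3 q2722 L23879 q2468, e3 q2723 (flp_c L23889) q2461, e3 q2724 (flp_c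 L26198) q2971, e3 q2725 (flp_c L26209) q2972, e3 q2726 L23919 q2726, e3 q2727 L23927 q2727, e3 q2728 L23937 q2728, e3 q2729 L23944 q2729, e3 q2730 L23952 q2470, e3 q2731 (flp_c L26174) q2969, e3 q2732 (flp_c L26186) q2970, e3 q2733 L23980 q2556, e3 q2734 L23988 q2487, e3 q2735 (flp_c L26151) q2967, e3 q2736 (flp_c L26162) q2968, e3 q2737 (flp_c L25681) q2920, e3 q2738 L24017 q2477, e3 q2739 L24022 q2478, e3 q2740 (flp_c L26354) q2990, e3 q2741 (flp_c L26361) q2991, e3 q2742 (flp_c L26368) q2992, e3 q2743 L24048 q2743, e3 q2744 L24053 q2744, e3 q2745 L24060 q2745, e3 q2746 L24071 q2746, e3 q2747 L24077 q2747, e3 q2748 L24084 q2748, e3 q2749 L24092 q2749, e3 q2750 L24100 q2750, e3 q2751 L24106 q2493, trivial⟩ (by decide +kernel)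

theorem ce_c_43 : ∀ r, r < 64 → sm gc (Qf (2752 + r)) = Qf (tab Gen.c (2752 + r)) :=
  edges_tab (sm gc) Qf (tab Gen.c) 2752 [(2752, 2494), (2753, 2962), (2754, 3003), (2755, 2936), (2756, 2591), (2757, 2500), (2758, 3006), (2759, 2982), (2760, 2760), (2761, 2948), (2762, 2507), (2763, 2503), (2764, 3010), (2765, 2950), (2766, 2511), (2767, 2509), (2768, 3014), (2769, 2937), (2770, 2926), (2771, 3013), (2772, 2513), (2773, 2952), (2774, 2774), (2775, 3018), (2776, 2776), (2777, 2524), (2778, 3022), (2779, 2526), (2780, 2519), (2781, 3024), (2782, 3025), (2783, 2783), (2784, 3021), (2785, 2525), (2786, 3028), (2787, 2528), (2788, 3030), (2789, 2529), (2790, 3032), (2791, 3009), (2792, 2542), (2793, 2532), (2794, 3036), (2795, 2573), (2796, 2535), (2797, 2536), (2798, 3041), (2799, 3042), (2800, 3043), (2801, 2801), (2802, 2802), (2803, 2803), (2804, 2544), (2805, 3048), (2806, 2549), (2807, 2550), (2808, 2547), (2809, 3049), (2810, 3050), (2811, 2953),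 (2812, 2949), (2813, 2983), (2814, 2559), (2815, 2560)]
    ⟨e3 q2752 L24119 q2494, e3 q2753 (flp_c L26100) q2962, e3 q2754 (flp_c L26452) q3003, e3 q2755 (flp_c L25819) q2936, e3 q2756 L24165 q2591, e3 q2757 L24170 q2500, e3 q2758 (flp_c L26483) q3006, e3 q2759 (flp_c L26292) q2982, e3 q2760 L24204 q2760, e3 q2761 (flp_c L25951) q2948, e3 q2762 L24229 q2507, e3 q2763 (flp_c L24237) q2503, e3 q2764 (flp_c L26527) q3010, e3 q2765 (flp_c L25975) q2950, e3 q2766 L24274 q2511, e3 q2767 L24280 q2509, e3 q2768 (flp_c L26570) q3014, e3 q2769 (flp_c L25829) q2937, e3 q2770 (flp_c L25729) q2926, e3 q2771 (flp_c L26560) q3013, e3 q2772 L24322 q2513, e3 q2773 (flp_c L25998) q2952, e3 q2774 L24345 q2774, e3 q2775 L26603 q3018, e3 q2776 L24370 q2776, e3 q2777 L24383 q2524, e3 q2778 L26649 q3022, e3 q2779 L24406 q2526, e3 q2780 (flp_c L24414) q2519, e3 q2781 (flp_c L26677) q3024, e3 q2782 (flp_c L26688) q3025, e3 q2783 L24444 q2783, e3 q2784 (flp_c L26642) q3021,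 e3 q2785 (flp_c L24461) q2525, e3 q2786 (flp_c L26714) q3028, e3 q2787 L24483 q2528, e3 q2788 (flp_c L26734) q3030, e3 q2789 (flp_c L24495) q2529, e3 q2790 (flp_c L26747) q3032, e3 q2791 (flp_c L26521) q3009, e3 q2792 L24516 q2542, e3 q2793 (flp_c L24521) q2532, e3 q2794 (flp_c L26773) q3036, e3 q2795 L24539 q2573, e3 q2796 L24543 q2535, e3 q2797 L24548 q2536, e3 q2798 (flp_c L26810) q3041, e3 q2799 (flp_c L26815) q3042, e3 q2800 (flp_c L26822) q3043, e3 q2801 L24576 q2801, e3 q2802 L24585 q2802, e3 q2803 L24596 q2803, e3 q2804 L24602 q2544, e3 q2805 (flp_c L26859) q3048, e3 q2806 L24617 q2549, e3 q2807 L24627 q2550, e3 q2808 L24632 q2547, e3 q2809 (flp_c L26869) q3049, e3 q2810 (flp_c L26878) q3050, e3 q2811 (flp_c L26009) q2953, e3 q2812 (flp_c L25963) q2949, e3 q2813 (flp_c L26303) q2983, e3 q2814 L24678 q2559, e3 q2815 L24683 q2560, trivial⟩ (by decide +kernel)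

theorem ce_c_44 : ∀ r, r < 64 → sm gc (Qf (2816 + r)) = Qf (tab Gen.c (2816 + r)) :=
  edges_tab (sm gc) Qf (tab Gen.c) 2816 [(2816, 3056), (2817, 3057), (2818, 3034), (2819, 2565), (2820, 3060), (2821, 2821), (2822, 3031), (2823, 2569), (2824, 2570), (2825, 3064), (2826, 3065), (2827, 3066), (2828, 2954), (2829, 2955), (2830, 2956), (2831, 3038), (2832, 3039), (2833, 3040), (2834, 2576), (2835, 2577), (2836, 2578), (2837, 3075), (2838, 3076), (2839, 2605), (2840, 2585), (2841, 2841), (2842, 2842), (2843, 2951), (2844, 3005), (2845, 2593), (2846, 2957), (2847, 2958), (2848, 2848), (2849, 2849), (2850, 2850), (2851, 2603), (2852, 2604), (2853, 3083), (2854, 2854), (2855, 2608), (2856, 2691), (2857, 3085), (2858, 2653), (2859, 2654), (2860, 2655), (2861, 2656), (2862, 2670), (2863, 2671), (2864, 2672), (2865, 2673), (2866, 2674), (2867, 2675), (2868, 2676), (2869, 2626), (2870, 2623), (2871, 3098), (2872, 2641), (2873, 2625), (2874, 3100), (2875, 2711),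 (2876, 3097), (2877, 2628), (2878, 3104), (2879, 2879)]
    ⟨e3 q2816 (flp_c L26926) q3056, e3 q2817 (flp_c L26933) q3057, e3 q2818 (flp_c L26760) q3034, e3 q2819 L24709 q2565, e3 q2820 (flp_c L26953) q3060, e3 q2821 L24721 q2821, e3 q2822 (flp_c L26743) q3031, e3 q2823 L24732 q2569, e3 q2824 L24739 q2570, e3 q2825 (flp_c L26978) q3064, e3 q2826 (flp_c L26985) q3065, e3 q2827 (flp_c L26992) q3066, e3 q2828 (flp_c L26021) q2954, e3 q2829 (flp_c L26029) q2955, e3 q2830 (flp_c L26039) q2956, e3 q2831 (flp_c L26787) q3038, e3 q2832 (flp_c L26797) q3039, e3 q2833 (flp_c L26804) q3040, e3 q2834 L24795 q2576, e3 q2835 L24801 q2577, e3 q2836 L24809 q2578, e3 q2837 (flp_c L27048) q3075, e3 q2838 (flp_c L27056) q3076, e3 q2839 L24823 q2605, e3 q2840 L24832 q2585, e3 q2841 L24840 q2841, e3 q2842 L24850 q2842, e3 q2843 (flp_c L25985) q2951, e3 q2844 (flp_c L26474) q3005, e3 q2845 L24871 q2593, e3 q2846 (flp_c L26051) q2957, e3 q2847 (flp_c L26059) q2958, e3 q2848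 L24894 q2848, e3 q2849 L24901 q2849, e3 q2850 L24908 q2850, e3 q2851 L24913 q2603, e3 q2852 L24920 q2604, e3 q2853 (flp_c L27102) q3083, e3 q2854 L24934 q2854, e3 q2855 (flp_c L24938) q2608, e3 q2856 L24955 q2691, e3 q2857 (flp_c L27116) q3085, e3 q2858 L24978 q2653, e3 q2859 L24994 q2654, e3 q2860 L25006 q2655, e3 q2861 L25016 q2656, e3 q2862 L25026 q2670, e3 q2863 L25040 q2671, e3 q2864 L25054 q2672, e3 q2865 L25065 q2673, e3 q2866 L25076 q2674, e3 q2867 L25086 q2675, e3 q2868 L25094 q2676, e3 q2869 L25112 q2626, e3 q2870 L25118 q2623, e3 q2871 (flp_c L27278) q3098, e3 q2872 L25146 q2641, e3 q2873 L25153 q2625, e3 q2874 (flp_c L27306) q3100, e3 q2875 L25171 q2711, e3 q2876 (flp_c L27265) q3097, e3 q2877 L25192 q2628, e3 q2878 L27341 q3104, e3 q2879 L25216 q2879, trivial⟩ (by decide +kernel)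

theorem ce_c_45 : ∀ r, r < 64 → sm gc (Qf (2880 + r)) = Qf (tab Gen.c (2880 + r)) :=
  edges_tab (sm gc) Qf (tab Gen.c) 2880 [(2880, 2630), (2881, 3107), (2882, 3108), (2883, 2883), (2884, 2884), (2885, 2636), (2886, 3112), (2887, 2887), (2888, 3115), (2889, 2889), (2890, 2890), (2891, 2685), (2892, 3099), (2893, 2644), (2894, 3120), (2895, 2895), (2896, 3123), (2897, 2897), (2898, 2657), (2899, 2668), (2900, 2658), (2901, 2649), (2902, 2665), (2903, 3129), (2904, 2677), (2905, 2679), (2906, 3088), (2907, 3089), (2908, 3090), (2909, 3127), (2910, 2660), (2911, 3136), (2912, 3124), (2913, 2913), (2914, 2662), (2915, 3121), (2916, 3139), (2917, 3130), (2918, 2678), (2919, 3131), (2920, 2737), (2921, 2669), (2922, 3126), (2923, 3128), (2924, 3148), (2925, 3091), (2926, 2770), (2927, 3092), (2928, 3093), (2929, 3094), (2930, 3095), (2931, 3133), (2932, 3134), (2933, 2688), (2934, 2689), (2935, 2682), (2936, 2755), (2937, 2769), (2938, 3118), (2939, 2687),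 (2940, 3157), (2941, 3158), (2942, 3086), (2943, 2703)]
    ⟨e3 q2880 (flp_c L25224) q2630, e3 q2881 (flp_c L27389) q3107, e3 q2882 (flp_c L27404) q3108, e3 q2883 L25266 q2883, e3 q2884 L25279 q2884, e3 q2885 L25293 q2636, e3 q2886 (flp_c L27458) q3112, e3 q2887 L25320 q2887, e3 q2888 L27497 q3115, e3 q2889 L25343 q2889, e3 q2890 L25356 q2890, e3 q2891 L25368 q2685, e3 q2892 (flp_c L27294) q3099, e3 q2893 L25389 q2644, e3 q2894 (flp_c L27567) q3120, e3 q2895 L25413 q2895, e3 q2896 L27603 q3123, e3 q2897 L25435 q2897, e3 q2898 L25447 q2657, e3 q2899 L25460 q2668, e3 q2900 L25468 q2658, e3 q2901 (flp_c L25476) q2649, e3 q2902 L25494 q2665, e3 q2903 (flp_c L27692) q3129, e3 q2904 L25514 q2677, e3 q2905 L25525 q2679, e3 q2906 (flp_c L27153) q3088, e3 q2907 (flp_c L27169) q3089, e3 q2908 (flp_c L27182) q3090, e3 q2909 (flp_c L27665) q3127, e3 q2910 L25582 q2660, e3 q2911 (flp_c L27782) q3136, e3 q2912 (flp_c L27624) q3124, e3 q2913 L25614 q2913, e3 q2914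 (flp_c L25622) q2662, e3 q2915 (flp_c L27585) q3121, e3 q2916 (flp_c L27818) q3139, e3 q2917 (flp_c L27708) q3130, e3 q2918 L25658 q2678, e3 q2919 (flp_c L27722) q3131, e3 q2920 L25681 q2737, e3 q2921 L25685 q2669, e3 q2922 (flp_c L27653) q3126, e3 q2923 (flp_c L27678) q3128, e3 q2924 (flp_c L27914) q3148, e3 q2925 (flp_c L27193) q3091, e3 q2926 L25729 q2770, e3 q2927 (flp_c L27207) q3092, e3 q2928 (flp_c L27222) q3093, e3 q2929 (flp_c L27236) q3094, e3 q2930 (flp_c L27247) q3095, e3 q2931 (flp_c L27744) q3133, e3 q2932 (flp_c L27756) q3134, e3 q2933 L25790 q2688, e3 q2934 L25805 q2689, e3 q2935 L25811 q2682, e3 q2936 L25819 q2755, e3 q2937 L25829 q2769, e3 q2938 (flp_c L27544) q3118, e3 q2939 L25853 q2687, e3 q2940 (flp_c L28005) q3157, e3 q2941 (flp_c L28017) q3158, e3 q2942 (flp_c L27129) q3086, e3 q2943 L25894 q2703, trivial⟩ (by decide +kernel)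

theorem ce_c_46 : ∀ r, r < 64 → sm gc (Qf (2944 + r)) = Qf (tab Gen.c (2944 + r)) :=
  edges_tab (sm gc) Qf (tab Gen.c) 2944 [(2944, 2712), (2945, 2713), (2946, 3143), (2947, 2947), (2948, 2761), (2949, 2812), (2950, 2765), (2951, 2843), (2952, 2773), (2953, 2811), (2954, 2828), (2955, 2829), (2956, 2830), (2957, 2846), (2958, 2847), (2959, 3101), (2960, 3164), (2961, 3116), (2962, 2753), (2963, 3138), (2964, 2964), (2965, 2716), (2966, 3179), (2967, 2735), (2968, 2736), (2969, 2731), (2970, 2732), (2971, 2724), (2972, 2725), (2973, 3186), (2974, 3187), (2975, 2975), (2976, 2976), (2977, 2977), (2978, 2978), (2979, 3183), (2980, 3184), (2981, 3185), (2982, 2759), (2983, 2813), (2984, 3105), (2985, 3181), (2986, 3182), (2987, 3146), (2988, 3113), (2989, 3147), (2990, 2740), (2991, 2741), (2992, 2742), (2993, 3204), (2994, 3205), (2995, 3206), (2996, 2996), (2997, 2997), (2998, 2998), (2999, 2999), (3000, 3000), (3001, 3215), (3002, 3002), (3003, 2754),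 (3004, 3160), (3005, 2844), (3006, 2758), (3007, 3195)]
    ⟨e3 q2944 L25904 q2712, e3 q2945 L25914 q2713, e3 q2946 (flp_c L27859) q3143, e3 q2947 L25938 q2947, e3 q2948 L25951 q2761, e3 q2949 L25963 q2812, e3 q2950 L25975 q2765, e3 q2951 L25985 q2843, e3 q2952 L25998 q2773, e3 q2953 L26009 q2811, e3 q2954 L26021 q2828, e3 q2955 L26029 q2829, e3 q2956 L26039 q2830, e3 q2957 L26051 q2846, e3 q2958 L26059 q2847, e3 q2959 (flp_c L27318) q3101, e3 q2960 (flp_c L28073) q3164, e3 q2961 (flp_c L27518) q3116, e3 q2962 L26100 q2753, e3 q2963 (flp_c L27814) q3138, e3 q2964 L26123 q2964, e3 q2965 (flp_c L26132) q2716, e3 q2966 (flp_c L28233) q3179, e3 q2967 L26151 q2735, e3 q2968 L26162 q2736, e3 q2969 L26174 q2731, e3 q2970 L26186 q2732, e3 q2971 L26198 q2724, e3 q2972 L26209 q2725, e3 q2973 (flp_c L28317) q3186, e3 q2974 (flp_c L28328) q3187, e3 q2975 L26237 q2975, e3 q2976 L26246 q2976, e3 q2977 L26255 q2977, e3 q2978 L26266 q2978, e3 q2979 (flp_c L28277) q3183,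 e3 q2980 (flp_c L28291) q3184, e3 q2981 (flp_c L28303) q3185, e3 q2982 L26292 q2759, e3 q2983 L26303 q2813, e3 q2984 (flp_c L27362) q3105, e3 q2985 (flp_c L28250) q3181, e3 q2986 (flp_c L28261) q3182, e3 q2987 (flp_c L27888) q3146, e3 q2988 (flp_c L27480) q3113, e3 q2989 (flp_c L27906) q3147, e3 q2990 L26354 q2740, e3 q2991 L26361 q2741, e3 q2992 L26368 q2742, e3 q2993 (flp_c L28498) q3204, e3 q2994 (flp_c L28509) q3205, e3 q2995 (flp_c L28518) q3206, e3 q2996 L26398 q2996, e3 q2997 L26407 q2997, e3 q2998 L26413 q2998, e3 q2999 L26423 q2999, e3 q3000 L26430 q3000, e3 q3001 L28585 q3215, e3 q3002 L26443 q3002, e3 q3003 L26452 q2754, e3 q3004 (flp_c L28030) q3160, e3 q3005 L26474 q2844, e3 q3006 L26483 q2758, e3 q3007 (flp_c L28403) q3195, trivial⟩ (by decide +kernel)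

theorem ce_c_47 : ∀ r, r < 64 → sm gc (Qf (3008 + r)) = Qf (tab Gen.c (3008 + r)) :=
  edges_tab (sm gc) Qf (tab Gen.c) 3008 [(3008, 3167), (3009, 2791), (3010, 2764), (3011, 3221), (3012, 3169), (3013, 2771), (3014, 2768), (3015, 3152), (3016, 3222), (3017, 3170), (3018, 2775), (3019, 3226), (3020, 3149), (3021, 2784), (3022, 2778), (3023, 3229), (3024, 2781), (3025, 2782), (3026, 3231), (3027, 3232), (3028, 2786), (3029, 3234), (3030, 2788), (3031, 2822), (3032, 2790), (3033, 3237), (3034, 2818), (3035, 3220), (3036, 2794), (3037, 3240), (3038, 2831), (3039, 2832), (3040, 2833), (3041, 2798), (3042, 2799), (3043, 2800), (3044, 3140), (3045, 3244), (3046, 3245), (3047, 3047), (3048, 2805), (3049, 2809), (3050, 2810), (3051, 3223), (3052, 3250), (3053, 3171), (3054, 3168), (3055, 3196), (3056, 2816), (3057, 2817), (3058, 3253), (3059, 3238), (3060, 2820), (3061, 3201), (3062, 3197), (3063, 3236), (3064, 2825), (3065, 2826), (3066, 2827), (3067, 3258),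 (3068, 3259), (3069, 3172), (3070, 3173), (3071, 3241)]
    ⟨e3 q3008 (flp_c L28103) q3167, e3 q3009 L26521 q2791, e3 q3010 L26527 q2764, e3 q3011 (flp_c L28650) q3221, e3 q3012 (flp_c L28129) q3169, e3 q3013 L26560 q2771, e3 q3014 L26570 q2768, e3 q3015 (flp_c L27956) q3152, e3 q3016 (flp_c L28658) q3222, e3 q3017 (flp_c L28140) q3170, e3 q3018 (flp_c L26603) q2775, e3 q3019 (flp_c L28700) q3226, e3 q3020 (flp_c L27924) q3149, e3 q3021 L26642 q2784, e3 q3022 (flp_c L26649) q2778, e3 q3023 (flp_c L28735) q3229, e3 q3024 L26677 q2781, e3 q3025 L26688 q2782, e3 q3026 (flp_c L28761) q3231, e3 q3027 (flp_c L28772) q3232, e3 q3028 L26714 q2786, e3 q3029 (flp_c L28792) q3234, e3 q3030 L26734 q2788, e3 q3031 L26743 q2822, e3 q3032 L26747 q2790, e3 q3033 (flp_c L28814) q3237, e3 q3034 L26760 q2818, e3 q3035 (flp_c L28638) q3220, e3 q3036 L26773 q2794, e3 q3037 (flp_c L28835) q3240, e3 q3038 L26787 q2831, e3 q3039 L26797 q2832, e3 q3040 L26804 q2833, e3 q3041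 L26810 q2798, e3 q3042 L26815 q2799, e3 q3043 L26822 q2800, e3 q3044 (flp_c L27829) q3140, e3 q3045 (flp_c L28866) q3244, e3 q3046 (flp_c L28873) q3245, e3 q3047 L26852 q3047, e3 q3048 L26859 q2805, e3 q3049 L26869 q2809, e3 q3050 L26878 q2810, e3 q3051 (flp_c L28670) q3223, e3 q3052 (flp_c L28906) q3250, e3 q3053 (flp_c L28151) q3171, e3 q3054 (flp_c L28115) q3168, e3 q3055 (flp_c L28414) q3196, e3 q3056 L26926 q2816, e3 q3057 L26933 q2817, e3 q3058 (flp_c L28923) q3253, e3 q3059 (flp_c L28822) q3238, e3 q3060 L26953 q2820, e3 q3061 (flp_c L28470) q3201, e3 q3062 (flp_c L28430) q3197, e3 q3063 (flp_c L28809) q3236, e3 q3064 L26978 q2825, e3 q3065 L26985 q2826, e3 q3066 L26992 q2827, e3 q3067 (flp_c L28954) q3258, e3 q3068 (flp_c L28961) q3259, e3 q3069 (flp_c L28165) q3172, e3 q3070 (flp_c L28175) q3173, e3 q3071 (flp_c L28843) q3241, trivial⟩ (by decide +kernel)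

theorem ce_c_48 : ∀ r, r < 64 → sm gc (Qf (3072 + r)) = Qf (tab Gen.c (3072 + r)) :=
  edges_tab (sm gc) Qf (tab Gen.c) 3072 [(3072, 3192), (3073, 3242), (3074, 3243), (3075, 2837), (3076, 2838), (3077, 3265), (3078, 3078), (3079, 3216), (3080, 3174), (3081, 3081), (3082, 3082), (3083, 2853), (3084, 3235), (3085, 2857), (3086, 2942), (3087, 3270), (3088, 2906), (3089, 2907), (3090, 2908), (3091, 2925), (3092, 2927), (3093, 2928), (3094, 2929), (3095, 2930), (3096, 3277), (3097, 2876), (3098, 2871), (3099, 2892), (3100, 2874), (3101, 2959), (3102, 3278), (3103, 3103), (3104, 2878), (3105, 2984), (3106, 3284), (3107, 2881), (3108, 2882), (3109, 3287), (3110, 3288), (3111, 3111), (3112, 2886), (3113, 2988), (3114, 3114), (3115, 2888), (3116, 2961), (3117, 3293), (3118, 2938), (3119, 3279), (3120, 2894), (3121, 2915), (3122, 3122), (3123, 2896), (3124, 2912), (3125, 3298), (3126, 2922), (3127, 2909), (3128, 2923), (3129, 2903), (3130, 2917), (3131, 2919),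 (3132, 3303), (3133, 2931), (3134, 2932), (3135, 3272)]
    ⟨e3 q3072 (flp_c L28377) q3192, e3 q3073 (flp_c L28853) q3242, e3 q3074 (flp_c L28862) q3243, e3 q3075 L27048 q2837, e3 q3076 L27056 q2838, e3 q3077 (flp_c L28999) q3265, e3 q3078 L27068 q3078, e3 q3079 (flp_c L28593) q3216, e3 q3080 (flp_c L28185) q3174, e3 q3081 L27088 q3081, e3 q3082 L27096 q3082, e3 q3083 L27102 q2853, e3 q3084 (flp_c L28803) q3235, e3 q3085 L27116 q2857, e3 q3086 L27129 q2942, e3 q3087 (flp_c L29031) q3270, e3 q3088 L27153 q2906, e3 q3089 L27169 q2907, e3 q3090 L27182 q2908, e3 q3091 L27193 q2925, e3 q3092 L27207 q2927, e3 q3093 L27222 q2928, e3 q3094 L27236 q2929, e3 q3095 L27247 q2930, e3 q3096 L29113 q3277, e3 q3097 L27265 q2876, e3 q3098 L27278 q2871, e3 q3099 L27294 q2892, e3 q3100 L27306 q2874, e3 q3101 L27318 q2959, e3 q3102 (flp_c L29129) q3278, e3 q3103 L27339 q3103, e3 q3104 (flp_c L27341) q2878, e3 q3105 L27362 q2984, e3 q3106 (flp_c L29200) q3284, e3 q3107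 L27389 q2881, e3 q3108 L27404 q2882, e3 q3109 (flp_c L29244) q3287, e3 q3110 (flp_c L29259) q3288, e3 q3111 L27444 q3111, e3 q3112 L27458 q2886, e3 q3113 L27480 q2988, e3 q3114 L27488 q3114, e3 q3115 (flp_c L27497) q2888, e3 q3116 L27518 q2961, e3 q3117 (flp_c L29325) q3293, e3 q3118 L27544 q2938, e3 q3119 (flp_c L29145) q3279, e3 q3120 L27567 q2894, e3 q3121 L27585 q2915, e3 q3122 L27595 q3122, e3 q3123 (flp_c L27603) q2896, e3 q3124 L27624 q2912, e3 q3125 (flp_c L29399) q3298, e3 q3126 L27653 q2922, e3 q3127 L27665 q2909, e3 q3128 L27678 q2923, e3 q3129 L27692 q2903, e3 q3130 L27708 q2917, e3 q3131 L27722 q2919, e3 q3132 (flp_c L29469) q3303, e3 q3133 L27744 q2931, e3 q3134 L27756 q2932, e3 q3135 (flp_c L29058) q3272, trivial⟩ (by decide +kernel)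

theorem ce_c_49 : ∀ r, r < 64 → sm gc (Qf (3136 + r)) = Qf (tab Gen.c (3136 + r)) :=
  edges_tab (sm gc) Qf (tab Gen.c) 3136 [(3136, 2911), (3137, 3299), (3138, 2963), (3139, 2916), (3140, 3044), (3141, 3297), (3142, 3311), (3143, 2946), (3144, 3304), (3145, 3305), (3146, 2987), (3147, 2989), (3148, 2924), (3149, 3020), (3150, 3301), (3151, 3302), (3152, 3015), (3153, 3274), (3154, 3324), (3155, 3275), (3156, 3306), (3157, 2940), (3158, 2941), (3159, 3291), (3160, 3004), (3161, 3296), (3162, 3325), (3163, 3271), (3164, 2960), (3165, 3273), (3166, 3314), (3167, 3008), (3168, 3054), (3169, 3012), (3170, 3017), (3171, 3053), (3172, 3069), (3173, 3070), (3174, 3080), (3175, 3336), (3176, 3281), (3177, 3294), (3178, 3310), (3179, 2966), (3180, 3339), (3181, 2985), (3182, 2986), (3183, 2979), (3184, 2980), (3185, 2981), (3186, 2973), (3187, 2974), (3188, 3343), (3189, 3189), (3190, 3190), (3191, 3347), (3192, 3072), (3193, 3341), (3194, 3342), (3195, 3007),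 (3196, 3055), (3197, 3062), (3198, 3285), (3199, 3340)]
    ⟨e3 q3136 L27782 q2911, e3 q3137 (flp_c L29414) q3299, e3 q3138 L27814 q2963, e3 q3139 L27818 q2916, e3 q3140 L27829 q3044, e3 q3141 (flp_c L29383) q3297, e3 q3142 (flp_c L29573) q3311, e3 q3143 L27859 q2946, e3 q3144 (flp_c L29483) q3304, e3 q3145 (flp_c L29497) q3305, e3 q3146 L27888 q2987, e3 q3147 L27906 q2989, e3 q3148 L27914 q2924, e3 q3149 L27924 q3020, e3 q3150 (flp_c L29441) q3301, e3 q3151 (flp_c L29455) q3302, e3 q3152 L27956 q3015, e3 q3153 (flp_c L29082) q3274, e3 q3154 L29711 q3324, e3 q3155 (flp_c L29098) q3275, e3 q3156 (flp_c L29509) q3306, e3 q3157 L28005 q2940, e3 q3158 L28017 q2941, e3 q3159 (flp_c L29301) q3291, e3 q3160 L28030 q3004, e3 q3161 (flp_c L29368) q3296, e3 q3162 (flp_c L29726) q3325, e3 q3163 (flp_c L29044) q3271, e3 q3164 L28073 q2960, e3 q3165 (flp_c L29073) q3273, e3 q3166 (flp_c L29608) q3314, e3 q3167 L28103 q3008, e3 q3168 L28115 q3054, e3 q3169 L28129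 q3012, e3 q3170 L28140 q3017, e3 q3171 L28151 q3053, e3 q3172 L28165 q3069, e3 q3173 L28175 q3070, e3 q3174 L28185 q3080, e3 q3175 L29832 q3336, e3 q3176 (flp_c L29169) q3281, e3 q3177 (flp_c L29340) q3294, e3 q3178 (flp_c L29562) q3310, e3 q3179 L28233 q2966, e3 q3180 (flp_c L29871) q3339, e3 q3181 L28250 q2985, e3 q3182 L28261 q2986, e3 q3183 L28277 q2979, e3 q3184 L28291 q2980, e3 q3185 L28303 q2981, e3 q3186 L28317 q2973, e3 q3187 L28328 q2974, e3 q3188 (flp_c L29921) q3343, e3 q3189 L28350 q3189, e3 q3190 L28360 q3190, e3 q3191 L29959 q3347, e3 q3192 L28377 q3072, e3 q3193 (flp_c L29895) q3341, e3 q3194 (flp_c L29909) q3342, e3 q3195 L28403 q3007, e3 q3196 L28414 q3055, e3 q3197 L28430 q3062, e3 q3198 (flp_c L29215) q3285, e3 q3199 (flp_c L29881) q3340, trivial⟩ (by decide +kernel)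

theorem ce_c_50 : ∀ r, r < 64 → sm gc (Qf (3200 + r)) = Qf (tab Gen.c (3200 + r)) :=
  edges_tab (sm gc) Qf (tab Gen.c) 3200 [(3200, 3316), (3201, 3061), (3202, 3292), (3203, 3317), (3204, 2993), (3205, 2994), (3206, 2995), (3207, 3358), (3208, 3359), (3209, 3363), (3210, 3210), (3211, 3211), (3212, 3366), (3213, 3213), (3214, 3367), (3215, 3001), (3216, 3079), (3217, 3217), (3218, 3351), (3219, 3330), (3220, 3035), (3221, 3011), (3222, 3016), (3223, 3051), (3224, 3322), (3225, 3332), (3226, 3019), (3227, 3373), (3228, 3319), (3229, 3023), (3230, 3375), (3231, 3026), (3232, 3027), (3233, 3376), (3234, 3029), (3235, 3084), (3236, 3063), (3237, 3033), (3238, 3059), (3239, 3370), (3240, 3037), (3241, 3071), (3242, 3073), (3243, 3074), (3244, 3045), (3245, 3046), (3246, 3371), (3247, 3312), (3248, 3385), (3249, 3331), (3250, 3052), (3251, 3307), (3252, 3346), (3253, 3058), (3254, 3380), (3255, 3356), (3256, 3352), (3257, 3378), (3258, 3067), (3259, 3068),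 (3260, 3392), (3261, 3333), (3262, 3382), (3263, 3348)]
    ⟨e3 q3200 (flp_c L29635) q3316, e3 q3201 L28470 q3061, e3 q3202 (flp_c L29309) q3292, e3 q3203 (flp_c L29649) q3317, e3 q3204 L28498 q2993, e3 q3205 L28509 q2994, e3 q3206 L28518 q2995, e3 q3207 (flp_c L30074) q3358, e3 q3208 (flp_c L30085) q3359, e3 q3209 L30108 q3363, e3 q3210 L28548 q3210, e3 q3211 L28558 q3211, e3 q3212 L30132 q3366, e3 q3213 L28574 q3213, e3 q3214 L30142 q3367, e3 q3215 (flp_c L28585) q3001, e3 q3216 L28593 q3079, e3 q3217 L28604 q3217, e3 q3218 (flp_c L30001) q3351, e3 q3219 (flp_c L29776) q3330, e3 q3220 L28638 q3035, e3 q3221 L28650 q3011, e3 q3222 L28658 q3016, e3 q3223 L28670 q3051, e3 q3224 (flp_c L29695) q3322, e3 q3225 (flp_c L29799) q3332, e3 q3226 L28700 q3019, e3 q3227 (flp_c L30194) q3373, e3 q3228 (flp_c L29665) q3319, e3 q3229 L28735 q3023, e3 q3230 (flp_c L30218) q3375, e3 q3231 L28761 q3026, e3 q3232 L28772 q3027, e3 q3233 (flp_c L30230) q3376, e3 q3234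 L28792 q3029, e3 q3235 L28803 q3084, e3 q3236 L28809 q3063, e3 q3237 L28814 q3033, e3 q3238 L28822 q3059, e3 q3239 (flp_c L30169) q3370, e3 q3240 L28835 q3037, e3 q3241 L28843 q3071, e3 q3242 L28853 q3073, e3 q3243 L28862 q3074, e3 q3244 L28866 q3045, e3 q3245 L28873 q3046, e3 q3246 (flp_c L30179) q3371, e3 q3247 (flp_c L29585) q3312, e3 q3248 (flp_c L30297) q3385, e3 q3249 (flp_c L29791) q3331, e3 q3250 L28906 q3052, e3 q3251 (flp_c L29525) q3307, e3 q3252 L29957 q3346, e3 q3253 L28923 q3058, e3 q3254 (flp_c L30263) q3380, e3 q3255 (flp_c L30053) q3356, e3 q3256 (flp_c L30015) q3352, e3 q3257 (flp_c L30250) q3378, e3 q3258 L28954 q3067, e3 q3259 L28961 q3068, e3 q3260 (flp_c L30337) q3392, e3 q3261 (flp_c L29811) q3333, e3 q3262 (flp_c L30277) q3382, e3 q3263 (flp_c L29975) q3348, trivial⟩ (by decide +kernel)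

theorem ce_c_51 : ∀ r, r < 64 → sm gc (Qf (3264 + r)) = Qf (tab Gen.c (3264 + r)) :=
  edges_tab (sm gc) Qf (tab Gen.c) 3264 [(3264, 3383), (3265, 3077), (3266, 3377), (3267, 3267), (3268, 3398), (3269, 3308), (3270, 3087), (3271, 3163), (3272, 3135), (3273, 3165), (3274, 3153), (3275, 3155), (3276, 3403), (3277, 3096), (3278, 3102), (3279, 3119), (3280, 3280), (3281, 3176), (3282, 3402), (3283, 3283), (3284, 3106), (3285, 3198), (3286, 3405), (3287, 3109), (3288, 3110), (3289, 3407), (3290, 3410), (3291, 3159), (3292, 3202), (3293, 3117), (3294, 3177), (3295, 3413), (3296, 3161), (3297, 3141), (3298, 3125), (3299, 3137), (3300, 3417), (3301, 3150), (3302, 3151), (3303, 3132), (3304, 3144), (3305, 3145), (3306, 3156), (3307, 3251), (3308, 3269), (3309, 3418), (3310, 3178), (3311, 3142), (3312, 3247), (3313, 3416), (3314, 3166), (3315, 3421), (3316, 3200), (3317, 3203), (3318, 3408), (3319, 3228), (3320, 3419), (3321, 3434), (3322, 3224), (3323, 3436),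 (3324, 3154), (3325, 3162), (3326, 3423), (3327, 3411)]
    ⟨e3 q3264 (flp_c L30285) q3383, e3 q3265 L28999 q3077, e3 q3266 (flp_c L30242) q3377, e3 q3267 L29011 q3267, e3 q3268 L30373 q3398, e3 q3269 (flp_c L29540) q3308, e3 q3270 L29031 q3087, e3 q3271 L29044 q3163, e3 q3272 L29058 q3135, e3 q3273 L29073 q3165, e3 q3274 L29082 q3153, e3 q3275 L29098 q3155, e3 q3276 L30433 q3403, e3 q3277 (flp_c L29113) q3096, e3 q3278 L29129 q3102, e3 q3279 L29145 q3119, e3 q3280 L29160 q3280, e3 q3281 L29169 q3176, e3 q3282 (flp_c L30428) q3402, e3 q3283 L29187 q3283, e3 q3284 L29200 q3106, e3 q3285 L29215 q3198, e3 q3286 (flp_c L30469) q3405, e3 q3287 L29244 q3109, e3 q3288 L29259 q3110, e3 q3289 (flp_c L30501) q3407, e3 q3290 L30539 q3410, e3 q3291 L29301 q3159, e3 q3292 L29309 q3202, e3 q3293 L29325 q3117, e3 q3294 L29340 q3177, e3 q3295 (flp_c L30587) q3413, e3 q3296 L29368 q3161, e3 q3297 L29383 q3141, e3 q3298 L29399 q3125, e3 q3299 L29414 q3137, e3 q3300 (flp_c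 L30652) q3417, e3 q3301 L29441 q3150, e3 q3302 L29455 q3151, e3 q3303 L29469 q3132, e3 q3304 L29483 q3144, e3 q3305 L29497 q3145, e3 q3306 L29509 q3156, e3 q3307 L29525 q3251, e3 q3308 L29540 q3269, e3 q3309 (flp_c L30668) q3418, e3 q3310 L29562 q3178, e3 q3311 L29573 q3142, e3 q3312 L29585 q3247, e3 q3313 (flp_c L30634) q3416, e3 q3314 L29608 q3166, e3 q3315 (flp_c L30718) q3421, e3 q3316 L29635 q3200, e3 q3317 L29649 q3203, e3 q3318 (flp_c L30521) q3408, e3 q3319 L29665 q3228, e3 q3320 (flp_c L30684) q3419, e3 q3321 L30875 q3434, e3 q3322 L29695 q3224, e3 q3323 L30900 q3436, e3 q3324 (flp_c L29711) q3154, e3 q3325 L29726 q3162, e3 q3326 (flp_c L30751) q3423, e3 q3327 (flp_c L30557) q3411, trivial⟩ (by decide +kernel)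

theorem ce_c_52 : ∀ r, r < 64 → sm gc (Qf (3328 + r)) = Qf (tab Gen.c (3328 + r)) :=
  edges_tab (sm gc) Qf (tab Gen.c) 3328 [(3328, 3401), (3329, 3428), (3330, 3219), (3331, 3249), (3332, 3225), (3333, 3261), (3334, 3442), (3335, 3435), (3336, 3175), (3337, 3414), (3338, 3424), (3339, 3180), (3340, 3199), (3341, 3193), (3342, 3194), (3343, 3188), (3344, 3448), (3345, 3345), (3346, 3252), (3347, 3191), (3348, 3263), (3349, 3445), (3350, 3451), (3351, 3218), (3352, 3256), (3353, 3406), (3354, 3455), (3355, 3429), (3356, 3255), (3357, 3412), (3358, 3207), (3359, 3208), (3360, 3460), (3361, 3458), (3362, 3461), (3363, 3209), (3364, 3364), (3365, 3463), (3366, 3212), (3367, 3214), (3368, 3437), (3369, 3404), (3370, 3239), (3371, 3246), (3372, 3415), (3373, 3227), (3374, 3432), (3375, 3230), (3376, 3233), (3377, 3266), (3378, 3257), (3379, 3452), (3380, 3254), (3381, 3439), (3382, 3262), (3383, 3264), (3384, 3422), (3385, 3248), (3386, 3440), (3387, 3446),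 (3388, 3426), (3389, 3467), (3390, 3456), (3391, 3453)]
    ⟨e3 q3328 (flp_c L30414) q3401, e3 q3329 (flp_c L30807) q3428, e3 q3330 L29776 q3219, e3 q3331 L29791 q3249, e3 q3332 L29799 q3225, e3 q3333 L29811 q3261, e3 q3334 L30976 q3442, e3 q3335 (flp_c L30896) q3435, e3 q3336 (flp_c L29832) q3175, e3 q3337 (flp_c L30603) q3414, e3 q3338 (flp_c L30761) q3424, e3 q3339 L29871 q3180, e3 q3340 L29881 q3199, e3 q3341 L29895 q3193, e3 q3342 L29909 q3194, e3 q3343 L29921 q3188, e3 q3344 L31047 q3448, e3 q3345 L29941 q3345, e3 q3346 (flp_c L29957) q3252, e3 q3347 (flp_c L29959) q3191, e3 q3348 L29975 q3263, e3 q3349 (flp_c L31012) q3445, e3 q3350 L31080 q3451, e3 q3351 L30001 q3218, e3 q3352 L30015 q3256, e3 q3353 (flp_c L30485) q3406, e3 q3354 L31126 q3455, e3 q3355 (flp_c L30823) q3429, e3 q3356 L30053 q3255, e3 q3357 (flp_c L30569) q3412, e3 q3358 L30074 q3207, e3 q3359 L30085 q3208, e3 q3360 L31178 q3460, e3 q3361 (flp_c L31163) q3458, e3 q3362 L31187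 q3461, e3 q3363 (flp_c L30108) q3209, e3 q3364 L30118 q3364, e3 q3365 L31203 q3463, e3 q3366 (flp_c L30132) q3212, e3 q3367 (flp_c L30142) q3214, e3 q3368 (flp_c L30926) q3437, e3 q3369 (flp_c L30454) q3404, e3 q3370 L30169 q3239, e3 q3371 L30179 q3246, e3 q3372 (flp_c L30624) q3415, e3 q3373 L30194 q3227, e3 q3374 (flp_c L30857) q3432, e3 q3375 L30218 q3230, e3 q3376 L30230 q3233, e3 q3377 L30242 q3266, e3 q3378 L30250 q3257, e3 q3379 (flp_c L31097) q3452, e3 q3380 L30263 q3254, e3 q3381 (flp_c L30949) q3439, e3 q3382 L30277 q3262, e3 q3383 L30285 q3264, e3 q3384 (flp_c L30734) q3422, e3 q3385 L30297 q3248, e3 q3386 (flp_c L30963) q3440, e3 q3387 L31034 q3446, e3 q3388 (flp_c L30784) q3426, e3 q3389 (flp_c L31254) q3467, e3 q3390 (flp_c L31142) q3456, e3 q3391 (flp_c L31108) q3453, trivial⟩ (by decide +kernel)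

theorem ce_c_53 : ∀ r, r < 64 → sm gc (Qf (3392 + r)) = Qf (tab Gen.c (3392 + r)) :=
  edges_tab (sm gc) Qf (tab Gen.c) 3392 [(3392, 3260), (3393, 3466), (3394, 3449), (3395, 3475), (3396, 3420), (3397, 3464), (3398, 3268), (3399, 3399), (3400, 3400), (3401, 3328), (3402, 3282), (3403, 3276), (3404, 3369), (3405, 3286), (3406, 3353), (3407, 3289), (3408, 3318), (3409, 3480), (3410, 3290), (3411, 3327), (3412, 3357), (3413, 3295), (3414, 3337), (3415, 3372), (3416, 3313), (3417, 3300), (3418, 3309), (3419, 3320), (3420, 3396), (3421, 3315), (3422, 3384), (3423, 3326), (3424, 3338), (3425, 3476), (3426, 3388), (3427, 3490), (3428, 3329), (3429, 3355), (3430, 3486), (3431, 3479), (3432, 3374), (3433, 3492), (3434, 3321), (3435, 3335), (3436, 3323), (3437, 3368), (3438, 3481), (3439, 3381), (3440, 3386), (3441, 3493), (3442, 3334), (3443, 3491), (3444, 3496), (3445, 3349), (3446, 3387), (3447, 3497), (3448, 3344), (3449, 3394), (3450, 3498), (3451, 3350),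 (3452, 3379), (3453, 3391), (3454, 3500), (3455, 3354)]
    ⟨e3 q3392 L30337 q3260, e3 q3393 (flp_c L31243) q3466, e3 q3394 (flp_c L31063) q3449, e3 q3395 L31301 q3475, e3 q3396 (flp_c L30706) q3420, e3 q3397 (flp_c L31219) q3464, e3 q3398 (flp_c L30373) q3268, e3 q3399 L30388 q3399, e3 q3400 L30400 q3400, e3 q3401 L30414 q3328, e3 q3402 L30428 q3282, e3 q3403 (flp_c L30433) q3276, e3 q3404 L30454 q3369, e3 q3405 L30469 q3286, e3 q3406 L30485 q3353, e3 q3407 L30501 q3289, e3 q3408 L30521 q3318, e3 q3409 L31362 q3480, e3 q3410 (flp_c L30539) q3290, e3 q3411 L30557 q3327, e3 q3412 L30569 q3357, e3 q3413 L30587 q3295, e3 q3414 L30603 q3337, e3 q3415 L30624 q3372, e3 q3416 L30634 q3313, e3 q3417 L30652 q3300, e3 q3418 L30668 q3309, e3 q3419 L30684 q3320, e3 q3420 L30706 q3396, e3 q3421 L30718 q3315, e3 q3422 L30734 q3384, e3 q3423 L30751 q3326, e3 q3424 L30761 q3338, e3 q3425 (flp_c L31319) q3476, e3 q3426 L30784 q3388, e3 q3427 L31524 q3490, e3 q3428 L30807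 q3329, e3 q3429 L30823 q3355, e3 q3430 (flp_c L31469) q3486, e3 q3431 (flp_c L31356) q3479, e3 q3432 L30857 q3374, e3 q3433 (flp_c L31568) q3492, e3 q3434 (flp_c L30875) q3321, e3 q3435 L30896 q3335, e3 q3436 (flp_c L30900) q3323, e3 q3437 L30926 q3368, e3 q3438 (flp_c L31386) q3481, e3 q3439 L30949 q3381, e3 q3440 L30963 q3386, e3 q3441 (flp_c L31580) q3493, e3 q3442 (flp_c L30976) q3334, e3 q3443 (flp_c L31551) q3491, e3 q3444 L31624 q3496, e3 q3445 L31012 q3349, e3 q3446 (flp_c L31034) q3387, e3 q3447 L31637 q3497, e3 q3448 (flp_c L31047) q3344, e3 q3449 L31063 q3394, e3 q3450 L31650 q3498, e3 q3451 (flp_c L31080) q3350, e3 q3452 L31097 q3379, e3 q3453 L31108 q3391, e3 q3454 L31676 q3500, e3 q3455 (flp_c L31126) q3354, trivial⟩ (by decide +kernel)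

theorem ce_c_54 : ∀ r, r < 54 → sm gc (Qf (3456 + r)) = Qf (tab Gen.c (3456 + r)) :=
  edges_tab (sm gc) Qf (tab Gen.c) 3456 [(3456, 3390), (3457, 3489), (3458, 3361), (3459, 3499), (3460, 3360), (3461, 3362), (3462, 3495), (3463, 3365), (3464, 3397), (3465, 3483), (3466, 3393), (3467, 3389), (3468, 3485), (3469, 3487), (3470, 3503), (3471, 3482), (3472, 3504), (3473, 3484), (3474, 3501), (3475, 3395), (3476, 3425), (3477, 3506), (3478, 3507), (3479, 3431), (3480, 3409), (3481, 3438), (3482, 3471), (3483, 3465), (3484, 3473), (3485, 3468), (3486, 3430), (3487, 3469), (3488, 3505), (3489, 3457), (3490, 3427), (3491, 3443), (3492, 3433), (3493, 3441), (3494, 3509), (3495, 3462), (3496, 3444), (3497, 3447), (3498, 3450), (3499, 3459), (3500, 3454), (3501, 3474), (3502, 3508), (3503, 3470), (3504, 3472), (3505, 3488), (3506, 3477), (3507, 3478), (3508, 3502), (3509, 3494)]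
    ⟨e3 q3456 L31142 q3390, e3 q3457 (flp_c L31519) q3489, e3 q3458 L31163 q3361, e3 q3459 (flp_c L31674) q3499, e3 q3460 (flp_c L31178) q3360, e3 q3461 (flp_c L31187) q3362, e3 q3462 (flp_c L31622) q3495, e3 q3463 (flp_c L31203) q3365, e3 q3464 L31219 q3397, e3 q3465 (flp_c L31417) q3483, e3 q3466 L31243 q3393, e3 q3467 L31254 q3389, e3 q3468 (flp_c L31452) q3485, e3 q3469 (flp_c L31487) q3487, e3 q3470 (flp_c L31715) q3503, e3 q3471 (flp_c L31400) q3482, e3 q3472 L31720 q3504, e3 q3473 (flp_c L31435) q3484, e3 q3474 (flp_c L31692) q3501, e3 q3475 (flp_c L31301) q3395, e3 q3476 L31319 q3425, e3 q3477 L31744 q3506, e3 q3478 L31761 q3507, e3 q3479 L31356 q3431, e3 q3480 (flp_c L31362) q3409, e3 q3481 L31386 q3438, e3 q3482 L31400 q3471, e3 q3483 L31417 q3465, e3 q3484 L31435 q3473, e3 q3485 L31452 q3468, e3 q3486 L31469 q3430, e3 q3487 L31487 q3469, e3 q3488 (flp_c L31733) q3505, e3 q3489 L31519 q3457, e3 q3490 (flp_c L31524) q3427, e3 q3491 L31551 q3443,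 e3 q3492 L31568 q3433, e3 q3493 L31580 q3441, e3 q3494 (flp_c L31801) q3509, e3 q3495 L31622 q3462, e3 q3496 (flp_c L31624) q3444, e3 q3497 (flp_c L31637) q3447, e3 q3498 (flp_c L31650) q3450, e3 q3499 L31674 q3459, e3 q3500 (flp_c L31676) q3454, e3 q3501 L31692 q3474, e3 q3502 (flp_c L31784) q3508, e3 q3503 L31715 q3470, e3 q3504 (flp_c L31720) q3472, e3 q3505 L31733 q3488, e3 q3506 (flp_c L31744) q3477, e3 q3507 (flp_c L31761) q3478, e3 q3508 L31784 q3502, e3 q3509 L31801 q3494, trivial⟩ (by decide +kernel)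

theorem cl_c : ∀ i, i < 3510 → sm gc (Qf i) = Qf (tab Gen.c i) :=
  all_of_chunks (fun i => sm gc (Qf i) = Qf (tab Gen.c i)) 54 54
    ⟨ce_c_0, ce_c_1, ce_c_2, ce_c_3, ce_c_4, ce_c_5, ce_c_6, ce_c_7, ce_c_8, ce_c_9, ce_c_10, ce_c_11, ce_c_12, ce_c_13, ce_c_14, ce_c_15, ce_c_16, ce_c_17, ce_c_18, ce_c_19, ce_c_20, ce_c_21, ce_c_22, ce_c_23, ce_c_24, ce_c_25, ce_c_26, ce_c_27, ce_c_28, ce_c_29, ce_c_30, ce_c_31, ce_c_32, ce_c_33, ce_c_34, ce_c_35, ce_c_36, ce_c_37, ce_c_38, ce_c_39, ce_c_40, ce_c_41, ce_c_42, ce_c_43, ce_c_44, ce_c_45, ce_c_46, ce_c_47, ce_c_48, ce_c_49, ce_c_50, ce_c_51, ce_c_52, ce_c_53, trivial⟩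
    ce_c_54


end Cfsg.Agent.Helper28.FiaA
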