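import Cfsg.Agent.Helper28.FiaC0

/-!
# The Fi₂₂ presentation, cosets of the subgroup generated by a, c, d, e, f, g, h, i, (abcdeh)⁵: the action of the generator d (helper28; generated)
-/

set_option autoImplicit false
set_option maxRecDepth 100000
set_option linter.unusedSimpArgs false
set_option linter.constructorNameAsVariable false

noncomputable section

namespace Cfsg.Agent.Helper28.FiaA

open Cfsg.Spor Cfsg.Spor.Fi22 Cfsg.Agent.Helper28.CosetTable

theorem ce_d_0 : ∀ r, r < 64 → sm gd (Qf (0 + r)) = Qf (tab Gen.d (0 + r)) :=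
  edges_tab (sm gd) Qf (tab Gen.d) 0 [(0, 0), (1, 1), (2, 2), (3, 5), (4, 7), (5, 3), (6, 10), (7, 4), (8, 8), (9, 9), (10, 6), (11, 11), (12, 12), (13, 13), (14, 24), (15, 15), (16, 16), (17, 17), (18, 18), (19, 19), (20, 33), (21, 21), (22, 22), (23, 36), (24, 14), (25, 39), (26, 40), (27, 43), (28, 28), (29, 47), (30, 30), (31, 31), (32, 50), (33, 20), (34, 53), (35, 54), (36, 23), (37, 58), (38, 38), (39, 25), (40, 26), (41, 62), (42, 42), (43, 27), (44, 66), (45, 45), (46, 68), (47, 29), (48, 70), (49, 71), (50, 32), (51, 75), (52, 52), (53, 34), (54, 35), (55, 80), (56, 56), (57, 57), (58, 37), (59, 59), (60, 60), (61, 61), (62, 41), (63, 89)]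
    ⟨e3 q0 L2 q0, e3 q1 L10 q1, e3 q2 L18 q2, e3 q3 L42 q5, e3 q4 L58 q7, e3 q5 (flp_d L42) q3, e3 q6 L80 q10, e3 q7 (flp_d L58) q4, e3 q8 L72 q8, e3 q9 L79 q9, e3 q10 (flp_d L80) q6, e3 q11 L95 q11, e3 q12 L103 q12, e3 q13 L108 q13, e3 q14 L190 q24, e3 q15 L122 q15, e3 q16 L133 q16, e3 q17 L141 q17, e3 q18 L149 q18, e3 q19 L155 q19, e3 q20 L262 q33, e3 q21 L171 q21, e3 q22 L179 q22, e3 q23 L286 q36, e3 q24 (flp_d L190) q14, e3 q25 (flp_d L309) q39, e3 q26 L313 q40, e3 q27 L340 q43, e3 q28 L225 q28, e3 q29 L375 q47, e3 q30 L241 q30, e3 q31 L250 q31, e3 q32 L402 q50, e3 q33 (flp_d L262) q20, e3 q34 (flp_d L431) q53, e3 q35 L435 q54, e3 q36 (flp_d L286) q23, e3 q37 (flp_d L466) q58, e3 q38 L305 q38, e3 q39 L309 q25, e3 q40 (flp_d L313) q26, e3 q41 (flp_d L497) q62, e3 q42 L338 q42, e3 q43 (flp_d L340) q27, e3 q44 (flp_d L536) q66, e3 q45 L363 q45, e3 q46 L550 q68, e3 q47 (flp_d L375) q29, e3 q48 (flp_d L574) q70, e3 q49 L578 q71, e3 q50 (flp_d L402) q32,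 e3 q51 (flp_d L616) q75, e3 q52 L426 q52, e3 q53 L431 q34, e3 q54 (flp_d L435) q35, e3 q55 (flp_d L655) q80, e3 q56 L456 q56, e3 q57 L461 q57, e3 q58 L466 q37, e3 q59 L472 q59, e3 q60 L482 q60, e3 q61 L490 q61, e3 q62 L497 q41, e3 q63 (flp_d L725) q89, trivial⟩ (by decide +kernel)

theorem ce_d_1 : ∀ r, r < 64 → sm gd (Qf (64 + r)) = Qf (tab Gen.d (64 + r)) :=
  edges_tab (sm gd) Qf (tab Gen.d) 64 [(64, 64), (65, 65), (66, 44), (67, 93), (68, 46), (69, 96), (70, 48), (71, 49), (72, 100), (73, 73), (74, 74), (75, 51), (76, 76), (77, 77), (78, 78), (79, 79), (80, 55), (81, 81), (82, 114), (83, 83), (84, 84), (85, 85), (86, 86), (87, 119), (88, 88), (89, 63), (90, 90), (91, 91), (92, 92), (93, 67), (94, 123), (95, 95), (96, 69), (97, 97), (98, 98), (99, 99), (100, 72), (101, 131), (102, 102), (103, 103), (104, 104), (105, 135), (106, 106), (107, 138), (108, 108), (109, 109), (110, 110), (111, 111), (112, 144), (113, 113), (114, 82), (115, 148), (116, 150),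 (117, 151), (118, 152), (119, 87), (120, 120), (121, 121), (122, 122), (123, 94), (124, 124), (125, 125), (126, 159), (127, 127)]
    ⟨e3 q64 L519 q64, e3 q65 L526 q65, e3 q66 L536 q44, e3 q67 L762 q93, e3 q68 (flp_d L550) q46, e3 q69 (flp_d L797) q96, e3 q70 L574 q48, e3 q71 (flp_d L578) q49, e3 q72 (flp_d L833) q100, e3 q73 L604 q73, e3 q74 L610 q74, e3 q75 L616 q51, e3 q76 L627 q76, e3 q77 L636 q77, e3 q78 L644 q78, e3 q79 L651 q79, e3 q80 L655 q55, e3 q81 L662 q81, e3 q82 L947 q114, e3 q83 L678 q83, e3 q84 L684 q84, e3 q85 L693 q85, e3 q86 L701 q86, e3 q87 L982 q119, e3 q88 L718 q88, e3 q89 L725 q63, e3 q90 L740 q90, e3 q91 L747 q91, e3 q92 L760 q92, e3 q93 (flp_d L762) q67, e3 q94 (flp_d L1026) q123, e3 q95 L789 q95, e3 q96 L797 q69, e3 q97 L809 q97, e3 q98 L820 q98, e3 q99 L828 q99, e3 q100 L833 q72, e3 q101 L1098 q131, e3 q102 L854 q102, e3 q103 L861 q103, e3 q104 L871 q104, e3 q105 L1134 q135, e3 q106 L885 q106, e3 q107 L1162 q138, e3 q108 L903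 q108, e3 q109 L910 q109, e3 q110 L917 q110, e3 q111 L928 q111, e3 q112 L1207 q144, e3 q113 L944 q113, e3 q114 (flp_d L947) q82, e3 q115 (flp_d L1241) q148, e3 q116 L1253 q150, e3 q117 L1260 q151, e3 q118 L1267 q152, e3 q119 (flp_d L982) q87, e3 q120 L993 q120, e3 q121 L1004 q121, e3 q122 L1019 q122, e3 q123 L1026 q94, e3 q124 L1037 q124, e3 q125 L1049 q125, e3 q126 L1334 q159, e3 q127 L1068 q127, trivial⟩ (by decide +kernel)

theorem ce_d_2 : ∀ r, r < 64 → sm gd (Qf (128 + r)) = Qf (tab Gen.d (128 + r)) :=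
  edges_tab (sm gd) Qf (tab Gen.d) 128 [(128, 128), (129, 129), (130, 130), (131, 101), (132, 166), (133, 168), (134, 169), (135, 105), (136, 171), (137, 137), (138, 107), (139, 175), (140, 177), (141, 180), (142, 142), (143, 182), (144, 112), (145, 185), (146, 187), (147, 147), (148, 115), (149, 190), (150, 116), (151, 117), (152, 118), (153, 153), (154, 154), (155, 155), (156, 156), (157, 157), (158, 198), (159, 126), (160, 199), (161, 201), (162, 204), (163, 163), (164, 206), (165, 165), (166, 132), (167, 209), (168, 133), (169, 134), (170, 170), (171, 136), (172, 214), (173, 216), (174, 219), (175, 139), (176, 176), (177, 140), (178, 222), (179, 226), (180, 141), (181, 228), (182, 143), (183, 183), (184, 184), (185, 145), (186, 234), (187, 146), (188, 188), (189, 238), (190, 149), (191, 240)]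
    ⟨e3 q128 L1076 q128, e3 q129 L1084 q129, e3 q130 L1096 q130, e3 q131 (flp_d L1098) q101, e3 q132 (flp_d L1408) q166, e3 q133 L1423 q168, e3 q134 L1433 q169, e3 q135 (flp_d L1134) q105, e3 q136 L1451 q171, e3 q137 L1158 q137, e3 q138 (flp_d L1162) q107, e3 q139 (flp_d L1491) q175, e3 q140 (flp_d L1504) q177, e3 q141 L1526 q180, e3 q142 L1194 q142, e3 q143 L1542 q182, e3 q144 (flp_d L1207) q112, e3 q145 (flp_d L1570) q185, e3 q146 L1584 q187, e3 q147 L1237 q147, e3 q148 L1241 q115, e3 q149 L1604 q190, e3 q150 (flp_d L1253) q116, e3 q151 (flp_d L1260) q117, e3 q152 (flp_d L1267) q118, e3 q153 L1281 q153, e3 q154 L1287 q154, e3 q155 L1298 q155, e3 q156 L1308 q156, e3 q157 L1322 q157, e3 q158 L1664 q198, e3 q159 (flp_d L1334) q126, e3 q160 (flp_d L1679) q199, e3 q161 (flp_d L1698) q201, e3 q162 L1726 q204, e3 q163 L1379 q163, e3 q164 L1746 q206, e3 q165 L1401 q165, e3 q166 L1408 q132, e3 q167 L1772 q209, e3 q168 (flp_d L1423) q133, e3 q169 (flp_d L1433)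 q134, e3 q170 L1450 q170, e3 q171 (flp_d L1451) q136, e3 q172 (flp_d L1817) q214, e3 q173 (flp_d L1834) q216, e3 q174 L1860 q219, e3 q175 L1491 q139, e3 q176 L1500 q176, e3 q177 L1504 q140, e3 q178 (flp_d L1886) q222, e3 q179 L1913 q226, e3 q180 (flp_d L1526) q141, e3 q181 L1925 q228, e3 q182 (flp_d L1542) q143, e3 q183 L1556 q183, e3 q184 L1564 q184, e3 q185 L1570 q145, e3 q186 L1972 q234, e3 q187 (flp_d L1584) q146, e3 q188 L1596 q188, e3 q189 L2002 q238, e3 q190 (flp_d L1604) q149, e3 q191 (flp_d L2016) q240, trivial⟩ (by decide +kernel)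

theorem ce_d_3 : ∀ r, r < 64 → sm gd (Qf (192 + r)) = Qf (tab Gen.d (192 + r)) :=
  edges_tab (sm gd) Qf (tab Gen.d) 192 [(192, 239), (193, 193), (194, 194), (195, 195), (196, 196), (197, 247), (198, 158), (199, 160), (200, 200), (201, 161), (202, 251), (203, 255), (204, 162), (205, 257), (206, 164), (207, 207), (208, 260), (209, 167), (210, 262), (211, 261), (212, 212), (213, 213), (214, 172), (215, 215), (216, 173), (217, 271), (218, 275), (219, 174), (220, 220), (221, 221), (222, 178), (223, 223), (224, 283), (225, 284), (226, 179), (227, 286), (228, 181), (229, 285), (230, 291), (231, 231), (232, 232), (233, 295), (234, 186), (235, 235), (236, 297), (237, 300), (238, 189), (239, 192), (240, 191), (241, 305), (242, 303), (243, 308), (244, 244), (245, 245), (246, 311), (247, 197), (248, 248), (249, 249), (250, 250), (251, 202), (252, 252), (253, 319), (254, 320), (255, 203)]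
    ⟨e3 q192 (flp_d L2011) q239, e3 q193 L1626 q193, e3 q194 L1635 q194, e3 q195 L1639 q195, e3 q196 L1648 q196, e3 q197 L2067 q247, e3 q198 (flp_d L1664) q158, e3 q199 L1679 q160, e3 q200 L1691 q200, e3 q201 L1698 q161, e3 q202 (flp_d L2110) q251, e3 q203 L2146 q255, e3 q204 (flp_d L1726) q162, e3 q205 L2164 q257, e3 q206 (flp_d L1746) q164, e3 q207 L1761 q207, e3 q208 L2192 q260, e3 q209 (flp_d L1772) q167, e3 q210 (flp_d L2214) q262, e3 q211 (flp_d L2206) q261, e3 q212 L1801 q212, e3 q213 L1811 q213, e3 q214 L1817 q172, e3 q215 L1828 q215, e3 q216 L1834 q173, e3 q217 (flp_d L2291) q271, e3 q218 L2324 q275, e3 q219 (flp_d L1860) q174, e3 q220 L1874 q220, e3 q221 L1882 q221, e3 q222 L1886 q178, e3 q223 L1894 q223, e3 q224 L2387 q283, e3 q225 L2393 q284, e3 q226 (flp_d L1913) q179, e3 q227 (flp_d L2411) q286, e3 q228 (flp_d L1925) q181, e3 q229 (flp_d L2404) q285, e3 q230 L2442 q291, e3 q231 L1954 q231, e3 q232 L1962 q232, e3 q233 L2474 q295, e3 q234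 (flp_d L1972) q186, e3 q235 L1987 q235, e3 q236 (flp_d L2494) q297, e3 q237 L2513 q300, e3 q238 (flp_d L2002) q189, e3 q239 L2011 q192, e3 q240 L2016 q191, e3 q241 (flp_d L2544) q305, e3 q242 (flp_d L2532) q303, e3 q243 L2562 q308, e3 q244 L2046 q244, e3 q245 L2052 q245, e3 q246 L2587 q311, e3 q247 (flp_d L2067) q197, e3 q248 L2084 q248, e3 q249 L2092 q249, e3 q250 L2103 q250, e3 q251 L2110 q202, e3 q252 L2121 q252, e3 q253 L2666 q319, e3 q254 L2675 q320, e3 q255 (flp_d L2146) q203, trivial⟩ (by decide +kernel)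

theorem ce_d_4 : ∀ r, r < 64 → sm gd (Qf (256 + r)) = Qf (tab Gen.d (256 + r)) :=
  edges_tab (sm gd) Qf (tab Gen.d) 256 [(256, 322), (257, 205), (258, 321), (259, 327), (260, 208), (261, 211), (262, 210), (263, 332), (264, 330), (265, 265), (266, 266), (267, 338), (268, 268), (269, 269), (270, 270), (271, 217), (272, 272), (273, 346), (274, 347), (275, 218), (276, 276), (277, 349), (278, 352), (279, 279), (280, 280), (281, 356), (282, 357), (283, 224), (284, 225), (285, 229), (286, 227), (287, 364), (288, 360), (289, 289), (290, 362), (291, 230), (292, 370), (293, 372), (294, 373), (295, 233), (296, 296), (297, 236), (298, 379), (299, 378), (300, 237), (301, 301), (302, 302), (303, 242), (304, 304), (305, 241), (306, 390), (307, 387), (308, 243), (309, 391), (310, 310), (311, 246), (312, 312), (313, 313), (314, 398), (315, 315), (316, 316), (317, 402), (318, 403), (319, 253)]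
    ⟨e3 q256 (flp_d L2701) q322, e3 q257 (flp_d L2164) q205, e3 q258 (flp_d L2691) q321, e3 q259 L2737 q327, e3 q260 (flp_d L2192) q208, e3 q261 L2206 q211, e3 q262 L2214 q210, e3 q263 (flp_d L2782) q332, e3 q264 (flp_d L2764) q330, e3 q265 L2238 q265, e3 q266 L2248 q266, e3 q267 L2831 q338, e3 q268 L2265 q268, e3 q269 L2275 q269, e3 q270 L2285 q270, e3 q271 L2291 q217, e3 q272 L2301 q272, e3 q273 L2903 q346, e3 q274 L2912 q347, e3 q275 (flp_d L2324) q218, e3 q276 L2341 q276, e3 q277 (flp_d L2936) q349, e3 q278 L2956 q352, e3 q279 L2361 q279, e3 q280 L2369 q280, e3 q281 L2984 q356, e3 q282 L2991 q357, e3 q283 (flp_d L2387) q224, e3 q284 (flp_d L2393) q225, e3 q285 L2404 q229, e3 q286 L2411 q227, e3 q287 (flp_d L3042) q364, e3 q288 (flp_d L3018) q360, e3 q289 L2432 q289, e3 q290 (flp_d L3027) q362, e3 q291 (flp_d L2442) q230, e3 q292 (flp_d L3089) q370, e3 q293 L3102 q372, e3 q294 L3108 q373, e3 q295 (flp_d L2474) q233, e3 q296 L2487 q296, e3 q297 L2494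 q236, e3 q298 L3153 q379, e3 q299 (flp_d L3149) q378, e3 q300 (flp_d L2513) q237, e3 q301 L2524 q301, e3 q302 L2529 q302, e3 q303 L2532 q242, e3 q304 L2541 q304, e3 q305 L2544 q241, e3 q306 (flp_d L3230) q390, e3 q307 (flp_d L3211) q387, e3 q308 (flp_d L2562) q243, e3 q309 (flp_d L3239) q391, e3 q310 L2583 q310, e3 q311 (flp_d L2587) q246, e3 q312 L2605 q312, e3 q313 L2608 q313, e3 q314 L3298 q398, e3 q315 L2631 q315, e3 q316 L2642 q316, e3 q317 L3338 q402, e3 q318 L3348 q403, e3 q319 (flp_d L2666) q253, trivial⟩ (by decide +kernel)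

theorem ce_d_5 : ∀ r, r < 64 → sm gd (Qf (320 + r)) = Qf (tab Gen.d (320 + r)) :=
  edges_tab (sm gd) Qf (tab Gen.d) 320 [(320, 254), (321, 258), (322, 256), (323, 410), (324, 406), (325, 325), (326, 408), (327, 259), (328, 328), (329, 329), (330, 264), (331, 331), (332, 263), (333, 423), (334, 420), (335, 424), (336, 427), (337, 337), (338, 267), (339, 431), (340, 433), (341, 434), (342, 342), (343, 343), (344, 438), (345, 439), (346, 273), (347, 274), (348, 348), (349, 277), (350, 447), (351, 446), (352, 278), (353, 451), (354, 453), (355, 454), (356, 281), (357, 282), (358, 358), (359, 359), (360, 288), (361, 361), (362, 290), (363, 363), (364, 287), (365, 468), (366, 462), (367, 471), (368, 465), (369, 369), (370, 292), (371, 475), (372, 293), (373, 294), (374, 476), (375, 375), (376, 376), (377, 485), (378, 299), (379, 298), (380, 488), (381, 487), (382, 382), (383, 383)]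
    ⟨e3 q320 (flp_d L2675) q254, e3 q321 L2691 q258, e3 q322 L2701 q256, e3 q323 (flp_d L3418) q410, e3 q324 (flp_d L3385) q406, e3 q325 L2728 q325, e3 q326 (flp_d L3397) q408, e3 q327 (flp_d L2737) q259, e3 q328 L2753 q328, e3 q329 L2761 q329, e3 q330 L2764 q264, e3 q331 L2776 q331, e3 q332 L2782 q263, e3 q333 (flp_d L3530) q423, e3 q334 (flp_d L3503) q420, e3 q335 L3534 q424, e3 q336 L3564 q427, e3 q337 L2827 q337, e3 q338 (flp_d L2831) q267, e3 q339 (flp_d L3607) q431, e3 q340 L3622 q433, e3 q341 L3629 q434, e3 q342 L2871 q342, e3 q343 L2881 q343, e3 q344 L3667 q438, e3 q345 L3677 q439, e3 q346 (flp_d L2903) q273, e3 q347 (flp_d L2912) q274, e3 q348 L2927 q348, e3 q349 L2936 q277, e3 q350 L3744 q447, e3 q351 (flp_d L3741) q446, e3 q352 (flp_d L2956) q278, e3 q353 (flp_d L3781) q451, e3 q354 L3795 q453, e3 q355 L3800 q454, e3 q356 (flp_d L2984) q281, e3 q357 (flp_d L2991) q282, e3 q358 L3004 q358, e3 q359 L3011 q359, e3 q360 L3018 q288, e3 q361 L3024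 q361, e3 q362 L3027 q290, e3 q363 L3039 q363, e3 q364 L3042 q287, e3 q365 (flp_d L3900) q468, e3 q366 (flp_d L3859) q462, e3 q367 L3922 q471, e3 q368 (flp_d L3879) q465, e3 q369 L3083 q369, e3 q370 L3089 q292, e3 q371 L3952 q475, e3 q372 (flp_d L3102) q293, e3 q373 (flp_d L3108) q294, e3 q374 (flp_d L3964) q476, e3 q375 L3130 q375, e3 q376 L3133 q376, e3 q377 L4026 q485, e3 q378 L3149 q299, e3 q379 (flp_d L3153) q298, e3 q380 (flp_d L4053) q488, e3 q381 (flp_d L4045) q487, e3 q382 L3184 q382, e3 q383 L3190 q383, trivial⟩ (by decide +kernel)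

theorem ce_d_6 : ∀ r, r < 64 → sm gd (Qf (384 + r)) = Qf (tab Gen.d (384 + r)) :=
  edges_tab (sm gd) Qf (tab Gen.d) 384 [(384, 384), (385, 496), (386, 386), (387, 307), (388, 388), (389, 389), (390, 306), (391, 309), (392, 392), (393, 502), (394, 394), (395, 395), (396, 396), (397, 397), (398, 314), (399, 507), (400, 509), (401, 510), (402, 317), (403, 318), (404, 404), (405, 405), (406, 324), (407, 407), (408, 326), (409, 409), (410, 323), (411, 524), (412, 518), (413, 527), (414, 521), (415, 415), (416, 416), (417, 417), (418, 533), (419, 419), (420, 334), (421, 421), (422, 422), (423, 333), (424, 335), (425, 425), (426, 539), (427, 336), (428, 542), (429, 544), (430, 430), (431, 339), (432, 547), (433, 340), (434, 341), (435, 550), (436, 552), (437, 553), (438, 344), (439, 345), (440, 548), (441, 441), (442, 442), (443, 443), (444, 444), (445, 566), (446, 351), (447, 350)]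
    ⟨e3 q384 L3193 q384, e3 q385 L4105 q496, e3 q386 L3205 q386, e3 q387 L3211 q307, e3 q388 L3220 q388, e3 q389 L3225 q389, e3 q390 L3230 q306, e3 q391 L3239 q309, e3 q392 L3249 q392, e3 q393 (flp_d L4155) q502, e3 q394 L3267 q394, e3 q395 L3276 q395, e3 q396 L3280 q396, e3 q397 L3292 q397, e3 q398 (flp_d L3298) q314, e3 q399 (flp_d L4220) q507, e3 q400 L4237 q509, e3 q401 L4245 q510, e3 q402 (flp_d L3338) q317, e3 q403 (flp_d L3348) q318, e3 q404 L3366 q404, e3 q405 L3376 q405, e3 q406 L3385 q324, e3 q407 L3394 q407, e3 q408 L3397 q326, e3 q409 L3412 q409, e3 q410 L3418 q323, e3 q411 (flp_d L4379) q524, e3 q412 (flp_d L4323) q518, e3 q413 L4401 q527, e3 q414 (flp_d L4350) q521, e3 q415 L3466 q415, e3 q416 L3475 q416, e3 q417 L3478 q417, e3 q418 L4452 q533, e3 q419 L3496 q419, e3 q420 L3503 q334, e3 q421 L3515 q421, e3 q422 L3522 q422, e3 q423 L3530 q333, e3 q424 (flp_d L3534) q335, e3 q425 L3553 q425, e3 q426 (flp_d L4508) q539, e3 q427 (flp_d L3564)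 q336, e3 q428 (flp_d L4539) q542, e3 q429 L4556 q544, e3 q430 L3600 q430, e3 q431 L3607 q339, e3 q432 L4583 q547, e3 q433 (flp_d L3622) q340, e3 q434 (flp_d L3629) q341, e3 q435 (flp_d L4613) q550, e3 q436 L4629 q552, e3 q437 L4637 q553, e3 q438 (flp_d L3667) q344, e3 q439 (flp_d L3677) q345, e3 q440 (flp_d L4597) q548, e3 q441 L3703 q441, e3 q442 L3711 q442, e3 q443 L3719 q443, e3 q444 L3722 q444, e3 q445 L4751 q566, e3 q446 L3741 q351, e3 q447 (flp_d L3744) q350, trivial⟩ (by decide +kernel)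

theorem ce_d_7 : ∀ r, r < 64 → sm gd (Qf (448 + r)) = Qf (tab Gen.d (448 + r)) :=
  edges_tab (sm gd) Qf (tab Gen.d) 448 [(448, 569), (449, 568), (450, 450), (451, 353), (452, 574), (453, 354), (454, 355), (455, 455), (456, 576), (457, 457), (458, 458), (459, 459), (460, 587), (461, 461), (462, 366), (463, 592), (464, 464), (465, 368), (466, 466), (467, 467), (468, 365), (469, 590), (470, 599), (471, 367), (472, 472), (473, 473), (474, 601), (475, 371), (476, 374), (477, 477), (478, 602), (479, 479), (480, 604), (481, 612), (482, 482), (483, 483), (484, 616), (485, 377), (486, 618), (487, 381), (488, 380), (489, 489), (490, 621), (491, 491), (492, 624), (493, 493), (494, 494), (495, 628), (496, 385), (497, 630), (498, 498), (499, 499), (500, 500), (501, 501), (502, 393), (503, 503), (504, 636), (505, 505), (506, 506), (507, 399), (508, 640), (509, 400), (510, 401), (511, 511)]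
    ⟨e3 q448 (flp_d L4780) q569, e3 q449 (flp_d L4771) q568, e3 q450 L3778 q450, e3 q451 L3781 q353, e3 q452 L4817 q574, e3 q453 (flp_d L3795) q354, e3 q454 (flp_d L3800) q355, e3 q455 L3815 q455, e3 q456 (flp_d L4833) q576, e3 q457 L3828 q457, e3 q458 L3836 q458, e3 q459 L3839 q459, e3 q460 L4909 q587, e3 q461 L3854 q461, e3 q462 L3859 q366, e3 q463 L4943 q592, e3 q464 L3873 q464, e3 q465 L3879 q368, e3 q466 L3891 q466, e3 q467 L3896 q467, e3 q468 L3900 q365, e3 q469 (flp_d L4931) q590, e3 q470 L4995 q599, e3 q471 (flp_d L3922) q367, e3 q472 L3933 q472, e3 q473 L3942 q473, e3 q474 L5026 q601, e3 q475 (flp_d L3952) q371, e3 q476 L3964 q374, e3 q477 L3971 q477, e3 q478 (flp_d L5040) q602, e3 q479 L3987 q479, e3 q480 (flp_d L5051) q604, e3 q481 L5111 q612, e3 q482 L4007 q482, e3 q483 L4015 q483, e3 q484 L5140 q616, e3 q485 (flp_d L4026) q377, e3 q486 (flp_d L5160) q618, e3 q487 L4045 q381, e3 q488 L4053 q380, e3 q489 L4061 q489, e3 q490 (flp_d L5188)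 q621, e3 q491 L4074 q491, e3 q492 L5219 q624, e3 q493 L4088 q493, e3 q494 L4095 q494, e3 q495 L5246 q628, e3 q496 (flp_d L4105) q385, e3 q497 (flp_d L5262) q630, e3 q498 L4119 q498, e3 q499 L4128 q499, e3 q500 L4133 q500, e3 q501 L4140 q501, e3 q502 L4155 q393, e3 q503 L4178 q503, e3 q504 L5341 q636, e3 q505 L4199 q505, e3 q506 L4214 q506, e3 q507 L4220 q399, e3 q508 L5377 q640, e3 q509 (flp_d L4237) q400, e3 q510 (flp_d L4245) q401, e3 q511 L4265 q511, trivial⟩ (by decide +kernel)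

theorem ce_d_8 : ∀ r, r < 64 → sm gd (Qf (512 + r)) = Qf (tab Gen.d (512 + r)) :=
  edges_tab (sm gd) Qf (tab Gen.d) 512 [(512, 642), (513, 513), (514, 514), (515, 515), (516, 653), (517, 517), (518, 412), (519, 658), (520, 520), (521, 414), (522, 522), (523, 523), (524, 411), (525, 656), (526, 665), (527, 413), (528, 528), (529, 669), (530, 530), (531, 531), (532, 670), (533, 418), (534, 668), (535, 535), (536, 536), (537, 537), (538, 538), (539, 426), (540, 540), (541, 678), (542, 428), (543, 680), (544, 429), (545, 545), (546, 683), (547, 432), (548, 440), (549, 549), (550, 435), (551, 690), (552, 436), (553, 437), (554, 681), (555, 692), (556, 684), (557, 557), (558, 686), (559, 703), (560, 560), (561, 561), (562, 708), (563, 563), (564, 564), (565, 712), (566, 445), (567, 714), (568, 449), (569, 448), (570, 570), (571, 718), (572, 572), (573, 722), (574, 452), (575, 575)]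
    ⟨e3 q512 (flp_d L5401) q642, e3 q513 L4283 q513, e3 q514 L4294 q514, e3 q515 L4297 q515, e3 q516 L5498 q653, e3 q517 L4318 q517, e3 q518 L4323 q412, e3 q519 L5543 q658, e3 q520 L4343 q520, e3 q521 L4350 q414, e3 q522 L4365 q522, e3 q523 L4372 q523, e3 q524 L4379 q411, e3 q525 (flp_d L5528) q656, e3 q526 L5609 q665, e3 q527 (flp_d L4401) q413, e3 q528 L4411 q528, e3 q529 L5761 q669, e3 q530 L4431 q530, e3 q531 L4439 q531, e3 q532 (flp_d L5783) q670, e3 q533 (flp_d L4452) q418, e3 q534 L5642 q668, e3 q535 L4473 q535, e3 q536 L4485 q536, e3 q537 L4491 q537, e3 q538 L4500 q538, e3 q539 L4508 q426, e3 q540 L4519 q540, e3 q541 L5864 q678, e3 q542 L4539 q428, e3 q543 L5880 q680, e3 q544 (flp_d L4556) q429, e3 q545 L4569 q545, e3 q546 L5904 q683, e3 q547 (flp_d L4583) q432, e3 q548 L4597 q440, e3 q549 L4606 q549, e3 q550 L4613 q435, e3 q551 L5967 q690, e3 q552 (flp_d L4629) q436, e3 q553 (flp_d L4637) q437, e3 q554 (flp_d L5896) q681, e3 q555 (flp_d L5989)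 q692, e3 q556 (flp_d L5922) q684, e3 q557 L4682 q557, e3 q558 (flp_d L5937) q686, e3 q559 L6082 q703, e3 q560 L4705 q560, e3 q561 L4710 q561, e3 q562 L6123 q708, e3 q563 L4729 q563, e3 q564 L4737 q564, e3 q565 L6158 q712, e3 q566 (flp_d L4751) q445, e3 q567 (flp_d L6179) q714, e3 q568 L4771 q449, e3 q569 L4780 q448, e3 q570 L4790 q570, e3 q571 (flp_d L6209) q718, e3 q572 L4807 q572, e3 q573 L6239 q722, e3 q574 (flp_d L4817) q452, e3 q575 L4828 q575, trivial⟩ (by decide +kernel)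

theorem ce_d_9 : ∀ r, r < 64 → sm gd (Qf (576 + r)) = Qf (tab Gen.d (576 + r)) :=
  edges_tab (sm gd) Qf (tab Gen.d) 576 [(576, 456), (577, 577), (578, 724), (579, 579), (580, 733), (581, 727), (582, 582), (583, 738), (584, 584), (585, 585), (586, 742), (587, 460), (588, 744), (589, 589), (590, 469), (591, 747), (592, 463), (593, 749), (594, 594), (595, 595), (596, 596), (597, 597), (598, 754), (599, 470), (600, 600), (601, 474), (602, 478), (603, 603), (604, 480), (605, 763), (606, 606), (607, 759), (608, 767), (609, 609), (610, 761), (611, 771), (612, 481), (613, 773), (614, 614), (615, 776), (616, 484), (617, 778), (618, 486), (619, 774), (620, 781), (621, 490), (622, 622), (623, 783), (624, 492), (625, 672), (626, 626), (627, 784), (628, 495), (629, 782), (630, 497), (631, 788), (632, 632), (633, 633), (634, 634), (635, 791), (636, 504), (637, 637), (638, 638), (639, 793)]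
    ⟨e3 q576 L4833 q456, e3 q577 L4843 q577, e3 q578 (flp_d L6258) q724, e3 q579 L4852 q579, e3 q580 L6317 q733, e3 q581 (flp_d L6274) q727, e3 q582 L4873 q582, e3 q583 L6353 q738, e3 q584 L4890 q584, e3 q585 L4896 q585, e3 q586 L6384 q742, e3 q587 (flp_d L4909) q460, e3 q588 (flp_d L6401) q744, e3 q589 L4924 q589, e3 q590 L4931 q469, e3 q591 L6418 q747, e3 q592 (flp_d L4943) q463, e3 q593 (flp_d L6436) q749, e3 q594 L4959 q594, e3 q595 L4971 q595, e3 q596 L4976 q596, e3 q597 L4982 q597, e3 q598 L6468 q754, e3 q599 (flp_d L4995) q470, e3 q600 L5007 q600, e3 q601 (flp_d L5026) q474, e3 q602 L5040 q478, e3 q603 L5048 q603, e3 q604 L5051 q480, e3 q605 L6539 q763, e3 q606 L5066 q606, e3 q607 (flp_d L6508) q759, e3 q608 L6572 q767, e3 q609 L5090 q609, e3 q610 (flp_d L6528) q761, e3 q611 L6606 q771, e3 q612 (flp_d L5111) q481, e3 q613 (flp_d L6623) q773, e3 q614 L5128 q614, e3 q615 L6639 q776, e3 q616 (flp_d L5140) q484, e3 q617 (flp_d L6661) q778, e3 q618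 L5160 q486, e3 q619 (flp_d L6629) q774, e3 q620 (flp_d L6683) q781, e3 q621 L5188 q490, e3 q622 L5207 q622, e3 q623 L6699 q783, e3 q624 (flp_d L5219) q492, e3 q625 (flp_d L5810) q672, e3 q626 L5235 q626, e3 q627 (flp_d L6718) q784, e3 q628 (flp_d L5246) q495, e3 q629 (flp_d L6695) q782, e3 q630 L5262 q497, e3 q631 (flp_d L6747) q788, e3 q632 L5276 q632, e3 q633 L5283 q633, e3 q634 L5324 q634, e3 q635 L6768 q791, e3 q636 (flp_d L5341) q504, e3 q637 L5351 q637, e3 q638 L5364 q638, e3 q639 L6804 q793, trivial⟩ (by decide +kernel)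

theorem ce_d_10 : ∀ r, r < 64 → sm gd (Qf (640 + r)) = Qf (tab Gen.d (640 + r)) :=
  edges_tab (sm gd) Qf (tab Gen.d) 640 [(640, 508), (641, 641), (642, 512), (643, 643), (644, 795), (645, 645), (646, 804), (647, 798), (648, 648), (649, 809), (650, 650), (651, 651), (652, 813), (653, 516), (654, 815), (655, 655), (656, 525), (657, 818), (658, 519), (659, 820), (660, 660), (661, 661), (662, 662), (663, 663), (664, 825), (665, 526), (666, 666), (667, 667), (668, 534), (669, 529), (670, 532), (671, 671), (672, 625), (673, 808), (674, 674), (675, 675), (676, 827), (677, 828), (678, 541), (679, 831), (680, 543), (681, 554), (682, 830), (683, 546), (684, 556), (685, 685), (686, 558), (687, 843), (688, 688), (689, 846), (690, 551), (691, 829), (692, 555), (693, 832), (694, 848), (695, 834), (696, 857), (697, 851), (698, 838), (699, 862), (700, 700), (701, 841), (702, 866), (703, 559)]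
    ⟨e3 q640 (flp_d L5377) q508, e3 q641 L5393 q641, e3 q642 L5401 q512, e3 q643 L5413 q643, e3 q644 (flp_d L6831) q795, e3 q645 L5425 q645, e3 q646 L6906 q804, e3 q647 (flp_d L6853) q798, e3 q648 L5452 q648, e3 q649 L6995 q809, e3 q650 L5475 q650, e3 q651 L5482 q651, e3 q652 L7044 q813, e3 q653 (flp_d L5498) q516, e3 q654 (flp_d L7070) q815, e3 q655 L5520 q655, e3 q656 L5528 q525, e3 q657 L7092 q818, e3 q658 (flp_d L5543) q519, e3 q659 (flp_d L7113) q820, e3 q660 L5566 q660, e3 q661 L5581 q661, e3 q662 L5587 q662, e3 q663 L5595 q663, e3 q664 L7153 q825, e3 q665 (flp_d L5609) q526, e3 q666 L5623 q666, e3 q667 L5627 q667, e3 q668 (flp_d L5642) q534, e3 q669 (flp_d L5761) q529, e3 q670 L5783 q532, e3 q671 L5794 q671, e3 q672 L5810 q625, e3 q673 L6957 q808, e3 q674 L5830 q674, e3 q675 L5840 q675, e3 q676 L7178 q827, e3 q677 L7187 q828, e3 q678 (flp_d L5864) q541, e3 q679 L7210 q831, e3 q680 (flp_d L5880) q543, e3 q681 L5896 q554, e3 q682 (flp_d L7208)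 q830, e3 q683 (flp_d L5904) q546, e3 q684 L5922 q556, e3 q685 L5934 q685, e3 q686 L5937 q558, e3 q687 L7319 q843, e3 q688 L5955 q688, e3 q689 L7343 q846, e3 q690 (flp_d L5967) q551, e3 q691 (flp_d L7201) q829, e3 q692 L5989 q555, e3 q693 (flp_d L7228) q832, e3 q694 (flp_d L7368) q848, e3 q695 (flp_d L7239) q834, e3 q696 L7441 q857, e3 q697 (flp_d L7389) q851, e3 q698 (flp_d L7273) q838, e3 q699 L7485 q862, e3 q700 L6059 q700, e3 q701 (flp_d L7305) q841, e3 q702 L7523 q866, e3 q703 (flp_d L6082) q559, trivial⟩ (by decide +kernel)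

theorem ce_d_11 : ∀ r, r < 64 → sm gd (Qf (704 + r)) = Qf (tab Gen.d (704 + r)) :=
  edges_tab (sm gd) Qf (tab Gen.d) 704 [(704, 868), (705, 705), (706, 706), (707, 872), (708, 562), (709, 874), (710, 710), (711, 877), (712, 565), (713, 879), (714, 567), (715, 869), (716, 883), (717, 717), (718, 571), (719, 719), (720, 720), (721, 790), (722, 573), (723, 723), (724, 578), (725, 725), (726, 894), (727, 581), (728, 728), (729, 899), (730, 891), (731, 731), (732, 903), (733, 580), (734, 905), (735, 896), (736, 736), (737, 909), (738, 583), (739, 911), (740, 740), (741, 913), (742, 586), (743, 916), (744, 588), (745, 919), (746, 920), (747, 591), (748, 923), (749, 593), (750, 906), (751, 926), (752, 752), (753, 753), (754, 598), (755, 755), (756, 756), (757, 757), (758, 758), (759, 607), (760, 935), (761, 610), (762, 937), (763, 605), (764, 939), (765, 933), (766, 942), (767, 608)]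
    ⟨e3 q704 (flp_d L7541) q868, e3 q705 L6100 q705, e3 q706 L6109 q706, e3 q707 L7569 q872, e3 q708 (flp_d L6123) q562, e3 q709 (flp_d L7589) q874, e3 q710 L6143 q710, e3 q711 L7607 q877, e3 q712 (flp_d L6158) q565, e3 q713 (flp_d L7630) q879, e3 q714 L6179 q567, e3 q715 (flp_d L7549) q869, e3 q716 (flp_d L7662) q883, e3 q717 L6203 q717, e3 q718 L6209 q571, e3 q719 L6220 q719, e3 q720 L6225 q720, e3 q721 L6971 q790, e3 q722 (flp_d L6239) q573, e3 q723 L6252 q723, e3 q724 L6258 q578, e3 q725 L6262 q725, e3 q726 L7746 q894, e3 q727 L6274 q581, e3 q728 L6280 q728, e3 q729 L7782 q899, e3 q730 (flp_d L7725) q891, e3 q731 L6304 q731, e3 q732 L7812 q903, e3 q733 (flp_d L6317) q580, e3 q734 (flp_d L7828) q905, e3 q735 (flp_d L7760) q896, e3 q736 L6338 q736, e3 q737 L7858 q909, e3 q738 (flp_d L6353) q583, e3 q739 (flp_d L7881) q911, e3 q740 L6370 q740, e3 q741 L7894 q913, e3 q742 (flp_d L6384) q586, e3 q743 (flp_d L7923) q916, e3 q744 L6401 q588, e3 q745 (flp_d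 L7942) q919, e3 q746 L7947 q920, e3 q747 (flp_d L6418) q591, e3 q748 (flp_d L7973) q923, e3 q749 L6436 q593, e3 q750 (flp_d L7834) q906, e3 q751 (flp_d L7995) q926, e3 q752 L6458 q752, e3 q753 L6464 q753, e3 q754 (flp_d L6468) q598, e3 q755 L6481 q755, e3 q756 L6488 q756, e3 q757 L6492 q757, e3 q758 L6505 q758, e3 q759 L6508 q607, e3 q760 L8066 q935, e3 q761 L6528 q610, e3 q762 L8085 q937, e3 q763 (flp_d L6539) q605, e3 q764 (flp_d L8104) q939, e3 q765 (flp_d L8049) q933, e3 q766 L8127 q942, e3 q767 (flp_d L6572) q608, trivial⟩ (by decide +kernel)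

theorem ce_d_12 : ∀ r, r < 64 → sm gd (Qf (768 + r)) = Qf (tab Gen.d (768 + r)) :=
  edges_tab (sm gd) Qf (tab Gen.d) 768 [(768, 944), (769, 769), (770, 947), (771, 611), (772, 950), (773, 613), (774, 619), (775, 953), (776, 615), (777, 954), (778, 617), (779, 951), (780, 957), (781, 620), (782, 629), (783, 623), (784, 627), (785, 812), (786, 949), (787, 908), (788, 631), (789, 789), (790, 721), (791, 635), (792, 792), (793, 639), (794, 794), (795, 644), (796, 796), (797, 962), (798, 647), (799, 799), (800, 967), (801, 960), (802, 802), (803, 971), (804, 646), (805, 973), (806, 964), (807, 807), (808, 673), (809, 649), (810, 977), (811, 811), (812, 785), (813, 652), (814, 978), (815, 654), (816, 976), (817, 981), (818, 657), (819, 983), (820, 659), (821, 974), (822, 985), (823, 823), (824, 824), (825, 664), (826, 826), (827, 676), (828, 677), (829, 691), (830, 682), (831, 679)]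
    ⟨e3 q768 (flp_d L8149) q944, e3 q769 L6592 q769, e3 q770 L8169 q947, e3 q771 (flp_d L6606) q611, e3 q772 (flp_d L8195) q950, e3 q773 L6623 q613, e3 q774 L6629 q619, e3 q775 (flp_d L8216) q953, e3 q776 (flp_d L6639) q615, e3 q777 (flp_d L8224) q954, e3 q778 L6661 q617, e3 q779 (flp_d L8201) q951, e3 q780 (flp_d L8248) q957, e3 q781 L6683 q620, e3 q782 L6695 q629, e3 q783 (flp_d L6699) q623, e3 q784 L6718 q627, e3 q785 L7042 q812, e3 q786 (flp_d L8189) q949, e3 q787 L7856 q908, e3 q788 L6747 q631, e3 q789 L6754 q789, e3 q790 (flp_d L6971) q721, e3 q791 (flp_d L6768) q635, e3 q792 L6783 q792, e3 q793 (flp_d L6804) q639, e3 q794 L6822 q794, e3 q795 L6831 q644, e3 q796 L6835 q796, e3 q797 L8297 q962, e3 q798 L6853 q647, e3 q799 L6859 q799, e3 q800 L8344 q967, e3 q801 (flp_d L8281) q960, e3 q802 L6890 q802, e3 q803 L8384 q971, e3 q804 (flp_d L6906) q646, e3 q805 (flp_d L8403) q973, e3 q806 (flp_d L8318) q964, e3 q807 L6935 q807, e3 q808 (flp_d L6957)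 q673, e3 q809 (flp_d L6995) q649, e3 q810 (flp_d L8445) q977, e3 q811 L7023 q811, e3 q812 (flp_d L7042) q785, e3 q813 (flp_d L7044) q652, e3 q814 (flp_d L8461) q978, e3 q815 L7070 q654, e3 q816 (flp_d L8431) q976, e3 q817 L8490 q981, e3 q818 (flp_d L7092) q657, e3 q819 (flp_d L8518) q983, e3 q820 L7113 q659, e3 q821 (flp_d L8411) q974, e3 q822 (flp_d L8536) q985, e3 q823 L7142 q823, e3 q824 L7149 q824, e3 q825 (flp_d L7153) q664, e3 q826 L7173 q826, e3 q827 (flp_d L7178) q676, e3 q828 (flp_d L7187) q677, e3 q829 L7201 q691, e3 q830 L7208 q682, e3 q831 (flp_d L7210) q679, trivial⟩ (by decide +kernel)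

theorem ce_d_13 : ∀ r, r < 64 → sm gd (Qf (832 + r)) = Qf (tab Gen.d (832 + r)) :=
  edges_tab (sm gd) Qf (tab Gen.d) 832 [(832, 693), (833, 991), (834, 695), (835, 1002), (836, 994), (837, 837), (838, 698), (839, 1008), (840, 840), (841, 701), (842, 1011), (843, 687), (844, 1013), (845, 845), (846, 689), (847, 990), (848, 694), (849, 992), (850, 1023), (851, 697), (852, 997), (853, 1028), (854, 1020), (855, 1000), (856, 1032), (857, 696), (858, 1034), (859, 1025), (860, 1006), (861, 1038), (862, 699), (863, 1040), (864, 864), (865, 1043), (866, 702), (867, 1046), (868, 704), (869, 715), (870, 1050), (871, 1053), (872, 707), (873, 1056), (874, 709), (875, 1035), (876, 1060), (877, 711), (878, 1063), (879, 713), (880, 1047), (881, 1067), (882, 1059), (883, 716), (884, 1051), (885, 1052), (886, 886), (887, 1072), (888, 888), (889, 889), (890, 1075), (891, 730), (892, 892), (893, 1079), (894, 726), (895, 1081)]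
    ⟨e3 q832 L7228 q693, e3 q833 (flp_d L8598) q991, e3 q834 L7239 q695, e3 q835 L8688 q1002, e3 q836 (flp_d L8617) q994, e3 q837 L7270 q837, e3 q838 L7273 q698, e3 q839 L8744 q1008, e3 q840 L7295 q840, e3 q841 L7305 q701, e3 q842 L8776 q1011, e3 q843 (flp_d L7319) q687, e3 q844 (flp_d L8794) q1013, e3 q845 L7337 q845, e3 q846 (flp_d L7343) q689, e3 q847 (flp_d L8588) q990, e3 q848 L7368 q694, e3 q849 (flp_d L8602) q992, e3 q850 L8884 q1023, e3 q851 L7389 q697, e3 q852 (flp_d L8643) q997, e3 q853 L8928 q1028, e3 q854 (flp_d L8861) q1020, e3 q855 (flp_d L8674) q1000, e3 q856 L8965 q1032, e3 q857 (flp_d L7441) q696, e3 q858 (flp_d L8983) q1034, e3 q859 (flp_d L8902) q1025, e3 q860 (flp_d L8726) q1006, e3 q861 L9013 q1038, e3 q862 (flp_d L7485) q699, e3 q863 (flp_d L9034) q1040, e3 q864 L7506 q864, e3 q865 L9057 q1043, e3 q866 (flp_d L7523) q702, e3 q867 (flp_d L9084) q1046, e3 q868 L7541 q704, e3 q869 L7549 q715, e3 q870 (flp_d L9112) q1050, e3 q871 L9132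 q1053, e3 q872 (flp_d L7569) q707, e3 q873 (flp_d L9162) q1056, e3 q874 L7589 q709, e3 q875 (flp_d L8989) q1035, e3 q876 (flp_d L9193) q1060, e3 q877 (flp_d L7607) q711, e3 q878 (flp_d L9216) q1063, e3 q879 L7630 q713, e3 q880 (flp_d L9092) q1047, e3 q881 (flp_d L9250) q1067, e3 q882 (flp_d L9186) q1059, e3 q883 L7662 q716, e3 q884 (flp_d L9122) q1051, e3 q885 (flp_d L9128) q1052, e3 q886 L7687 q886, e3 q887 L9287 q1072, e3 q888 L7704 q888, e3 q889 L7707 q889, e3 q890 L9312 q1075, e3 q891 L7725 q730, e3 q892 L7732 q892, e3 q893 L9345 q1079, e3 q894 (flp_d L7746) q726, e3 q895 (flp_d L9361) q1081, trivial⟩ (by decide +kernel)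

theorem ce_d_14 : ∀ r, r < 64 → sm gd (Qf (896 + r)) = Qf (tab Gen.d (896 + r)) :=
  edges_tab (sm gd) Qf (tab Gen.d) 896 [(896, 735), (897, 897), (898, 1085), (899, 729), (900, 1087), (901, 1077), (902, 1090), (903, 732), (904, 1093), (905, 734), (906, 750), (907, 1097), (908, 787), (909, 737), (910, 1102), (911, 739), (912, 979), (913, 741), (914, 1103), (915, 1045), (916, 743), (917, 1100), (918, 1096), (919, 745), (920, 746), (921, 1110), (922, 1055), (923, 748), (924, 1094), (925, 1114), (926, 751), (927, 1098), (928, 1099), (929, 929), (930, 930), (931, 1118), (932, 932), (933, 765), (934, 1121), (935, 760), (936, 1122), (937, 762), (938, 1125), (939, 764), (940, 940), (941, 1129), (942, 766), (943, 1131), (944, 768), (945, 945), (946, 1133), (947, 770), (948, 1130), (949, 786), (950, 772), (951, 779), (952, 1136), (953, 775), (954, 777), (955, 1134), (956, 1137), (957, 780), (958, 958), (959, 1139)]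
    ⟨e3 q896 L7760 q735, e3 q897 L7767 q897, e3 q898 L9385 q1085, e3 q899 (flp_d L7782) q729, e3 q900 (flp_d L9404) q1087, e3 q901 (flp_d L9329) q1077, e3 q902 L9423 q1090, e3 q903 (flp_d L7812) q732, e3 q904 (flp_d L9445) q1093, e3 q905 L7828 q734, e3 q906 L7834 q750, e3 q907 (flp_d L9471) q1097, e3 q908 (flp_d L7856) q787, e3 q909 (flp_d L7858) q737, e3 q910 (flp_d L9517) q1102, e3 q911 L7881 q739, e3 q912 (flp_d L8475) q979, e3 q913 (flp_d L7894) q741, e3 q914 (flp_d L9531) q1103, e3 q915 (flp_d L9078) q1045, e3 q916 L7923 q743, e3 q917 (flp_d L9492) q1100, e3 q918 (flp_d L9466) q1096, e3 q919 L7942 q745, e3 q920 (flp_d L7947) q746, e3 q921 (flp_d L9586) q1110, e3 q922 (flp_d L9156) q1055, e3 q923 L7973 q748, e3 q924 (flp_d L9453) q1094, e3 q925 (flp_d L9617) q1114, e3 q926 L7995 q751, e3 q927 (flp_d L9478) q1098, e3 q928 (flp_d L9482) q1099, e3 q929 L8017 q929, e3 q930 L8028 q930, e3 q931 L9643 q1118, e3 q932 L8038 q932, e3 q933 L8049 q765, e3 q934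 L9673 q1121, e3 q935 (flp_d L8066) q760, e3 q936 L9685 q1122, e3 q937 (flp_d L8085) q762, e3 q938 (flp_d L9712) q1125, e3 q939 L8104 q764, e3 q940 L8114 q940, e3 q941 L9745 q1129, e3 q942 (flp_d L8127) q766, e3 q943 (flp_d L9775) q1131, e3 q944 L8149 q768, e3 q945 L8159 q945, e3 q946 (flp_d L9790) q1133, e3 q947 (flp_d L8169) q770, e3 q948 (flp_d L9763) q1130, e3 q949 L8189 q786, e3 q950 L8195 q772, e3 q951 L8201 q779, e3 q952 (flp_d L9811) q1136, e3 q953 L8216 q775, e3 q954 L8224 q777, e3 q955 (flp_d L9799) q1134, e3 q956 (flp_d L9819) q1137, e3 q957 L8248 q780, e3 q958 L8262 q958, e3 q959 L9834 q1139, trivial⟩ (by decide +kernel)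

theorem ce_d_15 : ∀ r, r < 64 → sm gd (Qf (960 + r)) = Qf (tab Gen.d (960 + r)) :=
  edges_tab (sm gd) Qf (tab Gen.d) 960 [(960, 801), (961, 1142), (962, 797), (963, 1144), (964, 806), (965, 965), (966, 1148), (967, 800), (968, 1150), (969, 1141), (970, 1153), (971, 803), (972, 1155), (973, 805), (974, 821), (975, 1158), (976, 816), (977, 810), (978, 814), (979, 912), (980, 1157), (981, 817), (982, 1160), (983, 819), (984, 1162), (985, 822), (986, 1159), (987, 987), (988, 988), (989, 989), (990, 847), (991, 833), (992, 849), (993, 1172), (994, 836), (995, 995), (996, 996), (997, 852), (998, 1179), (999, 1169), (1000, 855), (1001, 1182), (1002, 835), (1003, 1184), (1004, 1174), (1005, 1005), (1006, 860), (1007, 1189), (1008, 839), (1009, 1191), (1010, 1192), (1011, 842), (1012, 1195), (1013, 844), (1014, 1014), (1015, 1199), (1016, 1016), (1017, 1017), (1018, 1167), (1019, 1205), (1020, 854), (1021, 1170), (1022, 1209), (1023, 850)]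
    ⟨e3 q960 L8281 q801, e3 q961 L9872 q1142, e3 q962 (flp_d L8297) q797, e3 q963 (flp_d L9899) q1144, e3 q964 L8318 q806, e3 q965 L8326 q965, e3 q966 L9932 q1148, e3 q967 (flp_d L8344) q800, e3 q968 (flp_d L9958) q1150, e3 q969 (flp_d L9866) q1141, e3 q970 L9985 q1153, e3 q971 (flp_d L8384) q803, e3 q972 (flp_d L10016) q1155, e3 q973 L8403 q805, e3 q974 L8411 q821, e3 q975 (flp_d L10043) q1158, e3 q976 L8431 q816, e3 q977 L8445 q810, e3 q978 L8461 q814, e3 q979 L8475 q912, e3 q980 (flp_d L10036) q1157, e3 q981 (flp_d L8490) q817, e3 q982 (flp_d L10062) q1160, e3 q983 L8518 q819, e3 q984 (flp_d L10085) q1162, e3 q985 L8536 q822, e3 q986 (flp_d L10052) q1159, e3 q987 L8556 q987, e3 q988 L8570 q988, e3 q989 L8579 q989, e3 q990 L8588 q847, e3 q991 L8598 q833, e3 q992 L8602 q849, e3 q993 L10175 q1172, e3 q994 L8617 q836, e3 q995 L8629 q995, e3 q996 L8638 q996, e3 q997 L8643 q852, e3 q998 L10239 q1179, e3 q999 (flp_d L10151) q1169, e3 q1000 L8674 q855, e3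 q1001 L10268 q1182, e3 q1002 (flp_d L8688) q835, e3 q1003 (flp_d L10286) q1184, e3 q1004 (flp_d L10193) q1174, e3 q1005 L8714 q1005, e3 q1006 L8726 q860, e3 q1007 L10330 q1189, e3 q1008 (flp_d L8744) q839, e3 q1009 (flp_d L10357) q1191, e3 q1010 L10365 q1192, e3 q1011 (flp_d L8776) q842, e3 q1012 (flp_d L10393) q1195, e3 q1013 L8794 q844, e3 q1014 L8804 q1014, e3 q1015 (flp_d L10424) q1199, e3 q1016 L8825 q1016, e3 q1017 L8835 q1017, e3 q1018 (flp_d L10128) q1167, e3 q1019 L10482 q1205, e3 q1020 L8861 q854, e3 q1021 (flp_d L10162) q1170, e3 q1022 L10520 q1209, e3 q1023 (flp_d L8884) q850, trivial⟩ (by decide +kernel)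

theorem ce_d_16 : ∀ r, r < 64 → sm gd (Qf (1024 + r)) = Qf (tab Gen.d (1024 + r)) :=
  edges_tab (sm gd) Qf (tab Gen.d) 1024 [(1024, 1211), (1025, 859), (1026, 1177), (1027, 1215), (1028, 853), (1029, 1217), (1030, 1207), (1031, 1220), (1032, 856), (1033, 1223), (1034, 858), (1035, 875), (1036, 1227), (1037, 1230), (1038, 861), (1039, 1233), (1040, 863), (1041, 1041), (1042, 1237), (1043, 865), (1044, 1241), (1045, 915), (1046, 867), (1047, 880), (1048, 1247), (1049, 1226), (1050, 870), (1051, 884), (1052, 885), (1053, 871), (1054, 1253), (1055, 922), (1056, 873), (1057, 1224), (1058, 1259), (1059, 882), (1060, 876), (1061, 1228), (1062, 1229), (1063, 878), (1064, 1242), (1065, 1267), (1066, 1258), (1067, 881), (1068, 1248), (1069, 1249), (1070, 1262), (1071, 1272), (1072, 887), (1073, 1073), (1074, 1275), (1075, 890), (1076, 1277), (1077, 901), (1078, 1279), (1079, 893), (1080, 1282), (1081, 895), (1082, 1082), (1083, 1286), (1084, 1289), (1085, 898),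 (1086, 1292), (1087, 900)]
    ⟨e3 q1024 (flp_d L10538) q1211, e3 q1025 L8902 q859, e3 q1026 (flp_d L10223) q1177, e3 q1027 L10566 q1215, e3 q1028 (flp_d L8928) q853, e3 q1029 (flp_d L10587) q1217, e3 q1030 (flp_d L10503) q1207, e3 q1031 L10607 q1220, e3 q1032 (flp_d L8965) q856, e3 q1033 (flp_d L10633) q1223, e3 q1034 L8983 q858, e3 q1035 L8989 q875, e3 q1036 (flp_d L10661) q1227, e3 q1037 L10677 q1230, e3 q1038 (flp_d L9013) q861, e3 q1039 (flp_d L10715) q1233, e3 q1040 L9034 q863, e3 q1041 L9046 q1041, e3 q1042 (flp_d L10751) q1237, e3 q1043 (flp_d L9057) q865, e3 q1044 (flp_d L10792) q1241, e3 q1045 L9078 q915, e3 q1046 L9084 q867, e3 q1047 L9092 q880, e3 q1048 (flp_d L10839) q1247, e3 q1049 (flp_d L10656) q1226, e3 q1050 L9112 q870, e3 q1051 L9122 q884, e3 q1052 L9128 q885, e3 q1053 (flp_d L9132) q871, e3 q1054 (flp_d L10885) q1253, e3 q1055 L9156 q922, e3 q1056 L9162 q873, e3 q1057 (flp_d L10640) q1224, e3 q1058 (flp_d L10933) q1259, e3 q1059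 L9186 q882, e3 q1060 L9193 q876, e3 q1061 (flp_d L10669) q1228, e3 q1062 (flp_d L10674) q1229, e3 q1063 L9216 q878, e3 q1064 (flp_d L10801) q1242, e3 q1065 (flp_d L10994) q1267, e3 q1066 (flp_d L10926) q1258, e3 q1067 L9250 q881, e3 q1068 (flp_d L10849) q1248, e3 q1069 (flp_d L10855) q1249, e3 q1070 (flp_d L10954) q1262, e3 q1071 L11033 q1272, e3 q1072 (flp_d L9287) q887, e3 q1073 L9296 q1073, e3 q1074 L11051 q1275, e3 q1075 (flp_d L9312) q890, e3 q1076 (flp_d L11078) q1277, e3 q1077 L9329 q901, e3 q1078 L11090 q1279, e3 q1079 (flp_d L9345) q893, e3 q1080 (flp_d L11120) q1282, e3 q1081 L9361 q895, e3 q1082 L9369 q1082, e3 q1083 (flp_d L11146) q1286, e3 q1084 L11163 q1289, e3 q1085 (flp_d L9385) q898, e3 q1086 (flp_d L11194) q1292, e3 q1087 L9404 q900, trivial⟩ (by decide +kernel)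

theorem ce_d_17 : ∀ r, r < 64 → sm gd (Qf (1088 + r)) = Qf (tab Gen.d (1088 + r)) :=
  edges_tab (sm gd) Qf (tab Gen.d) 1088 [(1088, 1088), (1089, 1296), (1090, 902), (1091, 1300), (1092, 1222), (1093, 904), (1094, 924), (1095, 1305), (1096, 918), (1097, 907), (1098, 927), (1099, 928), (1100, 917), (1101, 1232), (1102, 910), (1103, 914), (1104, 1295), (1105, 1240), (1106, 1244), (1107, 1304), (1108, 1307), (1109, 1252), (1110, 921), (1111, 1313), (1112, 1256), (1113, 1316), (1114, 925), (1115, 1306), (1116, 1309), (1117, 1310), (1118, 931), (1119, 1119), (1120, 1320), (1121, 934), (1122, 936), (1123, 1323), (1124, 1124), (1125, 938), (1126, 1126), (1127, 1127), (1128, 1128), (1129, 941), (1130, 948), (1131, 943), (1132, 1132), (1133, 946), (1134, 955), (1135, 1135), (1136, 952), (1137, 956), (1138, 1138), (1139, 959), (1140, 1327), (1141, 969), (1142, 961), (1143, 1330), (1144, 963), (1145, 1145), (1146, 1334), (1147, 1336), (1148, 966), (1149, 1337),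 (1150, 968), (1151, 1151)]
    ⟨e3 q1088 L9412 q1088, e3 q1089 (flp_d L11226) q1296, e3 q1090 (flp_d L9423) q902, e3 q1091 (flp_d L11253) q1300, e3 q1092 (flp_d L10627) q1222, e3 q1093 L9445 q904, e3 q1094 L9453 q924, e3 q1095 (flp_d L11289) q1305, e3 q1096 L9466 q918, e3 q1097 L9471 q907, e3 q1098 L9478 q927, e3 q1099 L9482 q928, e3 q1100 L9492 q917, e3 q1101 (flp_d L10709) q1232, e3 q1102 L9517 q910, e3 q1103 L9531 q914, e3 q1104 (flp_d L11221) q1295, e3 q1105 (flp_d L10783) q1240, e3 q1106 (flp_d L10821) q1244, e3 q1107 (flp_d L11282) q1304, e3 q1108 (flp_d L11302) q1307, e3 q1109 (flp_d L10878) q1252, e3 q1110 L9586 q921, e3 q1111 (flp_d L11344) q1313, e3 q1112 (flp_d L10911) q1256, e3 q1113 L11365 q1316, e3 q1114 L9617 q925, e3 q1115 (flp_d L11298) q1306, e3 q1116 (flp_d L11317) q1309, e3 q1117 (flp_d L11321) q1310, e3 q1118 (flp_d L9643) q931, e3 q1119 L9653 q1119, e3 q1120 L11391 q1320, e3 q1121 (flp_d L9673) q934, e3 q1122 (flp_d L9685) q936,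 e3 q1123 (flp_d L11442) q1323, e3 q1124 L9707 q1124, e3 q1125 L9712 q938, e3 q1126 L9722 q1126, e3 q1127 L9729 q1127, e3 q1128 L9742 q1128, e3 q1129 (flp_d L9745) q941, e3 q1130 L9763 q948, e3 q1131 L9775 q943, e3 q1132 L9785 q1132, e3 q1133 L9790 q946, e3 q1134 L9799 q955, e3 q1135 L9806 q1135, e3 q1136 L9811 q952, e3 q1137 L9819 q956, e3 q1138 L9829 q1138, e3 q1139 (flp_d L9834) q959, e3 q1140 (flp_d L11500) q1327, e3 q1141 L9866 q969, e3 q1142 (flp_d L9872) q961, e3 q1143 (flp_d L11539) q1330, e3 q1144 L9899 q963, e3 q1145 L9909 q1145, e3 q1146 (flp_d L11582) q1334, e3 q1147 L11594 q1336, e3 q1148 (flp_d L9932) q966, e3 q1149 (flp_d L11616) q1337, e3 q1150 L9958 q968, e3 q1151 L9970 q1151, trivial⟩ (by decide +kernel)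

theorem ce_d_18 : ∀ r, r < 64 → sm gd (Qf (1152 + r)) = Qf (tab Gen.d (1152 + r)) :=
  edges_tab (sm gd) Qf (tab Gen.d) 1152 [(1152, 1339), (1153, 970), (1154, 1341), (1155, 972), (1156, 1338), (1157, 980), (1158, 975), (1159, 986), (1160, 982), (1161, 1344), (1162, 984), (1163, 1343), (1164, 1164), (1165, 1347), (1166, 1166), (1167, 1018), (1168, 1351), (1169, 999), (1170, 1021), (1171, 1354), (1172, 993), (1173, 1356), (1174, 1004), (1175, 1175), (1176, 1361), (1177, 1026), (1178, 1363), (1179, 998), (1180, 1365), (1181, 1367), (1182, 1001), (1183, 1370), (1184, 1003), (1185, 1185), (1186, 1374), (1187, 1187), (1188, 1377), (1189, 1007), (1190, 1380), (1191, 1009), (1192, 1010), (1193, 1383), (1194, 1194), (1195, 1012), (1196, 1196), (1197, 1389), (1198, 1373), (1199, 1015), (1200, 1200), (1201, 1201), (1202, 1396), (1203, 1203), (1204, 1399), (1205, 1019), (1206, 1401), (1207, 1030), (1208, 1404), (1209, 1022), (1210, 1407), (1211, 1024), (1212,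 1212), (1213, 1411), (1214, 1414), (1215, 1027)]
    ⟨e3 q1152 (flp_d L11643) q1339, e3 q1153 (flp_d L9985) q970, e3 q1154 (flp_d L11667) q1341, e3 q1155 L10016 q972, e3 q1156 (flp_d L11632) q1338, e3 q1157 L10036 q980, e3 q1158 L10043 q975, e3 q1159 L10052 q986, e3 q1160 L10062 q982, e3 q1161 (flp_d L11702) q1344, e3 q1162 L10085 q984, e3 q1163 (flp_d L11692) q1343, e3 q1164 L10101 q1164, e3 q1165 L11728 q1347, e3 q1166 L10121 q1166, e3 q1167 L10128 q1018, e3 q1168 L11765 q1351, e3 q1169 L10151 q999, e3 q1170 L10162 q1021, e3 q1171 L11795 q1354, e3 q1172 (flp_d L10175) q993, e3 q1173 (flp_d L11813) q1356, e3 q1174 L10193 q1004, e3 q1175 L10201 q1175, e3 q1176 L11854 q1361, e3 q1177 L10223 q1026, e3 q1178 L11872 q1363, e3 q1179 (flp_d L10239) q998, e3 q1180 (flp_d L11897) q1365, e3 q1181 L11909 q1367, e3 q1182 (flp_d L10268) q1001, e3 q1183 (flp_d L11936) q1370, e3 q1184 L10286 q1003, e3 q1185 L10294 q1185, e3 q1186 (flp_d L11967) q1374, e3 q1187 L10309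 q1187, e3 q1188 L11985 q1377, e3 q1189 (flp_d L10330) q1007, e3 q1190 (flp_d L12030) q1380, e3 q1191 L10357 q1009, e3 q1192 (flp_d L10365) q1010, e3 q1193 (flp_d L12070) q1383, e3 q1194 L10388 q1194, e3 q1195 L10393 q1012, e3 q1196 L10403 q1196, e3 q1197 (flp_d L12128) q1389, e3 q1198 (flp_d L11960) q1373, e3 q1199 L10424 q1015, e3 q1200 L10436 q1200, e3 q1201 L10441 q1201, e3 q1202 L12194 q1396, e3 q1203 L10464 q1203, e3 q1204 L12225 q1399, e3 q1205 (flp_d L10482) q1019, e3 q1206 (flp_d L12252) q1401, e3 q1207 L10503 q1030, e3 q1208 L12271 q1404, e3 q1209 (flp_d L10520) q1022, e3 q1210 (flp_d L12301) q1407, e3 q1211 L10538 q1024, e3 q1212 L10546 q1212, e3 q1213 (flp_d L12329) q1411, e3 q1214 L12347 q1414, e3 q1215 (flp_d L10566) q1027, trivial⟩ (by decide +kernel)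

theorem ce_d_19 : ∀ r, r < 64 → sm gd (Qf (1216 + r)) = Qf (tab Gen.d (1216 + r)) :=
  edges_tab (sm gd) Qf (tab Gen.d) 1216 [(1216, 1417), (1217, 1029), (1218, 1218), (1219, 1421), (1220, 1031), (1221, 1425), (1222, 1092), (1223, 1033), (1224, 1057), (1225, 1431), (1226, 1049), (1227, 1036), (1228, 1061), (1229, 1062), (1230, 1037), (1231, 1438), (1232, 1101), (1233, 1039), (1234, 1234), (1235, 1441), (1236, 1420), (1237, 1042), (1238, 1238), (1239, 1239), (1240, 1105), (1241, 1044), (1242, 1064), (1243, 1439), (1244, 1106), (1245, 1245), (1246, 1430), (1247, 1048), (1248, 1068), (1249, 1069), (1250, 1434), (1251, 1451), (1252, 1109), (1253, 1054), (1254, 1426), (1255, 1455), (1256, 1112), (1257, 1461), (1258, 1066), (1259, 1058), (1260, 1432), (1261, 1433), (1262, 1070), (1263, 1468), (1264, 1436), (1265, 1437), (1266, 1454), (1267, 1065), (1268, 1446), (1269, 1387), (1270, 1463), (1271, 1473), (1272, 1071), (1273, 1474), (1274, 1274), (1275, 1074),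 (1276, 1477), (1277, 1076), (1278, 1480), (1279, 1078)]
    ⟨e3 q1216 (flp_d L12380) q1417, e3 q1217 L10587 q1029, e3 q1218 L10595 q1218, e3 q1219 (flp_d L12414) q1421, e3 q1220 (flp_d L10607) q1031, e3 q1221 (flp_d L12444) q1425, e3 q1222 L10627 q1092, e3 q1223 L10633 q1033, e3 q1224 L10640 q1057, e3 q1225 (flp_d L12489) q1431, e3 q1226 L10656 q1049, e3 q1227 L10661 q1036, e3 q1228 L10669 q1061, e3 q1229 L10674 q1062, e3 q1230 (flp_d L10677) q1037, e3 q1231 (flp_d L12541) q1438, e3 q1232 L10709 q1101, e3 q1233 L10715 q1039, e3 q1234 L10727 q1234, e3 q1235 (flp_d L12574) q1441, e3 q1236 (flp_d L12409) q1420, e3 q1237 L10751 q1042, e3 q1238 L10763 q1238, e3 q1239 L10768 q1239, e3 q1240 L10783 q1105, e3 q1241 L10792 q1044, e3 q1242 L10801 q1064, e3 q1243 (flp_d L12554) q1439, e3 q1244 L10821 q1106, e3 q1245 L10830 q1245, e3 q1246 (flp_d L12483) q1430, e3 q1247 L10839 q1048, e3 q1248 L10849 q1068, e3 q1249 L10855 q1069, e3 q1250 (flp_d L12510) q1434, e3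 q1251 L12642 q1451, e3 q1252 L10878 q1109, e3 q1253 L10885 q1054, e3 q1254 (flp_d L12452) q1426, e3 q1255 (flp_d L12678) q1455, e3 q1256 L10911 q1112, e3 q1257 L12721 q1461, e3 q1258 L10926 q1066, e3 q1259 L10933 q1058, e3 q1260 (flp_d L12498) q1432, e3 q1261 (flp_d L12504) q1433, e3 q1262 L10954 q1070, e3 q1263 L12773 q1468, e3 q1264 (flp_d L12525) q1436, e3 q1265 (flp_d L12530) q1437, e3 q1266 (flp_d L12670) q1454, e3 q1267 L10994 q1065, e3 q1268 (flp_d L12615) q1446, e3 q1269 L12116 q1387, e3 q1270 (flp_d L12739) q1463, e3 q1271 L12813 q1473, e3 q1272 (flp_d L11033) q1071, e3 q1273 (flp_d L12822) q1474, e3 q1274 L11045 q1274, e3 q1275 (flp_d L11051) q1074, e3 q1276 (flp_d L12848) q1477, e3 q1277 L11078 q1076, e3 q1278 (flp_d L12882) q1480, e3 q1279 (flp_d L11090) q1078, trivial⟩ (by decide +kernel)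

theorem ce_d_20 : ∀ r, r < 64 → sm gd (Qf (1280 + r)) = Qf (tab Gen.d (1280 + r)) :=
  edges_tab (sm gd) Qf (tab Gen.d) 1280 [(1280, 1482), (1281, 1406), (1282, 1080), (1283, 1283), (1284, 1488), (1285, 1285), (1286, 1083), (1287, 1287), (1288, 1288), (1289, 1084), (1290, 1496), (1291, 1416), (1292, 1086), (1293, 1293), (1294, 1500), (1295, 1104), (1296, 1089), (1297, 1297), (1298, 1298), (1299, 1424), (1300, 1091), (1301, 1499), (1302, 1428), (1303, 1506), (1304, 1107), (1305, 1095), (1306, 1115), (1307, 1108), (1308, 1308), (1309, 1116), (1310, 1117), (1311, 1509), (1312, 1452), (1313, 1111), (1314, 1459), (1315, 1512), (1316, 1113), (1317, 1508), (1318, 1492), (1319, 1513), (1320, 1120), (1321, 1321), (1322, 1322), (1323, 1123), (1324, 1324), (1325, 1325), (1326, 1326), (1327, 1140), (1328, 1516), (1329, 1329), (1330, 1143), (1331, 1331), (1332, 1519), (1333, 1333), (1334, 1146), (1335, 1335), (1336, 1147), (1337, 1149), (1338, 1156), (1339, 1152),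 (1340, 1340), (1341, 1154), (1342, 1342), (1343, 1163)]
    ⟨e3 q1280 (flp_d L12905) q1482, e3 q1281 (flp_d L12295) q1406, e3 q1282 L11120 q1080, e3 q1283 L11128 q1283, e3 q1284 (flp_d L12955) q1488, e3 q1285 L11140 q1285, e3 q1286 L11146 q1083, e3 q1287 L11155 q1287, e3 q1288 L11160 q1288, e3 q1289 (flp_d L11163) q1084, e3 q1290 (flp_d L13041) q1496, e3 q1291 (flp_d L12374) q1416, e3 q1292 L11194 q1086, e3 q1293 L11204 q1293, e3 q1294 (flp_d L13082) q1500, e3 q1295 L11221 q1104, e3 q1296 L11226 q1089, e3 q1297 L11235 q1297, e3 q1298 L11238 q1298, e3 q1299 (flp_d L12437) q1424, e3 q1300 L11253 q1091, e3 q1301 (flp_d L13071) q1499, e3 q1302 (flp_d L12472) q1428, e3 q1303 L13118 q1506, e3 q1304 L11282 q1107, e3 q1305 L11289 q1095, e3 q1306 L11298 q1115, e3 q1307 L11302 q1108, e3 q1308 L11311 q1308, e3 q1309 L11317 q1116, e3 q1310 L11321 q1117, e3 q1311 L13140 q1509, e3 q1312 (flp_d L12653) q1452, e3 q1313 L11344 q1111, e3 q1314 (flp_d L12710) q1459, e3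 q1315 L13162 q1512, e3 q1316 (flp_d L11365) q1113, e3 q1317 (flp_d L13138) q1508, e3 q1318 L13000 q1492, e3 q1319 (flp_d L13171) q1513, e3 q1320 (flp_d L11391) q1120, e3 q1321 L11419 q1321, e3 q1322 L11428 q1322, e3 q1323 L11442 q1123, e3 q1324 L11461 q1324, e3 q1325 L11476 q1325, e3 q1326 L11486 q1326, e3 q1327 L11500 q1140, e3 q1328 (flp_d L13203) q1516, e3 q1329 L11530 q1329, e3 q1330 L11539 q1143, e3 q1331 L11553 q1331, e3 q1332 (flp_d L13253) q1519, e3 q1333 L11574 q1333, e3 q1334 L11582 q1146, e3 q1335 L11593 q1335, e3 q1336 (flp_d L11594) q1147, e3 q1337 L11616 q1149, e3 q1338 L11632 q1156, e3 q1339 L11643 q1152, e3 q1340 L11658 q1340, e3 q1341 L11667 q1154, e3 q1342 L11684 q1342, e3 q1343 L11692 q1163, trivial⟩ (by decide +kernel)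

theorem ce_d_21 : ∀ r, r < 64 → sm gd (Qf (1344 + r)) = Qf (tab Gen.d (1344 + r)) :=
  edges_tab (sm gd) Qf (tab Gen.d) 1344 [(1344, 1161), (1345, 1345), (1346, 1522), (1347, 1165), (1348, 1524), (1349, 1349), (1350, 1527), (1351, 1168), (1352, 1529), (1353, 1531), (1354, 1171), (1355, 1534), (1356, 1173), (1357, 1525), (1358, 1538), (1359, 1359), (1360, 1542), (1361, 1176), (1362, 1544), (1363, 1178), (1364, 1547), (1365, 1180), (1366, 1543), (1367, 1181), (1368, 1553), (1369, 1369), (1370, 1183), (1371, 1371), (1372, 1559), (1373, 1198), (1374, 1186), (1375, 1375), (1376, 1376), (1377, 1188), (1378, 1566), (1379, 1379), (1380, 1190), (1381, 1549), (1382, 1382), (1383, 1193), (1384, 1384), (1385, 1571), (1386, 1386), (1387, 1269), (1388, 1558), (1389, 1197), (1390, 1390), (1391, 1391), (1392, 1562), (1393, 1579), (1394, 1394), (1395, 1395), (1396, 1202), (1397, 1580), (1398, 1398), (1399, 1204), (1400, 1584), (1401, 1206), (1402, 1581), (1403, 1588),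 (1404, 1208), (1405, 1592), (1406, 1281), (1407, 1210)]
    ⟨e3 q1344 L11702 q1161, e3 q1345 L11712 q1345, e3 q1346 L13289 q1522, e3 q1347 (flp_d L11728) q1165, e3 q1348 (flp_d L13309) q1524, e3 q1349 L11748 q1349, e3 q1350 L13330 q1527, e3 q1351 (flp_d L11765) q1168, e3 q1352 (flp_d L13359) q1529, e3 q1353 L13374 q1531, e3 q1354 (flp_d L11795) q1171, e3 q1355 (flp_d L13405) q1534, e3 q1356 L11813 q1173, e3 q1357 (flp_d L13318) q1525, e3 q1358 (flp_d L13436) q1538, e3 q1359 L11835 q1359, e3 q1360 L13468 q1542, e3 q1361 (flp_d L11854) q1176, e3 q1362 L13487 q1544, e3 q1363 (flp_d L11872) q1178, e3 q1364 (flp_d L13523) q1547, e3 q1365 L11897 q1180, e3 q1366 (flp_d L13485) q1543, e3 q1367 (flp_d L11909) q1181, e3 q1368 (flp_d L13577) q1553, e3 q1369 L11931 q1369, e3 q1370 L11936 q1183, e3 q1371 L11945 q1371, e3 q1372 (flp_d L13624) q1559, e3 q1373 L11960 q1198, e3 q1374 L11967 q1186, e3 q1375 L11977 q1375, e3 q1376 L11981 q1376, e3 q1377 (flp_d L11985)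 q1188, e3 q1378 (flp_d L13680) q1566, e3 q1379 L12025 q1379, e3 q1380 L12030 q1190, e3 q1381 (flp_d L13543) q1549, e3 q1382 L12060 q1382, e3 q1383 L12070 q1193, e3 q1384 L12083 q1384, e3 q1385 (flp_d L13743) q1571, e3 q1386 L12102 q1386, e3 q1387 (flp_d L12116) q1269, e3 q1388 (flp_d L13616) q1558, e3 q1389 L12128 q1197, e3 q1390 L12140 q1390, e3 q1391 L12149 q1391, e3 q1392 (flp_d L13647) q1562, e3 q1393 L13827 q1579, e3 q1394 L12180 q1394, e3 q1395 L12187 q1395, e3 q1396 (flp_d L12194) q1202, e3 q1397 (flp_d L13839) q1580, e3 q1398 L12219 q1398, e3 q1399 (flp_d L12225) q1204, e3 q1400 (flp_d L13881) q1584, e3 q1401 L12252 q1206, e3 q1402 (flp_d L13850) q1581, e3 q1403 (flp_d L13921) q1588, e3 q1404 (flp_d L12271) q1208, e3 q1405 (flp_d L13955) q1592, e3 q1406 L12295 q1281, e3 q1407 L12301 q1210, trivial⟩ (by decide +kernel)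

theorem ce_d_22 : ∀ r, r < 64 → sm gd (Qf (1408 + r)) = Qf (tab Gen.d (1408 + r)) :=
  edges_tab (sm gd) Qf (tab Gen.d) 1408 [(1408, 1408), (1409, 1598), (1410, 1410), (1411, 1213), (1412, 1412), (1413, 1413), (1414, 1214), (1415, 1606), (1416, 1291), (1417, 1216), (1418, 1418), (1419, 1611), (1420, 1236), (1421, 1219), (1422, 1422), (1423, 1423), (1424, 1299), (1425, 1221), (1426, 1254), (1427, 1622), (1428, 1302), (1429, 1628), (1430, 1246), (1431, 1225), (1432, 1260), (1433, 1261), (1434, 1250), (1435, 1636), (1436, 1264), (1437, 1265), (1438, 1231), (1439, 1243), (1440, 1610), (1441, 1235), (1442, 1442), (1443, 1614), (1444, 1634), (1445, 1621), (1446, 1268), (1447, 1644), (1448, 1448), (1449, 1630), (1450, 1646), (1451, 1251), (1452, 1312), (1453, 1585), (1454, 1266), (1455, 1255), (1456, 1623), (1457, 1624), (1458, 1458), (1459, 1314), (1460, 1659), (1461, 1257), (1462, 1662), (1463, 1270), (1464, 1664), (1465, 1632), (1466, 1633), (1467, 1550),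 (1468, 1263), (1469, 1669), (1470, 1638), (1471, 1652)]
    ⟨e3 q1408 L12308 q1408, e3 q1409 (flp_d L14002) q1598, e3 q1410 L12323 q1410, e3 q1411 L12329 q1213, e3 q1412 L12339 q1412, e3 q1413 L12345 q1413, e3 q1414 (flp_d L12347) q1214, e3 q1415 (flp_d L14064) q1606, e3 q1416 L12374 q1291, e3 q1417 L12380 q1216, e3 q1418 L12389 q1418, e3 q1419 (flp_d L14104) q1611, e3 q1420 L12409 q1236, e3 q1421 L12414 q1219, e3 q1422 L12424 q1422, e3 q1423 L12428 q1423, e3 q1424 L12437 q1299, e3 q1425 L12444 q1221, e3 q1426 L12452 q1254, e3 q1427 (flp_d L14186) q1622, e3 q1428 L12472 q1302, e3 q1429 L14225 q1628, e3 q1430 L12483 q1246, e3 q1431 L12489 q1225, e3 q1432 L12498 q1260, e3 q1433 L12504 q1261, e3 q1434 L12510 q1250, e3 q1435 L14281 q1636, e3 q1436 L12525 q1264, e3 q1437 L12530 q1265, e3 q1438 L12541 q1231, e3 q1439 L12554 q1243, e3 q1440 (flp_d L14096) q1610, e3 q1441 L12574 q1235, e3 q1442 L12586 q1442, e3 q1443 (flp_d L14127) q1614, e3 q1444 (flp_d L14271)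 q1634, e3 q1445 (flp_d L14179) q1621, e3 q1446 L12615 q1268, e3 q1447 L14350 q1644, e3 q1448 L12629 q1448, e3 q1449 (flp_d L14241) q1630, e3 q1450 L14362 q1646, e3 q1451 (flp_d L12642) q1251, e3 q1452 L12653 q1312, e3 q1453 (flp_d L13892) q1585, e3 q1454 L12670 q1266, e3 q1455 L12678 q1255, e3 q1456 (flp_d L14198) q1623, e3 q1457 (flp_d L14205) q1624, e3 q1458 L12703 q1458, e3 q1459 L12710 q1314, e3 q1460 L14469 q1659, e3 q1461 (flp_d L12721) q1257, e3 q1462 (flp_d L14494) q1662, e3 q1463 L12739 q1270, e3 q1464 L14505 q1664, e3 q1465 (flp_d L14258) q1632, e3 q1466 (flp_d L14264) q1633, e3 q1467 (flp_d L13554) q1550, e3 q1468 (flp_d L12773) q1263, e3 q1469 (flp_d L14547) q1669, e3 q1470 (flp_d L14296) q1638, e3 q1471 (flp_d L14415) q1652, trivial⟩ (by decide +kernel)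

theorem ce_d_23 : ∀ r, r < 64 → sm gd (Qf (1472 + r)) = Qf (tab Gen.d (1472 + r)) :=
  edges_tab (sm gd) Qf (tab Gen.d) 1472 [(1472, 1670), (1473, 1271), (1474, 1273), (1475, 1672), (1476, 1583), (1477, 1276), (1478, 1676), (1479, 1479), (1480, 1278), (1481, 1591), (1482, 1280), (1483, 1483), (1484, 1681), (1485, 1595), (1486, 1686), (1487, 1487), (1488, 1284), (1489, 1489), (1490, 1490), (1491, 1491), (1492, 1318), (1493, 1493), (1494, 1494), (1495, 1605), (1496, 1290), (1497, 1608), (1498, 1618), (1499, 1301), (1500, 1294), (1501, 1501), (1502, 1619), (1503, 1692), (1504, 1626), (1505, 1695), (1506, 1303), (1507, 1507), (1508, 1317), (1509, 1311), (1510, 1649), (1511, 1698), (1512, 1315), (1513, 1319), (1514, 1700), (1515, 1515), (1516, 1328), (1517, 1517), (1518, 1518), (1519, 1332), (1520, 1520), (1521, 1701), (1522, 1346), (1523, 1704), (1524, 1348), (1525, 1357), (1526, 1708), (1527, 1350), (1528, 1712), (1529, 1352), (1530, 1530), (1531, 1353),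 (1532, 1718), (1533, 1533), (1534, 1355), (1535, 1705)]
    ⟨e3 q1472 L14550 q1670, e3 q1473 (flp_d L12813) q1271, e3 q1474 L12822 q1273, e3 q1475 (flp_d L14562) q1672, e3 q1476 (flp_d L13873) q1583, e3 q1477 L12848 q1276, e3 q1478 (flp_d L14606) q1676, e3 q1479 L12874 q1479, e3 q1480 L12882 q1278, e3 q1481 (flp_d L13948) q1591, e3 q1482 L12905 q1280, e3 q1483 L12917 q1483, e3 q1484 (flp_d L14667) q1681, e3 q1485 (flp_d L13984) q1595, e3 q1486 L14713 q1686, e3 q1487 L12949 q1487, e3 q1488 L12955 q1284, e3 q1489 L12964 q1489, e3 q1490 L12971 q1490, e3 q1491 L12980 q1491, e3 q1492 (flp_d L13000) q1318, e3 q1493 L13011 q1493, e3 q1494 L13018 q1494, e3 q1495 (flp_d L14057) q1605, e3 q1496 L13041 q1290, e3 q1497 (flp_d L14081) q1608, e3 q1498 (flp_d L14155) q1618, e3 q1499 L13071 q1301, e3 q1500 L13082 q1294, e3 q1501 L13095 q1501, e3 q1502 (flp_d L14165) q1619, e3 q1503 L14776 q1692, e3 q1504 (flp_d L14216) q1626, e3 q1505 L14795 q1695, e3 q1506 (flp_d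 L13118) q1303, e3 q1507 L13130 q1507, e3 q1508 L13138 q1317, e3 q1509 (flp_d L13140) q1311, e3 q1510 (flp_d L14389) q1649, e3 q1511 L14812 q1698, e3 q1512 (flp_d L13162) q1315, e3 q1513 L13171 q1319, e3 q1514 (flp_d L14825) q1700, e3 q1515 L13191 q1515, e3 q1516 L13203 q1328, e3 q1517 L13220 q1517, e3 q1518 L13239 q1518, e3 q1519 L13253 q1332, e3 q1520 L13276 q1520, e3 q1521 L14827 q1701, e3 q1522 (flp_d L13289) q1346, e3 q1523 (flp_d L14856) q1704, e3 q1524 L13309 q1348, e3 q1525 L13318 q1357, e3 q1526 (flp_d L14888) q1708, e3 q1527 (flp_d L13330) q1350, e3 q1528 (flp_d L14927) q1712, e3 q1529 L13359 q1352, e3 q1530 L13373 q1530, e3 q1531 (flp_d L13374) q1353, e3 q1532 (flp_d L14991) q1718, e3 q1533 L13400 q1533, e3 q1534 L13405 q1355, e3 q1535 (flp_d L14865) q1705, trivial⟩ (by decide +kernel)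

theorem ce_d_24 : ∀ r, r < 64 → sm gd (Qf (1536 + r)) = Qf (tab Gen.d (1536 + r)) :=
  edges_tab (sm gd) Qf (tab Gen.d) 1536 [(1536, 1724), (1537, 1537), (1538, 1358), (1539, 1709), (1540, 1710), (1541, 1731), (1542, 1360), (1543, 1366), (1544, 1362), (1545, 1736), (1546, 1546), (1547, 1364), (1548, 1733), (1549, 1381), (1550, 1467), (1551, 1734), (1552, 1552), (1553, 1368), (1554, 1554), (1555, 1749), (1556, 1556), (1557, 1755), (1558, 1388), (1559, 1372), (1560, 1560), (1561, 1561), (1562, 1392), (1563, 1763), (1564, 1564), (1565, 1565), (1566, 1378), (1567, 1567), (1568, 1740), (1569, 1569), (1570, 1748), (1571, 1385), (1572, 1572), (1573, 1771), (1574, 1757), (1575, 1773), (1576, 1576), (1577, 1761), (1578, 1774), (1579, 1393), (1580, 1397), (1581, 1402), (1582, 1777), (1583, 1476), (1584, 1400), (1585, 1453), (1586, 1783), (1587, 1587), (1588, 1403), (1589, 1778), (1590, 1779), (1591, 1481), (1592, 1405), (1593, 1593), (1594, 1794), (1595, 1485),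 (1596, 1800), (1597, 1597), (1598, 1409), (1599, 1599)]
    ⟨e3 q1536 (flp_d L15040) q1724, e3 q1537 L13428 q1537, e3 q1538 L13436 q1358, e3 q1539 (flp_d L14898) q1709, e3 q1540 (flp_d L14904) q1710, e3 q1541 L15092 q1731, e3 q1542 (flp_d L13468) q1360, e3 q1543 L13485 q1366, e3 q1544 (flp_d L13487) q1362, e3 q1545 (flp_d L15147) q1736, e3 q1546 L13518 q1546, e3 q1547 L13523 q1364, e3 q1548 (flp_d L15119) q1733, e3 q1549 L13543 q1381, e3 q1550 L13554 q1467, e3 q1551 (flp_d L15125) q1734, e3 q1552 L13571 q1552, e3 q1553 L13577 q1368, e3 q1554 L13587 q1554, e3 q1555 (flp_d L15267) q1749, e3 q1556 L13604 q1556, e3 q1557 L15309 q1755, e3 q1558 L13616 q1388, e3 q1559 L13624 q1372, e3 q1560 L13635 q1560, e3 q1561 L13640 q1561, e3 q1562 L13647 q1392, e3 q1563 L15371 q1763, e3 q1564 L13666 q1564, e3 q1565 L13670 q1565, e3 q1566 L13680 q1378, e3 q1567 L13695 q1567, e3 q1568 (flp_d L15185) q1740, e3 q1569 L13722 q1569, e3 q1570 (flp_d L15258) q1748, e3 q1571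 L13743 q1385, e3 q1572 L13762 q1572, e3 q1573 L15471 q1771, e3 q1574 (flp_d L15325) q1757, e3 q1575 L15493 q1773, e3 q1576 L13796 q1576, e3 q1577 (flp_d L15357) q1761, e3 q1578 L15500 q1774, e3 q1579 (flp_d L13827) q1393, e3 q1580 L13839 q1397, e3 q1581 L13850 q1402, e3 q1582 (flp_d L15532) q1777, e3 q1583 L13873 q1476, e3 q1584 L13881 q1400, e3 q1585 L13892 q1453, e3 q1586 (flp_d L15595) q1783, e3 q1587 L13915 q1587, e3 q1588 L13921 q1403, e3 q1589 (flp_d L15544) q1778, e3 q1590 (flp_d L15552) q1779, e3 q1591 L13948 q1481, e3 q1592 L13955 q1405, e3 q1593 L13965 q1593, e3 q1594 (flp_d L15695) q1794, e3 q1595 L13984 q1485, e3 q1596 L15740 q1800, e3 q1597 L13997 q1597, e3 q1598 L14002 q1409, e3 q1599 L14011 q1599, trivial⟩ (by decide +kernel)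

theorem ce_d_25 : ∀ r, r < 64 → sm gd (Qf (1600 + r)) = Qf (tab Gen.d (1600 + r)) :=
  edges_tab (sm gd) Qf (tab Gen.d) 1600 [(1600, 1600), (1601, 1601), (1602, 1808), (1603, 1603), (1604, 1604), (1605, 1495), (1606, 1415), (1607, 1607), (1608, 1497), (1609, 1820), (1610, 1440), (1611, 1419), (1612, 1612), (1613, 1613), (1614, 1443), (1615, 1827), (1616, 1616), (1617, 1617), (1618, 1498), (1619, 1502), (1620, 1781), (1621, 1445), (1622, 1427), (1623, 1456), (1624, 1457), (1625, 1839), (1626, 1504), (1627, 1843), (1628, 1429), (1629, 1846), (1630, 1449), (1631, 1849), (1632, 1465), (1633, 1466), (1634, 1444), (1635, 1743), (1636, 1435), (1637, 1854), (1638, 1470), (1639, 1814), (1640, 1835), (1641, 1822), (1642, 1847), (1643, 1855), (1644, 1447), (1645, 1857), (1646, 1450), (1647, 1647), (1648, 1648), (1649, 1510), (1650, 1784), (1651, 1785), (1652, 1471), (1653, 1865), (1654, 1837), (1655, 1838), (1656, 1656), (1657, 1869), (1658, 1871), (1659, 1460),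 (1660, 1874), (1661, 1661), (1662, 1462), (1663, 1741)]
    ⟨e3 q1600 L14016 q1600, e3 q1601 L14023 q1601, e3 q1602 L15799 q1808, e3 q1603 L14041 q1603, e3 q1604 L14047 q1604, e3 q1605 L14057 q1495, e3 q1606 L14064 q1415, e3 q1607 L14076 q1607, e3 q1608 L14081 q1497, e3 q1609 L15902 q1820, e3 q1610 L14096 q1440, e3 q1611 L14104 q1419, e3 q1612 L14115 q1612, e3 q1613 L14120 q1613, e3 q1614 L14127 q1443, e3 q1615 L15961 q1827, e3 q1616 L14144 q1616, e3 q1617 L14148 q1617, e3 q1618 L14155 q1498, e3 q1619 L14165 q1502, e3 q1620 (flp_d L15578) q1781, e3 q1621 L14179 q1445, e3 q1622 L14186 q1427, e3 q1623 L14198 q1456, e3 q1624 L14205 q1457, e3 q1625 L16061 q1839, e3 q1626 L14216 q1504, e3 q1627 L16086 q1843, e3 q1628 (flp_d L14225) q1429, e3 q1629 (flp_d L16111) q1846, e3 q1630 L14241 q1449, e3 q1631 L16129 q1849, e3 q1632 L14258 q1465, e3 q1633 L14264 q1466, e3 q1634 L14271 q1444, e3 q1635 (flp_d L15217) q1743, e3 q1636 (flp_d L14281) q1435, e3 q1637 (flp_d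 L16169) q1854, e3 q1638 L14296 q1470, e3 q1639 (flp_d L15858) q1814, e3 q1640 (flp_d L16029) q1835, e3 q1641 (flp_d L15923) q1822, e3 q1642 (flp_d L16118) q1847, e3 q1643 L16173 q1855, e3 q1644 (flp_d L14350) q1447, e3 q1645 L16185 q1857, e3 q1646 (flp_d L14362) q1450, e3 q1647 L14373 q1647, e3 q1648 L14381 q1648, e3 q1649 L14389 q1510, e3 q1650 (flp_d L15608) q1784, e3 q1651 (flp_d L15616) q1785, e3 q1652 L14415 q1471, e3 q1653 L16244 q1865, e3 q1654 (flp_d L16050) q1837, e3 q1655 (flp_d L16057) q1838, e3 q1656 L14449 q1656, e3 q1657 L16279 q1869, e3 q1658 L16293 q1871, e3 q1659 (flp_d L14469) q1460, e3 q1660 (flp_d L16318) q1874, e3 q1661 L14490 q1661, e3 q1662 L14494 q1462, e3 q1663 (flp_d L15197) q1741, trivial⟩ (by decide +kernel)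

theorem ce_d_26 : ∀ r, r < 64 → sm gd (Qf (1664 + r)) = Qf (tab Gen.d (1664 + r)) :=
  edges_tab (sm gd) Qf (tab Gen.d) 1664 [(1664, 1464), (1665, 1879), (1666, 1851), (1667, 1744), (1668, 1668), (1669, 1469), (1670, 1472), (1671, 1671), (1672, 1475), (1673, 1884), (1674, 1780), (1675, 1675), (1676, 1478), (1677, 1790), (1678, 1791), (1679, 1811), (1680, 1680), (1681, 1484), (1682, 1682), (1683, 1891), (1684, 1798), (1685, 1892), (1686, 1486), (1687, 1687), (1688, 1812), (1689, 1832), (1690, 1818), (1691, 1830), (1692, 1503), (1693, 1895), (1694, 1896), (1695, 1505), (1696, 1696), (1697, 1697), (1698, 1511), (1699, 1699), (1700, 1514), (1701, 1521), (1702, 1903), (1703, 1703), (1704, 1523), (1705, 1535), (1706, 1909), (1707, 1707), (1708, 1526), (1709, 1539), (1710, 1540), (1711, 1711), (1712, 1528), (1713, 1713), (1714, 1714), (1715, 1715), (1716, 1716), (1717, 1717), (1718, 1532), (1719, 1904), (1720, 1927), (1721, 1721), (1722, 1933), (1723, 1723),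 (1724, 1536), (1725, 1910), (1726, 1911), (1727, 1727)]
    ⟨e3 q1664 (flp_d L14505) q1464, e3 q1665 (flp_d L16353) q1879, e3 q1666 (flp_d L16147) q1851, e3 q1667 (flp_d L15222) q1744, e3 q1668 L14543 q1668, e3 q1669 L14547 q1469, e3 q1670 (flp_d L14550) q1472, e3 q1671 L14559 q1671, e3 q1672 L14562 q1475, e3 q1673 (flp_d L16383) q1884, e3 q1674 (flp_d L15565) q1780, e3 q1675 L14596 q1675, e3 q1676 L14606 q1478, e3 q1677 (flp_d L15657) q1790, e3 q1678 (flp_d L15671) q1791, e3 q1679 (flp_d L15822) q1811, e3 q1680 L14655 q1680, e3 q1681 L14667 q1484, e3 q1682 L14688 q1682, e3 q1683 L16481 q1891, e3 q1684 (flp_d L15729) q1798, e3 q1685 L16487 q1892, e3 q1686 (flp_d L14713) q1486, e3 q1687 L14725 q1687, e3 q1688 (flp_d L15836) q1812, e3 q1689 (flp_d L16004) q1832, e3 q1690 (flp_d L15891) q1818, e3 q1691 (flp_d L15990) q1830, e3 q1692 (flp_d L14776) q1503, e3 q1693 L16506 q1895, e3 q1694 L16510 q1896, e3 q1695 (flp_d L14795) q1505, e3 q1696 L14806 q1696,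 e3 q1697 L14811 q1697, e3 q1698 (flp_d L14812) q1511, e3 q1699 L14821 q1699, e3 q1700 L14825 q1514, e3 q1701 (flp_d L14827) q1521, e3 q1702 (flp_d L16556) q1903, e3 q1703 L14851 q1703, e3 q1704 L14856 q1523, e3 q1705 L14865 q1535, e3 q1706 (flp_d L16604) q1909, e3 q1707 L14882 q1707, e3 q1708 L14888 q1526, e3 q1709 L14898 q1539, e3 q1710 L14904 q1540, e3 q1711 L14920 q1711, e3 q1712 L14927 q1528, e3 q1713 L14942 q1713, e3 q1714 L14952 q1714, e3 q1715 L14964 q1715, e3 q1716 L14970 q1716, e3 q1717 L14985 q1717, e3 q1718 L14991 q1532, e3 q1719 (flp_d L16566) q1904, e3 q1720 (flp_d L16785) q1927, e3 q1721 L15019 q1721, e3 q1722 L16833 q1933, e3 q1723 L15033 q1723, e3 q1724 L15040 q1536, e3 q1725 (flp_d L16614) q1910, e3 q1726 (flp_d L16620) q1911, e3 q1727 L15063 q1727, trivial⟩ (by decide +kernel)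

theorem ce_d_27 : ∀ r, r < 64 → sm gd (Qf (1728 + r)) = Qf (tab Gen.d (1728 + r)) :=
  edges_tab (sm gd) Qf (tab Gen.d) 1728 [(1728, 1941), (1729, 1914), (1730, 1915), (1731, 1541), (1732, 1732), (1733, 1548), (1734, 1551), (1735, 1735), (1736, 1545), (1737, 1945), (1738, 1738), (1739, 1956), (1740, 1568), (1741, 1663), (1742, 1947), (1743, 1635), (1744, 1667), (1745, 1745), (1746, 1746), (1747, 1966), (1748, 1570), (1749, 1555), (1750, 1750), (1751, 1751), (1752, 1972), (1753, 1753), (1754, 1976), (1755, 1557), (1756, 1979), (1757, 1574), (1758, 1982), (1759, 1759), (1760, 1760), (1761, 1577), (1762, 1986), (1763, 1563), (1764, 1989), (1765, 1765), (1766, 1951), (1767, 1990), (1768, 1991), (1769, 1968), (1770, 1992), (1771, 1573), (1772, 1980), (1773, 1575), (1774, 1578), (1775, 1775), (1776, 1776), (1777, 1582), (1778, 1589), (1779, 1590), (1780, 1674), (1781, 1620), (1782, 1782), (1783, 1586), (1784, 1650), (1785, 1651), (1786, 1786), (1787, 2010),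 (1788, 1999), (1789, 2000), (1790, 1677), (1791, 1678)]
    ⟨e3 q1728 L16898 q1941, e3 q1729 (flp_d L16647) q1914, e3 q1730 (flp_d L16653) q1915, e3 q1731 (flp_d L15092) q1541, e3 q1732 L15110 q1732, e3 q1733 L15119 q1548, e3 q1734 L15125 q1551, e3 q1735 L15141 q1735, e3 q1736 L15147 q1545, e3 q1737 (flp_d L16942) q1945, e3 q1738 L15165 q1738, e3 q1739 L17047 q1956, e3 q1740 L15185 q1568, e3 q1741 L15197 q1663, e3 q1742 (flp_d L16957) q1947, e3 q1743 L15217 q1635, e3 q1744 L15222 q1667, e3 q1745 L15232 q1745, e3 q1746 L15243 q1746, e3 q1747 L17137 q1966, e3 q1748 L15258 q1570, e3 q1749 L15267 q1555, e3 q1750 L15279 q1750, e3 q1751 L15285 q1751, e3 q1752 L17192 q1972, e3 q1753 L15299 q1753, e3 q1754 L17222 q1976, e3 q1755 (flp_d L15309) q1557, e3 q1756 (flp_d L17244) q1979, e3 q1757 L15325 q1574, e3 q1758 L17268 q1982, e3 q1759 L15346 q1759, e3 q1760 L15351 q1760, e3 q1761 L15357 q1577, e3 q1762 L17305 q1986, e3 q1763 (flp_d L15371) q1563, e3 q1764 (flp_d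 L17335) q1989, e3 q1765 L15389 q1765, e3 q1766 (flp_d L17004) q1951, e3 q1767 L17340 q1990, e3 q1768 L17352 q1991, e3 q1769 (flp_d L17158) q1968, e3 q1770 L17365 q1992, e3 q1771 (flp_d L15471) q1573, e3 q1772 (flp_d L17253) q1980, e3 q1773 (flp_d L15493) q1575, e3 q1774 (flp_d L15500) q1578, e3 q1775 L15516 q1775, e3 q1776 L15524 q1776, e3 q1777 L15532 q1582, e3 q1778 L15544 q1589, e3 q1779 L15552 q1590, e3 q1780 L15565 q1674, e3 q1781 L15578 q1620, e3 q1782 L15588 q1782, e3 q1783 L15595 q1586, e3 q1784 L15608 q1650, e3 q1785 L15616 q1651, e3 q1786 L15626 q1786, e3 q1787 L17545 q2010, e3 q1788 (flp_d L17433) q1999, e3 q1789 (flp_d L17441) q2000, e3 q1790 L15657 q1677, e3 q1791 L15671 q1678, trivial⟩ (by decide +kernel)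

theorem ce_d_28 : ∀ r, r < 64 → sm gd (Qf (1792 + r)) = Qf (tab Gen.d (1792 + r)) :=
  edges_tab (sm gd) Qf (tab Gen.d) 1792 [(1792, 2018), (1793, 1793), (1794, 1594), (1795, 1795), (1796, 1796), (1797, 2024), (1798, 1684), (1799, 2028), (1800, 1596), (1801, 2031), (1802, 1802), (1803, 2034), (1804, 1804), (1805, 1805), (1806, 1806), (1807, 2038), (1808, 1602), (1809, 2041), (1810, 1810), (1811, 1679), (1812, 1688), (1813, 2014), (1814, 1639), (1815, 1815), (1816, 1816), (1817, 2048), (1818, 1690), (1819, 2052), (1820, 1609), (1821, 2054), (1822, 1641), (1823, 2056), (1824, 1824), (1825, 1825), (1826, 1985), (1827, 1615), (1828, 2060), (1829, 1829), (1830, 1691), (1831, 2049), (1832, 1689), (1833, 2003), (1834, 2004), (1835, 1640), (1836, 2067), (1837, 1654), (1838, 1655), (1839, 1625), (1840, 2043), (1841, 2073), (1842, 2075), (1843, 1627), (1844, 2078), (1845, 1978), (1846, 1629), (1847, 1642), (1848, 1958), (1849, 1631), (1850, 2083), (1851, 1666),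 (1852, 1960), (1853, 2040), (1854, 1637), (1855, 1643)]
    ⟨e3 q1792 L17620 q2018, e3 q1793 L15689 q1793, e3 q1794 L15695 q1594, e3 q1795 L15707 q1795, e3 q1796 L15713 q1796, e3 q1797 L17675 q2024, e3 q1798 L15729 q1684, e3 q1799 L17707 q2028, e3 q1800 (flp_d L15740) q1596, e3 q1801 (flp_d L17737) q2031, e3 q1802 L15759 q1802, e3 q1803 L17754 q2034, e3 q1804 L15775 q1804, e3 q1805 L15780 q1805, e3 q1806 L15788 q1806, e3 q1807 L17782 q2038, e3 q1808 (flp_d L15799) q1602, e3 q1809 (flp_d L17808) q2041, e3 q1810 L15816 q1810, e3 q1811 L15822 q1679, e3 q1812 L15836 q1688, e3 q1813 (flp_d L17589) q2014, e3 q1814 L15858 q1639, e3 q1815 L15869 q1815, e3 q1816 L15875 q1816, e3 q1817 L17876 q2048, e3 q1818 L15891 q1690, e3 q1819 L17915 q2052, e3 q1820 (flp_d L15902) q1609, e3 q1821 (flp_d L17937) q2054, e3 q1822 L15923 q1641, e3 q1823 L17950 q2056, e3 q1824 L15944 q1824, e3 q1825 L15949 q1825, e3 q1826 (flp_d L17303) q1985, e3 q1827 (flp_d L15961) q1615, e3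 q1828 (flp_d L17991) q2060, e3 q1829 L15979 q1829, e3 q1830 L15990 q1691, e3 q1831 (flp_d L17894) q2049, e3 q1832 L16004 q1689, e3 q1833 (flp_d L17479) q2003, e3 q1834 (flp_d L17489) q2004, e3 q1835 L16029 q1640, e3 q1836 L18047 q2067, e3 q1837 L16050 q1654, e3 q1838 L16057 q1655, e3 q1839 (flp_d L16061) q1625, e3 q1840 (flp_d L17834) q2043, e3 q1841 L18094 q2073, e3 q1842 L18102 q2075, e3 q1843 (flp_d L16086) q1627, e3 q1844 (flp_d L18128) q2078, e3 q1845 (flp_d L17239) q1978, e3 q1846 L16111 q1629, e3 q1847 L16118 q1642, e3 q1848 (flp_d L17070) q1958, e3 q1849 (flp_d L16129) q1631, e3 q1850 (flp_d L18163) q2083, e3 q1851 L16147 q1666, e3 q1852 (flp_d L17087) q1960, e3 q1853 (flp_d L17803) q2040, e3 q1854 L16169 q1637, e3 q1855 (flp_d L16173) q1643, trivial⟩ (by decide +kernel)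

theorem ce_d_29 : ∀ r, r < 64 → sm gd (Qf (1856 + r)) = Qf (tab Gen.d (1856 + r)) :=
  edges_tab (sm gd) Qf (tab Gen.d) 1856 [(1856, 2087), (1857, 1645), (1858, 2089), (1859, 1859), (1860, 1860), (1861, 2093), (1862, 2007), (1863, 2008), (1864, 1952), (1865, 1653), (1866, 2098), (1867, 2069), (1868, 2099), (1869, 1657), (1870, 2103), (1871, 1658), (1872, 2105), (1873, 2102), (1874, 1660), (1875, 1875), (1876, 1876), (1877, 1959), (1878, 2101), (1879, 1665), (1880, 1880), (1881, 1881), (1882, 1882), (1883, 1883), (1884, 1673), (1885, 2062), (1886, 2002), (1887, 2013), (1888, 2115), (1889, 2016), (1890, 2042), (1891, 1683), (1892, 1685), (1893, 1893), (1894, 2119), (1895, 1693), (1896, 1694), (1897, 2121), (1898, 1898), (1899, 1899), (1900, 1900), (1901, 1901), (1902, 1902), (1903, 1702), (1904, 1719), (1905, 2129), (1906, 1906), (1907, 2133), (1908, 1908), (1909, 1706), (1910, 1725), (1911, 1726), (1912, 1912), (1913, 2139), (1914, 1729), (1915, 1730),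 (1916, 1916), (1917, 2144), (1918, 1918), (1919, 1919)]
    ⟨e3 q1856 L18186 q2087, e3 q1857 (flp_d L16185) q1645, e3 q1858 (flp_d L18200) q2089, e3 q1859 L16195 q1859, e3 q1860 L16204 q1860, e3 q1861 L18226 q2093, e3 q1862 (flp_d L17522) q2007, e3 q1863 (flp_d L17530) q2008, e3 q1864 (flp_d L17017) q1952, e3 q1865 (flp_d L16244) q1653, e3 q1866 (flp_d L18274) q2098, e3 q1867 (flp_d L18068) q2069, e3 q1868 L18277 q2099, e3 q1869 (flp_d L16279) q1657, e3 q1870 (flp_d L18308) q2103, e3 q1871 (flp_d L16293) q1658, e3 q1872 (flp_d L18321) q2105, e3 q1873 (flp_d L18303) q2102, e3 q1874 L16318 q1660, e3 q1875 L16325 q1875, e3 q1876 L16331 q1876, e3 q1877 (flp_d L17076) q1959, e3 q1878 (flp_d L18297) q2101, e3 q1879 L16353 q1665, e3 q1880 L16358 q1880, e3 q1881 L16367 q1881, e3 q1882 L16374 q1882, e3 q1883 L16377 q1883, e3 q1884 L16383 q1673, e3 q1885 (flp_d L18008) q2062, e3 q1886 (flp_d L17464) q2002, e3 q1887 (flp_d L17575) q2013, e3 q1888 L18384 q2115,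 e3 q1889 (flp_d L17607) q2016, e3 q1890 (flp_d L17818) q2042, e3 q1891 (flp_d L16481) q1683, e3 q1892 (flp_d L16487) q1685, e3 q1893 L16500 q1893, e3 q1894 L18413 q2119, e3 q1895 (flp_d L16506) q1693, e3 q1896 (flp_d L16510) q1694, e3 q1897 (flp_d L18427) q2121, e3 q1898 L16525 q1898, e3 q1899 L16529 q1899, e3 q1900 L16536 q1900, e3 q1901 L16540 q1901, e3 q1902 L16550 q1902, e3 q1903 L16556 q1702, e3 q1904 L16566 q1719, e3 q1905 (flp_d L18483) q2129, e3 q1906 L16584 q1906, e3 q1907 L18529 q2133, e3 q1908 L16598 q1908, e3 q1909 L16604 q1706, e3 q1910 L16614 q1725, e3 q1911 L16620 q1726, e3 q1912 L16629 q1912, e3 q1913 L18577 q2139, e3 q1914 L16647 q1729, e3 q1915 L16653 q1730, e3 q1916 L16666 q1916, e3 q1917 L18628 q2144, e3 q1918 L16692 q1918, e3 q1919 L16705 q1919, trivial⟩ (by decide +kernel)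

theorem ce_d_30 : ∀ r, r < 64 → sm gd (Qf (1920 + r)) = Qf (tab Gen.d (1920 + r)) :=
  edges_tab (sm gd) Qf (tab Gen.d) 1920 [(1920, 1920), (1921, 2148), (1922, 1922), (1923, 1923), (1924, 1924), (1925, 2155), (1926, 1926), (1927, 1720), (1928, 2130), (1929, 2131), (1930, 2161), (1931, 1931), (1932, 2165), (1933, 1722), (1934, 2168), (1935, 1935), (1936, 2171), (1937, 2136), (1938, 2137), (1939, 1939), (1940, 2175), (1941, 1728), (1942, 2178), (1943, 2141), (1944, 1944), (1945, 1737), (1946, 2182), (1947, 1742), (1948, 1948), (1949, 1949), (1950, 2188), (1951, 1766), (1952, 1864), (1953, 2181), (1954, 2192), (1955, 2194), (1956, 1739), (1957, 2197), (1958, 1848), (1959, 1877), (1960, 1852), (1961, 1961), (1962, 2196), (1963, 2203), (1964, 1964), (1965, 2207), (1966, 1747), (1967, 2209), (1968, 1769), (1969, 2211), (1970, 1970), (1971, 1971), (1972, 1752), (1973, 2214), (1974, 2218), (1975, 2220), (1976, 1754), (1977, 2223), (1978, 1845), (1979, 1756),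 (1980, 1772), (1981, 2228), (1982, 1758), (1983, 2231)]
    ⟨e3 q1920 L16712 q1920, e3 q1921 L18677 q2148, e3 q1922 L16734 q1922, e3 q1923 L16743 q1923, e3 q1924 L16758 q1924, e3 q1925 L18749 q2155, e3 q1926 L16777 q1926, e3 q1927 L16785 q1720, e3 q1928 (flp_d L18510) q2130, e3 q1929 (flp_d L18517) q2131, e3 q1930 L18802 q2161, e3 q1931 L16821 q1931, e3 q1932 L18839 q2165, e3 q1933 (flp_d L16833) q1722, e3 q1934 (flp_d L18866) q2168, e3 q1935 L16852 q1935, e3 q1936 L18887 q2171, e3 q1937 (flp_d L18558) q2136, e3 q1938 (flp_d L18564) q2137, e3 q1939 L16883 q1939, e3 q1940 L18921 q2175, e3 q1941 (flp_d L16898) q1728, e3 q1942 (flp_d L18949) q2178, e3 q1943 (flp_d L18596) q2141, e3 q1944 L16932 q1944, e3 q1945 L16942 q1737, e3 q1946 L18985 q2182, e3 q1947 L16957 q1742, e3 q1948 L16966 q1948, e3 q1949 L16981 q1949, e3 q1950 L19050 q2188, e3 q1951 L17004 q1766, e3 q1952 L17017 q1864, e3 q1953 (flp_d L18978) q2181, e3 q1954 L19093 q2192, e3 q1955 L19116 q2194,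 e3 q1956 (flp_d L17047) q1739, e3 q1957 (flp_d L19145) q2197, e3 q1958 L17070 q1848, e3 q1959 L17076 q1877, e3 q1960 L17087 q1852, e3 q1961 L17102 q1961, e3 q1962 (flp_d L19141) q2196, e3 q1963 L19193 q2203, e3 q1964 L17125 q1964, e3 q1965 L19239 q2207, e3 q1966 (flp_d L17137) q1747, e3 q1967 (flp_d L19260) q2209, e3 q1968 L17158 q1769, e3 q1969 L19276 q2211, e3 q1970 L17183 q1970, e3 q1971 L17189 q1971, e3 q1972 (flp_d L17192) q1752, e3 q1973 (flp_d L19314) q2214, e3 q1974 L19349 q2218, e3 q1975 L19361 q2220, e3 q1976 (flp_d L17222) q1754, e3 q1977 (flp_d L19384) q2223, e3 q1978 L17239 q1845, e3 q1979 L17244 q1756, e3 q1980 L17253 q1772, e3 q1981 L19420 q2228, e3 q1982 (flp_d L17268) q1758, e3 q1983 (flp_d L19454) q2231, trivial⟩ (by decide +kernel)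

theorem ce_d_31 : ∀ r, r < 64 → sm gd (Qf (1984 + r)) = Qf (tab Gen.d (1984 + r)) :=
  edges_tab (sm gd) Qf (tab Gen.d) 1984 [(1984, 1984), (1985, 1826), (1986, 1762), (1987, 2234), (1988, 2177), (1989, 1764), (1990, 1767), (1991, 1768), (1992, 1770), (1993, 2210), (1994, 2204), (1995, 1995), (1996, 1996), (1997, 1997), (1998, 2243), (1999, 1788), (2000, 1789), (2001, 2246), (2002, 1886), (2003, 1833), (2004, 1834), (2005, 2005), (2006, 2252), (2007, 1862), (2008, 1863), (2009, 2255), (2010, 1787), (2011, 2258), (2012, 2245), (2013, 1887), (2014, 1813), (2015, 2262), (2016, 1889), (2017, 2266), (2018, 1792), (2019, 2268), (2020, 2020), (2021, 2271), (2022, 2022), (2023, 2023), (2024, 1797), (2025, 2274), (2026, 2278), (2027, 2280), (2028, 1799), (2029, 2283), (2030, 2167), (2031, 1801), (2032, 2032), (2033, 2287), (2034, 1803), (2035, 2290), (2036, 2036), (2037, 2257), (2038, 1807), (2039, 2292), (2040, 1853), (2041, 1809), (2042, 1890), (2043, 1840),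 (2044, 2260), (2045, 2261), (2046, 2237), (2047, 2047)]
    ⟨e3 q1984 L17289 q1984, e3 q1985 L17303 q1826, e3 q1986 (flp_d L17305) q1762, e3 q1987 (flp_d L19484) q2234, e3 q1988 (flp_d L18944) q2177, e3 q1989 L17335 q1764, e3 q1990 (flp_d L17340) q1767, e3 q1991 (flp_d L17352) q1768, e3 q1992 (flp_d L17365) q1770, e3 q1993 (flp_d L19274) q2210, e3 q1994 (flp_d L19212) q2204, e3 q1995 L17398 q1995, e3 q1996 L17401 q1996, e3 q1997 L17411 q1997, e3 q1998 L19564 q2243, e3 q1999 L17433 q1788, e3 q2000 L17441 q1789, e3 q2001 L19595 q2246, e3 q2002 L17464 q1886, e3 q2003 L17479 q1833, e3 q2004 L17489 q1834, e3 q2005 L17500 q2005, e3 q2006 L19669 q2252, e3 q2007 L17522 q1862, e3 q2008 L17530 q1863, e3 q2009 L19701 q2255, e3 q2010 (flp_d L17545) q1787, e3 q2011 (flp_d L19729) q2258, e3 q2012 (flp_d L19589) q2245, e3 q2013 L17575 q1887, e3 q2014 L17589 q1813, e3 q2015 L19769 q2262, e3 q2016 L17607 q1889, e3 q2017 L19817 q2266, e3 q2018 (flp_d L17620) q1792, e3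 q2019 (flp_d L19847) q2268, e3 q2020 L17644 q2020, e3 q2021 L19870 q2271, e3 q2022 L17664 q2022, e3 q2023 L17670 q2023, e3 q2024 (flp_d L17675) q1797, e3 q2025 (flp_d L19904) q2274, e3 q2026 L19934 q2278, e3 q2027 L19946 q2280, e3 q2028 (flp_d L17707) q1799, e3 q2029 (flp_d L19979) q2283, e3 q2030 (flp_d L18860) q2167, e3 q2031 L17737 q1801, e3 q2032 L17744 q2032, e3 q2033 L20005 q2287, e3 q2034 (flp_d L17754) q1803, e3 q2035 (flp_d L20029) q2290, e3 q2036 L17770 q2036, e3 q2037 (flp_d L19724) q2257, e3 q2038 (flp_d L17782) q1807, e3 q2039 (flp_d L20043) q2292, e3 q2040 L17803 q1853, e3 q2041 L17808 q1809, e3 q2042 L17818 q1890, e3 q2043 L17834 q1840, e3 q2044 (flp_d L19755) q2260, e3 q2045 (flp_d L19764) q2261, e3 q2046 (flp_d L19518) q2237, e3 q2047 L17869 q2047, trivial⟩ (by decide +kernel)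

theorem ce_d_32 : ∀ r, r < 64 → sm gd (Qf (2048 + r)) = Qf (tab Gen.d (2048 + r)) :=
  edges_tab (sm gd) Qf (tab Gen.d) 2048 [(2048, 1817), (2049, 1831), (2050, 2301), (2051, 2303), (2052, 1819), (2053, 2306), (2054, 1821), (2055, 2227), (2056, 1823), (2057, 2309), (2058, 2058), (2059, 2232), (2060, 1828), (2061, 2247), (2062, 1885), (2063, 2310), (2064, 2249), (2065, 2250), (2066, 2190), (2067, 1836), (2068, 2315), (2069, 1867), (2070, 2316), (2071, 2186), (2072, 2318), (2073, 1841), (2074, 2322), (2075, 1842), (2076, 2324), (2077, 2321), (2078, 1844), (2079, 2224), (2080, 2225), (2081, 2198), (2082, 2320), (2083, 1850), (2084, 2293), (2085, 2294), (2086, 2216), (2087, 1856), (2088, 2335), (2089, 1858), (2090, 2336), (2091, 2091), (2092, 2338), (2093, 1861), (2094, 2341), (2095, 2254), (2096, 2191), (2097, 2340), (2098, 1866), (2099, 1868), (2100, 2345), (2101, 1878), (2102, 1873), (2103, 1870), (2104, 2344), (2105, 1872), (2106, 2349), (2107, 2350),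 (2108, 2108), (2109, 2109), (2110, 2346), (2111, 2348)]
    ⟨e3 q2048 (flp_d L17876) q1817, e3 q2049 L17894 q1831, e3 q2050 L20120 q2301, e3 q2051 L20130 q2303, e3 q2052 (flp_d L17915) q1819, e3 q2053 (flp_d L20165) q2306, e3 q2054 L17937 q1821, e3 q2055 (flp_d L19418) q2227, e3 q2056 (flp_d L17950) q1823, e3 q2057 (flp_d L20192) q2309, e3 q2058 L17973 q2058, e3 q2059 (flp_d L19462) q2232, e3 q2060 L17991 q1828, e3 q2061 (flp_d L19616) q2247, e3 q2062 L18008 q1885, e3 q2063 L20197 q2310, e3 q2064 (flp_d L19643) q2249, e3 q2065 (flp_d L19653) q2250, e3 q2066 (flp_d L19078) q2190, e3 q2067 (flp_d L18047) q1836, e3 q2068 (flp_d L20244) q2315, e3 q2069 L18068 q1867, e3 q2070 L20248 q2316, e3 q2071 (flp_d L19038) q2186, e3 q2072 L20258 q2318, e3 q2073 (flp_d L18094) q1841, e3 q2074 (flp_d L20280) q2322, e3 q2075 (flp_d L18102) q1842, e3 q2076 (flp_d L20294) q2324, e3 q2077 (flp_d L20276) q2321, e3 q2078 L18128 q1844, e3 q2079 (flp_d L19391) q2224, e3 q2080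 (flp_d L19397) q2225, e3 q2081 (flp_d L19152) q2198, e3 q2082 (flp_d L20272) q2320, e3 q2083 L18163 q1850, e3 q2084 (flp_d L20050) q2293, e3 q2085 (flp_d L20059) q2294, e3 q2086 (flp_d L19334) q2216, e3 q2087 (flp_d L18186) q1856, e3 q2088 (flp_d L20370) q2335, e3 q2089 L18200 q1858, e3 q2090 (flp_d L20375) q2336, e3 q2091 L18210 q2091, e3 q2092 L20387 q2338, e3 q2093 (flp_d L18226) q1861, e3 q2094 (flp_d L20417) q2341, e3 q2095 (flp_d L19694) q2254, e3 q2096 (flp_d L19085) q2191, e3 q2097 (flp_d L20411) q2340, e3 q2098 L18274 q1866, e3 q2099 (flp_d L18277) q1868, e3 q2100 (flp_d L20444) q2345, e3 q2101 L18297 q1878, e3 q2102 L18303 q1873, e3 q2103 L18308 q1870, e3 q2104 (flp_d L20439) q2344, e3 q2105 L18321 q1872, e3 q2106 (flp_d L20470) q2349, e3 q2107 (flp_d L20477) q2350, e3 q2108 L18343 q2108, e3 q2109 L18350 q2109, e3 q2110 (flp_d L20450) q2346, e3 q2111 (flp_d L20464) q2348, trivial⟩ (by decide +kernel)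

theorem ce_d_33 : ∀ r, r < 64 → sm gd (Qf (2112 + r)) = Qf (tab Gen.d (2112 + r)) :=
  edges_tab (sm gd) Qf (tab Gen.d) 2112 [(2112, 2112), (2113, 2113), (2114, 2114), (2115, 1888), (2116, 2265), (2117, 2263), (2118, 2118), (2119, 1894), (2120, 2361), (2121, 1897), (2122, 2259), (2123, 2362), (2124, 2124), (2125, 2125), (2126, 2126), (2127, 2366), (2128, 2128), (2129, 1905), (2130, 1928), (2131, 1929), (2132, 2371), (2133, 1907), (2134, 2374), (2135, 2375), (2136, 1937), (2137, 1938), (2138, 2378), (2139, 1913), (2140, 2381), (2141, 1943), (2142, 2382), (2143, 2384), (2144, 1917), (2145, 2386), (2146, 2387), (2147, 2147), (2148, 1921), (2149, 2389), (2150, 2150), (2151, 2393), (2152, 2395), (2153, 2153), (2154, 2399), (2155, 1925), (2156, 2402), (2157, 2157), (2158, 2405), (2159, 2369), (2160, 2370), (2161, 1930), (2162, 2408), (2163, 2412), (2164, 2414), (2165, 1932), (2166, 2417), (2167, 2030), (2168, 1934), (2169, 2169), (2170, 2422), (2171, 1936),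 (2172, 2425), (2173, 2377), (2174, 2426), (2175, 1940)]
    ⟨e3 q2112 L18369 q2112, e3 q2113 L18373 q2113, e3 q2114 L18380 q2114, e3 q2115 (flp_d L18384) q1888, e3 q2116 (flp_d L19815) q2265, e3 q2117 (flp_d L19790) q2263, e3 q2118 L18412 q2118, e3 q2119 (flp_d L18413) q1894, e3 q2120 (flp_d L20553) q2361, e3 q2121 L18427 q1897, e3 q2122 (flp_d L19742) q2259, e3 q2123 (flp_d L20559) q2362, e3 q2124 L18444 q2124, e3 q2125 L18448 q2125, e3 q2126 L18460 q2126, e3 q2127 L20591 q2366, e3 q2128 L18476 q2128, e3 q2129 L18483 q1905, e3 q2130 L18510 q1928, e3 q2131 L18517 q1929, e3 q2132 L20644 q2371, e3 q2133 (flp_d L18529) q1907, e3 q2134 (flp_d L20673) q2374, e3 q2135 L20676 q2375, e3 q2136 L18558 q1937, e3 q2137 L18564 q1938, e3 q2138 L20702 q2378, e3 q2139 (flp_d L18577) q1913, e3 q2140 (flp_d L20730) q2381, e3 q2141 L18596 q1943, e3 q2142 L20735 q2382, e3 q2143 L20763 q2384, e3 q2144 (flp_d L18628) q1917, e3 q2145 (flp_d L20796) q2386, e3 q2146 L20801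 q2387, e3 q2147 L18670 q2147, e3 q2148 (flp_d L18677) q1921, e3 q2149 (flp_d L20832) q2389, e3 q2150 L18708 q2150, e3 q2151 L20872 q2393, e3 q2152 L20894 q2395, e3 q2153 L18737 q2153, e3 q2154 L20935 q2399, e3 q2155 (flp_d L18749) q1925, e3 q2156 (flp_d L20966) q2402, e3 q2157 L18771 q2157, e3 q2158 L20989 q2405, e3 q2159 (flp_d L20632) q2369, e3 q2160 (flp_d L20639) q2370, e3 q2161 (flp_d L18802) q1930, e3 q2162 (flp_d L21023) q2408, e3 q2163 L21061 q2412, e3 q2164 L21077 q2414, e3 q2165 (flp_d L18839) q1932, e3 q2166 (flp_d L21105) q2417, e3 q2167 L18860 q2030, e3 q2168 L18866 q1934, e3 q2169 L18873 q2169, e3 q2170 L21140 q2422, e3 q2171 (flp_d L18887) q1936, e3 q2172 (flp_d L21166) q2425, e3 q2173 (flp_d L20696) q2377, e3 q2174 L21170 q2426, e3 q2175 (flp_d L18921) q1940, trivial⟩ (by decide +kernel)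

theorem ce_d_34 : ∀ r, r < 64 → sm gd (Qf (2176 + r)) = Qf (tab Gen.d (2176 + r)) :=
  edges_tab (sm gd) Qf (tab Gen.d) 2176 [(2176, 2429), (2177, 1988), (2178, 1942), (2179, 2179), (2180, 2434), (2181, 1953), (2182, 1946), (2183, 2437), (2184, 2184), (2185, 2401), (2186, 2071), (2187, 2442), (2188, 1950), (2189, 2444), (2190, 2066), (2191, 2096), (2192, 1954), (2193, 2447), (2194, 1955), (2195, 2450), (2196, 1962), (2197, 1957), (2198, 2081), (2199, 2454), (2200, 2200), (2201, 2451), (2202, 2452), (2203, 1963), (2204, 1994), (2205, 2461), (2206, 2463), (2207, 1965), (2208, 2466), (2209, 1967), (2210, 1993), (2211, 1969), (2212, 2470), (2213, 2213), (2214, 1973), (2215, 2471), (2216, 2086), (2217, 2474), (2218, 1974), (2219, 2478), (2220, 1975), (2221, 2480), (2222, 2477), (2223, 1977), (2224, 2079), (2225, 2080), (2226, 2453), (2227, 2055), (2228, 1981), (2229, 2488), (2230, 2476), (2231, 1983), (2232, 2059), (2233, 2428), (2234, 1987), (2235, 2430),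 (2236, 2431), (2237, 2046), (2238, 2468), (2239, 2455)]
    ⟨e3 q2176 (flp_d L21205) q2429, e3 q2177 L18944 q1988, e3 q2178 L18949 q1942, e3 q2179 L18955 q2179, e3 q2180 L21241 q2434, e3 q2181 L18978 q1953, e3 q2182 (flp_d L18985) q1946, e3 q2183 (flp_d L21275) q2437, e3 q2184 L19011 q2184, e3 q2185 (flp_d L20960) q2401, e3 q2186 L19038 q2071, e3 q2187 L21330 q2442, e3 q2188 (flp_d L19050) q1950, e3 q2189 (flp_d L21357) q2444, e3 q2190 L19078 q2066, e3 q2191 L19085 q2096, e3 q2192 (flp_d L19093) q1954, e3 q2193 L21386 q2447, e3 q2194 (flp_d L19116) q1955, e3 q2195 (flp_d L21417) q2450, e3 q2196 L19141 q1962, e3 q2197 L19145 q1957, e3 q2198 L19152 q2081, e3 q2199 L21445 q2454, e3 q2200 L19174 q2200, e3 q2201 (flp_d L21427) q2451, e3 q2202 (flp_d L21434) q2452, e3 q2203 (flp_d L19193) q1963, e3 q2204 L19212 q1994, e3 q2205 L21520 q2461, e3 q2206 L21536 q2463, e3 q2207 (flp_d L19239) q1965, e3 q2208 (flp_d L21567) q2466, e3 q2209 L19260 q1967, e3 q2210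 L19274 q1993, e3 q2211 (flp_d L19276) q1969, e3 q2212 (flp_d L21609) q2470, e3 q2213 L19302 q2213, e3 q2214 L19314 q1973, e3 q2215 L21618 q2471, e3 q2216 L19334 q2086, e3 q2217 L21642 q2474, e3 q2218 (flp_d L19349) q1974, e3 q2219 (flp_d L21668) q2478, e3 q2220 (flp_d L19361) q1975, e3 q2221 (flp_d L21681) q2480, e3 q2222 (flp_d L21664) q2477, e3 q2223 L19384 q1977, e3 q2224 L19391 q2079, e3 q2225 L19397 q2080, e3 q2226 (flp_d L21442) q2453, e3 q2227 L19418 q2055, e3 q2228 (flp_d L19420) q1981, e3 q2229 (flp_d L21747) q2488, e3 q2230 (flp_d L21660) q2476, e3 q2231 L19454 q1983, e3 q2232 L19462 q2059, e3 q2233 (flp_d L21200) q2428, e3 q2234 L19484 q1987, e3 q2235 (flp_d L21211) q2430, e3 q2236 (flp_d L21221) q2431, e3 q2237 L19518 q2046, e3 q2238 (flp_d L21583) q2468, e3 q2239 (flp_d L21465) q2455, trivial⟩ (by decide +kernel)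

theorem ce_d_35 : ∀ r, r < 64 → sm gd (Qf (2240 + r)) = Qf (tab Gen.d (2240 + r)) :=
  edges_tab (sm gd) Qf (tab Gen.d) 2240 [(2240, 2240), (2241, 2241), (2242, 2497), (2243, 1998), (2244, 2500), (2245, 2012), (2246, 2001), (2247, 2061), (2248, 2503), (2249, 2064), (2250, 2065), (2251, 2506), (2252, 2006), (2253, 2509), (2254, 2095), (2255, 2009), (2256, 2510), (2257, 2037), (2258, 2011), (2259, 2122), (2260, 2044), (2261, 2045), (2262, 2015), (2263, 2117), (2264, 2519), (2265, 2116), (2266, 2017), (2267, 2523), (2268, 2019), (2269, 2269), (2270, 2525), (2271, 2021), (2272, 2528), (2273, 2273), (2274, 2025), (2275, 2529), (2276, 2438), (2277, 2532), (2278, 2026), (2279, 2536), (2280, 2027), (2281, 2537), (2282, 2535), (2283, 2029), (2284, 2418), (2285, 2419), (2286, 2511), (2287, 2033), (2288, 2544), (2289, 2534), (2290, 2035), (2291, 2512), (2292, 2039), (2293, 2084), (2294, 2085), (2295, 2513), (2296, 2552), (2297, 2515), (2298, 2495), (2299, 2554),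 (2300, 2556), (2301, 2050), (2302, 2560), (2303, 2051)]
    ⟨e3 q2240 L19535 q2240, e3 q2241 L19547 q2241, e3 q2242 L21835 q2497, e3 q2243 (flp_d L19564) q1998, e3 q2244 (flp_d L21869) q2500, e3 q2245 L19589 q2012, e3 q2246 (flp_d L19595) q2001, e3 q2247 L19616 q2061, e3 q2248 L21897 q2503, e3 q2249 L19643 q2064, e3 q2250 L19653 q2065, e3 q2251 L21932 q2506, e3 q2252 (flp_d L19669) q2006, e3 q2253 (flp_d L21968) q2509, e3 q2254 L19694 q2095, e3 q2255 (flp_d L19701) q2009, e3 q2256 (flp_d L21975) q2510, e3 q2257 L19724 q2037, e3 q2258 L19729 q2011, e3 q2259 L19742 q2122, e3 q2260 L19755 q2044, e3 q2261 L19764 q2045, e3 q2262 (flp_d L19769) q2015, e3 q2263 L19790 q2117, e3 q2264 L22063 q2519, e3 q2265 L19815 q2116, e3 q2266 (flp_d L19817) q2017, e3 q2267 (flp_d L22110) q2523, e3 q2268 L19847 q2019, e3 q2269 L19857 q2269, e3 q2270 L22126 q2525, e3 q2271 (flp_d L19870) q2021, e3 q2272 (flp_d L22157) q2528, e3 q2273 L19891 q2273, e3 q2274 L19904 q2025, e3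 q2275 L22160 q2529, e3 q2276 (flp_d L21293) q2438, e3 q2277 L22182 q2532, e3 q2278 (flp_d L19934) q2026, e3 q2279 (flp_d L22212) q2536, e3 q2280 (flp_d L19946) q2027, e3 q2281 (flp_d L22221) q2537, e3 q2282 (flp_d L22206) q2535, e3 q2283 L19979 q2029, e3 q2284 (flp_d L21113) q2418, e3 q2285 (flp_d L21120) q2419, e3 q2286 (flp_d L21981) q2511, e3 q2287 (flp_d L20005) q2033, e3 q2288 (flp_d L22278) q2544, e3 q2289 (flp_d L22200) q2534, e3 q2290 L20029 q2035, e3 q2291 (flp_d L21991) q2512, e3 q2292 L20043 q2039, e3 q2293 L20050 q2084, e3 q2294 L20059 q2085, e3 q2295 (flp_d L21998) q2513, e3 q2296 L22330 q2552, e3 q2297 (flp_d L22019) q2515, e3 q2298 (flp_d L21817) q2495, e3 q2299 L22350 q2554, e3 q2300 L22370 q2556, e3 q2301 (flp_d L20120) q2050, e3 q2302 (flp_d L22404) q2560, e3 q2303 (flp_d L20130) q2051, trivial⟩ (by decide +kernel)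

theorem ce_d_36 : ∀ r, r < 64 → sm gd (Qf (2304 + r)) = Qf (tab Gen.d (2304 + r)) :=
  edges_tab (sm gd) Qf (tab Gen.d) 2304 [(2304, 2561), (2305, 2559), (2306, 2053), (2307, 2487), (2308, 2558), (2309, 2057), (2310, 2063), (2311, 2565), (2312, 2505), (2313, 2445), (2314, 2564), (2315, 2068), (2316, 2070), (2317, 2570), (2318, 2072), (2319, 2572), (2320, 2082), (2321, 2077), (2322, 2074), (2323, 2571), (2324, 2076), (2325, 2576), (2326, 2577), (2327, 2484), (2328, 2485), (2329, 2573), (2330, 2575), (2331, 2549), (2332, 2550), (2333, 2410), (2334, 2568), (2335, 2088), (2336, 2090), (2337, 2589), (2338, 2092), (2339, 2590), (2340, 2097), (2341, 2094), (2342, 2591), (2343, 2592), (2344, 2104), (2345, 2100), (2346, 2110), (2347, 2574), (2348, 2111), (2349, 2106), (2350, 2107), (2351, 2351), (2352, 2595), (2353, 2596), (2354, 2603), (2355, 2355), (2356, 2599), (2357, 2357), (2358, 2521), (2359, 2517), (2360, 2569), (2361, 2120), (2362, 2123), (2363, 2390),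 (2364, 2608), (2365, 2610), (2366, 2127), (2367, 2613)]
    ⟨e3 q2304 (flp_d L22413) q2561, e3 q2305 (flp_d L22400) q2559, e3 q2306 L20165 q2053, e3 q2307 (flp_d L21732) q2487, e3 q2308 (flp_d L22394) q2558, e3 q2309 L20192 q2057, e3 q2310 (flp_d L20197) q2063, e3 q2311 (flp_d L22444) q2565, e3 q2312 (flp_d L21925) q2505, e3 q2313 (flp_d L21365) q2445, e3 q2314 (flp_d L22438) q2564, e3 q2315 L20244 q2068, e3 q2316 (flp_d L20248) q2070, e3 q2317 (flp_d L22475) q2570, e3 q2318 (flp_d L20258) q2072, e3 q2319 (flp_d L22485) q2572, e3 q2320 L20272 q2082, e3 q2321 L20276 q2077, e3 q2322 L20280 q2074, e3 q2323 (flp_d L22481) q2571, e3 q2324 L20294 q2076, e3 q2325 (flp_d L22507) q2576, e3 q2326 (flp_d L22511) q2577, e3 q2327 (flp_d L21708) q2484, e3 q2328 (flp_d L21715) q2485, e3 q2329 (flp_d L22491) q2573, e3 q2330 (flp_d L22503) q2575, e3 q2331 (flp_d L22309) q2549, e3 q2332 (flp_d L22320) q2550, e3 q2333 (flp_d L21044) q2410, e3 q2334 (flp_d L22465) q2568,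 e3 q2335 L20370 q2088, e3 q2336 L20375 q2090, e3 q2337 (flp_d L22599) q2589, e3 q2338 (flp_d L20387) q2092, e3 q2339 (flp_d L22608) q2590, e3 q2340 L20411 q2097, e3 q2341 L20417 q2094, e3 q2342 (flp_d L22614) q2591, e3 q2343 (flp_d L22624) q2592, e3 q2344 L20439 q2104, e3 q2345 L20444 q2100, e3 q2346 L20450 q2110, e3 q2347 (flp_d L22497) q2574, e3 q2348 L20464 q2111, e3 q2349 L20470 q2106, e3 q2350 L20477 q2107, e3 q2351 L20485 q2351, e3 q2352 (flp_d L22643) q2595, e3 q2353 (flp_d L22649) q2596, e3 q2354 (flp_d L22697) q2603, e3 q2355 L20512 q2355, e3 q2356 (flp_d L22673) q2599, e3 q2357 L20526 q2357, e3 q2358 (flp_d L22085) q2521, e3 q2359 (flp_d L22046) q2517, e3 q2360 (flp_d L22471) q2569, e3 q2361 L20553 q2120, e3 q2362 L20559 q2123, e3 q2363 L20850 q2390, e3 q2364 L22725 q2608, e3 q2365 L22745 q2610, e3 q2366 (flp_d L20591) q2127, e3 q2367 (flp_d L22790) q2613, trivial⟩ (by decide +kernel)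

theorem ce_d_37 : ∀ r, r < 64 → sm gd (Qf (2368 + r)) = Qf (tab Gen.d (2368 + r)) :=
  edges_tab (sm gd) Qf (tab Gen.d) 2368 [(2368, 2614), (2369, 2159), (2370, 2160), (2371, 2132), (2372, 2618), (2373, 2373), (2374, 2134), (2375, 2135), (2376, 2623), (2377, 2173), (2378, 2138), (2379, 2625), (2380, 2380), (2381, 2140), (2382, 2142), (2383, 2630), (2384, 2143), (2385, 2633), (2386, 2145), (2387, 2146), (2388, 2636), (2389, 2149), (2390, 2363), (2391, 2391), (2392, 2641), (2393, 2151), (2394, 2644), (2395, 2152), (2396, 2645), (2397, 2649), (2398, 2622), (2399, 2154), (2400, 2653), (2401, 2185), (2402, 2156), (2403, 2403), (2404, 2617), (2405, 2158), (2406, 2660), (2407, 2616), (2408, 2162), (2409, 2662), (2410, 2333), (2411, 2665), (2412, 2163), (2413, 2669), (2414, 2164), (2415, 2670), (2416, 2668), (2417, 2166), (2418, 2284), (2419, 2285), (2420, 2634), (2421, 2677), (2422, 2170), (2423, 2679), (2424, 2667), (2425, 2172), (2426, 2174), (2427, 2684),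 (2428, 2233), (2429, 2176), (2430, 2235), (2431, 2236)]
    ⟨e3 q2368 L22793 q2614, e3 q2369 L20632 q2159, e3 q2370 L20639 q2160, e3 q2371 (flp_d L20644) q2132, e3 q2372 (flp_d L22851) q2618, e3 q2373 L20667 q2373, e3 q2374 L20673 q2134, e3 q2375 (flp_d L20676) q2135, e3 q2376 (flp_d L22895) q2623, e3 q2377 L20696 q2173, e3 q2378 (flp_d L20702) q2138, e3 q2379 (flp_d L22912) q2625, e3 q2380 L20726 q2380, e3 q2381 L20730 q2140, e3 q2382 (flp_d L20735) q2142, e3 q2383 L22954 q2630, e3 q2384 (flp_d L20763) q2143, e3 q2385 (flp_d L22999) q2633, e3 q2386 L20796 q2145, e3 q2387 (flp_d L20801) q2146, e3 q2388 (flp_d L23036) q2636, e3 q2389 L20832 q2149, e3 q2390 (flp_d L20850) q2363, e3 q2391 L20859 q2391, e3 q2392 L23092 q2641, e3 q2393 (flp_d L20872) q2151, e3 q2394 (flp_d L23127) q2644, e3 q2395 (flp_d L20894) q2152, e3 q2396 (flp_d L23139) q2645, e3 q2397 L23181 q2649, e3 q2398 (flp_d L22889) q2622, e3 q2399 (flp_d L20935) q2154, e3 q2400 (flp_d L23223)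 q2653, e3 q2401 L20960 q2185, e3 q2402 L20966 q2156, e3 q2403 L20974 q2403, e3 q2404 (flp_d L22844) q2617, e3 q2405 (flp_d L20989) q2158, e3 q2406 (flp_d L23296) q2660, e3 q2407 (flp_d L22826) q2616, e3 q2408 L21023 q2162, e3 q2409 L23310 q2662, e3 q2410 L21044 q2333, e3 q2411 L23337 q2665, e3 q2412 (flp_d L21061) q2163, e3 q2413 (flp_d L23371) q2669, e3 q2414 (flp_d L21077) q2164, e3 q2415 (flp_d L23379) q2670, e3 q2416 (flp_d L23365) q2668, e3 q2417 L21105 q2166, e3 q2418 L21113 q2284, e3 q2419 L21120 q2285, e3 q2420 (flp_d L23015) q2634, e3 q2421 L23430 q2677, e3 q2422 (flp_d L21140) q2170, e3 q2423 (flp_d L23454) q2679, e3 q2424 (flp_d L23359) q2667, e3 q2425 L21166 q2172, e3 q2426 (flp_d L21170) q2174, e3 q2427 (flp_d L23492) q2684, e3 q2428 L21200 q2233, e3 q2429 L21205 q2176, e3 q2430 L21211 q2235, e3 q2431 L21221 q2236, trivial⟩ (by decide +kernel)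

theorem ce_d_38 : ∀ r, r < 64 → sm gd (Qf (2432 + r)) = Qf (tab Gen.d (2432 + r)) :=
  edges_tab (sm gd) Qf (tab Gen.d) 2432 [(2432, 2637), (2433, 2691), (2434, 2180), (2435, 2693), (2436, 2436), (2437, 2183), (2438, 2276), (2439, 2654), (2440, 2655), (2441, 2699), (2442, 2187), (2443, 2702), (2444, 2189), (2445, 2313), (2446, 2704), (2447, 2193), (2448, 2707), (2449, 2706), (2450, 2195), (2451, 2201), (2452, 2202), (2453, 2226), (2454, 2199), (2455, 2239), (2456, 2716), (2457, 2711), (2458, 2712), (2459, 2719), (2460, 2721), (2461, 2205), (2462, 2725), (2463, 2206), (2464, 2727), (2465, 2724), (2466, 2208), (2467, 2703), (2468, 2238), (2469, 2723), (2470, 2212), (2471, 2215), (2472, 2732), (2473, 2733), (2474, 2217), (2475, 2736), (2476, 2230), (2477, 2222), (2478, 2219), (2479, 2735), (2480, 2221), (2481, 2740), (2482, 2741), (2483, 2710), (2484, 2327), (2485, 2328), (2486, 2656), (2487, 2307), (2488, 2229), (2489, 2737), (2490, 2739), (2491, 2685),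 (2492, 2686), (2493, 2688), (2494, 2689), (2495, 2298)]
    ⟨e3 q2432 (flp_d L23053) q2637, e3 q2433 L23554 q2691, e3 q2434 (flp_d L21241) q2180, e3 q2435 (flp_d L23580) q2693, e3 q2436 L21269 q2436, e3 q2437 L21275 q2183, e3 q2438 L21293 q2276, e3 q2439 (flp_d L23233) q2654, e3 q2440 (flp_d L23244) q2655, e3 q2441 L23639 q2699, e3 q2442 (flp_d L21330) q2187, e3 q2443 (flp_d L23680) q2702, e3 q2444 L21357 q2189, e3 q2445 L21365 q2313, e3 q2446 L23694 q2704, e3 q2447 (flp_d L21386) q2193, e3 q2448 (flp_d L23731) q2707, e3 q2449 (flp_d L23725) q2706, e3 q2450 L21417 q2195, e3 q2451 L21427 q2201, e3 q2452 L21434 q2202, e3 q2453 L21442 q2226, e3 q2454 (flp_d L21445) q2199, e3 q2455 L21465 q2239, e3 q2456 L23813 q2716, e3 q2457 (flp_d L23769) q2711, e3 q2458 (flp_d L23777) q2712, e3 q2459 L23838 q2719, e3 q2460 L23863 q2721, e3 q2461 (flp_d L21520) q2205, e3 q2462 (flp_d L23911) q2725, e3 q2463 (flp_d L21536) q2206, e3 q2464 (flp_d L23928) q2727, e3 q2465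 (flp_d L23905) q2724, e3 q2466 L21567 q2208, e3 q2467 (flp_d L23691) q2703, e3 q2468 L21583 q2238, e3 q2469 (flp_d L23899) q2723, e3 q2470 L21609 q2212, e3 q2471 (flp_d L21618) q2215, e3 q2472 (flp_d L23968) q2732, e3 q2473 L23972 q2733, e3 q2474 (flp_d L21642) q2217, e3 q2475 (flp_d L24005) q2736, e3 q2476 L21660 q2230, e3 q2477 L21664 q2222, e3 q2478 L21668 q2219, e3 q2479 (flp_d L24001) q2735, e3 q2480 L21681 q2221, e3 q2481 (flp_d L24030) q2740, e3 q2482 (flp_d L24036) q2741, e3 q2483 (flp_d L23762) q2710, e3 q2484 L21708 q2327, e3 q2485 L21715 q2328, e3 q2486 (flp_d L23254) q2656, e3 q2487 L21732 q2307, e3 q2488 L21747 q2229, e3 q2489 (flp_d L24011) q2737, e3 q2490 (flp_d L24024) q2739, e3 q2491 (flp_d L23500) q2685, e3 q2492 (flp_d L23514) q2686, e3 q2493 (flp_d L23530) q2688, e3 q2494 (flp_d L23542) q2689, e3 q2495 L21817 q2298, trivial⟩ (by decide +kernel)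

theorem ce_d_39 : ∀ r, r < 64 → sm gd (Qf (2496 + r)) = Qf (tab Gen.d (2496 + r)) :=
  edges_tab (sm gd) Qf (tab Gen.d) 2496 [(2496, 2638), (2497, 2242), (2498, 2755), (2499, 2499), (2500, 2244), (2501, 2759), (2502, 2761), (2503, 2248), (2504, 2764), (2505, 2312), (2506, 2251), (2507, 2765), (2508, 2763), (2509, 2253), (2510, 2256), (2511, 2286), (2512, 2291), (2513, 2295), (2514, 2773), (2515, 2297), (2516, 2775), (2517, 2359), (2518, 2778), (2519, 2264), (2520, 2782), (2521, 2358), (2522, 2781), (2523, 2267), (2524, 2770), (2525, 2270), (2526, 2786), (2527, 2780), (2528, 2272), (2529, 2275), (2530, 2790), (2531, 2791), (2532, 2277), (2533, 2794), (2534, 2289), (2535, 2282), (2536, 2279), (2537, 2281), (2538, 2798), (2539, 2799), (2540, 2674), (2541, 2675), (2542, 2771), (2543, 2793), (2544, 2288), (2545, 2795), (2546, 2797), (2547, 2768), (2548, 2769), (2549, 2331), (2550, 2332), (2551, 2687), (2552, 2296), (2553, 2811), (2554, 2299), (2555, 2812),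 (2556, 2300), (2557, 2813), (2558, 2308), (2559, 2305)]
    ⟨e3 q2496 (flp_d L23063) q2638, e3 q2497 (flp_d L21835) q2242, e3 q2498 (flp_d L24152) q2755, e3 q2499 L21863 q2499, e3 q2500 L21869 q2244, e3 q2501 L24186 q2759, e3 q2502 L24211 q2761, e3 q2503 (flp_d L21897) q2248, e3 q2504 (flp_d L24251) q2764, e3 q2505 L21925 q2312, e3 q2506 (flp_d L21932) q2251, e3 q2507 (flp_d L24261) q2765, e3 q2508 (flp_d L24243) q2763, e3 q2509 L21968 q2253, e3 q2510 L21975 q2256, e3 q2511 L21981 q2286, e3 q2512 L21991 q2291, e3 q2513 L21998 q2295, e3 q2514 L24327 q2773, e3 q2515 L22019 q2297, e3 q2516 L24352 q2775, e3 q2517 L22046 q2359, e3 q2518 L24388 q2778, e3 q2519 (flp_d L22063) q2264, e3 q2520 (flp_d L24436) q2782, e3 q2521 L22085 q2358, e3 q2522 (flp_d L24430) q2781, e3 q2523 L22110 q2267, e3 q2524 (flp_d L24305) q2770, e3 q2525 (flp_d L22126) q2270, e3 q2526 (flp_d L24474) q2786, e3 q2527 (flp_d L24418) q2780, e3 q2528 L22157 q2272, e3 q2529 (flp_d L22160)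 q2275, e3 q2530 (flp_d L24504) q2790, e3 q2531 L24506 q2791, e3 q2532 (flp_d L22182) q2277, e3 q2533 (flp_d L24531) q2794, e3 q2534 L22200 q2289, e3 q2535 L22206 q2282, e3 q2536 L22212 q2279, e3 q2537 L22221 q2281, e3 q2538 (flp_d L24556) q2798, e3 q2539 (flp_d L24562) q2799, e3 q2540 (flp_d L23410) q2674, e3 q2541 (flp_d L23418) q2675, e3 q2542 (flp_d L24315) q2771, e3 q2543 (flp_d L24525) q2793, e3 q2544 L22278 q2288, e3 q2545 (flp_d L24537) q2795, e3 q2546 (flp_d L24550) q2797, e3 q2547 (flp_d L24292) q2768, e3 q2548 (flp_d L24300) q2769, e3 q2549 L22309 q2331, e3 q2550 L22320 q2332, e3 q2551 (flp_d L23525) q2687, e3 q2552 (flp_d L22330) q2296, e3 q2553 (flp_d L24656) q2811, e3 q2554 (flp_d L22350) q2299, e3 q2555 (flp_d L24664) q2812, e3 q2556 (flp_d L22370) q2300, e3 q2557 (flp_d L24672) q2813, e3 q2558 L22394 q2308, e3 q2559 L22400 q2305, trivial⟩ (by decide +kernel)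

theorem ce_d_40 : ∀ r, r < 64 → sm gd (Qf (2560 + r)) = Qf (tab Gen.d (2560 + r)) :=
  edges_tab (sm gd) Qf (tab Gen.d) 2560 [(2560, 2302), (2561, 2304), (2562, 2816), (2563, 2815), (2564, 2314), (2565, 2311), (2566, 2818), (2567, 2819), (2568, 2334), (2569, 2360), (2570, 2317), (2571, 2323), (2572, 2319), (2573, 2329), (2574, 2347), (2575, 2330), (2576, 2325), (2577, 2326), (2578, 2817), (2579, 2828), (2580, 2829), (2581, 2831), (2582, 2837), (2583, 2749), (2584, 2833), (2585, 2809), (2586, 2647), (2587, 2822), (2588, 2824), (2589, 2337), (2590, 2339), (2591, 2342), (2592, 2343), (2593, 2593), (2594, 2844), (2595, 2352), (2596, 2353), (2597, 2597), (2598, 2832), (2599, 2356), (2600, 2834), (2601, 2835), (2602, 2745), (2603, 2354), (2604, 2788), (2605, 2846), (2606, 2825), (2607, 2826), (2608, 2364), (2609, 2857), (2610, 2365), (2611, 2858), (2612, 2612), (2613, 2367), (2614, 2368), (2615, 2862), (2616, 2407), (2617, 2404), (2618, 2372), (2619, 2619),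 (2620, 2620), (2621, 2621), (2622, 2398), (2623, 2376)]
    ⟨e3 q2560 L22404 q2302, e3 q2561 L22413 q2304, e3 q2562 (flp_d L24693) q2816, e3 q2563 (flp_d L24685) q2815, e3 q2564 L22438 q2314, e3 q2565 L22444 q2311, e3 q2566 (flp_d L24703) q2818, e3 q2567 (flp_d L24711) q2819, e3 q2568 L22465 q2334, e3 q2569 L22471 q2360, e3 q2570 L22475 q2317, e3 q2571 L22481 q2323, e3 q2572 L22485 q2319, e3 q2573 L22491 q2329, e3 q2574 L22497 q2347, e3 q2575 L22503 q2330, e3 q2576 L22507 q2325, e3 q2577 L22511 q2326, e3 q2578 (flp_d L24699) q2817, e3 q2579 (flp_d L24761) q2828, e3 q2580 (flp_d L24765) q2829, e3 q2581 (flp_d L24777) q2831, e3 q2582 (flp_d L24813) q2837, e3 q2583 (flp_d L24093) q2749, e3 q2584 (flp_d L24791) q2833, e3 q2585 (flp_d L24641) q2809, e3 q2586 (flp_d L23164) q2647, e3 q2587 (flp_d L24726) q2822, e3 q2588 (flp_d L24741) q2824, e3 q2589 L22599 q2337, e3 q2590 L22608 q2339, e3 q2591 L22614 q2342, e3 q2592 L22624 q2343, e3 q2593 L22632 q2593,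 e3 q2594 (flp_d L24864) q2844, e3 q2595 L22643 q2352, e3 q2596 L22649 q2353, e3 q2597 L22660 q2597, e3 q2598 (flp_d L24785) q2832, e3 q2599 L22673 q2356, e3 q2600 (flp_d L24797) q2834, e3 q2601 (flp_d L24803) q2835, e3 q2602 (flp_d L24064) q2745, e3 q2603 L22697 q2354, e3 q2604 (flp_d L24492) q2788, e3 q2605 (flp_d L24878) q2846, e3 q2606 (flp_d L24745) q2825, e3 q2607 (flp_d L24751) q2826, e3 q2608 (flp_d L22725) q2364, e3 q2609 (flp_d L24967) q2857, e3 q2610 (flp_d L22745) q2365, e3 q2611 (flp_d L24980) q2858, e3 q2612 L22783 q2612, e3 q2613 L22790 q2367, e3 q2614 (flp_d L22793) q2368, e3 q2615 (flp_d L25028) q2862, e3 q2616 L22826 q2407, e3 q2617 L22844 q2404, e3 q2618 L22851 q2372, e3 q2619 L22860 q2619, e3 q2620 L22867 q2620, e3 q2621 L22877 q2621, e3 q2622 L22889 q2398, e3 q2623 L22895 q2376, trivial⟩ (by decide +kernel)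

theorem ce_d_41 : ∀ r, r < 64 → sm gd (Qf (2624 + r)) = Qf (tab Gen.d (2624 + r)) :=
  edges_tab (sm gd) Qf (tab Gen.d) 2624 [(2624, 2624), (2625, 2379), (2626, 2626), (2627, 2627), (2628, 2628), (2629, 2878), (2630, 2383), (2631, 2882), (2632, 2881), (2633, 2385), (2634, 2420), (2635, 2880), (2636, 2388), (2637, 2432), (2638, 2496), (2639, 2888), (2640, 2869), (2641, 2392), (2642, 2892), (2643, 2643), (2644, 2394), (2645, 2396), (2646, 2896), (2647, 2586), (2648, 2899), (2649, 2397), (2650, 2903), (2651, 2870), (2652, 2902), (2653, 2400), (2654, 2439), (2655, 2440), (2656, 2486), (2657, 2863), (2658, 2864), (2659, 2901), (2660, 2406), (2661, 2912), (2662, 2409), (2663, 2916), (2664, 2917), (2665, 2411), (2666, 2919), (2667, 2424), (2668, 2416), (2669, 2413), (2670, 2415), (2671, 2922), (2672, 2923), (2673, 2884), (2674, 2540), (2675, 2541), (2676, 2894), (2677, 2421), (2678, 2931), (2679, 2423), (2680, 2920), (2681, 2921), (2682, 2886), (2683, 2683),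 (2684, 2427), (2685, 2491), (2686, 2492), (2687, 2551)]
    ⟨e3 q2624 L22908 q2624, e3 q2625 L22912 q2379, e3 q2626 L22920 q2626, e3 q2627 L22930 q2627, e3 q2628 L22940 q2628, e3 q2629 L25198 q2878, e3 q2630 (flp_d L22954) q2383, e3 q2631 (flp_d L25254) q2882, e3 q2632 (flp_d L25244) q2881, e3 q2633 L22999 q2385, e3 q2634 L23015 q2420, e3 q2635 (flp_d L25234) q2880, e3 q2636 L23036 q2388, e3 q2637 L23053 q2432, e3 q2638 L23063 q2496, e3 q2639 L25327 q2888, e3 q2640 (flp_d L25102) q2869, e3 q2641 (flp_d L23092) q2392, e3 q2642 (flp_d L25381) q2892, e3 q2643 L23120 q2643, e3 q2644 L23127 q2394, e3 q2645 L23139 q2396, e3 q2646 L25419 q2896, e3 q2647 L23164 q2586, e3 q2648 L25454 q2899, e3 q2649 (flp_d L23181) q2397, e3 q2650 (flp_d L25504) q2903, e3 q2651 (flp_d L25120) q2870, e3 q2652 (flp_d L25498) q2902, e3 q2653 L23223 q2400, e3 q2654 L23233 q2439, e3 q2655 L23244 q2440, e3 q2656 L23254 q2486, e3 q2657 (flp_d L25042) q2863, e3 q2658 (flp_d L25056)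 q2864, e3 q2659 (flp_d L25484) q2901, e3 q2660 L23296 q2406, e3 q2661 L25600 q2912, e3 q2662 (flp_d L23310) q2409, e3 q2663 (flp_d L25640) q2916, e3 q2664 L25644 q2917, e3 q2665 (flp_d L23337) q2411, e3 q2666 (flp_d L25671) q2919, e3 q2667 L23359 q2424, e3 q2668 L23365 q2416, e3 q2669 L23371 q2413, e3 q2670 L23379 q2415, e3 q2671 (flp_d L25695) q2922, e3 q2672 (flp_d L25703) q2923, e3 q2673 (flp_d L25284) q2884, e3 q2674 L23410 q2540, e3 q2675 L23418 q2541, e3 q2676 (flp_d L25404) q2894, e3 q2677 (flp_d L23430) q2421, e3 q2678 (flp_d L25773) q2931, e3 q2679 L23454 q2423, e3 q2680 (flp_d L25677) q2920, e3 q2681 (flp_d L25687) q2921, e3 q2682 (flp_d L25311) q2886, e3 q2683 L23486 q2683, e3 q2684 L23492 q2427, e3 q2685 L23500 q2491, e3 q2686 L23514 q2492, e3 q2687 L23525 q2551, trivial⟩ (by decide +kernel)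

theorem ce_d_42 : ∀ r, r < 64 → sm gd (Qf (2688 + r)) = Qf (tab Gen.d (2688 + r)) :=
  edges_tab (sm gd) Qf (tab Gen.d) 2688 [(2688, 2493), (2689, 2494), (2690, 2937), (2691, 2433), (2692, 2942), (2693, 2435), (2694, 2694), (2695, 2695), (2696, 2696), (2697, 2946), (2698, 2907), (2699, 2441), (2700, 2949), (2701, 2948), (2702, 2443), (2703, 2467), (2704, 2446), (2705, 2953), (2706, 2449), (2707, 2448), (2708, 2954), (2709, 2955), (2710, 2483), (2711, 2457), (2712, 2458), (2713, 2908), (2714, 2961), (2715, 2963), (2716, 2456), (2717, 2966), (2718, 2959), (2719, 2459), (2720, 2968), (2721, 2460), (2722, 2970), (2723, 2469), (2724, 2465), (2725, 2462), (2726, 2969), (2727, 2464), (2728, 2973), (2729, 2951), (2730, 2972), (2731, 2731), (2732, 2472), (2733, 2473), (2734, 2983), (2735, 2479), (2736, 2475), (2737, 2489), (2738, 2738), (2739, 2490), (2740, 2481), (2741, 2482), (2742, 2956), (2743, 2984), (2744, 2985), (2745, 2602), (2746, 2993), (2747, 2994),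 (2748, 3001), (2749, 2583), (2750, 2906), (2751, 2987)]
    ⟨e3 q2688 L23530 q2493, e3 q2689 L23542 q2494, e3 q2690 (flp_d L25835) q2937, e3 q2691 (flp_d L23554) q2433, e3 q2692 (flp_d L25885) q2942, e3 q2693 L23580 q2435, e3 q2694 L23590 q2694, e3 q2695 L23599 q2695, e3 q2696 L23611 q2696, e3 q2697 L25920 q2946, e3 q2698 (flp_d L25546) q2907, e3 q2699 (flp_d L23639) q2441, e3 q2700 (flp_d L25965) q2949, e3 q2701 (flp_d L25957) q2948, e3 q2702 L23680 q2443, e3 q2703 L23691 q2467, e3 q2704 (flp_d L23694) q2446, e3 q2705 (flp_d L26011) q2953, e3 q2706 L23725 q2449, e3 q2707 L23731 q2448, e3 q2708 (flp_d L26023) q2954, e3 q2709 (flp_d L26031) q2955, e3 q2710 L23762 q2483, e3 q2711 L23769 q2457, e3 q2712 L23777 q2458, e3 q2713 (flp_d L25561) q2908, e3 q2714 L26082 q2961, e3 q2715 L26109 q2963, e3 q2716 (flp_d L23813) q2456, e3 q2717 (flp_d L26143) q2966, e3 q2718 (flp_d L26070) q2959, e3 q2719 (flp_d L23838) q2459, e3 q2720 (flp_d L26164) q2968, e3 q2721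 (flp_d L23863) q2460, e3 q2722 (flp_d L26188) q2970, e3 q2723 L23899 q2469, e3 q2724 L23905 q2465, e3 q2725 L23911 q2462, e3 q2726 (flp_d L26180) q2969, e3 q2727 L23928 q2464, e3 q2728 (flp_d L26221) q2973, e3 q2729 (flp_d L25991) q2951, e3 q2730 (flp_d L26211) q2972, e3 q2731 L23965 q2731, e3 q2732 L23968 q2472, e3 q2733 (flp_d L23972) q2473, e3 q2734 (flp_d L26305) q2983, e3 q2735 L24001 q2479, e3 q2736 L24005 q2475, e3 q2737 L24011 q2489, e3 q2738 L24019 q2738, e3 q2739 L24024 q2490, e3 q2740 L24030 q2481, e3 q2741 L24036 q2482, e3 q2742 (flp_d L26045) q2956, e3 q2743 (flp_d L26315) q2984, e3 q2744 (flp_d L26319) q2985, e3 q2745 L24064 q2602, e3 q2746 (flp_d L26376) q2993, e3 q2747 (flp_d L26382) q2994, e3 q2748 L26436 q3001, e3 q2749 L24093 q2583, e3 q2750 (flp_d L25537) q2906, e3 q2751 (flp_d L26333) q2987, trivial⟩ (by decide +kernel)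

theorem ce_d_43 : ∀ r, r < 64 → sm gd (Qf (2752 + r)) = Qf (tab Gen.d (2752 + r)) :=
  edges_tab (sm gd) Qf (tab Gen.d) 2752 [(2752, 2989), (2753, 2938), (2754, 2940), (2755, 2498), (2756, 2756), (2757, 2757), (2758, 2758), (2759, 2501), (2760, 3007), (2761, 2502), (2762, 3008), (2763, 2508), (2764, 2504), (2765, 2507), (2766, 3009), (2767, 3010), (2768, 2547), (2769, 2548), (2770, 2524), (2771, 2542), (2772, 2939), (2773, 2514), (2774, 3017), (2775, 2516), (2776, 3019), (2777, 3020), (2778, 2518), (2779, 3023), (2780, 2527), (2781, 2522), (2782, 2520), (2783, 3026), (2784, 3015), (2785, 3022), (2786, 2526), (2787, 3025), (2788, 2604), (2789, 2789), (2790, 2530), (2791, 2531), (2792, 3035), (2793, 2543), (2794, 2533), (2795, 2545), (2796, 2796), (2797, 2546), (2798, 2538), (2799, 2539), (2800, 3011), (2801, 3044), (2802, 3045), (2803, 2929), (2804, 3036), (2805, 3012), (2806, 3038), (2807, 3040), (2808, 3051), (2809, 2585), (2810, 2932), (2811, 2553),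 (2812, 2555), (2813, 2557), (2814, 2814), (2815, 2563)]
    ⟨e3 q2752 (flp_d L26348) q2989, e3 q2753 (flp_d L25844) q2938, e3 q2754 (flp_d L25867) q2940, e3 q2755 L24152 q2498, e3 q2756 L24160 q2756, e3 q2757 L24172 q2757, e3 q2758 L24184 q2758, e3 q2759 (flp_d L24186) q2501, e3 q2760 (flp_d L26495) q3007, e3 q2761 (flp_d L24211) q2502, e3 q2762 (flp_d L26507) q3008, e3 q2763 L24243 q2508, e3 q2764 L24251 q2504, e3 q2765 L24261 q2507, e3 q2766 (flp_d L26515) q3009, e3 q2767 (flp_d L26529) q3010, e3 q2768 L24292 q2547, e3 q2769 L24300 q2548, e3 q2770 L24305 q2524, e3 q2771 L24315 q2542, e3 q2772 (flp_d L25859) q2939, e3 q2773 (flp_d L24327) q2514, e3 q2774 (flp_d L26597) q3017, e3 q2775 (flp_d L24352) q2516, e3 q2776 (flp_d L26620) q3019, e3 q2777 L26626 q3020, e3 q2778 (flp_d L24388) q2518, e3 q2779 (flp_d L26667) q3023, e3 q2780 L24418 q2527, e3 q2781 L24430 q2522, e3 q2782 L24436 q2520, e3 q2783 (flp_d L26698) q3026, e3 q2784 (flp_d L26580) q3015,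 e3 q2785 (flp_d L26659) q3022, e3 q2786 L24474 q2526, e3 q2787 (flp_d L26690) q3025, e3 q2788 L24492 q2604, e3 q2789 L24499 q2789, e3 q2790 L24504 q2530, e3 q2791 (flp_d L24506) q2531, e3 q2792 (flp_d L26767) q3035, e3 q2793 L24525 q2543, e3 q2794 L24531 q2533, e3 q2795 L24537 q2545, e3 q2796 L24545 q2796, e3 q2797 L24550 q2546, e3 q2798 L24556 q2538, e3 q2799 L24562 q2539, e3 q2800 (flp_d L26541) q3011, e3 q2801 (flp_d L26830) q3044, e3 q2802 (flp_d L26836) q3045, e3 q2803 (flp_d L25757) q2929, e3 q2804 (flp_d L26775) q3036, e3 q2805 (flp_d L26553) q3012, e3 q2806 (flp_d L26789) q3038, e3 q2807 (flp_d L26806) q3040, e3 q2808 L26882 q3051, e3 q2809 L24641 q2585, e3 q2810 (flp_d L25785) q2932, e3 q2811 L24656 q2553, e3 q2812 L24664 q2555, e3 q2813 L24672 q2557, e3 q2814 L24680 q2814, e3 q2815 L24685 q2563, trivial⟩ (by decide +kernel)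

theorem ce_d_44 : ∀ r, r < 64 → sm gd (Qf (2816 + r)) = Qf (tab Gen.d (2816 + r)) :=
  edges_tab (sm gd) Qf (tab Gen.d) 2816 [(2816, 2562), (2817, 2578), (2818, 2566), (2819, 2567), (2820, 3053), (2821, 3059), (2822, 2587), (2823, 2823), (2824, 2588), (2825, 2606), (2826, 2607), (2827, 3054), (2828, 2579), (2829, 2580), (2830, 3055), (2831, 2581), (2832, 2598), (2833, 2584), (2834, 2600), (2835, 2601), (2836, 2986), (2837, 2582), (2838, 3027), (2839, 3069), (2840, 3071), (2841, 3061), (2842, 3063), (2843, 2843), (2844, 2594), (2845, 2977), (2846, 2605), (2847, 3029), (2848, 3072), (2849, 3073), (2850, 2925), (2851, 3075), (2852, 3084), (2853, 2911), (2854, 3067), (2855, 2855), (2856, 2856), (2857, 2609), (2858, 2611), (2859, 2859), (2860, 2860), (2861, 2861), (2862, 2615), (2863, 2657), (2864, 2658), (2865, 2865), (2866, 2866), (2867, 2867), (2868, 3096), (2869, 2640), (2870, 2651), (2871, 2871), (2872, 2872), (2873, 2873), (2874, 2874), (2875, 2875),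 (2876, 2876), (2877, 3103), (2878, 2629), (2879, 3106)]
    ⟨e3 q2816 L24693 q2562, e3 q2817 L24699 q2578, e3 q2818 L24703 q2566, e3 q2819 L24711 q2567, e3 q2820 (flp_d L26900) q3053, e3 q2821 (flp_d L26947) q3059, e3 q2822 L24726 q2587, e3 q2823 L24736 q2823, e3 q2824 L24741 q2588, e3 q2825 L24745 q2606, e3 q2826 L24751 q2607, e3 q2827 (flp_d L26910) q3054, e3 q2828 L24761 q2579, e3 q2829 L24765 q2580, e3 q2830 (flp_d L26920) q3055, e3 q2831 L24777 q2581, e3 q2832 L24785 q2598, e3 q2833 L24791 q2584, e3 q2834 L24797 q2600, e3 q2835 L24803 q2601, e3 q2836 (flp_d L26329) q2986, e3 q2837 L24813 q2582, e3 q2838 (flp_d L26708) q3027, e3 q2839 (flp_d L27010) q3069, e3 q2840 (flp_d L27024) q3071, e3 q2841 (flp_d L26957) q3061, e3 q2842 (flp_d L26974) q3063, e3 q2843 L24858 q2843, e3 q2844 L24864 q2594, e3 q2845 (flp_d L26259) q2977, e3 q2846 L24878 q2605, e3 q2847 (flp_d L26727) q3029, e3 q2848 (flp_d L27032) q3072, e3 q2849 (flp_d L27038) q3073, e3 q2850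 (flp_d L25720) q2925, e3 q2851 (flp_d L27050) q3075, e3 q2852 L27108 q3084, e3 q2853 (flp_d L25597) q2911, e3 q2854 (flp_d L26998) q3067, e3 q2855 L24947 q2855, e3 q2856 L24959 q2856, e3 q2857 L24967 q2609, e3 q2858 L24980 q2611, e3 q2859 L24996 q2859, e3 q2860 L25008 q2860, e3 q2861 L25019 q2861, e3 q2862 L25028 q2615, e3 q2863 L25042 q2657, e3 q2864 L25056 q2658, e3 q2865 L25069 q2865, e3 q2866 L25078 q2866, e3 q2867 L25088 q2867, e3 q2868 L27252 q3096, e3 q2869 L25102 q2640, e3 q2870 L25120 q2651, e3 q2871 L25134 q2871, e3 q2872 L25138 q2872, e3 q2873 L25155 q2873, e3 q2874 L25167 q2874, e3 q2875 L25173 q2875, e3 q2876 L25185 q2876, e3 q2877 L27334 q3103, e3 q2878 (flp_d L25198) q2629, e3 q2879 (flp_d L27377) q3106, trivial⟩ (by decide +kernel)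

theorem ce_d_45 : ∀ r, r < 64 → sm gd (Qf (2880 + r)) = Qf (tab Gen.d (2880 + r)) :=
  edges_tab (sm gd) Qf (tab Gen.d) 2880 [(2880, 2635), (2881, 2632), (2882, 2631), (2883, 3109), (2884, 2673), (2885, 3108), (2886, 2682), (2887, 3113), (2888, 2639), (2889, 3117), (2890, 3097), (2891, 3116), (2892, 2642), (2893, 2893), (2894, 2676), (2895, 3121), (2896, 2646), (2897, 3125), (2898, 3126), (2899, 2648), (2900, 3128), (2901, 2659), (2902, 2652), (2903, 2650), (2904, 3130), (2905, 3131), (2906, 2750), (2907, 2698), (2908, 2713), (2909, 3092), (2910, 3129), (2911, 2853), (2912, 2661), (2913, 3137), (2914, 2914), (2915, 2915), (2916, 2663), (2917, 2664), (2918, 3144), (2919, 2666), (2920, 2680), (2921, 2681), (2922, 2671), (2923, 2672), (2924, 3110), (2925, 2850), (2926, 3149), (2927, 3150), (2928, 3154), (2929, 2803), (2930, 3119), (2931, 2678), (2932, 2810), (2933, 3146), (2934, 3147), (2935, 3159), (2936, 2936), (2937, 2690), (2938, 2753), (2939, 2772),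 (2940, 2754), (2941, 3156), (2942, 2692), (2943, 2943)]
    ⟨e3 q2880 L25234 q2635, e3 q2881 L25244 q2632, e3 q2882 L25254 q2631, e3 q2883 (flp_d L27418) q3109, e3 q2884 L25284 q2673, e3 q2885 (flp_d L27406) q3108, e3 q2886 L25311 q2682, e3 q2887 L27466 q3113, e3 q2888 (flp_d L25327) q2639, e3 q2889 (flp_d L27534) q3117, e3 q2890 (flp_d L27267) q3097, e3 q2891 (flp_d L27524) q3116, e3 q2892 L25381 q2642, e3 q2893 L25391 q2893, e3 q2894 L25404 q2676, e3 q2895 L27573 q3121, e3 q2896 (flp_d L25419) q2646, e3 q2897 (flp_d L27639) q3125, e3 q2898 L27643 q3126, e3 q2899 (flp_d L25454) q2648, e3 q2900 (flp_d L27680) q3128, e3 q2901 L25484 q2659, e3 q2902 L25498 q2652, e3 q2903 L25504 q2650, e3 q2904 (flp_d L27710) q3130, e3 q2905 (flp_d L27724) q3131, e3 q2906 L25537 q2750, e3 q2907 L25546 q2698, e3 q2908 L25561 q2713, e3 q2909 (flp_d L27209) q3092, e3 q2910 (flp_d L27694) q3129, e3 q2911 L25597 q2853, e3 q2912 (flp_d L25600) q2661, e3 q2913 (flp_d L27795)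 q3137, e3 q2914 L25628 q2914, e3 q2915 L25635 q2915, e3 q2916 L25640 q2663, e3 q2917 (flp_d L25644) q2664, e3 q2918 (flp_d L27872) q3144, e3 q2919 L25671 q2666, e3 q2920 L25677 q2680, e3 q2921 L25687 q2681, e3 q2922 L25695 q2671, e3 q2923 L25703 q2672, e3 q2924 (flp_d L27436) q3110, e3 q2925 L25720 q2850, e3 q2926 (flp_d L27926) q3149, e3 q2927 (flp_d L27938) q3150, e3 q2928 L27973 q3154, e3 q2929 L25757 q2803, e3 q2930 (flp_d L27560) q3119, e3 q2931 L25773 q2678, e3 q2932 L25785 q2810, e3 q2933 (flp_d L27890) q3146, e3 q2934 (flp_d L27908) q3147, e3 q2935 L28022 q3159, e3 q2936 L25821 q2936, e3 q2937 L25835 q2690, e3 q2938 L25844 q2753, e3 q2939 L25859 q2772, e3 q2940 L25867 q2754, e3 q2941 (flp_d L27996) q3156, e3 q2942 L25885 q2692, e3 q2943 L25899 q2943, trivial⟩ (by decide +kernel)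

theorem ce_d_46 : ∀ r, r < 64 → sm gd (Qf (2944 + r)) = Qf (tab Gen.d (2944 + r)) :=
  edges_tab (sm gd) Qf (tab Gen.d) 2944 [(2944, 2944), (2945, 3165), (2946, 2697), (2947, 3166), (2948, 2701), (2949, 2700), (2950, 3167), (2951, 2729), (2952, 2952), (2953, 2705), (2954, 2708), (2955, 2709), (2956, 2742), (2957, 3172), (2958, 3175), (2959, 2718), (2960, 3135), (2961, 2714), (2962, 3177), (2963, 2715), (2964, 3178), (2965, 2965), (2966, 2717), (2967, 2967), (2968, 2720), (2969, 2726), (2970, 2722), (2971, 2971), (2972, 2730), (2973, 2728), (2974, 3168), (2975, 3183), (2976, 3184), (2977, 2845), (2978, 3191), (2979, 2979), (2980, 2980), (2981, 3171), (2982, 2982), (2983, 2734), (2984, 2743), (2985, 2744), (2986, 2836), (2987, 2751), (2988, 2988), (2989, 2752), (2990, 2990), (2991, 2991), (2992, 3196), (2993, 2746), (2994, 2747), (2995, 3209), (2996, 3197), (2997, 3198), (2998, 3212), (2999, 3207), (3000, 3214), (3001, 2748), (3002, 3098), (3003, 3200),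 (3004, 3004), (3005, 3005), (3006, 3217), (3007, 2760)]
    ⟨e3 q2944 L25906 q2944, e3 q2945 L28080 q3165, e3 q2946 (flp_d L25920) q2697, e3 q2947 (flp_d L28093) q3166, e3 q2948 L25957 q2701, e3 q2949 L25965 q2700, e3 q2950 (flp_d L28105) q3167, e3 q2951 L25991 q2729, e3 q2952 L26004 q2952, e3 q2953 L26011 q2705, e3 q2954 L26023 q2708, e3 q2955 L26031 q2709, e3 q2956 L26045 q2742, e3 q2957 (flp_d L28167) q3172, e3 q2958 L28192 q3175, e3 q2959 L26070 q2718, e3 q2960 (flp_d L27773) q3135, e3 q2961 (flp_d L26082) q2714, e3 q2962 (flp_d L28215) q3177, e3 q2963 (flp_d L26109) q2715, e3 q2964 (flp_d L28225) q3178, e3 q2965 L26138 q2965, e3 q2966 L26143 q2717, e3 q2967 L26157 q2967, e3 q2968 L26164 q2720, e3 q2969 L26180 q2726, e3 q2970 L26188 q2722, e3 q2971 L26204 q2971, e3 q2972 L26211 q2730, e3 q2973 L26221 q2728, e3 q2974 (flp_d L28121) q3168, e3 q2975 (flp_d L28279) q3183, e3 q2976 (flp_d L28293) q3184, e3 q2977 L26259 q2845, e3 q2978 L28366 q3191, e3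 q2979 L26272 q2979, e3 q2980 L26279 q2980, e3 q2981 (flp_d L28157) q3171, e3 q2982 L26298 q2982, e3 q2983 L26305 q2734, e3 q2984 L26315 q2743, e3 q2985 L26319 q2744, e3 q2986 L26329 q2836, e3 q2987 L26333 q2751, e3 q2988 L26343 q2988, e3 q2989 L26348 q2752, e3 q2990 L26356 q2990, e3 q2991 L26363 q2991, e3 q2992 (flp_d L28420) q3196, e3 q2993 L26376 q2746, e3 q2994 L26382 q2747, e3 q2995 L28538 q3209, e3 q2996 (flp_d L28432) q3197, e3 q2997 (flp_d L28444) q3198, e3 q2998 L28563 q3212, e3 q2999 (flp_d L28526) q3207, e3 q3000 L28580 q3214, e3 q3001 (flp_d L26436) q2748, e3 q3002 (flp_d L27285) q3098, e3 q3003 (flp_d L28458) q3200, e3 q3004 L26468 q3004, e3 q3005 L26476 q3005, e3 q3006 L28599 q3217, e3 q3007 L26495 q2760, trivial⟩ (by decide +kernel)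

theorem ce_d_47 : ∀ r, r < 64 → sm gd (Qf (3008 + r)) = Qf (tab Gen.d (3008 + r)) :=
  edges_tab (sm gd) Qf (tab Gen.d) 3008 [(3008, 2762), (3009, 2766), (3010, 2767), (3011, 2800), (3012, 2805), (3013, 3220), (3014, 3223), (3015, 2784), (3016, 3161), (3017, 2774), (3018, 3018), (3019, 2776), (3020, 2777), (3021, 3228), (3022, 2785), (3023, 2779), (3024, 3024), (3025, 2787), (3026, 2783), (3027, 2838), (3028, 3229), (3029, 2847), (3030, 3235), (3031, 3031), (3032, 3032), (3033, 3218), (3034, 3034), (3035, 2792), (3036, 2804), (3037, 3219), (3038, 2806), (3039, 3039), (3040, 2807), (3041, 3041), (3042, 3042), (3043, 3246), (3044, 2801), (3045, 2802), (3046, 3225), (3047, 3247), (3048, 3249), (3049, 3241), (3050, 3251), (3051, 2808), (3052, 3093), (3053, 2820), (3054, 2827), (3055, 2830), (3056, 3056), (3057, 3182), (3058, 3233), (3059, 2821), (3060, 3185), (3061, 2841), (3062, 3062), (3063, 2842), (3064, 3064), (3065, 3065), (3066, 3187), (3067, 2854),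 (3068, 3227), (3069, 2839), (3070, 3230), (3071, 2840)]
    ⟨e3 q3008 L26507 q2762, e3 q3009 L26515 q2766, e3 q3010 L26529 q2767, e3 q3011 L26541 q2800, e3 q3012 L26553 q2805, e3 q3013 (flp_d L28640) q3220, e3 q3014 L28665 q3223, e3 q3015 L26580 q2784, e3 q3016 (flp_d L28047) q3161, e3 q3017 L26597 q2774, e3 q3018 L26613 q3018, e3 q3019 L26620 q2776, e3 q3020 (flp_d L26626) q2777, e3 q3021 (flp_d L28727) q3228, e3 q3022 L26659 q2785, e3 q3023 L26667 q2779, e3 q3024 L26683 q3024, e3 q3025 L26690 q2787, e3 q3026 L26698 q2783, e3 q3027 L26708 q2838, e3 q3028 (flp_d L28737) q3229, e3 q3029 L26727 q2847, e3 q3030 L28798 q3235, e3 q3031 L26740 q3031, e3 q3032 L26749 q3032, e3 q3033 (flp_d L28616) q3218, e3 q3034 L26762 q3034, e3 q3035 L26767 q2792, e3 q3036 L26775 q2804, e3 q3037 (flp_d L28630) q3219, e3 q3038 L26789 q2806, e3 q3039 L26799 q3039, e3 q3040 L26806 q2807, e3 q3041 L26812 q3041, e3 q3042 L26817 q3042, e3 q3043 L28877 q3246, e3 q3044 L26830 q2801,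 e3 q3045 L26836 q2802, e3 q3046 (flp_d L28692) q3225, e3 q3047 (flp_d L28887) q3247, e3 q3048 L28897 q3249, e3 q3049 (flp_d L28845) q3241, e3 q3050 L28912 q3251, e3 q3051 (flp_d L26882) q2808, e3 q3052 (flp_d L27228) q3093, e3 q3053 L26900 q2820, e3 q3054 L26910 q2827, e3 q3055 L26920 q2830, e3 q3056 L26928 q3056, e3 q3057 (flp_d L28267) q3182, e3 q3058 (flp_d L28784) q3233, e3 q3059 L26947 q2821, e3 q3060 (flp_d L28309) q3185, e3 q3061 L26957 q2841, e3 q3062 L26969 q3062, e3 q3063 L26974 q2842, e3 q3064 L26980 q3064, e3 q3065 L26987 q3065, e3 q3066 (flp_d L28334) q3187, e3 q3067 L26998 q2854, e3 q3068 (flp_d L28717) q3227, e3 q3069 L27010 q2839, e3 q3070 (flp_d L28753) q3230, e3 q3071 L27024 q2840, trivial⟩ (by decide +kernel)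

theorem ce_d_48 : ∀ r, r < 64 → sm gd (Qf (3072 + r)) = Qf (tab Gen.d (3072 + r)) :=
  edges_tab (sm gd) Qf (tab Gen.d) 3072 [(3072, 2848), (3073, 2849), (3074, 3145), (3075, 2851), (3076, 3266), (3077, 3132), (3078, 3255), (3079, 3176), (3080, 3224), (3081, 3263), (3082, 3268), (3083, 3269), (3084, 2852), (3085, 3085), (3086, 3086), (3087, 3087), (3088, 3088), (3089, 3089), (3090, 3273), (3091, 3091), (3092, 2909), (3093, 3052), (3094, 3094), (3095, 3276), (3096, 2868), (3097, 2890), (3098, 3002), (3099, 3099), (3100, 3280), (3101, 3101), (3102, 3282), (3103, 2877), (3104, 3104), (3105, 3105), (3106, 2879), (3107, 3107), (3108, 2885), (3109, 2883), (3110, 2924), (3111, 3290), (3112, 3291), (3113, 2887), (3114, 3292), (3115, 3115), (3116, 2891), (3117, 2889), (3118, 3294), (3119, 2930), (3120, 3277), (3121, 2895), (3122, 3297), (3123, 3123), (3124, 3124), (3125, 2897), (3126, 2898), (3127, 3301), (3128, 2900), (3129, 2910), (3130, 2904), (3131, 2905),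 (3132, 3077), (3133, 3304), (3134, 3307), (3135, 2960)]
    ⟨e3 q3072 L27032 q2848, e3 q3073 L27038 q2849, e3 q3074 (flp_d L27884) q3145, e3 q3075 L27050 q2851, e3 q3076 L29003 q3266, e3 q3077 (flp_d L27736) q3132, e3 q3078 (flp_d L28935) q3255, e3 q3079 (flp_d L28206) q3176, e3 q3080 (flp_d L28679) q3224, e3 q3081 (flp_d L28987) q3263, e3 q3082 L29016 q3268, e3 q3083 L29021 q3269, e3 q3084 (flp_d L27108) q2852, e3 q3085 L27118 q3085, e3 q3086 L27131 q3086, e3 q3087 L27145 q3087, e3 q3088 L27161 q3088, e3 q3089 L27171 q3089, e3 q3090 L29067 q3273, e3 q3091 L27200 q3091, e3 q3092 L27209 q2909, e3 q3093 L27228 q3052, e3 q3094 L27238 q3094, e3 q3095 L29106 q3276, e3 q3096 (flp_d L27252) q2868, e3 q3097 L27267 q2890, e3 q3098 L27285 q3002, e3 q3099 L27296 q3099, e3 q3100 L29154 q3280, e3 q3101 L27320 q3101, e3 q3102 L29177 q3282, e3 q3103 (flp_d L27334) q2877, e3 q3104 L27353 q3104, e3 q3105 L27368 q3105, e3 q3106 L27377 q2879, e3 q3107 L27395 q3107, e3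 q3108 L27406 q2885, e3 q3109 L27418 q2883, e3 q3110 L27436 q2924, e3 q3111 L29277 q3290, e3 q3112 L29290 q3291, e3 q3113 (flp_d L27466) q2887, e3 q3114 (flp_d L29311) q3292, e3 q3115 L27509 q3115, e3 q3116 L27524 q2891, e3 q3117 L27534 q2889, e3 q3118 (flp_d L29342) q3294, e3 q3119 L27560 q2930, e3 q3120 (flp_d L29121) q3277, e3 q3121 (flp_d L27573) q2895, e3 q3122 (flp_d L29385) q3297, e3 q3123 L27615 q3123, e3 q3124 L27630 q3124, e3 q3125 L27639 q2897, e3 q3126 (flp_d L27643) q2898, e3 q3127 (flp_d L29443) q3301, e3 q3128 L27680 q2900, e3 q3129 L27694 q2910, e3 q3130 L27710 q2904, e3 q3131 L27724 q2905, e3 q3132 L27736 q3077, e3 q3133 (flp_d L29485) q3304, e3 q3134 L29518 q3307, e3 q3135 L27773 q2960, trivial⟩ (by decide +kernel)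

theorem ce_d_49 : ∀ r, r < 64 → sm gd (Qf (3136 + r)) = Qf (tab Gen.d (3136 + r)) :=
  edges_tab (sm gd) Qf (tab Gen.d) 3136 [(3136, 3308), (3137, 2913), (3138, 3138), (3139, 3139), (3140, 3140), (3141, 3141), (3142, 3286), (3143, 3143), (3144, 2918), (3145, 3074), (3146, 2933), (3147, 2934), (3148, 3318), (3149, 2926), (3150, 2927), (3151, 3321), (3152, 3319), (3153, 3323), (3154, 2928), (3155, 3278), (3156, 2941), (3157, 3316), (3158, 3326), (3159, 2935), (3160, 3283), (3161, 3016), (3162, 3274), (3163, 3163), (3164, 3328), (3165, 2945), (3166, 2947), (3167, 2950), (3168, 2974), (3169, 3331), (3170, 3170), (3171, 2981), (3172, 2957), (3173, 3334), (3174, 3335), (3175, 2958), (3176, 3079), (3177, 2962), (3178, 2964), (3179, 3179), (3180, 3329), (3181, 3181), (3182, 3057), (3183, 2975), (3184, 2976), (3185, 3060), (3186, 3186), (3187, 3066), (3188, 3344), (3189, 3341), (3190, 3346), (3191, 2978), (3192, 3192), (3193, 3193), (3194, 3350), (3195, 3195),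 (3196, 2992), (3197, 2996), (3198, 2997), (3199, 3354)]
    ⟨e3 q3136 L29529 q3308, e3 q3137 L27795 q2913, e3 q3138 L27803 q3138, e3 q3139 L27820 q3139, e3 q3140 L27831 q3140, e3 q3141 L27842 q3141, e3 q3142 (flp_d L29234) q3286, e3 q3143 L27865 q3143, e3 q3144 L27872 q2918, e3 q3145 L27884 q3074, e3 q3146 L27890 q2933, e3 q3147 L27908 q2934, e3 q3148 L29653 q3318, e3 q3149 L27926 q2926, e3 q3150 L27938 q2927, e3 q3151 L29683 q3321, e3 q3152 (flp_d L29667) q3319, e3 q3153 L29704 q3323, e3 q3154 (flp_d L27973) q2928, e3 q3155 (flp_d L29136) q3278, e3 q3156 L27996 q2941, e3 q3157 (flp_d L29637) q3316, e3 q3158 L29735 q3326, e3 q3159 (flp_d L28022) q2935, e3 q3160 (flp_d L29192) q3283, e3 q3161 L28047 q3016, e3 q3162 (flp_d L29090) q3274, e3 q3163 L28068 q3163, e3 q3164 L29751 q3328, e3 q3165 (flp_d L28080) q2945, e3 q3166 L28093 q2947, e3 q3167 L28105 q2950, e3 q3168 L28121 q2974, e3 q3169 L29784 q3331, e3 q3170 L28142 q3170, e3 q3171 L28157 q2981, e3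 q3172 L28167 q2957, e3 q3173 L29817 q3334, e3 q3174 L29825 q3335, e3 q3175 (flp_d L28192) q2958, e3 q3176 L28206 q3079, e3 q3177 L28215 q2962, e3 q3178 L28225 q2964, e3 q3179 L28235 q3179, e3 q3180 (flp_d L29768) q3329, e3 q3181 L28252 q3181, e3 q3182 L28267 q3057, e3 q3183 L28279 q2975, e3 q3184 L28293 q2976, e3 q3185 L28309 q3060, e3 q3186 L28319 q3186, e3 q3187 L28334 q3066, e3 q3188 L29929 q3344, e3 q3189 (flp_d L29897) q3341, e3 q3190 L29948 q3346, e3 q3191 (flp_d L28366) q2978, e3 q3192 L28379 q3192, e3 q3193 L28388 q3193, e3 q3194 L29992 q3350, e3 q3195 L28405 q3195, e3 q3196 L28420 q2992, e3 q3197 L28432 q2996, e3 q3198 L28444 q2997, e3 q3199 L30031 q3354, trivial⟩ (by decide +kernel)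

theorem ce_d_50 : ∀ r, r < 64 → sm gd (Qf (3200 + r)) = Qf (tab Gen.d (3200 + r)) :=
  edges_tab (sm gd) Qf (tab Gen.d) 3200 [(3200, 3003), (3201, 3201), (3202, 3202), (3203, 3315), (3204, 3204), (3205, 3205), (3206, 3360), (3207, 2999), (3208, 3362), (3209, 2995), (3210, 3352), (3211, 3365), (3212, 2998), (3213, 3327), (3214, 3000), (3215, 3215), (3216, 3369), (3217, 3006), (3218, 3033), (3219, 3037), (3220, 3013), (3221, 3371), (3222, 3372), (3223, 3014), (3224, 3080), (3225, 3046), (3226, 3226), (3227, 3068), (3228, 3021), (3229, 3028), (3230, 3070), (3231, 3231), (3232, 3377), (3233, 3058), (3234, 3336), (3235, 3030), (3236, 3236), (3237, 3379), (3238, 3238), (3239, 3337), (3240, 3381), (3241, 3049), (3242, 3242), (3243, 3384), (3244, 3244), (3245, 3386), (3246, 3043), (3247, 3047), (3248, 3295), (3249, 3048), (3250, 3324), (3251, 3050), (3252, 3252), (3253, 3389), (3254, 3338), (3255, 3078), (3256, 3256), (3257, 3309), (3258, 3258), (3259, 3393),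 (3260, 3300), (3261, 3374), (3262, 3302), (3263, 3081)]
    ⟨e3 q3200 L28458 q3003, e3 q3201 L28472 q3201, e3 q3202 L28483 q3202, e3 q3203 (flp_d L29625) q3315, e3 q3204 L28500 q3204, e3 q3205 L28511 q3205, e3 q3206 L30091 q3360, e3 q3207 L28526 q2999, e3 q3208 L30102 q3362, e3 q3209 (flp_d L28538) q2995, e3 q3210 (flp_d L30017) q3352, e3 q3211 L30125 q3365, e3 q3212 (flp_d L28563) q2998, e3 q3213 (flp_d L29749) q3327, e3 q3214 (flp_d L28580) q3000, e3 q3215 L28588 q3215, e3 q3216 L30158 q3369, e3 q3217 (flp_d L28599) q3006, e3 q3218 L28616 q3033, e3 q3219 L28630 q3037, e3 q3220 L28640 q3013, e3 q3221 L30175 q3371, e3 q3222 L30183 q3372, e3 q3223 (flp_d L28665) q3014, e3 q3224 L28679 q3080, e3 q3225 L28692 q3046, e3 q3226 L28702 q3226, e3 q3227 L28717 q3068, e3 q3228 L28727 q3021, e3 q3229 L28737 q3028, e3 q3230 L28753 q3070, e3 q3231 L28763 q3231, e3 q3232 L30238 q3377, e3 q3233 L28784 q3058, e3 q3234 (flp_d L29841) q3336, e3 q3235 (flp_d L28798) q3030,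 e3 q3236 L28811 q3236, e3 q3237 L30254 q3379, e3 q3238 L28824 q3238, e3 q3239 (flp_d L29853) q3337, e3 q3240 L30267 q3381, e3 q3241 L28845 q3049, e3 q3242 L28855 q3242, e3 q3243 L30289 q3384, e3 q3244 L28868 q3244, e3 q3245 L30301 q3386, e3 q3246 (flp_d L28877) q3043, e3 q3247 L28887 q3047, e3 q3248 (flp_d L29358) q3295, e3 q3249 (flp_d L28897) q3048, e3 q3250 (flp_d L29718) q3324, e3 q3251 (flp_d L28912) q3050, e3 q3252 L28920 q3252, e3 q3253 L30316 q3389, e3 q3254 (flp_d L29865) q3338, e3 q3255 L28935 q3078, e3 q3256 L28943 q3256, e3 q3257 (flp_d L29552) q3309, e3 q3258 L28956 q3258, e3 q3259 L30343 q3393, e3 q3260 (flp_d L29431) q3300, e3 q3261 (flp_d L30210) q3374, e3 q3262 (flp_d L29461) q3302, e3 q3263 L28987 q3081, trivial⟩ (by decide +kernel)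

theorem ce_d_51 : ∀ r, r < 64 → sm gd (Qf (3264 + r)) = Qf (tab Gen.d (3264 + r)) :=
  edges_tab (sm gd) Qf (tab Gen.d) 3264 [(3264, 3395), (3265, 3396), (3266, 3076), (3267, 3397), (3268, 3082), (3269, 3083), (3270, 3399), (3271, 3400), (3272, 3401), (3273, 3090), (3274, 3162), (3275, 3402), (3276, 3095), (3277, 3120), (3278, 3155), (3279, 3403), (3280, 3100), (3281, 3404), (3282, 3102), (3283, 3160), (3284, 3284), (3285, 3285), (3286, 3142), (3287, 3287), (3288, 3408), (3289, 3409), (3290, 3111), (3291, 3112), (3292, 3114), (3293, 3293), (3294, 3118), (3295, 3248), (3296, 3415), (3297, 3122), (3298, 3298), (3299, 3299), (3300, 3260), (3301, 3127), (3302, 3262), (3303, 3420), (3304, 3133), (3305, 3422), (3306, 3423), (3307, 3134), (3308, 3136), (3309, 3257), (3310, 3310), (3311, 3425), (3312, 3312), (3313, 3427), (3314, 3314), (3315, 3203), (3316, 3157), (3317, 3430), (3318, 3148), (3319, 3152), (3320, 3433), (3321, 3151), (3322, 3435), (3323, 3153),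 (3324, 3250), (3325, 3436), (3326, 3158), (3327, 3213)]
    ⟨e3 q3264 L30354 q3395, e3 q3265 L30360 q3396, e3 q3266 (flp_d L29003) q3076, e3 q3267 L30366 q3397, e3 q3268 (flp_d L29016) q3082, e3 q3269 (flp_d L29021) q3083, e3 q3270 L30379 q3399, e3 q3271 L30391 q3400, e3 q3272 L30403 q3401, e3 q3273 (flp_d L29067) q3090, e3 q3274 L29090 q3162, e3 q3275 L30419 q3402, e3 q3276 (flp_d L29106) q3095, e3 q3277 L29121 q3120, e3 q3278 L29136 q3155, e3 q3279 (flp_d L30443) q3403, e3 q3280 (flp_d L29154) q3100, e3 q3281 (flp_d L30460) q3404, e3 q3282 (flp_d L29177) q3102, e3 q3283 L29192 q3160, e3 q3284 L29202 q3284, e3 q3285 L29217 q3285, e3 q3286 L29234 q3142, e3 q3287 L29246 q3287, e3 q3288 L30511 q3408, e3 q3289 L30525 q3409, e3 q3290 (flp_d L29277) q3111, e3 q3291 (flp_d L29290) q3112, e3 q3292 L29311 q3114, e3 q3293 L29327 q3293, e3 q3294 L29342 q3118, e3 q3295 L29358 q3248, e3 q3296 L30613 q3415, e3 q3297 L29385 q3122, e3 q3298 L29401 q3298, e3 q3299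 L29416 q3299, e3 q3300 L29431 q3260, e3 q3301 L29443 q3127, e3 q3302 L29461 q3262, e3 q3303 L30696 q3420, e3 q3304 L29485 q3133, e3 q3305 L30728 q3422, e3 q3306 L30740 q3423, e3 q3307 (flp_d L29518) q3134, e3 q3308 (flp_d L29529) q3136, e3 q3309 L29552 q3257, e3 q3310 L29564 q3310, e3 q3311 L30771 q3425, e3 q3312 L29587 q3312, e3 q3313 L30794 q3427, e3 q3314 L29610 q3314, e3 q3315 L29625 q3203, e3 q3316 L29637 q3157, e3 q3317 L30833 q3430, e3 q3318 (flp_d L29653) q3148, e3 q3319 L29667 q3152, e3 q3320 L30867 q3433, e3 q3321 (flp_d L29683) q3151, e3 q3322 L30885 q3435, e3 q3323 (flp_d L29704) q3153, e3 q3324 L29718 q3250, e3 q3325 (flp_d L30913) q3436, e3 q3326 (flp_d L29735) q3158, e3 q3327 L29749 q3213, trivial⟩ (by decide +kernel)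

theorem ce_d_52 : ∀ r, r < 64 → sm gd (Qf (3328 + r)) = Qf (tab Gen.d (3328 + r)) :=
  edges_tab (sm gd) Qf (tab Gen.d) 3328 [(3328, 3164), (3329, 3180), (3330, 3439), (3331, 3169), (3332, 3440), (3333, 3441), (3334, 3173), (3335, 3174), (3336, 3234), (3337, 3239), (3338, 3254), (3339, 3443), (3340, 3444), (3341, 3189), (3342, 3446), (3343, 3447), (3344, 3188), (3345, 3437), (3346, 3190), (3347, 3347), (3348, 3348), (3349, 3450), (3350, 3194), (3351, 3452), (3352, 3210), (3353, 3454), (3354, 3199), (3355, 3419), (3356, 3356), (3357, 3457), (3358, 3358), (3359, 3459), (3360, 3206), (3361, 3431), (3362, 3208), (3363, 3460), (3364, 3438), (3365, 3211), (3366, 3366), (3367, 3367), (3368, 3368), (3369, 3216), (3370, 3465), (3371, 3221), (3372, 3222), (3373, 3466), (3374, 3261), (3375, 3442), (3376, 3467), (3377, 3232), (3378, 3468), (3379, 3237), (3380, 3469), (3381, 3240), (3382, 3434), (3383, 3470), (3384, 3243), (3385, 3471), (3386, 3245), (3387, 3451),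 (3388, 3412), (3389, 3253), (3390, 3416), (3391, 3472)]
    ⟨e3 q3328 (flp_d L29751) q3164, e3 q3329 L29768 q3180, e3 q3330 L30941 q3439, e3 q3331 (flp_d L29784) q3169, e3 q3332 L30955 q3440, e3 q3333 L30968 q3441, e3 q3334 (flp_d L29817) q3173, e3 q3335 (flp_d L29825) q3174, e3 q3336 L29841 q3234, e3 q3337 L29853 q3239, e3 q3338 L29865 q3254, e3 q3339 L30990 q3443, e3 q3340 L30995 q3444, e3 q3341 L29897 q3189, e3 q3342 L31022 q3446, e3 q3343 L31036 q3447, e3 q3344 (flp_d L29929) q3188, e3 q3345 (flp_d L30917) q3437, e3 q3346 (flp_d L29948) q3190, e3 q3347 L29968 q3347, e3 q3348 L29977 q3348, e3 q3349 L31073 q3450, e3 q3350 (flp_d L29992) q3194, e3 q3351 L31089 q3452, e3 q3352 L30017 q3210, e3 q3353 L31118 q3454, e3 q3354 (flp_d L30031) q3199, e3 q3355 (flp_d L30692) q3419, e3 q3356 L30055 q3356, e3 q3357 L31152 q3457, e3 q3358 L30076 q3358, e3 q3359 L31173 q3459, e3 q3360 (flp_d L30091) q3206, e3 q3361 (flp_d L30849) q3431, e3 q3362 (flp_d L30102)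 q3208, e3 q3363 (flp_d L31185) q3460, e3 q3364 (flp_d L30934) q3438, e3 q3365 (flp_d L30125) q3211, e3 q3366 L30141 q3366, e3 q3367 L30149 q3367, e3 q3368 L30154 q3368, e3 q3369 (flp_d L30158) q3216, e3 q3370 L31227 q3465, e3 q3371 (flp_d L30175) q3221, e3 q3372 (flp_d L30183) q3222, e3 q3373 L31235 q3466, e3 q3374 L30210 q3261, e3 q3375 (flp_d L30988) q3442, e3 q3376 L31246 q3467, e3 q3377 (flp_d L30238) q3232, e3 q3378 L31257 q3468, e3 q3379 (flp_d L30254) q3237, e3 q3380 L31264 q3469, e3 q3381 (flp_d L30267) q3240, e3 q3382 (flp_d L30883) q3434, e3 q3383 L31269 q3470, e3 q3384 (flp_d L30289) q3243, e3 q3385 L31274 q3471, e3 q3386 (flp_d L30301) q3245, e3 q3387 (flp_d L31087) q3451, e3 q3388 (flp_d L30577) q3412, e3 q3389 (flp_d L30316) q3253, e3 q3390 (flp_d L30642) q3416, e3 q3391 L31279 q3472, trivial⟩ (by decide +kernel)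

theorem ce_d_53 : ∀ r, r < 64 → sm gd (Qf (3392 + r)) = Qf (tab Gen.d (3392 + r)) :=
  edges_tab (sm gd) Qf (tab Gen.d) 3392 [(3392, 3473), (3393, 3259), (3394, 3474), (3395, 3264), (3396, 3265), (3397, 3267), (3398, 3398), (3399, 3270), (3400, 3271), (3401, 3272), (3402, 3275), (3403, 3279), (3404, 3281), (3405, 3476), (3406, 3477), (3407, 3478), (3408, 3288), (3409, 3289), (3410, 3410), (3411, 3411), (3412, 3388), (3413, 3482), (3414, 3483), (3415, 3296), (3416, 3390), (3417, 3484), (3418, 3485), (3419, 3355), (3420, 3303), (3421, 3486), (3422, 3305), (3423, 3306), (3424, 3487), (3425, 3311), (3426, 3489), (3427, 3313), (3428, 3491), (3429, 3492), (3430, 3317), (3431, 3361), (3432, 3493), (3433, 3320), (3434, 3382), (3435, 3322), (3436, 3325), (3437, 3345), (3438, 3364), (3439, 3330), (3440, 3332), (3441, 3333), (3442, 3375), (3443, 3339), (3444, 3340), (3445, 3495), (3446, 3342), (3447, 3343), (3448, 3497), (3449, 3488), (3450, 3349), (3451, 3387),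 (3452, 3351), (3453, 3494), (3454, 3353), (3455, 3496)]
    ⟨e3 q3392 L31286 q3473, e3 q3393 (flp_d L30343) q3259, e3 q3394 L31293 q3474, e3 q3395 (flp_d L30354) q3264, e3 q3396 (flp_d L30360) q3265, e3 q3397 (flp_d L30366) q3267, e3 q3398 L30378 q3398, e3 q3399 (flp_d L30379) q3270, e3 q3400 (flp_d L30391) q3271, e3 q3401 (flp_d L30403) q3272, e3 q3402 (flp_d L30419) q3275, e3 q3403 L30443 q3279, e3 q3404 L30460 q3281, e3 q3405 L31307 q3476, e3 q3406 L31322 q3477, e3 q3407 L31337 q3478, e3 q3408 (flp_d L30511) q3288, e3 q3409 (flp_d L30525) q3289, e3 q3410 L30550 q3410, e3 q3411 L30562 q3411, e3 q3412 L30577 q3388, e3 q3413 L31388 q3482, e3 q3414 L31405 q3483, e3 q3415 (flp_d L30613) q3296, e3 q3416 L30642 q3390, e3 q3417 L31423 q3484, e3 q3418 L31440 q3485, e3 q3419 L30692 q3355, e3 q3420 (flp_d L30696) q3303, e3 q3421 L31457 q3486, e3 q3422 (flp_d L30728) q3305, e3 q3423 (flp_d L30740) q3306, e3 q3424 L31475 q3487, e3 q3425 (flp_d L30771) q3311,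 e3 q3426 L31507 q3489, e3 q3427 (flp_d L30794) q3313, e3 q3428 L31539 q3491, e3 q3429 L31556 q3492, e3 q3430 (flp_d L30833) q3317, e3 q3431 L30849 q3361, e3 q3432 (flp_d L31588) q3493, e3 q3433 (flp_d L30867) q3320, e3 q3434 L30883 q3382, e3 q3435 (flp_d L30885) q3322, e3 q3436 L30913 q3325, e3 q3437 L30917 q3345, e3 q3438 L30934 q3364, e3 q3439 (flp_d L30941) q3330, e3 q3440 (flp_d L30955) q3332, e3 q3441 (flp_d L30968) q3333, e3 q3442 L30988 q3375, e3 q3443 (flp_d L30990) q3339, e3 q3444 (flp_d L30995) q3340, e3 q3445 (flp_d L31610) q3495, e3 q3446 (flp_d L31022) q3342, e3 q3447 (flp_d L31036) q3343, e3 q3448 (flp_d L31648) q3497, e3 q3449 (flp_d L31503) q3488, e3 q3450 (flp_d L31073) q3349, e3 q3451 L31087 q3387, e3 q3452 (flp_d L31089) q3351, e3 q3453 (flp_d L31598) q3494, e3 q3454 (flp_d L31118) q3353, e3 q3455 (flp_d L31635) q3496, trivial⟩ (by decide +kernel)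

theorem ce_d_54 : ∀ r, r < 54 → sm gd (Qf (3456 + r)) = Qf (tab Gen.d (3456 + r)) :=
  edges_tab (sm gd) Qf (tab Gen.d) 3456 [(3456, 3490), (3457, 3357), (3458, 3502), (3459, 3359), (3460, 3363), (3461, 3499), (3462, 3498), (3463, 3463), (3464, 3464), (3465, 3370), (3466, 3373), (3467, 3376), (3468, 3378), (3469, 3380), (3470, 3383), (3471, 3385), (3472, 3391), (3473, 3392), (3474, 3394), (3475, 3503), (3476, 3405), (3477, 3406), (3478, 3407), (3479, 3508), (3480, 3507), (3481, 3481), (3482, 3413), (3483, 3414), (3484, 3417), (3485, 3418), (3486, 3421), (3487, 3424), (3488, 3449), (3489, 3426), (3490, 3456), (3491, 3428), (3492, 3429), (3493, 3432), (3494, 3453), (3495, 3445), (3496, 3455), (3497, 3448), (3498, 3462), (3499, 3461), (3500, 3506), (3501, 3505), (3502, 3458), (3503, 3475), (3504, 3509), (3505, 3501), (3506, 3500), (3507, 3480), (3508, 3479), (3509, 3504)]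
    ⟨e3 q3456 (flp_d L31535) q3490, e3 q3457 (flp_d L31152) q3357, e3 q3458 L31700 q3502, e3 q3459 (flp_d L31173) q3359, e3 q3460 L31185 q3363, e3 q3461 (flp_d L31665) q3499, e3 q3462 (flp_d L31661) q3498, e3 q3463 L31212 q3463, e3 q3464 L31224 q3464, e3 q3465 (flp_d L31227) q3370, e3 q3466 (flp_d L31235) q3373, e3 q3467 (flp_d L31246) q3376, e3 q3468 (flp_d L31257) q3378, e3 q3469 (flp_d L31264) q3380, e3 q3470 (flp_d L31269) q3383, e3 q3471 (flp_d L31274) q3385, e3 q3472 (flp_d L31279) q3391, e3 q3473 (flp_d L31286) q3392, e3 q3474 (flp_d L31293) q3394, e3 q3475 (flp_d L31718) q3503, e3 q3476 (flp_d L31307) q3405, e3 q3477 (flp_d L31322) q3406, e3 q3478 (flp_d L31337) q3407, e3 q3479 (flp_d L31791) q3508, e3 q3480 (flp_d L31774) q3507, e3 q3481 L31376 q3481, e3 q3482 (flp_d L31388) q3413, e3 q3483 (flp_d L31405) q3414, e3 q3484 (flp_d L31423) q3417, e3 q3485 (flp_d L31440) q3418, e3 q3486 (flp_d L31457) q3421, e3 q3487 (flp_d L31475) q3424, e3 q3488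 L31503 q3449, e3 q3489 (flp_d L31507) q3426, e3 q3490 L31535 q3456, e3 q3491 (flp_d L31539) q3428, e3 q3492 (flp_d L31556) q3429, e3 q3493 L31588 q3432, e3 q3494 L31598 q3453, e3 q3495 L31610 q3445, e3 q3496 L31635 q3455, e3 q3497 L31648 q3448, e3 q3498 L31661 q3462, e3 q3499 L31665 q3461, e3 q3500 (flp_d L31759) q3506, e3 q3501 (flp_d L31740) q3505, e3 q3502 (flp_d L31700) q3458, e3 q3503 L31718 q3475, e3 q3504 (flp_d L31803) q3509, e3 q3505 L31740 q3501, e3 q3506 L31759 q3500, e3 q3507 L31774 q3480, e3 q3508 L31791 q3479, e3 q3509 L31803 q3504, trivial⟩ (by decide +kernel)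

theorem cl_d : ∀ i, i < 3510 → sm gd (Qf i) = Qf (tab Gen.d i) :=
  all_of_chunks (fun i => sm gd (Qf i) = Qf (tab Gen.d i)) 54 54
    ⟨ce_d_0, ce_d_1, ce_d_2, ce_d_3, ce_d_4, ce_d_5, ce_d_6, ce_d_7, ce_d_8, ce_d_9, ce_d_10, ce_d_11, ce_d_12, ce_d_13, ce_d_14, ce_d_15, ce_d_16, ce_d_17, ce_d_18, ce_d_19, ce_d_20, ce_d_21, ce_d_22, ce_d_23, ce_d_24, ce_d_25, ce_d_26, ce_d_27, ce_d_28, ce_d_29, ce_d_30, ce_d_31, ce_d_32, ce_d_33, ce_d_34, ce_d_35, ce_d_36, ce_d_37, ce_d_38, ce_d_39, ce_d_40, ce_d_41, ce_d_42, ce_d_43, ce_d_44, ce_d_45, ce_d_46, ce_d_47, ce_d_48, ce_d_49, ce_d_50, ce_d_51, ce_d_52, ce_d_53, trivial⟩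
    ce_d_54


end Cfsg.Agent.Helper28.FiaA
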