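import Cfsg.Agent.Helper28.FiaC0

/-!
# The Fi₂₂ presentation, cosets of the subgroup generated by a, c, d, e, f, g, h, i, (abcdeh)⁵: the action of the generator e (helper28; generated)
-/

set_option autoImplicit false
set_option maxRecDepth 100000
set_option linter.unusedSimpArgs false
set_option linter.constructorNameAsVariable false

noncomputable section

namespace Cfsg.Agent.Helper28.FiaA

open Cfsg.Spor Cfsg.Spor.Fi22 Cfsg.Agent.Helper28.CosetTable

theorem ce_e_0 : ∀ r, r < 64 → sm ge (Qf (0 + r)) = Qf (tab Gen.e (0 + r)) :=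
  edges_tab (sm ge) Qf (tab Gen.e) 0 [(0, 0), (1, 1), (2, 2), (3, 3), (4, 4), (5, 8), (6, 6), (7, 11), (8, 5), (9, 14), (10, 17), (11, 7), (12, 20), (13, 13), (14, 9), (15, 25), (16, 26), (17, 10), (18, 29), (19, 19), (20, 12), (21, 34), (22, 22), (23, 23), (24, 24), (25, 15), (26, 16), (27, 42), (28, 28), (29, 18), (30, 48), (31, 31), (32, 32), (33, 33), (34, 21), (35, 35), (36, 57), (37, 37), (38, 38), (39, 39), (40, 40), (41, 41), (42, 27), (43, 43), (44, 65), (45, 45), (46, 46), (47, 47), (48, 30), (49, 49), (50, 74), (51, 51), (52, 52), (53, 53), (54, 79), (55, 55), (56, 82), (57, 36), (58, 84), (59, 59), (60, 60), (61, 61), (62, 88), (63, 63)]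
    ⟨e3 q0 L3 q0, e3 q1 L11 q1, e3 q2 L19 q2, e3 q3 L27 q3, e3 q4 L37 q4, e3 q5 L66 q8, e3 q6 L51 q6, e3 q7 L88 q11, e3 q8 (flp_e L66) q5, e3 q9 (flp_e L115) q14, e3 q10 L134 q17, e3 q11 (flp_e L88) q7, e3 q12 (flp_e L163) q20, e3 q13 L110 q13, e3 q14 L115 q9, e3 q15 (flp_e L200) q25, e3 q16 L204 q26, e3 q17 (flp_e L134) q10, e3 q18 (flp_e L233) q29, e3 q19 L157 q19, e3 q20 L163 q12, e3 q21 (flp_e L274) q34, e3 q22 L180 q22, e3 q23 L187 q23, e3 q24 L194 q24, e3 q25 L200 q15, e3 q26 (flp_e L204) q16, e3 q27 (flp_e L335) q42, e3 q28 L227 q28, e3 q29 L233 q18, e3 q30 (flp_e L389) q48, e3 q31 L251 q31, e3 q32 L259 q32, e3 q33 L267 q33, e3 q34 L274 q21, e3 q35 L282 q35, e3 q36 L457 q57, e3 q37 L296 q37, e3 q38 L302 q38, e3 q39 L311 q39, e3 q40 L320 q40, e3 q41 L328 q41, e3 q42 L335 q27, e3 q43 L347 q43, e3 q44 (flp_e L527) q65, e3 q45 L364 q45, e3 q46 L372 q46, e3 q47 L382 q47, e3 q48 L389 q30, e3 q49 L398 q49, e3 q50 L605 q74, e3 q51 L414 q51, e3 q52 L422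 q52, e3 q53 L433 q53, e3 q54 L645 q79, e3 q55 L446 q55, e3 q56 L668 q82, e3 q57 (flp_e L457) q36, e3 q58 (flp_e L685) q84, e3 q59 L473 q59, e3 q60 L483 q60, e3 q61 L488 q61, e3 q62 L711 q88, e3 q63 L507 q63, trivial⟩ (by decide +kernel)

theorem ce_e_1 : ∀ r, r < 64 → sm ge (Qf (64 + r)) = Qf (tab Gen.e (64 + r)) :=
  edges_tab (sm ge) Qf (tab Gen.e) 64 [(64, 64), (65, 44), (66, 66), (67, 67), (68, 95), (69, 69), (70, 70), (71, 99), (72, 72), (73, 101), (74, 50), (75, 103), (76, 76), (77, 77), (78, 107), (79, 54), (80, 110), (81, 112), (82, 56), (83, 115), (84, 58), (85, 117), (86, 86), (87, 87), (88, 62), (89, 120), (90, 90), (91, 91), (92, 92), (93, 122), (94, 94), (95, 68), (96, 124), (97, 97), (98, 126), (99, 71), (100, 129), (101, 73), (102, 132), (103, 75), (104, 134), (105, 105), (106, 136), (107, 78), (108, 140), (109, 109), (110, 80), (111, 143), (112, 81), (113, 145), (114, 114), (115, 83), (116, 149), (117, 85), (118, 118), (119, 153), (120,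 89), (121, 121), (122, 93), (123, 156), (124, 96), (125, 158), (126, 98), (127, 161)]
    ⟨e3 q64 L516 q64, e3 q65 L527 q44, e3 q66 L538 q66, e3 q67 L546 q67, e3 q68 L782 q95, e3 q69 L564 q69, e3 q70 L576 q70, e3 q71 L821 q99, e3 q72 L591 q72, e3 q73 L838 q101, e3 q74 (flp_e L605) q50, e3 q75 (flp_e L862) q103, e3 q76 L628 q76, e3 q77 L634 q77, e3 q78 L892 q107, e3 q79 (flp_e L645) q54, e3 q80 (flp_e L918) q110, e3 q81 L930 q112, e3 q82 (flp_e L668) q56, e3 q83 (flp_e L956) q115, e3 q84 L685 q58, e3 q85 (flp_e L969) q117, e3 q86 L702 q86, e3 q87 L708 q87, e3 q88 (flp_e L711) q62, e3 q89 (flp_e L994) q120, e3 q90 L736 q90, e3 q91 L748 q91, e3 q92 L757 q92, e3 q93 L1010 q122, e3 q94 L777 q94, e3 q95 (flp_e L782) q68, e3 q96 (flp_e L1038) q124, e3 q97 L807 q97, e3 q98 L1051 q126, e3 q99 (flp_e L821) q71, e3 q100 (flp_e L1085) q129, e3 q101 (flp_e L838) q73, e3 q102 (flp_e L1113) q132, e3 q103 L862 q75, e3 q104 (flp_e L1130) q134, e3 q105 L880 q105, e3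 q106 L1143 q136, e3 q107 (flp_e L892) q78, e3 q108 (flp_e L1179) q140, e3 q109 L912 q109, e3 q110 L918 q80, e3 q111 (flp_e L1202) q143, e3 q112 (flp_e L930) q81, e3 q113 (flp_e L1220) q145, e3 q114 L951 q114, e3 q115 L956 q83, e3 q116 (flp_e L1249) q149, e3 q117 L969 q85, e3 q118 L979 q118, e3 q119 L1275 q153, e3 q120 L994 q89, e3 q121 L1005 q121, e3 q122 (flp_e L1010) q93, e3 q123 (flp_e L1309) q156, e3 q124 L1038 q96, e3 q125 (flp_e L1330) q158, e3 q126 (flp_e L1051) q98, e3 q127 (flp_e L1360) q161, trivial⟩ (by decide +kernel)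

theorem ce_e_2 : ∀ r, r < 64 → sm ge (Qf (128 + r)) = Qf (tab Gen.e (128 + r)) :=
  edges_tab (sm ge) Qf (tab Gen.e) 128 [(128, 128), (129, 100), (130, 164), (131, 131), (132, 102), (133, 167), (134, 104), (135, 170), (136, 106), (137, 173), (138, 138), (139, 139), (140, 108), (141, 179), (142, 142), (143, 111), (144, 144), (145, 113), (146, 186), (147, 147), (148, 148), (149, 116), (150, 191), (151, 151), (152, 194), (153, 119), (154, 154), (155, 155), (156, 123), (157, 197), (158, 125), (159, 159), (160, 160), (161, 127), (162, 203), (163, 163), (164, 130), (165, 165), (166, 166), (167, 133), (168, 210), (169, 169), (170, 135), (171, 171), (172, 172), (173, 137), (174, 218), (175, 220), (176, 176), (177, 177), (178, 178), (179, 141), (180, 227), (181, 181), (182, 182), (183, 183), (184, 184), (185, 185), (186, 146), (187, 236), (188, 188), (189, 189), (190, 240), (191, 150)]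
    ⟨e3 q128 L1078 q128, e3 q129 L1085 q100, e3 q130 (flp_e L1388) q164, e3 q131 L1105 q131, e3 q132 L1113 q102, e3 q133 (flp_e L1419) q167, e3 q134 L1130 q104, e3 q135 L1441 q170, e3 q136 (flp_e L1143) q106, e3 q137 (flp_e L1474) q173, e3 q138 L1167 q138, e3 q139 L1173 q139, e3 q140 L1179 q108, e3 q141 (flp_e L1521) q179, e3 q142 L1195 q142, e3 q143 L1202 q111, e3 q144 L1213 q144, e3 q145 L1220 q113, e3 q146 (flp_e L1580) q186, e3 q147 L1235 q147, e3 q148 L1243 q148, e3 q149 L1249 q116, e3 q150 L1608 q191, e3 q151 L1265 q151, e3 q152 L1627 q194, e3 q153 (flp_e L1275) q119, e3 q154 L1290 q154, e3 q155 L1300 q155, e3 q156 L1309 q123, e3 q157 (flp_e L1659) q197, e3 q158 L1330 q125, e3 q159 L1342 q159, e3 q160 L1351 q160, e3 q161 L1360 q127, e3 q162 (flp_e L1721) q203, e3 q163 L1380 q163, e3 q164 L1388 q130, e3 q165 L1399 q165, e3 q166 L1410 q166, e3 q167 L1419 q133, e3 q168 L1779 q210, e3 q169 L1439 q169, e3 q170 (flp_e L1441) q135, e3 q171 L1458 q171,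 e3 q172 L1466 q172, e3 q173 L1474 q137, e3 q174 (flp_e L1855) q218, e3 q175 L1870 q220, e3 q176 L1497 q176, e3 q177 L1506 q177, e3 q178 L1513 q178, e3 q179 L1521 q141, e3 q180 L1918 q227, e3 q181 L1537 q181, e3 q182 L1548 q182, e3 q183 L1553 q183, e3 q184 L1562 q184, e3 q185 L1572 q185, e3 q186 L1580 q146, e3 q187 L1988 q236, e3 q188 L1597 q188, e3 q189 L1602 q189, e3 q190 L2013 q240, e3 q191 (flp_e L1608) q150, trivial⟩ (by decide +kernel)

theorem ce_e_3 : ∀ r, r < 64 → sm ge (Qf (192 + r)) = Qf (tab Gen.e (192 + r)) :=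
  edges_tab (sm ge) Qf (tab Gen.e) 192 [(192, 192), (193, 243), (194, 152), (195, 241), (196, 196), (197, 157), (198, 198), (199, 249), (200, 200), (201, 201), (202, 202), (203, 162), (204, 256), (205, 205), (206, 206), (207, 207), (208, 208), (209, 262), (210, 168), (211, 211), (212, 263), (213, 213), (214, 269), (215, 215), (216, 216), (217, 217), (218, 174), (219, 277), (220, 175), (221, 278), (222, 279), (223, 223), (224, 224), (225, 225), (226, 286), (227, 180), (228, 289), (229, 229), (230, 230), (231, 231), (232, 232), (233, 233), (234, 297), (235, 298), (236, 187), (237, 237), (238, 302), (239, 304), (240, 190), (241, 195), (242, 242), (243, 193), (244, 299), (245, 306), (246, 246), (247, 247), (248, 248), (249, 199), (250, 314), (251, 315), (252, 252), (253, 253), (254, 254), (255, 322)]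
    ⟨e3 q192 L1615 q192, e3 q193 L2032 q243, e3 q194 (flp_e L1627) q152, e3 q195 (flp_e L2023) q241, e3 q196 L1649 q196, e3 q197 L1659 q157, e3 q198 L1671 q198, e3 q199 L2085 q249, e3 q200 L1688 q200, e3 q201 L1700 q201, e3 q202 L1710 q202, e3 q203 L1721 q162, e3 q204 L2154 q256, e3 q205 L1741 q205, e3 q206 L1753 q206, e3 q207 L1762 q207, e3 q208 L1770 q208, e3 q209 L2208 q262, e3 q210 (flp_e L1779) q168, e3 q211 L1791 q211, e3 q212 (flp_e L2224) q263, e3 q213 L1807 q213, e3 q214 L2269 q269, e3 q215 L1825 q215, e3 q216 L1836 q216, e3 q217 L1845 q217, e3 q218 L1855 q174, e3 q219 L2342 q277, e3 q220 (flp_e L1870) q175, e3 q221 (flp_e L2354) q278, e3 q222 (flp_e L2362) q279, e3 q223 L1895 q223, e3 q224 L1901 q224, e3 q225 L1908 q225, e3 q226 L2406 q286, e3 q227 (flp_e L1918) q180, e3 q228 L2426 q289, e3 q229 L1935 q229, e3 q230 L1946 q230, e3 q231 L1955 q231, e3 q232 L1963 q232, e3 q233 L1970 q233, e3 q234 L2488 q297, e3 q235 L2496 q298, e3 q236 (flp_e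 L1988) q187, e3 q237 L1998 q237, e3 q238 L2525 q302, e3 q239 L2536 q304, e3 q240 (flp_e L2013) q190, e3 q241 L2023 q195, e3 q242 L2027 q242, e3 q243 (flp_e L2032) q193, e3 q244 (flp_e L2511) q299, e3 q245 (flp_e L2551) q306, e3 q246 L2062 q246, e3 q247 L2075 q247, e3 q248 L2080 q248, e3 q249 (flp_e L2085) q199, e3 q250 (flp_e L2621) q314, e3 q251 (flp_e L2632) q315, e3 q252 L2122 q252, e3 q253 L2131 q253, e3 q254 L2141 q254, e3 q255 L2693 q322, trivial⟩ (by decide +kernel)

theorem ce_e_4 : ∀ r, r < 64 → sm ge (Qf (256 + r)) = Qf (tab Gen.e (256 + r)) :=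
  edges_tab (sm ge) Qf (tab Gen.e) 256 [(256, 204), (257, 325), (258, 258), (259, 259), (260, 329), (261, 331), (262, 209), (263, 212), (264, 264), (265, 333), (266, 335), (267, 267), (268, 268), (269, 214), (270, 341), (271, 342), (272, 272), (273, 273), (274, 274), (275, 349), (276, 350), (277, 219), (278, 221), (279, 222), (280, 353), (281, 354), (282, 282), (283, 359), (284, 361), (285, 363), (286, 226), (287, 287), (288, 367), (289, 228), (290, 290), (291, 369), (292, 292), (293, 293), (294, 294), (295, 375), (296, 377), (297, 234), (298, 235), (299, 244), (300, 383), (301, 385), (302, 238), (303, 388), (304, 239), (305, 305), (306, 245), (307, 307), (308, 308), (309, 380), (310, 381), (311, 395), (312, 312), (313, 313), (314, 250), (315, 251), (316, 399), (317, 400), (318, 318), (319, 405)]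
    ⟨e3 q256 (flp_e L2154) q204, e3 q257 L2721 q325, e3 q258 L2177 q258, e3 q259 L2188 q259, e3 q260 L2754 q329, e3 q261 L2769 q331, e3 q262 (flp_e L2208) q209, e3 q263 L2224 q212, e3 q264 L2228 q264, e3 q265 (flp_e L2792) q333, e3 q266 L2804 q335, e3 q267 L2256 q267, e3 q268 L2266 q268, e3 q269 (flp_e L2269) q214, e3 q270 (flp_e L2862) q341, e3 q271 (flp_e L2872) q342, e3 q272 L2302 q272, e3 q273 L2310 q273, e3 q274 L2319 q274, e3 q275 L2928 q349, e3 q276 L2938 q350, e3 q277 (flp_e L2342) q219, e3 q278 L2354 q221, e3 q279 L2362 q222, e3 q280 (flp_e L2965) q353, e3 q281 (flp_e L2972) q354, e3 q282 L2382 q282, e3 q283 L3005 q359, e3 q284 L3020 q361, e3 q285 L3032 q363, e3 q286 (flp_e L2406) q226, e3 q287 L2418 q287, e3 q288 L3061 q367, e3 q289 (flp_e L2426) q228, e3 q290 L2436 q290, e3 q291 L3077 q369, e3 q292 L2455 q292, e3 q293 L2463 q293, e3 q294 L2470 q294, e3 q295 L3123 q375, e3 q296 L3138 q377, e3 q297 (flp_e L2488) q234, e3 q298 (flp_e L2496)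 q235, e3 q299 L2511 q244, e3 q300 L3185 q383, e3 q301 L3197 q385, e3 q302 (flp_e L2525) q238, e3 q303 L3215 q388, e3 q304 (flp_e L2536) q239, e3 q305 L2547 q305, e3 q306 L2551 q245, e3 q307 L2558 q307, e3 q308 L2569 q308, e3 q309 (flp_e L3167) q380, e3 q310 (flp_e L3174) q381, e3 q311 L3268 q395, e3 q312 L2600 q312, e3 q313 L2609 q313, e3 q314 L2621 q250, e3 q315 L2632 q251, e3 q316 (flp_e L3313) q399, e3 q317 (flp_e L3323) q400, e3 q318 L2661 q318, e3 q319 L3367 q405, trivial⟩ (by decide +kernel)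

theorem ce_e_5 : ∀ r, r < 64 → sm ge (Qf (320 + r)) = Qf (tab Gen.e (320 + r)) :=
  edges_tab (sm ge) Qf (tab Gen.e) 320 [(320, 407), (321, 409), (322, 255), (323, 323), (324, 413), (325, 257), (326, 326), (327, 416), (328, 418), (329, 260), (330, 421), (331, 261), (332, 332), (333, 265), (334, 334), (335, 266), (336, 425), (337, 426), (338, 430), (339, 339), (340, 340), (341, 270), (342, 271), (343, 435), (344, 436), (345, 345), (346, 441), (347, 443), (348, 445), (349, 275), (350, 276), (351, 351), (352, 352), (353, 280), (354, 281), (355, 452), (356, 456), (357, 458), (358, 460), (359, 283), (360, 463), (361, 284), (362, 466), (363, 285), (364, 464), (365, 365), (366, 470), (367, 288), (368, 368), (369, 291), (370, 473), (371, 371), (372, 477), (373, 479), (374, 481), (375, 295), (376, 484), (377, 296), (378, 378), (379, 379), (380, 309), (381, 310), (382, 492), (383, 300)]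
    ⟨e3 q320 L3387 q407, e3 q321 L3403 q409, e3 q322 (flp_e L2693) q255, e3 q323 L2711 q323, e3 q324 L3439 q413, e3 q325 (flp_e L2721) q257, e3 q326 L2732 q326, e3 q327 L3467 q416, e3 q328 L3483 q418, e3 q329 (flp_e L2754) q260, e3 q330 L3509 q421, e3 q331 (flp_e L2769) q261, e3 q332 L2785 q332, e3 q333 L2792 q265, e3 q334 L2798 q334, e3 q335 (flp_e L2804) q266, e3 q336 (flp_e L3549) q425, e3 q337 (flp_e L3560) q426, e3 q338 L3592 q430, e3 q339 L2845 q339, e3 q340 L2854 q340, e3 q341 L2862 q270, e3 q342 L2872 q271, e3 q343 (flp_e L3644) q435, e3 q344 (flp_e L3653) q436, e3 q345 L2898 q345, e3 q346 L3694 q441, e3 q347 L3712 q443, e3 q348 L3728 q445, e3 q349 (flp_e L2928) q275, e3 q350 (flp_e L2938) q276, e3 q351 L2955 q351, e3 q352 L2960 q352, e3 q353 L2965 q280, e3 q354 L2972 q281, e3 q355 (flp_e L3789) q452, e3 q356 L3816 q456, e3 q357 L3829 q458, e3 q358 L3844 q460, e3 q359 (flp_e L3005) q283, e3 q360 L3865 q463, e3 q361 (flp_e L3020) q284, e3 q362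 L3884 q466, e3 q363 (flp_e L3032) q285, e3 q364 (flp_e L3875) q464, e3 q365 L3048 q365, e3 q366 L3913 q470, e3 q367 (flp_e L3061) q288, e3 q368 L3072 q368, e3 q369 (flp_e L3077) q291, e3 q370 (flp_e L3943) q473, e3 q371 L3098 q371, e3 q372 L3966 q477, e3 q373 L3979 q479, e3 q374 L3995 q481, e3 q375 (flp_e L3123) q295, e3 q376 L4019 q484, e3 q377 (flp_e L3138) q296, e3 q378 L3152 q378, e3 q379 L3158 q379, e3 q380 L3167 q309, e3 q381 L3174 q310, e3 q382 L4079 q492, e3 q383 (flp_e L3185) q300, trivial⟩ (by decide +kernel)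

theorem ce_e_6 : ∀ r, r < 64 → sm ge (Qf (384 + r)) = Qf (tab Gen.e (384 + r)) :=
  edges_tab (sm ge) Qf (tab Gen.e) 384 [(384, 495), (385, 301), (386, 386), (387, 499), (388, 303), (389, 389), (390, 390), (391, 474), (392, 392), (393, 490), (394, 504), (395, 311), (396, 396), (397, 397), (398, 398), (399, 316), (400, 317), (401, 508), (402, 512), (403, 514), (404, 516), (405, 319), (406, 519), (407, 320), (408, 522), (409, 321), (410, 520), (411, 411), (412, 526), (413, 324), (414, 414), (415, 529), (416, 327), (417, 532), (418, 328), (419, 419), (420, 536), (421, 330), (422, 422), (423, 423), (424, 424), (425, 336), (426, 337), (427, 427), (428, 540), (429, 541), (430, 338), (431, 545), (432, 432), (433, 549), (434, 434), (435, 343), (436, 344), (437, 551), (438, 555), (439, 557), (440, 559), (441, 346), (442, 562), (443, 347), (444, 565), (445, 348), (446, 563), (447, 447)]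
    ⟨e3 q384 L4099 q495, e3 q385 (flp_e L3197) q301, e3 q386 L3208 q386, e3 q387 L4123 q499, e3 q388 (flp_e L3215) q303, e3 q389 L3227 q389, e3 q390 L3232 q390, e3 q391 (flp_e L5712) q474, e3 q392 L3247 q392, e3 q393 (flp_e L4068) q490, e3 q394 L4186 q504, e3 q395 (flp_e L3268) q311, e3 q396 L3281 q396, e3 q397 L3293 q397, e3 q398 L3305 q398, e3 q399 L3313 q316, e3 q400 L3323 q317, e3 q401 (flp_e L4231) q508, e3 q402 L4266 q512, e3 q403 L4284 q514, e3 q404 L4303 q516, e3 q405 (flp_e L3367) q319, e3 q406 L4330 q519, e3 q407 (flp_e L3387) q320, e3 q408 L4357 q522, e3 q409 (flp_e L3403) q321, e3 q410 (flp_e L4345) q520, e3 q411 L3427 q411, e3 q412 L4393 q526, e3 q413 (flp_e L3439) q324, e3 q414 L3451 q414, e3 q415 L4417 q529, e3 q416 (flp_e L3467) q327, e3 q417 L4445 q532, e3 q418 (flp_e L3483) q328, e3 q419 L3499 q419, e3 q420 L4477 q536, e3 q421 (flp_e L3509) q330, e3 q422 L3524 q422, e3 q423 L3532 q423, e3 q424 L3541 q424, e3 q425 L3549 q336, e3 q426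 L3560 q337, e3 q427 L3572 q427, e3 q428 (flp_e L4520) q540, e3 q429 (flp_e L4530) q541, e3 q430 (flp_e L3592) q338, e3 q431 (flp_e L4570) q545, e3 q432 L3617 q432, e3 q433 L4599 q549, e3 q434 L3637 q434, e3 q435 L3644 q343, e3 q436 L3653 q344, e3 q437 (flp_e L4623) q551, e3 q438 L4656 q555, e3 q439 L4672 q557, e3 q440 L4691 q559, e3 q441 (flp_e L3694) q346, e3 q442 L4717 q562, e3 q443 (flp_e L3712) q347, e3 q444 L4742 q565, e3 q445 (flp_e L3728) q348, e3 q446 (flp_e L4731) q563, e3 q447 L3751 q447, trivial⟩ (by decide +kernel)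

theorem ce_e_7 : ∀ r, r < 64 → sm ge (Qf (448 + r)) = Qf (tab Gen.e (448 + r)) :=
  edges_tab (sm ge) Qf (tab Gen.e) 448 [(448, 448), (449, 449), (450, 450), (451, 451), (452, 355), (453, 576), (454, 578), (455, 580), (456, 356), (457, 583), (458, 357), (459, 586), (460, 358), (461, 581), (462, 591), (463, 360), (464, 364), (465, 595), (466, 362), (467, 593), (468, 594), (469, 598), (470, 366), (471, 592), (472, 472), (473, 370), (474, 391), (475, 603), (476, 605), (477, 372), (478, 608), (479, 373), (480, 611), (481, 374), (482, 482), (483, 615), (484, 376), (485, 485), (486, 486), (487, 487), (488, 601), (489, 489), (490, 393), (491, 623), (492, 382), (493, 493), (494, 627), (495, 384), (496, 496), (497, 497), (498, 498), (499, 387), (500, 500), (501, 501), (502, 546), (503, 635), (504, 394), (505, 505), (506, 506), (507, 507), (508, 401), (509, 642), (510, 644), (511, 646)]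
    ⟨e3 q448 L3760 q448, e3 q449 L3766 q449, e3 q450 L3773 q450, e3 q451 L3783 q451, e3 q452 L3789 q355, e3 q453 L4829 q576, e3 q454 L4844 q578, e3 q455 L4858 q580, e3 q456 (flp_e L3816) q356, e3 q457 L4879 q583, e3 q458 (flp_e L3829) q357, e3 q459 L4901 q586, e3 q460 (flp_e L3844) q358, e3 q461 (flp_e L4869) q581, e3 q462 L4937 q591, e3 q463 (flp_e L3865) q360, e3 q464 L3875 q364, e3 q465 L4964 q595, e3 q466 (flp_e L3884) q362, e3 q467 (flp_e L4955) q593, e3 q468 (flp_e L4960) q594, e3 q469 L4986 q598, e3 q470 (flp_e L3913) q366, e3 q471 (flp_e L4948) q592, e3 q472 L3935 q472, e3 q473 L3943 q370, e3 q474 L5712 q391, e3 q475 L5042 q603, e3 q476 L5056 q605, e3 q477 (flp_e L3966) q372, e3 q478 L5077 q608, e3 q479 (flp_e L3979) q373, e3 q480 L5103 q611, e3 q481 (flp_e L3995) q374, e3 q482 L4010 q482, e3 q483 L5132 q615, e3 q484 (flp_e L4019) q376, e3 q485 L4032 q485, e3 q486 L4039 q486, e3 q487 L4047 q487, e3 q488 (flp_e L5728) q601, e3 q489 L4060 q489,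 e3 q490 L4068 q393, e3 q491 L5212 q623, e3 q492 (flp_e L4079) q382, e3 q493 L4092 q493, e3 q494 L5240 q627, e3 q495 (flp_e L4099) q384, e3 q496 L4108 q496, e3 q497 L4116 q497, e3 q498 L4120 q498, e3 q499 (flp_e L4123) q387, e3 q500 L4135 q500, e3 q501 L4141 q501, e3 q502 (flp_e L5723) q546, e3 q503 L5331 q635, e3 q504 (flp_e L4186) q394, e3 q505 L4200 q505, e3 q506 L4210 q506, e3 q507 L4222 q507, e3 q508 L4231 q401, e3 q509 L5394 q642, e3 q510 L5414 q644, e3 q511 L5432 q646, trivial⟩ (by decide +kernel)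

theorem ce_e_8 : ∀ r, r < 64 → sm ge (Qf (512 + r)) = Qf (tab Gen.e (512 + r)) :=
  edges_tab (sm ge) Qf (tab Gen.e) 512 [(512, 402), (513, 649), (514, 403), (515, 652), (516, 404), (517, 647), (518, 657), (519, 406), (520, 410), (521, 661), (522, 408), (523, 659), (524, 660), (525, 664), (526, 412), (527, 658), (528, 668), (529, 415), (530, 530), (531, 672), (532, 417), (533, 533), (534, 534), (535, 535), (536, 420), (537, 537), (538, 538), (539, 539), (540, 428), (541, 429), (542, 542), (543, 677), (544, 682), (545, 431), (546, 502), (547, 685), (548, 687), (549, 433), (550, 550), (551, 437), (552, 692), (553, 694), (554, 696), (555, 438), (556, 699), (557, 439), (558, 702), (559, 440), (560, 697), (561, 707), (562, 442), (563, 446), (564, 711), (565, 444), (566, 566), (567, 709), (568, 710), (569, 717), (570, 570), (571, 571), (572, 572), (573, 573), (574, 724), (575, 726)]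
    ⟨e3 q512 (flp_e L4266) q402, e3 q513 L5459 q649, e3 q514 (flp_e L4284) q403, e3 q515 L5489 q652, e3 q516 (flp_e L4303) q404, e3 q517 (flp_e L5448) q647, e3 q518 L5536 q657, e3 q519 (flp_e L4330) q406, e3 q520 L4345 q410, e3 q521 L5571 q661, e3 q522 (flp_e L4357) q408, e3 q523 (flp_e L5559) q659, e3 q524 (flp_e L5567) q660, e3 q525 L5599 q664, e3 q526 (flp_e L4393) q412, e3 q527 (flp_e L5550) q658, e3 q528 L5634 q668, e3 q529 (flp_e L4417) q415, e3 q530 L4435 q530, e3 q531 L5799 q672, e3 q532 (flp_e L4445) q417, e3 q533 L4457 q533, e3 q534 L4467 q534, e3 q535 L4474 q535, e3 q536 (flp_e L4477) q420, e3 q537 L4493 q537, e3 q538 L4501 q538, e3 q539 L4510 q539, e3 q540 L4520 q428, e3 q541 L4530 q429, e3 q542 L4541 q542, e3 q543 (flp_e L5858) q677, e3 q544 L5898 q682, e3 q545 L4570 q431, e3 q546 L5723 q502, e3 q547 L5924 q685, e3 q548 L5943 q687, e3 q549 (flp_e L4599) q433, e3 q550 L4615 q550, e3 q551 L4623 q437, e3 q552 L5982 q692, e3 q553 L6000 q694,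 e3 q554 L6018 q696, e3 q555 (flp_e L4656) q438, e3 q556 L6044 q699, e3 q557 (flp_e L4672) q439, e3 q558 L6072 q702, e3 q559 (flp_e L4691) q440, e3 q560 (flp_e L6033) q697, e3 q561 L6115 q707, e3 q562 (flp_e L4717) q442, e3 q563 L4731 q446, e3 q564 L6148 q711, e3 q565 (flp_e L4742) q444, e3 q566 L4759 q566, e3 q567 (flp_e L6136) q709, e3 q568 (flp_e L6144) q710, e3 q569 L6198 q717, e3 q570 L4787 q570, e3 q571 L4797 q571, e3 q572 L4808 q572, e3 q573 L4813 q573, e3 q574 L6253 q724, e3 q575 L6266 q726, trivial⟩ (by decide +kernel)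

theorem ce_e_9 : ∀ r, r < 64 → sm ge (Qf (576 + r)) = Qf (tab Gen.e (576 + r)) :=
  edges_tab (sm ge) Qf (tab Gen.e) 576 [(576, 453), (577, 729), (578, 454), (579, 732), (580, 455), (581, 461), (582, 737), (583, 457), (584, 730), (585, 741), (586, 459), (587, 587), (588, 734), (589, 735), (590, 746), (591, 462), (592, 471), (593, 467), (594, 468), (595, 465), (596, 748), (597, 751), (598, 469), (599, 747), (600, 750), (601, 488), (602, 760), (603, 475), (604, 762), (605, 476), (606, 606), (607, 766), (608, 478), (609, 609), (610, 770), (611, 480), (612, 763), (613, 613), (614, 614), (615, 483), (616, 616), (617, 617), (618, 758), (619, 619), (620, 620), (621, 683), (622, 782), (623, 491), (624, 624), (625, 625), (626, 626), (627, 494), (628, 628), (629, 629), (630, 667), (631, 631), (632, 632), (633, 633), (634, 790), (635, 503), (636, 636), (637, 637), (638, 638), (639, 639)]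
    ⟨e3 q576 (flp_e L4829) q453, e3 q577 L6287 q729, e3 q578 (flp_e L4844) q454, e3 q579 L6310 q732, e3 q580 (flp_e L4858) q455, e3 q581 L4869 q461, e3 q582 L6344 q737, e3 q583 (flp_e L4879) q457, e3 q584 (flp_e L6300) q730, e3 q585 L6376 q741, e3 q586 (flp_e L4901) q459, e3 q587 L4914 q587, e3 q588 (flp_e L6327) q734, e3 q589 (flp_e L6331) q735, e3 q590 L6412 q746, e3 q591 (flp_e L4937) q462, e3 q592 L4948 q471, e3 q593 L4955 q467, e3 q594 L4960 q468, e3 q595 (flp_e L4964) q465, e3 q596 (flp_e L6431) q748, e3 q597 (flp_e L6450) q751, e3 q598 (flp_e L4986) q469, e3 q599 (flp_e L6424) q747, e3 q600 (flp_e L6443) q750, e3 q601 L5728 q488, e3 q602 L6514 q760, e3 q603 (flp_e L5042) q475, e3 q604 L6533 q762, e3 q605 (flp_e L5056) q476, e3 q606 L5068 q606, e3 q607 L6563 q766, e3 q608 (flp_e L5077) q478, e3 q609 L5094 q609, e3 q610 L6597 q770, e3 q611 (flp_e L5103) q480, e3 q612 (flp_e L6543) q763, e3 q613 L5122 q613, e3 q614 L5129 q614, e3 q615 (flp_e L5132)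 q483, e3 q616 L5146 q616, e3 q617 L5154 q617, e3 q618 (flp_e L6499) q758, e3 q619 L5168 q619, e3 q620 L5174 q620, e3 q621 (flp_e L5911) q683, e3 q622 L6686 q782, e3 q623 (flp_e L5212) q491, e3 q624 L5224 q624, e3 q625 L5232 q625, e3 q626 L5236 q626, e3 q627 (flp_e L5240) q494, e3 q628 L5250 q628, e3 q629 L5258 q629, e3 q630 L5648 q667, e3 q631 L5269 q631, e3 q632 L5278 q632, e3 q633 L5284 q633, e3 q634 L6757 q790, e3 q635 (flp_e L5331) q503, e3 q636 L5348 q636, e3 q637 L5352 q637, e3 q638 L5365 q638, e3 q639 L5373 q639, trivial⟩ (by decide +kernel)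

theorem ce_e_10 : ∀ r, r < 64 → sm ge (Qf (640 + r)) = Qf (tab Gen.e (640 + r)) :=
  edges_tab (sm ge) Qf (tab Gen.e) 640 [(640, 795), (641, 797), (642, 509), (643, 800), (644, 510), (645, 803), (646, 511), (647, 517), (648, 808), (649, 513), (650, 801), (651, 812), (652, 515), (653, 653), (654, 805), (655, 806), (656, 817), (657, 518), (658, 527), (659, 523), (660, 524), (661, 521), (662, 819), (663, 822), (664, 525), (665, 818), (666, 821), (667, 630), (668, 528), (669, 669), (670, 670), (671, 671), (672, 531), (673, 673), (674, 674), (675, 675), (676, 676), (677, 543), (678, 830), (679, 679), (680, 833), (681, 835), (682, 544), (683, 621), (684, 839), (685, 547), (686, 842), (687, 548), (688, 836), (689, 689), (690, 848), (691, 850), (692, 552), (693, 853), (694, 553), (695, 856), (696, 554), (697, 560), (698, 861), (699, 556), (700, 854), (701, 865), (702, 558), (703, 843)]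
    ⟨e3 q640 L6823 q795, e3 q641 L6840 q797, e3 q642 (flp_e L5394) q509, e3 q643 L6867 q800, e3 q644 (flp_e L5414) q510, e3 q645 L6898 q803, e3 q646 (flp_e L5432) q511, e3 q647 L5448 q517, e3 q648 L6945 q808, e3 q649 (flp_e L5459) q513, e3 q650 (flp_e L6885) q801, e3 q651 L7029 q812, e3 q652 (flp_e L5489) q515, e3 q653 L5505 q653, e3 q654 (flp_e L6920) q805, e3 q655 (flp_e L6927) q806, e3 q656 L7083 q817, e3 q657 (flp_e L5536) q518, e3 q658 L5550 q527, e3 q659 L5559 q523, e3 q660 L5567 q524, e3 q661 (flp_e L5571) q521, e3 q662 (flp_e L7106) q819, e3 q663 (flp_e L7131) q822, e3 q664 (flp_e L5599) q525, e3 q665 (flp_e L7098) q818, e3 q666 (flp_e L7122) q821, e3 q667 (flp_e L5648) q630, e3 q668 (flp_e L5634) q528, e3 q669 L5770 q669, e3 q670 L5788 q670, e3 q671 L5795 q671, e3 q672 (flp_e L5799) q531, e3 q673 L5820 q673, e3 q674 L5834 q674, e3 q675 L5841 q675, e3 q676 L5848 q676, e3 q677 L5858 q543, e3 q678 L7203 q830, e3 q679 L5875 q679, e3 q680 L7230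 q833, e3 q681 L7246 q835, e3 q682 (flp_e L5898) q544, e3 q683 L5911 q621, e3 q684 L7280 q839, e3 q685 (flp_e L5924) q547, e3 q686 L7311 q842, e3 q687 (flp_e L5943) q548, e3 q688 (flp_e L7258) q836, e3 q689 L5963 q689, e3 q690 L7360 q848, e3 q691 L7377 q850, e3 q692 (flp_e L5982) q552, e3 q693 L7403 q853, e3 q694 (flp_e L6000) q553, e3 q695 L7432 q856, e3 q696 (flp_e L6018) q554, e3 q697 L6033 q560, e3 q698 L7474 q861, e3 q699 (flp_e L6044) q556, e3 q700 (flp_e L7420) q854, e3 q701 L7512 q865, e3 q702 (flp_e L6072) q558, e3 q703 (flp_e L7325) q843, trivial⟩ (by decide +kernel)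

theorem ce_e_11 : ∀ r, r < 64 → sm ge (Qf (704 + r)) = Qf (tab Gen.e (704 + r)) :=
  edges_tab (sm ge) Qf (tab Gen.e) 704 [(704, 858), (705, 859), (706, 871), (707, 561), (708, 708), (709, 567), (710, 568), (711, 564), (712, 712), (713, 873), (714, 882), (715, 715), (716, 876), (717, 569), (718, 886), (719, 887), (720, 720), (721, 721), (722, 888), (723, 890), (724, 574), (725, 893), (726, 575), (727, 727), (728, 898), (729, 577), (730, 584), (731, 902), (732, 579), (733, 733), (734, 588), (735, 589), (736, 908), (737, 582), (738, 738), (739, 900), (740, 901), (741, 585), (742, 742), (743, 904), (744, 918), (745, 907), (746, 590), (747, 599), (748, 596), (749, 749), (750, 600), (751, 597), (752, 921), (753, 925), (754, 920), (755, 922), (756, 924), (757, 928), (758, 618), (759, 934), (760, 602), (761, 936), (762, 604), (763, 612), (764, 764), (765, 941), (766, 607), (767, 935)]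
    ⟨e3 q704 (flp_e L7452) q858, e3 q705 (flp_e L7459) q859, e3 q706 L7560 q871, e3 q707 (flp_e L6115) q561, e3 q708 L6129 q708, e3 q709 L6136 q567, e3 q710 L6144 q568, e3 q711 (flp_e L6148) q564, e3 q712 L6166 q712, e3 q713 (flp_e L7583) q873, e3 q714 L7650 q882, e3 q715 L6187 q715, e3 q716 (flp_e L7603) q876, e3 q717 (flp_e L6198) q569, e3 q718 (flp_e L7688) q886, e3 q719 (flp_e L7695) q887, e3 q720 L6226 q720, e3 q721 L6235 q721, e3 q722 L7698 q888, e3 q723 L7716 q890, e3 q724 (flp_e L6253) q574, e3 q725 L7740 q893, e3 q726 (flp_e L6266) q575, e3 q727 L6277 q727, e3 q728 L7774 q898, e3 q729 (flp_e L6287) q577, e3 q730 L6300 q584, e3 q731 L7805 q902, e3 q732 (flp_e L6310) q579, e3 q733 L6320 q733, e3 q734 L6327 q588, e3 q735 L6331 q589, e3 q736 L7845 q908, e3 q737 (flp_e L6344) q582, e3 q738 L6360 q738, e3 q739 (flp_e L7795) q900, e3 q740 (flp_e L7799) q901, e3 q741 (flp_e L6376) q585, e3 q742 L6390 q742, e3 q743 (flp_e L7824) q904, e3 q744 L7934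 q918, e3 q745 (flp_e L7840) q907, e3 q746 (flp_e L6412) q590, e3 q747 L6424 q599, e3 q748 L6431 q596, e3 q749 L6439 q749, e3 q750 L6443 q600, e3 q751 L6450 q597, e3 q752 (flp_e L7960) q921, e3 q753 (flp_e L7988) q925, e3 q754 (flp_e L7953) q920, e3 q755 (flp_e L7964) q922, e3 q756 (flp_e L7981) q924, e3 q757 (flp_e L8009) q928, e3 q758 L6499 q618, e3 q759 L8055 q934, e3 q760 (flp_e L6514) q602, e3 q761 L8078 q936, e3 q762 (flp_e L6533) q604, e3 q763 L6543 q612, e3 q764 L6553 q764, e3 q765 L8115 q941, e3 q766 (flp_e L6563) q607, e3 q767 (flp_e L8074) q935, trivial⟩ (by decide +kernel)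

theorem ce_e_12 : ∀ r, r < 64 → sm ge (Qf (768 + r)) = Qf (tab Gen.e (768 + r)) :=
  edges_tab (sm ge) Qf (tab Gen.e) 768 [(768, 768), (769, 769), (770, 610), (771, 937), (772, 772), (773, 945), (774, 940), (775, 775), (776, 776), (777, 777), (778, 932), (779, 779), (780, 780), (781, 837), (782, 622), (783, 783), (784, 784), (785, 785), (786, 786), (787, 787), (788, 807), (789, 789), (790, 634), (791, 791), (792, 792), (793, 958), (794, 959), (795, 640), (796, 961), (797, 641), (798, 798), (799, 966), (800, 643), (801, 650), (802, 970), (803, 645), (804, 804), (805, 654), (806, 655), (807, 788), (808, 648), (809, 809), (810, 968), (811, 969), (812, 651), (813, 813), (814, 972), (815, 980), (816, 975), (817, 656), (818, 665), (819, 662), (820, 820), (821, 666), (822, 663), (823, 982), (824, 984), (825, 981), (826, 826), (827, 989), (828, 991), (829, 993), (830, 678), (831, 996)]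
    ⟨e3 q768 L6586 q768, e3 q769 L6593 q769, e3 q770 (flp_e L6597) q610, e3 q771 (flp_e L8089) q937, e3 q772 L6618 q772, e3 q773 (flp_e L8157) q945, e3 q774 (flp_e L8112) q940, e3 q775 L6636 q775, e3 q776 L6646 q776, e3 q777 L6655 q777, e3 q778 (flp_e L8039) q932, e3 q779 L6669 q779, e3 q780 L6676 q780, e3 q781 (flp_e L7263) q837, e3 q782 (flp_e L6686) q622, e3 q783 L6707 q783, e3 q784 L6723 q784, e3 q785 L6728 q785, e3 q786 L6734 q786, e3 q787 L6741 q787, e3 q788 L6943 q807, e3 q789 L6755 q789, e3 q790 (flp_e L6757) q634, e3 q791 L6775 q791, e3 q792 L6780 q792, e3 q793 L8251 q958, e3 q794 L8263 q959, e3 q795 (flp_e L6823) q640, e3 q796 L8286 q961, e3 q797 (flp_e L6840) q641, e3 q798 L6856 q798, e3 q799 L8335 q966, e3 q800 (flp_e L6867) q643, e3 q801 L6885 q650, e3 q802 L8374 q970, e3 q803 (flp_e L6898) q645, e3 q804 L6911 q804, e3 q805 L6920 q654, e3 q806 L6927 q655, e3 q807 (flp_e L6943) q788, e3 q808 (flp_e L6945) q648, e3 q809 L7006 q809, e3 q810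 (flp_e L8361) q968, e3 q811 (flp_e L8368) q969, e3 q812 (flp_e L7029) q651, e3 q813 L7054 q813, e3 q814 (flp_e L8397) q972, e3 q815 L8483 q980, e3 q816 (flp_e L8419) q975, e3 q817 (flp_e L7083) q656, e3 q818 L7098 q665, e3 q819 L7106 q662, e3 q820 L7116 q820, e3 q821 L7122 q666, e3 q822 L7131 q663, e3 q823 (flp_e L8512) q982, e3 q824 (flp_e L8527) q984, e3 q825 (flp_e L8498) q981, e3 q826 L7174 q826, e3 q827 L8571 q989, e3 q828 L8590 q991, e3 q829 L8607 q993, e3 q830 (flp_e L7203) q678, e3 q831 L8630 q996, trivial⟩ (by decide +kernel)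

theorem ce_e_13 : ∀ r, r < 64 → sm ge (Qf (832 + r)) = Qf (tab Gen.e (832 + r)) :=
  edges_tab (sm ge) Qf (tab Gen.e) 832 [(832, 998), (833, 680), (834, 1001), (835, 681), (836, 688), (837, 781), (838, 1007), (839, 684), (840, 999), (841, 1010), (842, 686), (843, 703), (844, 1003), (845, 1004), (846, 1017), (847, 1019), (848, 690), (849, 1022), (850, 691), (851, 851), (852, 1027), (853, 693), (854, 700), (855, 1031), (856, 695), (857, 1002), (858, 704), (859, 705), (860, 1037), (861, 698), (862, 1008), (863, 1029), (864, 1030), (865, 701), (866, 1011), (867, 1033), (868, 1049), (869, 1014), (870, 1036), (871, 706), (872, 872), (873, 713), (874, 1059), (875, 875), (876, 716), (877, 877), (878, 1054), (879, 1066), (880, 880), (881, 1058), (882, 714), (883, 1070), (884, 1071), (885, 885), (886, 718), (887, 719), (888, 722), (889, 1074), (890, 723), (891, 891), (892, 1078), (893, 725), (894, 894), (895, 895)]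
    ⟨e3 q832 L8651 q998, e3 q833 (flp_e L7230) q680, e3 q834 L8681 q1001, e3 q835 (flp_e L7246) q681, e3 q836 L7258 q688, e3 q837 L7263 q781, e3 q838 L8733 q1007, e3 q839 (flp_e L7280) q684, e3 q840 (flp_e L8667) q999, e3 q841 L8767 q1010, e3 q842 (flp_e L7311) q686, e3 q843 L7325 q703, e3 q844 (flp_e L8700) q1003, e3 q845 (flp_e L8706) q1004, e3 q846 L8826 q1017, e3 q847 L8848 q1019, e3 q848 (flp_e L7360) q690, e3 q849 L8876 q1022, e3 q850 (flp_e L7377) q691, e3 q851 L7392 q851, e3 q852 L8918 q1027, e3 q853 (flp_e L7403) q693, e3 q854 L7420 q700, e3 q855 L8955 q1031, e3 q856 (flp_e L7432) q695, e3 q857 (flp_e L8692) q1002, e3 q858 L7452 q704, e3 q859 L7459 q705, e3 q860 L9001 q1037, e3 q861 (flp_e L7474) q698, e3 q862 (flp_e L8752) q1008, e3 q863 (flp_e L8942) q1029, e3 q864 (flp_e L8949) q1030, e3 q865 (flp_e L7512) q701, e3 q866 (flp_e L8782) q1011, e3 q867 (flp_e L8978) q1033, e3 q868 L9104 q1049, e3 q869 (flp_e L8800) q1014, e3 q870 (flp_e L8996)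 q1036, e3 q871 (flp_e L7560) q706, e3 q872 L7575 q872, e3 q873 L7583 q713, e3 q874 L9181 q1059, e3 q875 L7596 q875, e3 q876 L7603 q716, e3 q877 L7616 q877, e3 q878 (flp_e L9148) q1054, e3 q879 L9238 q1066, e3 q880 L7638 q880, e3 q881 (flp_e L9177) q1058, e3 q882 (flp_e L7650) q714, e3 q883 (flp_e L9276) q1070, e3 q884 (flp_e L9284) q1071, e3 q885 L7679 q885, e3 q886 L7688 q718, e3 q887 L7695 q719, e3 q888 (flp_e L7698) q722, e3 q889 L9301 q1074, e3 q890 (flp_e L7716) q723, e3 q891 L7729 q891, e3 q892 L9335 q1078, e3 q893 (flp_e L7740) q725, e3 q894 L7751 q894, e3 q895 L7757 q895, trivial⟩ (by decide +kernel)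

theorem ce_e_14 : ∀ r, r < 64 → sm ge (Qf (896 + r)) = Qf (tab Gen.e (896 + r)) :=
  edges_tab (sm ge) Qf (tab Gen.e) 896 [(896, 896), (897, 1084), (898, 728), (899, 899), (900, 739), (901, 740), (902, 731), (903, 903), (904, 743), (905, 1096), (906, 906), (907, 745), (908, 736), (909, 909), (910, 1086), (911, 1104), (912, 1089), (913, 913), (914, 1091), (915, 915), (916, 1107), (917, 1095), (918, 744), (919, 1108), (920, 754), (921, 752), (922, 755), (923, 923), (924, 756), (925, 753), (926, 926), (927, 927), (928, 757), (929, 1111), (930, 1109), (931, 1113), (932, 778), (933, 1120), (934, 759), (935, 767), (936, 761), (937, 771), (938, 938), (939, 1127), (940, 774), (941, 765), (942, 1121), (943, 943), (944, 1128), (945, 773), (946, 946), (947, 1122), (948, 948), (949, 1124), (950, 1132), (951, 1126), (952, 952), (953, 1041), (954, 1119), (955, 955), (956, 956), (957, 1005), (958, 793), (959, 794)]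
    ⟨e3 q896 L7762 q896, e3 q897 L9377 q1084, e3 q898 (flp_e L7774) q728, e3 q899 L7787 q899, e3 q900 L7795 q739, e3 q901 L7799 q740, e3 q902 (flp_e L7805) q731, e3 q903 L7817 q903, e3 q904 L7824 q743, e3 q905 L9464 q1096, e3 q906 L7832 q906, e3 q907 L7840 q745, e3 q908 (flp_e L7845) q736, e3 q909 L7868 q909, e3 q910 (flp_e L9400) q1086, e3 q911 L9538 q1104, e3 q912 (flp_e L9417) q1089, e3 q913 L7904 q913, e3 q914 (flp_e L9435) q1091, e3 q915 L7914 q915, e3 q916 L9562 q1107, e3 q917 (flp_e L9459) q1095, e3 q918 (flp_e L7934) q744, e3 q919 (flp_e L9571) q1108, e3 q920 L7953 q754, e3 q921 L7960 q752, e3 q922 L7964 q755, e3 q923 L7976 q923, e3 q924 L7981 q756, e3 q925 L7988 q753, e3 q926 L7997 q926, e3 q927 L8003 q927, e3 q928 L8009 q757, e3 q929 (flp_e L9594) q1111, e3 q930 (flp_e L9578) q1109, e3 q931 (flp_e L9610) q1113, e3 q932 L8039 q778, e3 q933 L9661 q1120, e3 q934 (flp_e L8055) q759, e3 q935 L8074 q767, e3 q936 (flp_e L8078) q761, e3 q937 L8089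 q771, e3 q938 L8099 q938, e3 q939 L9723 q1127, e3 q940 L8112 q774, e3 q941 (flp_e L8115) q765, e3 q942 (flp_e L9681) q1121, e3 q943 L8144 q943, e3 q944 (flp_e L9738) q1128, e3 q945 L8157 q773, e3 q946 L8165 q946, e3 q947 (flp_e L9690) q1122, e3 q948 L8185 q948, e3 q949 (flp_e L9704) q1124, e3 q950 (flp_e L9783) q1132, e3 q951 (flp_e L9720) q1126, e3 q952 L8209 q952, e3 q953 (flp_e L9042) q1041, e3 q954 (flp_e L9654) q1119, e3 q955 L8233 q955, e3 q956 L8241 q956, e3 q957 (flp_e L8715) q1005, e3 q958 (flp_e L8251) q793, e3 q959 (flp_e L8263) q794, trivial⟩ (by decide +kernel)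

theorem ce_e_15 : ∀ r, r < 64 → sm ge (Qf (960 + r)) = Qf (tab Gen.e (960 + r)) :=
  edges_tab (sm ge) Qf (tab Gen.e) 960 [(960, 960), (961, 796), (962, 962), (963, 963), (964, 964), (965, 1147), (966, 799), (967, 967), (968, 810), (969, 811), (970, 802), (971, 971), (972, 814), (973, 1157), (974, 974), (975, 816), (976, 1149), (977, 1156), (978, 1152), (979, 1154), (980, 815), (981, 825), (982, 823), (983, 983), (984, 824), (985, 985), (986, 986), (987, 1161), (988, 1165), (989, 827), (990, 1168), (991, 828), (992, 1171), (993, 829), (994, 994), (995, 1176), (996, 831), (997, 1178), (998, 832), (999, 840), (1000, 1181), (1001, 834), (1002, 857), (1003, 844), (1004, 845), (1005, 957), (1006, 1188), (1007, 838), (1008, 862), (1009, 1180), (1010, 841), (1011, 866), (1012, 1183), (1013, 1198), (1014, 869), (1015, 1186), (1016, 1202), (1017, 846), (1018, 1204), (1019, 847), (1020, 1020), (1021, 1208), (1022, 849), (1023, 1172)]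
    ⟨e3 q960 L8285 q960, e3 q961 (flp_e L8286) q796, e3 q962 L8304 q962, e3 q963 L8312 q963, e3 q964 L8320 q964, e3 q965 L9919 q1147, e3 q966 (flp_e L8335) q799, e3 q967 L8351 q967, e3 q968 L8361 q810, e3 q969 L8368 q811, e3 q970 (flp_e L8374) q802, e3 q971 L8389 q971, e3 q972 L8397 q814, e3 q973 L10032 q1157, e3 q974 L8409 q974, e3 q975 L8419 q816, e3 q976 (flp_e L9950) q1149, e3 q977 (flp_e L10025) q1156, e3 q978 (flp_e L9979) q1152, e3 q979 (flp_e L10008) q1154, e3 q980 (flp_e L8483) q815, e3 q981 L8498 q825, e3 q982 L8512 q823, e3 q983 L8521 q983, e3 q984 L8527 q824, e3 q985 L8538 q985, e3 q986 L8546 q986, e3 q987 (flp_e L10075) q1161, e3 q988 L10108 q1165, e3 q989 (flp_e L8571) q827, e3 q990 L10138 q1168, e3 q991 (flp_e L8590) q828, e3 q992 L10169 q1171, e3 q993 (flp_e L8607) q829, e3 q994 L8619 q994, e3 q995 L10209 q1176, e3 q996 (flp_e L8630) q831, e3 q997 L10231 q1178, e3 q998 (flp_e L8651) q832, e3 q999 L8667 q840, e3 q1000 L10260 q1181, e3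 q1001 (flp_e L8681) q834, e3 q1002 L8692 q857, e3 q1003 L8700 q844, e3 q1004 L8706 q845, e3 q1005 L8715 q957, e3 q1006 L10318 q1188, e3 q1007 (flp_e L8733) q838, e3 q1008 L8752 q862, e3 q1009 (flp_e L10256) q1180, e3 q1010 (flp_e L8767) q841, e3 q1011 L8782 q866, e3 q1012 (flp_e L10281) q1183, e3 q1013 L10414 q1198, e3 q1014 L8800 q869, e3 q1015 (flp_e L10300) q1186, e3 q1016 L10448 q1202, e3 q1017 (flp_e L8826) q846, e3 q1018 L10469 q1204, e3 q1019 (flp_e L8848) q847, e3 q1020 L8865 q1020, e3 q1021 L10509 q1208, e3 q1022 (flp_e L8876) q849, e3 q1023 (flp_e L10181) q1172, trivial⟩ (by decide +kernel)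

theorem ce_e_16 : ∀ r, r < 64 → sm ge (Qf (1024 + r)) = Qf (tab Gen.e (1024 + r)) :=
  edges_tab (sm ge) Qf (tab Gen.e) 1024 [(1024, 1024), (1025, 1025), (1026, 1214), (1027, 852), (1028, 1179), (1029, 863), (1030, 864), (1031, 855), (1032, 1182), (1033, 867), (1034, 1226), (1035, 1185), (1036, 870), (1037, 860), (1038, 1189), (1039, 1216), (1040, 1236), (1041, 953), (1042, 1219), (1043, 1192), (1044, 1221), (1045, 1194), (1046, 1246), (1047, 1196), (1048, 1225), (1049, 868), (1050, 1250), (1051, 1251), (1052, 1201), (1053, 1053), (1054, 878), (1055, 1055), (1056, 1258), (1057, 1057), (1058, 881), (1059, 874), (1060, 1262), (1061, 1263), (1062, 1062), (1063, 1266), (1064, 1064), (1065, 1255), (1066, 879), (1067, 1270), (1068, 1271), (1069, 1069), (1070, 883), (1071, 884), (1072, 1072), (1073, 1073), (1074, 889), (1075, 1075), (1076, 1076), (1077, 1077), (1078, 892), (1079, 1079), (1080, 1080), (1081, 1285), (1082, 1082), (1083, 1083), (1084, 897),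 (1085, 1085), (1086, 910), (1087, 1295)]
    ⟨e3 q1024 L8896 q1024, e3 q1025 L8904 q1025, e3 q1026 L10555 q1214, e3 q1027 (flp_e L8918) q852, e3 q1028 (flp_e L10245) q1179, e3 q1029 L8942 q863, e3 q1030 L8949 q864, e3 q1031 (flp_e L8955) q855, e3 q1032 (flp_e L10273) q1182, e3 q1033 L8978 q867, e3 q1034 L10653 q1226, e3 q1035 (flp_e L10291) q1185, e3 q1036 L8996 q870, e3 q1037 (flp_e L9001) q860, e3 q1038 (flp_e L10338) q1189, e3 q1039 (flp_e L10582) q1216, e3 q1040 L10741 q1236, e3 q1041 L9042 q953, e3 q1042 (flp_e L10601) q1219, e3 q1043 (flp_e L10372) q1192, e3 q1044 (flp_e L10622) q1221, e3 q1045 (flp_e L10383) q1194, e3 q1046 L10831 q1246, e3 q1047 (flp_e L10399) q1196, e3 q1048 (flp_e L10648) q1225, e3 q1049 (flp_e L9104) q868, e3 q1050 (flp_e L10863) q1250, e3 q1051 (flp_e L10869) q1251, e3 q1052 (flp_e L10442) q1201, e3 q1053 L9139 q1053, e3 q1054 L9148 q878, e3 q1055 L9152 q1055, e3 q1056 L10921 q1258, e3 q1057 L9169 q1057, e3 q1058 L9177 q881,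 e3 q1059 (flp_e L9181) q874, e3 q1060 (flp_e L10956) q1262, e3 q1061 (flp_e L10963) q1263, e3 q1062 L9207 q1062, e3 q1063 L10980 q1266, e3 q1064 L9225 q1064, e3 q1065 (flp_e L10902) q1255, e3 q1066 (flp_e L9238) q879, e3 q1067 (flp_e L11022) q1270, e3 q1068 (flp_e L11030) q1271, e3 q1069 L9267 q1069, e3 q1070 L9276 q883, e3 q1071 L9284 q884, e3 q1072 L9292 q1072, e3 q1073 L9300 q1073, e3 q1074 (flp_e L9301) q889, e3 q1075 L9319 q1075, e3 q1076 L9326 q1076, e3 q1077 L9331 q1077, e3 q1078 (flp_e L9335) q892, e3 q1079 L9350 q1079, e3 q1080 L9356 q1080, e3 q1081 L11136 q1285, e3 q1082 L9367 q1082, e3 q1083 L9374 q1083, e3 q1084 (flp_e L9377) q897, e3 q1085 L9392 q1085, e3 q1086 L9400 q910, e3 q1087 L11217 q1295, trivial⟩ (by decide +kernel)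

theorem ce_e_17 : ∀ r, r < 64 → sm ge (Qf (1088 + r)) = Qf (tab Gen.e (1088 + r)) :=
  edges_tab (sm ge) Qf (tab Gen.e) 1088 [(1088, 1088), (1089, 912), (1090, 1090), (1091, 914), (1092, 1092), (1093, 1304), (1094, 1094), (1095, 917), (1096, 905), (1097, 1307), (1098, 1308), (1099, 1099), (1100, 1290), (1101, 1101), (1102, 1301), (1103, 1294), (1104, 911), (1105, 1105), (1106, 1311), (1107, 916), (1108, 919), (1109, 930), (1110, 1110), (1111, 929), (1112, 1112), (1113, 931), (1114, 1114), (1115, 1115), (1116, 1116), (1117, 1117), (1118, 1319), (1119, 954), (1120, 933), (1121, 942), (1122, 947), (1123, 1123), (1124, 949), (1125, 1325), (1126, 951), (1127, 939), (1128, 944), (1129, 1320), (1130, 1321), (1131, 1322), (1132, 950), (1133, 1239), (1134, 1324), (1135, 1323), (1136, 1234), (1137, 1187), (1138, 1138), (1139, 1139), (1140, 1140), (1141, 1141), (1142, 1142), (1143, 1143), (1144, 1333), (1145, 1145), (1146, 1146), (1147, 965), (1148, 1148), (1149,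 976), (1150, 1338), (1151, 1151)]
    ⟨e3 q1088 L9410 q1088, e3 q1089 L9417 q912, e3 q1090 L9428 q1090, e3 q1091 L9435 q914, e3 q1092 L9439 q1092, e3 q1093 L11278 q1304, e3 q1094 L9451 q1094, e3 q1095 L9459 q917, e3 q1096 (flp_e L9464) q905, e3 q1097 (flp_e L11304) q1307, e3 q1098 (flp_e L11308) q1308, e3 q1099 L9484 q1099, e3 q1100 (flp_e L11180) q1290, e3 q1101 L9503 q1101, e3 q1102 (flp_e L11261) q1301, e3 q1103 (flp_e L11211) q1294, e3 q1104 (flp_e L9538) q911, e3 q1105 L9548 q1105, e3 q1106 L11325 q1311, e3 q1107 (flp_e L9562) q916, e3 q1108 L9571 q919, e3 q1109 L9578 q930, e3 q1110 L9589 q1110, e3 q1111 L9594 q929, e3 q1112 L9604 q1112, e3 q1113 L9610 q931, e3 q1114 L9619 q1114, e3 q1115 L9626 q1115, e3 q1116 L9632 q1116, e3 q1117 L9639 q1117, e3 q1118 L11385 q1319, e3 q1119 L9654 q954, e3 q1120 (flp_e L9661) q933, e3 q1121 L9681 q942, e3 q1122 L9690 q947, e3 q1123 L9701 q1123, e3 q1124 L9704 q949, e3 q1125 L11464 q1325, e3 q1126 L9720 q951, e3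 q1127 (flp_e L9723) q939, e3 q1128 L9738 q944, e3 q1129 (flp_e L11400) q1320, e3 q1130 (flp_e L11410) q1321, e3 q1131 (flp_e L11424) q1322, e3 q1132 L9783 q950, e3 q1133 (flp_e L10769) q1239, e3 q1134 (flp_e L11457) q1324, e3 q1135 (flp_e L11446) q1323, e3 q1136 (flp_e L10723) q1234, e3 q1137 (flp_e L10310) q1187, e3 q1138 L9833 q1138, e3 q1139 L9845 q1139, e3 q1140 L9860 q1140, e3 q1141 L9868 q1141, e3 q1142 L9881 q1142, e3 q1143 L9892 q1143, e3 q1144 L11568 q1333, e3 q1145 L9907 q1145, e3 q1146 L9916 q1146, e3 q1147 (flp_e L9919) q965, e3 q1148 L9939 q1148, e3 q1149 L9950 q976, e3 q1150 L11624 q1338, e3 q1151 L9968 q1151, trivial⟩ (by decide +kernel)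

theorem ce_e_18 : ∀ r, r < 64 → sm ge (Qf (1152 + r)) = Qf (tab Gen.e (1152 + r)) :=
  edges_tab (sm ge) Qf (tab Gen.e) 1152 [(1152, 978), (1153, 1153), (1154, 979), (1155, 1339), (1156, 977), (1157, 973), (1158, 1337), (1159, 1342), (1160, 1160), (1161, 987), (1162, 1162), (1163, 1163), (1164, 1346), (1165, 988), (1166, 1166), (1167, 1350), (1168, 990), (1169, 1169), (1170, 1353), (1171, 992), (1172, 1023), (1173, 1173), (1174, 1174), (1175, 1360), (1176, 995), (1177, 1362), (1178, 997), (1179, 1028), (1180, 1009), (1181, 1000), (1182, 1032), (1183, 1012), (1184, 1373), (1185, 1035), (1186, 1015), (1187, 1137), (1188, 1006), (1189, 1038), (1190, 1364), (1191, 1381), (1192, 1043), (1193, 1368), (1194, 1045), (1195, 1388), (1196, 1047), (1197, 1372), (1198, 1013), (1199, 1392), (1200, 1393), (1201, 1052), (1202, 1016), (1203, 1203), (1204, 1018), (1205, 1351), (1206, 1206), (1207, 1207), (1208, 1021), (1209, 1354), (1210, 1210), (1211, 1410), (1212,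 1357), (1213, 1213), (1214, 1026), (1215, 1363)]
    ⟨e3 q1152 L9979 q978, e3 q1153 L9992 q1153, e3 q1154 L10008 q979, e3 q1155 (flp_e L11645) q1339, e3 q1156 L10025 q977, e3 q1157 (flp_e L10032) q973, e3 q1158 (flp_e L11620) q1337, e3 q1159 (flp_e L11681) q1342, e3 q1160 L10067 q1160, e3 q1161 L10075 q987, e3 q1162 L10087 q1162, e3 q1163 L10095 q1163, e3 q1164 L11719 q1346, e3 q1165 (flp_e L10108) q988, e3 q1166 L10125 q1166, e3 q1167 L11754 q1350, e3 q1168 (flp_e L10138) q990, e3 q1169 L10156 q1169, e3 q1170 L11786 q1353, e3 q1171 (flp_e L10169) q992, e3 q1172 L10181 q1023, e3 q1173 L10188 q1173, e3 q1174 L10195 q1174, e3 q1175 L11843 q1360, e3 q1176 (flp_e L10209) q995, e3 q1177 L11863 q1362, e3 q1178 (flp_e L10231) q997, e3 q1179 L10245 q1028, e3 q1180 L10256 q1009, e3 q1181 (flp_e L10260) q1000, e3 q1182 L10273 q1032, e3 q1183 L10281 q1012, e3 q1184 L11957 q1373, e3 q1185 L10291 q1035, e3 q1186 L10300 q1015, e3 q1187 L10310 q1137, e3 q1188 (flp_e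 L10318) q1006, e3 q1189 L10338 q1038, e3 q1190 (flp_e L11890) q1364, e3 q1191 L12038 q1381, e3 q1192 L10372 q1043, e3 q1193 (flp_e L11924) q1368, e3 q1194 L10383 q1045, e3 q1195 L12118 q1388, e3 q1196 L10399 q1047, e3 q1197 (flp_e L11951) q1372, e3 q1198 (flp_e L10414) q1013, e3 q1199 (flp_e L12160) q1392, e3 q1200 (flp_e L12168) q1393, e3 q1201 L10442 q1052, e3 q1202 (flp_e L10448) q1016, e3 q1203 L10468 q1203, e3 q1204 (flp_e L10469) q1018, e3 q1205 (flp_e L11773) q1351, e3 q1206 L10497 q1206, e3 q1207 L10505 q1207, e3 q1208 (flp_e L10509) q1021, e3 q1209 (flp_e L11800) q1354, e3 q1210 L10532 q1210, e3 q1211 L12318 q1410, e3 q1212 (flp_e L11820) q1357, e3 q1213 L10552 q1213, e3 q1214 (flp_e L10555) q1026, e3 q1215 (flp_e L11879) q1363, trivial⟩ (by decide +kernel)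

theorem ce_e_19 : ∀ r, r < 64 → sm ge (Qf (1216 + r)) = Qf (tab Gen.e (1216 + r)) :=
  edges_tab (sm ge) Qf (tab Gen.e) 1216 [(1216, 1039), (1217, 1420), (1218, 1366), (1219, 1042), (1220, 1367), (1221, 1044), (1222, 1369), (1223, 1430), (1224, 1371), (1225, 1048), (1226, 1034), (1227, 1434), (1228, 1435), (1229, 1376), (1230, 1377), (1231, 1415), (1232, 1379), (1233, 1440), (1234, 1136), (1235, 1419), (1236, 1040), (1237, 1443), (1238, 1444), (1239, 1133), (1240, 1382), (1241, 1445), (1242, 1384), (1243, 1427), (1244, 1447), (1245, 1387), (1246, 1046), (1247, 1449), (1248, 1450), (1249, 1391), (1250, 1050), (1251, 1051), (1252, 1252), (1253, 1454), (1254, 1254), (1255, 1065), (1256, 1458), (1257, 1257), (1258, 1056), (1259, 1463), (1260, 1464), (1261, 1261), (1262, 1060), (1263, 1061), (1264, 1467), (1265, 1469), (1266, 1063), (1267, 1471), (1268, 1472), (1269, 1269), (1270, 1067), (1271, 1068), (1272, 1451), (1273, 1273), (1274, 1274), (1275, 1275),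 (1276, 1276), (1277, 1479), (1278, 1278), (1279, 1279)]
    ⟨e3 q1216 L10582 q1039, e3 q1217 L12404 q1420, e3 q1218 (flp_e L11906) q1366, e3 q1219 L10601 q1042, e3 q1220 (flp_e L11915) q1367, e3 q1221 L10622 q1044, e3 q1222 (flp_e L11928) q1369, e3 q1223 L12479 q1430, e3 q1224 (flp_e L11942) q1371, e3 q1225 L10648 q1048, e3 q1226 (flp_e L10653) q1034, e3 q1227 (flp_e L12512) q1434, e3 q1228 (flp_e L12517) q1435, e3 q1229 (flp_e L11982) q1376, e3 q1230 (flp_e L11994) q1377, e3 q1231 (flp_e L12365) q1415, e3 q1232 (flp_e L12016) q1379, e3 q1233 L12560 q1440, e3 q1234 L10723 q1136, e3 q1235 (flp_e L12398) q1419, e3 q1236 (flp_e L10741) q1040, e3 q1237 (flp_e L12591) q1443, e3 q1238 (flp_e L12599) q1444, e3 q1239 L10769 q1133, e3 q1240 (flp_e L12054) q1382, e3 q1241 L12603 q1445, e3 q1242 (flp_e L12079) q1384, e3 q1243 (flp_e L12461) q1427, e3 q1244 L12617 q1447, e3 q1245 (flp_e L12110) q1387, e3 q1246 (flp_e L10831) q1046, e3 q1247 (flp_e L12634) q1449,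 e3 q1248 (flp_e L12640) q1450, e3 q1249 (flp_e L12150) q1391, e3 q1250 L10863 q1050, e3 q1251 L10869 q1051, e3 q1252 L10875 q1252, e3 q1253 L12664 q1454, e3 q1254 L10893 q1254, e3 q1255 L10902 q1065, e3 q1256 L12697 q1458, e3 q1257 L10919 q1257, e3 q1258 (flp_e L10921) q1056, e3 q1259 (flp_e L12741) q1463, e3 q1260 (flp_e L12748) q1464, e3 q1261 L10947 q1261, e3 q1262 L10956 q1060, e3 q1263 L10963 q1061, e3 q1264 (flp_e L12769) q1467, e3 q1265 (flp_e L12783) q1469, e3 q1266 (flp_e L10980) q1063, e3 q1267 (flp_e L12801) q1471, e3 q1268 (flp_e L12810) q1472, e3 q1269 L11013 q1269, e3 q1270 L11022 q1067, e3 q1271 L11030 q1068, e3 q1272 (flp_e L12645) q1451, e3 q1273 L11040 q1273, e3 q1274 L11046 q1274, e3 q1275 L11060 q1275, e3 q1276 L11073 q1276, e3 q1277 L12866 q1479, e3 q1278 L11086 q1278, e3 q1279 L11099 q1279, trivial⟩ (by decide +kernel)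

theorem ce_e_20 : ∀ r, r < 64 → sm ge (Qf (1280 + r)) = Qf (tab Gen.e (1280 + r)) :=
  edges_tab (sm ge) Qf (tab Gen.e) 1280 [(1280, 1280), (1281, 1281), (1282, 1487), (1283, 1283), (1284, 1284), (1285, 1081), (1286, 1491), (1287, 1492), (1288, 1288), (1289, 1289), (1290, 1100), (1291, 1291), (1292, 1499), (1293, 1293), (1294, 1103), (1295, 1087), (1296, 1341), (1297, 1480), (1298, 1298), (1299, 1299), (1300, 1500), (1301, 1102), (1302, 1503), (1303, 1303), (1304, 1093), (1305, 1496), (1306, 1507), (1307, 1097), (1308, 1098), (1309, 1494), (1310, 1493), (1311, 1106), (1312, 1312), (1313, 1313), (1314, 1314), (1315, 1315), (1316, 1513), (1317, 1317), (1318, 1318), (1319, 1118), (1320, 1129), (1321, 1130), (1322, 1131), (1323, 1135), (1324, 1134), (1325, 1125), (1326, 1326), (1327, 1515), (1328, 1328), (1329, 1329), (1330, 1518), (1331, 1331), (1332, 1332), (1333, 1144), (1334, 1520), (1335, 1519), (1336, 1336), (1337, 1158), (1338, 1150), (1339, 1155),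 (1340, 1516), (1341, 1296), (1342, 1159), (1343, 1517)]
    ⟨e3 q1280 L11109 q1280, e3 q1281 L11112 q1281, e3 q1282 L12945 q1487, e3 q1283 L11126 q1283, e3 q1284 L11133 q1284, e3 q1285 (flp_e L11136) q1081, e3 q1286 (flp_e L12981) q1491, e3 q1287 (flp_e L12993) q1492, e3 q1288 L11161 q1288, e3 q1289 L11170 q1289, e3 q1290 L11180 q1100, e3 q1291 L11186 q1291, e3 q1292 L13063 q1499, e3 q1293 L11202 q1293, e3 q1294 L11211 q1103, e3 q1295 (flp_e L11217) q1087, e3 q1296 L11673 q1341, e3 q1297 (flp_e L12884) q1480, e3 q1298 L11239 q1298, e3 q1299 L11247 q1299, e3 q1300 (flp_e L13084) q1500, e3 q1301 L11261 q1102, e3 q1302 L13102 q1503, e3 q1303 L11276 q1303, e3 q1304 (flp_e L11278) q1093, e3 q1305 (flp_e L13045) q1496, e3 q1306 (flp_e L13127) q1507, e3 q1307 L11304 q1097, e3 q1308 L11308 q1098, e3 q1309 (flp_e L13019) q1494, e3 q1310 (flp_e L13006) q1493, e3 q1311 (flp_e L11325) q1106, e3 q1312 L11339 q1312, e3 q1313 L11346 q1313, e3 q1314 L11354 q1314, e3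 q1315 L11362 q1315, e3 q1316 L13167 q1513, e3 q1317 L11373 q1317, e3 q1318 L11380 q1318, e3 q1319 (flp_e L11385) q1118, e3 q1320 L11400 q1129, e3 q1321 L11410 q1130, e3 q1322 L11424 q1131, e3 q1323 L11446 q1135, e3 q1324 L11457 q1134, e3 q1325 (flp_e L11464) q1125, e3 q1326 L11487 q1326, e3 q1327 L13179 q1515, e3 q1328 L11514 q1328, e3 q1329 L11524 q1329, e3 q1330 L13229 q1518, e3 q1331 L11551 q1331, e3 q1332 L11563 q1332, e3 q1333 (flp_e L11568) q1144, e3 q1334 (flp_e L13270) q1520, e3 q1335 (flp_e L13255) q1519, e3 q1336 L11605 q1336, e3 q1337 L11620 q1158, e3 q1338 (flp_e L11624) q1150, e3 q1339 L11645 q1155, e3 q1340 (flp_e L13205) q1516, e3 q1341 (flp_e L11673) q1296, e3 q1342 L11681 q1159, e3 q1343 (flp_e L13225) q1517, trivial⟩ (by decide +kernel)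

theorem ce_e_21 : ∀ r, r < 64 → sm ge (Qf (1344 + r)) = Qf (tab Gen.e (1344 + r)) :=
  edges_tab (sm ge) Qf (tab Gen.e) 1344 [(1344, 1344), (1345, 1521), (1346, 1164), (1347, 1347), (1348, 1348), (1349, 1349), (1350, 1167), (1351, 1205), (1352, 1352), (1353, 1170), (1354, 1209), (1355, 1355), (1356, 1537), (1357, 1212), (1358, 1358), (1359, 1541), (1360, 1175), (1361, 1361), (1362, 1177), (1363, 1215), (1364, 1190), (1365, 1549), (1366, 1218), (1367, 1220), (1368, 1193), (1369, 1222), (1370, 1558), (1371, 1224), (1372, 1197), (1373, 1184), (1374, 1562), (1375, 1563), (1376, 1229), (1377, 1230), (1378, 1545), (1379, 1232), (1380, 1568), (1381, 1191), (1382, 1240), (1383, 1570), (1384, 1242), (1385, 1555), (1386, 1573), (1387, 1245), (1388, 1195), (1389, 1574), (1390, 1575), (1391, 1249), (1392, 1199), (1393, 1200), (1394, 1578), (1395, 1577), (1396, 1396), (1397, 1397), (1398, 1398), (1399, 1527), (1400, 1400), (1401, 1587), (1402, 1530), (1403, 1403),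 (1404, 1531), (1405, 1405), (1406, 1533), (1407, 1597)]
    ⟨e3 q1344 L11704 q1344, e3 q1345 L13279 q1521, e3 q1346 (flp_e L11719) q1164, e3 q1347 L11734 q1347, e3 q1348 L11743 q1348, e3 q1349 L11749 q1349, e3 q1350 (flp_e L11754) q1167, e3 q1351 L11773 q1205, e3 q1352 L11783 q1352, e3 q1353 (flp_e L11786) q1170, e3 q1354 L11800 q1209, e3 q1355 L11807 q1355, e3 q1356 L13423 q1537, e3 q1357 L11820 q1212, e3 q1358 L11828 q1358, e3 q1359 L13456 q1541, e3 q1360 (flp_e L11843) q1175, e3 q1361 L11862 q1361, e3 q1362 (flp_e L11863) q1177, e3 q1363 L11879 q1215, e3 q1364 L11890 q1190, e3 q1365 L13536 q1549, e3 q1366 L11906 q1218, e3 q1367 L11915 q1220, e3 q1368 L11924 q1193, e3 q1369 L11928 q1222, e3 q1370 L13612 q1558, e3 q1371 L11942 q1224, e3 q1372 L11951 q1197, e3 q1373 (flp_e L11957) q1184, e3 q1374 (flp_e L13649) q1562, e3 q1375 (flp_e L13656) q1563, e3 q1376 L11982 q1229, e3 q1377 L11994 q1230, e3 q1378 (flp_e L13507) q1545, e3 q1379 L12016 q1232, e3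 q1380 L13702 q1568, e3 q1381 (flp_e L12038) q1191, e3 q1382 L12054 q1240, e3 q1383 L13729 q1570, e3 q1384 L12079 q1242, e3 q1385 (flp_e L13594) q1555, e3 q1386 L13765 q1573, e3 q1387 L12110 q1245, e3 q1388 (flp_e L12118) q1195, e3 q1389 (flp_e L13776) q1574, e3 q1390 (flp_e L13784) q1575, e3 q1391 L12150 q1249, e3 q1392 L12160 q1199, e3 q1393 L12168 q1200, e3 q1394 (flp_e L13819) q1578, e3 q1395 (flp_e L13809) q1577, e3 q1396 L12202 q1396, e3 q1397 L12213 q1397, e3 q1398 L12220 q1398, e3 q1399 (flp_e L13339) q1527, e3 q1400 L12246 q1400, e3 q1401 L13908 q1587, e3 q1402 (flp_e L13370) q1530, e3 q1403 L12267 q1403, e3 q1404 (flp_e L13382) q1531, e3 q1405 L12289 q1405, e3 q1406 (flp_e L13395) q1533, e3 q1407 L13993 q1597, trivial⟩ (by decide +kernel)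

theorem ce_e_22 : ∀ r, r < 64 → sm ge (Qf (1408 + r)) = Qf (tab Gen.e (1408 + r)) :=
  edges_tab (sm ge) Qf (tab Gen.e) 1408 [(1408, 1535), (1409, 1409), (1410, 1211), (1411, 1601), (1412, 1602), (1413, 1540), (1414, 1544), (1415, 1231), (1416, 1546), (1417, 1610), (1418, 1548), (1419, 1235), (1420, 1217), (1421, 1614), (1422, 1615), (1423, 1551), (1424, 1552), (1425, 1621), (1426, 1554), (1427, 1243), (1428, 1625), (1429, 1557), (1430, 1223), (1431, 1630), (1432, 1631), (1433, 1561), (1434, 1227), (1435, 1228), (1436, 1635), (1437, 1637), (1438, 1639), (1439, 1640), (1440, 1233), (1441, 1641), (1442, 1642), (1443, 1237), (1444, 1238), (1445, 1241), (1446, 1643), (1447, 1244), (1448, 1645), (1449, 1247), (1450, 1248), (1451, 1272), (1452, 1648), (1453, 1453), (1454, 1253), (1455, 1652), (1456, 1653), (1457, 1457), (1458, 1256), (1459, 1656), (1460, 1657), (1461, 1661), (1462, 1462), (1463, 1259), (1464, 1260), (1465, 1663), (1466, 1665), (1467, 1264),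 (1468, 1636), (1469, 1265), (1470, 1667), (1471, 1267)]
    ⟨e3 q1408 (flp_e L13411) q1535, e3 q1409 L12315 q1409, e3 q1410 (flp_e L12318) q1211, e3 q1411 (flp_e L14024) q1601, e3 q1412 (flp_e L14031) q1602, e3 q1413 (flp_e L13453) q1540, e3 q1414 (flp_e L13495) q1544, e3 q1415 L12365 q1231, e3 q1416 (flp_e L13513) q1546, e3 q1417 L14090 q1610, e3 q1418 (flp_e L13533) q1548, e3 q1419 L12398 q1235, e3 q1420 (flp_e L12404) q1217, e3 q1421 (flp_e L14129) q1614, e3 q1422 (flp_e L14136) q1615, e3 q1423 (flp_e L13559) q1551, e3 q1424 (flp_e L13568) q1552, e3 q1425 L14174 q1621, e3 q1426 (flp_e L13584) q1554, e3 q1427 L12461 q1243, e3 q1428 L14208 q1625, e3 q1429 (flp_e L13609) q1557, e3 q1430 (flp_e L12479) q1223, e3 q1431 (flp_e L14243) q1630, e3 q1432 (flp_e L14249) q1631, e3 q1433 (flp_e L13641) q1561, e3 q1434 L12512 q1227, e3 q1435 L12517 q1228, e3 q1436 (flp_e L14277) q1635, e3 q1437 (flp_e L14291) q1637, e3 q1438 L14301 q1639, e3 q1439 L14312 q1640,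 e3 q1440 (flp_e L12560) q1233, e3 q1441 (flp_e L14331) q1641, e3 q1442 (flp_e L14339) q1642, e3 q1443 L12591 q1237, e3 q1444 L12599 q1238, e3 q1445 (flp_e L12603) q1241, e3 q1446 (flp_e L14348) q1643, e3 q1447 (flp_e L12617) q1244, e3 q1448 (flp_e L14360) q1645, e3 q1449 L12634 q1247, e3 q1450 L12640 q1248, e3 q1451 L12645 q1272, e3 q1452 L14374 q1648, e3 q1453 L12662 q1453, e3 q1454 (flp_e L12664) q1253, e3 q1455 (flp_e L14417) q1652, e3 q1456 (flp_e L14425) q1653, e3 q1457 L12694 q1457, e3 q1458 (flp_e L12697) q1256, e3 q1459 (flp_e L14450) q1656, e3 q1460 (flp_e L14458) q1657, e3 q1461 L14484 q1661, e3 q1462 L12732 q1462, e3 q1463 L12741 q1259, e3 q1464 L12748 q1260, e3 q1465 (flp_e L14501) q1663, e3 q1466 (flp_e L14516) q1665, e3 q1467 L12769 q1264, e3 q1468 (flp_e L14284) q1636, e3 q1469 L12783 q1265, e3 q1470 (flp_e L14532) q1667, e3 q1471 L12801 q1267, trivial⟩ (by decide +kernel)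

theorem ce_e_23 : ∀ r, r < 64 → sm ge (Qf (1472 + r)) = Qf (tab Gen.e (1472 + r)) :=
  edges_tab (sm ge) Qf (tab Gen.e) 1472 [(1472, 1268), (1473, 1646), (1474, 1647), (1475, 1475), (1476, 1476), (1477, 1675), (1478, 1478), (1479, 1277), (1480, 1297), (1481, 1481), (1482, 1680), (1483, 1483), (1484, 1484), (1485, 1683), (1486, 1486), (1487, 1282), (1488, 1682), (1489, 1681), (1490, 1490), (1491, 1286), (1492, 1287), (1493, 1310), (1494, 1309), (1495, 1495), (1496, 1305), (1497, 1689), (1498, 1498), (1499, 1292), (1500, 1300), (1501, 1676), (1502, 1690), (1503, 1302), (1504, 1688), (1505, 1693), (1506, 1696), (1507, 1306), (1508, 1687), (1509, 1644), (1510, 1510), (1511, 1511), (1512, 1699), (1513, 1316), (1514, 1514), (1515, 1327), (1516, 1340), (1517, 1343), (1518, 1330), (1519, 1335), (1520, 1334), (1521, 1345), (1522, 1522), (1523, 1523), (1524, 1707), (1525, 1525), (1526, 1526), (1527, 1399), (1528, 1528), (1529, 1714), (1530, 1402), (1531, 1404),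 (1532, 1532), (1533, 1406), (1534, 1723), (1535, 1408)]
    ⟨e3 q1472 L12810 q1268, e3 q1473 (flp_e L14366) q1646, e3 q1474 (flp_e L14371) q1647, e3 q1475 L12826 q1475, e3 q1476 L12834 q1476, e3 q1477 L14586 q1675, e3 q1478 L12860 q1478, e3 q1479 (flp_e L12866) q1277, e3 q1480 L12884 q1297, e3 q1481 L12895 q1481, e3 q1482 L14647 q1680, e3 q1483 L12915 q1483, e3 q1484 L12926 q1484, e3 q1485 L14691 q1683, e3 q1486 L12943 q1486, e3 q1487 (flp_e L12945) q1282, e3 q1488 (flp_e L14682) q1682, e3 q1489 (flp_e L14669) q1681, e3 q1490 L12972 q1490, e3 q1491 L12981 q1286, e3 q1492 L12993 q1287, e3 q1493 L13006 q1310, e3 q1494 L13019 q1309, e3 q1495 L13031 q1495, e3 q1496 L13045 q1305, e3 q1497 L14746 q1689, e3 q1498 L13061 q1498, e3 q1499 (flp_e L13063) q1292, e3 q1500 L13084 q1300, e3 q1501 (flp_e L14608) q1676, e3 q1502 (flp_e L14763) q1690, e3 q1503 (flp_e L13102) q1302, e3 q1504 L14742 q1688, e3 q1505 (flp_e L14785) q1693, e3 q1506 L14801 q1696, e3 q1507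 L13127 q1306, e3 q1508 (flp_e L14726) q1687, e3 q1509 (flp_e L14353) q1644, e3 q1510 L13150 q1510, e3 q1511 L13158 q1511, e3 q1512 L14818 q1699, e3 q1513 (flp_e L13167) q1316, e3 q1514 L13178 q1514, e3 q1515 (flp_e L13179) q1327, e3 q1516 L13205 q1340, e3 q1517 L13225 q1343, e3 q1518 (flp_e L13229) q1330, e3 q1519 L13255 q1335, e3 q1520 L13270 q1334, e3 q1521 (flp_e L13279) q1345, e3 q1522 L13295 q1522, e3 q1523 L13304 q1523, e3 q1524 L14877 q1707, e3 q1525 L13316 q1525, e3 q1526 L13325 q1526, e3 q1527 L13339 q1399, e3 q1528 L13351 q1528, e3 q1529 L14943 q1714, e3 q1530 L13370 q1402, e3 q1531 L13382 q1404, e3 q1532 L13392 q1532, e3 q1533 L13395 q1406, e3 q1534 L15029 q1723, e3 q1535 L13411 q1408, trivial⟩ (by decide +kernel)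

theorem ce_e_24 : ∀ r, r < 64 → sm ge (Qf (1536 + r)) = Qf (tab Gen.e (1536 + r)) :=
  edges_tab (sm ge) Qf (tab Gen.e) 1536 [(1536, 1536), (1537, 1356), (1538, 1727), (1539, 1728), (1540, 1413), (1541, 1359), (1542, 1542), (1543, 1543), (1544, 1414), (1545, 1378), (1546, 1416), (1547, 1740), (1548, 1418), (1549, 1365), (1550, 1743), (1551, 1423), (1552, 1424), (1553, 1748), (1554, 1426), (1555, 1385), (1556, 1752), (1557, 1429), (1558, 1370), (1559, 1757), (1560, 1758), (1561, 1433), (1562, 1374), (1563, 1375), (1564, 1762), (1565, 1764), (1566, 1766), (1567, 1767), (1568, 1380), (1569, 1768), (1570, 1383), (1571, 1769), (1572, 1770), (1573, 1386), (1574, 1389), (1575, 1390), (1576, 1772), (1577, 1395), (1578, 1394), (1579, 1579), (1580, 1776), (1581, 1581), (1582, 1582), (1583, 1711), (1584, 1782), (1585, 1713), (1586, 1586), (1587, 1401), (1588, 1786), (1589, 1787), (1590, 1716), (1591, 1717), (1592, 1793), (1593, 1719), (1594, 1594), (1595, 1797),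 (1596, 1722), (1597, 1407), (1598, 1802), (1599, 1803)]
    ⟨e3 q1536 L13419 q1536, e3 q1537 (flp_e L13423) q1356, e3 q1538 (flp_e L15064) q1727, e3 q1539 (flp_e L15073) q1728, e3 q1540 L13453 q1413, e3 q1541 (flp_e L13456) q1359, e3 q1542 L13476 q1542, e3 q1543 L13481 q1543, e3 q1544 L13495 q1414, e3 q1545 L13507 q1378, e3 q1546 L13513 q1416, e3 q1547 L15177 q1740, e3 q1548 L13533 q1418, e3 q1549 (flp_e L13536) q1365, e3 q1550 (flp_e L15211) q1743, e3 q1551 L13559 q1423, e3 q1552 L13568 q1424, e3 q1553 L15253 q1748, e3 q1554 L13584 q1426, e3 q1555 L13594 q1385, e3 q1556 L15289 q1752, e3 q1557 L13609 q1429, e3 q1558 (flp_e L13612) q1370, e3 q1559 (flp_e L15327) q1757, e3 q1560 (flp_e L15335) q1758, e3 q1561 L13641 q1433, e3 q1562 L13649 q1374, e3 q1563 L13656 q1375, e3 q1564 (flp_e L15367) q1762, e3 q1565 (flp_e L15382) q1764, e3 q1566 L15395 q1766, e3 q1567 L15410 q1767, e3 q1568 (flp_e L13702) q1380, e3 q1569 L15425 q1768, e3 q1570 (flp_e L13729)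 q1383, e3 q1571 (flp_e L15448) q1769, e3 q1572 (flp_e L15463) q1770, e3 q1573 (flp_e L13765) q1386, e3 q1574 L13776 q1389, e3 q1575 L13784 q1390, e3 q1576 (flp_e L15489) q1772, e3 q1577 L13809 q1395, e3 q1578 L13819 q1394, e3 q1579 L13832 q1579, e3 q1580 L15517 q1776, e3 q1581 L13848 q1581, e3 q1582 L13859 q1582, e3 q1583 (flp_e L14913) q1711, e3 q1584 L15580 q1782, e3 q1585 (flp_e L14939) q1713, e3 q1586 L13902 q1586, e3 q1587 (flp_e L13908) q1401, e3 q1588 (flp_e L15627) q1786, e3 q1589 (flp_e L15636) q1787, e3 q1590 (flp_e L14971) q1716, e3 q1591 (flp_e L14980) q1717, e3 q1592 L15682 q1793, e3 q1593 (flp_e L15000) q1719, e3 q1594 L13973 q1594, e3 q1595 L15717 q1797, e3 q1596 (flp_e L15026) q1722, e3 q1597 (flp_e L13993) q1407, e3 q1598 (flp_e L15760) q1802, e3 q1599 (flp_e L15766) q1803, trivial⟩ (by decide +kernel)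

theorem ce_e_25 : ∀ r, r < 64 → sm ge (Qf (1600 + r)) = Qf (tab Gen.e (1600 + r)) :=
  edges_tab (sm ge) Qf (tab Gen.e) 1600 [(1600, 1726), (1601, 1411), (1602, 1412), (1603, 1807), (1604, 1809), (1605, 1735), (1606, 1814), (1607, 1737), (1608, 1817), (1609, 1739), (1610, 1417), (1611, 1822), (1612, 1823), (1613, 1742), (1614, 1421), (1615, 1422), (1616, 1826), (1617, 1828), (1618, 1745), (1619, 1831), (1620, 1747), (1621, 1425), (1622, 1835), (1623, 1836), (1624, 1751), (1625, 1428), (1626, 1840), (1627, 1841), (1628, 1845), (1629, 1756), (1630, 1431), (1631, 1432), (1632, 1848), (1633, 1850), (1634, 1634), (1635, 1436), (1636, 1468), (1637, 1437), (1638, 1852), (1639, 1438), (1640, 1439), (1641, 1441), (1642, 1442), (1643, 1446), (1644, 1509), (1645, 1448), (1646, 1473), (1647, 1474), (1648, 1452), (1649, 1860), (1650, 1861), (1651, 1651), (1652, 1455), (1653, 1456), (1654, 1864), (1655, 1866), (1656, 1459), (1657, 1460), (1658, 1868), (1659, 1873),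 (1660, 1870), (1661, 1461), (1662, 1876), (1663, 1465)]
    ⟨e3 q1600 (flp_e L15055) q1726, e3 q1601 L14024 q1411, e3 q1602 L14031 q1412, e3 q1603 (flp_e L15795) q1807, e3 q1604 (flp_e L15809) q1809, e3 q1605 (flp_e L15136) q1735, e3 q1606 L15849 q1814, e3 q1607 (flp_e L15158) q1737, e3 q1608 L15879 q1817, e3 q1609 (flp_e L15174) q1739, e3 q1610 (flp_e L14090) q1417, e3 q1611 (flp_e L15925) q1822, e3 q1612 (flp_e L15933) q1823, e3 q1613 (flp_e L15203) q1742, e3 q1614 L14129 q1421, e3 q1615 L14136 q1422, e3 q1616 (flp_e L15957) q1826, e3 q1617 (flp_e L15972) q1828, e3 q1618 (flp_e L15233) q1745, e3 q1619 L15992 q1831, e3 q1620 (flp_e L15250) q1747, e3 q1621 (flp_e L14174) q1425, e3 q1622 (flp_e L16031) q1835, e3 q1623 (flp_e L16040) q1836, e3 q1624 (flp_e L15286) q1751, e3 q1625 (flp_e L14208) q1428, e3 q1626 (flp_e L16071) q1840, e3 q1627 (flp_e L16077) q1841, e3 q1628 L16100 q1845, e3 q1629 (flp_e L15318) q1756, e3 q1630 L14243 q1431, e3 q1631 L14249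 q1432, e3 q1632 (flp_e L16125) q1848, e3 q1633 (flp_e L16141) q1850, e3 q1634 L14273 q1634, e3 q1635 L14277 q1436, e3 q1636 L14284 q1468, e3 q1637 L14291 q1437, e3 q1638 (flp_e L16155) q1852, e3 q1639 (flp_e L14301) q1438, e3 q1640 (flp_e L14312) q1439, e3 q1641 L14331 q1441, e3 q1642 L14339 q1442, e3 q1643 L14348 q1446, e3 q1644 L14353 q1509, e3 q1645 L14360 q1448, e3 q1646 L14366 q1473, e3 q1647 L14371 q1474, e3 q1648 (flp_e L14374) q1452, e3 q1649 (flp_e L16205) q1860, e3 q1650 (flp_e L16214) q1861, e3 q1651 L14407 q1651, e3 q1652 L14417 q1455, e3 q1653 L14425 q1456, e3 q1654 (flp_e L16240) q1864, e3 q1655 (flp_e L16257) q1866, e3 q1656 L14450 q1459, e3 q1657 L14458 q1460, e3 q1658 (flp_e L16275) q1868, e3 q1659 L16310 q1873, e3 q1660 (flp_e L16289) q1870, e3 q1661 (flp_e L14484) q1461, e3 q1662 (flp_e L16332) q1876, e3 q1663 L14501 q1465, trivial⟩ (by decide +kernel)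

theorem ce_e_26 : ∀ r, r < 64 → sm ge (Qf (1664 + r)) = Qf (tab Gen.e (1664 + r)) :=
  edges_tab (sm ge) Qf (tab Gen.e) 1664 [(1664, 1849), (1665, 1466), (1666, 1877), (1667, 1470), (1668, 1853), (1669, 1854), (1670, 1855), (1671, 1858), (1672, 1859), (1673, 1673), (1674, 1885), (1675, 1477), (1676, 1501), (1677, 1677), (1678, 1888), (1679, 1679), (1680, 1482), (1681, 1489), (1682, 1488), (1683, 1485), (1684, 1890), (1685, 1889), (1686, 1893), (1687, 1508), (1688, 1504), (1689, 1497), (1690, 1502), (1691, 1886), (1692, 1839), (1693, 1505), (1694, 1887), (1695, 1897), (1696, 1506), (1697, 1856), (1698, 1900), (1699, 1512), (1700, 1901), (1701, 1701), (1702, 1702), (1703, 1703), (1704, 1908), (1705, 1705), (1706, 1706), (1707, 1524), (1708, 1912), (1709, 1913), (1710, 1710), (1711, 1583), (1712, 1918), (1713, 1585), (1714, 1529), (1715, 1921), (1716, 1590), (1717, 1591), (1718, 1926), (1719, 1593), (1720, 1720), (1721, 1930), (1722, 1596), (1723, 1534),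 (1724, 1935), (1725, 1936), (1726, 1600), (1727, 1538)]
    ⟨e3 q1664 (flp_e L16133) q1849, e3 q1665 L14516 q1466, e3 q1666 (flp_e L16339) q1877, e3 q1667 L14532 q1470, e3 q1668 (flp_e L16162) q1853, e3 q1669 (flp_e L16171) q1854, e3 q1670 (flp_e L16178) q1855, e3 q1671 (flp_e L16191) q1858, e3 q1672 (flp_e L16196) q1859, e3 q1673 L14568 q1673, e3 q1674 L16389 q1885, e3 q1675 (flp_e L14586) q1477, e3 q1676 L14608 q1501, e3 q1677 L14617 q1677, e3 q1678 L16435 q1888, e3 q1679 L14643 q1679, e3 q1680 (flp_e L14647) q1482, e3 q1681 L14669 q1489, e3 q1682 L14682 q1488, e3 q1683 (flp_e L14691) q1485, e3 q1684 (flp_e L16473) q1890, e3 q1685 (flp_e L16458) q1889, e3 q1686 L16494 q1893, e3 q1687 L14726 q1508, e3 q1688 (flp_e L14742) q1504, e3 q1689 (flp_e L14746) q1497, e3 q1690 L14763 q1502, e3 q1691 (flp_e L16412) q1886, e3 q1692 (flp_e L16065) q1839, e3 q1693 L14785 q1505, e3 q1694 L16431 q1887, e3 q1695 L16517 q1897, e3 q1696 (flp_e L14801) q1506, e3 q1697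 (flp_e L16183) q1856, e3 q1698 L16531 q1900, e3 q1699 (flp_e L14818) q1512, e3 q1700 (flp_e L16541) q1901, e3 q1701 L14834 q1701, e3 q1702 L14844 q1702, e3 q1703 L14847 q1703, e3 q1704 L16593 q1908, e3 q1705 L14863 q1705, e3 q1706 L14872 q1706, e3 q1707 (flp_e L14877) q1524, e3 q1708 (flp_e L16630) q1912, e3 q1709 (flp_e L16637) q1913, e3 q1710 L14906 q1710, e3 q1711 L14913 q1583, e3 q1712 L16682 q1918, e3 q1713 L14939 q1585, e3 q1714 (flp_e L14943) q1529, e3 q1715 (flp_e L16723) q1921, e3 q1716 L14971 q1590, e3 q1717 L14980 q1591, e3 q1718 L16770 q1926, e3 q1719 L15000 q1593, e3 q1720 L15009 q1720, e3 q1721 L16807 q1930, e3 q1722 L15026 q1596, e3 q1723 (flp_e L15029) q1534, e3 q1724 (flp_e L16853) q1935, e3 q1725 (flp_e L16861) q1936, e3 q1726 L15055 q1600, e3 q1727 L15064 q1538, trivial⟩ (by decide +kernel)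

theorem ce_e_27 : ∀ r, r < 64 → sm ge (Qf (1728 + r)) = Qf (tab Gen.e (1728 + r)) :=
  edges_tab (sm ge) Qf (tab Gen.e) 1728 [(1728, 1539), (1729, 1940), (1730, 1942), (1731, 1731), (1732, 1732), (1733, 1733), (1734, 1734), (1735, 1605), (1736, 1951), (1737, 1607), (1738, 1954), (1739, 1609), (1740, 1547), (1741, 1958), (1742, 1613), (1743, 1550), (1744, 1960), (1745, 1618), (1746, 1963), (1747, 1620), (1748, 1553), (1749, 1968), (1750, 1969), (1751, 1624), (1752, 1556), (1753, 1973), (1754, 1974), (1755, 1978), (1756, 1629), (1757, 1559), (1758, 1560), (1759, 1981), (1760, 1983), (1761, 1761), (1762, 1564), (1763, 1763), (1764, 1565), (1765, 1987), (1766, 1566), (1767, 1567), (1768, 1569), (1769, 1571), (1770, 1572), (1771, 1771), (1772, 1576), (1773, 1773), (1774, 1774), (1775, 1775), (1776, 1580), (1777, 1997), (1778, 1998), (1779, 1779), (1780, 2001), (1781, 1917), (1782, 1584), (1783, 2005), (1784, 2006), (1785, 1920), (1786, 1588), (1787, 1589),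 (1788, 2009), (1789, 2011), (1790, 1923), (1791, 2015)]
    ⟨e3 q1728 L15073 q1539, e3 q1729 (flp_e L16894) q1940, e3 q1730 (flp_e L16909) q1942, e3 q1731 L15101 q1731, e3 q1732 L15104 q1732, e3 q1733 L15115 q1733, e3 q1734 L15127 q1734, e3 q1735 L15136 q1605, e3 q1736 L16995 q1951, e3 q1737 L15158 q1607, e3 q1738 L17029 q1954, e3 q1739 L15174 q1609, e3 q1740 (flp_e L15177) q1547, e3 q1741 (flp_e L17064) q1958, e3 q1742 L15203 q1613, e3 q1743 L15211 q1550, e3 q1744 (flp_e L17089) q1960, e3 q1745 L15233 q1618, e3 q1746 L17111 q1963, e3 q1747 L15250 q1620, e3 q1748 (flp_e L15253) q1553, e3 q1749 (flp_e L17160) q1968, e3 q1750 (flp_e L17171) q1969, e3 q1751 L15286 q1624, e3 q1752 (flp_e L15289) q1556, e3 q1753 (flp_e L17203) q1973, e3 q1754 (flp_e L17211) q1974, e3 q1755 L17234 q1978, e3 q1756 L15318 q1629, e3 q1757 L15327 q1559, e3 q1758 L15335 q1560, e3 q1759 (flp_e L17264) q1981, e3 q1760 (flp_e L17281) q1983, e3 q1761 L15361 q1761, e3 q1762 L15367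 q1564, e3 q1763 L15376 q1763, e3 q1764 L15382 q1565, e3 q1765 (flp_e L17318) q1987, e3 q1766 (flp_e L15395) q1566, e3 q1767 (flp_e L15410) q1567, e3 q1768 (flp_e L15425) q1569, e3 q1769 L15448 q1571, e3 q1770 L15463 q1572, e3 q1771 L15476 q1771, e3 q1772 L15489 q1576, e3 q1773 L15499 q1773, e3 q1774 L15509 q1774, e3 q1775 L15513 q1775, e3 q1776 (flp_e L15517) q1580, e3 q1777 (flp_e L17412) q1997, e3 q1778 (flp_e L17421) q1998, e3 q1779 L15554 q1779, e3 q1780 L17446 q2001, e3 q1781 (flp_e L16679) q1917, e3 q1782 (flp_e L15580) q1584, e3 q1783 (flp_e L17501) q2005, e3 q1784 (flp_e L17511) q2006, e3 q1785 (flp_e L16713) q1920, e3 q1786 L15627 q1588, e3 q1787 L15636 q1589, e3 q1788 (flp_e L17541) q2009, e3 q1789 (flp_e L17554) q2011, e3 q1790 (flp_e L16744) q1923, e3 q1791 L17591 q2015, trivial⟩ (by decide +kernel)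

theorem ce_e_28 : ∀ r, r < 64 → sm ge (Qf (1792 + r)) = Qf (tab Gen.e (1792 + r)) :=
  edges_tab (sm ge) Qf (tab Gen.e) 1792 [(1792, 1925), (1793, 1592), (1794, 2020), (1795, 2021), (1796, 1929), (1797, 1595), (1798, 2025), (1799, 2026), (1800, 2030), (1801, 1934), (1802, 1598), (1803, 1599), (1804, 2033), (1805, 2035), (1806, 1806), (1807, 1603), (1808, 1808), (1809, 1604), (1810, 2039), (1811, 1948), (1812, 2043), (1813, 1950), (1814, 1606), (1815, 2046), (1816, 1953), (1817, 1608), (1818, 2049), (1819, 2050), (1820, 1962), (1821, 1957), (1822, 1611), (1823, 1612), (1824, 2055), (1825, 2057), (1826, 1616), (1827, 1827), (1828, 1617), (1829, 2059), (1830, 2061), (1831, 1619), (1832, 2048), (1833, 2063), (1834, 1967), (1835, 1622), (1836, 1623), (1837, 2066), (1838, 2068), (1839, 1692), (1840, 1626), (1841, 1627), (1842, 2072), (1843, 2077), (1844, 2074), (1845, 1628), (1846, 2080), (1847, 1847), (1848, 1632), (1849, 1664), (1850, 1633), (1851, 2081),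 (1852, 1638), (1853, 1668), (1854, 1669), (1855, 1670)]
    ⟨e3 q1792 (flp_e L16767) q1925, e3 q1793 (flp_e L15682) q1592, e3 q1794 (flp_e L17645) q2020, e3 q1795 (flp_e L17654) q2021, e3 q1796 (flp_e L16802) q1929, e3 q1797 (flp_e L15717) q1595, e3 q1798 (flp_e L17688) q2025, e3 q1799 (flp_e L17696) q2026, e3 q1800 L17724 q2030, e3 q1801 (flp_e L16845) q1934, e3 q1802 L15760 q1598, e3 q1803 L15766 q1599, e3 q1804 (flp_e L17750) q2033, e3 q1805 (flp_e L17764) q2035, e3 q1806 L15789 q1806, e3 q1807 L15795 q1603, e3 q1808 L15802 q1808, e3 q1809 L15809 q1604, e3 q1810 (flp_e L17794) q2039, e3 q1811 (flp_e L16967) q1948, e3 q1812 L17824 q2043, e3 q1813 (flp_e L16992) q1950, e3 q1814 (flp_e L15849) q1606, e3 q1815 (flp_e L17860) q2046, e3 q1816 (flp_e L17024) q1953, e3 q1817 (flp_e L15879) q1608, e3 q1818 (flp_e L17896) q2049, e3 q1819 (flp_e L17904) q2050, e3 q1820 (flp_e L17108) q1962, e3 q1821 (flp_e L17055) q1957, e3 q1822 L15925 q1611, e3 q1823 L15933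 q1612, e3 q1824 (flp_e L17946) q2055, e3 q1825 (flp_e L17963) q2057, e3 q1826 L15957 q1616, e3 q1827 L15966 q1827, e3 q1828 L15972 q1617, e3 q1829 (flp_e L17982) q2059, e3 q1830 L17996 q2061, e3 q1831 (flp_e L15992) q1619, e3 q1832 (flp_e L17884) q2048, e3 q1833 (flp_e L18019) q2063, e3 q1834 (flp_e L17150) q1967, e3 q1835 L16031 q1622, e3 q1836 L16040 q1623, e3 q1837 (flp_e L18043) q2066, e3 q1838 (flp_e L18061) q2068, e3 q1839 L16065 q1692, e3 q1840 L16071 q1626, e3 q1841 L16077 q1627, e3 q1842 (flp_e L18090) q2072, e3 q1843 L18118 q2077, e3 q1844 (flp_e L18100) q2074, e3 q1845 (flp_e L16100) q1628, e3 q1846 (flp_e L18142) q2080, e3 q1847 L16120 q1847, e3 q1848 L16125 q1632, e3 q1849 L16133 q1664, e3 q1850 L16141 q1633, e3 q1851 (flp_e L18149) q2081, e3 q1852 L16155 q1638, e3 q1853 L16162 q1668, e3 q1854 L16171 q1669, e3 q1855 L16178 q1670, trivial⟩ (by decide +kernel)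

theorem ce_e_29 : ∀ r, r < 64 → sm ge (Qf (1856 + r)) = Qf (tab Gen.e (1856 + r)) :=
  edges_tab (sm ge) Qf (tab Gen.e) 1856 [(1856, 1697), (1857, 1857), (1858, 1671), (1859, 1672), (1860, 1649), (1861, 1650), (1862, 2092), (1863, 2094), (1864, 1654), (1865, 2067), (1866, 1655), (1867, 2096), (1868, 1658), (1869, 2102), (1870, 1660), (1871, 2104), (1872, 2100), (1873, 1659), (1874, 2107), (1875, 2106), (1876, 1662), (1877, 1666), (1878, 2082), (1879, 2083), (1880, 2084), (1881, 2085), (1882, 2086), (1883, 2090), (1884, 2091), (1885, 1674), (1886, 1691), (1887, 1694), (1888, 1678), (1889, 1685), (1890, 1684), (1891, 2024), (1892, 2117), (1893, 1686), (1894, 2070), (1895, 2121), (1896, 2122), (1897, 1695), (1898, 2123), (1899, 2088), (1900, 1698), (1901, 1700), (1902, 1902), (1903, 2128), (1904, 1904), (1905, 1905), (1906, 2129), (1907, 1907), (1908, 1704), (1909, 2126), (1910, 2135), (1911, 1911), (1912, 1708), (1913, 1709), (1914, 2138), (1915, 2140),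 (1916, 2142), (1917, 1781), (1918, 1712), (1919, 2146)]
    ⟨e3 q1856 L16183 q1697, e3 q1857 L16188 q1857, e3 q1858 L16191 q1671, e3 q1859 L16196 q1672, e3 q1860 L16205 q1649, e3 q1861 L16214 q1650, e3 q1862 (flp_e L18222) q2092, e3 q1863 (flp_e L18238) q2094, e3 q1864 L16240 q1654, e3 q1865 (flp_e L18052) q2067, e3 q1866 L16257 q1655, e3 q1867 (flp_e L18257) q2096, e3 q1868 L16275 q1658, e3 q1869 L18299 q2102, e3 q1870 L16289 q1660, e3 q1871 L18311 q2104, e3 q1872 (flp_e L18288) q2100, e3 q1873 (flp_e L16310) q1659, e3 q1874 (flp_e L18336) q2107, e3 q1875 (flp_e L18331) q2106, e3 q1876 L16332 q1662, e3 q1877 L16339 q1666, e3 q1878 (flp_e L18155) q2082, e3 q1879 (flp_e L18165) q2083, e3 q1880 (flp_e L18169) q2084, e3 q1881 (flp_e L18178) q2085, e3 q1882 (flp_e L18184) q2086, e3 q1883 (flp_e L18204) q2090, e3 q1884 (flp_e L18211) q2091, e3 q1885 (flp_e L16389) q1674, e3 q1886 L16412 q1691, e3 q1887 (flp_e L16431) q1694, e3 q1888 (flp_e L16435) q1678,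 e3 q1889 L16458 q1685, e3 q1890 L16473 q1684, e3 q1891 (flp_e L17680) q2024, e3 q1892 L18402 q2117, e3 q1893 (flp_e L16494) q1686, e3 q1894 (flp_e L18079) q2070, e3 q1895 L18424 q2121, e3 q1896 L18429 q2122, e3 q1897 (flp_e L16517) q1695, e3 q1898 (flp_e L18439) q2123, e3 q1899 (flp_e L18195) q2088, e3 q1900 (flp_e L16531) q1698, e3 q1901 L16541 q1700, e3 q1902 L16547 q1902, e3 q1903 L18470 q2128, e3 q1904 L16564 q1904, e3 q1905 L16574 q1905, e3 q1906 L18487 q2129, e3 q1907 L16591 q1907, e3 q1908 (flp_e L16593) q1704, e3 q1909 L18491 q2126, e3 q1910 (flp_e L18548) q2135, e3 q1911 L16622 q1911, e3 q1912 L16630 q1708, e3 q1913 L16637 q1709, e3 q1914 (flp_e L18573) q2138, e3 q1915 (flp_e L18588) q2140, e3 q1916 L18602 q2142, e3 q1917 L16679 q1781, e3 q1918 (flp_e L16682) q1712, e3 q1919 (flp_e L18658) q2146, trivial⟩ (by decide +kernel)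

theorem ce_e_30 : ∀ r, r < 64 → sm ge (Qf (1920 + r)) = Qf (tab Gen.e (1920 + r)) :=
  edges_tab (sm ge) Qf (tab Gen.e) 1920 [(1920, 1785), (1921, 1715), (1922, 2149), (1923, 1790), (1924, 2152), (1925, 1792), (1926, 1718), (1927, 2157), (1928, 2158), (1929, 1796), (1930, 1721), (1931, 2162), (1932, 2163), (1933, 2167), (1934, 1801), (1935, 1724), (1936, 1725), (1937, 2170), (1938, 2172), (1939, 1939), (1940, 1729), (1941, 2139), (1942, 1730), (1943, 2176), (1944, 1944), (1945, 1945), (1946, 1946), (1947, 1947), (1948, 1811), (1949, 2186), (1950, 1813), (1951, 1736), (1952, 2190), (1953, 1816), (1954, 1738), (1955, 2193), (1956, 2196), (1957, 1821), (1958, 1741), (1959, 2198), (1960, 1744), (1961, 2199), (1962, 1820), (1963, 1746), (1964, 2204), (1965, 2205), (1966, 2144), (1967, 1834), (1968, 1749), (1969, 1750), (1970, 2210), (1971, 2212), (1972, 1972), (1973, 1753), (1974, 1754), (1975, 2217), (1976, 2222), (1977, 2219), (1978, 1755), (1979, 2225),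 (1980, 1980), (1981, 1759), (1982, 1982), (1983, 1760)]
    ⟨e3 q1920 L16713 q1785, e3 q1921 L16723 q1715, e3 q1922 (flp_e L18693) q2149, e3 q1923 L16744 q1790, e3 q1924 L18721 q2152, e3 q1925 L16767 q1792, e3 q1926 (flp_e L16770) q1718, e3 q1927 (flp_e L18772) q2157, e3 q1928 (flp_e L18781) q2158, e3 q1929 L16802 q1796, e3 q1930 (flp_e L16807) q1721, e3 q1931 (flp_e L18816) q2162, e3 q1932 (flp_e L18826) q2163, e3 q1933 L18854 q2167, e3 q1934 L16845 q1801, e3 q1935 L16853 q1724, e3 q1936 L16861 q1725, e3 q1937 (flp_e L18883) q2170, e3 q1938 (flp_e L18898) q2172, e3 q1939 L16886 q1939, e3 q1940 L16894 q1729, e3 q1941 (flp_e L18581) q2139, e3 q1942 L16909 q1730, e3 q1943 (flp_e L18932) q2176, e3 q1944 L16927 q1944, e3 q1945 L16938 q1945, e3 q1946 L16949 q1946, e3 q1947 L16959 q1947, e3 q1948 L16967 q1811, e3 q1949 L19026 q2186, e3 q1950 L16992 q1813, e3 q1951 (flp_e L16995) q1736, e3 q1952 (flp_e L19072) q2190, e3 q1953 L17024 q1816, e3 q1954 (flp_e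 L17029) q1738, e3 q1955 (flp_e L19110) q2193, e3 q1956 L19135 q2196, e3 q1957 L17055 q1821, e3 q1958 L17064 q1741, e3 q1959 (flp_e L19154) q2198, e3 q1960 L17089 q1744, e3 q1961 L19162 q2199, e3 q1962 L17108 q1820, e3 q1963 (flp_e L17111) q1746, e3 q1964 (flp_e L19214) q2204, e3 q1965 (flp_e L19226) q2205, e3 q1966 (flp_e L18636) q2144, e3 q1967 L17150 q1834, e3 q1968 L17160 q1749, e3 q1969 L17171 q1750, e3 q1970 (flp_e L19268) q2210, e3 q1971 (flp_e L19293) q2212, e3 q1972 L17198 q1972, e3 q1973 L17203 q1753, e3 q1974 L17211 q1754, e3 q1975 (flp_e L19345) q2217, e3 q1976 L19377 q2222, e3 q1977 (flp_e L19357) q2219, e3 q1978 (flp_e L17234) q1755, e3 q1979 (flp_e L19399) q2225, e3 q1980 L17257 q1980, e3 q1981 L17264 q1759, e3 q1982 L17274 q1982, e3 q1983 L17281 q1760, trivial⟩ (by decide +kernel)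

theorem ce_e_31 : ∀ r, r < 64 → sm ge (Qf (1984 + r)) = Qf (tab Gen.e (1984 + r)) :=
  edges_tab (sm ge) Qf (tab Gen.e) 1984 [(1984, 2229), (1985, 1985), (1986, 1986), (1987, 1765), (1988, 1988), (1989, 1989), (1990, 1990), (1991, 1991), (1992, 1992), (1993, 1993), (1994, 1994), (1995, 1995), (1996, 1996), (1997, 1777), (1998, 1778), (1999, 2242), (2000, 2244), (2001, 1780), (2002, 2247), (2003, 2248), (2004, 2145), (2005, 1783), (2006, 1784), (2007, 2251), (2008, 2253), (2009, 1788), (2010, 2243), (2011, 1789), (2012, 2256), (2013, 2259), (2014, 2151), (2015, 1791), (2016, 2263), (2017, 2264), (2018, 2185), (2019, 2156), (2020, 1794), (2021, 1795), (2022, 2270), (2023, 2272), (2024, 1891), (2025, 1798), (2026, 1799), (2027, 2277), (2028, 2282), (2029, 2279), (2030, 1800), (2031, 2285), (2032, 2032), (2033, 1804), (2034, 2034), (2035, 1805), (2036, 2288), (2037, 2037), (2038, 2038), (2039, 1810), (2040, 2040), (2041, 2041), (2042, 2274), (2043, 1812),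 (2044, 2296), (2045, 2189), (2046, 1815), (2047, 2298)]
    ⟨e3 q1984 (flp_e L19437) q2229, e3 q1985 L17298 q1985, e3 q1986 L17312 q1986, e3 q1987 L17318 q1765, e3 q1988 L17327 q1988, e3 q1989 L17337 q1989, e3 q1990 L17351 q1990, e3 q1991 L17364 q1991, e3 q1992 L17376 q1992, e3 q1993 L17380 q1993, e3 q1994 L17385 q1994, e3 q1995 L17391 q1995, e3 q1996 L17402 q1996, e3 q1997 L17412 q1777, e3 q1998 L17421 q1778, e3 q1999 (flp_e L19560) q2242, e3 q2000 (flp_e L19579) q2244, e3 q2001 (flp_e L17446) q1780, e3 q2002 (flp_e L19618) q2247, e3 q2003 (flp_e L19630) q2248, e3 q2004 (flp_e L18647) q2145, e3 q2005 L17501 q1783, e3 q2006 L17511 q1784, e3 q2007 (flp_e L19665) q2251, e3 q2008 (flp_e L19684) q2253, e3 q2009 L17541 q1788, e3 q2010 (flp_e L19570) q2243, e3 q2011 L17554 q1789, e3 q2012 (flp_e L19712) q2256, e3 q2013 L19731 q2259, e3 q2014 (flp_e L18718) q2151, e3 q2015 (flp_e L17591) q1791, e3 q2016 (flp_e L19792) q2263, e3 q2017 (flp_e L19802) q2264,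 e3 q2018 (flp_e L19023) q2185, e3 q2019 (flp_e L18761) q2156, e3 q2020 L17645 q1794, e3 q2021 L17654 q1795, e3 q2022 (flp_e L19866) q2270, e3 q2023 (flp_e L19882) q2272, e3 q2024 L17680 q1891, e3 q2025 L17688 q1798, e3 q2026 L17696 q1799, e3 q2027 (flp_e L19930) q2277, e3 q2028 L19967 q2282, e3 q2029 (flp_e L19944) q2279, e3 q2030 (flp_e L17724) q1800, e3 q2031 (flp_e L19995) q2285, e3 q2032 L17745 q2032, e3 q2033 L17750 q1804, e3 q2034 L17758 q2034, e3 q2035 L17764 q1805, e3 q2036 (flp_e L20017) q2288, e3 q2037 L17779 q2037, e3 q2038 L17787 q2038, e3 q2039 L17794 q1810, e3 q2040 L17801 q2040, e3 q2041 L17810 q2041, e3 q2042 (flp_e L19906) q2274, e3 q2043 (flp_e L17824) q1812, e3 q2044 (flp_e L20073) q2296, e3 q2045 (flp_e L19062) q2189, e3 q2046 L17860 q1815, e3 q2047 (flp_e L20094) q2298, trivial⟩ (by decide +kernel)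

theorem ce_e_32 : ∀ r, r < 64 → sm ge (Qf (2048 + r)) = Qf (tab Gen.e (2048 + r)) :=
  edges_tab (sm ge) Qf (tab Gen.e) 2048 [(2048, 1832), (2049, 1818), (2050, 1819), (2051, 2300), (2052, 2305), (2053, 2302), (2054, 2202), (2055, 1824), (2056, 2056), (2057, 1825), (2058, 2307), (2059, 1829), (2060, 2060), (2061, 1830), (2062, 2246), (2063, 1833), (2064, 2299), (2065, 2311), (2066, 1837), (2067, 1865), (2068, 1838), (2069, 2313), (2070, 1894), (2071, 2071), (2072, 1842), (2073, 2321), (2074, 1844), (2075, 2323), (2076, 2319), (2077, 1843), (2078, 2326), (2079, 2325), (2080, 1846), (2081, 1851), (2082, 1878), (2083, 1879), (2084, 1880), (2085, 1881), (2086, 1882), (2087, 2087), (2088, 1899), (2089, 2089), (2090, 1883), (2091, 1884), (2092, 1862), (2093, 2252), (2094, 1863), (2095, 2339), (2096, 1867), (2097, 2314), (2098, 2315), (2099, 2344), (2100, 1872), (2101, 2347), (2102, 1869), (2103, 2350), (2104, 1871), (2105, 2353), (2106, 1875), (2107, 1874),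 (2108, 2331), (2109, 2354), (2110, 2329), (2111, 2330)]
    ⟨e3 q2048 L17884 q1832, e3 q2049 L17896 q1818, e3 q2050 L17904 q1819, e3 q2051 (flp_e L20116) q2300, e3 q2052 L20153 q2305, e3 q2053 (flp_e L20126) q2302, e3 q2054 (flp_e L19190) q2202, e3 q2055 L17946 q1824, e3 q2056 L17956 q2056, e3 q2057 L17963 q1825, e3 q2058 (flp_e L20175) q2307, e3 q2059 L17982 q1829, e3 q2060 L17993 q2060, e3 q2061 (flp_e L17996) q1830, e3 q2062 (flp_e L19604) q2246, e3 q2063 L18019 q1833, e3 q2064 (flp_e L20106) q2299, e3 q2065 (flp_e L20207) q2311, e3 q2066 L18043 q1837, e3 q2067 L18052 q1865, e3 q2068 L18061 q1838, e3 q2069 (flp_e L20225) q2313, e3 q2070 L18079 q1894, e3 q2071 L18085 q2071, e3 q2072 L18090 q1842, e3 q2073 L20274 q2321, e3 q2074 L18100 q1844, e3 q2075 L20282 q2323, e3 q2076 (flp_e L20266) q2319, e3 q2077 (flp_e L18118) q1843, e3 q2078 (flp_e L20311) q2326, e3 q2079 (flp_e L20305) q2325, e3 q2080 L18142 q1846, e3 q2081 L18149 q1851, e3 q2082 L18155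 q1878, e3 q2083 L18165 q1879, e3 q2084 L18169 q1880, e3 q2085 L18178 q1881, e3 q2086 L18184 q1882, e3 q2087 L18189 q2087, e3 q2088 L18195 q1899, e3 q2089 L18199 q2089, e3 q2090 L18204 q1883, e3 q2091 L18211 q1884, e3 q2092 L18222 q1862, e3 q2093 (flp_e L19675) q2252, e3 q2094 L18238 q1863, e3 q2095 (flp_e L20400) q2339, e3 q2096 L18257 q1867, e3 q2097 (flp_e L20235) q2314, e3 q2098 (flp_e L20246) q2315, e3 q2099 L20433 q2344, e3 q2100 L18288 q1872, e3 q2101 L20455 q2347, e3 q2102 (flp_e L18299) q1869, e3 q2103 (flp_e L20479) q2350, e3 q2104 (flp_e L18311) q1871, e3 q2105 (flp_e L20496) q2353, e3 q2106 L18331 q1875, e3 q2107 L18336 q1874, e3 q2108 (flp_e L20344) q2331, e3 q2109 (flp_e L20503) q2354, e3 q2110 (flp_e L20330) q2329, e3 q2111 (flp_e L20340) q2330, trivial⟩ (by decide +kernel)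

theorem ce_e_33 : ∀ r, r < 64 → sm ge (Qf (2112 + r)) = Qf (tab Gen.e (2112 + r)) :=
  edges_tab (sm ge) Qf (tab Gen.e) 2112 [(2112, 2332), (2113, 2333), (2114, 2337), (2115, 2262), (2116, 2275), (2117, 1892), (2118, 2359), (2119, 2360), (2120, 2317), (2121, 1895), (2122, 1896), (2123, 1898), (2124, 2124), (2125, 2125), (2126, 1909), (2127, 2127), (2128, 1903), (2129, 1906), (2130, 2368), (2131, 2131), (2132, 2369), (2133, 2373), (2134, 2134), (2135, 1910), (2136, 2365), (2137, 2376), (2138, 1914), (2139, 1941), (2140, 1915), (2141, 2379), (2142, 1916), (2143, 2383), (2144, 1966), (2145, 2004), (2146, 1919), (2147, 2388), (2148, 2148), (2149, 1922), (2150, 2390), (2151, 2014), (2152, 1924), (2153, 2396), (2154, 2397), (2155, 2401), (2156, 2019), (2157, 1927), (2158, 1928), (2159, 2404), (2160, 2406), (2161, 2161), (2162, 1931), (2163, 1932), (2164, 2411), (2165, 2416), (2166, 2413), (2167, 1933), (2168, 2419), (2169, 2169), (2170, 1937), (2171, 2375),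 (2172, 1938), (2173, 2423), (2174, 2174), (2175, 2378)]
    ⟨e3 q2112 (flp_e L20355) q2332, e3 q2113 (flp_e L20359) q2333, e3 q2114 (flp_e L20383) q2337, e3 q2115 (flp_e L19778) q2262, e3 q2116 (flp_e L19915) q2275, e3 q2117 (flp_e L18402) q1892, e3 q2118 (flp_e L20543) q2359, e3 q2119 L20545 q2360, e3 q2120 (flp_e L20256) q2317, e3 q2121 (flp_e L18424) q1895, e3 q2122 (flp_e L18429) q1896, e3 q2123 L18439 q1898, e3 q2124 L18445 q2124, e3 q2125 L18449 q2125, e3 q2126 (flp_e L18491) q1909, e3 q2127 L18468 q2127, e3 q2128 (flp_e L18470) q1903, e3 q2129 (flp_e L18487) q1906, e3 q2130 (flp_e L20615) q2368, e3 q2131 L18519 q2131, e3 q2132 (flp_e L20627) q2369, e3 q2133 L20660 q2373, e3 q2134 L18541 q2134, e3 q2135 L18548 q1910, e3 q2136 (flp_e L20585) q2365, e3 q2137 (flp_e L20688) q2376, e3 q2138 L18573 q1914, e3 q2139 L18581 q1941, e3 q2140 L18588 q1915, e3 q2141 (flp_e L20714) q2379, e3 q2142 (flp_e L18602) q1916, e3 q2143 (flp_e L20757) q2383, e3 q2144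 L18636 q1966, e3 q2145 L18647 q2004, e3 q2146 L18658 q1919, e3 q2147 (flp_e L20819) q2388, e3 q2148 L18686 q2148, e3 q2149 L18693 q1922, e3 q2150 L20839 q2390, e3 q2151 L18718 q2014, e3 q2152 (flp_e L18721) q1924, e3 q2153 (flp_e L20912) q2396, e3 q2154 (flp_e L20922) q2397, e3 q2155 L20952 q2401, e3 q2156 L18761 q2019, e3 q2157 L18772 q1927, e3 q2158 L18781 q1928, e3 q2159 (flp_e L20985) q2404, e3 q2160 (flp_e L21002) q2406, e3 q2161 L18809 q2161, e3 q2162 L18816 q1931, e3 q2163 L18826 q1932, e3 q2164 (flp_e L21057) q2411, e3 q2165 L21096 q2416, e3 q2166 (flp_e L21073) q2413, e3 q2167 (flp_e L18854) q1933, e3 q2168 (flp_e L21122) q2419, e3 q2169 L18876 q2169, e3 q2170 L18883 q1937, e3 q2171 (flp_e L20681) q2375, e3 q2172 L18898 q1938, e3 q2173 (flp_e L21151) q2423, e3 q2174 L18916 q2174, e3 q2175 (flp_e L20707) q2378, trivial⟩ (by decide +kernel)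

theorem ce_e_34 : ∀ r, r < 64 → sm ge (Qf (2176 + r)) = Qf (tab Gen.e (2176 + r)) :=
  edges_tab (sm ge) Qf (tab Gen.e) 2176 [(2176, 1943), (2177, 2380), (2178, 2381), (2179, 2179), (2180, 2180), (2181, 2181), (2182, 2436), (2183, 2183), (2184, 2438), (2185, 2018), (2186, 1949), (2187, 2441), (2188, 2393), (2189, 2045), (2190, 1952), (2191, 2445), (2192, 2192), (2193, 1955), (2194, 2449), (2195, 2448), (2196, 1956), (2197, 2452), (2198, 1959), (2199, 1961), (2200, 2455), (2201, 2456), (2202, 2054), (2203, 2203), (2204, 1964), (2205, 1965), (2206, 2460), (2207, 2465), (2208, 2462), (2209, 2386), (2210, 1970), (2211, 2211), (2212, 1971), (2213, 2468), (2214, 2214), (2215, 2215), (2216, 2216), (2217, 1975), (2218, 2477), (2219, 1977), (2220, 2479), (2221, 2475), (2222, 1976), (2223, 2482), (2224, 2481), (2225, 1979), (2226, 2486), (2227, 2227), (2228, 2228), (2229, 1984), (2230, 2230), (2231, 2231), (2232, 2232), (2233, 2233), (2234, 2234), (2235, 2235),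 (2236, 2236), (2237, 2237), (2238, 2238), (2239, 2239)]
    ⟨e3 q2176 L18932 q1943, e3 q2177 (flp_e L20722) q2380, e3 q2178 (flp_e L20732) q2381, e3 q2179 L18956 q2179, e3 q2180 L18969 q2180, e3 q2181 L18980 q2181, e3 q2182 L21262 q2436, e3 q2183 L18999 q2183, e3 q2184 L21280 q2438, e3 q2185 L19023 q2018, e3 q2186 (flp_e L19026) q1949, e3 q2187 (flp_e L21324) q2441, e3 q2188 (flp_e L20879) q2393, e3 q2189 L19062 q2045, e3 q2190 L19072 q1952, e3 q2191 (flp_e L21367) q2445, e3 q2192 L19105 q2192, e3 q2193 L19110 q1955, e3 q2194 L21406 q2449, e3 q2195 (flp_e L21398) q2448, e3 q2196 (flp_e L19135) q1956, e3 q2197 (flp_e L21436) q2452, e3 q2198 L19154 q1959, e3 q2199 (flp_e L19162) q1961, e3 q2200 (flp_e L21467) q2455, e3 q2201 (flp_e L21478) q2456, e3 q2202 L19190 q2054, e3 q2203 L19203 q2203, e3 q2204 L19214 q1964, e3 q2205 L19226 q1965, e3 q2206 (flp_e L21514) q2460, e3 q2207 L21556 q2465, e3 q2208 (flp_e L21532) q2462, e3 q2209 (flp_e L20798) q2386,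 e3 q2210 L19268 q1970, e3 q2211 L19285 q2211, e3 q2212 L19293 q1971, e3 q2213 (flp_e L21585) q2468, e3 q2214 L19316 q2214, e3 q2215 L19325 q2215, e3 q2216 L19338 q2216, e3 q2217 L19345 q1975, e3 q2218 L21662 q2477, e3 q2219 L19357 q1977, e3 q2220 L21672 q2479, e3 q2221 (flp_e L21650) q2475, e3 q2222 (flp_e L19377) q1976, e3 q2223 (flp_e L21695) q2482, e3 q2224 (flp_e L21690) q2481, e3 q2225 L19399 q1979, e3 q2226 (flp_e L21722) q2486, e3 q2227 L19413 q2227, e3 q2228 L19430 q2228, e3 q2229 L19437 q1984, e3 q2230 L19445 q2230, e3 q2231 L19456 q2231, e3 q2232 L19464 q2232, e3 q2233 L19474 q2233, e3 q2234 L19486 q2234, e3 q2235 L19495 q2235, e3 q2236 L19505 q2236, e3 q2237 L19513 q2237, e3 q2238 L19523 q2238, e3 q2239 L19528 q2239, trivial⟩ (by decide +kernel)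

theorem ce_e_35 : ∀ r, r < 64 → sm ge (Qf (2240 + r)) = Qf (tab Gen.e (2240 + r)) :=
  edges_tab (sm ge) Qf (tab Gen.e) 2240 [(2240, 2240), (2241, 2241), (2242, 1999), (2243, 2010), (2244, 2000), (2245, 2498), (2246, 2062), (2247, 2002), (2248, 2003), (2249, 2502), (2250, 2504), (2251, 2007), (2252, 2093), (2253, 2008), (2254, 2507), (2255, 2497), (2256, 2012), (2257, 2499), (2258, 2500), (2259, 2013), (2260, 2514), (2261, 2394), (2262, 2115), (2263, 2016), (2264, 2017), (2265, 2518), (2266, 2522), (2267, 2520), (2268, 2440), (2269, 2269), (2270, 2022), (2271, 2271), (2272, 2023), (2273, 2526), (2274, 2042), (2275, 2116), (2276, 2276), (2277, 2027), (2278, 2535), (2279, 2029), (2280, 2516), (2281, 2533), (2282, 2028), (2283, 2539), (2284, 2538), (2285, 2031), (2286, 2286), (2287, 2287), (2288, 2036), (2289, 2289), (2290, 2290), (2291, 2291), (2292, 2292), (2293, 2293), (2294, 2294), (2295, 2295), (2296, 2044), (2297, 2553), (2298, 2047), (2299, 2064),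 (2300, 2051), (2301, 2559), (2302, 2053), (2303, 2501)]
    ⟨e3 q2240 L19536 q2240, e3 q2241 L19548 q2241, e3 q2242 L19560 q1999, e3 q2243 L19570 q2010, e3 q2244 L19579 q2000, e3 q2245 (flp_e L21851) q2498, e3 q2246 L19604 q2062, e3 q2247 L19618 q2002, e3 q2248 L19630 q2003, e3 q2249 (flp_e L21893) q2502, e3 q2250 (flp_e L21913) q2504, e3 q2251 L19665 q2007, e3 q2252 L19675 q2093, e3 q2253 L19684 q2008, e3 q2254 (flp_e L21949) q2507, e3 q2255 (flp_e L21842) q2497, e3 q2256 L19712 q2012, e3 q2257 (flp_e L21859) q2499, e3 q2258 (flp_e L21871) q2500, e3 q2259 (flp_e L19731) q2013, e3 q2260 (flp_e L22008) q2514, e3 q2261 (flp_e L20889) q2394, e3 q2262 L19778 q2115, e3 q2263 L19792 q2016, e3 q2264 L19802 q2017, e3 q2265 (flp_e L22059) q2518, e3 q2266 L22092 q2522, e3 q2267 (flp_e L22073) q2520, e3 q2268 (flp_e L21313) q2440, e3 q2269 L19860 q2269, e3 q2270 L19866 q2022, e3 q2271 L19875 q2271, e3 q2272 L19882 q2023, e3 q2273 (flp_e L22140) q2526, e3 q2274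 L19906 q2042, e3 q2275 L19915 q2116, e3 q2276 L19923 q2276, e3 q2277 L19930 q2027, e3 q2278 L22202 q2535, e3 q2279 L19944 q2029, e3 q2280 (flp_e L22034) q2516, e3 q2281 (flp_e L22194) q2533, e3 q2282 (flp_e L19967) q2028, e3 q2283 (flp_e L22242) q2539, e3 q2284 (flp_e L22235) q2538, e3 q2285 L19995 q2031, e3 q2286 L20002 q2286, e3 q2287 L20011 q2287, e3 q2288 L20017 q2036, e3 q2289 L20023 q2289, e3 q2290 L20031 q2290, e3 q2291 L20037 q2291, e3 q2292 L20045 q2292, e3 q2293 L20052 q2293, e3 q2294 L20061 q2294, e3 q2295 L20065 q2295, e3 q2296 L20073 q2044, e3 q2297 (flp_e L22344) q2553, e3 q2298 L20094 q2047, e3 q2299 L20106 q2064, e3 q2300 L20116 q2051, e3 q2301 L22396 q2559, e3 q2302 L20126 q2053, e3 q2303 (flp_e L21881) q2501, trivial⟩ (by decide +kernel)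

theorem ce_e_36 : ∀ r, r < 64 → sm ge (Qf (2304 + r)) = Qf (tab Gen.e (2304 + r)) :=
  edges_tab (sm ge) Qf (tab Gen.e) 2304 [(2304, 2557), (2305, 2052), (2306, 2562), (2307, 2058), (2308, 2308), (2309, 2309), (2310, 2503), (2311, 2065), (2312, 2555), (2313, 2069), (2314, 2097), (2315, 2098), (2316, 2569), (2317, 2120), (2318, 2571), (2319, 2076), (2320, 2574), (2321, 2073), (2322, 2577), (2323, 2075), (2324, 2580), (2325, 2079), (2326, 2078), (2327, 2581), (2328, 2582), (2329, 2110), (2330, 2111), (2331, 2108), (2332, 2112), (2333, 2113), (2334, 2334), (2335, 2335), (2336, 2336), (2337, 2114), (2338, 2506), (2339, 2095), (2340, 2508), (2341, 2509), (2342, 2566), (2343, 2567), (2344, 2099), (2345, 2596), (2346, 2598), (2347, 2101), (2348, 2601), (2349, 2349), (2350, 2103), (2351, 2604), (2352, 2352), (2353, 2105), (2354, 2109), (2355, 2585), (2356, 2584), (2357, 2586), (2358, 2530), (2359, 2118), (2360, 2119), (2361, 2607), (2362, 2362), (2363, 2363),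 (2364, 2364), (2365, 2136), (2366, 2612), (2367, 2367)]
    ⟨e3 q2304 (flp_e L22384) q2557, e3 q2305 (flp_e L20153) q2052, e3 q2306 (flp_e L22425) q2562, e3 q2307 L20175 q2058, e3 q2308 L20183 q2308, e3 q2309 L20194 q2309, e3 q2310 (flp_e L21903) q2503, e3 q2311 L20207 q2065, e3 q2312 (flp_e L22364) q2555, e3 q2313 L20225 q2069, e3 q2314 L20235 q2097, e3 q2315 L20246 q2098, e3 q2316 L22467 q2569, e3 q2317 L20256 q2120, e3 q2318 L22477 q2571, e3 q2319 L20266 q2076, e3 q2320 L22493 q2574, e3 q2321 (flp_e L20274) q2073, e3 q2322 (flp_e L22513) q2577, e3 q2323 (flp_e L20282) q2075, e3 q2324 (flp_e L22528) q2580, e3 q2325 L20305 q2079, e3 q2326 L20311 q2078, e3 q2327 (flp_e L22538) q2581, e3 q2328 (flp_e L22546) q2582, e3 q2329 L20330 q2110, e3 q2330 L20340 q2111, e3 q2331 L20344 q2108, e3 q2332 L20355 q2112, e3 q2333 L20359 q2113, e3 q2334 L20364 q2334, e3 q2335 L20372 q2335, e3 q2336 L20377 q2336, e3 q2337 L20383 q2114, e3 q2338 (flp_e L21940) q2506, e3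 q2339 L20400 q2095, e3 q2340 (flp_e L21959) q2508, e3 q2341 (flp_e L21970) q2509, e3 q2342 (flp_e L22448) q2566, e3 q2343 (flp_e L22459) q2567, e3 q2344 (flp_e L20433) q2099, e3 q2345 (flp_e L22651) q2596, e3 q2346 L22662 q2598, e3 q2347 (flp_e L20455) q2101, e3 q2348 (flp_e L22686) q2601, e3 q2349 L20473 q2349, e3 q2350 L20479 q2103, e3 q2351 (flp_e L22705) q2604, e3 q2352 L20492 q2352, e3 q2353 L20496 q2105, e3 q2354 L20503 q2109, e3 q2355 (flp_e L22572) q2585, e3 q2356 (flp_e L22565) q2584, e3 q2357 (flp_e L22579) q2586, e3 q2358 (flp_e L22171) q2530, e3 q2359 L20543 q2118, e3 q2360 (flp_e L20545) q2119, e3 q2361 (flp_e L22723) q2607, e3 q2362 L20561 q2362, e3 q2363 L20566 q2363, e3 q2364 L20573 q2364, e3 q2365 L20585 q2136, e3 q2366 L22775 q2612, e3 q2367 L20605 q2367, trivial⟩ (by decide +kernel)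

theorem ce_e_37 : ∀ r, r < 64 → sm ge (Qf (2368 + r)) = Qf (tab Gen.e (2368 + r)) :=
  edges_tab (sm ge) Qf (tab Gen.e) 2368 [(2368, 2130), (2369, 2132), (2370, 2615), (2371, 2617), (2372, 2616), (2373, 2133), (2374, 2620), (2375, 2171), (2376, 2137), (2377, 2611), (2378, 2175), (2379, 2141), (2380, 2177), (2381, 2178), (2382, 2382), (2383, 2143), (2384, 2632), (2385, 2631), (2386, 2209), (2387, 2387), (2388, 2147), (2389, 2389), (2390, 2150), (2391, 2638), (2392, 2639), (2393, 2188), (2394, 2261), (2395, 2395), (2396, 2153), (2397, 2154), (2398, 2648), (2399, 2652), (2400, 2650), (2401, 2155), (2402, 2655), (2403, 2403), (2404, 2159), (2405, 2614), (2406, 2160), (2407, 2658), (2408, 2408), (2409, 2409), (2410, 2410), (2411, 2164), (2412, 2668), (2413, 2166), (2414, 2659), (2415, 2666), (2416, 2165), (2417, 2672), (2418, 2671), (2419, 2168), (2420, 2676), (2421, 2421), (2422, 2610), (2423, 2173), (2424, 2622), (2425, 2623), (2426, 2683), (2427, 2427),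 (2428, 2624), (2429, 2625), (2430, 2626), (2431, 2627)]
    ⟨e3 q2368 L20615 q2130, e3 q2369 L20627 q2132, e3 q2370 (flp_e L22813) q2615, e3 q2371 L22834 q2617, e3 q2372 (flp_e L22828) q2616, e3 q2373 (flp_e L20660) q2133, e3 q2374 (flp_e L22868) q2620, e3 q2375 L20681 q2171, e3 q2376 L20688 q2137, e3 q2377 (flp_e L22768) q2611, e3 q2378 L20707 q2175, e3 q2379 L20714 q2141, e3 q2380 L20722 q2177, e3 q2381 L20732 q2178, e3 q2382 L20748 q2382, e3 q2383 L20757 q2143, e3 q2384 L22980 q2632, e3 q2385 (flp_e L22972) q2631, e3 q2386 L20798 q2209, e3 q2387 L20811 q2387, e3 q2388 L20819 q2147, e3 q2389 L20834 q2389, e3 q2390 (flp_e L20839) q2150, e3 q2391 (flp_e L23065) q2638, e3 q2392 (flp_e L23078) q2639, e3 q2393 L20879 q2188, e3 q2394 L20889 q2261, e3 q2395 L20905 q2395, e3 q2396 L20912 q2153, e3 q2397 L20922 q2154, e3 q2398 (flp_e L23177) q2648, e3 q2399 L23210 q2652, e3 q2400 (flp_e L23193) q2650, e3 q2401 (flp_e L20952) q2155, e3 q2402 (flp_e L23246)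 q2655, e3 q2403 L20977 q2403, e3 q2404 L20985 q2159, e3 q2405 (flp_e L22803) q2614, e3 q2406 L21002 q2160, e3 q2407 (flp_e L23272) q2658, e3 q2408 L21025 q2408, e3 q2409 L21035 q2409, e3 q2410 L21048 q2410, e3 q2411 L21057 q2164, e3 q2412 L23361 q2668, e3 q2413 L21073 q2166, e3 q2414 (flp_e L23282) q2659, e3 q2415 (flp_e L23349) q2666, e3 q2416 (flp_e L21096) q2165, e3 q2417 (flp_e L23395) q2672, e3 q2418 (flp_e L23389) q2671, e3 q2419 L21122 q2168, e3 q2420 (flp_e L23426) q2676, e3 q2421 L21135 q2421, e3 q2422 (flp_e L22757) q2610, e3 q2423 L21151 q2173, e3 q2424 (flp_e L22883) q2622, e3 q2425 (flp_e L22897) q2623, e3 q2426 L23478 q2683, e3 q2427 L21185 q2427, e3 q2428 (flp_e L22903) q2624, e3 q2429 (flp_e L22914) q2625, e3 q2430 (flp_e L22921) q2626, e3 q2431 (flp_e L22931) q2627, trivial⟩ (by decide +kernel)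

theorem ce_e_38 : ∀ r, r < 64 → sm ge (Qf (2432 + r)) = Qf (tab Gen.e (2432 + r)) :=
  edges_tab (sm ge) Qf (tab Gen.e) 2432 [(2432, 2628), (2433, 2433), (2434, 2643), (2435, 2435), (2436, 2182), (2437, 2695), (2438, 2184), (2439, 2697), (2440, 2268), (2441, 2187), (2442, 2701), (2443, 2700), (2444, 2644), (2445, 2191), (2446, 2446), (2447, 2706), (2448, 2195), (2449, 2194), (2450, 2709), (2451, 2708), (2452, 2197), (2453, 2713), (2454, 2454), (2455, 2200), (2456, 2201), (2457, 2715), (2458, 2717), (2459, 2459), (2460, 2206), (2461, 2724), (2462, 2208), (2463, 2726), (2464, 2722), (2465, 2207), (2466, 2728), (2467, 2634), (2468, 2213), (2469, 2469), (2470, 2470), (2471, 2731), (2472, 2472), (2473, 2473), (2474, 2735), (2475, 2221), (2476, 2738), (2477, 2218), (2478, 2741), (2479, 2220), (2480, 2744), (2481, 2224), (2482, 2223), (2483, 2748), (2484, 2746), (2485, 2747), (2486, 2226), (2487, 2487), (2488, 2488), (2489, 2489), (2490, 2490), (2491, 2491),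 (2492, 2492), (2493, 2493), (2494, 2494), (2495, 2495)]
    ⟨e3 q2432 (flp_e L22937) q2628, e3 q2433 L21237 q2433, e3 q2434 (flp_e L23116) q2643, e3 q2435 L21257 q2435, e3 q2436 (flp_e L21262) q2182, e3 q2437 (flp_e L23600) q2695, e3 q2438 (flp_e L21280) q2184, e3 q2439 (flp_e L23620) q2697, e3 q2440 L21313 q2268, e3 q2441 L21324 q2187, e3 q2442 L23665 q2701, e3 q2443 (flp_e L23657) q2700, e3 q2444 (flp_e L23129) q2644, e3 q2445 L21367 q2191, e3 q2446 L21381 q2446, e3 q2447 L23719 q2706, e3 q2448 L21398 q2195, e3 q2449 (flp_e L21406) q2194, e3 q2450 (flp_e L23750) q2709, e3 q2451 (flp_e L23744) q2708, e3 q2452 L21436 q2197, e3 q2453 (flp_e L23785) q2713, e3 q2454 L21455 q2454, e3 q2455 L21467 q2200, e3 q2456 L21478 q2201, e3 q2457 (flp_e L23807) q2715, e3 q2458 (flp_e L23824) q2717, e3 q2459 L21503 q2459, e3 q2460 L21514 q2206, e3 q2461 L23901 q2724, e3 q2462 L21532 q2208, e3 q2463 L23915 q2726, e3 q2464 (flp_e L23881) q2722, e3 q2465 (flp_e L21556)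 q2207, e3 q2466 (flp_e L23938) q2728, e3 q2467 (flp_e L23012) q2634, e3 q2468 L21585 q2213, e3 q2469 L21597 q2469, e3 q2470 L21611 q2470, e3 q2471 L23961 q2731, e3 q2472 L21628 q2472, e3 q2473 L21637 q2473, e3 q2474 L23997 q2735, e3 q2475 L21650 q2221, e3 q2476 L24015 q2738, e3 q2477 (flp_e L21662) q2218, e3 q2478 (flp_e L24038) q2741, e3 q2479 (flp_e L21672) q2220, e3 q2480 (flp_e L24054) q2744, e3 q2481 L21690 q2224, e3 q2482 L21695 q2223, e3 q2483 (flp_e L24085) q2748, e3 q2484 (flp_e L24072) q2746, e3 q2485 (flp_e L24078) q2747, e3 q2486 L21722 q2226, e3 q2487 L21734 q2487, e3 q2488 L21749 q2488, e3 q2489 L21758 q2489, e3 q2490 L21769 q2490, e3 q2491 L21774 q2491, e3 q2492 L21788 q2492, e3 q2493 L21797 q2493, e3 q2494 L21809 q2494, e3 q2495 L21819 q2495, trivial⟩ (by decide +kernel)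

theorem ce_e_39 : ∀ r, r < 64 → sm ge (Qf (2496 + r)) = Qf (tab Gen.e (2496 + r)) :=
  edges_tab (sm ge) Qf (tab Gen.e) 2496 [(2496, 2496), (2497, 2255), (2498, 2245), (2499, 2257), (2500, 2258), (2501, 2303), (2502, 2249), (2503, 2310), (2504, 2250), (2505, 2762), (2506, 2338), (2507, 2254), (2508, 2340), (2509, 2341), (2510, 2755), (2511, 2756), (2512, 2757), (2513, 2758), (2514, 2260), (2515, 2774), (2516, 2280), (2517, 2517), (2518, 2265), (2519, 2781), (2520, 2267), (2521, 2779), (2522, 2266), (2523, 2783), (2524, 2524), (2525, 2525), (2526, 2273), (2527, 2527), (2528, 2528), (2529, 2778), (2530, 2358), (2531, 2531), (2532, 2775), (2533, 2281), (2534, 2796), (2535, 2278), (2536, 2799), (2537, 2776), (2538, 2284), (2539, 2283), (2540, 2801), (2541, 2802), (2542, 2542), (2543, 2543), (2544, 2544), (2545, 2545), (2546, 2546), (2547, 2547), (2548, 2548), (2549, 2549), (2550, 2550), (2551, 2551), (2552, 2773), (2553, 2297), (2554, 2761), (2555, 2312),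 (2556, 2759), (2557, 2304), (2558, 2814), (2559, 2301)]
    ⟨e3 q2496 L21830 q2496, e3 q2497 L21842 q2255, e3 q2498 L21851 q2245, e3 q2499 L21859 q2257, e3 q2500 L21871 q2258, e3 q2501 L21881 q2303, e3 q2502 L21893 q2249, e3 q2503 L21903 q2310, e3 q2504 L21913 q2250, e3 q2505 (flp_e L24231) q2762, e3 q2506 L21940 q2338, e3 q2507 L21949 q2254, e3 q2508 L21959 q2340, e3 q2509 L21970 q2341, e3 q2510 (flp_e L24154) q2755, e3 q2511 (flp_e L24161) q2756, e3 q2512 (flp_e L24173) q2757, e3 q2513 (flp_e L24181) q2758, e3 q2514 L22008 q2260, e3 q2515 (flp_e L24346) q2774, e3 q2516 L22034 q2280, e3 q2517 L22050 q2517, e3 q2518 L22059 q2265, e3 q2519 L24420 q2781, e3 q2520 L22073 q2267, e3 q2521 (flp_e L24408) q2779, e3 q2522 (flp_e L22092) q2266, e3 q2523 (flp_e L24445) q2783, e3 q2524 L22123 q2524, e3 q2525 L22133 q2525, e3 q2526 L22140 q2273, e3 q2527 L22150 q2527, e3 q2528 L22159 q2528, e3 q2529 (flp_e L24396) q2778, e3 q2530 L22171 q2358, e3 q2531 L22179 q2531,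 e3 q2532 (flp_e L24360) q2775, e3 q2533 L22194 q2281, e3 q2534 L24541 q2796, e3 q2535 (flp_e L22202) q2278, e3 q2536 (flp_e L24564) q2799, e3 q2537 (flp_e L24371) q2776, e3 q2538 L22235 q2284, e3 q2539 L22242 q2283, e3 q2540 (flp_e L24577) q2801, e3 q2541 (flp_e L24586) q2802, e3 q2542 L22265 q2542, e3 q2543 L22270 q2543, e3 q2544 L22280 q2544, e3 q2545 L22285 q2545, e3 q2546 L22293 q2546, e3 q2547 L22298 q2547, e3 q2548 L22303 q2548, e3 q2549 L22311 q2549, e3 q2550 L22322 q2550, e3 q2551 L22328 q2551, e3 q2552 (flp_e L24335) q2773, e3 q2553 L22344 q2297, e3 q2554 (flp_e L24219) q2761, e3 q2555 L22364 q2312, e3 q2556 (flp_e L24194) q2759, e3 q2557 L22384 q2304, e3 q2558 L24676 q2814, e3 q2559 (flp_e L22396) q2301, trivial⟩ (by decide +kernel)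

theorem ce_e_40 : ∀ r, r < 64 → sm ge (Qf (2560 + r)) = Qf (tab Gen.e (2560 + r)) :=
  edges_tab (sm ge) Qf (tab Gen.e) 2560 [(2560, 2816), (2561, 2760), (2562, 2306), (2563, 2563), (2564, 2763), (2565, 2764), (2566, 2342), (2567, 2343), (2568, 2823), (2569, 2316), (2570, 2826), (2571, 2318), (2572, 2829), (2573, 2832), (2574, 2320), (2575, 2835), (2576, 2740), (2577, 2322), (2578, 2838), (2579, 2579), (2580, 2324), (2581, 2327), (2582, 2328), (2583, 2840), (2584, 2356), (2585, 2355), (2586, 2357), (2587, 2587), (2588, 2588), (2589, 2589), (2590, 2765), (2591, 2766), (2592, 2767), (2593, 2768), (2594, 2821), (2595, 2694), (2596, 2345), (2597, 2847), (2598, 2346), (2599, 2849), (2600, 2600), (2601, 2348), (2602, 2852), (2603, 2603), (2604, 2351), (2605, 2605), (2606, 2606), (2607, 2361), (2608, 2856), (2609, 2609), (2610, 2422), (2611, 2377), (2612, 2366), (2613, 2860), (2614, 2405), (2615, 2370), (2616, 2372), (2617, 2371), (2618, 2864), (2619, 2863),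 (2620, 2374), (2621, 2868), (2622, 2424), (2623, 2425)]
    ⟨e3 q2560 (flp_e L24695) q2816, e3 q2561 (flp_e L24205) q2760, e3 q2562 L22425 q2306, e3 q2563 L22431 q2563, e3 q2564 (flp_e L24241) q2763, e3 q2565 (flp_e L24253) q2764, e3 q2566 L22448 q2342, e3 q2567 L22459 q2343, e3 q2568 L24730 q2823, e3 q2569 (flp_e L22467) q2316, e3 q2570 (flp_e L24753) q2826, e3 q2571 (flp_e L22477) q2318, e3 q2572 (flp_e L24767) q2829, e3 q2573 L24781 q2832, e3 q2574 (flp_e L22493) q2320, e3 q2575 (flp_e L24805) q2835, e3 q2576 (flp_e L24032) q2740, e3 q2577 L22513 q2322, e3 q2578 (flp_e L24819) q2838, e3 q2579 L22523 q2579, e3 q2580 L22528 q2324, e3 q2581 L22538 q2327, e3 q2582 L22546 q2328, e3 q2583 (flp_e L24834) q2840, e3 q2584 L22565 q2356, e3 q2585 L22572 q2355, e3 q2586 L22579 q2357, e3 q2587 L22587 q2587, e3 q2588 L22595 q2588, e3 q2589 L22601 q2589, e3 q2590 (flp_e L24263) q2765, e3 q2591 (flp_e L24269) q2766, e3 q2592 (flp_e L24282) q2767, e3 q2593 (flp_e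 L24290) q2768, e3 q2594 (flp_e L24722) q2821, e3 q2595 (flp_e L23592) q2694, e3 q2596 L22651 q2345, e3 q2597 (flp_e L24885) q2847, e3 q2598 (flp_e L22662) q2346, e3 q2599 (flp_e L24902) q2849, e3 q2600 L22681 q2600, e3 q2601 L22686 q2348, e3 q2602 (flp_e L24922) q2852, e3 q2603 L22699 q2603, e3 q2604 L22705 q2351, e3 q2605 L22711 q2605, e3 q2606 L22719 q2606, e3 q2607 L22723 q2361, e3 q2608 L24950 q2856, e3 q2609 L22740 q2609, e3 q2610 L22757 q2422, e3 q2611 L22768 q2377, e3 q2612 (flp_e L22775) q2366, e3 q2613 (flp_e L25009) q2860, e3 q2614 L22803 q2405, e3 q2615 L22813 q2370, e3 q2616 L22828 q2372, e3 q2617 (flp_e L22834) q2371, e3 q2618 (flp_e L25058) q2864, e3 q2619 (flp_e L25045) q2863, e3 q2620 L22868 q2374, e3 q2621 (flp_e L25096) q2868, e3 q2622 L22883 q2424, e3 q2623 L22897 q2425, trivial⟩ (by decide +kernel)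

theorem ce_e_41 : ∀ r, r < 64 → sm ge (Qf (2624 + r)) = Qf (tab Gen.e (2624 + r)) :=
  edges_tab (sm ge) Qf (tab Gen.e) 2624 [(2624, 2428), (2625, 2429), (2626, 2430), (2627, 2431), (2628, 2432), (2629, 2629), (2630, 2881), (2631, 2385), (2632, 2384), (2633, 2883), (2634, 2467), (2635, 2635), (2636, 2636), (2637, 2637), (2638, 2391), (2639, 2392), (2640, 2887), (2641, 2891), (2642, 2889), (2643, 2434), (2644, 2444), (2645, 2645), (2646, 2646), (2647, 2647), (2648, 2398), (2649, 2902), (2650, 2400), (2651, 2900), (2652, 2399), (2653, 2905), (2654, 2904), (2655, 2402), (2656, 2908), (2657, 2657), (2658, 2407), (2659, 2414), (2660, 2862), (2661, 2661), (2662, 2915), (2663, 2663), (2664, 2664), (2665, 2901), (2666, 2415), (2667, 2899), (2668, 2412), (2669, 2923), (2670, 2910), (2671, 2418), (2672, 2417), (2673, 2928), (2674, 2926), (2675, 2927), (2676, 2420), (2677, 2859), (2678, 2678), (2679, 2858), (2680, 2869), (2681, 2870), (2682, 2871), (2683, 2426),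 (2684, 2936), (2685, 2872), (2686, 2873), (2687, 2874)]
    ⟨e3 q2624 L22903 q2428, e3 q2625 L22914 q2429, e3 q2626 L22921 q2430, e3 q2627 L22931 q2431, e3 q2628 L22937 q2432, e3 q2629 L22949 q2629, e3 q2630 L25236 q2881, e3 q2631 L22972 q2385, e3 q2632 (flp_e L22980) q2384, e3 q2633 (flp_e L25267) q2883, e3 q2634 L23012 q2467, e3 q2635 L23022 q2635, e3 q2636 L23038 q2636, e3 q2637 L23048 q2637, e3 q2638 L23065 q2391, e3 q2639 L23078 q2392, e3 q2640 (flp_e L25321) q2887, e3 q2641 L25362 q2891, e3 q2642 (flp_e L25344) q2889, e3 q2643 L23116 q2434, e3 q2644 L23129 q2444, e3 q2645 L23141 q2645, e3 q2646 L23153 q2646, e3 q2647 L23168 q2647, e3 q2648 L23177 q2398, e3 q2649 L25490 q2902, e3 q2650 L23193 q2400, e3 q2651 (flp_e L25470) q2900, e3 q2652 (flp_e L23210) q2399, e3 q2653 (flp_e L25527) q2905, e3 q2654 (flp_e L25517) q2904, e3 q2655 L23246 q2402, e3 q2656 (flp_e L25558) q2908, e3 q2657 L23262 q2657, e3 q2658 L23272 q2407, e3 q2659 L23282 q2414, e3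 q2660 (flp_e L25030) q2862, e3 q2661 L23305 q2661, e3 q2662 L25629 q2915, e3 q2663 L23323 q2663, e3 q2664 L23332 q2664, e3 q2665 L25488 q2901, e3 q2666 L23349 q2415, e3 q2667 (flp_e L25462) q2899, e3 q2668 (flp_e L23361) q2412, e3 q2669 (flp_e L25705) q2923, e3 q2670 (flp_e L25584) q2910, e3 q2671 L23389 q2418, e3 q2672 L23395 q2417, e3 q2673 (flp_e L25748) q2928, e3 q2674 (flp_e L25731) q2926, e3 q2675 (flp_e L25740) q2927, e3 q2676 L23426 q2420, e3 q2677 (flp_e L24998) q2859, e3 q2678 L23443 q2678, e3 q2679 (flp_e L24982) q2858, e3 q2680 (flp_e L25104) q2869, e3 q2681 (flp_e L25122) q2870, e3 q2682 (flp_e L25131) q2871, e3 q2683 (flp_e L23478) q2426, e3 q2684 (flp_e L25822) q2936, e3 q2685 (flp_e L25139) q2872, e3 q2686 (flp_e L25156) q2873, e3 q2687 (flp_e L25163) q2874, trivial⟩ (by decide +kernel)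

theorem ce_e_42 : ∀ r, r < 64 → sm ge (Qf (2688 + r)) = Qf (tab Gen.e (2688 + r)) :=
  edges_tab (sm ge) Qf (tab Gen.e) 2688 [(2688, 2875), (2689, 2876), (2690, 2877), (2691, 2855), (2692, 2692), (2693, 2893), (2694, 2595), (2695, 2437), (2696, 2945), (2697, 2439), (2698, 2947), (2699, 2948), (2700, 2443), (2701, 2442), (2702, 2950), (2703, 2894), (2704, 2952), (2705, 2705), (2706, 2447), (2707, 2955), (2708, 2451), (2709, 2450), (2710, 2958), (2711, 2933), (2712, 2957), (2713, 2453), (2714, 2714), (2715, 2457), (2716, 2954), (2717, 2458), (2718, 2964), (2719, 2967), (2720, 2720), (2721, 2969), (2722, 2464), (2723, 2971), (2724, 2461), (2725, 2973), (2726, 2463), (2727, 2976), (2728, 2466), (2729, 2978), (2730, 2730), (2731, 2471), (2732, 2980), (2733, 2982), (2734, 2734), (2735, 2474), (2736, 2985), (2737, 2988), (2738, 2476), (2739, 2991), (2740, 2576), (2741, 2478), (2742, 2995), (2743, 2743), (2744, 2480), (2745, 2998), (2746, 2484), (2747, 2485),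 (2748, 2483), (2749, 2999), (2750, 3000), (2751, 2751)]
    ⟨e3 q2688 (flp_e L25174) q2875, e3 q2689 (flp_e L25186) q2876, e3 q2690 (flp_e L25194) q2877, e3 q2691 L24948 q2855, e3 q2692 L23569 q2692, e3 q2693 (flp_e L25392) q2893, e3 q2694 L23592 q2595, e3 q2695 L23600 q2437, e3 q2696 (flp_e L25916) q2945, e3 q2697 L23620 q2439, e3 q2698 (flp_e L25939) q2947, e3 q2699 L25947 q2948, e3 q2700 L23657 q2443, e3 q2701 (flp_e L23665) q2442, e3 q2702 (flp_e L25977) q2950, e3 q2703 (flp_e L25401) q2894, e3 q2704 L25994 q2952, e3 q2705 L23712 q2705, e3 q2706 (flp_e L23719) q2447, e3 q2707 (flp_e L26033) q2955, e3 q2708 L23744 q2451, e3 q2709 L23750 q2450, e3 q2710 (flp_e L26061) q2958, e3 q2711 (flp_e L25792) q2933, e3 q2712 (flp_e L26053) q2957, e3 q2713 L23785 q2453, e3 q2714 L23797 q2714, e3 q2715 L23807 q2457, e3 q2716 (flp_e L26025) q2954, e3 q2717 L23824 q2458, e3 q2718 (flp_e L26124) q2964, e3 q2719 L26147 q2967, e3 q2720 L23856 q2720, e3 q2721 L26170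 q2969, e3 q2722 L23881 q2464, e3 q2723 L26194 q2971, e3 q2724 (flp_e L23901) q2461, e3 q2725 (flp_e L26223) q2973, e3 q2726 (flp_e L23915) q2463, e3 q2727 (flp_e L26247) q2976, e3 q2728 L23938 q2466, e3 q2729 (flp_e L26267) q2978, e3 q2730 L23954 q2730, e3 q2731 (flp_e L23961) q2471, e3 q2732 (flp_e L26280) q2980, e3 q2733 L26288 q2982, e3 q2734 L23990 q2734, e3 q2735 (flp_e L23997) q2474, e3 q2736 (flp_e L26321) q2985, e3 q2737 L26339 q2988, e3 q2738 (flp_e L24015) q2476, e3 q2739 (flp_e L26364) q2991, e3 q2740 L24032 q2576, e3 q2741 L24038 q2478, e3 q2742 (flp_e L26390) q2995, e3 q2743 L24050 q2743, e3 q2744 L24054 q2480, e3 q2745 (flp_e L26414) q2998, e3 q2746 L24072 q2484, e3 q2747 L24078 q2485, e3 q2748 L24085 q2483, e3 q2749 (flp_e L26424) q2999, e3 q2750 (flp_e L26431) q3000, e3 q2751 L24108 q2751, trivial⟩ (by decide +kernel)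

theorem ce_e_43 : ∀ r, r < 64 → sm ge (Qf (2752 + r)) = Qf (tab Gen.e (2752 + r)) :=
  edges_tab (sm ge) Qf (tab Gen.e) 2752 [(2752, 2752), (2753, 2753), (2754, 2754), (2755, 2510), (2756, 2511), (2757, 2512), (2758, 2513), (2759, 2556), (2760, 2561), (2761, 2554), (2762, 2505), (2763, 2564), (2764, 2565), (2765, 2590), (2766, 2591), (2767, 2592), (2768, 2593), (2769, 3004), (2770, 2866), (2771, 3005), (2772, 3006), (2773, 2552), (2774, 2515), (2775, 2532), (2776, 2537), (2777, 2777), (2778, 2529), (2779, 2521), (2780, 3024), (2781, 2519), (2782, 3026), (2783, 2523), (2784, 2784), (2785, 2785), (2786, 2786), (2787, 2787), (2788, 2788), (2789, 3022), (2790, 3023), (2791, 3034), (2792, 2792), (2793, 3018), (2794, 3019), (2795, 3039), (2796, 2534), (2797, 3042), (2798, 2922), (2799, 2536), (2800, 3046), (2801, 2540), (2802, 2541), (2803, 3047), (2804, 2804), (2805, 2805), (2806, 2806), (2807, 2807), (2808, 2808), (2809, 2809), (2810, 2810), (2811, 3017),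 (2812, 3008), (2813, 3007), (2814, 2558), (2815, 3056)]
    ⟨e3 q2752 L24121 q2752, e3 q2753 L24130 q2753, e3 q2754 L24142 q2754, e3 q2755 L24154 q2510, e3 q2756 L24161 q2511, e3 q2757 L24173 q2512, e3 q2758 L24181 q2513, e3 q2759 L24194 q2556, e3 q2760 L24205 q2561, e3 q2761 L24219 q2554, e3 q2762 L24231 q2505, e3 q2763 L24241 q2564, e3 q2764 L24253 q2565, e3 q2765 L24263 q2590, e3 q2766 L24269 q2591, e3 q2767 L24282 q2592, e3 q2768 L24290 q2593, e3 q2769 (flp_e L26464) q3004, e3 q2770 (flp_e L25079) q2866, e3 q2771 (flp_e L26477) q3005, e3 q2772 (flp_e L26485) q3006, e3 q2773 L24335 q2552, e3 q2774 L24346 q2515, e3 q2775 L24360 q2532, e3 q2776 L24371 q2537, e3 q2777 L24385 q2777, e3 q2778 L24396 q2529, e3 q2779 L24408 q2521, e3 q2780 L26673 q3024, e3 q2781 (flp_e L24420) q2519, e3 q2782 (flp_e L26700) q3026, e3 q2783 L24445 q2523, e3 q2784 L24456 q2784, e3 q2785 L24465 q2785, e3 q2786 L24476 q2786, e3 q2787 L24485 q2787, e3 q2788 L24491 q2788, e3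 q2789 (flp_e L26653) q3022, e3 q2790 (flp_e L26669) q3023, e3 q2791 L26756 q3034, e3 q2792 L24518 q2792, e3 q2793 (flp_e L26607) q3018, e3 q2794 (flp_e L26622) q3019, e3 q2795 L26793 q3039, e3 q2796 (flp_e L24541) q2534, e3 q2797 (flp_e L26818) q3042, e3 q2798 (flp_e L25697) q2922, e3 q2799 L24564 q2536, e3 q2800 (flp_e L26844) q3046, e3 q2801 L24577 q2540, e3 q2802 L24586 q2541, e3 q2803 (flp_e L26853) q3047, e3 q2804 L24604 q2804, e3 q2805 L24611 q2805, e3 q2806 L24619 q2806, e3 q2807 L24629 q2807, e3 q2808 L24634 q2808, e3 q2809 L24643 q2809, e3 q2810 L24650 q2810, e3 q2811 (flp_e L26599) q3017, e3 q2812 (flp_e L26509) q3008, e3 q2813 (flp_e L26497) q3007, e3 q2814 (flp_e L24676) q2558, e3 q2815 (flp_e L26929) q3056, trivial⟩ (by decide +kernel)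

theorem ce_e_44 : ∀ r, r < 64 → sm ge (Qf (2816 + r)) = Qf (tab Gen.e (2816 + r)) :=
  edges_tab (sm ge) Qf (tab Gen.e) 2816 [(2816, 2560), (2817, 3058), (2818, 3009), (2819, 3010), (2820, 3011), (2821, 2594), (2822, 3062), (2823, 2568), (2824, 3065), (2825, 2979), (2826, 2570), (2827, 3068), (2828, 2965), (2829, 2572), (2830, 3070), (2831, 2993), (2832, 2573), (2833, 3073), (2834, 2990), (2835, 2575), (2836, 3076), (2837, 2994), (2838, 2578), (2839, 2839), (2840, 2583), (2841, 2841), (2842, 2842), (2843, 3012), (2844, 3013), (2845, 3014), (2846, 2944), (2847, 2597), (2848, 2848), (2849, 2599), (2850, 3082), (2851, 2851), (2852, 2602), (2853, 2853), (2854, 2854), (2855, 2691), (2856, 2608), (2857, 3086), (2858, 2679), (2859, 2677), (2860, 2613), (2861, 3090), (2862, 2660), (2863, 2619), (2864, 2618), (2865, 3093), (2866, 2770), (2867, 3092), (2868, 2621), (2869, 2680), (2870, 2681), (2871, 2682), (2872, 2685), (2873, 2686), (2874, 2687), (2875, 2688),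 (2876, 2689), (2877, 2690), (2878, 3105), (2879, 2879)]
    ⟨e3 q2816 L24695 q2560, e3 q2817 (flp_e L26941) q3058, e3 q2818 (flp_e L26517) q3009, e3 q2819 (flp_e L26531) q3010, e3 q2820 (flp_e L26539) q3011, e3 q2821 L24722 q2594, e3 q2822 L26963 q3062, e3 q2823 (flp_e L24730) q2568, e3 q2824 (flp_e L26988) q3065, e3 q2825 (flp_e L26275) q2979, e3 q2826 L24753 q2570, e3 q2827 (flp_e L27004) q3068, e3 q2828 (flp_e L26134) q2965, e3 q2829 L24767 q2572, e3 q2830 (flp_e L27016) q3070, e3 q2831 (flp_e L26378) q2993, e3 q2832 (flp_e L24781) q2573, e3 q2833 (flp_e L27040) q3073, e3 q2834 (flp_e L26357) q2990, e3 q2835 L24805 q2575, e3 q2836 (flp_e L27058) q3076, e3 q2837 (flp_e L26384) q2994, e3 q2838 L24819 q2578, e3 q2839 L24825 q2839, e3 q2840 L24834 q2583, e3 q2841 L24841 q2841, e3 q2842 L24851 q2842, e3 q2843 (flp_e L26549) q3012, e3 q2844 (flp_e L26562) q3013, e3 q2845 (flp_e L26572) q3014, e3 q2846 (flp_e L25907) q2944, e3 q2847 L24885 q2597, e3 q2848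 L24896 q2848, e3 q2849 L24902 q2599, e3 q2850 (flp_e L27097) q3082, e3 q2851 L24915 q2851, e3 q2852 L24922 q2602, e3 q2853 L24928 q2853, e3 q2854 L24935 q2854, e3 q2855 (flp_e L24948) q2691, e3 q2856 (flp_e L24950) q2608, e3 q2857 (flp_e L27132) q3086, e3 q2858 L24982 q2679, e3 q2859 L24998 q2677, e3 q2860 L25009 q2613, e3 q2861 (flp_e L27184) q3090, e3 q2862 L25030 q2660, e3 q2863 L25045 q2619, e3 q2864 L25058 q2618, e3 q2865 (flp_e L27224) q3093, e3 q2866 L25079 q2770, e3 q2867 (flp_e L27211) q3092, e3 q2868 L25096 q2621, e3 q2869 L25104 q2680, e3 q2870 L25122 q2681, e3 q2871 L25131 q2682, e3 q2872 L25139 q2685, e3 q2873 L25156 q2686, e3 q2874 L25163 q2687, e3 q2875 L25174 q2688, e3 q2876 L25186 q2689, e3 q2877 L25194 q2690, e3 q2878 L27356 q3105, e3 q2879 L25217 q2879, trivial⟩ (by decide +kernel)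

theorem ce_e_45 : ∀ r, r < 64 → sm ge (Qf (2880 + r)) = Qf (tab Gen.e (2880 + r)) :=
  edges_tab (sm ge) Qf (tab Gen.e) 2880 [(2880, 3107), (2881, 2630), (2882, 3109), (2883, 2633), (2884, 3111), (2885, 2885), (2886, 2886), (2887, 2640), (2888, 3116), (2889, 2642), (2890, 3114), (2891, 2641), (2892, 3118), (2893, 2693), (2894, 2703), (2895, 2895), (2896, 3124), (2897, 2897), (2898, 2898), (2899, 2667), (2900, 2651), (2901, 2665), (2902, 2649), (2903, 3131), (2904, 2654), (2905, 2653), (2906, 3134), (2907, 3133), (2908, 2656), (2909, 2909), (2910, 2670), (2911, 3091), (2912, 3123), (2913, 2913), (2914, 3121), (2915, 2662), (2916, 3141), (2917, 3143), (2918, 2918), (2919, 3129), (2920, 3113), (2921, 3128), (2922, 2798), (2923, 2669), (2924, 3151), (2925, 3136), (2926, 2674), (2927, 2675), (2928, 2673), (2929, 3152), (2930, 3153), (2931, 3089), (2932, 3088), (2933, 2711), (2934, 3097), (2935, 3098), (2936, 2684), (2937, 3160), (2938, 3099), (2939, 3100),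 (2940, 3101), (2941, 3102), (2942, 3085), (2943, 3120)]
    ⟨e3 q2880 L27383 q3107, e3 q2881 (flp_e L25236) q2630, e3 q2882 (flp_e L27420) q3109, e3 q2883 L25267 q2633, e3 q2884 (flp_e L27445) q3111, e3 q2885 L25295 q2885, e3 q2886 L25306 q2886, e3 q2887 L25321 q2640, e3 q2888 L27512 q3116, e3 q2889 L25344 q2642, e3 q2890 (flp_e L27489) q3114, e3 q2891 (flp_e L25362) q2641, e3 q2892 (flp_e L27546) q3118, e3 q2893 L25392 q2693, e3 q2894 L25401 q2703, e3 q2895 L25414 q2895, e3 q2896 L27618 q3124, e3 q2897 L25436 q2897, e3 q2898 L25449 q2898, e3 q2899 L25462 q2667, e3 q2900 L25470 q2651, e3 q2901 (flp_e L25488) q2665, e3 q2902 (flp_e L25490) q2649, e3 q2903 (flp_e L27726) q3131, e3 q2904 L25517 q2654, e3 q2905 L25527 q2653, e3 q2906 (flp_e L27758) q3134, e3 q2907 (flp_e L27746) q3133, e3 q2908 L25558 q2656, e3 q2909 L25569 q2909, e3 q2910 L25584 q2670, e3 q2911 (flp_e L27195) q3091, e3 q2912 L27616 q3123, e3 q2913 L25615 q2913, e3 q2914 L27587 q3121, e3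 q2915 (flp_e L25629) q2662, e3 q2916 (flp_e L27843) q3141, e3 q2917 L27853 q3143, e3 q2918 L25660 q2918, e3 q2919 (flp_e L27696) q3129, e3 q2920 (flp_e L27476) q3113, e3 q2921 (flp_e L27682) q3128, e3 q2922 L25697 q2798, e3 q2923 L25705 q2669, e3 q2924 (flp_e L27948) q3151, e3 q2925 (flp_e L27784) q3136, e3 q2926 L25731 q2674, e3 q2927 L25740 q2675, e3 q2928 L25748 q2673, e3 q2929 (flp_e L27958) q3152, e3 q2930 (flp_e L27968) q3153, e3 q2931 (flp_e L27172) q3089, e3 q2932 (flp_e L27155) q3088, e3 q2933 L25792 q2711, e3 q2934 (flp_e L27269) q3097, e3 q2935 (flp_e L27280) q3098, e3 q2936 L25822 q2684, e3 q2937 (flp_e L28032) q3160, e3 q2938 (flp_e L27297) q3099, e3 q2939 (flp_e L27308) q3100, e3 q2940 (flp_e L27321) q3101, e3 q2941 (flp_e L27330) q3102, e3 q2942 (flp_e L27119) q3085, e3 q2943 (flp_e L27569) q3120, trivial⟩ (by decide +kernel)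

theorem ce_e_46 : ∀ r, r < 64 → sm ge (Qf (2944 + r)) = Qf (tab Gen.e (2944 + r)) :=
  edges_tab (sm ge) Qf (tab Gen.e) 2944 [(2944, 2846), (2945, 2696), (2946, 3130), (2947, 2698), (2948, 2699), (2949, 3167), (2950, 2702), (2951, 3169), (2952, 2704), (2953, 3170), (2954, 2716), (2955, 2707), (2956, 3173), (2957, 2712), (2958, 2710), (2959, 3157), (2960, 3174), (2961, 3115), (2962, 2962), (2963, 3146), (2964, 2718), (2965, 2828), (2966, 3172), (2967, 2719), (2968, 3181), (2969, 2721), (2970, 3184), (2971, 2723), (2972, 3186), (2973, 2725), (2974, 3188), (2975, 2975), (2976, 2727), (2977, 3190), (2978, 2729), (2979, 2825), (2980, 2732), (2981, 3194), (2982, 2733), (2983, 3195), (2984, 3104), (2985, 2736), (2986, 3199), (2987, 3138), (2988, 2737), (2989, 3202), (2990, 2834), (2991, 2739), (2992, 3206), (2993, 2831), (2994, 2837), (2995, 2742), (2996, 2996), (2997, 2997), (2998, 2745), (2999, 2749), (3000, 2750), (3001, 3175), (3002, 3213), (3003, 3003),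 (3004, 2769), (3005, 2771), (3006, 2772), (3007, 2813)]
    ⟨e3 q2944 L25907 q2846, e3 q2945 L25916 q2696, e3 q2946 (flp_e L27714) q3130, e3 q2947 L25939 q2698, e3 q2948 (flp_e L25947) q2699, e3 q2949 (flp_e L28107) q3167, e3 q2950 L25977 q2702, e3 q2951 (flp_e L28131) q3169, e3 q2952 (flp_e L25994) q2704, e3 q2953 (flp_e L28143) q3170, e3 q2954 L26025 q2716, e3 q2955 L26033 q2707, e3 q2956 (flp_e L28177) q3173, e3 q2957 L26053 q2712, e3 q2958 L26061 q2710, e3 q2959 (flp_e L28007) q3157, e3 q2960 (flp_e L28187) q3174, e3 q2961 L27510 q3115, e3 q2962 L26102 q2962, e3 q2963 (flp_e L27892) q3146, e3 q2964 L26124 q2718, e3 q2965 L26134 q2828, e3 q2966 (flp_e L28169) q3172, e3 q2967 (flp_e L26147) q2719, e3 q2968 (flp_e L28253) q3181, e3 q2969 (flp_e L26170) q2721, e3 q2970 (flp_e L28295) q3184, e3 q2971 (flp_e L26194) q2723, e3 q2972 (flp_e L28320) q3186, e3 q2973 L26223 q2725, e3 q2974 (flp_e L28342) q3188, e3 q2975 L26239 q2975, e3 q2976 L26247 q2727,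 e3 q2977 (flp_e L28361) q3190, e3 q2978 L26267 q2729, e3 q2979 L26275 q2825, e3 q2980 L26280 q2732, e3 q2981 (flp_e L28395) q3194, e3 q2982 (flp_e L26288) q2733, e3 q2983 (flp_e L28406) q3195, e3 q2984 L27354 q3104, e3 q2985 L26321 q2736, e3 q2986 (flp_e L28450) q3199, e3 q2987 (flp_e L27804) q3138, e3 q2988 (flp_e L26339) q2737, e3 q2989 (flp_e L28484) q3202, e3 q2990 L26357 q2834, e3 q2991 L26364 q2739, e3 q2992 (flp_e L28520) q3206, e3 q2993 L26378 q2831, e3 q2994 L26384 q2837, e3 q2995 L26390 q2742, e3 q2996 L26399 q2996, e3 q2997 L26408 q2997, e3 q2998 L26414 q2745, e3 q2999 L26424 q2749, e3 q3000 L26431 q2750, e3 q3001 (flp_e L28197) q3175, e3 q3002 (flp_e L28575) q3213, e3 q3003 L26454 q3003, e3 q3004 L26464 q2769, e3 q3005 L26477 q2771, e3 q3006 L26485 q2772, e3 q3007 L26497 q2813, trivial⟩ (by decide +kernel)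

theorem ce_e_47 : ∀ r, r < 64 → sm ge (Qf (3008 + r)) = Qf (tab Gen.e (3008 + r)) :=
  edges_tab (sm ge) Qf (tab Gen.e) 3008 [(3008, 2812), (3009, 2818), (3010, 2819), (3011, 2820), (3012, 2843), (3013, 2844), (3014, 2845), (3015, 3094), (3016, 3216), (3017, 2811), (3018, 2793), (3019, 2794), (3020, 3140), (3021, 3021), (3022, 2789), (3023, 2790), (3024, 2780), (3025, 3231), (3026, 2782), (3027, 3233), (3028, 3028), (3029, 3029), (3030, 3030), (3031, 3197), (3032, 3229), (3033, 3230), (3034, 2791), (3035, 3238), (3036, 3226), (3037, 3227), (3038, 3204), (3039, 2795), (3040, 3242), (3041, 3126), (3042, 2797), (3043, 3245), (3044, 3149), (3045, 3150), (3046, 2800), (3047, 2803), (3048, 3048), (3049, 3049), (3050, 3050), (3051, 3252), (3052, 3052), (3053, 3225), (3054, 3219), (3055, 3218), (3056, 2815), (3057, 3253), (3058, 2817), (3059, 3220), (3060, 3221), (3061, 3192), (3062, 2822), (3063, 3256), (3064, 3183), (3065, 2824), (3066, 3259), (3067, 3193),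 (3068, 2827), (3069, 3179), (3070, 2830), (3071, 3207)]
    ⟨e3 q3008 L26509 q2812, e3 q3009 L26517 q2818, e3 q3010 L26531 q2819, e3 q3011 L26539 q2820, e3 q3012 L26549 q2843, e3 q3013 L26562 q2844, e3 q3014 L26572 q2845, e3 q3015 (flp_e L27239) q3094, e3 q3016 (flp_e L28595) q3216, e3 q3017 L26599 q2811, e3 q3018 L26607 q2793, e3 q3019 L26622 q2794, e3 q3020 (flp_e L27834) q3140, e3 q3021 L26644 q3021, e3 q3022 L26653 q2789, e3 q3023 L26669 q2790, e3 q3024 (flp_e L26673) q2780, e3 q3025 (flp_e L28764) q3231, e3 q3026 L26700 q2782, e3 q3027 (flp_e L28780) q3233, e3 q3028 L26716 q3028, e3 q3029 L26724 q3029, e3 q3030 L26736 q3030, e3 q3031 (flp_e L28434) q3197, e3 q3032 (flp_e L28739) q3229, e3 q3033 (flp_e L28749) q3230, e3 q3034 (flp_e L26756) q2791, e3 q3035 (flp_e L28825) q3238, e3 q3036 (flp_e L28703) q3226, e3 q3037 (flp_e L28713) q3227, e3 q3038 (flp_e L28501) q3204, e3 q3039 (flp_e L26793) q2795, e3 q3040 (flp_e L28856) q3242, e3 q3041 L27657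 q3126, e3 q3042 L26818 q2797, e3 q3043 (flp_e L28875) q3245, e3 q3044 (flp_e L27928) q3149, e3 q3045 (flp_e L27940) q3150, e3 q3046 L26844 q2800, e3 q3047 L26853 q2803, e3 q3048 L26861 q3048, e3 q3049 L26871 q3049, e3 q3050 L26880 q3050, e3 q3051 L28917 q3252, e3 q3052 L26890 q3052, e3 q3053 (flp_e L28688) q3225, e3 q3054 (flp_e L28626) q3219, e3 q3055 (flp_e L28612) q3218, e3 q3056 L26929 q2815, e3 q3057 (flp_e L28925) q3253, e3 q3058 L26941 q2817, e3 q3059 (flp_e L28642) q3220, e3 q3060 (flp_e L28652) q3221, e3 q3061 (flp_e L28380) q3192, e3 q3062 (flp_e L26963) q2822, e3 q3063 (flp_e L28944) q3256, e3 q3064 (flp_e L28283) q3183, e3 q3065 L26988 q2824, e3 q3066 (flp_e L28963) q3259, e3 q3067 (flp_e L28389) q3193, e3 q3068 L27004 q2827, e3 q3069 (flp_e L28236) q3179, e3 q3070 L27016 q2830, e3 q3071 (flp_e L28528) q3207, trivial⟩ (by decide +kernel)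

theorem ce_e_48 : ∀ r, r < 64 → sm ge (Qf (3072 + r)) = Qf (tab Gen.e (3072 + r)) :=
  edges_tab (sm ge) Qf (tab Gen.e) 3072 [(3072, 3201), (3073, 2833), (3074, 3264), (3075, 3205), (3076, 2836), (3077, 3208), (3078, 3078), (3079, 3222), (3080, 3164), (3081, 3081), (3082, 2850), (3083, 3083), (3084, 3212), (3085, 2942), (3086, 2857), (3087, 3271), (3088, 2932), (3089, 2931), (3090, 2861), (3091, 2911), (3092, 2867), (3093, 2865), (3094, 3015), (3095, 3274), (3096, 3096), (3097, 2934), (3098, 2935), (3099, 2938), (3100, 2939), (3101, 2940), (3102, 2941), (3103, 3283), (3104, 2984), (3105, 2878), (3106, 3285), (3107, 2880), (3108, 3287), (3109, 2882), (3110, 3289), (3111, 2884), (3112, 3112), (3113, 2920), (3114, 2890), (3115, 2961), (3116, 2888), (3117, 3294), (3118, 2892), (3119, 3296), (3120, 2943), (3121, 2914), (3122, 3122), (3123, 2912), (3124, 2896), (3125, 3299), (3126, 3041), (3127, 3127), (3128, 2921), (3129, 2919), (3130, 2946), (3131, 2903),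 (3132, 3305), (3133, 2907), (3134, 2906), (3135, 3306)]
    ⟨e3 q3072 (flp_e L28475) q3201, e3 q3073 L27040 q2833, e3 q3074 (flp_e L28995) q3264, e3 q3075 (flp_e L28512) q3205, e3 q3076 L27058 q2836, e3 q3077 (flp_e L28534) q3208, e3 q3078 L27069 q3078, e3 q3079 (flp_e L28660) q3222, e3 q3080 (flp_e L28075) q3164, e3 q3081 L27089 q3081, e3 q3082 L27097 q2850, e3 q3083 L27104 q3083, e3 q3084 (flp_e L28568) q3212, e3 q3085 L27119 q2942, e3 q3086 L27132 q2857, e3 q3087 (flp_e L29046) q3271, e3 q3088 L27155 q2932, e3 q3089 L27172 q2931, e3 q3090 L27184 q2861, e3 q3091 L27195 q2911, e3 q3092 L27211 q2867, e3 q3093 L27224 q2865, e3 q3094 L27239 q3015, e3 q3095 (flp_e L29084) q3274, e3 q3096 L27257 q3096, e3 q3097 L27269 q2934, e3 q3098 L27280 q2935, e3 q3099 L27297 q2938, e3 q3100 L27308 q2939, e3 q3101 L27321 q2940, e3 q3102 L27330 q2941, e3 q3103 L29184 q3283, e3 q3104 (flp_e L27354) q2984, e3 q3105 (flp_e L27356) q2878, e3 q3106 (flp_e L29218) q3285, e3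 q3107 (flp_e L27383) q2880, e3 q3108 (flp_e L29247) q3287, e3 q3109 L27420 q2882, e3 q3110 (flp_e L29271) q3289, e3 q3111 L27445 q2884, e3 q3112 L27460 q3112, e3 q3113 L27476 q2920, e3 q3114 L27489 q2890, e3 q3115 (flp_e L27510) q2961, e3 q3116 (flp_e L27512) q2888, e3 q3117 (flp_e L29344) q3294, e3 q3118 L27546 q2892, e3 q3119 (flp_e L29370) q3296, e3 q3120 L27569 q2943, e3 q3121 (flp_e L27587) q2914, e3 q3122 L27596 q3122, e3 q3123 (flp_e L27616) q2912, e3 q3124 (flp_e L27618) q2896, e3 q3125 (flp_e L29417) q3299, e3 q3126 (flp_e L27657) q3041, e3 q3127 L27667 q3127, e3 q3128 L27682 q2921, e3 q3129 L27696 q2919, e3 q3130 L27714 q2946, e3 q3131 L27726 q2903, e3 q3132 (flp_e L29499) q3305, e3 q3133 L27746 q2907, e3 q3134 L27758 q2906, e3 q3135 (flp_e L29511) q3306, trivial⟩ (by decide +kernel)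

theorem ce_e_49 : ∀ r, r < 64 → sm ge (Qf (3136 + r)) = Qf (tab Gen.e (3136 + r)) :=
  edges_tab (sm ge) Qf (tab Gen.e) 3136 [(3136, 2925), (3137, 3298), (3138, 2987), (3139, 3297), (3140, 3020), (3141, 2916), (3142, 3313), (3143, 2917), (3144, 3314), (3145, 3303), (3146, 2963), (3147, 3292), (3148, 3302), (3149, 3044), (3150, 3045), (3151, 2924), (3152, 2929), (3153, 2930), (3154, 3290), (3155, 3322), (3156, 3272), (3157, 2959), (3158, 3278), (3159, 3327), (3160, 2937), (3161, 3279), (3162, 3281), (3163, 3270), (3164, 3080), (3165, 3165), (3166, 3304), (3167, 2949), (3168, 3330), (3169, 2951), (3170, 2953), (3171, 3332), (3172, 2966), (3173, 2956), (3174, 2960), (3175, 3001), (3176, 3325), (3177, 3293), (3178, 3316), (3179, 3069), (3180, 3333), (3181, 2968), (3182, 3340), (3183, 3064), (3184, 2970), (3185, 3342), (3186, 2972), (3187, 3343), (3188, 2974), (3189, 3189), (3190, 2977), (3191, 3331), (3192, 3061), (3193, 3067), (3194, 2981), (3195, 2983),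 (3196, 3351), (3197, 3031), (3198, 3284), (3199, 2986)]
    ⟨e3 q3136 L27784 q2925, e3 q3137 (flp_e L29402) q3298, e3 q3138 L27804 q2987, e3 q3139 (flp_e L29387) q3297, e3 q3140 L27834 q3020, e3 q3141 L27843 q2916, e3 q3142 (flp_e L29598) q3313, e3 q3143 (flp_e L27853) q2917, e3 q3144 (flp_e L29611) q3314, e3 q3145 (flp_e L29471) q3303, e3 q3146 L27892 q2963, e3 q3147 (flp_e L29313) q3292, e3 q3148 (flp_e L29457) q3302, e3 q3149 L27928 q3044, e3 q3150 L27940 q3045, e3 q3151 L27948 q2924, e3 q3152 L27958 q2929, e3 q3153 L27968 q2930, e3 q3154 (flp_e L29288) q3290, e3 q3155 (flp_e L29697) q3322, e3 q3156 (flp_e L29060) q3272, e3 q3157 L28007 q2959, e3 q3158 (flp_e L29131) q3278, e3 q3159 L29742 q3327, e3 q3160 L28032 q2937, e3 q3161 (flp_e L29147) q3279, e3 q3162 (flp_e L29171) q3281, e3 q3163 (flp_e L29033) q3270, e3 q3164 L28075 q3080, e3 q3165 L28085 q3165, e3 q3166 (flp_e L29487) q3304, e3 q3167 L28107 q2949, e3 q3168 (flp_e L29778) q3330, e3 q3169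 L28131 q2951, e3 q3170 L28143 q2953, e3 q3171 (flp_e L29801) q3332, e3 q3172 L28169 q2966, e3 q3173 L28177 q2956, e3 q3174 L28187 q2960, e3 q3175 L28197 q3001, e3 q3176 (flp_e L29728) q3325, e3 q3177 (flp_e L29328) q3293, e3 q3178 (flp_e L29639) q3316, e3 q3179 L28236 q3069, e3 q3180 (flp_e L29813) q3333, e3 q3181 L28253 q2968, e3 q3182 (flp_e L29883) q3340, e3 q3183 L28283 q3064, e3 q3184 L28295 q2970, e3 q3185 (flp_e L29911) q3342, e3 q3186 L28320 q2972, e3 q3187 (flp_e L29923) q3343, e3 q3188 L28342 q2974, e3 q3189 L28351 q3189, e3 q3190 L28361 q2977, e3 q3191 (flp_e L29793) q3331, e3 q3192 L28380 q3061, e3 q3193 L28389 q3067, e3 q3194 L28395 q2981, e3 q3195 L28406 q2983, e3 q3196 (flp_e L30003) q3351, e3 q3197 L28434 q3031, e3 q3198 (flp_e L29203) q3284, e3 q3199 L28450 q2986, trivial⟩ (by decide +kernel)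

theorem ce_e_50 : ∀ r, r < 64 → sm ge (Qf (3200 + r)) = Qf (tab Gen.e (3200 + r)) :=
  edges_tab (sm ge) Qf (tab Gen.e) 3200 [(3200, 3310), (3201, 3072), (3202, 2989), (3203, 3357), (3204, 3038), (3205, 3075), (3206, 2992), (3207, 3071), (3208, 3077), (3209, 3334), (3210, 3210), (3211, 3211), (3212, 3084), (3213, 3002), (3214, 3307), (3215, 3336), (3216, 3016), (3217, 3280), (3218, 3055), (3219, 3054), (3220, 3059), (3221, 3060), (3222, 3079), (3223, 3346), (3224, 3275), (3225, 3053), (3226, 3036), (3227, 3037), (3228, 3312), (3229, 3032), (3230, 3033), (3231, 3025), (3232, 3376), (3233, 3027), (3234, 3234), (3235, 3366), (3236, 3352), (3237, 3375), (3238, 3035), (3239, 3380), (3240, 3373), (3241, 3358), (3242, 3040), (3243, 3383), (3244, 3301), (3245, 3043), (3246, 3387), (3247, 3319), (3248, 3320), (3249, 3347), (3250, 3250), (3251, 3367), (3252, 3051), (3253, 3057), (3254, 3370), (3255, 3348), (3256, 3063), (3257, 3391), (3258, 3341), (3259, 3066),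 (3260, 3349), (3261, 3339), (3262, 3361), (3263, 3356)]
    ⟨e3 q3200 (flp_e L29565) q3310, e3 q3201 L28475 q3072, e3 q3202 L28484 q2989, e3 q3203 (flp_e L30066) q3357, e3 q3204 L28501 q3038, e3 q3205 L28512 q3075, e3 q3206 L28520 q2992, e3 q3207 L28528 q3071, e3 q3208 L28534 q3077, e3 q3209 (flp_e L29821) q3334, e3 q3210 L28549 q3210, e3 q3211 L28559 q3211, e3 q3212 L28568 q3084, e3 q3213 L28575 q3002, e3 q3214 (flp_e L29527) q3307, e3 q3215 (flp_e L29836) q3336, e3 q3216 L28595 q3016, e3 q3217 (flp_e L29161) q3280, e3 q3218 L28612 q3055, e3 q3219 L28626 q3054, e3 q3220 L28642 q3059, e3 q3221 L28652 q3060, e3 q3222 L28660 q3079, e3 q3223 (flp_e L29955) q3346, e3 q3224 (flp_e L29100) q3275, e3 q3225 L28688 q3053, e3 q3226 L28703 q3036, e3 q3227 L28713 q3037, e3 q3228 (flp_e L29588) q3312, e3 q3229 L28739 q3032, e3 q3230 L28749 q3033, e3 q3231 L28764 q3025, e3 q3232 (flp_e L30232) q3376, e3 q3233 L28780 q3027, e3 q3234 L28794 q3234, e3 q3235 (flp_e L30136)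 q3366, e3 q3236 (flp_e L30019) q3352, e3 q3237 (flp_e L30220) q3375, e3 q3238 L28825 q3035, e3 q3239 (flp_e L30265) q3380, e3 q3240 (flp_e L30196) q3373, e3 q3241 (flp_e L30077) q3358, e3 q3242 L28856 q3040, e3 q3243 (flp_e L30287) q3383, e3 q3244 (flp_e L29445) q3301, e3 q3245 L28875 q3043, e3 q3246 L30304 q3387, e3 q3247 (flp_e L29669) q3319, e3 q3248 (flp_e L29679) q3320, e3 q3249 (flp_e L29963) q3347, e3 q3250 L28908 q3250, e3 q3251 (flp_e L30144) q3367, e3 q3252 (flp_e L28917) q3051, e3 q3253 L28925 q3057, e3 q3254 (flp_e L30171) q3370, e3 q3255 (flp_e L29978) q3348, e3 q3256 L28944 q3063, e3 q3257 (flp_e L30331) q3391, e3 q3258 (flp_e L29899) q3341, e3 q3259 L28963 q3066, e3 q3260 (flp_e L29986) q3349, e3 q3261 (flp_e L29873) q3339, e3 q3262 (flp_e L30098) q3361, e3 q3263 (flp_e L30056) q3356, trivial⟩ (by decide +kernel)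

theorem ce_e_51 : ∀ r, r < 64 → sm ge (Qf (3264 + r)) = Qf (tab Gen.e (3264 + r)) :=
  edges_tab (sm ge) Qf (tab Gen.e) 3264 [(3264, 3074), (3265, 3359), (3266, 3354), (3267, 3267), (3268, 3308), (3269, 3398), (3270, 3163), (3271, 3087), (3272, 3156), (3273, 3273), (3274, 3095), (3275, 3224), (3276, 3404), (3277, 3277), (3278, 3158), (3279, 3161), (3280, 3217), (3281, 3162), (3282, 3401), (3283, 3103), (3284, 3198), (3285, 3106), (3286, 3406), (3287, 3108), (3288, 3407), (3289, 3110), (3290, 3154), (3291, 3411), (3292, 3147), (3293, 3177), (3294, 3117), (3295, 3414), (3296, 3119), (3297, 3139), (3298, 3137), (3299, 3125), (3300, 3418), (3301, 3244), (3302, 3148), (3303, 3145), (3304, 3166), (3305, 3132), (3306, 3135), (3307, 3214), (3308, 3268), (3309, 3417), (3310, 3200), (3311, 3416), (3312, 3228), (3313, 3142), (3314, 3144), (3315, 3428), (3316, 3178), (3317, 3412), (3318, 3431), (3319, 3247), (3320, 3248), (3321, 3409), (3322, 3155), (3323, 3415),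 (3324, 3410), (3325, 3176), (3326, 3435), (3327, 3159)]
    ⟨e3 q3264 L28995 q3074, e3 q3265 (flp_e L30087) q3359, e3 q3266 (flp_e L30035) q3354, e3 q3267 L29012 q3267, e3 q3268 (flp_e L29542) q3308, e3 q3269 (flp_e L30375) q3398, e3 q3270 L29033 q3163, e3 q3271 L29046 q3087, e3 q3272 L29060 q3156, e3 q3273 L29075 q3273, e3 q3274 L29084 q3095, e3 q3275 L29100 q3224, e3 q3276 L30449 q3404, e3 q3277 L29117 q3277, e3 q3278 L29131 q3158, e3 q3279 L29147 q3161, e3 q3280 L29161 q3217, e3 q3281 L29171 q3162, e3 q3282 (flp_e L30416) q3401, e3 q3283 (flp_e L29184) q3103, e3 q3284 L29203 q3198, e3 q3285 L29218 q3106, e3 q3286 (flp_e L30487) q3406, e3 q3287 L29247 q3108, e3 q3288 (flp_e L30503) q3407, e3 q3289 L29271 q3110, e3 q3290 L29288 q3154, e3 q3291 L30551 q3411, e3 q3292 L29313 q3147, e3 q3293 L29328 q3177, e3 q3294 L29344 q3117, e3 q3295 (flp_e L30605) q3414, e3 q3296 L29370 q3119, e3 q3297 L29387 q3139, e3 q3298 L29402 q3137, e3 q3299 L29417 q3125, e3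 q3300 (flp_e L30670) q3418, e3 q3301 L29445 q3244, e3 q3302 L29457 q3148, e3 q3303 L29471 q3145, e3 q3304 L29487 q3166, e3 q3305 L29499 q3132, e3 q3306 L29511 q3135, e3 q3307 L29527 q3214, e3 q3308 L29542 q3268, e3 q3309 (flp_e L30654) q3417, e3 q3310 L29565 q3200, e3 q3311 (flp_e L30636) q3416, e3 q3312 L29588 q3228, e3 q3313 L29598 q3142, e3 q3314 L29611 q3144, e3 q3315 (flp_e L30809) q3428, e3 q3316 L29639 q3178, e3 q3317 (flp_e L30571) q3412, e3 q3318 L30841 q3431, e3 q3319 L29669 q3247, e3 q3320 L29679 q3248, e3 q3321 (flp_e L30535) q3409, e3 q3322 L29697 q3155, e3 q3323 (flp_e L30626) q3415, e3 q3324 (flp_e L30543) q3410, e3 q3325 L29728 q3176, e3 q3326 (flp_e L30898) q3435, e3 q3327 (flp_e L29742) q3159, trivial⟩ (by decide +kernel)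

theorem ce_e_52 : ∀ r, r < 64 → sm ge (Qf (3328 + r)) = Qf (tab Gen.e (3328 + r)) :=
  edges_tab (sm ge) Qf (tab Gen.e) 3328 [(3328, 3402), (3329, 3421), (3330, 3168), (3331, 3191), (3332, 3171), (3333, 3180), (3334, 3209), (3335, 3423), (3336, 3215), (3337, 3413), (3338, 3429), (3339, 3261), (3340, 3182), (3341, 3258), (3342, 3185), (3343, 3187), (3344, 3439), (3345, 3345), (3346, 3223), (3347, 3249), (3348, 3255), (3349, 3260), (3350, 3440), (3351, 3196), (3352, 3236), (3353, 3405), (3354, 3266), (3355, 3424), (3356, 3263), (3357, 3203), (3358, 3241), (3359, 3265), (3360, 3452), (3361, 3262), (3362, 3422), (3363, 3442), (3364, 3364), (3365, 3464), (3366, 3235), (3367, 3251), (3368, 3438), (3369, 3403), (3370, 3254), (3371, 3446), (3372, 3436), (3373, 3240), (3374, 3426), (3375, 3237), (3376, 3232), (3377, 3455), (3378, 3453), (3379, 3460), (3380, 3239), (3381, 3448), (3382, 3458), (3383, 3243), (3384, 3461), (3385, 3419), (3386, 3451), (3387, 3246),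 (3388, 3432), (3389, 3444), (3390, 3449), (3391, 3257)]
    ⟨e3 q3328 (flp_e L30430) q3402, e3 q3329 (flp_e L30720) q3421, e3 q3330 L29778 q3168, e3 q3331 L29793 q3191, e3 q3332 L29801 q3171, e3 q3333 L29813 q3180, e3 q3334 L29821 q3209, e3 q3335 (flp_e L30753) q3423, e3 q3336 L29836 q3215, e3 q3337 (flp_e L30589) q3413, e3 q3338 (flp_e L30825) q3429, e3 q3339 L29873 q3261, e3 q3340 L29883 q3182, e3 q3341 L29899 q3258, e3 q3342 L29911 q3185, e3 q3343 L29923 q3187, e3 q3344 (flp_e L30951) q3439, e3 q3345 L29942 q3345, e3 q3346 L29955 q3223, e3 q3347 L29963 q3249, e3 q3348 L29978 q3255, e3 q3349 L29986 q3260, e3 q3350 (flp_e L30965) q3440, e3 q3351 L30003 q3196, e3 q3352 L30019 q3236, e3 q3353 (flp_e L30471) q3405, e3 q3354 L30035 q3266, e3 q3355 (flp_e L30763) q3424, e3 q3356 L30056 q3263, e3 q3357 L30066 q3203, e3 q3358 L30077 q3241, e3 q3359 L30087 q3265, e3 q3360 (flp_e L31099) q3452, e3 q3361 L30098 q3262, e3 q3362 (flp_e L30736) q3422, e3 q3363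 (flp_e L30980) q3442, e3 q3364 L30119 q3364, e3 q3365 L31215 q3464, e3 q3366 L30136 q3235, e3 q3367 L30144 q3251, e3 q3368 (flp_e L30937) q3438, e3 q3369 L30445 q3403, e3 q3370 L30171 q3254, e3 q3371 (flp_e L31030) q3446, e3 q3372 (flp_e L30904) q3436, e3 q3373 L30196 q3240, e3 q3374 (flp_e L30786) q3426, e3 q3375 L30220 q3237, e3 q3376 L30232 q3232, e3 q3377 (flp_e L31130) q3455, e3 q3378 (flp_e L31110) q3453, e3 q3379 (flp_e L31180) q3460, e3 q3380 L30265 q3239, e3 q3381 (flp_e L31051) q3448, e3 q3382 (flp_e L31165) q3458, e3 q3383 L30287 q3243, e3 q3384 (flp_e L31189) q3461, e3 q3385 (flp_e L30686) q3419, e3 q3386 (flp_e L31082) q3451, e3 q3387 (flp_e L30304) q3246, e3 q3388 (flp_e L30859) q3432, e3 q3389 (flp_e L31003) q3444, e3 q3390 (flp_e L31065) q3449, e3 q3391 L30331 q3257, trivial⟩ (by decide +kernel)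

theorem ce_e_53 : ∀ r, r < 64 → sm ge (Qf (3392 + r)) = Qf (tab Gen.e (3392 + r)) :=
  edges_tab (sm ge) Qf (tab Gen.e) 3392 [(3392, 3445), (3393, 3447), (3394, 3456), (3395, 3420), (3396, 3475), (3397, 3463), (3398, 3269), (3399, 3399), (3400, 3400), (3401, 3282), (3402, 3328), (3403, 3369), (3404, 3276), (3405, 3353), (3406, 3286), (3407, 3288), (3408, 3479), (3409, 3321), (3410, 3324), (3411, 3291), (3412, 3317), (3413, 3337), (3414, 3295), (3415, 3323), (3416, 3311), (3417, 3309), (3418, 3300), (3419, 3385), (3420, 3395), (3421, 3329), (3422, 3362), (3423, 3335), (3424, 3355), (3425, 3488), (3426, 3374), (3427, 3477), (3428, 3315), (3429, 3338), (3430, 3493), (3431, 3318), (3432, 3388), (3433, 3483), (3434, 3480), (3435, 3326), (3436, 3372), (3437, 3481), (3438, 3368), (3439, 3344), (3440, 3350), (3441, 3486), (3442, 3363), (3443, 3489), (3444, 3389), (3445, 3392), (3446, 3371), (3447, 3393), (3448, 3381), (3449, 3390), (3450, 3485), (3451, 3386),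 (3452, 3360), (3453, 3378), (3454, 3501), (3455, 3377)]
    ⟨e3 q3392 (flp_e L31014) q3445, e3 q3393 (flp_e L31044) q3447, e3 q3394 (flp_e L31144) q3456, e3 q3395 (flp_e L30708) q3420, e3 q3396 (flp_e L31303) q3475, e3 q3397 L31213 q3463, e3 q3398 L30375 q3269, e3 q3399 L30389 q3399, e3 q3400 L30401 q3400, e3 q3401 L30416 q3282, e3 q3402 L30430 q3328, e3 q3403 (flp_e L30445) q3369, e3 q3404 (flp_e L30449) q3276, e3 q3405 L30471 q3353, e3 q3406 L30487 q3286, e3 q3407 L30503 q3288, e3 q3408 L31350 q3479, e3 q3409 L30535 q3321, e3 q3410 L30543 q3324, e3 q3411 (flp_e L30551) q3291, e3 q3412 L30571 q3317, e3 q3413 L30589 q3337, e3 q3414 L30605 q3295, e3 q3415 L30626 q3323, e3 q3416 L30636 q3311, e3 q3417 L30654 q3309, e3 q3418 L30670 q3300, e3 q3419 L30686 q3385, e3 q3420 L30708 q3395, e3 q3421 L30720 q3329, e3 q3422 L30736 q3362, e3 q3423 L30753 q3335, e3 q3424 L30763 q3355, e3 q3425 L31492 q3488, e3 q3426 L30786 q3374, e3 q3427 (flp_e L31334) q3477, e3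 q3428 L30809 q3315, e3 q3429 L30825 q3338, e3 q3430 L31574 q3493, e3 q3431 (flp_e L30841) q3318, e3 q3432 L30859 q3388, e3 q3433 (flp_e L31419) q3483, e3 q3434 (flp_e L31366) q3480, e3 q3435 L30898 q3326, e3 q3436 L30904 q3372, e3 q3437 (flp_e L31377) q3481, e3 q3438 L30937 q3368, e3 q3439 L30951 q3344, e3 q3440 L30965 q3350, e3 q3441 (flp_e L31471) q3486, e3 q3442 L30980 q3363, e3 q3443 (flp_e L31521) q3489, e3 q3444 L31003 q3389, e3 q3445 L31014 q3392, e3 q3446 L31030 q3371, e3 q3447 L31044 q3393, e3 q3448 L31051 q3381, e3 q3449 L31065 q3390, e3 q3450 (flp_e L31454) q3485, e3 q3451 L31082 q3386, e3 q3452 L31099 q3360, e3 q3453 L31110 q3378, e3 q3454 L31688 q3501, e3 q3455 L31130 q3377, trivial⟩ (by decide +kernel)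

theorem ce_e_54 : ∀ r, r < 54 → sm ge (Qf (3456 + r)) = Qf (tab Gen.e (3456 + r)) :=
  edges_tab (sm ge) Qf (tab Gen.e) 3456 [(3456, 3394), (3457, 3491), (3458, 3382), (3459, 3503), (3460, 3379), (3461, 3384), (3462, 3494), (3463, 3397), (3464, 3365), (3465, 3492), (3466, 3497), (3467, 3496), (3468, 3498), (3469, 3482), (3470, 3499), (3471, 3487), (3472, 3484), (3473, 3504), (3474, 3500), (3475, 3396), (3476, 3505), (3477, 3427), (3478, 3508), (3479, 3408), (3480, 3434), (3481, 3437), (3482, 3469), (3483, 3433), (3484, 3472), (3485, 3450), (3486, 3441), (3487, 3471), (3488, 3425), (3489, 3443), (3490, 3506), (3491, 3457), (3492, 3465), (3493, 3430), (3494, 3462), (3495, 3509), (3496, 3467), (3497, 3466), (3498, 3468), (3499, 3470), (3500, 3474), (3501, 3454), (3502, 3507), (3503, 3459), (3504, 3473), (3505, 3476), (3506, 3490), (3507, 3502), (3508, 3478), (3509, 3495)]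
    ⟨e3 q3456 L31144 q3394, e3 q3457 (flp_e L31553) q3491, e3 q3458 L31165 q3382, e3 q3459 L31713 q3503, e3 q3460 L31180 q3379, e3 q3461 L31189 q3384, e3 q3462 (flp_e L31604) q3494, e3 q3463 (flp_e L31213) q3397, e3 q3464 (flp_e L31215) q3365, e3 q3465 (flp_e L31570) q3492, e3 q3466 (flp_e L31641) q3497, e3 q3467 (flp_e L31628) q3496, e3 q3468 (flp_e L31652) q3498, e3 q3469 (flp_e L31402) q3482, e3 q3470 (flp_e L31667) q3499, e3 q3471 (flp_e L31489) q3487, e3 q3472 (flp_e L31437) q3484, e3 q3473 (flp_e L31722) q3504, e3 q3474 L31686 q3500, e3 q3475 L31303 q3396, e3 q3476 L31727 q3505, e3 q3477 L31334 q3427, e3 q3478 L31778 q3508, e3 q3479 (flp_e L31350) q3408, e3 q3480 L31366 q3434, e3 q3481 L31377 q3437, e3 q3482 L31402 q3469, e3 q3483 L31419 q3433, e3 q3484 L31437 q3472, e3 q3485 L31454 q3450, e3 q3486 L31471 q3441, e3 q3487 L31489 q3471, e3 q3488 (flp_e L31492) q3425, e3 q3489 L31521 q3443, e3 q3490 (flp_e L31748) q3506, e3 q3491 L31553 q3457, e3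 q3492 L31570 q3465, e3 q3493 (flp_e L31574) q3430, e3 q3494 L31604 q3462, e3 q3495 (flp_e L31809) q3509, e3 q3496 L31628 q3467, e3 q3497 L31641 q3466, e3 q3498 L31652 q3468, e3 q3499 L31667 q3470, e3 q3500 (flp_e L31686) q3474, e3 q3501 (flp_e L31688) q3454, e3 q3502 L31776 q3507, e3 q3503 (flp_e L31713) q3459, e3 q3504 L31722 q3473, e3 q3505 (flp_e L31727) q3476, e3 q3506 L31748 q3490, e3 q3507 (flp_e L31776) q3502, e3 q3508 (flp_e L31778) q3478, e3 q3509 L31809 q3495, trivial⟩ (by decide +kernel)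

theorem cl_e : ∀ i, i < 3510 → sm ge (Qf i) = Qf (tab Gen.e i) :=
  all_of_chunks (fun i => sm ge (Qf i) = Qf (tab Gen.e i)) 54 54
    ⟨ce_e_0, ce_e_1, ce_e_2, ce_e_3, ce_e_4, ce_e_5, ce_e_6, ce_e_7, ce_e_8, ce_e_9, ce_e_10, ce_e_11, ce_e_12, ce_e_13, ce_e_14, ce_e_15, ce_e_16, ce_e_17, ce_e_18, ce_e_19, ce_e_20, ce_e_21, ce_e_22, ce_e_23, ce_e_24, ce_e_25, ce_e_26, ce_e_27, ce_e_28, ce_e_29, ce_e_30, ce_e_31, ce_e_32, ce_e_33, ce_e_34, ce_e_35, ce_e_36, ce_e_37, ce_e_38, ce_e_39, ce_e_40, ce_e_41, ce_e_42, ce_e_43, ce_e_44, ce_e_45, ce_e_46, ce_e_47, ce_e_48, ce_e_49, ce_e_50, ce_e_51, ce_e_52, ce_e_53, trivial⟩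
    ce_e_54


end Cfsg.Agent.Helper28.FiaA
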