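import Cfsg.Agent.Helper28.FiaC0

/-!
# The Fi₂₂ presentation, cosets of the subgroup generated by a, c, d, e, f, g, h, i, (abcdeh)⁵: the action of the generator f (helper28; generated)
-/

set_option autoImplicit false
set_option maxRecDepth 100000
set_option linter.unusedSimpArgs false
set_option linter.constructorNameAsVariable false

noncomputable section

namespace Cfsg.Agent.Helper28.FiaA

open Cfsg.Spor Cfsg.Spor.Fi22 Cfsg.Agent.Helper28.CosetTable

theorem ce_f_0 : ∀ r, r < 64 → sm gf (Qf (0 + r)) = Qf (tab Gen.f (0 + r)) :=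
  edges_tab (sm gf) Qf (tab Gen.f) 0 [(0, 0), (1, 1), (2, 2), (3, 3), (4, 4), (5, 5), (6, 6), (7, 7), (8, 13), (9, 9), (10, 10), (11, 19), (12, 12), (13, 8), (14, 23), (15, 15), (16, 16), (17, 28), (18, 18), (19, 11), (20, 32), (21, 21), (22, 22), (23, 14), (24, 36), (25, 37), (26, 41), (27, 27), (28, 17), (29, 46), (30, 30), (31, 31), (32, 20), (33, 50), (34, 51), (35, 35), (36, 24), (37, 25), (38, 56), (39, 58), (40, 62), (41, 26), (42, 64), (43, 43), (44, 44), (45, 45), (46, 29), (47, 68), (48, 69), (49, 49), (50, 33), (51, 34), (52, 73), (53, 75), (54, 54), (55, 55), (56, 38), (57, 57), (58, 39), (59, 81), (60, 83), (61, 85), (62, 40), (63, 63)]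
    ⟨e3 q0 L4 q0, e3 q1 L12 q1, e3 q2 L20 q2, e3 q3 L28 q3, e3 q4 L38 q4, e3 q5 L45 q5, e3 q6 L52 q6, e3 q7 L62 q7, e3 q8 L104 q13, e3 q9 L77 q9, e3 q10 L85 q10, e3 q11 L150 q19, e3 q12 L101 q12, e3 q13 (flp_f L104) q8, e3 q14 (flp_f L188) q23, e3 q15 L123 q15, e3 q16 L129 q16, e3 q17 L220 q28, e3 q18 L147 q18, e3 q19 (flp_f L150) q11, e3 q20 (flp_f L260) q32, e3 q21 L172 q21, e3 q22 L182 q22, e3 q23 L188 q14, e3 q24 (flp_f L289) q36, e3 q25 (flp_f L297) q37, e3 q26 L321 q41, e3 q27 L218 q27, e3 q28 (flp_f L220) q17, e3 q29 (flp_f L373) q46, e3 q30 L242 q30, e3 q31 L253 q31, e3 q32 L260 q20, e3 q33 (flp_f L406) q50, e3 q34 (flp_f L415) q51, e3 q35 L283 q35, e3 q36 L289 q24, e3 q37 L297 q25, e3 q38 (flp_f L453) q56, e3 q39 (flp_f L468) q58, e3 q40 L492 q62, e3 q41 (flp_f L321) q26, e3 q42 (flp_f L517) q64, e3 q43 L344 q43, e3 q44 L355 q44, e3 q45 L366 q45, e3 q46 L373 q29, e3 q47 (flp_f L555) q68, e3 q48 (flp_f L565) q69, e3 q49 L399 q49, e3 q50 L406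 q33, e3 q51 L415 q34, e3 q52 (flp_f L600) q73, e3 q53 (flp_f L618) q75, e3 q54 L438 q54, e3 q55 L447 q55, e3 q56 L453 q38, e3 q57 L462 q57, e3 q58 L468 q39, e3 q59 (flp_f L663) q81, e3 q60 (flp_f L679) q83, e3 q61 (flp_f L691) q85, e3 q62 (flp_f L492) q40, e3 q63 L509 q63, trivial⟩ (by decide +kernel)

theorem ce_f_1 : ∀ r, r < 64 → sm gf (Qf (64 + r)) = Qf (tab Gen.f (64 + r)) :=
  edges_tab (sm gf) Qf (tab Gen.f) 64 [(64, 42), (65, 91), (66, 66), (67, 67), (68, 47), (69, 48), (70, 96), (71, 71), (72, 72), (73, 52), (74, 74), (75, 53), (76, 102), (77, 104), (78, 78), (79, 109), (80, 80), (81, 59), (82, 82), (83, 60), (84, 84), (85, 61), (86, 113), (87, 116), (88, 88), (89, 89), (90, 90), (91, 65), (92, 92), (93, 93), (94, 94), (95, 95), (96, 70), (97, 125), (98, 98), (99, 128), (100, 100), (101, 101), (102, 76), (103, 103), (104, 77), (105, 133), (106, 106), (107, 139), (108, 108), (109, 79), (110, 142), (111, 111), (112, 112), (113, 86), (114, 114),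 (115, 115), (116, 87), (117, 117), (118, 146), (119, 150), (120, 154), (121, 121), (122, 155), (123, 123), (124, 124), (125, 97), (126, 160), (127, 127)]
    ⟨e3 q64 L517 q42, e3 q65 (flp_f L749) q91, e3 q66 L539 q66, e3 q67 L547 q67, e3 q68 L555 q47, e3 q69 L565 q48, e3 q70 (flp_f L799) q96, e3 q71 L582 q71, e3 q72 L592 q72, e3 q73 L600 q52, e3 q74 L611 q74, e3 q75 L618 q53, e3 q76 (flp_f L855) q102, e3 q77 (flp_f L869) q104, e3 q78 L640 q78, e3 q79 L907 q109, e3 q80 L657 q80, e3 q81 L663 q59, e3 q82 L673 q82, e3 q83 L679 q60, e3 q84 L687 q84, e3 q85 L691 q61, e3 q86 (flp_f L945) q113, e3 q87 (flp_f L963) q116, e3 q88 L719 q88, e3 q89 L729 q89, e3 q90 L737 q90, e3 q91 L749 q65, e3 q92 L758 q92, e3 q93 L767 q93, e3 q94 L778 q94, e3 q95 L790 q95, e3 q96 L799 q70, e3 q97 (flp_f L1047) q125, e3 q98 L815 q98, e3 q99 L1072 q128, e3 q100 L835 q100, e3 q101 L846 q101, e3 q102 L855 q76, e3 q103 L864 q103, e3 q104 L869 q77, e3 q105 (flp_f L1123) q133, e3 q106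 L886 q106, e3 q107 L1168 q139, e3 q108 L904 q108, e3 q109 (flp_f L907) q79, e3 q110 (flp_f L1196) q142, e3 q111 L925 q111, e3 q112 L937 q112, e3 q113 L945 q86, e3 q114 L949 q114, e3 q115 L958 q115, e3 q116 L963 q87, e3 q117 L971 q117, e3 q118 (flp_f L1229) q146, e3 q119 (flp_f L1255) q150, e3 q120 L1282 q154, e3 q121 L1006 q121, e3 q122 L1292 q155, e3 q123 L1028 q123, e3 q124 L1040 q124, e3 q125 L1047 q97, e3 q126 L1343 q160, e3 q127 L1069 q127, trivial⟩ (by decide +kernel)

theorem ce_f_2 : ∀ r, r < 64 → sm gf (Qf (128 + r)) = Qf (tab Gen.f (128 + r)) :=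
  edges_tab (sm gf) Qf (tab Gen.f) 128 [(128, 99), (129, 163), (130, 130), (131, 131), (132, 132), (133, 105), (134, 134), (135, 168), (136, 172), (137, 137), (138, 175), (139, 107), (140, 178), (141, 141), (142, 110), (143, 181), (144, 144), (145, 145), (146, 118), (147, 147), (148, 148), (149, 149), (150, 119), (151, 151), (152, 187), (153, 195), (154, 120), (155, 122), (156, 196), (157, 157), (158, 158), (159, 199), (160, 126), (161, 202), (162, 162), (163, 129), (164, 205), (165, 165), (166, 166), (167, 167), (168, 135), (169, 169), (170, 212), (171, 214), (172, 136), (173, 217), (174, 174), (175, 138), (176, 221), (177, 222), (178, 140), (179, 225), (180, 180), (181, 143), (182, 228), (183, 183), (184, 184), (185, 185), (186, 186), (187, 152), (188, 188), (189, 189), (190, 190), (191, 241)]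
    ⟨e3 q128 (flp_f L1072) q99, e3 q129 (flp_f L1381) q163, e3 q130 L1093 q130, e3 q131 L1103 q131, e3 q132 L1115 q132, e3 q133 L1123 q105, e3 q134 L1132 q134, e3 q135 (flp_f L1428) q168, e3 q136 L1459 q172, e3 q137 L1159 q137, e3 q138 L1488 q175, e3 q139 (flp_f L1168) q107, e3 q140 (flp_f L1514) q178, e3 q141 L1187 q141, e3 q142 L1196 q110, e3 q143 (flp_f L1538) q181, e3 q144 L1212 q144, e3 q145 L1222 q145, e3 q146 L1229 q118, e3 q147 L1236 q147, e3 q148 L1244 q148, e3 q149 L1251 q149, e3 q150 L1255 q119, e3 q151 L1263 q151, e3 q152 (flp_f L1589) q187, e3 q153 L1636 q195, e3 q154 (flp_f L1282) q120, e3 q155 (flp_f L1292) q122, e3 q156 (flp_f L1650) q196, e3 q157 L1319 q157, e3 q158 L1332 q158, e3 q159 L1673 q199, e3 q160 (flp_f L1343) q126, e3 q161 (flp_f L1711) q202, e3 q162 L1371 q162, e3 q163 L1381 q129, e3 q164 (flp_f L1742) q205, e3 q165 L1400 q165, e3 q166 L1411 q166, e3 q167 L1421 q167, e3 q168 L1428 q135, e3 q169 L1437 q169, e3 q170 L1795 q212,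 e3 q171 L1812 q214, e3 q172 (flp_f L1459) q136, e3 q173 (flp_f L1846) q217, e3 q174 L1484 q174, e3 q175 (flp_f L1488) q138, e3 q176 (flp_f L1879) q221, e3 q177 (flp_f L1888) q222, e3 q178 L1514 q140, e3 q179 (flp_f L1909) q225, e3 q180 L1528 q180, e3 q181 L1538 q143, e3 q182 (flp_f L1928) q228, e3 q183 L1554 q183, e3 q184 L1563 q184, e3 q185 L1573 q185, e3 q186 L1582 q186, e3 q187 L1589 q152, e3 q188 L1598 q188, e3 q189 L1603 q189, e3 q190 L1606 q190, e3 q191 L2018 q241, trivial⟩ (by decide +kernel)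

theorem ce_f_3 : ∀ r, r < 64 → sm gf (Qf (192 + r)) = Qf (tab Gen.f (192 + r)) :=
  edges_tab (sm gf) Qf (tab Gen.f) 192 [(192, 192), (193, 235), (194, 244), (195, 153), (196, 156), (197, 246), (198, 198), (199, 159), (200, 250), (201, 251), (202, 161), (203, 254), (204, 204), (205, 164), (206, 257), (207, 207), (208, 208), (209, 209), (210, 263), (211, 211), (212, 170), (213, 266), (214, 171), (215, 270), (216, 271), (217, 173), (218, 274), (219, 219), (220, 220), (221, 176), (222, 177), (223, 280), (224, 281), (225, 179), (226, 284), (227, 287), (228, 182), (229, 288), (230, 230), (231, 231), (232, 232), (233, 233), (234, 234), (235, 193), (236, 299), (237, 237), (238, 238), (239, 239), (240, 305), (241, 191), (242, 242), (243, 309), (244, 194), (245, 245), (246, 197), (247, 311), (248, 248), (249, 249), (250, 200), (251, 201), (252, 316), (253, 317), (254, 203), (255, 320)]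
    ⟨e3 q192 L1616 q192, e3 q193 (flp_f L1982) q235, e3 q194 L2041 q244, e3 q195 (flp_f L1636) q153, e3 q196 L1650 q156, e3 q197 (flp_f L2063) q246, e3 q198 L1669 q198, e3 q199 (flp_f L1673) q159, e3 q200 (flp_f L2100) q250, e3 q201 (flp_f L2112) q251, e3 q202 L1711 q161, e3 q203 (flp_f L2142) q254, e3 q204 L1731 q204, e3 q205 L1742 q164, e3 q206 (flp_f L2168) q257, e3 q207 L1763 q207, e3 q208 L1771 q208, e3 q209 L1777 q209, e3 q210 L2216 q263, e3 q211 L1792 q211, e3 q212 (flp_f L1795) q170, e3 q213 L2242 q266, e3 q214 (flp_f L1812) q171, e3 q215 (flp_f L2282) q270, e3 q216 (flp_f L2293) q271, e3 q217 L1846 q173, e3 q218 (flp_f L2320) q274, e3 q219 L1865 q219, e3 q220 L1875 q220, e3 q221 L1879 q176, e3 q222 L1888 q177, e3 q223 (flp_f L2370) q280, e3 q224 (flp_f L2376) q281, e3 q225 L1909 q179, e3 q226 (flp_f L2395) q284, e3 q227 L2413 q287, e3 q228 L1928 q182, e3 q229 (flp_f L2421) q288, e3 q230 L1947 q230, e3 q231 L1956 q231, e3 q232 L1964 q232, e3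 q233 L1971 q233, e3 q234 L1977 q234, e3 q235 L1982 q193, e3 q236 L2504 q299, e3 q237 L1999 q237, e3 q238 L2004 q238, e3 q239 L2009 q239, e3 q240 L2542 q305, e3 q241 (flp_f L2018) q191, e3 q242 L2028 q242, e3 q243 L2570 q309, e3 q244 (flp_f L2041) q194, e3 q245 L2055 q245, e3 q246 L2063 q197, e3 q247 (flp_f L2592) q311, e3 q248 L2081 q248, e3 q249 L2093 q249, e3 q250 L2100 q200, e3 q251 L2112 q201, e3 q252 (flp_f L2643) q316, e3 q253 (flp_f L2652) q317, e3 q254 L2142 q203, e3 q255 (flp_f L2680) q320, trivial⟩ (by decide +kernel)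

theorem ce_f_4 : ∀ r, r < 64 → sm gf (Qf (256 + r)) = Qf (tab Gen.f (256 + r)) :=
  edges_tab (sm gf) Qf (tab Gen.f) 256 [(256, 323), (257, 206), (258, 324), (259, 259), (260, 260), (261, 261), (262, 332), (263, 210), (264, 264), (265, 265), (266, 213), (267, 336), (268, 337), (269, 269), (270, 215), (271, 216), (272, 343), (273, 344), (274, 218), (275, 347), (276, 276), (277, 351), (278, 278), (279, 279), (280, 223), (281, 224), (282, 355), (283, 356), (284, 226), (285, 360), (286, 364), (287, 227), (288, 229), (289, 289), (290, 366), (291, 291), (292, 292), (293, 293), (294, 294), (295, 295), (296, 296), (297, 378), (298, 380), (299, 236), (300, 300), (301, 301), (302, 386), (303, 303), (304, 389), (305, 240), (306, 365), (307, 307), (308, 391), (309, 243), (310, 310), (311, 247), (312, 394), (313, 313), (314, 314), (315, 315), (316, 252), (317, 253), (318, 401), (319, 402)]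
    ⟨e3 q256 L2703 q323, e3 q257 L2168 q206, e3 q258 (flp_f L2716) q324, e3 q259 L2189 q259, e3 q260 L2197 q260, e3 q261 L2204 q261, e3 q262 L2777 q332, e3 q263 (flp_f L2216) q210, e3 q264 L2229 q264, e3 q265 L2241 q265, e3 q266 (flp_f L2242) q213, e3 q267 (flp_f L2818) q336, e3 q268 (flp_f L2828) q337, e3 q269 L2276 q269, e3 q270 L2282 q215, e3 q271 L2293 q216, e3 q272 (flp_f L2882) q343, e3 q273 (flp_f L2890) q344, e3 q274 L2320 q218, e3 q275 (flp_f L2917) q347, e3 q276 L2335 q276, e3 q277 L2948 q351, e3 q278 L2356 q278, e3 q279 L2364 q279, e3 q280 L2370 q223, e3 q281 L2376 q224, e3 q282 (flp_f L2979) q355, e3 q283 (flp_f L2986) q356, e3 q284 L2395 q226, e3 q285 (flp_f L3014) q360, e3 q286 L3040 q364, e3 q287 (flp_f L2413) q227, e3 q288 L2421 q229, e3 q289 L2433 q289, e3 q290 (flp_f L3055) q366, e3 q291 L2446 q291, e3 q292 L2456 q292, e3 q293 L2464 q293, e3 q294 L2471 q294, e3 q295 L2479 q295, e3 q296 L2485 q296, e3 q297 L3144 q378, e3 q298 L3159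 q380, e3 q299 (flp_f L2504) q236, e3 q300 L2515 q300, e3 q301 L2521 q301, e3 q302 L3203 q386, e3 q303 L2534 q303, e3 q304 L3221 q389, e3 q305 (flp_f L2542) q240, e3 q306 (flp_f L3051) q365, e3 q307 L2559 q307, e3 q308 L3234 q391, e3 q309 (flp_f L2570) q243, e3 q310 L2586 q310, e3 q311 L2592 q247, e3 q312 (flp_f L3262) q394, e3 q313 L2610 q313, e3 q314 L2623 q314, e3 q315 L2634 q315, e3 q316 L2643 q252, e3 q317 L2652 q253, e3 q318 (flp_f L3333) q401, e3 q319 (flp_f L3343) q402, trivial⟩ (by decide +kernel)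

theorem ce_f_5 : ∀ r, r < 64 → sm gf (Qf (320 + r)) = Qf (tab Gen.f (320 + r)) :=
  edges_tab (sm gf) Qf (tab Gen.f) 320 [(320, 255), (321, 406), (322, 410), (323, 256), (324, 258), (325, 325), (326, 412), (327, 327), (328, 328), (329, 419), (330, 330), (331, 422), (332, 262), (333, 411), (334, 334), (335, 335), (336, 267), (337, 268), (338, 427), (339, 428), (340, 429), (341, 341), (342, 342), (343, 272), (344, 273), (345, 437), (346, 438), (347, 275), (348, 442), (349, 446), (350, 448), (351, 277), (352, 352), (353, 353), (354, 354), (355, 282), (356, 283), (357, 454), (358, 455), (359, 461), (360, 285), (361, 464), (362, 462), (363, 467), (364, 286), (365, 306), (366, 290), (367, 367), (368, 469), (369, 472), (370, 370), (371, 371), (372, 372), (373, 373), (374, 374), (375, 482), (376, 376), (377, 486), (378, 297), (379, 488), (380, 298), (381, 449), (382, 382), (383, 493)]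
    ⟨e3 q320 L2680 q255, e3 q321 (flp_f L3381) q406, e3 q322 L3413 q410, e3 q323 (flp_f L2703) q256, e3 q324 L2716 q258, e3 q325 L2729 q325, e3 q326 (flp_f L3434) q412, e3 q327 L2742 q327, e3 q328 L2750 q328, e3 q329 L3491 q419, e3 q330 L2766 q330, e3 q331 L3516 q422, e3 q332 (flp_f L2777) q262, e3 q333 (flp_f L3430) q411, e3 q334 L2799 q334, e3 q335 L2811 q335, e3 q336 L2818 q267, e3 q337 L2828 q268, e3 q338 (flp_f L3568) q427, e3 q339 (flp_f L3580) q428, e3 q340 (flp_f L3589) q429, e3 q341 L2864 q341, e3 q342 L2874 q342, e3 q343 L2882 q272, e3 q344 L2890 q273, e3 q345 (flp_f L3662) q437, e3 q346 (flp_f L3672) q438, e3 q347 L2917 q275, e3 q348 (flp_f L3707) q442, e3 q349 L3736 q446, e3 q350 L3752 q448, e3 q351 (flp_f L2948) q277, e3 q352 L2958 q352, e3 q353 L2967 q353, e3 q354 L2974 q354, e3 q355 L2979 q282, e3 q356 L2986 q283, e3 q357 (flp_f L3802) q454, e3 q358 (flp_f L3810) q455, e3 q359 L3852 q461, e3 q360 L3014 q285, e3 q361 L3871 q464, e3 q362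 (flp_f L3861) q462, e3 q363 L3892 q467, e3 q364 (flp_f L3040) q286, e3 q365 L3051 q306, e3 q366 L3055 q290, e3 q367 L3068 q367, e3 q368 (flp_f L3908) q469, e3 q369 L3928 q472, e3 q370 L3091 q370, e3 q371 L3099 q371, e3 q372 L3106 q372, e3 q373 L3113 q373, e3 q374 L3120 q374, e3 q375 L4002 q482, e3 q376 L3134 q376, e3 q377 L4033 q486, e3 q378 (flp_f L3144) q297, e3 q379 L4049 q488, e3 q380 (flp_f L3159) q298, e3 q381 (flp_f L3769) q449, e3 q382 L3180 q382, e3 q383 L4086 q493, trivial⟩ (by decide +kernel)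

theorem ce_f_6 : ∀ r, r < 64 → sm gf (Qf (384 + r)) = Qf (tab Gen.f (384 + r)) :=
  edges_tab (sm gf) Qf (tab Gen.f) 384 [(384, 384), (385, 497), (386, 302), (387, 387), (388, 500), (389, 304), (390, 468), (391, 308), (392, 473), (393, 393), (394, 312), (395, 395), (396, 503), (397, 397), (398, 398), (399, 399), (400, 400), (401, 318), (402, 319), (403, 510), (404, 511), (405, 517), (406, 321), (407, 520), (408, 518), (409, 523), (410, 322), (411, 333), (412, 326), (413, 413), (414, 525), (415, 415), (416, 530), (417, 417), (418, 534), (419, 329), (420, 420), (421, 537), (422, 331), (423, 524), (424, 424), (425, 425), (426, 426), (427, 338), (428, 339), (429, 340), (430, 430), (431, 542), (432, 543), (433, 544), (434, 434), (435, 435), (436, 436), (437, 345), (438, 346), (439, 553), (440, 554), (441, 560), (442, 348), (443, 563), (444, 561), (445, 567), (446, 349), (447, 569)]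
    ⟨e3 q384 L3194 q384, e3 q385 L4110 q497, e3 q386 (flp_f L3203) q302, e3 q387 L3213 q387, e3 q388 L4129 q500, e3 q389 (flp_f L3221) q304, e3 q390 (flp_f L3903) q468, e3 q391 (flp_f L3234) q308, e3 q392 (flp_f L5689) q473, e3 q393 L3258 q393, e3 q394 L3262 q312, e3 q395 L3277 q395, e3 q396 (flp_f L4179) q503, e3 q397 L3294 q397, e3 q398 L3303 q398, e3 q399 L3315 q399, e3 q400 L3325 q400, e3 q401 L3333 q318, e3 q402 L3343 q319, e3 q403 (flp_f L4250) q510, e3 q404 (flp_f L4260) q511, e3 q405 L4313 q517, e3 q406 L3381 q321, e3 q407 L4338 q520, e3 q408 (flp_f L4325) q518, e3 q409 L4366 q523, e3 q410 (flp_f L3413) q322, e3 q411 L3430 q333, e3 q412 L3434 q326, e3 q413 L3448 q413, e3 q414 (flp_f L4386) q525, e3 q415 L3462 q415, e3 q416 L4426 q530, e3 q417 L3479 q417, e3 q418 L4459 q534, e3 q419 (flp_f L3491) q329, e3 q420 L3505 q420, e3 q421 L4486 q537, e3 q422 (flp_f L3516) q331, e3 q423 (flp_f L4382) q524, e3 q424 L3538 q424, e3 q425 L3551 q425, e3 q426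 L3562 q426, e3 q427 L3568 q338, e3 q428 L3580 q339, e3 q429 L3589 q340, e3 q430 L3601 q430, e3 q431 (flp_f L4542) q542, e3 q432 (flp_f L4551) q543, e3 q433 (flp_f L4560) q544, e3 q434 L3634 q434, e3 q435 L3646 q435, e3 q436 L3655 q436, e3 q437 L3662 q345, e3 q438 L3672 q346, e3 q439 (flp_f L4642) q553, e3 q440 (flp_f L4651) q554, e3 q441 L4700 q560, e3 q442 L3707 q348, e3 q443 L4724 q563, e3 q444 (flp_f L4711) q561, e3 q445 L4760 q567, e3 q446 (flp_f L3736) q349, e3 q447 L4776 q569, trivial⟩ (by decide +kernel)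

theorem ce_f_7 : ∀ r, r < 64 → sm gf (Qf (448 + r)) = Qf (tab Gen.f (448 + r)) :=
  edges_tab (sm gf) Qf (tab Gen.f) 448 [(448, 350), (449, 381), (450, 450), (451, 451), (452, 452), (453, 453), (454, 357), (455, 358), (456, 581), (457, 577), (458, 584), (459, 579), (460, 588), (461, 359), (462, 362), (463, 593), (464, 361), (465, 590), (466, 596), (467, 363), (468, 390), (469, 368), (470, 470), (471, 471), (472, 369), (473, 392), (474, 474), (475, 475), (476, 476), (477, 606), (478, 478), (479, 609), (480, 480), (481, 613), (482, 375), (483, 483), (484, 617), (485, 618), (486, 377), (487, 568), (488, 379), (489, 603), (490, 571), (491, 491), (492, 625), (493, 383), (494, 494), (495, 629), (496, 630), (497, 385), (498, 589), (499, 632), (500, 388), (501, 597), (502, 502), (503, 396), (504, 504), (505, 634), (506, 506), (507, 507), (508, 508), (509, 509), (510, 403), (511, 404)]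
    ⟨e3 q448 (flp_f L3752) q350, e3 q449 L3769 q381, e3 q450 L3774 q450, e3 q451 L3784 q451, e3 q452 L3791 q452, e3 q453 L3797 q453, e3 q454 L3802 q357, e3 q455 L3810 q358, e3 q456 L4865 q581, e3 q457 (flp_f L4837) q577, e3 q458 L4888 q584, e3 q459 (flp_f L4853) q579, e3 q460 L4916 q588, e3 q461 (flp_f L3852) q359, e3 q462 L3861 q362, e3 q463 L4950 q593, e3 q464 (flp_f L3871) q361, e3 q465 (flp_f L4933) q590, e3 q466 L4972 q596, e3 q467 (flp_f L3892) q363, e3 q468 L3903 q390, e3 q469 L3908 q368, e3 q470 L3921 q470, e3 q471 L3924 q471, e3 q472 (flp_f L3928) q369, e3 q473 L5689 q392, e3 q474 L3950 q474, e3 q475 L3956 q475, e3 q476 L3962 q476, e3 q477 L5062 q606, e3 q478 L3975 q478, e3 q479 L5085 q609, e3 q480 L3990 q480, e3 q481 L5115 q613, e3 q482 (flp_f L4002) q375, e3 q483 L4016 q483, e3 q484 L5147 q617, e3 q485 L5155 q618, e3 q486 (flp_f L4033) q377, e3 q487 (flp_f L4774) q568, e3 q488 (flp_f L4049) q379, e3 q489 (flp_f L5748) q603, e3 q490 (flp_f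 L4800) q571, e3 q491 L4075 q491, e3 q492 L5225 q625, e3 q493 (flp_f L4086) q383, e3 q494 L4096 q494, e3 q495 L5252 q629, e3 q496 L5259 q630, e3 q497 (flp_f L4110) q385, e3 q498 (flp_f L4927) q589, e3 q499 L5272 q632, e3 q500 (flp_f L4129) q388, e3 q501 (flp_f L4984) q597, e3 q502 L4158 q502, e3 q503 L4179 q396, e3 q504 L4194 q504, e3 q505 (flp_f L5325) q634, e3 q506 L4211 q506, e3 q507 L4223 q507, e3 q508 L4233 q508, e3 q509 L4242 q509, e3 q510 L4250 q403, e3 q511 L4260 q404, trivial⟩ (by decide +kernel)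

theorem ce_f_8 : ∀ r, r < 64 → sm gf (Qf (512 + r)) = Qf (tab Gen.f (512 + r)) :=
  edges_tab (sm gf) Qf (tab Gen.f) 512 [(512, 647), (513, 643), (514, 650), (515, 645), (516, 654), (517, 405), (518, 408), (519, 659), (520, 407), (521, 656), (522, 662), (523, 409), (524, 423), (525, 414), (526, 526), (527, 527), (528, 528), (529, 670), (530, 416), (531, 531), (532, 669), (533, 668), (534, 418), (535, 655), (536, 674), (537, 421), (538, 663), (539, 539), (540, 540), (541, 541), (542, 431), (543, 432), (544, 433), (545, 545), (546, 679), (547, 680), (548, 681), (549, 688), (550, 550), (551, 551), (552, 552), (553, 439), (554, 440), (555, 697), (556, 693), (557, 700), (558, 695), (559, 704), (560, 441), (561, 444), (562, 709), (563, 443), (564, 706), (565, 713), (566, 714), (567, 445), (568, 487), (569, 447), (570, 719), (571, 490), (572, 572), (573, 573), (574, 574), (575, 575)]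
    ⟨e3 q512 L5441 q647, e3 q513 (flp_f L5407) q643, e3 q514 L5470 q650, e3 q515 (flp_f L5426) q645, e3 q516 L5507 q654, e3 q517 (flp_f L4313) q405, e3 q518 L4325 q408, e3 q519 L5552 q659, e3 q520 (flp_f L4338) q407, e3 q521 (flp_f L5530) q656, e3 q522 L5582 q662, e3 q523 (flp_f L4366) q409, e3 q524 L4382 q423, e3 q525 L4386 q414, e3 q526 L4400 q526, e3 q527 L4405 q527, e3 q528 L4412 q528, e3 q529 L5775 q670, e3 q530 (flp_f L4426) q416, e3 q531 L4440 q531, e3 q532 L5771 q669, e3 q533 (flp_f L5646) q668, e3 q534 (flp_f L4459) q418, e3 q535 (flp_f L5523) q655, e3 q536 L5823 q674, e3 q537 (flp_f L4486) q421, e3 q538 (flp_f L5597) q663, e3 q539 L4511 q539, e3 q540 L4522 q540, e3 q541 L4532 q541, e3 q542 L4542 q431, e3 q543 L4551 q432, e3 q544 L4560 q433, e3 q545 L4572 q545, e3 q546 (flp_f L5876) q679, e3 q547 (flp_f L5884) q680, e3 q548 (flp_f L5892) q681, e3 q549 L5951 q688, e3 q550 L4616 q550, e3 q551 L4625 q551, e3 q552 L4634 q552, e3 q553 L4642 q439,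 e3 q554 L4651 q440, e3 q555 L6026 q697, e3 q556 (flp_f L5994) q693, e3 q557 L6054 q700, e3 q558 (flp_f L6011) q695, e3 q559 L6088 q704, e3 q560 (flp_f L4700) q441, e3 q561 L4711 q444, e3 q562 L6130 q709, e3 q563 (flp_f L4724) q443, e3 q564 (flp_f L6110) q706, e3 q565 L6167 q713, e3 q566 L6174 q714, e3 q567 (flp_f L4760) q445, e3 q568 L4774 q487, e3 q569 (flp_f L4776) q447, e3 q570 (flp_f L6218) q719, e3 q571 L4800 q490, e3 q572 L4809 q572, e3 q573 L4814 q573, e3 q574 L4819 q574, e3 q575 L4825 q575, trivial⟩ (by decide +kernel)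

theorem ce_f_9 : ∀ r, r < 64 → sm gf (Qf (576 + r)) = Qf (tab Gen.f (576 + r)) :=
  edges_tab (sm gf) Qf (tab Gen.f) 576 [(576, 727), (577, 457), (578, 730), (579, 459), (580, 734), (581, 456), (582, 728), (583, 739), (584, 458), (585, 731), (586, 743), (587, 744), (588, 460), (589, 498), (590, 465), (591, 748), (592, 749), (593, 463), (594, 594), (595, 752), (596, 466), (597, 501), (598, 598), (599, 599), (600, 600), (601, 601), (602, 602), (603, 489), (604, 604), (605, 764), (606, 477), (607, 607), (608, 768), (609, 479), (610, 610), (611, 772), (612, 773), (613, 481), (614, 705), (615, 777), (616, 778), (617, 484), (618, 485), (619, 760), (620, 716), (621, 718), (622, 622), (623, 784), (624, 672), (625, 492), (626, 740), (627, 783), (628, 782), (629, 495), (630, 496), (631, 745), (632, 499), (633, 753), (634, 505), (635, 635), (636, 636), (637, 637), (638, 638), (639, 639)]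
    ⟨e3 q576 L6272 q727, e3 q577 L4837 q457, e3 q578 L6295 q730, e3 q579 L4853 q459, e3 q580 L6321 q734, e3 q581 (flp_f L4865) q456, e3 q582 (flp_f L6281) q728, e3 q583 L6361 q739, e3 q584 (flp_f L4888) q458, e3 q585 (flp_f L6305) q731, e3 q586 L6392 q743, e3 q587 L6398 q744, e3 q588 (flp_f L4916) q460, e3 q589 L4927 q498, e3 q590 L4933 q465, e3 q591 L6426 q748, e3 q592 L6433 q749, e3 q593 (flp_f L4950) q463, e3 q594 L4963 q594, e3 q595 L6454 q752, e3 q596 (flp_f L4972) q466, e3 q597 L4984 q501, e3 q598 L4994 q598, e3 q599 L4999 q599, e3 q600 L5005 q600, e3 q601 L5030 q601, e3 q602 L5037 q602, e3 q603 L5748 q489, e3 q604 L5053 q604, e3 q605 L6545 q764, e3 q606 (flp_f L5062) q477, e3 q607 L5071 q607, e3 q608 L6578 q768, e3 q609 (flp_f L5085) q479, e3 q610 L5099 q610, e3 q611 L6610 q772, e3 q612 L6619 q773, e3 q613 (flp_f L5115) q481, e3 q614 (flp_f L6103) q705, e3 q615 L6647 q777, e3 q616 L6656 q778, e3 q617 (flp_f L5147) q484, e3 q618 (flp_f L5155)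 q485, e3 q619 L6523 q760, e3 q620 (flp_f L6196) q716, e3 q621 (flp_f L6212) q718, e3 q622 L5208 q622, e3 q623 L6712 q784, e3 q624 L5812 q672, e3 q625 (flp_f L5225) q492, e3 q626 (flp_f L6374) q740, e3 q627 L6708 q783, e3 q628 L6697 q782, e3 q629 (flp_f L5252) q495, e3 q630 (flp_f L5259) q496, e3 q631 (flp_f L6410) q745, e3 q632 (flp_f L5272) q499, e3 q633 (flp_f L6466) q753, e3 q634 L5325 q505, e3 q635 L5340 q635, e3 q636 L5344 q636, e3 q637 L5353 q637, e3 q638 L5366 q638, e3 q639 L5374 q639, trivial⟩ (by decide +kernel)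

theorem ce_f_10 : ∀ r, r < 64 → sm gf (Qf (640 + r)) = Qf (tab Gen.f (640 + r)) :=
  edges_tab (sm gf) Qf (tab Gen.f) 640 [(640, 640), (641, 641), (642, 798), (643, 513), (644, 801), (645, 515), (646, 805), (647, 512), (648, 799), (649, 810), (650, 514), (651, 802), (652, 814), (653, 815), (654, 516), (655, 535), (656, 521), (657, 819), (658, 820), (659, 519), (660, 660), (661, 823), (662, 522), (663, 538), (664, 664), (665, 665), (666, 666), (667, 667), (668, 533), (669, 532), (670, 529), (671, 811), (672, 624), (673, 816), (674, 536), (675, 824), (676, 676), (677, 677), (678, 678), (679, 546), (680, 547), (681, 548), (682, 836), (683, 831), (684, 832), (685, 840), (686, 834), (687, 844), (688, 549), (689, 689), (690, 690), (691, 691), (692, 851), (693, 556), (694, 854), (695, 558), (696, 858), (697, 555), (698, 852), (699, 863), (700, 557), (701, 855), (702, 867), (703, 868)]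
    ⟨e3 q640 L5382 q640, e3 q641 L5390 q641, e3 q642 L6848 q798, e3 q643 L5407 q513, e3 q644 L6877 q801, e3 q645 L5426 q515, e3 q646 L6912 q805, e3 q647 (flp_f L5441) q512, e3 q648 (flp_f L6860) q799, e3 q649 L7009 q810, e3 q650 (flp_f L5470) q514, e3 q651 (flp_f L6891) q802, e3 q652 L7058 q814, e3 q653 L7065 q815, e3 q654 (flp_f L5507) q516, e3 q655 L5523 q535, e3 q656 L5530 q521, e3 q657 L7100 q819, e3 q658 L7108 q820, e3 q659 (flp_f L5552) q519, e3 q660 L5570 q660, e3 q661 L7135 q823, e3 q662 (flp_f L5582) q522, e3 q663 L5597 q538, e3 q664 L5608 q664, e3 q665 L5613 q665, e3 q666 L5621 q666, e3 q667 L5628 q667, e3 q668 L5646 q533, e3 q669 (flp_f L5771) q532, e3 q670 (flp_f L5775) q529, e3 q671 (flp_f L7027) q811, e3 q672 (flp_f L5812) q624, e3 q673 (flp_f L7081) q816, e3 q674 (flp_f L5823) q536, e3 q675 (flp_f L7151) q824, e3 q676 L5849 q676, e3 q677 L5860 q677, e3 q678 L5868 q678, e3 q679 L5876 q546, e3 q680 L5884 q547, e3 q681 L5892 q548, e3 q682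 L7253 q836, e3 q683 (flp_f L7214) q831, e3 q684 (flp_f L7223) q832, e3 q685 L7291 q840, e3 q686 (flp_f L7241) q834, e3 q687 L7327 q844, e3 q688 (flp_f L5951) q549, e3 q689 L5964 q689, e3 q690 L5972 q690, e3 q691 L5979 q691, e3 q692 L7384 q851, e3 q693 L5994 q556, e3 q694 L7412 q854, e3 q695 L6011 q558, e3 q696 L7445 q858, e3 q697 (flp_f L6026) q555, e3 q698 (flp_f L7395) q852, e3 q699 L7493 q863, e3 q700 (flp_f L6054) q557, e3 q701 (flp_f L7426) q855, e3 q702 L7529 q867, e3 q703 L7537 q868, trivial⟩ (by decide +kernel)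

theorem ce_f_11 : ∀ r, r < 64 → sm gf (Qf (704 + r)) = Qf (tab Gen.f (704 + r)) :=
  edges_tab (sm gf) Qf (tab Gen.f) 704 [(704, 559), (705, 614), (706, 564), (707, 873), (708, 874), (709, 562), (710, 710), (711, 878), (712, 879), (713, 565), (714, 566), (715, 884), (716, 620), (717, 717), (718, 621), (719, 570), (720, 845), (721, 721), (722, 722), (723, 723), (724, 891), (725, 725), (726, 895), (727, 576), (728, 582), (729, 900), (730, 578), (731, 585), (732, 904), (733, 905), (734, 580), (735, 735), (736, 897), (737, 910), (738, 911), (739, 583), (740, 626), (741, 914), (742, 916), (743, 586), (744, 587), (745, 631), (746, 921), (747, 923), (748, 591), (749, 592), (750, 927), (751, 751), (752, 595), (753, 633), (754, 754), (755, 755), (756, 756), (757, 757), (758, 758), (759, 759), (760, 619), (761, 761), (762, 938), (763, 939), (764, 605), (765, 765), (766, 943), (767, 944)]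
    ⟨e3 q704 (flp_f L6088) q559, e3 q705 L6103 q614, e3 q706 L6110 q564, e3 q707 L7576 q873, e3 q708 L7585 q874, e3 q709 (flp_f L6130) q562, e3 q710 L6147 q710, e3 q711 L7617 q878, e3 q712 L7625 q879, e3 q713 (flp_f L6167) q565, e3 q714 (flp_f L6174) q566, e3 q715 (flp_f L7672) q884, e3 q716 L6196 q620, e3 q717 L6204 q717, e3 q718 L6212 q621, e3 q719 L6218 q570, e3 q720 (flp_f L7341) q845, e3 q721 L6236 q721, e3 q722 L6241 q722, e3 q723 L6248 q723, e3 q724 L7723 q891, e3 q725 L6263 q725, e3 q726 L7752 q895, e3 q727 (flp_f L6272) q576, e3 q728 L6281 q582, e3 q729 L7788 q900, e3 q730 (flp_f L6295) q578, e3 q731 L6305 q585, e3 q732 L7818 q904, e3 q733 L7826 q905, e3 q734 (flp_f L6321) q580, e3 q735 L6335 q735, e3 q736 (flp_f L7768) q897, e3 q737 L7871 q910, e3 q738 L7878 q911, e3 q739 (flp_f L6361) q583, e3 q740 L6374 q626, e3 q741 L7906 q914, e3 q742 L7919 q916, e3 q743 (flp_f L6392) q586, e3 q744 (flp_f L6398) q587, e3 q745 L6410 q631, e3 q746 L7955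 q921, e3 q747 L7969 q923, e3 q748 (flp_f L6426) q591, e3 q749 (flp_f L6433) q592, e3 q750 (flp_f L8004) q927, e3 q751 L6453 q751, e3 q752 (flp_f L6454) q595, e3 q753 L6466 q633, e3 q754 L6472 q754, e3 q755 L6477 q755, e3 q756 L6486 q756, e3 q757 L6493 q757, e3 q758 L6501 q758, e3 q759 L6510 q759, e3 q760 (flp_f L6523) q619, e3 q761 L6530 q761, e3 q762 L8091 q938, e3 q763 L8100 q939, e3 q764 (flp_f L6545) q605, e3 q765 L6558 q765, e3 q766 L8133 q943, e3 q767 L8145 q944, trivial⟩ (by decide +kernel)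

theorem ce_f_12 : ∀ r, r < 64 → sm gf (Qf (768 + r)) = Qf (tab Gen.f (768 + r)) :=
  edges_tab (sm gf) Qf (tab Gen.f) 768 [(768, 608), (769, 864), (770, 948), (771, 950), (772, 611), (773, 612), (774, 935), (775, 870), (776, 954), (777, 615), (778, 616), (779, 934), (780, 881), (781, 883), (782, 628), (783, 627), (784, 623), (785, 912), (786, 941), (787, 917), (788, 919), (789, 929), (790, 790), (791, 791), (792, 792), (793, 793), (794, 794), (795, 960), (796, 796), (797, 963), (798, 642), (799, 648), (800, 968), (801, 644), (802, 651), (803, 972), (804, 973), (805, 646), (806, 806), (807, 965), (808, 976), (809, 977), (810, 649), (811, 671), (812, 979), (813, 978), (814, 652), (815, 653), (816, 673), (817, 982), (818, 983), (819, 657), (820, 658), (821, 986), (822, 822), (823, 661), (824, 675), (825, 825), (826, 987), (827, 827), (828, 828), (829, 829), (830, 994), (831, 683)]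
    ⟨e3 q768 (flp_f L6578) q608, e3 q769 (flp_f L7510) q864, e3 q770 L8174 q948, e3 q771 L8191 q950, e3 q772 (flp_f L6610) q611, e3 q773 (flp_f L6619) q612, e3 q774 (flp_f L8069) q935, e3 q775 (flp_f L7558) q870, e3 q776 L8218 q954, e3 q777 (flp_f L6647) q615, e3 q778 (flp_f L6656) q616, e3 q779 L8064 q934, e3 q780 (flp_f L7648) q881, e3 q781 (flp_f L7665) q883, e3 q782 (flp_f L6697) q628, e3 q783 (flp_f L6708) q627, e3 q784 (flp_f L6712) q623, e3 q785 (flp_f L7892) q912, e3 q786 L8125 q941, e3 q787 (flp_f L7932) q917, e3 q788 (flp_f L7945) q919, e3 q789 (flp_f L8019) q929, e3 q790 L6767 q790, e3 q791 L6772 q791, e3 q792 L6781 q792, e3 q793 L6809 q793, e3 q794 L6818 q794, e3 q795 L8276 q960, e3 q796 L6836 q796, e3 q797 L8305 q963, e3 q798 (flp_f L6848) q642, e3 q799 L6860 q648, e3 q800 L8352 q968, e3 q801 (flp_f L6877) q644, e3 q802 L6891 q651, e3 q803 L8390 q972, e3 q804 L8399 q973, e3 q805 (flp_f L6912) q646, e3 q806 L6931 q806, e3 q807 (flp_f L8327)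 q965, e3 q808 L8424 q976, e3 q809 L8438 q977, e3 q810 (flp_f L7009) q649, e3 q811 L7027 q671, e3 q812 L8468 q979, e3 q813 (flp_f L8466) q978, e3 q814 (flp_f L7058) q652, e3 q815 (flp_f L7065) q653, e3 q816 L7081 q673, e3 q817 L8504 q982, e3 q818 L8514 q983, e3 q819 (flp_f L7100) q657, e3 q820 (flp_f L7108) q658, e3 q821 (flp_f L8547) q986, e3 q822 L7134 q822, e3 q823 (flp_f L7135) q661, e3 q824 L7151 q675, e3 q825 L7159 q825, e3 q826 (flp_f L8560) q987, e3 q827 L7182 q827, e3 q828 L7191 q828, e3 q829 L7199 q829, e3 q830 L8613 q994, e3 q831 L7214 q683, trivial⟩ (by decide +kernel)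

theorem ce_f_13 : ∀ r, r < 64 → sm gf (Qf (832 + r)) = Qf (tab Gen.f (832 + r)) :=
  edges_tab (sm gf) Qf (tab Gen.f) 832 [(832, 684), (833, 999), (834, 686), (835, 1003), (836, 682), (837, 995), (838, 997), (839, 1009), (840, 685), (841, 1000), (842, 1012), (843, 1013), (844, 687), (845, 720), (846, 846), (847, 847), (848, 1020), (849, 849), (850, 1024), (851, 692), (852, 698), (853, 1029), (854, 694), (855, 701), (856, 1033), (857, 1034), (858, 696), (859, 859), (860, 1026), (861, 1039), (862, 1040), (863, 699), (864, 769), (865, 1044), (866, 1046), (867, 702), (868, 703), (869, 1051), (870, 775), (871, 1054), (872, 1056), (873, 707), (874, 708), (875, 1061), (876, 876), (877, 1063), (878, 711), (879, 712), (880, 1068), (881, 780), (882, 882), (883, 781), (884, 715), (885, 1015), (886, 996), (887, 887), (888, 1073), (889, 889), (890, 1076), (891, 724), (892, 892), (893, 1080), (894, 1081), (895, 726)]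
    ⟨e3 q832 L7223 q684, e3 q833 L8659 q999, e3 q834 L7241 q686, e3 q835 L8694 q1003, e3 q836 (flp_f L7253) q682, e3 q837 (flp_f L8623) q995, e3 q838 (flp_f L8645) q997, e3 q839 L8756 q1009, e3 q840 (flp_f L7291) q685, e3 q841 (flp_f L8676) q1000, e3 q842 L8784 q1012, e3 q843 L8790 q1013, e3 q844 (flp_f L7327) q687, e3 q845 L7341 q720, e3 q846 L7348 q846, e3 q847 L7356 q847, e3 q848 L8856 q1020, e3 q849 L7372 q849, e3 q850 L8890 q1024, e3 q851 (flp_f L7384) q692, e3 q852 L7395 q698, e3 q853 L8934 q1029, e3 q854 (flp_f L7412) q694, e3 q855 L7426 q701, e3 q856 L8970 q1033, e3 q857 L8980 q1034, e3 q858 (flp_f L7445) q696, e3 q859 L7463 q859, e3 q860 (flp_f L8911) q1026, e3 q861 L9021 q1039, e3 q862 L9030 q1040, e3 q863 (flp_f L7493) q699, e3 q864 L7510 q769, e3 q865 L9064 q1044, e3 q866 L9080 q1046, e3 q867 (flp_f L7529) q702, e3 q868 (flp_f L7537) q703, e3 q869 (flp_f L9120) q1051, e3 q870 L7558 q775, e3 q871 L9140 q1054, e3 q872 L9158 q1056, e3 q873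 (flp_f L7576) q707, e3 q874 (flp_f L7585) q708, e3 q875 (flp_f L9201) q1061, e3 q876 L7606 q876, e3 q877 L9210 q1063, e3 q878 (flp_f L7617) q711, e3 q879 (flp_f L7625) q712, e3 q880 (flp_f L9260) q1068, e3 q881 L7648 q780, e3 q882 L7656 q882, e3 q883 L7665 q781, e3 q884 L7672 q715, e3 q885 (flp_f L8813) q1015, e3 q886 (flp_f L8639) q996, e3 q887 L7697 q887, e3 q888 L9294 q1073, e3 q889 L7708 q889, e3 q890 L9320 q1076, e3 q891 (flp_f L7723) q724, e3 q892 L7733 q892, e3 q893 L9351 q1080, e3 q894 L9357 q1081, e3 q895 (flp_f L7752) q726, trivial⟩ (by decide +kernel)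

theorem ce_f_14 : ∀ r, r < 64 → sm gf (Qf (896 + r)) = Qf (tab Gen.f (896 + r)) :=
  edges_tab (sm gf) Qf (tab Gen.f) 896 [(896, 896), (897, 736), (898, 1086), (899, 1087), (900, 729), (901, 901), (902, 1091), (903, 1093), (904, 732), (905, 733), (906, 1098), (907, 907), (908, 1100), (909, 1102), (910, 737), (911, 738), (912, 785), (913, 1103), (914, 741), (915, 1106), (916, 742), (917, 787), (918, 918), (919, 788), (920, 1110), (921, 746), (922, 1112), (923, 747), (924, 1115), (925, 925), (926, 926), (927, 750), (928, 1117), (929, 789), (930, 930), (931, 931), (932, 932), (933, 933), (934, 779), (935, 774), (936, 1123), (937, 1125), (938, 762), (939, 763), (940, 1128), (941, 786), (942, 1131), (943, 766), (944, 767), (945, 1127), (946, 1042), (947, 1130), (948, 770), (949, 1129), (950, 771), (951, 1121), (952, 1048), (953, 1050), (954, 776), (955, 1120), (956, 1065), (957, 1067), (958, 1138), (959, 1140)]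
    ⟨e3 q896 L7764 q896, e3 q897 L7768 q736, e3 q898 L9393 q1086, e3 q899 L9402 q1087, e3 q900 (flp_f L7788) q729, e3 q901 L7804 q901, e3 q902 L9429 q1091, e3 q903 L9441 q1093, e3 q904 (flp_f L7818) q732, e3 q905 (flp_f L7826) q733, e3 q906 (flp_f L9476) q1098, e3 q907 L7844 q907, e3 q908 L9486 q1100, e3 q909 L9511 q1102, e3 q910 (flp_f L7871) q737, e3 q911 (flp_f L7878) q738, e3 q912 L7892 q785, e3 q913 (flp_f L9536) q1103, e3 q914 (flp_f L7906) q741, e3 q915 L9556 q1106, e3 q916 (flp_f L7919) q742, e3 q917 L7932 q787, e3 q918 L7938 q918, e3 q919 L7945 q788, e3 q920 L9582 q1110, e3 q921 (flp_f L7955) q746, e3 q922 L9598 q1112, e3 q923 (flp_f L7969) q747, e3 q924 (flp_f L9627) q1115, e3 q925 L7991 q925, e3 q926 L7999 q926, e3 q927 L8004 q750, e3 q928 (flp_f L9640) q1117, e3 q929 L8019 q789, e3 q930 L8025 q930, e3 q931 L8034 q931, e3 q932 L8041 q932, e3 q933 L8051 q933, e3 q934 (flp_f L8064) q779, e3 q935 L8069 q774, e3 q936 L9692 q1123, e3 q937 L9708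 q1125, e3 q938 (flp_f L8091) q762, e3 q939 (flp_f L8100) q763, e3 q940 (flp_f L9740) q1128, e3 q941 (flp_f L8125) q786, e3 q942 L9767 q1131, e3 q943 (flp_f L8133) q766, e3 q944 (flp_f L8145) q767, e3 q945 (flp_f L9730) q1127, e3 q946 (flp_f L9055) q1042, e3 q947 L9765 q1130, e3 q948 (flp_f L8174) q770, e3 q949 (flp_f L9750) q1129, e3 q950 (flp_f L8191) q771, e3 q951 (flp_f L9677) q1121, e3 q952 (flp_f L9102) q1048, e3 q953 (flp_f L9114) q1050, e3 q954 (flp_f L8218) q776, e3 q955 L9671 q1120, e3 q956 (flp_f L9236) q1065, e3 q957 (flp_f L9253) q1067, e3 q958 L9822 q1138, e3 q959 L9848 q1140, trivial⟩ (by decide +kernel)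

theorem ce_f_15 : ∀ r, r < 64 → sm gf (Qf (960 + r)) = Qf (tab Gen.f (960 + r)) :=
  edges_tab (sm gf) Qf (tab Gen.f) 960 [(960, 795), (961, 1143), (962, 1144), (963, 797), (964, 964), (965, 807), (966, 1149), (967, 1150), (968, 800), (969, 969), (970, 1154), (971, 1155), (972, 803), (973, 804), (974, 1159), (975, 975), (976, 808), (977, 809), (978, 813), (979, 812), (980, 980), (981, 1160), (982, 817), (983, 818), (984, 984), (985, 985), (986, 821), (987, 826), (988, 988), (989, 1166), (990, 990), (991, 1169), (992, 992), (993, 1173), (994, 830), (995, 837), (996, 886), (997, 838), (998, 1180), (999, 833), (1000, 841), (1001, 1183), (1002, 1184), (1003, 835), (1004, 1004), (1005, 1175), (1006, 1177), (1007, 1190), (1008, 1191), (1009, 839), (1010, 1193), (1011, 1195), (1012, 842), (1013, 843), (1014, 1200), (1015, 885), (1016, 1016), (1017, 1203), (1018, 1018), (1019, 1206), (1020, 848), (1021, 1021), (1022, 1210), (1023, 1211)]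
    ⟨e3 q960 (flp_f L8276) q795, e3 q961 L9882 q1143, e3 q962 L9893 q1144, e3 q963 (flp_f L8305) q797, e3 q964 L8322 q964, e3 q965 L8327 q807, e3 q966 L9940 q1149, e3 q967 L9954 q1150, e3 q968 (flp_f L8352) q800, e3 q969 L8373 q969, e3 q970 L9997 q1154, e3 q971 L10012 q1155, e3 q972 (flp_f L8390) q803, e3 q973 (flp_f L8399) q804, e3 q974 (flp_f L10050) q1159, e3 q975 L8423 q975, e3 q976 (flp_f L8424) q808, e3 q977 (flp_f L8438) q809, e3 q978 L8466 q813, e3 q979 (flp_f L8468) q812, e3 q980 L8489 q980, e3 q981 L10054 q1160, e3 q982 (flp_f L8504) q817, e3 q983 (flp_f L8514) q818, e3 q984 L8530 q984, e3 q985 L8540 q985, e3 q986 L8547 q821, e3 q987 L8560 q826, e3 q988 L8565 q988, e3 q989 L10117 q1166, e3 q990 L8583 q990, e3 q991 L10147 q1169, e3 q992 L8604 q992, e3 q993 L10183 q1173, e3 q994 (flp_f L8613) q830, e3 q995 L8623 q837, e3 q996 L8639 q886, e3 q997 L8645 q838, e3 q998 L10247 q1180, e3 q999 (flp_f L8659) q833, e3 q1000 L8676 q841, e3 q1001 L10275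 q1183, e3 q1002 L10283 q1184, e3 q1003 (flp_f L8694) q835, e3 q1004 L8711 q1004, e3 q1005 (flp_f L10202) q1175, e3 q1006 (flp_f L10225) q1177, e3 q1007 L10342 q1190, e3 q1008 L10353 q1191, e3 q1009 (flp_f L8756) q839, e3 q1010 L10374 q1193, e3 q1011 L10389 q1195, e3 q1012 (flp_f L8784) q842, e3 q1013 (flp_f L8790) q843, e3 q1014 (flp_f L10434) q1200, e3 q1015 L8813 q885, e3 q1016 L8818 q1016, e3 q1017 L10459 q1203, e3 q1018 L8838 q1018, e3 q1019 L10490 q1206, e3 q1020 (flp_f L8856) q848, e3 q1021 L8870 q1021, e3 q1022 L10525 q1210, e3 q1023 L10533 q1211, trivial⟩ (by decide +kernel)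

theorem ce_f_16 : ∀ r, r < 64 → sm gf (Qf (1024 + r)) = Qf (tab Gen.f (1024 + r)) :=
  edges_tab (sm gf) Qf (tab Gen.f) 1024 [(1024, 850), (1025, 1025), (1026, 860), (1027, 1216), (1028, 1217), (1029, 853), (1030, 1030), (1031, 1221), (1032, 1223), (1033, 856), (1034, 857), (1035, 1228), (1036, 1036), (1037, 1231), (1038, 1233), (1039, 861), (1040, 862), (1041, 1238), (1042, 946), (1043, 1241), (1044, 865), (1045, 1244), (1046, 866), (1047, 1248), (1048, 952), (1049, 1198), (1050, 953), (1051, 869), (1052, 1199), (1053, 1253), (1054, 871), (1055, 1256), (1056, 872), (1057, 1260), (1058, 1058), (1059, 1059), (1060, 1060), (1061, 875), (1062, 1265), (1063, 877), (1064, 1268), (1065, 956), (1066, 1066), (1067, 957), (1068, 880), (1069, 1197), (1070, 1176), (1071, 1071), (1072, 1072), (1073, 888), (1074, 1276), (1075, 1277), (1076, 890), (1077, 1077), (1078, 1280), (1079, 1282), (1080, 893), (1081, 894), (1082, 1287), (1083, 1083), (1084, 1290), (1085,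 1292), (1086, 898), (1087, 899)]
    ⟨e3 q1024 (flp_f L8890) q850, e3 q1025 L8906 q1025, e3 q1026 L8911 q860, e3 q1027 L10573 q1216, e3 q1028 L10584 q1217, e3 q1029 (flp_f L8934) q853, e3 q1030 L8954 q1030, e3 q1031 L10613 q1221, e3 q1032 L10629 q1223, e3 q1033 (flp_f L8970) q856, e3 q1034 (flp_f L8980) q857, e3 q1035 (flp_f L10667) q1228, e3 q1036 L9000 q1036, e3 q1037 L10688 q1231, e3 q1038 L10711 q1233, e3 q1039 (flp_f L9021) q861, e3 q1040 (flp_f L9030) q862, e3 q1041 (flp_f L10761) q1238, e3 q1042 L9055 q946, e3 q1043 L10787 q1241, e3 q1044 (flp_f L9064) q865, e3 q1045 L10816 q1244, e3 q1046 (flp_f L9080) q866, e3 q1047 (flp_f L10847) q1248, e3 q1048 L9102 q952, e3 q1049 (flp_f L10418) q1198, e3 q1050 L9114 q953, e3 q1051 L9120 q869, e3 q1052 (flp_f L10428) q1199, e3 q1053 L10880 q1253, e3 q1054 (flp_f L9140) q871, e3 q1055 L10906 q1256, e3 q1056 (flp_f L9158) q872, e3 q1057 (flp_f L10941) q1260, e3 q1058 L9180 q1058, e3 q1059 L9188 q1059, e3 q1060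 L9196 q1060, e3 q1061 L9201 q875, e3 q1062 (flp_f L10977) q1265, e3 q1063 (flp_f L9210) q877, e3 q1064 (flp_f L11005) q1268, e3 q1065 L9236 q956, e3 q1066 L9244 q1066, e3 q1067 L9253 q957, e3 q1068 L9260 q880, e3 q1069 (flp_f L10412) q1197, e3 q1070 (flp_f L10218) q1176, e3 q1071 L9286 q1071, e3 q1072 L9291 q1072, e3 q1073 (flp_f L9294) q888, e3 q1074 L11063 q1276, e3 q1075 L11074 q1277, e3 q1076 (flp_f L9320) q890, e3 q1077 L9334 q1077, e3 q1078 L11100 q1280, e3 q1079 L11116 q1282, e3 q1080 (flp_f L9351) q893, e3 q1081 (flp_f L9357) q894, e3 q1082 (flp_f L11153) q1287, e3 q1083 L9376 q1083, e3 q1084 L11171 q1290, e3 q1085 L11190 q1292, e3 q1086 (flp_f L9393) q898, e3 q1087 (flp_f L9402) q899, trivial⟩ (by decide +kernel)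

theorem ce_f_17 : ∀ r, r < 64 → sm gf (Qf (1088 + r)) = Qf (tab Gen.f (1088 + r)) :=
  edges_tab (sm gf) Qf (tab Gen.f) 1088 [(1088, 1297), (1089, 1089), (1090, 1300), (1091, 902), (1092, 1302), (1093, 903), (1094, 1306), (1095, 1095), (1096, 1096), (1097, 1097), (1098, 906), (1099, 1310), (1100, 908), (1101, 1243), (1102, 909), (1103, 913), (1104, 1104), (1105, 1235), (1106, 915), (1107, 1107), (1108, 1147), (1109, 1312), (1110, 920), (1111, 1111), (1112, 922), (1113, 1315), (1114, 1114), (1115, 924), (1116, 1116), (1117, 928), (1118, 1118), (1119, 1119), (1120, 955), (1121, 951), (1122, 1323), (1123, 936), (1124, 1324), (1125, 937), (1126, 1322), (1127, 945), (1128, 940), (1129, 949), (1130, 947), (1131, 942), (1132, 1325), (1133, 1237), (1134, 1320), (1135, 1321), (1136, 1247), (1137, 1267), (1138, 958), (1139, 1327), (1140, 959), (1141, 1141), (1142, 1330), (1143, 961), (1144, 962), (1145, 1335), (1146, 1146), (1147, 1108), (1148, 1337), (1149,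 966), (1150, 967), (1151, 1340)]
    ⟨e3 q1088 (flp_f L11233) q1297, e3 q1089 L9422 q1089, e3 q1090 L11249 q1300, e3 q1091 (flp_f L9429) q902, e3 q1092 L11268 q1302, e3 q1093 (flp_f L9441) q903, e3 q1094 (flp_f L11296) q1306, e3 q1095 L9463 q1095, e3 q1096 L9468 q1096, e3 q1097 L9473 q1097, e3 q1098 L9476 q906, e3 q1099 (flp_f L11323) q1310, e3 q1100 (flp_f L9486) q908, e3 q1101 (flp_f L10814) q1243, e3 q1102 (flp_f L9511) q909, e3 q1103 L9536 q913, e3 q1104 L9543 q1104, e3 q1105 (flp_f L10739) q1235, e3 q1106 (flp_f L9556) q915, e3 q1107 L9567 q1107, e3 q1108 (flp_f L9930) q1147, e3 q1109 L11332 q1312, e3 q1110 (flp_f L9582) q920, e3 q1111 L9597 q1111, e3 q1112 (flp_f L9598) q922, e3 q1113 (flp_f L11363) q1315, e3 q1114 L9621 q1114, e3 q1115 L9627 q924, e3 q1116 L9633 q1116, e3 q1117 L9640 q928, e3 q1118 L9646 q1118, e3 q1119 L9656 q1119, e3 q1120 (flp_f L9671) q955, e3 q1121 L9677 q951, e3 q1122 L11435 q1323, e3 q1123 (flp_f L9692) q936, e3 q1124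 (flp_f L11459) q1324, e3 q1125 (flp_f L9708) q937, e3 q1126 L11431 q1322, e3 q1127 L9730 q945, e3 q1128 L9740 q940, e3 q1129 L9750 q949, e3 q1130 (flp_f L9765) q947, e3 q1131 (flp_f L9767) q942, e3 q1132 (flp_f L11477) q1325, e3 q1133 (flp_f L10755) q1237, e3 q1134 (flp_f L11396) q1320, e3 q1135 (flp_f L11412) q1321, e3 q1136 (flp_f L10841) q1247, e3 q1137 (flp_f L10997) q1267, e3 q1138 (flp_f L9822) q958, e3 q1139 L11492 q1327, e3 q1140 (flp_f L9848) q959, e3 q1141 L9871 q1141, e3 q1142 L11533 q1330, e3 q1143 (flp_f L9882) q961, e3 q1144 (flp_f L9893) q962, e3 q1145 (flp_f L11591) q1335, e3 q1146 L9918 q1146, e3 q1147 L9930 q1108, e3 q1148 L11610 q1337, e3 q1149 (flp_f L9940) q966, e3 q1150 (flp_f L9954) q967, e3 q1151 (flp_f L11656) q1340, trivial⟩ (by decide +kernel)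

theorem ce_f_18 : ∀ r, r < 64 → sm gf (Qf (1152 + r)) = Qf (tab Gen.f (1152 + r)) :=
  edges_tab (sm gf) Qf (tab Gen.f) 1152 [(1152, 1152), (1153, 1341), (1154, 970), (1155, 971), (1156, 1156), (1157, 1157), (1158, 1158), (1159, 974), (1160, 981), (1161, 1161), (1162, 1162), (1163, 1163), (1164, 1164), (1165, 1348), (1166, 989), (1167, 1167), (1168, 1352), (1169, 991), (1170, 1170), (1171, 1355), (1172, 1356), (1173, 993), (1174, 1174), (1175, 1005), (1176, 1070), (1177, 1006), (1178, 1364), (1179, 1365), (1180, 998), (1181, 1368), (1182, 1370), (1183, 1001), (1184, 1002), (1185, 1375), (1186, 1186), (1187, 1359), (1188, 1378), (1189, 1380), (1190, 1007), (1191, 1008), (1192, 1383), (1193, 1010), (1194, 1386), (1195, 1011), (1196, 1390), (1197, 1069), (1198, 1049), (1199, 1052), (1200, 1014), (1201, 1395), (1202, 1397), (1203, 1017), (1204, 1400), (1205, 1401), (1206, 1019), (1207, 1207), (1208, 1405), (1209, 1407), (1210, 1022), (1211, 1023), (1212,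 1412), (1213, 1213), (1214, 1415), (1215, 1417)]
    ⟨e3 q1152 L9984 q1152, e3 q1153 L11659 q1341, e3 q1154 (flp_f L9997) q970, e3 q1155 (flp_f L10012) q971, e3 q1156 L10031 q1156, e3 q1157 L10038 q1157, e3 q1158 L10045 q1158, e3 q1159 L10050 q974, e3 q1160 (flp_f L10054) q981, e3 q1161 L10080 q1161, e3 q1162 L10089 q1162, e3 q1163 L10096 q1163, e3 q1164 L10102 q1164, e3 q1165 L11735 q1348, e3 q1166 (flp_f L10117) q989, e3 q1167 L10130 q1167, e3 q1168 L11775 q1352, e3 q1169 (flp_f L10147) q991, e3 q1170 L10164 q1170, e3 q1171 L11802 q1355, e3 q1172 L11808 q1356, e3 q1173 (flp_f L10183) q993, e3 q1174 L10198 q1174, e3 q1175 L10202 q1005, e3 q1176 L10218 q1070, e3 q1177 L10225 q1006, e3 q1178 L11881 q1364, e3 q1179 L11894 q1365, e3 q1180 (flp_f L10247) q998, e3 q1181 L11917 q1368, e3 q1182 L11932 q1370, e3 q1183 (flp_f L10275) q1001, e3 q1184 (flp_f L10283) q1002, e3 q1185 (flp_f L11975) q1375, e3 q1186 L10305 q1186, e3 q1187 (flp_f L11836) q1359, e3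 q1188 L12000 q1378, e3 q1189 L12026 q1380, e3 q1190 (flp_f L10342) q1007, e3 q1191 (flp_f L10353) q1008, e3 q1192 L12065 q1383, e3 q1193 (flp_f L10374) q1010, e3 q1194 L12097 q1386, e3 q1195 (flp_f L10389) q1011, e3 q1196 (flp_f L12138) q1390, e3 q1197 L10412 q1069, e3 q1198 L10418 q1049, e3 q1199 L10428 q1052, e3 q1200 L10434 q1014, e3 q1201 (flp_f L12188) q1395, e3 q1202 L12203 q1397, e3 q1203 (flp_f L10459) q1017, e3 q1204 L12234 q1400, e3 q1205 L12247 q1401, e3 q1206 (flp_f L10490) q1019, e3 q1207 L10508 q1207, e3 q1208 L12279 q1405, e3 q1209 L12297 q1407, e3 q1210 (flp_f L10525) q1022, e3 q1211 (flp_f L10533) q1023, e3 q1212 (flp_f L12337) q1412, e3 q1213 L10554 q1213, e3 q1214 L12355 q1415, e3 q1215 L12376 q1417, trivial⟩ (by decide +kernel)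

theorem ce_f_19 : ∀ r, r < 64 → sm gf (Qf (1216 + r)) = Qf (tab Gen.f (1216 + r)) :=
  edges_tab (sm gf) Qf (tab Gen.f) 1216 [(1216, 1027), (1217, 1028), (1218, 1422), (1219, 1219), (1220, 1425), (1221, 1031), (1222, 1428), (1223, 1032), (1224, 1432), (1225, 1225), (1226, 1373), (1227, 1227), (1228, 1035), (1229, 1437), (1230, 1438), (1231, 1037), (1232, 1439), (1233, 1038), (1234, 1442), (1235, 1105), (1236, 1381), (1237, 1133), (1238, 1041), (1239, 1394), (1240, 1441), (1241, 1043), (1242, 1446), (1243, 1101), (1244, 1045), (1245, 1448), (1246, 1388), (1247, 1136), (1248, 1047), (1249, 1389), (1250, 1444), (1251, 1393), (1252, 1452), (1253, 1053), (1254, 1456), (1255, 1255), (1256, 1055), (1257, 1460), (1258, 1258), (1259, 1259), (1260, 1057), (1261, 1466), (1262, 1361), (1263, 1263), (1264, 1264), (1265, 1062), (1266, 1266), (1267, 1137), (1268, 1064), (1269, 1385), (1270, 1360), (1271, 1271), (1272, 1272), (1273, 1273), (1274, 1274), (1275, 1477),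 (1276, 1074), (1277, 1075), (1278, 1278), (1279, 1482)]
    ⟨e3 q1216 (flp_f L10573) q1027, e3 q1217 (flp_f L10584) q1028, e3 q1218 (flp_f L12422) q1422, e3 q1219 L10606 q1219, e3 q1220 L12439 q1425, e3 q1221 (flp_f L10613) q1031, e3 q1222 L12468 q1428, e3 q1223 (flp_f L10629) q1032, e3 q1224 (flp_f L12496) q1432, e3 q1225 L10652 q1225, e3 q1226 (flp_f L11962) q1373, e3 q1227 L10663 q1227, e3 q1228 L10667 q1035, e3 q1229 (flp_f L12532) q1437, e3 q1230 L12534 q1438, e3 q1231 (flp_f L10688) q1037, e3 q1232 L12547 q1439, e3 q1233 (flp_f L10711) q1038, e3 q1234 (flp_f L12584) q1442, e3 q1235 L10739 q1105, e3 q1236 (flp_f L12048) q1381, e3 q1237 L10755 q1133, e3 q1238 L10761 q1041, e3 q1239 (flp_f L12176) q1394, e3 q1240 (flp_f L12578) q1441, e3 q1241 (flp_f L10787) q1043, e3 q1242 (flp_f L12613) q1446, e3 q1243 L10814 q1101, e3 q1244 (flp_f L10816) q1045, e3 q1245 (flp_f L12627) q1448, e3 q1246 (flp_f L12122) q1388, e3 q1247 L10841 q1136, e3 q1248 L10847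 q1047, e3 q1249 (flp_f L12132) q1389, e3 q1250 (flp_f L12601) q1444, e3 q1251 (flp_f L12170) q1393, e3 q1252 L12647 q1452, e3 q1253 (flp_f L10880) q1053, e3 q1254 (flp_f L12687) q1456, e3 q1255 L10905 q1255, e3 q1256 (flp_f L10906) q1055, e3 q1257 (flp_f L12719) q1460, e3 q1258 L10928 q1258, e3 q1259 L10936 q1259, e3 q1260 L10941 q1057, e3 q1261 (flp_f L12762) q1466, e3 q1262 (flp_f L11857) q1361, e3 q1263 L10965 q1263, e3 q1264 L10970 q1264, e3 q1265 L10977 q1062, e3 q1266 L10987 q1266, e3 q1267 L10997 q1137, e3 q1268 L11005 q1064, e3 q1269 (flp_f L12095) q1385, e3 q1270 (flp_f L11852) q1360, e3 q1271 L11032 q1271, e3 q1272 L11036 q1272, e3 q1273 L11041 q1273, e3 q1274 L11050 q1274, e3 q1275 L12842 q1477, e3 q1276 (flp_f L11063) q1074, e3 q1277 (flp_f L11074) q1075, e3 q1278 L11089 q1278, e3 q1279 L12899 q1482, trivial⟩ (by decide +kernel)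

theorem ce_f_20 : ∀ r, r < 64 → sm gf (Qf (1280 + r)) = Qf (tab Gen.f (1280 + r)) :=
  edges_tab (sm gf) Qf (tab Gen.f) 1280 [(1280, 1078), (1281, 1485), (1282, 1079), (1283, 1489), (1284, 1284), (1285, 1285), (1286, 1286), (1287, 1082), (1288, 1494), (1289, 1496), (1290, 1084), (1291, 1497), (1292, 1085), (1293, 1501), (1294, 1294), (1295, 1295), (1296, 1296), (1297, 1088), (1298, 1491), (1299, 1502), (1300, 1090), (1301, 1301), (1302, 1092), (1303, 1505), (1304, 1304), (1305, 1305), (1306, 1094), (1307, 1336), (1308, 1308), (1309, 1309), (1310, 1099), (1311, 1311), (1312, 1109), (1313, 1313), (1314, 1314), (1315, 1113), (1316, 1512), (1317, 1317), (1318, 1318), (1319, 1514), (1320, 1134), (1321, 1135), (1322, 1126), (1323, 1122), (1324, 1124), (1325, 1132), (1326, 1326), (1327, 1139), (1328, 1328), (1329, 1517), (1330, 1142), (1331, 1520), (1332, 1332), (1333, 1333), (1334, 1334), (1335, 1145), (1336, 1307), (1337, 1148), (1338, 1338), (1339, 1339),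 (1340, 1151), (1341, 1153), (1342, 1342), (1343, 1343)]
    ⟨e3 q1280 (flp_f L11100) q1078, e3 q1281 L12931 q1485, e3 q1282 (flp_f L11116) q1079, e3 q1283 (flp_f L12962) q1489, e3 q1284 L11135 q1284, e3 q1285 L11141 q1285, e3 q1286 L11148 q1286, e3 q1287 L11153 q1082, e3 q1288 (flp_f L13021) q1494, e3 q1289 L13035 q1496, e3 q1290 (flp_f L11171) q1084, e3 q1291 L13049 q1497, e3 q1292 (flp_f L11190) q1085, e3 q1293 (flp_f L13093) q1501, e3 q1294 L11216 q1294, e3 q1295 L11223 q1295, e3 q1296 L11230 q1296, e3 q1297 L11233 q1088, e3 q1298 L12985 q1491, e3 q1299 L13096 q1502, e3 q1300 (flp_f L11249) q1090, e3 q1301 L11267 q1301, e3 q1302 (flp_f L11268) q1092, e3 q1303 (flp_f L13116) q1505, e3 q1304 L11284 q1304, e3 q1305 L11291 q1305, e3 q1306 L11296 q1094, e3 q1307 (flp_f L11600) q1336, e3 q1308 L11310 q1308, e3 q1309 L11314 q1309, e3 q1310 L11323 q1099, e3 q1311 L11331 q1311, e3 q1312 (flp_f L11332) q1109, e3 q1313 L11348 q1313, e3 q1314 L11356 q1314, e3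 q1315 L11363 q1113, e3 q1316 (flp_f L13165) q1512, e3 q1317 L11374 q1317, e3 q1318 L11381 q1318, e3 q1319 L13173 q1514, e3 q1320 L11396 q1134, e3 q1321 L11412 q1135, e3 q1322 (flp_f L11431) q1126, e3 q1323 (flp_f L11435) q1122, e3 q1324 L11459 q1124, e3 q1325 L11477 q1132, e3 q1326 L11491 q1326, e3 q1327 (flp_f L11492) q1139, e3 q1328 L11519 q1328, e3 q1329 L13212 q1517, e3 q1330 (flp_f L11533) q1142, e3 q1331 (flp_f L13272) q1520, e3 q1332 L11567 q1332, e3 q1333 L11575 q1333, e3 q1334 L11584 q1334, e3 q1335 L11591 q1145, e3 q1336 L11600 q1307, e3 q1337 (flp_f L11610) q1148, e3 q1338 L11634 q1338, e3 q1339 L11649 q1339, e3 q1340 L11656 q1151, e3 q1341 (flp_f L11659) q1153, e3 q1342 L11683 q1342, e3 q1343 L11689 q1343, trivial⟩ (by decide +kernel)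

theorem ce_f_21 : ∀ r, r < 64 → sm gf (Qf (1344 + r)) = Qf (tab Gen.f (1344 + r)) :=
  edges_tab (sm gf) Qf (tab Gen.f) 1344 [(1344, 1344), (1345, 1345), (1346, 1523), (1347, 1524), (1348, 1165), (1349, 1349), (1350, 1528), (1351, 1529), (1352, 1168), (1353, 1532), (1354, 1534), (1355, 1171), (1356, 1172), (1357, 1539), (1358, 1358), (1359, 1187), (1360, 1270), (1361, 1262), (1362, 1545), (1363, 1547), (1364, 1178), (1365, 1179), (1366, 1550), (1367, 1553), (1368, 1181), (1369, 1556), (1370, 1182), (1371, 1560), (1372, 1372), (1373, 1226), (1374, 1374), (1375, 1185), (1376, 1565), (1377, 1566), (1378, 1188), (1379, 1567), (1380, 1189), (1381, 1236), (1382, 1569), (1383, 1192), (1384, 1572), (1385, 1269), (1386, 1194), (1387, 1571), (1388, 1246), (1389, 1249), (1390, 1196), (1391, 1576), (1392, 1577), (1393, 1251), (1394, 1239), (1395, 1201), (1396, 1580), (1397, 1202), (1398, 1398), (1399, 1584), (1400, 1204), (1401, 1205), (1402, 1589), (1403, 1403),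 (1404, 1592), (1405, 1208), (1406, 1595), (1407, 1209)]
    ⟨e3 q1344 L11708 q1344, e3 q1345 L11713 q1345, e3 q1346 L13296 q1523, e3 q1347 L13305 q1524, e3 q1348 (flp_f L11735) q1165, e3 q1349 L11753 q1349, e3 q1350 L13341 q1528, e3 q1351 L13354 q1529, e3 q1352 (flp_f L11775) q1168, e3 q1353 L13384 q1532, e3 q1354 L13401 q1534, e3 q1355 (flp_f L11802) q1171, e3 q1356 (flp_f L11808) q1172, e3 q1357 (flp_f L13446) q1539, e3 q1358 L11831 q1358, e3 q1359 L11836 q1187, e3 q1360 L11852 q1270, e3 q1361 L11857 q1262, e3 q1362 L13497 q1545, e3 q1363 L13519 q1547, e3 q1364 (flp_f L11881) q1178, e3 q1365 (flp_f L11894) q1179, e3 q1366 (flp_f L13550) q1550, e3 q1367 L13572 q1553, e3 q1368 (flp_f L11917) q1181, e3 q1369 L13600 q1556, e3 q1370 (flp_f L11932) q1182, e3 q1371 (flp_f L13633) q1560, e3 q1372 L11956 q1372, e3 q1373 L11962 q1226, e3 q1374 L11971 q1374, e3 q1375 L11975 q1185, e3 q1376 (flp_f L13671) q1565, e3 q1377 L13673 q1566, e3 q1378 (flp_f L12000)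 q1188, e3 q1379 L13688 q1567, e3 q1380 (flp_f L12026) q1189, e3 q1381 L12048 q1236, e3 q1382 L13714 q1569, e3 q1383 (flp_f L12065) q1192, e3 q1384 (flp_f L13758) q1572, e3 q1385 L12095 q1269, e3 q1386 (flp_f L12097) q1194, e3 q1387 (flp_f L13747) q1571, e3 q1388 L12122 q1246, e3 q1389 L12132 q1249, e3 q1390 L12138 q1196, e3 q1391 (flp_f L13797) q1576, e3 q1392 L13803 q1577, e3 q1393 L12170 q1251, e3 q1394 L12176 q1239, e3 q1395 L12188 q1201, e3 q1396 L13833 q1580, e3 q1397 (flp_f L12203) q1202, e3 q1398 L12224 q1398, e3 q1399 L13875 q1584, e3 q1400 (flp_f L12234) q1204, e3 q1401 (flp_f L12247) q1205, e3 q1402 (flp_f L13931) q1589, e3 q1403 L12270 q1403, e3 q1404 L13950 q1592, e3 q1405 (flp_f L12279) q1208, e3 q1406 L13978 q1595, e3 q1407 (flp_f L12297) q1209, trivial⟩ (by decide +kernel)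

theorem ce_f_22 : ∀ r, r < 64 → sm gf (Qf (1408 + r)) = Qf (tab Gen.f (1408 + r)) :=
  edges_tab (sm gf) Qf (tab Gen.f) 1408 [(1408, 1599), (1409, 1409), (1410, 1537), (1411, 1411), (1412, 1212), (1413, 1604), (1414, 1606), (1415, 1214), (1416, 1608), (1417, 1215), (1418, 1612), (1419, 1419), (1420, 1549), (1421, 1421), (1422, 1218), (1423, 1617), (1424, 1619), (1425, 1220), (1426, 1623), (1427, 1427), (1428, 1222), (1429, 1627), (1430, 1558), (1431, 1431), (1432, 1224), (1433, 1633), (1434, 1634), (1435, 1563), (1436, 1436), (1437, 1229), (1438, 1230), (1439, 1232), (1440, 1568), (1441, 1240), (1442, 1234), (1443, 1578), (1444, 1250), (1445, 1570), (1446, 1242), (1447, 1573), (1448, 1245), (1449, 1642), (1450, 1575), (1451, 1579), (1452, 1252), (1453, 1650), (1454, 1454), (1455, 1455), (1456, 1254), (1457, 1655), (1458, 1458), (1459, 1459), (1460, 1257), (1461, 1659), (1462, 1660), (1463, 1542), (1464, 1464), (1465, 1465), (1466, 1261), (1467, 1543),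 (1468, 1468), (1469, 1469), (1470, 1470), (1471, 1541)]
    ⟨e3 q1408 (flp_f L14009) q1599, e3 q1409 L12317 q1409, e3 q1410 (flp_f L13429) q1537, e3 q1411 L12331 q1411, e3 q1412 L12337 q1212, e3 q1413 (flp_f L14048) q1604, e3 q1414 L14059 q1606, e3 q1415 (flp_f L12355) q1214, e3 q1416 L14077 q1608, e3 q1417 (flp_f L12376) q1215, e3 q1418 (flp_f L14113) q1612, e3 q1419 L12403 q1419, e3 q1420 (flp_f L13545) q1549, e3 q1421 L12418 q1421, e3 q1422 L12422 q1218, e3 q1423 (flp_f L14149) q1617, e3 q1424 L14159 q1619, e3 q1425 (flp_f L12439) q1220, e3 q1426 (flp_f L14196) q1623, e3 q1427 L12467 q1427, e3 q1428 (flp_f L12468) q1222, e3 q1429 (flp_f L14223) q1627, e3 q1430 (flp_f L13618) q1558, e3 q1431 L12491 q1431, e3 q1432 L12496 q1224, e3 q1433 (flp_f L14266) q1633, e3 q1434 L14268 q1634, e3 q1435 (flp_f L13658) q1563, e3 q1436 L12522 q1436, e3 q1437 L12532 q1229, e3 q1438 (flp_f L12534) q1230, e3 q1439 (flp_f L12547) q1232, e3 q1440 (flp_f L13712) q1568,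 e3 q1441 L12578 q1240, e3 q1442 L12584 q1234, e3 q1443 (flp_f L13821) q1578, e3 q1444 L12601 q1250, e3 q1445 (flp_f L13734) q1570, e3 q1446 L12613 q1242, e3 q1447 (flp_f L13770) q1573, e3 q1448 L12627 q1245, e3 q1449 (flp_f L14341) q1642, e3 q1450 (flp_f L13786) q1575, e3 q1451 (flp_f L13830) q1579, e3 q1452 (flp_f L12647) q1252, e3 q1453 (flp_f L14399) q1650, e3 q1454 L12672 q1454, e3 q1455 L12681 q1455, e3 q1456 L12687 q1254, e3 q1457 (flp_f L14441) q1655, e3 q1458 L12704 q1458, e3 q1459 L12713 q1459, e3 q1460 L12719 q1257, e3 q1461 (flp_f L14472) q1659, e3 q1462 (flp_f L14481) q1660, e3 q1463 (flp_f L13472) q1542, e3 q1464 L12750 q1464, e3 q1465 L12755 q1465, e3 q1466 L12762 q1261, e3 q1467 (flp_f L13482) q1543, e3 q1468 L12776 q1468, e3 q1469 L12785 q1469, e3 q1470 L12791 q1470, e3 q1471 (flp_f L13466) q1541, trivial⟩ (by decide +kernel)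

theorem ce_f_23 : ∀ r, r < 64 → sm gf (Qf (1472 + r)) = Qf (tab Gen.f (1472 + r)) :=
  edges_tab (sm gf) Qf (tab Gen.f) 1472 [(1472, 1472), (1473, 1473), (1474, 1474), (1475, 1475), (1476, 1674), (1477, 1275), (1478, 1478), (1479, 1479), (1480, 1480), (1481, 1678), (1482, 1279), (1483, 1682), (1484, 1484), (1485, 1281), (1486, 1685), (1487, 1487), (1488, 1488), (1489, 1283), (1490, 1687), (1491, 1298), (1492, 1492), (1493, 1493), (1494, 1288), (1495, 1688), (1496, 1289), (1497, 1291), (1498, 1691), (1499, 1499), (1500, 1500), (1501, 1293), (1502, 1299), (1503, 1503), (1504, 1504), (1505, 1303), (1506, 1695), (1507, 1507), (1508, 1508), (1509, 1509), (1510, 1510), (1511, 1511), (1512, 1316), (1513, 1700), (1514, 1319), (1515, 1515), (1516, 1516), (1517, 1329), (1518, 1518), (1519, 1519), (1520, 1331), (1521, 1702), (1522, 1704), (1523, 1346), (1524, 1347), (1525, 1709), (1526, 1526), (1527, 1712), (1528, 1350), (1529, 1351), (1530, 1715), (1531, 1718),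 (1532, 1353), (1533, 1721), (1534, 1354), (1535, 1725)]
    ⟨e3 q1472 L12812 q1472, e3 q1473 L12817 q1473, e3 q1474 L12821 q1474, e3 q1475 L12827 q1475, e3 q1476 L14574 q1674, e3 q1477 (flp_f L12842) q1275, e3 q1478 L12865 q1478, e3 q1479 L12875 q1479, e3 q1480 L12890 q1480, e3 q1481 L14627 q1678, e3 q1482 (flp_f L12899) q1279, e3 q1483 (flp_f L14684) q1682, e3 q1484 L12930 q1484, e3 q1485 (flp_f L12931) q1281, e3 q1486 (flp_f L14711) q1685, e3 q1487 L12950 q1487, e3 q1488 L12957 q1488, e3 q1489 L12962 q1283, e3 q1490 (flp_f L14728) q1687, e3 q1491 (flp_f L12985) q1298, e3 q1492 L12995 q1492, e3 q1493 L13008 q1493, e3 q1494 L13021 q1288, e3 q1495 L14734 q1688, e3 q1496 (flp_f L13035) q1289, e3 q1497 (flp_f L13049) q1291, e3 q1498 (flp_f L14774) q1691, e3 q1499 L13073 q1499, e3 q1500 L13088 q1500, e3 q1501 L13093 q1293, e3 q1502 (flp_f L13096) q1299, e3 q1503 L13106 q1503, e3 q1504 L13111 q1504, e3 q1505 L13116 q1303, e3 q1506 (flp_f L14797) q1695, e3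 q1507 L13129 q1507, e3 q1508 L13135 q1508, e3 q1509 L13143 q1509, e3 q1510 L13152 q1510, e3 q1511 L13159 q1511, e3 q1512 L13165 q1316, e3 q1513 L14822 q1700, e3 q1514 (flp_f L13173) q1319, e3 q1515 L13192 q1515, e3 q1516 L13211 q1516, e3 q1517 (flp_f L13212) q1329, e3 q1518 L13240 q1518, e3 q1519 L13259 q1519, e3 q1520 L13272 q1331, e3 q1521 L14835 q1702, e3 q1522 L14852 q1704, e3 q1523 (flp_f L13296) q1346, e3 q1524 (flp_f L13305) q1347, e3 q1525 (flp_f L14896) q1709, e3 q1526 L13329 q1526, e3 q1527 L14921 q1712, e3 q1528 (flp_f L13341) q1350, e3 q1529 (flp_f L13354) q1351, e3 q1530 (flp_f L14960) q1715, e3 q1531 L14986 q1718, e3 q1532 (flp_f L13384) q1353, e3 q1533 L15013 q1721, e3 q1534 (flp_f L13401) q1354, e3 q1535 (flp_f L15049) q1725, trivial⟩ (by decide +kernel)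

theorem ce_f_24 : ∀ r, r < 64 → sm gf (Qf (1536 + r)) = Qf (tab Gen.f (1536 + r)) :=
  edges_tab (sm gf) Qf (tab Gen.f) 1536 [(1536, 1536), (1537, 1410), (1538, 1538), (1539, 1357), (1540, 1730), (1541, 1471), (1542, 1463), (1543, 1467), (1544, 1736), (1545, 1362), (1546, 1738), (1547, 1363), (1548, 1741), (1549, 1420), (1550, 1366), (1551, 1744), (1552, 1746), (1553, 1367), (1554, 1750), (1555, 1555), (1556, 1369), (1557, 1754), (1558, 1430), (1559, 1559), (1560, 1371), (1561, 1760), (1562, 1761), (1563, 1435), (1564, 1564), (1565, 1376), (1566, 1377), (1567, 1379), (1568, 1440), (1569, 1382), (1570, 1445), (1571, 1387), (1572, 1384), (1573, 1447), (1574, 1772), (1575, 1450), (1576, 1391), (1577, 1392), (1578, 1443), (1579, 1451), (1580, 1396), (1581, 1778), (1582, 1582), (1583, 1780), (1584, 1399), (1585, 1784), (1586, 1586), (1587, 1714), (1588, 1588), (1589, 1402), (1590, 1789), (1591, 1791), (1592, 1404), (1593, 1795), (1594, 1594), (1595, 1406),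 (1596, 1799), (1597, 1723), (1598, 1598), (1599, 1408)]
    ⟨e3 q1536 L13422 q1536, e3 q1537 L13429 q1410, e3 q1538 L13440 q1538, e3 q1539 L13446 q1357, e3 q1540 (flp_f L15090) q1730, e3 q1541 L13466 q1471, e3 q1542 L13472 q1463, e3 q1543 L13482 q1467, e3 q1544 L15142 q1736, e3 q1545 (flp_f L13497) q1362, e3 q1546 L15161 q1738, e3 q1547 (flp_f L13519) q1363, e3 q1548 (flp_f L15193) q1741, e3 q1549 L13545 q1420, e3 q1550 L13550 q1366, e3 q1551 (flp_f L15224) q1744, e3 q1552 L15237 q1746, e3 q1553 (flp_f L13572) q1367, e3 q1554 (flp_f L15277) q1750, e3 q1555 L13599 q1555, e3 q1556 (flp_f L13600) q1369, e3 q1557 (flp_f L15307) q1754, e3 q1558 L13618 q1430, e3 q1559 L13628 q1559, e3 q1560 L13633 q1371, e3 q1561 (flp_f L15352) q1760, e3 q1562 L15354 q1761, e3 q1563 L13658 q1435, e3 q1564 L13663 q1564, e3 q1565 L13671 q1376, e3 q1566 (flp_f L13673) q1377, e3 q1567 (flp_f L13688) q1379, e3 q1568 L13712 q1440, e3 q1569 (flp_f L13714) q1382, e3 q1570 L13734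 q1445, e3 q1571 L13747 q1387, e3 q1572 L13758 q1384, e3 q1573 L13770 q1447, e3 q1574 L15477 q1772, e3 q1575 L13786 q1450, e3 q1576 L13797 q1391, e3 q1577 (flp_f L13803) q1392, e3 q1578 L13821 q1443, e3 q1579 L13830 q1451, e3 q1580 (flp_f L13833) q1396, e3 q1581 (flp_f L15542) q1778, e3 q1582 L13863 q1582, e3 q1583 L15557 q1780, e3 q1584 (flp_f L13875) q1399, e3 q1585 (flp_f L15606) q1784, e3 q1586 L13907 q1586, e3 q1587 (flp_f L14953) q1714, e3 q1588 L13925 q1588, e3 q1589 L13931 q1402, e3 q1590 (flp_f L15651) q1789, e3 q1591 L15665 q1791, e3 q1592 (flp_f L13950) q1404, e3 q1593 (flp_f L15705) q1795, e3 q1594 L13977 q1594, e3 q1595 (flp_f L13978) q1406, e3 q1596 (flp_f L15738) q1799, e3 q1597 (flp_f L15034) q1723, e3 q1598 L14004 q1598, e3 q1599 L14009 q1408, trivial⟩ (by decide +kernel)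

theorem ce_f_25 : ∀ r, r < 64 → sm gf (Qf (1600 + r)) = Qf (tab Gen.f (1600 + r)) :=
  edges_tab (sm gf) Qf (tab Gen.f) 1600 [(1600, 1805), (1601, 1806), (1602, 1728), (1603, 1603), (1604, 1413), (1605, 1812), (1606, 1414), (1607, 1815), (1608, 1416), (1609, 1819), (1610, 1740), (1611, 1611), (1612, 1418), (1613, 1825), (1614, 1774), (1615, 1743), (1616, 1616), (1617, 1423), (1618, 1830), (1619, 1424), (1620, 1833), (1621, 1748), (1622, 1622), (1623, 1426), (1624, 1838), (1625, 1752), (1626, 1626), (1627, 1429), (1628, 1843), (1629, 1844), (1630, 1847), (1631, 1758), (1632, 1632), (1633, 1433), (1634, 1434), (1635, 1827), (1636, 1763), (1637, 1764), (1638, 1638), (1639, 1766), (1640, 1767), (1641, 1768), (1642, 1449), (1643, 1770), (1644, 1771), (1645, 1769), (1646, 1773), (1647, 1775), (1648, 1648), (1649, 1649), (1650, 1453), (1651, 1863), (1652, 1731), (1653, 1653), (1654, 1654), (1655, 1457), (1656, 1732), (1657, 1657), (1658, 1658), (1659, 1461),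 (1660, 1462), (1661, 1875), (1662, 1874), (1663, 1733)]
    ⟨e3 q1600 (flp_f L15781) q1805, e3 q1601 L15783 q1806, e3 q1602 (flp_f L15075) q1728, e3 q1603 L14038 q1603, e3 q1604 L14048 q1413, e3 q1605 L15830 q1812, e3 q1606 (flp_f L14059) q1414, e3 q1607 (flp_f L15865) q1815, e3 q1608 (flp_f L14077) q1416, e3 q1609 (flp_f L15900) q1819, e3 q1610 (flp_f L15187) q1740, e3 q1611 L14108 q1611, e3 q1612 L14113 q1418, e3 q1613 (flp_f L15950) q1825, e3 q1614 (flp_f L15503) q1774, e3 q1615 (flp_f L15213) q1743, e3 q1616 L14141 q1616, e3 q1617 L14149 q1423, e3 q1618 L15985 q1830, e3 q1619 (flp_f L14159) q1424, e3 q1620 (flp_f L16015) q1833, e3 q1621 (flp_f L15260) q1748, e3 q1622 L14190 q1622, e3 q1623 L14196 q1426, e3 q1624 (flp_f L16059) q1838, e3 q1625 (flp_f L15293) q1752, e3 q1626 L14218 q1626, e3 q1627 L14223 q1429, e3 q1628 (flp_f L16088) q1843, e3 q1629 (flp_f L16098) q1844, e3 q1630 L16114 q1847, e3 q1631 (flp_f L15337) q1758, e3 q1632 L14255 q1632,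 e3 q1633 L14266 q1433, e3 q1634 (flp_f L14268) q1434, e3 q1635 (flp_f L15964) q1827, e3 q1636 (flp_f L15374) q1763, e3 q1637 (flp_f L15384) q1764, e3 q1638 L14298 q1638, e3 q1639 (flp_f L15408) q1766, e3 q1640 (flp_f L15423) q1767, e3 q1641 (flp_f L15439) q1768, e3 q1642 L14341 q1449, e3 q1643 (flp_f L15465) q1770, e3 q1644 (flp_f L15474) q1771, e3 q1645 (flp_f L15452) q1769, e3 q1646 (flp_f L15497) q1773, e3 q1647 (flp_f L15514) q1775, e3 q1648 L14382 q1648, e3 q1649 L14392 q1649, e3 q1650 L14399 q1453, e3 q1651 (flp_f L16232) q1863, e3 q1652 (flp_f L15097) q1731, e3 q1653 L14427 q1653, e3 q1654 L14433 q1654, e3 q1655 L14441 q1457, e3 q1656 (flp_f L15105) q1732, e3 q1657 L14460 q1657, e3 q1658 L14466 q1658, e3 q1659 L14472 q1461, e3 q1660 L14481 q1462, e3 q1661 L16322 q1875, e3 q1662 (flp_f L16320) q1874, e3 q1663 (flp_f L15116) q1733, trivial⟩ (by decide +kernel)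

theorem ce_f_26 : ∀ r, r < 64 → sm gf (Qf (1664 + r)) = Qf (tab Gen.f (1664 + r)) :=
  edges_tab (sm gf) Qf (tab Gen.f) 1664 [(1664, 1664), (1665, 1665), (1666, 1666), (1667, 1734), (1668, 1668), (1669, 1669), (1670, 1670), (1671, 1671), (1672, 1672), (1673, 1673), (1674, 1476), (1675, 1675), (1676, 1676), (1677, 1887), (1678, 1481), (1679, 1890), (1680, 1680), (1681, 1681), (1682, 1483), (1683, 1683), (1684, 1684), (1685, 1486), (1686, 1892), (1687, 1490), (1688, 1495), (1689, 1689), (1690, 1690), (1691, 1498), (1692, 1692), (1693, 1693), (1694, 1694), (1695, 1506), (1696, 1898), (1697, 1697), (1698, 1698), (1699, 1901), (1700, 1513), (1701, 1903), (1702, 1521), (1703, 1906), (1704, 1522), (1705, 1910), (1706, 1706), (1707, 1707), (1708, 1708), (1709, 1525), (1710, 1915), (1711, 1916), (1712, 1527), (1713, 1919), (1714, 1587), (1715, 1530), (1716, 1922), (1717, 1924), (1718, 1531), (1719, 1928), (1720, 1720), (1721, 1533), (1722, 1932), (1723, 1597),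 (1724, 1724), (1725, 1535), (1726, 1938), (1727, 1939)]
    ⟨e3 q1664 L14509 q1664, e3 q1665 L14518 q1665, e3 q1666 L14524 q1666, e3 q1667 (flp_f L15128) q1734, e3 q1668 L14540 q1668, e3 q1669 L14549 q1669, e3 q1670 L14555 q1670, e3 q1671 L14558 q1671, e3 q1672 L14564 q1672, e3 q1673 L14569 q1673, e3 q1674 (flp_f L14574) q1476, e3 q1675 L14597 q1675, e3 q1676 L14614 q1676, e3 q1677 L16419 q1887, e3 q1678 (flp_f L14627) q1481, e3 q1679 (flp_f L16475) q1890, e3 q1680 L14656 q1680, e3 q1681 L14673 q1681, e3 q1682 L14684 q1483, e3 q1683 L14697 q1683, e3 q1684 L14704 q1684, e3 q1685 L14711 q1486, e3 q1686 (flp_f L16491) q1892, e3 q1687 L14728 q1490, e3 q1688 (flp_f L14734) q1495, e3 q1689 L14754 q1689, e3 q1690 L14767 q1690, e3 q1691 L14774 q1498, e3 q1692 L14778 q1692, e3 q1693 L14787 q1693, e3 q1694 L14792 q1694, e3 q1695 L14797 q1506, e3 q1696 L16521 q1898, e3 q1697 L14810 q1697, e3 q1698 L14815 q1698, e3 q1699 L16537 q1901, e3 q1700 (flp_f L14822) q1513,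 e3 q1701 L16551 q1903, e3 q1702 (flp_f L14835) q1521, e3 q1703 L16579 q1906, e3 q1704 (flp_f L14852) q1522, e3 q1705 (flp_f L16612) q1910, e3 q1706 L14876 q1706, e3 q1707 L14883 q1707, e3 q1708 L14891 q1708, e3 q1709 L14896 q1525, e3 q1710 (flp_f L16655) q1915, e3 q1711 L16658 q1916, e3 q1712 (flp_f L14921) q1527, e3 q1713 (flp_f L16701) q1919, e3 q1714 L14953 q1587, e3 q1715 L14960 q1530, e3 q1716 (flp_f L16735) q1922, e3 q1717 L16752 q1924, e3 q1718 (flp_f L14986) q1531, e3 q1719 (flp_f L16795) q1928, e3 q1720 L15012 q1720, e3 q1721 (flp_f L15013) q1533, e3 q1722 (flp_f L16831) q1932, e3 q1723 L15034 q1597, e3 q1724 L15044 q1724, e3 q1725 L15049 q1535, e3 q1726 (flp_f L16876) q1938, e3 q1727 L16878 q1939, trivial⟩ (by decide +kernel)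

theorem ce_f_27 : ∀ r, r < 64 → sm gf (Qf (1728 + r)) = Qf (tab Gen.f (1728 + r)) :=
  edges_tab (sm gf) Qf (tab Gen.f) 1728 [(1728, 1602), (1729, 1729), (1730, 1540), (1731, 1652), (1732, 1656), (1733, 1663), (1734, 1667), (1735, 1949), (1736, 1544), (1737, 1952), (1738, 1546), (1739, 1955), (1740, 1610), (1741, 1548), (1742, 1959), (1743, 1615), (1744, 1551), (1745, 1961), (1746, 1552), (1747, 1965), (1748, 1621), (1749, 1749), (1750, 1554), (1751, 1971), (1752, 1625), (1753, 1753), (1754, 1557), (1755, 1976), (1756, 1977), (1757, 1980), (1758, 1631), (1759, 1759), (1760, 1561), (1761, 1562), (1762, 1985), (1763, 1636), (1764, 1637), (1765, 1765), (1766, 1639), (1767, 1640), (1768, 1641), (1769, 1645), (1770, 1643), (1771, 1644), (1772, 1574), (1773, 1646), (1774, 1614), (1775, 1647), (1776, 1776), (1777, 1777), (1778, 1581), (1779, 2000), (1780, 1583), (1781, 2003), (1782, 1918), (1783, 1783), (1784, 1585), (1785, 2008), (1786, 1995), (1787, 1921),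 (1788, 1788), (1789, 1590), (1790, 2013), (1791, 1591)]
    ⟨e3 q1728 L15075 q1602, e3 q1729 L15082 q1729, e3 q1730 L15090 q1540, e3 q1731 L15097 q1652, e3 q1732 L15105 q1656, e3 q1733 L15116 q1663, e3 q1734 L15128 q1667, e3 q1735 L16975 q1949, e3 q1736 (flp_f L15142) q1544, e3 q1737 (flp_f L17013) q1952, e3 q1738 (flp_f L15161) q1546, e3 q1739 (flp_f L17043) q1955, e3 q1740 L15187 q1610, e3 q1741 L15193 q1548, e3 q1742 (flp_f L17078) q1959, e3 q1743 L15213 q1615, e3 q1744 L15224 q1551, e3 q1745 L17097 q1961, e3 q1746 (flp_f L15237) q1552, e3 q1747 (flp_f L17135) q1965, e3 q1748 L15260 q1621, e3 q1749 L15271 q1749, e3 q1750 L15277 q1554, e3 q1751 (flp_f L17190) q1971, e3 q1752 L15293 q1625, e3 q1753 L15302 q1753, e3 q1754 L15307 q1557, e3 q1755 (flp_f L17224) q1976, e3 q1756 (flp_f L17232) q1977, e3 q1757 L17247 q1980, e3 q1758 L15337 q1631, e3 q1759 L15343 q1759, e3 q1760 L15352 q1561, e3 q1761 (flp_f L15354) q1562, e3 q1762 (flp_f L17299) q1985, e3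 q1763 L15374 q1636, e3 q1764 L15384 q1637, e3 q1765 L15390 q1765, e3 q1766 L15408 q1639, e3 q1767 L15423 q1640, e3 q1768 L15439 q1641, e3 q1769 L15452 q1645, e3 q1770 L15465 q1643, e3 q1771 L15474 q1644, e3 q1772 (flp_f L15477) q1574, e3 q1773 L15497 q1646, e3 q1774 L15503 q1614, e3 q1775 L15514 q1647, e3 q1776 L15525 q1776, e3 q1777 L15535 q1777, e3 q1778 L15542 q1581, e3 q1779 (flp_f L17443) q2000, e3 q1780 (flp_f L15557) q1583, e3 q1781 (flp_f L17477) q2003, e3 q1782 (flp_f L16693) q1918, e3 q1783 L15599 q1783, e3 q1784 L15606 q1585, e3 q1785 (flp_f L17532) q2008, e3 q1786 (flp_f L17392) q1995, e3 q1787 (flp_f L16725) q1921, e3 q1788 L15643 q1788, e3 q1789 L15651 q1590, e3 q1790 L17568 q2013, e3 q1791 (flp_f L15665) q1591, trivial⟩ (by decide +kernel)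

theorem ce_f_28 : ∀ r, r < 64 → sm gf (Qf (1792 + r)) = Qf (tab Gen.f (1792 + r)) :=
  edges_tab (sm gf) Qf (tab Gen.f) 1792 [(1792, 2017), (1793, 1926), (1794, 1794), (1795, 1593), (1796, 2023), (1797, 1930), (1798, 1798), (1799, 1596), (1800, 2028), (1801, 2029), (1802, 2032), (1803, 1936), (1804, 1804), (1805, 1600), (1806, 1601), (1807, 2037), (1808, 1941), (1809, 1942), (1810, 1810), (1811, 2042), (1812, 1605), (1813, 2044), (1814, 1951), (1815, 1607), (1816, 2047), (1817, 1954), (1818, 1818), (1819, 1609), (1820, 2052), (1821, 2053), (1822, 1991), (1823, 1958), (1824, 1824), (1825, 1613), (1826, 1986), (1827, 1635), (1828, 1960), (1829, 1829), (1830, 1618), (1831, 1963), (1832, 1832), (1833, 1620), (1834, 2065), (1835, 1990), (1836, 1969), (1837, 1837), (1838, 1624), (1839, 1972), (1840, 2071), (1841, 1974), (1842, 1842), (1843, 1628), (1844, 1629), (1845, 2079), (1846, 2078), (1847, 1630), (1848, 2056), (1849, 1982), (1850, 1983), (1851, 1851),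 (1852, 2060), (1853, 1988), (1854, 1989), (1855, 1992)]
    ⟨e3 q1792 (flp_f L17618) q2017, e3 q1793 (flp_f L16778) q1926, e3 q1794 L15699 q1794, e3 q1795 L15705 q1593, e3 q1796 (flp_f L17671) q2023, e3 q1797 (flp_f L16813) q1930, e3 q1798 L15731 q1798, e3 q1799 L15738 q1596, e3 q1800 (flp_f L17711) q2028, e3 q1801 (flp_f L17722) q2029, e3 q1802 L17740 q2032, e3 q1803 (flp_f L16863) q1936, e3 q1804 L15772 q1804, e3 q1805 L15781 q1600, e3 q1806 (flp_f L15783) q1601, e3 q1807 (flp_f L17780) q2037, e3 q1808 (flp_f L16901) q1941, e3 q1809 (flp_f L16911) q1942, e3 q1810 L15817 q1810, e3 q1811 L17811 q2042, e3 q1812 (flp_f L15830) q1605, e3 q1813 (flp_f L17842) q2044, e3 q1814 (flp_f L17006) q1951, e3 q1815 L15865 q1607, e3 q1816 (flp_f L17870) q2047, e3 q1817 (flp_f L17037) q1954, e3 q1818 L15895 q1818, e3 q1819 L15900 q1609, e3 q1820 (flp_f L17919) q2052, e3 q1821 (flp_f L17928) q2053, e3 q1822 (flp_f L17358) q1991, e3 q1823 (flp_f L17066) q1958, e3 q1824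 L15941 q1824, e3 q1825 L15950 q1613, e3 q1826 (flp_f L17308) q1986, e3 q1827 L15964 q1635, e3 q1828 (flp_f L17091) q1960, e3 q1829 L15980 q1829, e3 q1830 (flp_f L15985) q1618, e3 q1831 (flp_f L17117) q1963, e3 q1832 L16008 q1832, e3 q1833 L16015 q1620, e3 q1834 (flp_f L18036) q2065, e3 q1835 (flp_f L17345) q1990, e3 q1836 (flp_f L17173) q1969, e3 q1837 L16047 q1837, e3 q1838 L16059 q1624, e3 q1839 (flp_f L17194) q1972, e3 q1840 L18081 q2071, e3 q1841 (flp_f L17213) q1974, e3 q1842 L16083 q1842, e3 q1843 L16088 q1628, e3 q1844 L16098 q1629, e3 q1845 L18132 q2079, e3 q1846 (flp_f L18130) q2078, e3 q1847 (flp_f L16114) q1630, e3 q1848 (flp_f L17954) q2056, e3 q1849 (flp_f L17272) q1982, e3 q1850 (flp_f L17283) q1983, e3 q1851 L16149 q1851, e3 q1852 (flp_f L17994) q2060, e3 q1853 (flp_f L17328) q1988, e3 q1854 (flp_f L17338) q1989, e3 q1855 (flp_f L17370) q1992, trivial⟩ (by decide +kernel)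

theorem ce_f_29 : ∀ r, r < 64 → sm gf (Qf (1856 + r)) = Qf (tab Gen.f (1856 + r)) :=
  edges_tab (sm gf) Qf (tab Gen.f) 1856 [(1856, 1993), (1857, 1968), (1858, 1994), (1859, 1996), (1860, 1944), (1861, 1861), (1862, 1862), (1863, 1651), (1864, 1945), (1865, 1865), (1866, 1866), (1867, 1867), (1868, 1946), (1869, 1869), (1870, 1870), (1871, 1871), (1872, 1872), (1873, 2106), (1874, 1662), (1875, 1661), (1876, 2109), (1877, 1947), (1878, 1878), (1879, 1879), (1880, 1880), (1881, 1881), (1882, 1882), (1883, 1883), (1884, 1884), (1885, 1885), (1886, 1886), (1887, 1677), (1888, 1888), (1889, 1889), (1890, 1679), (1891, 1891), (1892, 1686), (1893, 2118), (1894, 1894), (1895, 1895), (1896, 1896), (1897, 2123), (1898, 1696), (1899, 1899), (1900, 2124), (1901, 1699), (1902, 2126), (1903, 1701), (1904, 2130), (1905, 1905), (1906, 1703), (1907, 2132), (1908, 1908), (1909, 1909), (1910, 1705), (1911, 2137), (1912, 2125), (1913, 1913), (1914, 1914), (1915, 1710),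 (1916, 1711), (1917, 2143), (1918, 1782), (1919, 1713)]
    ⟨e3 q1856 (flp_f L17381) q1993, e3 q1857 L17164 q1968, e3 q1858 (flp_f L17386) q1994, e3 q1859 (flp_f L17403) q1996, e3 q1860 (flp_f L16928) q1944, e3 q1861 L16216 q1861, e3 q1862 L16223 q1862, e3 q1863 L16232 q1651, e3 q1864 (flp_f L16939) q1945, e3 q1865 L16249 q1865, e3 q1866 L16259 q1866, e3 q1867 L16266 q1867, e3 q1868 (flp_f L16950) q1946, e3 q1869 L16282 q1869, e3 q1870 L16291 q1870, e3 q1871 L16296 q1871, e3 q1872 L16306 q1872, e3 q1873 L18326 q2106, e3 q1874 L16320 q1662, e3 q1875 (flp_f L16322) q1661, e3 q1876 (flp_f L18351) q2109, e3 q1877 (flp_f L16960) q1947, e3 q1878 L16346 q1878, e3 q1879 L16355 q1879, e3 q1880 L16359 q1880, e3 q1881 L16368 q1881, e3 q1882 L16373 q1882, e3 q1883 L16378 q1883, e3 q1884 L16385 q1884, e3 q1885 L16401 q1885, e3 q1886 L16418 q1886, e3 q1887 (flp_f L16419) q1677, e3 q1888 L16445 q1888, e3 q1889 L16462 q1889, e3 q1890 L16475 q1679, e3 q1891 L16485 q1891,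 e3 q1892 L16491 q1686, e3 q1893 L18407 q2118, e3 q1894 L16505 q1894, e3 q1895 L16508 q1895, e3 q1896 L16512 q1896, e3 q1897 L18435 q2123, e3 q1898 (flp_f L16521) q1696, e3 q1899 L16530 q1899, e3 q1900 L18441 q2124, e3 q1901 (flp_f L16537) q1699, e3 q1902 L18454 q2126, e3 q1903 (flp_f L16551) q1701, e3 q1904 (flp_f L18508) q2130, e3 q1905 L16578 q1905, e3 q1906 (flp_f L16579) q1703, e3 q1907 (flp_f L18527) q2132, e3 q1908 L16599 q1908, e3 q1909 L16607 q1909, e3 q1910 L16612 q1705, e3 q1911 (flp_f L18566) q2137, e3 q1912 L18501 q2125, e3 q1913 L16639 q1913, e3 q1914 L16644 q1914, e3 q1915 L16655 q1710, e3 q1916 (flp_f L16658) q1711, e3 q1917 (flp_f L18624) q2143, e3 q1918 L16693 q1782, e3 q1919 L16701 q1713, trivial⟩ (by decide +kernel)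

theorem ce_f_30 : ∀ r, r < 64 → sm gf (Qf (1920 + r)) = Qf (tab Gen.f (1920 + r)) :=
  edges_tab (sm gf) Qf (tab Gen.f) 1920 [(1920, 2147), (1921, 1787), (1922, 1716), (1923, 2150), (1924, 1717), (1925, 2154), (1926, 1793), (1927, 1927), (1928, 1719), (1929, 2160), (1930, 1797), (1931, 1931), (1932, 1722), (1933, 2165), (1934, 2166), (1935, 2169), (1936, 1803), (1937, 1937), (1938, 1726), (1939, 1727), (1940, 2174), (1941, 1808), (1942, 1809), (1943, 1943), (1944, 1860), (1945, 1864), (1946, 1868), (1947, 1877), (1948, 2184), (1949, 1735), (1950, 2187), (1951, 1814), (1952, 1737), (1953, 2191), (1954, 1817), (1955, 1739), (1956, 2194), (1957, 2195), (1958, 1823), (1959, 1742), (1960, 1828), (1961, 1745), (1962, 2201), (1963, 1831), (1964, 1964), (1965, 1747), (1966, 2207), (1967, 2208), (1968, 1857), (1969, 1836), (1970, 1970), (1971, 1751), (1972, 1839), (1973, 2216), (1974, 1841), (1975, 1975), (1976, 1755), (1977, 1756), (1978, 2224), (1979, 2223),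 (1980, 1757), (1981, 2227), (1982, 1849), (1983, 1850)]
    ⟨e3 q1920 (flp_f L18671) q2147, e3 q1921 L16725 q1787, e3 q1922 L16735 q1716, e3 q1923 L18701 q2150, e3 q1924 (flp_f L16752) q1717, e3 q1925 (flp_f L18747) q2154, e3 q1926 L16778 q1793, e3 q1927 L16789 q1927, e3 q1928 L16795 q1719, e3 q1929 (flp_f L18798) q2160, e3 q1930 L16813 q1797, e3 q1931 L16824 q1931, e3 q1932 L16831 q1722, e3 q1933 (flp_f L18843) q2165, e3 q1934 (flp_f L18852) q2166, e3 q1935 L18869 q2169, e3 q1936 L16863 q1803, e3 q1937 L16869 q1937, e3 q1938 L16876 q1726, e3 q1939 (flp_f L16878) q1727, e3 q1940 (flp_f L18917) q2174, e3 q1941 L16901 q1808, e3 q1942 L16911 q1809, e3 q1943 L16918 q1943, e3 q1944 L16928 q1860, e3 q1945 L16939 q1864, e3 q1946 L16950 q1868, e3 q1947 L16960 q1877, e3 q1948 L19004 q2184, e3 q1949 (flp_f L16975) q1735, e3 q1950 (flp_f L19046) q2187, e3 q1951 L17006 q1814, e3 q1952 L17013 q1737, e3 q1953 (flp_f L19087) q2191, e3 q1954 L17037 q1817, e3 q1955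 L17043 q1739, e3 q1956 (flp_f L19118) q2194, e3 q1957 (flp_f L19129) q2195, e3 q1958 L17066 q1823, e3 q1959 L17078 q1742, e3 q1960 L17091 q1828, e3 q1961 (flp_f L17097) q1745, e3 q1962 (flp_f L19183) q2201, e3 q1963 L17117 q1831, e3 q1964 L17128 q1964, e3 q1965 L17135 q1747, e3 q1966 (flp_f L19243) q2207, e3 q1967 (flp_f L19253) q2208, e3 q1968 (flp_f L17164) q1857, e3 q1969 L17173 q1836, e3 q1970 L17180 q1970, e3 q1971 L17190 q1751, e3 q1972 L17194 q1839, e3 q1973 L19328 q2216, e3 q1974 L17213 q1841, e3 q1975 L17219 q1975, e3 q1976 L17224 q1755, e3 q1977 L17232 q1756, e3 q1978 L19388 q2224, e3 q1979 (flp_f L19386) q2223, e3 q1980 (flp_f L17247) q1757, e3 q1981 (flp_f L19414) q2227, e3 q1982 L17272 q1849, e3 q1983 L17283 q1850, trivial⟩ (by decide +kernel)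

theorem ce_f_31 : ∀ r, r < 64 → sm gf (Qf (1984 + r)) = Qf (tab Gen.f (1984 + r)) :=
  edges_tab (sm gf) Qf (tab Gen.f) 1984 [(1984, 1984), (1985, 1762), (1986, 1826), (1987, 2232), (1988, 1853), (1989, 1854), (1990, 1835), (1991, 1822), (1992, 1855), (1993, 1856), (1994, 1858), (1995, 1786), (1996, 1859), (1997, 2179), (1998, 1998), (1999, 1999), (2000, 1779), (2001, 2142), (2002, 2002), (2003, 1781), (2004, 2250), (2005, 2240), (2006, 2146), (2007, 2007), (2008, 1785), (2009, 2233), (2010, 2148), (2011, 2149), (2012, 2012), (2013, 1790), (2014, 2260), (2015, 2152), (2016, 2016), (2017, 1792), (2018, 2266), (2019, 2267), (2020, 2269), (2021, 2158), (2022, 2022), (2023, 1796), (2024, 2161), (2025, 2276), (2026, 2163), (2027, 2027), (2028, 1800), (2029, 1801), (2030, 2284), (2031, 2283), (2032, 1802), (2033, 2286), (2034, 2171), (2035, 2172), (2036, 2036), (2037, 1807), (2038, 2257), (2039, 2291), (2040, 2177), (2041, 2178), (2042, 1811), (2043, 2186),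 (2044, 1813), (2045, 2297), (2046, 2190), (2047, 1816)]
    ⟨e3 q1984 L17290 q1984, e3 q1985 L17299 q1762, e3 q1986 L17308 q1826, e3 q1987 (flp_f L19465) q2232, e3 q1988 L17328 q1853, e3 q1989 L17338 q1854, e3 q1990 L17345 q1835, e3 q1991 L17358 q1822, e3 q1992 L17370 q1855, e3 q1993 L17381 q1856, e3 q1994 L17386 q1858, e3 q1995 L17392 q1786, e3 q1996 L17403 q1859, e3 q1997 (flp_f L18957) q2179, e3 q1998 L17423 q1998, e3 q1999 L17430 q1999, e3 q2000 L17443 q1779, e3 q2001 (flp_f L18614) q2142, e3 q2002 L17468 q2002, e3 q2003 L17477 q1781, e3 q2004 (flp_f L19655) q2250, e3 q2005 (flp_f L19537) q2240, e3 q2006 (flp_f L18660) q2146, e3 q2007 L17519 q2007, e3 q2008 L17532 q1785, e3 q2009 (flp_f L19475) q2233, e3 q2010 (flp_f L18680) q2148, e3 q2011 (flp_f L18695) q2149, e3 q2012 L17563 q2012, e3 q2013 (flp_f L17568) q1790, e3 q2014 (flp_f L19751) q2260, e3 q2015 (flp_f L18729) q2152, e3 q2016 L17611 q2016, e3 q2017 L17618 q1792, e3 q2018 (flp_f L19823)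 q2266, e3 q2019 (flp_f L19836) q2267, e3 q2020 L19852 q2269, e3 q2021 (flp_f L18783) q2158, e3 q2022 L17661 q2022, e3 q2023 L17671 q1796, e3 q2024 (flp_f L18806) q2161, e3 q2025 L19917 q2276, e3 q2026 (flp_f L18828) q2163, e3 q2027 L17704 q2027, e3 q2028 L17711 q1800, e3 q2029 L17722 q1801, e3 q2030 L19983 q2284, e3 q2031 (flp_f L19981) q2283, e3 q2032 (flp_f L17740) q1802, e3 q2033 (flp_f L20003) q2286, e3 q2034 (flp_f L18891) q2171, e3 q2035 (flp_f L18900) q2172, e3 q2036 L17771 q2036, e3 q2037 L17780 q1807, e3 q2038 (flp_f L19721) q2257, e3 q2039 (flp_f L20038) q2291, e3 q2040 (flp_f L18941) q2177, e3 q2041 (flp_f L18951) q2178, e3 q2042 (flp_f L17811) q1811, e3 q2043 (flp_f L19036) q2186, e3 q2044 L17842 q1813, e3 q2045 (flp_f L20083) q2297, e3 q2046 (flp_f L19074) q2190, e3 q2047 L17870 q1816, trivial⟩ (by decide +kernel)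

theorem ce_f_32 : ∀ r, r < 64 → sm gf (Qf (2048 + r)) = Qf (tab Gen.f (2048 + r)) :=
  edges_tab (sm gf) Qf (tab Gen.f) 2048 [(2048, 2192), (2049, 2203), (2050, 2193), (2051, 2051), (2052, 1820), (2053, 1821), (2054, 2306), (2055, 2228), (2056, 1848), (2057, 2198), (2058, 2058), (2059, 2234), (2060, 1852), (2061, 2199), (2062, 2062), (2063, 2205), (2064, 2064), (2065, 1834), (2066, 2237), (2067, 2211), (2068, 2212), (2069, 2069), (2070, 2215), (2071, 1840), (2072, 2308), (2073, 2218), (2074, 2219), (2075, 2075), (2076, 2076), (2077, 2325), (2078, 1846), (2079, 1845), (2080, 2328), (2081, 2309), (2082, 2230), (2083, 2231), (2084, 2235), (2085, 2236), (2086, 2214), (2087, 2210), (2088, 2238), (2089, 2204), (2090, 2239), (2091, 2241), (2092, 2180), (2093, 2093), (2094, 2094), (2095, 2095), (2096, 2181), (2097, 2097), (2098, 2098), (2099, 2182), (2100, 2183), (2101, 2101), (2102, 2349), (2103, 2103), (2104, 2352), (2105, 2105), (2106, 1873), (2107, 2354),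 (2108, 2108), (2109, 1876), (2110, 2110), (2111, 2111)]
    ⟨e3 q2048 (flp_f L19097) q2192, e3 q2049 (flp_f L19197) q2203, e3 q2050 (flp_f L19112) q2193, e3 q2051 L17912 q2051, e3 q2052 L17919 q1820, e3 q2053 L17928 q1821, e3 q2054 (flp_f L20167) q2306, e3 q2055 (flp_f L19426) q2228, e3 q2056 L17954 q1848, e3 q2057 (flp_f L19156) q2198, e3 q2058 L17974 q2058, e3 q2059 (flp_f L19487) q2234, e3 q2060 L17994 q1852, e3 q2061 (flp_f L19167) q2199, e3 q2062 L18012 q2062, e3 q2063 (flp_f L19228) q2205, e3 q2064 L18027 q2064, e3 q2065 L18036 q1834, e3 q2066 (flp_f L19514) q2237, e3 q2067 (flp_f L19281) q2211, e3 q2068 (flp_f L19295) q2212, e3 q2069 L18070 q2069, e3 q2070 (flp_f L19326) q2215, e3 q2071 (flp_f L18081) q1840, e3 q2072 (flp_f L20184) q2308, e3 q2073 (flp_f L19351) q2218, e3 q2074 (flp_f L19359) q2219, e3 q2075 L18104 q2075, e3 q2076 L18115 q2076, e3 q2077 L20299 q2325, e3 q2078 L18130 q1846, e3 q2079 (flp_f L18132) q1845, e3 q2080 (flp_f L20326)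 q2328, e3 q2081 (flp_f L20195) q2309, e3 q2082 (flp_f L19446) q2230, e3 q2083 (flp_f L19457) q2231, e3 q2084 (flp_f L19496) q2235, e3 q2085 (flp_f L19506) q2236, e3 q2086 (flp_f L19319) q2214, e3 q2087 (flp_f L19270) q2210, e3 q2088 (flp_f L19524) q2238, e3 q2089 (flp_f L19218) q2204, e3 q2090 (flp_f L19529) q2239, e3 q2091 (flp_f L19549) q2241, e3 q2092 (flp_f L18970) q2180, e3 q2093 L18230 q2093, e3 q2094 L18240 q2094, e3 q2095 L18248 q2095, e3 q2096 (flp_f L18981) q2181, e3 q2097 L18266 q2097, e3 q2098 L18276 q2098, e3 q2099 (flp_f L18988) q2182, e3 q2100 (flp_f L19000) q2183, e3 q2101 L18295 q2101, e3 q2102 L20467 q2349, e3 q2103 L18310 q2103, e3 q2104 L20487 q2352, e3 q2105 L18323 q2105, e3 q2106 (flp_f L18326) q1873, e3 q2107 (flp_f L20505) q2354, e3 q2108 L18346 q2108, e3 q2109 L18351 q1876, e3 q2110 L18355 q2110, e3 q2111 L18364 q2111, trivial⟩ (by decide +kernel)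

theorem ce_f_33 : ∀ r, r < 64 → sm gf (Qf (2112 + r)) = Qf (tab Gen.f (2112 + r)) :=
  edges_tab (sm gf) Qf (tab Gen.f) 2112 [(2112, 2112), (2113, 2113), (2114, 2114), (2115, 2115), (2116, 2116), (2117, 2359), (2118, 1893), (2119, 2119), (2120, 2120), (2121, 2362), (2122, 2363), (2123, 1897), (2124, 1900), (2125, 1912), (2126, 1902), (2127, 2365), (2128, 2128), (2129, 2129), (2130, 1904), (2131, 2370), (2132, 1907), (2133, 2371), (2134, 2372), (2135, 2135), (2136, 2136), (2137, 1911), (2138, 2364), (2139, 2139), (2140, 2140), (2141, 2141), (2142, 2001), (2143, 1917), (2144, 2384), (2145, 2385), (2146, 2006), (2147, 1920), (2148, 2010), (2149, 2011), (2150, 1923), (2151, 2392), (2152, 2015), (2153, 2153), (2154, 1925), (2155, 2399), (2156, 2400), (2157, 2403), (2158, 2021), (2159, 2159), (2160, 1929), (2161, 2024), (2162, 2410), (2163, 2026), (2164, 2164), (2165, 1933), (2166, 1934), (2167, 2418), (2168, 2417), (2169, 1935), (2170, 2421), (2171, 2034),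 (2172, 2035), (2173, 2173), (2174, 1940), (2175, 2426)]
    ⟨e3 q2112 L18370 q2112, e3 q2113 L18374 q2113, e3 q2114 L18381 q2114, e3 q2115 L18390 q2115, e3 q2116 L18401 q2116, e3 q2117 L20538 q2359, e3 q2118 (flp_f L18407) q1893, e3 q2119 L18415 q2119, e3 q2120 L18423 q2120, e3 q2121 L20556 q2362, e3 q2122 L20562 q2363, e3 q2123 (flp_f L18435) q1897, e3 q2124 (flp_f L18441) q1900, e3 q2125 (flp_f L18501) q1912, e3 q2126 (flp_f L18454) q1902, e3 q2127 (flp_f L20587) q2365, e3 q2128 L18477 q2128, e3 q2129 L18486 q2129, e3 q2130 L18508 q1904, e3 q2131 (flp_f L20641) q2370, e3 q2132 L18527 q1907, e3 q2133 (flp_f L20647) q2371, e3 q2134 (flp_f L20657) q2372, e3 q2135 L18550 q2135, e3 q2136 L18555 q2136, e3 q2137 L18566 q1911, e3 q2138 (flp_f L20574) q2364, e3 q2139 L18580 q2139, e3 q2140 L18590 q2140, e3 q2141 L18598 q2141, e3 q2142 L18614 q2001, e3 q2143 L18624 q1917, e3 q2144 (flp_f L20769) q2384, e3 q2145 (flp_f L20783) q2385, e3 q2146 L18660 q2006, e3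 q2147 L18671 q1920, e3 q2148 L18680 q2010, e3 q2149 L18695 q2011, e3 q2150 (flp_f L18701) q1923, e3 q2151 (flp_f L20870) q2392, e3 q2152 L18729 q2015, e3 q2153 L18740 q2153, e3 q2154 L18747 q1925, e3 q2155 (flp_f L20939) q2399, e3 q2156 (flp_f L20948) q2400, e3 q2157 L20969 q2403, e3 q2158 L18783 q2021, e3 q2159 L18790 q2159, e3 q2160 L18798 q1929, e3 q2161 L18806 q2024, e3 q2162 L21038 q2410, e3 q2163 L18828 q2026, e3 q2164 L18836 q2164, e3 q2165 L18843 q1933, e3 q2166 L18852 q1934, e3 q2167 L21109 q2418, e3 q2168 (flp_f L21107) q2417, e3 q2169 (flp_f L18869) q1935, e3 q2170 (flp_f L21136) q2421, e3 q2171 L18891 q2034, e3 q2172 L18900 q2035, e3 q2173 L18906 q2173, e3 q2174 L18917 q1940, e3 q2175 (flp_f L21173) q2426, trivial⟩ (by decide +kernel)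

theorem ce_f_34 : ∀ r, r < 64 → sm gf (Qf (2176 + r)) = Qf (tab Gen.f (2176 + r)) :=
  edges_tab (sm gf) Qf (tab Gen.f) 2176 [(2176, 2427), (2177, 2040), (2178, 2041), (2179, 1997), (2180, 2092), (2181, 2096), (2182, 2099), (2183, 2100), (2184, 1948), (2185, 2439), (2186, 2043), (2187, 1950), (2188, 2442), (2189, 2443), (2190, 2046), (2191, 1953), (2192, 2048), (2193, 2050), (2194, 1956), (2195, 1957), (2196, 2451), (2197, 2450), (2198, 2057), (2199, 2061), (2200, 2200), (2201, 1962), (2202, 2458), (2203, 2049), (2204, 2089), (2205, 2063), (2206, 2206), (2207, 1966), (2208, 1967), (2209, 2466), (2210, 2087), (2211, 2067), (2212, 2068), (2213, 2213), (2214, 2086), (2215, 2070), (2216, 1973), (2217, 2473), (2218, 2073), (2219, 2074), (2220, 2220), (2221, 2221), (2222, 2481), (2223, 1979), (2224, 1978), (2225, 2485), (2226, 2483), (2227, 1981), (2228, 2055), (2229, 2487), (2230, 2082), (2231, 2083), (2232, 1987), (2233, 2009), (2234, 2059), (2235, 2084),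 (2236, 2085), (2237, 2066), (2238, 2088), (2239, 2090)]
    ⟨e3 q2176 (flp_f L21186) q2427, e3 q2177 L18941 q2040, e3 q2178 L18951 q2041, e3 q2179 L18957 q1997, e3 q2180 L18970 q2092, e3 q2181 L18981 q2096, e3 q2182 L18988 q2099, e3 q2183 L19000 q2100, e3 q2184 (flp_f L19004) q1948, e3 q2185 (flp_f L21302) q2439, e3 q2186 L19036 q2043, e3 q2187 L19046 q1950, e3 q2188 (flp_f L21334) q2442, e3 q2189 (flp_f L21347) q2443, e3 q2190 L19074 q2046, e3 q2191 L19087 q1953, e3 q2192 L19097 q2048, e3 q2193 L19112 q2050, e3 q2194 L19118 q1956, e3 q2195 L19129 q1957, e3 q2196 L21423 q2451, e3 q2197 (flp_f L21419) q2450, e3 q2198 L19156 q2057, e3 q2199 L19167 q2061, e3 q2200 L19177 q2200, e3 q2201 L19183 q1962, e3 q2202 (flp_f L21495) q2458, e3 q2203 L19197 q2049, e3 q2204 L19218 q2089, e3 q2205 L19228 q2063, e3 q2206 L19236 q2206, e3 q2207 L19243 q1966, e3 q2208 L19253 q1967, e3 q2209 (flp_f L21569) q2466, e3 q2210 L19270 q2087, e3 q2211 L19281 q2067, e3 q2212 L19295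 q2068, e3 q2213 L19303 q2213, e3 q2214 L19319 q2086, e3 q2215 L19326 q2070, e3 q2216 (flp_f L19328) q1973, e3 q2217 (flp_f L21638) q2473, e3 q2218 L19351 q2073, e3 q2219 L19359 q2074, e3 q2220 L19363 q2220, e3 q2221 L19372 q2221, e3 q2222 L21686 q2481, e3 q2223 L19386 q1979, e3 q2224 (flp_f L19388) q1978, e3 q2225 (flp_f L21717) q2485, e3 q2226 (flp_f L21700) q2483, e3 q2227 L19414 q1981, e3 q2228 L19426 q2055, e3 q2229 (flp_f L21735) q2487, e3 q2230 L19446 q2082, e3 q2231 L19457 q2083, e3 q2232 L19465 q1987, e3 q2233 L19475 q2009, e3 q2234 L19487 q2059, e3 q2235 L19496 q2084, e3 q2236 L19506 q2085, e3 q2237 L19514 q2066, e3 q2238 L19524 q2088, e3 q2239 L19529 q2090, trivial⟩ (by decide +kernel)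

theorem ce_f_35 : ∀ r, r < 64 → sm gf (Qf (2240 + r)) = Qf (tab Gen.f (2240 + r)) :=
  edges_tab (sm gf) Qf (tab Gen.f) 2240 [(2240, 2005), (2241, 2091), (2242, 2433), (2243, 2243), (2244, 2244), (2245, 2245), (2246, 2382), (2247, 2454), (2248, 2383), (2249, 2249), (2250, 2004), (2251, 2491), (2252, 2387), (2253, 2388), (2254, 2254), (2255, 2428), (2256, 2492), (2257, 2038), (2258, 2389), (2259, 2390), (2260, 2014), (2261, 2515), (2262, 2395), (2263, 2517), (2264, 2397), (2265, 2265), (2266, 2018), (2267, 2019), (2268, 2523), (2269, 2020), (2270, 2524), (2271, 2405), (2272, 2406), (2273, 2273), (2274, 2438), (2275, 2409), (2276, 2025), (2277, 2531), (2278, 2412), (2279, 2413), (2280, 2280), (2281, 2281), (2282, 2538), (2283, 2031), (2284, 2030), (2285, 2541), (2286, 2033), (2287, 2511), (2288, 2542), (2289, 2424), (2290, 2425), (2291, 2039), (2292, 2512), (2293, 2430), (2294, 2431), (2295, 2432), (2296, 2441), (2297, 2045), (2298, 2445), (2299, 2446),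 (2300, 2459), (2301, 2447), (2302, 2448), (2303, 2303)]
    ⟨e3 q2240 L19537 q2005, e3 q2241 L19549 q2091, e3 q2242 (flp_f L21238) q2433, e3 q2243 L19569 q2243, e3 q2244 L19581 q2244, e3 q2245 L19591 q2245, e3 q2246 (flp_f L20741) q2382, e3 q2247 (flp_f L21451) q2454, e3 q2248 (flp_f L20759) q2383, e3 q2249 L19640 q2249, e3 q2250 L19655 q2004, e3 q2251 (flp_f L21775) q2491, e3 q2252 (flp_f L20807) q2387, e3 q2253 (flp_f L20821) q2388, e3 q2254 L19696 q2254, e3 q2255 (flp_f L21195) q2428, e3 q2256 (flp_f L21789) q2492, e3 q2257 L19721 q2038, e3 q2258 (flp_f L20835) q2389, e3 q2259 (flp_f L20848) q2390, e3 q2260 L19751 q2014, e3 q2261 (flp_f L22021) q2515, e3 q2262 (flp_f L20900) q2395, e3 q2263 L22038 q2517, e3 q2264 (flp_f L20924) q2397, e3 q2265 L19812 q2265, e3 q2266 L19823 q2018, e3 q2267 L19836 q2019, e3 q2268 (flp_f L22112) q2523, e3 q2269 (flp_f L19852) q2020, e3 q2270 (flp_f L22124) q2524, e3 q2271 (flp_f L20994) q2405, e3 q2272 (flp_f L21004)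 q2406, e3 q2273 L19892 q2273, e3 q2274 (flp_f L21291) q2438, e3 q2275 (flp_f L21036) q2409, e3 q2276 (flp_f L19917) q2025, e3 q2277 (flp_f L22180) q2531, e3 q2278 (flp_f L21065) q2412, e3 q2279 (flp_f L21075) q2413, e3 q2280 L19952 q2280, e3 q2281 L19964 q2281, e3 q2282 L22228 q2538, e3 q2283 L19981 q2031, e3 q2284 (flp_f L19983) q2030, e3 q2285 (flp_f L22259) q2541, e3 q2286 L20003 q2033, e3 q2287 (flp_f L21983) q2511, e3 q2288 (flp_f L22266) q2542, e3 q2289 (flp_f L21159) q2424, e3 q2290 (flp_f L21168) q2425, e3 q2291 L20038 q2039, e3 q2292 (flp_f L21993) q2512, e3 q2293 (flp_f L21213) q2430, e3 q2294 (flp_f L21223) q2431, e3 q2295 (flp_f L21228) q2432, e3 q2296 (flp_f L21326) q2441, e3 q2297 L20083 q2045, e3 q2298 (flp_f L21369) q2445, e3 q2299 (flp_f L21382) q2446, e3 q2300 (flp_f L21504) q2459, e3 q2301 (flp_f L21388) q2447, e3 q2302 (flp_f L21400) q2448, e3 q2303 L20136 q2303, trivial⟩ (by decide +kernel)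

theorem ce_f_36 : ∀ r, r < 64 → sm gf (Qf (2304 + r)) = Qf (tab Gen.f (2304 + r)) :=
  edges_tab (sm gf) Qf (tab Gen.f) 2304 [(2304, 2304), (2305, 2456), (2306, 2054), (2307, 2488), (2308, 2072), (2309, 2081), (2310, 2461), (2311, 2462), (2312, 2312), (2313, 2495), (2314, 2469), (2315, 2470), (2316, 2471), (2317, 2472), (2318, 2558), (2319, 2563), (2320, 2476), (2321, 2576), (2322, 2478), (2323, 2579), (2324, 2324), (2325, 2077), (2326, 2582), (2327, 2327), (2328, 2080), (2329, 2489), (2330, 2490), (2331, 2493), (2332, 2494), (2333, 2408), (2334, 2460), (2335, 2468), (2336, 2455), (2337, 2496), (2338, 2434), (2339, 2435), (2340, 2340), (2341, 2341), (2342, 2342), (2343, 2343), (2344, 2595), (2345, 2437), (2346, 2346), (2347, 2600), (2348, 2348), (2349, 2102), (2350, 2603), (2351, 2351), (2352, 2104), (2353, 2605), (2354, 2107), (2355, 2355), (2356, 2356), (2357, 2357), (2358, 2358), (2359, 2117), (2360, 2606), (2361, 2361), (2362, 2121), (2363, 2122),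 (2364, 2138), (2365, 2127), (2366, 2610), (2367, 2611)]
    ⟨e3 q2304 L20148 q2304, e3 q2305 (flp_f L21480) q2456, e3 q2306 L20167 q2054, e3 q2307 (flp_f L21750) q2488, e3 q2308 L20184 q2072, e3 q2309 L20195 q2081, e3 q2310 (flp_f L21524) q2461, e3 q2311 (flp_f L21534) q2462, e3 q2312 L20215 q2312, e3 q2313 (flp_f L21820) q2495, e3 q2314 (flp_f L21598) q2469, e3 q2315 (flp_f L21612) q2470, e3 q2316 (flp_f L21620) q2471, e3 q2317 (flp_f L21629) q2472, e3 q2318 (flp_f L22392) q2558, e3 q2319 (flp_f L22432) q2563, e3 q2320 (flp_f L21658) q2476, e3 q2321 L22505 q2576, e3 q2322 (flp_f L21670) q2478, e3 q2323 L22517 q2579, e3 q2324 L20296 q2324, e3 q2325 (flp_f L20299) q2077, e3 q2326 (flp_f L22548) q2582, e3 q2327 L20321 q2327, e3 q2328 L20326 q2080, e3 q2329 (flp_f L21759) q2489, e3 q2330 (flp_f L21770) q2490, e3 q2331 (flp_f L21798) q2493, e3 q2332 (flp_f L21810) q2494, e3 q2333 L21028 q2408, e3 q2334 (flp_f L21516) q2460, e3 q2335 (flp_f L21587) q2468,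 e3 q2336 (flp_f L21471) q2455, e3 q2337 (flp_f L21831) q2496, e3 q2338 (flp_f L21245) q2434, e3 q2339 (flp_f L21258) q2435, e3 q2340 L20409 q2340, e3 q2341 L20419 q2341, e3 q2342 L20422 q2342, e3 q2343 L20432 q2343, e3 q2344 L22640 q2595, e3 q2345 (flp_f L21277) q2437, e3 q2346 L20452 q2346, e3 q2347 L22676 q2600, e3 q2348 L20466 q2348, e3 q2349 (flp_f L20467) q2102, e3 q2350 (flp_f L22700) q2603, e3 q2351 L20484 q2351, e3 q2352 (flp_f L20487) q2104, e3 q2353 (flp_f L22712) q2605, e3 q2354 L20505 q2107, e3 q2355 L20513 q2355, e3 q2356 L20522 q2356, e3 q2357 L20527 q2357, e3 q2358 L20537 q2358, e3 q2359 (flp_f L20538) q2117, e3 q2360 L22714 q2606, e3 q2361 L20555 q2361, e3 q2362 (flp_f L20556) q2121, e3 q2363 (flp_f L20562) q2122, e3 q2364 L20574 q2138, e3 q2365 L20587 q2127, e3 q2366 (flp_f L22751) q2610, e3 q2367 (flp_f L22770) q2611, trivial⟩ (by decide +kernel)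

theorem ce_f_37 : ∀ r, r < 64 → sm gf (Qf (2368 + r)) = Qf (tab Gen.f (2368 + r)) :=
  edges_tab (sm gf) Qf (tab Gen.f) 2368 [(2368, 2368), (2369, 2369), (2370, 2131), (2371, 2133), (2372, 2134), (2373, 2619), (2374, 2618), (2375, 2375), (2376, 2376), (2377, 2377), (2378, 2608), (2379, 2609), (2380, 2380), (2381, 2381), (2382, 2246), (2383, 2248), (2384, 2144), (2385, 2145), (2386, 2633), (2387, 2252), (2388, 2253), (2389, 2258), (2390, 2259), (2391, 2391), (2392, 2151), (2393, 2641), (2394, 2642), (2395, 2262), (2396, 2647), (2397, 2264), (2398, 2398), (2399, 2155), (2400, 2156), (2401, 2654), (2402, 2653), (2403, 2157), (2404, 2657), (2405, 2271), (2406, 2272), (2407, 2407), (2408, 2333), (2409, 2275), (2410, 2162), (2411, 2664), (2412, 2278), (2413, 2279), (2414, 2414), (2415, 2415), (2416, 2671), (2417, 2168), (2418, 2167), (2419, 2675), (2420, 2673), (2421, 2170), (2422, 2677), (2423, 2678), (2424, 2289), (2425, 2290), (2426, 2175), (2427, 2176),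 (2428, 2255), (2429, 2684), (2430, 2293), (2431, 2294)]
    ⟨e3 q2368 L20617 q2368, e3 q2369 L20629 q2369, e3 q2370 L20641 q2131, e3 q2371 L20647 q2133, e3 q2372 L20657 q2134, e3 q2373 L22855 q2619, e3 q2374 (flp_f L22853) q2618, e3 q2375 L20680 q2375, e3 q2376 L20690 q2376, e3 q2377 L20698 q2377, e3 q2378 (flp_f L22730) q2608, e3 q2379 (flp_f L22741) q2609, e3 q2380 L20724 q2380, e3 q2381 L20734 q2381, e3 q2382 L20741 q2246, e3 q2383 L20759 q2248, e3 q2384 L20769 q2144, e3 q2385 L20783 q2145, e3 q2386 (flp_f L23001) q2633, e3 q2387 L20807 q2252, e3 q2388 L20821 q2253, e3 q2389 L20835 q2258, e3 q2390 L20848 q2259, e3 q2391 L20862 q2391, e3 q2392 L20870 q2151, e3 q2393 (flp_f L23098) q2641, e3 q2394 (flp_f L23108) q2642, e3 q2395 L20900 q2262, e3 q2396 L23156 q2647, e3 q2397 L20924 q2264, e3 q2398 L20932 q2398, e3 q2399 L20939 q2155, e3 q2400 L20948 q2156, e3 q2401 L23227 q2654, e3 q2402 (flp_f L23225) q2653, e3 q2403 (flp_f L20969) q2157, e3 q2404 (flp_f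 L23263) q2657, e3 q2405 L20994 q2271, e3 q2406 L21004 q2272, e3 q2407 L21013 q2407, e3 q2408 (flp_f L21028) q2333, e3 q2409 L21036 q2275, e3 q2410 (flp_f L21038) q2162, e3 q2411 (flp_f L23333) q2664, e3 q2412 L21065 q2278, e3 q2413 L21075 q2279, e3 q2414 L21081 q2414, e3 q2415 L21091 q2415, e3 q2416 L23384 q2671, e3 q2417 L21107 q2168, e3 q2418 (flp_f L21109) q2167, e3 q2419 (flp_f L23420) q2675, e3 q2420 (flp_f L23401) q2673, e3 q2421 L21136 q2170, e3 q2422 (flp_f L23434) q2677, e3 q2423 (flp_f L23444) q2678, e3 q2424 L21159 q2289, e3 q2425 L21168 q2290, e3 q2426 L21173 q2175, e3 q2427 L21186 q2176, e3 q2428 L21195 q2255, e3 q2429 (flp_f L23494) q2684, e3 q2430 L21213 q2293, e3 q2431 L21223 q2294, trivial⟩ (by decide +kernel)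

theorem ce_f_38 : ∀ r, r < 64 → sm gf (Qf (2432 + r)) = Qf (tab Gen.f (2432 + r)) :=
  edges_tab (sm gf) Qf (tab Gen.f) 2432 [(2432, 2295), (2433, 2242), (2434, 2338), (2435, 2339), (2436, 2694), (2437, 2345), (2438, 2274), (2439, 2185), (2440, 2698), (2441, 2296), (2442, 2188), (2443, 2189), (2444, 2702), (2445, 2298), (2446, 2299), (2447, 2301), (2448, 2302), (2449, 2708), (2450, 2197), (2451, 2196), (2452, 2712), (2453, 2710), (2454, 2247), (2455, 2336), (2456, 2305), (2457, 2457), (2458, 2202), (2459, 2300), (2460, 2334), (2461, 2310), (2462, 2311), (2463, 2463), (2464, 2464), (2465, 2632), (2466, 2209), (2467, 2729), (2468, 2335), (2469, 2314), (2470, 2315), (2471, 2316), (2472, 2317), (2473, 2217), (2474, 2733), (2475, 2734), (2476, 2320), (2477, 2740), (2478, 2322), (2479, 2743), (2480, 2480), (2481, 2222), (2482, 2747), (2483, 2226), (2484, 2484), (2485, 2225), (2486, 2750), (2487, 2229), (2488, 2307), (2489, 2329), (2490, 2330), (2491, 2251),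 (2492, 2256), (2493, 2331), (2494, 2332), (2495, 2313)]
    ⟨e3 q2432 L21228 q2295, e3 q2433 L21238 q2242, e3 q2434 L21245 q2338, e3 q2435 L21258 q2339, e3 q2436 L23585 q2694, e3 q2437 L21277 q2345, e3 q2438 L21291 q2274, e3 q2439 L21302 q2185, e3 q2440 (flp_f L23633) q2698, e3 q2441 L21326 q2296, e3 q2442 L21334 q2188, e3 q2443 L21347 q2189, e3 q2444 (flp_f L23682) q2702, e3 q2445 L21369 q2298, e3 q2446 L21382 q2299, e3 q2447 L21388 q2301, e3 q2448 L21400 q2302, e3 q2449 L23737 q2708, e3 q2450 L21419 q2197, e3 q2451 (flp_f L21423) q2196, e3 q2452 (flp_f L23779) q2712, e3 q2453 (flp_f L23758) q2710, e3 q2454 L21451 q2247, e3 q2455 L21471 q2336, e3 q2456 L21480 q2305, e3 q2457 L21487 q2457, e3 q2458 L21495 q2202, e3 q2459 L21504 q2300, e3 q2460 L21516 q2334, e3 q2461 L21524 q2310, e3 q2462 L21534 q2311, e3 q2463 L21540 q2463, e3 q2464 L21551 q2464, e3 q2465 (flp_f L22990) q2632, e3 q2466 L21569 q2209, e3 q2467 (flp_f L23945) q2729, e3 q2468 L21587 q2335,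 e3 q2469 L21598 q2314, e3 q2470 L21612 q2315, e3 q2471 L21620 q2316, e3 q2472 L21629 q2317, e3 q2473 L21638 q2217, e3 q2474 (flp_f L23976) q2733, e3 q2475 (flp_f L23991) q2734, e3 q2476 L21658 q2320, e3 q2477 L24028 q2740, e3 q2478 L21670 q2322, e3 q2479 L24044 q2743, e3 q2480 L21683 q2480, e3 q2481 (flp_f L21686) q2222, e3 q2482 (flp_f L24080) q2747, e3 q2483 L21700 q2226, e3 q2484 L21711 q2484, e3 q2485 L21717 q2225, e3 q2486 (flp_f L24101) q2750, e3 q2487 L21735 q2229, e3 q2488 L21750 q2307, e3 q2489 L21759 q2329, e3 q2490 L21770 q2330, e3 q2491 L21775 q2251, e3 q2492 L21789 q2256, e3 q2493 L21798 q2331, e3 q2494 L21810 q2332, e3 q2495 L21820 q2313, trivial⟩ (by decide +kernel)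

theorem ce_f_39 : ∀ r, r < 64 → sm gf (Qf (2496 + r)) = Qf (tab Gen.f (2496 + r)) :=
  edges_tab (sm gf) Qf (tab Gen.f) 2496 [(2496, 2337), (2497, 2691), (2498, 2692), (2499, 2499), (2500, 2500), (2501, 2629), (2502, 2714), (2503, 2630), (2504, 2631), (2505, 2505), (2506, 2685), (2507, 2753), (2508, 2635), (2509, 2636), (2510, 2686), (2511, 2287), (2512, 2292), (2513, 2637), (2514, 2639), (2515, 2261), (2516, 2646), (2517, 2263), (2518, 2777), (2519, 2649), (2520, 2650), (2521, 2521), (2522, 2697), (2523, 2268), (2524, 2270), (2525, 2770), (2526, 2784), (2527, 2659), (2528, 2660), (2529, 2662), (2530, 2663), (2531, 2277), (2532, 2791), (2533, 2792), (2534, 2667), (2535, 2798), (2536, 2669), (2537, 2537), (2538, 2282), (2539, 2802), (2540, 2540), (2541, 2285), (2542, 2288), (2543, 2766), (2544, 2771), (2545, 2680), (2546, 2681), (2547, 2682), (2548, 2772), (2549, 2688), (2550, 2689), (2551, 2690), (2552, 2699), (2553, 2700), (2554, 2704), (2555, 2705),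 (2556, 2719), (2557, 2720), (2558, 2318), (2559, 2716)]
    ⟨e3 q2496 L21831 q2337, e3 q2497 (flp_f L23559) q2691, e3 q2498 (flp_f L23570) q2692, e3 q2499 L21861 q2499, e3 q2500 L21873 q2500, e3 q2501 (flp_f L22950) q2629, e3 q2502 (flp_f L23798) q2714, e3 q2503 (flp_f L22960) q2630, e3 q2504 (flp_f L22974) q2631, e3 q2505 L21927 q2505, e3 q2506 (flp_f L23502) q2685, e3 q2507 (flp_f L24131) q2753, e3 q2508 (flp_f L23023) q2635, e3 q2509 (flp_f L23039) q2636, e3 q2510 (flp_f L23516) q2686, e3 q2511 L21983 q2287, e3 q2512 L21993 q2292, e3 q2513 (flp_f L23049) q2637, e3 q2514 (flp_f L23080) q2639, e3 q2515 L22021 q2261, e3 q2516 (flp_f L23154) q2646, e3 q2517 (flp_f L22038) q2263, e3 q2518 (flp_f L24386) q2777, e3 q2519 (flp_f L23185) q2649, e3 q2520 (flp_f L23195) q2650, e3 q2521 L22087 q2521, e3 q2522 (flp_f L23622) q2697, e3 q2523 L22112 q2268, e3 q2524 L22124 q2270, e3 q2525 (flp_f L24307) q2770, e3 q2526 (flp_f L24457) q2784, e3 q2527 (flp_f L23284)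 q2659, e3 q2528 (flp_f L23298) q2660, e3 q2529 (flp_f L23314) q2662, e3 q2530 (flp_f L23324) q2663, e3 q2531 L22180 q2277, e3 q2532 (flp_f L24510) q2791, e3 q2533 (flp_f L24519) q2792, e3 q2534 (flp_f L23357) q2667, e3 q2535 L24552 q2798, e3 q2536 (flp_f L23373) q2669, e3 q2537 L22223 q2537, e3 q2538 (flp_f L22228) q2282, e3 q2539 (flp_f L24588) q2802, e3 q2540 L22253 q2540, e3 q2541 L22259 q2285, e3 q2542 L22266 q2288, e3 q2543 (flp_f L24271) q2766, e3 q2544 (flp_f L24317) q2771, e3 q2545 (flp_f L23460) q2680, e3 q2546 (flp_f L23469) q2681, e3 q2547 (flp_f L23475) q2682, e3 q2548 (flp_f L24324) q2772, e3 q2549 (flp_f L23532) q2688, e3 q2550 (flp_f L23544) q2689, e3 q2551 (flp_f L23551) q2690, e3 q2552 (flp_f L23643) q2699, e3 q2553 (flp_f L23659) q2700, e3 q2554 (flp_f L23698) q2704, e3 q2555 (flp_f L23713) q2705, e3 q2556 (flp_f L23842) q2719, e3 q2557 (flp_f L23857) q2720, e3 q2558 L22392 q2318, e3 q2559 (flp_f L23817) q2716, trivial⟩ (by decide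 +kernel)

theorem ce_f_40 : ∀ r, r < 64 → sm gf (Qf (2560 + r)) = Qf (tab Gen.f (2560 + r)) :=
  edges_tab (sm gf) Qf (tab Gen.f) 2560 [(2560, 2707), (2561, 2561), (2562, 2717), (2563, 2319), (2564, 2723), (2565, 2725), (2566, 2661), (2567, 2730), (2568, 2721), (2569, 2825), (2570, 2732), (2571, 2828), (2572, 2815), (2573, 2737), (2574, 2834), (2575, 2739), (2576, 2321), (2577, 2837), (2578, 2742), (2579, 2323), (2580, 2839), (2581, 2751), (2582, 2326), (2583, 2583), (2584, 2752), (2585, 2754), (2586, 2645), (2587, 2715), (2588, 2722), (2589, 2638), (2590, 2693), (2591, 2591), (2592, 2592), (2593, 2593), (2594, 2594), (2595, 2344), (2596, 2846), (2597, 2696), (2598, 2848), (2599, 2599), (2600, 2347), (2601, 2851), (2602, 2602), (2603, 2350), (2604, 2853), (2605, 2353), (2606, 2360), (2607, 2854), (2608, 2378), (2609, 2379), (2610, 2366), (2611, 2367), (2612, 2859), (2613, 2858), (2614, 2614), (2615, 2615), (2616, 2616), (2617, 2863), (2618, 2374), (2619,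 2373), (2620, 2867), (2621, 2865), (2622, 2622), (2623, 2623)]
    ⟨e3 q2560 (flp_f L23733) q2707, e3 q2561 L22415 q2561, e3 q2562 (flp_f L23826) q2717, e3 q2563 L22432 q2319, e3 q2564 (flp_f L23893) q2723, e3 q2565 (flp_f L23913) q2725, e3 q2566 (flp_f L23306) q2661, e3 q2567 (flp_f L23955) q2730, e3 q2568 (flp_f L23867) q2721, e3 q2569 L24743 q2825, e3 q2570 (flp_f L23970) q2732, e3 q2571 L24759 q2828, e3 q2572 (flp_f L24687) q2815, e3 q2573 (flp_f L24013) q2737, e3 q2574 L24793 q2834, e3 q2575 (flp_f L24026) q2739, e3 q2576 (flp_f L22505) q2321, e3 q2577 (flp_f L24815) q2837, e3 q2578 (flp_f L24042) q2742, e3 q2579 (flp_f L22517) q2323, e3 q2580 (flp_f L24826) q2839, e3 q2581 (flp_f L24109) q2751, e3 q2582 L22548 q2326, e3 q2583 L22556 q2583, e3 q2584 (flp_f L24122) q2752, e3 q2585 (flp_f L24143) q2754, e3 q2586 (flp_f L23144) q2645, e3 q2587 (flp_f L23809) q2715, e3 q2588 (flp_f L23883) q2722, e3 q2589 (flp_f L23069) q2638, e3 q2590 (flp_f L23582)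 q2693, e3 q2591 L22616 q2591, e3 q2592 L22626 q2592, e3 q2593 L22631 q2593, e3 q2594 L22639 q2594, e3 q2595 (flp_f L22640) q2344, e3 q2596 (flp_f L24880) q2846, e3 q2597 (flp_f L23608) q2696, e3 q2598 L24890 q2848, e3 q2599 L22675 q2599, e3 q2600 (flp_f L22676) q2347, e3 q2601 (flp_f L24916) q2851, e3 q2602 L22692 q2602, e3 q2603 L22700 q2350, e3 q2604 (flp_f L24929) q2853, e3 q2605 L22712 q2353, e3 q2606 (flp_f L22714) q2360, e3 q2607 (flp_f L24936) q2854, e3 q2608 L22730 q2378, e3 q2609 L22741 q2379, e3 q2610 L22751 q2366, e3 q2611 L22770 q2367, e3 q2612 L24988 q2859, e3 q2613 (flp_f L24984) q2858, e3 q2614 L22798 q2614, e3 q2615 L22815 q2615, e3 q2616 L22830 q2616, e3 q2617 L25035 q2863, e3 q2618 L22853 q2374, e3 q2619 (flp_f L22855) q2373, e3 q2620 (flp_f L25089) q2867, e3 q2621 (flp_f L25067) q2865, e3 q2622 L22885 q2622, e3 q2623 L22899 q2623, trivial⟩ (by decide +kernel)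

theorem ce_f_41 : ∀ r, r < 64 → sm gf (Qf (2624 + r)) = Qf (tab Gen.f (2624 + r)) :=
  edges_tab (sm gf) Qf (tab Gen.f) 2624 [(2624, 2855), (2625, 2857), (2626, 2626), (2627, 2627), (2628, 2628), (2629, 2501), (2630, 2503), (2631, 2504), (2632, 2465), (2633, 2386), (2634, 2884), (2635, 2508), (2636, 2509), (2637, 2513), (2638, 2589), (2639, 2514), (2640, 2640), (2641, 2393), (2642, 2394), (2643, 2872), (2644, 2892), (2645, 2586), (2646, 2516), (2647, 2396), (2648, 2898), (2649, 2519), (2650, 2520), (2651, 2651), (2652, 2904), (2653, 2402), (2654, 2401), (2655, 2907), (2656, 2906), (2657, 2404), (2658, 2909), (2659, 2527), (2660, 2528), (2661, 2566), (2662, 2529), (2663, 2530), (2664, 2411), (2665, 2917), (2666, 2918), (2667, 2534), (2668, 2922), (2669, 2536), (2670, 2670), (2671, 2416), (2672, 2927), (2673, 2420), (2674, 2674), (2675, 2419), (2676, 2930), (2677, 2422), (2678, 2423), (2679, 2931), (2680, 2545), (2681, 2546), (2682, 2547), (2683, 2856),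 (2684, 2429), (2685, 2506), (2686, 2510), (2687, 2937)]
    ⟨e3 q2624 (flp_f L24941) q2855, e3 q2625 (flp_f L24969) q2857, e3 q2626 L22923 q2626, e3 q2627 L22933 q2627, e3 q2628 L22939 q2628, e3 q2629 L22950 q2501, e3 q2630 L22960 q2503, e3 q2631 L22974 q2504, e3 q2632 L22990 q2465, e3 q2633 L23001 q2386, e3 q2634 (flp_f L25280) q2884, e3 q2635 L23023 q2508, e3 q2636 L23039 q2509, e3 q2637 L23049 q2513, e3 q2638 L23069 q2589, e3 q2639 L23080 q2514, e3 q2640 L23089 q2640, e3 q2641 L23098 q2393, e3 q2642 L23108 q2394, e3 q2643 (flp_f L25141) q2872, e3 q2644 (flp_f L25383) q2892, e3 q2645 L23144 q2586, e3 q2646 L23154 q2516, e3 q2647 (flp_f L23156) q2396, e3 q2648 (flp_f L25450) q2898, e3 q2649 L23185 q2519, e3 q2650 L23195 q2520, e3 q2651 L23205 q2651, e3 q2652 L25508 q2904, e3 q2653 L23225 q2402, e3 q2654 (flp_f L23227) q2401, e3 q2655 (flp_f L25548) q2907, e3 q2656 (flp_f L25535) q2906, e3 q2657 L23263 q2404, e3 q2658 (flp_f L25570) q2909, e3 q2659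 L23284 q2527, e3 q2660 L23298 q2528, e3 q2661 L23306 q2566, e3 q2662 L23314 q2529, e3 q2663 L23324 q2530, e3 q2664 L23333 q2411, e3 q2665 (flp_f L25648) q2917, e3 q2666 (flp_f L25661) q2918, e3 q2667 L23357 q2534, e3 q2668 L25691 q2922, e3 q2669 L23373 q2536, e3 q2670 L23381 q2670, e3 q2671 (flp_f L23384) q2416, e3 q2672 (flp_f L25742) q2927, e3 q2673 L23401 q2420, e3 q2674 L23413 q2674, e3 q2675 L23420 q2419, e3 q2676 (flp_f L25766) q2930, e3 q2677 L23434 q2422, e3 q2678 L23444 q2423, e3 q2679 (flp_f L25775) q2931, e3 q2680 L23460 q2545, e3 q2681 L23469 q2546, e3 q2682 L23475 q2547, e3 q2683 (flp_f L24960) q2856, e3 q2684 L23494 q2429, e3 q2685 L23502 q2506, e3 q2686 L23516 q2510, e3 q2687 (flp_f L25831) q2937, trivial⟩ (by decide +kernel)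

theorem ce_f_42 : ∀ r, r < 64 → sm gf (Qf (2688 + r)) = Qf (tab Gen.f (2688 + r)) :=
  edges_tab (sm gf) Qf (tab Gen.f) 2688 [(2688, 2549), (2689, 2550), (2690, 2551), (2691, 2497), (2692, 2498), (2693, 2590), (2694, 2436), (2695, 2944), (2696, 2597), (2697, 2522), (2698, 2440), (2699, 2552), (2700, 2553), (2701, 2891), (2702, 2444), (2703, 2951), (2704, 2554), (2705, 2555), (2706, 2954), (2707, 2560), (2708, 2449), (2709, 2957), (2710, 2453), (2711, 2711), (2712, 2452), (2713, 2960), (2714, 2502), (2715, 2587), (2716, 2559), (2717, 2562), (2718, 2718), (2719, 2556), (2720, 2557), (2721, 2568), (2722, 2588), (2723, 2564), (2724, 2881), (2725, 2565), (2726, 2975), (2727, 2727), (2728, 2883), (2729, 2467), (2730, 2567), (2731, 2979), (2732, 2570), (2733, 2474), (2734, 2475), (2735, 2984), (2736, 2983), (2737, 2573), (2738, 2990), (2739, 2575), (2740, 2477), (2741, 2994), (2742, 2578), (2743, 2479), (2744, 2997), (2745, 2745), (2746, 2996), (2747, 2482),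 (2748, 3000), (2749, 2749), (2750, 2486), (2751, 2581)]
    ⟨e3 q2688 L23532 q2549, e3 q2689 L23544 q2550, e3 q2690 L23551 q2551, e3 q2691 L23559 q2497, e3 q2692 L23570 q2498, e3 q2693 L23582 q2590, e3 q2694 (flp_f L23585) q2436, e3 q2695 (flp_f L25909) q2944, e3 q2696 L23608 q2597, e3 q2697 L23622 q2522, e3 q2698 L23633 q2440, e3 q2699 L23643 q2552, e3 q2700 L23659 q2553, e3 q2701 (flp_f L25373) q2891, e3 q2702 L23682 q2444, e3 q2703 (flp_f L25987) q2951, e3 q2704 L23698 q2554, e3 q2705 L23713 q2555, e3 q2706 L26017 q2954, e3 q2707 L23733 q2560, e3 q2708 (flp_f L23737) q2449, e3 q2709 (flp_f L26055) q2957, e3 q2710 L23758 q2453, e3 q2711 L23772 q2711, e3 q2712 L23779 q2452, e3 q2713 (flp_f L26079) q2960, e3 q2714 L23798 q2502, e3 q2715 L23809 q2587, e3 q2716 L23817 q2559, e3 q2717 L23826 q2562, e3 q2718 L23833 q2718, e3 q2719 L23842 q2556, e3 q2720 L23857 q2557, e3 q2721 L23867 q2568, e3 q2722 L23883 q2588, e3 q2723 L23893 q2564, e3 q2724 (flp_f L25246)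 q2881, e3 q2725 L23913 q2565, e3 q2726 L26231 q2975, e3 q2727 L23930 q2727, e3 q2728 (flp_f L25269) q2883, e3 q2729 L23945 q2467, e3 q2730 L23955 q2567, e3 q2731 L26270 q2979, e3 q2732 L23970 q2570, e3 q2733 L23976 q2474, e3 q2734 L23991 q2475, e3 q2735 L26311 q2984, e3 q2736 (flp_f L26307) q2983, e3 q2737 L24013 q2573, e3 q2738 L26352 q2990, e3 q2739 L24026 q2575, e3 q2740 (flp_f L24028) q2477, e3 q2741 (flp_f L26386) q2994, e3 q2742 L24042 q2578, e3 q2743 (flp_f L24044) q2479, e3 q2744 (flp_f L26409) q2997, e3 q2745 L24061 q2745, e3 q2746 (flp_f L26401) q2996, e3 q2747 L24080 q2482, e3 q2748 (flp_f L26433) q3000, e3 q2749 L24095 q2749, e3 q2750 L24101 q2486, e3 q2751 L24109 q2581, trivial⟩ (by decide +kernel)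

theorem ce_f_43 : ∀ r, r < 64 → sm gf (Qf (2752 + r)) = Qf (tab Gen.f (2752 + r)) :=
  edges_tab (sm gf) Qf (tab Gen.f) 2752 [(2752, 2584), (2753, 2507), (2754, 2585), (2755, 2942), (2756, 2756), (2757, 2757), (2758, 2758), (2759, 2878), (2760, 2879), (2761, 2961), (2762, 2962), (2763, 2880), (2764, 2882), (2765, 2938), (2766, 2543), (2767, 2885), (2768, 2886), (2769, 2939), (2770, 2525), (2771, 2544), (2772, 2548), (2773, 2888), (2774, 2889), (2775, 2896), (2776, 2897), (2777, 2518), (2778, 3020), (2779, 3021), (2780, 2901), (2781, 2946), (2782, 2903), (2783, 2947), (2784, 2526), (2785, 2926), (2786, 3015), (2787, 2910), (2788, 2911), (2789, 2914), (2790, 2916), (2791, 2532), (2792, 2533), (2793, 3009), (2794, 3035), (2795, 2920), (2796, 3041), (2797, 2921), (2798, 2535), (2799, 3045), (2800, 2924), (2801, 2895), (2802, 2539), (2803, 2803), (2804, 3013), (2805, 3016), (2806, 2933), (2807, 2934), (2808, 2935), (2809, 2940), (2810, 2941), (2811, 2949),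 (2812, 2953), (2813, 2968), (2814, 2965), (2815, 2572)]
    ⟨e3 q2752 L24122 q2584, e3 q2753 L24131 q2507, e3 q2754 L24143 q2585, e3 q2755 (flp_f L25887) q2942, e3 q2756 L24163 q2756, e3 q2757 L24175 q2757, e3 q2758 L24183 q2758, e3 q2759 (flp_f L25204) q2878, e3 q2760 (flp_f L25218) q2879, e3 q2761 (flp_f L26088) q2961, e3 q2762 (flp_f L26103) q2962, e3 q2763 (flp_f L25228) q2880, e3 q2764 (flp_f L25256) q2882, e3 q2765 (flp_f L25846) q2938, e3 q2766 L24271 q2543, e3 q2767 (flp_f L25296) q2885, e3 q2768 (flp_f L25307) q2886, e3 q2769 (flp_f L25855) q2939, e3 q2770 L24307 q2525, e3 q2771 L24317 q2544, e3 q2772 L24324 q2548, e3 q2773 (flp_f L25333) q2888, e3 q2774 (flp_f L25346) q2889, e3 q2775 (flp_f L25425) q2896, e3 q2776 (flp_f L25437) q2897, e3 q2777 L24386 q2518, e3 q2778 (flp_f L26632) q3020, e3 q2779 (flp_f L26645) q3021, e3 q2780 (flp_f L25480) q2901, e3 q2781 (flp_f L25926) q2946, e3 q2782 (flp_f L25506) q2903, e3 q2783 (flp_f L25941) q2947,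 e3 q2784 L24457 q2526, e3 q2785 (flp_f L25734) q2926, e3 q2786 (flp_f L26582) q3015, e3 q2787 (flp_f L25586) q2910, e3 q2788 (flp_f L25595) q2911, e3 q2789 (flp_f L25624) q2914, e3 q2790 (flp_f L25642) q2916, e3 q2791 L24510 q2532, e3 q2792 L24519 q2533, e3 q2793 (flp_f L26519) q3009, e3 q2794 (flp_f L26769) q3035, e3 q2795 (flp_f L25679) q2920, e3 q2796 L26808 q3041, e3 q2797 (flp_f L25689) q2921, e3 q2798 (flp_f L24552) q2535, e3 q2799 (flp_f L26838) q3045, e3 q2800 (flp_f L25711) q2924, e3 q2801 (flp_f L25415) q2895, e3 q2802 L24588 q2539, e3 q2803 L24597 q2803, e3 q2804 (flp_f L26564) q3013, e3 q2805 (flp_f L26588) q3016, e3 q2806 (flp_f L25794) q2933, e3 q2807 (flp_f L25807) q2934, e3 q2808 (flp_f L25813) q2935, e3 q2809 (flp_f L25869) q2940, e3 q2810 (flp_f L25877) q2941, e3 q2811 (flp_f L25967) q2949, e3 q2812 (flp_f L26013) q2953, e3 q2813 (flp_f L26166) q2968, e3 q2814 (flp_f L26136) q2965, e3 q2815 L24687 q2572, trivial⟩ (by decide +kernel)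

theorem ce_f_44 : ∀ r, r < 64 → sm gf (Qf (2816 + r)) = Qf (tab Gen.f (2816 + r)) :=
  edges_tab (sm gf) Qf (tab Gen.f) 2816 [(2816, 2966), (2817, 2956), (2818, 2912), (2819, 2972), (2820, 2974), (2821, 2913), (2822, 2963), (2823, 3064), (2824, 2970), (2825, 2569), (2826, 3067), (2827, 2981), (2828, 2571), (2829, 3069), (2830, 3057), (2831, 2987), (2832, 3072), (2833, 2989), (2834, 2574), (2835, 3075), (2836, 2992), (2837, 2577), (2838, 3077), (2839, 2580), (2840, 3003), (2841, 2887), (2842, 2964), (2843, 2943), (2844, 2844), (2845, 2845), (2846, 2596), (2847, 3080), (2848, 2598), (2849, 3081), (2850, 2850), (2851, 2601), (2852, 3083), (2853, 2604), (2854, 2607), (2855, 2624), (2856, 2683), (2857, 2625), (2858, 2613), (2859, 2612), (2860, 3089), (2861, 3088), (2862, 2862), (2863, 2617), (2864, 3092), (2865, 2621), (2866, 2866), (2867, 2620), (2868, 3095), (2869, 2869), (2870, 2870), (2871, 2871), (2872, 2643), (2873, 3085), (2874, 3087), (2875, 2875),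 (2876, 2876), (2877, 2877), (2878, 2759), (2879, 2760)]
    ⟨e3 q2816 (flp_f L26145) q2966, e3 q2817 (flp_f L26041) q2956, e3 q2818 (flp_f L25604) q2912, e3 q2819 (flp_f L26213) q2972, e3 q2820 (flp_f L26229) q2974, e3 q2821 (flp_f L25616) q2913, e3 q2822 (flp_f L26113) q2963, e3 q2823 L26976 q3064, e3 q2824 (flp_f L26190) q2970, e3 q2825 (flp_f L24743) q2569, e3 q2826 (flp_f L27000) q3067, e3 q2827 (flp_f L26284) q2981, e3 q2828 (flp_f L24759) q2571, e3 q2829 (flp_f L27012) q3069, e3 q2830 (flp_f L26935) q3057, e3 q2831 (flp_f L26335) q2987, e3 q2832 L27028 q3072, e3 q2833 (flp_f L26350) q2989, e3 q2834 (flp_f L24793) q2574, e3 q2835 (flp_f L27052) q3075, e3 q2836 (flp_f L26370) q2992, e3 q2837 L24815 q2577, e3 q2838 (flp_f L27062) q3077, e3 q2839 L24826 q2580, e3 q2840 (flp_f L26455) q3003, e3 q2841 (flp_f L25323) q2887, e3 q2842 (flp_f L26126) q2964, e3 q2843 (flp_f L25896) q2943, e3 q2844 L24866 q2844, e3 q2845 L24873 q2845, e3 q2846 L24880 q2596,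 e3 q2847 (flp_f L27081) q3080, e3 q2848 (flp_f L24890) q2598, e3 q2849 (flp_f L27090) q3081, e3 q2850 L24909 q2850, e3 q2851 L24916 q2601, e3 q2852 (flp_f L27105) q3083, e3 q2853 L24929 q2604, e3 q2854 L24936 q2607, e3 q2855 L24941 q2624, e3 q2856 L24960 q2683, e3 q2857 L24969 q2625, e3 q2858 L24984 q2613, e3 q2859 (flp_f L24988) q2612, e3 q2860 (flp_f L27174) q3089, e3 q2861 (flp_f L27157) q3088, e3 q2862 L25032 q2862, e3 q2863 (flp_f L25035) q2617, e3 q2864 (flp_f L27213) q3092, e3 q2865 L25067 q2621, e3 q2866 L25082 q2866, e3 q2867 L25089 q2620, e3 q2868 (flp_f L27249) q3095, e3 q2869 L25106 q2869, e3 q2870 L25124 q2870, e3 q2871 L25133 q2871, e3 q2872 L25141 q2643, e3 q2873 (flp_f L27121) q3085, e3 q2874 (flp_f L27142) q3087, e3 q2875 L25176 q2875, e3 q2876 L25188 q2876, e3 q2877 L25196 q2877, e3 q2878 L25204 q2759, e3 q2879 L25218 q2760, trivial⟩ (by decide +kernel)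

theorem ce_f_45 : ∀ r, r < 64 → sm gf (Qf (2880 + r)) = Qf (tab Gen.f (2880 + r)) :=
  edges_tab (sm gf) Qf (tab Gen.f) 2880 [(2880, 2763), (2881, 2724), (2882, 2764), (2883, 2728), (2884, 2634), (2885, 2767), (2886, 2768), (2887, 2841), (2888, 2773), (2889, 2774), (2890, 2890), (2891, 2701), (2892, 2644), (2893, 3099), (2894, 3119), (2895, 2801), (2896, 2775), (2897, 2776), (2898, 2648), (2899, 3126), (2900, 3127), (2901, 2780), (2902, 3130), (2903, 2782), (2904, 2652), (2905, 3133), (2906, 2656), (2907, 2655), (2908, 3135), (2909, 2658), (2910, 2787), (2911, 2788), (2912, 2818), (2913, 2821), (2914, 2789), (2915, 3140), (2916, 2790), (2917, 2665), (2918, 2666), (2919, 3144), (2920, 2795), (2921, 2797), (2922, 2668), (2923, 3150), (2924, 2800), (2925, 2925), (2926, 2785), (2927, 2672), (2928, 3153), (2929, 2929), (2930, 2676), (2931, 2679), (2932, 3156), (2933, 2806), (2934, 2807), (2935, 2808), (2936, 3086), (2937, 2687), (2938, 2765), (2939, 2769),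 (2940, 2809), (2941, 2810), (2942, 2755), (2943, 2843)]
    ⟨e3 q2880 L25228 q2763, e3 q2881 L25246 q2724, e3 q2882 L25256 q2764, e3 q2883 L25269 q2728, e3 q2884 L25280 q2634, e3 q2885 L25296 q2767, e3 q2886 L25307 q2768, e3 q2887 L25323 q2841, e3 q2888 L25333 q2773, e3 q2889 L25346 q2774, e3 q2890 L25357 q2890, e3 q2891 L25373 q2701, e3 q2892 L25383 q2644, e3 q2893 (flp_f L27299) q3099, e3 q2894 (flp_f L27558) q3119, e3 q2895 L25415 q2801, e3 q2896 L25425 q2775, e3 q2897 L25437 q2776, e3 q2898 L25450 q2648, e3 q2899 (flp_f L27649) q3126, e3 q2900 (flp_f L27668) q3127, e3 q2901 L25480 q2780, e3 q2902 L27702 q3130, e3 q2903 L25506 q2782, e3 q2904 (flp_f L25508) q2652, e3 q2905 (flp_f L27748) q3133, e3 q2906 L25535 q2656, e3 q2907 L25548 q2655, e3 q2908 (flp_f L27769) q3135, e3 q2909 L25570 q2658, e3 q2910 L25586 q2787, e3 q2911 L25595 q2788, e3 q2912 L25604 q2818, e3 q2913 L25616 q2821, e3 q2914 L25624 q2789, e3 q2915 L27823 q3140, e3 q2916 L25642 q2790,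 e3 q2917 L25648 q2665, e3 q2918 L25661 q2666, e3 q2919 (flp_f L27874) q3144, e3 q2920 L25679 q2795, e3 q2921 L25689 q2797, e3 q2922 (flp_f L25691) q2668, e3 q2923 (flp_f L27942) q3150, e3 q2924 L25711 q2800, e3 q2925 L25717 q2925, e3 q2926 L25734 q2785, e3 q2927 L25742 q2672, e3 q2928 (flp_f L27970) q3153, e3 q2929 L25759 q2929, e3 q2930 L25766 q2676, e3 q2931 L25775 q2679, e3 q2932 (flp_f L27992) q3156, e3 q2933 L25794 q2806, e3 q2934 L25807 q2807, e3 q2935 L25813 q2808, e3 q2936 (flp_f L27134) q3086, e3 q2937 L25831 q2687, e3 q2938 L25846 q2765, e3 q2939 L25855 q2769, e3 q2940 L25869 q2809, e3 q2941 L25877 q2810, e3 q2942 L25887 q2755, e3 q2943 L25896 q2843, trivial⟩ (by decide +kernel)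

theorem ce_f_46 : ∀ r, r < 64 → sm gf (Qf (2944 + r)) = Qf (tab Gen.f (2944 + r)) :=
  edges_tab (sm gf) Qf (tab Gen.f) 2944 [(2944, 2695), (2945, 3164), (2946, 2781), (2947, 2783), (2948, 3116), (2949, 2811), (2950, 3118), (2951, 2703), (2952, 3115), (2953, 2812), (2954, 2706), (2955, 3172), (2956, 2817), (2957, 2709), (2958, 3174), (2959, 2959), (2960, 2713), (2961, 2761), (2962, 2762), (2963, 2822), (2964, 2842), (2965, 2814), (2966, 2816), (2967, 3105), (2968, 2813), (2969, 3183), (2970, 2824), (2971, 3107), (2972, 2819), (2973, 3109), (2974, 2820), (2975, 2726), (2976, 3189), (2977, 2977), (2978, 3111), (2979, 2731), (2980, 3193), (2981, 2827), (2982, 3104), (2983, 2736), (2984, 2735), (2985, 3198), (2986, 3196), (2987, 2831), (2988, 3201), (2989, 2833), (2990, 2738), (2991, 3205), (2992, 2836), (2993, 3197), (2994, 2741), (2995, 3208), (2996, 2746), (2997, 2744), (2998, 3211), (2999, 3210), (3000, 2748), (3001, 3214), (3002, 3002), (3003, 2840),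 (3004, 3163), (3005, 3005), (3006, 3006), (3007, 3106)]
    ⟨e3 q2944 L25909 q2695, e3 q2945 (flp_f L28077) q3164, e3 q2946 L25926 q2781, e3 q2947 L25941 q2783, e3 q2948 (flp_f L27526) q3116, e3 q2949 L25967 q2811, e3 q2950 (flp_f L27548) q3118, e3 q2951 L25987 q2703, e3 q2952 (flp_f L27501) q3115, e3 q2953 L26013 q2812, e3 q2954 (flp_f L26017) q2706, e3 q2955 (flp_f L28171) q3172, e3 q2956 L26041 q2817, e3 q2957 L26055 q2709, e3 q2958 (flp_f L28189) q3174, e3 q2959 L26072 q2959, e3 q2960 L26079 q2713, e3 q2961 L26088 q2761, e3 q2962 L26103 q2762, e3 q2963 L26113 q2822, e3 q2964 L26126 q2842, e3 q2965 L26136 q2814, e3 q2966 L26145 q2816, e3 q2967 (flp_f L27369) q3105, e3 q2968 L26166 q2813, e3 q2969 L28271 q3183, e3 q2970 L26190 q2824, e3 q2971 (flp_f L27396) q3107, e3 q2972 L26213 q2819, e3 q2973 (flp_f L27422) q3109, e3 q2974 L26229 q2820, e3 q2975 (flp_f L26231) q2726, e3 q2976 (flp_f L28352) q3189, e3 q2977 L26256 q2977, e3 q2978 (flp_f L27447)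 q3111, e3 q2979 (flp_f L26270) q2731, e3 q2980 (flp_f L28391) q3193, e3 q2981 L26284 q2827, e3 q2982 (flp_f L27345) q3104, e3 q2983 L26307 q2736, e3 q2984 (flp_f L26311) q2735, e3 q2985 (flp_f L28446) q3198, e3 q2986 (flp_f L28416) q3196, e3 q2987 L26335 q2831, e3 q2988 L28464 q3201, e3 q2989 L26350 q2833, e3 q2990 (flp_f L26352) q2738, e3 q2991 (flp_f L28514) q3205, e3 q2992 L26370 q2836, e3 q2993 (flp_f L28438) q3197, e3 q2994 L26386 q2741, e3 q2995 (flp_f L28536) q3208, e3 q2996 L26401 q2746, e3 q2997 L26409 q2744, e3 q2998 (flp_f L28560) q3211, e3 q2999 (flp_f L28550) q3210, e3 q3000 L26433 q2748, e3 q3001 (flp_f L28582) q3214, e3 q3002 L26444 q3002, e3 q3003 L26455 q2840, e3 q3004 (flp_f L28065) q3163, e3 q3005 L26479 q3005, e3 q3006 L26487 q3006, e3 q3007 (flp_f L27379) q3106, trivial⟩ (by decide +kernel)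

theorem ce_f_47 : ∀ r, r < 64 → sm gf (Qf (3008 + r)) = Qf (tab Gen.f (3008 + r)) :=
  edges_tab (sm gf) Qf (tab Gen.f) 3008 [(3008, 3177), (3009, 2793), (3010, 3108), (3011, 3110), (3012, 3161), (3013, 2804), (3014, 3112), (3015, 2786), (3016, 2805), (3017, 3117), (3018, 3123), (3019, 3125), (3020, 2778), (3021, 2779), (3022, 3149), (3023, 3228), (3024, 3143), (3025, 3129), (3026, 3166), (3027, 3132), (3028, 3152), (3029, 3224), (3030, 3136), (3031, 3138), (3032, 3139), (3033, 3142), (3034, 3124), (3035, 2794), (3036, 3220), (3037, 3239), (3038, 3146), (3039, 3192), (3040, 3147), (3041, 2796), (3042, 3244), (3043, 3148), (3044, 3121), (3045, 2799), (3046, 3248), (3047, 3122), (3048, 3222), (3049, 3157), (3050, 3158), (3051, 3159), (3052, 3162), (3053, 3168), (3054, 3171), (3055, 3182), (3056, 3179), (3057, 2830), (3058, 3180), (3059, 3137), (3060, 3187), (3061, 3113), (3062, 3204), (3063, 3178), (3064, 2823), (3065, 3258), (3066, 3185), (3067, 2826),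 (3068, 3260), (3069, 2829), (3070, 3261), (3071, 3200)]
    ⟨e3 q3008 (flp_f L28217) q3177, e3 q3009 L26519 q2793, e3 q3010 (flp_f L27408) q3108, e3 q3011 (flp_f L27432) q3110, e3 q3012 (flp_f L28043) q3161, e3 q3013 L26564 q2804, e3 q3014 (flp_f L27461) q3112, e3 q3015 L26582 q2786, e3 q3016 L26588 q2805, e3 q3017 (flp_f L27536) q3117, e3 q3018 (flp_f L27607) q3123, e3 q3019 (flp_f L27641) q3125, e3 q3020 L26632 q2778, e3 q3021 L26645 q2779, e3 q3022 (flp_f L27932) q3149, e3 q3023 (flp_f L28729) q3228, e3 q3024 (flp_f L27866) q3143, e3 q3025 (flp_f L27698) q3129, e3 q3026 (flp_f L28095) q3166, e3 q3027 (flp_f L27734) q3132, e3 q3028 (flp_f L27960) q3152, e3 q3029 (flp_f L28677) q3224, e3 q3030 (flp_f L27786) q3136, e3 q3031 (flp_f L27806) q3138, e3 q3032 (flp_f L27821) q3139, e3 q3033 (flp_f L27849) q3142, e3 q3034 (flp_f L27631) q3124, e3 q3035 L26769 q2794, e3 q3036 (flp_f L28644) q3220, e3 q3037 (flp_f L28831) q3239, e3 q3038 (flp_f L27894) q3146,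 e3 q3039 (flp_f L28384) q3192, e3 q3040 (flp_f L27910) q3147, e3 q3041 (flp_f L26808) q2796, e3 q3042 (flp_f L28869) q3244, e3 q3043 (flp_f L27916) q3148, e3 q3044 (flp_f L27579) q3121, e3 q3045 L26838 q2799, e3 q3046 (flp_f L28895) q3248, e3 q3047 (flp_f L27597) q3122, e3 q3048 (flp_f L28662) q3222, e3 q3049 (flp_f L28009) q3157, e3 q3050 (flp_f L28019) q3158, e3 q3051 (flp_f L28024) q3159, e3 q3052 (flp_f L28055) q3162, e3 q3053 (flp_f L28117) q3168, e3 q3054 (flp_f L28153) q3171, e3 q3055 (flp_f L28263) q3182, e3 q3056 (flp_f L28238) q3179, e3 q3057 L26935 q2830, e3 q3058 (flp_f L28244) q3180, e3 q3059 (flp_f L27797) q3137, e3 q3060 (flp_f L28330) q3187, e3 q3061 (flp_f L27472) q3113, e3 q3062 (flp_f L28505) q3204, e3 q3063 (flp_f L28227) q3178, e3 q3064 (flp_f L26976) q2823, e3 q3065 (flp_f L28957) q3258, e3 q3066 (flp_f L28305) q3185, e3 q3067 L27000 q2826, e3 q3068 (flp_f L28969) q3260, e3 q3069 L27012 q2829, e3 q3070 (flp_f L28975) q3261, e3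 q3071 (flp_f L28460) q3200, trivial⟩ (by decide +kernel)

theorem ce_f_48 : ∀ r, r < 64 → sm gf (Qf (3072 + r)) = Qf (tab Gen.f (3072 + r)) :=
  edges_tab (sm gf) Qf (tab Gen.f) 3072 [(3072, 2832), (3073, 3263), (3074, 3203), (3075, 2835), (3076, 3265), (3077, 2838), (3078, 3114), (3079, 3079), (3080, 2847), (3081, 2849), (3082, 3267), (3083, 2852), (3084, 3269), (3085, 2873), (3086, 2936), (3087, 2874), (3088, 2861), (3089, 2860), (3090, 3272), (3091, 3091), (3092, 2864), (3093, 3274), (3094, 3094), (3095, 2868), (3096, 3276), (3097, 3097), (3098, 3098), (3099, 2893), (3100, 3270), (3101, 3101), (3102, 3102), (3103, 3103), (3104, 2982), (3105, 2967), (3106, 3007), (3107, 2971), (3108, 3010), (3109, 2973), (3110, 3011), (3111, 2978), (3112, 3014), (3113, 3061), (3114, 3078), (3115, 2952), (3116, 2948), (3117, 3017), (3118, 2950), (3119, 2894), (3120, 3279), (3121, 3044), (3122, 3047), (3123, 3018), (3124, 3034), (3125, 3019), (3126, 2899), (3127, 2900),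 (3128, 3301), (3129, 3025), (3130, 2902), (3131, 3304), (3132, 3027), (3133, 2905), (3134, 3306), (3135, 2908)]
    ⟨e3 q3072 (flp_f L27028) q2832, e3 q3073 (flp_f L28989) q3263, e3 q3074 (flp_f L28490) q3203, e3 q3075 L27052 q2835, e3 q3076 (flp_f L29001) q3265, e3 q3077 L27062 q2838, e3 q3078 (flp_f L27491) q3114, e3 q3079 L27076 q3079, e3 q3080 L27081 q2847, e3 q3081 L27090 q2849, e3 q3082 (flp_f L29013) q3267, e3 q3083 L27105 q2852, e3 q3084 (flp_f L29023) q3269, e3 q3085 L27121 q2873, e3 q3086 L27134 q2936, e3 q3087 L27142 q2874, e3 q3088 L27157 q2861, e3 q3089 L27174 q2860, e3 q3090 (flp_f L29062) q3272, e3 q3091 L27197 q3091, e3 q3092 L27213 q2864, e3 q3093 (flp_f L29086) q3274, e3 q3094 L27241 q3094, e3 q3095 L27249 q2868, e3 q3096 (flp_f L29109) q3276, e3 q3097 L27271 q3097, e3 q3098 L27282 q3098, e3 q3099 L27299 q2893, e3 q3100 (flp_f L29035) q3270, e3 q3101 L27323 q3101, e3 q3102 L27332 q3102, e3 q3103 L27337 q3103, e3 q3104 L27345 q2982,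 e3 q3105 L27369 q2967, e3 q3106 L27379 q3007, e3 q3107 L27396 q2971, e3 q3108 L27408 q3010, e3 q3109 L27422 q2973, e3 q3110 L27432 q3011, e3 q3111 L27447 q2978, e3 q3112 L27461 q3014, e3 q3113 L27472 q3061, e3 q3114 L27491 q3078, e3 q3115 L27501 q2952, e3 q3116 L27526 q2948, e3 q3117 L27536 q3017, e3 q3118 L27548 q2950, e3 q3119 L27558 q2894, e3 q3120 (flp_f L29149) q3279, e3 q3121 L27579 q3044, e3 q3122 L27597 q3047, e3 q3123 L27607 q3018, e3 q3124 L27631 q3034, e3 q3125 L27641 q3019, e3 q3126 L27649 q2899, e3 q3127 L27668 q2900, e3 q3128 (flp_f L29447) q3301, e3 q3129 L27698 q3025, e3 q3130 (flp_f L27702) q2902, e3 q3131 (flp_f L29489) q3304, e3 q3132 L27734 q3027, e3 q3133 L27748 q2905, e3 q3134 (flp_f L29513) q3306, e3 q3135 L27769 q2908, trivial⟩ (by decide +kernel)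

theorem ce_f_49 : ∀ r, r < 64 → sm gf (Qf (3136 + r)) = Qf (tab Gen.f (3136 + r)) :=
  edges_tab (sm gf) Qf (tab Gen.f) 3136 [(3136, 3030), (3137, 3059), (3138, 3031), (3139, 3032), (3140, 2915), (3141, 3312), (3142, 3033), (3143, 3024), (3144, 2919), (3145, 3315), (3146, 3038), (3147, 3040), (3148, 3043), (3149, 3022), (3150, 2923), (3151, 3320), (3152, 3028), (3153, 2928), (3154, 3323), (3155, 3155), (3156, 2932), (3157, 3049), (3158, 3050), (3159, 3051), (3160, 3271), (3161, 3012), (3162, 3052), (3163, 3004), (3164, 2945), (3165, 3328), (3166, 3026), (3167, 3294), (3168, 3053), (3169, 3296), (3170, 3293), (3171, 3054), (3172, 2955), (3173, 3333), (3174, 2958), (3175, 3335), (3176, 3176), (3177, 3008), (3178, 3063), (3179, 3056), (3180, 3058), (3181, 3285), (3182, 3055), (3183, 2969), (3184, 3341), (3185, 3066), (3186, 3287), (3187, 3060), (3188, 3289), (3189, 2976), (3190, 3345), (3191, 3290), (3192, 3039), (3193, 2980), (3194, 3349), (3195, 3284),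 (3196, 2986), (3197, 2993), (3198, 2985), (3199, 3353)]
    ⟨e3 q3136 L27786 q3030, e3 q3137 L27797 q3059, e3 q3138 L27806 q3031, e3 q3139 L27821 q3032, e3 q3140 (flp_f L27823) q2915, e3 q3141 (flp_f L29590) q3312, e3 q3142 L27849 q3033, e3 q3143 L27866 q3024, e3 q3144 L27874 q2919, e3 q3145 (flp_f L29621) q3315, e3 q3146 L27894 q3038, e3 q3147 L27910 q3040, e3 q3148 L27916 q3043, e3 q3149 L27932 q3022, e3 q3150 L27942 q2923, e3 q3151 (flp_f L29681) q3320, e3 q3152 L27960 q3028, e3 q3153 L27970 q2928, e3 q3154 (flp_f L29708) q3323, e3 q3155 L27984 q3155, e3 q3156 L27992 q2932, e3 q3157 L28009 q3049, e3 q3158 L28019 q3050, e3 q3159 L28024 q3051, e3 q3160 (flp_f L29048) q3271, e3 q3161 L28043 q3012, e3 q3162 L28055 q3052, e3 q3163 L28065 q3004, e3 q3164 L28077 q2945, e3 q3165 (flp_f L29754) q3328, e3 q3166 L28095 q3026, e3 q3167 (flp_f L29346) q3294, e3 q3168 L28117 q3053, e3 q3169 (flp_f L29372) q3296, e3 q3170 (flp_f L29330) q3293, e3 q3171 L28153 q3054,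 e3 q3172 L28171 q2955, e3 q3173 (flp_f L29815) q3333, e3 q3174 L28189 q2958, e3 q3175 (flp_f L29829) q3335, e3 q3176 L28203 q3176, e3 q3177 L28217 q3008, e3 q3178 L28227 q3063, e3 q3179 L28238 q3056, e3 q3180 L28244 q3058, e3 q3181 (flp_f L29220) q3285, e3 q3182 L28263 q3055, e3 q3183 (flp_f L28271) q2969, e3 q3184 (flp_f L29901) q3341, e3 q3185 L28305 q3066, e3 q3186 (flp_f L29249) q3287, e3 q3187 L28330 q3060, e3 q3188 (flp_f L29273) q3289, e3 q3189 L28352 q2976, e3 q3190 (flp_f L29943) q3345, e3 q3191 (flp_f L29283) q3290, e3 q3192 L28384 q3039, e3 q3193 L28391 q2980, e3 q3194 (flp_f L29988) q3349, e3 q3195 (flp_f L29205) q3284, e3 q3196 L28416 q2986, e3 q3197 L28438 q2993, e3 q3198 L28446 q2985, e3 q3199 (flp_f L30029) q3353, trivial⟩ (by decide +kernel)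

theorem ce_f_50 : ∀ r, r < 64 → sm gf (Qf (3200 + r)) = Qf (tab Gen.f (3200 + r)) :=
  edges_tab (sm gf) Qf (tab Gen.f) 3200 [(3200, 3071), (3201, 2988), (3202, 3356), (3203, 3074), (3204, 3062), (3205, 2991), (3206, 3359), (3207, 3352), (3208, 2995), (3209, 3362), (3210, 2999), (3211, 2998), (3212, 3365), (3213, 3364), (3214, 3001), (3215, 3367), (3216, 3216), (3217, 3217), (3218, 3286), (3219, 3337), (3220, 3036), (3221, 3288), (3222, 3048), (3223, 3291), (3224, 3029), (3225, 3295), (3226, 3298), (3227, 3300), (3228, 3023), (3229, 3319), (3230, 3374), (3231, 3314), (3232, 3303), (3233, 3329), (3234, 3322), (3235, 3308), (3236, 3310), (3237, 3311), (3238, 3299), (3239, 3037), (3240, 3370), (3241, 3316), (3242, 3348), (3243, 3317), (3244, 3042), (3245, 3385), (3246, 3318), (3247, 3297), (3248, 3046), (3249, 3372), (3250, 3325), (3251, 3326), (3252, 3368), (3253, 3339), (3254, 3309), (3255, 3292), (3256, 3358), (3257, 3338), (3258, 3065), (3259, 3392),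 (3260, 3068), (3261, 3070), (3262, 3355), (3263, 3073)]
    ⟨e3 q3200 L28460 q3071, e3 q3201 (flp_f L28464) q2988, e3 q3202 (flp_f L30058) q3356, e3 q3203 L28490 q3074, e3 q3204 L28505 q3062, e3 q3205 L28514 q2991, e3 q3206 (flp_f L30089) q3359, e3 q3207 (flp_f L30021) q3352, e3 q3208 L28536 q2995, e3 q3209 (flp_f L30104) q3362, e3 q3210 L28550 q2999, e3 q3211 L28560 q2998, e3 q3212 (flp_f L30129) q3365, e3 q3213 (flp_f L30120) q3364, e3 q3214 L28582 q3001, e3 q3215 (flp_f L30146) q3367, e3 q3216 L28597 q3216, e3 q3217 L28602 q3217, e3 q3218 (flp_f L29230) q3286, e3 q3219 (flp_f L29849) q3337, e3 q3220 L28644 q3036, e3 q3221 (flp_f L29261) q3288, e3 q3222 L28662 q3048, e3 q3223 (flp_f L29296) q3291, e3 q3224 L28677 q3029, e3 q3225 (flp_f L29356) q3295, e3 q3226 (flp_f L29404) q3298, e3 q3227 (flp_f L29429) q3300, e3 q3228 L28729 q3023, e3 q3229 (flp_f L29671) q3319, e3 q3230 (flp_f L30208) q3374, e3 q3231 (flp_f L29613) q3314, e3 q3232 (flp_f L29473)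 q3303, e3 q3233 (flp_f L29764) q3329, e3 q3234 (flp_f L29699) q3322, e3 q3235 (flp_f L29535) q3308, e3 q3236 (flp_f L29567) q3310, e3 q3237 (flp_f L29575) q3311, e3 q3238 (flp_f L29419) q3299, e3 q3239 L28831 q3037, e3 q3240 (flp_f L30173) q3370, e3 q3241 (flp_f L29641) q3316, e3 q3242 (flp_f L29980) q3348, e3 q3243 (flp_f L29651) q3317, e3 q3244 L28869 q3042, e3 q3245 (flp_f L30299) q3385, e3 q3246 (flp_f L29655) q3318, e3 q3247 (flp_f L29389) q3297, e3 q3248 L28895 q3046, e3 q3249 (flp_f L30187) q3372, e3 q3250 (flp_f L29730) q3325, e3 q3251 (flp_f L29739) q3326, e3 q3252 (flp_f L30155) q3368, e3 q3253 (flp_f L29875) q3339, e3 q3254 (flp_f L29548) q3309, e3 q3255 (flp_f L29315) q3292, e3 q3256 (flp_f L30079) q3358, e3 q3257 (flp_f L29861) q3338, e3 q3258 L28957 q3065, e3 q3259 (flp_f L30339) q3392, e3 q3260 L28969 q3068, e3 q3261 L28975 q3070, e3 q3262 (flp_f L30043) q3355, e3 q3263 L28989 q3073, trivial⟩ (by decide +kernel)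

theorem ce_f_51 : ∀ r, r < 64 → sm gf (Qf (3264 + r)) = Qf (tab Gen.f (3264 + r)) :=
  edges_tab (sm gf) Qf (tab Gen.f) 3264 [(3264, 3394), (3265, 3076), (3266, 3396), (3267, 3082), (3268, 3397), (3269, 3084), (3270, 3100), (3271, 3160), (3272, 3090), (3273, 3401), (3274, 3093), (3275, 3275), (3276, 3096), (3277, 3403), (3278, 3278), (3279, 3120), (3280, 3399), (3281, 3281), (3282, 3282), (3283, 3400), (3284, 3195), (3285, 3181), (3286, 3218), (3287, 3186), (3288, 3221), (3289, 3188), (3290, 3191), (3291, 3223), (3292, 3255), (3293, 3170), (3294, 3167), (3295, 3225), (3296, 3169), (3297, 3247), (3298, 3226), (3299, 3238), (3300, 3227), (3301, 3128), (3302, 3419), (3303, 3232), (3304, 3131), (3305, 3421), (3306, 3134), (3307, 3423), (3308, 3235), (3309, 3254), (3310, 3236), (3311, 3237), (3312, 3141), (3313, 3426), (3314, 3231), (3315, 3145), (3316, 3241), (3317, 3243), (3318, 3246), (3319, 3229), (3320, 3151), (3321, 3433), (3322, 3234), (3323, 3154),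 (3324, 3436), (3325, 3250), (3326, 3251), (3327, 3438)]
    ⟨e3 q3264 (flp_f L30352) q3394, e3 q3265 L29001 q3076, e3 q3266 (flp_f L30362) q3396, e3 q3267 L29013 q3082, e3 q3268 (flp_f L30370) q3397, e3 q3269 L29023 q3084, e3 q3270 L29035 q3100, e3 q3271 L29048 q3160, e3 q3272 L29062 q3090, e3 q3273 (flp_f L30409) q3401, e3 q3274 L29086 q3093, e3 q3275 L29102 q3275, e3 q3276 L29109 q3096, e3 q3277 (flp_f L30437) q3403, e3 q3278 L29133 q3278, e3 q3279 L29149 q3120, e3 q3280 (flp_f L30384) q3399, e3 q3281 L29173 q3281, e3 q3282 L29181 q3282, e3 q3283 (flp_f L30396) q3400, e3 q3284 L29205 q3195, e3 q3285 L29220 q3181, e3 q3286 L29230 q3218, e3 q3287 L29249 q3186, e3 q3288 L29261 q3221, e3 q3289 L29273 q3188, e3 q3290 L29283 q3191, e3 q3291 L29296 q3223, e3 q3292 L29315 q3255, e3 q3293 L29330 q3170, e3 q3294 L29346 q3167, e3 q3295 L29356 q3225, e3 q3296 L29372 q3169, e3 q3297 L29389 q3247, e3 q3298 L29404 q3226, e3 q3299 L29419 q3238, e3 q3300 L29429 q3227,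 e3 q3301 L29447 q3128, e3 q3302 (flp_f L30688) q3419, e3 q3303 L29473 q3232, e3 q3304 L29489 q3131, e3 q3305 (flp_f L30722) q3421, e3 q3306 L29513 q3134, e3 q3307 (flp_f L30746) q3423, e3 q3308 L29535 q3235, e3 q3309 L29548 q3254, e3 q3310 L29567 q3236, e3 q3311 L29575 q3237, e3 q3312 L29590 q3141, e3 q3313 (flp_f L30788) q3426, e3 q3314 L29613 q3231, e3 q3315 L29621 q3145, e3 q3316 L29641 q3241, e3 q3317 L29651 q3243, e3 q3318 L29655 q3246, e3 q3319 L29671 q3229, e3 q3320 L29681 q3151, e3 q3321 (flp_f L30871) q3433, e3 q3322 L29699 q3234, e3 q3323 L29708 q3154, e3 q3324 (flp_f L30906) q3436, e3 q3325 L29730 q3250, e3 q3326 L29739 q3251, e3 q3327 L30928 q3438, trivial⟩ (by decide +kernel)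

theorem ce_f_52 : ∀ r, r < 64 → sm gf (Qf (3328 + r)) = Qf (tab Gen.f (3328 + r)) :=
  edges_tab (sm gf) Qf (tab Gen.f) 3328 [(3328, 3165), (3329, 3233), (3330, 3414), (3331, 3415), (3332, 3413), (3333, 3173), (3334, 3441), (3335, 3175), (3336, 3435), (3337, 3219), (3338, 3257), (3339, 3253), (3340, 3406), (3341, 3184), (3342, 3445), (3343, 3407), (3344, 3409), (3345, 3190), (3346, 3437), (3347, 3410), (3348, 3242), (3349, 3194), (3350, 3450), (3351, 3405), (3352, 3207), (3353, 3199), (3354, 3454), (3355, 3262), (3356, 3202), (3357, 3456), (3358, 3256), (3359, 3206), (3360, 3459), (3361, 3453), (3362, 3209), (3363, 3461), (3364, 3213), (3365, 3212), (3366, 3463), (3367, 3215), (3368, 3252), (3369, 3369), (3370, 3240), (3371, 3408), (3372, 3249), (3373, 3417), (3374, 3230), (3375, 3432), (3376, 3428), (3377, 3420), (3378, 3424), (3379, 3425), (3380, 3418), (3381, 3465), (3382, 3429), (3383, 3449), (3384, 3430), (3385, 3245), (3386, 3471), (3387, 3462),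 (3388, 3416), (3389, 3443), (3390, 3412), (3391, 3458)]
    ⟨e3 q3328 L29754 q3165, e3 q3329 L29764 q3233, e3 q3330 (flp_f L30607) q3414, e3 q3331 (flp_f L30619) q3415, e3 q3332 (flp_f L30591) q3413, e3 q3333 L29815 q3173, e3 q3334 (flp_f L30972) q3441, e3 q3335 L29829 q3175, e3 q3336 (flp_f L30891) q3435, e3 q3337 L29849 q3219, e3 q3338 L29861 q3257, e3 q3339 L29875 q3253, e3 q3340 (flp_f L30489) q3406, e3 q3341 L29901 q3184, e3 q3342 (flp_f L31016) q3445, e3 q3343 (flp_f L30505) q3407, e3 q3344 (flp_f L30531) q3409, e3 q3345 L29943 q3190, e3 q3346 (flp_f L30919) q3437, e3 q3347 (flp_f L30545) q3410, e3 q3348 L29980 q3242, e3 q3349 L29988 q3194, e3 q3350 (flp_f L31075) q3450, e3 q3351 (flp_f L30473) q3405, e3 q3352 L30021 q3207, e3 q3353 L30029 q3199, e3 q3354 (flp_f L31122) q3454, e3 q3355 L30043 q3262, e3 q3356 L30058 q3202, e3 q3357 (flp_f L31146) q3456, e3 q3358 L30079 q3256, e3 q3359 L30089 q3206, e3 q3360 (flp_f L31175) q3459, e3 q3361 (flp_f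 L31112) q3453, e3 q3362 L30104 q3209, e3 q3363 (flp_f L31191) q3461, e3 q3364 L30120 q3213, e3 q3365 L30129 q3212, e3 q3366 (flp_f L31207) q3463, e3 q3367 L30146 q3215, e3 q3368 L30155 q3252, e3 q3369 L30162 q3369, e3 q3370 L30173 q3240, e3 q3371 (flp_f L30517) q3408, e3 q3372 L30187 q3249, e3 q3373 (flp_f L30656) q3417, e3 q3374 L30208 q3230, e3 q3375 (flp_f L30861) q3432, e3 q3376 (flp_f L30811) q3428, e3 q3377 (flp_f L30702) q3420, e3 q3378 (flp_f L30765) q3424, e3 q3379 (flp_f L30773) q3425, e3 q3380 (flp_f L30672) q3418, e3 q3381 (flp_f L31231) q3465, e3 q3382 (flp_f L30827) q3429, e3 q3383 (flp_f L31067) q3449, e3 q3384 (flp_f L30837) q3430, e3 q3385 L30299 q3245, e3 q3386 (flp_f L31276) q3471, e3 q3387 (flp_f L31199) q3462, e3 q3388 (flp_f L30638) q3416, e3 q3389 (flp_f L30992) q3443, e3 q3390 (flp_f L30573) q3412, e3 q3391 (flp_f L31167) q3458, trivial⟩ (by decide +kernel)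

theorem ce_f_53 : ∀ r, r < 64 → sm gf (Qf (3392 + r)) = Qf (tab Gen.f (3392 + r)) :=
  edges_tab (sm gf) Qf (tab Gen.f) 3392 [(3392, 3259), (3393, 3473), (3394, 3264), (3395, 3474), (3396, 3266), (3397, 3268), (3398, 3464), (3399, 3280), (3400, 3283), (3401, 3273), (3402, 3402), (3403, 3277), (3404, 3404), (3405, 3351), (3406, 3340), (3407, 3343), (3408, 3371), (3409, 3344), (3410, 3347), (3411, 3481), (3412, 3390), (3413, 3332), (3414, 3330), (3415, 3331), (3416, 3388), (3417, 3373), (3418, 3380), (3419, 3302), (3420, 3377), (3421, 3305), (3422, 3486), (3423, 3307), (3424, 3378), (3425, 3379), (3426, 3313), (3427, 3489), (3428, 3376), (3429, 3382), (3430, 3384), (3431, 3494), (3432, 3375), (3433, 3321), (3434, 3492), (3435, 3336), (3436, 3324), (3437, 3346), (3438, 3327), (3439, 3483), (3440, 3482), (3441, 3334), (3442, 3493), (3443, 3389), (3444, 3477), (3445, 3342), (3446, 3495), (3447, 3478), (3448, 3480), (3449, 3383), (3450, 3350), (3451, 3498),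 (3452, 3476), (3453, 3361), (3454, 3354), (3455, 3500)]
    ⟨e3 q3392 L30339 q3259, e3 q3393 (flp_f L31288) q3473, e3 q3394 L30352 q3264, e3 q3395 (flp_f L31297) q3474, e3 q3396 L30362 q3266, e3 q3397 L30370 q3268, e3 q3398 (flp_f L31225) q3464, e3 q3399 L30384 q3280, e3 q3400 L30396 q3283, e3 q3401 L30409 q3273, e3 q3402 L30424 q3402, e3 q3403 L30437 q3277, e3 q3404 L30462 q3404, e3 q3405 L30473 q3351, e3 q3406 L30489 q3340, e3 q3407 L30505 q3343, e3 q3408 L30517 q3371, e3 q3409 L30531 q3344, e3 q3410 L30545 q3347, e3 q3411 (flp_f L31379) q3481, e3 q3412 L30573 q3390, e3 q3413 L30591 q3332, e3 q3414 L30607 q3330, e3 q3415 L30619 q3331, e3 q3416 L30638 q3388, e3 q3417 L30656 q3373, e3 q3418 L30672 q3380, e3 q3419 L30688 q3302, e3 q3420 L30702 q3377, e3 q3421 L30722 q3305, e3 q3422 (flp_f L31463) q3486, e3 q3423 L30746 q3307, e3 q3424 L30765 q3378, e3 q3425 L30773 q3379, e3 q3426 L30788 q3313, e3 q3427 (flp_f L31513) q3489, e3 q3428 L30811 q3376, e3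 q3429 L30827 q3382, e3 q3430 L30837 q3384, e3 q3431 L31592 q3494, e3 q3432 L30861 q3375, e3 q3433 L30871 q3321, e3 q3434 (flp_f L31562) q3492, e3 q3435 L30891 q3336, e3 q3436 L30906 q3324, e3 q3437 L30919 q3346, e3 q3438 (flp_f L30928) q3327, e3 q3439 (flp_f L31411) q3483, e3 q3440 (flp_f L31394) q3482, e3 q3441 L30972 q3334, e3 q3442 (flp_f L31590) q3493, e3 q3443 L30992 q3389, e3 q3444 (flp_f L31328) q3477, e3 q3445 L31016 q3342, e3 q3446 (flp_f L31612) q3495, e3 q3447 (flp_f L31343) q3478, e3 q3448 (flp_f L31368) q3480, e3 q3449 L31067 q3383, e3 q3450 L31075 q3350, e3 q3451 (flp_f L31654) q3498, e3 q3452 (flp_f L31313) q3476, e3 q3453 L31112 q3361, e3 q3454 L31122 q3354, e3 q3455 (flp_f L31680) q3500, trivial⟩ (by decide +kernel)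

theorem ce_f_54 : ∀ r, r < 54 → sm gf (Qf (3456 + r)) = Qf (tab Gen.f (3456 + r)) :=
  edges_tab (sm gf) Qf (tab Gen.f) 3456 [(3456, 3357), (3457, 3490), (3458, 3391), (3459, 3360), (3460, 3499), (3461, 3363), (3462, 3387), (3463, 3366), (3464, 3398), (3465, 3381), (3466, 3484), (3467, 3491), (3468, 3487), (3469, 3485), (3470, 3488), (3471, 3386), (3472, 3502), (3473, 3393), (3474, 3395), (3475, 3501), (3476, 3452), (3477, 3444), (3478, 3447), (3479, 3509), (3480, 3448), (3481, 3411), (3482, 3440), (3483, 3439), (3484, 3466), (3485, 3469), (3486, 3422), (3487, 3468), (3488, 3470), (3489, 3427), (3490, 3457), (3491, 3467), (3492, 3434), (3493, 3442), (3494, 3431), (3495, 3446), (3496, 3506), (3497, 3507), (3498, 3451), (3499, 3460), (3500, 3455), (3501, 3475), (3502, 3472), (3503, 3505), (3504, 3508), (3505, 3503), (3506, 3496), (3507, 3497), (3508, 3504), (3509, 3479)]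
    ⟨e3 q3456 L31146 q3357, e3 q3457 (flp_f L31528) q3490, e3 q3458 L31167 q3391, e3 q3459 L31175 q3360, e3 q3460 (flp_f L31669) q3499, e3 q3461 L31191 q3363, e3 q3462 L31199 q3387, e3 q3463 L31207 q3366, e3 q3464 L31225 q3398, e3 q3465 L31231 q3381, e3 q3466 (flp_f L31429) q3484, e3 q3467 (flp_f L31545) q3491, e3 q3468 (flp_f L31481) q3487, e3 q3469 (flp_f L31446) q3485, e3 q3470 L31505 q3488, e3 q3471 L31276 q3386, e3 q3472 (flp_f L31706) q3502, e3 q3473 L31288 q3393, e3 q3474 L31297 q3395, e3 q3475 (flp_f L31698) q3501, e3 q3476 L31313 q3452, e3 q3477 L31328 q3444, e3 q3478 L31343 q3447, e3 q3479 L31795 q3509, e3 q3480 L31368 q3448, e3 q3481 L31379 q3411, e3 q3482 L31394 q3440, e3 q3483 L31411 q3439, e3 q3484 L31429 q3466, e3 q3485 L31446 q3469, e3 q3486 L31463 q3422, e3 q3487 L31481 q3468, e3 q3488 (flp_f L31505) q3470, e3 q3489 L31513 q3427, e3 q3490 L31528 q3457, e3 q3491 L31545 q3467, e3 q3492 L31562 q3434, e3 q3493 L31590 q3442, e3 q3494 (flp_f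 L31592) q3431, e3 q3495 L31612 q3446, e3 q3496 (flp_f L31750) q3506, e3 q3497 (flp_f L31765) q3507, e3 q3498 L31654 q3451, e3 q3499 L31669 q3460, e3 q3500 L31680 q3455, e3 q3501 L31698 q3475, e3 q3502 L31706 q3472, e3 q3503 (flp_f L31742) q3505, e3 q3504 (flp_f L31793) q3508, e3 q3505 L31742 q3503, e3 q3506 L31750 q3496, e3 q3507 L31765 q3497, e3 q3508 L31793 q3504, e3 q3509 (flp_f L31795) q3479, trivial⟩ (by decide +kernel)

theorem cl_f : ∀ i, i < 3510 → sm gf (Qf i) = Qf (tab Gen.f i) :=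
  all_of_chunks (fun i => sm gf (Qf i) = Qf (tab Gen.f i)) 54 54
    ⟨ce_f_0, ce_f_1, ce_f_2, ce_f_3, ce_f_4, ce_f_5, ce_f_6, ce_f_7, ce_f_8, ce_f_9, ce_f_10, ce_f_11, ce_f_12, ce_f_13, ce_f_14, ce_f_15, ce_f_16, ce_f_17, ce_f_18, ce_f_19, ce_f_20, ce_f_21, ce_f_22, ce_f_23, ce_f_24, ce_f_25, ce_f_26, ce_f_27, ce_f_28, ce_f_29, ce_f_30, ce_f_31, ce_f_32, ce_f_33, ce_f_34, ce_f_35, ce_f_36, ce_f_37, ce_f_38, ce_f_39, ce_f_40, ce_f_41, ce_f_42, ce_f_43, ce_f_44, ce_f_45, ce_f_46, ce_f_47, ce_f_48, ce_f_49, ce_f_50, ce_f_51, ce_f_52, ce_f_53, trivial⟩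
    ce_f_54


end Cfsg.Agent.Helper28.FiaA
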