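import Cfsg.Agent.Helper28.FiaC0

/-!
# The Fi₂₂ presentation, cosets of the subgroup generated by a, c, d, e, f, g, h, i, (abcdeh)⁵: the action of the generator g (helper28; generated)
-/

set_option autoImplicit false
set_option maxRecDepth 100000
set_option linter.unusedSimpArgs false
set_option linter.constructorNameAsVariable false

noncomputable section

namespace Cfsg.Agent.Helper28.FiaA

open Cfsg.Spor Cfsg.Spor.Fi22 Cfsg.Agent.Helper28.CosetTable

theorem ce_g_0 : ∀ r, r < 64 → sm gg (Qf (0 + r)) = Qf (tab Gen.g (0 + r)) :=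
  edges_tab (sm gg) Qf (tab Gen.g) 0 [(0, 0), (1, 1), (2, 2), (3, 3), (4, 4), (5, 5), (6, 6), (7, 7), (8, 8), (9, 9), (10, 10), (11, 11), (12, 12), (13, 22), (14, 14), (15, 15), (16, 16), (17, 17), (18, 18), (19, 31), (20, 20), (21, 21), (22, 13), (23, 35), (24, 24), (25, 25), (26, 26), (27, 27), (28, 45), (29, 29), (30, 30), (31, 19), (32, 49), (33, 33), (34, 34), (35, 23), (36, 54), (37, 55), (38, 38), (39, 39), (40, 40), (41, 63), (42, 42), (43, 43), (44, 44), (45, 28), (46, 67), (47, 47), (48, 48), (49, 32), (50, 71), (51, 72), (52, 52), (53, 53), (54, 36), (55, 37), (56, 78), (57, 79), (58, 80), (59, 59), (60, 60), (61, 61), (62, 89), (63, 41)]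
    ⟨e3 q0 L5 q0, e3 q1 L13 q1, e3 q2 L21 q2, e3 q3 L29 q3, e3 q4 L39 q4, e3 q5 L46 q5, e3 q6 L53 q6, e3 q7 L63 q7, e3 q8 L70 q8, e3 q9 L78 q9, e3 q10 L86 q10, e3 q11 L93 q11, e3 q12 L102 q12, e3 q13 L175 q22, e3 q14 L117 q14, e3 q15 L124 q15, e3 q16 L130 q16, e3 q17 L139 q17, e3 q18 L148 q18, e3 q19 L245 q31, e3 q20 L165 q20, e3 q21 L173 q21, e3 q22 (flp_g L175) q13, e3 q23 (flp_g L284) q35, e3 q24 L193 q24, e3 q25 L202 q25, e3 q26 L210 q26, e3 q27 L219 q27, e3 q28 L358 q45, e3 q29 L235 q29, e3 q30 L243 q30, e3 q31 (flp_g L245) q19, e3 q32 (flp_g L400) q49, e3 q33 L266 q33, e3 q34 L276 q34, e3 q35 L284 q23, e3 q36 (flp_g L439) q54, e3 q37 (flp_g L448) q55, e3 q38 L303 q38, e3 q39 L312 q39, e3 q40 L317 q40, e3 q41 L501 q63, e3 q42 L337 q42, e3 q43 L345 q43, e3 q44 L356 q44, e3 q45 (flp_g L358) q28, e3 q46 (flp_g L548) q67, e3 q47 L380 q47, e3 q48 L391 q48, e3 q49 L400 q32, e3 q50 (flp_g L583) q71, e3 q51 (flp_g L593) q72, e3 q52 L423 q52, e3 q53 L434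 q53, e3 q54 L439 q36, e3 q55 L448 q37, e3 q56 (flp_g L641) q78, e3 q57 (flp_g L648) q79, e3 q58 (flp_g L658) q80, e3 q59 L474 q59, e3 q60 L484 q60, e3 q61 L489 q61, e3 q62 L720 q89, e3 q63 (flp_g L501) q41, trivial⟩ (by decide +kernel)

theorem ce_g_1 : ∀ r, r < 64 → sm gg (Qf (64 + r)) = Qf (tab Gen.g (64 + r)) :=
  edges_tab (sm gg) Qf (tab Gen.g) 64 [(64, 90), (65, 65), (66, 66), (67, 46), (68, 93), (69, 94), (70, 70), (71, 50), (72, 51), (73, 98), (74, 99), (75, 100), (76, 76), (77, 77), (78, 56), (79, 57), (80, 58), (81, 106), (82, 107), (83, 108), (84, 110), (85, 111), (86, 86), (87, 87), (88, 120), (89, 62), (90, 64), (91, 121), (92, 92), (93, 68), (94, 69), (95, 122), (96, 123), (97, 97), (98, 73), (99, 74), (100, 75), (101, 126), (102, 127), (103, 129), (104, 130), (105, 105), (106, 81), (107, 82), (108, 83), (109, 109), (110, 84), (111, 85), (112, 136), (113, 137), (114, 138), (115, 140), (116, 141), (117, 143), (118, 118), (119, 119), (120,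 88), (121, 91), (122, 95), (123, 96), (124, 156), (125, 157), (126, 101), (127, 102)]
    ⟨e3 q64 (flp_g L738) q90, e3 q65 L529 q65, e3 q66 L540 q66, e3 q67 L548 q46, e3 q68 (flp_g L768) q93, e3 q69 (flp_g L779) q94, e3 q70 L577 q70, e3 q71 L583 q50, e3 q72 L593 q51, e3 q73 (flp_g L816) q98, e3 q74 (flp_g L825) q99, e3 q75 (flp_g L836) q100, e3 q76 L629 q76, e3 q77 L635 q77, e3 q78 L641 q56, e3 q79 L648 q57, e3 q80 L658 q58, e3 q81 (flp_g L887) q106, e3 q82 (flp_g L896) q107, e3 q83 (flp_g L905) q108, e3 q84 (flp_g L920) q110, e3 q85 (flp_g L926) q111, e3 q86 L703 q86, e3 q87 L709 q87, e3 q88 L988 q120, e3 q89 (flp_g L720) q62, e3 q90 L738 q64, e3 q91 (flp_g L1007) q121, e3 q92 L759 q92, e3 q93 L768 q68, e3 q94 L779 q69, e3 q95 (flp_g L1016) q122, e3 q96 (flp_g L1029) q123, e3 q97 L808 q97, e3 q98 L816 q73, e3 q99 L825 q74, e3 q100 L836 q75, e3 q101 (flp_g L1058) q126, e3 q102 (flp_g L1070) q127, e3 q103 (flp_g L1087) q129, e3 q104 (flp_g L1094) q130,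 e3 q105 L881 q105, e3 q106 L887 q81, e3 q107 L896 q82, e3 q108 L905 q83, e3 q109 L913 q109, e3 q110 L920 q84, e3 q111 L926 q85, e3 q112 (flp_g L1149) q136, e3 q113 (flp_g L1160) q137, e3 q114 (flp_g L1164) q138, e3 q115 (flp_g L1181) q140, e3 q116 (flp_g L1188) q141, e3 q117 (flp_g L1204) q143, e3 q118 L980 q118, e3 q119 L984 q119, e3 q120 (flp_g L988) q88, e3 q121 L1007 q91, e3 q122 L1016 q95, e3 q123 L1029 q96, e3 q124 (flp_g L1311) q156, e3 q125 (flp_g L1320) q157, e3 q126 L1058 q101, e3 q127 L1070 q102, trivial⟩ (by decide +kernel)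

theorem ce_g_2 : ∀ r, r < 64 → sm gg (Qf (128 + r)) = Qf (tab Gen.g (128 + r)) :=
  edges_tab (sm gg) Qf (tab Gen.g) 128 [(128, 128), (129, 103), (130, 104), (131, 159), (132, 161), (133, 162), (134, 164), (135, 135), (136, 112), (137, 113), (138, 114), (139, 139), (140, 115), (141, 116), (142, 142), (143, 117), (144, 171), (145, 173), (146, 174), (147, 176), (148, 177), (149, 179), (150, 180), (151, 182), (152, 152), (153, 153), (154, 154), (155, 155), (156, 124), (157, 125), (158, 197), (159, 131), (160, 160), (161, 132), (162, 133), (163, 163), (164, 134), (165, 200), (166, 201), (167, 203), (168, 204), (169, 206), (170, 170), (171, 144), (172, 172), (173, 145), (174, 146), (175, 175), (176, 147), (177, 148), (178, 178), (179, 149), (180, 150), (181, 181), (182, 151), (183, 213), (184, 215), (185, 216), (186, 218), (187, 219), (188, 223), (189, 224), (190, 226), (191, 227)]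
    ⟨e3 q128 L1079 q128, e3 q129 L1087 q103, e3 q130 L1094 q104, e3 q131 (flp_g L1339) q159, e3 q132 (flp_g L1362) q161, e3 q133 (flp_g L1372) q162, e3 q134 (flp_g L1390) q164, e3 q135 L1139 q135, e3 q136 L1149 q112, e3 q137 L1160 q113, e3 q138 L1164 q114, e3 q139 L1174 q139, e3 q140 L1181 q115, e3 q141 L1188 q116, e3 q142 L1198 q142, e3 q143 L1204 q117, e3 q144 (flp_g L1456) q171, e3 q145 (flp_g L1476) q173, e3 q146 (flp_g L1485) q174, e3 q147 (flp_g L1498) q176, e3 q148 (flp_g L1507) q177, e3 q149 (flp_g L1523) q179, e3 q150 (flp_g L1529) q180, e3 q151 (flp_g L1545) q182, e3 q152 L1272 q152, e3 q153 L1278 q153, e3 q154 L1291 q154, e3 q155 L1301 q155, e3 q156 L1311 q124, e3 q157 L1320 q125, e3 q158 (flp_g L1661) q197, e3 q159 L1339 q131, e3 q160 L1352 q160, e3 q161 L1362 q132, e3 q162 L1372 q133, e3 q163 L1383 q163, e3 q164 L1390 q134, e3 q165 (flp_g L1689) q200, e3 q166 (flp_g L1701) q201, e3 q167 (flp_g L1723) q203, e3 q168 (flp_g L1732) q204, e3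 q169 (flp_g L1750) q206, e3 q170 L1447 q170, e3 q171 L1456 q144, e3 q172 L1467 q172, e3 q173 L1476 q145, e3 q174 L1485 q146, e3 q175 L1493 q175, e3 q176 L1498 q147, e3 q177 L1507 q148, e3 q178 L1516 q178, e3 q179 L1523 q149, e3 q180 L1529 q150, e3 q181 L1540 q181, e3 q182 L1545 q151, e3 q183 (flp_g L1808) q213, e3 q184 (flp_g L1826) q215, e3 q185 (flp_g L1837) q216, e3 q186 (flp_g L1857) q218, e3 q187 (flp_g L1866) q219, e3 q188 (flp_g L1896) q223, e3 q189 (flp_g L1902) q224, e3 q190 (flp_g L1915) q226, e3 q191 (flp_g L1921) q227, trivial⟩ (by decide +kernel)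

theorem ce_g_3 : ∀ r, r < 64 → sm gg (Qf (192 + r)) = Qf (tab Gen.g (192 + r)) :=
  edges_tab (sm gg) Qf (tab Gen.g) 192 [(192, 229), (193, 193), (194, 194), (195, 245), (196, 196), (197, 158), (198, 247), (199, 199), (200, 165), (201, 166), (202, 202), (203, 167), (204, 168), (205, 205), (206, 169), (207, 252), (208, 253), (209, 255), (210, 256), (211, 258), (212, 265), (213, 183), (214, 214), (215, 184), (216, 185), (217, 217), (218, 186), (219, 187), (220, 220), (221, 221), (222, 222), (223, 188), (224, 189), (225, 225), (226, 190), (227, 191), (228, 228), (229, 192), (230, 267), (231, 268), (232, 272), (233, 273), (234, 275), (235, 276), (236, 277), (237, 282), (238, 283), (239, 285), (240, 286), (241, 306), (242, 290), (243, 243), (244, 310), (245, 195), (246, 246), (247, 198), (248, 312), (249, 249), (250, 250), (251, 251), (252, 207), (253, 208), (254, 254), (255, 209)]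
    ⟨e3 q192 (flp_g L1936) q229, e3 q193 L1622 q193, e3 q194 L1632 q194, e3 q195 L2049 q245, e3 q196 L1652 q196, e3 q197 L1661 q158, e3 q198 (flp_g L2072) q247, e3 q199 L1681 q199, e3 q200 L1689 q165, e3 q201 L1701 q166, e3 q202 L1713 q202, e3 q203 L1723 q167, e3 q204 L1732 q168, e3 q205 L1744 q205, e3 q206 L1750 q169, e3 q207 (flp_g L2123) q252, e3 q208 (flp_g L2132) q253, e3 q209 (flp_g L2151) q255, e3 q210 (flp_g L2160) q256, e3 q211 (flp_g L2178) q258, e3 q212 L2232 q265, e3 q213 L1808 q183, e3 q214 L1819 q214, e3 q215 L1826 q184, e3 q216 L1837 q185, e3 q217 L1848 q217, e3 q218 L1857 q186, e3 q219 L1866 q187, e3 q220 L1873 q220, e3 q221 L1881 q221, e3 q222 L1890 q222, e3 q223 L1896 q188, e3 q224 L1902 q189, e3 q225 L1911 q225, e3 q226 L1915 q190, e3 q227 L1921 q191, e3 q228 L1930 q228, e3 q229 L1936 q192, e3 q230 (flp_g L2257) q267, e3 q231 (flp_g L2267) q268, e3 q232 (flp_g L2303) q272, e3 q233 (flp_g L2311) q273, e3 q234 (flp_g L2329) q275, e3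 q235 (flp_g L2336) q276, e3 q236 (flp_g L2347) q277, e3 q237 (flp_g L2383) q282, e3 q238 (flp_g L2389) q283, e3 q239 (flp_g L2401) q285, e3 q240 (flp_g L2408) q286, e3 q241 L2548 q306, e3 q242 (flp_g L2437) q290, e3 q243 L2038 q243, e3 q244 L2578 q310, e3 q245 (flp_g L2049) q195, e3 q246 L2065 q246, e3 q247 L2072 q198, e3 q248 (flp_g L2601) q312, e3 q249 L2091 q249, e3 q250 L2102 q250, e3 q251 L2114 q251, e3 q252 L2123 q207, e3 q253 L2132 q208, e3 q254 L2144 q254, e3 q255 L2151 q209, trivial⟩ (by decide +kernel)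

theorem ce_g_4 : ∀ r, r < 64 → sm gg (Qf (256 + r)) = Qf (tab Gen.g (256 + r)) :=
  edges_tab (sm gg) Qf (tab Gen.g) 256 [(256, 210), (257, 257), (258, 211), (259, 318), (260, 319), (261, 321), (262, 322), (263, 333), (264, 326), (265, 212), (266, 266), (267, 230), (268, 231), (269, 269), (270, 270), (271, 271), (272, 232), (273, 233), (274, 274), (275, 234), (276, 235), (277, 236), (278, 278), (279, 279), (280, 280), (281, 281), (282, 237), (283, 238), (284, 284), (285, 239), (286, 240), (287, 365), (288, 288), (289, 289), (290, 242), (291, 338), (292, 339), (293, 340), (294, 345), (295, 346), (296, 348), (297, 349), (298, 350), (299, 381), (300, 357), (301, 358), (302, 359), (303, 362), (304, 363), (305, 390), (306, 241), (307, 368), (308, 308), (309, 393), (310, 244), (311, 311), (312, 248), (313, 396), (314, 314), (315, 315), (316, 316), (317, 317), (318, 259), (319, 260)]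
    ⟨e3 q256 L2160 q210, e3 q257 L2170 q257, e3 q258 L2178 q211, e3 q259 (flp_g L2662) q318, e3 q260 (flp_g L2671) q319, e3 q261 (flp_g L2688) q321, e3 q262 (flp_g L2698) q322, e3 q263 L2786 q333, e3 q264 (flp_g L2733) q326, e3 q265 (flp_g L2232) q212, e3 q266 L2249 q266, e3 q267 L2257 q230, e3 q268 L2267 q231, e3 q269 L2274 q269, e3 q270 L2284 q270, e3 q271 L2295 q271, e3 q272 L2303 q232, e3 q273 L2311 q233, e3 q274 L2322 q274, e3 q275 L2329 q234, e3 q276 L2336 q235, e3 q277 L2347 q236, e3 q278 L2357 q278, e3 q279 L2365 q279, e3 q280 L2372 q280, e3 q281 L2378 q281, e3 q282 L2383 q237, e3 q283 L2389 q238, e3 q284 L2397 q284, e3 q285 L2401 q239, e3 q286 L2408 q240, e3 q287 L3045 q365, e3 q288 L2423 q288, e3 q289 L2429 q289, e3 q290 L2437 q242, e3 q291 (flp_g L2835) q338, e3 q292 (flp_g L2846) q339, e3 q293 (flp_g L2855) q340, e3 q294 (flp_g L2899) q345, e3 q295 (flp_g L2908) q346, e3 q296 (flp_g L2924) q348, e3 q297 (flp_g L2933) q349, e3 q298 (flp_g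 L2944) q350, e3 q299 L3169 q381, e3 q300 (flp_g L2993) q357, e3 q301 (flp_g L3000) q358, e3 q302 (flp_g L3007) q359, e3 q303 (flp_g L3029) q362, e3 q304 (flp_g L3036) q363, e3 q305 L3228 q390, e3 q306 (flp_g L2548) q241, e3 q307 (flp_g L3073) q368, e3 q308 L2566 q308, e3 q309 L3250 q393, e3 q310 (flp_g L2578) q244, e3 q311 L2594 q311, e3 q312 L2601 q248, e3 q313 (flp_g L3282) q396, e3 q314 L2624 q314, e3 q315 L2635 q315, e3 q316 L2645 q316, e3 q317 L2654 q317, e3 q318 L2662 q259, e3 q319 L2671 q260, trivial⟩ (by decide +kernel)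

theorem ce_g_5 : ∀ r, r < 64 → sm gg (Qf (320 + r)) = Qf (tab Gen.g (320 + r)) :=
  edges_tab (sm gg) Qf (tab Gen.g) 320 [(320, 320), (321, 261), (322, 262), (323, 411), (324, 324), (325, 325), (326, 264), (327, 403), (328, 404), (329, 405), (330, 408), (331, 409), (332, 423), (333, 263), (334, 414), (335, 335), (336, 336), (337, 337), (338, 291), (339, 292), (340, 293), (341, 341), (342, 342), (343, 343), (344, 344), (345, 294), (346, 295), (347, 347), (348, 296), (349, 297), (350, 298), (351, 449), (352, 352), (353, 353), (354, 354), (355, 355), (356, 356), (357, 300), (358, 301), (359, 302), (360, 360), (361, 361), (362, 303), (363, 304), (364, 468), (365, 287), (366, 366), (367, 367), (368, 307), (369, 430), (370, 431), (371, 432), (372, 433), (373, 439), (374, 440), (375, 441), (376, 444), (377, 445), (378, 487), (379, 447), (380, 490), (381, 299), (382, 457), (383, 458)]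
    ⟨e3 q320 L2682 q320, e3 q321 L2688 q261, e3 q322 L2698 q262, e3 q323 L3421 q411, e3 q324 L2718 q324, e3 q325 L2725 q325, e3 q326 L2733 q264, e3 q327 (flp_g L3353) q403, e3 q328 (flp_g L3362) q404, e3 q329 (flp_g L3372) q405, e3 q330 (flp_g L3399) q408, e3 q331 (flp_g L3409) q409, e3 q332 L3525 q423, e3 q333 (flp_g L2786) q263, e3 q334 (flp_g L3452) q414, e3 q335 L2810 q335, e3 q336 L2820 q336, e3 q337 L2830 q337, e3 q338 L2835 q291, e3 q339 L2846 q292, e3 q340 L2855 q293, e3 q341 L2865 q341, e3 q342 L2875 q342, e3 q343 L2884 q343, e3 q344 L2892 q344, e3 q345 L2899 q294, e3 q346 L2908 q295, e3 q347 L2919 q347, e3 q348 L2924 q296, e3 q349 L2933 q297, e3 q350 L2944 q298, e3 q351 L3761 q449, e3 q352 L2959 q352, e3 q353 L2968 q353, e3 q354 L2975 q354, e3 q355 L2981 q355, e3 q356 L2988 q356, e3 q357 L2993 q300, e3 q358 L3000 q301, e3 q359 L3007 q302, e3 q360 L3016 q360, e3 q361 L3022 q361, e3 q362 L3029 q303, e3 q363 L3036 q304, e3 q364 L3898 q468, e3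 q365 (flp_g L3045) q287, e3 q366 L3057 q366, e3 q367 L3065 q367, e3 q368 L3073 q307, e3 q369 (flp_g L3597) q430, e3 q370 (flp_g L3609) q431, e3 q371 (flp_g L3618) q432, e3 q372 (flp_g L3626) q433, e3 q373 (flp_g L3682) q439, e3 q374 (flp_g L3690) q440, e3 q375 (flp_g L3699) q441, e3 q376 (flp_g L3723) q444, e3 q377 (flp_g L3733) q445, e3 q378 L4040 q487, e3 q379 (flp_g L3748) q447, e3 q380 L4062 q490, e3 q381 (flp_g L3169) q299, e3 q382 (flp_g L3823) q457, e3 q383 (flp_g L3831) q458, trivial⟩ (by decide +kernel)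

theorem ce_g_6 : ∀ r, r < 64 → sm gg (Qf (384 + r)) = Qf (tab Gen.g (384 + r)) :=
  edges_tab (sm gg) Qf (tab Gen.g) 384 [(384, 459), (385, 460), (386, 498), (387, 465), (388, 466), (389, 501), (390, 305), (391, 502), (392, 392), (393, 309), (394, 394), (395, 395), (396, 313), (397, 505), (398, 398), (399, 399), (400, 400), (401, 401), (402, 402), (403, 327), (404, 328), (405, 329), (406, 406), (407, 407), (408, 330), (409, 331), (410, 524), (411, 323), (412, 412), (413, 413), (414, 334), (415, 513), (416, 514), (417, 515), (418, 516), (419, 535), (420, 521), (421, 522), (422, 538), (423, 332), (424, 424), (425, 425), (426, 426), (427, 427), (428, 428), (429, 429), (430, 369), (431, 370), (432, 371), (433, 372), (434, 434), (435, 435), (436, 436), (437, 437), (438, 438), (439, 373), (440, 374), (441, 375), (442, 442), (443, 443), (444, 376), (445, 377), (446, 568), (447, 379)]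
    ⟨e3 q384 (flp_g L3840) q459, e3 q385 (flp_g L3848) q460, e3 q386 L4117 q498, e3 q387 (flp_g L3881) q465, e3 q388 (flp_g L3888) q466, e3 q389 L4136 q501, e3 q390 (flp_g L3228) q305, e3 q391 L4150 q502, e3 q392 L3248 q392, e3 q393 (flp_g L3250) q309, e3 q394 L3264 q394, e3 q395 L3273 q395, e3 q396 L3282 q313, e3 q397 (flp_g L4201) q505, e3 q398 L3304 q398, e3 q399 L3316 q399, e3 q400 L3326 q400, e3 q401 L3335 q401, e3 q402 L3345 q402, e3 q403 L3353 q327, e3 q404 L3362 q328, e3 q405 L3372 q329, e3 q406 L3383 q406, e3 q407 L3392 q407, e3 q408 L3399 q330, e3 q409 L3409 q331, e3 q410 L4374 q524, e3 q411 (flp_g L3421) q323, e3 q412 L3436 q412, e3 q413 L3445 q413, e3 q414 L3452 q334, e3 q415 (flp_g L4278) q513, e3 q416 (flp_g L4289) q514, e3 q417 (flp_g L4298) q515, e3 q418 (flp_g L4309) q516, e3 q419 L4468 q535, e3 q420 (flp_g L4352) q521, e3 q421 (flp_g L4362) q522, e3 q422 L4494 q538, e3 q423 (flp_g L3525) q332, e3 q424 L3539 q424, e3 q425 L3552 q425,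 e3 q426 L3563 q426, e3 q427 L3570 q427, e3 q428 L3582 q428, e3 q429 L3591 q429, e3 q430 L3597 q369, e3 q431 L3609 q370, e3 q432 L3618 q371, e3 q433 L3626 q372, e3 q434 L3635 q434, e3 q435 L3647 q435, e3 q436 L3656 q436, e3 q437 L3664 q437, e3 q438 L3674 q438, e3 q439 L3682 q373, e3 q440 L3690 q374, e3 q441 L3699 q375, e3 q442 L3709 q442, e3 q443 L3717 q443, e3 q444 L3723 q376, e3 q445 L3733 q377, e3 q446 L4766 q568, e3 q447 L3748 q379, trivial⟩ (by decide +kernel)

theorem ce_g_7 : ∀ r, r < 64 → sm gg (Qf (448 + r)) = Qf (tab Gen.g (448 + r)) :=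
  edges_tab (sm gg) Qf (tab Gen.g) 448 [(448, 571), (449, 351), (450, 450), (451, 451), (452, 452), (453, 453), (454, 454), (455, 455), (456, 456), (457, 382), (458, 383), (459, 384), (460, 385), (461, 589), (462, 462), (463, 463), (464, 594), (465, 387), (466, 388), (467, 597), (468, 364), (469, 469), (470, 470), (471, 471), (472, 472), (473, 545), (474, 546), (475, 547), (476, 548), (477, 549), (478, 556), (479, 557), (480, 558), (481, 559), (482, 614), (483, 564), (484, 565), (485, 566), (486, 620), (487, 378), (488, 621), (489, 570), (490, 380), (491, 582), (492, 583), (493, 626), (494, 585), (495, 586), (496, 587), (497, 631), (498, 386), (499, 595), (500, 633), (501, 389), (502, 391), (503, 503), (504, 504), (505, 397), (506, 506), (507, 507), (508, 508), (509, 509), (510, 510), (511, 511)]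
    ⟨e3 q448 L4791 q571, e3 q449 (flp_g L3761) q351, e3 q450 L3775 q450, e3 q451 L3785 q451, e3 q452 L3792 q452, e3 q453 L3798 q453, e3 q454 L3804 q454, e3 q455 L3812 q455, e3 q456 L3818 q456, e3 q457 L3823 q382, e3 q458 L3831 q383, e3 q459 L3840 q384, e3 q460 L3848 q385, e3 q461 L4922 q589, e3 q462 L3863 q462, e3 q463 L3869 q463, e3 q464 L4957 q594, e3 q465 L3881 q387, e3 q466 L3888 q388, e3 q467 L4978 q597, e3 q468 (flp_g L3898) q364, e3 q469 L3910 q469, e3 q470 L3918 q470, e3 q471 L3925 q471, e3 q472 L3936 q472, e3 q473 (flp_g L4573) q545, e3 q474 (flp_g L4580) q546, e3 q475 (flp_g L4587) q547, e3 q476 (flp_g L4594) q548, e3 q477 (flp_g L4603) q549, e3 q478 (flp_g L4667) q556, e3 q479 (flp_g L4677) q557, e3 q480 (flp_g L4685) q558, e3 q481 (flp_g L4696) q559, e3 q482 L5123 q614, e3 q483 (flp_g L4738) q564, e3 q484 (flp_g L4748) q565, e3 q485 (flp_g L4754) q566, e3 q486 L5169 q620, e3 q487 (flp_g L4040) q378, e3 q488 L5184 q621, e3 q489 (flp_g L4788)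 q570, e3 q490 (flp_g L4062) q380, e3 q491 (flp_g L4874) q582, e3 q492 (flp_g L4883) q583, e3 q493 L5233 q626, e3 q494 (flp_g L4897) q585, e3 q495 (flp_g L4905) q586, e3 q496 (flp_g L4911) q587, e3 q497 L5265 q631, e3 q498 (flp_g L4117) q386, e3 q499 (flp_g L4968) q595, e3 q500 L5279 q633, e3 q501 (flp_g L4136) q389, e3 q502 (flp_g L4150) q391, e3 q503 L4181 q503, e3 q504 L4191 q504, e3 q505 L4201 q397, e3 q506 L4212 q506, e3 q507 L4224 q507, e3 q508 L4234 q508, e3 q509 L4243 q509, e3 q510 L4252 q510, e3 q511 L4262 q511, trivial⟩ (by decide +kernel)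

theorem ce_g_8 : ∀ r, r < 64 → sm gg (Qf (512 + r)) = Qf (tab Gen.g (512 + r)) :=
  edges_tab (sm gg) Qf (tab Gen.g) 512 [(512, 512), (513, 415), (514, 416), (515, 417), (516, 418), (517, 655), (518, 518), (519, 519), (520, 660), (521, 420), (522, 421), (523, 663), (524, 410), (525, 525), (526, 526), (527, 527), (528, 648), (529, 649), (530, 671), (531, 651), (532, 652), (533, 653), (534, 673), (535, 419), (536, 661), (537, 675), (538, 422), (539, 539), (540, 540), (541, 541), (542, 542), (543, 543), (544, 544), (545, 473), (546, 474), (547, 475), (548, 476), (549, 477), (550, 550), (551, 551), (552, 552), (553, 553), (554, 554), (555, 555), (556, 478), (557, 479), (558, 480), (559, 481), (560, 705), (561, 561), (562, 562), (563, 710), (564, 483), (565, 484), (566, 485), (567, 716), (568, 446), (569, 718), (570, 489), (571, 448), (572, 572), (573, 573), (574, 574), (575, 575)]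
    ⟨e3 q512 L4271 q512, e3 q513 L4278 q415, e3 q514 L4289 q416, e3 q515 L4298 q417, e3 q516 L4309 q418, e3 q517 L5515 q655, e3 q518 L4327 q518, e3 q519 L4336 q519, e3 q520 L5561 q660, e3 q521 L4352 q420, e3 q522 L4362 q421, e3 q523 L5589 q663, e3 q524 (flp_g L4374) q410, e3 q525 L4388 q525, e3 q526 L4397 q526, e3 q527 L4406 q527, e3 q528 (flp_g L5453) q648, e3 q529 (flp_g L5465) q649, e3 q530 L5789 q671, e3 q531 (flp_g L5483) q651, e3 q532 (flp_g L5494) q652, e3 q533 (flp_g L5502) q653, e3 q534 L5814 q673, e3 q535 (flp_g L4468) q419, e3 q536 (flp_g L5578) q661, e3 q537 L5835 q675, e3 q538 (flp_g L4494) q422, e3 q539 L4512 q539, e3 q540 L4523 q540, e3 q541 L4533 q541, e3 q542 L4544 q542, e3 q543 L4553 q543, e3 q544 L4562 q544, e3 q545 L4573 q473, e3 q546 L4580 q474, e3 q547 L4587 q475, e3 q548 L4594 q476, e3 q549 L4603 q477, e3 q550 L4617 q550, e3 q551 L4626 q551, e3 q552 L4635 q552, e3 q553 L4644 q553, e3 q554 L4653 q554, e3 q555 L4661 q555, e3 q556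 L4667 q478, e3 q557 L4677 q479, e3 q558 L4685 q480, e3 q559 L4696 q481, e3 q560 L6095 q705, e3 q561 L4713 q561, e3 q562 L4722 q562, e3 q563 L6138 q710, e3 q564 L4738 q483, e3 q565 L4748 q484, e3 q566 L4754 q485, e3 q567 L6190 q716, e3 q568 (flp_g L4766) q446, e3 q569 L6205 q718, e3 q570 L4788 q489, e3 q571 (flp_g L4791) q448, e3 q572 L4810 q572, e3 q573 L4815 q573, e3 q574 L4820 q574, e3 q575 L4826 q575, trivial⟩ (by decide +kernel)

theorem ce_g_9 : ∀ r, r < 64 → sm gg (Qf (576 + r)) = Qf (tab Gen.g (576 + r)) :=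
  edges_tab (sm gg) Qf (tab Gen.g) 576 [(576, 576), (577, 577), (578, 578), (579, 579), (580, 580), (581, 735), (582, 491), (583, 492), (584, 740), (585, 494), (586, 495), (587, 496), (588, 745), (589, 461), (590, 590), (591, 591), (592, 592), (593, 751), (594, 464), (595, 499), (596, 753), (597, 467), (598, 598), (599, 599), (600, 600), (601, 683), (602, 684), (603, 685), (604, 686), (605, 687), (606, 720), (607, 698), (608, 699), (609, 769), (610, 701), (611, 702), (612, 703), (613, 775), (614, 482), (615, 711), (616, 712), (617, 780), (618, 781), (619, 715), (620, 486), (621, 488), (622, 736), (623, 737), (624, 738), (625, 785), (626, 493), (627, 741), (628, 742), (629, 787), (630, 788), (631, 497), (632, 789), (633, 500), (634, 634), (635, 635), (636, 636), (637, 637), (638, 638), (639, 639)]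
    ⟨e3 q576 L4831 q576, e3 q577 L4839 q577, e3 q578 L4846 q578, e3 q579 L4855 q579, e3 q580 L4862 q580, e3 q581 L6329 q735, e3 q582 L4874 q491, e3 q583 L4883 q492, e3 q584 L6368 q740, e3 q585 L4897 q494, e3 q586 L4905 q495, e3 q587 L4911 q496, e3 q588 L6404 q745, e3 q589 (flp_g L4922) q461, e3 q590 L4935 q590, e3 q591 L4941 q591, e3 q592 L4945 q592, e3 q593 L6446 q751, e3 q594 (flp_g L4957) q464, e3 q595 L4968 q499, e3 q596 L6460 q753, e3 q597 (flp_g L4978) q467, e3 q598 L4991 q598, e3 q599 L5000 q599, e3 q600 L5006 q600, e3 q601 (flp_g L5908) q683, e3 q602 (flp_g L5918) q684, e3 q603 (flp_g L5928) q685, e3 q604 (flp_g L5939) q686, e3 q605 (flp_g L5948) q687, e3 q606 (flp_g L6227) q720, e3 q607 (flp_g L6037) q698, e3 q608 (flp_g L6049) q699, e3 q609 L6587 q769, e3 q610 (flp_g L6067) q701, e3 q611 (flp_g L6078) q702, e3 q612 (flp_g L6085) q703, e3 q613 L6631 q775, e3 q614 (flp_g L5123) q482, e3 q615 (flp_g L6155) q711, e3 q616 (flp_g L6162) q712, e3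 q617 L6670 q780, e3 q618 L6678 q781, e3 q619 (flp_g L6188) q715, e3 q620 (flp_g L5169) q486, e3 q621 (flp_g L5184) q488, e3 q622 (flp_g L6339) q736, e3 q623 (flp_g L6348) q737, e3 q624 (flp_g L6355) q738, e3 q625 L6724 q785, e3 q626 (flp_g L5233) q493, e3 q627 (flp_g L6380) q741, e3 q628 (flp_g L6388) q742, e3 q629 L6737 q787, e3 q630 L6744 q788, e3 q631 (flp_g L5265) q497, e3 q632 L6750 q789, e3 q633 (flp_g L5279) q500, e3 q634 L5327 q634, e3 q635 L5337 q635, e3 q636 L5345 q636, e3 q637 L5354 q637, e3 q638 L5367 q638, e3 q639 L5375 q639, trivial⟩ (by decide +kernel)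

theorem ce_g_10 : ∀ r, r < 64 → sm gg (Qf (640 + r)) = Qf (tab Gen.g (640 + r)) :=
  edges_tab (sm gg) Qf (tab Gen.g) 640 [(640, 640), (641, 641), (642, 642), (643, 643), (644, 644), (645, 645), (646, 646), (647, 806), (648, 528), (649, 529), (650, 811), (651, 531), (652, 532), (653, 533), (654, 816), (655, 517), (656, 656), (657, 657), (658, 658), (659, 822), (660, 520), (661, 536), (662, 824), (663, 523), (664, 664), (665, 665), (666, 666), (667, 807), (668, 808), (669, 809), (670, 813), (671, 530), (672, 812), (673, 534), (674, 826), (675, 537), (676, 676), (677, 677), (678, 678), (679, 679), (680, 680), (681, 681), (682, 682), (683, 601), (684, 602), (685, 603), (686, 604), (687, 605), (688, 845), (689, 689), (690, 690), (691, 691), (692, 692), (693, 693), (694, 694), (695, 695), (696, 696), (697, 859), (698, 607), (699, 608), (700, 864), (701, 610), (702, 611), (703, 612)]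
    ⟨e3 q640 L5383 q640, e3 q641 L5391 q641, e3 q642 L5399 q642, e3 q643 L5409 q643, e3 q644 L5419 q644, e3 q645 L5428 q645, e3 q646 L5438 q646, e3 q647 L6922 q806, e3 q648 L5453 q528, e3 q649 L5465 q529, e3 q650 L7018 q811, e3 q651 L5483 q531, e3 q652 L5494 q532, e3 q653 L5502 q533, e3 q654 L7073 q816, e3 q655 (flp_g L5515) q517, e3 q656 L5532 q656, e3 q657 L5541 q657, e3 q658 L5547 q658, e3 q659 L7125 q822, e3 q660 (flp_g L5561) q520, e3 q661 L5578 q536, e3 q662 L7144 q824, e3 q663 (flp_g L5589) q523, e3 q664 L5605 q664, e3 q665 L5614 q665, e3 q666 L5622 q666, e3 q667 (flp_g L6936) q807, e3 q668 (flp_g L6952) q808, e3 q669 (flp_g L7001) q809, e3 q670 (flp_g L7050) q813, e3 q671 (flp_g L5789) q530, e3 q672 (flp_g L7036) q812, e3 q673 (flp_g L5814) q534, e3 q674 L7166 q826, e3 q675 (flp_g L5835) q537, e3 q676 L5850 q676, e3 q677 L5861 q677, e3 q678 L5869 q678, e3 q679 L5878 q679, e3 q680 L5886 q680, e3 q681 L5894 q681, e3 q682 L5902 q682, e3 q683 L5908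 q601, e3 q684 L5918 q602, e3 q685 L5928 q603, e3 q686 L5939 q604, e3 q687 L5948 q605, e3 q688 L7333 q845, e3 q689 L5965 q689, e3 q690 L5973 q690, e3 q691 L5980 q691, e3 q692 L5987 q692, e3 q693 L5996 q693, e3 q694 L6005 q694, e3 q695 L6013 q695, e3 q696 L6023 q696, e3 q697 L7454 q859, e3 q698 L6037 q607, e3 q699 L6049 q608, e3 q700 L7501 q864, e3 q701 L6067 q610, e3 q702 L6078 q611, e3 q703 L6085 q612, trivial⟩ (by decide +kernel)

theorem ce_g_11 : ∀ r, r < 64 → sm gg (Qf (704 + r)) = Qf (tab Gen.g (704 + r)) :=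
  edges_tab (sm gg) Qf (tab Gen.g) 704 [(704, 870), (705, 560), (706, 706), (707, 707), (708, 708), (709, 876), (710, 563), (711, 615), (712, 616), (713, 881), (714, 883), (715, 619), (716, 567), (717, 886), (718, 569), (719, 840), (720, 606), (721, 721), (722, 722), (723, 723), (724, 724), (725, 725), (726, 726), (727, 896), (728, 728), (729, 729), (730, 901), (731, 731), (732, 732), (733, 733), (734, 907), (735, 581), (736, 622), (737, 623), (738, 624), (739, 912), (740, 584), (741, 627), (742, 628), (743, 917), (744, 919), (745, 588), (746, 746), (747, 747), (748, 925), (749, 926), (750, 750), (751, 593), (752, 929), (753, 596), (754, 754), (755, 755), (756, 756), (757, 757), (758, 837), (759, 838), (760, 839), (761, 841), (762, 842), (763, 843), (764, 885), (765, 860), (766, 861), (767, 862)]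
    ⟨e3 q704 L7551 q870, e3 q705 (flp_g L6095) q560, e3 q706 L6112 q706, e3 q707 L6121 q707, e3 q708 L6126 q708, e3 q709 L7598 q876, e3 q710 (flp_g L6138) q563, e3 q711 L6155 q615, e3 q712 L6162 q616, e3 q713 L7641 q881, e3 q714 L7657 q883, e3 q715 L6188 q619, e3 q716 (flp_g L6190) q567, e3 q717 L7683 q886, e3 q718 (flp_g L6205) q569, e3 q719 (flp_g L7300) q840, e3 q720 L6227 q606, e3 q721 L6237 q721, e3 q722 L6242 q722, e3 q723 L6249 q723, e3 q724 L6255 q724, e3 q725 L6264 q725, e3 q726 L6270 q726, e3 q727 L7758 q896, e3 q728 L6283 q728, e3 q729 L6291 q729, e3 q730 L7797 q901, e3 q731 L6307 q731, e3 q732 L6314 q732, e3 q733 L6319 q733, e3 q734 L7836 q907, e3 q735 (flp_g L6329) q581, e3 q736 L6339 q622, e3 q737 L6348 q623, e3 q738 L6355 q624, e3 q739 L7885 q912, e3 q740 (flp_g L6368) q584, e3 q741 L6380 q627, e3 q742 L6388 q628, e3 q743 L7926 q917, e3 q744 L7939 q919, e3 q745 (flp_g L6404) q588, e3 q746 L6416 q746, e3 q747 L6422 q747, e3 q748 L7984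 q925, e3 q749 L7992 q926, e3 q750 L6445 q750, e3 q751 (flp_g L6446) q593, e3 q752 L8013 q929, e3 q753 (flp_g L6460) q596, e3 q754 L6473 q754, e3 q755 L6478 q755, e3 q756 L6487 q756, e3 q757 L6494 q757, e3 q758 (flp_g L7265) q837, e3 q759 (flp_g L7275) q838, e3 q760 (flp_g L7285) q839, e3 q761 (flp_g L7307) q841, e3 q762 (flp_g L7316) q842, e3 q763 (flp_g L7322) q843, e3 q764 (flp_g L7680) q885, e3 q765 (flp_g L7468) q860, e3 q766 (flp_g L7480) q861, e3 q767 (flp_g L7488) q862, trivial⟩ (by decide +kernel)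

theorem ce_g_12 : ∀ r, r < 64 → sm gg (Qf (768 + r)) = Qf (tab Gen.g (768 + r)) :=
  edges_tab (sm gg) Qf (tab Gen.g) 768 [(768, 946), (769, 609), (770, 865), (771, 866), (772, 952), (773, 953), (774, 869), (775, 613), (776, 877), (777, 956), (778, 957), (779, 880), (780, 617), (781, 618), (782, 908), (783, 909), (784, 913), (785, 625), (786, 915), (787, 629), (788, 630), (789, 632), (790, 790), (791, 791), (792, 792), (793, 793), (794, 794), (795, 795), (796, 796), (797, 797), (798, 964), (799, 799), (800, 800), (801, 969), (802, 802), (803, 803), (804, 804), (805, 975), (806, 647), (807, 667), (808, 668), (809, 669), (810, 978), (811, 650), (812, 672), (813, 670), (814, 977), (815, 976), (816, 654), (817, 817), (818, 818), (819, 984), (820, 985), (821, 821), (822, 659), (823, 987), (824, 662), (825, 825), (826, 674), (827, 827), (828, 828), (829, 829), (830, 830), (831, 831)]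
    ⟨e3 q768 L8160 q946, e3 q769 (flp_g L6587) q609, e3 q770 (flp_g L7519) q865, e3 q771 (flp_g L7527) q866, e3 q772 L8203 q952, e3 q773 L8212 q953, e3 q774 (flp_g L7547) q869, e3 q775 (flp_g L6631) q613, e3 q776 (flp_g L7612) q877, e3 q777 L8234 q956, e3 q778 L8243 q957, e3 q779 (flp_g L7639) q880, e3 q780 (flp_g L6670) q617, e3 q781 (flp_g L6678) q618, e3 q782 (flp_g L7851) q908, e3 q783 (flp_g L7864) q909, e3 q784 (flp_g L7900) q913, e3 q785 (flp_g L6724) q625, e3 q786 (flp_g L7915) q915, e3 q787 (flp_g L6737) q629, e3 q788 (flp_g L6744) q630, e3 q789 (flp_g L6750) q632, e3 q790 L6764 q790, e3 q791 L6773 q791, e3 q792 L6782 q792, e3 q793 L6810 q793, e3 q794 L6819 q794, e3 q795 L6828 q795, e3 q796 L6837 q796, e3 q797 L6846 q797, e3 q798 L8313 q964, e3 q799 L6862 q799, e3 q800 L6873 q800, e3 q801 L8363 q969, e3 q802 L6893 q802, e3 q803 L6903 q803, e3 q804 L6910 q804, e3 q805 L8413 q975, e3 q806 (flp_g L6922) q647, e3 q807 L6936 q667, e3 q808 L6952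 q668, e3 q809 L7001 q669, e3 q810 L8453 q978, e3 q811 (flp_g L7018) q650, e3 q812 L7036 q672, e3 q813 L7050 q670, e3 q814 (flp_g L8451) q977, e3 q815 (flp_g L8436) q976, e3 q816 (flp_g L7073) q654, e3 q817 L7090 q817, e3 q818 L7096 q818, e3 q819 L8522 q984, e3 q820 L8531 q985, e3 q821 L7124 q821, e3 q822 (flp_g L7125) q659, e3 q823 L8549 q987, e3 q824 (flp_g L7144) q662, e3 q825 L7160 q825, e3 q826 (flp_g L7166) q674, e3 q827 L7183 q827, e3 q828 L7192 q828, e3 q829 L7200 q829, e3 q830 L7207 q830, e3 q831 L7216 q831, trivial⟩ (by decide +kernel)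

theorem ce_g_13 : ∀ r, r < 64 → sm gg (Qf (832 + r)) = Qf (tab Gen.g (832 + r)) :=
  edges_tab (sm gg) Qf (tab Gen.g) 832 [(832, 832), (833, 833), (834, 834), (835, 835), (836, 1004), (837, 758), (838, 759), (839, 760), (840, 719), (841, 761), (842, 762), (843, 763), (844, 1015), (845, 688), (846, 846), (847, 847), (848, 848), (849, 849), (850, 850), (851, 1025), (852, 852), (853, 853), (854, 1030), (855, 855), (856, 856), (857, 857), (858, 1036), (859, 697), (860, 765), (861, 766), (862, 767), (863, 1042), (864, 700), (865, 770), (866, 771), (867, 1048), (868, 1050), (869, 774), (870, 704), (871, 871), (872, 872), (873, 1058), (874, 1060), (875, 875), (876, 709), (877, 776), (878, 1065), (879, 1067), (880, 779), (881, 713), (882, 1070), (883, 714), (884, 1009), (885, 764), (886, 717), (887, 999), (888, 888), (889, 889), (890, 890), (891, 1077), (892, 892), (893, 893), (894, 894), (895, 1083)]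
    ⟨e3 q832 L7225 q832, e3 q833 L7234 q833, e3 q834 L7243 q834, e3 q835 L7251 q835, e3 q836 L8702 q1004, e3 q837 L7265 q758, e3 q838 L7275 q759, e3 q839 L7285 q760, e3 q840 L7300 q719, e3 q841 L7307 q761, e3 q842 L7316 q762, e3 q843 L7322 q763, e3 q844 L8805 q1015, e3 q845 (flp_g L7333) q688, e3 q846 L7349 q846, e3 q847 L7357 q847, e3 q848 L7365 q848, e3 q849 L7373 q849, e3 q850 L7382 q850, e3 q851 L8897 q1025, e3 q852 L7397 q852, e3 q853 L7408 q853, e3 q854 L8944 q1030, e3 q855 L7428 q855, e3 q856 L7438 q856, e3 q857 L7444 q857, e3 q858 L8991 q1036, e3 q859 (flp_g L7454) q697, e3 q860 L7468 q765, e3 q861 L7480 q766, e3 q862 L7488 q767, e3 q863 L9047 q1042, e3 q864 (flp_g L7501) q700, e3 q865 L7519 q770, e3 q866 L7527 q771, e3 q867 L9094 q1048, e3 q868 L9108 q1050, e3 q869 L7547 q774, e3 q870 (flp_g L7551) q704, e3 q871 L7567 q871, e3 q872 L7573 q872, e3 q873 L9171 q1058, e3 q874 L9189 q1060, e3 q875 L7597 q875, e3 q876 (flp_g L7598) q709, e3 q877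 L7612 q776, e3 q878 L9228 q1065, e3 q879 L9245 q1067, e3 q880 L7639 q779, e3 q881 (flp_g L7641) q713, e3 q882 L9271 q1070, e3 q883 (flp_g L7657) q714, e3 q884 (flp_g L8765) q1009, e3 q885 L7680 q764, e3 q886 (flp_g L7683) q717, e3 q887 L8669 q999, e3 q888 L7700 q888, e3 q889 L7709 q889, e3 q890 L7720 q890, e3 q891 L9327 q1077, e3 q892 L7734 q892, e3 q893 L7744 q893, e3 q894 L7748 q894, e3 q895 L9370 q1083, trivial⟩ (by decide +kernel)

theorem ce_g_14 : ∀ r, r < 64 → sm gg (Qf (896 + r)) = Qf (tab Gen.g (896 + r)) :=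
  edges_tab (sm gg) Qf (tab Gen.g) 896 [(896, 727), (897, 897), (898, 898), (899, 899), (900, 1089), (901, 730), (902, 902), (903, 903), (904, 1095), (905, 1097), (906, 906), (907, 734), (908, 782), (909, 783), (910, 1103), (911, 979), (912, 739), (913, 784), (914, 1102), (915, 786), (916, 1100), (917, 743), (918, 1108), (919, 744), (920, 920), (921, 1111), (922, 922), (923, 1114), (924, 924), (925, 748), (926, 749), (927, 1116), (928, 928), (929, 752), (930, 930), (931, 931), (932, 1005), (933, 1006), (934, 1007), (935, 1008), (936, 1010), (937, 1011), (938, 1069), (939, 1052), (940, 1014), (941, 1037), (942, 1038), (943, 1105), (944, 1133), (945, 1041), (946, 768), (947, 1043), (948, 1101), (949, 1045), (950, 1136), (951, 1047), (952, 772), (953, 773), (954, 1137), (955, 1064), (956, 777), (957, 778), (958, 958), (959, 959)]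
    ⟨e3 q896 (flp_g L7758) q727, e3 q897 L7770 q897, e3 q898 L7778 q898, e3 q899 L7784 q899, e3 q900 L9413 q1089, e3 q901 (flp_g L7797) q730, e3 q902 L7809 q902, e3 q903 L7816 q903, e3 q904 L9455 q1095, e3 q905 L9469 q1097, e3 q906 L7833 q906, e3 q907 (flp_g L7836) q734, e3 q908 L7851 q782, e3 q909 L7864 q783, e3 q910 L9525 q1103, e3 q911 (flp_g L8481) q979, e3 q912 (flp_g L7885) q739, e3 q913 L7900 q784, e3 q914 (flp_g L9523) q1102, e3 q915 L7915 q786, e3 q916 (flp_g L9497) q1100, e3 q917 (flp_g L7926) q743, e3 q918 L9568 q1108, e3 q919 (flp_g L7939) q744, e3 q920 L7951 q920, e3 q921 L9590 q1111, e3 q922 L7966 q922, e3 q923 L9613 q1114, e3 q924 L7983 q924, e3 q925 (flp_g L7984) q748, e3 q926 (flp_g L7992) q749, e3 q927 (flp_g L9634) q1116, e3 q928 L8011 q928, e3 q929 (flp_g L8013) q752, e3 q930 L8026 q930, e3 q931 L8035 q931, e3 q932 (flp_g L8717) q1005, e3 q933 (flp_g L8728) q1006, e3 q934 (flp_g L8738) q1007, e3 q935 (flp_g L8747) q1008, e3 q936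 (flp_g L8773) q1010, e3 q937 (flp_g L8780) q1011, e3 q938 (flp_g L9268) q1069, e3 q939 (flp_g L9130) q1052, e3 q940 (flp_g L8802) q1014, e3 q941 (flp_g L9008) q1037, e3 q942 (flp_g L9017) q1038, e3 q943 (flp_g L9549) q1105, e3 q944 L9786 q1133, e3 q945 (flp_g L9044) q1041, e3 q946 (flp_g L8160) q768, e3 q947 (flp_g L9062) q1043, e3 q948 (flp_g L9504) q1101, e3 q949 (flp_g L9075) q1045, e3 q950 L9807 q1136, e3 q951 (flp_g L9090) q1047, e3 q952 (flp_g L8203) q772, e3 q953 (flp_g L8212) q773, e3 q954 L9813 q1137, e3 q955 (flp_g L9226) q1064, e3 q956 (flp_g L8234) q777, e3 q957 (flp_g L8243) q778, e3 q958 L8258 q958, e3 q959 L8271 q959, trivial⟩ (by decide +kernel)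

theorem ce_g_15 : ∀ r, r < 64 → sm gg (Qf (960 + r)) = Qf (tab Gen.g (960 + r)) :=
  edges_tab (sm gg) Qf (tab Gen.g) 960 [(960, 1141), (961, 961), (962, 962), (963, 1146), (964, 798), (965, 965), (966, 966), (967, 967), (968, 1152), (969, 801), (970, 970), (971, 971), (972, 1156), (973, 1158), (974, 974), (975, 805), (976, 815), (977, 814), (978, 810), (979, 911), (980, 1149), (981, 981), (982, 1161), (983, 1162), (984, 819), (985, 820), (986, 1163), (987, 823), (988, 988), (989, 989), (990, 990), (991, 991), (992, 992), (993, 993), (994, 1174), (995, 995), (996, 996), (997, 997), (998, 998), (999, 887), (1000, 1000), (1001, 1001), (1002, 1002), (1003, 1186), (1004, 836), (1005, 932), (1006, 933), (1007, 934), (1008, 935), (1009, 884), (1010, 936), (1011, 937), (1012, 1197), (1013, 1199), (1014, 940), (1015, 844), (1016, 1016), (1017, 1017), (1018, 1018), (1019, 1019), (1020, 1207), (1021, 1021), (1022, 1022), (1023, 1023)]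
    ⟨e3 q960 L9861 q1141, e3 q961 L8293 q961, e3 q962 L8301 q962, e3 q963 L9910 q1146, e3 q964 (flp_g L8313) q798, e3 q965 L8329 q965, e3 q966 L8340 q966, e3 q967 L8348 q967, e3 q968 L9971 q1152, e3 q969 (flp_g L8363) q801, e3 q970 L8381 q970, e3 q971 L8388 q971, e3 q972 L10018 q1156, e3 q973 L10039 q1158, e3 q974 L8410 q974, e3 q975 (flp_g L8413) q805, e3 q976 L8436 q815, e3 q977 L8451 q814, e3 q978 (flp_g L8453) q810, e3 q979 L8481 q911, e3 q980 L9952 q1149, e3 q981 L8496 q981, e3 q982 L10068 q1161, e3 q983 L10081 q1162, e3 q984 (flp_g L8522) q819, e3 q985 (flp_g L8531) q820, e3 q986 (flp_g L10097) q1163, e3 q987 (flp_g L8549) q823, e3 q988 L8566 q988, e3 q989 L8575 q989, e3 q990 L8584 q990, e3 q991 L8594 q991, e3 q992 L8605 q992, e3 q993 L8612 q993, e3 q994 L10189 q1174, e3 q995 L8625 q995, e3 q996 L8634 q996, e3 q997 L8647 q997, e3 q998 L8656 q998, e3 q999 (flp_g L8669) q887, e3 q1000 L8678 q1000, e3 q1001 L8686 q1001, e3 q1002 L8691 q1002, e3 q1003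 L10295 q1186, e3 q1004 (flp_g L8702) q836, e3 q1005 L8717 q932, e3 q1006 L8728 q933, e3 q1007 L8738 q934, e3 q1008 L8747 q935, e3 q1009 L8765 q884, e3 q1010 L8773 q936, e3 q1011 L8780 q937, e3 q1012 L10404 q1197, e3 q1013 L10420 q1199, e3 q1014 L8802 q940, e3 q1015 (flp_g L8805) q844, e3 q1016 L8819 q1016, e3 q1017 L8831 q1017, e3 q1018 L8839 q1018, e3 q1019 L8853 q1019, e3 q1020 L10498 q1207, e3 q1021 L8871 q1021, e3 q1022 L8882 q1022, e3 q1023 L8887 q1023, trivial⟩ (by decide +kernel)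

theorem ce_g_16 : ∀ r, r < 64 → sm gg (Qf (1024 + r)) = Qf (tab Gen.g (1024 + r)) :=
  edges_tab (sm gg) Qf (tab Gen.g) 1024 [(1024, 1213), (1025, 851), (1026, 1026), (1027, 1027), (1028, 1028), (1029, 1219), (1030, 854), (1031, 1031), (1032, 1032), (1033, 1225), (1034, 1227), (1035, 1035), (1036, 858), (1037, 941), (1038, 942), (1039, 1235), (1040, 1237), (1041, 945), (1042, 863), (1043, 947), (1044, 1243), (1045, 949), (1046, 1247), (1047, 951), (1048, 867), (1049, 1250), (1050, 868), (1051, 1191), (1052, 939), (1053, 1053), (1054, 1255), (1055, 1055), (1056, 1259), (1057, 1057), (1058, 873), (1059, 1262), (1060, 874), (1061, 1264), (1062, 1062), (1063, 1267), (1064, 955), (1065, 878), (1066, 1270), (1067, 879), (1068, 1190), (1069, 938), (1070, 882), (1071, 1180), (1072, 1169), (1073, 1274), (1074, 1074), (1075, 1075), (1076, 1278), (1077, 891), (1078, 1078), (1079, 1079), (1080, 1284), (1081, 1286), (1082, 1082), (1083, 895), (1084, 1084), (1085,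 1085), (1086, 1294), (1087, 1296)]
    ⟨e3 q1024 L10547 q1213, e3 q1025 (flp_g L8897) q851, e3 q1026 L8913 q1026, e3 q1027 L8924 q1027, e3 q1028 L8931 q1028, e3 q1029 L10596 q1219, e3 q1030 (flp_g L8944) q854, e3 q1031 L8962 q1031, e3 q1032 L8969 q1032, e3 q1033 L10642 q1225, e3 q1034 L10658 q1227, e3 q1035 L8988 q1035, e3 q1036 (flp_g L8991) q858, e3 q1037 L9008 q941, e3 q1038 L9017 q942, e3 q1039 L10728 q1235, e3 q1040 L10747 q1237, e3 q1041 L9044 q945, e3 q1042 (flp_g L9047) q863, e3 q1043 L9062 q947, e3 q1044 L10803 q1243, e3 q1045 L9075 q949, e3 q1046 L10835 q1247, e3 q1047 L9090 q951, e3 q1048 (flp_g L9094) q867, e3 q1049 L10859 q1250, e3 q1050 (flp_g L9108) q868, e3 q1051 (flp_g L10363) q1191, e3 q1052 L9130 q939, e3 q1053 L9137 q1053, e3 q1054 L10895 q1255, e3 q1055 L9153 q1055, e3 q1056 L10929 q1259, e3 q1057 L9170 q1057, e3 q1058 (flp_g L9171) q873, e3 q1059 L10950 q1262, e3 q1060 (flp_g L9189) q874, e3 q1061 (flp_g L10971) q1264, e3 q1062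 L9208 q1062, e3 q1063 L10988 q1267, e3 q1064 L9226 q955, e3 q1065 (flp_g L9228) q878, e3 q1066 L11017 q1270, e3 q1067 (flp_g L9245) q879, e3 q1068 (flp_g L10351) q1190, e3 q1069 L9268 q938, e3 q1070 (flp_g L9271) q882, e3 q1071 L10258 q1180, e3 q1072 L10157 q1169, e3 q1073 L11043 q1274, e3 q1074 L9307 q1074, e3 q1075 L9314 q1075, e3 q1076 L11082 q1278, e3 q1077 (flp_g L9327) q891, e3 q1078 L9341 q1078, e3 q1079 L9349 q1079, e3 q1080 L11129 q1284, e3 q1081 L11142 q1286, e3 q1082 L9368 q1082, e3 q1083 (flp_g L9370) q895, e3 q1084 L9381 q1084, e3 q1085 L9389 q1085, e3 q1086 L11205 q1294, e3 q1087 L11224 q1296, trivial⟩ (by decide +kernel)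

theorem ce_g_17 : ∀ r, r < 64 → sm gg (Qf (1088 + r)) = Qf (tab Gen.g (1088 + r)) :=
  edges_tab (sm gg) Qf (tab Gen.g) 1088 [(1088, 1088), (1089, 900), (1090, 1090), (1091, 1301), (1092, 1092), (1093, 1305), (1094, 1094), (1095, 904), (1096, 1307), (1097, 905), (1098, 1309), (1099, 1099), (1100, 916), (1101, 948), (1102, 914), (1103, 910), (1104, 1154), (1105, 943), (1106, 1231), (1107, 1290), (1108, 918), (1109, 1109), (1110, 1313), (1111, 921), (1112, 1314), (1113, 1113), (1114, 923), (1115, 1317), (1116, 927), (1117, 1318), (1118, 1118), (1119, 1187), (1120, 1188), (1121, 1189), (1122, 1192), (1123, 1269), (1124, 1194), (1125, 1249), (1126, 1196), (1127, 1201), (1128, 1239), (1129, 1230), (1130, 1232), (1131, 1240), (1132, 1234), (1133, 944), (1134, 1242), (1135, 1245), (1136, 950), (1137, 954), (1138, 1326), (1139, 1139), (1140, 1328), (1141, 960), (1142, 1142), (1143, 1332), (1144, 1334), (1145, 1145), (1146, 963), (1147, 1147), (1148, 1148),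 (1149, 980), (1150, 1339), (1151, 1151)]
    ⟨e3 q1088 L9411 q1088, e3 q1089 (flp_g L9413) q900, e3 q1090 L9427 q1090, e3 q1091 L11255 q1301, e3 q1092 L9440 q1092, e3 q1093 L11285 q1305, e3 q1094 L9452 q1094, e3 q1095 (flp_g L9455) q904, e3 q1096 L11300 q1307, e3 q1097 (flp_g L9469) q905, e3 q1098 (flp_g L11315) q1309, e3 q1099 L9485 q1099, e3 q1100 L9497 q916, e3 q1101 L9504 q948, e3 q1102 L9523 q914, e3 q1103 (flp_g L9525) q910, e3 q1104 L10010 q1154, e3 q1105 L9549 q943, e3 q1106 (flp_g L10698) q1231, e3 q1107 L11182 q1290, e3 q1108 (flp_g L9568) q918, e3 q1109 L9580 q1109, e3 q1110 L11340 q1313, e3 q1111 (flp_g L9590) q921, e3 q1112 L11349 q1314, e3 q1113 L9612 q1113, e3 q1114 (flp_g L9613) q923, e3 q1115 (flp_g L11375) q1317, e3 q1116 L9634 q927, e3 q1117 (flp_g L11382) q1318, e3 q1118 L9647 q1118, e3 q1119 (flp_g L10312) q1187, e3 q1120 (flp_g L10324) q1188, e3 q1121 (flp_g L10334) q1189, e3 q1122 (flp_g L10370) q1192, e3 q1123 (flp_g L11014)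 q1269, e3 q1124 (flp_g L10385) q1194, e3 q1125 (flp_g L10857) q1249, e3 q1126 (flp_g L10401) q1196, e3 q1127 (flp_g L10444) q1201, e3 q1128 (flp_g L10771) q1239, e3 q1129 (flp_g L10682) q1230, e3 q1130 (flp_g L10704) q1232, e3 q1131 (flp_g L10779) q1240, e3 q1132 (flp_g L10725) q1234, e3 q1133 (flp_g L9786) q944, e3 q1134 (flp_g L10799) q1242, e3 q1135 (flp_g L10828) q1245, e3 q1136 (flp_g L9807) q950, e3 q1137 (flp_g L9813) q954, e3 q1138 L11479 q1326, e3 q1139 L9840 q1139, e3 q1140 L11506 q1328, e3 q1141 (flp_g L9861) q960, e3 q1142 L9878 q1142, e3 q1143 L11556 q1332, e3 q1144 L11576 q1334, e3 q1145 L9908 q1145, e3 q1146 (flp_g L9910) q963, e3 q1147 L9926 q1147, e3 q1148 L9936 q1148, e3 q1149 (flp_g L9952) q980, e3 q1150 L11637 q1339, e3 q1151 L9969 q1151, trivial⟩ (by decide +kernel)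

theorem ce_g_18 : ∀ r, r < 64 → sm gg (Qf (1152 + r)) = Qf (tab Gen.g (1152 + r)) :=
  edges_tab (sm gg) Qf (tab Gen.g) 1152 [(1152, 968), (1153, 1153), (1154, 1104), (1155, 1338), (1156, 972), (1157, 1337), (1158, 973), (1159, 1343), (1160, 1344), (1161, 982), (1162, 983), (1163, 986), (1164, 1164), (1165, 1165), (1166, 1349), (1167, 1167), (1168, 1168), (1169, 1072), (1170, 1170), (1171, 1171), (1172, 1172), (1173, 1358), (1174, 994), (1175, 1175), (1176, 1176), (1177, 1177), (1178, 1178), (1179, 1179), (1180, 1071), (1181, 1181), (1182, 1182), (1183, 1372), (1184, 1374), (1185, 1185), (1186, 1003), (1187, 1119), (1188, 1120), (1189, 1121), (1190, 1068), (1191, 1051), (1192, 1122), (1193, 1385), (1194, 1124), (1195, 1389), (1196, 1126), (1197, 1012), (1198, 1392), (1199, 1013), (1200, 1394), (1201, 1127), (1202, 1202), (1203, 1398), (1204, 1204), (1205, 1205), (1206, 1403), (1207, 1020), (1208, 1208), (1209, 1209), (1210, 1409), (1211, 1411), (1212,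 1212), (1213, 1024), (1214, 1214), (1215, 1215)]
    ⟨e3 q1152 (flp_g L9971) q968, e3 q1153 L9991 q1153, e3 q1154 (flp_g L10010) q1104, e3 q1155 L11635 q1338, e3 q1156 (flp_g L10018) q972, e3 q1157 L11622 q1337, e3 q1158 (flp_g L10039) q973, e3 q1159 (flp_g L11690) q1343, e3 q1160 L11694 q1344, e3 q1161 (flp_g L10068) q982, e3 q1162 (flp_g L10081) q983, e3 q1163 L10097 q986, e3 q1164 L10103 q1164, e3 q1165 L10113 q1165, e3 q1166 L11744 q1349, e3 q1167 L10131 q1167, e3 q1168 L10143 q1168, e3 q1169 (flp_g L10157) q1072, e3 q1170 L10165 q1170, e3 q1171 L10174 q1171, e3 q1172 L10178 q1172, e3 q1173 L11823 q1358, e3 q1174 (flp_g L10189) q994, e3 q1175 L10204 q1175, e3 q1176 L10214 q1176, e3 q1177 L10227 q1177, e3 q1178 L10236 q1178, e3 q1179 L10242 q1179, e3 q1180 (flp_g L10258) q1071, e3 q1181 L10266 q1181, e3 q1182 L10272 q1182, e3 q1183 L11946 q1372, e3 q1184 L11964 q1374, e3 q1185 L10293 q1185, e3 q1186 (flp_g L10295) q1003, e3 q1187 L10312 q1119, e3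 q1188 L10324 q1120, e3 q1189 L10334 q1121, e3 q1190 L10351 q1068, e3 q1191 L10363 q1051, e3 q1192 L10370 q1122, e3 q1193 L12086 q1385, e3 q1194 L10385 q1124, e3 q1195 L12124 q1389, e3 q1196 L10401 q1126, e3 q1197 (flp_g L10404) q1012, e3 q1198 L12156 q1392, e3 q1199 (flp_g L10420) q1013, e3 q1200 (flp_g L12178) q1394, e3 q1201 L10444 q1127, e3 q1202 L10455 q1202, e3 q1203 L12214 q1398, e3 q1204 L10477 q1204, e3 q1205 L10485 q1205, e3 q1206 L12262 q1403, e3 q1207 (flp_g L10498) q1020, e3 q1208 L10516 q1208, e3 q1209 L10524 q1209, e3 q1210 L12309 q1409, e3 q1211 L12324 q1411, e3 q1212 L10545 q1212, e3 q1213 (flp_g L10547) q1024, e3 q1214 L10562 q1214, e3 q1215 L10570 q1215, trivial⟩ (by decide +kernel)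

theorem ce_g_19 : ∀ r, r < 64 → sm gg (Qf (1216 + r)) = Qf (tab Gen.g (1216 + r)) :=
  edges_tab (sm gg) Qf (tab Gen.g) 1216 [(1216, 1419), (1217, 1421), (1218, 1218), (1219, 1029), (1220, 1220), (1221, 1427), (1222, 1222), (1223, 1431), (1224, 1224), (1225, 1033), (1226, 1434), (1227, 1034), (1228, 1436), (1229, 1229), (1230, 1129), (1231, 1106), (1232, 1130), (1233, 1441), (1234, 1132), (1235, 1039), (1236, 1443), (1237, 1040), (1238, 1395), (1239, 1128), (1240, 1131), (1241, 1439), (1242, 1134), (1243, 1044), (1244, 1438), (1245, 1135), (1246, 1449), (1247, 1046), (1248, 1380), (1249, 1125), (1250, 1049), (1251, 1381), (1252, 1252), (1253, 1455), (1254, 1254), (1255, 1054), (1256, 1459), (1257, 1257), (1258, 1463), (1259, 1056), (1260, 1465), (1261, 1261), (1262, 1059), (1263, 1467), (1264, 1061), (1265, 1470), (1266, 1471), (1267, 1063), (1268, 1378), (1269, 1123), (1270, 1066), (1271, 1364), (1272, 1365), (1273, 1352), (1274, 1073), (1275, 1275),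 (1276, 1478), (1277, 1480), (1278, 1076), (1279, 1279)]
    ⟨e3 q1216 L12390 q1419, e3 q1217 L12411 q1421, e3 q1218 L10594 q1218, e3 q1219 (flp_g L10596) q1029, e3 q1220 L10612 q1220, e3 q1221 L12454 q1427, e3 q1222 L10626 q1222, e3 q1223 L12485 q1431, e3 q1224 L10639 q1224, e3 q1225 (flp_g L10642) q1033, e3 q1226 L12507 q1434, e3 q1227 (flp_g L10658) q1034, e3 q1228 (flp_g L12523) q1436, e3 q1229 L10676 q1229, e3 q1230 L10682 q1129, e3 q1231 L10698 q1106, e3 q1232 L10704 q1130, e3 q1233 L12566 q1441, e3 q1234 L10725 q1132, e3 q1235 (flp_g L10728) q1039, e3 q1236 L12587 q1443, e3 q1237 (flp_g L10747) q1040, e3 q1238 (flp_g L12190) q1395, e3 q1239 L10771 q1128, e3 q1240 L10779 q1131, e3 q1241 (flp_g L12558) q1439, e3 q1242 L10799 q1134, e3 q1243 (flp_g L10803) q1044, e3 q1244 (flp_g L12545) q1438, e3 q1245 L10828 q1135, e3 q1246 L12630 q1449, e3 q1247 (flp_g L10835) q1046, e3 q1248 (flp_g L12036) q1380, e3 q1249 L10857 q1125, e3 q1250 (flp_g L10859)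 q1049, e3 q1251 (flp_g L12042) q1381, e3 q1252 L10876 q1252, e3 q1253 L12673 q1455, e3 q1254 L10894 q1254, e3 q1255 (flp_g L10895) q1054, e3 q1256 L12705 q1459, e3 q1257 L10920 q1257, e3 q1258 L12735 q1463, e3 q1259 (flp_g L10929) q1056, e3 q1260 (flp_g L12756) q1465, e3 q1261 L10948 q1261, e3 q1262 (flp_g L10950) q1059, e3 q1263 (flp_g L12771) q1467, e3 q1264 L10971 q1061, e3 q1265 (flp_g L12792) q1470, e3 q1266 L12795 q1471, e3 q1267 (flp_g L10988) q1063, e3 q1268 (flp_g L12010) q1378, e3 q1269 L11014 q1123, e3 q1270 (flp_g L11017) q1066, e3 q1271 L11892 q1364, e3 q1272 L11901 q1365, e3 q1273 L11784 q1352, e3 q1274 (flp_g L11043) q1073, e3 q1275 L11057 q1275, e3 q1276 L12854 q1478, e3 q1277 L12878 q1480, e3 q1278 (flp_g L11082) q1076, e3 q1279 L11096 q1279, trivial⟩ (by decide +kernel)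

theorem ce_g_20 : ∀ r, r < 64 → sm gg (Qf (1280 + r)) = Qf (tab Gen.g (1280 + r)) :=
  edges_tab (sm gg) Qf (tab Gen.g) 1280 [(1280, 1484), (1281, 1281), (1282, 1488), (1283, 1283), (1284, 1080), (1285, 1491), (1286, 1081), (1287, 1493), (1288, 1288), (1289, 1289), (1290, 1107), (1291, 1291), (1292, 1500), (1293, 1293), (1294, 1086), (1295, 1341), (1296, 1087), (1297, 1479), (1298, 1298), (1299, 1299), (1300, 1499), (1301, 1091), (1302, 1504), (1303, 1303), (1304, 1496), (1305, 1093), (1306, 1508), (1307, 1096), (1308, 1494), (1309, 1098), (1310, 1492), (1311, 1415), (1312, 1510), (1313, 1110), (1314, 1112), (1315, 1511), (1316, 1316), (1317, 1115), (1318, 1117), (1319, 1319), (1320, 1377), (1321, 1379), (1322, 1382), (1323, 1387), (1324, 1384), (1325, 1391), (1326, 1138), (1327, 1516), (1328, 1140), (1329, 1329), (1330, 1519), (1331, 1331), (1332, 1143), (1333, 1520), (1334, 1144), (1335, 1518), (1336, 1336), (1337, 1157), (1338, 1155), (1339, 1150),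 (1340, 1515), (1341, 1295), (1342, 1517), (1343, 1159)]
    ⟨e3 q1280 L12920 q1484, e3 q1281 L11113 q1281, e3 q1282 L12951 q1488, e3 q1283 L11127 q1283, e3 q1284 (flp_g L11129) q1080, e3 q1285 L12976 q1491, e3 q1286 (flp_g L11142) q1081, e3 q1287 (flp_g L13009) q1493, e3 q1288 L11162 q1288, e3 q1289 L11167 q1289, e3 q1290 (flp_g L11182) q1107, e3 q1291 L11187 q1291, e3 q1292 L13076 q1500, e3 q1293 L11203 q1293, e3 q1294 (flp_g L11205) q1086, e3 q1295 L11675 q1341, e3 q1296 (flp_g L11224) q1087, e3 q1297 L12876 q1479, e3 q1298 L11240 q1298, e3 q1299 L11248 q1299, e3 q1300 L13074 q1499, e3 q1301 (flp_g L11255) q1091, e3 q1302 L13107 q1504, e3 q1303 L11277 q1303, e3 q1304 L13047 q1496, e3 q1305 (flp_g L11285) q1093, e3 q1306 (flp_g L13136) q1508, e3 q1307 (flp_g L11300) q1096, e3 q1308 (flp_g L13023) q1494, e3 q1309 L11315 q1098, e3 q1310 (flp_g L12996) q1492, e3 q1311 L12367 q1415, e3 q1312 L13144 q1510, e3 q1313 (flp_g L11340) q1110, e3 q1314 (flp_g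 L11349) q1112, e3 q1315 (flp_g L13160) q1511, e3 q1316 L11368 q1316, e3 q1317 L11375 q1115, e3 q1318 L11382 q1117, e3 q1319 L11389 q1319, e3 q1320 (flp_g L11990) q1377, e3 q1321 (flp_g L12018) q1379, e3 q1322 (flp_g L12056) q1382, e3 q1323 (flp_g L12112) q1387, e3 q1324 (flp_g L12081) q1384, e3 q1325 (flp_g L12152) q1391, e3 q1326 (flp_g L11479) q1138, e3 q1327 L13195 q1516, e3 q1328 (flp_g L11506) q1140, e3 q1329 L11525 q1329, e3 q1330 L13245 q1519, e3 q1331 L11552 q1331, e3 q1332 (flp_g L11556) q1143, e3 q1333 (flp_g L13274) q1520, e3 q1334 (flp_g L11576) q1144, e3 q1335 L13241 q1518, e3 q1336 L11602 q1336, e3 q1337 (flp_g L11622) q1157, e3 q1338 (flp_g L11635) q1155, e3 q1339 (flp_g L11637) q1150, e3 q1340 L13193 q1515, e3 q1341 (flp_g L11675) q1295, e3 q1342 L13227 q1517, e3 q1343 L11690 q1159, trivial⟩ (by decide +kernel)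

theorem ce_g_21 : ∀ r, r < 64 → sm gg (Qf (1344 + r)) = Qf (tab Gen.g (1344 + r)) :=
  edges_tab (sm gg) Qf (tab Gen.g) 1344 [(1344, 1160), (1345, 1345), (1346, 1346), (1347, 1347), (1348, 1526), (1349, 1166), (1350, 1350), (1351, 1351), (1352, 1273), (1353, 1353), (1354, 1354), (1355, 1536), (1356, 1538), (1357, 1357), (1358, 1173), (1359, 1359), (1360, 1360), (1361, 1361), (1362, 1362), (1363, 1363), (1364, 1271), (1365, 1272), (1366, 1366), (1367, 1367), (1368, 1555), (1369, 1369), (1370, 1559), (1371, 1371), (1372, 1183), (1373, 1562), (1374, 1184), (1375, 1564), (1376, 1376), (1377, 1320), (1378, 1268), (1379, 1321), (1380, 1248), (1381, 1251), (1382, 1322), (1383, 1571), (1384, 1324), (1385, 1193), (1386, 1572), (1387, 1323), (1388, 1574), (1389, 1195), (1390, 1569), (1391, 1325), (1392, 1198), (1393, 1578), (1394, 1200), (1395, 1238), (1396, 1396), (1397, 1582), (1398, 1203), (1399, 1399), (1400, 1586), (1401, 1588), (1402, 1402), (1403, 1206),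 (1404, 1404), (1405, 1594), (1406, 1406), (1407, 1598)]
    ⟨e3 q1344 (flp_g L11694) q1160, e3 q1345 L11714 q1345, e3 q1346 L11724 q1346, e3 q1347 L11731 q1347, e3 q1348 L13320 q1526, e3 q1349 (flp_g L11744) q1166, e3 q1350 L11761 q1350, e3 q1351 L11768 q1351, e3 q1352 (flp_g L11784) q1273, e3 q1353 L11792 q1353, e3 q1354 L11799 q1354, e3 q1355 L13414 q1536, e3 q1356 L13431 q1538, e3 q1357 L11822 q1357, e3 q1358 (flp_g L11823) q1173, e3 q1359 L11838 q1359, e3 q1360 L11848 q1360, e3 q1361 L11859 q1361, e3 q1362 L11869 q1362, e3 q1363 L11876 q1363, e3 q1364 (flp_g L11892) q1271, e3 q1365 (flp_g L11901) q1272, e3 q1366 L11908 q1366, e3 q1367 L11914 q1367, e3 q1368 L13588 q1555, e3 q1369 L11930 q1369, e3 q1370 L13620 q1559, e3 q1371 L11944 q1371, e3 q1372 (flp_g L11946) q1183, e3 q1373 L13644 q1562, e3 q1374 (flp_g L11964) q1184, e3 q1375 (flp_g L13664) q1564, e3 q1376 L11984 q1376, e3 q1377 L11990 q1320, e3 q1378 L12010 q1268, e3 q1379 L12018 q1321, e3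 q1380 L12036 q1248, e3 q1381 L12042 q1251, e3 q1382 L12056 q1322, e3 q1383 L13736 q1571, e3 q1384 L12081 q1324, e3 q1385 (flp_g L12086) q1193, e3 q1386 (flp_g L13760) q1572, e3 q1387 L12112 q1323, e3 q1388 L13772 q1574, e3 q1389 (flp_g L12124) q1195, e3 q1390 (flp_g L13727) q1569, e3 q1391 L12152 q1325, e3 q1392 (flp_g L12156) q1198, e3 q1393 (flp_g L13823) q1578, e3 q1394 L12178 q1200, e3 q1395 L12190 q1238, e3 q1396 L12199 q1396, e3 q1397 L13852 q1582, e3 q1398 (flp_g L12214) q1203, e3 q1399 L12231 q1399, e3 q1400 L13894 q1586, e3 q1401 L13916 q1588, e3 q1402 L12261 q1402, e3 q1403 (flp_g L12262) q1206, e3 q1404 L12276 q1404, e3 q1405 L13966 q1594, e3 q1406 L12292 q1406, e3 q1407 L13998 q1598, trivial⟩ (by decide +kernel)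

theorem ce_g_22 : ∀ r, r < 64 → sm gg (Qf (1408 + r)) = Qf (tab Gen.g (1408 + r)) :=
  edges_tab (sm gg) Qf (tab Gen.g) 1408 [(1408, 1408), (1409, 1210), (1410, 1601), (1411, 1211), (1412, 1603), (1413, 1413), (1414, 1414), (1415, 1311), (1416, 1416), (1417, 1611), (1418, 1418), (1419, 1216), (1420, 1614), (1421, 1217), (1422, 1616), (1423, 1423), (1424, 1424), (1425, 1622), (1426, 1426), (1427, 1221), (1428, 1626), (1429, 1429), (1430, 1630), (1431, 1223), (1432, 1632), (1433, 1433), (1434, 1226), (1435, 1635), (1436, 1228), (1437, 1638), (1438, 1244), (1439, 1241), (1440, 1641), (1441, 1233), (1442, 1576), (1443, 1236), (1444, 1577), (1445, 1640), (1446, 1566), (1447, 1639), (1448, 1567), (1449, 1246), (1450, 1568), (1451, 1549), (1452, 1649), (1453, 1453), (1454, 1652), (1455, 1253), (1456, 1654), (1457, 1457), (1458, 1656), (1459, 1256), (1460, 1658), (1461, 1461), (1462, 1462), (1463, 1258), (1464, 1663), (1465, 1260), (1466, 1666), (1467, 1263),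 (1468, 1550), (1469, 1667), (1470, 1265), (1471, 1266)]
    ⟨e3 q1408 L12307 q1408, e3 q1409 (flp_g L12309) q1210, e3 q1410 L14018 q1601, e3 q1411 (flp_g L12324) q1211, e3 q1412 (flp_g L14039) q1603, e3 q1413 L12346 q1413, e3 q1414 L12352 q1414, e3 q1415 (flp_g L12367) q1311, e3 q1416 L12371 q1416, e3 q1417 L14098 q1611, e3 q1418 L12388 q1418, e3 q1419 (flp_g L12390) q1216, e3 q1420 L14124 q1614, e3 q1421 (flp_g L12411) q1217, e3 q1422 (flp_g L14142) q1616, e3 q1423 L12429 q1423, e3 q1424 L12436 q1424, e3 q1425 L14181 q1622, e3 q1426 L12451 q1426, e3 q1427 (flp_g L12454) q1221, e3 q1428 L14212 q1626, e3 q1429 L12478 q1429, e3 q1430 L14237 q1630, e3 q1431 (flp_g L12485) q1223, e3 q1432 (flp_g L14256) q1632, e3 q1433 L12506 q1433, e3 q1434 (flp_g L12507) q1226, e3 q1435 (flp_g L14279) q1635, e3 q1436 L12523 q1228, e3 q1437 (flp_g L14299) q1638, e3 q1438 L12545 q1244, e3 q1439 L12558 q1241, e3 q1440 L14323 q1641, e3 q1441 (flp_g L12566) q1233, e3 q1442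 (flp_g L13799) q1576, e3 q1443 (flp_g L12587) q1236, e3 q1444 (flp_g L13811) q1577, e3 q1445 (flp_g L14319) q1640, e3 q1446 (flp_g L13686) q1566, e3 q1447 (flp_g L14308) q1639, e3 q1448 (flp_g L13700) q1567, e3 q1449 (flp_g L12630) q1246, e3 q1450 (flp_g L13706) q1568, e3 q1451 (flp_g L13539) q1549, e3 q1452 L14383 q1649, e3 q1453 L12663 q1453, e3 q1454 L14410 q1652, e3 q1455 (flp_g L12673) q1253, e3 q1456 (flp_g L14434) q1654, e3 q1457 L12695 q1457, e3 q1458 L14444 q1656, e3 q1459 (flp_g L12705) q1256, e3 q1460 (flp_g L14467) q1658, e3 q1461 L12724 q1461, e3 q1462 L12733 q1462, e3 q1463 (flp_g L12735) q1258, e3 q1464 (flp_g L14503) q1663, e3 q1465 L12756 q1260, e3 q1466 (flp_g L14525) q1666, e3 q1467 L12771 q1263, e3 q1468 (flp_g L13552) q1550, e3 q1469 (flp_g L14534) q1667, e3 q1470 L12792 q1265, e3 q1471 (flp_g L12795) q1266, trivial⟩ (by decide +kernel)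

theorem ce_g_23 : ∀ r, r < 64 → sm gg (Qf (1472 + r)) = Qf (tab Gen.g (1472 + r)) :=
  edges_tab (sm gg) Qf (tab Gen.g) 1472 [(1472, 1545), (1473, 1547), (1474, 1529), (1475, 1528), (1476, 1476), (1477, 1676), (1478, 1276), (1479, 1297), (1480, 1277), (1481, 1481), (1482, 1681), (1483, 1483), (1484, 1280), (1485, 1684), (1486, 1486), (1487, 1682), (1488, 1282), (1489, 1680), (1490, 1490), (1491, 1285), (1492, 1310), (1493, 1287), (1494, 1308), (1495, 1495), (1496, 1304), (1497, 1690), (1498, 1498), (1499, 1300), (1500, 1292), (1501, 1675), (1502, 1689), (1503, 1688), (1504, 1302), (1505, 1694), (1506, 1506), (1507, 1687), (1508, 1306), (1509, 1606), (1510, 1312), (1511, 1315), (1512, 1698), (1513, 1513), (1514, 1673), (1515, 1340), (1516, 1327), (1517, 1342), (1518, 1335), (1519, 1330), (1520, 1333), (1521, 1521), (1522, 1522), (1523, 1706), (1524, 1708), (1525, 1525), (1526, 1348), (1527, 1527), (1528, 1475), (1529, 1474), (1530, 1530), (1531, 1531),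 (1532, 1720), (1533, 1533), (1534, 1724), (1535, 1535)]
    ⟨e3 q1472 L13509 q1545, e3 q1473 L13527 q1547, e3 q1474 L13363 q1529, e3 q1475 L13352 q1528, e3 q1476 L12835 q1476, e3 q1477 L14600 q1676, e3 q1478 (flp_g L12854) q1276, e3 q1479 (flp_g L12876) q1297, e3 q1480 (flp_g L12878) q1277, e3 q1481 L12896 q1481, e3 q1482 L14661 q1681, e3 q1483 L12916 q1483, e3 q1484 (flp_g L12920) q1280, e3 q1485 L14698 q1684, e3 q1486 L12944 q1486, e3 q1487 (flp_g L14686) q1682, e3 q1488 (flp_g L12951) q1282, e3 q1489 L14657 q1680, e3 q1490 L12973 q1490, e3 q1491 (flp_g L12976) q1285, e3 q1492 L12996 q1310, e3 q1493 L13009 q1287, e3 q1494 L13023 q1308, e3 q1495 L13032 q1495, e3 q1496 (flp_g L13047) q1304, e3 q1497 L14757 q1690, e3 q1498 L13062 q1498, e3 q1499 (flp_g L13074) q1300, e3 q1500 (flp_g L13076) q1292, e3 q1501 L14598 q1675, e3 q1502 L14755 q1689, e3 q1503 L14744 q1688, e3 q1504 (flp_g L13107) q1302, e3 q1505 (flp_g L14793) q1694, e3 q1506 L13120 q1506, e3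 q1507 (flp_g L14730) q1687, e3 q1508 L13136 q1306, e3 q1509 L14068 q1606, e3 q1510 (flp_g L13144) q1312, e3 q1511 L13160 q1315, e3 q1512 (flp_g L14816) q1698, e3 q1513 L13170 q1513, e3 q1514 (flp_g L14570) q1673, e3 q1515 (flp_g L13193) q1340, e3 q1516 (flp_g L13195) q1327, e3 q1517 (flp_g L13227) q1342, e3 q1518 (flp_g L13241) q1335, e3 q1519 (flp_g L13245) q1330, e3 q1520 L13274 q1333, e3 q1521 L13285 q1521, e3 q1522 L13293 q1522, e3 q1523 L14867 q1706, e3 q1524 L14884 q1708, e3 q1525 L13317 q1525, e3 q1526 (flp_g L13320) q1348, e3 q1527 L13336 q1527, e3 q1528 (flp_g L13352) q1475, e3 q1529 (flp_g L13363) q1474, e3 q1530 L13372 q1530, e3 q1531 L13379 q1531, e3 q1532 L15003 q1720, e3 q1533 L13397 q1533, e3 q1534 L15036 q1724, e3 q1535 L13413 q1535, trivial⟩ (by decide +kernel)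

theorem ce_g_24 : ∀ r, r < 64 → sm gg (Qf (1536 + r)) = Qf (tab Gen.g (1536 + r)) :=
  edges_tab (sm gg) Qf (tab Gen.g) 1536 [(1536, 1355), (1537, 1727), (1538, 1356), (1539, 1729), (1540, 1540), (1541, 1541), (1542, 1542), (1543, 1543), (1544, 1544), (1545, 1472), (1546, 1546), (1547, 1473), (1548, 1548), (1549, 1451), (1550, 1468), (1551, 1551), (1552, 1552), (1553, 1749), (1554, 1554), (1555, 1368), (1556, 1753), (1557, 1557), (1558, 1757), (1559, 1370), (1560, 1759), (1561, 1561), (1562, 1373), (1563, 1762), (1564, 1375), (1565, 1765), (1566, 1446), (1567, 1448), (1568, 1450), (1569, 1390), (1570, 1769), (1571, 1383), (1572, 1386), (1573, 1770), (1574, 1388), (1575, 1768), (1576, 1442), (1577, 1444), (1578, 1393), (1579, 1774), (1580, 1777), (1581, 1581), (1582, 1397), (1583, 1583), (1584, 1783), (1585, 1585), (1586, 1400), (1587, 1786), (1588, 1401), (1589, 1788), (1590, 1590), (1591, 1591), (1592, 1794), (1593, 1593), (1594, 1405), (1595, 1798),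 (1596, 1596), (1597, 1802), (1598, 1407), (1599, 1804)]
    ⟨e3 q1536 (flp_g L13414) q1355, e3 q1537 L15058 q1727, e3 q1538 (flp_g L13431) q1356, e3 q1539 (flp_g L15083) q1729, e3 q1540 L13455 q1540, e3 q1541 L13462 q1541, e3 q1542 L13474 q1542, e3 q1543 L13484 q1543, e3 q1544 L13492 q1544, e3 q1545 (flp_g L13509) q1472, e3 q1546 L13515 q1546, e3 q1547 (flp_g L13527) q1473, e3 q1548 L13535 q1548, e3 q1549 L13539 q1451, e3 q1550 L13552 q1468, e3 q1551 L13561 q1551, e3 q1552 L13570 q1552, e3 q1553 L15262 q1749, e3 q1554 L13586 q1554, e3 q1555 (flp_g L13588) q1368, e3 q1556 L15295 q1753, e3 q1557 L13611 q1557, e3 q1558 L15321 q1757, e3 q1559 (flp_g L13620) q1370, e3 q1560 (flp_g L15344) q1759, e3 q1561 L13643 q1561, e3 q1562 (flp_g L13644) q1373, e3 q1563 (flp_g L15369) q1762, e3 q1564 L13664 q1375, e3 q1565 (flp_g L15391) q1765, e3 q1566 L13686 q1446, e3 q1567 L13700 q1448, e3 q1568 L13706 q1450, e3 q1569 L13727 q1390, e3 q1570 L15441 q1769, e3 q1571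 (flp_g L13736) q1383, e3 q1572 L13760 q1386, e3 q1573 (flp_g L15467) q1770, e3 q1574 (flp_g L13772) q1388, e3 q1575 (flp_g L15433) q1768, e3 q1576 L13799 q1442, e3 q1577 L13811 q1444, e3 q1578 L13823 q1393, e3 q1579 (flp_g L15505) q1774, e3 q1580 L15526 q1777, e3 q1581 L13849 q1581, e3 q1582 (flp_g L13852) q1397, e3 q1583 L13868 q1583, e3 q1584 L15589 q1783, e3 q1585 L13891 q1585, e3 q1586 (flp_g L13894) q1400, e3 q1587 L15621 q1786, e3 q1588 (flp_g L13916) q1401, e3 q1589 (flp_g L15644) q1788, e3 q1590 L13938 q1590, e3 q1591 L13945 q1591, e3 q1592 L15690 q1794, e3 q1593 L13964 q1593, e3 q1594 (flp_g L13966) q1405, e3 q1595 L15723 q1798, e3 q1596 L13992 q1596, e3 q1597 L15755 q1802, e3 q1598 (flp_g L13998) q1407, e3 q1599 (flp_g L15773) q1804, trivial⟩ (by decide +kernel)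

theorem ce_g_25 : ∀ r, r < 64 → sm gg (Qf (1600 + r)) = Qf (tab Gen.g (1600 + r)) :=
  edges_tab (sm gg) Qf (tab Gen.g) 1600 [(1600, 1600), (1601, 1410), (1602, 1807), (1603, 1412), (1604, 1810), (1605, 1605), (1606, 1509), (1607, 1607), (1608, 1818), (1609, 1609), (1610, 1822), (1611, 1417), (1612, 1824), (1613, 1613), (1614, 1420), (1615, 1826), (1616, 1422), (1617, 1829), (1618, 1618), (1619, 1832), (1620, 1620), (1621, 1835), (1622, 1425), (1623, 1837), (1624, 1624), (1625, 1840), (1626, 1428), (1627, 1842), (1628, 1628), (1629, 1629), (1630, 1430), (1631, 1848), (1632, 1432), (1633, 1851), (1634, 1761), (1635, 1435), (1636, 1743), (1637, 1852), (1638, 1437), (1639, 1447), (1640, 1445), (1641, 1440), (1642, 1772), (1643, 1766), (1644, 1814), (1645, 1767), (1646, 1740), (1647, 1714), (1648, 1860), (1649, 1452), (1650, 1862), (1651, 1651), (1652, 1454), (1653, 1864), (1654, 1456), (1655, 1867), (1656, 1458), (1657, 1868), (1658, 1460), (1659, 1871),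 (1660, 1872), (1661, 1661), (1662, 1662), (1663, 1464)]
    ⟨e3 q1600 L14017 q1600, e3 q1601 (flp_g L14018) q1410, e3 q1602 (flp_g L15797) q1807, e3 q1603 L14039 q1412, e3 q1604 (flp_g L15818) q1810, e3 q1605 L14054 q1605, e3 q1606 (flp_g L14068) q1509, e3 q1607 L14075 q1607, e3 q1608 L15885 q1818, e3 q1609 L14089 q1609, e3 q1610 L15917 q1822, e3 q1611 (flp_g L14098) q1417, e3 q1612 (flp_g L15942) q1824, e3 q1613 L14121 q1613, e3 q1614 (flp_g L14124) q1420, e3 q1615 (flp_g L15959) q1826, e3 q1616 L14142 q1422, e3 q1617 (flp_g L15981) q1829, e3 q1618 L14157 q1618, e3 q1619 L15998 q1832, e3 q1620 L14173 q1620, e3 q1621 L16024 q1835, e3 q1622 (flp_g L14181) q1425, e3 q1623 (flp_g L16048) q1837, e3 q1624 L14207 q1624, e3 q1625 L16067 q1840, e3 q1626 (flp_g L14212) q1428, e3 q1627 (flp_g L16084) q1842, e3 q1628 L14227 q1628, e3 q1629 L14236 q1629, e3 q1630 (flp_g L14237) q1430, e3 q1631 (flp_g L16127) q1848, e3 q1632 L14256 q1432, e3 q1633 (flp_g L16150)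 q1851, e3 q1634 (flp_g L15362) q1761, e3 q1635 L14279 q1435, e3 q1636 (flp_g L15215) q1743, e3 q1637 (flp_g L16157) q1852, e3 q1638 L14299 q1437, e3 q1639 L14308 q1447, e3 q1640 L14319 q1445, e3 q1641 (flp_g L14323) q1440, e3 q1642 (flp_g L15491) q1772, e3 q1643 (flp_g L15402) q1766, e3 q1644 (flp_g L15854) q1814, e3 q1645 (flp_g L15417) q1767, e3 q1646 (flp_g L15181) q1740, e3 q1647 (flp_g L14948) q1714, e3 q1648 L16198 q1860, e3 q1649 (flp_g L14383) q1452, e3 q1650 (flp_g L16224) q1862, e3 q1651 L14408 q1651, e3 q1652 (flp_g L14410) q1454, e3 q1653 (flp_g L16242) q1864, e3 q1654 L14434 q1456, e3 q1655 (flp_g L16267) q1867, e3 q1656 (flp_g L14444) q1458, e3 q1657 (flp_g L16277) q1868, e3 q1658 L14467 q1460, e3 q1659 (flp_g L16297) q1871, e3 q1660 (flp_g L16307) q1872, e3 q1661 L14487 q1661, e3 q1662 L14496 q1662, e3 q1663 L14503 q1464, trivial⟩ (by decide +kernel)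

theorem ce_g_26 : ∀ r, r < 64 → sm gg (Qf (1664 + r)) = Qf (tab Gen.g (1664 + r)) :=
  edges_tab (sm gg) Qf (tab Gen.g) 1664 [(1664, 1741), (1665, 1877), (1666, 1466), (1667, 1469), (1668, 1715), (1669, 1744), (1670, 1736), (1671, 1738), (1672, 1712), (1673, 1514), (1674, 1886), (1675, 1501), (1676, 1477), (1677, 1677), (1678, 1889), (1679, 1679), (1680, 1489), (1681, 1482), (1682, 1487), (1683, 1890), (1684, 1485), (1685, 1888), (1686, 1686), (1687, 1507), (1688, 1503), (1689, 1502), (1690, 1497), (1691, 1885), (1692, 1812), (1693, 1887), (1694, 1505), (1695, 1896), (1696, 1696), (1697, 1815), (1698, 1512), (1699, 1900), (1700, 1884), (1701, 1701), (1702, 1905), (1703, 1703), (1704, 1909), (1705, 1705), (1706, 1523), (1707, 1912), (1708, 1524), (1709, 1914), (1710, 1710), (1711, 1711), (1712, 1672), (1713, 1713), (1714, 1647), (1715, 1668), (1716, 1716), (1717, 1717), (1718, 1927), (1719, 1719), (1720, 1532), (1721, 1931), (1722, 1722), (1723, 1935),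 (1724, 1534), (1725, 1937), (1726, 1726), (1727, 1537)]
    ⟨e3 q1664 (flp_g L15195) q1741, e3 q1665 (flp_g L16341) q1877, e3 q1666 L14525 q1466, e3 q1667 L14534 q1469, e3 q1668 (flp_g L14962) q1715, e3 q1669 (flp_g L15226) q1744, e3 q1670 L15151 q1736, e3 q1671 L15168 q1738, e3 q1672 L14931 q1712, e3 q1673 L14570 q1514, e3 q1674 L16404 q1886, e3 q1675 (flp_g L14598) q1501, e3 q1676 (flp_g L14600) q1477, e3 q1677 L14618 q1677, e3 q1678 L16450 q1889, e3 q1679 L14644 q1679, e3 q1680 (flp_g L14657) q1489, e3 q1681 (flp_g L14661) q1482, e3 q1682 L14686 q1487, e3 q1683 (flp_g L16477) q1890, e3 q1684 (flp_g L14698) q1485, e3 q1685 L16446 q1888, e3 q1686 L14717 q1686, e3 q1687 L14730 q1507, e3 q1688 (flp_g L14744) q1503, e3 q1689 (flp_g L14755) q1502, e3 q1690 (flp_g L14757) q1497, e3 q1691 L16402 q1885, e3 q1692 L15840 q1812, e3 q1693 L16433 q1887, e3 q1694 L14793 q1505, e3 q1695 (flp_g L16513) q1896, e3 q1696 L14805 q1696, e3 q1697 (flp_g L15867) q1815,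 e3 q1698 L14816 q1512, e3 q1699 (flp_g L16534) q1900, e3 q1700 (flp_g L16386) q1884, e3 q1701 L14832 q1701, e3 q1702 L16568 q1905, e3 q1703 L14848 q1703, e3 q1704 L16600 q1909, e3 q1705 L14864 q1705, e3 q1706 (flp_g L14867) q1523, e3 q1707 L16625 q1912, e3 q1708 (flp_g L14884) q1524, e3 q1709 (flp_g L16645) q1914, e3 q1710 L14907 q1710, e3 q1711 L14915 q1711, e3 q1712 (flp_g L14931) q1672, e3 q1713 L14941 q1713, e3 q1714 L14948 q1647, e3 q1715 L14962 q1668, e3 q1716 L14973 q1716, e3 q1717 L14982 q1717, e3 q1718 L16780 q1927, e3 q1719 L15002 q1719, e3 q1720 (flp_g L15003) q1532, e3 q1721 L16815 q1931, e3 q1722 L15028 q1722, e3 q1723 L16848 q1935, e3 q1724 (flp_g L15036) q1534, e3 q1725 (flp_g L16870) q1937, e3 q1726 L15057 q1726, e3 q1727 (flp_g L15058) q1537, trivial⟩ (by decide +kernel)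

theorem ce_g_27 : ∀ r, r < 64 → sm gg (Qf (1728 + r)) = Qf (tab Gen.g (1728 + r)) :=
  edges_tab (sm gg) Qf (tab Gen.g) 1728 [(1728, 1940), (1729, 1539), (1730, 1943), (1731, 1731), (1732, 1732), (1733, 1733), (1734, 1734), (1735, 1735), (1736, 1670), (1737, 1737), (1738, 1671), (1739, 1739), (1740, 1646), (1741, 1664), (1742, 1742), (1743, 1636), (1744, 1669), (1745, 1745), (1746, 1964), (1747, 1747), (1748, 1968), (1749, 1553), (1750, 1970), (1751, 1751), (1752, 1973), (1753, 1556), (1754, 1975), (1755, 1755), (1756, 1756), (1757, 1558), (1758, 1981), (1759, 1560), (1760, 1984), (1761, 1634), (1762, 1563), (1763, 1986), (1764, 1987), (1765, 1565), (1766, 1643), (1767, 1645), (1768, 1575), (1769, 1570), (1770, 1573), (1771, 1992), (1772, 1642), (1773, 1991), (1774, 1579), (1775, 1995), (1776, 1997), (1777, 1580), (1778, 1999), (1779, 1779), (1780, 2002), (1781, 1781), (1782, 2005), (1783, 1584), (1784, 2007), (1785, 1785), (1786, 1587), (1787, 2009),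 (1788, 1589), (1789, 2012), (1790, 1790), (1791, 2016)]
    ⟨e3 q1728 (flp_g L16896) q1940, e3 q1729 L15083 q1539, e3 q1730 (flp_g L16919) q1943, e3 q1731 L15099 q1731, e3 q1732 L15107 q1732, e3 q1733 L15118 q1733, e3 q1734 L15130 q1734, e3 q1735 L15138 q1735, e3 q1736 (flp_g L15151) q1670, e3 q1737 L15160 q1737, e3 q1738 (flp_g L15168) q1671, e3 q1739 L15176 q1739, e3 q1740 L15181 q1646, e3 q1741 L15195 q1664, e3 q1742 L15205 q1742, e3 q1743 L15215 q1636, e3 q1744 L15226 q1669, e3 q1745 L15235 q1745, e3 q1746 L17119 q1964, e3 q1747 L15252 q1747, e3 q1748 L17153 q1968, e3 q1749 (flp_g L15262) q1553, e3 q1750 (flp_g L17181) q1970, e3 q1751 L15288 q1751, e3 q1752 L17199 q1973, e3 q1753 (flp_g L15295) q1556, e3 q1754 (flp_g L17220) q1975, e3 q1755 L15311 q1755, e3 q1756 L15320 q1756, e3 q1757 (flp_g L15321) q1558, e3 q1758 (flp_g L17266) q1981, e3 q1759 L15344 q1560, e3 q1760 (flp_g L17291) q1984, e3 q1761 L15362 q1634, e3 q1762 L15369 q1563, e3 q1763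 (flp_g L17310) q1986, e3 q1764 (flp_g L17320) q1987, e3 q1765 L15391 q1565, e3 q1766 L15402 q1643, e3 q1767 L15417 q1645, e3 q1768 L15433 q1575, e3 q1769 (flp_g L15441) q1570, e3 q1770 L15467 q1573, e3 q1771 (flp_g L17372) q1992, e3 q1772 L15491 q1642, e3 q1773 (flp_g L17360) q1991, e3 q1774 L15505 q1579, e3 q1775 (flp_g L17394) q1995, e3 q1776 L17405 q1997, e3 q1777 (flp_g L15526) q1580, e3 q1778 (flp_g L17431) q1999, e3 q1779 L15555 q1779, e3 q1780 L17456 q2002, e3 q1781 L15577 q1781, e3 q1782 L17494 q2005, e3 q1783 (flp_g L15589) q1584, e3 q1784 (flp_g L17520) q2007, e3 q1785 L15618 q1785, e3 q1786 (flp_g L15621) q1587, e3 q1787 (flp_g L17543) q2009, e3 q1788 L15644 q1589, e3 q1789 (flp_g L17564) q2012, e3 q1790 L15659 q1790, e3 q1791 L17599 q2016, trivial⟩ (by decide +kernel)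

theorem ce_g_28 : ∀ r, r < 64 → sm gg (Qf (1792 + r)) = Qf (tab Gen.g (1792 + r)) :=
  edges_tab (sm gg) Qf (tab Gen.g) 1792 [(1792, 1792), (1793, 2020), (1794, 1592), (1795, 2022), (1796, 1796), (1797, 2025), (1798, 1595), (1799, 2027), (1800, 1800), (1801, 1801), (1802, 1597), (1803, 2033), (1804, 1599), (1805, 2036), (1806, 1939), (1807, 1602), (1808, 2038), (1809, 2039), (1810, 1604), (1811, 1811), (1812, 1692), (1813, 1813), (1814, 1644), (1815, 1697), (1816, 1816), (1817, 2049), (1818, 1608), (1819, 2051), (1820, 1820), (1821, 1821), (1822, 1610), (1823, 2055), (1824, 1612), (1825, 2058), (1826, 1615), (1827, 1985), (1828, 2059), (1829, 1617), (1830, 2062), (1831, 2048), (1832, 1619), (1833, 2064), (1834, 1834), (1835, 1621), (1836, 2066), (1837, 1623), (1838, 2069), (1839, 2043), (1840, 1625), (1841, 2072), (1842, 1627), (1843, 2075), (1844, 2076), (1845, 1845), (1846, 1846), (1847, 1980), (1848, 1631), (1849, 1958), (1850, 2081), (1851, 1633),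 (1852, 1637), (1853, 1921), (1854, 1960), (1855, 1951)]
    ⟨e3 q1792 L15681 q1792, e3 q1793 L17639 q2020, e3 q1794 (flp_g L15690) q1592, e3 q1795 (flp_g L17662) q2022, e3 q1796 L15714 q1796, e3 q1797 L17682 q2025, e3 q1798 (flp_g L15723) q1595, e3 q1799 (flp_g L17705) q2027, e3 q1800 L15744 q1800, e3 q1801 L15754 q1801, e3 q1802 (flp_g L15755) q1597, e3 q1803 (flp_g L17752) q2033, e3 q1804 L15773 q1599, e3 q1805 (flp_g L17772) q2036, e3 q1806 (flp_g L16887) q1939, e3 q1807 L15797 q1602, e3 q1808 (flp_g L17785) q2038, e3 q1809 (flp_g L17796) q2039, e3 q1810 L15818 q1604, e3 q1811 L15824 q1811, e3 q1812 (flp_g L15840) q1692, e3 q1813 L15848 q1813, e3 q1814 L15854 q1644, e3 q1815 L15867 q1697, e3 q1816 L15876 q1816, e3 q1817 L17888 q2049, e3 q1818 (flp_g L15885) q1608, e3 q1819 (flp_g L17913) q2051, e3 q1820 L15906 q1820, e3 q1821 L15914 q1821, e3 q1822 (flp_g L15917) q1610, e3 q1823 (flp_g L17948) q2055, e3 q1824 L15942 q1612, e3 q1825 (flp_g L17975)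 q2058, e3 q1826 L15959 q1615, e3 q1827 (flp_g L17301) q1985, e3 q1828 (flp_g L17984) q2059, e3 q1829 L15981 q1617, e3 q1830 L18001 q2062, e3 q1831 L17886 q2048, e3 q1832 (flp_g L15998) q1619, e3 q1833 (flp_g L18028) q2064, e3 q1834 L16023 q1834, e3 q1835 (flp_g L16024) q1621, e3 q1836 (flp_g L18045) q2066, e3 q1837 L16048 q1623, e3 q1838 (flp_g L18071) q2069, e3 q1839 (flp_g L17830) q2043, e3 q1840 (flp_g L16067) q1625, e3 q1841 (flp_g L18092) q2072, e3 q1842 L16084 q1627, e3 q1843 (flp_g L18105) q2075, e3 q1844 (flp_g L18116) q2076, e3 q1845 L16104 q1845, e3 q1846 L16113 q1846, e3 q1847 (flp_g L17258) q1980, e3 q1848 L16127 q1631, e3 q1849 (flp_g L17068) q1958, e3 q1850 (flp_g L18151) q2081, e3 q1851 L16150 q1633, e3 q1852 L16157 q1637, e3 q1853 (flp_g L16727) q1921, e3 q1854 (flp_g L17093) q1960, e3 q1855 (flp_g L17000) q1951, trivial⟩ (by decide +kernel)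

theorem ce_g_29 : ∀ r, r < 64 → sm gg (Qf (1856 + r)) = Qf (tab Gen.g (1856 + r)) :=
  edges_tab (sm gg) Qf (tab Gen.g) 1856 [(1856, 2046), (1857, 1990), (1858, 1954), (1859, 1918), (1860, 1648), (1861, 2092), (1862, 1650), (1863, 2095), (1864, 1653), (1865, 1952), (1866, 2096), (1867, 1655), (1868, 1657), (1869, 2099), (1870, 2100), (1871, 1659), (1872, 1660), (1873, 2104), (1874, 2105), (1875, 2108), (1876, 1876), (1877, 1665), (1878, 1955), (1879, 1959), (1880, 1919), (1881, 1922), (1882, 1949), (1883, 1916), (1884, 1700), (1885, 1691), (1886, 1674), (1887, 1693), (1888, 1685), (1889, 1678), (1890, 1683), (1891, 2042), (1892, 2115), (1893, 1893), (1894, 2044), (1895, 2013), (1896, 1695), (1897, 2122), (1898, 2114), (1899, 2047), (1900, 1699), (1901, 2091), (1902, 1902), (1903, 2129), (1904, 1904), (1905, 1702), (1906, 2128), (1907, 1907), (1908, 2126), (1909, 1704), (1910, 2136), (1911, 1911), (1912, 1707), (1913, 2138), (1914, 1709), (1915, 2141),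 (1916, 1883), (1917, 1917), (1918, 1859), (1919, 1880)]
    ⟨e3 q1856 (flp_g L17862) q2046, e3 q1857 (flp_g L17347) q1990, e3 q1858 (flp_g L17033) q1954, e3 q1859 (flp_g L16688) q1918, e3 q1860 (flp_g L16198) q1648, e3 q1861 (flp_g L18224) q2092, e3 q1862 L16224 q1650, e3 q1863 (flp_g L18249) q2095, e3 q1864 L16242 q1653, e3 q1865 (flp_g L17015) q1952, e3 q1866 (flp_g L18259) q2096, e3 q1867 L16267 q1655, e3 q1868 L16277 q1657, e3 q1869 (flp_g L18280) q2099, e3 q1870 (flp_g L18290) q2100, e3 q1871 L16297 q1659, e3 q1872 L16307 q1660, e3 q1873 (flp_g L18314) q2104, e3 q1874 (flp_g L18324) q2105, e3 q1875 L18338 q2108, e3 q1876 L16334 q1876, e3 q1877 L16341 q1665, e3 q1878 (flp_g L17045) q1955, e3 q1879 (flp_g L17080) q1959, e3 q1880 (flp_g L16703) q1919, e3 q1881 (flp_g L16737) q1922, e3 q1882 L16984 q1949, e3 q1883 L16669 q1916, e3 q1884 L16386 q1700, e3 q1885 (flp_g L16402) q1691, e3 q1886 (flp_g L16404) q1674, e3 q1887 (flp_g L16433) q1693, e3 q1888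 (flp_g L16446) q1685, e3 q1889 (flp_g L16450) q1678, e3 q1890 L16477 q1683, e3 q1891 L17822 q2042, e3 q1892 (flp_g L18391) q2115, e3 q1893 L16499 q1893, e3 q1894 (flp_g L17844) q2044, e3 q1895 L17579 q2013, e3 q1896 L16513 q1695, e3 q1897 (flp_g L18433) q2122, e3 q1898 (flp_g L18382) q2114, e3 q1899 (flp_g L17872) q2047, e3 q1900 L16534 q1699, e3 q1901 (flp_g L18213) q2091, e3 q1902 L16548 q1902, e3 q1903 L18478 q2129, e3 q1904 L16565 q1904, e3 q1905 (flp_g L16568) q1702, e3 q1906 (flp_g L18493) q2128, e3 q1907 L16592 q1907, e3 q1908 L18497 q2126, e3 q1909 (flp_g L16600) q1704, e3 q1910 (flp_g L18556) q2136, e3 q1911 L16623 q1911, e3 q1912 (flp_g L16625) q1707, e3 q1913 (flp_g L18575) q2138, e3 q1914 L16645 q1709, e3 q1915 (flp_g L18599) q2141, e3 q1916 (flp_g L16669) q1883, e3 q1917 L16681 q1917, e3 q1918 L16688 q1859, e3 q1919 L16703 q1880, trivial⟩ (by decide +kernel)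

theorem ce_g_30 : ∀ r, r < 64 → sm gg (Qf (1920 + r)) = Qf (tab Gen.g (1920 + r)) :=
  edges_tab (sm gg) Qf (tab Gen.g) 1920 [(1920, 1920), (1921, 1853), (1922, 1881), (1923, 1923), (1924, 2153), (1925, 1925), (1926, 2157), (1927, 1718), (1928, 2159), (1929, 1929), (1930, 2162), (1931, 1721), (1932, 2164), (1933, 1933), (1934, 1934), (1935, 1723), (1936, 2170), (1937, 1725), (1938, 2173), (1939, 1806), (1940, 1728), (1941, 2175), (1942, 2176), (1943, 1730), (1944, 1944), (1945, 1945), (1946, 1946), (1947, 1947), (1948, 1948), (1949, 1882), (1950, 1950), (1951, 1855), (1952, 1865), (1953, 1953), (1954, 1858), (1955, 1878), (1956, 1956), (1957, 1957), (1958, 1849), (1959, 1879), (1960, 1854), (1961, 2200), (1962, 1962), (1963, 2204), (1964, 1746), (1965, 2206), (1966, 1966), (1967, 1967), (1968, 1748), (1969, 2210), (1970, 1750), (1971, 2213), (1972, 2214), (1973, 1752), (1974, 2217), (1975, 1754), (1976, 2220), (1977, 2221), (1978, 1978), (1979, 1979),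 (1980, 1847), (1981, 1758), (1982, 2228), (1983, 2229)]
    ⟨e3 q1920 L16715 q1920, e3 q1921 L16727 q1853, e3 q1922 L16737 q1881, e3 q1923 L16746 q1923, e3 q1924 L18731 q2153, e3 q1925 L16769 q1925, e3 q1926 L18766 q2157, e3 q1927 (flp_g L16780) q1718, e3 q1928 (flp_g L18791) q2159, e3 q1929 L16804 q1929, e3 q1930 L18810 q2162, e3 q1931 (flp_g L16815) q1721, e3 q1932 (flp_g L18837) q2164, e3 q1933 L16837 q1933, e3 q1934 L16847 q1934, e3 q1935 (flp_g L16848) q1723, e3 q1936 (flp_g L18885) q2170, e3 q1937 L16870 q1725, e3 q1938 (flp_g L18907) q2173, e3 q1939 L16887 q1806, e3 q1940 L16896 q1728, e3 q1941 (flp_g L18924) q2175, e3 q1942 (flp_g L18934) q2176, e3 q1943 L16919 q1730, e3 q1944 L16930 q1944, e3 q1945 L16941 q1945, e3 q1946 L16952 q1946, e3 q1947 L16962 q1947, e3 q1948 L16969 q1948, e3 q1949 (flp_g L16984) q1882, e3 q1950 L16994 q1950, e3 q1951 L17000 q1855, e3 q1952 L17015 q1865, e3 q1953 L17026 q1953, e3 q1954 L17033 q1858, e3 q1955 L17045 q1878,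 e3 q1956 L17049 q1956, e3 q1957 L17057 q1957, e3 q1958 L17068 q1849, e3 q1959 L17080 q1879, e3 q1960 L17093 q1854, e3 q1961 L19169 q2200, e3 q1962 L17110 q1962, e3 q1963 L19206 q2204, e3 q1964 (flp_g L17119) q1746, e3 q1965 (flp_g L19237) q2206, e3 q1966 L17141 q1966, e3 q1967 L17152 q1967, e3 q1968 (flp_g L17153) q1748, e3 q1969 (flp_g L19272) q2210, e3 q1970 L17181 q1750, e3 q1971 (flp_g L19304) q2213, e3 q1972 L19308 q2214, e3 q1973 (flp_g L17199) q1752, e3 q1974 (flp_g L19347) q2217, e3 q1975 L17220 q1754, e3 q1976 (flp_g L19364) q2220, e3 q1977 (flp_g L19373) q2221, e3 q1978 L17237 q1978, e3 q1979 L17246 q1979, e3 q1980 L17258 q1847, e3 q1981 L17266 q1758, e3 q1982 (flp_g L19428) q2228, e3 q1983 (flp_g L19439) q2229, trivial⟩ (by decide +kernel)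

theorem ce_g_31 : ∀ r, r < 64 → sm gg (Qf (1984 + r)) = Qf (tab Gen.g (1984 + r)) :=
  edges_tab (sm gg) Qf (tab Gen.g) 1984 [(1984, 1760), (1985, 1827), (1986, 1763), (1987, 1764), (1988, 2233), (1989, 2234), (1990, 1857), (1991, 1773), (1992, 1771), (1993, 2211), (1994, 2203), (1995, 1775), (1996, 2240), (1997, 1776), (1998, 2242), (1999, 1778), (2000, 2245), (2001, 2247), (2002, 1780), (2003, 2249), (2004, 2004), (2005, 1782), (2006, 2251), (2007, 1784), (2008, 2254), (2009, 1787), (2010, 2255), (2011, 2256), (2012, 1789), (2013, 1895), (2014, 2014), (2015, 2263), (2016, 1791), (2017, 2265), (2018, 2018), (2019, 2019), (2020, 1793), (2021, 2270), (2022, 1795), (2023, 2273), (2024, 2274), (2025, 1797), (2026, 2277), (2027, 1799), (2028, 2280), (2029, 2281), (2030, 2030), (2031, 2031), (2032, 2169), (2033, 1803), (2034, 2287), (2035, 2288), (2036, 1805), (2037, 2174), (2038, 1808), (2039, 1809), (2040, 2148), (2041, 2292), (2042, 1891), (2043, 1839),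 (2044, 1894), (2045, 2045), (2046, 1856), (2047, 1899)]
    ⟨e3 q1984 L17291 q1760, e3 q1985 L17301 q1827, e3 q1986 L17310 q1763, e3 q1987 L17320 q1764, e3 q1988 (flp_g L19477) q2233, e3 q1989 (flp_g L19489) q2234, e3 q1990 L17347 q1857, e3 q1991 L17360 q1773, e3 q1992 L17372 q1771, e3 q1993 (flp_g L19283) q2211, e3 q1994 L19204 q2203, e3 q1995 L17394 q1775, e3 q1996 (flp_g L19539) q2240, e3 q1997 (flp_g L17405) q1776, e3 q1998 (flp_g L19562) q2242, e3 q1999 L17431 q1778, e3 q2000 (flp_g L19592) q2245, e3 q2001 L19608 q2247, e3 q2002 (flp_g L17456) q1780, e3 q2003 (flp_g L19641) q2249, e3 q2004 L17491 q2004, e3 q2005 (flp_g L17494) q1782, e3 q2006 (flp_g L19667) q2251, e3 q2007 L17520 q1784, e3 q2008 (flp_g L19697) q2254, e3 q2009 L17543 q1787, e3 q2010 (flp_g L19704) q2255, e3 q2011 (flp_g L19714) q2256, e3 q2012 L17564 q1789, e3 q2013 (flp_g L17579) q1895, e3 q2014 L17588 q2014, e3 q2015 L19782 q2263, e3 q2016 (flp_g L17599) q1791, e3 q2017 (flp_g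 L19813) q2265, e3 q2018 L17626 q2018, e3 q2019 L17636 q2019, e3 q2020 (flp_g L17639) q1793, e3 q2021 (flp_g L19868) q2270, e3 q2022 L17662 q1795, e3 q2023 (flp_g L19893) q2273, e3 q2024 L19897 q2274, e3 q2025 (flp_g L17682) q1797, e3 q2026 (flp_g L19932) q2277, e3 q2027 L17705 q1799, e3 q2028 (flp_g L19953) q2280, e3 q2029 (flp_g L19965) q2281, e3 q2030 L17729 q2030, e3 q2031 L17739 q2031, e3 q2032 (flp_g L18877) q2169, e3 q2033 L17752 q1803, e3 q2034 (flp_g L20009) q2287, e3 q2035 (flp_g L20019) q2288, e3 q2036 L17772 q1805, e3 q2037 (flp_g L18919) q2174, e3 q2038 L17785 q1808, e3 q2039 L17796 q1809, e3 q2040 (flp_g L18682) q2148, e3 q2041 (flp_g L20046) q2292, e3 q2042 (flp_g L17822) q1891, e3 q2043 L17830 q1839, e3 q2044 L17844 q1894, e3 q2045 L17852 q2045, e3 q2046 L17862 q1856, e3 q2047 L17872 q1899, trivial⟩ (by decide +kernel)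

theorem ce_g_32 : ∀ r, r < 64 → sm gg (Qf (2048 + r)) = Qf (tab Gen.g (2048 + r)) :=
  edges_tab (sm gg) Qf (tab Gen.g) 2048 [(2048, 1831), (2049, 1817), (2050, 2300), (2051, 1819), (2052, 2303), (2053, 2304), (2054, 2054), (2055, 1823), (2056, 2227), (2057, 2307), (2058, 1825), (2059, 1828), (2060, 2232), (2061, 2246), (2062, 1830), (2063, 2299), (2064, 1833), (2065, 2312), (2066, 1836), (2067, 2190), (2068, 2313), (2069, 1838), (2070, 2296), (2071, 2216), (2072, 1841), (2073, 2318), (2074, 2319), (2075, 1843), (2076, 1844), (2077, 2323), (2078, 2324), (2079, 2327), (2080, 2080), (2081, 1850), (2082, 2193), (2083, 2198), (2084, 2146), (2085, 2149), (2086, 2186), (2087, 2237), (2088, 2298), (2089, 2192), (2090, 2142), (2091, 1901), (2092, 1861), (2093, 2338), (2094, 2339), (2095, 1863), (2096, 1866), (2097, 2187), (2098, 2191), (2099, 1869), (2100, 1870), (2101, 2194), (2102, 2344), (2103, 2345), (2104, 1873), (2105, 1874), (2106, 2331), (2107, 2353),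 (2108, 1875), (2109, 2355), (2110, 2143), (2111, 2195)]
    ⟨e3 q2048 (flp_g L17886) q1831, e3 q2049 (flp_g L17888) q1817, e3 q2050 (flp_g L20118) q2300, e3 q2051 L17913 q1819, e3 q2052 (flp_g L20137) q2303, e3 q2053 (flp_g L20149) q2304, e3 q2054 L17939 q2054, e3 q2055 L17948 q1823, e3 q2056 (flp_g L19416) q2227, e3 q2057 (flp_g L20177) q2307, e3 q2058 L17975 q1825, e3 q2059 L17984 q1828, e3 q2060 (flp_g L19467) q2232, e3 q2061 L19606 q2246, e3 q2062 (flp_g L18001) q1830, e3 q2063 (flp_g L20108) q2299, e3 q2064 L18028 q1833, e3 q2065 (flp_g L20216) q2312, e3 q2066 L18045 q1836, e3 q2067 (flp_g L19076) q2190, e3 q2068 (flp_g L20227) q2313, e3 q2069 L18071 q1838, e3 q2070 (flp_g L20075) q2296, e3 q2071 (flp_g L19339) q2216, e3 q2072 L18092 q1841, e3 q2073 (flp_g L20260) q2318, e3 q2074 (flp_g L20268) q2319, e3 q2075 L18105 q1843, e3 q2076 L18116 q1844, e3 q2077 (flp_g L20286) q2323, e3 q2078 (flp_g L20297) q2324, e3 q2079 L20313 q2327, e3 q2080 L18144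 q2080, e3 q2081 L18151 q1850, e3 q2082 (flp_g L19114) q2193, e3 q2083 (flp_g L19158) q2198, e3 q2084 (flp_g L18662) q2146, e3 q2085 (flp_g L18697) q2149, e3 q2086 (flp_g L19032) q2186, e3 q2087 (flp_g L19516) q2237, e3 q2088 (flp_g L20096) q2298, e3 q2089 (flp_g L19099) q2192, e3 q2090 (flp_g L18610) q2142, e3 q2091 L18213 q1901, e3 q2092 L18224 q1861, e3 q2093 (flp_g L20391) q2338, e3 q2094 (flp_g L20402) q2339, e3 q2095 L18249 q1863, e3 q2096 L18259 q1866, e3 q2097 (flp_g L19048) q2187, e3 q2098 (flp_g L19089) q2191, e3 q2099 L18280 q1869, e3 q2100 L18290 q1870, e3 q2101 (flp_g L19120) q2194, e3 q2102 (flp_g L20436) q2344, e3 q2103 (flp_g L20446) q2345, e3 q2104 L18314 q1873, e3 q2105 L18324 q1874, e3 q2106 (flp_g L20346) q2331, e3 q2107 (flp_g L20498) q2353, e3 q2108 (flp_g L18338) q1875, e3 q2109 (flp_g L20514) q2355, e3 q2110 (flp_g L18626) q2143, e3 q2111 (flp_g L19131) q2195, trivial⟩ (by decide +kernel)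

theorem ce_g_33 : ∀ r, r < 64 → sm gg (Qf (2112 + r)) = Qf (tab Gen.g (2112 + r)) :=
  edges_tab (sm gg) Qf (tab Gen.g) 2112 [(2112, 2147), (2113, 2184), (2114, 1898), (2115, 1892), (2116, 2266), (2117, 2262), (2118, 2357), (2119, 2260), (2120, 2297), (2121, 2259), (2122, 1897), (2123, 2337), (2124, 2241), (2125, 2125), (2126, 1908), (2127, 2127), (2128, 1906), (2129, 1903), (2130, 2369), (2131, 2131), (2132, 2368), (2133, 2133), (2134, 2134), (2135, 2365), (2136, 1910), (2137, 2377), (2138, 1913), (2139, 2378), (2140, 2379), (2141, 1915), (2142, 2090), (2143, 2110), (2144, 2144), (2145, 2145), (2146, 2084), (2147, 2112), (2148, 2040), (2149, 2085), (2150, 2391), (2151, 2151), (2152, 2396), (2153, 1924), (2154, 2398), (2155, 2155), (2156, 2156), (2157, 1926), (2158, 2404), (2159, 1928), (2160, 2407), (2161, 2408), (2162, 1930), (2163, 2411), (2164, 1932), (2165, 2414), (2166, 2415), (2167, 2167), (2168, 2168), (2169, 2032), (2170, 1936), (2171, 2422),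 (2172, 2423), (2173, 1938), (2174, 2037), (2175, 1941)]
    ⟨e3 q2112 (flp_g L18673) q2147, e3 q2113 L19014 q2184, e3 q2114 L18382 q1898, e3 q2115 L18391 q1892, e3 q2116 (flp_g L19825) q2266, e3 q2117 L19780 q2262, e3 q2118 (flp_g L20528) q2357, e3 q2119 (flp_g L19753) q2260, e3 q2120 (flp_g L20085) q2297, e3 q2121 (flp_g L19738) q2259, e3 q2122 L18433 q1897, e3 q2123 (flp_g L20385) q2337, e3 q2124 (flp_g L19551) q2241, e3 q2125 L18450 q2125, e3 q2126 (flp_g L18497) q1908, e3 q2127 L18469 q2127, e3 q2128 L18493 q1906, e3 q2129 (flp_g L18478) q1903, e3 q2130 (flp_g L20630) q2369, e3 q2131 L18520 q2131, e3 q2132 (flp_g L20618) q2368, e3 q2133 L18532 q2133, e3 q2134 L18542 q2134, e3 q2135 (flp_g L20589) q2365, e3 q2136 L18556 q1910, e3 q2137 (flp_g L20699) q2377, e3 q2138 L18575 q1913, e3 q2139 (flp_g L20705) q2378, e3 q2140 (flp_g L20716) q2379, e3 q2141 L18599 q1915, e3 q2142 L18610 q2090, e3 q2143 L18626 q2110, e3 q2144 L18634 q2144, e3 q2145 L18649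 q2145, e3 q2146 L18662 q2084, e3 q2147 L18673 q2112, e3 q2148 L18682 q2040, e3 q2149 L18697 q2085, e3 q2150 L20852 q2391, e3 q2151 L18720 q2151, e3 q2152 L20906 q2396, e3 q2153 (flp_g L18731) q1924, e3 q2154 (flp_g L20933) q2398, e3 q2155 L18753 q2155, e3 q2156 L18763 q2156, e3 q2157 (flp_g L18766) q1926, e3 q2158 (flp_g L20987) q2404, e3 q2159 L18791 q1928, e3 q2160 (flp_g L21014) q2407, e3 q2161 L21018 q2408, e3 q2162 (flp_g L18810) q1930, e3 q2163 (flp_g L21059) q2411, e3 q2164 L18837 q1932, e3 q2165 (flp_g L21082) q2414, e3 q2166 (flp_g L21092) q2415, e3 q2167 L18858 q2167, e3 q2168 L18868 q2168, e3 q2169 L18877 q2032, e3 q2170 L18885 q1936, e3 q2171 (flp_g L21144) q2422, e3 q2172 (flp_g L21153) q2423, e3 q2173 L18907 q1938, e3 q2174 L18919 q2037, e3 q2175 L18924 q1941, trivial⟩ (by decide +kernel)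

theorem ce_g_34 : ∀ r, r < 64 → sm gg (Qf (2176 + r)) = Qf (tab Gen.g (2176 + r)) :=
  edges_tab (sm gg) Qf (tab Gen.g) 2176 [(2176, 1942), (2177, 2428), (2178, 2429), (2179, 2179), (2180, 2180), (2181, 2181), (2182, 2182), (2183, 2183), (2184, 2113), (2185, 2185), (2186, 2086), (2187, 2097), (2188, 2188), (2189, 2189), (2190, 2067), (2191, 2098), (2192, 2089), (2193, 2082), (2194, 2101), (2195, 2111), (2196, 2196), (2197, 2197), (2198, 2083), (2199, 2455), (2200, 1961), (2201, 2457), (2202, 2202), (2203, 1994), (2204, 1963), (2205, 2460), (2206, 1965), (2207, 2463), (2208, 2464), (2209, 2209), (2210, 1969), (2211, 1993), (2212, 2468), (2213, 1971), (2214, 1972), (2215, 2469), (2216, 2071), (2217, 1974), (2218, 2474), (2219, 2475), (2220, 1976), (2221, 1977), (2222, 2479), (2223, 2480), (2224, 2484), (2225, 2225), (2226, 2226), (2227, 2056), (2228, 1982), (2229, 1983), (2230, 2459), (2231, 2488), (2232, 2060), (2233, 1988), (2234, 1989), (2235, 2491),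 (2236, 2492), (2237, 2087), (2238, 2470), (2239, 2454)]
    ⟨e3 q2176 L18934 q1942, e3 q2177 (flp_g L21197) q2428, e3 q2178 (flp_g L21207) q2429, e3 q2179 L18959 q2179, e3 q2180 L18972 q2180, e3 q2181 L18983 q2181, e3 q2182 L18990 q2182, e3 q2183 L19002 q2183, e3 q2184 (flp_g L19014) q2113, e3 q2185 L19025 q2185, e3 q2186 L19032 q2086, e3 q2187 L19048 q2097, e3 q2188 L19054 q2188, e3 q2189 L19064 q2189, e3 q2190 L19076 q2067, e3 q2191 L19089 q2098, e3 q2192 L19099 q2089, e3 q2193 L19114 q2082, e3 q2194 L19120 q2101, e3 q2195 L19131 q2111, e3 q2196 L19139 q2196, e3 q2197 L19147 q2197, e3 q2198 L19158 q2083, e3 q2199 L21460 q2455, e3 q2200 (flp_g L19169) q1961, e3 q2201 (flp_g L21488) q2457, e3 q2202 L19192 q2202, e3 q2203 (flp_g L19204) q1994, e3 q2204 (flp_g L19206) q1963, e3 q2205 (flp_g L21518) q2460, e3 q2206 L19237 q1965, e3 q2207 (flp_g L21541) q2463, e3 q2208 (flp_g L21552) q2464, e3 q2209 L19262 q2209, e3 q2210 L19272 q1969, e3 q2211 L19283 q1993,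 e3 q2212 (flp_g L21589) q2468, e3 q2213 L19304 q1971, e3 q2214 (flp_g L19308) q1972, e3 q2215 (flp_g L21600) q2469, e3 q2216 L19339 q2071, e3 q2217 L19347 q1974, e3 q2218 (flp_g L21644) q2474, e3 q2219 (flp_g L21652) q2475, e3 q2220 L19364 q1976, e3 q2221 L19373 q1977, e3 q2222 (flp_g L21675) q2479, e3 q2223 (flp_g L21684) q2480, e3 q2224 L21703 q2484, e3 q2225 L19401 q2225, e3 q2226 L19405 q2226, e3 q2227 L19416 q2056, e3 q2228 L19428 q1982, e3 q2229 L19439 q1983, e3 q2230 (flp_g L21506) q2459, e3 q2231 (flp_g L21752) q2488, e3 q2232 L19467 q2060, e3 q2233 L19477 q1988, e3 q2234 L19489 q1989, e3 q2235 (flp_g L21777) q2491, e3 q2236 (flp_g L21791) q2492, e3 q2237 L19516 q2087, e3 q2238 (flp_g L21614) q2470, e3 q2239 L21458 q2454, trivial⟩ (by decide +kernel)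

theorem ce_g_35 : ∀ r, r < 64 → sm gg (Qf (2240 + r)) = Qf (tab Gen.g (2240 + r)) :=
  edges_tab (sm gg) Qf (tab Gen.g) 2240 [(2240, 1996), (2241, 2124), (2242, 1998), (2243, 2497), (2244, 2498), (2245, 2000), (2246, 2061), (2247, 2001), (2248, 2502), (2249, 2003), (2250, 2505), (2251, 2006), (2252, 2506), (2253, 2507), (2254, 2008), (2255, 2010), (2256, 2011), (2257, 2426), (2258, 2510), (2259, 2121), (2260, 2119), (2261, 2261), (2262, 2117), (2263, 2015), (2264, 2518), (2265, 2017), (2266, 2116), (2267, 2521), (2268, 2268), (2269, 2403), (2270, 2021), (2271, 2525), (2272, 2526), (2273, 2023), (2274, 2024), (2275, 2522), (2276, 2410), (2277, 2026), (2278, 2532), (2279, 2533), (2280, 2028), (2281, 2029), (2282, 2516), (2283, 2537), (2284, 2540), (2285, 2285), (2286, 2421), (2287, 2034), (2288, 2035), (2289, 2543), (2290, 2544), (2291, 2427), (2292, 2041), (2293, 2387), (2294, 2389), (2295, 2548), (2296, 2070), (2297, 2120), (2298, 2088), (2299, 2063),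 (2300, 2050), (2301, 2556), (2302, 2557), (2303, 2052)]
    ⟨e3 q2240 L19539 q1996, e3 q2241 L19551 q2124, e3 q2242 L19562 q1998, e3 q2243 (flp_g L21840) q2497, e3 q2244 (flp_g L21853) q2498, e3 q2245 L19592 q2000, e3 q2246 (flp_g L19606) q2061, e3 q2247 (flp_g L19608) q2001, e3 q2248 (flp_g L21895) q2502, e3 q2249 L19641 q2003, e3 q2250 (flp_g L21928) q2505, e3 q2251 L19667 q2006, e3 q2252 (flp_g L21938) q2506, e3 q2253 (flp_g L21951) q2507, e3 q2254 L19697 q2008, e3 q2255 L19704 q2010, e3 q2256 L19714 q2011, e3 q2257 (flp_g L21175) q2426, e3 q2258 (flp_g L21977) q2510, e3 q2259 L19738 q2121, e3 q2260 L19753 q2119, e3 q2261 L19766 q2261, e3 q2262 (flp_g L19780) q2117, e3 q2263 (flp_g L19782) q2015, e3 q2264 (flp_g L22061) q2518, e3 q2265 L19813 q2017, e3 q2266 L19825 q2116, e3 q2267 (flp_g L22088) q2521, e3 q2268 L19849 q2268, e3 q2269 (flp_g L20978) q2403, e3 q2270 L19868 q2021, e3 q2271 (flp_g L22131) q2525, e3 q2272 (flp_g L22142) q2526, e3 q2273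 L19893 q2023, e3 q2274 (flp_g L19897) q2024, e3 q2275 (flp_g L22099) q2522, e3 q2276 (flp_g L21049) q2410, e3 q2277 L19932 q2026, e3 q2278 (flp_g L22186) q2532, e3 q2279 (flp_g L22196) q2533, e3 q2280 L19953 q2028, e3 q2281 L19965 q2029, e3 q2282 (flp_g L22036) q2516, e3 q2283 (flp_g L22224) q2537, e3 q2284 L22244 q2540, e3 q2285 L19997 q2285, e3 q2286 (flp_g L21138) q2421, e3 q2287 L20009 q2034, e3 q2288 L20019 q2035, e3 q2289 (flp_g L22271) q2543, e3 q2290 (flp_g L22281) q2544, e3 q2291 (flp_g L21188) q2427, e3 q2292 L20046 q2041, e3 q2293 (flp_g L20809) q2387, e3 q2294 (flp_g L20837) q2389, e3 q2295 (flp_g L22304) q2548, e3 q2296 L20075 q2070, e3 q2297 L20085 q2120, e3 q2298 L20096 q2088, e3 q2299 L20108 q2063, e3 q2300 L20118 q2050, e3 q2301 (flp_g L22374) q2556, e3 q2302 (flp_g L22386) q2557, e3 q2303 L20137 q2052, trivial⟩ (by decide +kernel)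

theorem ce_g_36 : ∀ r, r < 64 → sm gg (Qf (2304 + r)) = Qf (tab Gen.g (2304 + r)) :=
  edges_tab (sm gg) Qf (tab Gen.g) 2304 [(2304, 2053), (2305, 2501), (2306, 2561), (2307, 2057), (2308, 2473), (2309, 2487), (2310, 2554), (2311, 2555), (2312, 2065), (2313, 2068), (2314, 2441), (2315, 2445), (2316, 2552), (2317, 2553), (2318, 2073), (2319, 2074), (2320, 2447), (2321, 2571), (2322, 2572), (2323, 2077), (2324, 2078), (2325, 2581), (2326, 2580), (2327, 2079), (2328, 2583), (2329, 2383), (2330, 2448), (2331, 2106), (2332, 2388), (2333, 2438), (2334, 2446), (2335, 2495), (2336, 2382), (2337, 2123), (2338, 2093), (2339, 2094), (2340, 2442), (2341, 2590), (2342, 2439), (2343, 2443), (2344, 2102), (2345, 2103), (2346, 2384), (2347, 2449), (2348, 2450), (2349, 2549), (2350, 2596), (2351, 2597), (2352, 2493), (2353, 2107), (2354, 2585), (2355, 2109), (2356, 2385), (2357, 2118), (2358, 2523), (2359, 2586), (2360, 2514), (2361, 2515), (2362, 2589), (2363, 2496),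 (2364, 2364), (2365, 2135), (2366, 2366), (2367, 2367)]
    ⟨e3 q2304 L20149 q2053, e3 q2305 (flp_g L21883) q2501, e3 q2306 (flp_g L22416) q2561, e3 q2307 L20177 q2057, e3 q2308 (flp_g L21640) q2473, e3 q2309 (flp_g L21737) q2487, e3 q2310 (flp_g L22354) q2554, e3 q2311 (flp_g L22366) q2555, e3 q2312 L20216 q2065, e3 q2313 L20227 q2068, e3 q2314 (flp_g L21328) q2441, e3 q2315 (flp_g L21371) q2445, e3 q2316 (flp_g L22334) q2552, e3 q2317 (flp_g L22346) q2553, e3 q2318 L20260 q2073, e3 q2319 L20268 q2074, e3 q2320 (flp_g L21390) q2447, e3 q2321 (flp_g L22479) q2571, e3 q2322 (flp_g L22487) q2572, e3 q2323 L20286 q2077, e3 q2324 L20297 q2078, e3 q2325 L22532 q2581, e3 q2326 (flp_g L22530) q2580, e3 q2327 (flp_g L20313) q2079, e3 q2328 (flp_g L22557) q2583, e3 q2329 (flp_g L20761) q2383, e3 q2330 (flp_g L21402) q2448, e3 q2331 L20346 q2106, e3 q2332 (flp_g L20823) q2388, e3 q2333 (flp_g L21287) q2438, e3 q2334 (flp_g L21384) q2446, e3 q2335 (flp_g L21822)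 q2495, e3 q2336 (flp_g L20743) q2382, e3 q2337 L20385 q2123, e3 q2338 L20391 q2093, e3 q2339 L20402 q2094, e3 q2340 (flp_g L21336) q2442, e3 q2341 (flp_g L22610) q2590, e3 q2342 (flp_g L21304) q2439, e3 q2343 (flp_g L21349) q2443, e3 q2344 L20436 q2102, e3 q2345 L20446 q2103, e3 q2346 (flp_g L20771) q2384, e3 q2347 (flp_g L21410) q2449, e3 q2348 (flp_g L21421) q2450, e3 q2349 (flp_g L22312) q2549, e3 q2350 (flp_g L22653) q2596, e3 q2351 (flp_g L22658) q2597, e3 q2352 (flp_g L21800) q2493, e3 q2353 L20498 q2107, e3 q2354 (flp_g L22574) q2585, e3 q2355 L20514 q2109, e3 q2356 (flp_g L20785) q2385, e3 q2357 L20528 q2118, e3 q2358 (flp_g L22114) q2523, e3 q2359 (flp_g L22581) q2586, e3 q2360 (flp_g L22010) q2514, e3 q2361 (flp_g L22023) q2515, e3 q2362 (flp_g L22602) q2589, e3 q2363 (flp_g L21833) q2496, e3 q2364 L20576 q2364, e3 q2365 L20589 q2135, e3 q2366 L20595 q2366, e3 q2367 L20606 q2367, trivial⟩ (by decide +kernel)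

theorem ce_g_37 : ∀ r, r < 64 → sm gg (Qf (2368 + r)) = Qf (tab Gen.g (2368 + r)) :=
  edges_tab (sm gg) Qf (tab Gen.g) 2368 [(2368, 2132), (2369, 2130), (2370, 2616), (2371, 2614), (2372, 2615), (2373, 2373), (2374, 2374), (2375, 2610), (2376, 2611), (2377, 2137), (2378, 2139), (2379, 2140), (2380, 2624), (2381, 2625), (2382, 2336), (2383, 2329), (2384, 2346), (2385, 2356), (2386, 2386), (2387, 2293), (2388, 2332), (2389, 2294), (2390, 2638), (2391, 2150), (2392, 2640), (2393, 2393), (2394, 2394), (2395, 2645), (2396, 2152), (2397, 2648), (2398, 2154), (2399, 2622), (2400, 2651), (2401, 2401), (2402, 2402), (2403, 2269), (2404, 2158), (2405, 2617), (2406, 2658), (2407, 2160), (2408, 2161), (2409, 2661), (2410, 2276), (2411, 2163), (2412, 2665), (2413, 2666), (2414, 2165), (2415, 2166), (2416, 2659), (2417, 2670), (2418, 2674), (2419, 2419), (2420, 2420), (2421, 2286), (2422, 2171), (2423, 2172), (2424, 2652), (2425, 2679), (2426, 2257), (2427, 2291),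 (2428, 2177), (2429, 2178), (2430, 2685), (2431, 2686)]
    ⟨e3 q2368 L20618 q2132, e3 q2369 L20630 q2130, e3 q2370 (flp_g L22831) q2616, e3 q2371 (flp_g L22799) q2614, e3 q2372 (flp_g L22816) q2615, e3 q2373 L20665 q2373, e3 q2374 L20675 q2374, e3 q2375 (flp_g L22753) q2610, e3 q2376 (flp_g L22772) q2611, e3 q2377 L20699 q2137, e3 q2378 L20705 q2139, e3 q2379 L20716 q2140, e3 q2380 (flp_g L22905) q2624, e3 q2381 (flp_g L22916) q2625, e3 q2382 L20743 q2336, e3 q2383 L20761 q2329, e3 q2384 L20771 q2346, e3 q2385 L20785 q2356, e3 q2386 L20800 q2386, e3 q2387 L20809 q2293, e3 q2388 L20823 q2332, e3 q2389 L20837 q2294, e3 q2390 L23056 q2638, e3 q2391 (flp_g L20852) q2150, e3 q2392 (flp_g L23090) q2640, e3 q2393 L20878 q2393, e3 q2394 L20891 q2394, e3 q2395 L23132 q2645, e3 q2396 (flp_g L20906) q2152, e3 q2397 (flp_g L23179) q2648, e3 q2398 L20933 q2154, e3 q2399 (flp_g L22886) q2622, e3 q2400 (flp_g L23206) q2651, e3 q2401 L20958 q2401, e3 q2402 L20968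 q2402, e3 q2403 L20978 q2269, e3 q2404 L20987 q2158, e3 q2405 (flp_g L22841) q2617, e3 q2406 (flp_g L23274) q2658, e3 q2407 L21014 q2160, e3 q2408 (flp_g L21018) q2161, e3 q2409 (flp_g L23308) q2661, e3 q2410 L21049 q2276, e3 q2411 L21059 q2163, e3 q2412 (flp_g L23341) q2665, e3 q2413 (flp_g L23351) q2666, e3 q2414 L21082 q2165, e3 q2415 L21092 q2166, e3 q2416 (flp_g L23286) q2659, e3 q2417 (flp_g L23382) q2670, e3 q2418 L23404 q2674, e3 q2419 L21124 q2419, e3 q2420 L21129 q2420, e3 q2421 L21138 q2286, e3 q2422 L21144 q2171, e3 q2423 L21153 q2172, e3 q2424 (flp_g L23216) q2652, e3 q2425 (flp_g L23456) q2679, e3 q2426 L21175 q2257, e3 q2427 L21188 q2291, e3 q2428 L21197 q2177, e3 q2429 L21207 q2178, e3 q2430 (flp_g L23504) q2685, e3 q2431 (flp_g L23518) q2686, trivial⟩ (by decide +kernel)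

theorem ce_g_38 : ∀ r, r < 64 → sm gg (Qf (2432 + r)) = Qf (tab Gen.g (2432 + r)) :=
  edges_tab (sm gg) Qf (tab Gen.g) 2432 [(2432, 2687), (2433, 2433), (2434, 2434), (2435, 2435), (2436, 2436), (2437, 2437), (2438, 2333), (2439, 2342), (2440, 2440), (2441, 2314), (2442, 2340), (2443, 2343), (2444, 2444), (2445, 2315), (2446, 2334), (2447, 2320), (2448, 2330), (2449, 2347), (2450, 2348), (2451, 2711), (2452, 2452), (2453, 2453), (2454, 2239), (2455, 2199), (2456, 2715), (2457, 2201), (2458, 2718), (2459, 2230), (2460, 2205), (2461, 2721), (2462, 2722), (2463, 2207), (2464, 2208), (2465, 2726), (2466, 2727), (2467, 2467), (2468, 2212), (2469, 2215), (2470, 2238), (2471, 2723), (2472, 2730), (2473, 2308), (2474, 2218), (2475, 2219), (2476, 2719), (2477, 2735), (2478, 2736), (2479, 2222), (2480, 2223), (2481, 2746), (2482, 2744), (2483, 2745), (2484, 2224), (2485, 2749), (2486, 2486), (2487, 2309), (2488, 2231), (2489, 2714), (2490, 2720), (2491, 2235),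 (2492, 2236), (2493, 2352), (2494, 2753), (2495, 2335)]
    ⟨e3 q2432 (flp_g L23523) q2687, e3 q2433 L21240 q2433, e3 q2434 L21247 q2434, e3 q2435 L21260 q2435, e3 q2436 L21267 q2436, e3 q2437 L21279 q2437, e3 q2438 L21287 q2333, e3 q2439 L21304 q2342, e3 q2440 L21315 q2440, e3 q2441 L21328 q2314, e3 q2442 L21336 q2340, e3 q2443 L21349 q2343, e3 q2444 L21359 q2444, e3 q2445 L21371 q2315, e3 q2446 L21384 q2334, e3 q2447 L21390 q2320, e3 q2448 L21402 q2330, e3 q2449 L21410 q2347, e3 q2450 L21421 q2348, e3 q2451 L23765 q2711, e3 q2452 L21438 q2452, e3 q2453 L21441 q2453, e3 q2454 (flp_g L21458) q2239, e3 q2455 (flp_g L21460) q2199, e3 q2456 (flp_g L23811) q2715, e3 q2457 L21488 q2201, e3 q2458 (flp_g L23834) q2718, e3 q2459 L21506 q2230, e3 q2460 L21518 q2205, e3 q2461 (flp_g L23869) q2721, e3 q2462 (flp_g L23885) q2722, e3 q2463 L21541 q2207, e3 q2464 L21552 q2208, e3 q2465 (flp_g L23920) q2726, e3 q2466 (flp_g L23931) q2727, e3 q2467 L21576 q2467, e3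 q2468 L21589 q2212, e3 q2469 L21600 q2215, e3 q2470 L21614 q2238, e3 q2471 (flp_g L23895) q2723, e3 q2472 (flp_g L23957) q2730, e3 q2473 L21640 q2308, e3 q2474 L21644 q2218, e3 q2475 L21652 q2219, e3 q2476 (flp_g L23844) q2719, e3 q2477 (flp_g L23999) q2735, e3 q2478 (flp_g L24007) q2736, e3 q2479 L21675 q2222, e3 q2480 L21684 q2223, e3 q2481 L24067 q2746, e3 q2482 (flp_g L24056) q2744, e3 q2483 (flp_g L24062) q2745, e3 q2484 (flp_g L21703) q2224, e3 q2485 (flp_g L24096) q2749, e3 q2486 L21724 q2486, e3 q2487 L21737 q2309, e3 q2488 L21752 q2231, e3 q2489 (flp_g L23800) q2714, e3 q2490 (flp_g L23859) q2720, e3 q2491 L21777 q2235, e3 q2492 L21791 q2236, e3 q2493 L21800 q2352, e3 q2494 (flp_g L24133) q2753, e3 q2495 L21822 q2335, trivial⟩ (by decide +kernel)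

theorem ce_g_39 : ∀ r, r < 64 → sm gg (Qf (2496 + r)) = Qf (tab Gen.g (2496 + r)) :=
  edges_tab (sm gg) Qf (tab Gen.g) 2496 [(2496, 2363), (2497, 2243), (2498, 2244), (2499, 2683), (2500, 2755), (2501, 2305), (2502, 2248), (2503, 2761), (2504, 2762), (2505, 2250), (2506, 2252), (2507, 2253), (2508, 2701), (2509, 2765), (2510, 2258), (2511, 2677), (2512, 2684), (2513, 2769), (2514, 2360), (2515, 2361), (2516, 2282), (2517, 2647), (2518, 2264), (2519, 2778), (2520, 2779), (2521, 2267), (2522, 2275), (2523, 2358), (2524, 2657), (2525, 2271), (2526, 2272), (2527, 2785), (2528, 2786), (2529, 2781), (2530, 2783), (2531, 2664), (2532, 2278), (2533, 2279), (2534, 2793), (2535, 2775), (2536, 2794), (2537, 2283), (2538, 2801), (2539, 2776), (2540, 2284), (2541, 2803), (2542, 2678), (2543, 2289), (2544, 2290), (2545, 2635), (2546, 2804), (2547, 2805), (2548, 2295), (2549, 2349), (2550, 2636), (2551, 2637), (2552, 2316), (2553, 2317), (2554, 2310), (2555, 2311),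 (2556, 2301), (2557, 2302), (2558, 2733), (2559, 2759)]
    ⟨e3 q2496 L21833 q2363, e3 q2497 L21840 q2243, e3 q2498 L21853 q2244, e3 q2499 (flp_g L23483) q2683, e3 q2500 (flp_g L24156) q2755, e3 q2501 L21883 q2305, e3 q2502 L21895 q2248, e3 q2503 (flp_g L24217) q2761, e3 q2504 (flp_g L24233) q2762, e3 q2505 L21928 q2250, e3 q2506 L21938 q2252, e3 q2507 L21951 q2253, e3 q2508 (flp_g L23671) q2701, e3 q2509 (flp_g L24265) q2765, e3 q2510 L21977 q2258, e3 q2511 (flp_g L23436) q2677, e3 q2512 (flp_g L23496) q2684, e3 q2513 (flp_g L24298) q2769, e3 q2514 L22010 q2360, e3 q2515 L22023 q2361, e3 q2516 L22036 q2282, e3 q2517 (flp_g L23169) q2647, e3 q2518 L22061 q2264, e3 q2519 (flp_g L24394) q2778, e3 q2520 (flp_g L24410) q2779, e3 q2521 L22088 q2267, e3 q2522 L22099 q2275, e3 q2523 L22114 q2358, e3 q2524 (flp_g L23265) q2657, e3 q2525 L22131 q2271, e3 q2526 L22142 q2272, e3 q2527 (flp_g L24466) q2785, e3 q2528 (flp_g L24477) q2786, e3 q2529 (flp_g L24426)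 q2781, e3 q2530 (flp_g L24447) q2783, e3 q2531 (flp_g L23335) q2664, e3 q2532 L22186 q2278, e3 q2533 L22196 q2279, e3 q2534 (flp_g L24523) q2793, e3 q2535 (flp_g L24358) q2775, e3 q2536 (flp_g L24533) q2794, e3 q2537 L22224 q2283, e3 q2538 L24570 q2801, e3 q2539 (flp_g L24373) q2776, e3 q2540 (flp_g L22244) q2284, e3 q2541 (flp_g L24598) q2803, e3 q2542 (flp_g L23446) q2678, e3 q2543 L22271 q2289, e3 q2544 L22281 q2290, e3 q2545 (flp_g L23025) q2635, e3 q2546 (flp_g L24605) q2804, e3 q2547 (flp_g L24612) q2805, e3 q2548 L22304 q2295, e3 q2549 L22312 q2349, e3 q2550 (flp_g L23041) q2636, e3 q2551 (flp_g L23051) q2637, e3 q2552 L22334 q2316, e3 q2553 L22346 q2317, e3 q2554 L22354 q2310, e3 q2555 L22366 q2311, e3 q2556 L22374 q2301, e3 q2557 L22386 q2302, e3 q2558 (flp_g L23978) q2733, e3 q2559 (flp_g L24192) q2759, trivial⟩ (by decide +kernel)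

theorem ce_g_40 : ∀ r, r < 64 → sm gg (Qf (2560 + r)) = Qf (tab Gen.g (2560 + r)) :=
  edges_tab (sm gg) Qf (tab Gen.g) 2560 [(2560, 2813), (2561, 2306), (2562, 2760), (2563, 2734), (2564, 2699), (2565, 2812), (2566, 2697), (2567, 2700), (2568, 2704), (2569, 2773), (2570, 2811), (2571, 2321), (2572, 2322), (2573, 2630), (2574, 2706), (2575, 2707), (2576, 2831), (2577, 2829), (2578, 2830), (2579, 2751), (2580, 2326), (2581, 2325), (2582, 2840), (2583, 2328), (2584, 2631), (2585, 2354), (2586, 2359), (2587, 2629), (2588, 2705), (2589, 2362), (2590, 2341), (2591, 2654), (2592, 2702), (2593, 2843), (2594, 2698), (2595, 2688), (2596, 2350), (2597, 2351), (2598, 2632), (2599, 2633), (2600, 2806), (2601, 2709), (2602, 2710), (2603, 2809), (2604, 2847), (2605, 2754), (2606, 2841), (2607, 2774), (2608, 2608), (2609, 2609), (2610, 2375), (2611, 2376), (2612, 2612), (2613, 2613), (2614, 2371), (2615, 2372), (2616, 2370), (2617, 2405), (2618, 2862), (2619, 2866),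 (2620, 2620), (2621, 2621), (2622, 2399), (2623, 2858)]
    ⟨e3 q2560 (flp_g L24674) q2813, e3 q2561 L22416 q2306, e3 q2562 (flp_g L24207) q2760, e3 q2563 (flp_g L23993) q2734, e3 q2564 (flp_g L23645) q2699, e3 q2565 (flp_g L24666) q2812, e3 q2566 (flp_g L23624) q2697, e3 q2567 (flp_g L23661) q2700, e3 q2568 (flp_g L23700) q2704, e3 q2569 (flp_g L24333) q2773, e3 q2570 (flp_g L24658) q2811, e3 q2571 L22479 q2321, e3 q2572 L22487 q2322, e3 q2573 (flp_g L22962) q2630, e3 q2574 (flp_g L23723) q2706, e3 q2575 (flp_g L23735) q2707, e3 q2576 (flp_g L24779) q2831, e3 q2577 (flp_g L24769) q2829, e3 q2578 (flp_g L24773) q2830, e3 q2579 (flp_g L24111) q2751, e3 q2580 L22530 q2326, e3 q2581 (flp_g L22532) q2325, e3 q2582 (flp_g L24836) q2840, e3 q2583 L22557 q2328, e3 q2584 (flp_g L22976) q2631, e3 q2585 L22574 q2354, e3 q2586 L22581 q2359, e3 q2587 (flp_g L22952) q2629, e3 q2588 (flp_g L23715) q2705, e3 q2589 L22602 q2362, e3 q2590 L22610 q2341, e3 q2591 L23236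 q2654, e3 q2592 (flp_g L23684) q2702, e3 q2593 (flp_g L24856) q2843, e3 q2594 (flp_g L23635) q2698, e3 q2595 (flp_g L23534) q2688, e3 q2596 L22653 q2350, e3 q2597 L22658 q2351, e3 q2598 (flp_g L22987) q2632, e3 q2599 (flp_g L23003) q2633, e3 q2600 (flp_g L24620) q2806, e3 q2601 (flp_g L23752) q2709, e3 q2602 (flp_g L23760) q2710, e3 q2603 (flp_g L24644) q2809, e3 q2604 (flp_g L24887) q2847, e3 q2605 (flp_g L24145) q2754, e3 q2606 (flp_g L24842) q2841, e3 q2607 (flp_g L24348) q2774, e3 q2608 L22732 q2608, e3 q2609 L22743 q2609, e3 q2610 L22753 q2375, e3 q2611 L22772 q2376, e3 q2612 L22781 q2612, e3 q2613 L22792 q2613, e3 q2614 L22799 q2371, e3 q2615 L22816 q2372, e3 q2616 L22831 q2370, e3 q2617 L22841 q2405, e3 q2618 (flp_g L25033) q2862, e3 q2619 L25071 q2866, e3 q2620 L22870 q2620, e3 q2621 L22876 q2621, e3 q2622 L22886 q2399, e3 q2623 (flp_g L24986) q2858, trivial⟩ (by decide +kernel)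

theorem ce_g_41 : ∀ r, r < 64 → sm gg (Qf (2624 + r)) = Qf (tab Gen.g (2624 + r)) :=
  edges_tab (sm gg) Qf (tab Gen.g) 2624 [(2624, 2380), (2625, 2381), (2626, 2872), (2627, 2873), (2628, 2874), (2629, 2587), (2630, 2573), (2631, 2584), (2632, 2598), (2633, 2599), (2634, 2634), (2635, 2545), (2636, 2550), (2637, 2551), (2638, 2390), (2639, 2887), (2640, 2392), (2641, 2869), (2642, 2890), (2643, 2643), (2644, 2644), (2645, 2395), (2646, 2895), (2647, 2517), (2648, 2397), (2649, 2899), (2650, 2900), (2651, 2400), (2652, 2424), (2653, 2870), (2654, 2591), (2655, 2655), (2656, 2656), (2657, 2524), (2658, 2406), (2659, 2416), (2660, 2864), (2661, 2409), (2662, 2912), (2663, 2913), (2664, 2531), (2665, 2412), (2666, 2413), (2667, 2902), (2668, 2901), (2669, 2919), (2670, 2417), (2671, 2926), (2672, 2910), (2673, 2925), (2674, 2418), (2675, 2929), (2676, 2676), (2677, 2511), (2678, 2542), (2679, 2425), (2680, 2891), (2681, 2905), (2682, 2932), (2683, 2499),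 (2684, 2512), (2685, 2430), (2686, 2431), (2687, 2432)]
    ⟨e3 q2624 L22905 q2380, e3 q2625 L22916 q2381, e3 q2626 (flp_g L25143) q2872, e3 q2627 (flp_g L25158) q2873, e3 q2628 (flp_g L25165) q2874, e3 q2629 L22952 q2587, e3 q2630 L22962 q2573, e3 q2631 L22976 q2584, e3 q2632 L22987 q2598, e3 q2633 L23003 q2599, e3 q2634 L23014 q2634, e3 q2635 L23025 q2545, e3 q2636 L23041 q2550, e3 q2637 L23051 q2551, e3 q2638 (flp_g L23056) q2390, e3 q2639 (flp_g L25325) q2887, e3 q2640 L23090 q2392, e3 q2641 (flp_g L25107) q2869, e3 q2642 (flp_g L25358) q2890, e3 q2643 L23118 q2643, e3 q2644 L23131 q2644, e3 q2645 (flp_g L23132) q2395, e3 q2646 (flp_g L25417) q2895, e3 q2647 L23169 q2517, e3 q2648 L23179 q2397, e3 q2649 (flp_g L25458) q2899, e3 q2650 (flp_g L25472) q2900, e3 q2651 L23206 q2400, e3 q2652 L23216 q2424, e3 q2653 (flp_g L25125) q2870, e3 q2654 (flp_g L23236) q2591, e3 q2655 L23248 q2655, e3 q2656 L23253 q2656, e3 q2657 L23265 q2524, e3 q2658 L23274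 q2406, e3 q2659 L23286 q2416, e3 q2660 (flp_g L25060) q2864, e3 q2661 L23308 q2409, e3 q2662 (flp_g L25606) q2912, e3 q2663 (flp_g L25618) q2913, e3 q2664 L23335 q2531, e3 q2665 L23341 q2412, e3 q2666 L23351 q2413, e3 q2667 (flp_g L25496) q2902, e3 q2668 (flp_g L25482) q2901, e3 q2669 (flp_g L25673) q2919, e3 q2670 L23382 q2417, e3 q2671 L25723 q2926, e3 q2672 (flp_g L25588) q2910, e3 q2673 (flp_g L25718) q2925, e3 q2674 (flp_g L23404) q2418, e3 q2675 (flp_g L25760) q2929, e3 q2676 L23428 q2676, e3 q2677 L23436 q2511, e3 q2678 L23446 q2542, e3 q2679 L23456 q2425, e3 q2680 (flp_g L25370) q2891, e3 q2681 (flp_g L25529) q2905, e3 q2682 (flp_g L25783) q2932, e3 q2683 L23483 q2499, e3 q2684 L23496 q2512, e3 q2685 L23504 q2430, e3 q2686 L23518 q2431, e3 q2687 L23523 q2432, trivial⟩ (by decide +kernel)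

theorem ce_g_42 : ∀ r, r < 64 → sm gg (Qf (2688 + r)) = Qf (tab Gen.g (2688 + r)) :=
  edges_tab (sm gg) Qf (tab Gen.g) 2688 [(2688, 2595), (2689, 2938), (2690, 2939), (2691, 2691), (2692, 2692), (2693, 2693), (2694, 2875), (2695, 2695), (2696, 2696), (2697, 2566), (2698, 2594), (2699, 2564), (2700, 2567), (2701, 2508), (2702, 2592), (2703, 2703), (2704, 2568), (2705, 2588), (2706, 2574), (2707, 2575), (2708, 2933), (2709, 2601), (2710, 2602), (2711, 2451), (2712, 2959), (2713, 2713), (2714, 2489), (2715, 2456), (2716, 2963), (2717, 2964), (2718, 2458), (2719, 2476), (2720, 2490), (2721, 2461), (2722, 2462), (2723, 2471), (2724, 2969), (2725, 2970), (2726, 2465), (2727, 2466), (2728, 2976), (2729, 2977), (2730, 2472), (2731, 2971), (2732, 2972), (2733, 2558), (2734, 2563), (2735, 2477), (2736, 2478), (2737, 2961), (2738, 2967), (2739, 2968), (2740, 2993), (2741, 2985), (2742, 2986), (2743, 2996), (2744, 2482), (2745, 2483), (2746, 2481), (2747, 2999),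 (2748, 2998), (2749, 2485), (2750, 3002), (2751, 2579)]
    ⟨e3 q2688 L23534 q2595, e3 q2689 (flp_g L25848) q2938, e3 q2690 (flp_g L25857) q2939, e3 q2691 L23561 q2691, e3 q2692 L23572 q2692, e3 q2693 L23584 q2693, e3 q2694 (flp_g L25177) q2875, e3 q2695 L23602 q2695, e3 q2696 L23610 q2696, e3 q2697 L23624 q2566, e3 q2698 L23635 q2594, e3 q2699 L23645 q2564, e3 q2700 L23661 q2567, e3 q2701 L23671 q2508, e3 q2702 L23684 q2592, e3 q2703 L23690 q2703, e3 q2704 L23700 q2568, e3 q2705 L23715 q2588, e3 q2706 L23723 q2574, e3 q2707 L23735 q2575, e3 q2708 (flp_g L25796) q2933, e3 q2709 L23752 q2601, e3 q2710 L23760 q2602, e3 q2711 (flp_g L23765) q2451, e3 q2712 (flp_g L26073) q2959, e3 q2713 L23787 q2713, e3 q2714 L23800 q2489, e3 q2715 L23811 q2456, e3 q2716 (flp_g L26115) q2963, e3 q2717 (flp_g L26128) q2964, e3 q2718 L23834 q2458, e3 q2719 L23844 q2476, e3 q2720 L23859 q2490, e3 q2721 L23869 q2461, e3 q2722 L23885 q2462, e3 q2723 L23895 q2471, e3 q2724 (flp_g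 L26176) q2969, e3 q2725 (flp_g L26192) q2970, e3 q2726 L23920 q2465, e3 q2727 L23931 q2466, e3 q2728 (flp_g L26249) q2976, e3 q2729 (flp_g L26257) q2977, e3 q2730 L23957 q2472, e3 q2731 (flp_g L26200) q2971, e3 q2732 (flp_g L26215) q2972, e3 q2733 L23978 q2558, e3 q2734 L23993 q2563, e3 q2735 L23999 q2477, e3 q2736 L24007 q2478, e3 q2737 (flp_g L26090) q2961, e3 q2738 (flp_g L26153) q2967, e3 q2739 (flp_g L26168) q2968, e3 q2740 L26372 q2993, e3 q2741 (flp_g L26323) q2985, e3 q2742 (flp_g L26327) q2986, e3 q2743 L26392 q2996, e3 q2744 L24056 q2482, e3 q2745 L24062 q2483, e3 q2746 (flp_g L24067) q2481, e3 q2747 (flp_g L26426) q2999, e3 q2748 (flp_g L26416) q2998, e3 q2749 L24096 q2485, e3 q2750 (flp_g L26445) q3002, e3 q2751 L24111 q2579, trivial⟩ (by decide +kernel)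

theorem ce_g_43 : ∀ r, r < 64 → sm gg (Qf (2752 + r)) = Qf (tab Gen.g (2752 + r)) :=
  edges_tab (sm gg) Qf (tab Gen.g) 2752 [(2752, 2962), (2753, 2494), (2754, 2605), (2755, 2500), (2756, 2859), (2757, 2936), (2758, 3004), (2759, 2559), (2760, 2562), (2761, 2503), (2762, 2504), (2763, 2948), (2764, 3008), (2765, 2509), (2766, 2904), (2767, 2950), (2768, 3012), (2769, 2513), (2770, 2863), (2771, 2931), (2772, 2937), (2773, 2569), (2774, 2607), (2775, 2535), (2776, 2539), (2777, 2898), (2778, 2519), (2779, 2520), (2780, 3022), (2781, 2529), (2782, 3023), (2783, 2530), (2784, 2909), (2785, 2527), (2786, 2528), (2787, 3028), (2788, 3029), (2789, 3024), (2790, 3026), (2791, 2917), (2792, 2918), (2793, 2534), (2794, 2536), (2795, 2880), (2796, 3018), (2797, 3036), (2798, 3044), (2799, 3019), (2800, 3037), (2801, 2538), (2802, 3047), (2803, 2541), (2804, 2546), (2805, 2547), (2806, 2600), (2807, 2885), (2808, 3048), (2809, 2603), (2810, 2886), (2811, 2570),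 (2812, 2565), (2813, 2560), (2814, 2982), (2815, 2983)]
    ⟨e3 q2752 (flp_g L26105) q2962, e3 q2753 L24133 q2494, e3 q2754 L24145 q2605, e3 q2755 L24156 q2500, e3 q2756 L25000 q2859, e3 q2757 (flp_g L25824) q2936, e3 q2758 (flp_g L26466) q3004, e3 q2759 L24192 q2559, e3 q2760 L24207 q2562, e3 q2761 L24217 q2503, e3 q2762 L24233 q2504, e3 q2763 (flp_g L25953) q2948, e3 q2764 (flp_g L26511) q3008, e3 q2765 L24265 q2509, e3 q2766 (flp_g L25519) q2904, e3 q2767 (flp_g L25979) q2950, e3 q2768 (flp_g L26551) q3012, e3 q2769 L24298 q2513, e3 q2770 (flp_g L25047) q2863, e3 q2771 (flp_g L25777) q2931, e3 q2772 (flp_g L25833) q2937, e3 q2773 L24333 q2569, e3 q2774 L24348 q2607, e3 q2775 L24358 q2535, e3 q2776 L24373 q2539, e3 q2777 (flp_g L25452) q2898, e3 q2778 L24394 q2519, e3 q2779 L24410 q2520, e3 q2780 (flp_g L26655) q3022, e3 q2781 L24426 q2529, e3 q2782 (flp_g L26671) q3023, e3 q2783 L24447 q2530, e3 q2784 (flp_g L25572) q2909, e3 q2785 L24466 q2527,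 e3 q2786 L24477 q2528, e3 q2787 (flp_g L26717) q3028, e3 q2788 (flp_g L26725) q3029, e3 q2789 (flp_g L26679) q3024, e3 q2790 (flp_g L26702) q3026, e3 q2791 (flp_g L25650) q2917, e3 q2792 (flp_g L25663) q2918, e3 q2793 L24523 q2534, e3 q2794 L24533 q2536, e3 q2795 (flp_g L25230) q2880, e3 q2796 (flp_g L26609) q3018, e3 q2797 (flp_g L26777) q3036, e3 q2798 L26824 q3044, e3 q2799 (flp_g L26624) q3019, e3 q2800 (flp_g L26783) q3037, e3 q2801 (flp_g L24570) q2538, e3 q2802 (flp_g L26855) q3047, e3 q2803 L24598 q2541, e3 q2804 L24605 q2546, e3 q2805 L24612 q2547, e3 q2806 L24620 q2600, e3 q2807 (flp_g L25298) q2885, e3 q2808 (flp_g L26862) q3048, e3 q2809 L24644 q2603, e3 q2810 (flp_g L25309) q2886, e3 q2811 L24658 q2570, e3 q2812 L24666 q2565, e3 q2813 L24674 q2560, e3 q2814 (flp_g L26294) q2982, e3 q2815 (flp_g L26309) q2983, trivial⟩ (by decide +kernel)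

theorem ce_g_44 : ∀ r, r < 64 → sm gg (Qf (2816 + r)) = Qf (tab Gen.g (2816 + r)) :=
  edges_tab (sm gg) Qf (tab Gen.g) 2816 [(2816, 3007), (2817, 3055), (2818, 2946), (2819, 2949), (2820, 3054), (2821, 2947), (2822, 2878), (2823, 2952), (2824, 2953), (2825, 3061), (2826, 3017), (2827, 3053), (2828, 2987), (2829, 2577), (2830, 2578), (2831, 2576), (2832, 2881), (2833, 2882), (2834, 3038), (2835, 2955), (2836, 2956), (2837, 3071), (2838, 3070), (2839, 3003), (2840, 2582), (2841, 2606), (2842, 2879), (2843, 2593), (2844, 2907), (2845, 2951), (2846, 2940), (2847, 2604), (2848, 2975), (2849, 2883), (2850, 2884), (2851, 3049), (2852, 2958), (2853, 3052), (2854, 3078), (2855, 2855), (2856, 2856), (2857, 2857), (2858, 2623), (2859, 2756), (2860, 2860), (2861, 2861), (2862, 2618), (2863, 2770), (2864, 2660), (2865, 3091), (2866, 2619), (2867, 3094), (2868, 2868), (2869, 2641), (2870, 2653), (2871, 3088), (2872, 2626), (2873, 2627), (2874, 2628), (2875, 2694),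 (2876, 3099), (2877, 3100), (2878, 2822), (2879, 2842)]
    ⟨e3 q2816 (flp_g L26499) q3007, e3 q2817 (flp_g L26918) q3055, e3 q2818 (flp_g L25928) q2946, e3 q2819 (flp_g L25969) q2949, e3 q2820 (flp_g L26908) q3054, e3 q2821 (flp_g L25943) q2947, e3 q2822 (flp_g L25206) q2878, e3 q2823 (flp_g L26000) q2952, e3 q2824 (flp_g L26015) q2953, e3 q2825 (flp_g L26959) q3061, e3 q2826 (flp_g L26601) q3017, e3 q2827 (flp_g L26898) q3053, e3 q2828 (flp_g L26337) q2987, e3 q2829 L24769 q2577, e3 q2830 L24773 q2578, e3 q2831 L24779 q2576, e3 q2832 (flp_g L25242) q2881, e3 q2833 (flp_g L25258) q2882, e3 q2834 (flp_g L26791) q3038, e3 q2835 (flp_g L26035) q2955, e3 q2836 (flp_g L26043) q2956, e3 q2837 (flp_g L27026) q3071, e3 q2838 (flp_g L27018) q3070, e3 q2839 (flp_g L26457) q3003, e3 q2840 L24836 q2582, e3 q2841 L24842 q2606, e3 q2842 (flp_g L25220) q2879, e3 q2843 L24856 q2593, e3 q2844 (flp_g L25550) q2907, e3 q2845 (flp_g L25989) q2951, e3 q2846 (flp_g L25871)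 q2940, e3 q2847 L24887 q2604, e3 q2848 (flp_g L26240) q2975, e3 q2849 (flp_g L25271) q2883, e3 q2850 (flp_g L25282) q2884, e3 q2851 (flp_g L26872) q3049, e3 q2852 (flp_g L26063) q2958, e3 q2853 (flp_g L26891) q3052, e3 q2854 (flp_g L27070) q3078, e3 q2855 L24943 q2855, e3 q2856 L24957 q2856, e3 q2857 L24971 q2857, e3 q2858 L24986 q2623, e3 q2859 (flp_g L25000) q2756, e3 q2860 L25011 q2860, e3 q2861 L25018 q2861, e3 q2862 L25033 q2618, e3 q2863 L25047 q2770, e3 q2864 L25060 q2660, e3 q2865 (flp_g L27198) q3091, e3 q2866 (flp_g L25071) q2619, e3 q2867 (flp_g L27242) q3094, e3 q2868 L25098 q2868, e3 q2869 L25107 q2641, e3 q2870 L25125 q2653, e3 q2871 (flp_g L27159) q3088, e3 q2872 L25143 q2626, e3 q2873 L25158 q2627, e3 q2874 L25165 q2628, e3 q2875 L25177 q2694, e3 q2876 (flp_g L27301) q3099, e3 q2877 (flp_g L27310) q3100, e3 q2878 L25206 q2822, e3 q2879 L25220 q2842, trivial⟩ (by decide +kernel)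

theorem ce_g_45 : ∀ r, r < 64 → sm gg (Qf (2880 + r)) = Qf (tab Gen.g (2880 + r)) :=
  edges_tab (sm gg) Qf (tab Gen.g) 2880 [(2880, 2795), (2881, 2832), (2882, 2833), (2883, 2849), (2884, 2850), (2885, 2807), (2886, 2810), (2887, 2639), (2888, 3113), (2889, 3114), (2890, 2642), (2891, 2680), (2892, 3097), (2893, 2893), (2894, 2894), (2895, 2646), (2896, 3121), (2897, 3122), (2898, 2777), (2899, 2649), (2900, 2650), (2901, 2668), (2902, 2667), (2903, 3128), (2904, 2766), (2905, 2681), (2906, 3098), (2907, 2844), (2908, 2908), (2909, 2784), (2910, 2672), (2911, 3093), (2912, 2662), (2913, 2663), (2914, 3124), (2915, 3123), (2916, 3137), (2917, 2791), (2918, 2792), (2919, 2669), (2920, 3116), (2921, 3131), (2922, 3149), (2923, 3129), (2924, 3145), (2925, 2673), (2926, 2671), (2927, 3152), (2928, 3136), (2929, 2675), (2930, 3155), (2931, 2771), (2932, 2682), (2933, 2708), (2934, 3118), (2935, 3134), (2936, 2757), (2937, 2772), (2938, 2689), (2939, 2690),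 (2940, 2846), (2941, 3161), (2942, 2942), (2943, 2943)]
    ⟨e3 q2880 L25230 q2795, e3 q2881 L25242 q2832, e3 q2882 L25258 q2833, e3 q2883 L25271 q2849, e3 q2884 L25282 q2850, e3 q2885 L25298 q2807, e3 q2886 L25309 q2810, e3 q2887 L25325 q2639, e3 q2888 (flp_g L27474) q3113, e3 q2889 (flp_g L27493) q3114, e3 q2890 L25358 q2642, e3 q2891 L25370 q2680, e3 q2892 (flp_g L27272) q3097, e3 q2893 L25394 q2893, e3 q2894 L25403 q2894, e3 q2895 L25417 q2646, e3 q2896 (flp_g L27581) q3121, e3 q2897 (flp_g L27599) q3122, e3 q2898 L25452 q2777, e3 q2899 L25458 q2649, e3 q2900 L25472 q2650, e3 q2901 L25482 q2668, e3 q2902 L25496 q2667, e3 q2903 (flp_g L27684) q3128, e3 q2904 L25519 q2766, e3 q2905 L25529 q2681, e3 q2906 (flp_g L27283) q3098, e3 q2907 L25550 q2844, e3 q2908 L25560 q2908, e3 q2909 L25572 q2784, e3 q2910 L25588 q2672, e3 q2911 (flp_g L27226) q3093, e3 q2912 L25606 q2662, e3 q2913 L25618 q2663, e3 q2914 (flp_g L27626) q3124, e3 q2915 (flp_g L27609) q3123,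 e3 q2916 (flp_g L27799) q3137, e3 q2917 L25650 q2791, e3 q2918 L25663 q2792, e3 q2919 L25673 q2669, e3 q2920 (flp_g L27520) q3116, e3 q2921 (flp_g L27728) q3131, e3 q2922 L27918 q3149, e3 q2923 (flp_g L27700) q3129, e3 q2924 (flp_g L27882) q3145, e3 q2925 L25718 q2673, e3 q2926 (flp_g L25723) q2671, e3 q2927 (flp_g L27962) q3152, e3 q2928 (flp_g L27788) q3136, e3 q2929 L25760 q2675, e3 q2930 (flp_g L27985) q3155, e3 q2931 L25777 q2771, e3 q2932 L25783 q2682, e3 q2933 L25796 q2708, e3 q2934 (flp_g L27550) q3118, e3 q2935 (flp_g L27760) q3134, e3 q2936 L25824 q2757, e3 q2937 L25833 q2772, e3 q2938 L25848 q2689, e3 q2939 L25857 q2690, e3 q2940 L25871 q2846, e3 q2941 (flp_g L28045) q3161, e3 q2942 L25889 q2942, e3 q2943 L25898 q2943, trivial⟩ (by decide +kernel)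

theorem ce_g_46 : ∀ r, r < 64 → sm gg (Qf (2944 + r)) = Qf (tab Gen.g (2944 + r)) :=
  edges_tab (sm gg) Qf (tab Gen.g) 2944 [(2944, 3101), (2945, 2945), (2946, 2818), (2947, 2821), (2948, 2763), (2949, 2819), (2950, 2767), (2951, 2845), (2952, 2823), (2953, 2824), (2954, 3146), (2955, 2835), (2956, 2836), (2957, 3157), (2958, 2852), (2959, 2712), (2960, 3176), (2961, 2737), (2962, 2752), (2963, 2716), (2964, 2717), (2965, 3138), (2966, 3178), (2967, 2738), (2968, 2739), (2969, 2724), (2970, 2725), (2971, 2731), (2972, 2732), (2973, 3184), (2974, 3185), (2975, 2848), (2976, 2728), (2977, 2729), (2978, 3190), (2979, 3192), (2980, 3186), (2981, 3187), (2982, 2814), (2983, 2815), (2984, 3197), (2985, 2741), (2986, 2742), (2987, 2828), (2988, 3115), (2989, 3177), (2990, 3204), (2991, 3181), (2992, 3182), (2993, 2740), (2994, 3207), (2995, 3199), (2996, 2743), (2997, 3210), (2998, 2748), (2999, 2747), (3000, 3213), (3001, 3212), (3002, 2750), (3003, 2839),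 (3004, 2758), (3005, 3089), (3006, 3160), (3007, 2816)]
    ⟨e3 q2944 (flp_g L27324) q3101, e3 q2945 L25918 q2945, e3 q2946 L25928 q2818, e3 q2947 L25943 q2821, e3 q2948 L25953 q2763, e3 q2949 L25969 q2819, e3 q2950 L25979 q2767, e3 q2951 L25989 q2845, e3 q2952 L26000 q2823, e3 q2953 L26015 q2824, e3 q2954 (flp_g L27896) q3146, e3 q2955 L26035 q2835, e3 q2956 L26043 q2836, e3 q2957 (flp_g L28011) q3157, e3 q2958 L26063 q2852, e3 q2959 L26073 q2712, e3 q2960 (flp_g L28204) q3176, e3 q2961 L26090 q2737, e3 q2962 L26105 q2752, e3 q2963 L26115 q2716, e3 q2964 L26128 q2717, e3 q2965 (flp_g L27808) q3138, e3 q2966 (flp_g L28229) q3178, e3 q2967 L26153 q2738, e3 q2968 L26168 q2739, e3 q2969 L26176 q2724, e3 q2970 L26192 q2725, e3 q2971 L26200 q2731, e3 q2972 L26215 q2732, e3 q2973 (flp_g L28297) q3184, e3 q2974 (flp_g L28307) q3185, e3 q2975 L26240 q2848, e3 q2976 L26249 q2728, e3 q2977 L26257 q2729, e3 q2978 (flp_g L28363) q3190, e3 q2979 L28371 q3192, e3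 q2980 (flp_g L28322) q3186, e3 q2981 (flp_g L28332) q3187, e3 q2982 L26294 q2814, e3 q2983 L26309 q2815, e3 q2984 L28424 q3197, e3 q2985 L26323 q2741, e3 q2986 L26327 q2742, e3 q2987 L26337 q2828, e3 q2988 (flp_g L27503) q3115, e3 q2989 (flp_g L28219) q3177, e3 q2990 L28492 q3204, e3 q2991 (flp_g L28255) q3181, e3 q2992 (flp_g L28265) q3182, e3 q2993 (flp_g L26372) q2740, e3 q2994 (flp_g L28530) q3207, e3 q2995 (flp_g L28452) q3199, e3 q2996 (flp_g L26392) q2743, e3 q2997 (flp_g L28552) q3210, e3 q2998 L26416 q2748, e3 q2999 L26426 q2747, e3 q3000 (flp_g L28577) q3213, e3 q3001 (flp_g L28565) q3212, e3 q3002 L26445 q2750, e3 q3003 L26457 q2839, e3 q3004 L26466 q2758, e3 q3005 (flp_g L27176) q3089, e3 q3006 (flp_g L28034) q3160, e3 q3007 L26499 q2816, trivial⟩ (by decide +kernel)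

theorem ce_g_47 : ∀ r, r < 64 → sm gg (Qf (3008 + r)) = Qf (tab Gen.g (3008 + r)) :=
  edges_tab (sm gg) Qf (tab Gen.g) 3008 [(3008, 2764), (3009, 3130), (3010, 3167), (3011, 3219), (3012, 2768), (3013, 3133), (3014, 3169), (3015, 3092), (3016, 3156), (3017, 2826), (3018, 2796), (3019, 2799), (3020, 3126), (3021, 3127), (3022, 2780), (3023, 2782), (3024, 2789), (3025, 3229), (3026, 2790), (3027, 3230), (3028, 2787), (3029, 2788), (3030, 3234), (3031, 3104), (3032, 3231), (3033, 3233), (3034, 3143), (3035, 3144), (3036, 2797), (3037, 2800), (3038, 2834), (3039, 3107), (3040, 3108), (3041, 3140), (3042, 3226), (3043, 3240), (3044, 2798), (3045, 3247), (3046, 3227), (3047, 2802), (3048, 2808), (3049, 2851), (3050, 3112), (3051, 3249), (3052, 2853), (3053, 2827), (3054, 2820), (3055, 2817), (3056, 3195), (3057, 3196), (3058, 3218), (3059, 3166), (3060, 3168), (3061, 2825), (3062, 3105), (3063, 3106), (3064, 3201), (3065, 3170), (3066, 3171), (3067, 3255),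 (3068, 3225), (3069, 3200), (3070, 2838), (3071, 2837)]
    ⟨e3 q3008 L26511 q2764, e3 q3009 (flp_g L27716) q3130, e3 q3010 (flp_g L28109) q3167, e3 q3011 (flp_g L28628) q3219, e3 q3012 L26551 q2768, e3 q3013 (flp_g L27750) q3133, e3 q3014 (flp_g L28133) q3169, e3 q3015 (flp_g L27215) q3092, e3 q3016 (flp_g L27994) q3156, e3 q3017 L26601 q2826, e3 q3018 L26609 q2796, e3 q3019 L26624 q2799, e3 q3020 (flp_g L27651) q3126, e3 q3021 (flp_g L27670) q3127, e3 q3022 L26655 q2780, e3 q3023 L26671 q2782, e3 q3024 L26679 q2789, e3 q3025 (flp_g L28741) q3229, e3 q3026 L26702 q2790, e3 q3027 (flp_g L28751) q3230, e3 q3028 L26717 q2787, e3 q3029 L26725 q2788, e3 q3030 (flp_g L28795) q3234, e3 q3031 (flp_g L27347) q3104, e3 q3032 (flp_g L28766) q3231, e3 q3033 (flp_g L28782) q3233, e3 q3034 (flp_g L27861) q3143, e3 q3035 (flp_g L27876) q3144, e3 q3036 L26777 q2797, e3 q3037 L26783 q2800, e3 q3038 L26791 q2834, e3 q3039 (flp_g L27391) q3107, e3 q3040 (flp_g L27410)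 q3108, e3 q3041 (flp_g L27836) q3140, e3 q3042 (flp_g L28705) q3226, e3 q3043 (flp_g L28837) q3240, e3 q3044 (flp_g L26824) q2798, e3 q3045 (flp_g L28889) q3247, e3 q3046 (flp_g L28715) q3227, e3 q3047 L26855 q2802, e3 q3048 L26862 q2808, e3 q3049 L26872 q2851, e3 q3050 (flp_g L27463) q3112, e3 q3051 (flp_g L28899) q3249, e3 q3052 L26891 q2853, e3 q3053 L26898 q2827, e3 q3054 L26908 q2820, e3 q3055 L26918 q2817, e3 q3056 (flp_g L28408) q3195, e3 q3057 (flp_g L28418) q3196, e3 q3058 (flp_g L28614) q3218, e3 q3059 (flp_g L28097) q3166, e3 q3060 (flp_g L28119) q3168, e3 q3061 L26959 q2825, e3 q3062 (flp_g L27364) q3105, e3 q3063 (flp_g L27381) q3106, e3 q3064 (flp_g L28477) q3201, e3 q3065 (flp_g L28145) q3170, e3 q3066 (flp_g L28155) q3171, e3 q3067 (flp_g L28937) q3255, e3 q3068 (flp_g L28690) q3225, e3 q3069 (flp_g L28462) q3200, e3 q3070 L27018 q2838, e3 q3071 L27026 q2837, trivial⟩ (by decide +kernel)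

theorem ce_g_48 : ∀ r, r < 64 → sm gg (Qf (3072 + r)) = Qf (tab Gen.g (3072 + r)) :=
  edges_tab (sm gg) Qf (tab Gen.g) 3072 [(3072, 3183), (3073, 3109), (3074, 3110), (3075, 3241), (3076, 3173), (3077, 3262), (3078, 2854), (3079, 3135), (3080, 3162), (3081, 3189), (3082, 3111), (3083, 3250), (3084, 3175), (3085, 3085), (3086, 3086), (3087, 3087), (3088, 2871), (3089, 3005), (3090, 3090), (3091, 2865), (3092, 3015), (3093, 2911), (3094, 2867), (3095, 3275), (3096, 3096), (3097, 2892), (3098, 2906), (3099, 2876), (3100, 2877), (3101, 2944), (3102, 3279), (3103, 3280), (3104, 3031), (3105, 3062), (3106, 3063), (3107, 3039), (3108, 3040), (3109, 3073), (3110, 3074), (3111, 3082), (3112, 3050), (3113, 2888), (3114, 2889), (3115, 2988), (3116, 2920), (3117, 3292), (3118, 2934), (3119, 3278), (3120, 3120), (3121, 2896), (3122, 2897), (3123, 2915), (3124, 2914), (3125, 3297), (3126, 3020), (3127, 3021), (3128, 2903), (3129, 2923), (3130, 3009), (3131, 2921),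 (3132, 3302), (3133, 3013), (3134, 2935), (3135, 3079)]
    ⟨e3 q3072 (flp_g L28285) q3183, e3 q3073 (flp_g L27424) q3109, e3 q3074 (flp_g L27434) q3110, e3 q3075 (flp_g L28847) q3241, e3 q3076 (flp_g L28179) q3173, e3 q3077 (flp_g L28981) q3262, e3 q3078 L27070 q2854, e3 q3079 (flp_g L27771) q3135, e3 q3080 (flp_g L28057) q3162, e3 q3081 (flp_g L28354) q3189, e3 q3082 (flp_g L27449) q3111, e3 q3083 (flp_g L28909) q3250, e3 q3084 (flp_g L28194) q3175, e3 q3085 L27123 q3085, e3 q3086 L27136 q3086, e3 q3087 L27144 q3087, e3 q3088 L27159 q2871, e3 q3089 L27176 q3005, e3 q3090 L27186 q3090, e3 q3091 L27198 q2865, e3 q3092 L27215 q3015, e3 q3093 L27226 q2911, e3 q3094 L27242 q2867, e3 q3095 (flp_g L29103) q3275, e3 q3096 L27255 q3096, e3 q3097 L27272 q2892, e3 q3098 L27283 q2906, e3 q3099 L27301 q2876, e3 q3100 L27310 q2877, e3 q3101 L27324 q2944, e3 q3102 (flp_g L29151) q3279, e3 q3103 (flp_g L29157) q3280, e3 q3104 L27347 q3031, e3 q3105 L27364 q3062,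 e3 q3106 L27381 q3063, e3 q3107 L27391 q3039, e3 q3108 L27410 q3040, e3 q3109 L27424 q3073, e3 q3110 L27434 q3074, e3 q3111 L27449 q3082, e3 q3112 L27463 q3050, e3 q3113 L27474 q2888, e3 q3114 L27493 q2889, e3 q3115 L27503 q2988, e3 q3116 L27520 q2920, e3 q3117 (flp_g L29317) q3292, e3 q3118 L27550 q2934, e3 q3119 (flp_g L29134) q3278, e3 q3120 L27571 q3120, e3 q3121 L27581 q2896, e3 q3122 L27599 q2897, e3 q3123 L27609 q2915, e3 q3124 L27626 q2914, e3 q3125 (flp_g L29391) q3297, e3 q3126 L27651 q3020, e3 q3127 L27670 q3021, e3 q3128 L27684 q2903, e3 q3129 L27700 q2923, e3 q3130 L27716 q3009, e3 q3131 L27728 q2921, e3 q3132 (flp_g L29459) q3302, e3 q3133 L27750 q3013, e3 q3134 L27760 q2935, e3 q3135 L27771 q3079, trivial⟩ (by decide +kernel)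

theorem ce_g_49 : ∀ r, r < 64 → sm gg (Qf (3136 + r)) = Qf (tab Gen.g (3136 + r)) :=
  edges_tab (sm gg) Qf (tab Gen.g) 3136 [(3136, 2928), (3137, 2916), (3138, 2965), (3139, 3299), (3140, 3041), (3141, 3298), (3142, 3309), (3143, 3034), (3144, 3035), (3145, 2924), (3146, 2954), (3147, 3294), (3148, 3305), (3149, 2922), (3150, 3319), (3151, 3303), (3152, 2927), (3153, 3322), (3154, 3308), (3155, 2930), (3156, 3016), (3157, 2957), (3158, 3296), (3159, 3307), (3160, 3006), (3161, 2941), (3162, 3080), (3163, 3163), (3164, 3281), (3165, 3165), (3166, 3059), (3167, 3010), (3168, 3060), (3169, 3014), (3170, 3065), (3171, 3066), (3172, 3316), (3173, 3076), (3174, 3325), (3175, 3084), (3176, 2960), (3177, 2989), (3178, 2966), (3179, 3310), (3180, 3338), (3181, 2991), (3182, 2992), (3183, 3072), (3184, 2973), (3185, 2974), (3186, 2980), (3187, 2981), (3188, 3342), (3189, 3081), (3190, 2978), (3191, 3346), (3192, 2979), (3193, 3348), (3194, 3343), (3195, 3056),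 (3196, 3057), (3197, 2984), (3198, 3352), (3199, 2995)]
    ⟨e3 q3136 L27788 q2928, e3 q3137 L27799 q2916, e3 q3138 L27808 q2965, e3 q3139 (flp_g L29421) q3299, e3 q3140 L27836 q3041, e3 q3141 (flp_g L29406) q3298, e3 q3142 (flp_g L29550) q3309, e3 q3143 L27861 q3034, e3 q3144 L27876 q3035, e3 q3145 L27882 q2924, e3 q3146 L27896 q2954, e3 q3147 (flp_g L29348) q3294, e3 q3148 (flp_g L29501) q3305, e3 q3149 (flp_g L27918) q2922, e3 q3150 (flp_g L29673) q3319, e3 q3151 (flp_g L29475) q3303, e3 q3152 L27962 q2927, e3 q3153 (flp_g L29701) q3322, e3 q3154 (flp_g L29537) q3308, e3 q3155 L27985 q2930, e3 q3156 L27994 q3016, e3 q3157 L28011 q2957, e3 q3158 (flp_g L29374) q3296, e3 q3159 (flp_g L29522) q3307, e3 q3160 L28034 q3006, e3 q3161 L28045 q2941, e3 q3162 L28057 q3080, e3 q3163 L28067 q3163, e3 q3164 (flp_g L29174) q3281, e3 q3165 L28083 q3165, e3 q3166 L28097 q3059, e3 q3167 L28109 q3010, e3 q3168 L28119 q3060, e3 q3169 L28133 q3014, e3 q3170 L28145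 q3065, e3 q3171 L28155 q3066, e3 q3172 (flp_g L29643) q3316, e3 q3173 L28179 q3076, e3 q3174 (flp_g L29732) q3325, e3 q3175 L28194 q3084, e3 q3176 L28204 q2960, e3 q3177 L28219 q2989, e3 q3178 L28229 q2966, e3 q3179 (flp_g L29569) q3310, e3 q3180 (flp_g L29863) q3338, e3 q3181 L28255 q2991, e3 q3182 L28265 q2992, e3 q3183 L28285 q3072, e3 q3184 L28297 q2973, e3 q3185 L28307 q2974, e3 q3186 L28322 q2980, e3 q3187 L28332 q2981, e3 q3188 (flp_g L29913) q3342, e3 q3189 L28354 q3081, e3 q3190 L28363 q2978, e3 q3191 (flp_g L29952) q3346, e3 q3192 (flp_g L28371) q2979, e3 q3193 (flp_g L29982) q3348, e3 q3194 (flp_g L29925) q3343, e3 q3195 L28408 q3056, e3 q3196 L28418 q3057, e3 q3197 (flp_g L28424) q2984, e3 q3198 (flp_g L30023) q3352, e3 q3199 L28452 q2995, trivial⟩ (by decide +kernel)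

theorem ce_g_50 : ∀ r, r < 64 → sm gg (Qf (3200 + r)) = Qf (tab Gen.g (3200 + r)) :=
  edges_tab (sm gg) Qf (tab Gen.g) 3200 [(3200, 3069), (3201, 3064), (3202, 3293), (3203, 3337), (3204, 2990), (3205, 3358), (3206, 3340), (3207, 2994), (3208, 3361), (3209, 3354), (3210, 2997), (3211, 3364), (3212, 3001), (3213, 3000), (3214, 3327), (3215, 3366), (3216, 3272), (3217, 3283), (3218, 3058), (3219, 3011), (3220, 3304), (3221, 3330), (3222, 3306), (3223, 3331), (3224, 3274), (3225, 3068), (3226, 3042), (3227, 3046), (3228, 3301), (3229, 3025), (3230, 3027), (3231, 3032), (3232, 3375), (3233, 3033), (3234, 3030), (3235, 3336), (3236, 3284), (3237, 3376), (3238, 3314), (3239, 3315), (3240, 3043), (3241, 3075), (3242, 3287), (3243, 3288), (3244, 3312), (3245, 3373), (3246, 3381), (3247, 3045), (3248, 3388), (3249, 3051), (3250, 3083), (3251, 3291), (3252, 3347), (3253, 3351), (3254, 3329), (3255, 3067), (3256, 3285), (3257, 3286), (3258, 3356), (3259, 3332),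 (3260, 3390), (3261, 3355), (3262, 3077), (3263, 3341)]
    ⟨e3 q3200 L28462 q3069, e3 q3201 L28477 q3064, e3 q3202 (flp_g L29332) q3293, e3 q3203 (flp_g L29851) q3337, e3 q3204 (flp_g L28492) q2990, e3 q3205 (flp_g L30081) q3358, e3 q3206 (flp_g L29885) q3340, e3 q3207 L28530 q2994, e3 q3208 (flp_g L30100) q3361, e3 q3209 (flp_g L30033) q3354, e3 q3210 L28552 q2997, e3 q3211 (flp_g L30122) q3364, e3 q3212 L28565 q3001, e3 q3213 L28577 q3000, e3 q3214 (flp_g L29746) q3327, e3 q3215 (flp_g L30138) q3366, e3 q3216 (flp_g L29064) q3272, e3 q3217 (flp_g L29188) q3283, e3 q3218 L28614 q3058, e3 q3219 L28628 q3011, e3 q3220 (flp_g L29491) q3304, e3 q3221 (flp_g L29780) q3330, e3 q3222 (flp_g L29515) q3306, e3 q3223 (flp_g L29788) q3331, e3 q3224 (flp_g L29088) q3274, e3 q3225 L28690 q3068, e3 q3226 L28705 q3042, e3 q3227 L28715 q3046, e3 q3228 (flp_g L29449) q3301, e3 q3229 L28741 q3025, e3 q3230 L28751 q3027, e3 q3231 L28766 q3032, e3 q3232 (flp_g L30222)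 q3375, e3 q3233 L28782 q3033, e3 q3234 L28795 q3030, e3 q3235 (flp_g L29838) q3336, e3 q3236 (flp_g L29207) q3284, e3 q3237 (flp_g L30234) q3376, e3 q3238 (flp_g L29615) q3314, e3 q3239 (flp_g L29623) q3315, e3 q3240 L28837 q3043, e3 q3241 L28847 q3075, e3 q3242 (flp_g L29251) q3287, e3 q3243 (flp_g L29263) q3288, e3 q3244 (flp_g L29592) q3312, e3 q3245 (flp_g L30198) q3373, e3 q3246 (flp_g L30269) q3381, e3 q3247 L28889 q3045, e3 q3248 (flp_g L30314) q3388, e3 q3249 L28899 q3051, e3 q3250 L28909 q3083, e3 q3251 (flp_g L29298) q3291, e3 q3252 (flp_g L29965) q3347, e3 q3253 (flp_g L30005) q3351, e3 q3254 (flp_g L29766) q3329, e3 q3255 L28937 q3067, e3 q3256 (flp_g L29222) q3285, e3 q3257 (flp_g L29232) q3286, e3 q3258 (flp_g L30060) q3356, e3 q3259 (flp_g L29803) q3332, e3 q3260 (flp_g L30323) q3390, e3 q3261 (flp_g L30045) q3355, e3 q3262 L28981 q3077, e3 q3263 (flp_g L29903) q3341, trivial⟩ (by decide +kernel)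

theorem ce_g_51 : ∀ r, r < 64 → sm gg (Qf (3264 + r)) = Qf (tab Gen.g (3264 + r)) :=
  edges_tab (sm gg) Qf (tab Gen.g) 3264 [(3264, 3289), (3265, 3382), (3266, 3334), (3267, 3345), (3268, 3290), (3269, 3324), (3270, 3270), (3271, 3271), (3272, 3216), (3273, 3273), (3274, 3224), (3275, 3095), (3276, 3402), (3277, 3277), (3278, 3119), (3279, 3102), (3280, 3103), (3281, 3164), (3282, 3403), (3283, 3217), (3284, 3236), (3285, 3256), (3286, 3257), (3287, 3242), (3288, 3243), (3289, 3264), (3290, 3268), (3291, 3251), (3292, 3117), (3293, 3202), (3294, 3147), (3295, 3412), (3296, 3158), (3297, 3125), (3298, 3141), (3299, 3139), (3300, 3416), (3301, 3228), (3302, 3132), (3303, 3151), (3304, 3220), (3305, 3148), (3306, 3222), (3307, 3159), (3308, 3154), (3309, 3142), (3310, 3179), (3311, 3418), (3312, 3244), (3313, 3417), (3314, 3238), (3315, 3239), (3316, 3172), (3317, 3414), (3318, 3422), (3319, 3150), (3320, 3432), (3321, 3420), (3322, 3153), (3323, 3435),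 (3324, 3269), (3325, 3174), (3326, 3415), (3327, 3214)]
    ⟨e3 q3264 (flp_g L29275) q3289, e3 q3265 (flp_g L30279) q3382, e3 q3266 (flp_g L29819) q3334, e3 q3267 (flp_g L29945) q3345, e3 q3268 (flp_g L29285) q3290, e3 q3269 (flp_g L29715) q3324, e3 q3270 L29037 q3270, e3 q3271 L29050 q3271, e3 q3272 L29064 q3216, e3 q3273 L29071 q3273, e3 q3274 L29088 q3224, e3 q3275 L29103 q3095, e3 q3276 (flp_g L30425) q3402, e3 q3277 L29118 q3277, e3 q3278 L29134 q3119, e3 q3279 L29151 q3102, e3 q3280 L29157 q3103, e3 q3281 L29174 q3164, e3 q3282 (flp_g L30439) q3403, e3 q3283 L29188 q3217, e3 q3284 L29207 q3236, e3 q3285 L29222 q3256, e3 q3286 L29232 q3257, e3 q3287 L29251 q3242, e3 q3288 L29263 q3243, e3 q3289 L29275 q3264, e3 q3290 L29285 q3268, e3 q3291 L29298 q3251, e3 q3292 L29317 q3117, e3 q3293 L29332 q3202, e3 q3294 L29348 q3147, e3 q3295 (flp_g L30575) q3412, e3 q3296 L29374 q3158, e3 q3297 L29391 q3125, e3 q3298 L29406 q3141, e3 q3299 L29421 q3139, e3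 q3300 (flp_g L30640) q3416, e3 q3301 L29449 q3228, e3 q3302 L29459 q3132, e3 q3303 L29475 q3151, e3 q3304 L29491 q3220, e3 q3305 L29501 q3148, e3 q3306 L29515 q3222, e3 q3307 L29522 q3159, e3 q3308 L29537 q3154, e3 q3309 L29550 q3142, e3 q3310 L29569 q3179, e3 q3311 (flp_g L30674) q3418, e3 q3312 L29592 q3244, e3 q3313 (flp_g L30658) q3417, e3 q3314 L29615 q3238, e3 q3315 L29623 q3239, e3 q3316 L29643 q3172, e3 q3317 (flp_g L30609) q3414, e3 q3318 (flp_g L30732) q3422, e3 q3319 L29673 q3150, e3 q3320 (flp_g L30863) q3432, e3 q3321 (flp_g L30704) q3420, e3 q3322 L29701 q3153, e3 q3323 (flp_g L30893) q3435, e3 q3324 L29715 q3269, e3 q3325 L29732 q3174, e3 q3326 (flp_g L30621) q3415, e3 q3327 L29746 q3214, trivial⟩ (by decide +kernel)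

theorem ce_g_52 : ∀ r, r < 64 → sm gg (Qf (3328 + r)) = Qf (tab Gen.g (3328 + r)) :=
  edges_tab (sm gg) Qf (tab Gen.g) 3328 [(3328, 3404), (3329, 3254), (3330, 3221), (3331, 3223), (3332, 3259), (3333, 3429), (3334, 3266), (3335, 3436), (3336, 3235), (3337, 3203), (3338, 3180), (3339, 3424), (3340, 3206), (3341, 3263), (3342, 3188), (3343, 3194), (3344, 3446), (3345, 3267), (3346, 3191), (3347, 3252), (3348, 3193), (3349, 3449), (3350, 3447), (3351, 3253), (3352, 3198), (3353, 3453), (3354, 3209), (3355, 3261), (3356, 3258), (3357, 3413), (3358, 3205), (3359, 3458), (3360, 3444), (3361, 3208), (3362, 3431), (3363, 3455), (3364, 3211), (3365, 3438), (3366, 3215), (3367, 3411), (3368, 3464), (3369, 3401), (3370, 3421), (3371, 3439), (3372, 3423), (3373, 3245), (3374, 3419), (3375, 3232), (3376, 3237), (3377, 3442), (3378, 3405), (3379, 3467), (3380, 3428), (3381, 3246), (3382, 3265), (3383, 3407), (3384, 3408), (3385, 3426), (3386, 3466), (3387, 3448),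 (3388, 3248), (3389, 3452), (3390, 3260), (3391, 3406)]
    ⟨e3 q3328 (flp_g L30456) q3404, e3 q3329 L29766 q3254, e3 q3330 L29780 q3221, e3 q3331 L29788 q3223, e3 q3332 L29803 q3259, e3 q3333 (flp_g L30829) q3429, e3 q3334 L29819 q3266, e3 q3335 (flp_g L30908) q3436, e3 q3336 L29838 q3235, e3 q3337 L29851 q3203, e3 q3338 L29863 q3180, e3 q3339 (flp_g L30767) q3424, e3 q3340 L29885 q3206, e3 q3341 L29903 q3263, e3 q3342 L29913 q3188, e3 q3343 L29925 q3194, e3 q3344 (flp_g L31026) q3446, e3 q3345 L29945 q3267, e3 q3346 L29952 q3191, e3 q3347 L29965 q3252, e3 q3348 L29982 q3193, e3 q3349 (flp_g L31069) q3449, e3 q3350 (flp_g L31040) q3447, e3 q3351 L30005 q3253, e3 q3352 L30023 q3198, e3 q3353 (flp_g L31114) q3453, e3 q3354 L30033 q3209, e3 q3355 L30045 q3261, e3 q3356 L30060 q3258, e3 q3357 (flp_g L30593) q3413, e3 q3358 L30081 q3205, e3 q3359 (flp_g L31169) q3458, e3 q3360 (flp_g L30999) q3444, e3 q3361 L30100 q3208, e3 q3362 (flp_g L30845) q3431, e3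 q3363 (flp_g L31132) q3455, e3 q3364 L30122 q3211, e3 q3365 (flp_g L30939) q3438, e3 q3366 L30138 q3215, e3 q3367 (flp_g L30559) q3411, e3 q3368 (flp_g L31221) q3464, e3 q3369 (flp_g L30411) q3401, e3 q3370 (flp_g L30724) q3421, e3 q3371 (flp_g L30945) q3439, e3 q3372 (flp_g L30748) q3423, e3 q3373 L30198 q3245, e3 q3374 (flp_g L30690) q3419, e3 q3375 L30222 q3232, e3 q3376 L30234 q3237, e3 q3377 (flp_g L30982) q3442, e3 q3378 (flp_g L30475) q3405, e3 q3379 (flp_g L31250) q3467, e3 q3380 (flp_g L30813) q3428, e3 q3381 L30269 q3246, e3 q3382 L30279 q3265, e3 q3383 (flp_g L30507) q3407, e3 q3384 (flp_g L30519) q3408, e3 q3385 (flp_g L30790) q3426, e3 q3386 (flp_g L31239) q3466, e3 q3387 (flp_g L31053) q3448, e3 q3388 L30314 q3248, e3 q3389 (flp_g L31093) q3452, e3 q3390 L30323 q3260, e3 q3391 (flp_g L30491) q3406, trivial⟩ (by decide +kernel)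

theorem ce_g_53 : ∀ r, r < 64 → sm gg (Qf (3392 + r)) = Qf (tab Gen.g (3392 + r)) :=
  edges_tab (sm gg) Qf (tab Gen.g) 3392 [(3392, 3456), (3393, 3440), (3394, 3445), (3395, 3409), (3396, 3434), (3397, 3437), (3398, 3410), (3399, 3399), (3400, 3400), (3401, 3369), (3402, 3276), (3403, 3282), (3404, 3328), (3405, 3378), (3406, 3391), (3407, 3383), (3408, 3384), (3409, 3395), (3410, 3398), (3411, 3367), (3412, 3295), (3413, 3357), (3414, 3317), (3415, 3326), (3416, 3300), (3417, 3313), (3418, 3311), (3419, 3374), (3420, 3321), (3421, 3370), (3422, 3318), (3423, 3372), (3424, 3339), (3425, 3485), (3426, 3385), (3427, 3484), (3428, 3380), (3429, 3333), (3430, 3483), (3431, 3362), (3432, 3320), (3433, 3493), (3434, 3396), (3435, 3323), (3436, 3335), (3437, 3397), (3438, 3365), (3439, 3371), (3440, 3393), (3441, 3492), (3442, 3377), (3443, 3487), (3444, 3360), (3445, 3394), (3446, 3344), (3447, 3350), (3448, 3387), (3449, 3349), (3450, 3488), (3451, 3497),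 (3452, 3389), (3453, 3353), (3454, 3494), (3455, 3363)]
    ⟨e3 q3392 (flp_g L31148) q3456, e3 q3393 (flp_g L30959) q3440, e3 q3394 (flp_g L31018) q3445, e3 q3395 (flp_g L30533) q3409, e3 q3396 (flp_g L30879) q3434, e3 q3397 (flp_g L30921) q3437, e3 q3398 (flp_g L30547) q3410, e3 q3399 L30386 q3399, e3 q3400 L30398 q3400, e3 q3401 L30411 q3369, e3 q3402 L30425 q3276, e3 q3403 L30439 q3282, e3 q3404 L30456 q3328, e3 q3405 L30475 q3378, e3 q3406 L30491 q3391, e3 q3407 L30507 q3383, e3 q3408 L30519 q3384, e3 q3409 L30533 q3395, e3 q3410 L30547 q3398, e3 q3411 L30559 q3367, e3 q3412 L30575 q3295, e3 q3413 L30593 q3357, e3 q3414 L30609 q3317, e3 q3415 L30621 q3326, e3 q3416 L30640 q3300, e3 q3417 L30658 q3313, e3 q3418 L30674 q3311, e3 q3419 L30690 q3374, e3 q3420 L30704 q3321, e3 q3421 L30724 q3370, e3 q3422 L30732 q3318, e3 q3423 L30748 q3372, e3 q3424 L30767 q3339, e3 q3425 (flp_g L31448) q3485, e3 q3426 L30790 q3385, e3 q3427 (flp_g L31431) q3484, e3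 q3428 L30813 q3380, e3 q3429 L30829 q3333, e3 q3430 (flp_g L31413) q3483, e3 q3431 L30845 q3362, e3 q3432 L30863 q3320, e3 q3433 (flp_g L31582) q3493, e3 q3434 L30879 q3396, e3 q3435 L30893 q3323, e3 q3436 L30908 q3335, e3 q3437 L30921 q3397, e3 q3438 L30939 q3365, e3 q3439 L30945 q3371, e3 q3440 L30959 q3393, e3 q3441 (flp_g L31564) q3492, e3 q3442 L30982 q3377, e3 q3443 (flp_g L31483) q3487, e3 q3444 L30999 q3360, e3 q3445 L31018 q3394, e3 q3446 L31026 q3344, e3 q3447 L31040 q3350, e3 q3448 L31053 q3387, e3 q3449 L31069 q3349, e3 q3450 (flp_g L31498) q3488, e3 q3451 (flp_g L31643) q3497, e3 q3452 L31093 q3389, e3 q3453 L31114 q3353, e3 q3454 (flp_g L31606) q3494, e3 q3455 L31132 q3363, trivial⟩ (by decide +kernel)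

theorem ce_g_54 : ∀ r, r < 54 → sm gg (Qf (3456 + r)) = Qf (tab Gen.g (3456 + r)) :=
  edges_tab (sm gg) Qf (tab Gen.g) 3456 [(3456, 3392), (3457, 3482), (3458, 3359), (3459, 3502), (3460, 3496), (3461, 3479), (3462, 3501), (3463, 3481), (3464, 3368), (3465, 3486), (3466, 3386), (3467, 3379), (3468, 3476), (3469, 3491), (3470, 3478), (3471, 3489), (3472, 3477), (3473, 3490), (3474, 3495), (3475, 3480), (3476, 3468), (3477, 3472), (3478, 3470), (3479, 3461), (3480, 3475), (3481, 3463), (3482, 3457), (3483, 3430), (3484, 3427), (3485, 3425), (3486, 3465), (3487, 3443), (3488, 3450), (3489, 3471), (3490, 3473), (3491, 3469), (3492, 3441), (3493, 3433), (3494, 3454), (3495, 3474), (3496, 3460), (3497, 3451), (3498, 3505), (3499, 3508), (3500, 3509), (3501, 3462), (3502, 3459), (3503, 3507), (3504, 3506), (3505, 3498), (3506, 3504), (3507, 3503), (3508, 3499), (3509, 3500)]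
    ⟨e3 q3456 L31148 q3392, e3 q3457 (flp_g L31396) q3482, e3 q3458 L31169 q3359, e3 q3459 (flp_g L31708) q3502, e3 q3460 (flp_g L31630) q3496, e3 q3461 (flp_g L31358) q3479, e3 q3462 (flp_g L31694) q3501, e3 q3463 (flp_g L31381) q3481, e3 q3464 L31221 q3368, e3 q3465 (flp_g L31465) q3486, e3 q3466 L31239 q3386, e3 q3467 L31250 q3379, e3 q3468 (flp_g L31315) q3476, e3 q3469 (flp_g L31547) q3491, e3 q3470 (flp_g L31345) q3478, e3 q3471 (flp_g L31515) q3489, e3 q3472 (flp_g L31330) q3477, e3 q3473 (flp_g L31530) q3490, e3 q3474 (flp_g L31614) q3495, e3 q3475 (flp_g L31370) q3480, e3 q3476 L31315 q3468, e3 q3477 L31330 q3472, e3 q3478 L31345 q3470, e3 q3479 L31358 q3461, e3 q3480 L31370 q3475, e3 q3481 L31381 q3463, e3 q3482 L31396 q3457, e3 q3483 L31413 q3430, e3 q3484 L31431 q3427, e3 q3485 L31448 q3425, e3 q3486 L31465 q3465, e3 q3487 L31483 q3443, e3 q3488 L31498 q3450, e3 q3489 L31515 q3471, e3 q3490 L31530 q3473, e3 q3491 L31547 q3469, e3 q3492 L31564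 q3441, e3 q3493 L31582 q3433, e3 q3494 L31606 q3454, e3 q3495 L31614 q3474, e3 q3496 L31630 q3460, e3 q3497 L31643 q3451, e3 q3498 (flp_g L31735) q3505, e3 q3499 (flp_g L31786) q3508, e3 q3500 (flp_g L31811) q3509, e3 q3501 L31694 q3462, e3 q3502 L31708 q3459, e3 q3503 (flp_g L31767) q3507, e3 q3504 (flp_g L31752) q3506, e3 q3505 L31735 q3498, e3 q3506 L31752 q3504, e3 q3507 L31767 q3503, e3 q3508 L31786 q3499, e3 q3509 L31811 q3500, trivial⟩ (by decide +kernel)

theorem cl_g : ∀ i, i < 3510 → sm gg (Qf i) = Qf (tab Gen.g i) :=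
  all_of_chunks (fun i => sm gg (Qf i) = Qf (tab Gen.g i)) 54 54
    ⟨ce_g_0, ce_g_1, ce_g_2, ce_g_3, ce_g_4, ce_g_5, ce_g_6, ce_g_7, ce_g_8, ce_g_9, ce_g_10, ce_g_11, ce_g_12, ce_g_13, ce_g_14, ce_g_15, ce_g_16, ce_g_17, ce_g_18, ce_g_19, ce_g_20, ce_g_21, ce_g_22, ce_g_23, ce_g_24, ce_g_25, ce_g_26, ce_g_27, ce_g_28, ce_g_29, ce_g_30, ce_g_31, ce_g_32, ce_g_33, ce_g_34, ce_g_35, ce_g_36, ce_g_37, ce_g_38, ce_g_39, ce_g_40, ce_g_41, ce_g_42, ce_g_43, ce_g_44, ce_g_45, ce_g_46, ce_g_47, ce_g_48, ce_g_49, ce_g_50, ce_g_51, ce_g_52, ce_g_53, trivial⟩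
    ce_g_54


end Cfsg.Agent.Helper28.FiaA
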