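import Cfsg.Agent.Helper28.FiaC0

/-!
# The Fi₂₂ presentation, cosets of the subgroup generated by a, c, d, e, f, g, h, i, (abcdeh)⁵: the action of the generator h (helper28; generated)
-/

set_option autoImplicit false
set_option maxRecDepth 100000
set_option linter.unusedSimpArgs false
set_option linter.constructorNameAsVariable false

noncomputable section

namespace Cfsg.Agent.Helper28.FiaA

open Cfsg.Spor Cfsg.Spor.Fi22 Cfsg.Agent.Helper28.CosetTable

theorem ce_h_0 : ∀ r, r < 64 → sm gh (Qf (0 + r)) = Qf (tab Gen.h (0 + r)) :=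
  edges_tab (sm gh) Qf (tab Gen.h) 0 [(0, 0), (1, 1), (2, 2), (3, 3), (4, 4), (5, 9), (6, 6), (7, 12), (8, 14), (9, 5), (10, 18), (11, 20), (12, 7), (13, 23), (14, 8), (15, 15), (16, 27), (17, 29), (18, 10), (19, 32), (20, 11), (21, 21), (22, 35), (23, 13), (24, 24), (25, 25), (26, 42), (27, 16), (28, 46), (29, 17), (30, 30), (31, 49), (32, 19), (33, 33), (34, 34), (35, 22), (36, 36), (37, 37), (38, 38), (39, 61), (40, 40), (41, 64), (42, 26), (43, 43), (44, 44), (45, 67), (46, 28), (47, 47), (48, 48), (49, 31), (50, 50), (51, 51), (52, 52), (53, 77), (54, 54), (55, 55), (56, 56), (57, 57), (58, 85), (59, 59), (60, 87), (61, 39), (62, 62), (63, 90)]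
    ⟨e3 q0 L6 q0, e3 q1 L14 q1, e3 q2 L22 q2, e3 q3 L30 q3, e3 q4 L40 q4, e3 q5 L73 q9, e3 q6 L54 q6, e3 q7 L96 q12, e3 q8 L111 q14, e3 q9 (flp_h L73) q5, e3 q10 L142 q18, e3 q11 L158 q20, e3 q12 (flp_h L96) q7, e3 q13 L183 q23, e3 q14 (flp_h L111) q8, e3 q15 L125 q15, e3 q16 L212 q27, e3 q17 L228 q29, e3 q18 (flp_h L142) q10, e3 q19 L254 q32, e3 q20 (flp_h L158) q11, e3 q21 L174 q21, e3 q22 L278 q35, e3 q23 (flp_h L183) q13, e3 q24 L195 q24, e3 q25 L203 q25, e3 q26 L329 q42, e3 q27 (flp_h L212) q16, e3 q28 L367 q46, e3 q29 (flp_h L228) q17, e3 q30 L244 q30, e3 q31 L393 q49, e3 q32 (flp_h L254) q19, e3 q33 L268 q33, e3 q34 L277 q34, e3 q35 (flp_h L278) q22, e3 q36 L291 q36, e3 q37 L299 q37, e3 q38 L304 q38, e3 q39 L485 q61, e3 q40 L339 q40, e3 q41 L510 q64, e3 q42 (flp_h L329) q26, e3 q43 L348 q43, e3 q44 L357 q44, e3 q45 L541 q67, e3 q46 (flp_h L367) q28, e3 q47 L383 q47, e3 q48 L392 q48, e3 q49 (flp_h L393) q31, e3 q50 L408 q50, e3 q51 L417 q51, e3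 q52 L424 q52, e3 q53 L630 q77, e3 q54 L441 q54, e3 q55 L450 q55, e3 q56 L455 q56, e3 q57 L460 q57, e3 q58 L688 q85, e3 q59 L475 q59, e3 q60 L704 q87, e3 q61 (flp_h L485) q39, e3 q62 L499 q62, e3 q63 L730 q90, trivial⟩ (by decide +kernel)

theorem ce_h_1 : ∀ r, r < 64 → sm gh (Qf (64 + r)) = Qf (tab Gen.h (64 + r)) :=
  edges_tab (sm gh) Qf (tab Gen.h) 64 [(64, 41), (65, 65), (66, 92), (67, 45), (68, 68), (69, 69), (70, 97), (71, 71), (72, 72), (73, 73), (74, 74), (75, 104), (76, 105), (77, 53), (78, 78), (79, 79), (80, 111), (81, 81), (82, 82), (83, 116), (84, 117), (85, 58), (86, 118), (87, 60), (88, 88), (89, 89), (90, 63), (91, 91), (92, 66), (93, 93), (94, 94), (95, 95), (96, 125), (97, 70), (98, 98), (99, 99), (100, 130), (101, 101), (102, 133), (103, 134), (104, 75), (105, 76), (106, 106), (107, 107), (108, 141), (109, 109), (110, 143), (111, 80), (112, 112), (113, 146), (114, 147), (115, 149), (116, 83), (117, 84), (118, 86), (119, 119), (120,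 120), (121, 121), (122, 122), (123, 157), (124, 158), (125, 96), (126, 126), (127, 162)]
    ⟨e3 q64 (flp_h L510) q41, e3 q65 L530 q65, e3 q66 L752 q92, e3 q67 (flp_h L541) q45, e3 q68 L558 q68, e3 q69 L567 q69, e3 q70 L801 q97, e3 q71 L585 q71, e3 q72 L595 q72, e3 q73 L602 q73, e3 q74 L609 q74, e3 q75 L865 q104, e3 q76 L873 q105, e3 q77 (flp_h L630) q53, e3 q78 L643 q78, e3 q79 L650 q79, e3 q80 L922 q111, e3 q81 L665 q81, e3 q82 L672 q82, e3 q83 L959 q116, e3 q84 L966 q117, e3 q85 (flp_h L688) q58, e3 q86 L973 q118, e3 q87 (flp_h L704) q60, e3 q88 L716 q88, e3 q89 L727 q89, e3 q90 (flp_h L730) q63, e3 q91 L751 q91, e3 q92 (flp_h L752) q66, e3 q93 L771 q93, e3 q94 L781 q94, e3 q95 L788 q95, e3 q96 L1041 q125, e3 q97 (flp_h L801) q70, e3 q98 L818 q98, e3 q99 L827 q99, e3 q100 L1089 q130, e3 q101 L845 q101, e3 q102 L1116 q133, e3 q103 L1126 q134, e3 q104 (flp_h L865) q75, e3 q105 (flp_h L873) q76, e3 q106 L889 q106, e3 q107 L898 q107, e3 q108 L1183 q141,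 e3 q109 L911 q109, e3 q110 L1199 q143, e3 q111 (flp_h L922) q80, e3 q112 L936 q112, e3 q113 L1223 q146, e3 q114 L1232 q147, e3 q115 L1245 q149, e3 q116 (flp_h L959) q83, e3 q117 (flp_h L966) q84, e3 q118 (flp_h L973) q86, e3 q119 L987 q119, e3 q120 L996 q120, e3 q121 L1009 q121, e3 q122 L1018 q122, e3 q123 L1313 q157, e3 q124 L1324 q158, e3 q125 (flp_h L1041) q96, e3 q126 L1060 q126, e3 q127 L1364 q162, trivial⟩ (by decide +kernel)

theorem ce_h_2 : ∀ r, r < 64 → sm gh (Qf (128 + r)) = Qf (tab Gen.h (128 + r)) :=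
  edges_tab (sm gh) Qf (tab Gen.h) 128 [(128, 128), (129, 164), (130, 100), (131, 165), (132, 167), (133, 102), (134, 103), (135, 135), (136, 136), (137, 174), (138, 176), (139, 139), (140, 179), (141, 108), (142, 181), (143, 110), (144, 184), (145, 186), (146, 113), (147, 114), (148, 189), (149, 115), (150, 150), (151, 151), (152, 152), (153, 153), (154, 154), (155, 155), (156, 197), (157, 123), (158, 124), (159, 200), (160, 160), (161, 203), (162, 127), (163, 205), (164, 129), (165, 131), (166, 208), (167, 132), (168, 168), (169, 169), (170, 170), (171, 215), (172, 172), (173, 218), (174, 137), (175, 221), (176, 138), (177, 224), (178, 225), (179, 140), (180, 180), (181, 142), (182, 182), (183, 230), (184, 144), (185, 233), (186, 145), (187, 187), (188, 237), (189, 148), (190, 238), (191, 191)]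
    ⟨e3 q128 L1077 q128, e3 q129 L1384 q164, e3 q130 (flp_h L1089) q100, e3 q131 L1393 q165, e3 q132 L1412 q167, e3 q133 (flp_h L1116) q102, e3 q134 (flp_h L1126) q103, e3 q135 L1142 q135, e3 q136 L1151 q136, e3 q137 L1478 q174, e3 q138 L1494 q176, e3 q139 L1172 q139, e3 q140 L1517 q179, e3 q141 (flp_h L1183) q108, e3 q142 L1534 q181, e3 q143 (flp_h L1199) q110, e3 q144 L1557 q184, e3 q145 L1574 q186, e3 q146 (flp_h L1223) q113, e3 q147 (flp_h L1232) q114, e3 q148 L1599 q189, e3 q149 (flp_h L1245) q115, e3 q150 L1259 q150, e3 q151 L1266 q151, e3 q152 L1274 q152, e3 q153 L1279 q153, e3 q154 L1288 q154, e3 q155 L1299 q155, e3 q156 L1653 q197, e3 q157 (flp_h L1313) q123, e3 q158 (flp_h L1324) q124, e3 q159 L1682 q200, e3 q160 L1350 q160, e3 q161 L1714 q203, e3 q162 (flp_h L1364) q127, e3 q163 L1737 q205, e3 q164 (flp_h L1384) q129, e3 q165 (flp_h L1393) q131, e3 q166 L1764 q208, e3 q167 (flp_h L1412) q132, e3 q168 L1432 q168, e3 q169 L1440 q169, e3 q170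 L1448 q170, e3 q171 L1820 q215, e3 q172 L1465 q172, e3 q173 L1849 q218, e3 q174 (flp_h L1478) q137, e3 q175 L1876 q221, e3 q176 (flp_h L1494) q138, e3 q177 L1898 q224, e3 q178 L1904 q225, e3 q179 (flp_h L1517) q140, e3 q180 L1533 q180, e3 q181 (flp_h L1534) q142, e3 q182 L1549 q182, e3 q183 L1940 q230, e3 q184 (flp_h L1557) q144, e3 q185 L1965 q233, e3 q186 (flp_h L1574) q145, e3 q187 L1592 q187, e3 q188 L1995 q237, e3 q189 (flp_h L1599) q148, e3 q190 (flp_h L2005) q238, e3 q191 L1611 q191, trivial⟩ (by decide +kernel)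

theorem ce_h_3 : ∀ r, r < 64 → sm gh (Qf (192 + r)) = Qf (tab Gen.h (192 + r)) :=
  edges_tab (sm gh) Qf (tab Gen.h) 192 [(192, 192), (193, 193), (194, 194), (195, 195), (196, 246), (197, 156), (198, 198), (199, 250), (200, 159), (201, 253), (202, 254), (203, 161), (204, 204), (205, 163), (206, 206), (207, 259), (208, 166), (209, 260), (210, 210), (211, 211), (212, 212), (213, 267), (214, 270), (215, 171), (216, 273), (217, 274), (218, 173), (219, 219), (220, 278), (221, 175), (222, 281), (223, 282), (224, 177), (225, 178), (226, 283), (227, 227), (228, 228), (229, 229), (230, 183), (231, 293), (232, 294), (233, 185), (234, 295), (235, 235), (236, 236), (237, 188), (238, 190), (239, 301), (240, 302), (241, 241), (242, 242), (243, 243), (244, 244), (245, 245), (246, 196), (247, 247), (248, 248), (249, 314), (250, 199), (251, 317), (252, 318), (253, 201), (254, 202), (255, 319)]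
    ⟨e3 q192 L1617 q192, e3 q193 L1623 q193, e3 q194 L1633 q194, e3 q195 L1640 q195, e3 q196 L2056 q246, e3 q197 (flp_h L1653) q156, e3 q198 L1672 q198, e3 q199 L2094 q250, e3 q200 (flp_h L1682) q159, e3 q201 L2125 q253, e3 q202 L2134 q254, e3 q203 (flp_h L1714) q161, e3 q204 L1736 q204, e3 q205 (flp_h L1737) q163, e3 q206 L1754 q206, e3 q207 L2182 q259, e3 q208 (flp_h L1764) q166, e3 q209 (flp_h L2198) q260, e3 q210 L1785 q210, e3 q211 L1793 q211, e3 q212 L1802 q212, e3 q213 L2250 q267, e3 q214 L2277 q270, e3 q215 (flp_h L1820) q171, e3 q216 L2305 q273, e3 q217 L2313 q274, e3 q218 (flp_h L1849) q173, e3 q219 L1869 q219, e3 q220 L2351 q278, e3 q221 (flp_h L1876) q175, e3 q222 L2373 q281, e3 q223 L2379 q282, e3 q224 (flp_h L1898) q177, e3 q225 (flp_h L1904) q178, e3 q226 (flp_h L2391) q283, e3 q227 L1923 q227, e3 q228 L1932 q228, e3 q229 L1938 q229, e3 q230 (flp_h L1940) q183, e3 q231 L2457 q293, e3 q232 L2465 q294, e3 q233 (flp_h L1965) q185, e3 q234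 (flp_h L2480) q295, e3 q235 L1984 q235, e3 q236 L1993 q236, e3 q237 (flp_h L1995) q188, e3 q238 L2005 q190, e3 q239 (flp_h L2522) q301, e3 q240 (flp_h L2527) q302, e3 q241 L2021 q241, e3 q242 L2029 q242, e3 q243 L2039 q243, e3 q244 L2047 q244, e3 q245 L2053 q245, e3 q246 (flp_h L2056) q196, e3 q247 L2076 q247, e3 q248 L2082 q248, e3 q249 L2615 q314, e3 q250 (flp_h L2094) q199, e3 q251 L2646 q317, e3 q252 L2655 q318, e3 q253 (flp_h L2125) q201, e3 q254 (flp_h L2134) q202, e3 q255 (flp_h L2673) q319, trivial⟩ (by decide +kernel)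

theorem ce_h_4 : ∀ r, r < 64 → sm gh (Qf (256 + r)) = Qf (tab Gen.h (256 + r)) :=
  edges_tab (sm gh) Qf (tab Gen.h) 256 [(256, 256), (257, 257), (258, 258), (259, 207), (260, 209), (261, 328), (262, 329), (263, 263), (264, 264), (265, 265), (266, 336), (267, 213), (268, 340), (269, 341), (270, 214), (271, 344), (272, 345), (273, 216), (274, 217), (275, 346), (276, 276), (277, 277), (278, 220), (279, 354), (280, 355), (281, 222), (282, 223), (283, 226), (284, 356), (285, 358), (286, 359), (287, 287), (288, 288), (289, 289), (290, 290), (291, 291), (292, 371), (293, 231), (294, 232), (295, 234), (296, 374), (297, 375), (298, 298), (299, 299), (300, 300), (301, 239), (302, 240), (303, 384), (304, 385), (305, 386), (306, 306), (307, 307), (308, 392), (309, 309), (310, 310), (311, 311), (312, 312), (313, 313), (314, 249), (315, 400), (316, 401), (317, 251), (318, 252), (319, 255)]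
    ⟨e3 q256 L2162 q256, e3 q257 L2172 q257, e3 q258 L2180 q258, e3 q259 (flp_h L2182) q207, e3 q260 L2198 q209, e3 q261 (flp_h L2751) q328, e3 q262 (flp_h L2759) q329, e3 q263 L2222 q263, e3 q264 L2230 q264, e3 q265 L2239 q265, e3 q266 L2812 q336, e3 q267 (flp_h L2250) q213, e3 q268 L2848 q340, e3 q269 L2857 q341, e3 q270 (flp_h L2277) q214, e3 q271 L2885 q344, e3 q272 L2893 q345, e3 q273 (flp_h L2305) q216, e3 q274 (flp_h L2313) q217, e3 q275 (flp_h L2910) q346, e3 q276 L2338 q276, e3 q277 L2349 q277, e3 q278 (flp_h L2351) q220, e3 q279 L2969 q354, e3 q280 L2976 q355, e3 q281 (flp_h L2373) q222, e3 q282 (flp_h L2379) q223, e3 q283 L2391 q226, e3 q284 (flp_h L2989) q356, e3 q285 (flp_h L3002) q358, e3 q286 (flp_h L3009) q359, e3 q287 L2416 q287, e3 q288 L2424 q288, e3 q289 L2430 q289, e3 q290 L2439 q290, e3 q291 L2448 q291, e3 q292 L3092 q371, e3 q293 (flp_h L2457) q231, e3 q294 (flp_h L2465) q232, e3 q295 L2480 q234, e3 q296 (flp_h L3121) q374, e3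 q297 (flp_h L3128) q375, e3 q298 L2502 q298, e3 q299 L2509 q299, e3 q300 L2518 q300, e3 q301 L2522 q239, e3 q302 L2527 q240, e3 q303 (flp_h L3195) q384, e3 q304 (flp_h L3201) q385, e3 q305 (flp_h L3206) q386, e3 q306 L2553 q306, e3 q307 L2560 q307, e3 q308 L3242 q392, e3 q309 L2576 q309, e3 q310 L2584 q310, e3 q311 L2596 q311, e3 q312 L2603 q312, e3 q313 L2611 q313, e3 q314 (flp_h L2615) q249, e3 q315 L3317 q400, e3 q316 L3327 q401, e3 q317 (flp_h L2646) q251, e3 q318 (flp_h L2655) q252, e3 q319 L2673 q255, trivial⟩ (by decide +kernel)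

theorem ce_h_5 : ∀ r, r < 64 → sm gh (Qf (320 + r)) = Qf (tab Gen.h (320 + r)) :=
  edges_tab (sm gh) Qf (tab Gen.h) 320 [(320, 402), (321, 404), (322, 405), (323, 323), (324, 324), (325, 325), (326, 326), (327, 327), (328, 261), (329, 262), (330, 417), (331, 418), (332, 419), (333, 333), (334, 334), (335, 425), (336, 266), (337, 429), (338, 338), (339, 432), (340, 268), (341, 269), (342, 436), (343, 437), (344, 271), (345, 272), (346, 275), (347, 438), (348, 440), (349, 441), (350, 350), (351, 351), (352, 352), (353, 452), (354, 279), (355, 280), (356, 284), (357, 357), (358, 285), (359, 286), (360, 455), (361, 456), (362, 459), (363, 460), (364, 461), (365, 365), (366, 366), (367, 367), (368, 368), (369, 369), (370, 474), (371, 292), (372, 372), (373, 373), (374, 296), (375, 297), (376, 480), (377, 481), (378, 482), (379, 489), (380, 380), (381, 381), (382, 382), (383, 383)]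
    ⟨e3 q320 (flp_h L3346) q402, e3 q321 (flp_h L3364) q404, e3 q322 (flp_h L3374) q405, e3 q323 L2709 q323, e3 q324 L2719 q324, e3 q325 L2726 q325, e3 q326 L2735 q326, e3 q327 L2745 q327, e3 q328 L2751 q261, e3 q329 L2759 q262, e3 q330 (flp_h L3480) q417, e3 q331 (flp_h L3489) q418, e3 q332 (flp_h L3497) q419, e3 q333 L2794 q333, e3 q334 L2800 q334, e3 q335 L3543 q425, e3 q336 (flp_h L2812) q266, e3 q337 L3583 q429, e3 q338 L2838 q338, e3 q339 L3611 q432, e3 q340 (flp_h L2848) q268, e3 q341 (flp_h L2857) q269, e3 q342 L3648 q436, e3 q343 L3657 q437, e3 q344 (flp_h L2885) q271, e3 q345 (flp_h L2893) q272, e3 q346 L2910 q275, e3 q347 (flp_h L3675) q438, e3 q348 (flp_h L3692) q440, e3 q349 (flp_h L3701) q441, e3 q350 L2946 q350, e3 q351 L2953 q351, e3 q352 L2961 q352, e3 q353 L3786 q452, e3 q354 (flp_h L2969) q279, e3 q355 (flp_h L2976) q280, e3 q356 L2989 q284, e3 q357 L2997 q357, e3 q358 L3002 q285, e3 q359 L3009 q286, e3 q360 (flp_h L3813) q455, e3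 q361 (flp_h L3819) q456, e3 q362 (flp_h L3842) q459, e3 q363 (flp_h L3850) q460, e3 q364 (flp_h L3855) q461, e3 q365 L3049 q365, e3 q366 L3058 q366, e3 q367 L3066 q367, e3 q368 L3075 q368, e3 q369 L3082 q369, e3 q370 L3945 q474, e3 q371 (flp_h L3092) q292, e3 q372 L3107 q372, e3 q373 L3116 q373, e3 q374 L3121 q296, e3 q375 L3128 q297, e3 q376 (flp_h L3991) q480, e3 q377 (flp_h L4000) q481, e3 q378 (flp_h L4008) q482, e3 q379 L4056 q489, e3 q380 L3165 q380, e3 q381 L3176 q381, e3 q382 L3181 q382, e3 q383 L3187 q383, trivial⟩ (by decide +kernel)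

theorem ce_h_6 : ∀ r, r < 64 → sm gh (Qf (384 + r)) = Qf (tab Gen.h (384 + r)) :=
  edges_tab (sm gh) Qf (tab Gen.h) 384 [(384, 303), (385, 304), (386, 305), (387, 494), (388, 495), (389, 497), (390, 498), (391, 473), (392, 308), (393, 393), (394, 394), (395, 395), (396, 396), (397, 397), (398, 398), (399, 508), (400, 315), (401, 316), (402, 320), (403, 403), (404, 321), (405, 322), (406, 511), (407, 512), (408, 515), (409, 516), (410, 517), (411, 411), (412, 412), (413, 413), (414, 414), (415, 415), (416, 416), (417, 330), (418, 331), (419, 332), (420, 531), (421, 532), (422, 534), (423, 535), (424, 424), (425, 335), (426, 541), (427, 427), (428, 543), (429, 337), (430, 430), (431, 546), (432, 339), (433, 433), (434, 434), (435, 551), (436, 342), (437, 343), (438, 347), (439, 439), (440, 348), (441, 349), (442, 554), (443, 555), (444, 558), (445, 559), (446, 560), (447, 570)]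
    ⟨e3 q384 L3195 q303, e3 q385 L3201 q304, e3 q386 L3206 q305, e3 q387 (flp_h L4097) q494, e3 q388 (flp_h L4103) q495, e3 q389 (flp_h L4114) q497, e3 q390 (flp_h L4121) q498, e3 q391 L5703 q473, e3 q392 (flp_h L3242) q308, e3 q393 L3256 q393, e3 q394 L3265 q394, e3 q395 L3274 q395, e3 q396 L3284 q396, e3 q397 L3295 q397, e3 q398 L3306 q398, e3 q399 L4225 q508, e3 q400 (flp_h L3317) q315, e3 q401 (flp_h L3327) q316, e3 q402 L3346 q320, e3 q403 L3357 q403, e3 q404 L3364 q321, e3 q405 L3374 q322, e3 q406 (flp_h L4263) q511, e3 q407 (flp_h L4272) q512, e3 q408 (flp_h L4300) q515, e3 q409 (flp_h L4311) q516, e3 q410 (flp_h L4319) q517, e3 q411 L3428 q411, e3 q412 L3437 q412, e3 q413 L3446 q413, e3 q414 L3454 q414, e3 q415 L3463 q415, e3 q416 L3472 q416, e3 q417 L3480 q330, e3 q418 L3489 q331, e3 q419 L3497 q332, e3 q420 (flp_h L4441) q531, e3 q421 (flp_h L4450) q532, e3 q422 (flp_h L4465) q534, e3 q423 (flp_h L4475) q535, e3 q424 L3542 q424, e3 q425 (flp_h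 L3543) q335, e3 q426 L4524 q541, e3 q427 L3573 q427, e3 q428 L4545 q543, e3 q429 (flp_h L3583) q337, e3 q430 L3599 q430, e3 q431 L4575 q546, e3 q432 (flp_h L3611) q339, e3 q433 L3628 q433, e3 q434 L3638 q434, e3 q435 L4618 q551, e3 q436 (flp_h L3648) q342, e3 q437 (flp_h L3657) q343, e3 q438 L3675 q347, e3 q439 L3686 q439, e3 q440 L3692 q348, e3 q441 L3701 q349, e3 q442 (flp_h L4654) q554, e3 q443 (flp_h L4662) q555, e3 q444 (flp_h L4687) q558, e3 q445 (flp_h L4698) q559, e3 q446 (flp_h L4706) q560, e3 q447 L4783 q570, trivial⟩ (by decide +kernel)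

theorem ce_h_7 : ∀ r, r < 64 → sm gh (Qf (448 + r)) = Qf (tab Gen.h (448 + r)) :=
  edges_tab (sm gh) Qf (tab Gen.h) 448 [(448, 448), (449, 449), (450, 450), (451, 573), (452, 353), (453, 453), (454, 454), (455, 360), (456, 361), (457, 457), (458, 458), (459, 362), (460, 363), (461, 364), (462, 579), (463, 580), (464, 581), (465, 585), (466, 586), (467, 588), (468, 589), (469, 469), (470, 470), (471, 600), (472, 472), (473, 391), (474, 370), (475, 601), (476, 476), (477, 477), (478, 478), (479, 479), (480, 376), (481, 377), (482, 378), (483, 610), (484, 611), (485, 619), (486, 613), (487, 614), (488, 603), (489, 379), (490, 490), (491, 491), (492, 492), (493, 493), (494, 387), (495, 388), (496, 496), (497, 389), (498, 390), (499, 627), (500, 629), (501, 631), (502, 545), (503, 503), (504, 504), (505, 505), (506, 506), (507, 639), (508, 399), (509, 509), (510, 510), (511, 406)]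
    ⟨e3 q448 L3758 q448, e3 q449 L3767 q449, e3 q450 L3776 q450, e3 q451 L4811 q573, e3 q452 (flp_h L3786) q353, e3 q453 L3799 q453, e3 q454 L3807 q454, e3 q455 L3813 q360, e3 q456 L3819 q361, e3 q457 L3825 q457, e3 q458 L3833 q458, e3 q459 L3842 q362, e3 q460 L3850 q363, e3 q461 L3855 q364, e3 q462 (flp_h L4856) q579, e3 q463 (flp_h L4863) q580, e3 q464 (flp_h L4867) q581, e3 q465 (flp_h L4899) q585, e3 q466 (flp_h L4907) q586, e3 q467 (flp_h L4920) q588, e3 q468 (flp_h L4925) q589, e3 q469 L3911 q469, e3 q470 L3919 q470, e3 q471 L5002 q600, e3 q472 L3934 q472, e3 q473 (flp_h L5703) q391, e3 q474 (flp_h L3945) q370, e3 q475 (flp_h L5032) q601, e3 q476 L3963 q476, e3 q477 L3970 q477, e3 q478 L3976 q478, e3 q479 L3984 q479, e3 q480 L3991 q376, e3 q481 L4000 q377, e3 q482 L4008 q378, e3 q483 (flp_h L5100) q610, e3 q484 (flp_h L5109) q611, e3 q485 L5163 q619, e3 q486 (flp_h L5120) q613, e3 q487 (flp_h L5130) q614, e3 q488 (flp_h L5750) q603, e3 q489 (flp_h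 L4056) q379, e3 q490 L4070 q490, e3 q491 L4076 q491, e3 q492 L4083 q492, e3 q493 L4089 q493, e3 q494 L4097 q387, e3 q495 L4103 q388, e3 q496 L4109 q496, e3 q497 L4114 q389, e3 q498 L4121 q390, e3 q499 (flp_h L5244) q627, e3 q500 (flp_h L5256) q629, e3 q501 (flp_h L5270) q631, e3 q502 (flp_h L5737) q545, e3 q503 L4182 q503, e3 q504 L4192 q504, e3 q505 L4203 q505, e3 q506 L4213 q506, e3 q507 L5368 q639, e3 q508 (flp_h L4225) q399, e3 q509 L4244 q509, e3 q510 L4255 q510, e3 q511 L4263 q406, trivial⟩ (by decide +kernel)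

theorem ce_h_8 : ∀ r, r < 64 → sm gh (Qf (512 + r)) = Qf (tab Gen.h (512 + r)) :=
  edges_tab (sm gh) Qf (tab Gen.h) 512 [(512, 407), (513, 513), (514, 514), (515, 408), (516, 409), (517, 410), (518, 645), (519, 646), (520, 647), (521, 651), (522, 652), (523, 654), (524, 655), (525, 525), (526, 526), (527, 666), (528, 528), (529, 529), (530, 530), (531, 420), (532, 421), (533, 533), (534, 422), (535, 423), (536, 672), (537, 669), (538, 673), (539, 676), (540, 677), (541, 426), (542, 679), (543, 428), (544, 544), (545, 502), (546, 431), (547, 683), (548, 548), (549, 549), (550, 689), (551, 435), (552, 552), (553, 553), (554, 442), (555, 443), (556, 556), (557, 557), (558, 444), (559, 445), (560, 446), (561, 695), (562, 696), (563, 697), (564, 701), (565, 702), (566, 715), (567, 704), (568, 705), (569, 719), (570, 447), (571, 571), (572, 721), (573, 451), (574, 722), (575, 575)]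
    ⟨e3 q512 L4272 q407, e3 q513 L4280 q513, e3 q514 L4291 q514, e3 q515 L4300 q408, e3 q516 L4311 q409, e3 q517 L4319 q410, e3 q518 (flp_h L5429) q645, e3 q519 (flp_h L5439) q646, e3 q520 (flp_h L5446) q647, e3 q521 (flp_h L5485) q651, e3 q522 (flp_h L5496) q652, e3 q523 (flp_h L5513) q654, e3 q524 (flp_h L5521) q655, e3 q525 L4389 q525, e3 q526 L4398 q526, e3 q527 L5616 q666, e3 q528 L4413 q528, e3 q529 L4423 q529, e3 q530 L4432 q530, e3 q531 L4441 q420, e3 q532 L4450 q421, e3 q533 L4458 q533, e3 q534 L4465 q422, e3 q535 L4475 q423, e3 q536 (flp_h L5806) q672, e3 q537 L5773 q669, e3 q538 (flp_h L5821) q673, e3 q539 L5843 q676, e3 q540 L5852 q677, e3 q541 (flp_h L4524) q426, e3 q542 L5870 q679, e3 q543 (flp_h L4545) q428, e3 q544 L4563 q544, e3 q545 L5737 q502, e3 q546 (flp_h L4575) q431, e3 q547 (flp_h L5913) q683, e3 q548 L4596 q548, e3 q549 L4605 q549, e3 q550 L5957 q689, e3 q551 (flp_h L4618) q435, e3 q552 L4636 q552, e3 q553 L4647 q553, e3 q554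 L4654 q442, e3 q555 L4662 q443, e3 q556 L4669 q556, e3 q557 L4679 q557, e3 q558 L4687 q444, e3 q559 L4698 q445, e3 q560 L4706 q446, e3 q561 (flp_h L6014) q695, e3 q562 (flp_h L6024) q696, e3 q563 (flp_h L6031) q697, e3 q564 (flp_h L6069) q701, e3 q565 (flp_h L6080) q702, e3 q566 L6182 q715, e3 q567 (flp_h L6093) q704, e3 q568 (flp_h L6101) q705, e3 q569 L6214 q719, e3 q570 (flp_h L4783) q447, e3 q571 L4798 q571, e3 q572 L6230 q721, e3 q573 (flp_h L4811) q451, e3 q574 (flp_h L6244) q722, e3 q575 L4827 q575, trivial⟩ (by decide +kernel)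

theorem ce_h_9 : ∀ r, r < 64 → sm gh (Qf (576 + r)) = Qf (tab Gen.h (576 + r)) :=
  edges_tab (sm gh) Qf (tab Gen.h) 576 [(576, 576), (577, 577), (578, 578), (579, 462), (580, 463), (581, 464), (582, 582), (583, 583), (584, 584), (585, 465), (586, 466), (587, 587), (588, 467), (589, 468), (590, 731), (591, 732), (592, 750), (593, 734), (594, 735), (595, 741), (596, 743), (597, 745), (598, 598), (599, 756), (600, 471), (601, 475), (602, 758), (603, 488), (604, 604), (605, 605), (606, 606), (607, 607), (608, 608), (609, 609), (610, 483), (611, 484), (612, 774), (613, 486), (614, 487), (615, 770), (616, 779), (617, 772), (618, 760), (619, 485), (620, 775), (621, 685), (622, 622), (623, 623), (624, 674), (625, 625), (626, 626), (627, 499), (628, 628), (629, 500), (630, 630), (631, 501), (632, 783), (633, 787), (634, 634), (635, 635), (636, 792), (637, 637), (638, 791), (639, 507)]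
    ⟨e3 q576 L4832 q576, e3 q577 L4840 q577, e3 q578 L4847 q578, e3 q579 L4856 q462, e3 q580 L4863 q463, e3 q581 L4867 q464, e3 q582 L4876 q582, e3 q583 L4885 q583, e3 q584 L4891 q584, e3 q585 L4899 q465, e3 q586 L4907 q466, e3 q587 L4915 q587, e3 q588 L4920 q467, e3 q589 L4925 q468, e3 q590 (flp_h L6308) q731, e3 q591 (flp_h L6315) q732, e3 q592 L6440 q750, e3 q593 (flp_h L6325) q734, e3 q594 (flp_h L6333) q735, e3 q595 (flp_h L6382) q741, e3 q596 (flp_h L6396) q743, e3 q597 (flp_h L6408) q745, e3 q598 L4992 q598, e3 q599 L6482 q756, e3 q600 (flp_h L5002) q471, e3 q601 L5032 q475, e3 q602 (flp_h L6502) q758, e3 q603 L5750 q488, e3 q604 L5054 q604, e3 q605 L5061 q605, e3 q606 L5067 q606, e3 q607 L5072 q607, e3 q608 L5082 q608, e3 q609 L5091 q609, e3 q610 L5100 q483, e3 q611 L5109 q484, e3 q612 L6625 q774, e3 q613 L5120 q486, e3 q614 L5130 q487, e3 q615 (flp_h L6604) q770, e3 q616 L6664 q779, e3 q617 (flp_h L6616) q772, e3 q618 (flp_h L6519) q760, e3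 q619 (flp_h L5163) q485, e3 q620 (flp_h L6637) q775, e3 q621 (flp_h L5930) q685, e3 q622 L5209 q622, e3 q623 L5216 q623, e3 q624 (flp_h L5831) q674, e3 q625 L5229 q625, e3 q626 L5237 q626, e3 q627 L5244 q499, e3 q628 L5251 q628, e3 q629 L5256 q500, e3 q630 L5264 q630, e3 q631 L5270 q501, e3 q632 L6710 q783, e3 q633 (flp_h L6742) q787, e3 q634 L5328 q634, e3 q635 L5338 q635, e3 q636 L6776 q792, e3 q637 L5355 q637, e3 q638 (flp_h L6968) q791, e3 q639 (flp_h L5368) q507, trivial⟩ (by decide +kernel)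

theorem ce_h_10 : ∀ r, r < 64 → sm gh (Qf (640 + r)) = Qf (tab Gen.h (640 + r)) :=
  edges_tab (sm gh) Qf (tab Gen.h) 640 [(640, 793), (641, 641), (642, 642), (643, 643), (644, 644), (645, 518), (646, 519), (647, 520), (648, 648), (649, 649), (650, 650), (651, 521), (652, 522), (653, 653), (654, 523), (655, 524), (656, 802), (657, 803), (658, 821), (659, 805), (660, 806), (661, 812), (662, 814), (663, 816), (664, 664), (665, 794), (666, 527), (667, 667), (668, 668), (669, 537), (670, 670), (671, 671), (672, 536), (673, 538), (674, 624), (675, 809), (676, 539), (677, 540), (678, 827), (679, 542), (680, 831), (681, 681), (682, 682), (683, 547), (684, 837), (685, 621), (686, 686), (687, 687), (688, 688), (689, 550), (690, 846), (691, 691), (692, 692), (693, 693), (694, 694), (695, 561), (696, 562), (697, 563), (698, 698), (699, 699), (700, 700), (701, 564), (702, 565), (703, 869)]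
    ⟨e3 q640 (flp_h L6812) q793, e3 q641 L5392 q641, e3 q642 L5400 q642, e3 q643 L5410 q643, e3 q644 L5420 q644, e3 q645 L5429 q518, e3 q646 L5439 q519, e3 q647 L5446 q520, e3 q648 L5455 q648, e3 q649 L5467 q649, e3 q650 L5476 q650, e3 q651 L5485 q521, e3 q652 L5496 q522, e3 q653 L5506 q653, e3 q654 L5513 q523, e3 q655 L5521 q524, e3 q656 (flp_h L6894) q802, e3 q657 (flp_h L6904) q803, e3 q658 L7117 q821, e3 q659 (flp_h L6918) q805, e3 q660 (flp_h L6929) q806, e3 q661 (flp_h L7038) q812, e3 q662 (flp_h L7063) q814, e3 q663 (flp_h L7079) q816, e3 q664 L5606 q664, e3 q665 L6987 q794, e3 q666 (flp_h L5616) q527, e3 q667 L5629 q667, e3 q668 L5639 q668, e3 q669 (flp_h L5773) q537, e3 q670 L5785 q670, e3 q671 L5796 q671, e3 q672 L5806 q536, e3 q673 L5821 q538, e3 q674 L5831 q624, e3 q675 L7007 q809, e3 q676 (flp_h L5843) q539, e3 q677 (flp_h L5852) q540, e3 q678 (flp_h L7185) q827, e3 q679 (flp_h L5870) q542, e3 q680 (flp_h L7218) q831, e3 q681 L5895 q681,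 e3 q682 L5903 q682, e3 q683 L5913 q547, e3 q684 (flp_h L7267) q837, e3 q685 L5930 q621, e3 q686 L5941 q686, e3 q687 L5950 q687, e3 q688 L5956 q688, e3 q689 (flp_h L5957) q550, e3 q690 (flp_h L7351) q846, e3 q691 L5981 q691, e3 q692 L5988 q692, e3 q693 L5997 q693, e3 q694 L6006 q694, e3 q695 L6014 q561, e3 q696 L6024 q562, e3 q697 L6031 q563, e3 q698 L6039 q698, e3 q699 L6051 q699, e3 q700 L6060 q700, e3 q701 L6069 q564, e3 q702 L6080 q565, e3 q703 L7543 q869, trivial⟩ (by decide +kernel)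

theorem ce_h_11 : ∀ r, r < 64 → sm gh (Qf (704 + r)) = Qf (tab Gen.h (704 + r)) :=
  edges_tab (sm gh) Qf (tab Gen.h) 704 [(704, 567), (705, 568), (706, 855), (707, 856), (708, 875), (709, 858), (710, 859), (711, 865), (712, 880), (713, 867), (714, 884), (715, 566), (716, 870), (717, 887), (718, 840), (719, 569), (720, 720), (721, 572), (722, 574), (723, 825), (724, 888), (725, 725), (726, 726), (727, 727), (728, 728), (729, 729), (730, 730), (731, 590), (732, 591), (733, 906), (734, 593), (735, 594), (736, 736), (737, 737), (738, 826), (739, 739), (740, 740), (741, 595), (742, 742), (743, 596), (744, 744), (745, 597), (746, 902), (747, 924), (748, 904), (749, 927), (750, 592), (751, 907), (752, 914), (753, 917), (754, 889), (755, 931), (756, 599), (757, 757), (758, 602), (759, 932), (760, 618), (761, 761), (762, 762), (763, 940), (764, 764), (765, 765), (766, 766), (767, 945)]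
    ⟨e3 q704 L6093 q567, e3 q705 L6101 q568, e3 q706 (flp_h L7429) q855, e3 q707 (flp_h L7439) q856, e3 q708 L7592 q875, e3 q709 (flp_h L7450) q858, e3 q710 (flp_h L7461) q859, e3 q711 (flp_h L7521) q865, e3 q712 L7633 q880, e3 q713 (flp_h L7535) q867, e3 q714 L7667 q884, e3 q715 (flp_h L6182) q566, e3 q716 (flp_h L7556) q870, e3 q717 L7691 q887, e3 q718 (flp_h L7296) q840, e3 q719 (flp_h L6214) q569, e3 q720 L6229 q720, e3 q721 (flp_h L6230) q572, e3 q722 L6244 q574, e3 q723 L7164 q825, e3 q724 (flp_h L7701) q888, e3 q725 L6265 q725, e3 q726 L6271 q726, e3 q727 L6276 q727, e3 q728 L6284 q728, e3 q729 L6292 q729, e3 q730 L6297 q730, e3 q731 L6308 q590, e3 q732 L6315 q591, e3 q733 L7830 q906, e3 q734 L6325 q593, e3 q735 L6333 q594, e3 q736 L6341 q736, e3 q737 L6350 q737, e3 q738 (flp_h L7175) q826, e3 q739 L6365 q739, e3 q740 L6371 q740, e3 q741 L6382 q595, e3 q742 L6391 q742, e3 q743 L6396 q596, e3 q744 L6403 q744, e3 q745 L6408 q597, e3 q746 (flp_h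 L7810) q902, e3 q747 L7977 q924, e3 q748 (flp_h L7822) q904, e3 q749 L8000 q927, e3 q750 (flp_h L6440) q592, e3 q751 (flp_h L7842) q907, e3 q752 (flp_h L7910) q914, e3 q753 (flp_h L7930) q917, e3 q754 (flp_h L7710) q889, e3 q755 L8029 q931, e3 q756 (flp_h L6482) q599, e3 q757 L6495 q757, e3 q758 L6502 q602, e3 q759 (flp_h L8042) q932, e3 q760 L6519 q618, e3 q761 L6531 q761, e3 q762 L6538 q762, e3 q763 L8108 q940, e3 q764 L6550 q764, e3 q765 L6559 q765, e3 q766 L6569 q766, e3 q767 L8153 q945, trivial⟩ (by decide +kernel)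

theorem ce_h_12 : ∀ r, r < 64 → sm gh (Qf (768 + r)) = Qf (tab Gen.h (768 + r)) :=
  edges_tab (sm gh) Qf (tab Gen.h) 768 [(768, 768), (769, 769), (770, 615), (771, 951), (772, 617), (773, 935), (774, 612), (775, 620), (776, 955), (777, 948), (778, 934), (779, 616), (780, 952), (781, 839), (782, 782), (783, 632), (784, 784), (785, 785), (786, 786), (787, 633), (788, 788), (789, 909), (790, 790), (791, 638), (792, 636), (793, 640), (794, 665), (795, 958), (796, 796), (797, 797), (798, 798), (799, 799), (800, 800), (801, 801), (802, 656), (803, 657), (804, 974), (805, 659), (806, 660), (807, 807), (808, 808), (809, 675), (810, 810), (811, 811), (812, 661), (813, 813), (814, 662), (815, 815), (816, 663), (817, 970), (818, 959), (819, 972), (820, 986), (821, 658), (822, 975), (823, 979), (824, 977), (825, 723), (826, 738), (827, 678), (828, 828), (829, 988), (830, 989), (831, 680)]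
    ⟨e3 q768 L6583 q768, e3 q769 L6594 q769, e3 q770 L6604 q615, e3 q771 L8197 q951, e3 q772 L6616 q617, e3 q773 (flp_h L8076) q935, e3 q774 (flp_h L6625) q612, e3 q775 L6637 q620, e3 q776 L8227 q955, e3 q777 (flp_h L8181) q948, e3 q778 (flp_h L8060) q934, e3 q779 (flp_h L6664) q616, e3 q780 (flp_h L8210) q952, e3 q781 (flp_h L7287) q839, e3 q782 L6692 q782, e3 q783 (flp_h L6710) q632, e3 q784 L6720 q784, e3 q785 L6729 q785, e3 q786 L6735 q786, e3 q787 L6742 q633, e3 q788 L6749 q788, e3 q789 L7869 q909, e3 q790 L6765 q790, e3 q791 L6968 q638, e3 q792 (flp_h L6776) q636, e3 q793 L6812 q640, e3 q794 (flp_h L6987) q665, e3 q795 (flp_h L8259) q958, e3 q796 L6838 q796, e3 q797 L6847 q797, e3 q798 L6855 q798, e3 q799 L6863 q799, e3 q800 L6874 q800, e3 q801 L6882 q801, e3 q802 L6894 q656, e3 q803 L6904 q657, e3 q804 L8405 q974, e3 q805 L6918 q659, e3 q806 L6929 q660, e3 q807 L6938 q807, e3 q808 L6954 q808, e3 q809 (flp_h L7007) q675, e3 q810 L7015 q810, e3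 q811 L7024 q811, e3 q812 L7038 q661, e3 q813 L7055 q813, e3 q814 L7063 q662, e3 q815 L7072 q815, e3 q816 L7079 q663, e3 q817 (flp_h L8382) q970, e3 q818 (flp_h L8272) q959, e3 q819 (flp_h L8395) q972, e3 q820 L8541 q986, e3 q821 (flp_h L7117) q658, e3 q822 (flp_h L8421) q975, e3 q823 (flp_h L8477) q979, e3 q824 (flp_h L8447) q977, e3 q825 (flp_h L7164) q723, e3 q826 L7175 q738, e3 q827 L7185 q678, e3 q828 L7195 q828, e3 q829 (flp_h L8567) q988, e3 q830 (flp_h L8576) q989, e3 q831 L7218 q680, trivial⟩ (by decide +kernel)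

theorem ce_h_13 : ∀ r, r < 64 → sm gh (Qf (832 + r)) = Qf (tab Gen.h (832 + r)) :=
  edges_tab (sm gh) Qf (tab Gen.h) 832 [(832, 995), (833, 996), (834, 834), (835, 835), (836, 836), (837, 684), (838, 1005), (839, 781), (840, 718), (841, 841), (842, 842), (843, 1014), (844, 844), (845, 845), (846, 690), (847, 1016), (848, 1017), (849, 849), (850, 850), (851, 851), (852, 852), (853, 853), (854, 854), (855, 706), (856, 707), (857, 1035), (858, 709), (859, 710), (860, 860), (861, 861), (862, 1041), (863, 863), (864, 864), (865, 711), (866, 1047), (867, 713), (868, 1051), (869, 703), (870, 716), (871, 1031), (872, 1057), (873, 1033), (874, 1061), (875, 708), (876, 1036), (877, 1064), (878, 1044), (879, 1068), (880, 712), (881, 1048), (882, 1071), (883, 1009), (884, 714), (885, 885), (886, 999), (887, 717), (888, 724), (889, 754), (890, 981), (891, 1073), (892, 892), (893, 893), (894, 1082), (895, 895)]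
    ⟨e3 q832 (flp_h L8626) q995, e3 q833 (flp_h L8635) q996, e3 q834 L7244 q834, e3 q835 L7252 q835, e3 q836 L7257 q836, e3 q837 L7267 q684, e3 q838 (flp_h L8719) q1005, e3 q839 L7287 q781, e3 q840 L7296 q718, e3 q841 L7309 q841, e3 q842 L7318 q842, e3 q843 L8796 q1014, e3 q844 L7332 q844, e3 q845 L7338 q845, e3 q846 L7351 q690, e3 q847 (flp_h L8820) q1016, e3 q848 (flp_h L8832) q1017, e3 q849 L7374 q849, e3 q850 L7383 q850, e3 q851 L7391 q851, e3 q852 L7398 q852, e3 q853 L7409 q853, e3 q854 L7417 q854, e3 q855 L7429 q706, e3 q856 L7439 q707, e3 q857 L8985 q1035, e3 q858 L7450 q709, e3 q859 L7461 q710, e3 q860 L7470 q860, e3 q861 L7482 q861, e3 q862 L9038 q1041, e3 q863 L7498 q863, e3 q864 L7507 q864, e3 q865 L7521 q711, e3 q866 L9086 q1047, e3 q867 L7535 q713, e3 q868 L9116 q1051, e3 q869 (flp_h L7543) q703, e3 q870 L7556 q716, e3 q871 (flp_h L8963) q1031, e3 q872 L9165 q1057, e3 q873 (flp_h L8976) q1033, e3 q874 L9197 q1061, e3 q875 (flp_h L7592)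 q708, e3 q876 (flp_h L8998) q1036, e3 q877 L9219 q1064, e3 q878 (flp_h L9071) q1044, e3 q879 L9255 q1068, e3 q880 (flp_h L7633) q712, e3 q881 (flp_h L9100) q1048, e3 q882 L9279 q1071, e3 q883 (flp_h L8761) q1009, e3 q884 (flp_h L7667) q714, e3 q885 L7682 q885, e3 q886 (flp_h L8663) q999, e3 q887 (flp_h L7691) q717, e3 q888 L7701 q724, e3 q889 L7710 q754, e3 q890 L8502 q981, e3 q891 (flp_h L9297) q1073, e3 q892 L7735 q892, e3 q893 L7745 q893, e3 q894 L9363 q1082, e3 q895 L7756 q895, trivial⟩ (by decide +kernel)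

theorem ce_h_14 : ∀ r, r < 64 → sm gh (Qf (896 + r)) = Qf (tab Gen.h (896 + r)) :=
  edges_tab (sm gh) Qf (tab Gen.h) 896 [(896, 896), (897, 897), (898, 898), (899, 1088), (900, 900), (901, 901), (902, 746), (903, 1094), (904, 748), (905, 1098), (906, 733), (907, 751), (908, 908), (909, 789), (910, 910), (911, 987), (912, 912), (913, 913), (914, 752), (915, 915), (916, 916), (917, 753), (918, 918), (919, 919), (920, 1074), (921, 1091), (922, 1113), (923, 1115), (924, 747), (925, 1095), (926, 1116), (927, 749), (928, 928), (929, 1102), (930, 1018), (931, 755), (932, 759), (933, 1119), (934, 778), (935, 773), (936, 936), (937, 1126), (938, 938), (939, 1128), (940, 763), (941, 941), (942, 1132), (943, 943), (944, 1127), (945, 767), (946, 946), (947, 1134), (948, 777), (949, 1135), (950, 1121), (951, 771), (952, 780), (953, 1008), (954, 1120), (955, 776), (956, 1101), (957, 1007), (958, 795), (959, 818)]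
    ⟨e3 q896 L7763 q896, e3 q897 L7771 q897, e3 q898 L7779 q898, e3 q899 L9408 q1088, e3 q900 L7792 q900, e3 q901 L7801 q901, e3 q902 L7810 q746, e3 q903 L9447 q1094, e3 q904 L7822 q748, e3 q905 L9474 q1098, e3 q906 (flp_h L7830) q733, e3 q907 L7842 q751, e3 q908 L7853 q908, e3 q909 (flp_h L7869) q789, e3 q910 L7875 q910, e3 q911 (flp_h L8557) q987, e3 q912 L7889 q912, e3 q913 L7905 q913, e3 q914 L7910 q752, e3 q915 L7917 q915, e3 q916 L7925 q916, e3 q917 L7930 q753, e3 q918 L7937 q918, e3 q919 L7944 q919, e3 q920 (flp_h L9308) q1074, e3 q921 (flp_h L9433) q1091, e3 q922 L9605 q1113, e3 q923 L9622 q1115, e3 q924 (flp_h L7977) q747, e3 q925 (flp_h L9461) q1095, e3 q926 L9629 q1116, e3 q927 (flp_h L8000) q749, e3 q928 L8012 q928, e3 q929 (flp_h L9519) q1102, e3 q930 (flp_h L8840) q1018, e3 q931 (flp_h L8029) q755, e3 q932 L8042 q759, e3 q933 (flp_h L9657) q1119, e3 q934 L8060 q778, e3 q935 L8076 q773, e3 q936 L8084 q936, e3 q937 L9716 q1126, e3 q938 L8096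 q938, e3 q939 L9734 q1128, e3 q940 (flp_h L8108) q763, e3 q941 L8122 q941, e3 q942 L9779 q1132, e3 q943 L8141 q943, e3 q944 L9732 q1127, e3 q945 (flp_h L8153) q767, e3 q946 L8166 q946, e3 q947 L9794 q1134, e3 q948 L8181 q777, e3 q949 L9801 q1135, e3 q950 (flp_h L9683) q1121, e3 q951 (flp_h L8197) q771, e3 q952 L8210 q780, e3 q953 (flp_h L8754) q1008, e3 q954 (flp_h L9667) q1120, e3 q955 (flp_h L8227) q776, e3 q956 (flp_h L9506) q1101, e3 q957 (flp_h L8740) q1007, e3 q958 L8259 q795, e3 q959 L8272 q818, trivial⟩ (by decide +kernel)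

theorem ce_h_15 : ∀ r, r < 64 → sm gh (Qf (960 + r)) = Qf (tab Gen.h (960 + r)) :=
  edges_tab (sm gh) Qf (tab Gen.h) 960 [(960, 1138), (961, 961), (962, 1145), (963, 963), (964, 964), (965, 965), (966, 966), (967, 1151), (968, 968), (969, 969), (970, 817), (971, 1139), (972, 819), (973, 1159), (974, 804), (975, 822), (976, 976), (977, 824), (978, 978), (979, 823), (980, 980), (981, 890), (982, 1154), (983, 1140), (984, 1156), (985, 1163), (986, 820), (987, 911), (988, 829), (989, 830), (990, 990), (991, 991), (992, 1164), (993, 1165), (994, 1166), (995, 832), (996, 833), (997, 1175), (998, 1176), (999, 886), (1000, 1000), (1001, 1001), (1002, 1185), (1003, 1003), (1004, 1004), (1005, 838), (1006, 1187), (1007, 957), (1008, 953), (1009, 883), (1010, 1010), (1011, 1196), (1012, 1012), (1013, 1200), (1014, 843), (1015, 1015), (1016, 847), (1017, 848), (1018, 930), (1019, 1202), (1020, 1203), (1021, 1021), (1022, 1022), (1023, 1212)]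
    ⟨e3 q960 (flp_h L9830) q1138, e3 q961 L8294 q961, e3 q962 L9901 q1145, e3 q963 L8311 q963, e3 q964 L8321 q964, e3 q965 L8330 q965, e3 q966 L8341 q966, e3 q967 L9962 q1151, e3 q968 L8358 q968, e3 q969 L8370 q969, e3 q970 L8382 q817, e3 q971 (flp_h L9846) q1139, e3 q972 L8395 q819, e3 q973 L10046 q1159, e3 q974 (flp_h L8405) q804, e3 q975 L8421 q822, e3 q976 L8433 q976, e3 q977 L8447 q824, e3 q978 L8463 q978, e3 q979 L8477 q823, e3 q980 L8488 q980, e3 q981 (flp_h L8502) q890, e3 q982 (flp_h L10004) q1154, e3 q983 (flp_h L9856) q1140, e3 q984 (flp_h L10027) q1156, e3 q985 L10090 q1163, e3 q986 (flp_h L8541) q820, e3 q987 L8557 q911, e3 q988 L8567 q829, e3 q989 L8576 q830, e3 q990 L8585 q990, e3 q991 L8595 q991, e3 q992 (flp_h L10104) q1164, e3 q993 (flp_h L10114) q1165, e3 q994 (flp_h L10122) q1166, e3 q995 L8626 q832, e3 q996 L8635 q833, e3 q997 (flp_h L10205) q1175, e3 q998 (flp_h L10215) q1176, e3 q999 L8663 q886, e3 q1000 L8679 q1000, e3 q1001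 L8687 q1001, e3 q1002 L10288 q1185, e3 q1003 L8699 q1003, e3 q1004 L8708 q1004, e3 q1005 L8719 q838, e3 q1006 (flp_h L10314) q1187, e3 q1007 L8740 q957, e3 q1008 L8754 q953, e3 q1009 L8761 q883, e3 q1010 L8775 q1010, e3 q1011 L10395 q1196, e3 q1012 L8789 q1012, e3 q1013 L10430 q1200, e3 q1014 (flp_h L8796) q843, e3 q1015 L8810 q1015, e3 q1016 L8820 q847, e3 q1017 L8832 q848, e3 q1018 L8840 q930, e3 q1019 (flp_h L10456) q1202, e3 q1020 (flp_h L10465) q1203, e3 q1021 L8872 q1021, e3 q1022 L8883 q1022, e3 q1023 L10540 q1212, trivial⟩ (by decide +kernel)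

theorem ce_h_16 : ∀ r, r < 64 → sm gh (Qf (1024 + r)) = Qf (tab Gen.h (1024 + r)) :=
  edges_tab (sm gh) Qf (tab Gen.h) 1024 [(1024, 1024), (1025, 1025), (1026, 1026), (1027, 1027), (1028, 1218), (1029, 1029), (1030, 1030), (1031, 871), (1032, 1224), (1033, 873), (1034, 1228), (1035, 857), (1036, 876), (1037, 1037), (1038, 1234), (1039, 1039), (1040, 1238), (1041, 862), (1042, 1042), (1043, 1242), (1044, 878), (1045, 1245), (1046, 1248), (1047, 866), (1048, 881), (1049, 1251), (1050, 1191), (1051, 868), (1052, 1239), (1053, 1254), (1054, 1221), (1055, 1257), (1056, 1260), (1057, 872), (1058, 1225), (1059, 1263), (1060, 1264), (1061, 874), (1062, 1062), (1063, 1268), (1064, 877), (1065, 1243), (1066, 1271), (1067, 1190), (1068, 879), (1069, 1069), (1070, 1180), (1071, 882), (1072, 1072), (1073, 891), (1074, 920), (1075, 1153), (1076, 1160), (1077, 1274), (1078, 1078), (1079, 1283), (1080, 1080), (1081, 1287), (1082, 894), (1083, 1083), (1084, 1084),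 (1085, 1293), (1086, 1086), (1087, 1297)]
    ⟨e3 q1024 L8895 q1024, e3 q1025 L8905 q1025, e3 q1026 L8914 q1026, e3 q1027 L8925 q1027, e3 q1028 L10591 q1218, e3 q1029 L8939 q1029, e3 q1030 L8951 q1030, e3 q1031 L8963 q871, e3 q1032 L10635 q1224, e3 q1033 L8976 q873, e3 q1034 L10664 q1228, e3 q1035 (flp_h L8985) q857, e3 q1036 L8998 q876, e3 q1037 L9010 q1037, e3 q1038 L10719 q1234, e3 q1039 L9027 q1039, e3 q1040 L10757 q1238, e3 q1041 (flp_h L9038) q862, e3 q1042 L9052 q1042, e3 q1043 L10794 q1242, e3 q1044 L9071 q878, e3 q1045 L10823 q1245, e3 q1046 L10843 q1248, e3 q1047 (flp_h L9086) q866, e3 q1048 L9100 q881, e3 q1049 L10865 q1251, e3 q1050 (flp_h L10359) q1191, e3 q1051 (flp_h L9116) q868, e3 q1052 (flp_h L10773) q1239, e3 q1053 L10888 q1254, e3 q1054 (flp_h L10620) q1221, e3 q1055 L10914 q1257, e3 q1056 L10937 q1260, e3 q1057 (flp_h L9165) q872, e3 q1058 (flp_h L10650) q1225, e3 q1059 L10959 q1263, e3 q1060 L10966 q1264, e3 q1061 (flp_h L9197)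 q874, e3 q1062 L9209 q1062, e3 q1063 L10999 q1268, e3 q1064 (flp_h L9219) q877, e3 q1065 (flp_h L10810) q1243, e3 q1066 L11025 q1271, e3 q1067 (flp_h L10347) q1190, e3 q1068 (flp_h L9255) q879, e3 q1069 L9270 q1069, e3 q1070 (flp_h L10252) q1180, e3 q1071 (flp_h L9279) q882, e3 q1072 L9293 q1072, e3 q1073 L9297 q891, e3 q1074 L9308 q920, e3 q1075 (flp_h L9993) q1153, e3 q1076 (flp_h L10064) q1160, e3 q1077 (flp_h L11047) q1274, e3 q1078 L9342 q1078, e3 q1079 L11122 q1283, e3 q1080 L9355 q1080, e3 q1081 L11149 q1287, e3 q1082 (flp_h L9363) q894, e3 q1083 L9375 q1083, e3 q1084 L9382 q1084, e3 q1085 L11198 q1293, e3 q1086 L9397 q1086, e3 q1087 L11231 q1297, trivial⟩ (by decide +kernel)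

theorem ce_h_17 : ∀ r, r < 64 → sm gh (Qf (1088 + r)) = Qf (tab Gen.h (1088 + r)) :=
  edges_tab (sm gh) Qf (tab Gen.h) 1088 [(1088, 899), (1089, 1089), (1090, 1275), (1091, 921), (1092, 1303), (1093, 1306), (1094, 903), (1095, 925), (1096, 1308), (1097, 1309), (1098, 905), (1099, 1298), (1100, 1100), (1101, 956), (1102, 929), (1103, 1103), (1104, 1161), (1105, 1105), (1106, 1106), (1107, 1107), (1108, 1108), (1109, 1204), (1110, 1276), (1111, 1301), (1112, 1315), (1113, 922), (1114, 1317), (1115, 923), (1116, 926), (1117, 1117), (1118, 1118), (1119, 933), (1120, 954), (1121, 950), (1122, 1324), (1123, 1123), (1124, 1323), (1125, 1322), (1126, 937), (1127, 944), (1128, 939), (1129, 1321), (1130, 1320), (1131, 1325), (1132, 942), (1133, 1201), (1134, 947), (1135, 949), (1136, 1189), (1137, 1188), (1138, 960), (1139, 971), (1140, 983), (1141, 1326), (1142, 1331), (1143, 1143), (1144, 1335), (1145, 962), (1146, 1146), (1147, 1147), (1148, 1329), (1149,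 1149), (1150, 1340), (1151, 967)]
    ⟨e3 q1088 (flp_h L9408) q899, e3 q1089 L9419 q1089, e3 q1090 (flp_h L11061) q1275, e3 q1091 L9433 q921, e3 q1092 L11272 q1303, e3 q1093 L11292 q1306, e3 q1094 (flp_h L9447) q903, e3 q1095 L9461 q925, e3 q1096 L11306 q1308, e3 q1097 L11312 q1309, e3 q1098 (flp_h L9474) q905, e3 q1099 (flp_h L11241) q1298, e3 q1100 L9494 q1100, e3 q1101 L9506 q956, e3 q1102 L9519 q929, e3 q1103 L9533 q1103, e3 q1104 (flp_h L10077) q1161, e3 q1105 L9551 q1105, e3 q1106 L9561 q1106, e3 q1107 L9566 q1107, e3 q1108 L9573 q1108, e3 q1109 (flp_h L10478) q1204, e3 q1110 (flp_h L11069) q1276, e3 q1111 (flp_h L11263) q1301, e3 q1112 L11357 q1315, e3 q1113 (flp_h L9605) q922, e3 q1114 L11369 q1317, e3 q1115 (flp_h L9622) q923, e3 q1116 (flp_h L9629) q926, e3 q1117 L9642 q1117, e3 q1118 L9649 q1118, e3 q1119 L9657 q933, e3 q1120 L9667 q954, e3 q1121 L9683 q950, e3 q1122 L11450 q1324, e3 q1123 L9698 q1123, e3 q1124 L11448 q1323, e3 q1125 (flp_h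 L11433) q1322, e3 q1126 (flp_h L9716) q937, e3 q1127 (flp_h L9732) q944, e3 q1128 (flp_h L9734) q939, e3 q1129 (flp_h L11414) q1321, e3 q1130 (flp_h L11402) q1320, e3 q1131 (flp_h L11472) q1325, e3 q1132 (flp_h L9779) q942, e3 q1133 (flp_h L10446) q1201, e3 q1134 (flp_h L9794) q947, e3 q1135 (flp_h L9801) q949, e3 q1136 (flp_h L10340) q1189, e3 q1137 (flp_h L10326) q1188, e3 q1138 L9830 q960, e3 q1139 L9846 q971, e3 q1140 L9856 q983, e3 q1141 (flp_h L11488) q1326, e3 q1142 L11543 q1331, e3 q1143 L9889 q1143, e3 q1144 L11585 q1335, e3 q1145 (flp_h L9901) q962, e3 q1146 L9917 q1146, e3 q1147 L9927 q1147, e3 q1148 L11531 q1329, e3 q1149 L9947 q1149, e3 q1150 L11650 q1340, e3 q1151 (flp_h L9962) q967, trivial⟩ (by decide +kernel)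

theorem ce_h_18 : ∀ r, r < 64 → sm gh (Qf (1152 + r)) = Qf (tab Gen.h (1152 + r)) :=
  edges_tab (sm gh) Qf (tab Gen.h) 1152 [(1152, 1152), (1153, 1075), (1154, 982), (1155, 1327), (1156, 984), (1157, 1342), (1158, 1343), (1159, 973), (1160, 1076), (1161, 1104), (1162, 1328), (1163, 985), (1164, 992), (1165, 993), (1166, 994), (1167, 1167), (1168, 1168), (1169, 1169), (1170, 1345), (1171, 1346), (1172, 1357), (1173, 1348), (1174, 1349), (1175, 997), (1176, 998), (1177, 1359), (1178, 1360), (1179, 1366), (1180, 1070), (1181, 1181), (1182, 1371), (1183, 1183), (1184, 1375), (1185, 1002), (1186, 1186), (1187, 1006), (1188, 1137), (1189, 1136), (1190, 1067), (1191, 1050), (1192, 1384), (1193, 1193), (1194, 1387), (1195, 1390), (1196, 1011), (1197, 1197), (1198, 1393), (1199, 1394), (1200, 1013), (1201, 1133), (1202, 1019), (1203, 1020), (1204, 1109), (1205, 1402), (1206, 1397), (1207, 1398), (1208, 1208), (1209, 1408), (1210, 1210), (1211, 1412), (1212,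 1023), (1213, 1213), (1214, 1214), (1215, 1418)]
    ⟨e3 q1152 L9981 q1152, e3 q1153 L9993 q1075, e3 q1154 L10004 q982, e3 q1155 (flp_h L11502) q1327, e3 q1156 L10027 q984, e3 q1157 L11677 q1342, e3 q1158 L11685 q1343, e3 q1159 (flp_h L10046) q973, e3 q1160 L10064 q1076, e3 q1161 L10077 q1104, e3 q1162 (flp_h L11515) q1328, e3 q1163 (flp_h L10090) q985, e3 q1164 L10104 q992, e3 q1165 L10114 q993, e3 q1166 L10122 q994, e3 q1167 L10132 q1167, e3 q1168 L10144 q1168, e3 q1169 L10153 q1169, e3 q1170 (flp_h L11715) q1345, e3 q1171 (flp_h L11725) q1346, e3 q1172 L11815 q1357, e3 q1173 (flp_h L11740) q1348, e3 q1174 (flp_h L11750) q1349, e3 q1175 L10205 q997, e3 q1176 L10215 q998, e3 q1177 (flp_h L11839) q1359, e3 q1178 (flp_h L11849) q1360, e3 q1179 L11903 q1366, e3 q1180 L10252 q1070, e3 q1181 L10267 q1181, e3 q1182 L11938 q1371, e3 q1183 L10280 q1183, e3 q1184 L11972 q1375, e3 q1185 (flp_h L10288) q1002, e3 q1186 L10302 q1186, e3 q1187 L10314 q1006, e3 q1188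 L10326 q1137, e3 q1189 L10340 q1136, e3 q1190 L10347 q1067, e3 q1191 L10359 q1050, e3 q1192 L12072 q1384, e3 q1193 L10380 q1193, e3 q1194 L12103 q1387, e3 q1195 L12134 q1390, e3 q1196 (flp_h L10395) q1011, e3 q1197 L10409 q1197, e3 q1198 L12164 q1393, e3 q1199 L12172 q1394, e3 q1200 (flp_h L10430) q1013, e3 q1201 L10446 q1133, e3 q1202 L10456 q1019, e3 q1203 L10465 q1020, e3 q1204 L10478 q1109, e3 q1205 L12256 q1402, e3 q1206 (flp_h L12210) q1397, e3 q1207 (flp_h L12221) q1398, e3 q1208 L10517 q1208, e3 q1209 L12303 q1408, e3 q1210 L10531 q1210, e3 q1211 L12332 q1412, e3 q1212 (flp_h L10540) q1023, e3 q1213 L10553 q1213, e3 q1214 L10563 q1214, e3 q1215 L12384 q1418, trivial⟩ (by decide +kernel)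

theorem ce_h_19 : ∀ r, r < 64 → sm gh (Qf (1216 + r)) = Qf (tab Gen.h (1216 + r)) :=
  edges_tab (sm gh) Qf (tab Gen.h) 1216 [(1216, 1216), (1217, 1422), (1218, 1028), (1219, 1219), (1220, 1426), (1221, 1054), (1222, 1429), (1223, 1432), (1224, 1032), (1225, 1058), (1226, 1435), (1227, 1436), (1228, 1034), (1229, 1423), (1230, 1379), (1231, 1231), (1232, 1377), (1233, 1442), (1234, 1038), (1235, 1235), (1236, 1444), (1237, 1395), (1238, 1040), (1239, 1052), (1240, 1391), (1241, 1446), (1242, 1043), (1243, 1065), (1244, 1448), (1245, 1045), (1246, 1450), (1247, 1380), (1248, 1046), (1249, 1382), (1250, 1381), (1251, 1049), (1252, 1453), (1253, 1456), (1254, 1053), (1255, 1427), (1256, 1460), (1257, 1055), (1258, 1464), (1259, 1465), (1260, 1056), (1261, 1261), (1262, 1467), (1263, 1059), (1264, 1060), (1265, 1265), (1266, 1472), (1267, 1378), (1268, 1063), (1269, 1269), (1270, 1364), (1271, 1066), (1272, 1468), (1273, 1273), (1274, 1077), (1275, 1090),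 (1276, 1110), (1277, 1341), (1278, 1344), (1279, 1483)]
    ⟨e3 q1216 L10579 q1216, e3 q1217 L12419 q1422, e3 q1218 (flp_h L10591) q1028, e3 q1219 L10603 q1219, e3 q1220 L12446 q1426, e3 q1221 L10620 q1054, e3 q1222 L12474 q1429, e3 q1223 L12492 q1432, e3 q1224 (flp_h L10635) q1032, e3 q1225 L10650 q1058, e3 q1226 L12514 q1435, e3 q1227 L12519 q1436, e3 q1228 (flp_h L10664) q1034, e3 q1229 (flp_h L12430) q1423, e3 q1230 (flp_h L12020) q1379, e3 q1231 L10695 q1231, e3 q1232 (flp_h L11996) q1377, e3 q1233 L12580 q1442, e3 q1234 (flp_h L10719) q1038, e3 q1235 L10736 q1235, e3 q1236 L12595 q1444, e3 q1237 (flp_h L12192) q1395, e3 q1238 (flp_h L10757) q1040, e3 q1239 L10773 q1052, e3 q1240 (flp_h L12154) q1391, e3 q1241 L12608 q1446, e3 q1242 (flp_h L10794) q1043, e3 q1243 L10810 q1065, e3 q1244 L12622 q1448, e3 q1245 (flp_h L10823) q1045, e3 q1246 L12636 q1450, e3 q1247 (flp_h L12032) q1380, e3 q1248 (flp_h L10843) q1046, e3 q1249 L12063 q1382, e3 q1250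 (flp_h L12044) q1381, e3 q1251 (flp_h L10865) q1049, e3 q1252 L12656 q1453, e3 q1253 L12682 q1456, e3 q1254 (flp_h L10888) q1053, e3 q1255 (flp_h L12463) q1427, e3 q1256 L12714 q1460, e3 q1257 (flp_h L10914) q1055, e3 q1258 L12744 q1464, e3 q1259 L12751 q1465, e3 q1260 (flp_h L10937) q1056, e3 q1261 L10949 q1261, e3 q1262 L12765 q1467, e3 q1263 (flp_h L10959) q1059, e3 q1264 (flp_h L10966) q1060, e3 q1265 L10979 q1265, e3 q1266 L12804 q1472, e3 q1267 (flp_h L12006) q1378, e3 q1268 (flp_h L10999) q1063, e3 q1269 L11016 q1269, e3 q1270 (flp_h L11886) q1364, e3 q1271 (flp_h L11025) q1066, e3 q1272 (flp_h L12777) q1468, e3 q1273 L11042 q1273, e3 q1274 L11047 q1077, e3 q1275 L11061 q1090, e3 q1276 L11069 q1110, e3 q1277 (flp_h L11669) q1341, e3 q1278 (flp_h L11705) q1344, e3 q1279 L12909 q1483, trivial⟩ (by decide +kernel)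

theorem ce_h_20 : ∀ r, r < 64 → sm gh (Qf (1280 + r)) = Qf (tab Gen.h (1280 + r)) :=
  edges_tab (sm gh) Qf (tab Gen.h) 1280 [(1280, 1280), (1281, 1486), (1282, 1489), (1283, 1079), (1284, 1284), (1285, 1492), (1286, 1493), (1287, 1081), (1288, 1336), (1289, 1490), (1290, 1290), (1291, 1498), (1292, 1501), (1293, 1085), (1294, 1294), (1295, 1480), (1296, 1479), (1297, 1087), (1298, 1099), (1299, 1476), (1300, 1477), (1301, 1111), (1302, 1505), (1303, 1092), (1304, 1507), (1305, 1508), (1306, 1093), (1307, 1494), (1308, 1096), (1309, 1097), (1310, 1491), (1311, 1311), (1312, 1400), (1313, 1478), (1314, 1511), (1315, 1112), (1316, 1461), (1317, 1114), (1318, 1318), (1319, 1319), (1320, 1130), (1321, 1129), (1322, 1125), (1323, 1124), (1324, 1122), (1325, 1131), (1326, 1141), (1327, 1155), (1328, 1162), (1329, 1148), (1330, 1520), (1331, 1142), (1332, 1332), (1333, 1519), (1334, 1518), (1335, 1144), (1336, 1288), (1337, 1517), (1338, 1516), (1339, 1515),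 (1340, 1150), (1341, 1277), (1342, 1157), (1343, 1158)]
    ⟨e3 q1280 L11106 q1280, e3 q1281 L12937 q1486, e3 q1282 L12958 q1489, e3 q1283 (flp_h L11122) q1079, e3 q1284 L11134 q1284, e3 q1285 L12989 q1492, e3 q1286 L13002 q1493, e3 q1287 (flp_h L11149) q1081, e3 q1288 L11608 q1336, e3 q1289 (flp_h L12974) q1490, e3 q1290 L11177 q1290, e3 q1291 L13055 q1498, e3 q1292 L13089 q1501, e3 q1293 (flp_h L11198) q1085, e3 q1294 L11213 q1294, e3 q1295 (flp_h L12886) q1480, e3 q1296 (flp_h L12870) q1479, e3 q1297 (flp_h L11231) q1087, e3 q1298 L11241 q1099, e3 q1299 (flp_h L12836) q1476, e3 q1300 (flp_h L12850) q1477, e3 q1301 L11263 q1111, e3 q1302 L13112 q1505, e3 q1303 (flp_h L11272) q1092, e3 q1304 L13123 q1507, e3 q1305 L13131 q1508, e3 q1306 (flp_h L11292) q1093, e3 q1307 (flp_h L13025) q1494, e3 q1308 (flp_h L11306) q1096, e3 q1309 (flp_h L11312) q1097, e3 q1310 L12987 q1491, e3 q1311 L11330 q1311, e3 q1312 (flp_h L12242) q1400, e3 q1313 (flp_h L12861)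 q1478, e3 q1314 L13153 q1511, e3 q1315 (flp_h L11357) q1112, e3 q1316 (flp_h L12725) q1461, e3 q1317 (flp_h L11369) q1114, e3 q1318 L11384 q1318, e3 q1319 L11390 q1319, e3 q1320 L11402 q1130, e3 q1321 L11414 q1129, e3 q1322 L11433 q1125, e3 q1323 (flp_h L11448) q1124, e3 q1324 (flp_h L11450) q1122, e3 q1325 L11472 q1131, e3 q1326 L11488 q1141, e3 q1327 L11502 q1155, e3 q1328 L11515 q1162, e3 q1329 (flp_h L11531) q1148, e3 q1330 L13262 q1520, e3 q1331 (flp_h L11543) q1142, e3 q1332 L11564 q1332, e3 q1333 L13260 q1519, e3 q1334 L13243 q1518, e3 q1335 (flp_h L11585) q1144, e3 q1336 (flp_h L11608) q1288, e3 q1337 (flp_h L13221) q1517, e3 q1338 (flp_h L13207) q1516, e3 q1339 (flp_h L13187) q1515, e3 q1340 (flp_h L11650) q1150, e3 q1341 L11669 q1277, e3 q1342 (flp_h L11677) q1157, e3 q1343 (flp_h L11685) q1158, trivial⟩ (by decide +kernel)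

theorem ce_h_21 : ∀ r, r < 64 → sm gh (Qf (1344 + r)) = Qf (tab Gen.h (1344 + r)) :=
  edges_tab (sm gh) Qf (tab Gen.h) 1344 [(1344, 1278), (1345, 1170), (1346, 1171), (1347, 1525), (1348, 1173), (1349, 1174), (1350, 1350), (1351, 1530), (1352, 1352), (1353, 1521), (1354, 1535), (1355, 1523), (1356, 1539), (1357, 1172), (1358, 1526), (1359, 1177), (1360, 1178), (1361, 1543), (1362, 1541), (1363, 1548), (1364, 1270), (1365, 1550), (1366, 1179), (1367, 1554), (1368, 1368), (1369, 1557), (1370, 1560), (1371, 1182), (1372, 1372), (1373, 1563), (1374, 1564), (1375, 1184), (1376, 1551), (1377, 1232), (1378, 1267), (1379, 1230), (1380, 1247), (1381, 1250), (1382, 1249), (1383, 1572), (1384, 1192), (1385, 1385), (1386, 1571), (1387, 1194), (1388, 1575), (1389, 1569), (1390, 1195), (1391, 1240), (1392, 1578), (1393, 1198), (1394, 1199), (1395, 1237), (1396, 1581), (1397, 1206), (1398, 1207), (1399, 1585), (1400, 1312), (1401, 1589), (1402, 1205), (1403, 1582),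 (1404, 1593), (1405, 1405), (1406, 1596), (1407, 1599)]
    ⟨e3 q1344 L11705 q1278, e3 q1345 L11715 q1170, e3 q1346 L11725 q1171, e3 q1347 L13312 q1525, e3 q1348 L11740 q1173, e3 q1349 L11750 q1174, e3 q1350 L11762 q1350, e3 q1351 L13365 q1530, e3 q1352 L11780 q1352, e3 q1353 (flp_h L13286) q1521, e3 q1354 L13407 q1535, e3 q1355 (flp_h L13301) q1523, e3 q1356 L13441 q1539, e3 q1357 (flp_h L11815) q1172, e3 q1358 (flp_h L13326) q1526, e3 q1359 L11839 q1177, e3 q1360 L11849 q1178, e3 q1361 L13477 q1543, e3 q1362 (flp_h L13463) q1541, e3 q1363 L13529 q1548, e3 q1364 L11886 q1270, e3 q1365 L13547 q1550, e3 q1366 (flp_h L11903) q1179, e3 q1367 L13579 q1554, e3 q1368 L11923 q1368, e3 q1369 L13605 q1557, e3 q1370 L13629 q1560, e3 q1371 (flp_h L11938) q1182, e3 q1372 L11953 q1372, e3 q1373 L13653 q1563, e3 q1374 L13660 q1564, e3 q1375 (flp_h L11972) q1184, e3 q1376 (flp_h L13562) q1551, e3 q1377 L11996 q1232, e3 q1378 L12006 q1267, e3 q1379 L12020 q1230, e3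 q1380 L12032 q1247, e3 q1381 L12044 q1250, e3 q1382 (flp_h L12063) q1249, e3 q1383 L13751 q1572, e3 q1384 (flp_h L12072) q1192, e3 q1385 L12092 q1385, e3 q1386 L13749 q1571, e3 q1387 (flp_h L12103) q1194, e3 q1388 L13780 q1575, e3 q1389 (flp_h L13723) q1569, e3 q1390 (flp_h L12134) q1195, e3 q1391 L12154 q1240, e3 q1392 L13815 q1578, e3 q1393 (flp_h L12164) q1198, e3 q1394 (flp_h L12172) q1199, e3 q1395 L12192 q1237, e3 q1396 L13842 q1581, e3 q1397 L12210 q1206, e3 q1398 L12221 q1207, e3 q1399 L13885 q1585, e3 q1400 L12242 q1312, e3 q1401 L13926 q1589, e3 q1402 (flp_h L12256) q1205, e3 q1403 (flp_h L13860) q1582, e3 q1404 L13959 q1593, e3 q1405 L12286 q1405, e3 q1406 L13986 q1596, e3 q1407 L14005 q1599, trivial⟩ (by decide +kernel)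

theorem ce_h_22 : ∀ r, r < 64 → sm gh (Qf (1408 + r)) = Qf (tab Gen.h (1408 + r)) :=
  edges_tab (sm gh) Qf (tab Gen.h) 1408 [(1408, 1209), (1409, 1409), (1410, 1602), (1411, 1603), (1412, 1211), (1413, 1590), (1414, 1607), (1415, 1415), (1416, 1609), (1417, 1612), (1418, 1215), (1419, 1419), (1420, 1615), (1421, 1616), (1422, 1217), (1423, 1229), (1424, 1620), (1425, 1623), (1426, 1220), (1427, 1255), (1428, 1627), (1429, 1222), (1430, 1631), (1431, 1632), (1432, 1223), (1433, 1613), (1434, 1635), (1435, 1226), (1436, 1227), (1437, 1617), (1438, 1567), (1439, 1566), (1440, 1642), (1441, 1576), (1442, 1233), (1443, 1577), (1444, 1236), (1445, 1643), (1446, 1241), (1447, 1645), (1448, 1244), (1449, 1568), (1450, 1246), (1451, 1636), (1452, 1650), (1453, 1252), (1454, 1653), (1455, 1654), (1456, 1253), (1457, 1457), (1458, 1657), (1459, 1658), (1460, 1256), (1461, 1316), (1462, 1462), (1463, 1663), (1464, 1258), (1465, 1259), (1466, 1466), (1467, 1262),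 (1468, 1272), (1469, 1469), (1470, 1470), (1471, 1545)]
    ⟨e3 q1408 (flp_h L12303) q1209, e3 q1409 L12316 q1409, e3 q1410 L14026 q1602, e3 q1411 L14033 q1603, e3 q1412 (flp_h L12332) q1211, e3 q1413 (flp_h L13939) q1590, e3 q1414 L14070 q1607, e3 q1415 L12362 q1415, e3 q1416 L14085 q1609, e3 q1417 L14109 q1612, e3 q1418 (flp_h L12384) q1215, e3 q1419 L12400 q1419, e3 q1420 L14133 q1615, e3 q1421 L14138 q1616, e3 q1422 (flp_h L12419) q1217, e3 q1423 L12430 q1229, e3 q1424 L14167 q1620, e3 q1425 L14191 q1623, e3 q1426 (flp_h L12446) q1220, e3 q1427 L12463 q1255, e3 q1428 L14219 q1627, e3 q1429 (flp_h L12474) q1222, e3 q1430 L14245 q1631, e3 q1431 L14251 q1632, e3 q1432 (flp_h L12492) q1223, e3 q1433 (flp_h L14122) q1613, e3 q1434 L14274 q1635, e3 q1435 (flp_h L12514) q1226, e3 q1436 (flp_h L12519) q1227, e3 q1437 (flp_h L14151) q1617, e3 q1438 (flp_h L13696) q1567, e3 q1439 (flp_h L13682) q1566, e3 q1440 L14335 q1642, e3 q1441 (flp_h L13801) q1576,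 e3 q1442 (flp_h L12580) q1233, e3 q1443 L13813 q1577, e3 q1444 (flp_h L12595) q1236, e3 q1445 L14343 q1643, e3 q1446 (flp_h L12608) q1241, e3 q1447 L14355 q1645, e3 q1448 (flp_h L12622) q1244, e3 q1449 (flp_h L13708) q1568, e3 q1450 (flp_h L12636) q1246, e3 q1451 (flp_h L14286) q1636, e3 q1452 L14393 q1650, e3 q1453 (flp_h L12656) q1252, e3 q1454 L14420 q1653, e3 q1455 L14428 q1654, e3 q1456 (flp_h L12682) q1253, e3 q1457 L12696 q1457, e3 q1458 L14453 q1657, e3 q1459 L14461 q1658, e3 q1460 (flp_h L12714) q1256, e3 q1461 L12725 q1316, e3 q1462 L12734 q1462, e3 q1463 L14497 q1663, e3 q1464 (flp_h L12744) q1258, e3 q1465 (flp_h L12751) q1259, e3 q1466 L12764 q1466, e3 q1467 (flp_h L12765) q1262, e3 q1468 L12777 q1272, e3 q1469 L12786 q1469, e3 q1470 L12794 q1470, e3 q1471 (flp_h L13503) q1545, trivial⟩ (by decide +kernel)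

theorem ce_h_23 : ∀ r, r < 64 → sm gh (Qf (1472 + r)) = Qf (tab Gen.h (1472 + r)) :=
  edges_tab (sm gh) Qf (tab Gen.h) 1472 [(1472, 1266), (1473, 1664), (1474, 1668), (1475, 1475), (1476, 1299), (1477, 1300), (1478, 1313), (1479, 1296), (1480, 1295), (1481, 1679), (1482, 1682), (1483, 1279), (1484, 1484), (1485, 1685), (1486, 1281), (1487, 1681), (1488, 1680), (1489, 1282), (1490, 1289), (1491, 1310), (1492, 1285), (1493, 1286), (1494, 1307), (1495, 1677), (1496, 1687), (1497, 1691), (1498, 1291), (1499, 1676), (1500, 1675), (1501, 1292), (1502, 1674), (1503, 1693), (1504, 1694), (1505, 1302), (1506, 1628), (1507, 1304), (1508, 1305), (1509, 1697), (1510, 1586), (1511, 1314), (1512, 1659), (1513, 1661), (1514, 1514), (1515, 1339), (1516, 1338), (1517, 1337), (1518, 1334), (1519, 1333), (1520, 1330), (1521, 1353), (1522, 1705), (1523, 1355), (1524, 1709), (1525, 1347), (1526, 1358), (1527, 1713), (1528, 1528), (1529, 1715), (1530, 1351), (1531, 1719),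 (1532, 1702), (1533, 1722), (1534, 1725), (1535, 1354)]
    ⟨e3 q1472 (flp_h L12804) q1266, e3 q1473 (flp_h L14510) q1664, e3 q1474 (flp_h L14541) q1668, e3 q1475 L12828 q1475, e3 q1476 L12836 q1299, e3 q1477 L12850 q1300, e3 q1478 L12861 q1313, e3 q1479 L12870 q1296, e3 q1480 L12886 q1295, e3 q1481 L14635 q1679, e3 q1482 L14676 q1682, e3 q1483 (flp_h L12909) q1279, e3 q1484 L12927 q1484, e3 q1485 L14705 q1685, e3 q1486 (flp_h L12937) q1281, e3 q1487 L14674 q1681, e3 q1488 L14659 q1680, e3 q1489 (flp_h L12958) q1282, e3 q1490 L12974 q1289, e3 q1491 (flp_h L12987) q1310, e3 q1492 (flp_h L12989) q1285, e3 q1493 (flp_h L13002) q1286, e3 q1494 L13025 q1307, e3 q1495 L14625 q1677, e3 q1496 (flp_h L14732) q1687, e3 q1497 L14768 q1691, e3 q1498 (flp_h L13055) q1291, e3 q1499 (flp_h L14610) q1676, e3 q1500 (flp_h L14592) q1675, e3 q1501 (flp_h L13089) q1292, e3 q1502 (flp_h L14582) q1674, e3 q1503 L14781 q1693, e3 q1504 L14788 q1694, e3 q1505 (flp_h L13112)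 q1302, e3 q1506 (flp_h L14230) q1628, e3 q1507 (flp_h L13123) q1304, e3 q1508 (flp_h L13131) q1305, e3 q1509 L14807 q1697, e3 q1510 (flp_h L13903) q1586, e3 q1511 (flp_h L13153) q1314, e3 q1512 (flp_h L14474) q1659, e3 q1513 (flp_h L14488) q1661, e3 q1514 L13177 q1514, e3 q1515 L13187 q1339, e3 q1516 L13207 q1338, e3 q1517 L13221 q1337, e3 q1518 (flp_h L13243) q1334, e3 q1519 (flp_h L13260) q1333, e3 q1520 (flp_h L13262) q1330, e3 q1521 L13286 q1353, e3 q1522 L14859 q1705, e3 q1523 L13301 q1355, e3 q1524 L14892 q1709, e3 q1525 (flp_h L13312) q1347, e3 q1526 L13326 q1358, e3 q1527 L14933 q1713, e3 q1528 L13348 q1528, e3 q1529 L14955 q1715, e3 q1530 (flp_h L13365) q1351, e3 q1531 L14995 q1719, e3 q1532 (flp_h L14841) q1702, e3 q1533 L15020 q1722, e3 q1534 L15045 q1725, e3 q1535 (flp_h L13407) q1354, trivial⟩ (by decide +kernel)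

theorem ce_h_24 : ∀ r, r < 64 → sm gh (Qf (1536 + r)) = Qf (tab Gen.h (1536 + r)) :=
  edges_tab (sm gh) Qf (tab Gen.h) 1536 [(1536, 1706), (1537, 1728), (1538, 1729), (1539, 1356), (1540, 1716), (1541, 1362), (1542, 1733), (1543, 1361), (1544, 1737), (1545, 1471), (1546, 1739), (1547, 1741), (1548, 1363), (1549, 1743), (1550, 1365), (1551, 1376), (1552, 1747), (1553, 1750), (1554, 1367), (1555, 1555), (1556, 1754), (1557, 1369), (1558, 1758), (1559, 1759), (1560, 1370), (1561, 1742), (1562, 1762), (1563, 1373), (1564, 1374), (1565, 1744), (1566, 1439), (1567, 1438), (1568, 1449), (1569, 1389), (1570, 1770), (1571, 1386), (1572, 1383), (1573, 1769), (1574, 1768), (1575, 1388), (1576, 1441), (1577, 1443), (1578, 1392), (1579, 1763), (1580, 1778), (1581, 1396), (1582, 1403), (1583, 1781), (1584, 1784), (1585, 1399), (1586, 1510), (1587, 1787), (1588, 1788), (1589, 1401), (1590, 1413), (1591, 1792), (1592, 1795), (1593, 1404), (1594, 1594), (1595, 1799),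 (1596, 1406), (1597, 1803), (1598, 1804), (1599, 1407)]
    ⟨e3 q1536 (flp_h L14873) q1706, e3 q1537 L15068 q1728, e3 q1538 L15077 q1729, e3 q1539 (flp_h L13441) q1356, e3 q1540 (flp_h L14974) q1716, e3 q1541 L13463 q1362, e3 q1542 L15111 q1733, e3 q1543 (flp_h L13477) q1361, e3 q1544 L15153 q1737, e3 q1545 L13503 q1471, e3 q1546 L15170 q1739, e3 q1547 L15189 q1741, e3 q1548 (flp_h L13529) q1363, e3 q1549 L15208 q1743, e3 q1550 (flp_h L13547) q1365, e3 q1551 L13562 q1376, e3 q1552 L15244 q1747, e3 q1553 L15272 q1750, e3 q1554 (flp_h L13579) q1367, e3 q1555 L13596 q1555, e3 q1556 L15303 q1754, e3 q1557 (flp_h L13605) q1369, e3 q1558 L15331 q1758, e3 q1559 L15339 q1759, e3 q1560 (flp_h L13629) q1370, e3 q1561 (flp_h L15206) q1742, e3 q1562 L15364 q1762, e3 q1563 (flp_h L13653) q1373, e3 q1564 (flp_h L13660) q1374, e3 q1565 (flp_h L15228) q1744, e3 q1566 L13682 q1439, e3 q1567 L13696 q1438, e3 q1568 L13708 q1449, e3 q1569 L13723 q1389, e3 q1570 L15456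 q1770, e3 q1571 (flp_h L13749) q1386, e3 q1572 (flp_h L13751) q1383, e3 q1573 L15454 q1769, e3 q1574 (flp_h L15435) q1768, e3 q1575 (flp_h L13780) q1388, e3 q1576 L13801 q1441, e3 q1577 (flp_h L13813) q1443, e3 q1578 (flp_h L13815) q1392, e3 q1579 (flp_h L15377) q1763, e3 q1580 L15536 q1778, e3 q1581 (flp_h L13842) q1396, e3 q1582 L13860 q1403, e3 q1583 L15569 q1781, e3 q1584 L15600 q1784, e3 q1585 (flp_h L13885) q1399, e3 q1586 L13903 q1510, e3 q1587 L15631 q1787, e3 q1588 L15638 q1788, e3 q1589 (flp_h L13926) q1401, e3 q1590 L13939 q1413, e3 q1591 L15675 q1792, e3 q1592 L15700 q1795, e3 q1593 (flp_h L13959) q1404, e3 q1594 L13974 q1594, e3 q1595 L15732 q1799, e3 q1596 (flp_h L13986) q1406, e3 q1597 L15762 q1803, e3 q1598 L15768 q1804, e3 q1599 (flp_h L14005) q1407, trivial⟩ (by decide +kernel)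

theorem ce_h_25 : ∀ r, r < 64 → sm gh (Qf (1600 + r)) = Qf (tab Gen.h (1600 + r)) :=
  edges_tab (sm gh) Qf (tab Gen.h) 1600 [(1600, 1785), (1601, 1807), (1602, 1410), (1603, 1411), (1604, 1789), (1605, 1813), (1606, 1815), (1607, 1414), (1608, 1819), (1609, 1416), (1610, 1823), (1611, 1824), (1612, 1417), (1613, 1433), (1614, 1826), (1615, 1420), (1616, 1421), (1617, 1437), (1618, 1820), (1619, 1833), (1620, 1424), (1621, 1836), (1622, 1837), (1623, 1425), (1624, 1816), (1625, 1841), (1626, 1842), (1627, 1428), (1628, 1506), (1629, 1821), (1630, 1848), (1631, 1430), (1632, 1431), (1633, 1825), (1634, 1827), (1635, 1434), (1636, 1451), (1637, 1828), (1638, 1829), (1639, 1767), (1640, 1766), (1641, 1772), (1642, 1440), (1643, 1445), (1644, 1856), (1645, 1447), (1646, 1849), (1647, 1853), (1648, 1861), (1649, 1862), (1650, 1452), (1651, 1651), (1652, 1864), (1653, 1454), (1654, 1455), (1655, 1655), (1656, 1868), (1657, 1458), (1658, 1459), (1659, 1512),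 (1660, 1660), (1661, 1513), (1662, 1796), (1663, 1463)]
    ⟨e3 q1600 (flp_h L15619) q1785, e3 q1601 L15790 q1807, e3 q1602 (flp_h L14026) q1410, e3 q1603 (flp_h L14033) q1411, e3 q1604 (flp_h L15653) q1789, e3 q1605 L15842 q1813, e3 q1606 L15860 q1815, e3 q1607 (flp_h L14070) q1414, e3 q1608 L15896 q1819, e3 q1609 (flp_h L14085) q1416, e3 q1610 L15929 q1823, e3 q1611 L15935 q1824, e3 q1612 (flp_h L14109) q1417, e3 q1613 L14122 q1433, e3 q1614 L15954 q1826, e3 q1615 (flp_h L14133) q1420, e3 q1616 (flp_h L14138) q1421, e3 q1617 L14151 q1437, e3 q1618 (flp_h L15908) q1820, e3 q1619 L16009 q1833, e3 q1620 (flp_h L14167) q1424, e3 q1621 L16035 q1836, e3 q1622 L16042 q1837, e3 q1623 (flp_h L14191) q1425, e3 q1624 (flp_h L15877) q1816, e3 q1625 L16073 q1841, e3 q1626 L16079 q1842, e3 q1627 (flp_h L14219) q1428, e3 q1628 L14230 q1506, e3 q1629 (flp_h L15915) q1821, e3 q1630 L16121 q1848, e3 q1631 (flp_h L14245) q1430, e3 q1632 (flp_h L14251) q1431, e3 q1633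 (flp_h L15952) q1825, e3 q1634 (flp_h L15967) q1827, e3 q1635 (flp_h L14274) q1434, e3 q1636 L14286 q1451, e3 q1637 (flp_h L15974) q1828, e3 q1638 (flp_h L15983) q1829, e3 q1639 (flp_h L15419) q1767, e3 q1640 (flp_h L15404) q1766, e3 q1641 (flp_h L15485) q1772, e3 q1642 (flp_h L14335) q1440, e3 q1643 (flp_h L14343) q1445, e3 q1644 L16180 q1856, e3 q1645 (flp_h L14355) q1447, e3 q1646 (flp_h L16135) q1849, e3 q1647 (flp_h L16164) q1853, e3 q1648 L16208 q1861, e3 q1649 L16217 q1862, e3 q1650 (flp_h L14393) q1452, e3 q1651 L14409 q1651, e3 q1652 L16235 q1864, e3 q1653 (flp_h L14420) q1454, e3 q1654 (flp_h L14428) q1455, e3 q1655 L14443 q1655, e3 q1656 L16270 q1868, e3 q1657 (flp_h L14453) q1458, e3 q1658 (flp_h L14461) q1459, e3 q1659 L14474 q1512, e3 q1660 L14483 q1660, e3 q1661 L14488 q1513, e3 q1662 (flp_h L15715) q1796, e3 q1663 (flp_h L14497) q1463, trivial⟩ (by decide +kernel)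

theorem ce_h_26 : ∀ r, r < 64 → sm gh (Qf (1664 + r)) = Qf (tab Gen.h (1664 + r)) :=
  edges_tab (sm gh) Qf (tab Gen.h) 1664 [(1664, 1473), (1665, 1665), (1666, 1666), (1667, 1667), (1668, 1474), (1669, 1765), (1670, 1865), (1671, 1878), (1672, 1880), (1673, 1673), (1674, 1502), (1675, 1500), (1676, 1499), (1677, 1495), (1678, 1890), (1679, 1481), (1680, 1488), (1681, 1487), (1682, 1482), (1683, 1889), (1684, 1888), (1685, 1485), (1686, 1800), (1687, 1496), (1688, 1887), (1689, 1886), (1690, 1885), (1691, 1497), (1692, 1894), (1693, 1503), (1694, 1504), (1695, 1843), (1696, 1845), (1697, 1509), (1698, 1871), (1699, 1873), (1700, 1875), (1701, 1904), (1702, 1532), (1703, 1907), (1704, 1910), (1705, 1522), (1706, 1536), (1707, 1913), (1708, 1914), (1709, 1524), (1710, 1710), (1711, 1917), (1712, 1919), (1713, 1527), (1714, 1921), (1715, 1529), (1716, 1540), (1717, 1925), (1718, 1928), (1719, 1531), (1720, 1905), (1721, 1932), (1722, 1533), (1723, 1936),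 (1724, 1937), (1725, 1534), (1726, 1920), (1727, 1940)]
    ⟨e3 q1664 L14510 q1473, e3 q1665 L14519 q1665, e3 q1666 L14527 q1666, e3 q1667 L14536 q1667, e3 q1668 L14541 q1474, e3 q1669 (flp_h L15393) q1765, e3 q1670 (flp_h L16250) q1865, e3 q1671 (flp_h L16347) q1878, e3 q1672 (flp_h L16360) q1880, e3 q1673 L14572 q1673, e3 q1674 L14582 q1502, e3 q1675 L14592 q1500, e3 q1676 L14610 q1499, e3 q1677 (flp_h L14625) q1495, e3 q1678 L16465 q1890, e3 q1679 (flp_h L14635) q1481, e3 q1680 (flp_h L14659) q1488, e3 q1681 (flp_h L14674) q1487, e3 q1682 (flp_h L14676) q1482, e3 q1683 L16463 q1889, e3 q1684 L16448 q1888, e3 q1685 (flp_h L14705) q1485, e3 q1686 (flp_h L15746) q1800, e3 q1687 L14732 q1496, e3 q1688 (flp_h L16427) q1887, e3 q1689 (flp_h L16414) q1886, e3 q1690 (flp_h L16397) q1885, e3 q1691 (flp_h L14768) q1497, e3 q1692 L16501 q1894, e3 q1693 (flp_h L14781) q1503, e3 q1694 (flp_h L14788) q1504, e3 q1695 (flp_h L16092) q1843, e3 q1696 (flp_h L16105)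 q1845, e3 q1697 (flp_h L14807) q1509, e3 q1698 (flp_h L16299) q1871, e3 q1699 (flp_h L16313) q1873, e3 q1700 (flp_h L16326) q1875, e3 q1701 L16559 q1904, e3 q1702 L14841 q1532, e3 q1703 L16586 q1907, e3 q1704 L16608 q1910, e3 q1705 (flp_h L14859) q1522, e3 q1706 L14873 q1536, e3 q1707 L16633 q1913, e3 q1708 L16640 q1914, e3 q1709 (flp_h L14892) q1524, e3 q1710 L14908 q1710, e3 q1711 L16671 q1917, e3 q1712 L16695 q1919, e3 q1713 (flp_h L14933) q1527, e3 q1714 L16718 q1921, e3 q1715 (flp_h L14955) q1529, e3 q1716 L14974 q1540, e3 q1717 L16761 q1925, e3 q1718 L16790 q1928, e3 q1719 (flp_h L14995) q1531, e3 q1720 (flp_h L16575) q1905, e3 q1721 L16825 q1932, e3 q1722 (flp_h L15020) q1533, e3 q1723 L16857 q1936, e3 q1724 L16865 q1937, e3 q1725 (flp_h L15045) q1534, e3 q1726 (flp_h L16716) q1920, e3 q1727 L16889 q1940, trivial⟩ (by decide +kernel)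

theorem ce_h_27 : ∀ r, r < 64 → sm gh (Qf (1728 + r)) = Qf (tab Gen.h (1728 + r)) :=
  edges_tab (sm gh) Qf (tab Gen.h) 1728 [(1728, 1537), (1729, 1538), (1730, 1922), (1731, 1945), (1732, 1946), (1733, 1542), (1734, 1734), (1735, 1950), (1736, 1952), (1737, 1544), (1738, 1955), (1739, 1546), (1740, 1958), (1741, 1547), (1742, 1561), (1743, 1549), (1744, 1565), (1745, 1962), (1746, 1965), (1747, 1552), (1748, 1969), (1749, 1970), (1750, 1553), (1751, 1953), (1752, 1974), (1753, 1975), (1754, 1556), (1755, 1755), (1756, 1957), (1757, 1981), (1758, 1558), (1759, 1559), (1760, 1959), (1761, 1985), (1762, 1562), (1763, 1579), (1764, 1960), (1765, 1669), (1766, 1640), (1767, 1639), (1768, 1574), (1769, 1573), (1770, 1570), (1771, 1993), (1772, 1641), (1773, 1982), (1774, 1986), (1775, 1988), (1776, 1998), (1777, 1999), (1778, 1580), (1779, 1779), (1780, 2003), (1781, 1583), (1782, 2006), (1783, 2007), (1784, 1584), (1785, 1600), (1786, 2009), (1787, 1587),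 (1788, 1588), (1789, 1604), (1790, 2014), (1791, 2017)]
    ⟨e3 q1728 (flp_h L15068) q1537, e3 q1729 (flp_h L15077) q1538, e3 q1730 (flp_h L16739) q1922, e3 q1731 L16933 q1945, e3 q1732 L16944 q1946, e3 q1733 (flp_h L15111) q1542, e3 q1734 L15131 q1734, e3 q1735 L16986 q1950, e3 q1736 L17008 q1952, e3 q1737 (flp_h L15153) q1544, e3 q1738 L17039 q1955, e3 q1739 (flp_h L15170) q1546, e3 q1740 L17060 q1958, e3 q1741 (flp_h L15189) q1547, e3 q1742 L15206 q1561, e3 q1743 (flp_h L15208) q1549, e3 q1744 L15228 q1565, e3 q1745 L17103 q1962, e3 q1746 L17129 q1965, e3 q1747 (flp_h L15244) q1552, e3 q1748 L17166 q1969, e3 q1749 L17175 q1970, e3 q1750 (flp_h L15272) q1553, e3 q1751 (flp_h L17027) q1953, e3 q1752 L17207 q1974, e3 q1753 L17215 q1975, e3 q1754 (flp_h L15303) q1556, e3 q1755 L15313 q1755, e3 q1756 (flp_h L17058) q1957, e3 q1757 L17260 q1981, e3 q1758 (flp_h L15331) q1558, e3 q1759 (flp_h L15339) q1559, e3 q1760 (flp_h L17082) q1959, e3 q1761 L17295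 q1985, e3 q1762 (flp_h L15364) q1562, e3 q1763 L15377 q1579, e3 q1764 (flp_h L17095) q1960, e3 q1765 L15393 q1669, e3 q1766 L15404 q1640, e3 q1767 L15419 q1639, e3 q1768 L15435 q1574, e3 q1769 (flp_h L15454) q1573, e3 q1770 (flp_h L15456) q1570, e3 q1771 L17377 q1993, e3 q1772 L15485 q1641, e3 q1773 (flp_h L17275) q1982, e3 q1774 (flp_h L17313) q1986, e3 q1775 (flp_h L17330) q1988, e3 q1776 L17415 q1998, e3 q1777 L17424 q1999, e3 q1778 (flp_h L15536) q1580, e3 q1779 L15556 q1779, e3 q1780 L17469 q2003, e3 q1781 (flp_h L15569) q1583, e3 q1782 L17505 q2006, e3 q1783 L17513 q2007, e3 q1784 (flp_h L15600) q1584, e3 q1785 L15619 q1600, e3 q1786 L17536 q2009, e3 q1787 (flp_h L15631) q1587, e3 q1788 (flp_h L15638) q1588, e3 q1789 L15653 q1604, e3 q1790 L17581 q2014, e3 q1791 L17612 q2017, trivial⟩ (by decide +kernel)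

theorem ce_h_28 : ∀ r, r < 64 → sm gh (Qf (1792 + r)) = Qf (tab Gen.h (1792 + r)) :=
  edges_tab (sm gh) Qf (tab Gen.h) 1792 [(1792, 1591), (1793, 2021), (1794, 2022), (1795, 1592), (1796, 1662), (1797, 2026), (1798, 2027), (1799, 1595), (1800, 1686), (1801, 2004), (1802, 2033), (1803, 1597), (1804, 1598), (1805, 2008), (1806, 2037), (1807, 1601), (1808, 1808), (1809, 2011), (1810, 2012), (1811, 2018), (1812, 2044), (1813, 1605), (1814, 2046), (1815, 1606), (1816, 1624), (1817, 2050), (1818, 2051), (1819, 1608), (1820, 1618), (1821, 1629), (1822, 2055), (1823, 1610), (1824, 1611), (1825, 1633), (1826, 1614), (1827, 1634), (1828, 1637), (1829, 1638), (1830, 2052), (1831, 2063), (1832, 2064), (1833, 1619), (1834, 2045), (1835, 2066), (1836, 1621), (1837, 1622), (1838, 2047), (1839, 2070), (1840, 2072), (1841, 1625), (1842, 1626), (1843, 1695), (1844, 2053), (1845, 1696), (1846, 2019), (1847, 2056), (1848, 1630), (1849, 1646), (1850, 2057), (1851, 2058),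 (1852, 2059), (1853, 1647), (1854, 1987), (1855, 2067)]
    ⟨e3 q1792 (flp_h L15675) q1591, e3 q1793 L17649 q2021, e3 q1794 L17656 q2022, e3 q1795 (flp_h L15700) q1592, e3 q1796 L15715 q1662, e3 q1797 L17690 q2026, e3 q1798 L17698 q2027, e3 q1799 (flp_h L15732) q1595, e3 q1800 L15746 q1686, e3 q1801 (flp_h L17492) q2004, e3 q1802 L17746 q2033, e3 q1803 (flp_h L15762) q1597, e3 q1804 (flp_h L15768) q1598, e3 q1805 (flp_h L17534) q2008, e3 q1806 L17774 q2037, e3 q1807 (flp_h L15790) q1601, e3 q1808 L15803 q1808, e3 q1809 (flp_h L17556) q2011, e3 q1810 (flp_h L17566) q2012, e3 q1811 (flp_h L17628) q2018, e3 q1812 L17836 q2044, e3 q1813 (flp_h L15842) q1605, e3 q1814 L17855 q2046, e3 q1815 (flp_h L15860) q1606, e3 q1816 L15877 q1624, e3 q1817 L17900 q2050, e3 q1818 L17906 q2051, e3 q1819 (flp_h L15896) q1608, e3 q1820 L15908 q1618, e3 q1821 L15915 q1629, e3 q1822 L17940 q2055, e3 q1823 (flp_h L15929) q1610, e3 q1824 (flp_h L15935) q1611, e3 q1825 L15952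 q1633, e3 q1826 (flp_h L15954) q1614, e3 q1827 L15967 q1634, e3 q1828 L15974 q1637, e3 q1829 L15983 q1638, e3 q1830 (flp_h L17922) q2052, e3 q1831 L18013 q2063, e3 q1832 L18021 q2064, e3 q1833 (flp_h L16009) q1619, e3 q1834 (flp_h L17853) q2045, e3 q1835 L18038 q2066, e3 q1836 (flp_h L16035) q1621, e3 q1837 (flp_h L16042) q1622, e3 q1838 (flp_h L17874) q2047, e3 q1839 L18075 q2070, e3 q1840 L18086 q2072, e3 q1841 (flp_h L16073) q1625, e3 q1842 (flp_h L16079) q1626, e3 q1843 L16092 q1695, e3 q1844 (flp_h L17930) q2053, e3 q1845 L16105 q1696, e3 q1846 (flp_h L17637) q2019, e3 q1847 (flp_h L17957) q2056, e3 q1848 (flp_h L16121) q1630, e3 q1849 L16135 q1646, e3 q1850 (flp_h L17965) q2057, e3 q1851 (flp_h L17977) q2058, e3 q1852 (flp_h L17986) q2059, e3 q1853 L16164 q1647, e3 q1854 (flp_h L17322) q1987, e3 q1855 (flp_h L18054) q2067, trivial⟩ (by decide +kernel)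

theorem ce_h_29 : ∀ r, r < 64 → sm gh (Qf (1856 + r)) = Qf (tab Gen.h (1856 + r)) :=
  edges_tab (sm gh) Qf (tab Gen.h) 1856 [(1856, 1644), (1857, 2087), (1858, 2082), (1859, 2084), (1860, 2092), (1861, 1648), (1862, 1649), (1863, 1863), (1864, 1652), (1865, 1670), (1866, 1866), (1867, 1867), (1868, 1656), (1869, 1869), (1870, 1870), (1871, 1698), (1872, 1872), (1873, 1699), (1874, 2023), (1875, 1700), (1876, 1929), (1877, 1877), (1878, 1671), (1879, 1984), (1880, 1672), (1881, 1943), (1882, 2097), (1883, 2110), (1884, 2108), (1885, 1690), (1886, 1689), (1887, 1688), (1888, 1684), (1889, 1683), (1890, 1678), (1891, 2116), (1892, 2028), (1893, 2030), (1894, 1692), (1895, 2119), (1896, 2075), (1897, 2077), (1898, 2079), (1899, 2069), (1900, 2104), (1901, 2106), (1902, 2127), (1903, 2130), (1904, 1701), (1905, 1720), (1906, 2132), (1907, 1703), (1908, 2135), (1909, 2136), (1910, 1704), (1911, 1911), (1912, 2138), (1913, 1707), (1914, 1708), (1915, 1915),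 (1916, 2143), (1917, 1711), (1918, 2146), (1919, 1712)]
    ⟨e3 q1856 (flp_h L16180) q1644, e3 q1857 (flp_h L18190) q2087, e3 q1858 (flp_h L18157) q2082, e3 q1859 (flp_h L18171) q2084, e3 q1860 L18216 q2092, e3 q1861 (flp_h L16208) q1648, e3 q1862 (flp_h L16217) q1649, e3 q1863 L16234 q1863, e3 q1864 (flp_h L16235) q1652, e3 q1865 L16250 q1670, e3 q1866 L16260 q1866, e3 q1867 L16269 q1867, e3 q1868 (flp_h L16270) q1656, e3 q1869 L16283 q1869, e3 q1870 L16292 q1870, e3 q1871 L16299 q1698, e3 q1872 L16309 q1872, e3 q1873 L16313 q1699, e3 q1874 (flp_h L17673) q2023, e3 q1875 L16326 q1700, e3 q1876 (flp_h L16805) q1929, e3 q1877 L16343 q1877, e3 q1878 L16347 q1671, e3 q1879 (flp_h L17293) q1984, e3 q1880 L16360 q1672, e3 q1881 (flp_h L16921) q1943, e3 q1882 (flp_h L18267) q2097, e3 q1883 (flp_h L18356) q2110, e3 q1884 (flp_h L18344) q2108, e3 q1885 L16397 q1690, e3 q1886 L16414 q1689, e3 q1887 L16427 q1688, e3 q1888 (flp_h L16448) q1684, e3 q1889 (flp_h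 L16463) q1683, e3 q1890 (flp_h L16465) q1678, e3 q1891 L18396 q2116, e3 q1892 (flp_h L17714) q2028, e3 q1893 (flp_h L17730) q2030, e3 q1894 (flp_h L16501) q1692, e3 q1895 (flp_h L18417) q2119, e3 q1896 (flp_h L18109) q2075, e3 q1897 (flp_h L18122) q2077, e3 q1898 (flp_h L18136) q2079, e3 q1899 (flp_h L18073) q2069, e3 q1900 (flp_h L18316) q2104, e3 q1901 (flp_h L18329) q2106, e3 q1902 L18462 q2127, e3 q1903 L18503 q2130, e3 q1904 (flp_h L16559) q1701, e3 q1905 L16575 q1720, e3 q1906 L18522 q2132, e3 q1907 (flp_h L16586) q1703, e3 q1908 L18544 q2135, e3 q1909 L18551 q2136, e3 q1910 (flp_h L16608) q1704, e3 q1911 L16624 q1911, e3 q1912 L18569 q2138, e3 q1913 (flp_h L16633) q1707, e3 q1914 (flp_h L16640) q1708, e3 q1915 L16657 q1915, e3 q1916 L18616 q2143, e3 q1917 (flp_h L16671) q1711, e3 q1918 L18652 q2146, e3 q1919 (flp_h L16695) q1712, trivial⟩ (by decide +kernel)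

theorem ce_h_30 : ∀ r, r < 64 → sm gh (Qf (1920 + r)) = Qf (tab Gen.h (1920 + r)) :=
  edges_tab (sm gh) Qf (tab Gen.h) 1920 [(1920, 1726), (1921, 1714), (1922, 1730), (1923, 2151), (1924, 2154), (1925, 1717), (1926, 2158), (1927, 2159), (1928, 1718), (1929, 1876), (1930, 2163), (1931, 2164), (1932, 1721), (1933, 1933), (1934, 2145), (1935, 2170), (1936, 1723), (1937, 1724), (1938, 2147), (1939, 2174), (1940, 1727), (1941, 1941), (1942, 2149), (1943, 1881), (1944, 2180), (1945, 1731), (1946, 1732), (1947, 1947), (1948, 2185), (1949, 2187), (1950, 1735), (1951, 2190), (1952, 1736), (1953, 1751), (1954, 2193), (1955, 1738), (1956, 1956), (1957, 1756), (1958, 1740), (1959, 1760), (1960, 1764), (1961, 2201), (1962, 1745), (1963, 2205), (1964, 2206), (1965, 1746), (1966, 1966), (1967, 2189), (1968, 2210), (1969, 1748), (1970, 1749), (1971, 2191), (1972, 2215), (1973, 2217), (1974, 1752), (1975, 1753), (1976, 1976), (1977, 2195), (1978, 1978), (1979, 2226),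 (1980, 2227), (1981, 1757), (1982, 1773), (1983, 2198)]
    ⟨e3 q1920 L16716 q1726, e3 q1921 (flp_h L16718) q1714, e3 q1922 L16739 q1730, e3 q1923 L18711 q2151, e3 q1924 L18741 q2154, e3 q1925 (flp_h L16761) q1717, e3 q1926 L18776 q2158, e3 q1927 L18785 q2159, e3 q1928 (flp_h L16790) q1718, e3 q1929 L16805 q1876, e3 q1930 L18820 q2163, e3 q1931 L18830 q2164, e3 q1932 (flp_h L16825) q1721, e3 q1933 L16838 q1933, e3 q1934 (flp_h L18650) q2145, e3 q1935 L18879 q2170, e3 q1936 (flp_h L16857) q1723, e3 q1937 (flp_h L16865) q1724, e3 q1938 (flp_h L18675) q2147, e3 q1939 L18911 q2174, e3 q1940 (flp_h L16889) q1727, e3 q1941 L16903 q1941, e3 q1942 (flp_h L18699) q2149, e3 q1943 L16921 q1881, e3 q1944 L18963 q2180, e3 q1945 (flp_h L16933) q1731, e3 q1946 (flp_h L16944) q1732, e3 q1947 L16963 q1947, e3 q1948 L19016 q2185, e3 q1949 L19040 q2187, e3 q1950 (flp_h L16986) q1735, e3 q1951 L19067 q2190, e3 q1952 (flp_h L17008) q1736, e3 q1953 L17027 q1751, e3 q1954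 L19106 q2193, e3 q1955 (flp_h L17039) q1738, e3 q1956 L17050 q1956, e3 q1957 L17058 q1756, e3 q1958 (flp_h L17060) q1740, e3 q1959 L17082 q1760, e3 q1960 L17095 q1764, e3 q1961 L19178 q2201, e3 q1962 (flp_h L17103) q1745, e3 q1963 L19220 q2205, e3 q1964 L19230 q2206, e3 q1965 (flp_h L17129) q1746, e3 q1966 L17143 q1966, e3 q1967 (flp_h L19065) q2189, e3 q1968 L19263 q2210, e3 q1969 (flp_h L17166) q1748, e3 q1970 (flp_h L17175) q1749, e3 q1971 (flp_h L19091) q2191, e3 q1972 L19321 q2215, e3 q1973 L19341 q2217, e3 q1974 (flp_h L17207) q1752, e3 q1975 (flp_h L17215) q1753, e3 q1976 L17227 q1976, e3 q1977 (flp_h L19133) q2195, e3 q1978 L17238 q1978, e3 q1979 L19402 q2226, e3 q1980 L19407 q2227, e3 q1981 (flp_h L17260) q1757, e3 q1982 L17275 q1773, e3 q1983 (flp_h L19160) q2198, trivial⟩ (by decide +kernel)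

theorem ce_h_31 : ∀ r, r < 64 → sm gh (Qf (1984 + r)) = Qf (tab Gen.h (1984 + r)) :=
  edges_tab (sm gh) Qf (tab Gen.h) 1984 [(1984, 1879), (1985, 1761), (1986, 1774), (1987, 1854), (1988, 1775), (1989, 2232), (1990, 2237), (1991, 2228), (1992, 2211), (1993, 1771), (1994, 2230), (1995, 2233), (1996, 2235), (1997, 2242), (1998, 1776), (1999, 1777), (2000, 2000), (2001, 2248), (2002, 2249), (2003, 1780), (2004, 1801), (2005, 2251), (2006, 1782), (2007, 1783), (2008, 1805), (2009, 1786), (2010, 2010), (2011, 1809), (2012, 1810), (2013, 2260), (2014, 1790), (2015, 2264), (2016, 2265), (2017, 1791), (2018, 1811), (2019, 1846), (2020, 2270), (2021, 1793), (2022, 1794), (2023, 1874), (2024, 2275), (2025, 2277), (2026, 1797), (2027, 1798), (2028, 1892), (2029, 2250), (2030, 1893), (2031, 2261), (2032, 2286), (2033, 1802), (2034, 2034), (2035, 2253), (2036, 2254), (2037, 1806), (2038, 2038), (2039, 2256), (2040, 2040), (2041, 2295), (2042, 2266), (2043, 2296),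 (2044, 1812), (2045, 1834), (2046, 1814), (2047, 1838)]
    ⟨e3 q1984 L17293 q1879, e3 q1985 (flp_h L17295) q1761, e3 q1986 L17313 q1774, e3 q1987 L17322 q1854, e3 q1988 L17330 q1775, e3 q1989 (flp_h L19469) q2232, e3 q1990 L19508 q2237, e3 q1991 (flp_h L19431) q2228, e3 q1992 (flp_h L19286) q2211, e3 q1993 (flp_h L17377) q1771, e3 q1994 (flp_h L19448) q2230, e3 q1995 (flp_h L19479) q2233, e3 q1996 (flp_h L19498) q2235, e3 q1997 L19554 q2242, e3 q1998 (flp_h L17415) q1776, e3 q1999 (flp_h L17424) q1777, e3 q2000 L17445 q2000, e3 q2001 L19622 q2248, e3 q2002 L19632 q2249, e3 q2003 (flp_h L17469) q1780, e3 q2004 L17492 q1801, e3 q2005 L19659 q2251, e3 q2006 (flp_h L17505) q1782, e3 q2007 (flp_h L17513) q1783, e3 q2008 L17534 q1805, e3 q2009 (flp_h L17536) q1786, e3 q2010 L17548 q2010, e3 q2011 L17556 q1809, e3 q2012 L17566 q1810, e3 q2013 L19744 q2260, e3 q2014 (flp_h L17581) q1790, e3 q2015 L19796 q2264, e3 q2016 L19804 q2265, e3 q2017 (flp_h L17612)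 q1791, e3 q2018 L17628 q1811, e3 q2019 L17637 q1846, e3 q2020 L19861 q2270, e3 q2021 (flp_h L17649) q1793, e3 q2022 (flp_h L17656) q1794, e3 q2023 L17673 q1874, e3 q2024 L19910 q2275, e3 q2025 L19924 q2277, e3 q2026 (flp_h L17690) q1797, e3 q2027 (flp_h L17698) q1798, e3 q2028 L17714 q1892, e3 q2029 (flp_h L19657) q2250, e3 q2030 L17730 q1893, e3 q2031 (flp_h L19767) q2261, e3 q2032 L19998 q2286, e3 q2033 (flp_h L17746) q1802, e3 q2034 L17759 q2034, e3 q2035 (flp_h L19686) q2253, e3 q2036 (flp_h L19699) q2254, e3 q2037 (flp_h L17774) q1806, e3 q2038 L17788 q2038, e3 q2039 (flp_h L19716) q2256, e3 q2040 L17802 q2040, e3 q2041 L20062 q2295, e3 q2042 (flp_h L19828) q2266, e3 q2043 L20067 q2296, e3 q2044 (flp_h L17836) q1812, e3 q2045 L17853 q1834, e3 q2046 (flp_h L17855) q1814, e3 q2047 L17874 q1838, trivial⟩ (by decide +kernel)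

theorem ce_h_32 : ∀ r, r < 64 → sm gh (Qf (2048 + r)) = Qf (tab Gen.h (2048 + r)) :=
  edges_tab (sm gh) Qf (tab Gen.h) 2048 [(2048, 2299), (2049, 2300), (2050, 1817), (2051, 1818), (2052, 1830), (2053, 1844), (2054, 2268), (2055, 1822), (2056, 1847), (2057, 1850), (2058, 1851), (2059, 1852), (2060, 2234), (2061, 2305), (2062, 2303), (2063, 1831), (2064, 1832), (2065, 2297), (2066, 1835), (2067, 1855), (2068, 2298), (2069, 1899), (2070, 1839), (2071, 2308), (2072, 1840), (2073, 2316), (2074, 2302), (2075, 1896), (2076, 2304), (2077, 1897), (2078, 2267), (2079, 1898), (2080, 2156), (2081, 2307), (2082, 1858), (2083, 2229), (2084, 1859), (2085, 2176), (2086, 2314), (2087, 1857), (2088, 2313), (2089, 2334), (2090, 2329), (2091, 2331), (2092, 1860), (2093, 2093), (2094, 2094), (2095, 2095), (2096, 2096), (2097, 1882), (2098, 2213), (2099, 2099), (2100, 2100), (2101, 2101), (2102, 2102), (2103, 2351), (2104, 1900), (2105, 2273), (2106, 1901), (2107, 2272),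 (2108, 1884), (2109, 2160), (2110, 1883), (2111, 2221)]
    ⟨e3 q2048 L20100 q2299, e3 q2049 L20110 q2300, e3 q2050 (flp_h L17900) q1817, e3 q2051 (flp_h L17906) q1818, e3 q2052 L17922 q1830, e3 q2053 L17930 q1844, e3 q2054 (flp_h L19850) q2268, e3 q2055 (flp_h L17940) q1822, e3 q2056 L17957 q1847, e3 q2057 L17965 q1850, e3 q2058 L17977 q1851, e3 q2059 L17986 q1852, e3 q2060 (flp_h L19491) q2234, e3 q2061 (flp_h L20158) q2305, e3 q2062 (flp_h L20140) q2303, e3 q2063 (flp_h L18013) q1831, e3 q2064 (flp_h L18021) q1832, e3 q2065 (flp_h L20087) q2297, e3 q2066 (flp_h L18038) q1835, e3 q2067 L18054 q1855, e3 q2068 (flp_h L20098) q2298, e3 q2069 L18073 q1899, e3 q2070 (flp_h L18075) q1839, e3 q2071 (flp_h L20186) q2308, e3 q2072 (flp_h L18086) q1840, e3 q2073 (flp_h L20250) q2316, e3 q2074 (flp_h L20128) q2302, e3 q2075 L18109 q1896, e3 q2076 (flp_h L20151) q2304, e3 q2077 L18122 q1897, e3 q2078 (flp_h L19838) q2267, e3 q2079 L18136 q1898, e3 q2080 (flp_h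 L18764) q2156, e3 q2081 (flp_h L20179) q2307, e3 q2082 L18157 q1858, e3 q2083 (flp_h L19441) q2229, e3 q2084 L18171 q1859, e3 q2085 (flp_h L18936) q2176, e3 q2086 (flp_h L20237) q2314, e3 q2087 L18190 q1857, e3 q2088 (flp_h L20229) q2313, e3 q2089 (flp_h L20365) q2334, e3 q2090 (flp_h L20332) q2329, e3 q2091 (flp_h L20348) q2331, e3 q2092 (flp_h L18216) q1860, e3 q2093 L18231 q2093, e3 q2094 L18241 q2094, e3 q2095 L18251 q2095, e3 q2096 L18261 q2096, e3 q2097 L18267 q1882, e3 q2098 (flp_h L19306) q2213, e3 q2099 L18282 q2099, e3 q2100 L18292 q2100, e3 q2101 L18296 q2101, e3 q2102 L18302 q2102, e3 q2103 L20481 q2351, e3 q2104 L18316 q1900, e3 q2105 (flp_h L19895) q2273, e3 q2106 L18329 q1901, e3 q2107 (flp_h L19884) q2272, e3 q2108 L18344 q1884, e3 q2109 (flp_h L18800) q2160, e3 q2110 L18356 q1883, e3 q2111 (flp_h L19375) q2221, trivial⟩ (by decide +kernel)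

theorem ce_h_33 : ∀ r, r < 64 → sm gh (Qf (2112 + r)) = Qf (tab Gen.h (2112 + r)) :=
  edges_tab (sm gh) Qf (tab Gen.h) 2112 [(2112, 2173), (2113, 2342), (2114, 2327), (2115, 2280), (2116, 1891), (2117, 2282), (2118, 2284), (2119, 1895), (2120, 2312), (2121, 2360), (2122, 2323), (2123, 2325), (2124, 2352), (2125, 2364), (2126, 2365), (2127, 1902), (2128, 2368), (2129, 2369), (2130, 1903), (2131, 2131), (2132, 1906), (2133, 2133), (2134, 2134), (2135, 1908), (2136, 1909), (2137, 2137), (2138, 1912), (2139, 2139), (2140, 2140), (2141, 2141), (2142, 2383), (2143, 1916), (2144, 2144), (2145, 1934), (2146, 1918), (2147, 1938), (2148, 2148), (2149, 1942), (2150, 2392), (2151, 1923), (2152, 2397), (2153, 2398), (2154, 1924), (2155, 2155), (2156, 2080), (2157, 2404), (2158, 1926), (2159, 1927), (2160, 2109), (2161, 2409), (2162, 2411), (2163, 1930), (2164, 1931), (2165, 2165), (2166, 2385), (2167, 2167), (2168, 2420), (2169, 2421), (2170, 1935), (2171, 2171),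 (2172, 2388), (2173, 2112), (2174, 1939), (2175, 2175)]
    ⟨e3 q2112 (flp_h L18909) q2173, e3 q2113 (flp_h L20423) q2342, e3 q2114 (flp_h L20319) q2327, e3 q2115 (flp_h L19956) q2280, e3 q2116 (flp_h L18396) q1891, e3 q2117 (flp_h L19972) q2282, e3 q2118 (flp_h L19988) q2284, e3 q2119 L18417 q1895, e3 q2120 (flp_h L20218) q2312, e3 q2121 (flp_h L20548) q2360, e3 q2122 (flp_h L20288) q2323, e3 q2123 (flp_h L20303) q2325, e3 q2124 (flp_h L20490) q2352, e3 q2125 L20567 q2364, e3 q2126 L20577 q2365, e3 q2127 (flp_h L18462) q1902, e3 q2128 L20608 q2368, e3 q2129 L20620 q2369, e3 q2130 (flp_h L18503) q1903, e3 q2131 L18521 q2131, e3 q2132 (flp_h L18522) q1906, e3 q2133 L18535 q2133, e3 q2134 L18543 q2134, e3 q2135 (flp_h L18544) q1908, e3 q2136 (flp_h L18551) q1909, e3 q2137 L18568 q2137, e3 q2138 (flp_h L18569) q1912, e3 q2139 L18583 q2139, e3 q2140 L18591 q2140, e3 q2141 L18601 q2141, e3 q2142 L20749 q2383, e3 q2143 (flp_h L18616) q1916, e3 q2144 L18638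 q2144, e3 q2145 L18650 q1934, e3 q2146 (flp_h L18652) q1918, e3 q2147 L18675 q1938, e3 q2148 L18687 q2148, e3 q2149 L18699 q1942, e3 q2150 L20863 q2392, e3 q2151 (flp_h L18711) q1923, e3 q2152 L20916 q2397, e3 q2153 L20926 q2398, e3 q2154 (flp_h L18741) q1924, e3 q2155 L18754 q2155, e3 q2156 L18764 q2080, e3 q2157 L20980 q2404, e3 q2158 (flp_h L18776) q1926, e3 q2159 (flp_h L18785) q1927, e3 q2160 L18800 q2109, e3 q2161 L21030 q2409, e3 q2162 L21051 q2411, e3 q2163 (flp_h L18820) q1930, e3 q2164 (flp_h L18830) q1931, e3 q2165 L18845 q2165, e3 q2166 (flp_h L20787) q2385, e3 q2167 L18859 q2167, e3 q2168 L21125 q2420, e3 q2169 L21131 q2421, e3 q2170 (flp_h L18879) q1935, e3 q2171 L18893 q2171, e3 q2172 (flp_h L20825) q2388, e3 q2173 L18909 q2112, e3 q2174 (flp_h L18911) q1939, e3 q2175 L18926 q2175, trivial⟩ (by decide +kernel)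

theorem ce_h_34 : ∀ r, r < 64 → sm gh (Qf (2176 + r)) = Qf (tab Gen.h (2176 + r)) :=
  edges_tab (sm gh) Qf (tab Gen.h) 2176 [(2176, 2085), (2177, 2177), (2178, 2432), (2179, 2433), (2180, 1944), (2181, 2181), (2182, 2182), (2183, 2183), (2184, 2439), (2185, 1948), (2186, 2441), (2187, 1949), (2188, 2188), (2189, 1967), (2190, 1951), (2191, 1971), (2192, 2446), (2193, 1954), (2194, 2194), (2195, 1977), (2196, 2196), (2197, 2453), (2198, 1983), (2199, 2456), (2200, 2457), (2201, 1961), (2202, 2440), (2203, 2459), (2204, 2460), (2205, 1963), (2206, 1964), (2207, 2207), (2208, 2443), (2209, 2467), (2210, 1968), (2211, 1992), (2212, 2445), (2213, 2098), (2214, 2469), (2215, 1972), (2216, 2473), (2217, 1973), (2218, 2471), (2219, 2448), (2220, 2220), (2221, 2111), (2222, 2222), (2223, 2483), (2224, 2224), (2225, 2486), (2226, 1979), (2227, 1980), (2228, 1991), (2229, 2083), (2230, 1994), (2231, 2487), (2232, 1989), (2233, 1995), (2234, 2060), (2235, 1996),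 (2236, 2427), (2237, 1990), (2238, 2495), (2239, 2489)]
    ⟨e3 q2176 L18936 q2085, e3 q2177 L18943 q2177, e3 q2178 L21225 q2432, e3 q2179 L21231 q2433, e3 q2180 (flp_h L18963) q1944, e3 q2181 L18984 q2181, e3 q2182 L18993 q2182, e3 q2183 L19003 q2183, e3 q2184 L21295 q2439, e3 q2185 (flp_h L19016) q1948, e3 q2186 L21318 q2441, e3 q2187 (flp_h L19040) q1949, e3 q2188 L19055 q2188, e3 q2189 L19065 q1967, e3 q2190 (flp_h L19067) q1951, e3 q2191 L19091 q1971, e3 q2192 L21375 q2446, e3 q2193 (flp_h L19106) q1954, e3 q2194 L19124 q2194, e3 q2195 L19133 q1977, e3 q2196 L19140 q2196, e3 q2197 L21439 q2453, e3 q2198 L19160 q1983, e3 q2199 L21473 q2456, e3 q2200 L21482 q2457, e3 q2201 (flp_h L19178) q1961, e3 q2202 (flp_h L21316) q2440, e3 q2203 L21497 q2459, e3 q2204 L21508 q2460, e3 q2205 (flp_h L19220) q1963, e3 q2206 (flp_h L19230) q1964, e3 q2207 L19246 q2207, e3 q2208 (flp_h L21351) q2443, e3 q2209 L21571 q2467, e3 q2210 (flp_h L19263) q1968, e3 q2211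 L19286 q1992, e3 q2212 (flp_h L21373) q2445, e3 q2213 L19306 q2098, e3 q2214 (flp_h L21602) q2469, e3 q2215 (flp_h L19321) q1972, e3 q2216 L21631 q2473, e3 q2217 (flp_h L19341) q1973, e3 q2218 (flp_h L21622) q2471, e3 q2219 (flp_h L21404) q2448, e3 q2220 L19367 q2220, e3 q2221 L19375 q2111, e3 q2222 L19380 q2222, e3 q2223 L21697 q2483, e3 q2224 L19393 q2224, e3 q2225 L21719 q2486, e3 q2226 (flp_h L19402) q1979, e3 q2227 (flp_h L19407) q1980, e3 q2228 L19431 q1991, e3 q2229 L19441 q2083, e3 q2230 L19448 q1994, e3 q2231 (flp_h L21739) q2487, e3 q2232 L19469 q1989, e3 q2233 L19479 q1995, e3 q2234 L19491 q2060, e3 q2235 L19498 q1996, e3 q2236 (flp_h L21190) q2427, e3 q2237 (flp_h L19508) q1990, e3 q2238 (flp_h L21824) q2495, e3 q2239 (flp_h L21761) q2489, trivial⟩ (by decide +kernel)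

theorem ce_h_35 : ∀ r, r < 64 → sm gh (Qf (2240 + r)) = Qf (tab Gen.h (2240 + r)) :=
  edges_tab (sm gh) Qf (tab Gen.h) 2240 [(2240, 2491), (2241, 2493), (2242, 1997), (2243, 2243), (2244, 2244), (2245, 2245), (2246, 2501), (2247, 2502), (2248, 2001), (2249, 2002), (2250, 2029), (2251, 2005), (2252, 2252), (2253, 2035), (2254, 2036), (2255, 2255), (2256, 2039), (2257, 2257), (2258, 2513), (2259, 2514), (2260, 2013), (2261, 2031), (2262, 2516), (2263, 2518), (2264, 2015), (2265, 2016), (2266, 2042), (2267, 2078), (2268, 2054), (2269, 2524), (2270, 2020), (2271, 2271), (2272, 2107), (2273, 2105), (2274, 2522), (2275, 2024), (2276, 2531), (2277, 2025), (2278, 2529), (2279, 2504), (2280, 2115), (2281, 2505), (2282, 2117), (2283, 2515), (2284, 2118), (2285, 2394), (2286, 2032), (2287, 2287), (2288, 2507), (2289, 2289), (2290, 2547), (2291, 2492), (2292, 2548), (2293, 2293), (2294, 2551), (2295, 2041), (2296, 2043), (2297, 2065), (2298, 2068), (2299, 2048),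 (2300, 2049), (2301, 2554), (2302, 2074), (2303, 2062)]
    ⟨e3 q2240 (flp_h L21779) q2491, e3 q2241 (flp_h L21802) q2493, e3 q2242 (flp_h L19554) q1997, e3 q2243 L19572 q2243, e3 q2244 L19582 q2244, e3 q2245 L19594 q2245, e3 q2246 L21874 q2501, e3 q2247 L21885 q2502, e3 q2248 (flp_h L19622) q2001, e3 q2249 (flp_h L19632) q2002, e3 q2250 L19657 q2029, e3 q2251 (flp_h L19659) q2005, e3 q2252 L19677 q2252, e3 q2253 L19686 q2035, e3 q2254 L19699 q2036, e3 q2255 L19706 q2255, e3 q2256 L19716 q2039, e3 q2257 L19723 q2257, e3 q2258 L21995 q2513, e3 q2259 L22001 q2514, e3 q2260 (flp_h L19744) q2013, e3 q2261 L19767 q2031, e3 q2262 L22027 q2516, e3 q2263 L22051 q2518, e3 q2264 (flp_h L19796) q2015, e3 q2265 (flp_h L19804) q2016, e3 q2266 L19828 q2042, e3 q2267 L19838 q2078, e3 q2268 L19850 q2054, e3 q2269 L22118 q2524, e3 q2270 (flp_h L19861) q2020, e3 q2271 L19876 q2271, e3 q2272 L19884 q2107, e3 q2273 L19895 q2105, e3 q2274 (flp_h L22101) q2522, e3 q2275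 (flp_h L19910) q2024, e3 q2276 L22173 q2531, e3 q2277 (flp_h L19924) q2025, e3 q2278 (flp_h L22164) q2529, e3 q2279 (flp_h L21915) q2504, e3 q2280 L19956 q2115, e3 q2281 (flp_h L21930) q2505, e3 q2282 L19972 q2117, e3 q2283 (flp_h L22025) q2515, e3 q2284 L19988 q2118, e3 q2285 (flp_h L20892) q2394, e3 q2286 (flp_h L19998) q2032, e3 q2287 L20012 q2287, e3 q2288 (flp_h L21953) q2507, e3 q2289 L20024 q2289, e3 q2290 L22294 q2547, e3 q2291 (flp_h L21793) q2492, e3 q2292 L22300 q2548, e3 q2293 L20053 q2293, e3 q2294 L22323 q2551, e3 q2295 (flp_h L20062) q2041, e3 q2296 (flp_h L20067) q2043, e3 q2297 L20087 q2065, e3 q2298 L20098 q2068, e3 q2299 (flp_h L20100) q2048, e3 q2300 (flp_h L20110) q2049, e3 q2301 (flp_h L22356) q2554, e3 q2302 L20128 q2074, e3 q2303 L20140 q2062, trivial⟩ (by decide +kernel)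

theorem ce_h_36 : ∀ r, r < 64 → sm gh (Qf (2304 + r)) = Qf (tab Gen.h (2304 + r)) :=
  edges_tab (sm gh) Qf (tab Gen.h) 2304 [(2304, 2076), (2305, 2061), (2306, 2523), (2307, 2081), (2308, 2071), (2309, 2488), (2310, 2556), (2311, 2553), (2312, 2120), (2313, 2088), (2314, 2086), (2315, 2468), (2316, 2073), (2317, 2555), (2318, 2552), (2319, 2557), (2320, 2568), (2321, 2569), (2322, 2578), (2323, 2122), (2324, 2521), (2325, 2123), (2326, 2520), (2327, 2114), (2328, 2400), (2329, 2090), (2330, 2475), (2331, 2091), (2332, 2423), (2333, 2566), (2334, 2089), (2335, 2470), (2336, 2587), (2337, 2581), (2338, 2338), (2339, 2339), (2340, 2340), (2341, 2593), (2342, 2113), (2343, 2464), (2344, 2344), (2345, 2597), (2346, 2346), (2347, 2347), (2348, 2602), (2349, 2349), (2350, 2604), (2351, 2103), (2352, 2124), (2353, 2526), (2354, 2406), (2355, 2407), (2356, 2415), (2357, 2540), (2358, 2561), (2359, 2538), (2360, 2121), (2361, 2537), (2362, 2606), (2363, 2579),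 (2364, 2125), (2365, 2126), (2366, 2366), (2367, 2367)]
    ⟨e3 q2304 L20151 q2076, e3 q2305 L20158 q2061, e3 q2306 (flp_h L22116) q2523, e3 q2307 L20179 q2081, e3 q2308 L20186 q2071, e3 q2309 (flp_h L21754) q2488, e3 q2310 (flp_h L22376) q2556, e3 q2311 (flp_h L22348) q2553, e3 q2312 L20218 q2120, e3 q2313 L20229 q2088, e3 q2314 L20237 q2086, e3 q2315 (flp_h L21591) q2468, e3 q2316 L20250 q2073, e3 q2317 (flp_h L22368) q2555, e3 q2318 (flp_h L22336) q2552, e3 q2319 (flp_h L22388) q2557, e3 q2320 (flp_h L22463) q2568, e3 q2321 (flp_h L22469) q2569, e3 q2322 L22515 q2578, e3 q2323 L20288 q2122, e3 q2324 (flp_h L22090) q2521, e3 q2325 L20303 q2123, e3 q2326 (flp_h L22075) q2520, e3 q2327 L20319 q2114, e3 q2328 (flp_h L20950) q2400, e3 q2329 L20332 q2090, e3 q2330 (flp_h L21654) q2475, e3 q2331 L20348 q2091, e3 q2332 (flp_h L21155) q2423, e3 q2333 (flp_h L22450) q2566, e3 q2334 L20365 q2089, e3 q2335 (flp_h L21616) q2470, e3 q2336 (flp_h L22588) q2587,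 e3 q2337 (flp_h L22540) q2581, e3 q2338 L20393 q2338, e3 q2339 L20404 q2339, e3 q2340 L20410 q2340, e3 q2341 L22627 q2593, e3 q2342 L20423 q2113, e3 q2343 (flp_h L21554) q2464, e3 q2344 L20438 q2344, e3 q2345 L22655 q2597, e3 q2346 L20453 q2346, e3 q2347 L20459 q2347, e3 q2348 L22688 q2602, e3 q2349 L20472 q2349, e3 q2350 L22702 q2604, e3 q2351 (flp_h L20481) q2103, e3 q2352 L20490 q2124, e3 q2353 (flp_h L22144) q2526, e3 q2354 (flp_h L21006) q2406, e3 q2355 (flp_h L21016) q2407, e3 q2356 (flp_h L21094) q2415, e3 q2357 (flp_h L22251) q2540, e3 q2358 (flp_h L22418) q2561, e3 q2359 (flp_h L22233) q2538, e3 q2360 L20548 q2121, e3 q2361 (flp_h L22226) q2537, e3 q2362 (flp_h L22717) q2606, e3 q2363 (flp_h L22521) q2579, e3 q2364 (flp_h L20567) q2125, e3 q2365 (flp_h L20577) q2126, e3 q2366 L20598 q2366, e3 q2367 L20607 q2367, trivial⟩ (by decide +kernel)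

theorem ce_h_37 : ∀ r, r < 64 → sm gh (Qf (2368 + r)) = Qf (tab Gen.h (2368 + r)) :=
  edges_tab (sm gh) Qf (tab Gen.h) 2368 [(2368, 2128), (2369, 2129), (2370, 2370), (2371, 2371), (2372, 2372), (2373, 2373), (2374, 2621), (2375, 2375), (2376, 2376), (2377, 2377), (2378, 2378), (2379, 2379), (2380, 2380), (2381, 2628), (2382, 2629), (2383, 2142), (2384, 2384), (2385, 2166), (2386, 2634), (2387, 2387), (2388, 2172), (2389, 2637), (2390, 2639), (2391, 2640), (2392, 2150), (2393, 2393), (2394, 2285), (2395, 2646), (2396, 2648), (2397, 2152), (2398, 2153), (2399, 2399), (2400, 2328), (2401, 2401), (2402, 2656), (2403, 2657), (2404, 2157), (2405, 2405), (2406, 2354), (2407, 2355), (2408, 2661), (2409, 2161), (2410, 2664), (2411, 2162), (2412, 2662), (2413, 2631), (2414, 2414), (2415, 2356), (2416, 2416), (2417, 2673), (2418, 2418), (2419, 2676), (2420, 2168), (2421, 2169), (2422, 2422), (2423, 2332), (2424, 2424), (2425, 2682), (2426, 2426), (2427, 2236),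 (2428, 2428), (2429, 2687), (2430, 2430), (2431, 2690)]
    ⟨e3 q2368 (flp_h L20608) q2128, e3 q2369 (flp_h L20620) q2129, e3 q2370 L20643 q2370, e3 q2371 L20651 q2371, e3 q2372 L20659 q2372, e3 q2373 L20666 q2373, e3 q2374 L22871 q2621, e3 q2375 L20683 q2375, e3 q2376 L20691 q2376, e3 q2377 L20701 q2377, e3 q2378 L20709 q2378, e3 q2379 L20718 q2379, e3 q2380 L20725 q2380, e3 q2381 L22934 q2628, e3 q2382 L22942 q2629, e3 q2383 (flp_h L20749) q2142, e3 q2384 L20774 q2384, e3 q2385 L20787 q2166, e3 q2386 L23005 q2634, e3 q2387 L20812 q2387, e3 q2388 L20825 q2172, e3 q2389 L23043 q2637, e3 q2390 L23071 q2639, e3 q2391 L23082 q2640, e3 q2392 (flp_h L20863) q2150, e3 q2393 L20881 q2393, e3 q2394 L20892 q2285, e3 q2395 L23146 q2646, e3 q2396 L23171 q2648, e3 q2397 (flp_h L20916) q2152, e3 q2398 (flp_h L20926) q2153, e3 q2399 L20941 q2399, e3 q2400 L20950 q2328, e3 q2401 L20959 q2401, e3 q2402 L23249 q2656, e3 q2403 L23257 q2657, e3 q2404 (flp_h L20980) q2157,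 e3 q2405 L20996 q2405, e3 q2406 L21006 q2354, e3 q2407 L21016 q2355, e3 q2408 L23300 q2661, e3 q2409 (flp_h L21030) q2161, e3 q2410 L23326 q2664, e3 q2411 (flp_h L21051) q2162, e3 q2412 (flp_h L23316) q2662, e3 q2413 (flp_h L22978) q2631, e3 q2414 L21084 q2414, e3 q2415 L21094 q2356, e3 q2416 L21100 q2416, e3 q2417 L23397 q2673, e3 q2418 L21115 q2418, e3 q2419 L23422 q2676, e3 q2420 (flp_h L21125) q2168, e3 q2421 (flp_h L21131) q2169, e3 q2422 L21146 q2422, e3 q2423 L21155 q2332, e3 q2424 L21161 q2424, e3 q2425 L23471 q2682, e3 q2426 L21179 q2426, e3 q2427 L21190 q2236, e3 q2428 L21199 q2428, e3 q2429 L23520 q2687, e3 q2430 L21215 q2430, e3 q2431 L23546 q2690, trivial⟩ (by decide +kernel)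

theorem ce_h_38 : ∀ r, r < 64 → sm gh (Qf (2432 + r)) = Qf (tab Gen.h (2432 + r)) :=
  edges_tab (sm gh) Qf (tab Gen.h) 2432 [(2432, 2178), (2433, 2179), (2434, 2434), (2435, 2435), (2436, 2436), (2437, 2696), (2438, 2697), (2439, 2184), (2440, 2202), (2441, 2186), (2442, 2442), (2443, 2208), (2444, 2703), (2445, 2212), (2446, 2192), (2447, 2704), (2448, 2219), (2449, 2449), (2450, 2710), (2451, 2451), (2452, 2713), (2453, 2197), (2454, 2714), (2455, 2715), (2456, 2199), (2457, 2200), (2458, 2698), (2459, 2203), (2460, 2204), (2461, 2719), (2462, 2700), (2463, 2463), (2464, 2343), (2465, 2465), (2466, 2729), (2467, 2209), (2468, 2315), (2469, 2214), (2470, 2335), (2471, 2218), (2472, 2705), (2473, 2216), (2474, 2723), (2475, 2330), (2476, 2721), (2477, 2731), (2478, 2742), (2479, 2479), (2480, 2745), (2481, 2481), (2482, 2748), (2483, 2223), (2484, 2484), (2485, 2750), (2486, 2225), (2487, 2231), (2488, 2309), (2489, 2239), (2490, 2734), (2491, 2240),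 (2492, 2291), (2493, 2241), (2494, 2678), (2495, 2238)]
    ⟨e3 q2432 (flp_h L21225) q2178, e3 q2433 (flp_h L21231) q2179, e3 q2434 L21250 q2434, e3 q2435 L21261 q2435, e3 q2436 L21268 q2436, e3 q2437 L23603 q2696, e3 q2438 L23613 q2697, e3 q2439 (flp_h L21295) q2184, e3 q2440 L21316 q2202, e3 q2441 (flp_h L21318) q2186, e3 q2442 L21340 q2442, e3 q2443 L21351 q2208, e3 q2444 L23686 q2703, e3 q2445 L21373 q2212, e3 q2446 (flp_h L21375) q2192, e3 q2447 (flp_h L23704) q2704, e3 q2448 L21404 q2219, e3 q2449 L21412 q2449, e3 q2450 L23754 q2710, e3 q2451 L21429 q2451, e3 q2452 L23781 q2713, e3 q2453 (flp_h L21439) q2197, e3 q2454 L23789 q2714, e3 q2455 L23802 q2715, e3 q2456 (flp_h L21473) q2199, e3 q2457 (flp_h L21482) q2200, e3 q2458 (flp_h L23637) q2698, e3 q2459 (flp_h L21497) q2203, e3 q2460 (flp_h L21508) q2204, e3 q2461 (flp_h L23848) q2719, e3 q2462 (flp_h L23663) q2700, e3 q2463 L21544 q2463, e3 q2464 L21554 q2343, e3 q2465 L21561 q2465, e3 q2466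 L23940 q2729, e3 q2467 (flp_h L21571) q2209, e3 q2468 L21591 q2315, e3 q2469 L21602 q2214, e3 q2470 L21616 q2335, e3 q2471 L21622 q2218, e3 q2472 (flp_h L23717) q2705, e3 q2473 (flp_h L21631) q2216, e3 q2474 (flp_h L23897) q2723, e3 q2475 L21654 q2330, e3 q2476 (flp_h L23873) q2721, e3 q2477 (flp_h L23963) q2731, e3 q2478 L24040 q2742, e3 q2479 L21677 q2479, e3 q2480 L24058 q2745, e3 q2481 L21689 q2481, e3 q2482 L24082 q2748, e3 q2483 (flp_h L21697) q2223, e3 q2484 L21710 q2484, e3 q2485 L24098 q2750, e3 q2486 (flp_h L21719) q2225, e3 q2487 L21739 q2231, e3 q2488 L21754 q2309, e3 q2489 L21761 q2239, e3 q2490 (flp_h L23995) q2734, e3 q2491 L21779 q2240, e3 q2492 L21793 q2291, e3 q2493 L21802 q2241, e3 q2494 (flp_h L23448) q2678, e3 q2495 L21824 q2238, trivial⟩ (by decide +kernel)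

theorem ce_h_39 : ∀ r, r < 64 → sm gh (Qf (2496 + r)) = Qf (tab Gen.h (2496 + r)) :=
  edges_tab (sm gh) Qf (tab Gen.h) 2496 [(2496, 2751), (2497, 2497), (2498, 2498), (2499, 2499), (2500, 2758), (2501, 2246), (2502, 2247), (2503, 2759), (2504, 2279), (2505, 2281), (2506, 2506), (2507, 2288), (2508, 2508), (2509, 2768), (2510, 2769), (2511, 2511), (2512, 2772), (2513, 2258), (2514, 2259), (2515, 2283), (2516, 2262), (2517, 2777), (2518, 2263), (2519, 2775), (2520, 2326), (2521, 2324), (2522, 2274), (2523, 2306), (2524, 2269), (2525, 2525), (2526, 2353), (2527, 2527), (2528, 2788), (2529, 2278), (2530, 2760), (2531, 2276), (2532, 2781), (2533, 2762), (2534, 2789), (2535, 2778), (2536, 2800), (2537, 2361), (2538, 2359), (2539, 2774), (2540, 2357), (2541, 2642), (2542, 2753), (2543, 2543), (2544, 2805), (2545, 2545), (2546, 2808), (2547, 2290), (2548, 2292), (2549, 2549), (2550, 2810), (2551, 2294), (2552, 2318), (2553, 2311), (2554, 2301), (2555, 2317),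 (2556, 2310), (2557, 2319), (2558, 2699), (2559, 2761)]
    ⟨e3 q2496 (flp_h L24113) q2751, e3 q2497 L21844 q2497, e3 q2498 L21855 q2498, e3 q2499 L21862 q2499, e3 q2500 L24176 q2758, e3 q2501 (flp_h L21874) q2246, e3 q2502 (flp_h L21885) q2247, e3 q2503 (flp_h L24196) q2759, e3 q2504 L21915 q2279, e3 q2505 L21930 q2281, e3 q2506 L21942 q2506, e3 q2507 L21953 q2288, e3 q2508 L21961 q2508, e3 q2509 L24284 q2768, e3 q2510 L24295 q2769, e3 q2511 L21985 q2511, e3 q2512 L24319 q2772, e3 q2513 (flp_h L21995) q2258, e3 q2514 (flp_h L22001) q2259, e3 q2515 L22025 q2283, e3 q2516 (flp_h L22027) q2262, e3 q2517 L24377 q2777, e3 q2518 (flp_h L22051) q2263, e3 q2519 (flp_h L24362) q2775, e3 q2520 L22075 q2326, e3 q2521 L22090 q2324, e3 q2522 L22101 q2274, e3 q2523 L22116 q2306, e3 q2524 (flp_h L22118) q2269, e3 q2525 L22134 q2525, e3 q2526 L22144 q2353, e3 q2527 L22151 q2527, e3 q2528 L24486 q2788, e3 q2529 L22164 q2278, e3 q2530 (flp_h L24209) q2760, e3 q2531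 (flp_h L22173) q2276, e3 q2532 (flp_h L24428) q2781, e3 q2533 (flp_h L24235) q2762, e3 q2534 (flp_h L24497) q2789, e3 q2535 (flp_h L24398) q2778, e3 q2536 L24566 q2800, e3 q2537 L22226 q2361, e3 q2538 L22233 q2359, e3 q2539 (flp_h L24350) q2774, e3 q2540 L22251 q2357, e3 q2541 (flp_h L23110) q2642, e3 q2542 (flp_h L24135) q2753, e3 q2543 L22273 q2543, e3 q2544 L24607 q2805, e3 q2545 L22286 q2545, e3 q2546 L24630 q2808, e3 q2547 (flp_h L22294) q2290, e3 q2548 (flp_h L22300) q2292, e3 q2549 L22314 q2549, e3 q2550 L24646 q2810, e3 q2551 (flp_h L22323) q2294, e3 q2552 L22336 q2318, e3 q2553 L22348 q2311, e3 q2554 L22356 q2301, e3 q2555 L22368 q2317, e3 q2556 L22376 q2310, e3 q2557 L22388 q2319, e3 q2558 (flp_h L23649) q2699, e3 q2559 (flp_h L24221) q2761, trivial⟩ (by decide +kernel)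

theorem ce_h_40 : ∀ r, r < 64 → sm gh (Qf (2560 + r)) = Qf (tab Gen.h (2560 + r)) :=
  edges_tab (sm gh) Qf (tab Gen.h) 2560 [(2560, 2817), (2561, 2358), (2562, 2783), (2563, 2720), (2564, 2733), (2565, 2820), (2566, 2333), (2567, 2722), (2568, 2320), (2569, 2321), (2570, 2827), (2571, 2773), (2572, 2830), (2573, 2822), (2574, 2823), (2575, 2836), (2576, 2825), (2577, 2838), (2578, 2322), (2579, 2363), (2580, 2779), (2581, 2337), (2582, 2650), (2583, 2651), (2584, 2666), (2585, 2658), (2586, 2801), (2587, 2336), (2588, 2730), (2589, 2841), (2590, 2843), (2591, 2591), (2592, 2845), (2593, 2341), (2594, 2718), (2595, 2595), (2596, 2847), (2597, 2345), (2598, 2598), (2599, 2850), (2600, 2600), (2601, 2852), (2602, 2348), (2603, 2853), (2604, 2350), (2605, 2784), (2606, 2362), (2607, 2776), (2608, 2608), (2609, 2609), (2610, 2610), (2611, 2611), (2612, 2612), (2613, 2861), (2614, 2614), (2615, 2615), (2616, 2616), (2617, 2617), (2618, 2865), (2619, 2619),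 (2620, 2868), (2621, 2374), (2622, 2622), (2623, 2871)]
    ⟨e3 q2560 L24697 q2817, e3 q2561 L22418 q2358, e3 q2562 (flp_h L24449) q2783, e3 q2563 (flp_h L23861) q2720, e3 q2564 (flp_h L23982) q2733, e3 q2565 L24713 q2820, e3 q2566 L22450 q2333, e3 q2567 (flp_h L23887) q2722, e3 q2568 L22463 q2320, e3 q2569 L22469 q2321, e3 q2570 L24755 q2827, e3 q2571 (flp_h L24337) q2773, e3 q2572 L24771 q2830, e3 q2573 (flp_h L24728) q2822, e3 q2574 (flp_h L24734) q2823, e3 q2575 L24807 q2836, e3 q2576 (flp_h L24747) q2825, e3 q2577 L24817 q2838, e3 q2578 (flp_h L22515) q2322, e3 q2579 L22521 q2363, e3 q2580 (flp_h L24412) q2779, e3 q2581 L22540 q2337, e3 q2582 (flp_h L23197) q2650, e3 q2583 (flp_h L23208) q2651, e3 q2584 (flp_h L23353) q2666, e3 q2585 (flp_h L23276) q2658, e3 q2586 (flp_h L24579) q2801, e3 q2587 L22588 q2336, e3 q2588 (flp_h L23959) q2730, e3 q2589 (flp_h L24844) q2841, e3 q2590 L24852 q2843, e3 q2591 L22617 q2591, e3 q2592 L24867 q2845, e3 q2593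 (flp_h L22627) q2341, e3 q2594 (flp_h L23836) q2718, e3 q2595 L22645 q2595, e3 q2596 L24882 q2847, e3 q2597 (flp_h L22655) q2345, e3 q2598 L22667 q2598, e3 q2599 L24904 q2850, e3 q2600 L22680 q2600, e3 q2601 L24918 q2852, e3 q2602 (flp_h L22688) q2348, e3 q2603 L24925 q2853, e3 q2604 (flp_h L22702) q2350, e3 q2605 (flp_h L24459) q2784, e3 q2606 L22717 q2362, e3 q2607 (flp_h L24375) q2776, e3 q2608 L22733 q2608, e3 q2609 L22744 q2609, e3 q2610 L22759 q2610, e3 q2611 L22774 q2611, e3 q2612 L22782 q2612, e3 q2613 L25012 q2861, e3 q2614 L22805 q2614, e3 q2615 L22818 q2615, e3 q2616 L22833 q2616, e3 q2617 L22843 q2617, e3 q2618 L25062 q2865, e3 q2619 L22861 q2619, e3 q2620 L25091 q2868, e3 q2621 (flp_h L22871) q2374, e3 q2622 L22888 q2622, e3 q2623 L25127 q2871, trivial⟩ (by decide +kernel)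

theorem ce_h_41 : ∀ r, r < 64 → sm gh (Qf (2624 + r)) = Qf (tab Gen.h (2624 + r)) :=
  edges_tab (sm gh) Qf (tab Gen.h) 2624 [(2624, 2624), (2625, 2874), (2626, 2626), (2627, 2877), (2628, 2381), (2629, 2382), (2630, 2878), (2631, 2413), (2632, 2632), (2633, 2884), (2634, 2386), (2635, 2635), (2636, 2886), (2637, 2389), (2638, 2887), (2639, 2390), (2640, 2391), (2641, 2641), (2642, 2541), (2643, 2643), (2644, 2894), (2645, 2895), (2646, 2395), (2647, 2898), (2648, 2396), (2649, 2896), (2650, 2582), (2651, 2583), (2652, 2652), (2653, 2906), (2654, 2654), (2655, 2908), (2656, 2402), (2657, 2403), (2658, 2585), (2659, 2659), (2660, 2911), (2661, 2408), (2662, 2412), (2663, 2879), (2664, 2410), (2665, 2912), (2666, 2584), (2667, 2914), (2668, 2915), (2669, 2924), (2670, 2925), (2671, 2671), (2672, 2928), (2673, 2417), (2674, 2674), (2675, 2930), (2676, 2419), (2677, 2677), (2678, 2494), (2679, 2932), (2680, 2680), (2681, 2935), (2682, 2425), (2683, 2683),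 (2684, 2937), (2685, 2685), (2686, 2939), (2687, 2429)]
    ⟨e3 q2624 L22907 q2624, e3 q2625 L25160 q2874, e3 q2626 L22924 q2626, e3 q2627 L25189 q2877, e3 q2628 (flp_h L22934) q2381, e3 q2629 (flp_h L22942) q2382, e3 q2630 (flp_h L25208) q2878, e3 q2631 L22978 q2413, e3 q2632 L22989 q2632, e3 q2633 L25273 q2884, e3 q2634 (flp_h L23005) q2386, e3 q2635 L23027 q2635, e3 q2636 L25300 q2886, e3 q2637 (flp_h L23043) q2389, e3 q2638 L25314 q2887, e3 q2639 (flp_h L23071) q2390, e3 q2640 (flp_h L23082) q2391, e3 q2641 L23100 q2641, e3 q2642 L23110 q2541, e3 q2643 L23119 q2643, e3 q2644 L25395 q2894, e3 q2645 L25407 q2895, e3 q2646 (flp_h L23146) q2395, e3 q2647 L25441 q2898, e3 q2648 (flp_h L23171) q2396, e3 q2649 (flp_h L25427) q2896, e3 q2650 L23197 q2582, e3 q2651 L23208 q2583, e3 q2652 L23218 q2652, e3 q2653 L25531 q2906, e3 q2654 L23235 q2654, e3 q2655 L25552 q2908, e3 q2656 (flp_h L23249) q2402, e3 q2657 (flp_h L23257) q2403, e3 q2658 L23276 q2585, e3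 q2659 L23288 q2659, e3 q2660 L25590 q2911, e3 q2661 (flp_h L23300) q2408, e3 q2662 L23316 q2412, e3 q2663 (flp_h L25222) q2879, e3 q2664 (flp_h L23326) q2410, e3 q2665 (flp_h L25608) q2912, e3 q2666 L23353 q2584, e3 q2667 (flp_h L25626) q2914, e3 q2668 (flp_h L25633) q2915, e3 q2669 L25707 q2924, e3 q2670 L25713 q2925, e3 q2671 L23388 q2671, e3 q2672 L25744 q2928, e3 q2673 (flp_h L23397) q2417, e3 q2674 L23412 q2674, e3 q2675 L25762 q2930, e3 q2676 (flp_h L23422) q2419, e3 q2677 L23438 q2677, e3 q2678 L23448 q2494, e3 q2679 L25779 q2932, e3 q2680 L23462 q2680, e3 q2681 L25809 q2935, e3 q2682 (flp_h L23471) q2425, e3 q2683 L23485 q2683, e3 q2684 L25826 q2937, e3 q2685 L23506 q2685, e3 q2686 L25850 q2939, e3 q2687 (flp_h L23520) q2429, trivial⟩ (by decide +kernel)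

theorem ce_h_42 : ∀ r, r < 64 → sm gh (Qf (2688 + r)) = Qf (tab Gen.h (2688 + r)) :=
  edges_tab (sm gh) Qf (tab Gen.h) 2688 [(2688, 2688), (2689, 2941), (2690, 2431), (2691, 2691), (2692, 2692), (2693, 2943), (2694, 2694), (2695, 2945), (2696, 2437), (2697, 2438), (2698, 2458), (2699, 2558), (2700, 2462), (2701, 2701), (2702, 2951), (2703, 2444), (2704, 2447), (2705, 2472), (2706, 2952), (2707, 2956), (2708, 2708), (2709, 2958), (2710, 2450), (2711, 2711), (2712, 2960), (2713, 2452), (2714, 2454), (2715, 2455), (2716, 2961), (2717, 2947), (2718, 2594), (2719, 2461), (2720, 2563), (2721, 2476), (2722, 2567), (2723, 2474), (2724, 2967), (2725, 2974), (2726, 2726), (2727, 2977), (2728, 2978), (2729, 2466), (2730, 2588), (2731, 2477), (2732, 2981), (2733, 2564), (2734, 2490), (2735, 2971), (2736, 2986), (2737, 2963), (2738, 2969), (2739, 2992), (2740, 2979), (2741, 2995), (2742, 2478), (2743, 2743), (2744, 2998), (2745, 2480), (2746, 2746), (2747, 3000),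 (2748, 2482), (2749, 3002), (2750, 2485), (2751, 2496)]
    ⟨e3 q2688 L23536 q2688, e3 q2689 L25873 q2941, e3 q2690 (flp_h L23546) q2431, e3 q2691 L23562 q2691, e3 q2692 L23573 q2692, e3 q2693 L25890 q2943, e3 q2694 L23591 q2694, e3 q2695 L25911 q2945, e3 q2696 (flp_h L23603) q2437, e3 q2697 (flp_h L23613) q2438, e3 q2698 L23637 q2458, e3 q2699 L23649 q2558, e3 q2700 L23663 q2462, e3 q2701 L23673 q2701, e3 q2702 L25981 q2951, e3 q2703 (flp_h L23686) q2444, e3 q2704 L23704 q2447, e3 q2705 L23717 q2472, e3 q2706 (flp_h L26002) q2952, e3 q2707 L26037 q2956, e3 q2708 L23743 q2708, e3 q2709 L26057 q2958, e3 q2710 (flp_h L23754) q2450, e3 q2711 L23771 q2711, e3 q2712 L26075 q2960, e3 q2713 (flp_h L23781) q2452, e3 q2714 (flp_h L23789) q2454, e3 q2715 (flp_h L23802) q2455, e3 q2716 (flp_h L26092) q2961, e3 q2717 (flp_h L25945) q2947, e3 q2718 L23836 q2594, e3 q2719 L23848 q2461, e3 q2720 L23861 q2563, e3 q2721 L23873 q2476, e3 q2722 L23887 q2567, e3 q2723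 L23897 q2474, e3 q2724 (flp_h L26155) q2967, e3 q2725 L26225 q2974, e3 q2726 L23922 q2726, e3 q2727 L26251 q2977, e3 q2728 L26262 q2978, e3 q2729 (flp_h L23940) q2466, e3 q2730 L23959 q2588, e3 q2731 L23963 q2477, e3 q2732 L26282 q2981, e3 q2733 L23982 q2564, e3 q2734 L23995 q2490, e3 q2735 (flp_h L26202) q2971, e3 q2736 L26325 q2986, e3 q2737 (flp_h L26117) q2963, e3 q2738 (flp_h L26178) q2969, e3 q2739 L26366 q2992, e3 q2740 (flp_h L26273) q2979, e3 q2741 L26388 q2995, e3 q2742 (flp_h L24040) q2478, e3 q2743 L24049 q2743, e3 q2744 L26411 q2998, e3 q2745 (flp_h L24058) q2480, e3 q2746 L24074 q2746, e3 q2747 L26428 q3000, e3 q2748 (flp_h L24082) q2482, e3 q2749 L26439 q3002, e3 q2750 (flp_h L24098) q2485, e3 q2751 L24113 q2496, trivial⟩ (by decide +kernel)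

theorem ce_h_43 : ∀ r, r < 64 → sm gh (Qf (2752 + r)) = Qf (tab Gen.h (2752 + r)) :=
  edges_tab (sm gh) Qf (tab Gen.h) 2752 [(2752, 2918), (2753, 2542), (2754, 2909), (2755, 3004), (2756, 2756), (2757, 3006), (2758, 2500), (2759, 2503), (2760, 2530), (2761, 2559), (2762, 2533), (2763, 2982), (2764, 3011), (2765, 3012), (2766, 2766), (2767, 3014), (2768, 2509), (2769, 2510), (2770, 2770), (2771, 3016), (2772, 2512), (2773, 2571), (2774, 2539), (2775, 2519), (2776, 2607), (2777, 2517), (2778, 2535), (2779, 2580), (2780, 3018), (2781, 2532), (2782, 3027), (2783, 2562), (2784, 2605), (2785, 2785), (2786, 3029), (2787, 3030), (2788, 2528), (2789, 2534), (2790, 3033), (2791, 2946), (2792, 2962), (2793, 3024), (2794, 3037), (2795, 3031), (2796, 3022), (2797, 3043), (2798, 3020), (2799, 3046), (2800, 2536), (2801, 2586), (2802, 2889), (2803, 2890), (2804, 3048), (2805, 2544), (2806, 2806), (2807, 3050), (2808, 2546), (2809, 3052), (2810, 2550), (2811, 3053),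 (2812, 3054), (2813, 3055), (2814, 2948), (2815, 3057)]
    ⟨e3 q2752 (flp_h L25665) q2918, e3 q2753 L24135 q2542, e3 q2754 (flp_h L25574) q2909, e3 q2755 L26459 q3004, e3 q2756 L24164 q2756, e3 q2757 L26480 q3006, e3 q2758 (flp_h L24176) q2500, e3 q2759 L24196 q2503, e3 q2760 L24209 q2530, e3 q2761 L24221 q2559, e3 q2762 L24235 q2533, e3 q2763 (flp_h L26296) q2982, e3 q2764 L26533 q3011, e3 q2765 L26543 q3012, e3 q2766 L24273 q2766, e3 q2767 L26566 q3014, e3 q2768 (flp_h L24284) q2509, e3 q2769 (flp_h L24295) q2510, e3 q2770 L24309 q2770, e3 q2771 L26584 q3016, e3 q2772 (flp_h L24319) q2512, e3 q2773 L24337 q2571, e3 q2774 L24350 q2539, e3 q2775 L24362 q2519, e3 q2776 L24375 q2607, e3 q2777 (flp_h L24377) q2517, e3 q2778 L24398 q2535, e3 q2779 L24412 q2580, e3 q2780 (flp_h L26611) q3018, e3 q2781 L24428 q2532, e3 q2782 L26704 q3027, e3 q2783 L24449 q2562, e3 q2784 L24459 q2605, e3 q2785 L24468 q2785, e3 q2786 L26719 q3029, e3 q2787 L26730 q3030, e3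 q2788 (flp_h L24486) q2528, e3 q2789 L24497 q2534, e3 q2790 L26750 q3033, e3 q2791 (flp_h L25930) q2946, e3 q2792 (flp_h L26107) q2962, e3 q2793 (flp_h L26681) q3024, e3 q2794 L26779 q3037, e3 q2795 (flp_h L26741) q3031, e3 q2796 (flp_h L26657) q3022, e3 q2797 L26820 q3043, e3 q2798 (flp_h L26634) q3020, e3 q2799 L26840 q3046, e3 q2800 (flp_h L24566) q2536, e3 q2801 L24579 q2586, e3 q2802 (flp_h L25348) q2889, e3 q2803 (flp_h L25360) q2890, e3 q2804 L26857 q3048, e3 q2805 (flp_h L24607) q2544, e3 q2806 L24622 q2806, e3 q2807 L26874 q3050, e3 q2808 (flp_h L24630) q2546, e3 q2809 L26885 q3052, e3 q2810 (flp_h L24646) q2550, e3 q2811 L26894 q3053, e3 q2812 L26904 q3054, e3 q2813 L26914 q3055, e3 q2814 (flp_h L25955) q2948, e3 q2815 L26931 q3057, trivial⟩ (by decide +kernel)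

theorem ce_h_44 : ∀ r, r < 64 → sm gh (Qf (2816 + r)) = Qf (tab Gen.h (2816 + r)) :=
  edges_tab (sm gh) Qf (tab Gen.h) 2816 [(2816, 3058), (2817, 2560), (2818, 2917), (2819, 3060), (2820, 2565), (2821, 2964), (2822, 2573), (2823, 2574), (2824, 3066), (2825, 2576), (2826, 3068), (2827, 2570), (2828, 2888), (2829, 3070), (2830, 2572), (2831, 3061), (2832, 3062), (2833, 3074), (2834, 3064), (2835, 3076), (2836, 2575), (2837, 3077), (2838, 2577), (2839, 3021), (2840, 2900), (2841, 2589), (2842, 2913), (2843, 2590), (2844, 3079), (2845, 2592), (2846, 3080), (2847, 2596), (2848, 2848), (2849, 3082), (2850, 2599), (2851, 3083), (2852, 2601), (2853, 2603), (2854, 2897), (2855, 2855), (2856, 2856), (2857, 3087), (2858, 3088), (2859, 2859), (2860, 3090), (2861, 2613), (2862, 3091), (2863, 2863), (2864, 3093), (2865, 2618), (2866, 2866), (2867, 3095), (2868, 2620), (2869, 2869), (2870, 3098), (2871, 2623), (2872, 2872), (2873, 3100), (2874, 2625), (2875, 2875),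 (2876, 3102), (2877, 2627), (2878, 2630), (2879, 2663)]
    ⟨e3 q2816 L26937 q3058, e3 q2817 (flp_h L24697) q2560, e3 q2818 (flp_h L25652) q2917, e3 q2819 L26949 q3060, e3 q2820 (flp_h L24713) q2565, e3 q2821 (flp_h L26130) q2964, e3 q2822 L24728 q2573, e3 q2823 L24734 q2574, e3 q2824 L26990 q3066, e3 q2825 L24747 q2576, e3 q2826 L27002 q3068, e3 q2827 (flp_h L24755) q2570, e3 q2828 (flp_h L25335) q2888, e3 q2829 L27014 q3070, e3 q2830 (flp_h L24771) q2572, e3 q2831 (flp_h L26961) q3061, e3 q2832 (flp_h L26967) q3062, e3 q2833 L27042 q3074, e3 q2834 (flp_h L26981) q3064, e3 q2835 L27054 q3076, e3 q2836 (flp_h L24807) q2575, e3 q2837 L27060 q3077, e3 q2838 (flp_h L24817) q2577, e3 q2839 (flp_h L26647) q3021, e3 q2840 (flp_h L25474) q2900, e3 q2841 L24844 q2589, e3 q2842 (flp_h L25620) q2913, e3 q2843 (flp_h L24852) q2590, e3 q2844 L27072 q3079, e3 q2845 (flp_h L24867) q2592, e3 q2846 L27078 q3080, e3 q2847 (flp_h L24882) q2596, e3 q2848 L24895 q2848,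 e3 q2849 L27092 q3082, e3 q2850 (flp_h L24904) q2599, e3 q2851 L27100 q3083, e3 q2852 (flp_h L24918) q2601, e3 q2853 (flp_h L24925) q2603, e3 q2854 (flp_h L25439) q2897, e3 q2855 L24944 q2855, e3 q2856 L24958 q2856, e3 q2857 L27137 q3087, e3 q2858 L27147 q3088, e3 q2859 L24997 q2859, e3 q2860 L27178 q3090, e3 q2861 (flp_h L25012) q2613, e3 q2862 L27188 q3091, e3 q2863 L25044 q2863, e3 q2864 L27217 q3093, e3 q2865 (flp_h L25062) q2618, e3 q2866 L25081 q2866, e3 q2867 L27244 q3095, e3 q2868 (flp_h L25091) q2620, e3 q2869 L25109 q2869, e3 q2870 L27274 q3098, e3 q2871 (flp_h L25127) q2623, e3 q2872 L25145 q2872, e3 q2873 L27303 q3100, e3 q2874 (flp_h L25160) q2625, e3 q2875 L25179 q2875, e3 q2876 L27326 q3102, e3 q2877 (flp_h L25189) q2627, e3 q2878 L25208 q2630, e3 q2879 L25222 q2663, trivial⟩ (by decide +kernel)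

theorem ce_h_45 : ∀ r, r < 64 → sm gh (Qf (2880 + r)) = Qf (tab Gen.h (2880 + r)) :=
  edges_tab (sm gh) Qf (tab Gen.h) 2880 [(2880, 3104), (2881, 3105), (2882, 3110), (2883, 3111), (2884, 2633), (2885, 3112), (2886, 2636), (2887, 2638), (2888, 2828), (2889, 2802), (2890, 2803), (2891, 2891), (2892, 3119), (2893, 3120), (2894, 2644), (2895, 2645), (2896, 2649), (2897, 2854), (2898, 2647), (2899, 3121), (2900, 2840), (2901, 3123), (2902, 3124), (2903, 3132), (2904, 2904), (2905, 3134), (2906, 2653), (2907, 3135), (2908, 2655), (2909, 2754), (2910, 3136), (2911, 2660), (2912, 2665), (2913, 2842), (2914, 2667), (2915, 2668), (2916, 3142), (2917, 2818), (2918, 2752), (2919, 3145), (2920, 3138), (2921, 3148), (2922, 3140), (2923, 3151), (2924, 2669), (2925, 2670), (2926, 2926), (2927, 3153), (2928, 2672), (2929, 3155), (2930, 2675), (2931, 3156), (2932, 2679), (2933, 2933), (2934, 3158), (2935, 2681), (2936, 3160), (2937, 2684), (2938, 3161), (2939, 2686),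 (2940, 3162), (2941, 2689), (2942, 3163), (2943, 2693)]
    ⟨e3 q2880 (flp_h L27349) q3104, e3 q2881 (flp_h L27366) q3105, e3 q2882 L27426 q3110, e3 q2883 L27438 q3111, e3 q2884 (flp_h L25273) q2633, e3 q2885 L27452 q3112, e3 q2886 (flp_h L25300) q2636, e3 q2887 (flp_h L25314) q2638, e3 q2888 L25335 q2828, e3 q2889 L25348 q2802, e3 q2890 L25360 q2803, e3 q2891 L25372 q2891, e3 q2892 L27552 q3119, e3 q2893 L27563 q3120, e3 q2894 (flp_h L25395) q2644, e3 q2895 (flp_h L25407) q2645, e3 q2896 L25427 q2649, e3 q2897 L25439 q2854, e3 q2898 (flp_h L25441) q2647, e3 q2899 (flp_h L27583) q3121, e3 q2900 L25474 q2840, e3 q2901 (flp_h L27611) q3123, e3 q2902 (flp_h L27628) q3124, e3 q2903 L27730 q3132, e3 q2904 L25516 q2904, e3 q2905 L27752 q3134, e3 q2906 (flp_h L25531) q2653, e3 q2907 L27763 q3135, e3 q2908 (flp_h L25552) q2655, e3 q2909 L25574 q2754, e3 q2910 L27776 q3136, e3 q2911 (flp_h L25590) q2660, e3 q2912 L25608 q2665, e3 q2913 L25620 q2842, e3 q2914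 L25626 q2667, e3 q2915 L25633 q2668, e3 q2916 L27845 q3142, e3 q2917 L25652 q2818, e3 q2918 L25665 q2752, e3 q2919 L27878 q3145, e3 q2920 (flp_h L27810) q3138, e3 q2921 L27912 q3148, e3 q2922 (flp_h L27832) q3140, e3 q2923 L27944 q3151, e3 q2924 (flp_h L25707) q2669, e3 q2925 (flp_h L25713) q2670, e3 q2926 L25733 q2926, e3 q2927 L27964 q3153, e3 q2928 (flp_h L25744) q2672, e3 q2929 L27978 q3155, e3 q2930 (flp_h L25762) q2675, e3 q2931 L27988 q3156, e3 q2932 (flp_h L25779) q2679, e3 q2933 L25798 q2933, e3 q2934 L28013 q3158, e3 q2935 (flp_h L25809) q2681, e3 q2936 L28027 q3160, e3 q2937 (flp_h L25826) q2684, e3 q2938 L28037 q3161, e3 q2939 (flp_h L25850) q2686, e3 q2940 L28050 q3162, e3 q2941 (flp_h L25873) q2689, e3 q2942 L28060 q3163, e3 q2943 (flp_h L25890) q2693, trivial⟩ (by decide +kernel)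

theorem ce_h_46 : ∀ r, r < 64 → sm gh (Qf (2944 + r)) = Qf (tab Gen.h (2944 + r)) :=
  edges_tab (sm gh) Qf (tab Gen.h) 2944 [(2944, 3164), (2945, 2695), (2946, 2791), (2947, 2717), (2948, 2814), (2949, 3168), (2950, 3169), (2951, 2702), (2952, 2706), (2953, 3171), (2954, 3115), (2955, 3173), (2956, 2707), (2957, 3174), (2958, 2709), (2959, 3176), (2960, 2712), (2961, 2716), (2962, 2792), (2963, 2737), (2964, 2821), (2965, 3116), (2966, 3180), (2967, 2724), (2968, 3182), (2969, 2738), (2970, 3185), (2971, 2735), (2972, 3187), (2973, 3188), (2974, 2725), (2975, 2975), (2976, 3190), (2977, 2727), (2978, 2728), (2979, 2740), (2980, 3194), (2981, 2732), (2982, 2763), (2983, 3196), (2984, 3107), (2985, 3199), (2986, 2736), (2987, 3113), (2988, 3146), (2989, 3203), (2990, 3183), (2991, 3206), (2992, 2739), (2993, 3192), (2994, 3208), (2995, 2741), (2996, 2996), (2997, 3211), (2998, 2744), (2999, 3213), (3000, 2747), (3001, 3209), (3002, 2749), (3003, 3127),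 (3004, 2755), (3005, 3216), (3006, 2757), (3007, 3218)]
    ⟨e3 q2944 L28070 q3164, e3 q2945 (flp_h L25911) q2695, e3 q2946 L25930 q2791, e3 q2947 L25945 q2717, e3 q2948 L25955 q2814, e3 q2949 L28111 q3168, e3 q2950 L28125 q3169, e3 q2951 (flp_h L25981) q2702, e3 q2952 L26002 q2706, e3 q2953 L28147 q3171, e3 q2954 (flp_h L27505) q3115, e3 q2955 L28173 q3173, e3 q2956 (flp_h L26037) q2707, e3 q2957 L28181 q3174, e3 q2958 (flp_h L26057) q2709, e3 q2959 L28199 q3176, e3 q2960 (flp_h L26075) q2712, e3 q2961 L26092 q2716, e3 q2962 L26107 q2792, e3 q2963 L26117 q2737, e3 q2964 L26130 q2821, e3 q2965 (flp_h L27522) q3116, e3 q2966 L28240 q3180, e3 q2967 L26155 q2724, e3 q2968 L28257 q3182, e3 q2969 L26178 q2738, e3 q2970 L28299 q3185, e3 q2971 L26202 q2735, e3 q2972 L28324 q3187, e3 q2973 L28338 q3188, e3 q2974 (flp_h L26225) q2725, e3 q2975 L26238 q2975, e3 q2976 L28356 q3190, e3 q2977 (flp_h L26251) q2727, e3 q2978 (flp_h L26262) q2728, e3 q2979 L26273 q2740,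 e3 q2980 L28393 q3194, e3 q2981 (flp_h L26282) q2732, e3 q2982 L26296 q2763, e3 q2983 L28410 q3196, e3 q2984 (flp_h L27393) q3107, e3 q2985 L28448 q3199, e3 q2986 (flp_h L26325) q2736, e3 q2987 (flp_h L27478) q3113, e3 q2988 (flp_h L27898) q3146, e3 q2989 L28486 q3203, e3 q2990 (flp_h L28281) q3183, e3 q2991 L28516 q3206, e3 q2992 (flp_h L26366) q2739, e3 q2993 (flp_h L28382) q3192, e3 q2994 L28532 q3208, e3 q2995 (flp_h L26388) q2741, e3 q2996 L26400 q2996, e3 q2997 L28554 q3211, e3 q2998 (flp_h L26411) q2744, e3 q2999 L28570 q3213, e3 q3000 (flp_h L26428) q2747, e3 q3001 (flp_h L28540) q3209, e3 q3002 (flp_h L26439) q2749, e3 q3003 (flp_h L27672) q3127, e3 q3004 (flp_h L26459) q2755, e3 q3005 L28589 q3216, e3 q3006 (flp_h L26480) q2757, e3 q3007 L28606 q3218, trivial⟩ (by decide +kernel)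

theorem ce_h_47 : ∀ r, r < 64 → sm gh (Qf (3008 + r)) = Qf (tab Gen.h (3008 + r)) :=
  edges_tab (sm gh) Qf (tab Gen.h) 3008 [(3008, 3219), (3009, 3143), (3010, 3221), (3011, 2764), (3012, 2765), (3013, 3222), (3014, 2767), (3015, 3224), (3016, 2771), (3017, 3225), (3018, 2780), (3019, 3227), (3020, 2798), (3021, 2839), (3022, 2796), (3023, 3230), (3024, 2793), (3025, 3232), (3026, 3233), (3027, 2782), (3028, 3234), (3029, 2786), (3030, 2787), (3031, 2795), (3032, 3237), (3033, 2790), (3034, 3130), (3035, 3239), (3036, 3240), (3037, 2794), (3038, 3201), (3039, 3197), (3040, 3243), (3041, 3149), (3042, 3245), (3043, 2797), (3044, 3126), (3045, 3248), (3046, 2799), (3047, 3114), (3048, 2804), (3049, 3250), (3050, 2807), (3051, 3246), (3052, 2809), (3053, 2811), (3054, 2812), (3055, 2813), (3056, 3253), (3057, 2815), (3058, 2816), (3059, 3254), (3060, 2819), (3061, 2831), (3062, 2832), (3063, 3257), (3064, 2834), (3065, 3259), (3066, 2824), (3067, 3260),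 (3068, 2826), (3069, 3261), (3070, 2829), (3071, 3262)]
    ⟨e3 q3008 L28620 q3219, e3 q3009 (flp_h L27863) q3143, e3 q3010 L28646 q3221, e3 q3011 (flp_h L26533) q2764, e3 q3012 (flp_h L26543) q2765, e3 q3013 L28654 q3222, e3 q3014 (flp_h L26566) q2767, e3 q3015 L28672 q3224, e3 q3016 (flp_h L26584) q2771, e3 q3017 L28682 q3225, e3 q3018 L26611 q2780, e3 q3019 L28707 q3227, e3 q3020 L26634 q2798, e3 q3021 L26647 q2839, e3 q3022 L26657 q2796, e3 q3023 L28743 q3230, e3 q3024 L26681 q2793, e3 q3025 L28768 q3232, e3 q3026 L28774 q3233, e3 q3027 (flp_h L26704) q2782, e3 q3028 L28788 q3234, e3 q3029 (flp_h L26719) q2786, e3 q3030 (flp_h L26730) q2787, e3 q3031 L26741 q2795, e3 q3032 L28812 q3237, e3 q3033 (flp_h L26750) q2790, e3 q3034 (flp_h L27712) q3130, e3 q3035 L28827 q3239, e3 q3036 L28833 q3240, e3 q3037 (flp_h L26779) q2794, e3 q3038 (flp_h L28473) q3201, e3 q3039 (flp_h L28436) q3197, e3 q3040 L28858 q3243, e3 q3041 (flp_h L27930) q3149, e3 q3042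 L28871 q3245, e3 q3043 (flp_h L26820) q2797, e3 q3044 (flp_h L27655) q3126, e3 q3045 L28891 q3248, e3 q3046 (flp_h L26840) q2799, e3 q3047 (flp_h L27495) q3114, e3 q3048 (flp_h L26857) q2804, e3 q3049 L28902 q3250, e3 q3050 (flp_h L26874) q2807, e3 q3051 (flp_h L28879) q3246, e3 q3052 (flp_h L26885) q2809, e3 q3053 (flp_h L26894) q2811, e3 q3054 (flp_h L26904) q2812, e3 q3055 (flp_h L26914) q2813, e3 q3056 L28921 q3253, e3 q3057 (flp_h L26931) q2815, e3 q3058 (flp_h L26937) q2816, e3 q3059 L28927 q3254, e3 q3060 (flp_h L26949) q2819, e3 q3061 L26961 q2831, e3 q3062 L26967 q2832, e3 q3063 L28946 q3257, e3 q3064 L26981 q2834, e3 q3065 L28959 q3259, e3 q3066 (flp_h L26990) q2824, e3 q3067 L28967 q3260, e3 q3068 (flp_h L27002) q2826, e3 q3069 L28973 q3261, e3 q3070 (flp_h L27014) q2829, e3 q3071 L28977 q3262, trivial⟩ (by decide +kernel)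

theorem ce_h_48 : ∀ r, r < 64 → sm gh (Qf (3072 + r)) = Qf (tab Gen.h (3072 + r)) :=
  edges_tab (sm gh) Qf (tab Gen.h) 3072 [(3072, 3204), (3073, 3264), (3074, 2833), (3075, 3265), (3076, 2835), (3077, 2837), (3078, 3122), (3079, 2844), (3080, 2846), (3081, 3267), (3082, 2849), (3083, 2851), (3084, 3266), (3085, 3270), (3086, 3271), (3087, 2857), (3088, 2858), (3089, 3272), (3090, 2860), (3091, 2862), (3092, 3274), (3093, 2864), (3094, 3275), (3095, 2867), (3096, 3096), (3097, 3278), (3098, 2870), (3099, 3279), (3100, 2873), (3101, 3281), (3102, 2876), (3103, 3103), (3104, 2880), (3105, 2881), (3106, 3286), (3107, 2984), (3108, 3288), (3109, 3289), (3110, 2882), (3111, 2883), (3112, 2885), (3113, 2987), (3114, 3047), (3115, 2954), (3116, 2965), (3117, 3295), (3118, 3296), (3119, 2892), (3120, 2893), (3121, 2899), (3122, 3078), (3123, 2901), (3124, 2902), (3125, 3300), (3126, 3044), (3127, 3003), (3128, 3302), (3129, 3303), (3130, 3034), (3131, 3305),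 (3132, 2903), (3133, 3306), (3134, 2905), (3135, 2907)]
    ⟨e3 q3072 (flp_h L28503) q3204, e3 q3073 L28991 q3264, e3 q3074 (flp_h L27042) q2833, e3 q3075 L28997 q3265, e3 q3076 (flp_h L27054) q2835, e3 q3077 (flp_h L27060) q2837, e3 q3078 (flp_h L27601) q3122, e3 q3079 (flp_h L27072) q2844, e3 q3080 (flp_h L27078) q2846, e3 q3081 L29007 q3267, e3 q3082 (flp_h L27092) q2849, e3 q3083 (flp_h L27100) q2851, e3 q3084 (flp_h L29005) q3266, e3 q3085 L29026 q3270, e3 q3086 L29039 q3271, e3 q3087 (flp_h L27137) q2857, e3 q3088 (flp_h L27147) q2858, e3 q3089 L29052 q3272, e3 q3090 (flp_h L27178) q2860, e3 q3091 (flp_h L27188) q2862, e3 q3092 L29077 q3274, e3 q3093 (flp_h L27217) q2864, e3 q3094 L29093 q3275, e3 q3095 (flp_h L27244) q2867, e3 q3096 L27258 q3096, e3 q3097 L29123 q3278, e3 q3098 (flp_h L27274) q2870, e3 q3099 L29139 q3279, e3 q3100 (flp_h L27303) q2873, e3 q3101 L29164 q3281, e3 q3102 (flp_h L27326) q2876, e3 q3103 L27340 q3103, e3 q3104 L27349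 q2880, e3 q3105 L27366 q2881, e3 q3106 L29224 q3286, e3 q3107 L27393 q2984, e3 q3108 L29253 q3288, e3 q3109 L29265 q3289, e3 q3110 (flp_h L27426) q2882, e3 q3111 (flp_h L27438) q2883, e3 q3112 (flp_h L27452) q2885, e3 q3113 L27478 q2987, e3 q3114 L27495 q3047, e3 q3115 L27505 q2954, e3 q3116 L27522 q2965, e3 q3117 L29350 q3295, e3 q3118 L29362 q3296, e3 q3119 (flp_h L27552) q2892, e3 q3120 (flp_h L27563) q2893, e3 q3121 L27583 q2899, e3 q3122 L27601 q3078, e3 q3123 L27611 q2901, e3 q3124 L27628 q2902, e3 q3125 L29423 q3300, e3 q3126 L27655 q3044, e3 q3127 L27672 q3003, e3 q3128 L29451 q3302, e3 q3129 L29463 q3303, e3 q3130 L27712 q3034, e3 q3131 L29493 q3305, e3 q3132 (flp_h L27730) q2903, e3 q3133 L29503 q3306, e3 q3134 (flp_h L27752) q2905, e3 q3135 (flp_h L27763) q2907, trivial⟩ (by decide +kernel)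

theorem ce_h_49 : ∀ r, r < 64 → sm gh (Qf (3136 + r)) = Qf (tab Gen.h (3136 + r)) :=
  edges_tab (sm gh) Qf (tab Gen.h) 3136 [(3136, 2910), (3137, 3309), (3138, 2920), (3139, 3311), (3140, 2922), (3141, 3313), (3142, 2916), (3143, 3009), (3144, 3315), (3145, 2919), (3146, 2988), (3147, 3317), (3148, 2921), (3149, 3041), (3150, 3320), (3151, 2923), (3152, 3322), (3153, 2927), (3154, 3321), (3155, 2929), (3156, 2931), (3157, 3325), (3158, 2934), (3159, 3318), (3160, 2936), (3161, 2938), (3162, 2940), (3163, 2942), (3164, 2944), (3165, 3165), (3166, 3329), (3167, 3330), (3168, 2949), (3169, 2950), (3170, 3332), (3171, 2953), (3172, 3333), (3173, 2955), (3174, 2957), (3175, 3334), (3176, 2959), (3177, 3337), (3178, 3338), (3179, 3339), (3180, 2966), (3181, 3340), (3182, 2968), (3183, 2990), (3184, 3342), (3185, 2970), (3186, 3343), (3187, 2972), (3188, 2973), (3189, 3345), (3190, 2976), (3191, 3344), (3192, 2993), (3193, 3349), (3194, 2980), (3195, 3351),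 (3196, 2983), (3197, 3039), (3198, 3353), (3199, 2985)]
    ⟨e3 q3136 (flp_h L27776) q2910, e3 q3137 L29544 q3309, e3 q3138 L27810 q2920, e3 q3139 L29571 q3311, e3 q3140 L27832 q2922, e3 q3141 L29594 q3313, e3 q3142 (flp_h L27845) q2916, e3 q3143 L27863 q3009, e3 q3144 L29617 q3315, e3 q3145 (flp_h L27878) q2919, e3 q3146 L27898 q2988, e3 q3147 L29645 q3317, e3 q3148 (flp_h L27912) q2921, e3 q3149 L27930 q3041, e3 q3150 L29675 q3320, e3 q3151 (flp_h L27944) q2923, e3 q3152 L29689 q3322, e3 q3153 (flp_h L27964) q2927, e3 q3154 (flp_h L29687) q3321, e3 q3155 (flp_h L27978) q2929, e3 q3156 (flp_h L27988) q2931, e3 q3157 L29720 q3325, e3 q3158 (flp_h L28013) q2934, e3 q3159 (flp_h L29657) q3318, e3 q3160 (flp_h L28027) q2936, e3 q3161 (flp_h L28037) q2938, e3 q3162 (flp_h L28050) q2940, e3 q3163 (flp_h L28060) q2942, e3 q3164 (flp_h L28070) q2944, e3 q3165 L28086 q3165, e3 q3166 L29758 q3329, e3 q3167 L29772 q3330, e3 q3168 (flp_h L28111) q2949, e3 q3169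 (flp_h L28125) q2950, e3 q3170 L29795 q3332, e3 q3171 (flp_h L28147) q2953, e3 q3172 L29807 q3333, e3 q3173 (flp_h L28173) q2955, e3 q3174 (flp_h L28181) q2957, e3 q3175 (flp_h L29823) q3334, e3 q3176 (flp_h L28199) q2959, e3 q3177 L29843 q3337, e3 q3178 L29857 q3338, e3 q3179 L29869 q3339, e3 q3180 (flp_h L28240) q2966, e3 q3181 L29877 q3340, e3 q3182 (flp_h L28257) q2968, e3 q3183 L28281 q2990, e3 q3184 L29905 q3342, e3 q3185 (flp_h L28299) q2970, e3 q3186 L29917 q3343, e3 q3187 (flp_h L28324) q2972, e3 q3188 (flp_h L28338) q2973, e3 q3189 L29935 q3345, e3 q3190 (flp_h L28356) q2976, e3 q3191 (flp_h L29933) q3344, e3 q3192 L28382 q2993, e3 q3193 L29984 q3349, e3 q3194 (flp_h L28393) q2980, e3 q3195 L29997 q3351, e3 q3196 (flp_h L28410) q2983, e3 q3197 L28436 q3039, e3 q3198 L30025 q3353, e3 q3199 (flp_h L28448) q2985, trivial⟩ (by decide +kernel)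

theorem ce_h_50 : ∀ r, r < 64 → sm gh (Qf (3200 + r)) = Qf (tab Gen.h (3200 + r)) :=
  edges_tab (sm gh) Qf (tab Gen.h) 3200 [(3200, 3355), (3201, 3038), (3202, 3357), (3203, 2989), (3204, 3072), (3205, 3359), (3206, 2991), (3207, 3361), (3208, 2994), (3209, 3001), (3210, 3364), (3211, 2997), (3212, 3354), (3213, 2999), (3214, 3362), (3215, 3363), (3216, 3005), (3217, 3217), (3218, 3007), (3219, 3008), (3220, 3370), (3221, 3010), (3222, 3013), (3223, 3371), (3224, 3015), (3225, 3017), (3226, 3373), (3227, 3019), (3228, 3374), (3229, 3375), (3230, 3023), (3231, 3376), (3232, 3025), (3233, 3026), (3234, 3028), (3235, 3377), (3236, 3378), (3237, 3032), (3238, 3380), (3239, 3035), (3240, 3036), (3241, 3382), (3242, 3383), (3243, 3040), (3244, 3385), (3245, 3042), (3246, 3051), (3247, 3388), (3248, 3045), (3249, 3381), (3250, 3049), (3251, 3384), (3252, 3387), (3253, 3056), (3254, 3059), (3255, 3390), (3256, 3391), (3257, 3063), (3258, 3392), (3259, 3065),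 (3260, 3067), (3261, 3069), (3262, 3071), (3263, 3394)]
    ⟨e3 q3200 L30039 q3355, e3 q3201 L28473 q3038, e3 q3202 L30062 q3357, e3 q3203 (flp_h L28486) q2989, e3 q3204 L28503 q3072, e3 q3205 L30083 q3359, e3 q3206 (flp_h L28516) q2991, e3 q3207 L30094 q3361, e3 q3208 (flp_h L28532) q2994, e3 q3209 L28540 q3001, e3 q3210 L30112 q3364, e3 q3211 (flp_h L28554) q2997, e3 q3212 (flp_h L30037) q3354, e3 q3213 (flp_h L28570) q2999, e3 q3214 (flp_h L30106) q3362, e3 q3215 (flp_h L30110) q3363, e3 q3216 (flp_h L28589) q3005, e3 q3217 L28605 q3217, e3 q3218 (flp_h L28606) q3007, e3 q3219 (flp_h L28620) q3008, e3 q3220 L30165 q3370, e3 q3221 (flp_h L28646) q3010, e3 q3222 (flp_h L28654) q3013, e3 q3223 (flp_h L30181) q3371, e3 q3224 (flp_h L28672) q3015, e3 q3225 (flp_h L28682) q3017, e3 q3226 L30190 q3373, e3 q3227 (flp_h L28707) q3019, e3 q3228 L30202 q3374, e3 q3229 L30214 q3375, e3 q3230 (flp_h L28743) q3023, e3 q3231 L30226 q3376, e3 q3232 (flp_h L28768)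 q3025, e3 q3233 (flp_h L28774) q3026, e3 q3234 (flp_h L28788) q3028, e3 q3235 (flp_h L30244) q3377, e3 q3236 L30246 q3378, e3 q3237 (flp_h L28812) q3032, e3 q3238 L30259 q3380, e3 q3239 (flp_h L28827) q3035, e3 q3240 (flp_h L28833) q3036, e3 q3241 L30273 q3382, e3 q3242 L30281 q3383, e3 q3243 (flp_h L28858) q3040, e3 q3244 L30295 q3385, e3 q3245 (flp_h L28871) q3042, e3 q3246 L28879 q3051, e3 q3247 L30308 q3388, e3 q3248 (flp_h L28891) q3045, e3 q3249 (flp_h L30271) q3381, e3 q3250 (flp_h L28902) q3049, e3 q3251 (flp_h L30293) q3384, e3 q3252 (flp_h L30306) q3387, e3 q3253 (flp_h L28921) q3056, e3 q3254 (flp_h L28927) q3059, e3 q3255 L30319 q3390, e3 q3256 L30327 q3391, e3 q3257 (flp_h L28946) q3063, e3 q3258 L30335 q3392, e3 q3259 (flp_h L28959) q3065, e3 q3260 (flp_h L28967) q3067, e3 q3261 (flp_h L28973) q3069, e3 q3262 (flp_h L28977) q3071, e3 q3263 L30348 q3394, trivial⟩ (by decide +kernel)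

theorem ce_h_51 : ∀ r, r < 64 → sm gh (Qf (3264 + r)) = Qf (tab Gen.h (3264 + r)) :=
  edges_tab (sm gh) Qf (tab Gen.h) 3264 [(3264, 3073), (3265, 3075), (3266, 3084), (3267, 3081), (3268, 3395), (3269, 3396), (3270, 3085), (3271, 3086), (3272, 3089), (3273, 3273), (3274, 3092), (3275, 3094), (3276, 3276), (3277, 3277), (3278, 3097), (3279, 3099), (3280, 3280), (3281, 3101), (3282, 3282), (3283, 3283), (3284, 3405), (3285, 3406), (3286, 3106), (3287, 3407), (3288, 3108), (3289, 3109), (3290, 3409), (3291, 3408), (3292, 3412), (3293, 3413), (3294, 3414), (3295, 3117), (3296, 3118), (3297, 3416), (3298, 3417), (3299, 3418), (3300, 3125), (3301, 3419), (3302, 3128), (3303, 3129), (3304, 3421), (3305, 3131), (3306, 3133), (3307, 3422), (3308, 3420), (3309, 3137), (3310, 3424), (3311, 3139), (3312, 3426), (3313, 3141), (3314, 3428), (3315, 3144), (3316, 3429), (3317, 3147), (3318, 3159), (3319, 3432), (3320, 3150), (3321, 3154), (3322, 3152), (3323, 3433),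 (3324, 3434), (3325, 3157), (3326, 3430), (3327, 3431)]
    ⟨e3 q3264 (flp_h L28991) q3073, e3 q3265 (flp_h L28997) q3075, e3 q3266 L29005 q3084, e3 q3267 (flp_h L29007) q3081, e3 q3268 (flp_h L30358) q3395, e3 q3269 (flp_h L30364) q3396, e3 q3270 (flp_h L29026) q3085, e3 q3271 (flp_h L29039) q3086, e3 q3272 (flp_h L29052) q3089, e3 q3273 L29076 q3273, e3 q3274 (flp_h L29077) q3092, e3 q3275 (flp_h L29093) q3094, e3 q3276 L29112 q3276, e3 q3277 L29119 q3277, e3 q3278 (flp_h L29123) q3097, e3 q3279 (flp_h L29139) q3099, e3 q3280 L29163 q3280, e3 q3281 (flp_h L29164) q3101, e3 q3282 L29183 q3282, e3 q3283 L29190 q3283, e3 q3284 L30463 q3405, e3 q3285 L30479 q3406, e3 q3286 (flp_h L29224) q3106, e3 q3287 L30495 q3407, e3 q3288 (flp_h L29253) q3108, e3 q3289 (flp_h L29265) q3109, e3 q3290 (flp_h L30537) q3409, e3 q3291 (flp_h L30523) q3408, e3 q3292 L30563 q3412, e3 q3293 L30581 q3413, e3 q3294 L30597 q3414, e3 q3295 (flp_h L29350) q3117, e3 q3296 (flp_h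 L29362) q3118, e3 q3297 L30628 q3416, e3 q3298 L30646 q3417, e3 q3299 L30662 q3418, e3 q3300 (flp_h L29423) q3125, e3 q3301 L30678 q3419, e3 q3302 (flp_h L29451) q3128, e3 q3303 (flp_h L29463) q3129, e3 q3304 L30712 q3421, e3 q3305 (flp_h L29493) q3131, e3 q3306 (flp_h L29503) q3133, e3 q3307 (flp_h L30738) q3422, e3 q3308 (flp_h L30710) q3420, e3 q3309 (flp_h L29544) q3137, e3 q3310 L30755 q3424, e3 q3311 (flp_h L29571) q3139, e3 q3312 L30778 q3426, e3 q3313 (flp_h L29594) q3141, e3 q3314 L30801 q3428, e3 q3315 (flp_h L29617) q3144, e3 q3316 L30817 q3429, e3 q3317 (flp_h L29645) q3147, e3 q3318 L29657 q3159, e3 q3319 L30851 q3432, e3 q3320 (flp_h L29675) q3150, e3 q3321 L29687 q3154, e3 q3322 (flp_h L29689) q3152, e3 q3323 (flp_h L30873) q3433, e3 q3324 (flp_h L30881) q3434, e3 q3325 (flp_h L29720) q3157, e3 q3326 (flp_h L30839) q3430, e3 q3327 (flp_h L30847) q3431, trivial⟩ (by decide +kernel)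

theorem ce_h_52 : ∀ r, r < 64 → sm gh (Qf (3328 + r)) = Qf (tab Gen.h (3328 + r)) :=
  edges_tab (sm gh) Qf (tab Gen.h) 3328 [(3328, 3328), (3329, 3166), (3330, 3167), (3331, 3439), (3332, 3170), (3333, 3172), (3334, 3175), (3335, 3441), (3336, 3442), (3337, 3177), (3338, 3178), (3339, 3179), (3340, 3181), (3341, 3445), (3342, 3184), (3343, 3186), (3344, 3191), (3345, 3189), (3346, 3446), (3347, 3448), (3348, 3449), (3349, 3193), (3350, 3350), (3351, 3195), (3352, 3453), (3353, 3198), (3354, 3212), (3355, 3200), (3356, 3456), (3357, 3202), (3358, 3458), (3359, 3205), (3360, 3360), (3361, 3207), (3362, 3214), (3363, 3215), (3364, 3210), (3365, 3454), (3366, 3455), (3367, 3461), (3368, 3462), (3369, 3369), (3370, 3220), (3371, 3223), (3372, 3465), (3373, 3226), (3374, 3228), (3375, 3229), (3376, 3231), (3377, 3235), (3378, 3236), (3379, 3379), (3380, 3238), (3381, 3249), (3382, 3241), (3383, 3242), (3384, 3251), (3385, 3244), (3386, 3386), (3387, 3252),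 (3388, 3247), (3389, 3389), (3390, 3255), (3391, 3256)]
    ⟨e3 q3328 L29757 q3328, e3 q3329 (flp_h L29758) q3166, e3 q3330 (flp_h L29772) q3167, e3 q3331 (flp_h L30953) q3439, e3 q3332 (flp_h L29795) q3170, e3 q3333 (flp_h L29807) q3172, e3 q3334 L29823 q3175, e3 q3335 (flp_h L30974) q3441, e3 q3336 (flp_h L30984) q3442, e3 q3337 (flp_h L29843) q3177, e3 q3338 (flp_h L29857) q3178, e3 q3339 (flp_h L29869) q3179, e3 q3340 (flp_h L29877) q3181, e3 q3341 L31006 q3445, e3 q3342 (flp_h L29905) q3184, e3 q3343 (flp_h L29917) q3186, e3 q3344 L29933 q3191, e3 q3345 (flp_h L29935) q3189, e3 q3346 (flp_h L31032) q3446, e3 q3347 (flp_h L31055) q3448, e3 q3348 L31057 q3449, e3 q3349 (flp_h L29984) q3193, e3 q3350 L29996 q3350, e3 q3351 (flp_h L29997) q3195, e3 q3352 L31102 q3453, e3 q3353 (flp_h L30025) q3198, e3 q3354 L30037 q3212, e3 q3355 (flp_h L30039) q3200, e3 q3356 L31136 q3456, e3 q3357 (flp_h L30062) q3202, e3 q3358 L31157 q3458, e3 q3359 (flp_h L30083)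 q3205, e3 q3360 L30093 q3360, e3 q3361 (flp_h L30094) q3207, e3 q3362 L30106 q3214, e3 q3363 L30110 q3215, e3 q3364 (flp_h L30112) q3210, e3 q3365 (flp_h L31124) q3454, e3 q3366 (flp_h L31134) q3455, e3 q3367 (flp_h L31193) q3461, e3 q3368 (flp_h L31201) q3462, e3 q3369 L30164 q3369, e3 q3370 (flp_h L30165) q3220, e3 q3371 L30181 q3223, e3 q3372 (flp_h L31233) q3465, e3 q3373 (flp_h L30190) q3226, e3 q3374 (flp_h L30202) q3228, e3 q3375 (flp_h L30214) q3229, e3 q3376 (flp_h L30226) q3231, e3 q3377 L30244 q3235, e3 q3378 (flp_h L30246) q3236, e3 q3379 L30258 q3379, e3 q3380 (flp_h L30259) q3238, e3 q3381 L30271 q3249, e3 q3382 (flp_h L30273) q3241, e3 q3383 (flp_h L30281) q3242, e3 q3384 L30293 q3251, e3 q3385 (flp_h L30295) q3244, e3 q3386 L30303 q3386, e3 q3387 L30306 q3252, e3 q3388 (flp_h L30308) q3247, e3 q3389 L30318 q3389, e3 q3390 (flp_h L30319) q3255, e3 q3391 (flp_h L30327) q3256, trivial⟩ (by decide +kernel)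

theorem ce_h_53 : ∀ r, r < 64 → sm gh (Qf (3392 + r)) = Qf (tab Gen.h (3392 + r)) :=
  edges_tab (sm gh) Qf (tab Gen.h) 3392 [(3392, 3258), (3393, 3393), (3394, 3263), (3395, 3268), (3396, 3269), (3397, 3474), (3398, 3475), (3399, 3399), (3400, 3400), (3401, 3401), (3402, 3402), (3403, 3403), (3404, 3404), (3405, 3284), (3406, 3285), (3407, 3287), (3408, 3291), (3409, 3290), (3410, 3480), (3411, 3479), (3412, 3292), (3413, 3293), (3414, 3294), (3415, 3483), (3416, 3297), (3417, 3298), (3418, 3299), (3419, 3301), (3420, 3308), (3421, 3304), (3422, 3307), (3423, 3486), (3424, 3310), (3425, 3425), (3426, 3312), (3427, 3427), (3428, 3314), (3429, 3316), (3430, 3326), (3431, 3327), (3432, 3319), (3433, 3323), (3434, 3324), (3435, 3493), (3436, 3492), (3437, 3495), (3438, 3494), (3439, 3331), (3440, 3440), (3441, 3335), (3442, 3336), (3443, 3443), (3444, 3444), (3445, 3341), (3446, 3346), (3447, 3447), (3448, 3347), (3449, 3348), (3450, 3450), (3451, 3451),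 (3452, 3452), (3453, 3352), (3454, 3365), (3455, 3366)]
    ⟨e3 q3392 (flp_h L30335) q3258, e3 q3393 L30347 q3393, e3 q3394 (flp_h L30348) q3263, e3 q3395 L30358 q3268, e3 q3396 L30364 q3269, e3 q3397 (flp_h L31299) q3474, e3 q3398 (flp_h L31305) q3475, e3 q3399 L30390 q3399, e3 q3400 L30402 q3400, e3 q3401 L30418 q3401, e3 q3402 L30432 q3402, e3 q3403 L30441 q3403, e3 q3404 L30458 q3404, e3 q3405 (flp_h L30463) q3284, e3 q3406 (flp_h L30479) q3285, e3 q3407 (flp_h L30495) q3287, e3 q3408 L30523 q3291, e3 q3409 L30537 q3290, e3 q3410 (flp_h L31372) q3480, e3 q3411 (flp_h L31360) q3479, e3 q3412 (flp_h L30563) q3292, e3 q3413 (flp_h L30581) q3293, e3 q3414 (flp_h L30597) q3294, e3 q3415 (flp_h L31421) q3483, e3 q3416 (flp_h L30628) q3297, e3 q3417 (flp_h L30646) q3298, e3 q3418 (flp_h L30662) q3299, e3 q3419 (flp_h L30678) q3301, e3 q3420 L30710 q3308, e3 q3421 (flp_h L30712) q3304, e3 q3422 L30738 q3307, e3 q3423 (flp_h L31473) q3486, e3 q3424 (flp_h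 L30755) q3310, e3 q3425 L30777 q3425, e3 q3426 (flp_h L30778) q3312, e3 q3427 L30800 q3427, e3 q3428 (flp_h L30801) q3314, e3 q3429 (flp_h L30817) q3316, e3 q3430 L30839 q3326, e3 q3431 L30847 q3327, e3 q3432 (flp_h L30851) q3319, e3 q3433 L30873 q3323, e3 q3434 L30881 q3324, e3 q3435 (flp_h L31584) q3493, e3 q3436 (flp_h L31572) q3492, e3 q3437 (flp_h L31616) q3495, e3 q3438 (flp_h L31600) q3494, e3 q3439 L30953 q3331, e3 q3440 L30967 q3440, e3 q3441 L30974 q3335, e3 q3442 L30984 q3336, e3 q3443 L30994 q3443, e3 q3444 L31005 q3444, e3 q3445 (flp_h L31006) q3341, e3 q3446 L31032 q3346, e3 q3447 L31046 q3447, e3 q3448 L31055 q3347, e3 q3449 (flp_h L31057) q3348, e3 q3450 L31079 q3450, e3 q3451 L31084 q3451, e3 q3452 L31101 q3452, e3 q3453 (flp_h L31102) q3352, e3 q3454 L31124 q3365, e3 q3455 L31134 q3366, trivial⟩ (by decide +kernel)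

theorem ce_h_54 : ∀ r, r < 54 → sm gh (Qf (3456 + r)) = Qf (tab Gen.h (3456 + r)) :=
  edges_tab (sm gh) Qf (tab Gen.h) 3456 [(3456, 3356), (3457, 3457), (3458, 3358), (3459, 3459), (3460, 3460), (3461, 3367), (3462, 3368), (3463, 3500), (3464, 3501), (3465, 3372), (3466, 3466), (3467, 3467), (3468, 3468), (3469, 3469), (3470, 3470), (3471, 3471), (3472, 3472), (3473, 3473), (3474, 3397), (3475, 3398), (3476, 3476), (3477, 3477), (3478, 3478), (3479, 3411), (3480, 3410), (3481, 3509), (3482, 3482), (3483, 3415), (3484, 3484), (3485, 3485), (3486, 3423), (3487, 3487), (3488, 3488), (3489, 3489), (3490, 3490), (3491, 3491), (3492, 3436), (3493, 3435), (3494, 3438), (3495, 3437), (3496, 3496), (3497, 3497), (3498, 3498), (3499, 3499), (3500, 3463), (3501, 3464), (3502, 3502), (3503, 3503), (3504, 3504), (3505, 3505), (3506, 3506), (3507, 3507), (3508, 3508), (3509, 3481)]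
    ⟨e3 q3456 (flp_h L31136) q3356, e3 q3457 L31156 q3457, e3 q3458 (flp_h L31157) q3358, e3 q3459 L31177 q3459, e3 q3460 L31182 q3460, e3 q3461 L31193 q3367, e3 q3462 L31201 q3368, e3 q3463 (flp_h L31682) q3500, e3 q3464 (flp_h L31696) q3501, e3 q3465 L31233 q3372, e3 q3466 L31245 q3466, e3 q3467 L31256 q3467, e3 q3468 L31263 q3468, e3 q3469 L31268 q3469, e3 q3470 L31273 q3470, e3 q3471 L31278 q3471, e3 q3472 L31285 q3472, e3 q3473 L31292 q3473, e3 q3474 L31299 q3397, e3 q3475 L31305 q3398, e3 q3476 L31321 q3476, e3 q3477 L31336 q3477, e3 q3478 L31349 q3478, e3 q3479 L31360 q3411, e3 q3480 L31372 q3410, e3 q3481 (flp_h L31805) q3509, e3 q3482 L31404 q3482, e3 q3483 L31421 q3415, e3 q3484 L31439 q3484, e3 q3485 L31456 q3485, e3 q3486 L31473 q3423, e3 q3487 L31491 q3487, e3 q3488 L31500 q3488, e3 q3489 L31523 q3489, e3 q3490 L31532 q3490, e3 q3491 L31555 q3491, e3 q3492 L31572 q3436, e3 q3493 L31584 q3435, e3 q3494 L31600 q3438, e3 q3495 L31616 q3437,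 e3 q3496 L31632 q3496, e3 q3497 L31645 q3497, e3 q3498 L31656 q3498, e3 q3499 L31671 q3499, e3 q3500 L31682 q3463, e3 q3501 L31696 q3464, e3 q3502 L31712 q3502, e3 q3503 L31717 q3503, e3 q3504 L31724 q3504, e3 q3505 L31737 q3505, e3 q3506 L31754 q3506, e3 q3507 L31769 q3507, e3 q3508 L31788 q3508, e3 q3509 L31805 q3481, trivial⟩ (by decide +kernel)

theorem cl_h : ∀ i, i < 3510 → sm gh (Qf i) = Qf (tab Gen.h i) :=
  all_of_chunks (fun i => sm gh (Qf i) = Qf (tab Gen.h i)) 54 54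
    ⟨ce_h_0, ce_h_1, ce_h_2, ce_h_3, ce_h_4, ce_h_5, ce_h_6, ce_h_7, ce_h_8, ce_h_9, ce_h_10, ce_h_11, ce_h_12, ce_h_13, ce_h_14, ce_h_15, ce_h_16, ce_h_17, ce_h_18, ce_h_19, ce_h_20, ce_h_21, ce_h_22, ce_h_23, ce_h_24, ce_h_25, ce_h_26, ce_h_27, ce_h_28, ce_h_29, ce_h_30, ce_h_31, ce_h_32, ce_h_33, ce_h_34, ce_h_35, ce_h_36, ce_h_37, ce_h_38, ce_h_39, ce_h_40, ce_h_41, ce_h_42, ce_h_43, ce_h_44, ce_h_45, ce_h_46, ce_h_47, ce_h_48, ce_h_49, ce_h_50, ce_h_51, ce_h_52, ce_h_53, trivial⟩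
    ce_h_54


end Cfsg.Agent.Helper28.FiaA
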