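import Cfsg.Agent.Helper28.FiaC0

/-!
# The Fi₂₂ presentation, cosets of the subgroup generated by a, c, d, e, f, g, h, i, (abcdeh)⁵: the action of the generator i (helper28; generated)
-/

set_option autoImplicit false
set_option maxRecDepth 100000
set_option linter.unusedSimpArgs false
set_option linter.constructorNameAsVariable false

noncomputable section

namespace Cfsg.Agent.Helper28.FiaA

open Cfsg.Spor Cfsg.Spor.Fi22 Cfsg.Agent.Helper28.CosetTable

theorem ce_i_0 : ∀ r, r < 64 → sm gi (Qf (0 + r)) = Qf (tab Gen.i (0 + r)) :=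
  edges_tab (sm gi) Qf (tab Gen.i) 0 [(0, 0), (1, 1), (2, 2), (3, 3), (4, 4), (5, 5), (6, 6), (7, 7), (8, 8), (9, 15), (10, 10), (11, 11), (12, 21), (13, 13), (14, 25), (15, 9), (16, 16), (17, 17), (18, 30), (19, 19), (20, 34), (21, 12), (22, 22), (23, 37), (24, 39), (25, 14), (26, 26), (27, 44), (28, 28), (29, 48), (30, 18), (31, 31), (32, 51), (33, 53), (34, 20), (35, 55), (36, 58), (37, 23), (38, 60), (39, 24), (40, 40), (41, 41), (42, 65), (43, 66), (44, 27), (45, 45), (46, 69), (47, 70), (48, 29), (49, 72), (50, 75), (51, 32), (52, 76), (53, 33), (54, 80), (55, 35), (56, 83), (57, 84), (58, 36), (59, 86), (60, 38), (61, 61), (62, 62), (63, 63)]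
    ⟨e3 q0 L7 q0, e3 q1 L15 q1, e3 q2 L23 q2, e3 q3 L31 q3, e3 q4 L41 q4, e3 q5 L47 q5, e3 q6 L55 q6, e3 q7 L64 q7, e3 q8 L71 q8, e3 q9 L118 q15, e3 q10 L87 q10, e3 q11 L94 q11, e3 q12 L166 q21, e3 q13 L109 q13, e3 q14 L196 q25, e3 q15 (flp_i L118) q9, e3 q16 L131 q16, e3 q17 L140 q17, e3 q18 L236 q30, e3 q19 L156 q19, e3 q20 L269 q34, e3 q21 (flp_i L166) q12, e3 q22 L181 q22, e3 q23 L292 q37, e3 q24 L306 q39, e3 q25 (flp_i L196) q14, e3 q26 L211 q26, e3 q27 L349 q44, e3 q28 L226 q28, e3 q29 L384 q48, e3 q30 (flp_i L236) q18, e3 q31 L252 q31, e3 q32 L409 q51, e3 q33 L427 q53, e3 q34 (flp_i L269) q20, e3 q35 L442 q55, e3 q36 L463 q58, e3 q37 (flp_i L292) q23, e3 q38 L478 q60, e3 q39 (flp_i L306) q24, e3 q40 L318 q40, e3 q41 L327 q41, e3 q42 L520 q65, e3 q43 L531 q66, e3 q44 (flp_i L349) q27, e3 q45 L365 q45, e3 q46 L559 q69, e3 q47 L568 q70, e3 q48 (flp_i L384) q29, e3 q49 L586 q72, e3 q50 L612 q75, e3 q51 (flp_i L409) q32, e3 q52 L620 q76, e3 q53 (flp_i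 L427) q33, e3 q54 L652 q80, e3 q55 (flp_i L442) q35, e3 q56 L674 q83, e3 q57 L681 q84, e3 q58 (flp_i L463) q36, e3 q59 L695 q86, e3 q60 (flp_i L478) q38, e3 q61 L491 q61, e3 q62 L500 q62, e3 q63 L508 q63, trivial⟩ (by decide +kernel)

theorem ce_i_1 : ∀ r, r < 64 → sm gi (Qf (64 + r)) = Qf (tab Gen.i (64 + r)) :=
  edges_tab (sm gi) Qf (tab Gen.i) 64 [(64, 91), (65, 42), (66, 43), (67, 94), (68, 96), (69, 46), (70, 47), (71, 100), (72, 49), (73, 102), (74, 103), (75, 50), (76, 52), (77, 77), (78, 108), (79, 110), (80, 54), (81, 113), (82, 115), (83, 56), (84, 57), (85, 85), (86, 59), (87, 87), (88, 88), (89, 89), (90, 121), (91, 64), (92, 92), (93, 123), (94, 67), (95, 124), (96, 68), (97, 97), (98, 127), (99, 129), (100, 71), (101, 132), (102, 73), (103, 74), (104, 104), (105, 105), (106, 137), (107, 140), (108, 78), (109, 142), (110, 79), (111, 111), (112, 145), (113, 81), (114, 148), (115, 82), (116, 116), (117, 117), (118, 118), (119, 119), (120,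 120), (121, 90), (122, 156), (123, 93), (124, 95), (125, 125), (126, 161), (127, 98)]
    ⟨e3 q64 L741 q91, e3 q65 (flp_i L520) q42, e3 q66 (flp_i L531) q43, e3 q67 L772 q94, e3 q68 L791 q96, e3 q69 (flp_i L559) q46, e3 q70 (flp_i L568) q47, e3 q71 L829 q100, e3 q72 (flp_i L586) q49, e3 q73 L847 q102, e3 q74 L857 q103, e3 q75 (flp_i L612) q50, e3 q76 (flp_i L620) q52, e3 q77 L637 q77, e3 q78 L899 q108, e3 q79 L914 q110, e3 q80 (flp_i L652) q54, e3 q81 L938 q113, e3 q82 L952 q115, e3 q83 (flp_i L674) q56, e3 q84 (flp_i L681) q57, e3 q85 L694 q85, e3 q86 (flp_i L695) q59, e3 q87 L710 q87, e3 q88 L717 q88, e3 q89 L728 q89, e3 q90 L998 q121, e3 q91 (flp_i L741) q64, e3 q92 L761 q92, e3 q93 L1020 q123, e3 q94 (flp_i L772) q67, e3 q95 L1031 q124, e3 q96 (flp_i L791) q68, e3 q97 L810 q97, e3 q98 L1061 q127, e3 q99 L1080 q129, e3 q100 (flp_i L829) q71, e3 q101 L1106 q132, e3 q102 (flp_i L847) q73, e3 q103 (flp_i L857) q74, e3 q104 L872 q104, e3 q105 L882 q105,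 e3 q106 L1152 q137, e3 q107 L1175 q140, e3 q108 (flp_i L899) q78, e3 q109 L1191 q142, e3 q110 (flp_i L914) q79, e3 q111 L929 q111, e3 q112 L1214 q145, e3 q113 (flp_i L938) q81, e3 q114 L1238 q148, e3 q115 (flp_i L952) q82, e3 q116 L965 q116, e3 q117 L972 q117, e3 q118 L981 q118, e3 q119 L985 q119, e3 q120 L997 q120, e3 q121 (flp_i L998) q90, e3 q122 L1302 q156, e3 q123 (flp_i L1020) q93, e3 q124 (flp_i L1031) q95, e3 q125 L1050 q125, e3 q126 L1353 q161, e3 q127 (flp_i L1061) q98, trivial⟩ (by decide +kernel)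

theorem ce_i_2 : ∀ r, r < 64 → sm gi (Qf (128 + r)) = Qf (tab Gen.i (128 + r)) :=
  edges_tab (sm gi) Qf (tab Gen.i) 128 [(128, 163), (129, 99), (130, 130), (131, 166), (132, 101), (133, 133), (134, 134), (135, 135), (136, 173), (137, 106), (138, 177), (139, 178), (140, 107), (141, 141), (142, 109), (143, 143), (144, 185), (145, 112), (146, 146), (147, 188), (148, 114), (149, 149), (150, 150), (151, 151), (152, 152), (153, 153), (154, 154), (155, 196), (156, 122), (157, 157), (158, 158), (159, 201), (160, 202), (161, 126), (162, 162), (163, 128), (164, 164), (165, 207), (166, 131), (167, 167), (168, 168), (169, 169), (170, 170), (171, 216), (172, 217), (173, 136), (174, 174), (175, 222), (176, 223), (177, 138), (178, 139), (179, 179), (180, 180), (181, 181), (182, 182), (183, 231), (184, 232), (185, 144), (186, 186), (187, 187), (188, 147), (189, 237), (190, 190), (191, 191)]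
    ⟨e3 q128 L1375 q163, e3 q129 (flp_i L1080) q99, e3 q130 L1097 q130, e3 q131 L1402 q166, e3 q132 (flp_i L1106) q101, e3 q133 L1125 q133, e3 q134 L1133 q134, e3 q135 L1140 q135, e3 q136 L1468 q173, e3 q137 (flp_i L1152) q106, e3 q138 L1501 q177, e3 q139 L1509 q178, e3 q140 (flp_i L1175) q107, e3 q141 L1190 q141, e3 q142 (flp_i L1191) q109, e3 q143 L1206 q143, e3 q144 L1565 q185, e3 q145 (flp_i L1214) q112, e3 q146 L1231 q146, e3 q147 L1593 q188, e3 q148 (flp_i L1238) q114, e3 q149 L1252 q149, e3 q150 L1257 q150, e3 q151 L1264 q151, e3 q152 L1273 q152, e3 q153 L1280 q153, e3 q154 L1289 q154, e3 q155 L1642 q196, e3 q156 (flp_i L1302) q122, e3 q157 L1323 q157, e3 q158 L1333 q158, e3 q159 L1692 q201, e3 q160 L1703 q202, e3 q161 (flp_i L1353) q126, e3 q162 L1374 q162, e3 q163 (flp_i L1375) q128, e3 q164 L1392 q164, e3 q165 L1755 q207, e3 q166 (flp_i L1402) q131, e3 q167 L1422 q167, e3 q168 L1430 q168, e3 q169 L1438 q169, e3 q170 L1449 q170, e3 q171 L1829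 q216, e3 q172 L1839 q217, e3 q173 (flp_i L1468) q136, e3 q174 L1487 q174, e3 q175 L1883 q222, e3 q176 L1891 q223, e3 q177 (flp_i L1501) q138, e3 q178 (flp_i L1509) q139, e3 q179 L1525 q179, e3 q180 L1531 q180, e3 q181 L1541 q181, e3 q182 L1547 q182, e3 q183 L1948 q231, e3 q184 L1957 q232, e3 q185 (flp_i L1565) q144, e3 q186 L1583 q186, e3 q187 L1591 q187, e3 q188 (flp_i L1593) q147, e3 q189 (flp_i L2000) q237, e3 q190 L1607 q190, e3 q191 L1612 q191, trivial⟩ (by decide +kernel)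

theorem ce_i_3 : ∀ r, r < 64 → sm gi (Qf (192 + r)) = Qf (tab Gen.i (192 + r)) :=
  edges_tab (sm gi) Qf (tab Gen.i) 192 [(192, 192), (193, 193), (194, 194), (195, 195), (196, 155), (197, 197), (198, 198), (199, 251), (200, 252), (201, 159), (202, 160), (203, 203), (204, 204), (205, 205), (206, 206), (207, 165), (208, 259), (209, 209), (210, 210), (211, 211), (212, 212), (213, 268), (214, 271), (215, 272), (216, 171), (217, 172), (218, 218), (219, 219), (220, 279), (221, 280), (222, 175), (223, 176), (224, 282), (225, 225), (226, 226), (227, 227), (228, 228), (229, 229), (230, 292), (231, 183), (232, 184), (233, 294), (234, 234), (235, 235), (236, 236), (237, 189), (238, 300), (239, 239), (240, 240), (241, 241), (242, 242), (243, 243), (244, 244), (245, 245), (246, 246), (247, 247), (248, 248), (249, 315), (250, 316), (251, 199), (252, 200), (253, 318), (254, 254), (255, 255)]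
    ⟨e3 q192 L1618 q192, e3 q193 L1624 q193, e3 q194 L1634 q194, e3 q195 L1641 q195, e3 q196 (flp_i L1642) q155, e3 q197 L1663 q197, e3 q198 L1670 q198, e3 q199 L2104 q251, e3 q200 L2115 q252, e3 q201 (flp_i L1692) q159, e3 q202 (flp_i L1703) q160, e3 q203 L1725 q203, e3 q204 L1734 q204, e3 q205 L1745 q205, e3 q206 L1752 q206, e3 q207 (flp_i L1755) q165, e3 q208 (flp_i L2190) q259, e3 q209 L1778 q209, e3 q210 L1786 q210, e3 q211 L1794 q211, e3 q212 L1803 q212, e3 q213 L2259 q268, e3 q214 L2286 q271, e3 q215 L2296 q272, e3 q216 (flp_i L1829) q171, e3 q217 (flp_i L1839) q172, e3 q218 L1859 q218, e3 q219 L1868 q219, e3 q220 L2358 q279, e3 q221 L2366 q280, e3 q222 (flp_i L1883) q175, e3 q223 (flp_i L1891) q176, e3 q224 (flp_i L2385) q282, e3 q225 L1912 q225, e3 q226 L1917 q226, e3 q227 L1924 q227, e3 q228 L1931 q228, e3 q229 L1939 q229, e3 q230 L2449 q292, e3 q231 (flp_i L1948) q183, e3 q232 (flp_i L1957) q184, e3 q233 (flp_i L2472) q294, e3 q234 L1978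 q234, e3 q235 L1985 q235, e3 q236 L1994 q236, e3 q237 L2000 q189, e3 q238 (flp_i L2516) q300, e3 q239 L2010 q239, e3 q240 L2015 q240, e3 q241 L2022 q241, e3 q242 L2030 q242, e3 q243 L2040 q243, e3 q244 L2048 q244, e3 q245 L2054 q245, e3 q246 L2066 q246, e3 q247 L2074 q247, e3 q248 L2083 q248, e3 q249 L2625 q315, e3 q250 L2636 q316, e3 q251 (flp_i L2104) q199, e3 q252 (flp_i L2115) q200, e3 q253 (flp_i L2664) q318, e3 q254 L2145 q254, e3 q255 L2153 q255, trivial⟩ (by decide +kernel)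

theorem ce_i_4 : ∀ r, r < 64 → sm gi (Qf (256 + r)) = Qf (tab Gen.i (256 + r)) :=
  edges_tab (sm gi) Qf (tab Gen.i) 256 [(256, 256), (257, 257), (258, 258), (259, 208), (260, 327), (261, 261), (262, 262), (263, 263), (264, 264), (265, 265), (266, 337), (267, 339), (268, 213), (269, 342), (270, 343), (271, 214), (272, 215), (273, 345), (274, 274), (275, 275), (276, 276), (277, 277), (278, 353), (279, 220), (280, 221), (281, 355), (282, 224), (283, 357), (284, 284), (285, 285), (286, 286), (287, 287), (288, 288), (289, 289), (290, 290), (291, 370), (292, 230), (293, 371), (294, 233), (295, 373), (296, 296), (297, 297), (298, 298), (299, 299), (300, 238), (301, 382), (302, 383), (303, 303), (304, 304), (305, 305), (306, 306), (307, 307), (308, 308), (309, 309), (310, 310), (311, 311), (312, 312), (313, 313), (314, 399), (315, 249), (316, 250), (317, 401), (318, 253), (319, 403)]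
    ⟨e3 q256 L2163 q256, e3 q257 L2171 q257, e3 q258 L2181 q258, e3 q259 L2190 q208, e3 q260 (flp_i L2743) q327, e3 q261 L2205 q261, e3 q262 L2213 q262, e3 q263 L2223 q263, e3 q264 L2231 q264, e3 q265 L2240 q265, e3 q266 L2821 q337, e3 q267 L2839 q339, e3 q268 (flp_i L2259) q213, e3 q269 L2866 q342, e3 q270 L2876 q343, e3 q271 (flp_i L2286) q214, e3 q272 (flp_i L2296) q215, e3 q273 (flp_i L2901) q345, e3 q274 L2323 q274, e3 q275 L2331 q275, e3 q276 L2339 q276, e3 q277 L2350 q277, e3 q278 L2962 q353, e3 q279 (flp_i L2358) q220, e3 q280 (flp_i L2366) q221, e3 q281 (flp_i L2982) q355, e3 q282 L2385 q224, e3 q283 (flp_i L2995) q357, e3 q284 L2398 q284, e3 q285 L2403 q285, e3 q286 L2410 q286, e3 q287 L2417 q287, e3 q288 L2425 q288, e3 q289 L2431 q289, e3 q290 L2440 q290, e3 q291 L3084 q370, e3 q292 (flp_i L2449) q230, e3 q293 (flp_i L3100) q371, e3 q294 L2472 q233, e3 q295 (flp_i L3114) q373, e3 q296 L2486 q296, e3 q297 L2493 q297, e3 q298 L2503 q298, e3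 q299 L2510 q299, e3 q300 L2516 q238, e3 q301 (flp_i L3182) q382, e3 q302 (flp_i L3188) q383, e3 q303 L2535 q303, e3 q304 L2540 q304, e3 q305 L2546 q305, e3 q306 L2554 q306, e3 q307 L2561 q307, e3 q308 L2567 q308, e3 q309 L2577 q309, e3 q310 L2585 q310, e3 q311 L2595 q311, e3 q312 L2604 q312, e3 q313 L2612 q313, e3 q314 L3307 q399, e3 q315 (flp_i L2625) q249, e3 q316 (flp_i L2636) q250, e3 q317 (flp_i L3336) q401, e3 q318 L2664 q253, e3 q319 (flp_i L3355) q403, trivial⟩ (by decide +kernel)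

theorem ce_i_5 : ∀ r, r < 64 → sm gi (Qf (320 + r)) = Qf (tab Gen.i (320 + r)) :=
  edges_tab (sm gi) Qf (tab Gen.i) 320 [(320, 320), (321, 321), (322, 322), (323, 323), (324, 324), (325, 325), (326, 326), (327, 260), (328, 415), (329, 416), (330, 330), (331, 331), (332, 332), (333, 333), (334, 334), (335, 426), (336, 428), (337, 266), (338, 431), (339, 267), (340, 432), (341, 435), (342, 269), (343, 270), (344, 437), (345, 273), (346, 439), (347, 347), (348, 348), (349, 349), (350, 350), (351, 351), (352, 451), (353, 278), (354, 452), (355, 281), (356, 454), (357, 283), (358, 457), (359, 458), (360, 360), (361, 361), (362, 362), (363, 363), (364, 364), (365, 365), (366, 366), (367, 367), (368, 368), (369, 473), (370, 291), (371, 293), (372, 475), (373, 295), (374, 478), (375, 479), (376, 376), (377, 377), (378, 378), (379, 379), (380, 380), (381, 381), (382, 301), (383, 302)]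
    ⟨e3 q320 L2683 q320, e3 q321 L2690 q321, e3 q322 L2700 q322, e3 q323 L2710 q323, e3 q324 L2720 q324, e3 q325 L2727 q325, e3 q326 L2736 q326, e3 q327 L2743 q260, e3 q328 (flp_i L3464) q415, e3 q329 (flp_i L3473) q416, e3 q330 L2767 q330, e3 q331 L2775 q331, e3 q332 L2784 q332, e3 q333 L2795 q333, e3 q334 L2801 q334, e3 q335 L3554 q426, e3 q336 L3574 q428, e3 q337 (flp_i L2821) q266, e3 q338 L3602 q431, e3 q339 (flp_i L2839) q267, e3 q340 (flp_i L3620) q432, e3 q341 L3639 q435, e3 q342 (flp_i L2866) q269, e3 q343 (flp_i L2876) q270, e3 q344 (flp_i L3665) q437, e3 q345 L2901 q273, e3 q346 (flp_i L3684) q439, e3 q347 L2920 q347, e3 q348 L2926 q348, e3 q349 L2935 q349, e3 q350 L2947 q350, e3 q351 L2954 q351, e3 q352 L3779 q451, e3 q353 (flp_i L2962) q278, e3 q354 (flp_i L3793) q452, e3 q355 L2982 q281, e3 q356 (flp_i L3805) q454, e3 q357 L2995 q283, e3 q358 (flp_i L3826) q457, e3 q359 (flp_i L3834) q458, e3 q360 L3017 q360, e3 q361 L3023 q361, e3 q362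 L3031 q362, e3 q363 L3038 q363, e3 q364 L3044 q364, e3 q365 L3050 q365, e3 q366 L3059 q366, e3 q367 L3067 q367, e3 q368 L3076 q368, e3 q369 L3937 q473, e3 q370 (flp_i L3084) q291, e3 q371 L3100 q293, e3 q372 (flp_i L3957) q475, e3 q373 L3114 q295, e3 q374 (flp_i L3977) q478, e3 q375 (flp_i L3985) q479, e3 q376 L3135 q376, e3 q377 L3143 q377, e3 q378 L3151 q378, e3 q379 L3157 q379, e3 q380 L3166 q380, e3 q381 L3177 q381, e3 q382 L3182 q301, e3 q383 L3188 q302, trivial⟩ (by decide +kernel)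

theorem ce_i_6 : ∀ r, r < 64 → sm gi (Qf (384 + r)) = Qf (tab Gen.i (384 + r)) :=
  edges_tab (sm gi) Qf (tab Gen.i) 384 [(384, 491), (385, 492), (386, 493), (387, 387), (388, 388), (389, 389), (390, 390), (391, 391), (392, 472), (393, 393), (394, 394), (395, 395), (396, 396), (397, 397), (398, 507), (399, 314), (400, 508), (401, 317), (402, 510), (403, 319), (404, 513), (405, 514), (406, 406), (407, 407), (408, 408), (409, 409), (410, 410), (411, 411), (412, 412), (413, 413), (414, 414), (415, 328), (416, 329), (417, 528), (418, 529), (419, 530), (420, 420), (421, 421), (422, 422), (423, 423), (424, 539), (425, 540), (426, 335), (427, 542), (428, 336), (429, 543), (430, 545), (431, 338), (432, 340), (433, 547), (434, 550), (435, 341), (436, 551), (437, 344), (438, 553), (439, 346), (440, 556), (441, 557), (442, 442), (443, 443), (444, 444), (445, 445), (446, 446), (447, 447)]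
    ⟨e3 q384 (flp_i L4077) q491, e3 q385 (flp_i L4084) q492, e3 q386 (flp_i L4090) q493, e3 q387 L3214 q387, e3 q388 L3219 q388, e3 q389 L3226 q389, e3 q390 L3233 q390, e3 q391 L3241 q391, e3 q392 (flp_i L5674) q472, e3 q393 L3257 q393, e3 q394 L3266 q394, e3 q395 L3275 q395, e3 q396 L3285 q396, e3 q397 L3296 q397, e3 q398 L4215 q507, e3 q399 (flp_i L3307) q314, e3 q400 (flp_i L4235) q508, e3 q401 L3336 q317, e3 q402 (flp_i L4253) q510, e3 q403 L3355 q319, e3 q404 (flp_i L4281) q513, e3 q405 (flp_i L4292) q514, e3 q406 L3384 q406, e3 q407 L3393 q407, e3 q408 L3401 q408, e3 q409 L3411 q409, e3 q410 L3420 q410, e3 q411 L3429 q411, e3 q412 L3438 q412, e3 q413 L3447 q413, e3 q414 L3455 q414, e3 q415 L3464 q328, e3 q416 L3473 q329, e3 q417 (flp_i L4414) q528, e3 q418 (flp_i L4424) q529, e3 q419 (flp_i L4433) q530, e3 q420 L3506 q420, e3 q421 L3514 q421, e3 q422 L3523 q422, e3 q423 L3533 q423, e3 q424 L4503 q539, e3 q425 L4513 q540, e3 q426 (flp_i L3554)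 q335, e3 q427 L4534 q542, e3 q428 (flp_i L3574) q336, e3 q429 (flp_i L4554) q543, e3 q430 L4564 q545, e3 q431 (flp_i L3602) q338, e3 q432 L3620 q340, e3 q433 (flp_i L4589) q547, e3 q434 L4607 q550, e3 q435 (flp_i L3639) q341, e3 q436 (flp_i L4627) q551, e3 q437 L3665 q344, e3 q438 (flp_i L4645) q553, e3 q439 L3684 q346, e3 q440 (flp_i L4670) q556, e3 q441 (flp_i L4680) q557, e3 q442 L3710 q442, e3 q443 L3718 q443, e3 q444 L3725 q444, e3 q445 L3735 q445, e3 q446 L3743 q446, e3 q447 L3750 q447, trivial⟩ (by decide +kernel)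

theorem ce_i_7 : ∀ r, r < 64 → sm gi (Qf (448 + r)) = Qf (tab Gen.i (448 + r)) :=
  edges_tab (sm gi) Qf (tab Gen.i) 448 [(448, 448), (449, 449), (450, 572), (451, 352), (452, 354), (453, 574), (454, 356), (455, 577), (456, 578), (457, 358), (458, 359), (459, 582), (460, 583), (461, 584), (462, 462), (463, 463), (464, 464), (465, 465), (466, 466), (467, 467), (468, 468), (469, 469), (470, 470), (471, 471), (472, 392), (473, 369), (474, 474), (475, 372), (476, 602), (477, 603), (478, 374), (479, 375), (480, 607), (481, 608), (482, 609), (483, 483), (484, 484), (485, 485), (486, 486), (487, 487), (488, 488), (489, 606), (490, 490), (491, 384), (492, 385), (493, 386), (494, 622), (495, 623), (496, 624), (497, 625), (498, 626), (499, 499), (500, 500), (501, 501), (502, 502), (503, 503), (504, 504), (505, 505), (506, 638), (507, 398), (508, 400), (509, 640), (510, 402), (511, 643)]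
    ⟨e3 q448 L3759 q448, e3 q449 L3768 q449, e3 q450 L4802 q572, e3 q451 (flp_i L3779) q352, e3 q452 L3793 q354, e3 q453 (flp_i L4821) q574, e3 q454 L3805 q356, e3 q455 (flp_i L4841) q577, e3 q456 (flp_i L4848) q578, e3 q457 L3826 q358, e3 q458 L3834 q359, e3 q459 (flp_i L4877) q582, e3 q460 (flp_i L4886) q583, e3 q461 (flp_i L4892) q584, e3 q462 L3864 q462, e3 q463 L3870 q463, e3 q464 L3874 q464, e3 q465 L3883 q465, e3 q466 L3890 q466, e3 q467 L3897 q467, e3 q468 L3902 q468, e3 q469 L3912 q469, e3 q470 L3920 q470, e3 q471 L3926 q471, e3 q472 L5674 q392, e3 q473 (flp_i L3937) q369, e3 q474 L3951 q474, e3 q475 L3957 q372, e3 q476 (flp_i L5038) q602, e3 q477 (flp_i L5046) q603, e3 q478 L3977 q374, e3 q479 L3985 q375, e3 q480 (flp_i L5073) q607, e3 q481 (flp_i L5083) q608, e3 q482 (flp_i L5092) q609, e3 q483 L4017 q483, e3 q484 L4025 q484, e3 q485 L4029 q485, e3 q486 L4038 q486, e3 q487 L4048 q487, e3 q488 L4055 q488, e3 q489 (flp_i L5759) q606, e3 q490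 L4071 q490, e3 q491 L4077 q384, e3 q492 L4084 q385, e3 q493 L4090 q386, e3 q494 (flp_i L5210) q622, e3 q495 (flp_i L5217) q623, e3 q496 (flp_i L5221) q624, e3 q497 (flp_i L5230) q625, e3 q498 (flp_i L5238) q626, e3 q499 L4127 q499, e3 q500 L4134 q500, e3 q501 L4142 q501, e3 q502 L4157 q502, e3 q503 L4183 q503, e3 q504 L4193 q504, e3 q505 L4204 q505, e3 q506 L5358 q638, e3 q507 (flp_i L4215) q398, e3 q508 L4235 q400, e3 q509 (flp_i L5384) q640, e3 q510 L4253 q402, e3 q511 (flp_i L5411) q643, trivial⟩ (by decide +kernel)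

theorem ce_i_8 : ∀ r, r < 64 → sm gi (Qf (512 + r)) = Qf (tab Gen.i (512 + r)) :=
  edges_tab (sm gi) Qf (tab Gen.i) 512 [(512, 644), (513, 404), (514, 405), (515, 648), (516, 649), (517, 650), (518, 518), (519, 519), (520, 520), (521, 521), (522, 522), (523, 523), (524, 524), (525, 525), (526, 526), (527, 527), (528, 417), (529, 418), (530, 419), (531, 667), (532, 668), (533, 669), (534, 670), (535, 671), (536, 536), (537, 537), (538, 538), (539, 424), (540, 425), (541, 677), (542, 427), (543, 429), (544, 680), (545, 430), (546, 546), (547, 433), (548, 684), (549, 685), (550, 434), (551, 436), (552, 690), (553, 438), (554, 693), (555, 694), (556, 440), (557, 441), (558, 698), (559, 699), (560, 700), (561, 561), (562, 562), (563, 563), (564, 564), (565, 565), (566, 566), (567, 567), (568, 568), (569, 569), (570, 720), (571, 571), (572, 450), (573, 573), (574, 453), (575, 723)]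
    ⟨e3 q512 (flp_i L5421) q644, e3 q513 L4281 q404, e3 q514 L4292 q405, e3 q515 (flp_i L5456) q648, e3 q516 (flp_i L5468) q649, e3 q517 (flp_i L5477) q650, e3 q518 L4328 q518, e3 q519 L4337 q519, e3 q520 L4344 q520, e3 q521 L4354 q521, e3 q522 L4364 q522, e3 q523 L4373 q523, e3 q524 L4381 q524, e3 q525 L4390 q525, e3 q526 L4399 q526, e3 q527 L4407 q527, e3 q528 L4414 q417, e3 q529 L4424 q418, e3 q530 L4433 q419, e3 q531 (flp_i L5630) q667, e3 q532 (flp_i L5640) q668, e3 q533 (flp_i L5767) q669, e3 q534 (flp_i L5786) q670, e3 q535 (flp_i L5797) q671, e3 q536 L4484 q536, e3 q537 L4492 q537, e3 q538 L4502 q538, e3 q539 (flp_i L4503) q424, e3 q540 (flp_i L4513) q425, e3 q541 (flp_i L5862) q677, e3 q542 (flp_i L4534) q427, e3 q543 L4554 q429, e3 q544 (flp_i L5887) q680, e3 q545 (flp_i L4564) q430, e3 q546 L4582 q546, e3 q547 L4589 q433, e3 q548 (flp_i L5920) q684, e3 q549 (flp_i L5932) q685, e3 q550 (flp_i L4607) q434, e3 q551 L4627 q436, e3 q552 (flp_i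 L5974) q690, e3 q553 L4645 q438, e3 q554 (flp_i L5998) q693, e3 q555 (flp_i L6007) q694, e3 q556 L4670 q440, e3 q557 L4680 q441, e3 q558 (flp_i L6040) q698, e3 q559 (flp_i L6052) q699, e3 q560 (flp_i L6061) q700, e3 q561 L4714 q561, e3 q562 L4723 q562, e3 q563 L4730 q563, e3 q564 L4740 q564, e3 q565 L4750 q565, e3 q566 L4756 q566, e3 q567 L4765 q567, e3 q568 L4773 q568, e3 q569 L4782 q569, e3 q570 L6221 q720, e3 q571 L4799 q571, e3 q572 (flp_i L4802) q450, e3 q573 L4816 q573, e3 q574 L4821 q453, e3 q575 (flp_i L6250) q723, trivial⟩ (by decide +kernel)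

theorem ce_i_9 : ∀ r, r < 64 → sm gi (Qf (576 + r)) = Qf (tab Gen.i (576 + r)) :=
  edges_tab (sm gi) Qf (tab Gen.i) 576 [(576, 724), (577, 455), (578, 456), (579, 728), (580, 729), (581, 730), (582, 459), (583, 460), (584, 461), (585, 736), (586, 737), (587, 738), (588, 739), (589, 740), (590, 590), (591, 591), (592, 592), (593, 593), (594, 594), (595, 595), (596, 596), (597, 597), (598, 598), (599, 599), (600, 757), (601, 601), (602, 476), (603, 477), (604, 759), (605, 760), (606, 489), (607, 480), (608, 481), (609, 482), (610, 765), (611, 766), (612, 767), (613, 768), (614, 769), (615, 615), (616, 616), (617, 617), (618, 618), (619, 764), (620, 620), (621, 621), (622, 494), (623, 495), (624, 496), (625, 497), (626, 498), (627, 782), (628, 783), (629, 784), (630, 672), (631, 785), (632, 632), (633, 633), (634, 634), (635, 635), (636, 636), (637, 792), (638, 506), (639, 639)]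
    ⟨e3 q576 (flp_i L6256) q724, e3 q577 L4841 q455, e3 q578 L4848 q456, e3 q579 (flp_i L6285) q728, e3 q580 (flp_i L6293) q729, e3 q581 (flp_i L6298) q730, e3 q582 L4877 q459, e3 q583 L4886 q460, e3 q584 L4892 q461, e3 q585 (flp_i L6342) q736, e3 q586 (flp_i L6351) q737, e3 q587 (flp_i L6357) q738, e3 q588 (flp_i L6366) q739, e3 q589 (flp_i L6372) q740, e3 q590 L4936 q590, e3 q591 L4942 q591, e3 q592 L4946 q592, e3 q593 L4954 q593, e3 q594 L4962 q594, e3 q595 L4970 q595, e3 q596 L4977 q596, e3 q597 L4983 q597, e3 q598 L4993 q598, e3 q599 L5001 q599, e3 q600 L6489 q757, e3 q601 L5031 q601, e3 q602 L5038 q476, e3 q603 L5046 q477, e3 q604 (flp_i L6511) q759, e3 q605 (flp_i L6521) q760, e3 q606 L5759 q489, e3 q607 L5073 q480, e3 q608 L5083 q481, e3 q609 L5092 q482, e3 q610 (flp_i L6560) q765, e3 q611 (flp_i L6570) q766, e3 q612 (flp_i L6575) q767, e3 q613 (flp_i L6584) q768, e3 q614 (flp_i L6595) q769, e3 q615 L5139 q615, e3 q616 L5144 q616, e3 q617 L5153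 q617, e3 q618 L5162 q618, e3 q619 (flp_i L6551) q764, e3 q620 L5175 q620, e3 q621 L5190 q621, e3 q622 L5210 q494, e3 q623 L5217 q495, e3 q624 L5221 q496, e3 q625 L5230 q497, e3 q626 L5238 q498, e3 q627 (flp_i L6693) q782, e3 q628 (flp_i L6705) q783, e3 q629 (flp_i L6721) q784, e3 q630 (flp_i L5808) q672, e3 q631 (flp_i L6730) q785, e3 q632 L5277 q632, e3 q633 L5285 q633, e3 q634 L5329 q634, e3 q635 L5339 q635, e3 q636 L5346 q636, e3 q637 (flp_i L6985) q792, e3 q638 (flp_i L5358) q506, e3 q639 L5376 q639, trivial⟩ (by decide +kernel)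

theorem ce_i_10 : ∀ r, r < 64 → sm gi (Qf (640 + r)) = Qf (tab Gen.i (640 + r)) :=
  edges_tab (sm gi) Qf (tab Gen.i) 640 [(640, 509), (641, 794), (642, 795), (643, 511), (644, 512), (645, 799), (646, 800), (647, 801), (648, 515), (649, 516), (650, 517), (651, 807), (652, 808), (653, 809), (654, 810), (655, 811), (656, 656), (657, 657), (658, 658), (659, 659), (660, 660), (661, 661), (662, 662), (663, 663), (664, 664), (665, 665), (666, 796), (667, 531), (668, 532), (669, 533), (670, 534), (671, 535), (672, 630), (673, 813), (674, 674), (675, 675), (676, 676), (677, 541), (678, 828), (679, 679), (680, 544), (681, 832), (682, 833), (683, 683), (684, 548), (685, 549), (686, 838), (687, 839), (688, 840), (689, 689), (690, 552), (691, 847), (692, 848), (693, 554), (694, 555), (695, 852), (696, 853), (697, 854), (698, 558), (699, 559), (700, 560), (701, 860), (702, 861), (703, 862)]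
    ⟨e3 q640 L5384 q509, e3 q641 (flp_i L6820) q794, e3 q642 (flp_i L6829) q795, e3 q643 L5411 q511, e3 q644 L5421 q512, e3 q645 (flp_i L6864) q799, e3 q646 (flp_i L6875) q800, e3 q647 (flp_i L6883) q801, e3 q648 L5456 q515, e3 q649 L5468 q516, e3 q650 L5477 q517, e3 q651 (flp_i L6939) q807, e3 q652 (flp_i L6955) q808, e3 q653 (flp_i L7003) q809, e3 q654 (flp_i L7016) q810, e3 q655 (flp_i L7025) q811, e3 q656 L5533 q656, e3 q657 L5542 q657, e3 q658 L5548 q658, e3 q659 L5558 q659, e3 q660 L5569 q660, e3 q661 L5580 q661, e3 q662 L5588 q662, e3 q663 L5596 q663, e3 q664 L5607 q664, e3 q665 L5615 q665, e3 q666 L6991 q796, e3 q667 L5630 q531, e3 q668 L5640 q532, e3 q669 L5767 q533, e3 q670 L5786 q534, e3 q671 L5797 q535, e3 q672 L5808 q630, e3 q673 (flp_i L7052) q813, e3 q674 L5833 q674, e3 q675 L5842 q675, e3 q676 L5851 q676, e3 q677 L5862 q541, e3 q678 (flp_i L7193) q828, e3 q679 L5879 q679, e3 q680 L5887 q544, e3 q681 (flp_i L7226) q832, e3 q682 (flp_i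 L7235) q833, e3 q683 L5910 q683, e3 q684 L5920 q548, e3 q685 L5932 q549, e3 q686 (flp_i L7277) q838, e3 q687 (flp_i L7289) q839, e3 q688 (flp_i L7298) q840, e3 q689 L5966 q689, e3 q690 L5974 q552, e3 q691 (flp_i L7358) q847, e3 q692 (flp_i L7366) q848, e3 q693 L5998 q554, e3 q694 L6007 q555, e3 q695 (flp_i L7399) q852, e3 q696 (flp_i L7410) q853, e3 q697 (flp_i L7418) q854, e3 q698 L6040 q558, e3 q699 L6052 q559, e3 q700 L6061 q560, e3 q701 (flp_i L7471) q860, e3 q702 (flp_i L7483) q861, e3 q703 (flp_i L7490) q862, trivial⟩ (by decide +kernel)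

theorem ce_i_11 : ∀ r, r < 64 → sm gi (Qf (704 + r)) = Qf (tab Gen.i (704 + r)) :=
  edges_tab (sm gi) Qf (tab Gen.i) 704 [(704, 863), (705, 864), (706, 706), (707, 707), (708, 708), (709, 709), (710, 710), (711, 711), (712, 712), (713, 713), (714, 714), (715, 885), (716, 716), (717, 717), (718, 718), (719, 845), (720, 570), (721, 721), (722, 722), (723, 575), (724, 576), (725, 889), (726, 890), (727, 891), (728, 579), (729, 580), (730, 581), (731, 897), (732, 898), (733, 899), (734, 900), (735, 901), (736, 585), (737, 586), (738, 587), (739, 588), (740, 589), (741, 908), (742, 909), (743, 910), (744, 911), (745, 912), (746, 746), (747, 747), (748, 748), (749, 749), (750, 928), (751, 751), (752, 752), (753, 753), (754, 754), (755, 755), (756, 892), (757, 600), (758, 758), (759, 604), (760, 605), (761, 933), (762, 934), (763, 935), (764, 619), (765, 610), (766, 611), (767, 612)]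
    ⟨e3 q704 (flp_i L7499) q863, e3 q705 (flp_i L7508) q864, e3 q706 L6113 q706, e3 q707 L6122 q707, e3 q708 L6127 q708, e3 q709 L6135 q709, e3 q710 L6146 q710, e3 q711 L6157 q711, e3 q712 L6164 q712, e3 q713 L6173 q713, e3 q714 L6181 q714, e3 q715 L7674 q885, e3 q716 L6195 q716, e3 q717 L6202 q717, e3 q718 L6211 q718, e3 q719 (flp_i L7339) q845, e3 q720 (flp_i L6221) q570, e3 q721 L6238 q721, e3 q722 L6243 q722, e3 q723 L6250 q575, e3 q724 L6256 q576, e3 q725 (flp_i L7712) q889, e3 q726 (flp_i L7721) q890, e3 q727 (flp_i L7727) q891, e3 q728 L6285 q579, e3 q729 L6293 q580, e3 q730 L6298 q581, e3 q731 (flp_i L7772) q897, e3 q732 (flp_i L7780) q898, e3 q733 (flp_i L7785) q899, e3 q734 (flp_i L7793) q900, e3 q735 (flp_i L7802) q901, e3 q736 L6342 q585, e3 q737 L6351 q586, e3 q738 L6357 q587, e3 q739 L6366 q588, e3 q740 L6372 q589, e3 q741 (flp_i L7854) q908, e3 q742 (flp_i L7866) q909, e3 q743 (flp_i L7876) q910, e3 q744 (flp_i L7883) q911, e3 q745 (flp_i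 L7890) q912, e3 q746 L6417 q746, e3 q747 L6423 q747, e3 q748 L6430 q748, e3 q749 L6438 q749, e3 q750 L8006 q928, e3 q751 L6452 q751, e3 q752 L6459 q752, e3 q753 L6465 q753, e3 q754 L6474 q754, e3 q755 L6479 q755, e3 q756 (flp_i L7736) q892, e3 q757 (flp_i L6489) q600, e3 q758 L6504 q758, e3 q759 L6511 q604, e3 q760 L6521 q605, e3 q761 (flp_i L8052) q933, e3 q762 (flp_i L8062) q934, e3 q763 (flp_i L8071) q935, e3 q764 L6551 q619, e3 q765 L6560 q610, e3 q766 L6570 q611, e3 q767 L6575 q612, trivial⟩ (by decide +kernel)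

theorem ce_i_12 : ∀ r, r < 64 → sm gi (Qf (768 + r)) = Qf (tab Gen.i (768 + r)) :=
  edges_tab (sm gi) Qf (tab Gen.i) 768 [(768, 613), (769, 614), (770, 941), (771, 942), (772, 943), (773, 944), (774, 939), (775, 946), (776, 776), (777, 777), (778, 778), (779, 938), (780, 780), (781, 781), (782, 627), (783, 628), (784, 629), (785, 631), (786, 948), (787, 913), (788, 812), (789, 789), (790, 790), (791, 791), (792, 637), (793, 793), (794, 641), (795, 642), (796, 666), (797, 959), (798, 960), (799, 645), (800, 646), (801, 647), (802, 965), (803, 966), (804, 967), (805, 968), (806, 969), (807, 651), (808, 652), (809, 653), (810, 654), (811, 655), (812, 788), (813, 673), (814, 976), (815, 977), (816, 978), (817, 817), (818, 818), (819, 819), (820, 820), (821, 961), (822, 822), (823, 823), (824, 824), (825, 825), (826, 826), (827, 827), (828, 678), (829, 990), (830, 991), (831, 831)]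
    ⟨e3 q768 L6584 q613, e3 q769 L6595 q614, e3 q770 (flp_i L8123) q941, e3 q771 (flp_i L8131) q942, e3 q772 (flp_i L8142) q943, e3 q773 (flp_i L8151) q944, e3 q774 (flp_i L8106) q939, e3 q775 (flp_i L8167) q946, e3 q776 L6644 q776, e3 q777 L6654 q777, e3 q778 L6663 q778, e3 q779 (flp_i L8097) q938, e3 q780 L6677 q780, e3 q781 L6685 q781, e3 q782 L6693 q627, e3 q783 L6705 q628, e3 q784 L6721 q629, e3 q785 L6730 q631, e3 q786 (flp_i L8183) q948, e3 q787 (flp_i L7902) q913, e3 q788 (flp_i L7040) q812, e3 q789 L6756 q789, e3 q790 L6766 q790, e3 q791 L6774 q791, e3 q792 L6985 q637, e3 q793 L6811 q793, e3 q794 L6820 q641, e3 q795 L6829 q642, e3 q796 (flp_i L6991) q666, e3 q797 (flp_i L8274) q959, e3 q798 (flp_i L8283) q960, e3 q799 L6864 q645, e3 q800 L6875 q646, e3 q801 L6883 q647, e3 q802 (flp_i L8331) q965, e3 q803 (flp_i L8342) q966, e3 q804 (flp_i L8349) q967, e3 q805 (flp_i L8359) q968, e3 q806 (flp_i L8371) q969, e3 q807 L6939 q651, e3 q808 L6955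 q652, e3 q809 L7003 q653, e3 q810 L7016 q654, e3 q811 L7025 q655, e3 q812 L7040 q788, e3 q813 L7052 q673, e3 q814 (flp_i L8434) q976, e3 q815 (flp_i L8449) q977, e3 q816 (flp_i L8464) q978, e3 q817 L7091 q817, e3 q818 L7097 q818, e3 q819 L7105 q819, e3 q820 L7115 q820, e3 q821 (flp_i L8295) q961, e3 q822 L7133 q822, e3 q823 L7143 q823, e3 q824 L7150 q824, e3 q825 L7161 q825, e3 q826 L7177 q826, e3 q827 L7184 q827, e3 q828 L7193 q678, e3 q829 (flp_i L8586) q990, e3 q830 (flp_i L8596) q991, e3 q831 L7217 q831, trivial⟩ (by decide +kernel)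

theorem ce_i_13 : ∀ r, r < 64 → sm gi (Qf (832 + r)) = Qf (tab Gen.i (832 + r)) :=
  edges_tab (sm gi) Qf (tab Gen.i) 832 [(832, 681), (833, 682), (834, 997), (835, 998), (836, 999), (837, 837), (838, 686), (839, 687), (840, 688), (841, 1006), (842, 1007), (843, 1008), (844, 1009), (845, 719), (846, 846), (847, 691), (848, 692), (849, 1018), (850, 1019), (851, 1020), (852, 695), (853, 696), (854, 697), (855, 1026), (856, 1027), (857, 1028), (858, 1029), (859, 1030), (860, 701), (861, 702), (862, 703), (863, 704), (864, 705), (865, 1037), (866, 1038), (867, 1039), (868, 1040), (869, 1052), (870, 1042), (871, 871), (872, 872), (873, 873), (874, 874), (875, 1062), (876, 876), (877, 877), (878, 878), (879, 879), (880, 1069), (881, 881), (882, 882), (883, 883), (884, 1015), (885, 715), (886, 886), (887, 1004), (888, 888), (889, 725), (890, 726), (891, 727), (892, 756), (893, 1074), (894, 1075), (895, 1076)]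
    ⟨e3 q832 L7226 q681, e3 q833 L7235 q682, e3 q834 (flp_i L8648) q997, e3 q835 (flp_i L8657) q998, e3 q836 (flp_i L8665) q999, e3 q837 L7269 q837, e3 q838 L7277 q686, e3 q839 L7289 q687, e3 q840 L7298 q688, e3 q841 (flp_i L8730) q1006, e3 q842 (flp_i L8742) q1007, e3 q843 (flp_i L8749) q1008, e3 q844 (flp_i L8763) q1009, e3 q845 L7339 q719, e3 q846 L7350 q846, e3 q847 L7358 q691, e3 q848 L7366 q692, e3 q849 (flp_i L8842) q1018, e3 q850 (flp_i L8854) q1019, e3 q851 (flp_i L8863) q1020, e3 q852 L7399 q695, e3 q853 L7410 q696, e3 q854 L7418 q697, e3 q855 (flp_i L8915) q1026, e3 q856 (flp_i L8926) q1027, e3 q857 (flp_i L8932) q1028, e3 q858 (flp_i L8940) q1029, e3 q859 (flp_i L8952) q1030, e3 q860 L7471 q701, e3 q861 L7483 q702, e3 q862 L7490 q703, e3 q863 L7499 q704, e3 q864 L7508 q705, e3 q865 (flp_i L9011) q1037, e3 q866 (flp_i L9019) q1038, e3 q867 (flp_i L9028) q1039, e3 q868 (flp_i L9036) q1040, e3 q869 L9124 q1052, e3 q870 (flp_i L9053) q1042,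 e3 q871 L7568 q871, e3 q872 L7574 q872, e3 q873 L7582 q873, e3 q874 L7591 q874, e3 q875 L9203 q1062, e3 q876 L7605 q876, e3 q877 L7614 q877, e3 q878 L7624 q878, e3 q879 L7632 q879, e3 q880 L9262 q1069, e3 q881 L7647 q881, e3 q882 L7655 q882, e3 q883 L7664 q883, e3 q884 (flp_i L8811) q1015, e3 q885 (flp_i L7674) q715, e3 q886 L7690 q886, e3 q887 (flp_i L8709) q1004, e3 q888 L7703 q888, e3 q889 L7712 q725, e3 q890 L7721 q726, e3 q891 L7727 q727, e3 q892 L7736 q756, e3 q893 (flp_i L9310) q1074, e3 q894 (flp_i L9315) q1075, e3 q895 (flp_i L9324) q1076, trivial⟩ (by decide +kernel)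

theorem ce_i_14 : ∀ r, r < 64 → sm gi (Qf (896 + r)) = Qf (tab Gen.i (896 + r)) :=
  edges_tab (sm gi) Qf (tab Gen.i) 896 [(896, 1077), (897, 731), (898, 732), (899, 733), (900, 734), (901, 735), (902, 1084), (903, 1085), (904, 1086), (905, 1087), (906, 1099), (907, 1089), (908, 741), (909, 742), (910, 743), (911, 744), (912, 745), (913, 787), (914, 1100), (915, 1101), (916, 1102), (917, 1103), (918, 1104), (919, 979), (920, 920), (921, 921), (922, 922), (923, 923), (924, 1078), (925, 925), (926, 926), (927, 1117), (928, 750), (929, 929), (930, 930), (931, 1021), (932, 932), (933, 761), (934, 762), (935, 763), (936, 1120), (937, 1121), (938, 779), (939, 774), (940, 1127), (941, 770), (942, 771), (943, 772), (944, 773), (945, 1128), (946, 775), (947, 1129), (948, 786), (949, 1130), (950, 1131), (951, 1125), (952, 1105), (953, 1133), (954, 954), (955, 1123), (956, 956), (957, 957), (958, 958), (959, 797)]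
    ⟨e3 q896 (flp_i L9332) q1077, e3 q897 L7772 q731, e3 q898 L7780 q732, e3 q899 L7785 q733, e3 q900 L7793 q734, e3 q901 L7802 q735, e3 q902 (flp_i L9383) q1084, e3 q903 (flp_i L9390) q1085, e3 q904 (flp_i L9398) q1086, e3 q905 (flp_i L9406) q1087, e3 q906 L9480 q1099, e3 q907 (flp_i L9420) q1089, e3 q908 L7854 q741, e3 q909 L7866 q742, e3 q910 L7876 q743, e3 q911 L7883 q744, e3 q912 L7890 q745, e3 q913 L7902 q787, e3 q914 (flp_i L9495) q1100, e3 q915 (flp_i L9508) q1101, e3 q916 (flp_i L9521) q1102, e3 q917 (flp_i L9534) q1103, e3 q918 (flp_i L9541) q1104, e3 q919 (flp_i L8479) q979, e3 q920 L7952 q920, e3 q921 L7959 q921, e3 q922 L7967 q922, e3 q923 L7975 q923, e3 q924 (flp_i L9343) q1078, e3 q925 L7990 q925, e3 q926 L7998 q926, e3 q927 L9636 q1117, e3 q928 (flp_i L8006) q750, e3 q929 L8018 q929, e3 q930 L8027 q930, e3 q931 (flp_i L8873) q1021, e3 q932 L8044 q932, e3 q933 L8052 q761, e3 q934 L8062 q762, e3 q935 L8071 q763, e3 q936 (flp_i L9669) q1120,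 e3 q937 (flp_i L9679) q1121, e3 q938 L8097 q779, e3 q939 L8106 q774, e3 q940 (flp_i L9727) q1127, e3 q941 L8123 q770, e3 q942 L8131 q771, e3 q943 L8142 q772, e3 q944 L8151 q773, e3 q945 (flp_i L9743) q1128, e3 q946 L8167 q775, e3 q947 (flp_i L9752) q1129, e3 q948 L8183 q786, e3 q949 (flp_i L9760) q1130, e3 q950 (flp_i L9777) q1131, e3 q951 (flp_i L9714) q1125, e3 q952 (flp_i L9552) q1105, e3 q953 (flp_i L9792) q1133, e3 q954 L8226 q954, e3 q955 (flp_i L9699) q1123, e3 q956 L8242 q956, e3 q957 L8250 q957, e3 q958 L8261 q958, e3 q959 L8274 q797, trivial⟩ (by decide +kernel)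

theorem ce_i_15 : ∀ r, r < 64 → sm gi (Qf (960 + r)) = Qf (tab Gen.i (960 + r)) :=
  edges_tab (sm gi) Qf (tab Gen.i) 960 [(960, 798), (961, 821), (962, 1139), (963, 1140), (964, 1141), (965, 802), (966, 803), (967, 804), (968, 805), (969, 806), (970, 1147), (971, 1148), (972, 1149), (973, 1150), (974, 1142), (975, 1152), (976, 814), (977, 815), (978, 816), (979, 919), (980, 1156), (981, 981), (982, 982), (983, 983), (984, 984), (985, 985), (986, 1143), (987, 987), (988, 988), (989, 989), (990, 829), (991, 830), (992, 1167), (993, 1168), (994, 1169), (995, 995), (996, 996), (997, 834), (998, 835), (999, 836), (1000, 1177), (1001, 1178), (1002, 1179), (1003, 1180), (1004, 887), (1005, 1005), (1006, 841), (1007, 842), (1008, 843), (1009, 844), (1010, 1188), (1011, 1189), (1012, 1190), (1013, 1191), (1014, 1201), (1015, 884), (1016, 1016), (1017, 1017), (1018, 849), (1019, 850), (1020, 851), (1021, 931), (1022, 1204), (1023, 1205)]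
    ⟨e3 q960 L8283 q798, e3 q961 L8295 q821, e3 q962 (flp_i L9841) q1139, e3 q963 (flp_i L9858) q1140, e3 q964 (flp_i L9869) q1141, e3 q965 L8331 q802, e3 q966 L8342 q803, e3 q967 L8349 q804, e3 q968 L8359 q805, e3 q969 L8371 q806, e3 q970 (flp_i L9928) q1147, e3 q971 (flp_i L9937) q1148, e3 q972 (flp_i L9948) q1149, e3 q973 (flp_i L9960) q1150, e3 q974 (flp_i L9879) q1142, e3 q975 (flp_i L9982) q1152, e3 q976 L8434 q814, e3 q977 L8449 q815, e3 q978 L8464 q816, e3 q979 L8479 q919, e3 q980 (flp_i L10029) q1156, e3 q981 L8497 q981, e3 q982 L8511 q982, e3 q983 L8520 q983, e3 q984 L8529 q984, e3 q985 L8539 q985, e3 q986 (flp_i L9890) q1143, e3 q987 L8559 q987, e3 q988 L8569 q988, e3 q989 L8578 q989, e3 q990 L8586 q829, e3 q991 L8596 q830, e3 q992 (flp_i L10133) q1167, e3 q993 (flp_i L10145) q1168, e3 q994 (flp_i L10154) q1169, e3 q995 L8628 q995, e3 q996 L8637 q996, e3 q997 L8648 q834, e3 q998 L8657 q835, e3 q999 L8665 q836, e3 q1000 (flp_i L10228) q1177,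 e3 q1001 (flp_i L10237) q1178, e3 q1002 (flp_i L10243) q1179, e3 q1003 (flp_i L10254) q1180, e3 q1004 L8709 q887, e3 q1005 L8721 q1005, e3 q1006 L8730 q841, e3 q1007 L8742 q842, e3 q1008 L8749 q843, e3 q1009 L8763 q844, e3 q1010 (flp_i L10328) q1188, e3 q1011 (flp_i L10336) q1189, e3 q1012 (flp_i L10349) q1190, e3 q1013 (flp_i L10361) q1191, e3 q1014 L10437 q1201, e3 q1015 L8811 q884, e3 q1016 L8822 q1016, e3 q1017 L8834 q1017, e3 q1018 L8842 q849, e3 q1019 L8854 q850, e3 q1020 L8863 q851, e3 q1021 L8873 q931, e3 q1022 (flp_i L10480) q1204, e3 q1023 (flp_i L10486) q1205, trivial⟩ (by decide +kernel)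

theorem ce_i_16 : ∀ r, r < 64 → sm gi (Qf (1024 + r)) = Qf (tab Gen.i (1024 + r)) :=
  edges_tab (sm gi) Qf (tab Gen.i) 1024 [(1024, 1206), (1025, 1207), (1026, 855), (1027, 856), (1028, 857), (1029, 858), (1030, 859), (1031, 1214), (1032, 1215), (1033, 1216), (1034, 1217), (1035, 1229), (1036, 1219), (1037, 865), (1038, 866), (1039, 867), (1040, 868), (1041, 1239), (1042, 870), (1043, 1230), (1044, 1231), (1045, 1232), (1046, 1233), (1047, 1249), (1048, 1235), (1049, 1236), (1050, 1237), (1051, 1199), (1052, 869), (1053, 1053), (1054, 1054), (1055, 1055), (1056, 1056), (1057, 1261), (1058, 1058), (1059, 1059), (1060, 1060), (1061, 1265), (1062, 875), (1063, 1063), (1064, 1269), (1065, 1065), (1066, 1066), (1067, 1067), (1068, 1197), (1069, 880), (1070, 1070), (1071, 1186), (1072, 1174), (1073, 1073), (1074, 893), (1075, 894), (1076, 895), (1077, 896), (1078, 924), (1079, 1275), (1080, 1276), (1081, 1277), (1082, 1288), (1083, 1278), (1084, 902), (1085,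 903), (1086, 904), (1087, 905)]
    ⟨e3 q1024 (flp_i L10495) q1206, e3 q1025 (flp_i L10506) q1207, e3 q1026 L8915 q855, e3 q1027 L8926 q856, e3 q1028 L8932 q857, e3 q1029 L8940 q858, e3 q1030 L8952 q859, e3 q1031 (flp_i L10564) q1214, e3 q1032 (flp_i L10571) q1215, e3 q1033 (flp_i L10580) q1216, e3 q1034 (flp_i L10589) q1217, e3 q1035 L10671 q1229, e3 q1036 (flp_i L10604) q1219, e3 q1037 L9011 q865, e3 q1038 L9019 q866, e3 q1039 L9028 q867, e3 q1040 L9036 q868, e3 q1041 L10764 q1239, e3 q1042 L9053 q870, e3 q1043 (flp_i L10684) q1230, e3 q1044 (flp_i L10696) q1231, e3 q1045 (flp_i L10706) q1232, e3 q1046 (flp_i L10717) q1233, e3 q1047 L10851 q1249, e3 q1048 (flp_i L10737) q1235, e3 q1049 (flp_i L10745) q1236, e3 q1050 (flp_i L10753) q1237, e3 q1051 (flp_i L10426) q1199, e3 q1052 (flp_i L9124) q869, e3 q1053 L9138 q1053, e3 q1054 L9147 q1054, e3 q1055 L9154 q1055, e3 q1056 L9164 q1056, e3 q1057 L10943 q1261, e3 q1058 L9179 q1058, e3 q1059 L9185 q1059,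 e3 q1060 L9195 q1060, e3 q1061 L10973 q1265, e3 q1062 (flp_i L9203) q875, e3 q1063 L9218 q1063, e3 q1064 L11007 q1269, e3 q1065 L9235 q1065, e3 q1066 L9243 q1066, e3 q1067 L9252 q1067, e3 q1068 (flp_i L10410) q1197, e3 q1069 (flp_i L9262) q880, e3 q1070 L9278 q1070, e3 q1071 (flp_i L10303) q1186, e3 q1072 (flp_i L10196) q1174, e3 q1073 L9299 q1073, e3 q1074 L9310 q893, e3 q1075 L9315 q894, e3 q1076 L9324 q895, e3 q1077 L9332 q896, e3 q1078 L9343 q924, e3 q1079 (flp_i L11058) q1275, e3 q1080 (flp_i L11071) q1276, e3 q1081 (flp_i L11080) q1277, e3 q1082 L11156 q1288, e3 q1083 (flp_i L11087) q1278, e3 q1084 L9383 q902, e3 q1085 L9390 q903, e3 q1086 L9398 q904, e3 q1087 L9406 q905, trivial⟩ (by decide +kernel)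

theorem ce_i_17 : ∀ r, r < 64 → sm gi (Qf (1088 + r)) = Qf (tab Gen.i (1088 + r)) :=
  edges_tab (sm gi) Qf (tab Gen.i) 1088 [(1088, 1298), (1089, 907), (1090, 1289), (1091, 1290), (1092, 1291), (1093, 1292), (1094, 1279), (1095, 1294), (1096, 1295), (1097, 1296), (1098, 1310), (1099, 906), (1100, 914), (1101, 915), (1102, 916), (1103, 917), (1104, 918), (1105, 952), (1106, 1243), (1107, 1301), (1108, 1154), (1109, 1109), (1110, 1110), (1111, 1111), (1112, 1112), (1113, 1208), (1114, 1114), (1115, 1280), (1116, 1318), (1117, 927), (1118, 1170), (1119, 1119), (1120, 936), (1121, 937), (1122, 1320), (1123, 955), (1124, 1321), (1125, 951), (1126, 1325), (1127, 940), (1128, 945), (1129, 947), (1130, 949), (1131, 950), (1132, 1322), (1133, 953), (1134, 1323), (1135, 1324), (1136, 1240), (1137, 1137), (1138, 1138), (1139, 962), (1140, 963), (1141, 964), (1142, 974), (1143, 986), (1144, 1327), (1145, 1329), (1146, 1328), (1147, 970), (1148, 971), (1149, 972),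 (1150, 973), (1151, 1331)]
    ⟨e3 q1088 L11236 q1298, e3 q1089 L9420 q907, e3 q1090 (flp_i L11168) q1289, e3 q1091 (flp_i L11178) q1290, e3 q1092 (flp_i L11188) q1291, e3 q1093 (flp_i L11196) q1292, e3 q1094 (flp_i L11097) q1279, e3 q1095 (flp_i L11214) q1294, e3 q1096 (flp_i L11219) q1295, e3 q1097 (flp_i L11228) q1296, e3 q1098 L11319 q1310, e3 q1099 (flp_i L9480) q906, e3 q1100 L9495 q914, e3 q1101 L9508 q915, e3 q1102 L9521 q916, e3 q1103 L9534 q917, e3 q1104 L9541 q918, e3 q1105 L9552 q952, e3 q1106 (flp_i L10812) q1243, e3 q1107 (flp_i L11265) q1301, e3 q1108 (flp_i L10006) q1154, e3 q1109 L9581 q1109, e3 q1110 L9588 q1110, e3 q1111 L9596 q1111, e3 q1112 L9603 q1112, e3 q1113 (flp_i L10518) q1208, e3 q1114 L9620 q1114, e3 q1115 (flp_i L11107) q1280, e3 q1116 L11377 q1318, e3 q1117 (flp_i L9636) q927, e3 q1118 (flp_i L10166) q1170, e3 q1119 L9659 q1119, e3 q1120 L9669 q936, e3 q1121 L9679 q937, e3 q1122 (flp_i L11398) q1320, e3 q1123 L9699 q955,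 e3 q1124 (flp_i L11416) q1321, e3 q1125 L9714 q951, e3 q1126 (flp_i L11474) q1325, e3 q1127 L9727 q940, e3 q1128 L9743 q945, e3 q1129 L9752 q947, e3 q1130 L9760 q949, e3 q1131 L9777 q950, e3 q1132 (flp_i L11426) q1322, e3 q1133 L9792 q953, e3 q1134 (flp_i L11444) q1323, e3 q1135 (flp_i L11462) q1324, e3 q1136 (flp_i L10781) q1240, e3 q1137 L9821 q1137, e3 q1138 L9832 q1138, e3 q1139 L9841 q962, e3 q1140 L9858 q963, e3 q1141 L9869 q964, e3 q1142 L9879 q974, e3 q1143 L9890 q986, e3 q1144 (flp_i L11504) q1327, e3 q1145 (flp_i L11526) q1329, e3 q1146 (flp_i L11517) q1328, e3 q1147 L9928 q970, e3 q1148 L9937 q971, e3 q1149 L9948 q972, e3 q1150 L9960 q973, e3 q1151 (flp_i L11554) q1331, trivial⟩ (by decide +kernel)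

theorem ce_i_18 : ∀ r, r < 64 → sm gi (Qf (1152 + r)) = Qf (tab Gen.i (1152 + r)) :=
  edges_tab (sm gi) Qf (tab Gen.i) 1152 [(1152, 975), (1153, 1336), (1154, 1108), (1155, 1337), (1156, 980), (1157, 1338), (1158, 1339), (1159, 1330), (1160, 1160), (1161, 1161), (1162, 1162), (1163, 1332), (1164, 1164), (1165, 1165), (1166, 1166), (1167, 992), (1168, 993), (1169, 994), (1170, 1118), (1171, 1350), (1172, 1351), (1173, 1352), (1174, 1072), (1175, 1175), (1176, 1176), (1177, 1000), (1178, 1001), (1179, 1002), (1180, 1003), (1181, 1362), (1182, 1363), (1183, 1364), (1184, 1365), (1185, 1376), (1186, 1071), (1187, 1187), (1188, 1010), (1189, 1011), (1190, 1012), (1191, 1013), (1192, 1377), (1193, 1378), (1194, 1379), (1195, 1380), (1196, 1391), (1197, 1068), (1198, 1381), (1199, 1051), (1200, 1395), (1201, 1014), (1202, 1202), (1203, 1203), (1204, 1022), (1205, 1023), (1206, 1024), (1207, 1025), (1208, 1113), (1209, 1399), (1210, 1400), (1211, 1401), (1212,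 1413), (1213, 1403), (1214, 1031), (1215, 1032)]
    ⟨e3 q1152 L9982 q975, e3 q1153 (flp_i L11603) q1336, e3 q1154 L10006 q1108, e3 q1155 (flp_i L11618) q1337, e3 q1156 L10029 q980, e3 q1157 (flp_i L11630) q1338, e3 q1158 (flp_i L11647) q1339, e3 q1159 (flp_i L11541) q1330, e3 q1160 L10066 q1160, e3 q1161 L10079 q1161, e3 q1162 L10088 q1162, e3 q1163 (flp_i L11565) q1332, e3 q1164 L10106 q1164, e3 q1165 L10116 q1165, e3 q1166 L10124 q1166, e3 q1167 L10133 q992, e3 q1168 L10145 q993, e3 q1169 L10154 q994, e3 q1170 L10166 q1118, e3 q1171 (flp_i L11763) q1350, e3 q1172 (flp_i L11769) q1351, e3 q1173 (flp_i L11781) q1352, e3 q1174 L10196 q1072, e3 q1175 L10207 q1175, e3 q1176 L10217 q1176, e3 q1177 L10228 q1000, e3 q1178 L10237 q1001, e3 q1179 L10243 q1002, e3 q1180 L10254 q1003, e3 q1181 (flp_i L11870) q1362, e3 q1182 (flp_i L11877) q1363, e3 q1183 (flp_i L11888) q1364, e3 q1184 (flp_i L11899) q1365, e3 q1185 L11978 q1376, e3 q1186 L10303 q1071, e3 q1187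 L10316 q1187, e3 q1188 L10328 q1010, e3 q1189 L10336 q1011, e3 q1190 L10349 q1012, e3 q1191 L10361 q1013, e3 q1192 (flp_i L11992) q1377, e3 q1193 (flp_i L12008) q1378, e3 q1194 (flp_i L12022) q1379, e3 q1195 (flp_i L12034) q1380, e3 q1196 L12141 q1391, e3 q1197 L10410 q1068, e3 q1198 (flp_i L12046) q1381, e3 q1199 L10426 q1051, e3 q1200 L12183 q1395, e3 q1201 (flp_i L10437) q1014, e3 q1202 L10458 q1202, e3 q1203 L10467 q1203, e3 q1204 L10480 q1022, e3 q1205 L10486 q1023, e3 q1206 L10495 q1024, e3 q1207 L10506 q1025, e3 q1208 L10518 q1113, e3 q1209 (flp_i L12232) q1399, e3 q1210 (flp_i L12244) q1400, e3 q1211 (flp_i L12254) q1401, e3 q1212 L12340 q1413, e3 q1213 (flp_i L12268) q1403, e3 q1214 L10564 q1031, e3 q1215 L10571 q1032, trivial⟩ (by decide +kernel)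

theorem ce_i_19 : ∀ r, r < 64 → sm gi (Qf (1216 + r)) = Qf (tab Gen.i (1216 + r)) :=
  edges_tab (sm gi) Qf (tab Gen.i) 1216 [(1216, 1033), (1217, 1034), (1218, 1423), (1219, 1036), (1220, 1414), (1221, 1415), (1222, 1416), (1223, 1417), (1224, 1433), (1225, 1419), (1226, 1420), (1227, 1421), (1228, 1437), (1229, 1035), (1230, 1043), (1231, 1044), (1232, 1045), (1233, 1046), (1234, 1382), (1235, 1048), (1236, 1049), (1237, 1050), (1238, 1394), (1239, 1041), (1240, 1136), (1241, 1438), (1242, 1387), (1243, 1106), (1244, 1439), (1245, 1384), (1246, 1440), (1247, 1441), (1248, 1389), (1249, 1047), (1250, 1443), (1251, 1392), (1252, 1252), (1253, 1253), (1254, 1457), (1255, 1255), (1256, 1256), (1257, 1462), (1258, 1258), (1259, 1259), (1260, 1466), (1261, 1057), (1262, 1262), (1263, 1469), (1264, 1470), (1265, 1061), (1266, 1266), (1267, 1267), (1268, 1385), (1269, 1064), (1270, 1270), (1271, 1372), (1272, 1374), (1273, 1358), (1274, 1274), (1275, 1079),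 (1276, 1080), (1277, 1081), (1278, 1083), (1279, 1094)]
    ⟨e3 q1216 L10580 q1033, e3 q1217 L10589 q1034, e3 q1218 L12425 q1423, e3 q1219 L10604 q1036, e3 q1220 (flp_i L12353) q1414, e3 q1221 (flp_i L12363) q1415, e3 q1222 (flp_i L12372) q1416, e3 q1223 (flp_i L12382) q1417, e3 q1224 L12500 q1433, e3 q1225 (flp_i L12401) q1419, e3 q1226 (flp_i L12407) q1420, e3 q1227 (flp_i L12416) q1421, e3 q1228 L12527 q1437, e3 q1229 (flp_i L10671) q1035, e3 q1230 L10684 q1043, e3 q1231 L10696 q1044, e3 q1232 L10706 q1045, e3 q1233 L10717 q1046, e3 q1234 (flp_i L12058) q1382, e3 q1235 L10737 q1048, e3 q1236 L10745 q1049, e3 q1237 L10753 q1050, e3 q1238 (flp_i L12181) q1394, e3 q1239 (flp_i L10764) q1041, e3 q1240 L10781 q1136, e3 q1241 (flp_i L12543) q1438, e3 q1242 (flp_i L12114) q1387, e3 q1243 L10812 q1106, e3 q1244 (flp_i L12556) q1439, e3 q1245 (flp_i L12084) q1384, e3 q1246 (flp_i L12564) q1440, e3 q1247 (flp_i L12576) q1441, e3 q1248 (flp_i L12130) q1389,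 e3 q1249 (flp_i L10851) q1047, e3 q1250 (flp_i L12593) q1443, e3 q1251 (flp_i L12162) q1392, e3 q1252 L10877 q1252, e3 q1253 L10887 q1253, e3 q1254 L12689 q1457, e3 q1255 L10904 q1255, e3 q1256 L10913 q1256, e3 q1257 L12727 q1462, e3 q1258 L10925 q1258, e3 q1259 L10935 q1259, e3 q1260 L12758 q1466, e3 q1261 (flp_i L10943) q1057, e3 q1262 L10958 q1262, e3 q1263 L12779 q1469, e3 q1264 L12787 q1470, e3 q1265 (flp_i L10973) q1061, e3 q1266 L10986 q1266, e3 q1267 L10996 q1267, e3 q1268 (flp_i L12093) q1385, e3 q1269 (flp_i L11007) q1064, e3 q1270 L11024 q1270, e3 q1271 (flp_i L11954) q1372, e3 q1272 (flp_i L11969) q1374, e3 q1273 (flp_i L11829) q1358, e3 q1274 L11049 q1274, e3 q1275 L11058 q1079, e3 q1276 L11071 q1080, e3 q1277 L11080 q1081, e3 q1278 L11087 q1083, e3 q1279 L11097 q1094, trivial⟩ (by decide +kernel)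

theorem ce_i_20 : ∀ r, r < 64 → sm gi (Qf (1280 + r)) = Qf (tab Gen.i (1280 + r)) :=
  edges_tab (sm gi) Qf (tab Gen.i) 1280 [(1280, 1115), (1281, 1476), (1282, 1477), (1283, 1490), (1284, 1478), (1285, 1479), (1286, 1480), (1287, 1494), (1288, 1082), (1289, 1090), (1290, 1091), (1291, 1092), (1292, 1093), (1293, 1483), (1294, 1095), (1295, 1096), (1296, 1097), (1297, 1491), (1298, 1088), (1299, 1495), (1300, 1496), (1301, 1107), (1302, 1497), (1303, 1481), (1304, 1499), (1305, 1500), (1306, 1482), (1307, 1341), (1308, 1493), (1309, 1492), (1310, 1098), (1311, 1427), (1312, 1312), (1313, 1313), (1314, 1314), (1315, 1405), (1316, 1404), (1317, 1484), (1318, 1116), (1319, 1353), (1320, 1122), (1321, 1124), (1322, 1132), (1323, 1134), (1324, 1135), (1325, 1126), (1326, 1326), (1327, 1144), (1328, 1146), (1329, 1145), (1330, 1159), (1331, 1151), (1332, 1163), (1333, 1515), (1334, 1516), (1335, 1517), (1336, 1153), (1337, 1155), (1338, 1157), (1339, 1158),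 (1340, 1520), (1341, 1307), (1342, 1518), (1343, 1519)]
    ⟨e3 q1280 L11107 q1115, e3 q1281 (flp_i L12838) q1476, e3 q1282 (flp_i L12852) q1477, e3 q1283 L12965 q1490, e3 q1284 (flp_i L12863) q1478, e3 q1285 (flp_i L12872) q1479, e3 q1286 (flp_i L12888) q1480, e3 q1287 L13014 q1494, e3 q1288 (flp_i L11156) q1082, e3 q1289 L11168 q1090, e3 q1290 L11178 q1091, e3 q1291 L11188 q1092, e3 q1292 L11196 q1093, e3 q1293 (flp_i L12918) q1483, e3 q1294 L11214 q1095, e3 q1295 L11219 q1096, e3 q1296 L11228 q1097, e3 q1297 (flp_i L12983) q1491, e3 q1298 (flp_i L11236) q1088, e3 q1299 (flp_i L13033) q1495, e3 q1300 (flp_i L13043) q1496, e3 q1301 L11265 q1107, e3 q1302 (flp_i L13053) q1497, e3 q1303 (flp_i L12897) q1481, e3 q1304 (flp_i L13069) q1499, e3 q1305 (flp_i L13086) q1500, e3 q1306 (flp_i L12907) q1482, e3 q1307 (flp_i L11671) q1341, e3 q1308 (flp_i L13012) q1493, e3 q1309 (flp_i L12998) q1492, e3 q1310 (flp_i L11319) q1098, e3 q1311 (flp_i L12465) q1427,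 e3 q1312 L11338 q1312, e3 q1313 L11347 q1313, e3 q1314 L11355 q1314, e3 q1315 (flp_i L12287) q1405, e3 q1316 (flp_i L12277) q1404, e3 q1317 (flp_i L12928) q1484, e3 q1318 (flp_i L11377) q1116, e3 q1319 (flp_i L11793) q1353, e3 q1320 L11398 q1122, e3 q1321 L11416 q1124, e3 q1322 L11426 q1132, e3 q1323 L11444 q1134, e3 q1324 L11462 q1135, e3 q1325 L11474 q1126, e3 q1326 L11490 q1326, e3 q1327 L11504 q1144, e3 q1328 L11517 q1146, e3 q1329 L11526 q1145, e3 q1330 L11541 q1159, e3 q1331 L11554 q1151, e3 q1332 L11565 q1163, e3 q1333 (flp_i L13189) q1515, e3 q1334 (flp_i L13209) q1516, e3 q1335 (flp_i L13223) q1517, e3 q1336 L11603 q1153, e3 q1337 L11618 q1155, e3 q1338 L11630 q1157, e3 q1339 L11647 q1158, e3 q1340 (flp_i L13277) q1520, e3 q1341 L11671 q1307, e3 q1342 (flp_i L13237) q1518, e3 q1343 (flp_i L13257) q1519, trivial⟩ (by decide +kernel)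

theorem ce_i_21 : ∀ r, r < 64 → sm gi (Qf (1344 + r)) = Qf (tab Gen.i (1344 + r)) :=
  edges_tab (sm gi) Qf (tab Gen.i) 1344 [(1344, 1344), (1345, 1345), (1346, 1346), (1347, 1347), (1348, 1348), (1349, 1349), (1350, 1171), (1351, 1172), (1352, 1173), (1353, 1319), (1354, 1527), (1355, 1528), (1356, 1529), (1357, 1540), (1358, 1273), (1359, 1359), (1360, 1360), (1361, 1361), (1362, 1181), (1363, 1182), (1364, 1183), (1365, 1184), (1366, 1551), (1367, 1544), (1368, 1545), (1369, 1546), (1370, 1547), (1371, 1561), (1372, 1271), (1373, 1549), (1374, 1272), (1375, 1565), (1376, 1185), (1377, 1192), (1378, 1193), (1379, 1194), (1380, 1195), (1381, 1198), (1382, 1234), (1383, 1566), (1384, 1245), (1385, 1268), (1386, 1567), (1387, 1242), (1388, 1568), (1389, 1248), (1390, 1576), (1391, 1196), (1392, 1251), (1393, 1577), (1394, 1238), (1395, 1200), (1396, 1396), (1397, 1397), (1398, 1398), (1399, 1209), (1400, 1210), (1401, 1211), (1402, 1590), (1403, 1213),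 (1404, 1316), (1405, 1315), (1406, 1583), (1407, 1584)]
    ⟨e3 q1344 L11707 q1344, e3 q1345 L11717 q1345, e3 q1346 L11727 q1346, e3 q1347 L11732 q1347, e3 q1348 L11742 q1348, e3 q1349 L11752 q1349, e3 q1350 L11763 q1171, e3 q1351 L11769 q1172, e3 q1352 L11781 q1173, e3 q1353 L11793 q1319, e3 q1354 (flp_i L13337) q1527, e3 q1355 (flp_i L13349) q1528, e3 q1356 (flp_i L13361) q1529, e3 q1357 L13448 q1540, e3 q1358 L11829 q1273, e3 q1359 L11841 q1359, e3 q1360 L11851 q1360, e3 q1361 L11860 q1361, e3 q1362 L11870 q1181, e3 q1363 L11877 q1182, e3 q1364 L11888 q1183, e3 q1365 L11899 q1184, e3 q1366 L13556 q1551, e3 q1367 (flp_i L13493) q1544, e3 q1368 (flp_i L13505) q1545, e3 q1369 (flp_i L13516) q1546, e3 q1370 (flp_i L13525) q1547, e3 q1371 L13636 q1561, e3 q1372 L11954 q1271, e3 q1373 (flp_i L13541) q1549, e3 q1374 L11969 q1272, e3 q1375 L13667 q1565, e3 q1376 (flp_i L11978) q1185, e3 q1377 L11992 q1192, e3 q1378 L12008 q1193, e3 q1379 L12022 q1194, e3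 q1380 L12034 q1195, e3 q1381 L12046 q1198, e3 q1382 L12058 q1234, e3 q1383 (flp_i L13684) q1566, e3 q1384 L12084 q1245, e3 q1385 L12093 q1268, e3 q1386 (flp_i L13698) q1567, e3 q1387 L12114 q1242, e3 q1388 (flp_i L13710) q1568, e3 q1389 L12130 q1248, e3 q1390 L13788 q1576, e3 q1391 (flp_i L12141) q1196, e3 q1392 L12162 q1251, e3 q1393 (flp_i L13807) q1577, e3 q1394 L12181 q1238, e3 q1395 (flp_i L12183) q1200, e3 q1396 L12200 q1396, e3 q1397 L12212 q1397, e3 q1398 L12223 q1398, e3 q1399 L12232 q1209, e3 q1400 L12244 q1210, e3 q1401 L12254 q1211, e3 q1402 L13933 q1590, e3 q1403 L12268 q1213, e3 q1404 L12277 q1316, e3 q1405 L12287 q1315, e3 q1406 (flp_i L13869) q1583, e3 q1407 (flp_i L13883) q1584, trivial⟩ (by decide +kernel)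

theorem ce_i_22 : ∀ r, r < 64 → sm gi (Qf (1408 + r)) = Qf (tab Gen.i (1408 + r)) :=
  edges_tab (sm gi) Qf (tab Gen.i) 1408 [(1408, 1600), (1409, 1586), (1410, 1587), (1411, 1588), (1412, 1604), (1413, 1212), (1414, 1220), (1415, 1221), (1416, 1222), (1417, 1223), (1418, 1613), (1419, 1225), (1420, 1226), (1421, 1227), (1422, 1617), (1423, 1218), (1424, 1605), (1425, 1606), (1426, 1624), (1427, 1311), (1428, 1608), (1429, 1629), (1430, 1610), (1431, 1611), (1432, 1633), (1433, 1224), (1434, 1614), (1435, 1637), (1436, 1638), (1437, 1228), (1438, 1241), (1439, 1244), (1440, 1246), (1441, 1247), (1442, 1569), (1443, 1250), (1444, 1578), (1445, 1639), (1446, 1571), (1447, 1640), (1448, 1572), (1449, 1641), (1450, 1574), (1451, 1562), (1452, 1452), (1453, 1651), (1454, 1454), (1455, 1455), (1456, 1655), (1457, 1254), (1458, 1458), (1459, 1459), (1460, 1660), (1461, 1662), (1462, 1257), (1463, 1463), (1464, 1665), (1465, 1666), (1466, 1260), (1467, 1667),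 (1468, 1669), (1469, 1263), (1470, 1264), (1471, 1471)]
    ⟨e3 q1408 L14012 q1600, e3 q1409 (flp_i L13905) q1586, e3 q1410 (flp_i L13913) q1587, e3 q1411 (flp_i L13923) q1588, e3 q1412 L14042 q1604, e3 q1413 (flp_i L12340) q1212, e3 q1414 L12353 q1220, e3 q1415 L12363 q1221, e3 q1416 L12372 q1222, e3 q1417 L12382 q1223, e3 q1418 L14116 q1613, e3 q1419 L12401 q1225, e3 q1420 L12407 q1226, e3 q1421 L12416 q1227, e3 q1422 L14145 q1617, e3 q1423 (flp_i L12425) q1218, e3 q1424 (flp_i L14055) q1605, e3 q1425 (flp_i L14066) q1606, e3 q1426 L14200 q1624, e3 q1427 L12465 q1311, e3 q1428 (flp_i L14083) q1608, e3 q1429 L14232 q1629, e3 q1430 (flp_i L14094) q1610, e3 q1431 (flp_i L14106) q1611, e3 q1432 L14260 q1633, e3 q1433 (flp_i L12500) q1224, e3 q1434 (flp_i L14131) q1614, e3 q1435 L14288 q1637, e3 q1436 L14293 q1638, e3 q1437 (flp_i L12527) q1228, e3 q1438 L12543 q1241, e3 q1439 L12556 q1244, e3 q1440 L12564 q1246, e3 q1441 L12576 q1247, e3 q1442 (flp_i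 L13725) q1569, e3 q1443 L12593 q1250, e3 q1444 (flp_i L13825) q1578, e3 q1445 (flp_i L14310) q1639, e3 q1446 (flp_i L13745) q1571, e3 q1447 (flp_i L14321) q1640, e3 q1448 (flp_i L13763) q1572, e3 q1449 (flp_i L14333) q1641, e3 q1450 (flp_i L13778) q1574, e3 q1451 (flp_i L13651) q1562, e3 q1452 L12655 q1452, e3 q1453 L14401 q1651, e3 q1454 L12669 q1454, e3 q1455 L12680 q1455, e3 q1456 L14436 q1655, e3 q1457 (flp_i L12689) q1254, e3 q1458 L12702 q1458, e3 q1459 L12712 q1459, e3 q1460 L14476 q1660, e3 q1461 L14491 q1662, e3 q1462 (flp_i L12727) q1257, e3 q1463 L12743 q1463, e3 q1464 L14512 q1665, e3 q1465 L14520 q1666, e3 q1466 (flp_i L12758) q1260, e3 q1467 L14528 q1667, e3 q1468 L14544 q1669, e3 q1469 (flp_i L12779) q1263, e3 q1470 (flp_i L12787) q1264, e3 q1471 L12803 q1471, trivial⟩ (by decide +kernel)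

theorem ce_i_23 : ∀ r, r < 64 → sm gi (Qf (1472 + r)) = Qf (tab Gen.i (1472 + r)) :=
  edges_tab (sm gi) Qf (tab Gen.i) 1472 [(1472, 1555), (1473, 1559), (1474, 1538), (1475, 1536), (1476, 1281), (1477, 1282), (1478, 1284), (1479, 1285), (1480, 1286), (1481, 1303), (1482, 1306), (1483, 1293), (1484, 1317), (1485, 1674), (1486, 1677), (1487, 1675), (1488, 1676), (1489, 1687), (1490, 1283), (1491, 1297), (1492, 1309), (1493, 1308), (1494, 1287), (1495, 1299), (1496, 1300), (1497, 1302), (1498, 1679), (1499, 1304), (1500, 1305), (1501, 1682), (1502, 1688), (1503, 1689), (1504, 1690), (1505, 1678), (1506, 1591), (1507, 1680), (1508, 1681), (1509, 1622), (1510, 1510), (1511, 1594), (1512, 1592), (1513, 1531), (1514, 1532), (1515, 1333), (1516, 1334), (1517, 1335), (1518, 1342), (1519, 1343), (1520, 1340), (1521, 1521), (1522, 1522), (1523, 1523), (1524, 1524), (1525, 1710), (1526, 1526), (1527, 1354), (1528, 1355), (1529, 1356), (1530, 1716), (1531, 1513),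 (1532, 1514), (1533, 1711), (1534, 1712), (1535, 1726)]
    ⟨e3 q1472 (flp_i L13597) q1555, e3 q1473 (flp_i L13626) q1559, e3 q1474 (flp_i L13438) q1538, e3 q1475 (flp_i L13420) q1536, e3 q1476 L12838 q1281, e3 q1477 L12852 q1282, e3 q1478 L12863 q1284, e3 q1479 L12872 q1285, e3 q1480 L12888 q1286, e3 q1481 L12897 q1303, e3 q1482 L12907 q1306, e3 q1483 L12918 q1293, e3 q1484 L12928 q1317, e3 q1485 (flp_i L14584) q1674, e3 q1486 (flp_i L14619) q1677, e3 q1487 (flp_i L14594) q1675, e3 q1488 (flp_i L14612) q1676, e3 q1489 L14719 q1687, e3 q1490 (flp_i L12965) q1283, e3 q1491 L12983 q1297, e3 q1492 L12998 q1309, e3 q1493 L13012 q1308, e3 q1494 (flp_i L13014) q1287, e3 q1495 L13033 q1299, e3 q1496 L13043 q1300, e3 q1497 L13053 q1302, e3 q1498 (flp_i L14645) q1679, e3 q1499 L13069 q1304, e3 q1500 L13086 q1305, e3 q1501 (flp_i L14689) q1682, e3 q1502 (flp_i L14740) q1688, e3 q1503 (flp_i L14752) q1689, e3 q1504 (flp_i L14765) q1690, e3 q1505 (flp_i L14633)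 q1678, e3 q1506 (flp_i L13946) q1591, e3 q1507 (flp_i L14653) q1680, e3 q1508 (flp_i L14671) q1681, e3 q1509 (flp_i L14188) q1622, e3 q1510 L13151 q1510, e3 q1511 (flp_i L13975) q1594, e3 q1512 (flp_i L13957) q1592, e3 q1513 (flp_i L13380) q1531, e3 q1514 (flp_i L13390) q1532, e3 q1515 L13189 q1333, e3 q1516 L13209 q1334, e3 q1517 L13223 q1335, e3 q1518 L13237 q1342, e3 q1519 L13257 q1343, e3 q1520 L13277 q1340, e3 q1521 L13288 q1521, e3 q1522 L13294 q1522, e3 q1523 L13303 q1523, e3 q1524 L13311 q1524, e3 q1525 L14900 q1710, e3 q1526 L13328 q1526, e3 q1527 L13337 q1354, e3 q1528 L13349 q1355, e3 q1529 L13361 q1356, e3 q1530 L14965 q1716, e3 q1531 L13380 q1513, e3 q1532 L13390 q1514, e3 q1533 (flp_i L14916) q1711, e3 q1534 (flp_i L14929) q1712, e3 q1535 L15051 q1726, trivial⟩ (by decide +kernel)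

theorem ce_i_24 : ∀ r, r < 64 → sm gi (Qf (1536 + r)) = Qf (tab Gen.i (1536 + r)) :=
  edges_tab (sm gi) Qf (tab Gen.i) 1536 [(1536, 1475), (1537, 1714), (1538, 1474), (1539, 1730), (1540, 1357), (1541, 1541), (1542, 1542), (1543, 1734), (1544, 1367), (1545, 1368), (1546, 1369), (1547, 1370), (1548, 1742), (1549, 1373), (1550, 1744), (1551, 1366), (1552, 1735), (1553, 1736), (1554, 1751), (1555, 1472), (1556, 1738), (1557, 1756), (1558, 1740), (1559, 1473), (1560, 1760), (1561, 1371), (1562, 1451), (1563, 1764), (1564, 1765), (1565, 1375), (1566, 1383), (1567, 1386), (1568, 1388), (1569, 1442), (1570, 1766), (1571, 1446), (1572, 1448), (1573, 1767), (1574, 1450), (1575, 1772), (1576, 1390), (1577, 1393), (1578, 1444), (1579, 1761), (1580, 1580), (1581, 1779), (1582, 1582), (1583, 1406), (1584, 1407), (1585, 1785), (1586, 1409), (1587, 1410), (1588, 1411), (1589, 1789), (1590, 1402), (1591, 1506), (1592, 1512), (1593, 1796), (1594, 1511), (1595, 1780),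 (1596, 1801), (1597, 1782), (1598, 1783), (1599, 1805)]
    ⟨e3 q1536 L13420 q1475, e3 q1537 (flp_i L14950) q1714, e3 q1538 L13438 q1474, e3 q1539 L15085 q1730, e3 q1540 (flp_i L13448) q1357, e3 q1541 L13465 q1541, e3 q1542 L13475 q1542, e3 q1543 L15121 q1734, e3 q1544 L13493 q1367, e3 q1545 L13505 q1368, e3 q1546 L13516 q1369, e3 q1547 L13525 q1370, e3 q1548 L15199 q1742, e3 q1549 L13541 q1373, e3 q1550 L15219 q1744, e3 q1551 (flp_i L13556) q1366, e3 q1552 (flp_i L15139) q1735, e3 q1553 (flp_i L15149) q1736, e3 q1554 L15280 q1751, e3 q1555 L13597 q1472, e3 q1556 (flp_i L15166) q1738, e3 q1557 L15314 q1756, e3 q1558 (flp_i L15183) q1740, e3 q1559 L13626 q1473, e3 q1560 L15347 q1760, e3 q1561 (flp_i L13636) q1371, e3 q1562 L13651 q1451, e3 q1563 L15379 q1764, e3 q1564 L15386 q1765, e3 q1565 (flp_i L13667) q1375, e3 q1566 L13684 q1383, e3 q1567 L13698 q1386, e3 q1568 L13710 q1388, e3 q1569 L13725 q1442, e3 q1570 (flp_i L15406) q1766, e3 q1571 L13745 q1446,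 e3 q1572 L13763 q1448, e3 q1573 (flp_i L15421) q1767, e3 q1574 L13778 q1450, e3 q1575 (flp_i L15487) q1772, e3 q1576 (flp_i L13788) q1390, e3 q1577 L13807 q1393, e3 q1578 L13825 q1444, e3 q1579 (flp_i L15359) q1761, e3 q1580 L13841 q1580, e3 q1581 L15546 q1779, e3 q1582 L13862 q1582, e3 q1583 L13869 q1406, e3 q1584 L13883 q1407, e3 q1585 L15610 q1785, e3 q1586 L13905 q1409, e3 q1587 L13913 q1410, e3 q1588 L13923 q1411, e3 q1589 L15646 q1789, e3 q1590 (flp_i L13933) q1402, e3 q1591 L13946 q1506, e3 q1592 L13957 q1512, e3 q1593 L15708 q1796, e3 q1594 L13975 q1511, e3 q1595 (flp_i L15567) q1780, e3 q1596 L15748 q1801, e3 q1597 (flp_i L15586) q1782, e3 q1598 (flp_i L15597) q1783, e3 q1599 L15776 q1805, trivial⟩ (by decide +kernel)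

theorem ce_i_25 : ∀ r, r < 64 → sm gi (Qf (1600 + r)) = Qf (tab Gen.i (1600 + r)) :=
  edges_tab (sm gi) Qf (tab Gen.i) 1600 [(1600, 1408), (1601, 1786), (1602, 1809), (1603, 1810), (1604, 1412), (1605, 1424), (1606, 1425), (1607, 1816), (1608, 1428), (1609, 1821), (1610, 1430), (1611, 1431), (1612, 1825), (1613, 1418), (1614, 1434), (1615, 1828), (1616, 1829), (1617, 1422), (1618, 1811), (1619, 1812), (1620, 1834), (1621, 1814), (1622, 1509), (1623, 1838), (1624, 1426), (1625, 1817), (1626, 1818), (1627, 1844), (1628, 1846), (1629, 1429), (1630, 1822), (1631, 1850), (1632, 1851), (1633, 1432), (1634, 1774), (1635, 1852), (1636, 1854), (1637, 1435), (1638, 1436), (1639, 1445), (1640, 1447), (1641, 1449), (1642, 1768), (1643, 1769), (1644, 1835), (1645, 1770), (1646, 1757), (1647, 1727), (1648, 1648), (1649, 1649), (1650, 1863), (1651, 1453), (1652, 1652), (1653, 1866), (1654, 1867), (1655, 1456), (1656, 1656), (1657, 1870), (1658, 1872), (1659, 1874),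 (1660, 1460), (1661, 1876), (1662, 1461), (1663, 1877)]
    ⟨e3 q1600 (flp_i L14012) q1408, e3 q1601 (flp_i L15629) q1786, e3 q1602 L15804 q1809, e3 q1603 L15811 q1810, e3 q1604 (flp_i L14042) q1412, e3 q1605 L14055 q1424, e3 q1606 L14066 q1425, e3 q1607 L15870 q1816, e3 q1608 L14083 q1428, e3 q1609 L15910 q1821, e3 q1610 L14094 q1430, e3 q1611 L14106 q1431, e3 q1612 L15945 q1825, e3 q1613 (flp_i L14116) q1418, e3 q1614 L14131 q1434, e3 q1615 L15969 q1828, e3 q1616 L15976 q1829, e3 q1617 (flp_i L14145) q1422, e3 q1618 (flp_i L15825) q1811, e3 q1619 (flp_i L15838) q1812, e3 q1620 L16017 q1834, e3 q1621 (flp_i L15856) q1814, e3 q1622 L14188 q1509, e3 q1623 L16052 q1838, e3 q1624 (flp_i L14200) q1426, e3 q1625 (flp_i L15883) q1817, e3 q1626 (flp_i L15893) q1818, e3 q1627 L16094 q1844, e3 q1628 L16107 q1846, e3 q1629 (flp_i L14232) q1429, e3 q1630 (flp_i L15927) q1822, e3 q1631 L16137 q1850, e3 q1632 L16143 q1851, e3 q1633 (flp_i L14260) q1432, e3 q1634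 (flp_i L15507) q1774, e3 q1635 L16152 q1852, e3 q1636 L16166 q1854, e3 q1637 (flp_i L14288) q1435, e3 q1638 (flp_i L14293) q1436, e3 q1639 L14310 q1445, e3 q1640 L14321 q1447, e3 q1641 L14333 q1449, e3 q1642 (flp_i L15437) q1768, e3 q1643 (flp_i L15450) q1769, e3 q1644 (flp_i L16033) q1835, e3 q1645 (flp_i L15469) q1770, e3 q1646 (flp_i L15329) q1757, e3 q1647 (flp_i L15066) q1727, e3 q1648 L14380 q1648, e3 q1649 L14391 q1649, e3 q1650 L16226 q1863, e3 q1651 (flp_i L14401) q1453, e3 q1652 L14419 q1652, e3 q1653 L16252 q1866, e3 q1654 L16261 q1867, e3 q1655 (flp_i L14436) q1456, e3 q1656 L14452 q1656, e3 q1657 L16284 q1870, e3 q1658 L16301 q1872, e3 q1659 L16315 q1874, e3 q1660 (flp_i L14476) q1460, e3 q1661 L16328 q1876, e3 q1662 (flp_i L14491) q1461, e3 q1663 L16335 q1877, trivial⟩ (by decide +kernel)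

theorem ce_i_26 : ∀ r, r < 64 → sm gi (Qf (1664 + r)) = Qf (tab Gen.i (1664 + r)) :=
  edges_tab (sm gi) Qf (tab Gen.i) 1664 [(1664, 1879), (1665, 1464), (1666, 1465), (1667, 1467), (1668, 1881), (1669, 1468), (1670, 1749), (1671, 1753), (1672, 1724), (1673, 1720), (1674, 1485), (1675, 1487), (1676, 1488), (1677, 1486), (1678, 1505), (1679, 1498), (1680, 1507), (1681, 1508), (1682, 1501), (1683, 1885), (1684, 1886), (1685, 1887), (1686, 1790), (1687, 1489), (1688, 1502), (1689, 1503), (1690, 1504), (1691, 1890), (1692, 1832), (1693, 1888), (1694, 1889), (1695, 1791), (1696, 1717), (1697, 1899), (1698, 1794), (1699, 1793), (1700, 1718), (1701, 1701), (1702, 1702), (1703, 1703), (1704, 1704), (1705, 1911), (1706, 1706), (1707, 1707), (1708, 1708), (1709, 1915), (1710, 1525), (1711, 1533), (1712, 1534), (1713, 1920), (1714, 1537), (1715, 1922), (1716, 1530), (1717, 1696), (1718, 1700), (1719, 1929), (1720, 1673), (1721, 1916), (1722, 1934), (1723, 1918),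 (1724, 1672), (1725, 1938), (1726, 1535), (1727, 1647)]
    ⟨e3 q1664 L16349 q1879, e3 q1665 (flp_i L14512) q1464, e3 q1666 (flp_i L14520) q1465, e3 q1667 (flp_i L14528) q1467, e3 q1668 L16362 q1881, e3 q1669 (flp_i L14544) q1468, e3 q1670 (flp_i L15269) q1749, e3 q1671 (flp_i L15300) q1753, e3 q1672 (flp_i L15042) q1724, e3 q1673 (flp_i L15010) q1720, e3 q1674 L14584 q1485, e3 q1675 L14594 q1487, e3 q1676 L14612 q1488, e3 q1677 L14619 q1486, e3 q1678 L14633 q1505, e3 q1679 L14645 q1498, e3 q1680 L14653 q1507, e3 q1681 L14671 q1508, e3 q1682 L14689 q1501, e3 q1683 (flp_i L16399) q1885, e3 q1684 (flp_i L16416) q1886, e3 q1685 (flp_i L16429) q1887, e3 q1686 (flp_i L15660) q1790, e3 q1687 (flp_i L14719) q1489, e3 q1688 L14740 q1502, e3 q1689 L14752 q1503, e3 q1690 L14765 q1504, e3 q1691 (flp_i L16479) q1890, e3 q1692 (flp_i L16006) q1832, e3 q1693 (flp_i L16443) q1888, e3 q1694 (flp_i L16460) q1889, e3 q1695 (flp_i L15673) q1791, e3 q1696 (flp_i L14983)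 q1717, e3 q1697 L16526 q1899, e3 q1698 (flp_i L15697) q1794, e3 q1699 (flp_i L15687) q1793, e3 q1700 (flp_i L14993) q1718, e3 q1701 L14833 q1701, e3 q1702 L14843 q1702, e3 q1703 L14849 q1703, e3 q1704 L14858 q1704, e3 q1705 L16616 q1911, e3 q1706 L14875 q1706, e3 q1707 L14881 q1707, e3 q1708 L14890 q1708, e3 q1709 L16649 q1915, e3 q1710 (flp_i L14900) q1525, e3 q1711 L14916 q1533, e3 q1712 L14929 q1534, e3 q1713 L16706 q1920, e3 q1714 L14950 q1537, e3 q1715 L16729 q1922, e3 q1716 (flp_i L14965) q1530, e3 q1717 L14983 q1696, e3 q1718 L14993 q1700, e3 q1719 L16797 q1929, e3 q1720 L15010 q1673, e3 q1721 (flp_i L16667) q1916, e3 q1722 L16839 q1934, e3 q1723 (flp_i L16690) q1918, e3 q1724 L15042 q1672, e3 q1725 L16872 q1938, e3 q1726 (flp_i L15051) q1535, e3 q1727 L15066 q1647, trivial⟩ (by decide +kernel)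

theorem ce_i_27 : ∀ r, r < 64 → sm gi (Qf (1728 + r)) = Qf (tab Gen.i (1728 + r)) :=
  edges_tab (sm gi) Qf (tab Gen.i) 1728 [(1728, 1942), (1729, 1943), (1730, 1539), (1731, 1731), (1732, 1732), (1733, 1947), (1734, 1543), (1735, 1552), (1736, 1553), (1737, 1953), (1738, 1556), (1739, 1957), (1740, 1558), (1741, 1959), (1742, 1548), (1743, 1960), (1744, 1550), (1745, 1948), (1746, 1949), (1747, 1967), (1748, 1951), (1749, 1670), (1750, 1971), (1751, 1554), (1752, 1954), (1753, 1671), (1754, 1977), (1755, 1979), (1756, 1557), (1757, 1646), (1758, 1983), (1759, 1984), (1760, 1560), (1761, 1579), (1762, 1987), (1763, 1989), (1764, 1563), (1765, 1564), (1766, 1570), (1767, 1573), (1768, 1642), (1769, 1643), (1770, 1645), (1771, 1990), (1772, 1575), (1773, 1980), (1774, 1634), (1775, 1939), (1776, 1776), (1777, 1777), (1778, 2000), (1779, 1581), (1780, 1595), (1781, 2004), (1782, 1597), (1783, 1598), (1784, 2008), (1785, 1585), (1786, 1601), (1787, 2011),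 (1788, 2012), (1789, 1589), (1790, 1686), (1791, 1695)]
    ⟨e3 q1728 L16904 q1942, e3 q1729 L16913 q1943, e3 q1730 (flp_i L15085) q1539, e3 q1731 L15100 q1731, e3 q1732 L15108 q1732, e3 q1733 L16953 q1947, e3 q1734 (flp_i L15121) q1543, e3 q1735 L15139 q1552, e3 q1736 L15149 q1553, e3 q1737 L17019 q1953, e3 q1738 L15166 q1556, e3 q1739 L17051 q1957, e3 q1740 L15183 q1558, e3 q1741 L17072 q1959, e3 q1742 (flp_i L15199) q1548, e3 q1743 L17084 q1960, e3 q1744 (flp_i L15219) q1550, e3 q1745 (flp_i L16970) q1948, e3 q1746 (flp_i L16982) q1949, e3 q1747 L17144 q1967, e3 q1748 (flp_i L17002) q1951, e3 q1749 L15269 q1670, e3 q1750 L17184 q1971, e3 q1751 (flp_i L15280) q1554, e3 q1752 (flp_i L17035) q1954, e3 q1753 L15300 q1671, e3 q1754 L17228 q1977, e3 q1755 L17241 q1979, e3 q1756 (flp_i L15314) q1557, e3 q1757 L15329 q1646, e3 q1758 L17277 q1983, e3 q1759 L17285 q1984, e3 q1760 (flp_i L15347) q1560, e3 q1761 L15359 q1579, e3 q1762 L17315 q1987, e3 q1763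 L17332 q1989, e3 q1764 (flp_i L15379) q1563, e3 q1765 (flp_i L15386) q1564, e3 q1766 L15406 q1570, e3 q1767 L15421 q1573, e3 q1768 L15437 q1642, e3 q1769 L15450 q1643, e3 q1770 L15469 q1645, e3 q1771 (flp_i L17349) q1990, e3 q1772 L15487 q1575, e3 q1773 (flp_i L17255) q1980, e3 q1774 L15507 q1634, e3 q1775 (flp_i L16884) q1939, e3 q1776 L15523 q1776, e3 q1777 L15534 q1777, e3 q1778 L17435 q2000, e3 q1779 (flp_i L15546) q1581, e3 q1780 L15567 q1595, e3 q1781 L17481 q2004, e3 q1782 L15586 q1597, e3 q1783 L15597 q1598, e3 q1784 L17524 q2008, e3 q1785 (flp_i L15610) q1585, e3 q1786 L15629 q1601, e3 q1787 L17549 q2011, e3 q1788 L17558 q2012, e3 q1789 (flp_i L15646) q1589, e3 q1790 L15660 q1686, e3 q1791 L15673 q1695, trivial⟩ (by decide +kernel)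

theorem ce_i_28 : ∀ r, r < 64 → sm gi (Qf (1792 + r)) = Qf (tab Gen.i (1792 + r)) :=
  edges_tab (sm gi) Qf (tab Gen.i) 1792 [(1792, 2019), (1793, 1699), (1794, 1698), (1795, 2023), (1796, 1593), (1797, 2001), (1798, 2002), (1799, 2029), (1800, 2031), (1801, 1596), (1802, 2005), (1803, 2035), (1804, 2036), (1805, 1599), (1806, 1995), (1807, 2039), (1808, 2041), (1809, 1602), (1810, 1603), (1811, 1618), (1812, 1619), (1813, 2045), (1814, 1621), (1815, 2047), (1816, 1607), (1817, 1625), (1818, 1626), (1819, 2053), (1820, 2054), (1821, 1609), (1822, 1630), (1823, 2057), (1824, 2058), (1825, 1612), (1826, 2059), (1827, 2060), (1828, 1615), (1829, 1616), (1830, 2042), (1831, 2043), (1832, 1692), (1833, 2065), (1834, 1620), (1835, 1644), (1836, 2068), (1837, 2069), (1838, 1623), (1839, 2048), (1840, 2049), (1841, 2074), (1842, 2076), (1843, 2078), (1844, 1627), (1845, 2080), (1846, 1628), (1847, 1991), (1848, 2081), (1849, 2083), (1850, 1631), (1851, 1632),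 (1852, 1635), (1853, 2085), (1854, 1636), (1855, 1968)]
    ⟨e3 q1792 L17630 q2019, e3 q1793 L15687 q1699, e3 q1794 L15697 q1698, e3 q1795 L17665 q2023, e3 q1796 (flp_i L15708) q1593, e3 q1797 (flp_i L17454) q2001, e3 q1798 (flp_i L17466) q2002, e3 q1799 L17716 q2029, e3 q1800 L17732 q2031, e3 q1801 (flp_i L15748) q1596, e3 q1802 (flp_i L17503) q2005, e3 q1803 L17760 q2035, e3 q1804 L17766 q2036, e3 q1805 (flp_i L15776) q1599, e3 q1806 (flp_i L17396) q1995, e3 q1807 L17789 q2039, e3 q1808 L17805 q2041, e3 q1809 (flp_i L15804) q1602, e3 q1810 (flp_i L15811) q1603, e3 q1811 L15825 q1618, e3 q1812 L15838 q1619, e3 q1813 L17846 q2045, e3 q1814 L15856 q1621, e3 q1815 L17864 q2047, e3 q1816 (flp_i L15870) q1607, e3 q1817 L15883 q1625, e3 q1818 L15893 q1626, e3 q1819 L17924 q2053, e3 q1820 L17932 q2054, e3 q1821 (flp_i L15910) q1609, e3 q1822 L15927 q1630, e3 q1823 L17959 q2057, e3 q1824 L17967 q2058, e3 q1825 (flp_i L15945) q1612, e3 q1826 L17979 q2059, e3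 q1827 L17988 q2060, e3 q1828 (flp_i L15969) q1615, e3 q1829 (flp_i L15976) q1616, e3 q1830 (flp_i L17820) q2042, e3 q1831 (flp_i L17832) q2043, e3 q1832 L16006 q1692, e3 q1833 L18030 q2065, e3 q1834 (flp_i L16017) q1620, e3 q1835 L16033 q1644, e3 q1836 L18056 q2068, e3 q1837 L18063 q2069, e3 q1838 (flp_i L16052) q1623, e3 q1839 (flp_i L17880) q2048, e3 q1840 (flp_i L17898) q2049, e3 q1841 L18096 q2074, e3 q1842 L18111 q2076, e3 q1843 L18124 q2078, e3 q1844 (flp_i L16094) q1627, e3 q1845 L18138 q2080, e3 q1846 (flp_i L16107) q1628, e3 q1847 (flp_i L17362) q1991, e3 q1848 L18145 q2081, e3 q1849 L18159 q2083, e3 q1850 (flp_i L16137) q1631, e3 q1851 (flp_i L16143) q1632, e3 q1852 (flp_i L16152) q1635, e3 q1853 L18173 q2085, e3 q1854 (flp_i L16166) q1636, e3 q1855 (flp_i L17162) q1968, trivial⟩ (by decide +kernel)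

theorem ce_i_29 : ∀ r, r < 64 → sm gi (Qf (1856 + r)) = Qf (tab Gen.i (1856 + r)) :=
  edges_tab (sm gi) Qf (tab Gen.i) 1856 [(1856, 2088), (1857, 1992), (1858, 1973), (1859, 1935), (1860, 1860), (1861, 2094), (1862, 2095), (1863, 1650), (1864, 2096), (1865, 2098), (1866, 1653), (1867, 1654), (1868, 2100), (1869, 2103), (1870, 1657), (1871, 2105), (1872, 1658), (1873, 2107), (1874, 1659), (1875, 2109), (1876, 1661), (1877, 1663), (1878, 2111), (1879, 1664), (1880, 2112), (1881, 1668), (1882, 1964), (1883, 1931), (1884, 1927), (1885, 1683), (1886, 1684), (1887, 1685), (1888, 1693), (1889, 1694), (1890, 1691), (1891, 2062), (1892, 2013), (1893, 1923), (1894, 2120), (1895, 2115), (1896, 2016), (1897, 2015), (1898, 1924), (1899, 1697), (1900, 2020), (1901, 1926), (1902, 1902), (1903, 1903), (1904, 2131), (1905, 1905), (1906, 1906), (1907, 2134), (1908, 1908), (1909, 1909), (1910, 2137), (1911, 1705), (1912, 1912), (1913, 2140), (1914, 2141), (1915, 1709),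 (1916, 1721), (1917, 2145), (1918, 1723), (1919, 2147)]
    ⟨e3 q1856 L18192 q2088, e3 q1857 (flp_i L17374) q1992, e3 q1858 (flp_i L17205) q1973, e3 q1859 (flp_i L16855) q1935, e3 q1860 L16207 q1860, e3 q1861 L18232 q2094, e3 q1862 L18242 q2095, e3 q1863 (flp_i L16226) q1650, e3 q1864 L18252 q2096, e3 q1865 L18269 q2098, e3 q1866 (flp_i L16252) q1653, e3 q1867 (flp_i L16261) q1654, e3 q1868 L18283 q2100, e3 q1869 L18305 q2103, e3 q1870 (flp_i L16284) q1657, e3 q1871 L18318 q2105, e3 q1872 (flp_i L16301) q1658, e3 q1873 L18333 q2107, e3 q1874 (flp_i L16315) q1659, e3 q1875 L18347 q2109, e3 q1876 (flp_i L16328) q1661, e3 q1877 (flp_i L16335) q1663, e3 q1878 L18360 q2111, e3 q1879 (flp_i L16349) q1664, e3 q1880 L18365 q2112, e3 q1881 (flp_i L16362) q1668, e3 q1882 (flp_i L17126) q1964, e3 q1883 (flp_i L16822) q1931, e3 q1884 (flp_i L16787) q1927, e3 q1885 L16399 q1683, e3 q1886 L16416 q1684, e3 q1887 L16429 q1685, e3 q1888 L16443 q1693, e3 q1889 L16460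 q1694, e3 q1890 L16479 q1691, e3 q1891 (flp_i L18010) q2062, e3 q1892 (flp_i L17577) q2013, e3 q1893 (flp_i L16747) q1923, e3 q1894 L18419 q2120, e3 q1895 (flp_i L18393) q2115, e3 q1896 (flp_i L17609) q2016, e3 q1897 (flp_i L17597) q2015, e3 q1898 (flp_i L16759) q1924, e3 q1899 (flp_i L16526) q1697, e3 q1900 (flp_i L17647) q2020, e3 q1901 (flp_i L16775) q1926, e3 q1902 L16549 q1902, e3 q1903 L16558 q1903, e3 q1904 L18512 q2131, e3 q1905 L16577 q1905, e3 q1906 L16585 q1906, e3 q1907 L18536 q2134, e3 q1908 L16597 q1908, e3 q1909 L16606 q1909, e3 q1910 L18560 q2137, e3 q1911 (flp_i L16616) q1705, e3 q1912 L16632 q1912, e3 q1913 L18584 q2140, e3 q1914 L18592 q2141, e3 q1915 (flp_i L16649) q1709, e3 q1916 L16667 q1721, e3 q1917 L18639 q2145, e3 q1918 L16690 q1723, e3 q1919 L18664 q2147, trivial⟩ (by decide +kernel)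

theorem ce_i_30 : ∀ r, r < 64 → sm gi (Qf (1920 + r)) = Qf (tab Gen.i (1920 + r)) :=
  edges_tab (sm gi) Qf (tab Gen.i) 1920 [(1920, 1713), (1921, 2149), (1922, 1715), (1923, 1893), (1924, 1898), (1925, 2156), (1926, 1901), (1927, 1884), (1928, 2160), (1929, 1719), (1930, 2142), (1931, 1883), (1932, 2166), (1933, 2168), (1934, 1722), (1935, 1859), (1936, 2172), (1937, 2173), (1938, 1725), (1939, 1775), (1940, 2176), (1941, 2178), (1942, 1728), (1943, 1729), (1944, 1944), (1945, 2181), (1946, 2183), (1947, 1733), (1948, 1745), (1949, 1746), (1950, 2189), (1951, 1748), (1952, 2191), (1953, 1737), (1954, 1752), (1955, 2195), (1956, 2197), (1957, 1739), (1958, 2198), (1959, 1741), (1960, 1743), (1961, 2184), (1962, 2202), (1963, 2186), (1964, 1882), (1965, 2208), (1966, 2209), (1967, 1747), (1968, 1855), (1969, 2212), (1970, 2213), (1971, 1750), (1972, 2192), (1973, 1858), (1974, 2219), (1975, 2221), (1976, 2223), (1977, 1754), (1978, 2225), (1979, 1755),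 (1980, 1773), (1981, 2229), (1982, 2231), (1983, 1758)]
    ⟨e3 q1920 (flp_i L16706) q1713, e3 q1921 L18688 q2149, e3 q1922 (flp_i L16729) q1715, e3 q1923 L16747 q1893, e3 q1924 L16759 q1898, e3 q1925 L18755 q2156, e3 q1926 L16775 q1901, e3 q1927 L16787 q1884, e3 q1928 L18793 q2160, e3 q1929 (flp_i L16797) q1719, e3 q1930 (flp_i L18612) q2142, e3 q1931 L16822 q1883, e3 q1932 L18846 q2166, e3 q1933 L18862 q2168, e3 q1934 (flp_i L16839) q1722, e3 q1935 L16855 q1859, e3 q1936 L18894 q2172, e3 q1937 L18902 q2173, e3 q1938 (flp_i L16872) q1725, e3 q1939 L16884 q1775, e3 q1940 L18927 q2176, e3 q1941 L18946 q2178, e3 q1942 (flp_i L16904) q1728, e3 q1943 (flp_i L16913) q1729, e3 q1944 L16931 q1944, e3 q1945 L18973 q2181, e3 q1946 L18994 q2183, e3 q1947 (flp_i L16953) q1733, e3 q1948 L16970 q1745, e3 q1949 L16982 q1746, e3 q1950 L19056 q2189, e3 q1951 L17002 q1748, e3 q1952 L19080 q2191, e3 q1953 (flp_i L17019) q1737, e3 q1954 L17035 q1752, e3 q1955 L19125 q2195,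 e3 q1956 L19143 q2197, e3 q1957 (flp_i L17051) q1739, e3 q1958 L19148 q2198, e3 q1959 (flp_i L17072) q1741, e3 q1960 (flp_i L17084) q1743, e3 q1961 (flp_i L19012) q2184, e3 q1962 L19185 q2202, e3 q1963 (flp_i L19034) q2186, e3 q1964 L17126 q1882, e3 q1965 L19247 q2208, e3 q1966 L19255 q2209, e3 q1967 (flp_i L17144) q1747, e3 q1968 L17162 q1855, e3 q1969 L19288 q2212, e3 q1970 L19297 q2213, e3 q1971 (flp_i L17184) q1750, e3 q1972 (flp_i L19101) q2192, e3 q1973 L17205 q1858, e3 q1974 L19353 q2219, e3 q1975 L19368 q2221, e3 q1976 L19381 q2223, e3 q1977 (flp_i L17228) q1754, e3 q1978 L19394 q2225, e3 q1979 (flp_i L17241) q1755, e3 q1980 L17255 q1773, e3 q1981 L19433 q2229, e3 q1982 L19450 q2231, e3 q1983 (flp_i L17277) q1758, trivial⟩ (by decide +kernel)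

theorem ce_i_31 : ∀ r, r < 64 → sm gi (Qf (1984 + r)) = Qf (tab Gen.i (1984 + r)) :=
  edges_tab (sm gi) Qf (tab Gen.i) 1984 [(1984, 1759), (1985, 2232), (1986, 2234), (1987, 1762), (1988, 2236), (1989, 1763), (1990, 1771), (1991, 1847), (1992, 1857), (1993, 2238), (1994, 2216), (1995, 1806), (1996, 2169), (1997, 1997), (1998, 2244), (1999, 2245), (2000, 1778), (2001, 1797), (2002, 1798), (2003, 2250), (2004, 1781), (2005, 1802), (2006, 2253), (2007, 2254), (2008, 1784), (2009, 2256), (2010, 2258), (2011, 1787), (2012, 1788), (2013, 1892), (2014, 2261), (2015, 1897), (2016, 1896), (2017, 2267), (2018, 2268), (2019, 1792), (2020, 1900), (2021, 2272), (2022, 2273), (2023, 1795), (2024, 2246), (2025, 2247), (2026, 2279), (2027, 2281), (2028, 2283), (2029, 1799), (2030, 2285), (2031, 1800), (2032, 2240), (2033, 2288), (2034, 2290), (2035, 1803), (2036, 1804), (2037, 2291), (2038, 2292), (2039, 1807), (2040, 2294), (2041, 1808), (2042, 1830), (2043, 1831),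 (2044, 2297), (2045, 1813), (2046, 2298), (2047, 1815)]
    ⟨e3 q1984 (flp_i L17285) q1759, e3 q1985 L19459 q2232, e3 q1986 L19481 q2234, e3 q1987 (flp_i L17315) q1762, e3 q1988 L19500 q2236, e3 q1989 (flp_i L17332) q1763, e3 q1990 L17349 q1771, e3 q1991 L17362 q1847, e3 q1992 L17374 q1857, e3 q1993 L19520 q2238, e3 q1994 (flp_i L19336) q2216, e3 q1995 L17396 q1806, e3 q1996 (flp_i L18874) q2169, e3 q1997 L17414 q1997, e3 q1998 L19573 q2244, e3 q1999 L19583 q2245, e3 q2000 (flp_i L17435) q1778, e3 q2001 L17454 q1797, e3 q2002 L17466 q1798, e3 q2003 L19645 q2250, e3 q2004 (flp_i L17481) q1781, e3 q2005 L17503 q1802, e3 q2006 L19678 q2253, e3 q2007 L19688 q2254, e3 q2008 (flp_i L17524) q1784, e3 q2009 L19707 q2256, e3 q2010 L19726 q2258, e3 q2011 (flp_i L17549) q1787, e3 q2012 (flp_i L17558) q1788, e3 q2013 L17577 q1892, e3 q2014 L19757 q2261, e3 q2015 L17597 q1897, e3 q2016 L17609 q1896, e3 q2017 L19830 q2267, e3 q2018 L19840 q2268, e3 q2019 (flp_i L17630)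 q1792, e3 q2020 L17647 q1900, e3 q2021 L19877 q2272, e3 q2022 L19886 q2273, e3 q2023 (flp_i L17665) q1795, e3 q2024 (flp_i L19601) q2246, e3 q2025 (flp_i L19620) q2247, e3 q2026 L19938 q2279, e3 q2027 L19958 q2281, e3 q2028 L19974 q2283, e3 q2029 (flp_i L17716) q1799, e3 q2030 L19990 q2285, e3 q2031 (flp_i L17732) q1800, e3 q2032 (flp_i L19541) q2240, e3 q2033 L20013 q2288, e3 q2034 L20025 q2290, e3 q2035 (flp_i L17760) q1803, e3 q2036 (flp_i L17766) q1804, e3 q2037 L20032 q2291, e3 q2038 L20040 q2292, e3 q2039 (flp_i L17789) q1807, e3 q2040 L20054 q2294, e3 q2041 (flp_i L17805) q1808, e3 q2042 L17820 q1830, e3 q2043 L17832 q1831, e3 q2044 L20077 q2297, e3 q2045 (flp_i L17846) q1813, e3 q2046 L20089 q2298, e3 q2047 (flp_i L17864) q1815, trivial⟩ (by decide +kernel)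

theorem ce_i_32 : ∀ r, r < 64 → sm gi (Qf (2048 + r)) = Qf (tab Gen.i (2048 + r)) :=
  edges_tab (sm gi) Qf (tab Gen.i) 2048 [(2048, 1839), (2049, 1840), (2050, 2302), (2051, 2304), (2052, 2306), (2053, 1819), (2054, 1820), (2055, 2307), (2056, 2309), (2057, 1823), (2058, 1824), (2059, 1826), (2060, 1827), (2061, 2274), (2062, 1891), (2063, 2311), (2064, 2312), (2065, 1833), (2066, 2313), (2067, 2315), (2068, 1836), (2069, 1837), (2070, 2317), (2071, 2203), (2072, 2319), (2073, 2322), (2074, 1841), (2075, 2324), (2076, 1842), (2077, 2326), (2078, 1843), (2079, 2328), (2080, 1845), (2081, 1848), (2082, 2330), (2083, 1849), (2084, 2332), (2085, 1853), (2086, 2204), (2087, 2335), (2088, 1856), (2089, 2214), (2090, 2162), (2091, 2157), (2092, 2339), (2093, 2341), (2094, 1861), (2095, 1862), (2096, 1864), (2097, 2343), (2098, 1865), (2099, 2345), (2100, 1868), (2101, 2348), (2102, 2350), (2103, 1869), (2104, 2353), (2105, 1871), (2106, 2354), (2107, 1873),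 (2108, 2355), (2109, 1875), (2110, 2356), (2111, 1878)]
    ⟨e3 q2048 L17880 q1839, e3 q2049 L17898 q1840, e3 q2050 L20122 q2302, e3 q2051 L20142 q2304, e3 q2052 L20160 q2306, e3 q2053 (flp_i L17924) q1819, e3 q2054 (flp_i L17932) q1820, e3 q2055 L20169 q2307, e3 q2056 L20188 q2309, e3 q2057 (flp_i L17959) q1823, e3 q2058 (flp_i L17967) q1824, e3 q2059 (flp_i L17979) q1826, e3 q2060 (flp_i L17988) q1827, e3 q2061 (flp_i L19908) q2274, e3 q2062 L18010 q1891, e3 q2063 L20201 q2311, e3 q2064 L20209 q2312, e3 q2065 (flp_i L18030) q1833, e3 q2066 L20220 q2313, e3 q2067 L20239 q2315, e3 q2068 (flp_i L18056) q1836, e3 q2069 (flp_i L18063) q1837, e3 q2070 L20252 q2317, e3 q2071 (flp_i L19199) q2203, e3 q2072 L20262 q2319, e3 q2073 L20278 q2322, e3 q2074 (flp_i L18096) q1841, e3 q2075 L20290 q2324, e3 q2076 (flp_i L18111) q1842, e3 q2077 L20307 q2326, e3 q2078 (flp_i L18124) q1843, e3 q2079 L20322 q2328, e3 q2080 (flp_i L18138) q1845, e3 q2081 (flp_i L18145)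 q1848, e3 q2082 L20336 q2330, e3 q2083 (flp_i L18159) q1849, e3 q2084 L20351 q2332, e3 q2085 (flp_i L18173) q1853, e3 q2086 (flp_i L19216) q2204, e3 q2087 L20367 q2335, e3 q2088 (flp_i L18192) q1856, e3 q2089 (flp_i L19317) q2214, e3 q2090 (flp_i L18818) q2162, e3 q2091 (flp_i L18774) q2157, e3 q2092 L20394 q2339, e3 q2093 L20413 q2341, e3 q2094 (flp_i L18232) q1861, e3 q2095 (flp_i L18242) q1862, e3 q2096 (flp_i L18252) q1864, e3 q2097 L20426 q2343, e3 q2098 (flp_i L18269) q1865, e3 q2099 L20441 q2345, e3 q2100 (flp_i L18283) q1868, e3 q2101 L20460 q2348, e3 q2102 L20474 q2350, e3 q2103 (flp_i L18305) q1869, e3 q2104 L20493 q2353, e3 q2105 (flp_i L18318) q1871, e3 q2106 L20500 q2354, e3 q2107 (flp_i L18333) q1873, e3 q2108 L20507 q2355, e3 q2109 (flp_i L18347) q1875, e3 q2110 L20516 q2356, e3 q2111 (flp_i L18360) q1878, trivial⟩ (by decide +kernel)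

theorem ce_i_33 : ∀ r, r < 64 → sm gi (Qf (2112 + r)) = Qf (tab Gen.i (2112 + r)) :=
  edges_tab (sm gi) Qf (tab Gen.i) 2112 [(2112, 1880), (2113, 2200), (2114, 2153), (2115, 1895), (2116, 2358), (2117, 2259), (2118, 2150), (2119, 2361), (2120, 1894), (2121, 2262), (2122, 2263), (2123, 2152), (2124, 2269), (2125, 2125), (2126, 2126), (2127, 2367), (2128, 2128), (2129, 2129), (2130, 2370), (2131, 1904), (2132, 2372), (2133, 2374), (2134, 1907), (2135, 2376), (2136, 2377), (2137, 1910), (2138, 2379), (2139, 2381), (2140, 1913), (2141, 1914), (2142, 1930), (2143, 2385), (2144, 2386), (2145, 1917), (2146, 2388), (2147, 1919), (2148, 2389), (2149, 1921), (2150, 2118), (2151, 2394), (2152, 2123), (2153, 2114), (2154, 2400), (2155, 2402), (2156, 1925), (2157, 2091), (2158, 2406), (2159, 2407), (2160, 1928), (2161, 2382), (2162, 2090), (2163, 2413), (2164, 2415), (2165, 2417), (2166, 1932), (2167, 2419), (2168, 1933), (2169, 1996), (2170, 2423), (2171, 2425),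 (2172, 1936), (2173, 1937), (2174, 2427), (2175, 2429)]
    ⟨e3 q2112 (flp_i L18365) q1880, e3 q2113 (flp_i L19175) q2200, e3 q2114 (flp_i L18738) q2153, e3 q2115 L18393 q1895, e3 q2116 L20532 q2358, e3 q2117 (flp_i L19740) q2259, e3 q2118 (flp_i L18709) q2150, e3 q2119 L20550 q2361, e3 q2120 (flp_i L18419) q1894, e3 q2121 (flp_i L19775) q2262, e3 q2122 (flp_i L19794) q2263, e3 q2123 (flp_i L18727) q2152, e3 q2124 (flp_i L19858) q2269, e3 q2125 L18451 q2125, e3 q2126 L18461 q2126, e3 q2127 L20599 q2367, e3 q2128 L18475 q2128, e3 q2129 L18485 q2129, e3 q2130 L20634 q2370, e3 q2131 (flp_i L18512) q1904, e3 q2132 L20652 q2372, e3 q2133 L20668 q2374, e3 q2134 (flp_i L18536) q1907, e3 q2135 L20684 q2376, e3 q2136 L20692 q2377, e3 q2137 (flp_i L18560) q1910, e3 q2138 L20710 q2379, e3 q2139 L20727 q2381, e3 q2140 (flp_i L18584) q1913, e3 q2141 (flp_i L18592) q1914, e3 q2142 L18612 q1930, e3 q2143 L20775 q2385, e3 q2144 L20789 q2386, e3 q2145 (flp_i L18639)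 q1917, e3 q2146 L20813 q2388, e3 q2147 (flp_i L18664) q1919, e3 q2148 L20827 q2389, e3 q2149 (flp_i L18688) q1921, e3 q2150 L18709 q2118, e3 q2151 L20882 q2394, e3 q2152 L18727 q2123, e3 q2153 L18738 q2114, e3 q2154 L20942 q2400, e3 q2155 L20962 q2402, e3 q2156 (flp_i L18755) q1925, e3 q2157 L18774 q2091, e3 q2158 L20997 q2406, e3 q2159 L21008 q2407, e3 q2160 (flp_i L18793) q1928, e3 q2161 (flp_i L20745) q2382, e3 q2162 L18818 q2090, e3 q2163 L21067 q2413, e3 q2164 L21085 q2415, e3 q2165 L21101 q2417, e3 q2166 (flp_i L18846) q1932, e3 q2167 L21116 q2419, e3 q2168 (flp_i L18862) q1933, e3 q2169 L18874 q1996, e3 q2170 L21147 q2423, e3 q2171 L21162 q2425, e3 q2172 (flp_i L18894) q1936, e3 q2173 (flp_i L18902) q1937, e3 q2174 L21180 q2427, e3 q2175 L21202 q2429, trivial⟩ (by decide +kernel)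

theorem ce_i_34 : ∀ r, r < 64 → sm gi (Qf (2176 + r)) = Qf (tab Gen.i (2176 + r)) :=
  edges_tab (sm gi) Qf (tab Gen.i) 2176 [(2176, 1940), (2177, 2431), (2178, 1941), (2179, 2179), (2180, 2435), (2181, 1945), (2182, 2437), (2183, 1946), (2184, 1961), (2185, 2440), (2186, 1963), (2187, 2443), (2188, 2444), (2189, 1950), (2190, 2445), (2191, 1952), (2192, 1972), (2193, 2448), (2194, 2450), (2195, 1955), (2196, 2452), (2197, 1956), (2198, 1958), (2199, 2438), (2200, 2113), (2201, 2458), (2202, 1962), (2203, 2071), (2204, 2086), (2205, 2462), (2206, 2464), (2207, 2466), (2208, 1965), (2209, 1966), (2210, 2468), (2211, 2470), (2212, 1969), (2213, 1970), (2214, 2089), (2215, 2472), (2216, 1994), (2217, 2475), (2218, 2478), (2219, 1974), (2220, 2480), (2221, 1975), (2222, 2482), (2223, 1976), (2224, 2485), (2225, 1978), (2226, 2226), (2227, 2487), (2228, 2488), (2229, 1981), (2230, 2490), (2231, 1982), (2232, 1985), (2233, 2492), (2234, 1986), (2235, 2494),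 (2236, 1988), (2237, 2495), (2238, 1993), (2239, 2410)]
    ⟨e3 q2176 (flp_i L18927) q1940, e3 q2177 L21216 q2431, e3 q2178 (flp_i L18946) q1941, e3 q2179 L18960 q2179, e3 q2180 L21251 q2435, e3 q2181 (flp_i L18973) q1945, e3 q2182 L21270 q2437, e3 q2183 (flp_i L18994) q1946, e3 q2184 L19012 q1961, e3 q2185 L21306 q2440, e3 q2186 L19034 q1963, e3 q2187 L21341 q2443, e3 q2188 L21353 q2444, e3 q2189 (flp_i L19056) q1950, e3 q2190 L21360 q2445, e3 q2191 (flp_i L19080) q1952, e3 q2192 L19101 q1972, e3 q2193 L21394 q2448, e3 q2194 L21413 q2450, e3 q2195 (flp_i L19125) q1955, e3 q2196 L21430 q2452, e3 q2197 (flp_i L19143) q1956, e3 q2198 (flp_i L19148) q1958, e3 q2199 (flp_i L21289) q2438, e3 q2200 L19175 q2113, e3 q2201 L21490 q2458, e3 q2202 (flp_i L19185) q1962, e3 q2203 L19199 q2071, e3 q2204 L19216 q2086, e3 q2205 L21526 q2462, e3 q2206 L21545 q2464, e3 q2207 L21562 q2466, e3 q2208 (flp_i L19247) q1965, e3 q2209 (flp_i L19255) q1966, e3 q2210 L21578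 q2468, e3 q2211 L21604 q2470, e3 q2212 (flp_i L19288) q1969, e3 q2213 (flp_i L19297) q1970, e3 q2214 L19317 q2089, e3 q2215 L21624 q2472, e3 q2216 L19336 q1994, e3 q2217 L21646 q2475, e3 q2218 L21666 q2478, e3 q2219 (flp_i L19353) q1974, e3 q2220 L21678 q2480, e3 q2221 (flp_i L19368) q1975, e3 q2222 L21692 q2482, e3 q2223 (flp_i L19381) q1976, e3 q2224 L21712 q2485, e3 q2225 (flp_i L19394) q1978, e3 q2226 L19406 q2226, e3 q2227 L21726 q2487, e3 q2228 L21741 q2488, e3 q2229 (flp_i L19433) q1981, e3 q2230 L21765 q2490, e3 q2231 (flp_i L19450) q1982, e3 q2232 (flp_i L19459) q1985, e3 q2233 L21783 q2492, e3 q2234 (flp_i L19481) q1986, e3 q2235 L21805 q2494, e3 q2236 (flp_i L19500) q1988, e3 q2237 L21812 q2495, e3 q2238 (flp_i L19520) q1993, e3 q2239 (flp_i L21046) q2410, trivial⟩ (by decide +kernel)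

theorem ce_i_35 : ∀ r, r < 64 → sm gi (Qf (2240 + r)) = Qf (tab Gen.i (2240 + r)) :=
  edges_tab (sm gi) Qf (tab Gen.i) 2240 [(2240, 2032), (2241, 2403), (2242, 2498), (2243, 2500), (2244, 1998), (2245, 1999), (2246, 2024), (2247, 2025), (2248, 2504), (2249, 2505), (2250, 2003), (2251, 2507), (2252, 2509), (2253, 2006), (2254, 2007), (2255, 2510), (2256, 2009), (2257, 2512), (2258, 2010), (2259, 2117), (2260, 2515), (2261, 2014), (2262, 2121), (2263, 2122), (2264, 2520), (2265, 2521), (2266, 2523), (2267, 2017), (2268, 2018), (2269, 2124), (2270, 2526), (2271, 2528), (2272, 2021), (2273, 2022), (2274, 2061), (2275, 2530), (2276, 2454), (2277, 2533), (2278, 2536), (2279, 2026), (2280, 2537), (2281, 2027), (2282, 2539), (2283, 2028), (2284, 2541), (2285, 2030), (2286, 2542), (2287, 2544), (2288, 2033), (2289, 2546), (2290, 2034), (2291, 2037), (2292, 2038), (2293, 2550), (2294, 2040), (2295, 2295), (2296, 2553), (2297, 2044), (2298, 2046), (2299, 2555),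 (2300, 2557), (2301, 2560), (2302, 2050), (2303, 2561)]
    ⟨e3 q2240 L19541 q2032, e3 q2241 (flp_i L20975) q2403, e3 q2242 L21845 q2498, e3 q2243 L21864 q2500, e3 q2244 (flp_i L19573) q1998, e3 q2245 (flp_i L19583) q1999, e3 q2246 L19601 q2024, e3 q2247 L19620 q2025, e3 q2248 L21905 q2504, e3 q2249 L21917 q2505, e3 q2250 (flp_i L19645) q2003, e3 q2251 L21943 q2507, e3 q2252 L21962 q2509, e3 q2253 (flp_i L19678) q2006, e3 q2254 (flp_i L19688) q2007, e3 q2255 L21972 q2510, e3 q2256 (flp_i L19707) q2009, e3 q2257 L21986 q2512, e3 q2258 (flp_i L19726) q2010, e3 q2259 L19740 q2117, e3 q2260 L22012 q2515, e3 q2261 (flp_i L19757) q2014, e3 q2262 L19775 q2121, e3 q2263 L19794 q2122, e3 q2264 L22067 q2520, e3 q2265 L22077 q2521, e3 q2266 L22103 q2523, e3 q2267 (flp_i L19830) q2017, e3 q2268 (flp_i L19840) q2018, e3 q2269 L19858 q2124, e3 q2270 L22135 q2526, e3 q2271 L22152 q2528, e3 q2272 (flp_i L19877) q2021, e3 q2273 (flp_i L19886) q2022, e3 q2274 L19908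 q2061, e3 q2275 L22166 q2530, e3 q2276 (flp_i L21453) q2454, e3 q2277 L22188 q2533, e3 q2278 L22208 q2536, e3 q2279 (flp_i L19938) q2026, e3 q2280 L22214 q2537, e3 q2281 (flp_i L19958) q2027, e3 q2282 L22237 q2539, e3 q2283 (flp_i L19974) q2028, e3 q2284 L22254 q2541, e3 q2285 (flp_i L19990) q2030, e3 q2286 L22261 q2542, e3 q2287 L22274 q2544, e3 q2288 (flp_i L20013) q2033, e3 q2289 L22289 q2546, e3 q2290 (flp_i L20025) q2034, e3 q2291 (flp_i L20032) q2037, e3 q2292 (flp_i L20040) q2038, e3 q2293 L22316 q2550, e3 q2294 (flp_i L20054) q2040, e3 q2295 L20066 q2295, e3 q2296 L22338 q2553, e3 q2297 (flp_i L20077) q2044, e3 q2298 (flp_i L20089) q2046, e3 q2299 L22358 q2555, e3 q2300 L22378 q2557, e3 q2301 L22402 q2560, e3 q2302 (flp_i L20122) q2050, e3 q2303 L22406 q2561, trivial⟩ (by decide +kernel)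

theorem ce_i_36 : ∀ r, r < 64 → sm gi (Qf (2304 + r)) = Qf (tab Gen.i (2304 + r)) :=
  edges_tab (sm gi) Qf (tab Gen.i) 2304 [(2304, 2051), (2305, 2562), (2306, 2052), (2307, 2055), (2308, 2563), (2309, 2056), (2310, 2565), (2311, 2063), (2312, 2064), (2313, 2066), (2314, 2567), (2315, 2067), (2316, 2570), (2317, 2070), (2318, 2572), (2319, 2072), (2320, 2575), (2321, 2577), (2322, 2073), (2323, 2580), (2324, 2075), (2325, 2582), (2326, 2077), (2327, 2583), (2328, 2079), (2329, 2584), (2330, 2082), (2331, 2585), (2332, 2084), (2333, 2455), (2334, 2588), (2335, 2087), (2336, 2408), (2337, 2396), (2338, 2590), (2339, 2092), (2340, 2592), (2341, 2093), (2342, 2594), (2343, 2097), (2344, 2596), (2345, 2099), (2346, 2599), (2347, 2601), (2348, 2101), (2349, 2603), (2350, 2102), (2351, 2351), (2352, 2605), (2353, 2104), (2354, 2106), (2355, 2108), (2356, 2110), (2357, 2391), (2358, 2116), (2359, 2390), (2360, 2607), (2361, 2119), (2362, 2395), (2363, 2517),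 (2364, 2609), (2365, 2611), (2366, 2613), (2367, 2127)]
    ⟨e3 q2304 (flp_i L20142) q2051, e3 q2305 L22420 q2562, e3 q2306 (flp_i L20160) q2052, e3 q2307 (flp_i L20169) q2055, e3 q2308 L22427 q2563, e3 q2309 (flp_i L20188) q2056, e3 q2310 L22440 q2565, e3 q2311 (flp_i L20201) q2063, e3 q2312 (flp_i L20209) q2064, e3 q2313 (flp_i L20220) q2066, e3 q2314 L22453 q2567, e3 q2315 (flp_i L20239) q2067, e3 q2316 L22473 q2570, e3 q2317 (flp_i L20252) q2070, e3 q2318 L22483 q2572, e3 q2319 (flp_i L20262) q2072, e3 q2320 L22499 q2575, e3 q2321 L22509 q2577, e3 q2322 (flp_i L20278) q2073, e3 q2323 L22524 q2580, e3 q2324 (flp_i L20290) q2075, e3 q2325 L22542 q2582, e3 q2326 (flp_i L20307) q2077, e3 q2327 L22550 q2583, e3 q2328 (flp_i L20322) q2079, e3 q2329 L22559 q2584, e3 q2330 (flp_i L20336) q2082, e3 q2331 L22567 q2585, e3 q2332 (flp_i L20351) q2084, e3 q2333 (flp_i L21469) q2455, e3 q2334 L22591 q2588, e3 q2335 (flp_i L20367) q2087, e3 q2336 (flp_i L21026)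 q2408, e3 q2337 (flp_i L20914) q2396, e3 q2338 L22604 q2590, e3 q2339 (flp_i L20394) q2092, e3 q2340 L22618 q2592, e3 q2341 (flp_i L20413) q2093, e3 q2342 L22634 q2594, e3 q2343 (flp_i L20426) q2097, e3 q2344 L22646 q2596, e3 q2345 (flp_i L20441) q2099, e3 q2346 L22668 q2599, e3 q2347 L22682 q2601, e3 q2348 (flp_i L20460) q2101, e3 q2349 L22694 q2603, e3 q2350 (flp_i L20474) q2102, e3 q2351 L20486 q2351, e3 q2352 L22708 q2605, e3 q2353 (flp_i L20493) q2104, e3 q2354 (flp_i L20500) q2106, e3 q2355 (flp_i L20507) q2108, e3 q2356 (flp_i L20516) q2110, e3 q2357 (flp_i L20860) q2391, e3 q2358 (flp_i L20532) q2116, e3 q2359 (flp_i L20846) q2390, e3 q2360 L22720 q2607, e3 q2361 (flp_i L20550) q2119, e3 q2362 (flp_i L20902) q2395, e3 q2363 (flp_i L22048) q2517, e3 q2364 L22734 q2609, e3 q2365 L22760 q2611, e3 q2366 L22784 q2613, e3 q2367 (flp_i L20599) q2127, trivial⟩ (by decide +kernel)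

theorem ce_i_37 : ∀ r, r < 64 → sm gi (Qf (2368 + r)) = Qf (tab Gen.i (2368 + r)) :=
  edges_tab (sm gi) Qf (tab Gen.i) 2368 [(2368, 2615), (2369, 2616), (2370, 2130), (2371, 2618), (2372, 2132), (2373, 2620), (2374, 2133), (2375, 2623), (2376, 2135), (2377, 2136), (2378, 2625), (2379, 2138), (2380, 2627), (2381, 2139), (2382, 2161), (2383, 2631), (2384, 2633), (2385, 2143), (2386, 2144), (2387, 2636), (2388, 2146), (2389, 2148), (2390, 2359), (2391, 2357), (2392, 2642), (2393, 2644), (2394, 2151), (2395, 2362), (2396, 2337), (2397, 2650), (2398, 2651), (2399, 2653), (2400, 2154), (2401, 2655), (2402, 2155), (2403, 2241), (2404, 2658), (2405, 2660), (2406, 2158), (2407, 2159), (2408, 2336), (2409, 2663), (2410, 2239), (2411, 2666), (2412, 2669), (2413, 2163), (2414, 2670), (2415, 2164), (2416, 2672), (2417, 2165), (2418, 2675), (2419, 2167), (2420, 2420), (2421, 2678), (2422, 2679), (2423, 2170), (2424, 2681), (2425, 2171), (2426, 2684), (2427, 2174),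 (2428, 2686), (2429, 2175), (2430, 2689), (2431, 2177)]
    ⟨e3 q2368 L22806 q2615, e3 q2369 L22819 q2616, e3 q2370 (flp_i L20634) q2130, e3 q2371 L22846 q2618, e3 q2372 (flp_i L20652) q2132, e3 q2373 L22862 q2620, e3 q2374 (flp_i L20668) q2133, e3 q2375 L22891 q2623, e3 q2376 (flp_i L20684) q2135, e3 q2377 (flp_i L20692) q2136, e3 q2378 L22909 q2625, e3 q2379 (flp_i L20710) q2138, e3 q2380 L22925 q2627, e3 q2381 (flp_i L20727) q2139, e3 q2382 L20745 q2161, e3 q2383 L22964 q2631, e3 q2384 L22992 q2633, e3 q2385 (flp_i L20775) q2143, e3 q2386 (flp_i L20789) q2144, e3 q2387 L23030 q2636, e3 q2388 (flp_i L20813) q2146, e3 q2389 (flp_i L20827) q2148, e3 q2390 L20846 q2359, e3 q2391 L20860 q2357, e3 q2392 L23101 q2642, e3 q2393 L23121 q2644, e3 q2394 (flp_i L20882) q2151, e3 q2395 L20902 q2362, e3 q2396 L20914 q2337, e3 q2397 L23187 q2650, e3 q2398 L23199 q2651, e3 q2399 L23219 q2653, e3 q2400 (flp_i L20942) q2154, e3 q2401 L23238 q2655, e3 q2402 (flp_i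 L20962) q2155, e3 q2403 L20975 q2241, e3 q2404 L23267 q2658, e3 q2405 L23291 q2660, e3 q2406 (flp_i L20997) q2158, e3 q2407 (flp_i L21008) q2159, e3 q2408 L21026 q2336, e3 q2409 L23318 q2663, e3 q2410 L21046 q2239, e3 q2411 L23343 q2666, e3 q2412 L23367 q2669, e3 q2413 (flp_i L21067) q2163, e3 q2414 L23375 q2670, e3 q2415 (flp_i L21085) q2164, e3 q2416 L23391 q2672, e3 q2417 (flp_i L21101) q2165, e3 q2418 L23414 q2675, e3 q2419 (flp_i L21116) q2167, e3 q2420 L21130 q2420, e3 q2421 L23439 q2678, e3 q2422 L23450 q2679, e3 q2423 (flp_i L21147) q2170, e3 q2424 L23465 q2681, e3 q2425 (flp_i L21162) q2171, e3 q2426 L23487 q2684, e3 q2427 (flp_i L21180) q2174, e3 q2428 L23509 q2686, e3 q2429 (flp_i L21202) q2175, e3 q2430 L23538 q2689, e3 q2431 (flp_i L21216) q2177, trivial⟩ (by decide +kernel)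

theorem ce_i_38 : ∀ r, r < 64 → sm gi (Qf (2432 + r)) = Qf (tab Gen.i (2432 + r)) :=
  edges_tab (sm gi) Qf (tab Gen.i) 2432 [(2432, 2432), (2433, 2692), (2434, 2693), (2435, 2180), (2436, 2695), (2437, 2182), (2438, 2199), (2439, 2698), (2440, 2185), (2441, 2700), (2442, 2702), (2443, 2187), (2444, 2188), (2445, 2190), (2446, 2705), (2447, 2707), (2448, 2193), (2449, 2709), (2450, 2194), (2451, 2712), (2452, 2196), (2453, 2453), (2454, 2276), (2455, 2333), (2456, 2717), (2457, 2718), (2458, 2201), (2459, 2720), (2460, 2722), (2461, 2725), (2462, 2205), (2463, 2727), (2464, 2206), (2465, 2728), (2466, 2207), (2467, 2467), (2468, 2210), (2469, 2730), (2470, 2211), (2471, 2732), (2472, 2215), (2473, 2734), (2474, 2736), (2475, 2217), (2476, 2739), (2477, 2741), (2478, 2218), (2479, 2744), (2480, 2220), (2481, 2747), (2482, 2222), (2483, 2483), (2484, 2749), (2485, 2224), (2486, 2486), (2487, 2227), (2488, 2228), (2489, 2752), (2490, 2230), (2491, 2753),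 (2492, 2233), (2493, 2754), (2494, 2235), (2495, 2237)]
    ⟨e3 q2432 L21230 q2432, e3 q2433 L23563 q2692, e3 q2434 L23574 q2693, e3 q2435 (flp_i L21251) q2180, e3 q2436 L23594 q2695, e3 q2437 (flp_i L21270) q2182, e3 q2438 L21289 q2199, e3 q2439 L23626 q2698, e3 q2440 (flp_i L21306) q2185, e3 q2441 L23651 q2700, e3 q2442 L23674 q2702, e3 q2443 (flp_i L21341) q2187, e3 q2444 (flp_i L21353) q2188, e3 q2445 (flp_i L21360) q2190, e3 q2446 L23706 q2705, e3 q2447 L23727 q2707, e3 q2448 (flp_i L21394) q2193, e3 q2449 L23746 q2709, e3 q2450 (flp_i L21413) q2194, e3 q2451 L23773 q2712, e3 q2452 (flp_i L21430) q2196, e3 q2453 L21444 q2453, e3 q2454 L21453 q2276, e3 q2455 L21469 q2333, e3 q2456 L23819 q2717, e3 q2457 L23828 q2718, e3 q2458 (flp_i L21490) q2201, e3 q2459 L23850 q2720, e3 q2460 L23875 q2722, e3 q2461 L23907 q2725, e3 q2462 (flp_i L21526) q2205, e3 q2463 L23923 q2727, e3 q2464 (flp_i L21545) q2206, e3 q2465 L23933 q2728, e3 q2466 (flp_i L21562)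 q2207, e3 q2467 L21577 q2467, e3 q2468 (flp_i L21578) q2210, e3 q2469 L23948 q2730, e3 q2470 (flp_i L21604) q2211, e3 q2471 L23966 q2732, e3 q2472 (flp_i L21624) q2215, e3 q2473 L23984 q2734, e3 q2474 L24003 q2736, e3 q2475 (flp_i L21646) q2217, e3 q2476 L24020 q2739, e3 q2477 L24034 q2741, e3 q2478 (flp_i L21666) q2218, e3 q2479 L24051 q2744, e3 q2480 (flp_i L21678) q2220, e3 q2481 L24075 q2747, e3 q2482 (flp_i L21692) q2222, e3 q2483 L21702 q2483, e3 q2484 L24088 q2749, e3 q2485 (flp_i L21712) q2224, e3 q2486 L21725 q2486, e3 q2487 (flp_i L21726) q2227, e3 q2488 (flp_i L21741) q2228, e3 q2489 L24115 q2752, e3 q2490 (flp_i L21765) q2230, e3 q2491 L24124 q2753, e3 q2492 (flp_i L21783) q2233, e3 q2493 L24137 q2754, e3 q2494 (flp_i L21805) q2235, e3 q2495 (flp_i L21812) q2237, trivial⟩ (by decide +kernel)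

theorem ce_i_39 : ∀ r, r < 64 → sm gi (Qf (2496 + r)) = Qf (tab Gen.i (2496 + r)) :=
  edges_tab (sm gi) Qf (tab Gen.i) 2496 [(2496, 2647), (2497, 2755), (2498, 2242), (2499, 2757), (2500, 2243), (2501, 2760), (2502, 2762), (2503, 2764), (2504, 2248), (2505, 2249), (2506, 2765), (2507, 2251), (2508, 2767), (2509, 2252), (2510, 2255), (2511, 2771), (2512, 2257), (2513, 2513), (2514, 2774), (2515, 2260), (2516, 2776), (2517, 2363), (2518, 2779), (2519, 2782), (2520, 2264), (2521, 2265), (2522, 2783), (2523, 2266), (2524, 2784), (2525, 2786), (2526, 2270), (2527, 2787), (2528, 2271), (2529, 2790), (2530, 2275), (2531, 2792), (2532, 2794), (2533, 2277), (2534, 2797), (2535, 2799), (2536, 2278), (2537, 2280), (2538, 2802), (2539, 2282), (2540, 2803), (2541, 2284), (2542, 2286), (2543, 2804), (2544, 2287), (2545, 2807), (2546, 2289), (2547, 2547), (2548, 2548), (2549, 2809), (2550, 2293), (2551, 2551), (2552, 2811), (2553, 2296), (2554, 2812), (2555, 2299),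 (2556, 2813), (2557, 2300), (2558, 2815), (2559, 2816)]
    ⟨e3 q2496 (flp_i L23166) q2647, e3 q2497 L24147 q2755, e3 q2498 (flp_i L21845) q2242, e3 q2499 L24167 q2757, e3 q2500 (flp_i L21864) q2243, e3 q2501 L24198 q2760, e3 q2502 L24223 q2762, e3 q2503 L24245 q2764, e3 q2504 (flp_i L21905) q2248, e3 q2505 (flp_i L21917) q2249, e3 q2506 L24255 q2765, e3 q2507 (flp_i L21943) q2251, e3 q2508 L24276 q2767, e3 q2509 (flp_i L21962) q2252, e3 q2510 (flp_i L21972) q2255, e3 q2511 L24311 q2771, e3 q2512 (flp_i L21986) q2257, e3 q2513 L22000 q2513, e3 q2514 L24339 q2774, e3 q2515 (flp_i L22012) q2260, e3 q2516 L24364 q2776, e3 q2517 L22048 q2363, e3 q2518 L24400 q2779, e3 q2519 L24432 q2782, e3 q2520 (flp_i L22067) q2264, e3 q2521 (flp_i L22077) q2265, e3 q2522 L24438 q2783, e3 q2523 (flp_i L22103) q2266, e3 q2524 L24451 q2784, e3 q2525 L24469 q2786, e3 q2526 (flp_i L22135) q2270, e3 q2527 L24479 q2787, e3 q2528 (flp_i L22152) q2271, e3 q2529 L24500 q2790,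 e3 q2530 (flp_i L22166) q2275, e3 q2531 L24512 q2792, e3 q2532 L24527 q2794, e3 q2533 (flp_i L22188) q2277, e3 q2534 L24546 q2797, e3 q2535 L24558 q2799, e3 q2536 (flp_i L22208) q2278, e3 q2537 (flp_i L22214) q2280, e3 q2538 L24581 q2802, e3 q2539 (flp_i L22237) q2282, e3 q2540 L24590 q2803, e3 q2541 (flp_i L22254) q2284, e3 q2542 (flp_i L22261) q2286, e3 q2543 L24600 q2804, e3 q2544 (flp_i L22274) q2287, e3 q2545 L24623 q2807, e3 q2546 (flp_i L22289) q2289, e3 q2547 L22299 q2547, e3 q2548 L22306 q2548, e3 q2549 L24636 q2809, e3 q2550 (flp_i L22316) q2293, e3 q2551 L22329 q2551, e3 q2552 L24652 q2811, e3 q2553 (flp_i L22338) q2296, e3 q2554 L24660 q2812, e3 q2555 (flp_i L22358) q2299, e3 q2556 L24668 q2813, e3 q2557 (flp_i L22378) q2300, e3 q2558 L24681 q2815, e3 q2559 L24689 q2816, trivial⟩ (by decide +kernel)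

theorem ce_i_40 : ∀ r, r < 64 → sm gi (Qf (2560 + r)) = Qf (tab Gen.i (2560 + r)) :=
  edges_tab (sm gi) Qf (tab Gen.i) 2560 [(2560, 2301), (2561, 2303), (2562, 2305), (2563, 2308), (2564, 2819), (2565, 2310), (2566, 2821), (2567, 2314), (2568, 2824), (2569, 2826), (2570, 2316), (2571, 2829), (2572, 2318), (2573, 2833), (2574, 2835), (2575, 2320), (2576, 2837), (2577, 2321), (2578, 2827), (2579, 2839), (2580, 2323), (2581, 2840), (2582, 2325), (2583, 2327), (2584, 2329), (2585, 2331), (2586, 2638), (2587, 2842), (2588, 2334), (2589, 2645), (2590, 2338), (2591, 2844), (2592, 2340), (2593, 2593), (2594, 2342), (2595, 2846), (2596, 2344), (2597, 2597), (2598, 2849), (2599, 2346), (2600, 2851), (2601, 2347), (2602, 2602), (2603, 2349), (2604, 2604), (2605, 2352), (2606, 2854), (2607, 2360), (2608, 2857), (2609, 2364), (2610, 2858), (2611, 2365), (2612, 2860), (2613, 2366), (2614, 2862), (2615, 2368), (2616, 2369), (2617, 2864), (2618, 2371), (2619, 2867),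 (2620, 2373), (2621, 2621), (2622, 2870), (2623, 2375)]
    ⟨e3 q2560 (flp_i L22402) q2301, e3 q2561 (flp_i L22406) q2303, e3 q2562 (flp_i L22420) q2305, e3 q2563 (flp_i L22427) q2308, e3 q2564 L24705 q2819, e3 q2565 (flp_i L22440) q2310, e3 q2566 L24717 q2821, e3 q2567 (flp_i L22453) q2314, e3 q2568 L24737 q2824, e3 q2569 L24749 q2826, e3 q2570 (flp_i L22473) q2316, e3 q2571 L24763 q2829, e3 q2572 (flp_i L22483) q2318, e3 q2573 L24787 q2833, e3 q2574 L24799 q2835, e3 q2575 (flp_i L22499) q2320, e3 q2576 L24811 q2837, e3 q2577 (flp_i L22509) q2321, e3 q2578 (flp_i L24757) q2827, e3 q2579 L24821 q2839, e3 q2580 (flp_i L22524) q2323, e3 q2581 L24828 q2840, e3 q2582 (flp_i L22542) q2325, e3 q2583 (flp_i L22550) q2327, e3 q2584 (flp_i L22559) q2329, e3 q2585 (flp_i L22567) q2331, e3 q2586 (flp_i L23067) q2638, e3 q2587 L24846 q2842, e3 q2588 (flp_i L22591) q2334, e3 q2589 (flp_i L23142) q2645, e3 q2590 (flp_i L22604) q2338, e3 q2591 L24860 q2844, e3 q2592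 (flp_i L22618) q2340, e3 q2593 L22633 q2593, e3 q2594 (flp_i L22634) q2342, e3 q2595 L24875 q2846, e3 q2596 (flp_i L22646) q2344, e3 q2597 L22661 q2597, e3 q2598 L24897 q2849, e3 q2599 (flp_i L22668) q2346, e3 q2600 L24911 q2851, e3 q2601 (flp_i L22682) q2347, e3 q2602 L22693 q2602, e3 q2603 (flp_i L22694) q2349, e3 q2604 L22707 q2604, e3 q2605 (flp_i L22708) q2352, e3 q2606 L24932 q2854, e3 q2607 (flp_i L22720) q2360, e3 q2608 L24962 q2857, e3 q2609 (flp_i L22734) q2364, e3 q2610 L24972 q2858, e3 q2611 (flp_i L22760) q2365, e3 q2612 L25002 q2860, e3 q2613 (flp_i L22784) q2366, e3 q2614 L25021 q2862, e3 q2615 (flp_i L22806) q2368, e3 q2616 (flp_i L22819) q2369, e3 q2617 L25049 q2864, e3 q2618 (flp_i L22846) q2371, e3 q2619 L25083 q2867, e3 q2620 (flp_i L22862) q2373, e3 q2621 L22878 q2621, e3 q2622 L25114 q2870, e3 q2623 (flp_i L22891) q2375, trivial⟩ (by decide +kernel)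

theorem ce_i_41 : ∀ r, r < 64 → sm gi (Qf (2624 + r)) = Qf (tab Gen.i (2624 + r)) :=
  edges_tab (sm gi) Qf (tab Gen.i) 2624 [(2624, 2873), (2625, 2378), (2626, 2876), (2627, 2380), (2628, 2628), (2629, 2879), (2630, 2882), (2631, 2383), (2632, 2883), (2633, 2384), (2634, 2634), (2635, 2885), (2636, 2387), (2637, 2637), (2638, 2586), (2639, 2889), (2640, 2890), (2641, 2892), (2642, 2392), (2643, 2893), (2644, 2393), (2645, 2589), (2646, 2897), (2647, 2496), (2648, 2900), (2649, 2903), (2650, 2397), (2651, 2398), (2652, 2905), (2653, 2399), (2654, 2907), (2655, 2401), (2656, 2656), (2657, 2909), (2658, 2404), (2659, 2910), (2660, 2405), (2661, 2913), (2662, 2916), (2663, 2409), (2664, 2918), (2665, 2919), (2666, 2411), (2667, 2921), (2668, 2923), (2669, 2412), (2670, 2414), (2671, 2927), (2672, 2416), (2673, 2673), (2674, 2929), (2675, 2418), (2676, 2676), (2677, 2931), (2678, 2421), (2679, 2422), (2680, 2934), (2681, 2424), (2682, 2682), (2683, 2936),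 (2684, 2426), (2685, 2938), (2686, 2428), (2687, 2687)]
    ⟨e3 q2624 L25150 q2873, e3 q2625 (flp_i L22909) q2378, e3 q2626 L25181 q2876, e3 q2627 (flp_i L22925) q2380, e3 q2628 L22941 q2628, e3 q2629 L25210 q2879, e3 q2630 L25248 q2882, e3 q2631 (flp_i L22964) q2383, e3 q2632 L25260 q2883, e3 q2633 (flp_i L22992) q2384, e3 q2634 L23017 q2634, e3 q2635 L25287 q2885, e3 q2636 (flp_i L23030) q2387, e3 q2637 L23055 q2637, e3 q2638 L23067 q2586, e3 q2639 L25337 q2889, e3 q2640 L25350 q2890, e3 q2641 L25375 q2892, e3 q2642 (flp_i L23101) q2392, e3 q2643 L25385 q2893, e3 q2644 (flp_i L23121) q2393, e3 q2645 L23142 q2589, e3 q2646 L25429 q2897, e3 q2647 L23166 q2496, e3 q2648 L25464 q2900, e3 q2649 L25500 q2903, e3 q2650 (flp_i L23187) q2397, e3 q2651 (flp_i L23199) q2398, e3 q2652 L25521 q2905, e3 q2653 (flp_i L23219) q2399, e3 q2654 L25540 q2907, e3 q2655 (flp_i L23238) q2401, e3 q2656 L23256 q2656, e3 q2657 L25564 q2909, e3 q2658 (flp_i L23267) q2404, e3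 q2659 L25576 q2910, e3 q2660 (flp_i L23291) q2405, e3 q2661 L25610 q2913, e3 q2662 L25636 q2916, e3 q2663 (flp_i L23318) q2409, e3 q2664 L25654 q2918, e3 q2665 L25667 q2919, e3 q2666 (flp_i L23343) q2411, e3 q2667 L25683 q2921, e3 q2668 L25699 q2923, e3 q2669 (flp_i L23367) q2412, e3 q2670 (flp_i L23375) q2414, e3 q2671 L25736 q2927, e3 q2672 (flp_i L23391) q2416, e3 q2673 L23403 q2673, e3 q2674 L25751 q2929, e3 q2675 (flp_i L23414) q2418, e3 q2676 L23429 q2676, e3 q2677 L25769 q2931, e3 q2678 (flp_i L23439) q2421, e3 q2679 (flp_i L23450) q2422, e3 q2680 L25801 q2934, e3 q2681 (flp_i L23465) q2424, e3 q2682 L23477 q2682, e3 q2683 L25816 q2936, e3 q2684 (flp_i L23487) q2426, e3 q2685 L25838 q2938, e3 q2686 (flp_i L23509) q2428, e3 q2687 L23527 q2687, trivial⟩ (by decide +kernel)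

theorem ce_i_42 : ∀ r, r < 64 → sm gi (Qf (2688 + r)) = Qf (tab Gen.i (2688 + r)) :=
  edges_tab (sm gi) Qf (tab Gen.i) 2688 [(2688, 2940), (2689, 2430), (2690, 2690), (2691, 2942), (2692, 2433), (2693, 2434), (2694, 2944), (2695, 2436), (2696, 2696), (2697, 2947), (2698, 2439), (2699, 2949), (2700, 2441), (2701, 2950), (2702, 2442), (2703, 2703), (2704, 2953), (2705, 2446), (2706, 2955), (2707, 2447), (2708, 2957), (2709, 2449), (2710, 2710), (2711, 2959), (2712, 2451), (2713, 2713), (2714, 2962), (2715, 2964), (2716, 2966), (2717, 2456), (2718, 2457), (2719, 2968), (2720, 2459), (2721, 2970), (2722, 2460), (2723, 2972), (2724, 2973), (2725, 2461), (2726, 2976), (2727, 2463), (2728, 2465), (2729, 2729), (2730, 2469), (2731, 2980), (2732, 2471), (2733, 2983), (2734, 2473), (2735, 2985), (2736, 2474), (2737, 2989), (2738, 2991), (2739, 2476), (2740, 2994), (2741, 2477), (2742, 2981), (2743, 2997), (2744, 2479), (2745, 2745), (2746, 2999), (2747, 2481),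 (2748, 2748), (2749, 2484), (2750, 2750), (2751, 3003)]
    ⟨e3 q2688 L25862 q2940, e3 q2689 (flp_i L23538) q2430, e3 q2690 L23553 q2690, e3 q2691 L25880 q2942, e3 q2692 (flp_i L23563) q2433, e3 q2693 (flp_i L23574) q2434, e3 q2694 L25901 q2944, e3 q2695 (flp_i L23594) q2436, e3 q2696 L23612 q2696, e3 q2697 L25932 q2947, e3 q2698 (flp_i L23626) q2439, e3 q2699 L25959 q2949, e3 q2700 (flp_i L23651) q2441, e3 q2701 L25971 q2950, e3 q2702 (flp_i L23674) q2442, e3 q2703 L23693 q2703, e3 q2704 L26005 q2953, e3 q2705 (flp_i L23706) q2446, e3 q2706 L26027 q2955, e3 q2707 (flp_i L23727) q2447, e3 q2708 L26047 q2957, e3 q2709 (flp_i L23746) q2449, e3 q2710 L23764 q2710, e3 q2711 L26066 q2959, e3 q2712 (flp_i L23773) q2451, e3 q2713 L23788 q2713, e3 q2714 L26094 q2962, e3 q2715 L26119 q2964, e3 q2716 L26139 q2966, e3 q2717 (flp_i L23819) q2456, e3 q2718 (flp_i L23828) q2457, e3 q2719 L26158 q2968, e3 q2720 (flp_i L23850) q2459, e3 q2721 L26182 q2970, e3 q2722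 (flp_i L23875) q2460, e3 q2723 L26205 q2972, e3 q2724 L26217 q2973, e3 q2725 (flp_i L23907) q2461, e3 q2726 L26242 q2976, e3 q2727 (flp_i L23923) q2463, e3 q2728 (flp_i L23933) q2465, e3 q2729 L23947 q2729, e3 q2730 (flp_i L23948) q2469, e3 q2731 L26277 q2980, e3 q2732 (flp_i L23966) q2471, e3 q2733 L26299 q2983, e3 q2734 (flp_i L23984) q2473, e3 q2735 L26317 q2985, e3 q2736 (flp_i L24003) q2474, e3 q2737 L26344 q2989, e3 q2738 L26359 q2991, e3 q2739 (flp_i L24020) q2476, e3 q2740 L26380 q2994, e3 q2741 (flp_i L24034) q2477, e3 q2742 (flp_i L26286) q2981, e3 q2743 L26403 q2997, e3 q2744 (flp_i L24051) q2479, e3 q2745 L24066 q2745, e3 q2746 L26419 q2999, e3 q2747 (flp_i L24075) q2481, e3 q2748 L24087 q2748, e3 q2749 (flp_i L24088) q2484, e3 q2750 L24103 q2750, e3 q2751 L26448 q3003, trivial⟩ (by decide +kernel)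

theorem ce_i_43 : ∀ r, r < 64 → sm gi (Qf (2752 + r)) = Qf (tab Gen.i (2752 + r)) :=
  edges_tab (sm gi) Qf (tab Gen.i) 2752 [(2752, 2489), (2753, 2491), (2754, 2493), (2755, 2497), (2756, 3005), (2757, 2499), (2758, 2758), (2759, 3007), (2760, 2501), (2761, 3008), (2762, 2502), (2763, 3010), (2764, 2503), (2765, 2506), (2766, 3013), (2767, 2508), (2768, 2768), (2769, 2769), (2770, 3015), (2771, 2511), (2772, 2772), (2773, 3017), (2774, 2514), (2775, 3019), (2776, 2516), (2777, 3021), (2778, 3023), (2779, 2518), (2780, 3025), (2781, 3026), (2782, 2519), (2783, 2522), (2784, 2524), (2785, 3028), (2786, 2525), (2787, 2527), (2788, 2788), (2789, 3032), (2790, 2529), (2791, 3035), (2792, 2531), (2793, 3036), (2794, 2532), (2795, 3040), (2796, 3042), (2797, 2534), (2798, 3045), (2799, 2535), (2800, 3033), (2801, 3047), (2802, 2538), (2803, 2540), (2804, 2543), (2805, 2805), (2806, 3049), (2807, 2545), (2808, 2808), (2809, 2549), (2810, 2810), (2811, 2552),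 (2812, 2554), (2813, 2556), (2814, 3056), (2815, 2558)]
    ⟨e3 q2752 (flp_i L24115) q2489, e3 q2753 (flp_i L24124) q2491, e3 q2754 (flp_i L24137) q2493, e3 q2755 (flp_i L24147) q2497, e3 q2756 L26470 q3005, e3 q2757 (flp_i L24167) q2499, e3 q2758 L24185 q2758, e3 q2759 L26489 q3007, e3 q2760 (flp_i L24198) q2501, e3 q2761 L26501 q3008, e3 q2762 (flp_i L24223) q2502, e3 q2763 L26523 q3010, e3 q2764 (flp_i L24245) q2503, e3 q2765 (flp_i L24255) q2506, e3 q2766 L26556 q3013, e3 q2767 (flp_i L24276) q2508, e3 q2768 L24294 q2768, e3 q2769 L24302 q2769, e3 q2770 L26575 q3015, e3 q2771 (flp_i L24311) q2511, e3 q2772 L24326 q2772, e3 q2773 L26591 q3017, e3 q2774 (flp_i L24339) q2514, e3 q2775 L26614 q3019, e3 q2776 (flp_i L24364) q2516, e3 q2777 L26636 q3021, e3 q2778 L26661 q3023, e3 q2779 (flp_i L24400) q2518, e3 q2780 L26684 q3025, e3 q2781 L26692 q3026, e3 q2782 (flp_i L24432) q2519, e3 q2783 (flp_i L24438) q2522, e3 q2784 (flp_i L24451) q2524, e3 q2785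 L26710 q3028, e3 q2786 (flp_i L24469) q2525, e3 q2787 (flp_i L24479) q2527, e3 q2788 L24494 q2788, e3 q2789 L26745 q3032, e3 q2790 (flp_i L24500) q2529, e3 q2791 L26763 q3035, e3 q2792 (flp_i L24512) q2531, e3 q2793 L26771 q3036, e3 q2794 (flp_i L24527) q2532, e3 q2795 L26800 q3040, e3 q2796 L26813 q3042, e3 q2797 (flp_i L24546) q2534, e3 q2798 L26832 q3045, e3 q2799 (flp_i L24558) q2535, e3 q2800 (flp_i L26754) q3033, e3 q2801 L26846 q3047, e3 q2802 (flp_i L24581) q2538, e3 q2803 (flp_i L24590) q2540, e3 q2804 (flp_i L24600) q2543, e3 q2805 L24614 q2805, e3 q2806 L26865 q3049, e3 q2807 (flp_i L24623) q2545, e3 q2808 L24635 q2808, e3 q2809 (flp_i L24636) q2549, e3 q2810 L24651 q2810, e3 q2811 (flp_i L24652) q2552, e3 q2812 (flp_i L24660) q2554, e3 q2813 (flp_i L24668) q2556, e3 q2814 L26924 q3056, e3 q2815 (flp_i L24681) q2558, trivial⟩ (by decide +kernel)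

theorem ce_i_44 : ∀ r, r < 64 → sm gi (Qf (2816 + r)) = Qf (tab Gen.i (2816 + r)) :=
  edges_tab (sm gi) Qf (tab Gen.i) 2816 [(2816, 2559), (2817, 3054), (2818, 3059), (2819, 2564), (2820, 3055), (2821, 2566), (2822, 3063), (2823, 3065), (2824, 2568), (2825, 3067), (2826, 2569), (2827, 2578), (2828, 3069), (2829, 2571), (2830, 3053), (2831, 3071), (2832, 3073), (2833, 2573), (2834, 3075), (2835, 2574), (2836, 3066), (2837, 2576), (2838, 3068), (2839, 2579), (2840, 2581), (2841, 3078), (2842, 2587), (2843, 2843), (2844, 2591), (2845, 2845), (2846, 2595), (2847, 2847), (2848, 3081), (2849, 2598), (2850, 2850), (2851, 2600), (2852, 2852), (2853, 2853), (2854, 2606), (2855, 3085), (2856, 3086), (2857, 2608), (2858, 2610), (2859, 3089), (2860, 2612), (2861, 2861), (2862, 2614), (2863, 3092), (2864, 2617), (2865, 2865), (2866, 3094), (2867, 2619), (2868, 2868), (2869, 3097), (2870, 2622), (2871, 2871), (2872, 3099), (2873, 2624), (2874, 2874), (2875, 3101),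 (2876, 2626), (2877, 2877), (2878, 3106), (2879, 2629)]
    ⟨e3 q2816 (flp_i L24689) q2559, e3 q2817 (flp_i L26912) q3054, e3 q2818 L26943 q3059, e3 q2819 (flp_i L24705) q2564, e3 q2820 (flp_i L26922) q3055, e3 q2821 (flp_i L24717) q2566, e3 q2822 L26970 q3063, e3 q2823 L26983 q3065, e3 q2824 (flp_i L24737) q2568, e3 q2825 L26996 q3067, e3 q2826 (flp_i L24749) q2569, e3 q2827 L24757 q2578, e3 q2828 L27008 q3069, e3 q2829 (flp_i L24763) q2571, e3 q2830 (flp_i L26902) q3053, e3 q2831 L27020 q3071, e3 q2832 L27034 q3073, e3 q2833 (flp_i L24787) q2573, e3 q2834 L27046 q3075, e3 q2835 (flp_i L24799) q2574, e3 q2836 (flp_i L26994) q3066, e3 q2837 (flp_i L24811) q2576, e3 q2838 (flp_i L27006) q3068, e3 q2839 (flp_i L24821) q2579, e3 q2840 (flp_i L24828) q2581, e3 q2841 L27064 q3078, e3 q2842 (flp_i L24846) q2587, e3 q2843 L24859 q2843, e3 q2844 (flp_i L24860) q2591, e3 q2845 L24874 q2845, e3 q2846 (flp_i L24875) q2595, e3 q2847 L24889 q2847, e3 q2848 L27084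 q3081, e3 q2849 (flp_i L24897) q2598, e3 q2850 L24910 q2850, e3 q2851 (flp_i L24911) q2600, e3 q2852 L24924 q2852, e3 q2853 L24931 q2853, e3 q2854 (flp_i L24932) q2606, e3 q2855 L27111 q3085, e3 q2856 L27124 q3086, e3 q2857 (flp_i L24962) q2608, e3 q2858 (flp_i L24972) q2610, e3 q2859 L27163 q3089, e3 q2860 (flp_i L25002) q2612, e3 q2861 L25020 q2861, e3 q2862 (flp_i L25021) q2614, e3 q2863 L27202 q3092, e3 q2864 (flp_i L25049) q2617, e3 q2865 L25070 q2865, e3 q2866 L27231 q3094, e3 q2867 (flp_i L25083) q2619, e3 q2868 L25099 q2868, e3 q2869 L27259 q3097, e3 q2870 (flp_i L25114) q2622, e3 q2871 L25135 q2871, e3 q2872 L27288 q3099, e3 q2873 (flp_i L25150) q2624, e3 q2874 L25168 q2874, e3 q2875 L27313 q3101, e3 q2876 (flp_i L25181) q2626, e3 q2877 L25197 q2877, e3 q2878 L27371 q3106, e3 q2879 (flp_i L25210) q2629, trivial⟩ (by decide +kernel)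

theorem ce_i_45 : ∀ r, r < 64 → sm gi (Qf (2880 + r)) = Qf (tab Gen.i (2880 + r)) :=
  edges_tab (sm gi) Qf (tab Gen.i) 2880 [(2880, 3108), (2881, 3109), (2882, 2630), (2883, 2632), (2884, 2884), (2885, 2635), (2886, 2886), (2887, 3114), (2888, 3117), (2889, 2639), (2890, 2640), (2891, 3118), (2892, 2641), (2893, 2643), (2894, 2894), (2895, 3122), (2896, 3125), (2897, 2646), (2898, 3127), (2899, 3128), (2900, 2648), (2901, 3129), (2902, 3131), (2903, 2649), (2904, 3133), (2905, 2652), (2906, 2906), (2907, 2654), (2908, 2908), (2909, 2657), (2910, 2659), (2911, 2911), (2912, 3137), (2913, 2661), (2914, 3139), (2915, 3141), (2916, 2662), (2917, 3144), (2918, 2664), (2919, 2665), (2920, 3147), (2921, 2667), (2922, 3150), (2923, 2668), (2924, 3142), (2925, 2925), (2926, 3152), (2927, 2671), (2928, 2928), (2929, 2674), (2930, 2930), (2931, 2677), (2932, 2932), (2933, 3157), (2934, 2680), (2935, 2935), (2936, 2683), (2937, 2937), (2938, 2685), (2939, 2939),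 (2940, 2688), (2941, 2941), (2942, 2691), (2943, 2943)]
    ⟨e3 q2880 L27398 q3108, e3 q2881 L27412 q3109, e3 q2882 (flp_i L25248) q2630, e3 q2883 (flp_i L25260) q2632, e3 q2884 L25286 q2884, e3 q2885 (flp_i L25287) q2635, e3 q2886 L25313 q2886, e3 q2887 L27482 q3114, e3 q2888 L27528 q3117, e3 q2889 (flp_i L25337) q2639, e3 q2890 (flp_i L25350) q2640, e3 q2891 L27538 q3118, e3 q2892 (flp_i L25375) q2641, e3 q2893 (flp_i L25385) q2643, e3 q2894 L25406 q2894, e3 q2895 L27589 q3122, e3 q2896 L27633 q3125, e3 q2897 (flp_i L25429) q2646, e3 q2898 L27659 q3127, e3 q2899 L27674 q3128, e3 q2900 (flp_i L25464) q2648, e3 q2901 L27686 q3129, e3 q2902 L27718 q3131, e3 q2903 (flp_i L25500) q2649, e3 q2904 L27738 q3133, e3 q2905 (flp_i L25521) q2652, e3 q2906 L25539 q2906, e3 q2907 (flp_i L25540) q2654, e3 q2908 L25563 q2908, e3 q2909 (flp_i L25564) q2657, e3 q2910 (flp_i L25576) q2659, e3 q2911 L25599 q2911, e3 q2912 L27791 q3137, e3 q2913 (flp_i L25610) q2661,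 e3 q2914 L27816 q3139, e3 q2915 L27838 q3141, e3 q2916 (flp_i L25636) q2662, e3 q2917 L27868 q3144, e3 q2918 (flp_i L25654) q2664, e3 q2919 (flp_i L25667) q2665, e3 q2920 L27902 q3147, e3 q2921 (flp_i L25683) q2667, e3 q2922 L27934 q3150, e3 q2923 (flp_i L25699) q2668, e3 q2924 (flp_i L27851) q3142, e3 q2925 L25722 q2925, e3 q2926 L27950 q3152, e3 q2927 (flp_i L25736) q2671, e3 q2928 L25750 q2928, e3 q2929 (flp_i L25751) q2674, e3 q2930 L25768 q2930, e3 q2931 (flp_i L25769) q2677, e3 q2932 L25787 q2932, e3 q2933 L27999 q3157, e3 q2934 (flp_i L25801) q2680, e3 q2935 L25815 q2935, e3 q2936 (flp_i L25816) q2683, e3 q2937 L25837 q2937, e3 q2938 (flp_i L25838) q2685, e3 q2939 L25861 q2939, e3 q2940 (flp_i L25862) q2688, e3 q2941 L25879 q2941, e3 q2942 (flp_i L25880) q2691, e3 q2943 L25900 q2943, trivial⟩ (by decide +kernel)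

theorem ce_i_46 : ∀ r, r < 64 → sm gi (Qf (2944 + r)) = Qf (tab Gen.i (2944 + r)) :=
  edges_tab (sm gi) Qf (tab Gen.i) 2944 [(2944, 2694), (2945, 2945), (2946, 3166), (2947, 2697), (2948, 3167), (2949, 2699), (2950, 2701), (2951, 2951), (2952, 3170), (2953, 2704), (2954, 3172), (2955, 2706), (2956, 3171), (2957, 2708), (2958, 2958), (2959, 2711), (2960, 2960), (2961, 3177), (2962, 2714), (2963, 3178), (2964, 2715), (2965, 3179), (2966, 2716), (2967, 3181), (2968, 2719), (2969, 3184), (2970, 2721), (2971, 3186), (2972, 2723), (2973, 2724), (2974, 3182), (2975, 3189), (2976, 2726), (2977, 2977), (2978, 2978), (2979, 3193), (2980, 2731), (2981, 2742), (2982, 3195), (2983, 2733), (2984, 3198), (2985, 2735), (2986, 3187), (2987, 3200), (2988, 3202), (2989, 2737), (2990, 3205), (2991, 2738), (2992, 3185), (2993, 3207), (2994, 2740), (2995, 3194), (2996, 3210), (2997, 2743), (2998, 2998), (2999, 2746), (3000, 3000), (3001, 3001), (3002, 3002), (3003, 2751),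 (3004, 3004), (3005, 2756), (3006, 3006), (3007, 2759)]
    ⟨e3 q2944 (flp_i L25901) q2694, e3 q2945 L25919 q2945, e3 q2946 L28087 q3166, e3 q2947 (flp_i L25932) q2697, e3 q2948 L28099 q3167, e3 q2949 (flp_i L25959) q2699, e3 q2950 (flp_i L25971) q2701, e3 q2951 L25993 q2951, e3 q2952 L28136 q3170, e3 q2953 (flp_i L26005) q2704, e3 q2954 L28161 q3172, e3 q2955 (flp_i L26027) q2706, e3 q2956 (flp_i L28159) q3171, e3 q2957 (flp_i L26047) q2708, e3 q2958 L26065 q2958, e3 q2959 (flp_i L26066) q2711, e3 q2960 L26081 q2960, e3 q2961 L28209 q3177, e3 q2962 (flp_i L26094) q2714, e3 q2963 L28221 q3178, e3 q2964 (flp_i L26119) q2715, e3 q2965 L28231 q3179, e3 q2966 (flp_i L26139) q2716, e3 q2967 L28246 q3181, e3 q2968 (flp_i L26158) q2719, e3 q2969 L28287 q3184, e3 q2970 (flp_i L26182) q2721, e3 q2971 L28313 q3186, e3 q2972 (flp_i L26205) q2723, e3 q2973 (flp_i L26217) q2724, e3 q2974 (flp_i L28269) q3182, e3 q2975 L28344 q3189, e3 q2976 (flp_i L26242) q2726,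 e3 q2977 L26261 q2977, e3 q2978 L26269 q2978, e3 q2979 L28386 q3193, e3 q2980 (flp_i L26277) q2731, e3 q2981 L26286 q2742, e3 q2982 L28399 q3195, e3 q2983 (flp_i L26299) q2733, e3 q2984 L28440 q3198, e3 q2985 (flp_i L26317) q2735, e3 q2986 (flp_i L28336) q3187, e3 q2987 L28454 q3200, e3 q2988 L28479 q3202, e3 q2989 (flp_i L26344) q2737, e3 q2990 L28507 q3205, e3 q2991 (flp_i L26359) q2738, e3 q2992 (flp_i L28311) q3185, e3 q2993 L28522 q3207, e3 q2994 (flp_i L26380) q2740, e3 q2995 (flp_i L28397) q3194, e3 q2996 L28542 q3210, e3 q2997 (flp_i L26403) q2743, e3 q2998 L26418 q2998, e3 q2999 (flp_i L26419) q2746, e3 q3000 L26435 q3000, e3 q3001 L26438 q3001, e3 q3002 L26447 q3002, e3 q3003 (flp_i L26448) q2751, e3 q3004 L26469 q3004, e3 q3005 (flp_i L26470) q2756, e3 q3006 L26488 q3006, e3 q3007 (flp_i L26489) q2759, trivial⟩ (by decide +kernel)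

theorem ce_i_47 : ∀ r, r < 64 → sm gi (Qf (3008 + r)) = Qf (tab Gen.i (3008 + r)) :=
  edges_tab (sm gi) Qf (tab Gen.i) 3008 [(3008, 2761), (3009, 3220), (3010, 2763), (3011, 3218), (3012, 3012), (3013, 2766), (3014, 3014), (3015, 2770), (3016, 3016), (3017, 2773), (3018, 3226), (3019, 2775), (3020, 3228), (3021, 2777), (3022, 3229), (3023, 2778), (3024, 3231), (3025, 2780), (3026, 2781), (3027, 3227), (3028, 2785), (3029, 3029), (3030, 3030), (3031, 3236), (3032, 2789), (3033, 2800), (3034, 3238), (3035, 2791), (3036, 2793), (3037, 3233), (3038, 3241), (3039, 3242), (3040, 2795), (3041, 3244), (3042, 2796), (3043, 3237), (3044, 3247), (3045, 2798), (3046, 3230), (3047, 2801), (3048, 3048), (3049, 2806), (3050, 3050), (3051, 3051), (3052, 3052), (3053, 2830), (3054, 2817), (3055, 2820), (3056, 2814), (3057, 3168), (3058, 3219), (3059, 2818), (3060, 3196), (3061, 3255), (3062, 3256), (3063, 2822), (3064, 3258), (3065, 2823), (3066, 2836), (3067, 2825),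 (3068, 2838), (3069, 2828), (3070, 3225), (3071, 2831)]
    ⟨e3 q3008 (flp_i L26501) q2761, e3 q3009 L28634 q3220, e3 q3010 (flp_i L26523) q2763, e3 q3011 (flp_i L28618) q3218, e3 q3012 L26555 q3012, e3 q3013 (flp_i L26556) q2766, e3 q3014 L26574 q3014, e3 q3015 (flp_i L26575) q2770, e3 q3016 L26590 q3016, e3 q3017 (flp_i L26591) q2773, e3 q3018 L28696 q3226, e3 q3019 (flp_i L26614) q2775, e3 q3020 L28721 q3228, e3 q3021 (flp_i L26636) q2777, e3 q3022 L28731 q3229, e3 q3023 (flp_i L26661) q2778, e3 q3024 L28757 q3231, e3 q3025 (flp_i L26684) q2780, e3 q3026 (flp_i L26692) q2781, e3 q3027 (flp_i L28719) q3227, e3 q3028 (flp_i L26710) q2785, e3 q3029 L26729 q3029, e3 q3030 L26737 q3030, e3 q3031 L28805 q3236, e3 q3032 (flp_i L26745) q2789, e3 q3033 L26754 q2800, e3 q3034 L28818 q3238, e3 q3035 (flp_i L26763) q2791, e3 q3036 (flp_i L26771) q2793, e3 q3037 (flp_i L28786) q3233, e3 q3038 L28839 q3241, e3 q3039 L28849 q3242, e3 q3040 (flp_i L26800) q2795,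 e3 q3041 L28864 q3244, e3 q3042 (flp_i L26813) q2796, e3 q3043 (flp_i L28816) q3237, e3 q3044 L28881 q3247, e3 q3045 (flp_i L26832) q2798, e3 q3046 (flp_i L28755) q3230, e3 q3047 (flp_i L26846) q2801, e3 q3048 L26864 q3048, e3 q3049 (flp_i L26865) q2806, e3 q3050 L26881 q3050, e3 q3051 L26884 q3051, e3 q3052 L26893 q3052, e3 q3053 L26902 q2830, e3 q3054 L26912 q2817, e3 q3055 L26922 q2820, e3 q3056 (flp_i L26924) q2814, e3 q3057 (flp_i L28123) q3168, e3 q3058 (flp_i L28632) q3219, e3 q3059 (flp_i L26943) q2818, e3 q3060 (flp_i L28422) q3196, e3 q3061 L28931 q3255, e3 q3062 L28939 q3256, e3 q3063 (flp_i L26970) q2822, e3 q3064 L28952 q3258, e3 q3065 (flp_i L26983) q2823, e3 q3066 L26994 q2836, e3 q3067 (flp_i L26996) q2825, e3 q3068 L27006 q2838, e3 q3069 (flp_i L27008) q2828, e3 q3070 (flp_i L28694) q3225, e3 q3071 (flp_i L27020) q2831, trivial⟩ (by decide +kernel)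

theorem ce_i_48 : ∀ r, r < 64 → sm gi (Qf (3072 + r)) = Qf (tab Gen.i (3072 + r)) :=
  edges_tab (sm gi) Qf (tab Gen.i) 3072 [(3072, 3263), (3073, 2832), (3074, 3257), (3075, 2834), (3076, 3259), (3077, 3260), (3078, 2841), (3079, 3079), (3080, 3080), (3081, 2848), (3082, 3082), (3083, 3083), (3084, 3084), (3085, 2855), (3086, 2856), (3087, 3087), (3088, 3088), (3089, 2859), (3090, 3090), (3091, 3091), (3092, 2863), (3093, 3093), (3094, 2866), (3095, 3095), (3096, 3096), (3097, 2869), (3098, 3098), (3099, 2872), (3100, 3100), (3101, 2875), (3102, 3102), (3103, 3103), (3104, 3284), (3105, 3285), (3106, 2878), (3107, 3287), (3108, 2880), (3109, 2881), (3110, 3286), (3111, 3111), (3112, 3112), (3113, 3292), (3114, 2887), (3115, 3293), (3116, 3294), (3117, 2888), (3118, 2891), (3119, 3119), (3120, 3120), (3121, 3297), (3122, 2895), (3123, 3298), (3124, 3299), (3125, 2896), (3126, 3301), (3127, 2898), (3128, 2899), (3129, 2901), (3130, 3304), (3131, 2902),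 (3132, 3300), (3133, 2904), (3134, 3134), (3135, 3135)]
    ⟨e3 q3072 L28983 q3263, e3 q3073 (flp_i L27034) q2832, e3 q3074 (flp_i L28950) q3257, e3 q3075 (flp_i L27046) q2834, e3 q3076 (flp_i L28965) q3259, e3 q3077 (flp_i L28971) q3260, e3 q3078 (flp_i L27064) q2841, e3 q3079 L27077 q3079, e3 q3080 L27083 q3080, e3 q3081 (flp_i L27084) q2848, e3 q3082 L27099 q3082, e3 q3083 L27107 q3083, e3 q3084 L27110 q3084, e3 q3085 (flp_i L27111) q2855, e3 q3086 (flp_i L27124) q2856, e3 q3087 L27146 q3087, e3 q3088 L27162 q3088, e3 q3089 (flp_i L27163) q2859, e3 q3090 L27187 q3090, e3 q3091 L27201 q3091, e3 q3092 (flp_i L27202) q2863, e3 q3093 L27230 q3093, e3 q3094 (flp_i L27231) q2866, e3 q3095 L27251 q3095, e3 q3096 L27256 q3096, e3 q3097 (flp_i L27259) q2869, e3 q3098 L27287 q3098, e3 q3099 (flp_i L27288) q2872, e3 q3100 L27312 q3100, e3 q3101 (flp_i L27313) q2875, e3 q3102 L27333 q3102, e3 q3103 L27338 q3103, e3 q3104 L29194 q3284, e3 q3105 L29209 q3285,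 e3 q3106 (flp_i L27371) q2878, e3 q3107 L29238 q3287, e3 q3108 (flp_i L27398) q2880, e3 q3109 (flp_i L27412) q2881, e3 q3110 (flp_i L29236) q3286, e3 q3111 L27451 q3111, e3 q3112 L27465 q3112, e3 q3113 L29303 q3292, e3 q3114 (flp_i L27482) q2887, e3 q3115 L29319 q3293, e3 q3116 L29334 q3294, e3 q3117 (flp_i L27528) q2888, e3 q3118 (flp_i L27538) q2891, e3 q3119 L27562 q3119, e3 q3120 L27572 q3120, e3 q3121 L29377 q3297, e3 q3122 (flp_i L27589) q2895, e3 q3123 L29393 q3298, e3 q3124 L29408 q3299, e3 q3125 (flp_i L27633) q2896, e3 q3126 L29435 q3301, e3 q3127 (flp_i L27659) q2898, e3 q3128 (flp_i L27674) q2899, e3 q3129 (flp_i L27686) q2901, e3 q3130 L29477 q3304, e3 q3131 (flp_i L27718) q2902, e3 q3132 (flp_i L29433) q3300, e3 q3133 (flp_i L27738) q2904, e3 q3134 L27762 q3134, e3 q3135 L27775 q3135, trivial⟩ (by decide +kernel)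

theorem ce_i_49 : ∀ r, r < 64 → sm gi (Qf (3136 + r)) = Qf (tab Gen.i (3136 + r)) :=
  edges_tab (sm gi) Qf (tab Gen.i) 3136 [(3136, 3136), (3137, 2912), (3138, 3310), (3139, 2914), (3140, 3312), (3141, 2915), (3142, 2924), (3143, 3314), (3144, 2917), (3145, 3309), (3146, 3316), (3147, 2920), (3148, 3311), (3149, 3319), (3150, 2922), (3151, 3313), (3152, 2926), (3153, 3153), (3154, 3154), (3155, 3155), (3156, 3156), (3157, 2933), (3158, 3158), (3159, 3159), (3160, 3160), (3161, 3161), (3162, 3162), (3163, 3163), (3164, 3164), (3165, 3165), (3166, 2946), (3167, 2948), (3168, 3057), (3169, 3169), (3170, 2952), (3171, 2956), (3172, 2954), (3173, 3332), (3174, 3174), (3175, 3175), (3176, 3176), (3177, 2961), (3178, 2963), (3179, 2965), (3180, 3337), (3181, 2967), (3182, 2974), (3183, 3341), (3184, 2969), (3185, 2992), (3186, 2971), (3187, 2986), (3188, 3340), (3189, 2975), (3190, 3190), (3191, 3191), (3192, 3348), (3193, 2979), (3194, 2995), (3195, 2982),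 (3196, 3060), (3197, 3352), (3198, 2984), (3199, 3343)]
    ⟨e3 q3136 L27790 q3136, e3 q3137 (flp_i L27791) q2912, e3 q3138 L29556 q3310, e3 q3139 (flp_i L27816) q2914, e3 q3140 L29579 q3312, e3 q3141 (flp_i L27838) q2915, e3 q3142 L27851 q2924, e3 q3143 L29602 q3314, e3 q3144 (flp_i L27868) q2917, e3 q3145 (flp_i L29554) q3309, e3 q3146 L29629 q3316, e3 q3147 (flp_i L27902) q2920, e3 q3148 (flp_i L29577) q3311, e3 q3149 L29659 q3319, e3 q3150 (flp_i L27934) q2922, e3 q3151 (flp_i L29600) q3313, e3 q3152 (flp_i L27950) q2926, e3 q3153 L27972 q3153, e3 q3154 L27977 q3154, e3 q3155 L27987 q3155, e3 q3156 L27998 q3156, e3 q3157 (flp_i L27999) q2933, e3 q3158 L28021 q3158, e3 q3159 L28026 q3159, e3 q3160 L28036 q3160, e3 q3161 L28049 q3161, e3 q3162 L28059 q3162, e3 q3163 L28069 q3163, e3 q3164 L28079 q3164, e3 q3165 L28084 q3165, e3 q3166 (flp_i L28087) q2946, e3 q3167 (flp_i L28099) q2948, e3 q3168 L28123 q3057, e3 q3169 L28135 q3169, e3 q3170 (flp_i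 L28136) q2952, e3 q3171 L28159 q2956, e3 q3172 (flp_i L28161) q2954, e3 q3173 (flp_i L29805) q3332, e3 q3174 L28191 q3174, e3 q3175 L28196 q3175, e3 q3176 L28208 q3176, e3 q3177 (flp_i L28209) q2961, e3 q3178 (flp_i L28221) q2963, e3 q3179 (flp_i L28231) q2965, e3 q3180 (flp_i L29855) q3337, e3 q3181 (flp_i L28246) q2967, e3 q3182 L28269 q2974, e3 q3183 L29889 q3341, e3 q3184 (flp_i L28287) q2969, e3 q3185 L28311 q2992, e3 q3186 (flp_i L28313) q2971, e3 q3187 L28336 q2986, e3 q3188 (flp_i L29887) q3340, e3 q3189 (flp_i L28344) q2975, e3 q3190 L28365 q3190, e3 q3191 L28370 q3191, e3 q3192 L29969 q3348, e3 q3193 (flp_i L28386) q2979, e3 q3194 L28397 q2995, e3 q3195 (flp_i L28399) q2982, e3 q3196 L28422 q3060, e3 q3197 L30009 q3352, e3 q3198 (flp_i L28440) q2984, e3 q3199 (flp_i L29927) q3343, trivial⟩ (by decide +kernel)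

theorem ce_i_50 : ∀ r, r < 64 → sm gi (Qf (3200 + r)) = Qf (tab Gen.i (3200 + r)) :=
  edges_tab (sm gi) Qf (tab Gen.i) 3200 [(3200, 2987), (3201, 3356), (3202, 2988), (3203, 3338), (3204, 3358), (3205, 2990), (3206, 3342), (3207, 2993), (3208, 3349), (3209, 3350), (3210, 2996), (3211, 3211), (3212, 3212), (3213, 3213), (3214, 3214), (3215, 3215), (3216, 3216), (3217, 3217), (3218, 3011), (3219, 3058), (3220, 3009), (3221, 3351), (3222, 3222), (3223, 3223), (3224, 3224), (3225, 3070), (3226, 3018), (3227, 3027), (3228, 3020), (3229, 3022), (3230, 3046), (3231, 3024), (3232, 3373), (3233, 3037), (3234, 3234), (3235, 3235), (3236, 3031), (3237, 3043), (3238, 3034), (3239, 3329), (3240, 3376), (3241, 3038), (3242, 3039), (3243, 3378), (3244, 3041), (3245, 3375), (3246, 3379), (3247, 3044), (3248, 3374), (3249, 3249), (3250, 3250), (3251, 3251), (3252, 3252), (3253, 3330), (3254, 3315), (3255, 3061), (3256, 3062), (3257, 3074), (3258, 3064), (3259, 3076),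 (3260, 3077), (3261, 3295), (3262, 3390), (3263, 3072)]
    ⟨e3 q3200 (flp_i L28454) q2987, e3 q3201 L30047 q3356, e3 q3202 (flp_i L28479) q2988, e3 q3203 (flp_i L29867) q3338, e3 q3204 L30068 q3358, e3 q3205 (flp_i L28507) q2990, e3 q3206 (flp_i L29915) q3342, e3 q3207 (flp_i L28522) q2993, e3 q3208 (flp_i L29990) q3349, e3 q3209 (flp_i L29994) q3350, e3 q3210 (flp_i L28542) q2996, e3 q3211 L28562 q3211, e3 q3212 L28567 q3212, e3 q3213 L28579 q3213, e3 q3214 L28584 q3214, e3 q3215 L28587 q3215, e3 q3216 L28598 q3216, e3 q3217 L28603 q3217, e3 q3218 L28618 q3011, e3 q3219 L28632 q3058, e3 q3220 (flp_i L28634) q3009, e3 q3221 (flp_i L30007) q3351, e3 q3222 L28664 q3222, e3 q3223 L28669 q3223, e3 q3224 L28681 q3224, e3 q3225 L28694 q3070, e3 q3226 (flp_i L28696) q3018, e3 q3227 L28719 q3027, e3 q3228 (flp_i L28721) q3020, e3 q3229 (flp_i L28731) q3022, e3 q3230 L28755 q3046, e3 q3231 (flp_i L28757) q3024, e3 q3232 (flp_i L30200) q3373, e3 q3233 L28786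 q3037, e3 q3234 L28797 q3234, e3 q3235 L28802 q3235, e3 q3236 (flp_i L28805) q3031, e3 q3237 L28816 q3043, e3 q3238 (flp_i L28818) q3034, e3 q3239 (flp_i L29770) q3329, e3 q3240 (flp_i L30236) q3376, e3 q3241 (flp_i L28839) q3038, e3 q3242 (flp_i L28849) q3039, e3 q3243 (flp_i L30252) q3378, e3 q3244 (flp_i L28864) q3041, e3 q3245 (flp_i L30224) q3375, e3 q3246 (flp_i L30256) q3379, e3 q3247 (flp_i L28881) q3044, e3 q3248 (flp_i L30212) q3374, e3 q3249 L28901 q3249, e3 q3250 L28911 q3250, e3 q3251 L28916 q3251, e3 q3252 L28919 q3252, e3 q3253 (flp_i L29782) q3330, e3 q3254 (flp_i L29627) q3315, e3 q3255 (flp_i L28931) q3061, e3 q3256 (flp_i L28939) q3062, e3 q3257 L28950 q3074, e3 q3258 (flp_i L28952) q3064, e3 q3259 L28965 q3076, e3 q3260 L28971 q3077, e3 q3261 (flp_i L29360) q3295, e3 q3262 (flp_i L30325) q3390, e3 q3263 (flp_i L28983) q3072, trivial⟩ (by decide +kernel)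

theorem ce_i_51 : ∀ r, r < 64 → sm gi (Qf (3264 + r)) = Qf (tab Gen.i (3264 + r)) :=
  edges_tab (sm gi) Qf (tab Gen.i) 3264 [(3264, 3391), (3265, 3392), (3266, 3393), (3267, 3267), (3268, 3268), (3269, 3269), (3270, 3270), (3271, 3271), (3272, 3272), (3273, 3273), (3274, 3274), (3275, 3275), (3276, 3276), (3277, 3277), (3278, 3278), (3279, 3279), (3280, 3280), (3281, 3281), (3282, 3282), (3283, 3283), (3284, 3104), (3285, 3105), (3286, 3110), (3287, 3107), (3288, 3405), (3289, 3406), (3290, 3290), (3291, 3291), (3292, 3113), (3293, 3115), (3294, 3116), (3295, 3261), (3296, 3296), (3297, 3121), (3298, 3123), (3299, 3124), (3300, 3132), (3301, 3126), (3302, 3416), (3303, 3417), (3304, 3130), (3305, 3418), (3306, 3306), (3307, 3307), (3308, 3308), (3309, 3145), (3310, 3138), (3311, 3148), (3312, 3140), (3313, 3151), (3314, 3143), (3315, 3254), (3316, 3146), (3317, 3424), (3318, 3425), (3319, 3149), (3320, 3426), (3321, 3427), (3322, 3322), (3323, 3323),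 (3324, 3324), (3325, 3325), (3326, 3326), (3327, 3327)]
    ⟨e3 q3264 (flp_i L30333) q3391, e3 q3265 (flp_i L30341) q3392, e3 q3266 (flp_i L30345) q3393, e3 q3267 L29015 q3267, e3 q3268 L29020 q3268, e3 q3269 L29025 q3269, e3 q3270 L29038 q3270, e3 q3271 L29051 q3271, e3 q3272 L29066 q3272, e3 q3273 L29072 q3273, e3 q3274 L29092 q3274, e3 q3275 L29105 q3275, e3 q3276 L29111 q3276, e3 q3277 L29120 q3277, e3 q3278 L29138 q3278, e3 q3279 L29153 q3279, e3 q3280 L29159 q3280, e3 q3281 L29176 q3281, e3 q3282 L29182 q3282, e3 q3283 L29191 q3283, e3 q3284 (flp_i L29194) q3104, e3 q3285 (flp_i L29209) q3105, e3 q3286 L29236 q3110, e3 q3287 (flp_i L29238) q3107, e3 q3288 (flp_i L30477) q3405, e3 q3289 (flp_i L30493) q3406, e3 q3290 L29287 q3290, e3 q3291 L29300 q3291, e3 q3292 (flp_i L29303) q3113, e3 q3293 (flp_i L29319) q3115, e3 q3294 (flp_i L29334) q3116, e3 q3295 L29360 q3261, e3 q3296 L29376 q3296, e3 q3297 (flp_i L29377) q3121, e3 q3298 (flp_i L29393)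 q3123, e3 q3299 (flp_i L29408) q3124, e3 q3300 L29433 q3132, e3 q3301 (flp_i L29435) q3126, e3 q3302 (flp_i L30644) q3416, e3 q3303 (flp_i L30660) q3417, e3 q3304 (flp_i L29477) q3130, e3 q3305 (flp_i L30676) q3418, e3 q3306 L29517 q3306, e3 q3307 L29524 q3307, e3 q3308 L29539 q3308, e3 q3309 L29554 q3145, e3 q3310 (flp_i L29556) q3138, e3 q3311 L29577 q3148, e3 q3312 (flp_i L29579) q3140, e3 q3313 L29600 q3151, e3 q3314 (flp_i L29602) q3143, e3 q3315 L29627 q3254, e3 q3316 (flp_i L29629) q3146, e3 q3317 (flp_i L30769) q3424, e3 q3318 (flp_i L30775) q3425, e3 q3319 (flp_i L29659) q3149, e3 q3320 (flp_i L30792) q3426, e3 q3321 (flp_i L30798) q3427, e3 q3322 L29703 q3322, e3 q3323 L29710 q3323, e3 q3324 L29717 q3324, e3 q3325 L29734 q3325, e3 q3326 L29741 q3326, e3 q3327 L29748 q3327, trivial⟩ (by decide +kernel)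

theorem ce_i_52 : ∀ r, r < 64 → sm gi (Qf (3328 + r)) = Qf (tab Gen.i (3328 + r)) :=
  edges_tab (sm gi) Qf (tab Gen.i) 3328 [(3328, 3328), (3329, 3239), (3330, 3253), (3331, 3331), (3332, 3173), (3333, 3413), (3334, 3440), (3335, 3335), (3336, 3336), (3337, 3180), (3338, 3203), (3339, 3414), (3340, 3188), (3341, 3183), (3342, 3206), (3343, 3199), (3344, 3444), (3345, 3345), (3346, 3346), (3347, 3347), (3348, 3192), (3349, 3208), (3350, 3209), (3351, 3221), (3352, 3197), (3353, 3407), (3354, 3447), (3355, 3412), (3356, 3201), (3357, 3429), (3358, 3204), (3359, 3445), (3360, 3446), (3361, 3449), (3362, 3450), (3363, 3451), (3364, 3364), (3365, 3365), (3366, 3366), (3367, 3367), (3368, 3368), (3369, 3369), (3370, 3428), (3371, 3452), (3372, 3372), (3373, 3232), (3374, 3248), (3375, 3245), (3376, 3240), (3377, 3466), (3378, 3243), (3379, 3246), (3380, 3421), (3381, 3467), (3382, 3456), (3383, 3453), (3384, 3468), (3385, 3432), (3386, 3442), (3387, 3460),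 (3388, 3419), (3389, 3439), (3390, 3262), (3391, 3264)]
    ⟨e3 q3328 L29756 q3328, e3 q3329 L29770 q3239, e3 q3330 L29782 q3253, e3 q3331 L29790 q3331, e3 q3332 L29805 q3173, e3 q3333 (flp_i L30595) q3413, e3 q3334 (flp_i L30961) q3440, e3 q3335 L29831 q3335, e3 q3336 L29840 q3336, e3 q3337 L29855 q3180, e3 q3338 L29867 q3203, e3 q3339 (flp_i L30611) q3414, e3 q3340 L29887 q3188, e3 q3341 (flp_i L29889) q3183, e3 q3342 L29915 q3206, e3 q3343 L29927 q3199, e3 q3344 (flp_i L31001) q3444, e3 q3345 L29947 q3345, e3 q3346 L29954 q3346, e3 q3347 L29967 q3347, e3 q3348 (flp_i L29969) q3192, e3 q3349 L29990 q3208, e3 q3350 L29994 q3209, e3 q3351 L30007 q3221, e3 q3352 (flp_i L30009) q3197, e3 q3353 (flp_i L30509) q3407, e3 q3354 (flp_i L31042) q3447, e3 q3355 (flp_i L30579) q3412, e3 q3356 (flp_i L30047) q3201, e3 q3357 (flp_i L30831) q3429, e3 q3358 (flp_i L30068) q3204, e3 q3359 (flp_i L31020) q3445, e3 q3360 (flp_i L31028) q3446, e3 q3361 (flp_i L31071)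 q3449, e3 q3362 (flp_i L31077) q3450, e3 q3363 (flp_i L31085) q3451, e3 q3364 L30124 q3364, e3 q3365 L30131 q3365, e3 q3366 L30140 q3366, e3 q3367 L30148 q3367, e3 q3368 L30157 q3368, e3 q3369 L30163 q3369, e3 q3370 (flp_i L30815) q3428, e3 q3371 (flp_i L31095) q3452, e3 q3372 L30189 q3372, e3 q3373 L30200 q3232, e3 q3374 L30212 q3248, e3 q3375 L30224 q3245, e3 q3376 L30236 q3240, e3 q3377 (flp_i L31241) q3466, e3 q3378 L30252 q3243, e3 q3379 L30256 q3246, e3 q3380 (flp_i L30726) q3421, e3 q3381 (flp_i L31252) q3467, e3 q3382 (flp_i L31150) q3456, e3 q3383 (flp_i L31116) q3453, e3 q3384 (flp_i L31261) q3468, e3 q3385 (flp_i L30865) q3432, e3 q3386 (flp_i L30986) q3442, e3 q3387 (flp_i L31183) q3460, e3 q3388 (flp_i L30694) q3419, e3 q3389 (flp_i L30947) q3439, e3 q3390 L30325 q3262, e3 q3391 L30333 q3264, trivial⟩ (by decide +kernel)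

theorem ce_i_53 : ∀ r, r < 64 → sm gi (Qf (3392 + r)) = Qf (tab Gen.i (3392 + r)) :=
  edges_tab (sm gi) Qf (tab Gen.i) 3392 [(3392, 3265), (3393, 3266), (3394, 3458), (3395, 3472), (3396, 3473), (3397, 3397), (3398, 3398), (3399, 3399), (3400, 3400), (3401, 3401), (3402, 3402), (3403, 3403), (3404, 3404), (3405, 3288), (3406, 3289), (3407, 3353), (3408, 3476), (3409, 3477), (3410, 3410), (3411, 3411), (3412, 3355), (3413, 3333), (3414, 3339), (3415, 3415), (3416, 3302), (3417, 3303), (3418, 3305), (3419, 3388), (3420, 3484), (3421, 3380), (3422, 3485), (3423, 3423), (3424, 3317), (3425, 3318), (3426, 3320), (3427, 3321), (3428, 3370), (3429, 3357), (3430, 3487), (3431, 3488), (3432, 3385), (3433, 3489), (3434, 3490), (3435, 3435), (3436, 3436), (3437, 3437), (3438, 3438), (3439, 3389), (3440, 3334), (3441, 3482), (3442, 3386), (3443, 3483), (3444, 3344), (3445, 3359), (3446, 3360), (3447, 3354), (3448, 3496), (3449, 3361), (3450, 3362), (3451, 3363),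 (3452, 3371), (3453, 3383), (3454, 3478), (3455, 3497)]
    ⟨e3 q3392 L30341 q3265, e3 q3393 L30345 q3266, e3 q3394 (flp_i L31171) q3458, e3 q3395 (flp_i L31283) q3472, e3 q3396 (flp_i L31290) q3473, e3 q3397 L30372 q3397, e3 q3398 L30377 q3398, e3 q3399 L30387 q3399, e3 q3400 L30399 q3400, e3 q3401 L30413 q3401, e3 q3402 L30427 q3402, e3 q3403 L30442 q3403, e3 q3404 L30459 q3404, e3 q3405 L30477 q3288, e3 q3406 L30493 q3289, e3 q3407 L30509 q3353, e3 q3408 (flp_i L31317) q3476, e3 q3409 (flp_i L31332) q3477, e3 q3410 L30549 q3410, e3 q3411 L30561 q3411, e3 q3412 L30579 q3355, e3 q3413 L30595 q3333, e3 q3414 L30611 q3339, e3 q3415 L30623 q3415, e3 q3416 L30644 q3302, e3 q3417 L30660 q3303, e3 q3418 L30676 q3305, e3 q3419 L30694 q3388, e3 q3420 (flp_i L31433) q3484, e3 q3421 L30726 q3380, e3 q3422 (flp_i L31450) q3485, e3 q3423 L30750 q3423, e3 q3424 L30769 q3317, e3 q3425 L30775 q3318, e3 q3426 L30792 q3320, e3 q3427 L30798 q3321, e3 q3428 L30815 q3370,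 e3 q3429 L30831 q3357, e3 q3430 (flp_i L31485) q3487, e3 q3431 (flp_i L31501) q3488, e3 q3432 L30865 q3385, e3 q3433 (flp_i L31517) q3489, e3 q3434 (flp_i L31533) q3490, e3 q3435 L30895 q3435, e3 q3436 L30910 q3436, e3 q3437 L30923 q3437, e3 q3438 L30936 q3438, e3 q3439 L30947 q3389, e3 q3440 L30961 q3334, e3 q3441 (flp_i L31398) q3482, e3 q3442 L30986 q3386, e3 q3443 (flp_i L31415) q3483, e3 q3444 L31001 q3344, e3 q3445 L31020 q3359, e3 q3446 L31028 q3360, e3 q3447 L31042 q3354, e3 q3448 (flp_i L31633) q3496, e3 q3449 L31071 q3361, e3 q3450 L31077 q3362, e3 q3451 L31085 q3363, e3 q3452 L31095 q3371, e3 q3453 L31116 q3383, e3 q3454 (flp_i L31347) q3478, e3 q3455 (flp_i L31646) q3497, trivial⟩ (by decide +kernel)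

theorem ce_i_54 : ∀ r, r < 54 → sm gi (Qf (3456 + r)) = Qf (tab Gen.i (3456 + r)) :=
  edges_tab (sm gi) Qf (tab Gen.i) 3456 [(3456, 3382), (3457, 3492), (3458, 3394), (3459, 3495), (3460, 3387), (3461, 3498), (3462, 3499), (3463, 3463), (3464, 3464), (3465, 3491), (3466, 3377), (3467, 3381), (3468, 3384), (3469, 3486), (3470, 3494), (3471, 3493), (3472, 3395), (3473, 3396), (3474, 3502), (3475, 3504), (3476, 3408), (3477, 3409), (3478, 3454), (3479, 3505), (3480, 3506), (3481, 3481), (3482, 3441), (3483, 3443), (3484, 3420), (3485, 3422), (3486, 3469), (3487, 3430), (3488, 3431), (3489, 3433), (3490, 3434), (3491, 3465), (3492, 3457), (3493, 3471), (3494, 3470), (3495, 3459), (3496, 3448), (3497, 3455), (3498, 3461), (3499, 3462), (3500, 3507), (3501, 3508), (3502, 3474), (3503, 3509), (3504, 3475), (3505, 3479), (3506, 3480), (3507, 3500), (3508, 3501), (3509, 3503)]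
    ⟨e3 q3456 L31150 q3382, e3 q3457 (flp_i L31566) q3492, e3 q3458 L31171 q3394, e3 q3459 (flp_i L31618) q3495, e3 q3460 L31183 q3387, e3 q3461 (flp_i L31657) q3498, e3 q3462 (flp_i L31672) q3499, e3 q3463 L31209 q3463, e3 q3464 L31223 q3464, e3 q3465 (flp_i L31549) q3491, e3 q3466 L31241 q3377, e3 q3467 L31252 q3381, e3 q3468 L31261 q3384, e3 q3469 (flp_i L31467) q3486, e3 q3470 (flp_i L31602) q3494, e3 q3471 (flp_i L31586) q3493, e3 q3472 L31283 q3395, e3 q3473 L31290 q3396, e3 q3474 (flp_i L31710) q3502, e3 q3475 (flp_i L31725) q3504, e3 q3476 L31317 q3408, e3 q3477 L31332 q3409, e3 q3478 L31347 q3454, e3 q3479 (flp_i L31738) q3505, e3 q3480 (flp_i L31755) q3506, e3 q3481 L31383 q3481, e3 q3482 L31398 q3441, e3 q3483 L31415 q3443, e3 q3484 L31433 q3420, e3 q3485 L31450 q3422, e3 q3486 L31467 q3469, e3 q3487 L31485 q3430, e3 q3488 L31501 q3431, e3 q3489 L31517 q3433, e3 q3490 L31533 q3434, e3 q3491 L31549 q3465, e3 q3492 L31566 q3457, e3 q3493 L31586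 q3471, e3 q3494 L31602 q3470, e3 q3495 L31618 q3459, e3 q3496 L31633 q3448, e3 q3497 L31646 q3455, e3 q3498 L31657 q3461, e3 q3499 L31672 q3462, e3 q3500 (flp_i L31770) q3507, e3 q3501 (flp_i L31789) q3508, e3 q3502 L31710 q3474, e3 q3503 (flp_i L31807) q3509, e3 q3504 L31725 q3475, e3 q3505 L31738 q3479, e3 q3506 L31755 q3480, e3 q3507 L31770 q3500, e3 q3508 L31789 q3501, e3 q3509 L31807 q3503, trivial⟩ (by decide +kernel)

theorem cl_i : ∀ i, i < 3510 → sm gi (Qf i) = Qf (tab Gen.i i) :=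
  all_of_chunks (fun i => sm gi (Qf i) = Qf (tab Gen.i i)) 54 54
    ⟨ce_i_0, ce_i_1, ce_i_2, ce_i_3, ce_i_4, ce_i_5, ce_i_6, ce_i_7, ce_i_8, ce_i_9, ce_i_10, ce_i_11, ce_i_12, ce_i_13, ce_i_14, ce_i_15, ce_i_16, ce_i_17, ce_i_18, ce_i_19, ce_i_20, ce_i_21, ce_i_22, ce_i_23, ce_i_24, ce_i_25, ce_i_26, ce_i_27, ce_i_28, ce_i_29, ce_i_30, ce_i_31, ce_i_32, ce_i_33, ce_i_34, ce_i_35, ce_i_36, ce_i_37, ce_i_38, ce_i_39, ce_i_40, ce_i_41, ce_i_42, ce_i_43, ce_i_44, ce_i_45, ce_i_46, ce_i_47, ce_i_48, ce_i_49, ce_i_50, ce_i_51, ce_i_52, ce_i_53, trivial⟩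
    ce_i_54


end Cfsg.Agent.Helper28.FiaA
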