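import Cfsg.Agent.Helper28.CosetTable
import Cfsg.Prelude.Def_Spor_Fi22

/-!
# The Fi₂₂ presentation, cosets of the subgroup generated by b, …, i: relators as statements about cosets (helper28)

Generated. The generators act on the cosets of the subgroup; every relator, read at a coset, is a closed
path, and the lemmas here turn "all edges of the path but one are known" into the last edge, and "all
edges are known" into an equality of cosets.
-/

set_option autoImplicit false
set_option maxRecDepth 100000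
set_option linter.unusedSimpArgs false

noncomputable section

namespace Cfsg.Agent.Helper28.FibA

open Cfsg.Spor Cfsg.Spor.Fi22 Cfsg.Agent.Helper28.CosetTable

/-- The relators. -/
abbrev rels : Set (FreeGroup Gen) := coxRelators edges ∪ {r | r ∈ extra}

/-- The presented group. -/
abbrev Grp : Type := PresentedGroup rels

/-- The image of a generator. -/
def gen (x : Gen) : Grp := PresentedGroup.of x

theorem mk_of (x : Gen) : PresentedGroup.mk rels (FreeGroup.of x) = gen x := rfl

/-- The subgroup. -/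
def H : Subgroup Grp := (Subgroup.closure ({b, c, d, e, f, g, h, i} : Set (FreeGroup Gen))).map (PresentedGroup.mk rels)

/-- The cosets. -/
abbrev Q : Type := Grp ⧸ H

theorem nodes (x : Gen) : x ∈ coxNodes edges := by cases x <;> decide

theorem cox (x y : Gen) : (gen x * gen y) ^ coxLabel edges x y = 1 := by
  have h := PresentedGroup.one_of_mem (rels := rels) (x := (FreeGroup.of x * FreeGroup.of y) ^ coxLabel edges x y)
    (Or.inl ⟨x, nodes x, y, nodes y, rfl⟩)
  rw [map_pow, map_mul] at h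
  exact h

theorem sq (x : Gen) : gen x * gen x = 1 := by
  have h := cox x x
  have e : coxLabel edges x x = 1 := by simp [coxLabel]
  rw [e, pow_one] at h
  exact h

theorem inv_gen (x : Gen) : (gen x)⁻¹ = gen x := inv_eq_of_mul_eq_one_left (sq x)

theorem extra_one (r : FreeGroup Gen) (hr : r ∈ extra) : PresentedGroup.mk rels r = 1 :=
  PresentedGroup.one_of_mem (Or.inr hr)

/-- The coset of the identity. -/
def N0 : Q := ((1 : Grp) : Q)

theorem smul_N0 (h : Grp) (hh : h ∈ H) : h • N0 = N0 := by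
  show ((h * 1 : Grp) : Q) = ((1 : Grp) : Q)
  rw [QuotientGroup.eq]
  simpa using H.inv_mem hh

/-- The action on cosets, as a plain function. -/
def sm (g : Grp) (q : Q) : Q := g • q

theorem sm_def (g : Grp) (q : Q) : sm g q = g • q := rfl

theorem trfs {g : Grp} {x y x' y' : Q} (hx : x = x') (h : sm g x = y) (hy : y = y') : sm g x' = y' := by
  subst hx; subst hy; exact h

theorem eqes {g : Grp} {x y z : Q} (h1 : sm g x = y) (h2 : sm g x = z) : y = z := h1.symm.trans h2

/-- The generator a. -/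
abbrev ga : Grp := gen Gen.a
/-- The generator b. -/
abbrev gb : Grp := gen Gen.b
/-- The generator c. -/
abbrev gc : Grp := gen Gen.c
/-- The generator d. -/
abbrev gd : Grp := gen Gen.d
/-- The generator e. -/
abbrev ge : Grp := gen Gen.e
/-- The generator f. -/
abbrev gf : Grp := gen Gen.f
/-- The generator g. -/
abbrev gg : Grp := gen Gen.g
/-- The generator h. -/
abbrev gh : Grp := gen Gen.h
/-- The generator i. -/
abbrev gi : Grp := gen Gen.i

theorem flp_a {x y : Q} (h : sm ga x = y) : sm ga y = x := flp (sq Gen.a) h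
theorem flp_b {x y : Q} (h : sm gb x = y) : sm gb y = x := flp (sq Gen.b) h
theorem flp_c {x y : Q} (h : sm gc x = y) : sm gc y = x := flp (sq Gen.c) h
theorem flp_d {x y : Q} (h : sm gd x = y) : sm gd y = x := flp (sq Gen.d) h
theorem flp_e {x y : Q} (h : sm ge x = y) : sm ge y = x := flp (sq Gen.e) h
theorem flp_f {x y : Q} (h : sm gf x = y) : sm gf y = x := flp (sq Gen.f) h
theorem flp_g {x y : Q} (h : sm gg x = y) : sm gg y = x := flp (sq Gen.g) h
theorem flp_h {x y : Q} (h : sm gh x = y) : sm gh y = x := flp (sq Gen.h) h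
theorem flp_i {x y : Q} (h : sm gi x = y) : sm gi y = x := flp (sq Gen.i) h

theorem relG_9 : ga * gb * ga * gb * ga * gb = 1 := by
  have h := cox Gen.a Gen.b
  have e : coxLabel edges Gen.a Gen.b = 3 := by decide
  rw [e] at h
  simp only [pow_succ, pow_zero, one_mul, ← mul_assoc] at h
  exact h

theorem rel_9 (q : Q) : ga • gb • ga • gb • ga • gb • q = q := by
  have h := congrArg (· • q) relG_9
  simp only [mul_smul, one_smul] at h
  exact h

theorem relG_10 : ga * gc * ga * gc = 1 := by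
  have h := cox Gen.a Gen.c
  have e : coxLabel edges Gen.a Gen.c = 2 := by decide
  rw [e] at h
  simp only [pow_succ, pow_zero, one_mul, ← mul_assoc] at h
  exact h

theorem rel_10 (q : Q) : ga • gc • ga • gc • q = q := by
  have h := congrArg (· • q) relG_10
  simp only [mul_smul, one_smul] at h
  exact h

theorem relG_11 : ga * gd * ga * gd = 1 := by
  have h := cox Gen.a Gen.d
  have e : coxLabel edges Gen.a Gen.d = 2 := by decide
  rw [e] at h
  simp only [pow_succ, pow_zero, one_mul, ← mul_assoc] at h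
  exact h

theorem rel_11 (q : Q) : ga • gd • ga • gd • q = q := by
  have h := congrArg (· • q) relG_11
  simp only [mul_smul, one_smul] at h
  exact h

theorem relG_12 : ga * ge * ga * ge = 1 := by
  have h := cox Gen.a Gen.e
  have e : coxLabel edges Gen.a Gen.e = 2 := by decide
  rw [e] at h
  simp only [pow_succ, pow_zero, one_mul, ← mul_assoc] at h
  exact h

theorem rel_12 (q : Q) : ga • ge • ga • ge • q = q := by
  have h := congrArg (· • q) relG_12
  simp only [mul_smul, one_smul] at h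
  exact h

theorem relG_13 : ga * gf * ga * gf = 1 := by
  have h := cox Gen.a Gen.f
  have e : coxLabel edges Gen.a Gen.f = 2 := by decide
  rw [e] at h
  simp only [pow_succ, pow_zero, one_mul, ← mul_assoc] at h
  exact h

theorem rel_13 (q : Q) : ga • gf • ga • gf • q = q := by
  have h := congrArg (· • q) relG_13
  simp only [mul_smul, one_smul] at h
  exact h

theorem relG_14 : ga * gg * ga * gg = 1 := by
  have h := cox Gen.a Gen.g
  have e : coxLabel edges Gen.a Gen.g = 2 := by decide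
  rw [e] at h
  simp only [pow_succ, pow_zero, one_mul, ← mul_assoc] at h
  exact h

theorem rel_14 (q : Q) : ga • gg • ga • gg • q = q := by
  have h := congrArg (· • q) relG_14
  simp only [mul_smul, one_smul] at h
  exact h

theorem relG_15 : ga * gh * ga * gh = 1 := by
  have h := cox Gen.a Gen.h
  have e : coxLabel edges Gen.a Gen.h = 2 := by decide
  rw [e] at h
  simp only [pow_succ, pow_zero, one_mul, ← mul_assoc] at h
  exact h

theorem rel_15 (q : Q) : ga • gh • ga • gh • q = q := by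
  have h := congrArg (· • q) relG_15
  simp only [mul_smul, one_smul] at h
  exact h

theorem relG_16 : ga * gi * ga * gi = 1 := by
  have h := cox Gen.a Gen.i
  have e : coxLabel edges Gen.a Gen.i = 2 := by decide
  rw [e] at h
  simp only [pow_succ, pow_zero, one_mul, ← mul_assoc] at h
  exact h

theorem rel_16 (q : Q) : ga • gi • ga • gi • q = q := by
  have h := congrArg (· • q) relG_16
  simp only [mul_smul, one_smul] at h
  exact h

theorem relG_17 : gb * gc * gb * gc * gb * gc = 1 := by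
  have h := cox Gen.b Gen.c
  have e : coxLabel edges Gen.b Gen.c = 3 := by decide
  rw [e] at h
  simp only [pow_succ, pow_zero, one_mul, ← mul_assoc] at h
  exact h

theorem rel_17 (q : Q) : gb • gc • gb • gc • gb • gc • q = q := by
  have h := congrArg (· • q) relG_17
  simp only [mul_smul, one_smul] at h
  exact h

theorem relG_18 : gb * gd * gb * gd = 1 := by
  have h := cox Gen.b Gen.d
  have e : coxLabel edges Gen.b Gen.d = 2 := by decide
  rw [e] at h
  simp only [pow_succ, pow_zero, one_mul, ← mul_assoc] at h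
  exact h

theorem rel_18 (q : Q) : gb • gd • gb • gd • q = q := by
  have h := congrArg (· • q) relG_18
  simp only [mul_smul, one_smul] at h
  exact h

theorem relG_19 : gb * ge * gb * ge = 1 := by
  have h := cox Gen.b Gen.e
  have e : coxLabel edges Gen.b Gen.e = 2 := by decide
  rw [e] at h
  simp only [pow_succ, pow_zero, one_mul, ← mul_assoc] at h
  exact h

theorem rel_19 (q : Q) : gb • ge • gb • ge • q = q := by
  have h := congrArg (· • q) relG_19
  simp only [mul_smul, one_smul] at h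
  exact h

theorem relG_20 : gb * gf * gb * gf = 1 := by
  have h := cox Gen.b Gen.f
  have e : coxLabel edges Gen.b Gen.f = 2 := by decide
  rw [e] at h
  simp only [pow_succ, pow_zero, one_mul, ← mul_assoc] at h
  exact h

theorem rel_20 (q : Q) : gb • gf • gb • gf • q = q := by
  have h := congrArg (· • q) relG_20
  simp only [mul_smul, one_smul] at h
  exact h

theorem relG_21 : gb * gg * gb * gg = 1 := by
  have h := cox Gen.b Gen.g
  have e : coxLabel edges Gen.b Gen.g = 2 := by decide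
  rw [e] at h
  simp only [pow_succ, pow_zero, one_mul, ← mul_assoc] at h
  exact h

theorem rel_21 (q : Q) : gb • gg • gb • gg • q = q := by
  have h := congrArg (· • q) relG_21
  simp only [mul_smul, one_smul] at h
  exact h

theorem relG_22 : gb * gh * gb * gh = 1 := by
  have h := cox Gen.b Gen.h
  have e : coxLabel edges Gen.b Gen.h = 2 := by decide
  rw [e] at h
  simp only [pow_succ, pow_zero, one_mul, ← mul_assoc] at h
  exact h

theorem rel_22 (q : Q) : gb • gh • gb • gh • q = q := by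
  have h := congrArg (· • q) relG_22
  simp only [mul_smul, one_smul] at h
  exact h

theorem relG_23 : gb * gi * gb * gi = 1 := by
  have h := cox Gen.b Gen.i
  have e : coxLabel edges Gen.b Gen.i = 2 := by decide
  rw [e] at h
  simp only [pow_succ, pow_zero, one_mul, ← mul_assoc] at h
  exact h

theorem rel_23 (q : Q) : gb • gi • gb • gi • q = q := by
  have h := congrArg (· • q) relG_23
  simp only [mul_smul, one_smul] at h
  exact h

theorem relG_24 : gc * gd * gc * gd * gc * gd = 1 := by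
  have h := cox Gen.c Gen.d
  have e : coxLabel edges Gen.c Gen.d = 3 := by decide
  rw [e] at h
  simp only [pow_succ, pow_zero, one_mul, ← mul_assoc] at h
  exact h

theorem rel_24 (q : Q) : gc • gd • gc • gd • gc • gd • q = q := by
  have h := congrArg (· • q) relG_24
  simp only [mul_smul, one_smul] at h
  exact h

theorem relG_25 : gc * ge * gc * ge = 1 := by
  have h := cox Gen.c Gen.e
  have e : coxLabel edges Gen.c Gen.e = 2 := by decide
  rw [e] at h
  simp only [pow_succ, pow_zero, one_mul, ← mul_assoc] at h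
  exact h

theorem rel_25 (q : Q) : gc • ge • gc • ge • q = q := by
  have h := congrArg (· • q) relG_25
  simp only [mul_smul, one_smul] at h
  exact h

theorem relG_26 : gc * gf * gc * gf = 1 := by
  have h := cox Gen.c Gen.f
  have e : coxLabel edges Gen.c Gen.f = 2 := by decide
  rw [e] at h
  simp only [pow_succ, pow_zero, one_mul, ← mul_assoc] at h
  exact h

theorem rel_26 (q : Q) : gc • gf • gc • gf • q = q := by
  have h := congrArg (· • q) relG_26
  simp only [mul_smul, one_smul] at h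
  exact h

theorem relG_27 : gc * gg * gc * gg = 1 := by
  have h := cox Gen.c Gen.g
  have e : coxLabel edges Gen.c Gen.g = 2 := by decide
  rw [e] at h
  simp only [pow_succ, pow_zero, one_mul, ← mul_assoc] at h
  exact h

theorem rel_27 (q : Q) : gc • gg • gc • gg • q = q := by
  have h := congrArg (· • q) relG_27
  simp only [mul_smul, one_smul] at h
  exact h

theorem relG_28 : gc * gh * gc * gh = 1 := by
  have h := cox Gen.c Gen.h
  have e : coxLabel edges Gen.c Gen.h = 2 := by decide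
  rw [e] at h
  simp only [pow_succ, pow_zero, one_mul, ← mul_assoc] at h
  exact h

theorem rel_28 (q : Q) : gc • gh • gc • gh • q = q := by
  have h := congrArg (· • q) relG_28
  simp only [mul_smul, one_smul] at h
  exact h

theorem relG_29 : gc * gi * gc * gi = 1 := by
  have h := cox Gen.c Gen.i
  have e : coxLabel edges Gen.c Gen.i = 2 := by decide
  rw [e] at h
  simp only [pow_succ, pow_zero, one_mul, ← mul_assoc] at h
  exact h

theorem rel_29 (q : Q) : gc • gi • gc • gi • q = q := by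
  have h := congrArg (· • q) relG_29
  simp only [mul_smul, one_smul] at h
  exact h

theorem relG_30 : gd * ge * gd * ge * gd * ge = 1 := by
  have h := cox Gen.d Gen.e
  have e : coxLabel edges Gen.d Gen.e = 3 := by decide
  rw [e] at h
  simp only [pow_succ, pow_zero, one_mul, ← mul_assoc] at h
  exact h

theorem rel_30 (q : Q) : gd • ge • gd • ge • gd • ge • q = q := by
  have h := congrArg (· • q) relG_30
  simp only [mul_smul, one_smul] at h
  exact h

theorem relG_31 : gd * gf * gd * gf = 1 := by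
  have h := cox Gen.d Gen.f
  have e : coxLabel edges Gen.d Gen.f = 2 := by decide
  rw [e] at h
  simp only [pow_succ, pow_zero, one_mul, ← mul_assoc] at h
  exact h

theorem rel_31 (q : Q) : gd • gf • gd • gf • q = q := by
  have h := congrArg (· • q) relG_31
  simp only [mul_smul, one_smul] at h
  exact h

theorem relG_32 : gd * gg * gd * gg = 1 := by
  have h := cox Gen.d Gen.g
  have e : coxLabel edges Gen.d Gen.g = 2 := by decide
  rw [e] at h
  simp only [pow_succ, pow_zero, one_mul, ← mul_assoc] at h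
  exact h

theorem rel_32 (q : Q) : gd • gg • gd • gg • q = q := by
  have h := congrArg (· • q) relG_32
  simp only [mul_smul, one_smul] at h
  exact h

theorem relG_33 : gd * gh * gd * gh * gd * gh = 1 := by
  have h := cox Gen.d Gen.h
  have e : coxLabel edges Gen.d Gen.h = 3 := by decide
  rw [e] at h
  simp only [pow_succ, pow_zero, one_mul, ← mul_assoc] at h
  exact h

theorem rel_33 (q : Q) : gd • gh • gd • gh • gd • gh • q = q := by
  have h := congrArg (· • q) relG_33
  simp only [mul_smul, one_smul] at h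
  exact h

theorem relG_34 : gd * gi * gd * gi = 1 := by
  have h := cox Gen.d Gen.i
  have e : coxLabel edges Gen.d Gen.i = 2 := by decide
  rw [e] at h
  simp only [pow_succ, pow_zero, one_mul, ← mul_assoc] at h
  exact h

theorem rel_34 (q : Q) : gd • gi • gd • gi • q = q := by
  have h := congrArg (· • q) relG_34
  simp only [mul_smul, one_smul] at h
  exact h

theorem relG_35 : ge * gf * ge * gf * ge * gf = 1 := by
  have h := cox Gen.e Gen.f
  have e : coxLabel edges Gen.e Gen.f = 3 := by decide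
  rw [e] at h
  simp only [pow_succ, pow_zero, one_mul, ← mul_assoc] at h
  exact h

theorem rel_35 (q : Q) : ge • gf • ge • gf • ge • gf • q = q := by
  have h := congrArg (· • q) relG_35
  simp only [mul_smul, one_smul] at h
  exact h

theorem relG_36 : ge * gg * ge * gg = 1 := by
  have h := cox Gen.e Gen.g
  have e : coxLabel edges Gen.e Gen.g = 2 := by decide
  rw [e] at h
  simp only [pow_succ, pow_zero, one_mul, ← mul_assoc] at h
  exact h

theorem rel_36 (q : Q) : ge • gg • ge • gg • q = q := by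
  have h := congrArg (· • q) relG_36
  simp only [mul_smul, one_smul] at h
  exact h

theorem relG_37 : ge * gh * ge * gh = 1 := by
  have h := cox Gen.e Gen.h
  have e : coxLabel edges Gen.e Gen.h = 2 := by decide
  rw [e] at h
  simp only [pow_succ, pow_zero, one_mul, ← mul_assoc] at h
  exact h

theorem rel_37 (q : Q) : ge • gh • ge • gh • q = q := by
  have h := congrArg (· • q) relG_37
  simp only [mul_smul, one_smul] at h
  exact h

theorem relG_38 : ge * gi * ge * gi = 1 := by
  have h := cox Gen.e Gen.i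
  have e : coxLabel edges Gen.e Gen.i = 2 := by decide
  rw [e] at h
  simp only [pow_succ, pow_zero, one_mul, ← mul_assoc] at h
  exact h

theorem rel_38 (q : Q) : ge • gi • ge • gi • q = q := by
  have h := congrArg (· • q) relG_38
  simp only [mul_smul, one_smul] at h
  exact h

theorem relG_39 : gf * gg * gf * gg * gf * gg = 1 := by
  have h := cox Gen.f Gen.g
  have e : coxLabel edges Gen.f Gen.g = 3 := by decide
  rw [e] at h
  simp only [pow_succ, pow_zero, one_mul, ← mul_assoc] at h
  exact h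

theorem rel_39 (q : Q) : gf • gg • gf • gg • gf • gg • q = q := by
  have h := congrArg (· • q) relG_39
  simp only [mul_smul, one_smul] at h
  exact h

theorem relG_40 : gf * gh * gf * gh = 1 := by
  have h := cox Gen.f Gen.h
  have e : coxLabel edges Gen.f Gen.h = 2 := by decide
  rw [e] at h
  simp only [pow_succ, pow_zero, one_mul, ← mul_assoc] at h
  exact h

theorem rel_40 (q : Q) : gf • gh • gf • gh • q = q := by
  have h := congrArg (· • q) relG_40
  simp only [mul_smul, one_smul] at h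
  exact h

theorem relG_41 : gf * gi * gf * gi = 1 := by
  have h := cox Gen.f Gen.i
  have e : coxLabel edges Gen.f Gen.i = 2 := by decide
  rw [e] at h
  simp only [pow_succ, pow_zero, one_mul, ← mul_assoc] at h
  exact h

theorem rel_41 (q : Q) : gf • gi • gf • gi • q = q := by
  have h := congrArg (· • q) relG_41
  simp only [mul_smul, one_smul] at h
  exact h

theorem relG_42 : gg * gh * gg * gh = 1 := by
  have h := cox Gen.g Gen.h
  have e : coxLabel edges Gen.g Gen.h = 2 := by decide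
  rw [e] at h
  simp only [pow_succ, pow_zero, one_mul, ← mul_assoc] at h
  exact h

theorem rel_42 (q : Q) : gg • gh • gg • gh • q = q := by
  have h := congrArg (· • q) relG_42
  simp only [mul_smul, one_smul] at h
  exact h

theorem relG_43 : gg * gi * gg * gi = 1 := by
  have h := cox Gen.g Gen.i
  have e : coxLabel edges Gen.g Gen.i = 2 := by decide
  rw [e] at h
  simp only [pow_succ, pow_zero, one_mul, ← mul_assoc] at h
  exact h

theorem rel_43 (q : Q) : gg • gi • gg • gi • q = q := by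
  have h := congrArg (· • q) relG_43
  simp only [mul_smul, one_smul] at h
  exact h

theorem relG_44 : gh * gi * gh * gi * gh * gi = 1 := by
  have h := cox Gen.h Gen.i
  have e : coxLabel edges Gen.h Gen.i = 3 := by decide
  rw [e] at h
  simp only [pow_succ, pow_zero, one_mul, ← mul_assoc] at h
  exact h

theorem rel_44 (q : Q) : gh • gi • gh • gi • gh • gi • q = q := by
  have h := congrArg (· • q) relG_44
  simp only [mul_smul, one_smul] at h
  exact h

theorem relG_45 : gd * gc * gb * gd * ge * gf * gd * gh * gi * gd * gc * gb * gd * ge * gf * gd * gh * gi * gd * gc * gb * gd * ge * gf * gd * gh * gi * gd * gc * gb * gd * ge * gf * gd * gh * gi * gd * gc * gb * gd * ge * gf * gd * gh * gi * gd * gc * gb * gd * ge * gf * gd * gh * gi * gd * gc * gb * gd * ge * gf * gd * gh * gi * gd * gc * gb * gd * ge * gf * gd * gh * gi * gd * gc * gb * gd * ge * gf * gd * gh * gi * gd * gc * gb * gd * ge * gf * gd * gh * gi = 1 := by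
  have h := extra_one ((d * c * b * d * e * f * d * h * i) ^ 10) (by simp [extra])
  simp only [map_mul, map_pow, map_inv, mk_of, pow_succ, pow_zero, one_mul, mul_inv_rev, inv_gen, ← mul_assoc] at h
  exact h

theorem rel_45 (q : Q) : gd • gc • gb • gd • ge • gf • gd • gh • gi • gd • gc • gb • gd • ge • gf • gd • gh • gi • gd • gc • gb • gd • ge • gf • gd • gh • gi • gd • gc • gb • gd • ge • gf • gd • gh • gi • gd • gc • gb • gd • ge • gf • gd • gh • gi • gd • gc • gb • gd • ge • gf • gd • gh • gi • gd • gc • gb • gd • ge • gf • gd • gh • gi • gd • gc • gb • gd • ge • gf • gd • gh • gi • gd • gc • gb • gd • ge • gf • gd • gh • gi • gd • gc • gb • gd • ge • gf • gd • gh • gi • q = q := by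
  have h := congrArg (· • q) relG_45
  simp only [mul_smul, one_smul] at h
  exact h

theorem relG_46 : ga * gb * gc * gd * ge * gf * gh * ga * gb * gc * gd * ge * gf * gh * ga * gb * gc * gd * ge * gf * gh * ga * gb * gc * gd * ge * gf * gh * ga * gb * gc * gd * ge * gf * gh * ga * gb * gc * gd * ge * gf * gh * ga * gb * gc * gd * ge * gf * gh * ga * gb * gc * gd * ge * gf * gh * ga * gb * gc * gd * ge * gf * gh = 1 := by
  have h := extra_one ((a * b * c * d * e * f * h) ^ 9) (by simp [extra])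
  simp only [map_mul, map_pow, map_inv, mk_of, pow_succ, pow_zero, one_mul, mul_inv_rev, inv_gen, ← mul_assoc] at h
  exact h

theorem rel_46 (q : Q) : ga • gb • gc • gd • ge • gf • gh • ga • gb • gc • gd • ge • gf • gh • ga • gb • gc • gd • ge • gf • gh • ga • gb • gc • gd • ge • gf • gh • ga • gb • gc • gd • ge • gf • gh • ga • gb • gc • gd • ge • gf • gh • ga • gb • gc • gd • ge • gf • gh • ga • gb • gc • gd • ge • gf • gh • ga • gb • gc • gd • ge • gf • gh • q = q := by
  have h := congrArg (· • q) relG_46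
  simp only [mul_smul, one_smul] at h
  exact h

theorem relG_47 : gb * gc * gd * ge * gf * gg * gh * gb * gc * gd * ge * gf * gg * gh * gb * gc * gd * ge * gf * gg * gh * gb * gc * gd * ge * gf * gg * gh * gb * gc * gd * ge * gf * gg * gh * gb * gc * gd * ge * gf * gg * gh * gb * gc * gd * ge * gf * gg * gh * gb * gc * gd * ge * gf * gg * gh * gb * gc * gd * ge * gf * gg * gh = 1 := by
  have h := extra_one ((b * c * d * e * f * g * h) ^ 9) (by simp [extra])
  simp only [map_mul, map_pow, map_inv, mk_of, pow_succ, pow_zero, one_mul, mul_inv_rev, inv_gen, ← mul_assoc] at h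
  exact h

theorem rel_47 (q : Q) : gb • gc • gd • ge • gf • gg • gh • gb • gc • gd • ge • gf • gg • gh • gb • gc • gd • ge • gf • gg • gh • gb • gc • gd • ge • gf • gg • gh • gb • gc • gd • ge • gf • gg • gh • gb • gc • gd • ge • gf • gg • gh • gb • gc • gd • ge • gf • gg • gh • gb • gc • gd • ge • gf • gg • gh • gb • gc • gd • ge • gf • gg • gh • q = q := by
  have h := congrArg (· • q) relG_47
  simp only [mul_smul, one_smul] at h
  exact h

theorem rot_9_1 (X : Q) : gb • ga • gb • ga • gb • ga • X = X := by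
  exact smul_left_cancel ga (smul_left_cancel gb (smul_left_cancel ga (smul_left_cancel gb (smul_left_cancel ga (rel_9 (ga • gb • ga • gb • ga • X))))))

theorem rot_9_2 (X : Q) : ga • gb • ga • gb • ga • gb • X = X := by
  exact smul_left_cancel gb (smul_left_cancel ga (smul_left_cancel gb (smul_left_cancel ga (rel_9 (ga • gb • ga • gb • X)))))

theorem rot_9_3 (X : Q) : gb • ga • gb • ga • gb • ga • X = X := by
  exact smul_left_cancel ga (smul_left_cancel gb (smul_left_cancel ga (rel_9 (ga • gb • ga • X))))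

theorem rot_9_4 (X : Q) : ga • gb • ga • gb • ga • gb • X = X := by
  exact smul_left_cancel gb (smul_left_cancel ga (rel_9 (ga • gb • X)))

theorem rot_9_5 (X : Q) : gb • ga • gb • ga • gb • ga • X = X := by
  exact smul_left_cancel ga (rel_9 (ga • X))

theorem rot_10_1 (X : Q) : gc • ga • gc • ga • X = X := by
  exact smul_left_cancel ga (smul_left_cancel gc (smul_left_cancel ga (rel_10 (ga • gc • ga • X))))

theorem rot_10_2 (X : Q) : ga • gc • ga • gc • X = X := by
  exact smul_left_cancel gc (smul_left_cancel ga (rel_10 (ga • gc • X)))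

theorem rot_10_3 (X : Q) : gc • ga • gc • ga • X = X := by
  exact smul_left_cancel ga (rel_10 (ga • X))

theorem rot_11_0 (X : Q) : ga • gd • ga • gd • X = X := by
  exact rel_11 X

theorem rot_11_1 (X : Q) : gd • ga • gd • ga • X = X := by
  exact smul_left_cancel ga (smul_left_cancel gd (smul_left_cancel ga (rel_11 (ga • gd • ga • X))))

theorem rot_11_2 (X : Q) : ga • gd • ga • gd • X = X := by
  exact smul_left_cancel gd (smul_left_cancel ga (rel_11 (ga • gd • X)))

theorem rot_11_3 (X : Q) : gd • ga • gd • ga • X = X := by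
  exact smul_left_cancel ga (rel_11 (ga • X))

theorem rot_12_0 (X : Q) : ga • ge • ga • ge • X = X := by
  exact rel_12 X

theorem rot_12_1 (X : Q) : ge • ga • ge • ga • X = X := by
  exact smul_left_cancel ga (smul_left_cancel ge (smul_left_cancel ga (rel_12 (ga • ge • ga • X))))

theorem rot_12_2 (X : Q) : ga • ge • ga • ge • X = X := by
  exact smul_left_cancel ge (smul_left_cancel ga (rel_12 (ga • ge • X)))

theorem rot_12_3 (X : Q) : ge • ga • ge • ga • X = X := by
  exact smul_left_cancel ga (rel_12 (ga • X))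

theorem rot_13_0 (X : Q) : ga • gf • ga • gf • X = X := by
  exact rel_13 X

theorem rot_13_1 (X : Q) : gf • ga • gf • ga • X = X := by
  exact smul_left_cancel ga (smul_left_cancel gf (smul_left_cancel ga (rel_13 (ga • gf • ga • X))))

theorem rot_13_2 (X : Q) : ga • gf • ga • gf • X = X := by
  exact smul_left_cancel gf (smul_left_cancel ga (rel_13 (ga • gf • X)))

theorem rot_13_3 (X : Q) : gf • ga • gf • ga • X = X := by
  exact smul_left_cancel ga (rel_13 (ga • X))

theorem rot_14_1 (X : Q) : gg • ga • gg • ga • X = X := by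
  exact smul_left_cancel ga (smul_left_cancel gg (smul_left_cancel ga (rel_14 (ga • gg • ga • X))))

theorem rot_14_2 (X : Q) : ga • gg • ga • gg • X = X := by
  exact smul_left_cancel gg (smul_left_cancel ga (rel_14 (ga • gg • X)))

theorem rot_14_3 (X : Q) : gg • ga • gg • ga • X = X := by
  exact smul_left_cancel ga (rel_14 (ga • X))

theorem rot_15_0 (X : Q) : ga • gh • ga • gh • X = X := by
  exact rel_15 X

theorem rot_15_1 (X : Q) : gh • ga • gh • ga • X = X := by
  exact smul_left_cancel ga (smul_left_cancel gh (smul_left_cancel ga (rel_15 (ga • gh • ga • X))))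

theorem rot_15_2 (X : Q) : ga • gh • ga • gh • X = X := by
  exact smul_left_cancel gh (smul_left_cancel ga (rel_15 (ga • gh • X)))

theorem rot_15_3 (X : Q) : gh • ga • gh • ga • X = X := by
  exact smul_left_cancel ga (rel_15 (ga • X))

theorem rot_16_0 (X : Q) : ga • gi • ga • gi • X = X := by
  exact rel_16 X

theorem rot_16_1 (X : Q) : gi • ga • gi • ga • X = X := by
  exact smul_left_cancel ga (smul_left_cancel gi (smul_left_cancel ga (rel_16 (ga • gi • ga • X))))

theorem rot_16_2 (X : Q) : ga • gi • ga • gi • X = X := by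
  exact smul_left_cancel gi (smul_left_cancel ga (rel_16 (ga • gi • X)))

theorem rot_16_3 (X : Q) : gi • ga • gi • ga • X = X := by
  exact smul_left_cancel ga (rel_16 (ga • X))

theorem rot_17_1 (X : Q) : gc • gb • gc • gb • gc • gb • X = X := by
  exact smul_left_cancel gb (smul_left_cancel gc (smul_left_cancel gb (smul_left_cancel gc (smul_left_cancel gb (rel_17 (gb • gc • gb • gc • gb • X))))))

theorem rot_17_2 (X : Q) : gb • gc • gb • gc • gb • gc • X = X := by
  exact smul_left_cancel gc (smul_left_cancel gb (smul_left_cancel gc (smul_left_cancel gb (rel_17 (gb • gc • gb • gc • X)))))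

theorem rot_17_3 (X : Q) : gc • gb • gc • gb • gc • gb • X = X := by
  exact smul_left_cancel gb (smul_left_cancel gc (smul_left_cancel gb (rel_17 (gb • gc • gb • X))))

theorem rot_17_4 (X : Q) : gb • gc • gb • gc • gb • gc • X = X := by
  exact smul_left_cancel gc (smul_left_cancel gb (rel_17 (gb • gc • X)))

theorem rot_18_0 (X : Q) : gb • gd • gb • gd • X = X := by
  exact rel_18 X

theorem rot_18_1 (X : Q) : gd • gb • gd • gb • X = X := by
  exact smul_left_cancel gb (smul_left_cancel gd (smul_left_cancel gb (rel_18 (gb • gd • gb • X))))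

theorem rot_18_2 (X : Q) : gb • gd • gb • gd • X = X := by
  exact smul_left_cancel gd (smul_left_cancel gb (rel_18 (gb • gd • X)))

theorem rot_18_3 (X : Q) : gd • gb • gd • gb • X = X := by
  exact smul_left_cancel gb (rel_18 (gb • X))

theorem rot_19_0 (X : Q) : gb • ge • gb • ge • X = X := by
  exact rel_19 X

theorem rot_19_1 (X : Q) : ge • gb • ge • gb • X = X := by
  exact smul_left_cancel gb (smul_left_cancel ge (smul_left_cancel gb (rel_19 (gb • ge • gb • X))))

theorem rot_19_2 (X : Q) : gb • ge • gb • ge • X = X := by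
  exact smul_left_cancel ge (smul_left_cancel gb (rel_19 (gb • ge • X)))

theorem rot_19_3 (X : Q) : ge • gb • ge • gb • X = X := by
  exact smul_left_cancel gb (rel_19 (gb • X))

theorem rot_20_0 (X : Q) : gb • gf • gb • gf • X = X := by
  exact rel_20 X

theorem rot_20_1 (X : Q) : gf • gb • gf • gb • X = X := by
  exact smul_left_cancel gb (smul_left_cancel gf (smul_left_cancel gb (rel_20 (gb • gf • gb • X))))

theorem rot_20_2 (X : Q) : gb • gf • gb • gf • X = X := by
  exact smul_left_cancel gf (smul_left_cancel gb (rel_20 (gb • gf • X)))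

theorem rot_20_3 (X : Q) : gf • gb • gf • gb • X = X := by
  exact smul_left_cancel gb (rel_20 (gb • X))

theorem rot_21_0 (X : Q) : gb • gg • gb • gg • X = X := by
  exact rel_21 X

theorem rot_21_1 (X : Q) : gg • gb • gg • gb • X = X := by
  exact smul_left_cancel gb (smul_left_cancel gg (smul_left_cancel gb (rel_21 (gb • gg • gb • X))))

theorem rot_21_2 (X : Q) : gb • gg • gb • gg • X = X := by
  exact smul_left_cancel gg (smul_left_cancel gb (rel_21 (gb • gg • X)))

theorem rot_21_3 (X : Q) : gg • gb • gg • gb • X = X := by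
  exact smul_left_cancel gb (rel_21 (gb • X))

theorem rot_22_0 (X : Q) : gb • gh • gb • gh • X = X := by
  exact rel_22 X

theorem rot_22_1 (X : Q) : gh • gb • gh • gb • X = X := by
  exact smul_left_cancel gb (smul_left_cancel gh (smul_left_cancel gb (rel_22 (gb • gh • gb • X))))

theorem rot_22_2 (X : Q) : gb • gh • gb • gh • X = X := by
  exact smul_left_cancel gh (smul_left_cancel gb (rel_22 (gb • gh • X)))

theorem rot_22_3 (X : Q) : gh • gb • gh • gb • X = X := by
  exact smul_left_cancel gb (rel_22 (gb • X))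

theorem rot_23_0 (X : Q) : gb • gi • gb • gi • X = X := by
  exact rel_23 X

theorem rot_23_1 (X : Q) : gi • gb • gi • gb • X = X := by
  exact smul_left_cancel gb (smul_left_cancel gi (smul_left_cancel gb (rel_23 (gb • gi • gb • X))))

theorem rot_23_2 (X : Q) : gb • gi • gb • gi • X = X := by
  exact smul_left_cancel gi (smul_left_cancel gb (rel_23 (gb • gi • X)))

theorem rot_23_3 (X : Q) : gi • gb • gi • gb • X = X := by
  exact smul_left_cancel gb (rel_23 (gb • X))

theorem rot_24_1 (X : Q) : gd • gc • gd • gc • gd • gc • X = X := by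
  exact smul_left_cancel gc (smul_left_cancel gd (smul_left_cancel gc (smul_left_cancel gd (smul_left_cancel gc (rel_24 (gc • gd • gc • gd • gc • X))))))

theorem rot_24_2 (X : Q) : gc • gd • gc • gd • gc • gd • X = X := by
  exact smul_left_cancel gd (smul_left_cancel gc (smul_left_cancel gd (smul_left_cancel gc (rel_24 (gc • gd • gc • gd • X)))))

theorem rot_24_3 (X : Q) : gd • gc • gd • gc • gd • gc • X = X := by
  exact smul_left_cancel gc (smul_left_cancel gd (smul_left_cancel gc (rel_24 (gc • gd • gc • X))))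

theorem rot_24_4 (X : Q) : gc • gd • gc • gd • gc • gd • X = X := by
  exact smul_left_cancel gd (smul_left_cancel gc (rel_24 (gc • gd • X)))

theorem rot_24_5 (X : Q) : gd • gc • gd • gc • gd • gc • X = X := by
  exact smul_left_cancel gc (rel_24 (gc • X))

theorem rot_25_0 (X : Q) : gc • ge • gc • ge • X = X := by
  exact rel_25 X

theorem rot_25_1 (X : Q) : ge • gc • ge • gc • X = X := by
  exact smul_left_cancel gc (smul_left_cancel ge (smul_left_cancel gc (rel_25 (gc • ge • gc • X))))

theorem rot_25_2 (X : Q) : gc • ge • gc • ge • X = X := by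
  exact smul_left_cancel ge (smul_left_cancel gc (rel_25 (gc • ge • X)))

theorem rot_25_3 (X : Q) : ge • gc • ge • gc • X = X := by
  exact smul_left_cancel gc (rel_25 (gc • X))

theorem rot_26_0 (X : Q) : gc • gf • gc • gf • X = X := by
  exact rel_26 X

theorem rot_26_1 (X : Q) : gf • gc • gf • gc • X = X := by
  exact smul_left_cancel gc (smul_left_cancel gf (smul_left_cancel gc (rel_26 (gc • gf • gc • X))))

theorem rot_26_2 (X : Q) : gc • gf • gc • gf • X = X := by
  exact smul_left_cancel gf (smul_left_cancel gc (rel_26 (gc • gf • X)))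

theorem rot_26_3 (X : Q) : gf • gc • gf • gc • X = X := by
  exact smul_left_cancel gc (rel_26 (gc • X))

theorem rot_27_0 (X : Q) : gc • gg • gc • gg • X = X := by
  exact rel_27 X

theorem rot_27_1 (X : Q) : gg • gc • gg • gc • X = X := by
  exact smul_left_cancel gc (smul_left_cancel gg (smul_left_cancel gc (rel_27 (gc • gg • gc • X))))

theorem rot_27_2 (X : Q) : gc • gg • gc • gg • X = X := by
  exact smul_left_cancel gg (smul_left_cancel gc (rel_27 (gc • gg • X)))

theorem rot_27_3 (X : Q) : gg • gc • gg • gc • X = X := by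
  exact smul_left_cancel gc (rel_27 (gc • X))

theorem rot_28_0 (X : Q) : gc • gh • gc • gh • X = X := by
  exact rel_28 X

theorem rot_28_1 (X : Q) : gh • gc • gh • gc • X = X := by
  exact smul_left_cancel gc (smul_left_cancel gh (smul_left_cancel gc (rel_28 (gc • gh • gc • X))))

theorem rot_28_2 (X : Q) : gc • gh • gc • gh • X = X := by
  exact smul_left_cancel gh (smul_left_cancel gc (rel_28 (gc • gh • X)))

theorem rot_28_3 (X : Q) : gh • gc • gh • gc • X = X := by
  exact smul_left_cancel gc (rel_28 (gc • X))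

theorem rot_29_0 (X : Q) : gc • gi • gc • gi • X = X := by
  exact rel_29 X

theorem rot_29_1 (X : Q) : gi • gc • gi • gc • X = X := by
  exact smul_left_cancel gc (smul_left_cancel gi (smul_left_cancel gc (rel_29 (gc • gi • gc • X))))

theorem rot_29_2 (X : Q) : gc • gi • gc • gi • X = X := by
  exact smul_left_cancel gi (smul_left_cancel gc (rel_29 (gc • gi • X)))

theorem rot_29_3 (X : Q) : gi • gc • gi • gc • X = X := by
  exact smul_left_cancel gc (rel_29 (gc • X))

theorem rot_30_0 (X : Q) : gd • ge • gd • ge • gd • ge • X = X := by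
  exact rel_30 X

theorem rot_30_1 (X : Q) : ge • gd • ge • gd • ge • gd • X = X := by
  exact smul_left_cancel gd (smul_left_cancel ge (smul_left_cancel gd (smul_left_cancel ge (smul_left_cancel gd (rel_30 (gd • ge • gd • ge • gd • X))))))

theorem rot_30_2 (X : Q) : gd • ge • gd • ge • gd • ge • X = X := by
  exact smul_left_cancel ge (smul_left_cancel gd (smul_left_cancel ge (smul_left_cancel gd (rel_30 (gd • ge • gd • ge • X)))))

theorem rot_30_3 (X : Q) : ge • gd • ge • gd • ge • gd • X = X := by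
  exact smul_left_cancel gd (smul_left_cancel ge (smul_left_cancel gd (rel_30 (gd • ge • gd • X))))

theorem rot_30_4 (X : Q) : gd • ge • gd • ge • gd • ge • X = X := by
  exact smul_left_cancel ge (smul_left_cancel gd (rel_30 (gd • ge • X)))

theorem rot_31_0 (X : Q) : gd • gf • gd • gf • X = X := by
  exact rel_31 X

theorem rot_31_1 (X : Q) : gf • gd • gf • gd • X = X := by
  exact smul_left_cancel gd (smul_left_cancel gf (smul_left_cancel gd (rel_31 (gd • gf • gd • X))))

theorem rot_31_2 (X : Q) : gd • gf • gd • gf • X = X := by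
  exact smul_left_cancel gf (smul_left_cancel gd (rel_31 (gd • gf • X)))

theorem rot_31_3 (X : Q) : gf • gd • gf • gd • X = X := by
  exact smul_left_cancel gd (rel_31 (gd • X))

theorem rot_32_0 (X : Q) : gd • gg • gd • gg • X = X := by
  exact rel_32 X

theorem rot_32_1 (X : Q) : gg • gd • gg • gd • X = X := by
  exact smul_left_cancel gd (smul_left_cancel gg (smul_left_cancel gd (rel_32 (gd • gg • gd • X))))

theorem rot_32_2 (X : Q) : gd • gg • gd • gg • X = X := by
  exact smul_left_cancel gg (smul_left_cancel gd (rel_32 (gd • gg • X)))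

theorem rot_32_3 (X : Q) : gg • gd • gg • gd • X = X := by
  exact smul_left_cancel gd (rel_32 (gd • X))

theorem rot_33_0 (X : Q) : gd • gh • gd • gh • gd • gh • X = X := by
  exact rel_33 X

theorem rot_33_1 (X : Q) : gh • gd • gh • gd • gh • gd • X = X := by
  exact smul_left_cancel gd (smul_left_cancel gh (smul_left_cancel gd (smul_left_cancel gh (smul_left_cancel gd (rel_33 (gd • gh • gd • gh • gd • X))))))

theorem rot_33_2 (X : Q) : gd • gh • gd • gh • gd • gh • X = X := by
  exact smul_left_cancel gh (smul_left_cancel gd (smul_left_cancel gh (smul_left_cancel gd (rel_33 (gd • gh • gd • gh • X)))))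

theorem rot_33_3 (X : Q) : gh • gd • gh • gd • gh • gd • X = X := by
  exact smul_left_cancel gd (smul_left_cancel gh (smul_left_cancel gd (rel_33 (gd • gh • gd • X))))

theorem rot_33_4 (X : Q) : gd • gh • gd • gh • gd • gh • X = X := by
  exact smul_left_cancel gh (smul_left_cancel gd (rel_33 (gd • gh • X)))

theorem rot_33_5 (X : Q) : gh • gd • gh • gd • gh • gd • X = X := by
  exact smul_left_cancel gd (rel_33 (gd • X))

theorem rot_34_0 (X : Q) : gd • gi • gd • gi • X = X := by
  exact rel_34 X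

theorem rot_34_1 (X : Q) : gi • gd • gi • gd • X = X := by
  exact smul_left_cancel gd (smul_left_cancel gi (smul_left_cancel gd (rel_34 (gd • gi • gd • X))))

theorem rot_34_2 (X : Q) : gd • gi • gd • gi • X = X := by
  exact smul_left_cancel gi (smul_left_cancel gd (rel_34 (gd • gi • X)))

theorem rot_34_3 (X : Q) : gi • gd • gi • gd • X = X := by
  exact smul_left_cancel gd (rel_34 (gd • X))

theorem rot_35_0 (X : Q) : ge • gf • ge • gf • ge • gf • X = X := by
  exact rel_35 X

theorem rot_35_1 (X : Q) : gf • ge • gf • ge • gf • ge • X = X := by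
  exact smul_left_cancel ge (smul_left_cancel gf (smul_left_cancel ge (smul_left_cancel gf (smul_left_cancel ge (rel_35 (ge • gf • ge • gf • ge • X))))))

theorem rot_35_2 (X : Q) : ge • gf • ge • gf • ge • gf • X = X := by
  exact smul_left_cancel gf (smul_left_cancel ge (smul_left_cancel gf (smul_left_cancel ge (rel_35 (ge • gf • ge • gf • X)))))

theorem rot_35_3 (X : Q) : gf • ge • gf • ge • gf • ge • X = X := by
  exact smul_left_cancel ge (smul_left_cancel gf (smul_left_cancel ge (rel_35 (ge • gf • ge • X))))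

theorem rot_35_5 (X : Q) : gf • ge • gf • ge • gf • ge • X = X := by
  exact smul_left_cancel ge (rel_35 (ge • X))

theorem rot_36_0 (X : Q) : ge • gg • ge • gg • X = X := by
  exact rel_36 X

theorem rot_36_1 (X : Q) : gg • ge • gg • ge • X = X := by
  exact smul_left_cancel ge (smul_left_cancel gg (smul_left_cancel ge (rel_36 (ge • gg • ge • X))))

theorem rot_36_2 (X : Q) : ge • gg • ge • gg • X = X := by
  exact smul_left_cancel gg (smul_left_cancel ge (rel_36 (ge • gg • X)))

theorem rot_36_3 (X : Q) : gg • ge • gg • ge • X = X := by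
  exact smul_left_cancel ge (rel_36 (ge • X))

theorem rot_37_0 (X : Q) : ge • gh • ge • gh • X = X := by
  exact rel_37 X

theorem rot_37_1 (X : Q) : gh • ge • gh • ge • X = X := by
  exact smul_left_cancel ge (smul_left_cancel gh (smul_left_cancel ge (rel_37 (ge • gh • ge • X))))

theorem rot_37_2 (X : Q) : ge • gh • ge • gh • X = X := by
  exact smul_left_cancel gh (smul_left_cancel ge (rel_37 (ge • gh • X)))

theorem rot_37_3 (X : Q) : gh • ge • gh • ge • X = X := by
  exact smul_left_cancel ge (rel_37 (ge • X))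

theorem rot_38_0 (X : Q) : ge • gi • ge • gi • X = X := by
  exact rel_38 X

theorem rot_38_1 (X : Q) : gi • ge • gi • ge • X = X := by
  exact smul_left_cancel ge (smul_left_cancel gi (smul_left_cancel ge (rel_38 (ge • gi • ge • X))))

theorem rot_38_2 (X : Q) : ge • gi • ge • gi • X = X := by
  exact smul_left_cancel gi (smul_left_cancel ge (rel_38 (ge • gi • X)))

theorem rot_38_3 (X : Q) : gi • ge • gi • ge • X = X := by
  exact smul_left_cancel ge (rel_38 (ge • X))

theorem rot_39_0 (X : Q) : gf • gg • gf • gg • gf • gg • X = X := by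
  exact rel_39 X

theorem rot_39_1 (X : Q) : gg • gf • gg • gf • gg • gf • X = X := by
  exact smul_left_cancel gf (smul_left_cancel gg (smul_left_cancel gf (smul_left_cancel gg (smul_left_cancel gf (rel_39 (gf • gg • gf • gg • gf • X))))))

theorem rot_39_2 (X : Q) : gf • gg • gf • gg • gf • gg • X = X := by
  exact smul_left_cancel gg (smul_left_cancel gf (smul_left_cancel gg (smul_left_cancel gf (rel_39 (gf • gg • gf • gg • X)))))

theorem rot_39_3 (X : Q) : gg • gf • gg • gf • gg • gf • X = X := by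
  exact smul_left_cancel gf (smul_left_cancel gg (smul_left_cancel gf (rel_39 (gf • gg • gf • X))))

theorem rot_39_4 (X : Q) : gf • gg • gf • gg • gf • gg • X = X := by
  exact smul_left_cancel gg (smul_left_cancel gf (rel_39 (gf • gg • X)))

theorem rot_40_0 (X : Q) : gf • gh • gf • gh • X = X := by
  exact rel_40 X

theorem rot_40_1 (X : Q) : gh • gf • gh • gf • X = X := by
  exact smul_left_cancel gf (smul_left_cancel gh (smul_left_cancel gf (rel_40 (gf • gh • gf • X))))

theorem rot_40_2 (X : Q) : gf • gh • gf • gh • X = X := by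
  exact smul_left_cancel gh (smul_left_cancel gf (rel_40 (gf • gh • X)))

theorem rot_40_3 (X : Q) : gh • gf • gh • gf • X = X := by
  exact smul_left_cancel gf (rel_40 (gf • X))

theorem rot_41_0 (X : Q) : gf • gi • gf • gi • X = X := by
  exact rel_41 X

theorem rot_41_1 (X : Q) : gi • gf • gi • gf • X = X := by
  exact smul_left_cancel gf (smul_left_cancel gi (smul_left_cancel gf (rel_41 (gf • gi • gf • X))))

theorem rot_41_2 (X : Q) : gf • gi • gf • gi • X = X := by
  exact smul_left_cancel gi (smul_left_cancel gf (rel_41 (gf • gi • X)))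

theorem rot_41_3 (X : Q) : gi • gf • gi • gf • X = X := by
  exact smul_left_cancel gf (rel_41 (gf • X))

theorem rot_42_0 (X : Q) : gg • gh • gg • gh • X = X := by
  exact rel_42 X

theorem rot_42_1 (X : Q) : gh • gg • gh • gg • X = X := by
  exact smul_left_cancel gg (smul_left_cancel gh (smul_left_cancel gg (rel_42 (gg • gh • gg • X))))

theorem rot_42_2 (X : Q) : gg • gh • gg • gh • X = X := by
  exact smul_left_cancel gh (smul_left_cancel gg (rel_42 (gg • gh • X)))

theorem rot_42_3 (X : Q) : gh • gg • gh • gg • X = X := by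
  exact smul_left_cancel gg (rel_42 (gg • X))

theorem rot_43_0 (X : Q) : gg • gi • gg • gi • X = X := by
  exact rel_43 X

theorem rot_43_2 (X : Q) : gg • gi • gg • gi • X = X := by
  exact smul_left_cancel gi (smul_left_cancel gg (rel_43 (gg • gi • X)))

theorem rot_43_3 (X : Q) : gi • gg • gi • gg • X = X := by
  exact smul_left_cancel gg (rel_43 (gg • X))

theorem rot_44_0 (X : Q) : gh • gi • gh • gi • gh • gi • X = X := by
  exact rel_44 X

theorem rot_44_2 (X : Q) : gh • gi • gh • gi • gh • gi • X = X := by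
  exact smul_left_cancel gi (smul_left_cancel gh (smul_left_cancel gi (smul_left_cancel gh (rel_44 (gh • gi • gh • gi • X)))))

theorem rot_44_3 (X : Q) : gi • gh • gi • gh • gi • gh • X = X := by
  exact smul_left_cancel gh (smul_left_cancel gi (smul_left_cancel gh (rel_44 (gh • gi • gh • X))))

theorem rot_44_4 (X : Q) : gh • gi • gh • gi • gh • gi • X = X := by
  exact smul_left_cancel gi (smul_left_cancel gh (rel_44 (gh • gi • X)))

theorem rot_44_5 (X : Q) : gi • gh • gi • gh • gi • gh • X = X := by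
  exact smul_left_cancel gh (rel_44 (gh • X))

theorem rot_45_4 (X : Q) : gf • gd • gh • gi • gd • gc • gb • gd • ge • gf • gd • gh • gi • gd • gc • gb • gd • ge • gf • gd • gh • gi • gd • gc • gb • gd • ge • gf • gd • gh • gi • gd • gc • gb • gd • ge • gf • gd • gh • gi • gd • gc • gb • gd • ge • gf • gd • gh • gi • gd • gc • gb • gd • ge • gf • gd • gh • gi • gd • gc • gb • gd • ge • gf • gd • gh • gi • gd • gc • gb • gd • ge • gf • gd • gh • gi • gd • gc • gb • gd • ge • gf • gd • gh • gi • gd • gc • gb • gd • ge • X = X := by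
  exact smul_left_cancel ge (smul_left_cancel gd (smul_left_cancel gb (smul_left_cancel gc (smul_left_cancel gd (smul_left_cancel gi (smul_left_cancel gh (smul_left_cancel gd (smul_left_cancel gf (smul_left_cancel ge (smul_left_cancel gd (smul_left_cancel gb (smul_left_cancel gc (smul_left_cancel gd (smul_left_cancel gi (smul_left_cancel gh (smul_left_cancel gd (smul_left_cancel gf (smul_left_cancel ge (smul_left_cancel gd (smul_left_cancel gb (smul_left_cancel gc (smul_left_cancel gd (smul_left_cancel gi (smul_left_cancel gh (smul_left_cancel gd (smul_left_cancel gf (smul_left_cancel ge (smul_left_cancel gd (smul_left_cancel gb (smul_left_cancel gc (smul_left_cancel gd (smul_left_cancel gi (smul_left_cancel gh (smul_left_cancel gd (smul_left_cancel gf (smul_left_cancel ge (smul_left_cancel gd (smul_left_cancel gb (smul_left_cancel gc (smul_left_cancel gd (smul_left_cancel gi (smul_left_cancel gh (smul_left_cancel gd (smul_left_cancel gf (smul_left_cancel ge (smul_left_cancel gd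 (smul_left_cancel gb (smul_left_cancel gc (smul_left_cancel gd (smul_left_cancel gi (smul_left_cancel gh (smul_left_cancel gd (smul_left_cancel gf (smul_left_cancel ge (smul_left_cancel gd (smul_left_cancel gb (smul_left_cancel gc (smul_left_cancel gd (smul_left_cancel gi (smul_left_cancel gh (smul_left_cancel gd (smul_left_cancel gf (smul_left_cancel ge (smul_left_cancel gd (smul_left_cancel gb (smul_left_cancel gc (smul_left_cancel gd (smul_left_cancel gi (smul_left_cancel gh (smul_left_cancel gd (smul_left_cancel gf (smul_left_cancel ge (smul_left_cancel gd (smul_left_cancel gb (smul_left_cancel gc (smul_left_cancel gd (smul_left_cancel gi (smul_left_cancel gh (smul_left_cancel gd (smul_left_cancel gf (smul_left_cancel ge (smul_left_cancel gd (smul_left_cancel gb (smul_left_cancel gc (smul_left_cancel gd (rel_45 (gd • gc • gb • gd • ge • gf • gd • gh • gi • gd • gc • gb • gd • ge • gf • gd • gh • gi • gd • gc • gb • gd • ge • gf • gd • gh • gi • gd • gc • gb • gd • ge • gf • gd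 • gh • gi • gd • gc • gb • gd • ge • gf • gd • gh • gi • gd • gc • gb • gd • ge • gf • gd • gh • gi • gd • gc • gb • gd • ge • gf • gd • gh • gi • gd • gc • gb • gd • ge • gf • gd • gh • gi • gd • gc • gb • gd • ge • gf • gd • gh • gi • gd • gc • gb • gd • ge • X)))))))))))))))))))))))))))))))))))))))))))))))))))))))))))))))))))))))))))))))))))))))

theorem rot_45_5 (X : Q) : ge • gf • gd • gh • gi • gd • gc • gb • gd • ge • gf • gd • gh • gi • gd • gc • gb • gd • ge • gf • gd • gh • gi • gd • gc • gb • gd • ge • gf • gd • gh • gi • gd • gc • gb • gd • ge • gf • gd • gh • gi • gd • gc • gb • gd • ge • gf • gd • gh • gi • gd • gc • gb • gd • ge • gf • gd • gh • gi • gd • gc • gb • gd • ge • gf • gd • gh • gi • gd • gc • gb • gd • ge • gf • gd • gh • gi • gd • gc • gb • gd • ge • gf • gd • gh • gi • gd • gc • gb • gd • X = X := by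
  exact smul_left_cancel gd (smul_left_cancel gb (smul_left_cancel gc (smul_left_cancel gd (smul_left_cancel gi (smul_left_cancel gh (smul_left_cancel gd (smul_left_cancel gf (smul_left_cancel ge (smul_left_cancel gd (smul_left_cancel gb (smul_left_cancel gc (smul_left_cancel gd (smul_left_cancel gi (smul_left_cancel gh (smul_left_cancel gd (smul_left_cancel gf (smul_left_cancel ge (smul_left_cancel gd (smul_left_cancel gb (smul_left_cancel gc (smul_left_cancel gd (smul_left_cancel gi (smul_left_cancel gh (smul_left_cancel gd (smul_left_cancel gf (smul_left_cancel ge (smul_left_cancel gd (smul_left_cancel gb (smul_left_cancel gc (smul_left_cancel gd (smul_left_cancel gi (smul_left_cancel gh (smul_left_cancel gd (smul_left_cancel gf (smul_left_cancel ge (smul_left_cancel gd (smul_left_cancel gb (smul_left_cancel gc (smul_left_cancel gd (smul_left_cancel gi (smul_left_cancel gh (smul_left_cancel gd (smul_left_cancel gf (smul_left_cancel ge (smul_left_cancel gd (smul_left_cancel gb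 (smul_left_cancel gc (smul_left_cancel gd (smul_left_cancel gi (smul_left_cancel gh (smul_left_cancel gd (smul_left_cancel gf (smul_left_cancel ge (smul_left_cancel gd (smul_left_cancel gb (smul_left_cancel gc (smul_left_cancel gd (smul_left_cancel gi (smul_left_cancel gh (smul_left_cancel gd (smul_left_cancel gf (smul_left_cancel ge (smul_left_cancel gd (smul_left_cancel gb (smul_left_cancel gc (smul_left_cancel gd (smul_left_cancel gi (smul_left_cancel gh (smul_left_cancel gd (smul_left_cancel gf (smul_left_cancel ge (smul_left_cancel gd (smul_left_cancel gb (smul_left_cancel gc (smul_left_cancel gd (smul_left_cancel gi (smul_left_cancel gh (smul_left_cancel gd (smul_left_cancel gf (smul_left_cancel ge (smul_left_cancel gd (smul_left_cancel gb (smul_left_cancel gc (smul_left_cancel gd (rel_45 (gd • gc • gb • gd • ge • gf • gd • gh • gi • gd • gc • gb • gd • ge • gf • gd • gh • gi • gd • gc • gb • gd • ge • gf • gd • gh • gi • gd • gc • gb • gd • ge • gf • gd • gh • gi • gd • gc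 • gb • gd • ge • gf • gd • gh • gi • gd • gc • gb • gd • ge • gf • gd • gh • gi • gd • gc • gb • gd • ge • gf • gd • gh • gi • gd • gc • gb • gd • ge • gf • gd • gh • gi • gd • gc • gb • gd • ge • gf • gd • gh • gi • gd • gc • gb • gd • X))))))))))))))))))))))))))))))))))))))))))))))))))))))))))))))))))))))))))))))))))))))

theorem rot_45_7 (X : Q) : gb • gd • ge • gf • gd • gh • gi • gd • gc • gb • gd • ge • gf • gd • gh • gi • gd • gc • gb • gd • ge • gf • gd • gh • gi • gd • gc • gb • gd • ge • gf • gd • gh • gi • gd • gc • gb • gd • ge • gf • gd • gh • gi • gd • gc • gb • gd • ge • gf • gd • gh • gi • gd • gc • gb • gd • ge • gf • gd • gh • gi • gd • gc • gb • gd • ge • gf • gd • gh • gi • gd • gc • gb • gd • ge • gf • gd • gh • gi • gd • gc • gb • gd • ge • gf • gd • gh • gi • gd • gc • X = X := by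
  exact smul_left_cancel gc (smul_left_cancel gd (smul_left_cancel gi (smul_left_cancel gh (smul_left_cancel gd (smul_left_cancel gf (smul_left_cancel ge (smul_left_cancel gd (smul_left_cancel gb (smul_left_cancel gc (smul_left_cancel gd (smul_left_cancel gi (smul_left_cancel gh (smul_left_cancel gd (smul_left_cancel gf (smul_left_cancel ge (smul_left_cancel gd (smul_left_cancel gb (smul_left_cancel gc (smul_left_cancel gd (smul_left_cancel gi (smul_left_cancel gh (smul_left_cancel gd (smul_left_cancel gf (smul_left_cancel ge (smul_left_cancel gd (smul_left_cancel gb (smul_left_cancel gc (smul_left_cancel gd (smul_left_cancel gi (smul_left_cancel gh (smul_left_cancel gd (smul_left_cancel gf (smul_left_cancel ge (smul_left_cancel gd (smul_left_cancel gb (smul_left_cancel gc (smul_left_cancel gd (smul_left_cancel gi (smul_left_cancel gh (smul_left_cancel gd (smul_left_cancel gf (smul_left_cancel ge (smul_left_cancel gd (smul_left_cancel gb (smul_left_cancel gc (smul_left_cancel gd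 (smul_left_cancel gi (smul_left_cancel gh (smul_left_cancel gd (smul_left_cancel gf (smul_left_cancel ge (smul_left_cancel gd (smul_left_cancel gb (smul_left_cancel gc (smul_left_cancel gd (smul_left_cancel gi (smul_left_cancel gh (smul_left_cancel gd (smul_left_cancel gf (smul_left_cancel ge (smul_left_cancel gd (smul_left_cancel gb (smul_left_cancel gc (smul_left_cancel gd (smul_left_cancel gi (smul_left_cancel gh (smul_left_cancel gd (smul_left_cancel gf (smul_left_cancel ge (smul_left_cancel gd (smul_left_cancel gb (smul_left_cancel gc (smul_left_cancel gd (smul_left_cancel gi (smul_left_cancel gh (smul_left_cancel gd (smul_left_cancel gf (smul_left_cancel ge (smul_left_cancel gd (smul_left_cancel gb (smul_left_cancel gc (smul_left_cancel gd (rel_45 (gd • gc • gb • gd • ge • gf • gd • gh • gi • gd • gc • gb • gd • ge • gf • gd • gh • gi • gd • gc • gb • gd • ge • gf • gd • gh • gi • gd • gc • gb • gd • ge • gf • gd • gh • gi • gd • gc • gb • gd • ge • gf • gd • gh • gi • gd •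 gc • gb • gd • ge • gf • gd • gh • gi • gd • gc • gb • gd • ge • gf • gd • gh • gi • gd • gc • gb • gd • ge • gf • gd • gh • gi • gd • gc • gb • gd • ge • gf • gd • gh • gi • gd • gc • X))))))))))))))))))))))))))))))))))))))))))))))))))))))))))))))))))))))))))))))))))))

theorem rot_45_8 (X : Q) : gc • gb • gd • ge • gf • gd • gh • gi • gd • gc • gb • gd • ge • gf • gd • gh • gi • gd • gc • gb • gd • ge • gf • gd • gh • gi • gd • gc • gb • gd • ge • gf • gd • gh • gi • gd • gc • gb • gd • ge • gf • gd • gh • gi • gd • gc • gb • gd • ge • gf • gd • gh • gi • gd • gc • gb • gd • ge • gf • gd • gh • gi • gd • gc • gb • gd • ge • gf • gd • gh • gi • gd • gc • gb • gd • ge • gf • gd • gh • gi • gd • gc • gb • gd • ge • gf • gd • gh • gi • gd • X = X := by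
  exact smul_left_cancel gd (smul_left_cancel gi (smul_left_cancel gh (smul_left_cancel gd (smul_left_cancel gf (smul_left_cancel ge (smul_left_cancel gd (smul_left_cancel gb (smul_left_cancel gc (smul_left_cancel gd (smul_left_cancel gi (smul_left_cancel gh (smul_left_cancel gd (smul_left_cancel gf (smul_left_cancel ge (smul_left_cancel gd (smul_left_cancel gb (smul_left_cancel gc (smul_left_cancel gd (smul_left_cancel gi (smul_left_cancel gh (smul_left_cancel gd (smul_left_cancel gf (smul_left_cancel ge (smul_left_cancel gd (smul_left_cancel gb (smul_left_cancel gc (smul_left_cancel gd (smul_left_cancel gi (smul_left_cancel gh (smul_left_cancel gd (smul_left_cancel gf (smul_left_cancel ge (smul_left_cancel gd (smul_left_cancel gb (smul_left_cancel gc (smul_left_cancel gd (smul_left_cancel gi (smul_left_cancel gh (smul_left_cancel gd (smul_left_cancel gf (smul_left_cancel ge (smul_left_cancel gd (smul_left_cancel gb (smul_left_cancel gc (smul_left_cancel gd (smul_left_cancel gi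 (smul_left_cancel gh (smul_left_cancel gd (smul_left_cancel gf (smul_left_cancel ge (smul_left_cancel gd (smul_left_cancel gb (smul_left_cancel gc (smul_left_cancel gd (smul_left_cancel gi (smul_left_cancel gh (smul_left_cancel gd (smul_left_cancel gf (smul_left_cancel ge (smul_left_cancel gd (smul_left_cancel gb (smul_left_cancel gc (smul_left_cancel gd (smul_left_cancel gi (smul_left_cancel gh (smul_left_cancel gd (smul_left_cancel gf (smul_left_cancel ge (smul_left_cancel gd (smul_left_cancel gb (smul_left_cancel gc (smul_left_cancel gd (smul_left_cancel gi (smul_left_cancel gh (smul_left_cancel gd (smul_left_cancel gf (smul_left_cancel ge (smul_left_cancel gd (smul_left_cancel gb (smul_left_cancel gc (smul_left_cancel gd (rel_45 (gd • gc • gb • gd • ge • gf • gd • gh • gi • gd • gc • gb • gd • ge • gf • gd • gh • gi • gd • gc • gb • gd • ge • gf • gd • gh • gi • gd • gc • gb • gd • ge • gf • gd • gh • gi • gd • gc • gb • gd • ge • gf • gd • gh • gi • gd • gc • gb • gd • ge •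 gf • gd • gh • gi • gd • gc • gb • gd • ge • gf • gd • gh • gi • gd • gc • gb • gd • ge • gf • gd • gh • gi • gd • gc • gb • gd • ge • gf • gd • gh • gi • gd • X)))))))))))))))))))))))))))))))))))))))))))))))))))))))))))))))))))))))))))))))))))

theorem rot_46_0 (X : Q) : ga • gb • gc • gd • ge • gf • gh • ga • gb • gc • gd • ge • gf • gh • ga • gb • gc • gd • ge • gf • gh • ga • gb • gc • gd • ge • gf • gh • ga • gb • gc • gd • ge • gf • gh • ga • gb • gc • gd • ge • gf • gh • ga • gb • gc • gd • ge • gf • gh • ga • gb • gc • gd • ge • gf • gh • ga • gb • gc • gd • ge • gf • gh • X = X := by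
  exact rel_46 X

theorem rot_46_1 (X : Q) : gh • ga • gb • gc • gd • ge • gf • gh • ga • gb • gc • gd • ge • gf • gh • ga • gb • gc • gd • ge • gf • gh • ga • gb • gc • gd • ge • gf • gh • ga • gb • gc • gd • ge • gf • gh • ga • gb • gc • gd • ge • gf • gh • ga • gb • gc • gd • ge • gf • gh • ga • gb • gc • gd • ge • gf • gh • ga • gb • gc • gd • ge • gf • X = X := by
  exact smul_left_cancel gf (smul_left_cancel ge (smul_left_cancel gd (smul_left_cancel gc (smul_left_cancel gb (smul_left_cancel ga (smul_left_cancel gh (smul_left_cancel gf (smul_left_cancel ge (smul_left_cancel gd (smul_left_cancel gc (smul_left_cancel gb (smul_left_cancel ga (smul_left_cancel gh (smul_left_cancel gf (smul_left_cancel ge (smul_left_cancel gd (smul_left_cancel gc (smul_left_cancel gb (smul_left_cancel ga (smul_left_cancel gh (smul_left_cancel gf (smul_left_cancel ge (smul_left_cancel gd (smul_left_cancel gc (smul_left_cancel gb (smul_left_cancel ga (smul_left_cancel gh (smul_left_cancel gf (smul_left_cancel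 ge (smul_left_cancel gd (smul_left_cancel gc (smul_left_cancel gb (smul_left_cancel ga (smul_left_cancel gh (smul_left_cancel gf (smul_left_cancel ge (smul_left_cancel gd (smul_left_cancel gc (smul_left_cancel gb (smul_left_cancel ga (smul_left_cancel gh (smul_left_cancel gf (smul_left_cancel ge (smul_left_cancel gd (smul_left_cancel gc (smul_left_cancel gb (smul_left_cancel ga (smul_left_cancel gh (smul_left_cancel gf (smul_left_cancel ge (smul_left_cancel gd (smul_left_cancel gc (smul_left_cancel gb (smul_left_cancel ga (smul_left_cancel gh (smul_left_cancel gf (smul_left_cancel ge (smul_left_cancel gd (smul_left_cancel gc (smul_left_cancel gb (smul_left_cancel ga (rel_46 (ga • gb • gc • gd • ge • gf • gh • ga • gb • gc • gd • ge • gf • gh • ga • gb • gc • gd • ge • gf • gh • ga • gb • gc • gd • ge • gf • gh • ga • gb • gc • gd • ge • gf • gh • ga • gb • gc • gd • ge • gf • gh • ga • gb • gc • gd • ge • gf • gh • ga • gb • gc • gd • ge • gf • gh • ga • gb • gc • gd • ge • gf •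 X)))))))))))))))))))))))))))))))))))))))))))))))))))))))))))))))

theorem rot_46_2 (X : Q) : gf • gh • ga • gb • gc • gd • ge • gf • gh • ga • gb • gc • gd • ge • gf • gh • ga • gb • gc • gd • ge • gf • gh • ga • gb • gc • gd • ge • gf • gh • ga • gb • gc • gd • ge • gf • gh • ga • gb • gc • gd • ge • gf • gh • ga • gb • gc • gd • ge • gf • gh • ga • gb • gc • gd • ge • gf • gh • ga • gb • gc • gd • ge • X = X := by
  exact smul_left_cancel ge (smul_left_cancel gd (smul_left_cancel gc (smul_left_cancel gb (smul_left_cancel ga (smul_left_cancel gh (smul_left_cancel gf (smul_left_cancel ge (smul_left_cancel gd (smul_left_cancel gc (smul_left_cancel gb (smul_left_cancel ga (smul_left_cancel gh (smul_left_cancel gf (smul_left_cancel ge (smul_left_cancel gd (smul_left_cancel gc (smul_left_cancel gb (smul_left_cancel ga (smul_left_cancel gh (smul_left_cancel gf (smul_left_cancel ge (smul_left_cancel gd (smul_left_cancel gc (smul_left_cancel gb (smul_left_cancel ga (smul_left_cancel gh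 (smul_left_cancel gf (smul_left_cancel ge (smul_left_cancel gd (smul_left_cancel gc (smul_left_cancel gb (smul_left_cancel ga (smul_left_cancel gh (smul_left_cancel gf (smul_left_cancel ge (smul_left_cancel gd (smul_left_cancel gc (smul_left_cancel gb (smul_left_cancel ga (smul_left_cancel gh (smul_left_cancel gf (smul_left_cancel ge (smul_left_cancel gd (smul_left_cancel gc (smul_left_cancel gb (smul_left_cancel ga (smul_left_cancel gh (smul_left_cancel gf (smul_left_cancel ge (smul_left_cancel gd (smul_left_cancel gc (smul_left_cancel gb (smul_left_cancel ga (smul_left_cancel gh (smul_left_cancel gf (smul_left_cancel ge (smul_left_cancel gd (smul_left_cancel gc (smul_left_cancel gb (smul_left_cancel ga (rel_46 (ga • gb • gc • gd • ge • gf • gh • ga • gb • gc • gd • ge • gf • gh • ga • gb • gc • gd • ge • gf • gh • ga • gb • gc • gd • ge • gf • gh • ga • gb • gc • gd • ge • gf • gh • ga • gb • gc • gd • ge • gf • gh • ga • gb • gc • gd • ge • gf • gh • ga • gb • gc • gd • ge • gf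 • gh • ga • gb • gc • gd • ge • X))))))))))))))))))))))))))))))))))))))))))))))))))))))))))))))

theorem rot_46_3 (X : Q) : ge • gf • gh • ga • gb • gc • gd • ge • gf • gh • ga • gb • gc • gd • ge • gf • gh • ga • gb • gc • gd • ge • gf • gh • ga • gb • gc • gd • ge • gf • gh • ga • gb • gc • gd • ge • gf • gh • ga • gb • gc • gd • ge • gf • gh • ga • gb • gc • gd • ge • gf • gh • ga • gb • gc • gd • ge • gf • gh • ga • gb • gc • gd • X = X := by
  exact smul_left_cancel gd (smul_left_cancel gc (smul_left_cancel gb (smul_left_cancel ga (smul_left_cancel gh (smul_left_cancel gf (smul_left_cancel ge (smul_left_cancel gd (smul_left_cancel gc (smul_left_cancel gb (smul_left_cancel ga (smul_left_cancel gh (smul_left_cancel gf (smul_left_cancel ge (smul_left_cancel gd (smul_left_cancel gc (smul_left_cancel gb (smul_left_cancel ga (smul_left_cancel gh (smul_left_cancel gf (smul_left_cancel ge (smul_left_cancel gd (smul_left_cancel gc (smul_left_cancel gb (smul_left_cancel ga (smul_left_cancel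 gh (smul_left_cancel gf (smul_left_cancel ge (smul_left_cancel gd (smul_left_cancel gc (smul_left_cancel gb (smul_left_cancel ga (smul_left_cancel gh (smul_left_cancel gf (smul_left_cancel ge (smul_left_cancel gd (smul_left_cancel gc (smul_left_cancel gb (smul_left_cancel ga (smul_left_cancel gh (smul_left_cancel gf (smul_left_cancel ge (smul_left_cancel gd (smul_left_cancel gc (smul_left_cancel gb (smul_left_cancel ga (smul_left_cancel gh (smul_left_cancel gf (smul_left_cancel ge (smul_left_cancel gd (smul_left_cancel gc (smul_left_cancel gb (smul_left_cancel ga (smul_left_cancel gh (smul_left_cancel gf (smul_left_cancel ge (smul_left_cancel gd (smul_left_cancel gc (smul_left_cancel gb (smul_left_cancel ga (rel_46 (ga • gb • gc • gd • ge • gf • gh • ga • gb • gc • gd • ge • gf • gh • ga • gb • gc • gd • ge • gf • gh • ga • gb • gc • gd • ge • gf • gh • ga • gb • gc • gd • ge • gf • gh • ga • gb • gc • gd • ge • gf • gh • ga • gb • gc • gd • ge • gf • gh • ga • gb • gc • gd • ge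 • gf • gh • ga • gb • gc • gd • X)))))))))))))))))))))))))))))))))))))))))))))))))))))))))))))

theorem rot_46_4 (X : Q) : gd • ge • gf • gh • ga • gb • gc • gd • ge • gf • gh • ga • gb • gc • gd • ge • gf • gh • ga • gb • gc • gd • ge • gf • gh • ga • gb • gc • gd • ge • gf • gh • ga • gb • gc • gd • ge • gf • gh • ga • gb • gc • gd • ge • gf • gh • ga • gb • gc • gd • ge • gf • gh • ga • gb • gc • gd • ge • gf • gh • ga • gb • gc • X = X := by
  exact smul_left_cancel gc (smul_left_cancel gb (smul_left_cancel ga (smul_left_cancel gh (smul_left_cancel gf (smul_left_cancel ge (smul_left_cancel gd (smul_left_cancel gc (smul_left_cancel gb (smul_left_cancel ga (smul_left_cancel gh (smul_left_cancel gf (smul_left_cancel ge (smul_left_cancel gd (smul_left_cancel gc (smul_left_cancel gb (smul_left_cancel ga (smul_left_cancel gh (smul_left_cancel gf (smul_left_cancel ge (smul_left_cancel gd (smul_left_cancel gc (smul_left_cancel gb (smul_left_cancel ga (smul_left_cancel gh (smul_left_cancel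 gf (smul_left_cancel ge (smul_left_cancel gd (smul_left_cancel gc (smul_left_cancel gb (smul_left_cancel ga (smul_left_cancel gh (smul_left_cancel gf (smul_left_cancel ge (smul_left_cancel gd (smul_left_cancel gc (smul_left_cancel gb (smul_left_cancel ga (smul_left_cancel gh (smul_left_cancel gf (smul_left_cancel ge (smul_left_cancel gd (smul_left_cancel gc (smul_left_cancel gb (smul_left_cancel ga (smul_left_cancel gh (smul_left_cancel gf (smul_left_cancel ge (smul_left_cancel gd (smul_left_cancel gc (smul_left_cancel gb (smul_left_cancel ga (smul_left_cancel gh (smul_left_cancel gf (smul_left_cancel ge (smul_left_cancel gd (smul_left_cancel gc (smul_left_cancel gb (smul_left_cancel ga (rel_46 (ga • gb • gc • gd • ge • gf • gh • ga • gb • gc • gd • ge • gf • gh • ga • gb • gc • gd • ge • gf • gh • ga • gb • gc • gd • ge • gf • gh • ga • gb • gc • gd • ge • gf • gh • ga • gb • gc • gd • ge • gf • gh • ga • gb • gc • gd • ge • gf • gh • ga • gb • gc • gd • ge • gf • gh • ga • gb •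 gc • X))))))))))))))))))))))))))))))))))))))))))))))))))))))))))))

theorem rot_46_5 (X : Q) : gc • gd • ge • gf • gh • ga • gb • gc • gd • ge • gf • gh • ga • gb • gc • gd • ge • gf • gh • ga • gb • gc • gd • ge • gf • gh • ga • gb • gc • gd • ge • gf • gh • ga • gb • gc • gd • ge • gf • gh • ga • gb • gc • gd • ge • gf • gh • ga • gb • gc • gd • ge • gf • gh • ga • gb • gc • gd • ge • gf • gh • ga • gb • X = X := by
  exact smul_left_cancel gb (smul_left_cancel ga (smul_left_cancel gh (smul_left_cancel gf (smul_left_cancel ge (smul_left_cancel gd (smul_left_cancel gc (smul_left_cancel gb (smul_left_cancel ga (smul_left_cancel gh (smul_left_cancel gf (smul_left_cancel ge (smul_left_cancel gd (smul_left_cancel gc (smul_left_cancel gb (smul_left_cancel ga (smul_left_cancel gh (smul_left_cancel gf (smul_left_cancel ge (smul_left_cancel gd (smul_left_cancel gc (smul_left_cancel gb (smul_left_cancel ga (smul_left_cancel gh (smul_left_cancel gf (smul_left_cancel ge (smul_left_cancel gd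 (smul_left_cancel gc (smul_left_cancel gb (smul_left_cancel ga (smul_left_cancel gh (smul_left_cancel gf (smul_left_cancel ge (smul_left_cancel gd (smul_left_cancel gc (smul_left_cancel gb (smul_left_cancel ga (smul_left_cancel gh (smul_left_cancel gf (smul_left_cancel ge (smul_left_cancel gd (smul_left_cancel gc (smul_left_cancel gb (smul_left_cancel ga (smul_left_cancel gh (smul_left_cancel gf (smul_left_cancel ge (smul_left_cancel gd (smul_left_cancel gc (smul_left_cancel gb (smul_left_cancel ga (smul_left_cancel gh (smul_left_cancel gf (smul_left_cancel ge (smul_left_cancel gd (smul_left_cancel gc (smul_left_cancel gb (smul_left_cancel ga (rel_46 (ga • gb • gc • gd • ge • gf • gh • ga • gb • gc • gd • ge • gf • gh • ga • gb • gc • gd • ge • gf • gh • ga • gb • gc • gd • ge • gf • gh • ga • gb • gc • gd • ge • gf • gh • ga • gb • gc • gd • ge • gf • gh • ga • gb • gc • gd • ge • gf • gh • ga • gb • gc • gd • ge • gf • gh • ga • gb • X)))))))))))))))))))))))))))))))))))))))))))))))))))))))))))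

theorem rot_46_6 (X : Q) : gb • gc • gd • ge • gf • gh • ga • gb • gc • gd • ge • gf • gh • ga • gb • gc • gd • ge • gf • gh • ga • gb • gc • gd • ge • gf • gh • ga • gb • gc • gd • ge • gf • gh • ga • gb • gc • gd • ge • gf • gh • ga • gb • gc • gd • ge • gf • gh • ga • gb • gc • gd • ge • gf • gh • ga • gb • gc • gd • ge • gf • gh • ga • X = X := by
  exact smul_left_cancel ga (smul_left_cancel gh (smul_left_cancel gf (smul_left_cancel ge (smul_left_cancel gd (smul_left_cancel gc (smul_left_cancel gb (smul_left_cancel ga (smul_left_cancel gh (smul_left_cancel gf (smul_left_cancel ge (smul_left_cancel gd (smul_left_cancel gc (smul_left_cancel gb (smul_left_cancel ga (smul_left_cancel gh (smul_left_cancel gf (smul_left_cancel ge (smul_left_cancel gd (smul_left_cancel gc (smul_left_cancel gb (smul_left_cancel ga (smul_left_cancel gh (smul_left_cancel gf (smul_left_cancel ge (smul_left_cancel gd (smul_left_cancel gc (smul_left_cancel gb (smul_left_cancel ga (smul_left_cancel gh (smul_left_cancel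 gf (smul_left_cancel ge (smul_left_cancel gd (smul_left_cancel gc (smul_left_cancel gb (smul_left_cancel ga (smul_left_cancel gh (smul_left_cancel gf (smul_left_cancel ge (smul_left_cancel gd (smul_left_cancel gc (smul_left_cancel gb (smul_left_cancel ga (smul_left_cancel gh (smul_left_cancel gf (smul_left_cancel ge (smul_left_cancel gd (smul_left_cancel gc (smul_left_cancel gb (smul_left_cancel ga (smul_left_cancel gh (smul_left_cancel gf (smul_left_cancel ge (smul_left_cancel gd (smul_left_cancel gc (smul_left_cancel gb (smul_left_cancel ga (rel_46 (ga • gb • gc • gd • ge • gf • gh • ga • gb • gc • gd • ge • gf • gh • ga • gb • gc • gd • ge • gf • gh • ga • gb • gc • gd • ge • gf • gh • ga • gb • gc • gd • ge • gf • gh • ga • gb • gc • gd • ge • gf • gh • ga • gb • gc • gd • ge • gf • gh • ga • gb • gc • gd • ge • gf • gh • ga • X))))))))))))))))))))))))))))))))))))))))))))))))))))))))))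

theorem rot_46_7 (X : Q) : ga • gb • gc • gd • ge • gf • gh • ga • gb • gc • gd • ge • gf • gh • ga • gb • gc • gd • ge • gf • gh • ga • gb • gc • gd • ge • gf • gh • ga • gb • gc • gd • ge • gf • gh • ga • gb • gc • gd • ge • gf • gh • ga • gb • gc • gd • ge • gf • gh • ga • gb • gc • gd • ge • gf • gh • ga • gb • gc • gd • ge • gf • gh • X = X := by
  exact smul_left_cancel gh (smul_left_cancel gf (smul_left_cancel ge (smul_left_cancel gd (smul_left_cancel gc (smul_left_cancel gb (smul_left_cancel ga (smul_left_cancel gh (smul_left_cancel gf (smul_left_cancel ge (smul_left_cancel gd (smul_left_cancel gc (smul_left_cancel gb (smul_left_cancel ga (smul_left_cancel gh (smul_left_cancel gf (smul_left_cancel ge (smul_left_cancel gd (smul_left_cancel gc (smul_left_cancel gb (smul_left_cancel ga (smul_left_cancel gh (smul_left_cancel gf (smul_left_cancel ge (smul_left_cancel gd (smul_left_cancel gc (smul_left_cancel gb (smul_left_cancel ga (smul_left_cancel gh (smul_left_cancel gf (smul_left_cancel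 ge (smul_left_cancel gd (smul_left_cancel gc (smul_left_cancel gb (smul_left_cancel ga (smul_left_cancel gh (smul_left_cancel gf (smul_left_cancel ge (smul_left_cancel gd (smul_left_cancel gc (smul_left_cancel gb (smul_left_cancel ga (smul_left_cancel gh (smul_left_cancel gf (smul_left_cancel ge (smul_left_cancel gd (smul_left_cancel gc (smul_left_cancel gb (smul_left_cancel ga (smul_left_cancel gh (smul_left_cancel gf (smul_left_cancel ge (smul_left_cancel gd (smul_left_cancel gc (smul_left_cancel gb (smul_left_cancel ga (rel_46 (ga • gb • gc • gd • ge • gf • gh • ga • gb • gc • gd • ge • gf • gh • ga • gb • gc • gd • ge • gf • gh • ga • gb • gc • gd • ge • gf • gh • ga • gb • gc • gd • ge • gf • gh • ga • gb • gc • gd • ge • gf • gh • ga • gb • gc • gd • ge • gf • gh • ga • gb • gc • gd • ge • gf • gh • X)))))))))))))))))))))))))))))))))))))))))))))))))))))))))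

theorem rot_46_8 (X : Q) : gh • ga • gb • gc • gd • ge • gf • gh • ga • gb • gc • gd • ge • gf • gh • ga • gb • gc • gd • ge • gf • gh • ga • gb • gc • gd • ge • gf • gh • ga • gb • gc • gd • ge • gf • gh • ga • gb • gc • gd • ge • gf • gh • ga • gb • gc • gd • ge • gf • gh • ga • gb • gc • gd • ge • gf • gh • ga • gb • gc • gd • ge • gf • X = X := by
  exact smul_left_cancel gf (smul_left_cancel ge (smul_left_cancel gd (smul_left_cancel gc (smul_left_cancel gb (smul_left_cancel ga (smul_left_cancel gh (smul_left_cancel gf (smul_left_cancel ge (smul_left_cancel gd (smul_left_cancel gc (smul_left_cancel gb (smul_left_cancel ga (smul_left_cancel gh (smul_left_cancel gf (smul_left_cancel ge (smul_left_cancel gd (smul_left_cancel gc (smul_left_cancel gb (smul_left_cancel ga (smul_left_cancel gh (smul_left_cancel gf (smul_left_cancel ge (smul_left_cancel gd (smul_left_cancel gc (smul_left_cancel gb (smul_left_cancel ga (smul_left_cancel gh (smul_left_cancel gf (smul_left_cancel ge (smul_left_cancel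 gd (smul_left_cancel gc (smul_left_cancel gb (smul_left_cancel ga (smul_left_cancel gh (smul_left_cancel gf (smul_left_cancel ge (smul_left_cancel gd (smul_left_cancel gc (smul_left_cancel gb (smul_left_cancel ga (smul_left_cancel gh (smul_left_cancel gf (smul_left_cancel ge (smul_left_cancel gd (smul_left_cancel gc (smul_left_cancel gb (smul_left_cancel ga (smul_left_cancel gh (smul_left_cancel gf (smul_left_cancel ge (smul_left_cancel gd (smul_left_cancel gc (smul_left_cancel gb (smul_left_cancel ga (rel_46 (ga • gb • gc • gd • ge • gf • gh • ga • gb • gc • gd • ge • gf • gh • ga • gb • gc • gd • ge • gf • gh • ga • gb • gc • gd • ge • gf • gh • ga • gb • gc • gd • ge • gf • gh • ga • gb • gc • gd • ge • gf • gh • ga • gb • gc • gd • ge • gf • gh • ga • gb • gc • gd • ge • gf • X))))))))))))))))))))))))))))))))))))))))))))))))))))))))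

theorem rot_46_33 (X : Q) : gc • gd • ge • gf • gh • ga • gb • gc • gd • ge • gf • gh • ga • gb • gc • gd • ge • gf • gh • ga • gb • gc • gd • ge • gf • gh • ga • gb • gc • gd • ge • gf • gh • ga • gb • gc • gd • ge • gf • gh • ga • gb • gc • gd • ge • gf • gh • ga • gb • gc • gd • ge • gf • gh • ga • gb • gc • gd • ge • gf • gh • ga • gb • X = X := by
  exact smul_left_cancel gb (smul_left_cancel ga (smul_left_cancel gh (smul_left_cancel gf (smul_left_cancel ge (smul_left_cancel gd (smul_left_cancel gc (smul_left_cancel gb (smul_left_cancel ga (smul_left_cancel gh (smul_left_cancel gf (smul_left_cancel ge (smul_left_cancel gd (smul_left_cancel gc (smul_left_cancel gb (smul_left_cancel ga (smul_left_cancel gh (smul_left_cancel gf (smul_left_cancel ge (smul_left_cancel gd (smul_left_cancel gc (smul_left_cancel gb (smul_left_cancel ga (smul_left_cancel gh (smul_left_cancel gf (smul_left_cancel ge (smul_left_cancel gd (smul_left_cancel gc (smul_left_cancel gb (smul_left_cancel ga (rel_46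 (ga • gb • gc • gd • ge • gf • gh • ga • gb • gc • gd • ge • gf • gh • ga • gb • gc • gd • ge • gf • gh • ga • gb • gc • gd • ge • gf • gh • ga • gb • X)))))))))))))))))))))))))))))))

theorem rot_46_46 (X : Q) : gd • ge • gf • gh • ga • gb • gc • gd • ge • gf • gh • ga • gb • gc • gd • ge • gf • gh • ga • gb • gc • gd • ge • gf • gh • ga • gb • gc • gd • ge • gf • gh • ga • gb • gc • gd • ge • gf • gh • ga • gb • gc • gd • ge • gf • gh • ga • gb • gc • gd • ge • gf • gh • ga • gb • gc • gd • ge • gf • gh • ga • gb • gc • X = X := by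
  exact smul_left_cancel gc (smul_left_cancel gb (smul_left_cancel ga (smul_left_cancel gh (smul_left_cancel gf (smul_left_cancel ge (smul_left_cancel gd (smul_left_cancel gc (smul_left_cancel gb (smul_left_cancel ga (smul_left_cancel gh (smul_left_cancel gf (smul_left_cancel ge (smul_left_cancel gd (smul_left_cancel gc (smul_left_cancel gb (smul_left_cancel ga (rel_46 (ga • gb • gc • gd • ge • gf • gh • ga • gb • gc • gd • ge • gf • gh • ga • gb • gc • X))))))))))))))))))

theorem rot_47_1 (X : Q) : gh • gb • gc • gd • ge • gf • gg • gh • gb • gc • gd • ge • gf • gg • gh • gb • gc • gd • ge • gf • gg • gh • gb • gc • gd • ge • gf • gg • gh • gb • gc • gd • ge • gf • gg • gh • gb • gc • gd • ge • gf • gg • gh • gb • gc • gd • ge • gf • gg • gh • gb • gc • gd • ge • gf • gg • gh • gb • gc • gd • ge • gf • gg • X = X := by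
  exact smul_left_cancel gg (smul_left_cancel gf (smul_left_cancel ge (smul_left_cancel gd (smul_left_cancel gc (smul_left_cancel gb (smul_left_cancel gh (smul_left_cancel gg (smul_left_cancel gf (smul_left_cancel ge (smul_left_cancel gd (smul_left_cancel gc (smul_left_cancel gb (smul_left_cancel gh (smul_left_cancel gg (smul_left_cancel gf (smul_left_cancel ge (smul_left_cancel gd (smul_left_cancel gc (smul_left_cancel gb (smul_left_cancel gh (smul_left_cancel gg (smul_left_cancel gf (smul_left_cancel ge (smul_left_cancel gd (smul_left_cancel gc (smul_left_cancel gb (smul_left_cancel gh (smul_left_cancel gg (smul_left_cancel gf (smul_left_cancel ge (smul_left_cancel gd (smul_left_cancel gc (smul_left_cancel gb (smul_left_cancel gh (smul_left_cancel gg (smul_left_cancel gf (smul_left_cancel ge (smul_left_cancel gd (smul_left_cancel gc (smul_left_cancel gb (smul_left_cancel gh (smul_left_cancel gg (smul_left_cancel gf (smul_left_cancel ge (smul_left_cancel gd (smul_left_cancel gc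 (smul_left_cancel gb (smul_left_cancel gh (smul_left_cancel gg (smul_left_cancel gf (smul_left_cancel ge (smul_left_cancel gd (smul_left_cancel gc (smul_left_cancel gb (smul_left_cancel gh (smul_left_cancel gg (smul_left_cancel gf (smul_left_cancel ge (smul_left_cancel gd (smul_left_cancel gc (smul_left_cancel gb (rel_47 (gb • gc • gd • ge • gf • gg • gh • gb • gc • gd • ge • gf • gg • gh • gb • gc • gd • ge • gf • gg • gh • gb • gc • gd • ge • gf • gg • gh • gb • gc • gd • ge • gf • gg • gh • gb • gc • gd • ge • gf • gg • gh • gb • gc • gd • ge • gf • gg • gh • gb • gc • gd • ge • gf • gg • gh • gb • gc • gd • ge • gf • gg • X)))))))))))))))))))))))))))))))))))))))))))))))))))))))))))))))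

theorem rot_47_2 (X : Q) : gg • gh • gb • gc • gd • ge • gf • gg • gh • gb • gc • gd • ge • gf • gg • gh • gb • gc • gd • ge • gf • gg • gh • gb • gc • gd • ge • gf • gg • gh • gb • gc • gd • ge • gf • gg • gh • gb • gc • gd • ge • gf • gg • gh • gb • gc • gd • ge • gf • gg • gh • gb • gc • gd • ge • gf • gg • gh • gb • gc • gd • ge • gf • X = X := by
  exact smul_left_cancel gf (smul_left_cancel ge (smul_left_cancel gd (smul_left_cancel gc (smul_left_cancel gb (smul_left_cancel gh (smul_left_cancel gg (smul_left_cancel gf (smul_left_cancel ge (smul_left_cancel gd (smul_left_cancel gc (smul_left_cancel gb (smul_left_cancel gh (smul_left_cancel gg (smul_left_cancel gf (smul_left_cancel ge (smul_left_cancel gd (smul_left_cancel gc (smul_left_cancel gb (smul_left_cancel gh (smul_left_cancel gg (smul_left_cancel gf (smul_left_cancel ge (smul_left_cancel gd (smul_left_cancel gc (smul_left_cancel gb (smul_left_cancel gh (smul_left_cancel gg (smul_left_cancel gf (smul_left_cancel ge (smul_left_cancel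 gd (smul_left_cancel gc (smul_left_cancel gb (smul_left_cancel gh (smul_left_cancel gg (smul_left_cancel gf (smul_left_cancel ge (smul_left_cancel gd (smul_left_cancel gc (smul_left_cancel gb (smul_left_cancel gh (smul_left_cancel gg (smul_left_cancel gf (smul_left_cancel ge (smul_left_cancel gd (smul_left_cancel gc (smul_left_cancel gb (smul_left_cancel gh (smul_left_cancel gg (smul_left_cancel gf (smul_left_cancel ge (smul_left_cancel gd (smul_left_cancel gc (smul_left_cancel gb (smul_left_cancel gh (smul_left_cancel gg (smul_left_cancel gf (smul_left_cancel ge (smul_left_cancel gd (smul_left_cancel gc (smul_left_cancel gb (rel_47 (gb • gc • gd • ge • gf • gg • gh • gb • gc • gd • ge • gf • gg • gh • gb • gc • gd • ge • gf • gg • gh • gb • gc • gd • ge • gf • gg • gh • gb • gc • gd • ge • gf • gg • gh • gb • gc • gd • ge • gf • gg • gh • gb • gc • gd • ge • gf • gg • gh • gb • gc • gd • ge • gf • gg • gh • gb • gc • gd • ge • gf • X))))))))))))))))))))))))))))))))))))))))))))))))))))))))))))))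

theorem rot_47_3 (X : Q) : gf • gg • gh • gb • gc • gd • ge • gf • gg • gh • gb • gc • gd • ge • gf • gg • gh • gb • gc • gd • ge • gf • gg • gh • gb • gc • gd • ge • gf • gg • gh • gb • gc • gd • ge • gf • gg • gh • gb • gc • gd • ge • gf • gg • gh • gb • gc • gd • ge • gf • gg • gh • gb • gc • gd • ge • gf • gg • gh • gb • gc • gd • ge • X = X := by
  exact smul_left_cancel ge (smul_left_cancel gd (smul_left_cancel gc (smul_left_cancel gb (smul_left_cancel gh (smul_left_cancel gg (smul_left_cancel gf (smul_left_cancel ge (smul_left_cancel gd (smul_left_cancel gc (smul_left_cancel gb (smul_left_cancel gh (smul_left_cancel gg (smul_left_cancel gf (smul_left_cancel ge (smul_left_cancel gd (smul_left_cancel gc (smul_left_cancel gb (smul_left_cancel gh (smul_left_cancel gg (smul_left_cancel gf (smul_left_cancel ge (smul_left_cancel gd (smul_left_cancel gc (smul_left_cancel gb (smul_left_cancel gh (smul_left_cancel gg (smul_left_cancel gf (smul_left_cancel ge (smul_left_cancel gd (smul_left_cancel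 gc (smul_left_cancel gb (smul_left_cancel gh (smul_left_cancel gg (smul_left_cancel gf (smul_left_cancel ge (smul_left_cancel gd (smul_left_cancel gc (smul_left_cancel gb (smul_left_cancel gh (smul_left_cancel gg (smul_left_cancel gf (smul_left_cancel ge (smul_left_cancel gd (smul_left_cancel gc (smul_left_cancel gb (smul_left_cancel gh (smul_left_cancel gg (smul_left_cancel gf (smul_left_cancel ge (smul_left_cancel gd (smul_left_cancel gc (smul_left_cancel gb (smul_left_cancel gh (smul_left_cancel gg (smul_left_cancel gf (smul_left_cancel ge (smul_left_cancel gd (smul_left_cancel gc (smul_left_cancel gb (rel_47 (gb • gc • gd • ge • gf • gg • gh • gb • gc • gd • ge • gf • gg • gh • gb • gc • gd • ge • gf • gg • gh • gb • gc • gd • ge • gf • gg • gh • gb • gc • gd • ge • gf • gg • gh • gb • gc • gd • ge • gf • gg • gh • gb • gc • gd • ge • gf • gg • gh • gb • gc • gd • ge • gf • gg • gh • gb • gc • gd • ge • X)))))))))))))))))))))))))))))))))))))))))))))))))))))))))))))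

theorem rot_47_4 (X : Q) : ge • gf • gg • gh • gb • gc • gd • ge • gf • gg • gh • gb • gc • gd • ge • gf • gg • gh • gb • gc • gd • ge • gf • gg • gh • gb • gc • gd • ge • gf • gg • gh • gb • gc • gd • ge • gf • gg • gh • gb • gc • gd • ge • gf • gg • gh • gb • gc • gd • ge • gf • gg • gh • gb • gc • gd • ge • gf • gg • gh • gb • gc • gd • X = X := by
  exact smul_left_cancel gd (smul_left_cancel gc (smul_left_cancel gb (smul_left_cancel gh (smul_left_cancel gg (smul_left_cancel gf (smul_left_cancel ge (smul_left_cancel gd (smul_left_cancel gc (smul_left_cancel gb (smul_left_cancel gh (smul_left_cancel gg (smul_left_cancel gf (smul_left_cancel ge (smul_left_cancel gd (smul_left_cancel gc (smul_left_cancel gb (smul_left_cancel gh (smul_left_cancel gg (smul_left_cancel gf (smul_left_cancel ge (smul_left_cancel gd (smul_left_cancel gc (smul_left_cancel gb (smul_left_cancel gh (smul_left_cancel gg (smul_left_cancel gf (smul_left_cancel ge (smul_left_cancel gd (smul_left_cancel gc (smul_left_cancel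 gb (smul_left_cancel gh (smul_left_cancel gg (smul_left_cancel gf (smul_left_cancel ge (smul_left_cancel gd (smul_left_cancel gc (smul_left_cancel gb (smul_left_cancel gh (smul_left_cancel gg (smul_left_cancel gf (smul_left_cancel ge (smul_left_cancel gd (smul_left_cancel gc (smul_left_cancel gb (smul_left_cancel gh (smul_left_cancel gg (smul_left_cancel gf (smul_left_cancel ge (smul_left_cancel gd (smul_left_cancel gc (smul_left_cancel gb (smul_left_cancel gh (smul_left_cancel gg (smul_left_cancel gf (smul_left_cancel ge (smul_left_cancel gd (smul_left_cancel gc (smul_left_cancel gb (rel_47 (gb • gc • gd • ge • gf • gg • gh • gb • gc • gd • ge • gf • gg • gh • gb • gc • gd • ge • gf • gg • gh • gb • gc • gd • ge • gf • gg • gh • gb • gc • gd • ge • gf • gg • gh • gb • gc • gd • ge • gf • gg • gh • gb • gc • gd • ge • gf • gg • gh • gb • gc • gd • ge • gf • gg • gh • gb • gc • gd • X))))))))))))))))))))))))))))))))))))))))))))))))))))))))))))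

theorem rot_47_5 (X : Q) : gd • ge • gf • gg • gh • gb • gc • gd • ge • gf • gg • gh • gb • gc • gd • ge • gf • gg • gh • gb • gc • gd • ge • gf • gg • gh • gb • gc • gd • ge • gf • gg • gh • gb • gc • gd • ge • gf • gg • gh • gb • gc • gd • ge • gf • gg • gh • gb • gc • gd • ge • gf • gg • gh • gb • gc • gd • ge • gf • gg • gh • gb • gc • X = X := by
  exact smul_left_cancel gc (smul_left_cancel gb (smul_left_cancel gh (smul_left_cancel gg (smul_left_cancel gf (smul_left_cancel ge (smul_left_cancel gd (smul_left_cancel gc (smul_left_cancel gb (smul_left_cancel gh (smul_left_cancel gg (smul_left_cancel gf (smul_left_cancel ge (smul_left_cancel gd (smul_left_cancel gc (smul_left_cancel gb (smul_left_cancel gh (smul_left_cancel gg (smul_left_cancel gf (smul_left_cancel ge (smul_left_cancel gd (smul_left_cancel gc (smul_left_cancel gb (smul_left_cancel gh (smul_left_cancel gg (smul_left_cancel gf (smul_left_cancel ge (smul_left_cancel gd (smul_left_cancel gc (smul_left_cancel gb (smul_left_cancel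 gh (smul_left_cancel gg (smul_left_cancel gf (smul_left_cancel ge (smul_left_cancel gd (smul_left_cancel gc (smul_left_cancel gb (smul_left_cancel gh (smul_left_cancel gg (smul_left_cancel gf (smul_left_cancel ge (smul_left_cancel gd (smul_left_cancel gc (smul_left_cancel gb (smul_left_cancel gh (smul_left_cancel gg (smul_left_cancel gf (smul_left_cancel ge (smul_left_cancel gd (smul_left_cancel gc (smul_left_cancel gb (smul_left_cancel gh (smul_left_cancel gg (smul_left_cancel gf (smul_left_cancel ge (smul_left_cancel gd (smul_left_cancel gc (smul_left_cancel gb (rel_47 (gb • gc • gd • ge • gf • gg • gh • gb • gc • gd • ge • gf • gg • gh • gb • gc • gd • ge • gf • gg • gh • gb • gc • gd • ge • gf • gg • gh • gb • gc • gd • ge • gf • gg • gh • gb • gc • gd • ge • gf • gg • gh • gb • gc • gd • ge • gf • gg • gh • gb • gc • gd • ge • gf • gg • gh • gb • gc • X)))))))))))))))))))))))))))))))))))))))))))))))))))))))))))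

theorem rot_47_7 (X : Q) : gb • gc • gd • ge • gf • gg • gh • gb • gc • gd • ge • gf • gg • gh • gb • gc • gd • ge • gf • gg • gh • gb • gc • gd • ge • gf • gg • gh • gb • gc • gd • ge • gf • gg • gh • gb • gc • gd • ge • gf • gg • gh • gb • gc • gd • ge • gf • gg • gh • gb • gc • gd • ge • gf • gg • gh • gb • gc • gd • ge • gf • gg • gh • X = X := by
  exact smul_left_cancel gh (smul_left_cancel gg (smul_left_cancel gf (smul_left_cancel ge (smul_left_cancel gd (smul_left_cancel gc (smul_left_cancel gb (smul_left_cancel gh (smul_left_cancel gg (smul_left_cancel gf (smul_left_cancel ge (smul_left_cancel gd (smul_left_cancel gc (smul_left_cancel gb (smul_left_cancel gh (smul_left_cancel gg (smul_left_cancel gf (smul_left_cancel ge (smul_left_cancel gd (smul_left_cancel gc (smul_left_cancel gb (smul_left_cancel gh (smul_left_cancel gg (smul_left_cancel gf (smul_left_cancel ge (smul_left_cancel gd (smul_left_cancel gc (smul_left_cancel gb (smul_left_cancel gh (smul_left_cancel gg (smul_left_cancel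 gf (smul_left_cancel ge (smul_left_cancel gd (smul_left_cancel gc (smul_left_cancel gb (smul_left_cancel gh (smul_left_cancel gg (smul_left_cancel gf (smul_left_cancel ge (smul_left_cancel gd (smul_left_cancel gc (smul_left_cancel gb (smul_left_cancel gh (smul_left_cancel gg (smul_left_cancel gf (smul_left_cancel ge (smul_left_cancel gd (smul_left_cancel gc (smul_left_cancel gb (smul_left_cancel gh (smul_left_cancel gg (smul_left_cancel gf (smul_left_cancel ge (smul_left_cancel gd (smul_left_cancel gc (smul_left_cancel gb (rel_47 (gb • gc • gd • ge • gf • gg • gh • gb • gc • gd • ge • gf • gg • gh • gb • gc • gd • ge • gf • gg • gh • gb • gc • gd • ge • gf • gg • gh • gb • gc • gd • ge • gf • gg • gh • gb • gc • gd • ge • gf • gg • gh • gb • gc • gd • ge • gf • gg • gh • gb • gc • gd • ge • gf • gg • gh • X)))))))))))))))))))))))))))))))))))))))))))))))))))))))))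

theorem rot_47_8 (X : Q) : gh • gb • gc • gd • ge • gf • gg • gh • gb • gc • gd • ge • gf • gg • gh • gb • gc • gd • ge • gf • gg • gh • gb • gc • gd • ge • gf • gg • gh • gb • gc • gd • ge • gf • gg • gh • gb • gc • gd • ge • gf • gg • gh • gb • gc • gd • ge • gf • gg • gh • gb • gc • gd • ge • gf • gg • gh • gb • gc • gd • ge • gf • gg • X = X := by
  exact smul_left_cancel gg (smul_left_cancel gf (smul_left_cancel ge (smul_left_cancel gd (smul_left_cancel gc (smul_left_cancel gb (smul_left_cancel gh (smul_left_cancel gg (smul_left_cancel gf (smul_left_cancel ge (smul_left_cancel gd (smul_left_cancel gc (smul_left_cancel gb (smul_left_cancel gh (smul_left_cancel gg (smul_left_cancel gf (smul_left_cancel ge (smul_left_cancel gd (smul_left_cancel gc (smul_left_cancel gb (smul_left_cancel gh (smul_left_cancel gg (smul_left_cancel gf (smul_left_cancel ge (smul_left_cancel gd (smul_left_cancel gc (smul_left_cancel gb (smul_left_cancel gh (smul_left_cancel gg (smul_left_cancel gf (smul_left_cancel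 ge (smul_left_cancel gd (smul_left_cancel gc (smul_left_cancel gb (smul_left_cancel gh (smul_left_cancel gg (smul_left_cancel gf (smul_left_cancel ge (smul_left_cancel gd (smul_left_cancel gc (smul_left_cancel gb (smul_left_cancel gh (smul_left_cancel gg (smul_left_cancel gf (smul_left_cancel ge (smul_left_cancel gd (smul_left_cancel gc (smul_left_cancel gb (smul_left_cancel gh (smul_left_cancel gg (smul_left_cancel gf (smul_left_cancel ge (smul_left_cancel gd (smul_left_cancel gc (smul_left_cancel gb (rel_47 (gb • gc • gd • ge • gf • gg • gh • gb • gc • gd • ge • gf • gg • gh • gb • gc • gd • ge • gf • gg • gh • gb • gc • gd • ge • gf • gg • gh • gb • gc • gd • ge • gf • gg • gh • gb • gc • gd • ge • gf • gg • gh • gb • gc • gd • ge • gf • gg • gh • gb • gc • gd • ge • gf • gg • X))))))))))))))))))))))))))))))))))))))))))))))))))))))))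

theorem rot_47_19 (X : Q) : gd • ge • gf • gg • gh • gb • gc • gd • ge • gf • gg • gh • gb • gc • gd • ge • gf • gg • gh • gb • gc • gd • ge • gf • gg • gh • gb • gc • gd • ge • gf • gg • gh • gb • gc • gd • ge • gf • gg • gh • gb • gc • gd • ge • gf • gg • gh • gb • gc • gd • ge • gf • gg • gh • gb • gc • gd • ge • gf • gg • gh • gb • gc • X = X := by
  exact smul_left_cancel gc (smul_left_cancel gb (smul_left_cancel gh (smul_left_cancel gg (smul_left_cancel gf (smul_left_cancel ge (smul_left_cancel gd (smul_left_cancel gc (smul_left_cancel gb (smul_left_cancel gh (smul_left_cancel gg (smul_left_cancel gf (smul_left_cancel ge (smul_left_cancel gd (smul_left_cancel gc (smul_left_cancel gb (smul_left_cancel gh (smul_left_cancel gg (smul_left_cancel gf (smul_left_cancel ge (smul_left_cancel gd (smul_left_cancel gc (smul_left_cancel gb (smul_left_cancel gh (smul_left_cancel gg (smul_left_cancel gf (smul_left_cancel ge (smul_left_cancel gd (smul_left_cancel gc (smul_left_cancel gb (smul_left_cancel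 gh (smul_left_cancel gg (smul_left_cancel gf (smul_left_cancel ge (smul_left_cancel gd (smul_left_cancel gc (smul_left_cancel gb (smul_left_cancel gh (smul_left_cancel gg (smul_left_cancel gf (smul_left_cancel ge (smul_left_cancel gd (smul_left_cancel gc (smul_left_cancel gb (rel_47 (gb • gc • gd • ge • gf • gg • gh • gb • gc • gd • ge • gf • gg • gh • gb • gc • gd • ge • gf • gg • gh • gb • gc • gd • ge • gf • gg • gh • gb • gc • gd • ge • gf • gg • gh • gb • gc • gd • ge • gf • gg • gh • gb • gc • X)))))))))))))))))))))))))))))))))))))))))))))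

theorem rot_47_48 (X : Q) : gc • gd • ge • gf • gg • gh • gb • gc • gd • ge • gf • gg • gh • gb • gc • gd • ge • gf • gg • gh • gb • gc • gd • ge • gf • gg • gh • gb • gc • gd • ge • gf • gg • gh • gb • gc • gd • ge • gf • gg • gh • gb • gc • gd • ge • gf • gg • gh • gb • gc • gd • ge • gf • gg • gh • gb • gc • gd • ge • gf • gg • gh • gb • X = X := by
  exact smul_left_cancel gb (smul_left_cancel gh (smul_left_cancel gg (smul_left_cancel gf (smul_left_cancel ge (smul_left_cancel gd (smul_left_cancel gc (smul_left_cancel gb (smul_left_cancel gh (smul_left_cancel gg (smul_left_cancel gf (smul_left_cancel ge (smul_left_cancel gd (smul_left_cancel gc (smul_left_cancel gb (rel_47 (gb • gc • gd • ge • gf • gg • gh • gb • gc • gd • ge • gf • gg • gh • gb • X))))))))))))))))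

theorem rot_47_57 (X : Q) : gh • gb • gc • gd • ge • gf • gg • gh • gb • gc • gd • ge • gf • gg • gh • gb • gc • gd • ge • gf • gg • gh • gb • gc • gd • ge • gf • gg • gh • gb • gc • gd • ge • gf • gg • gh • gb • gc • gd • ge • gf • gg • gh • gb • gc • gd • ge • gf • gg • gh • gb • gc • gd • ge • gf • gg • gh • gb • gc • gd • ge • gf • gg • X = X := by
  exact smul_left_cancel gg (smul_left_cancel gf (smul_left_cancel ge (smul_left_cancel gd (smul_left_cancel gc (smul_left_cancel gb (rel_47 (gb • gc • gd • ge • gf • gg • X)))))))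

theorem coi_39_2 {X z1 z2 z3 z4 z5 z6 : Q} (e0 : sm gg X = z1) (e1 : sm gf z1 = z2) (e2 : sm gg z2 = z3) (e3 : sm gf z3 = z4) (e4 : sm gg z4 = z5) (e5 : sm gf z5 = z6) : z6 = X := by
  subst e0
  subst e1
  subst e2
  subst e3
  subst e4
  subst e5
  exact rot_39_2 X

theorem coi_44_4 {X z1 z2 z3 z4 z5 z6 : Q} (e0 : sm gi X = z1) (e1 : sm gh z1 = z2) (e2 : sm gi z2 = z3) (e3 : sm gh z3 = z4) (e4 : sm gi z4 = z5) (e5 : sm gh z5 = z6) : z6 = X := by
  subst e0
  subst e1
  subst e2
  subst e3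
  subst e4
  subst e5
  exact rot_44_4 X

theorem coi_47_19 {X z1 z2 z3 z4 z5 z6 z7 z8 z9 z10 z11 z12 z13 z14 z15 z16 z17 z18 z19 z20 z21 z22 z23 z24 z25 z26 z27 z28 z29 z30 z31 z32 z33 z34 z35 z36 z37 z38 z39 z40 z41 z42 z43 z44 z45 z46 z47 z48 z49 z50 z51 z52 z53 z54 z55 z56 z57 z58 z59 z60 z61 z62 z63 : Q} (e0 : sm gc X = z1) (e1 : sm gb z1 = z2) (e2 : sm gh z2 = z3) (e3 : sm gg z3 = z4) (e4 : sm gf z4 = z5) (e5 : sm ge z5 = z6) (e6 : sm gd z6 = z7) (e7 : sm gc z7 = z8) (e8 : sm gb z8 = z9) (e9 : sm gh z9 = z10) (e10 : sm gg z10 = z11) (e11 : sm gf z11 = z12) (e12 : sm ge z12 = z13) (e13 : sm gd z13 = z14) (e14 : sm gc z14 = z15) (e15 : sm gb z15 = z16) (e16 : sm gh z16 = z17) (e17 : sm gg z17 = z18) (e18 : sm gf z18 = z19) (e19 : sm ge z19 = z20) (e20 : sm gd z20 = z21) (e21 : sm gc z21 = z22) (e22 : sm gb z22 = z23) (e23 : sm gh z23 = z24) (e24 : sm gg z24 = z25) (e25 : sm gf z25 = z26) (e26 : sm ge z26 = z27) (e27 : sm gd z27 = z28) (e28 : sm gc z28 = z29) (e29 : sm gb z29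 = z30) (e30 : sm gh z30 = z31) (e31 : sm gg z31 = z32) (e32 : sm gf z32 = z33) (e33 : sm ge z33 = z34) (e34 : sm gd z34 = z35) (e35 : sm gc z35 = z36) (e36 : sm gb z36 = z37) (e37 : sm gh z37 = z38) (e38 : sm gg z38 = z39) (e39 : sm gf z39 = z40) (e40 : sm ge z40 = z41) (e41 : sm gd z41 = z42) (e42 : sm gc z42 = z43) (e43 : sm gb z43 = z44) (e44 : sm gh z44 = z45) (e45 : sm gg z45 = z46) (e46 : sm gf z46 = z47) (e47 : sm ge z47 = z48) (e48 : sm gd z48 = z49) (e49 : sm gc z49 = z50) (e50 : sm gb z50 = z51) (e51 : sm gh z51 = z52) (e52 : sm gg z52 = z53) (e53 : sm gf z53 = z54) (e54 : sm ge z54 = z55) (e55 : sm gd z55 = z56) (e56 : sm gc z56 = z57) (e57 : sm gb z57 = z58) (e58 : sm gh z58 = z59) (e59 : sm gg z59 = z60) (e60 : sm gf z60 = z61) (e61 : sm ge z61 = z62) (e62 : sm gd z62 = z63) : z63 = X := by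
  subst e0
  subst e1
  subst e2
  subst e3
  subst e4
  subst e5
  subst e6
  subst e7
  subst e8
  subst e9
  subst e10
  subst e11
  subst e12
  subst e13
  subst e14
  subst e15
  subst e16
  subst e17
  subst e18
  subst e19
  subst e20
  subst e21
  subst e22
  subst e23
  subst e24
  subst e25
  subst e26
  subst e27
  subst e28
  subst e29
  subst e30
  subst e31
  subst e32
  subst e33
  subst e34
  subst e35
  subst e36
  subst e37
  subst e38
  subst e39
  subst e40
  subst e41
  subst e42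
  subst e43
  subst e44
  subst e45
  subst e46
  subst e47
  subst e48
  subst e49
  subst e50
  subst e51
  subst e52
  subst e53
  subst e54
  subst e55
  subst e56
  subst e57
  subst e58
  subst e59
  subst e60
  subst e61
  subst e62
  exact rot_47_19 X

theorem coi_47_48 {X z1 z2 z3 z4 z5 z6 z7 z8 z9 z10 z11 z12 z13 z14 z15 z16 z17 z18 z19 z20 z21 z22 z23 z24 z25 z26 z27 z28 z29 z30 z31 z32 z33 z34 z35 z36 z37 z38 z39 z40 z41 z42 z43 z44 z45 z46 z47 z48 z49 z50 z51 z52 z53 z54 z55 z56 z57 z58 z59 z60 z61 z62 z63 : Q} (e0 : sm gb X = z1) (e1 : sm gh z1 = z2) (e2 : sm gg z2 = z3) (e3 : sm gf z3 = z4) (e4 : sm ge z4 = z5) (e5 : sm gd z5 = z6) (e6 : sm gc z6 = z7) (e7 : sm gb z7 = z8) (e8 : sm gh z8 = z9) (e9 : sm gg z9 = z10) (e10 : sm gf z10 = z11) (e11 : sm ge z11 = z12) (e12 : sm gd z12 = z13) (e13 : sm gc z13 = z14) (e14 : sm gb z14 = z15) (e15 : sm gh z15 = z16) (e16 : sm gg z16 = z17) (e17 : sm gf z17 = z18) (e18 : sm ge z18 = z19) (e19 : sm gd z19 = z20) (e20 : sm gc z20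 = z21) (e21 : sm gb z21 = z22) (e22 : sm gh z22 = z23) (e23 : sm gg z23 = z24) (e24 : sm gf z24 = z25) (e25 : sm ge z25 = z26) (e26 : sm gd z26 = z27) (e27 : sm gc z27 = z28) (e28 : sm gb z28 = z29) (e29 : sm gh z29 = z30) (e30 : sm gg z30 = z31) (e31 : sm gf z31 = z32) (e32 : sm ge z32 = z33) (e33 : sm gd z33 = z34) (e34 : sm gc z34 = z35) (e35 : sm gb z35 = z36) (e36 : sm gh z36 = z37) (e37 : sm gg z37 = z38) (e38 : sm gf z38 = z39) (e39 : sm ge z39 = z40) (e40 : sm gd z40 = z41) (e41 : sm gc z41 = z42) (e42 : sm gb z42 = z43) (e43 : sm gh z43 = z44) (e44 : sm gg z44 = z45) (e45 : sm gf z45 = z46) (e46 : sm ge z46 = z47) (e47 : sm gd z47 = z48) (e48 : sm gc z48 = z49) (e49 : sm gb z49 = z50) (e50 : sm gh z50 = z51) (e51 : sm gg z51 = z52) (e52 : sm gf z52 = z53) (e53 : sm ge z53 = z54) (e54 : sm gd z54 = z55) (e55 : sm gc z55 = z56) (e56 : sm gb z56 = z57) (e57 : sm gh z57 = z58) (e58 : sm gg z58 = z59) (e59 : sm gf z59 = z60) (e60 : sm ge z60 = z61) (e61 : sm gd z61 = z62) (e62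 : sm gc z62 = z63) : z63 = X := by
  subst e0
  subst e1
  subst e2
  subst e3
  subst e4
  subst e5
  subst e6
  subst e7
  subst e8
  subst e9
  subst e10
  subst e11
  subst e12
  subst e13
  subst e14
  subst e15
  subst e16
  subst e17
  subst e18
  subst e19
  subst e20
  subst e21
  subst e22
  subst e23
  subst e24
  subst e25
  subst e26
  subst e27
  subst e28
  subst e29
  subst e30
  subst e31
  subst e32
  subst e33
  subst e34
  subst e35
  subst e36
  subst e37
  subst e38
  subst e39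
  subst e40
  subst e41
  subst e42
  subst e43
  subst e44
  subst e45
  subst e46
  subst e47
  subst e48
  subst e49
  subst e50
  subst e51
  subst e52
  subst e53
  subst e54
  subst e55
  subst e56
  subst e57
  subst e58
  subst e59
  subst e60
  subst e61
  subst e62
  exact rot_47_48 X

theorem coi_47_57 {X z1 z2 z3 z4 z5 z6 z7 z8 z9 z10 z11 z12 z13 z14 z15 z16 z17 z18 z19 z20 z21 z22 z23 z24 z25 z26 z27 z28 z29 z30 z31 z32 z33 z34 z35 z36 z37 z38 z39 z40 z41 z42 z43 z44 z45 z46 z47 z48 z49 z50 z51 z52 z53 z54 z55 z56 z57 z58 z59 z60 z61 z62 z63 : Q} (e0 : sm gg X = z1) (e1 : sm gf z1 = z2) (e2 : sm ge z2 = z3) (e3 : sm gd z3 = z4) (e4 : sm gc z4 = z5) (e5 : sm gb z5 = z6) (e6 : sm gh z6 = z7) (e7 : sm gg z7 = z8) (e8 : sm gf z8 = z9) (e9 : sm ge z9 = z10) (e10 : sm gd z10 = z11) (e11 : sm gc z11 = z12) (e12 : sm gb z12 = z13) (e13 : sm gh z13 = z14) (e14 : sm gg z14 = z15) (e15 : sm gf z15 = z16) (e16 : sm ge z16 = z17) (e17 : sm gd z17 = z18) (e18 : sm gc z18 = z19) (e19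 : sm gb z19 = z20) (e20 : sm gh z20 = z21) (e21 : sm gg z21 = z22) (e22 : sm gf z22 = z23) (e23 : sm ge z23 = z24) (e24 : sm gd z24 = z25) (e25 : sm gc z25 = z26) (e26 : sm gb z26 = z27) (e27 : sm gh z27 = z28) (e28 : sm gg z28 = z29) (e29 : sm gf z29 = z30) (e30 : sm ge z30 = z31) (e31 : sm gd z31 = z32) (e32 : sm gc z32 = z33) (e33 : sm gb z33 = z34) (e34 : sm gh z34 = z35) (e35 : sm gg z35 = z36) (e36 : sm gf z36 = z37) (e37 : sm ge z37 = z38) (e38 : sm gd z38 = z39) (e39 : sm gc z39 = z40) (e40 : sm gb z40 = z41) (e41 : sm gh z41 = z42) (e42 : sm gg z42 = z43) (e43 : sm gf z43 = z44) (e44 : sm ge z44 = z45) (e45 : sm gd z45 = z46) (e46 : sm gc z46 = z47) (e47 : sm gb z47 = z48) (e48 : sm gh z48 = z49) (e49 : sm gg z49 = z50) (e50 : sm gf z50 = z51) (e51 : sm ge z51 = z52) (e52 : sm gd z52 = z53) (e53 : sm gc z53 = z54) (e54 : sm gb z54 = z55) (e55 : sm gh z55 = z56) (e56 : sm gg z56 = z57) (e57 : sm gf z57 = z58) (e58 : sm ge z58 = z59) (e59 : sm gd z59 = z60) (e60 : sm gc z60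 = z61) (e61 : sm gb z61 = z62) (e62 : sm gh z62 = z63) : z63 = X := by
  subst e0
  subst e1
  subst e2
  subst e3
  subst e4
  subst e5
  subst e6
  subst e7
  subst e8
  subst e9
  subst e10
  subst e11
  subst e12
  subst e13
  subst e14
  subst e15
  subst e16
  subst e17
  subst e18
  subst e19
  subst e20
  subst e21
  subst e22
  subst e23
  subst e24
  subst e25
  subst e26
  subst e27
  subst e28
  subst e29
  subst e30
  subst e31
  subst e32
  subst e33
  subst e34
  subst e35
  subst e36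
  subst e37
  subst e38
  subst e39
  subst e40
  subst e41
  subst e42
  subst e43
  subst e44
  subst e45
  subst e46
  subst e47
  subst e48
  subst e49
  subst e50
  subst e51
  subst e52
  subst e53
  subst e54
  subst e55
  subst e56
  subst e57
  subst e58
  subst e59
  subst e60
  subst e61
  subst e62
  exact rot_47_57 X

theorem ded_9_0 {X z1 z2 z3 z4 z5 : Q} (e0 : sm ga X = z1) (e1 : sm gb z1 = z2) (e2 : sm ga z2 = z3) (e3 : sm gb z3 = z4) (e4 : sm ga z4 = z5) : sm gb z5 = X := by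
  subst e0
  subst e1
  subst e2
  subst e3
  subst e4
  exact rot_9_1 X

theorem ded_9_1 {X z1 z2 z3 z4 z5 : Q} (e0 : sm gb X = z1) (e1 : sm ga z1 = z2) (e2 : sm gb z2 = z3) (e3 : sm ga z3 = z4) (e4 : sm gb z4 = z5) : sm ga z5 = X := by
  subst e0
  subst e1
  subst e2
  subst e3
  subst e4
  exact rot_9_2 X

theorem ded_9_2 {X z1 z2 z3 z4 z5 : Q} (e0 : sm ga X = z1) (e1 : sm gb z1 = z2) (e2 : sm ga z2 = z3) (e3 : sm gb z3 = z4) (e4 : sm ga z4 = z5) : sm gb z5 = X := by
  subst e0
  subst e1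
  subst e2
  subst e3
  subst e4
  exact rot_9_3 X

theorem ded_9_3 {X z1 z2 z3 z4 z5 : Q} (e0 : sm gb X = z1) (e1 : sm ga z1 = z2) (e2 : sm gb z2 = z3) (e3 : sm ga z3 = z4) (e4 : sm gb z4 = z5) : sm ga z5 = X := by
  subst e0
  subst e1
  subst e2
  subst e3
  subst e4
  exact rot_9_4 X

theorem ded_9_4 {X z1 z2 z3 z4 z5 : Q} (e0 : sm ga X = z1) (e1 : sm gb z1 = z2) (e2 : sm ga z2 = z3) (e3 : sm gb z3 = z4) (e4 : sm ga z4 = z5) : sm gb z5 = X := by
  subst e0
  subst e1
  subst e2
  subst e3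
  subst e4
  exact rot_9_5 X

theorem ded_10_0 {X z1 z2 z3 : Q} (e0 : sm ga X = z1) (e1 : sm gc z1 = z2) (e2 : sm ga z2 = z3) : sm gc z3 = X := by
  subst e0
  subst e1
  subst e2
  exact rot_10_1 X

theorem ded_10_1 {X z1 z2 z3 : Q} (e0 : sm gc X = z1) (e1 : sm ga z1 = z2) (e2 : sm gc z2 = z3) : sm ga z3 = X := by
  subst e0
  subst e1
  subst e2
  exact rot_10_2 X

theorem ded_10_2 {X z1 z2 z3 : Q} (e0 : sm ga X = z1) (e1 : sm gc z1 = z2) (e2 : sm ga z2 = z3) : sm gc z3 = X := by
  subst e0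
  subst e1
  subst e2
  exact rot_10_3 X

theorem ded_11_0 {X z1 z2 z3 : Q} (e0 : sm ga X = z1) (e1 : sm gd z1 = z2) (e2 : sm ga z2 = z3) : sm gd z3 = X := by
  subst e0
  subst e1
  subst e2
  exact rot_11_1 X

theorem ded_11_1 {X z1 z2 z3 : Q} (e0 : sm gd X = z1) (e1 : sm ga z1 = z2) (e2 : sm gd z2 = z3) : sm ga z3 = X := by
  subst e0
  subst e1
  subst e2
  exact rot_11_2 X

theorem ded_11_2 {X z1 z2 z3 : Q} (e0 : sm ga X = z1) (e1 : sm gd z1 = z2) (e2 : sm ga z2 = z3) : sm gd z3 = X := by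
  subst e0
  subst e1
  subst e2
  exact rot_11_3 X

theorem ded_11_3 {X z1 z2 z3 : Q} (e0 : sm gd X = z1) (e1 : sm ga z1 = z2) (e2 : sm gd z2 = z3) : sm ga z3 = X := by
  subst e0
  subst e1
  subst e2
  exact rot_11_0 X

theorem ded_12_0 {X z1 z2 z3 : Q} (e0 : sm ga X = z1) (e1 : sm ge z1 = z2) (e2 : sm ga z2 = z3) : sm ge z3 = X := by
  subst e0
  subst e1
  subst e2
  exact rot_12_1 X

theorem ded_12_1 {X z1 z2 z3 : Q} (e0 : sm ge X = z1) (e1 : sm ga z1 = z2) (e2 : sm ge z2 = z3) : sm ga z3 = X := by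
  subst e0
  subst e1
  subst e2
  exact rot_12_2 X

theorem ded_12_2 {X z1 z2 z3 : Q} (e0 : sm ga X = z1) (e1 : sm ge z1 = z2) (e2 : sm ga z2 = z3) : sm ge z3 = X := by
  subst e0
  subst e1
  subst e2
  exact rot_12_3 X

theorem ded_12_3 {X z1 z2 z3 : Q} (e0 : sm ge X = z1) (e1 : sm ga z1 = z2) (e2 : sm ge z2 = z3) : sm ga z3 = X := by
  subst e0
  subst e1
  subst e2
  exact rot_12_0 X

theorem ded_13_0 {X z1 z2 z3 : Q} (e0 : sm ga X = z1) (e1 : sm gf z1 = z2) (e2 : sm ga z2 = z3) : sm gf z3 = X := by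
  subst e0
  subst e1
  subst e2
  exact rot_13_1 X

theorem ded_13_1 {X z1 z2 z3 : Q} (e0 : sm gf X = z1) (e1 : sm ga z1 = z2) (e2 : sm gf z2 = z3) : sm ga z3 = X := by
  subst e0
  subst e1
  subst e2
  exact rot_13_2 X

theorem ded_13_2 {X z1 z2 z3 : Q} (e0 : sm ga X = z1) (e1 : sm gf z1 = z2) (e2 : sm ga z2 = z3) : sm gf z3 = X := by
  subst e0
  subst e1
  subst e2
  exact rot_13_3 X

theorem ded_13_3 {X z1 z2 z3 : Q} (e0 : sm gf X = z1) (e1 : sm ga z1 = z2) (e2 : sm gf z2 = z3) : sm ga z3 = X := by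
  subst e0
  subst e1
  subst e2
  exact rot_13_0 X

theorem ded_14_0 {X z1 z2 z3 : Q} (e0 : sm ga X = z1) (e1 : sm gg z1 = z2) (e2 : sm ga z2 = z3) : sm gg z3 = X := by
  subst e0
  subst e1
  subst e2
  exact rot_14_1 X

theorem ded_14_1 {X z1 z2 z3 : Q} (e0 : sm gg X = z1) (e1 : sm ga z1 = z2) (e2 : sm gg z2 = z3) : sm ga z3 = X := by
  subst e0
  subst e1
  subst e2
  exact rot_14_2 X

theorem ded_14_2 {X z1 z2 z3 : Q} (e0 : sm ga X = z1) (e1 : sm gg z1 = z2) (e2 : sm ga z2 = z3) : sm gg z3 = X := by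
  subst e0
  subst e1
  subst e2
  exact rot_14_3 X

theorem ded_15_0 {X z1 z2 z3 : Q} (e0 : sm ga X = z1) (e1 : sm gh z1 = z2) (e2 : sm ga z2 = z3) : sm gh z3 = X := by
  subst e0
  subst e1
  subst e2
  exact rot_15_1 X

theorem ded_15_1 {X z1 z2 z3 : Q} (e0 : sm gh X = z1) (e1 : sm ga z1 = z2) (e2 : sm gh z2 = z3) : sm ga z3 = X := by
  subst e0
  subst e1
  subst e2
  exact rot_15_2 X

theorem ded_15_2 {X z1 z2 z3 : Q} (e0 : sm ga X = z1) (e1 : sm gh z1 = z2) (e2 : sm ga z2 = z3) : sm gh z3 = X := by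
  subst e0
  subst e1
  subst e2
  exact rot_15_3 X

theorem ded_15_3 {X z1 z2 z3 : Q} (e0 : sm gh X = z1) (e1 : sm ga z1 = z2) (e2 : sm gh z2 = z3) : sm ga z3 = X := by
  subst e0
  subst e1
  subst e2
  exact rot_15_0 X

theorem ded_16_0 {X z1 z2 z3 : Q} (e0 : sm ga X = z1) (e1 : sm gi z1 = z2) (e2 : sm ga z2 = z3) : sm gi z3 = X := by
  subst e0
  subst e1
  subst e2
  exact rot_16_1 X

theorem ded_16_1 {X z1 z2 z3 : Q} (e0 : sm gi X = z1) (e1 : sm ga z1 = z2) (e2 : sm gi z2 = z3) : sm ga z3 = X := by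
  subst e0
  subst e1
  subst e2
  exact rot_16_2 X

theorem ded_16_2 {X z1 z2 z3 : Q} (e0 : sm ga X = z1) (e1 : sm gi z1 = z2) (e2 : sm ga z2 = z3) : sm gi z3 = X := by
  subst e0
  subst e1
  subst e2
  exact rot_16_3 X

theorem ded_16_3 {X z1 z2 z3 : Q} (e0 : sm gi X = z1) (e1 : sm ga z1 = z2) (e2 : sm gi z2 = z3) : sm ga z3 = X := by
  subst e0
  subst e1
  subst e2
  exact rot_16_0 X

theorem ded_17_0 {X z1 z2 z3 z4 z5 : Q} (e0 : sm gb X = z1) (e1 : sm gc z1 = z2) (e2 : sm gb z2 = z3) (e3 : sm gc z3 = z4) (e4 : sm gb z4 = z5) : sm gc z5 = X := by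
  subst e0
  subst e1
  subst e2
  subst e3
  subst e4
  exact rot_17_1 X

theorem ded_17_1 {X z1 z2 z3 z4 z5 : Q} (e0 : sm gc X = z1) (e1 : sm gb z1 = z2) (e2 : sm gc z2 = z3) (e3 : sm gb z3 = z4) (e4 : sm gc z4 = z5) : sm gb z5 = X := by
  subst e0
  subst e1
  subst e2
  subst e3
  subst e4
  exact rot_17_2 X

theorem ded_17_2 {X z1 z2 z3 z4 z5 : Q} (e0 : sm gb X = z1) (e1 : sm gc z1 = z2) (e2 : sm gb z2 = z3) (e3 : sm gc z3 = z4) (e4 : sm gb z4 = z5) : sm gc z5 = X := by
  subst e0
  subst e1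
  subst e2
  subst e3
  subst e4
  exact rot_17_3 X

theorem ded_17_3 {X z1 z2 z3 z4 z5 : Q} (e0 : sm gc X = z1) (e1 : sm gb z1 = z2) (e2 : sm gc z2 = z3) (e3 : sm gb z3 = z4) (e4 : sm gc z4 = z5) : sm gb z5 = X := by
  subst e0
  subst e1
  subst e2
  subst e3
  subst e4
  exact rot_17_4 X

theorem ded_18_0 {X z1 z2 z3 : Q} (e0 : sm gb X = z1) (e1 : sm gd z1 = z2) (e2 : sm gb z2 = z3) : sm gd z3 = X := by
  subst e0
  subst e1
  subst e2
  exact rot_18_1 X

theorem ded_18_1 {X z1 z2 z3 : Q} (e0 : sm gd X = z1) (e1 : sm gb z1 = z2) (e2 : sm gd z2 = z3) : sm gb z3 = X := by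
  subst e0
  subst e1
  subst e2
  exact rot_18_2 X

theorem ded_18_2 {X z1 z2 z3 : Q} (e0 : sm gb X = z1) (e1 : sm gd z1 = z2) (e2 : sm gb z2 = z3) : sm gd z3 = X := by
  subst e0
  subst e1
  subst e2
  exact rot_18_3 X

theorem ded_18_3 {X z1 z2 z3 : Q} (e0 : sm gd X = z1) (e1 : sm gb z1 = z2) (e2 : sm gd z2 = z3) : sm gb z3 = X := by
  subst e0
  subst e1
  subst e2
  exact rot_18_0 X

theorem ded_19_0 {X z1 z2 z3 : Q} (e0 : sm gb X = z1) (e1 : sm ge z1 = z2) (e2 : sm gb z2 = z3) : sm ge z3 = X := by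
  subst e0
  subst e1
  subst e2
  exact rot_19_1 X

theorem ded_19_1 {X z1 z2 z3 : Q} (e0 : sm ge X = z1) (e1 : sm gb z1 = z2) (e2 : sm ge z2 = z3) : sm gb z3 = X := by
  subst e0
  subst e1
  subst e2
  exact rot_19_2 X

theorem ded_19_2 {X z1 z2 z3 : Q} (e0 : sm gb X = z1) (e1 : sm ge z1 = z2) (e2 : sm gb z2 = z3) : sm ge z3 = X := by
  subst e0
  subst e1
  subst e2
  exact rot_19_3 X

theorem ded_19_3 {X z1 z2 z3 : Q} (e0 : sm ge X = z1) (e1 : sm gb z1 = z2) (e2 : sm ge z2 = z3) : sm gb z3 = X := by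
  subst e0
  subst e1
  subst e2
  exact rot_19_0 X

theorem ded_20_0 {X z1 z2 z3 : Q} (e0 : sm gb X = z1) (e1 : sm gf z1 = z2) (e2 : sm gb z2 = z3) : sm gf z3 = X := by
  subst e0
  subst e1
  subst e2
  exact rot_20_1 X

theorem ded_20_1 {X z1 z2 z3 : Q} (e0 : sm gf X = z1) (e1 : sm gb z1 = z2) (e2 : sm gf z2 = z3) : sm gb z3 = X := by
  subst e0
  subst e1
  subst e2
  exact rot_20_2 X

theorem ded_20_2 {X z1 z2 z3 : Q} (e0 : sm gb X = z1) (e1 : sm gf z1 = z2) (e2 : sm gb z2 = z3) : sm gf z3 = X := by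
  subst e0
  subst e1
  subst e2
  exact rot_20_3 X

theorem ded_20_3 {X z1 z2 z3 : Q} (e0 : sm gf X = z1) (e1 : sm gb z1 = z2) (e2 : sm gf z2 = z3) : sm gb z3 = X := by
  subst e0
  subst e1
  subst e2
  exact rot_20_0 X

theorem ded_21_0 {X z1 z2 z3 : Q} (e0 : sm gb X = z1) (e1 : sm gg z1 = z2) (e2 : sm gb z2 = z3) : sm gg z3 = X := by
  subst e0
  subst e1
  subst e2
  exact rot_21_1 X

theorem ded_21_1 {X z1 z2 z3 : Q} (e0 : sm gg X = z1) (e1 : sm gb z1 = z2) (e2 : sm gg z2 = z3) : sm gb z3 = X := by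
  subst e0
  subst e1
  subst e2
  exact rot_21_2 X

theorem ded_21_2 {X z1 z2 z3 : Q} (e0 : sm gb X = z1) (e1 : sm gg z1 = z2) (e2 : sm gb z2 = z3) : sm gg z3 = X := by
  subst e0
  subst e1
  subst e2
  exact rot_21_3 X

theorem ded_21_3 {X z1 z2 z3 : Q} (e0 : sm gg X = z1) (e1 : sm gb z1 = z2) (e2 : sm gg z2 = z3) : sm gb z3 = X := by
  subst e0
  subst e1
  subst e2
  exact rot_21_0 X

theorem ded_22_0 {X z1 z2 z3 : Q} (e0 : sm gb X = z1) (e1 : sm gh z1 = z2) (e2 : sm gb z2 = z3) : sm gh z3 = X := by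
  subst e0
  subst e1
  subst e2
  exact rot_22_1 X

theorem ded_22_1 {X z1 z2 z3 : Q} (e0 : sm gh X = z1) (e1 : sm gb z1 = z2) (e2 : sm gh z2 = z3) : sm gb z3 = X := by
  subst e0
  subst e1
  subst e2
  exact rot_22_2 X

theorem ded_22_2 {X z1 z2 z3 : Q} (e0 : sm gb X = z1) (e1 : sm gh z1 = z2) (e2 : sm gb z2 = z3) : sm gh z3 = X := by
  subst e0
  subst e1
  subst e2
  exact rot_22_3 X

theorem ded_22_3 {X z1 z2 z3 : Q} (e0 : sm gh X = z1) (e1 : sm gb z1 = z2) (e2 : sm gh z2 = z3) : sm gb z3 = X := by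
  subst e0
  subst e1
  subst e2
  exact rot_22_0 X

theorem ded_23_0 {X z1 z2 z3 : Q} (e0 : sm gb X = z1) (e1 : sm gi z1 = z2) (e2 : sm gb z2 = z3) : sm gi z3 = X := by
  subst e0
  subst e1
  subst e2
  exact rot_23_1 X

theorem ded_23_1 {X z1 z2 z3 : Q} (e0 : sm gi X = z1) (e1 : sm gb z1 = z2) (e2 : sm gi z2 = z3) : sm gb z3 = X := by
  subst e0
  subst e1
  subst e2
  exact rot_23_2 X

theorem ded_23_2 {X z1 z2 z3 : Q} (e0 : sm gb X = z1) (e1 : sm gi z1 = z2) (e2 : sm gb z2 = z3) : sm gi z3 = X := by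
  subst e0
  subst e1
  subst e2
  exact rot_23_3 X

theorem ded_23_3 {X z1 z2 z3 : Q} (e0 : sm gi X = z1) (e1 : sm gb z1 = z2) (e2 : sm gi z2 = z3) : sm gb z3 = X := by
  subst e0
  subst e1
  subst e2
  exact rot_23_0 X

theorem ded_24_0 {X z1 z2 z3 z4 z5 : Q} (e0 : sm gc X = z1) (e1 : sm gd z1 = z2) (e2 : sm gc z2 = z3) (e3 : sm gd z3 = z4) (e4 : sm gc z4 = z5) : sm gd z5 = X := by
  subst e0
  subst e1
  subst e2
  subst e3
  subst e4
  exact rot_24_1 X

theorem ded_24_1 {X z1 z2 z3 z4 z5 : Q} (e0 : sm gd X = z1) (e1 : sm gc z1 = z2) (e2 : sm gd z2 = z3) (e3 : sm gc z3 = z4) (e4 : sm gd z4 = z5) : sm gc z5 = X := by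
  subst e0
  subst e1
  subst e2
  subst e3
  subst e4
  exact rot_24_2 X

theorem ded_24_2 {X z1 z2 z3 z4 z5 : Q} (e0 : sm gc X = z1) (e1 : sm gd z1 = z2) (e2 : sm gc z2 = z3) (e3 : sm gd z3 = z4) (e4 : sm gc z4 = z5) : sm gd z5 = X := by
  subst e0
  subst e1
  subst e2
  subst e3
  subst e4
  exact rot_24_3 X

theorem ded_24_3 {X z1 z2 z3 z4 z5 : Q} (e0 : sm gd X = z1) (e1 : sm gc z1 = z2) (e2 : sm gd z2 = z3) (e3 : sm gc z3 = z4) (e4 : sm gd z4 = z5) : sm gc z5 = X := by
  subst e0
  subst e1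
  subst e2
  subst e3
  subst e4
  exact rot_24_4 X

theorem ded_24_4 {X z1 z2 z3 z4 z5 : Q} (e0 : sm gc X = z1) (e1 : sm gd z1 = z2) (e2 : sm gc z2 = z3) (e3 : sm gd z3 = z4) (e4 : sm gc z4 = z5) : sm gd z5 = X := by
  subst e0
  subst e1
  subst e2
  subst e3
  subst e4
  exact rot_24_5 X

theorem ded_25_0 {X z1 z2 z3 : Q} (e0 : sm gc X = z1) (e1 : sm ge z1 = z2) (e2 : sm gc z2 = z3) : sm ge z3 = X := by
  subst e0
  subst e1
  subst e2
  exact rot_25_1 X

theorem ded_25_1 {X z1 z2 z3 : Q} (e0 : sm ge X = z1) (e1 : sm gc z1 = z2) (e2 : sm ge z2 = z3) : sm gc z3 = X := by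
  subst e0
  subst e1
  subst e2
  exact rot_25_2 X

theorem ded_25_2 {X z1 z2 z3 : Q} (e0 : sm gc X = z1) (e1 : sm ge z1 = z2) (e2 : sm gc z2 = z3) : sm ge z3 = X := by
  subst e0
  subst e1
  subst e2
  exact rot_25_3 X

theorem ded_25_3 {X z1 z2 z3 : Q} (e0 : sm ge X = z1) (e1 : sm gc z1 = z2) (e2 : sm ge z2 = z3) : sm gc z3 = X := by
  subst e0
  subst e1
  subst e2
  exact rot_25_0 X

theorem ded_26_0 {X z1 z2 z3 : Q} (e0 : sm gc X = z1) (e1 : sm gf z1 = z2) (e2 : sm gc z2 = z3) : sm gf z3 = X := by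
  subst e0
  subst e1
  subst e2
  exact rot_26_1 X

theorem ded_26_1 {X z1 z2 z3 : Q} (e0 : sm gf X = z1) (e1 : sm gc z1 = z2) (e2 : sm gf z2 = z3) : sm gc z3 = X := by
  subst e0
  subst e1
  subst e2
  exact rot_26_2 X

theorem ded_26_2 {X z1 z2 z3 : Q} (e0 : sm gc X = z1) (e1 : sm gf z1 = z2) (e2 : sm gc z2 = z3) : sm gf z3 = X := by
  subst e0
  subst e1
  subst e2
  exact rot_26_3 X

theorem ded_26_3 {X z1 z2 z3 : Q} (e0 : sm gf X = z1) (e1 : sm gc z1 = z2) (e2 : sm gf z2 = z3) : sm gc z3 = X := by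
  subst e0
  subst e1
  subst e2
  exact rot_26_0 X

theorem ded_27_0 {X z1 z2 z3 : Q} (e0 : sm gc X = z1) (e1 : sm gg z1 = z2) (e2 : sm gc z2 = z3) : sm gg z3 = X := by
  subst e0
  subst e1
  subst e2
  exact rot_27_1 X

theorem ded_27_1 {X z1 z2 z3 : Q} (e0 : sm gg X = z1) (e1 : sm gc z1 = z2) (e2 : sm gg z2 = z3) : sm gc z3 = X := by
  subst e0
  subst e1
  subst e2
  exact rot_27_2 X

theorem ded_27_2 {X z1 z2 z3 : Q} (e0 : sm gc X = z1) (e1 : sm gg z1 = z2) (e2 : sm gc z2 = z3) : sm gg z3 = X := by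
  subst e0
  subst e1
  subst e2
  exact rot_27_3 X

theorem ded_27_3 {X z1 z2 z3 : Q} (e0 : sm gg X = z1) (e1 : sm gc z1 = z2) (e2 : sm gg z2 = z3) : sm gc z3 = X := by
  subst e0
  subst e1
  subst e2
  exact rot_27_0 X

theorem ded_28_0 {X z1 z2 z3 : Q} (e0 : sm gc X = z1) (e1 : sm gh z1 = z2) (e2 : sm gc z2 = z3) : sm gh z3 = X := by
  subst e0
  subst e1
  subst e2
  exact rot_28_1 X

theorem ded_28_1 {X z1 z2 z3 : Q} (e0 : sm gh X = z1) (e1 : sm gc z1 = z2) (e2 : sm gh z2 = z3) : sm gc z3 = X := by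
  subst e0
  subst e1
  subst e2
  exact rot_28_2 X

theorem ded_28_2 {X z1 z2 z3 : Q} (e0 : sm gc X = z1) (e1 : sm gh z1 = z2) (e2 : sm gc z2 = z3) : sm gh z3 = X := by
  subst e0
  subst e1
  subst e2
  exact rot_28_3 X

theorem ded_28_3 {X z1 z2 z3 : Q} (e0 : sm gh X = z1) (e1 : sm gc z1 = z2) (e2 : sm gh z2 = z3) : sm gc z3 = X := by
  subst e0
  subst e1
  subst e2
  exact rot_28_0 X

theorem ded_29_0 {X z1 z2 z3 : Q} (e0 : sm gc X = z1) (e1 : sm gi z1 = z2) (e2 : sm gc z2 = z3) : sm gi z3 = X := by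
  subst e0
  subst e1
  subst e2
  exact rot_29_1 X

theorem ded_29_1 {X z1 z2 z3 : Q} (e0 : sm gi X = z1) (e1 : sm gc z1 = z2) (e2 : sm gi z2 = z3) : sm gc z3 = X := by
  subst e0
  subst e1
  subst e2
  exact rot_29_2 X

theorem ded_29_2 {X z1 z2 z3 : Q} (e0 : sm gc X = z1) (e1 : sm gi z1 = z2) (e2 : sm gc z2 = z3) : sm gi z3 = X := by
  subst e0
  subst e1
  subst e2
  exact rot_29_3 X

theorem ded_29_3 {X z1 z2 z3 : Q} (e0 : sm gi X = z1) (e1 : sm gc z1 = z2) (e2 : sm gi z2 = z3) : sm gc z3 = X := by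
  subst e0
  subst e1
  subst e2
  exact rot_29_0 X

theorem ded_30_0 {X z1 z2 z3 z4 z5 : Q} (e0 : sm gd X = z1) (e1 : sm ge z1 = z2) (e2 : sm gd z2 = z3) (e3 : sm ge z3 = z4) (e4 : sm gd z4 = z5) : sm ge z5 = X := by
  subst e0
  subst e1
  subst e2
  subst e3
  subst e4
  exact rot_30_1 X

theorem ded_30_1 {X z1 z2 z3 z4 z5 : Q} (e0 : sm ge X = z1) (e1 : sm gd z1 = z2) (e2 : sm ge z2 = z3) (e3 : sm gd z3 = z4) (e4 : sm ge z4 = z5) : sm gd z5 = X := by
  subst e0
  subst e1
  subst e2
  subst e3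
  subst e4
  exact rot_30_2 X

theorem ded_30_2 {X z1 z2 z3 z4 z5 : Q} (e0 : sm gd X = z1) (e1 : sm ge z1 = z2) (e2 : sm gd z2 = z3) (e3 : sm ge z3 = z4) (e4 : sm gd z4 = z5) : sm ge z5 = X := by
  subst e0
  subst e1
  subst e2
  subst e3
  subst e4
  exact rot_30_3 X

theorem ded_30_3 {X z1 z2 z3 z4 z5 : Q} (e0 : sm ge X = z1) (e1 : sm gd z1 = z2) (e2 : sm ge z2 = z3) (e3 : sm gd z3 = z4) (e4 : sm ge z4 = z5) : sm gd z5 = X := by
  subst e0
  subst e1
  subst e2
  subst e3
  subst e4
  exact rot_30_4 X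

theorem ded_30_5 {X z1 z2 z3 z4 z5 : Q} (e0 : sm ge X = z1) (e1 : sm gd z1 = z2) (e2 : sm ge z2 = z3) (e3 : sm gd z3 = z4) (e4 : sm ge z4 = z5) : sm gd z5 = X := by
  subst e0
  subst e1
  subst e2
  subst e3
  subst e4
  exact rot_30_0 X

theorem ded_31_0 {X z1 z2 z3 : Q} (e0 : sm gd X = z1) (e1 : sm gf z1 = z2) (e2 : sm gd z2 = z3) : sm gf z3 = X := by
  subst e0
  subst e1
  subst e2
  exact rot_31_1 X

theorem ded_31_1 {X z1 z2 z3 : Q} (e0 : sm gf X = z1) (e1 : sm gd z1 = z2) (e2 : sm gf z2 = z3) : sm gd z3 = X := by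
  subst e0
  subst e1
  subst e2
  exact rot_31_2 X

theorem ded_31_2 {X z1 z2 z3 : Q} (e0 : sm gd X = z1) (e1 : sm gf z1 = z2) (e2 : sm gd z2 = z3) : sm gf z3 = X := by
  subst e0
  subst e1
  subst e2
  exact rot_31_3 X

theorem ded_31_3 {X z1 z2 z3 : Q} (e0 : sm gf X = z1) (e1 : sm gd z1 = z2) (e2 : sm gf z2 = z3) : sm gd z3 = X := by
  subst e0
  subst e1
  subst e2
  exact rot_31_0 X

theorem ded_32_0 {X z1 z2 z3 : Q} (e0 : sm gd X = z1) (e1 : sm gg z1 = z2) (e2 : sm gd z2 = z3) : sm gg z3 = X := by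
  subst e0
  subst e1
  subst e2
  exact rot_32_1 X

theorem ded_32_1 {X z1 z2 z3 : Q} (e0 : sm gg X = z1) (e1 : sm gd z1 = z2) (e2 : sm gg z2 = z3) : sm gd z3 = X := by
  subst e0
  subst e1
  subst e2
  exact rot_32_2 X

theorem ded_32_2 {X z1 z2 z3 : Q} (e0 : sm gd X = z1) (e1 : sm gg z1 = z2) (e2 : sm gd z2 = z3) : sm gg z3 = X := by
  subst e0
  subst e1
  subst e2
  exact rot_32_3 X

theorem ded_32_3 {X z1 z2 z3 : Q} (e0 : sm gg X = z1) (e1 : sm gd z1 = z2) (e2 : sm gg z2 = z3) : sm gd z3 = X := by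
  subst e0
  subst e1
  subst e2
  exact rot_32_0 X

theorem ded_33_0 {X z1 z2 z3 z4 z5 : Q} (e0 : sm gd X = z1) (e1 : sm gh z1 = z2) (e2 : sm gd z2 = z3) (e3 : sm gh z3 = z4) (e4 : sm gd z4 = z5) : sm gh z5 = X := by
  subst e0
  subst e1
  subst e2
  subst e3
  subst e4
  exact rot_33_1 X

theorem ded_33_1 {X z1 z2 z3 z4 z5 : Q} (e0 : sm gh X = z1) (e1 : sm gd z1 = z2) (e2 : sm gh z2 = z3) (e3 : sm gd z3 = z4) (e4 : sm gh z4 = z5) : sm gd z5 = X := by
  subst e0
  subst e1
  subst e2
  subst e3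
  subst e4
  exact rot_33_2 X

theorem ded_33_2 {X z1 z2 z3 z4 z5 : Q} (e0 : sm gd X = z1) (e1 : sm gh z1 = z2) (e2 : sm gd z2 = z3) (e3 : sm gh z3 = z4) (e4 : sm gd z4 = z5) : sm gh z5 = X := by
  subst e0
  subst e1
  subst e2
  subst e3
  subst e4
  exact rot_33_3 X

theorem ded_33_3 {X z1 z2 z3 z4 z5 : Q} (e0 : sm gh X = z1) (e1 : sm gd z1 = z2) (e2 : sm gh z2 = z3) (e3 : sm gd z3 = z4) (e4 : sm gh z4 = z5) : sm gd z5 = X := by
  subst e0
  subst e1
  subst e2
  subst e3
  subst e4
  exact rot_33_4 X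

theorem ded_33_4 {X z1 z2 z3 z4 z5 : Q} (e0 : sm gd X = z1) (e1 : sm gh z1 = z2) (e2 : sm gd z2 = z3) (e3 : sm gh z3 = z4) (e4 : sm gd z4 = z5) : sm gh z5 = X := by
  subst e0
  subst e1
  subst e2
  subst e3
  subst e4
  exact rot_33_5 X

theorem ded_33_5 {X z1 z2 z3 z4 z5 : Q} (e0 : sm gh X = z1) (e1 : sm gd z1 = z2) (e2 : sm gh z2 = z3) (e3 : sm gd z3 = z4) (e4 : sm gh z4 = z5) : sm gd z5 = X := by
  subst e0
  subst e1
  subst e2
  subst e3
  subst e4
  exact rot_33_0 X

theorem ded_34_0 {X z1 z2 z3 : Q} (e0 : sm gd X = z1) (e1 : sm gi z1 = z2) (e2 : sm gd z2 = z3) : sm gi z3 = X := by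
  subst e0
  subst e1
  subst e2
  exact rot_34_1 X

theorem ded_34_1 {X z1 z2 z3 : Q} (e0 : sm gi X = z1) (e1 : sm gd z1 = z2) (e2 : sm gi z2 = z3) : sm gd z3 = X := by
  subst e0
  subst e1
  subst e2
  exact rot_34_2 X

theorem ded_34_2 {X z1 z2 z3 : Q} (e0 : sm gd X = z1) (e1 : sm gi z1 = z2) (e2 : sm gd z2 = z3) : sm gi z3 = X := by
  subst e0
  subst e1
  subst e2
  exact rot_34_3 X

theorem ded_34_3 {X z1 z2 z3 : Q} (e0 : sm gi X = z1) (e1 : sm gd z1 = z2) (e2 : sm gi z2 = z3) : sm gd z3 = X := by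
  subst e0
  subst e1
  subst e2
  exact rot_34_0 X

theorem ded_35_0 {X z1 z2 z3 z4 z5 : Q} (e0 : sm ge X = z1) (e1 : sm gf z1 = z2) (e2 : sm ge z2 = z3) (e3 : sm gf z3 = z4) (e4 : sm ge z4 = z5) : sm gf z5 = X := by
  subst e0
  subst e1
  subst e2
  subst e3
  subst e4
  exact rot_35_1 X

theorem ded_35_1 {X z1 z2 z3 z4 z5 : Q} (e0 : sm gf X = z1) (e1 : sm ge z1 = z2) (e2 : sm gf z2 = z3) (e3 : sm ge z3 = z4) (e4 : sm gf z4 = z5) : sm ge z5 = X := by
  subst e0
  subst e1
  subst e2
  subst e3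
  subst e4
  exact rot_35_2 X

theorem ded_35_2 {X z1 z2 z3 z4 z5 : Q} (e0 : sm ge X = z1) (e1 : sm gf z1 = z2) (e2 : sm ge z2 = z3) (e3 : sm gf z3 = z4) (e4 : sm ge z4 = z5) : sm gf z5 = X := by
  subst e0
  subst e1
  subst e2
  subst e3
  subst e4
  exact rot_35_3 X

theorem ded_35_4 {X z1 z2 z3 z4 z5 : Q} (e0 : sm ge X = z1) (e1 : sm gf z1 = z2) (e2 : sm ge z2 = z3) (e3 : sm gf z3 = z4) (e4 : sm ge z4 = z5) : sm gf z5 = X := by
  subst e0
  subst e1
  subst e2
  subst e3
  subst e4
  exact rot_35_5 X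

theorem ded_35_5 {X z1 z2 z3 z4 z5 : Q} (e0 : sm gf X = z1) (e1 : sm ge z1 = z2) (e2 : sm gf z2 = z3) (e3 : sm ge z3 = z4) (e4 : sm gf z4 = z5) : sm ge z5 = X := by
  subst e0
  subst e1
  subst e2
  subst e3
  subst e4
  exact rot_35_0 X

theorem ded_36_0 {X z1 z2 z3 : Q} (e0 : sm ge X = z1) (e1 : sm gg z1 = z2) (e2 : sm ge z2 = z3) : sm gg z3 = X := by
  subst e0
  subst e1
  subst e2
  exact rot_36_1 X

theorem ded_36_1 {X z1 z2 z3 : Q} (e0 : sm gg X = z1) (e1 : sm ge z1 = z2) (e2 : sm gg z2 = z3) : sm ge z3 = X := by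
  subst e0
  subst e1
  subst e2
  exact rot_36_2 X

theorem ded_36_2 {X z1 z2 z3 : Q} (e0 : sm ge X = z1) (e1 : sm gg z1 = z2) (e2 : sm ge z2 = z3) : sm gg z3 = X := by
  subst e0
  subst e1
  subst e2
  exact rot_36_3 X

theorem ded_36_3 {X z1 z2 z3 : Q} (e0 : sm gg X = z1) (e1 : sm ge z1 = z2) (e2 : sm gg z2 = z3) : sm ge z3 = X := by
  subst e0
  subst e1
  subst e2
  exact rot_36_0 X

theorem ded_37_0 {X z1 z2 z3 : Q} (e0 : sm ge X = z1) (e1 : sm gh z1 = z2) (e2 : sm ge z2 = z3) : sm gh z3 = X := by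
  subst e0
  subst e1
  subst e2
  exact rot_37_1 X

theorem ded_37_1 {X z1 z2 z3 : Q} (e0 : sm gh X = z1) (e1 : sm ge z1 = z2) (e2 : sm gh z2 = z3) : sm ge z3 = X := by
  subst e0
  subst e1
  subst e2
  exact rot_37_2 X

theorem ded_37_2 {X z1 z2 z3 : Q} (e0 : sm ge X = z1) (e1 : sm gh z1 = z2) (e2 : sm ge z2 = z3) : sm gh z3 = X := by
  subst e0
  subst e1
  subst e2
  exact rot_37_3 X

theorem ded_37_3 {X z1 z2 z3 : Q} (e0 : sm gh X = z1) (e1 : sm ge z1 = z2) (e2 : sm gh z2 = z3) : sm ge z3 = X := by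
  subst e0
  subst e1
  subst e2
  exact rot_37_0 X

theorem ded_38_0 {X z1 z2 z3 : Q} (e0 : sm ge X = z1) (e1 : sm gi z1 = z2) (e2 : sm ge z2 = z3) : sm gi z3 = X := by
  subst e0
  subst e1
  subst e2
  exact rot_38_1 X

theorem ded_38_1 {X z1 z2 z3 : Q} (e0 : sm gi X = z1) (e1 : sm ge z1 = z2) (e2 : sm gi z2 = z3) : sm ge z3 = X := by
  subst e0
  subst e1
  subst e2
  exact rot_38_2 X

theorem ded_38_2 {X z1 z2 z3 : Q} (e0 : sm ge X = z1) (e1 : sm gi z1 = z2) (e2 : sm ge z2 = z3) : sm gi z3 = X := by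
  subst e0
  subst e1
  subst e2
  exact rot_38_3 X

theorem ded_38_3 {X z1 z2 z3 : Q} (e0 : sm gi X = z1) (e1 : sm ge z1 = z2) (e2 : sm gi z2 = z3) : sm ge z3 = X := by
  subst e0
  subst e1
  subst e2
  exact rot_38_0 X

theorem ded_39_0 {X z1 z2 z3 z4 z5 : Q} (e0 : sm gf X = z1) (e1 : sm gg z1 = z2) (e2 : sm gf z2 = z3) (e3 : sm gg z3 = z4) (e4 : sm gf z4 = z5) : sm gg z5 = X := by
  subst e0
  subst e1
  subst e2
  subst e3
  subst e4
  exact rot_39_1 X

theorem ded_39_1 {X z1 z2 z3 z4 z5 : Q} (e0 : sm gg X = z1) (e1 : sm gf z1 = z2) (e2 : sm gg z2 = z3) (e3 : sm gf z3 = z4) (e4 : sm gg z4 = z5) : sm gf z5 = X := by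
  subst e0
  subst e1
  subst e2
  subst e3
  subst e4
  exact rot_39_2 X

theorem ded_39_2 {X z1 z2 z3 z4 z5 : Q} (e0 : sm gf X = z1) (e1 : sm gg z1 = z2) (e2 : sm gf z2 = z3) (e3 : sm gg z3 = z4) (e4 : sm gf z4 = z5) : sm gg z5 = X := by
  subst e0
  subst e1
  subst e2
  subst e3
  subst e4
  exact rot_39_3 X

theorem ded_39_3 {X z1 z2 z3 z4 z5 : Q} (e0 : sm gg X = z1) (e1 : sm gf z1 = z2) (e2 : sm gg z2 = z3) (e3 : sm gf z3 = z4) (e4 : sm gg z4 = z5) : sm gf z5 = X := by
  subst e0
  subst e1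
  subst e2
  subst e3
  subst e4
  exact rot_39_4 X

theorem ded_39_5 {X z1 z2 z3 z4 z5 : Q} (e0 : sm gg X = z1) (e1 : sm gf z1 = z2) (e2 : sm gg z2 = z3) (e3 : sm gf z3 = z4) (e4 : sm gg z4 = z5) : sm gf z5 = X := by
  subst e0
  subst e1
  subst e2
  subst e3
  subst e4
  exact rot_39_0 X

theorem ded_40_0 {X z1 z2 z3 : Q} (e0 : sm gf X = z1) (e1 : sm gh z1 = z2) (e2 : sm gf z2 = z3) : sm gh z3 = X := by
  subst e0
  subst e1
  subst e2
  exact rot_40_1 X

theorem ded_40_1 {X z1 z2 z3 : Q} (e0 : sm gh X = z1) (e1 : sm gf z1 = z2) (e2 : sm gh z2 = z3) : sm gf z3 = X := by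
  subst e0
  subst e1
  subst e2
  exact rot_40_2 X

theorem ded_40_2 {X z1 z2 z3 : Q} (e0 : sm gf X = z1) (e1 : sm gh z1 = z2) (e2 : sm gf z2 = z3) : sm gh z3 = X := by
  subst e0
  subst e1
  subst e2
  exact rot_40_3 X

theorem ded_40_3 {X z1 z2 z3 : Q} (e0 : sm gh X = z1) (e1 : sm gf z1 = z2) (e2 : sm gh z2 = z3) : sm gf z3 = X := by
  subst e0
  subst e1
  subst e2
  exact rot_40_0 X

theorem ded_41_0 {X z1 z2 z3 : Q} (e0 : sm gf X = z1) (e1 : sm gi z1 = z2) (e2 : sm gf z2 = z3) : sm gi z3 = X := by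
  subst e0
  subst e1
  subst e2
  exact rot_41_1 X

theorem ded_41_1 {X z1 z2 z3 : Q} (e0 : sm gi X = z1) (e1 : sm gf z1 = z2) (e2 : sm gi z2 = z3) : sm gf z3 = X := by
  subst e0
  subst e1
  subst e2
  exact rot_41_2 X

theorem ded_41_2 {X z1 z2 z3 : Q} (e0 : sm gf X = z1) (e1 : sm gi z1 = z2) (e2 : sm gf z2 = z3) : sm gi z3 = X := by
  subst e0
  subst e1
  subst e2
  exact rot_41_3 X

theorem ded_41_3 {X z1 z2 z3 : Q} (e0 : sm gi X = z1) (e1 : sm gf z1 = z2) (e2 : sm gi z2 = z3) : sm gf z3 = X := by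
  subst e0
  subst e1
  subst e2
  exact rot_41_0 X

theorem ded_42_0 {X z1 z2 z3 : Q} (e0 : sm gg X = z1) (e1 : sm gh z1 = z2) (e2 : sm gg z2 = z3) : sm gh z3 = X := by
  subst e0
  subst e1
  subst e2
  exact rot_42_1 X

theorem ded_42_1 {X z1 z2 z3 : Q} (e0 : sm gh X = z1) (e1 : sm gg z1 = z2) (e2 : sm gh z2 = z3) : sm gg z3 = X := by
  subst e0
  subst e1
  subst e2
  exact rot_42_2 X

theorem ded_42_2 {X z1 z2 z3 : Q} (e0 : sm gg X = z1) (e1 : sm gh z1 = z2) (e2 : sm gg z2 = z3) : sm gh z3 = X := by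
  subst e0
  subst e1
  subst e2
  exact rot_42_3 X

theorem ded_42_3 {X z1 z2 z3 : Q} (e0 : sm gh X = z1) (e1 : sm gg z1 = z2) (e2 : sm gh z2 = z3) : sm gg z3 = X := by
  subst e0
  subst e1
  subst e2
  exact rot_42_0 X

theorem ded_43_1 {X z1 z2 z3 : Q} (e0 : sm gi X = z1) (e1 : sm gg z1 = z2) (e2 : sm gi z2 = z3) : sm gg z3 = X := by
  subst e0
  subst e1
  subst e2
  exact rot_43_2 X

theorem ded_43_2 {X z1 z2 z3 : Q} (e0 : sm gg X = z1) (e1 : sm gi z1 = z2) (e2 : sm gg z2 = z3) : sm gi z3 = X := by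
  subst e0
  subst e1
  subst e2
  exact rot_43_3 X

theorem ded_43_3 {X z1 z2 z3 : Q} (e0 : sm gi X = z1) (e1 : sm gg z1 = z2) (e2 : sm gi z2 = z3) : sm gg z3 = X := by
  subst e0
  subst e1
  subst e2
  exact rot_43_0 X

theorem ded_44_1 {X z1 z2 z3 z4 z5 : Q} (e0 : sm gi X = z1) (e1 : sm gh z1 = z2) (e2 : sm gi z2 = z3) (e3 : sm gh z3 = z4) (e4 : sm gi z4 = z5) : sm gh z5 = X := by
  subst e0
  subst e1
  subst e2
  subst e3
  subst e4
  exact rot_44_2 X

theorem ded_44_2 {X z1 z2 z3 z4 z5 : Q} (e0 : sm gh X = z1) (e1 : sm gi z1 = z2) (e2 : sm gh z2 = z3) (e3 : sm gi z3 = z4) (e4 : sm gh z4 = z5) : sm gi z5 = X := by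
  subst e0
  subst e1
  subst e2
  subst e3
  subst e4
  exact rot_44_3 X

theorem ded_44_4 {X z1 z2 z3 z4 z5 : Q} (e0 : sm gh X = z1) (e1 : sm gi z1 = z2) (e2 : sm gh z2 = z3) (e3 : sm gi z3 = z4) (e4 : sm gh z4 = z5) : sm gi z5 = X := by
  subst e0
  subst e1
  subst e2
  subst e3
  subst e4
  exact rot_44_5 X

theorem ded_44_5 {X z1 z2 z3 z4 z5 : Q} (e0 : sm gi X = z1) (e1 : sm gh z1 = z2) (e2 : sm gi z2 = z3) (e3 : sm gh z3 = z4) (e4 : sm gi z4 = z5) : sm gh z5 = X := by
  subst e0
  subst e1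
  subst e2
  subst e3
  subst e4
  exact rot_44_0 X

theorem ded_45_3 {X z1 z2 z3 z4 z5 z6 z7 z8 z9 z10 z11 z12 z13 z14 z15 z16 z17 z18 z19 z20 z21 z22 z23 z24 z25 z26 z27 z28 z29 z30 z31 z32 z33 z34 z35 z36 z37 z38 z39 z40 z41 z42 z43 z44 z45 z46 z47 z48 z49 z50 z51 z52 z53 z54 z55 z56 z57 z58 z59 z60 z61 z62 z63 z64 z65 z66 z67 z68 z69 z70 z71 z72 z73 z74 z75 z76 z77 z78 z79 z80 z81 z82 z83 z84 z85 z86 z87 z88 z89 : Q} (e0 : sm ge X = z1) (e1 : sm gd z1 = z2) (e2 : sm gb z2 = z3) (e3 : sm gc z3 = z4) (e4 : sm gd z4 = z5) (e5 : sm gi z5 = z6) (e6 : sm gh z6 = z7) (e7 : sm gd z7 = z8) (e8 : sm gf z8 = z9) (e9 : sm ge z9 = z10) (e10 : sm gd z10 = z11) (e11 : sm gb z11 = z12) (e12 : sm gc z12 = z13) (e13 : sm gd z13 = z14) (e14 : sm gi z14 = z15) (e15 : sm gh z15 = z16) (e16 : sm gd z16 = z17) (e17 : sm gf z17 = z18) (e18 : sm ge z18 = z19) (e19 : sm gd z19 = z20) (e20 : sm gb z20 = z21) (e21 : sm gc z21 = z22) (e22 : sm gd z22 = z23) (e23 : sm gi z23 = z24) (e24 : sm gh z24 = z25)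 (e25 : sm gd z25 = z26) (e26 : sm gf z26 = z27) (e27 : sm ge z27 = z28) (e28 : sm gd z28 = z29) (e29 : sm gb z29 = z30) (e30 : sm gc z30 = z31) (e31 : sm gd z31 = z32) (e32 : sm gi z32 = z33) (e33 : sm gh z33 = z34) (e34 : sm gd z34 = z35) (e35 : sm gf z35 = z36) (e36 : sm ge z36 = z37) (e37 : sm gd z37 = z38) (e38 : sm gb z38 = z39) (e39 : sm gc z39 = z40) (e40 : sm gd z40 = z41) (e41 : sm gi z41 = z42) (e42 : sm gh z42 = z43) (e43 : sm gd z43 = z44) (e44 : sm gf z44 = z45) (e45 : sm ge z45 = z46) (e46 : sm gd z46 = z47) (e47 : sm gb z47 = z48) (e48 : sm gc z48 = z49) (e49 : sm gd z49 = z50) (e50 : sm gi z50 = z51) (e51 : sm gh z51 = z52) (e52 : sm gd z52 = z53) (e53 : sm gf z53 = z54) (e54 : sm ge z54 = z55) (e55 : sm gd z55 = z56) (e56 : sm gb z56 = z57) (e57 : sm gc z57 = z58) (e58 : sm gd z58 = z59) (e59 : sm gi z59 = z60) (e60 : sm gh z60 = z61) (e61 : sm gd z61 = z62) (e62 : sm gf z62 = z63) (e63 : sm ge z63 = z64) (e64 : sm gd z64 = z65) (e65 : sm gb z65 = z66) (e66 : sm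 gc z66 = z67) (e67 : sm gd z67 = z68) (e68 : sm gi z68 = z69) (e69 : sm gh z69 = z70) (e70 : sm gd z70 = z71) (e71 : sm gf z71 = z72) (e72 : sm ge z72 = z73) (e73 : sm gd z73 = z74) (e74 : sm gb z74 = z75) (e75 : sm gc z75 = z76) (e76 : sm gd z76 = z77) (e77 : sm gi z77 = z78) (e78 : sm gh z78 = z79) (e79 : sm gd z79 = z80) (e80 : sm gf z80 = z81) (e81 : sm ge z81 = z82) (e82 : sm gd z82 = z83) (e83 : sm gb z83 = z84) (e84 : sm gc z84 = z85) (e85 : sm gd z85 = z86) (e86 : sm gi z86 = z87) (e87 : sm gh z87 = z88) (e88 : sm gd z88 = z89) : sm gf z89 = X := by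
  subst e0
  subst e1
  subst e2
  subst e3
  subst e4
  subst e5
  subst e6
  subst e7
  subst e8
  subst e9
  subst e10
  subst e11
  subst e12
  subst e13
  subst e14
  subst e15
  subst e16
  subst e17
  subst e18
  subst e19
  subst e20
  subst e21
  subst e22
  subst e23
  subst e24
  subst e25
  subst e26
  subst e27
  subst e28
  subst e29
  subst e30
  subst e31
  subst e32
  subst e33
  subst e34
  subst e35
  subst e36
  subst e37
  subst e38
  subst e39
  subst e40
  subst e41
  subst e42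
  subst e43
  subst e44
  subst e45
  subst e46
  subst e47
  subst e48
  subst e49
  subst e50
  subst e51
  subst e52
  subst e53
  subst e54
  subst e55
  subst e56
  subst e57
  subst e58
  subst e59
  subst e60
  subst e61
  subst e62
  subst e63
  subst e64
  subst e65
  subst e66
  subst e67
  subst e68
  subst e69
  subst e70
  subst e71
  subst e72
  subst e73
  subst e74
  subst e75
  subst e76
  subst e77
  subst e78
  subst e79
  subst e80
  subst e81
  subst e82
  subst e83
  subst e84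
  subst e85
  subst e86
  subst e87
  subst e88
  exact rot_45_4 X

theorem ded_45_4 {X z1 z2 z3 z4 z5 z6 z7 z8 z9 z10 z11 z12 z13 z14 z15 z16 z17 z18 z19 z20 z21 z22 z23 z24 z25 z26 z27 z28 z29 z30 z31 z32 z33 z34 z35 z36 z37 z38 z39 z40 z41 z42 z43 z44 z45 z46 z47 z48 z49 z50 z51 z52 z53 z54 z55 z56 z57 z58 z59 z60 z61 z62 z63 z64 z65 z66 z67 z68 z69 z70 z71 z72 z73 z74 z75 z76 z77 z78 z79 z80 z81 z82 z83 z84 z85 z86 z87 z88 z89 : Q} (e0 : sm gd X = z1) (e1 : sm gb z1 = z2) (e2 : sm gc z2 = z3) (e3 : sm gd z3 = z4) (e4 : sm gi z4 = z5) (e5 : sm gh z5 = z6) (e6 : sm gd z6 = z7) (e7 : sm gf z7 = z8) (e8 : sm ge z8 = z9) (e9 : sm gd z9 = z10) (e10 : sm gb z10 = z11) (e11 : sm gc z11 = z12) (e12 : sm gd z12 = z13) (e13 : sm gi z13 = z14) (e14 : sm gh z14 = z15) (e15 : sm gd z15 = z16) (e16 : sm gf z16 = z17) (e17 : sm ge z17 = z18) (e18 : sm gd z18 = z19) (e19 : sm gb z19 = z20) (e20 : sm gc z20 = z21) (e21 : sm gd z21 = z22) (e22 : sm gi z22 = z23) (e23 : sm gh z23 = z24) (e24 : sm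 gd z24 = z25) (e25 : sm gf z25 = z26) (e26 : sm ge z26 = z27) (e27 : sm gd z27 = z28) (e28 : sm gb z28 = z29) (e29 : sm gc z29 = z30) (e30 : sm gd z30 = z31) (e31 : sm gi z31 = z32) (e32 : sm gh z32 = z33) (e33 : sm gd z33 = z34) (e34 : sm gf z34 = z35) (e35 : sm ge z35 = z36) (e36 : sm gd z36 = z37) (e37 : sm gb z37 = z38) (e38 : sm gc z38 = z39) (e39 : sm gd z39 = z40) (e40 : sm gi z40 = z41) (e41 : sm gh z41 = z42) (e42 : sm gd z42 = z43) (e43 : sm gf z43 = z44) (e44 : sm ge z44 = z45) (e45 : sm gd z45 = z46) (e46 : sm gb z46 = z47) (e47 : sm gc z47 = z48) (e48 : sm gd z48 = z49) (e49 : sm gi z49 = z50) (e50 : sm gh z50 = z51) (e51 : sm gd z51 = z52) (e52 : sm gf z52 = z53) (e53 : sm ge z53 = z54) (e54 : sm gd z54 = z55) (e55 : sm gb z55 = z56) (e56 : sm gc z56 = z57) (e57 : sm gd z57 = z58) (e58 : sm gi z58 = z59) (e59 : sm gh z59 = z60) (e60 : sm gd z60 = z61) (e61 : sm gf z61 = z62) (e62 : sm ge z62 = z63) (e63 : sm gd z63 = z64) (e64 : sm gb z64 = z65) (e65 : sm gc z65 = z66)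 (e66 : sm gd z66 = z67) (e67 : sm gi z67 = z68) (e68 : sm gh z68 = z69) (e69 : sm gd z69 = z70) (e70 : sm gf z70 = z71) (e71 : sm ge z71 = z72) (e72 : sm gd z72 = z73) (e73 : sm gb z73 = z74) (e74 : sm gc z74 = z75) (e75 : sm gd z75 = z76) (e76 : sm gi z76 = z77) (e77 : sm gh z77 = z78) (e78 : sm gd z78 = z79) (e79 : sm gf z79 = z80) (e80 : sm ge z80 = z81) (e81 : sm gd z81 = z82) (e82 : sm gb z82 = z83) (e83 : sm gc z83 = z84) (e84 : sm gd z84 = z85) (e85 : sm gi z85 = z86) (e86 : sm gh z86 = z87) (e87 : sm gd z87 = z88) (e88 : sm gf z88 = z89) : sm ge z89 = X := by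
  subst e0
  subst e1
  subst e2
  subst e3
  subst e4
  subst e5
  subst e6
  subst e7
  subst e8
  subst e9
  subst e10
  subst e11
  subst e12
  subst e13
  subst e14
  subst e15
  subst e16
  subst e17
  subst e18
  subst e19
  subst e20
  subst e21
  subst e22
  subst e23
  subst e24
  subst e25
  subst e26
  subst e27
  subst e28
  subst e29
  subst e30
  subst e31
  subst e32
  subst e33
  subst e34
  subst e35
  subst e36
  subst e37
  subst e38
  subst e39
  subst e40
  subst e41
  subst e42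
  subst e43
  subst e44
  subst e45
  subst e46
  subst e47
  subst e48
  subst e49
  subst e50
  subst e51
  subst e52
  subst e53
  subst e54
  subst e55
  subst e56
  subst e57
  subst e58
  subst e59
  subst e60
  subst e61
  subst e62
  subst e63
  subst e64
  subst e65
  subst e66
  subst e67
  subst e68
  subst e69
  subst e70
  subst e71
  subst e72
  subst e73
  subst e74
  subst e75
  subst e76
  subst e77
  subst e78
  subst e79
  subst e80
  subst e81
  subst e82
  subst e83
  subst e84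
  subst e85
  subst e86
  subst e87
  subst e88
  exact rot_45_5 X

theorem ded_45_6 {X z1 z2 z3 z4 z5 z6 z7 z8 z9 z10 z11 z12 z13 z14 z15 z16 z17 z18 z19 z20 z21 z22 z23 z24 z25 z26 z27 z28 z29 z30 z31 z32 z33 z34 z35 z36 z37 z38 z39 z40 z41 z42 z43 z44 z45 z46 z47 z48 z49 z50 z51 z52 z53 z54 z55 z56 z57 z58 z59 z60 z61 z62 z63 z64 z65 z66 z67 z68 z69 z70 z71 z72 z73 z74 z75 z76 z77 z78 z79 z80 z81 z82 z83 z84 z85 z86 z87 z88 z89 : Q} (e0 : sm gc X = z1) (e1 : sm gd z1 = z2) (e2 : sm gi z2 = z3) (e3 : sm gh z3 = z4) (e4 : sm gd z4 = z5) (e5 : sm gf z5 = z6) (e6 : sm ge z6 = z7) (e7 : sm gd z7 = z8) (e8 : sm gb z8 = z9) (e9 : sm gc z9 = z10) (e10 : sm gd z10 = z11) (e11 : sm gi z11 = z12) (e12 : sm gh z12 = z13) (e13 : sm gd z13 = z14) (e14 : sm gf z14 = z15) (e15 : sm ge z15 = z16) (e16 : sm gd z16 = z17) (e17 : sm gb z17 = z18) (e18 : sm gc z18 = z19) (e19 : sm gd z19 = z20) (e20 : sm gi z20 = z21) (e21 : sm gh z21 = z22) (e22 : sm gd z22 = z23) (e23 : sm gf z23 = z24) (e24 : sm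 ge z24 = z25) (e25 : sm gd z25 = z26) (e26 : sm gb z26 = z27) (e27 : sm gc z27 = z28) (e28 : sm gd z28 = z29) (e29 : sm gi z29 = z30) (e30 : sm gh z30 = z31) (e31 : sm gd z31 = z32) (e32 : sm gf z32 = z33) (e33 : sm ge z33 = z34) (e34 : sm gd z34 = z35) (e35 : sm gb z35 = z36) (e36 : sm gc z36 = z37) (e37 : sm gd z37 = z38) (e38 : sm gi z38 = z39) (e39 : sm gh z39 = z40) (e40 : sm gd z40 = z41) (e41 : sm gf z41 = z42) (e42 : sm ge z42 = z43) (e43 : sm gd z43 = z44) (e44 : sm gb z44 = z45) (e45 : sm gc z45 = z46) (e46 : sm gd z46 = z47) (e47 : sm gi z47 = z48) (e48 : sm gh z48 = z49) (e49 : sm gd z49 = z50) (e50 : sm gf z50 = z51) (e51 : sm ge z51 = z52) (e52 : sm gd z52 = z53) (e53 : sm gb z53 = z54) (e54 : sm gc z54 = z55) (e55 : sm gd z55 = z56) (e56 : sm gi z56 = z57) (e57 : sm gh z57 = z58) (e58 : sm gd z58 = z59) (e59 : sm gf z59 = z60) (e60 : sm ge z60 = z61) (e61 : sm gd z61 = z62) (e62 : sm gb z62 = z63) (e63 : sm gc z63 = z64) (e64 : sm gd z64 = z65) (e65 : sm gi z65 = z66)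 (e66 : sm gh z66 = z67) (e67 : sm gd z67 = z68) (e68 : sm gf z68 = z69) (e69 : sm ge z69 = z70) (e70 : sm gd z70 = z71) (e71 : sm gb z71 = z72) (e72 : sm gc z72 = z73) (e73 : sm gd z73 = z74) (e74 : sm gi z74 = z75) (e75 : sm gh z75 = z76) (e76 : sm gd z76 = z77) (e77 : sm gf z77 = z78) (e78 : sm ge z78 = z79) (e79 : sm gd z79 = z80) (e80 : sm gb z80 = z81) (e81 : sm gc z81 = z82) (e82 : sm gd z82 = z83) (e83 : sm gi z83 = z84) (e84 : sm gh z84 = z85) (e85 : sm gd z85 = z86) (e86 : sm gf z86 = z87) (e87 : sm ge z87 = z88) (e88 : sm gd z88 = z89) : sm gb z89 = X := by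
  subst e0
  subst e1
  subst e2
  subst e3
  subst e4
  subst e5
  subst e6
  subst e7
  subst e8
  subst e9
  subst e10
  subst e11
  subst e12
  subst e13
  subst e14
  subst e15
  subst e16
  subst e17
  subst e18
  subst e19
  subst e20
  subst e21
  subst e22
  subst e23
  subst e24
  subst e25
  subst e26
  subst e27
  subst e28
  subst e29
  subst e30
  subst e31
  subst e32
  subst e33
  subst e34
  subst e35
  subst e36
  subst e37
  subst e38
  subst e39
  subst e40
  subst e41
  subst e42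
  subst e43
  subst e44
  subst e45
  subst e46
  subst e47
  subst e48
  subst e49
  subst e50
  subst e51
  subst e52
  subst e53
  subst e54
  subst e55
  subst e56
  subst e57
  subst e58
  subst e59
  subst e60
  subst e61
  subst e62
  subst e63
  subst e64
  subst e65
  subst e66
  subst e67
  subst e68
  subst e69
  subst e70
  subst e71
  subst e72
  subst e73
  subst e74
  subst e75
  subst e76
  subst e77
  subst e78
  subst e79
  subst e80
  subst e81
  subst e82
  subst e83
  subst e84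
  subst e85
  subst e86
  subst e87
  subst e88
  exact rot_45_7 X

theorem ded_45_7 {X z1 z2 z3 z4 z5 z6 z7 z8 z9 z10 z11 z12 z13 z14 z15 z16 z17 z18 z19 z20 z21 z22 z23 z24 z25 z26 z27 z28 z29 z30 z31 z32 z33 z34 z35 z36 z37 z38 z39 z40 z41 z42 z43 z44 z45 z46 z47 z48 z49 z50 z51 z52 z53 z54 z55 z56 z57 z58 z59 z60 z61 z62 z63 z64 z65 z66 z67 z68 z69 z70 z71 z72 z73 z74 z75 z76 z77 z78 z79 z80 z81 z82 z83 z84 z85 z86 z87 z88 z89 : Q} (e0 : sm gd X = z1) (e1 : sm gi z1 = z2) (e2 : sm gh z2 = z3) (e3 : sm gd z3 = z4) (e4 : sm gf z4 = z5) (e5 : sm ge z5 = z6) (e6 : sm gd z6 = z7) (e7 : sm gb z7 = z8) (e8 : sm gc z8 = z9) (e9 : sm gd z9 = z10) (e10 : sm gi z10 = z11) (e11 : sm gh z11 = z12) (e12 : sm gd z12 = z13) (e13 : sm gf z13 = z14) (e14 : sm ge z14 = z15) (e15 : sm gd z15 = z16) (e16 : sm gb z16 = z17) (e17 : sm gc z17 = z18) (e18 : sm gd z18 = z19) (e19 : sm gi z19 = z20) (e20 : sm gh z20 = z21) (e21 : sm gd z21 = z22) (e22 : sm gf z22 = z23) (e23 : sm ge z23 = z24) (e24 : sm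 gd z24 = z25) (e25 : sm gb z25 = z26) (e26 : sm gc z26 = z27) (e27 : sm gd z27 = z28) (e28 : sm gi z28 = z29) (e29 : sm gh z29 = z30) (e30 : sm gd z30 = z31) (e31 : sm gf z31 = z32) (e32 : sm ge z32 = z33) (e33 : sm gd z33 = z34) (e34 : sm gb z34 = z35) (e35 : sm gc z35 = z36) (e36 : sm gd z36 = z37) (e37 : sm gi z37 = z38) (e38 : sm gh z38 = z39) (e39 : sm gd z39 = z40) (e40 : sm gf z40 = z41) (e41 : sm ge z41 = z42) (e42 : sm gd z42 = z43) (e43 : sm gb z43 = z44) (e44 : sm gc z44 = z45) (e45 : sm gd z45 = z46) (e46 : sm gi z46 = z47) (e47 : sm gh z47 = z48) (e48 : sm gd z48 = z49) (e49 : sm gf z49 = z50) (e50 : sm ge z50 = z51) (e51 : sm gd z51 = z52) (e52 : sm gb z52 = z53) (e53 : sm gc z53 = z54) (e54 : sm gd z54 = z55) (e55 : sm gi z55 = z56) (e56 : sm gh z56 = z57) (e57 : sm gd z57 = z58) (e58 : sm gf z58 = z59) (e59 : sm ge z59 = z60) (e60 : sm gd z60 = z61) (e61 : sm gb z61 = z62) (e62 : sm gc z62 = z63) (e63 : sm gd z63 = z64) (e64 : sm gi z64 = z65) (e65 : sm gh z65 = z66)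 (e66 : sm gd z66 = z67) (e67 : sm gf z67 = z68) (e68 : sm ge z68 = z69) (e69 : sm gd z69 = z70) (e70 : sm gb z70 = z71) (e71 : sm gc z71 = z72) (e72 : sm gd z72 = z73) (e73 : sm gi z73 = z74) (e74 : sm gh z74 = z75) (e75 : sm gd z75 = z76) (e76 : sm gf z76 = z77) (e77 : sm ge z77 = z78) (e78 : sm gd z78 = z79) (e79 : sm gb z79 = z80) (e80 : sm gc z80 = z81) (e81 : sm gd z81 = z82) (e82 : sm gi z82 = z83) (e83 : sm gh z83 = z84) (e84 : sm gd z84 = z85) (e85 : sm gf z85 = z86) (e86 : sm ge z86 = z87) (e87 : sm gd z87 = z88) (e88 : sm gb z88 = z89) : sm gc z89 = X := by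
  subst e0
  subst e1
  subst e2
  subst e3
  subst e4
  subst e5
  subst e6
  subst e7
  subst e8
  subst e9
  subst e10
  subst e11
  subst e12
  subst e13
  subst e14
  subst e15
  subst e16
  subst e17
  subst e18
  subst e19
  subst e20
  subst e21
  subst e22
  subst e23
  subst e24
  subst e25
  subst e26
  subst e27
  subst e28
  subst e29
  subst e30
  subst e31
  subst e32
  subst e33
  subst e34
  subst e35
  subst e36
  subst e37
  subst e38
  subst e39
  subst e40
  subst e41
  subst e42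
  subst e43
  subst e44
  subst e45
  subst e46
  subst e47
  subst e48
  subst e49
  subst e50
  subst e51
  subst e52
  subst e53
  subst e54
  subst e55
  subst e56
  subst e57
  subst e58
  subst e59
  subst e60
  subst e61
  subst e62
  subst e63
  subst e64
  subst e65
  subst e66
  subst e67
  subst e68
  subst e69
  subst e70
  subst e71
  subst e72
  subst e73
  subst e74
  subst e75
  subst e76
  subst e77
  subst e78
  subst e79
  subst e80
  subst e81
  subst e82
  subst e83
  subst e84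
  subst e85
  subst e86
  subst e87
  subst e88
  exact rot_45_8 X

theorem ded_46_0 {X z1 z2 z3 z4 z5 z6 z7 z8 z9 z10 z11 z12 z13 z14 z15 z16 z17 z18 z19 z20 z21 z22 z23 z24 z25 z26 z27 z28 z29 z30 z31 z32 z33 z34 z35 z36 z37 z38 z39 z40 z41 z42 z43 z44 z45 z46 z47 z48 z49 z50 z51 z52 z53 z54 z55 z56 z57 z58 z59 z60 z61 z62 : Q} (e0 : sm gf X = z1) (e1 : sm ge z1 = z2) (e2 : sm gd z2 = z3) (e3 : sm gc z3 = z4) (e4 : sm gb z4 = z5) (e5 : sm ga z5 = z6) (e6 : sm gh z6 = z7) (e7 : sm gf z7 = z8) (e8 : sm ge z8 = z9) (e9 : sm gd z9 = z10) (e10 : sm gc z10 = z11) (e11 : sm gb z11 = z12) (e12 : sm ga z12 = z13) (e13 : sm gh z13 = z14) (e14 : sm gf z14 = z15) (e15 : sm ge z15 = z16) (e16 : sm gd z16 = z17) (e17 : sm gc z17 = z18) (e18 : sm gb z18 = z19) (e19 : sm ga z19 = z20) (e20 : sm gh z20 = z21) (e21 : sm gf z21 = z22) (e22 : sm ge z22 = z23) (e23 : sm gd z23 = z24) (e24 : sm gc z24 = z25) (e25 : sm gb z25 = z26) (e26 : sm ga z26 = z27) (e27 : sm gh z27 = z28) (e28 : sm gf z28 = z29)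 (e29 : sm ge z29 = z30) (e30 : sm gd z30 = z31) (e31 : sm gc z31 = z32) (e32 : sm gb z32 = z33) (e33 : sm ga z33 = z34) (e34 : sm gh z34 = z35) (e35 : sm gf z35 = z36) (e36 : sm ge z36 = z37) (e37 : sm gd z37 = z38) (e38 : sm gc z38 = z39) (e39 : sm gb z39 = z40) (e40 : sm ga z40 = z41) (e41 : sm gh z41 = z42) (e42 : sm gf z42 = z43) (e43 : sm ge z43 = z44) (e44 : sm gd z44 = z45) (e45 : sm gc z45 = z46) (e46 : sm gb z46 = z47) (e47 : sm ga z47 = z48) (e48 : sm gh z48 = z49) (e49 : sm gf z49 = z50) (e50 : sm ge z50 = z51) (e51 : sm gd z51 = z52) (e52 : sm gc z52 = z53) (e53 : sm gb z53 = z54) (e54 : sm ga z54 = z55) (e55 : sm gh z55 = z56) (e56 : sm gf z56 = z57) (e57 : sm ge z57 = z58) (e58 : sm gd z58 = z59) (e59 : sm gc z59 = z60) (e60 : sm gb z60 = z61) (e61 : sm ga z61 = z62) : sm gh z62 = X := by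
  subst e0
  subst e1
  subst e2
  subst e3
  subst e4
  subst e5
  subst e6
  subst e7
  subst e8
  subst e9
  subst e10
  subst e11
  subst e12
  subst e13
  subst e14
  subst e15
  subst e16
  subst e17
  subst e18
  subst e19
  subst e20
  subst e21
  subst e22
  subst e23
  subst e24
  subst e25
  subst e26
  subst e27
  subst e28
  subst e29
  subst e30
  subst e31
  subst e32
  subst e33
  subst e34
  subst e35
  subst e36
  subst e37
  subst e38
  subst e39
  subst e40
  subst e41
  subst e42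
  subst e43
  subst e44
  subst e45
  subst e46
  subst e47
  subst e48
  subst e49
  subst e50
  subst e51
  subst e52
  subst e53
  subst e54
  subst e55
  subst e56
  subst e57
  subst e58
  subst e59
  subst e60
  subst e61
  exact rot_46_1 X

theorem ded_46_1 {X z1 z2 z3 z4 z5 z6 z7 z8 z9 z10 z11 z12 z13 z14 z15 z16 z17 z18 z19 z20 z21 z22 z23 z24 z25 z26 z27 z28 z29 z30 z31 z32 z33 z34 z35 z36 z37 z38 z39 z40 z41 z42 z43 z44 z45 z46 z47 z48 z49 z50 z51 z52 z53 z54 z55 z56 z57 z58 z59 z60 z61 z62 : Q} (e0 : sm ge X = z1) (e1 : sm gd z1 = z2) (e2 : sm gc z2 = z3) (e3 : sm gb z3 = z4) (e4 : sm ga z4 = z5) (e5 : sm gh z5 = z6) (e6 : sm gf z6 = z7) (e7 : sm ge z7 = z8) (e8 : sm gd z8 = z9) (e9 : sm gc z9 = z10) (e10 : sm gb z10 = z11) (e11 : sm ga z11 = z12) (e12 : sm gh z12 = z13) (e13 : sm gf z13 = z14) (e14 : sm ge z14 = z15) (e15 : sm gd z15 = z16) (e16 : sm gc z16 = z17) (e17 : sm gb z17 = z18) (e18 : sm ga z18 = z19) (e19 : sm gh z19 = z20) (e20 : sm gf z20 = z21) (e21 : sm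 ge z21 = z22) (e22 : sm gd z22 = z23) (e23 : sm gc z23 = z24) (e24 : sm gb z24 = z25) (e25 : sm ga z25 = z26) (e26 : sm gh z26 = z27) (e27 : sm gf z27 = z28) (e28 : sm ge z28 = z29) (e29 : sm gd z29 = z30) (e30 : sm gc z30 = z31) (e31 : sm gb z31 = z32) (e32 : sm ga z32 = z33) (e33 : sm gh z33 = z34) (e34 : sm gf z34 = z35) (e35 : sm ge z35 = z36) (e36 : sm gd z36 = z37) (e37 : sm gc z37 = z38) (e38 : sm gb z38 = z39) (e39 : sm ga z39 = z40) (e40 : sm gh z40 = z41) (e41 : sm gf z41 = z42) (e42 : sm ge z42 = z43) (e43 : sm gd z43 = z44) (e44 : sm gc z44 = z45) (e45 : sm gb z45 = z46) (e46 : sm ga z46 = z47) (e47 : sm gh z47 = z48) (e48 : sm gf z48 = z49) (e49 : sm ge z49 = z50) (e50 : sm gd z50 = z51) (e51 : sm gc z51 = z52) (e52 : sm gb z52 = z53) (e53 : sm ga z53 = z54) (e54 : sm gh z54 = z55) (e55 : sm gf z55 = z56) (e56 : sm ge z56 = z57) (e57 : sm gd z57 = z58) (e58 : sm gc z58 = z59) (e59 : sm gb z59 = z60) (e60 : sm ga z60 = z61) (e61 : sm gh z61 = z62) : sm gf z62 = X := by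
  subst e0
  subst e1
  subst e2
  subst e3
  subst e4
  subst e5
  subst e6
  subst e7
  subst e8
  subst e9
  subst e10
  subst e11
  subst e12
  subst e13
  subst e14
  subst e15
  subst e16
  subst e17
  subst e18
  subst e19
  subst e20
  subst e21
  subst e22
  subst e23
  subst e24
  subst e25
  subst e26
  subst e27
  subst e28
  subst e29
  subst e30
  subst e31
  subst e32
  subst e33
  subst e34
  subst e35
  subst e36
  subst e37
  subst e38
  subst e39
  subst e40
  subst e41
  subst e42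
  subst e43
  subst e44
  subst e45
  subst e46
  subst e47
  subst e48
  subst e49
  subst e50
  subst e51
  subst e52
  subst e53
  subst e54
  subst e55
  subst e56
  subst e57
  subst e58
  subst e59
  subst e60
  subst e61
  exact rot_46_2 X

theorem ded_46_2 {X z1 z2 z3 z4 z5 z6 z7 z8 z9 z10 z11 z12 z13 z14 z15 z16 z17 z18 z19 z20 z21 z22 z23 z24 z25 z26 z27 z28 z29 z30 z31 z32 z33 z34 z35 z36 z37 z38 z39 z40 z41 z42 z43 z44 z45 z46 z47 z48 z49 z50 z51 z52 z53 z54 z55 z56 z57 z58 z59 z60 z61 z62 : Q} (e0 : sm gd X = z1) (e1 : sm gc z1 = z2) (e2 : sm gb z2 = z3) (e3 : sm ga z3 = z4) (e4 : sm gh z4 = z5) (e5 : sm gf z5 = z6) (e6 : sm ge z6 = z7) (e7 : sm gd z7 = z8) (e8 : sm gc z8 = z9) (e9 : sm gb z9 = z10) (e10 : sm ga z10 = z11) (e11 : sm gh z11 = z12) (e12 : sm gf z12 = z13) (e13 : sm ge z13 = z14) (e14 : sm gd z14 = z15) (e15 : sm gc z15 = z16) (e16 : sm gb z16 = z17) (e17 : sm ga z17 = z18) (e18 : sm gh z18 = z19) (e19 : sm gf z19 = z20) (e20 : sm ge z20 = z21) (e21 : sm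 gd z21 = z22) (e22 : sm gc z22 = z23) (e23 : sm gb z23 = z24) (e24 : sm ga z24 = z25) (e25 : sm gh z25 = z26) (e26 : sm gf z26 = z27) (e27 : sm ge z27 = z28) (e28 : sm gd z28 = z29) (e29 : sm gc z29 = z30) (e30 : sm gb z30 = z31) (e31 : sm ga z31 = z32) (e32 : sm gh z32 = z33) (e33 : sm gf z33 = z34) (e34 : sm ge z34 = z35) (e35 : sm gd z35 = z36) (e36 : sm gc z36 = z37) (e37 : sm gb z37 = z38) (e38 : sm ga z38 = z39) (e39 : sm gh z39 = z40) (e40 : sm gf z40 = z41) (e41 : sm ge z41 = z42) (e42 : sm gd z42 = z43) (e43 : sm gc z43 = z44) (e44 : sm gb z44 = z45) (e45 : sm ga z45 = z46) (e46 : sm gh z46 = z47) (e47 : sm gf z47 = z48) (e48 : sm ge z48 = z49) (e49 : sm gd z49 = z50) (e50 : sm gc z50 = z51) (e51 : sm gb z51 = z52) (e52 : sm ga z52 = z53) (e53 : sm gh z53 = z54) (e54 : sm gf z54 = z55) (e55 : sm ge z55 = z56) (e56 : sm gd z56 = z57) (e57 : sm gc z57 = z58) (e58 : sm gb z58 = z59) (e59 : sm ga z59 = z60) (e60 : sm gh z60 = z61) (e61 : sm gf z61 = z62) : sm ge z62 = X := by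
  subst e0
  subst e1
  subst e2
  subst e3
  subst e4
  subst e5
  subst e6
  subst e7
  subst e8
  subst e9
  subst e10
  subst e11
  subst e12
  subst e13
  subst e14
  subst e15
  subst e16
  subst e17
  subst e18
  subst e19
  subst e20
  subst e21
  subst e22
  subst e23
  subst e24
  subst e25
  subst e26
  subst e27
  subst e28
  subst e29
  subst e30
  subst e31
  subst e32
  subst e33
  subst e34
  subst e35
  subst e36
  subst e37
  subst e38
  subst e39
  subst e40
  subst e41
  subst e42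
  subst e43
  subst e44
  subst e45
  subst e46
  subst e47
  subst e48
  subst e49
  subst e50
  subst e51
  subst e52
  subst e53
  subst e54
  subst e55
  subst e56
  subst e57
  subst e58
  subst e59
  subst e60
  subst e61
  exact rot_46_3 X

theorem ded_46_3 {X z1 z2 z3 z4 z5 z6 z7 z8 z9 z10 z11 z12 z13 z14 z15 z16 z17 z18 z19 z20 z21 z22 z23 z24 z25 z26 z27 z28 z29 z30 z31 z32 z33 z34 z35 z36 z37 z38 z39 z40 z41 z42 z43 z44 z45 z46 z47 z48 z49 z50 z51 z52 z53 z54 z55 z56 z57 z58 z59 z60 z61 z62 : Q} (e0 : sm gc X = z1) (e1 : sm gb z1 = z2) (e2 : sm ga z2 = z3) (e3 : sm gh z3 = z4) (e4 : sm gf z4 = z5) (e5 : sm ge z5 = z6) (e6 : sm gd z6 = z7) (e7 : sm gc z7 = z8) (e8 : sm gb z8 = z9) (e9 : sm ga z9 = z10) (e10 : sm gh z10 = z11) (e11 : sm gf z11 = z12) (e12 : sm ge z12 = z13) (e13 : sm gd z13 = z14) (e14 : sm gc z14 = z15) (e15 : sm gb z15 = z16) (e16 : sm ga z16 = z17) (e17 : sm gh z17 = z18) (e18 : sm gf z18 = z19) (e19 : sm ge z19 = z20) (e20 : sm gd z20 = z21) (e21 : sm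 gc z21 = z22) (e22 : sm gb z22 = z23) (e23 : sm ga z23 = z24) (e24 : sm gh z24 = z25) (e25 : sm gf z25 = z26) (e26 : sm ge z26 = z27) (e27 : sm gd z27 = z28) (e28 : sm gc z28 = z29) (e29 : sm gb z29 = z30) (e30 : sm ga z30 = z31) (e31 : sm gh z31 = z32) (e32 : sm gf z32 = z33) (e33 : sm ge z33 = z34) (e34 : sm gd z34 = z35) (e35 : sm gc z35 = z36) (e36 : sm gb z36 = z37) (e37 : sm ga z37 = z38) (e38 : sm gh z38 = z39) (e39 : sm gf z39 = z40) (e40 : sm ge z40 = z41) (e41 : sm gd z41 = z42) (e42 : sm gc z42 = z43) (e43 : sm gb z43 = z44) (e44 : sm ga z44 = z45) (e45 : sm gh z45 = z46) (e46 : sm gf z46 = z47) (e47 : sm ge z47 = z48) (e48 : sm gd z48 = z49) (e49 : sm gc z49 = z50) (e50 : sm gb z50 = z51) (e51 : sm ga z51 = z52) (e52 : sm gh z52 = z53) (e53 : sm gf z53 = z54) (e54 : sm ge z54 = z55) (e55 : sm gd z55 = z56) (e56 : sm gc z56 = z57) (e57 : sm gb z57 = z58) (e58 : sm ga z58 = z59) (e59 : sm gh z59 = z60) (e60 : sm gf z60 = z61) (e61 : sm ge z61 = z62) : sm gd z62 = X := by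
  subst e0
  subst e1
  subst e2
  subst e3
  subst e4
  subst e5
  subst e6
  subst e7
  subst e8
  subst e9
  subst e10
  subst e11
  subst e12
  subst e13
  subst e14
  subst e15
  subst e16
  subst e17
  subst e18
  subst e19
  subst e20
  subst e21
  subst e22
  subst e23
  subst e24
  subst e25
  subst e26
  subst e27
  subst e28
  subst e29
  subst e30
  subst e31
  subst e32
  subst e33
  subst e34
  subst e35
  subst e36
  subst e37
  subst e38
  subst e39
  subst e40
  subst e41
  subst e42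
  subst e43
  subst e44
  subst e45
  subst e46
  subst e47
  subst e48
  subst e49
  subst e50
  subst e51
  subst e52
  subst e53
  subst e54
  subst e55
  subst e56
  subst e57
  subst e58
  subst e59
  subst e60
  subst e61
  exact rot_46_4 X

theorem ded_46_4 {X z1 z2 z3 z4 z5 z6 z7 z8 z9 z10 z11 z12 z13 z14 z15 z16 z17 z18 z19 z20 z21 z22 z23 z24 z25 z26 z27 z28 z29 z30 z31 z32 z33 z34 z35 z36 z37 z38 z39 z40 z41 z42 z43 z44 z45 z46 z47 z48 z49 z50 z51 z52 z53 z54 z55 z56 z57 z58 z59 z60 z61 z62 : Q} (e0 : sm gb X = z1) (e1 : sm ga z1 = z2) (e2 : sm gh z2 = z3) (e3 : sm gf z3 = z4) (e4 : sm ge z4 = z5) (e5 : sm gd z5 = z6) (e6 : sm gc z6 = z7) (e7 : sm gb z7 = z8) (e8 : sm ga z8 = z9) (e9 : sm gh z9 = z10) (e10 : sm gf z10 = z11) (e11 : sm ge z11 = z12) (e12 : sm gd z12 = z13) (e13 : sm gc z13 = z14) (e14 : sm gb z14 = z15) (e15 : sm ga z15 = z16) (e16 : sm gh z16 = z17) (e17 : sm gf z17 = z18) (e18 : sm ge z18 = z19) (e19 : sm gd z19 = z20) (e20 : sm gc z20 = z21) (e21 : sm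 gb z21 = z22) (e22 : sm ga z22 = z23) (e23 : sm gh z23 = z24) (e24 : sm gf z24 = z25) (e25 : sm ge z25 = z26) (e26 : sm gd z26 = z27) (e27 : sm gc z27 = z28) (e28 : sm gb z28 = z29) (e29 : sm ga z29 = z30) (e30 : sm gh z30 = z31) (e31 : sm gf z31 = z32) (e32 : sm ge z32 = z33) (e33 : sm gd z33 = z34) (e34 : sm gc z34 = z35) (e35 : sm gb z35 = z36) (e36 : sm ga z36 = z37) (e37 : sm gh z37 = z38) (e38 : sm gf z38 = z39) (e39 : sm ge z39 = z40) (e40 : sm gd z40 = z41) (e41 : sm gc z41 = z42) (e42 : sm gb z42 = z43) (e43 : sm ga z43 = z44) (e44 : sm gh z44 = z45) (e45 : sm gf z45 = z46) (e46 : sm ge z46 = z47) (e47 : sm gd z47 = z48) (e48 : sm gc z48 = z49) (e49 : sm gb z49 = z50) (e50 : sm ga z50 = z51) (e51 : sm gh z51 = z52) (e52 : sm gf z52 = z53) (e53 : sm ge z53 = z54) (e54 : sm gd z54 = z55) (e55 : sm gc z55 = z56) (e56 : sm gb z56 = z57) (e57 : sm ga z57 = z58) (e58 : sm gh z58 = z59) (e59 : sm gf z59 = z60) (e60 : sm ge z60 = z61) (e61 : sm gd z61 = z62) : sm gc z62 = X := by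
  subst e0
  subst e1
  subst e2
  subst e3
  subst e4
  subst e5
  subst e6
  subst e7
  subst e8
  subst e9
  subst e10
  subst e11
  subst e12
  subst e13
  subst e14
  subst e15
  subst e16
  subst e17
  subst e18
  subst e19
  subst e20
  subst e21
  subst e22
  subst e23
  subst e24
  subst e25
  subst e26
  subst e27
  subst e28
  subst e29
  subst e30
  subst e31
  subst e32
  subst e33
  subst e34
  subst e35
  subst e36
  subst e37
  subst e38
  subst e39
  subst e40
  subst e41
  subst e42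
  subst e43
  subst e44
  subst e45
  subst e46
  subst e47
  subst e48
  subst e49
  subst e50
  subst e51
  subst e52
  subst e53
  subst e54
  subst e55
  subst e56
  subst e57
  subst e58
  subst e59
  subst e60
  subst e61
  exact rot_46_5 X

theorem ded_46_5 {X z1 z2 z3 z4 z5 z6 z7 z8 z9 z10 z11 z12 z13 z14 z15 z16 z17 z18 z19 z20 z21 z22 z23 z24 z25 z26 z27 z28 z29 z30 z31 z32 z33 z34 z35 z36 z37 z38 z39 z40 z41 z42 z43 z44 z45 z46 z47 z48 z49 z50 z51 z52 z53 z54 z55 z56 z57 z58 z59 z60 z61 z62 : Q} (e0 : sm ga X = z1) (e1 : sm gh z1 = z2) (e2 : sm gf z2 = z3) (e3 : sm ge z3 = z4) (e4 : sm gd z4 = z5) (e5 : sm gc z5 = z6) (e6 : sm gb z6 = z7) (e7 : sm ga z7 = z8) (e8 : sm gh z8 = z9) (e9 : sm gf z9 = z10) (e10 : sm ge z10 = z11) (e11 : sm gd z11 = z12) (e12 : sm gc z12 = z13) (e13 : sm gb z13 = z14) (e14 : sm ga z14 = z15) (e15 : sm gh z15 = z16) (e16 : sm gf z16 = z17) (e17 : sm ge z17 = z18) (e18 : sm gd z18 = z19) (e19 : sm gc z19 = z20) (e20 : sm gb z20 = z21) (e21 : sm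 ga z21 = z22) (e22 : sm gh z22 = z23) (e23 : sm gf z23 = z24) (e24 : sm ge z24 = z25) (e25 : sm gd z25 = z26) (e26 : sm gc z26 = z27) (e27 : sm gb z27 = z28) (e28 : sm ga z28 = z29) (e29 : sm gh z29 = z30) (e30 : sm gf z30 = z31) (e31 : sm ge z31 = z32) (e32 : sm gd z32 = z33) (e33 : sm gc z33 = z34) (e34 : sm gb z34 = z35) (e35 : sm ga z35 = z36) (e36 : sm gh z36 = z37) (e37 : sm gf z37 = z38) (e38 : sm ge z38 = z39) (e39 : sm gd z39 = z40) (e40 : sm gc z40 = z41) (e41 : sm gb z41 = z42) (e42 : sm ga z42 = z43) (e43 : sm gh z43 = z44) (e44 : sm gf z44 = z45) (e45 : sm ge z45 = z46) (e46 : sm gd z46 = z47) (e47 : sm gc z47 = z48) (e48 : sm gb z48 = z49) (e49 : sm ga z49 = z50) (e50 : sm gh z50 = z51) (e51 : sm gf z51 = z52) (e52 : sm ge z52 = z53) (e53 : sm gd z53 = z54) (e54 : sm gc z54 = z55) (e55 : sm gb z55 = z56) (e56 : sm ga z56 = z57) (e57 : sm gh z57 = z58) (e58 : sm gf z58 = z59) (e59 : sm ge z59 = z60) (e60 : sm gd z60 = z61) (e61 : sm gc z61 = z62) : sm gb z62 = X := by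
  subst e0
  subst e1
  subst e2
  subst e3
  subst e4
  subst e5
  subst e6
  subst e7
  subst e8
  subst e9
  subst e10
  subst e11
  subst e12
  subst e13
  subst e14
  subst e15
  subst e16
  subst e17
  subst e18
  subst e19
  subst e20
  subst e21
  subst e22
  subst e23
  subst e24
  subst e25
  subst e26
  subst e27
  subst e28
  subst e29
  subst e30
  subst e31
  subst e32
  subst e33
  subst e34
  subst e35
  subst e36
  subst e37
  subst e38
  subst e39
  subst e40
  subst e41
  subst e42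
  subst e43
  subst e44
  subst e45
  subst e46
  subst e47
  subst e48
  subst e49
  subst e50
  subst e51
  subst e52
  subst e53
  subst e54
  subst e55
  subst e56
  subst e57
  subst e58
  subst e59
  subst e60
  subst e61
  exact rot_46_6 X

theorem ded_46_6 {X z1 z2 z3 z4 z5 z6 z7 z8 z9 z10 z11 z12 z13 z14 z15 z16 z17 z18 z19 z20 z21 z22 z23 z24 z25 z26 z27 z28 z29 z30 z31 z32 z33 z34 z35 z36 z37 z38 z39 z40 z41 z42 z43 z44 z45 z46 z47 z48 z49 z50 z51 z52 z53 z54 z55 z56 z57 z58 z59 z60 z61 z62 : Q} (e0 : sm gh X = z1) (e1 : sm gf z1 = z2) (e2 : sm ge z2 = z3) (e3 : sm gd z3 = z4) (e4 : sm gc z4 = z5) (e5 : sm gb z5 = z6) (e6 : sm ga z6 = z7) (e7 : sm gh z7 = z8) (e8 : sm gf z8 = z9) (e9 : sm ge z9 = z10) (e10 : sm gd z10 = z11) (e11 : sm gc z11 = z12) (e12 : sm gb z12 = z13) (e13 : sm ga z13 = z14) (e14 : sm gh z14 = z15) (e15 : sm gf z15 = z16) (e16 : sm ge z16 = z17) (e17 : sm gd z17 = z18) (e18 : sm gc z18 = z19) (e19 : sm gb z19 = z20) (e20 : sm ga z20 = z21) (e21 : sm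 gh z21 = z22) (e22 : sm gf z22 = z23) (e23 : sm ge z23 = z24) (e24 : sm gd z24 = z25) (e25 : sm gc z25 = z26) (e26 : sm gb z26 = z27) (e27 : sm ga z27 = z28) (e28 : sm gh z28 = z29) (e29 : sm gf z29 = z30) (e30 : sm ge z30 = z31) (e31 : sm gd z31 = z32) (e32 : sm gc z32 = z33) (e33 : sm gb z33 = z34) (e34 : sm ga z34 = z35) (e35 : sm gh z35 = z36) (e36 : sm gf z36 = z37) (e37 : sm ge z37 = z38) (e38 : sm gd z38 = z39) (e39 : sm gc z39 = z40) (e40 : sm gb z40 = z41) (e41 : sm ga z41 = z42) (e42 : sm gh z42 = z43) (e43 : sm gf z43 = z44) (e44 : sm ge z44 = z45) (e45 : sm gd z45 = z46) (e46 : sm gc z46 = z47) (e47 : sm gb z47 = z48) (e48 : sm ga z48 = z49) (e49 : sm gh z49 = z50) (e50 : sm gf z50 = z51) (e51 : sm ge z51 = z52) (e52 : sm gd z52 = z53) (e53 : sm gc z53 = z54) (e54 : sm gb z54 = z55) (e55 : sm ga z55 = z56) (e56 : sm gh z56 = z57) (e57 : sm gf z57 = z58) (e58 : sm ge z58 = z59) (e59 : sm gd z59 = z60) (e60 : sm gc z60 = z61) (e61 : sm gb z61 = z62) : sm ga z62 = X := by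
  subst e0
  subst e1
  subst e2
  subst e3
  subst e4
  subst e5
  subst e6
  subst e7
  subst e8
  subst e9
  subst e10
  subst e11
  subst e12
  subst e13
  subst e14
  subst e15
  subst e16
  subst e17
  subst e18
  subst e19
  subst e20
  subst e21
  subst e22
  subst e23
  subst e24
  subst e25
  subst e26
  subst e27
  subst e28
  subst e29
  subst e30
  subst e31
  subst e32
  subst e33
  subst e34
  subst e35
  subst e36
  subst e37
  subst e38
  subst e39
  subst e40
  subst e41
  subst e42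
  subst e43
  subst e44
  subst e45
  subst e46
  subst e47
  subst e48
  subst e49
  subst e50
  subst e51
  subst e52
  subst e53
  subst e54
  subst e55
  subst e56
  subst e57
  subst e58
  subst e59
  subst e60
  subst e61
  exact rot_46_7 X

theorem ded_46_7 {X z1 z2 z3 z4 z5 z6 z7 z8 z9 z10 z11 z12 z13 z14 z15 z16 z17 z18 z19 z20 z21 z22 z23 z24 z25 z26 z27 z28 z29 z30 z31 z32 z33 z34 z35 z36 z37 z38 z39 z40 z41 z42 z43 z44 z45 z46 z47 z48 z49 z50 z51 z52 z53 z54 z55 z56 z57 z58 z59 z60 z61 z62 : Q} (e0 : sm gf X = z1) (e1 : sm ge z1 = z2) (e2 : sm gd z2 = z3) (e3 : sm gc z3 = z4) (e4 : sm gb z4 = z5) (e5 : sm ga z5 = z6) (e6 : sm gh z6 = z7) (e7 : sm gf z7 = z8) (e8 : sm ge z8 = z9) (e9 : sm gd z9 = z10) (e10 : sm gc z10 = z11) (e11 : sm gb z11 = z12) (e12 : sm ga z12 = z13) (e13 : sm gh z13 = z14) (e14 : sm gf z14 = z15) (e15 : sm ge z15 = z16) (e16 : sm gd z16 = z17) (e17 : sm gc z17 = z18) (e18 : sm gb z18 = z19) (e19 : sm ga z19 = z20) (e20 : sm gh z20 = z21) (e21 : sm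 gf z21 = z22) (e22 : sm ge z22 = z23) (e23 : sm gd z23 = z24) (e24 : sm gc z24 = z25) (e25 : sm gb z25 = z26) (e26 : sm ga z26 = z27) (e27 : sm gh z27 = z28) (e28 : sm gf z28 = z29) (e29 : sm ge z29 = z30) (e30 : sm gd z30 = z31) (e31 : sm gc z31 = z32) (e32 : sm gb z32 = z33) (e33 : sm ga z33 = z34) (e34 : sm gh z34 = z35) (e35 : sm gf z35 = z36) (e36 : sm ge z36 = z37) (e37 : sm gd z37 = z38) (e38 : sm gc z38 = z39) (e39 : sm gb z39 = z40) (e40 : sm ga z40 = z41) (e41 : sm gh z41 = z42) (e42 : sm gf z42 = z43) (e43 : sm ge z43 = z44) (e44 : sm gd z44 = z45) (e45 : sm gc z45 = z46) (e46 : sm gb z46 = z47) (e47 : sm ga z47 = z48) (e48 : sm gh z48 = z49) (e49 : sm gf z49 = z50) (e50 : sm ge z50 = z51) (e51 : sm gd z51 = z52) (e52 : sm gc z52 = z53) (e53 : sm gb z53 = z54) (e54 : sm ga z54 = z55) (e55 : sm gh z55 = z56) (e56 : sm gf z56 = z57) (e57 : sm ge z57 = z58) (e58 : sm gd z58 = z59) (e59 : sm gc z59 = z60) (e60 : sm gb z60 = z61) (e61 : sm ga z61 = z62) : sm gh z62 = X := by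
  subst e0
  subst e1
  subst e2
  subst e3
  subst e4
  subst e5
  subst e6
  subst e7
  subst e8
  subst e9
  subst e10
  subst e11
  subst e12
  subst e13
  subst e14
  subst e15
  subst e16
  subst e17
  subst e18
  subst e19
  subst e20
  subst e21
  subst e22
  subst e23
  subst e24
  subst e25
  subst e26
  subst e27
  subst e28
  subst e29
  subst e30
  subst e31
  subst e32
  subst e33
  subst e34
  subst e35
  subst e36
  subst e37
  subst e38
  subst e39
  subst e40
  subst e41
  subst e42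
  subst e43
  subst e44
  subst e45
  subst e46
  subst e47
  subst e48
  subst e49
  subst e50
  subst e51
  subst e52
  subst e53
  subst e54
  subst e55
  subst e56
  subst e57
  subst e58
  subst e59
  subst e60
  subst e61
  exact rot_46_8 X

theorem ded_46_32 {X z1 z2 z3 z4 z5 z6 z7 z8 z9 z10 z11 z12 z13 z14 z15 z16 z17 z18 z19 z20 z21 z22 z23 z24 z25 z26 z27 z28 z29 z30 z31 z32 z33 z34 z35 z36 z37 z38 z39 z40 z41 z42 z43 z44 z45 z46 z47 z48 z49 z50 z51 z52 z53 z54 z55 z56 z57 z58 z59 z60 z61 z62 : Q} (e0 : sm gb X = z1) (e1 : sm ga z1 = z2) (e2 : sm gh z2 = z3) (e3 : sm gf z3 = z4) (e4 : sm ge z4 = z5) (e5 : sm gd z5 = z6) (e6 : sm gc z6 = z7) (e7 : sm gb z7 = z8) (e8 : sm ga z8 = z9) (e9 : sm gh z9 = z10) (e10 : sm gf z10 = z11) (e11 : sm ge z11 = z12) (e12 : sm gd z12 = z13) (e13 : sm gc z13 = z14) (e14 : sm gb z14 = z15) (e15 : sm ga z15 = z16) (e16 : sm gh z16 = z17) (e17 : sm gf z17 = z18) (e18 : sm ge z18 = z19) (e19 : sm gd z19 = z20) (e20 : sm gc z20 = z21) (e21 :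 sm gb z21 = z22) (e22 : sm ga z22 = z23) (e23 : sm gh z23 = z24) (e24 : sm gf z24 = z25) (e25 : sm ge z25 = z26) (e26 : sm gd z26 = z27) (e27 : sm gc z27 = z28) (e28 : sm gb z28 = z29) (e29 : sm ga z29 = z30) (e30 : sm gh z30 = z31) (e31 : sm gf z31 = z32) (e32 : sm ge z32 = z33) (e33 : sm gd z33 = z34) (e34 : sm gc z34 = z35) (e35 : sm gb z35 = z36) (e36 : sm ga z36 = z37) (e37 : sm gh z37 = z38) (e38 : sm gf z38 = z39) (e39 : sm ge z39 = z40) (e40 : sm gd z40 = z41) (e41 : sm gc z41 = z42) (e42 : sm gb z42 = z43) (e43 : sm ga z43 = z44) (e44 : sm gh z44 = z45) (e45 : sm gf z45 = z46) (e46 : sm ge z46 = z47) (e47 : sm gd z47 = z48) (e48 : sm gc z48 = z49) (e49 : sm gb z49 = z50) (e50 : sm ga z50 = z51) (e51 : sm gh z51 = z52) (e52 : sm gf z52 = z53) (e53 : sm ge z53 = z54) (e54 : sm gd z54 = z55) (e55 : sm gc z55 = z56) (e56 : sm gb z56 = z57) (e57 : sm ga z57 = z58) (e58 : sm gh z58 = z59) (e59 : sm gf z59 = z60) (e60 : sm ge z60 = z61) (e61 : sm gd z61 = z62) : sm gc z62 = X :=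 by
  subst e0
  subst e1
  subst e2
  subst e3
  subst e4
  subst e5
  subst e6
  subst e7
  subst e8
  subst e9
  subst e10
  subst e11
  subst e12
  subst e13
  subst e14
  subst e15
  subst e16
  subst e17
  subst e18
  subst e19
  subst e20
  subst e21
  subst e22
  subst e23
  subst e24
  subst e25
  subst e26
  subst e27
  subst e28
  subst e29
  subst e30
  subst e31
  subst e32
  subst e33
  subst e34
  subst e35
  subst e36
  subst e37
  subst e38
  subst e39
  subst e40
  subst e41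
  subst e42
  subst e43
  subst e44
  subst e45
  subst e46
  subst e47
  subst e48
  subst e49
  subst e50
  subst e51
  subst e52
  subst e53
  subst e54
  subst e55
  subst e56
  subst e57
  subst e58
  subst e59
  subst e60
  subst e61
  exact rot_46_33 X

theorem ded_46_45 {X z1 z2 z3 z4 z5 z6 z7 z8 z9 z10 z11 z12 z13 z14 z15 z16 z17 z18 z19 z20 z21 z22 z23 z24 z25 z26 z27 z28 z29 z30 z31 z32 z33 z34 z35 z36 z37 z38 z39 z40 z41 z42 z43 z44 z45 z46 z47 z48 z49 z50 z51 z52 z53 z54 z55 z56 z57 z58 z59 z60 z61 z62 : Q} (e0 : sm gc X = z1) (e1 : sm gb z1 = z2) (e2 : sm ga z2 = z3) (e3 : sm gh z3 = z4) (e4 : sm gf z4 = z5) (e5 : sm ge z5 = z6) (e6 : sm gd z6 = z7) (e7 : sm gc z7 = z8) (e8 : sm gb z8 = z9) (e9 : sm ga z9 = z10) (e10 : sm gh z10 = z11) (e11 : sm gf z11 = z12) (e12 : sm ge z12 = z13) (e13 : sm gd z13 = z14) (e14 : sm gc z14 = z15) (e15 : sm gb z15 = z16) (e16 : sm ga z16 = z17) (e17 : sm gh z17 = z18) (e18 : sm gf z18 = z19) (e19 : sm ge z19 = z20) (e20 : sm gd z20 =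 z21) (e21 : sm gc z21 = z22) (e22 : sm gb z22 = z23) (e23 : sm ga z23 = z24) (e24 : sm gh z24 = z25) (e25 : sm gf z25 = z26) (e26 : sm ge z26 = z27) (e27 : sm gd z27 = z28) (e28 : sm gc z28 = z29) (e29 : sm gb z29 = z30) (e30 : sm ga z30 = z31) (e31 : sm gh z31 = z32) (e32 : sm gf z32 = z33) (e33 : sm ge z33 = z34) (e34 : sm gd z34 = z35) (e35 : sm gc z35 = z36) (e36 : sm gb z36 = z37) (e37 : sm ga z37 = z38) (e38 : sm gh z38 = z39) (e39 : sm gf z39 = z40) (e40 : sm ge z40 = z41) (e41 : sm gd z41 = z42) (e42 : sm gc z42 = z43) (e43 : sm gb z43 = z44) (e44 : sm ga z44 = z45) (e45 : sm gh z45 = z46) (e46 : sm gf z46 = z47) (e47 : sm ge z47 = z48) (e48 : sm gd z48 = z49) (e49 : sm gc z49 = z50) (e50 : sm gb z50 = z51) (e51 : sm ga z51 = z52) (e52 : sm gh z52 = z53) (e53 : sm gf z53 = z54) (e54 : sm ge z54 = z55) (e55 : sm gd z55 = z56) (e56 : sm gc z56 = z57) (e57 : sm gb z57 = z58) (e58 : sm ga z58 = z59) (e59 : sm gh z59 = z60) (e60 : sm gf z60 = z61) (e61 : sm ge z61 = z62) : sm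 gd z62 = X := by
  subst e0
  subst e1
  subst e2
  subst e3
  subst e4
  subst e5
  subst e6
  subst e7
  subst e8
  subst e9
  subst e10
  subst e11
  subst e12
  subst e13
  subst e14
  subst e15
  subst e16
  subst e17
  subst e18
  subst e19
  subst e20
  subst e21
  subst e22
  subst e23
  subst e24
  subst e25
  subst e26
  subst e27
  subst e28
  subst e29
  subst e30
  subst e31
  subst e32
  subst e33
  subst e34
  subst e35
  subst e36
  subst e37
  subst e38
  subst e39
  subst e40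
  subst e41
  subst e42
  subst e43
  subst e44
  subst e45
  subst e46
  subst e47
  subst e48
  subst e49
  subst e50
  subst e51
  subst e52
  subst e53
  subst e54
  subst e55
  subst e56
  subst e57
  subst e58
  subst e59
  subst e60
  subst e61
  exact rot_46_46 X

theorem ded_46_62 {X z1 z2 z3 z4 z5 z6 z7 z8 z9 z10 z11 z12 z13 z14 z15 z16 z17 z18 z19 z20 z21 z22 z23 z24 z25 z26 z27 z28 z29 z30 z31 z32 z33 z34 z35 z36 z37 z38 z39 z40 z41 z42 z43 z44 z45 z46 z47 z48 z49 z50 z51 z52 z53 z54 z55 z56 z57 z58 z59 z60 z61 z62 : Q} (e0 : sm gh X = z1) (e1 : sm gf z1 = z2) (e2 : sm ge z2 = z3) (e3 : sm gd z3 = z4) (e4 : sm gc z4 = z5) (e5 : sm gb z5 = z6) (e6 : sm ga z6 = z7) (e7 : sm gh z7 = z8) (e8 : sm gf z8 = z9) (e9 : sm ge z9 = z10) (e10 : sm gd z10 = z11) (e11 : sm gc z11 = z12) (e12 : sm gb z12 = z13) (e13 : sm ga z13 = z14) (e14 : sm gh z14 = z15) (e15 : sm gf z15 = z16) (e16 : sm ge z16 = z17) (e17 : sm gd z17 = z18) (e18 : sm gc z18 = z19) (e19 : sm gb z19 = z20) (e20 :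 sm ga z20 = z21) (e21 : sm gh z21 = z22) (e22 : sm gf z22 = z23) (e23 : sm ge z23 = z24) (e24 : sm gd z24 = z25) (e25 : sm gc z25 = z26) (e26 : sm gb z26 = z27) (e27 : sm ga z27 = z28) (e28 : sm gh z28 = z29) (e29 : sm gf z29 = z30) (e30 : sm ge z30 = z31) (e31 : sm gd z31 = z32) (e32 : sm gc z32 = z33) (e33 : sm gb z33 = z34) (e34 : sm ga z34 = z35) (e35 : sm gh z35 = z36) (e36 : sm gf z36 = z37) (e37 : sm ge z37 = z38) (e38 : sm gd z38 = z39) (e39 : sm gc z39 = z40) (e40 : sm gb z40 = z41) (e41 : sm ga z41 = z42) (e42 : sm gh z42 = z43) (e43 : sm gf z43 = z44) (e44 : sm ge z44 = z45) (e45 : sm gd z45 = z46) (e46 : sm gc z46 = z47) (e47 : sm gb z47 = z48) (e48 : sm ga z48 = z49) (e49 : sm gh z49 = z50) (e50 : sm gf z50 = z51) (e51 : sm ge z51 = z52) (e52 : sm gd z52 = z53) (e53 : sm gc z53 = z54) (e54 : sm gb z54 = z55) (e55 : sm ga z55 = z56) (e56 : sm gh z56 = z57) (e57 : sm gf z57 = z58) (e58 : sm ge z58 = z59) (e59 : sm gd z59 = z60) (e60 : sm gc z60 = z61) (e61 : sm gb z61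 = z62) : sm ga z62 = X := by
  subst e0
  subst e1
  subst e2
  subst e3
  subst e4
  subst e5
  subst e6
  subst e7
  subst e8
  subst e9
  subst e10
  subst e11
  subst e12
  subst e13
  subst e14
  subst e15
  subst e16
  subst e17
  subst e18
  subst e19
  subst e20
  subst e21
  subst e22
  subst e23
  subst e24
  subst e25
  subst e26
  subst e27
  subst e28
  subst e29
  subst e30
  subst e31
  subst e32
  subst e33
  subst e34
  subst e35
  subst e36
  subst e37
  subst e38
  subst e39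
  subst e40
  subst e41
  subst e42
  subst e43
  subst e44
  subst e45
  subst e46
  subst e47
  subst e48
  subst e49
  subst e50
  subst e51
  subst e52
  subst e53
  subst e54
  subst e55
  subst e56
  subst e57
  subst e58
  subst e59
  subst e60
  subst e61
  exact rot_46_0 X

theorem ded_47_0 {X z1 z2 z3 z4 z5 z6 z7 z8 z9 z10 z11 z12 z13 z14 z15 z16 z17 z18 z19 z20 z21 z22 z23 z24 z25 z26 z27 z28 z29 z30 z31 z32 z33 z34 z35 z36 z37 z38 z39 z40 z41 z42 z43 z44 z45 z46 z47 z48 z49 z50 z51 z52 z53 z54 z55 z56 z57 z58 z59 z60 z61 z62 : Q} (e0 : sm gg X = z1) (e1 : sm gf z1 = z2) (e2 : sm ge z2 = z3) (e3 : sm gd z3 = z4) (e4 : sm gc z4 = z5) (e5 : sm gb z5 = z6) (e6 : sm gh z6 = z7) (e7 : sm gg z7 = z8) (e8 : sm gf z8 = z9) (e9 : sm ge z9 = z10) (e10 : sm gd z10 = z11) (e11 : sm gc z11 = z12) (e12 : sm gb z12 = z13) (e13 : sm gh z13 = z14) (e14 : sm gg z14 = z15) (e15 : sm gf z15 = z16) (e16 : sm ge z16 = z17) (e17 : sm gd z17 = z18) (e18 : sm gc z18 = z19) (e19 : sm gb z19 = z20)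 (e20 : sm gh z20 = z21) (e21 : sm gg z21 = z22) (e22 : sm gf z22 = z23) (e23 : sm ge z23 = z24) (e24 : sm gd z24 = z25) (e25 : sm gc z25 = z26) (e26 : sm gb z26 = z27) (e27 : sm gh z27 = z28) (e28 : sm gg z28 = z29) (e29 : sm gf z29 = z30) (e30 : sm ge z30 = z31) (e31 : sm gd z31 = z32) (e32 : sm gc z32 = z33) (e33 : sm gb z33 = z34) (e34 : sm gh z34 = z35) (e35 : sm gg z35 = z36) (e36 : sm gf z36 = z37) (e37 : sm ge z37 = z38) (e38 : sm gd z38 = z39) (e39 : sm gc z39 = z40) (e40 : sm gb z40 = z41) (e41 : sm gh z41 = z42) (e42 : sm gg z42 = z43) (e43 : sm gf z43 = z44) (e44 : sm ge z44 = z45) (e45 : sm gd z45 = z46) (e46 : sm gc z46 = z47) (e47 : sm gb z47 = z48) (e48 : sm gh z48 = z49) (e49 : sm gg z49 = z50) (e50 : sm gf z50 = z51) (e51 : sm ge z51 = z52) (e52 : sm gd z52 = z53) (e53 : sm gc z53 = z54) (e54 : sm gb z54 = z55) (e55 : sm gh z55 = z56) (e56 : sm gg z56 = z57) (e57 : sm gf z57 = z58) (e58 : sm ge z58 = z59) (e59 : sm gd z59 = z60) (e60 : sm gc z60 = z61) (e61 : sm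 gb z61 = z62) : sm gh z62 = X := by
  subst e0
  subst e1
  subst e2
  subst e3
  subst e4
  subst e5
  subst e6
  subst e7
  subst e8
  subst e9
  subst e10
  subst e11
  subst e12
  subst e13
  subst e14
  subst e15
  subst e16
  subst e17
  subst e18
  subst e19
  subst e20
  subst e21
  subst e22
  subst e23
  subst e24
  subst e25
  subst e26
  subst e27
  subst e28
  subst e29
  subst e30
  subst e31
  subst e32
  subst e33
  subst e34
  subst e35
  subst e36
  subst e37
  subst e38
  subst e39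
  subst e40
  subst e41
  subst e42
  subst e43
  subst e44
  subst e45
  subst e46
  subst e47
  subst e48
  subst e49
  subst e50
  subst e51
  subst e52
  subst e53
  subst e54
  subst e55
  subst e56
  subst e57
  subst e58
  subst e59
  subst e60
  subst e61
  exact rot_47_1 X

theorem ded_47_1 {X z1 z2 z3 z4 z5 z6 z7 z8 z9 z10 z11 z12 z13 z14 z15 z16 z17 z18 z19 z20 z21 z22 z23 z24 z25 z26 z27 z28 z29 z30 z31 z32 z33 z34 z35 z36 z37 z38 z39 z40 z41 z42 z43 z44 z45 z46 z47 z48 z49 z50 z51 z52 z53 z54 z55 z56 z57 z58 z59 z60 z61 z62 : Q} (e0 : sm gf X = z1) (e1 : sm ge z1 = z2) (e2 : sm gd z2 = z3) (e3 : sm gc z3 = z4) (e4 : sm gb z4 = z5) (e5 : sm gh z5 = z6) (e6 : sm gg z6 = z7) (e7 : sm gf z7 = z8) (e8 : sm ge z8 = z9) (e9 : sm gd z9 = z10) (e10 : sm gc z10 = z11) (e11 : sm gb z11 = z12) (e12 : sm gh z12 = z13) (e13 : sm gg z13 = z14) (e14 : sm gf z14 = z15) (e15 : sm ge z15 = z16) (e16 : sm gd z16 = z17) (e17 : sm gc z17 = z18) (e18 : sm gb z18 = z19) (e19 : sm gh z19 = z20)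 (e20 : sm gg z20 = z21) (e21 : sm gf z21 = z22) (e22 : sm ge z22 = z23) (e23 : sm gd z23 = z24) (e24 : sm gc z24 = z25) (e25 : sm gb z25 = z26) (e26 : sm gh z26 = z27) (e27 : sm gg z27 = z28) (e28 : sm gf z28 = z29) (e29 : sm ge z29 = z30) (e30 : sm gd z30 = z31) (e31 : sm gc z31 = z32) (e32 : sm gb z32 = z33) (e33 : sm gh z33 = z34) (e34 : sm gg z34 = z35) (e35 : sm gf z35 = z36) (e36 : sm ge z36 = z37) (e37 : sm gd z37 = z38) (e38 : sm gc z38 = z39) (e39 : sm gb z39 = z40) (e40 : sm gh z40 = z41) (e41 : sm gg z41 = z42) (e42 : sm gf z42 = z43) (e43 : sm ge z43 = z44) (e44 : sm gd z44 = z45) (e45 : sm gc z45 = z46) (e46 : sm gb z46 = z47) (e47 : sm gh z47 = z48) (e48 : sm gg z48 = z49) (e49 : sm gf z49 = z50) (e50 : sm ge z50 = z51) (e51 : sm gd z51 = z52) (e52 : sm gc z52 = z53) (e53 : sm gb z53 = z54) (e54 : sm gh z54 = z55) (e55 : sm gg z55 = z56) (e56 : sm gf z56 = z57) (e57 : sm ge z57 = z58) (e58 : sm gd z58 = z59) (e59 : sm gc z59 = z60) (e60 : sm gb z60 = z61) (e61 : sm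 gh z61 = z62) : sm gg z62 = X := by
  subst e0
  subst e1
  subst e2
  subst e3
  subst e4
  subst e5
  subst e6
  subst e7
  subst e8
  subst e9
  subst e10
  subst e11
  subst e12
  subst e13
  subst e14
  subst e15
  subst e16
  subst e17
  subst e18
  subst e19
  subst e20
  subst e21
  subst e22
  subst e23
  subst e24
  subst e25
  subst e26
  subst e27
  subst e28
  subst e29
  subst e30
  subst e31
  subst e32
  subst e33
  subst e34
  subst e35
  subst e36
  subst e37
  subst e38
  subst e39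
  subst e40
  subst e41
  subst e42
  subst e43
  subst e44
  subst e45
  subst e46
  subst e47
  subst e48
  subst e49
  subst e50
  subst e51
  subst e52
  subst e53
  subst e54
  subst e55
  subst e56
  subst e57
  subst e58
  subst e59
  subst e60
  subst e61
  exact rot_47_2 X

theorem ded_47_2 {X z1 z2 z3 z4 z5 z6 z7 z8 z9 z10 z11 z12 z13 z14 z15 z16 z17 z18 z19 z20 z21 z22 z23 z24 z25 z26 z27 z28 z29 z30 z31 z32 z33 z34 z35 z36 z37 z38 z39 z40 z41 z42 z43 z44 z45 z46 z47 z48 z49 z50 z51 z52 z53 z54 z55 z56 z57 z58 z59 z60 z61 z62 : Q} (e0 : sm ge X = z1) (e1 : sm gd z1 = z2) (e2 : sm gc z2 = z3) (e3 : sm gb z3 = z4) (e4 : sm gh z4 = z5) (e5 : sm gg z5 = z6) (e6 : sm gf z6 = z7) (e7 : sm ge z7 = z8) (e8 : sm gd z8 = z9) (e9 : sm gc z9 = z10) (e10 : sm gb z10 = z11) (e11 : sm gh z11 = z12) (e12 : sm gg z12 = z13) (e13 : sm gf z13 = z14) (e14 : sm ge z14 = z15) (e15 : sm gd z15 = z16) (e16 : sm gc z16 = z17) (e17 : sm gb z17 = z18) (e18 : sm gh z18 = z19) (e19 : sm gg z19 = z20)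 (e20 : sm gf z20 = z21) (e21 : sm ge z21 = z22) (e22 : sm gd z22 = z23) (e23 : sm gc z23 = z24) (e24 : sm gb z24 = z25) (e25 : sm gh z25 = z26) (e26 : sm gg z26 = z27) (e27 : sm gf z27 = z28) (e28 : sm ge z28 = z29) (e29 : sm gd z29 = z30) (e30 : sm gc z30 = z31) (e31 : sm gb z31 = z32) (e32 : sm gh z32 = z33) (e33 : sm gg z33 = z34) (e34 : sm gf z34 = z35) (e35 : sm ge z35 = z36) (e36 : sm gd z36 = z37) (e37 : sm gc z37 = z38) (e38 : sm gb z38 = z39) (e39 : sm gh z39 = z40) (e40 : sm gg z40 = z41) (e41 : sm gf z41 = z42) (e42 : sm ge z42 = z43) (e43 : sm gd z43 = z44) (e44 : sm gc z44 = z45) (e45 : sm gb z45 = z46) (e46 : sm gh z46 = z47) (e47 : sm gg z47 = z48) (e48 : sm gf z48 = z49) (e49 : sm ge z49 = z50) (e50 : sm gd z50 = z51) (e51 : sm gc z51 = z52) (e52 : sm gb z52 = z53) (e53 : sm gh z53 = z54) (e54 : sm gg z54 = z55) (e55 : sm gf z55 = z56) (e56 : sm ge z56 = z57) (e57 : sm gd z57 = z58) (e58 : sm gc z58 = z59) (e59 : sm gb z59 = z60) (e60 : sm gh z60 = z61) (e61 : sm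 gg z61 = z62) : sm gf z62 = X := by
  subst e0
  subst e1
  subst e2
  subst e3
  subst e4
  subst e5
  subst e6
  subst e7
  subst e8
  subst e9
  subst e10
  subst e11
  subst e12
  subst e13
  subst e14
  subst e15
  subst e16
  subst e17
  subst e18
  subst e19
  subst e20
  subst e21
  subst e22
  subst e23
  subst e24
  subst e25
  subst e26
  subst e27
  subst e28
  subst e29
  subst e30
  subst e31
  subst e32
  subst e33
  subst e34
  subst e35
  subst e36
  subst e37
  subst e38
  subst e39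
  subst e40
  subst e41
  subst e42
  subst e43
  subst e44
  subst e45
  subst e46
  subst e47
  subst e48
  subst e49
  subst e50
  subst e51
  subst e52
  subst e53
  subst e54
  subst e55
  subst e56
  subst e57
  subst e58
  subst e59
  subst e60
  subst e61
  exact rot_47_3 X

theorem ded_47_3 {X z1 z2 z3 z4 z5 z6 z7 z8 z9 z10 z11 z12 z13 z14 z15 z16 z17 z18 z19 z20 z21 z22 z23 z24 z25 z26 z27 z28 z29 z30 z31 z32 z33 z34 z35 z36 z37 z38 z39 z40 z41 z42 z43 z44 z45 z46 z47 z48 z49 z50 z51 z52 z53 z54 z55 z56 z57 z58 z59 z60 z61 z62 : Q} (e0 : sm gd X = z1) (e1 : sm gc z1 = z2) (e2 : sm gb z2 = z3) (e3 : sm gh z3 = z4) (e4 : sm gg z4 = z5) (e5 : sm gf z5 = z6) (e6 : sm ge z6 = z7) (e7 : sm gd z7 = z8) (e8 : sm gc z8 = z9) (e9 : sm gb z9 = z10) (e10 : sm gh z10 = z11) (e11 : sm gg z11 = z12) (e12 : sm gf z12 = z13) (e13 : sm ge z13 = z14) (e14 : sm gd z14 = z15) (e15 : sm gc z15 = z16) (e16 : sm gb z16 = z17) (e17 : sm gh z17 = z18) (e18 : sm gg z18 = z19) (e19 : sm gf z19 = z20)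 (e20 : sm ge z20 = z21) (e21 : sm gd z21 = z22) (e22 : sm gc z22 = z23) (e23 : sm gb z23 = z24) (e24 : sm gh z24 = z25) (e25 : sm gg z25 = z26) (e26 : sm gf z26 = z27) (e27 : sm ge z27 = z28) (e28 : sm gd z28 = z29) (e29 : sm gc z29 = z30) (e30 : sm gb z30 = z31) (e31 : sm gh z31 = z32) (e32 : sm gg z32 = z33) (e33 : sm gf z33 = z34) (e34 : sm ge z34 = z35) (e35 : sm gd z35 = z36) (e36 : sm gc z36 = z37) (e37 : sm gb z37 = z38) (e38 : sm gh z38 = z39) (e39 : sm gg z39 = z40) (e40 : sm gf z40 = z41) (e41 : sm ge z41 = z42) (e42 : sm gd z42 = z43) (e43 : sm gc z43 = z44) (e44 : sm gb z44 = z45) (e45 : sm gh z45 = z46) (e46 : sm gg z46 = z47) (e47 : sm gf z47 = z48) (e48 : sm ge z48 = z49) (e49 : sm gd z49 = z50) (e50 : sm gc z50 = z51) (e51 : sm gb z51 = z52) (e52 : sm gh z52 = z53) (e53 : sm gg z53 = z54) (e54 : sm gf z54 = z55) (e55 : sm ge z55 = z56) (e56 : sm gd z56 = z57) (e57 : sm gc z57 = z58) (e58 : sm gb z58 = z59) (e59 : sm gh z59 = z60) (e60 : sm gg z60 = z61) (e61 : sm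 gf z61 = z62) : sm ge z62 = X := by
  subst e0
  subst e1
  subst e2
  subst e3
  subst e4
  subst e5
  subst e6
  subst e7
  subst e8
  subst e9
  subst e10
  subst e11
  subst e12
  subst e13
  subst e14
  subst e15
  subst e16
  subst e17
  subst e18
  subst e19
  subst e20
  subst e21
  subst e22
  subst e23
  subst e24
  subst e25
  subst e26
  subst e27
  subst e28
  subst e29
  subst e30
  subst e31
  subst e32
  subst e33
  subst e34
  subst e35
  subst e36
  subst e37
  subst e38
  subst e39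
  subst e40
  subst e41
  subst e42
  subst e43
  subst e44
  subst e45
  subst e46
  subst e47
  subst e48
  subst e49
  subst e50
  subst e51
  subst e52
  subst e53
  subst e54
  subst e55
  subst e56
  subst e57
  subst e58
  subst e59
  subst e60
  subst e61
  exact rot_47_4 X

theorem ded_47_4 {X z1 z2 z3 z4 z5 z6 z7 z8 z9 z10 z11 z12 z13 z14 z15 z16 z17 z18 z19 z20 z21 z22 z23 z24 z25 z26 z27 z28 z29 z30 z31 z32 z33 z34 z35 z36 z37 z38 z39 z40 z41 z42 z43 z44 z45 z46 z47 z48 z49 z50 z51 z52 z53 z54 z55 z56 z57 z58 z59 z60 z61 z62 : Q} (e0 : sm gc X = z1) (e1 : sm gb z1 = z2) (e2 : sm gh z2 = z3) (e3 : sm gg z3 = z4) (e4 : sm gf z4 = z5) (e5 : sm ge z5 = z6) (e6 : sm gd z6 = z7) (e7 : sm gc z7 = z8) (e8 : sm gb z8 = z9) (e9 : sm gh z9 = z10) (e10 : sm gg z10 = z11) (e11 : sm gf z11 = z12) (e12 : sm ge z12 = z13) (e13 : sm gd z13 = z14) (e14 : sm gc z14 = z15) (e15 : sm gb z15 = z16) (e16 : sm gh z16 = z17) (e17 : sm gg z17 = z18) (e18 : sm gf z18 = z19) (e19 : sm ge z19 = z20)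 (e20 : sm gd z20 = z21) (e21 : sm gc z21 = z22) (e22 : sm gb z22 = z23) (e23 : sm gh z23 = z24) (e24 : sm gg z24 = z25) (e25 : sm gf z25 = z26) (e26 : sm ge z26 = z27) (e27 : sm gd z27 = z28) (e28 : sm gc z28 = z29) (e29 : sm gb z29 = z30) (e30 : sm gh z30 = z31) (e31 : sm gg z31 = z32) (e32 : sm gf z32 = z33) (e33 : sm ge z33 = z34) (e34 : sm gd z34 = z35) (e35 : sm gc z35 = z36) (e36 : sm gb z36 = z37) (e37 : sm gh z37 = z38) (e38 : sm gg z38 = z39) (e39 : sm gf z39 = z40) (e40 : sm ge z40 = z41) (e41 : sm gd z41 = z42) (e42 : sm gc z42 = z43) (e43 : sm gb z43 = z44) (e44 : sm gh z44 = z45) (e45 : sm gg z45 = z46) (e46 : sm gf z46 = z47) (e47 : sm ge z47 = z48) (e48 : sm gd z48 = z49) (e49 : sm gc z49 = z50) (e50 : sm gb z50 = z51) (e51 : sm gh z51 = z52) (e52 : sm gg z52 = z53) (e53 : sm gf z53 = z54) (e54 : sm ge z54 = z55) (e55 : sm gd z55 = z56) (e56 : sm gc z56 = z57) (e57 : sm gb z57 = z58) (e58 : sm gh z58 = z59) (e59 : sm gg z59 = z60) (e60 : sm gf z60 = z61) (e61 : sm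 ge z61 = z62) : sm gd z62 = X := by
  subst e0
  subst e1
  subst e2
  subst e3
  subst e4
  subst e5
  subst e6
  subst e7
  subst e8
  subst e9
  subst e10
  subst e11
  subst e12
  subst e13
  subst e14
  subst e15
  subst e16
  subst e17
  subst e18
  subst e19
  subst e20
  subst e21
  subst e22
  subst e23
  subst e24
  subst e25
  subst e26
  subst e27
  subst e28
  subst e29
  subst e30
  subst e31
  subst e32
  subst e33
  subst e34
  subst e35
  subst e36
  subst e37
  subst e38
  subst e39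
  subst e40
  subst e41
  subst e42
  subst e43
  subst e44
  subst e45
  subst e46
  subst e47
  subst e48
  subst e49
  subst e50
  subst e51
  subst e52
  subst e53
  subst e54
  subst e55
  subst e56
  subst e57
  subst e58
  subst e59
  subst e60
  subst e61
  exact rot_47_5 X

theorem ded_47_6 {X z1 z2 z3 z4 z5 z6 z7 z8 z9 z10 z11 z12 z13 z14 z15 z16 z17 z18 z19 z20 z21 z22 z23 z24 z25 z26 z27 z28 z29 z30 z31 z32 z33 z34 z35 z36 z37 z38 z39 z40 z41 z42 z43 z44 z45 z46 z47 z48 z49 z50 z51 z52 z53 z54 z55 z56 z57 z58 z59 z60 z61 z62 : Q} (e0 : sm gh X = z1) (e1 : sm gg z1 = z2) (e2 : sm gf z2 = z3) (e3 : sm ge z3 = z4) (e4 : sm gd z4 = z5) (e5 : sm gc z5 = z6) (e6 : sm gb z6 = z7) (e7 : sm gh z7 = z8) (e8 : sm gg z8 = z9) (e9 : sm gf z9 = z10) (e10 : sm ge z10 = z11) (e11 : sm gd z11 = z12) (e12 : sm gc z12 = z13) (e13 : sm gb z13 = z14) (e14 : sm gh z14 = z15) (e15 : sm gg z15 = z16) (e16 : sm gf z16 = z17) (e17 : sm ge z17 = z18) (e18 : sm gd z18 = z19) (e19 : sm gc z19 = z20)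 (e20 : sm gb z20 = z21) (e21 : sm gh z21 = z22) (e22 : sm gg z22 = z23) (e23 : sm gf z23 = z24) (e24 : sm ge z24 = z25) (e25 : sm gd z25 = z26) (e26 : sm gc z26 = z27) (e27 : sm gb z27 = z28) (e28 : sm gh z28 = z29) (e29 : sm gg z29 = z30) (e30 : sm gf z30 = z31) (e31 : sm ge z31 = z32) (e32 : sm gd z32 = z33) (e33 : sm gc z33 = z34) (e34 : sm gb z34 = z35) (e35 : sm gh z35 = z36) (e36 : sm gg z36 = z37) (e37 : sm gf z37 = z38) (e38 : sm ge z38 = z39) (e39 : sm gd z39 = z40) (e40 : sm gc z40 = z41) (e41 : sm gb z41 = z42) (e42 : sm gh z42 = z43) (e43 : sm gg z43 = z44) (e44 : sm gf z44 = z45) (e45 : sm ge z45 = z46) (e46 : sm gd z46 = z47) (e47 : sm gc z47 = z48) (e48 : sm gb z48 = z49) (e49 : sm gh z49 = z50) (e50 : sm gg z50 = z51) (e51 : sm gf z51 = z52) (e52 : sm ge z52 = z53) (e53 : sm gd z53 = z54) (e54 : sm gc z54 = z55) (e55 : sm gb z55 = z56) (e56 : sm gh z56 = z57) (e57 : sm gg z57 = z58) (e58 : sm gf z58 = z59) (e59 : sm ge z59 = z60) (e60 : sm gd z60 = z61) (e61 : sm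 gc z61 = z62) : sm gb z62 = X := by
  subst e0
  subst e1
  subst e2
  subst e3
  subst e4
  subst e5
  subst e6
  subst e7
  subst e8
  subst e9
  subst e10
  subst e11
  subst e12
  subst e13
  subst e14
  subst e15
  subst e16
  subst e17
  subst e18
  subst e19
  subst e20
  subst e21
  subst e22
  subst e23
  subst e24
  subst e25
  subst e26
  subst e27
  subst e28
  subst e29
  subst e30
  subst e31
  subst e32
  subst e33
  subst e34
  subst e35
  subst e36
  subst e37
  subst e38
  subst e39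
  subst e40
  subst e41
  subst e42
  subst e43
  subst e44
  subst e45
  subst e46
  subst e47
  subst e48
  subst e49
  subst e50
  subst e51
  subst e52
  subst e53
  subst e54
  subst e55
  subst e56
  subst e57
  subst e58
  subst e59
  subst e60
  subst e61
  exact rot_47_7 X

theorem ded_47_7 {X z1 z2 z3 z4 z5 z6 z7 z8 z9 z10 z11 z12 z13 z14 z15 z16 z17 z18 z19 z20 z21 z22 z23 z24 z25 z26 z27 z28 z29 z30 z31 z32 z33 z34 z35 z36 z37 z38 z39 z40 z41 z42 z43 z44 z45 z46 z47 z48 z49 z50 z51 z52 z53 z54 z55 z56 z57 z58 z59 z60 z61 z62 : Q} (e0 : sm gg X = z1) (e1 : sm gf z1 = z2) (e2 : sm ge z2 = z3) (e3 : sm gd z3 = z4) (e4 : sm gc z4 = z5) (e5 : sm gb z5 = z6) (e6 : sm gh z6 = z7) (e7 : sm gg z7 = z8) (e8 : sm gf z8 = z9) (e9 : sm ge z9 = z10) (e10 : sm gd z10 = z11) (e11 : sm gc z11 = z12) (e12 : sm gb z12 = z13) (e13 : sm gh z13 = z14) (e14 : sm gg z14 = z15) (e15 : sm gf z15 = z16) (e16 : sm ge z16 = z17) (e17 : sm gd z17 = z18) (e18 : sm gc z18 = z19) (e19 : sm gb z19 = z20)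 (e20 : sm gh z20 = z21) (e21 : sm gg z21 = z22) (e22 : sm gf z22 = z23) (e23 : sm ge z23 = z24) (e24 : sm gd z24 = z25) (e25 : sm gc z25 = z26) (e26 : sm gb z26 = z27) (e27 : sm gh z27 = z28) (e28 : sm gg z28 = z29) (e29 : sm gf z29 = z30) (e30 : sm ge z30 = z31) (e31 : sm gd z31 = z32) (e32 : sm gc z32 = z33) (e33 : sm gb z33 = z34) (e34 : sm gh z34 = z35) (e35 : sm gg z35 = z36) (e36 : sm gf z36 = z37) (e37 : sm ge z37 = z38) (e38 : sm gd z38 = z39) (e39 : sm gc z39 = z40) (e40 : sm gb z40 = z41) (e41 : sm gh z41 = z42) (e42 : sm gg z42 = z43) (e43 : sm gf z43 = z44) (e44 : sm ge z44 = z45) (e45 : sm gd z45 = z46) (e46 : sm gc z46 = z47) (e47 : sm gb z47 = z48) (e48 : sm gh z48 = z49) (e49 : sm gg z49 = z50) (e50 : sm gf z50 = z51) (e51 : sm ge z51 = z52) (e52 : sm gd z52 = z53) (e53 : sm gc z53 = z54) (e54 : sm gb z54 = z55) (e55 : sm gh z55 = z56) (e56 : sm gg z56 = z57) (e57 : sm gf z57 = z58) (e58 : sm ge z58 = z59) (e59 : sm gd z59 = z60) (e60 : sm gc z60 = z61) (e61 : sm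 gb z61 = z62) : sm gh z62 = X := by
  subst e0
  subst e1
  subst e2
  subst e3
  subst e4
  subst e5
  subst e6
  subst e7
  subst e8
  subst e9
  subst e10
  subst e11
  subst e12
  subst e13
  subst e14
  subst e15
  subst e16
  subst e17
  subst e18
  subst e19
  subst e20
  subst e21
  subst e22
  subst e23
  subst e24
  subst e25
  subst e26
  subst e27
  subst e28
  subst e29
  subst e30
  subst e31
  subst e32
  subst e33
  subst e34
  subst e35
  subst e36
  subst e37
  subst e38
  subst e39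
  subst e40
  subst e41
  subst e42
  subst e43
  subst e44
  subst e45
  subst e46
  subst e47
  subst e48
  subst e49
  subst e50
  subst e51
  subst e52
  subst e53
  subst e54
  subst e55
  subst e56
  subst e57
  subst e58
  subst e59
  subst e60
  subst e61
  exact rot_47_8 X

theorem sub_0 : gb • N0 = N0 := by
  have hm : PresentedGroup.mk rels (b) ∈ H :=
    Subgroup.mem_map_of_mem _ (Subgroup.subset_closure (by simp))
  have h := smul_N0 _ hm
  simp only [map_mul, map_pow, mk_of, pow_succ, pow_zero, one_mul, ← mul_assoc, mul_smul] at h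
  exact h

theorem sub_1 : gc • N0 = N0 := by
  have hm : PresentedGroup.mk rels (c) ∈ H :=
    Subgroup.mem_map_of_mem _ (Subgroup.subset_closure (by simp))
  have h := smul_N0 _ hm
  simp only [map_mul, map_pow, mk_of, pow_succ, pow_zero, one_mul, ← mul_assoc, mul_smul] at h
  exact h

theorem sub_2 : gd • N0 = N0 := by
  have hm : PresentedGroup.mk rels (d) ∈ H :=
    Subgroup.mem_map_of_mem _ (Subgroup.subset_closure (by simp))
  have h := smul_N0 _ hm
  simp only [map_mul, map_pow, mk_of, pow_succ, pow_zero, one_mul, ← mul_assoc, mul_smul] at h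
  exact h

theorem sub_3 : ge • N0 = N0 := by
  have hm : PresentedGroup.mk rels (e) ∈ H :=
    Subgroup.mem_map_of_mem _ (Subgroup.subset_closure (by simp))
  have h := smul_N0 _ hm
  simp only [map_mul, map_pow, mk_of, pow_succ, pow_zero, one_mul, ← mul_assoc, mul_smul] at h
  exact h

theorem sub_4 : gf • N0 = N0 := by
  have hm : PresentedGroup.mk rels (f) ∈ H :=
    Subgroup.mem_map_of_mem _ (Subgroup.subset_closure (by simp))
  have h := smul_N0 _ hm
  simp only [map_mul, map_pow, mk_of, pow_succ, pow_zero, one_mul, ← mul_assoc, mul_smul] at h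
  exact h

theorem sub_5 : gg • N0 = N0 := by
  have hm : PresentedGroup.mk rels (g) ∈ H :=
    Subgroup.mem_map_of_mem _ (Subgroup.subset_closure (by simp))
  have h := smul_N0 _ hm
  simp only [map_mul, map_pow, mk_of, pow_succ, pow_zero, one_mul, ← mul_assoc, mul_smul] at h
  exact h

theorem sub_6 : gh • N0 = N0 := by
  have hm : PresentedGroup.mk rels (h) ∈ H :=
    Subgroup.mem_map_of_mem _ (Subgroup.subset_closure (by simp))
  have h := smul_N0 _ hm
  simp only [map_mul, map_pow, mk_of, pow_succ, pow_zero, one_mul, ← mul_assoc, mul_smul] at h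
  exact h

theorem sub_7 : gi • N0 = N0 := by
  have hm : PresentedGroup.mk rels (i) ∈ H :=
    Subgroup.mem_map_of_mem _ (Subgroup.subset_closure (by simp))
  have h := smul_N0 _ hm
  simp only [map_mul, map_pow, mk_of, pow_succ, pow_zero, one_mul, ← mul_assoc, mul_smul] at h
  exact h

theorem sded_0_0  : sm gb N0 = N0 := by
  exact sub_0

theorem sded_1_0  : sm gc N0 = N0 := by
  exact sub_1

theorem sded_2_0  : sm gd N0 = N0 := by
  exact sub_2

theorem sded_3_0  : sm ge N0 = N0 := by
  exact sub_3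

theorem sded_4_0  : sm gf N0 = N0 := by
  exact sub_4

theorem sded_5_0  : sm gg N0 = N0 := by
  exact sub_5

theorem sded_6_0  : sm gh N0 = N0 := by
  exact sub_6

theorem sded_7_0  : sm gi N0 = N0 := by
  exact sub_7

attribute [irreducible] sm

end Cfsg.Agent.Helper28.FibA
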