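import Cfsg.Agent.Helper28.FibA

/-! # The Fi₂₂ presentation, cosets of the subgroup generated by b, …, i: the coset enumeration, part 0 (helper28; generated) -/

set_option autoImplicit false

noncomputable section

namespace Cfsg.Agent.Helper28.FibA

open Cfsg.Agent.Helper28.CosetTable

def N1 : Q := sm ga N0
def N2 : Q := sm gb N1
def N3 : Q := sm gc N2
def N4 : Q := sm gd N3
def N5 : Q := sm ge N4
def N6 : Q := sm gh N4
def N7 : Q := sm gf N5
def N8 : Q := sm gh N5
def N9 : Q := sm gi N6
def N10 : Q := sm gg N7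
def N11 : Q := sm gh N7
def N12 : Q := sm gd N8
def N13 : Q := sm gi N8
def N14 : Q := sm gh N10
def N15 : Q := sm gd N11
def N16 : Q := sm gi N11
def N17 : Q := sm gc N12
def N18 : Q := sm gi N12
def N19 : Q := sm gd N14
def N20 : Q := sm gi N14
def N21 : Q := sm gc N15
def N22 : Q := sm ge N15
def N23 : Q := sm gi N15
def N24 : Q := sm gb N17
def N25 : Q := sm gi N17
def N26 : Q := sm gh N18
def N27 : Q := sm gc N19
def N28 : Q := sm ge N19
def N29 : Q := sm gi N19
def N30 : Q := sm gb N21
def N31 : Q := sm ge N21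
def N32 : Q := sm gi N21
def N33 : Q := sm gi N22
def N34 : Q := sm gh N23
def N35 : Q := sm ga N24
def N36 : Q := sm gi N24
def N37 : Q := sm gh N25
def N38 : Q := sm gb N27
def N39 : Q := sm ge N27
def N40 : Q := sm gi N27
def N41 : Q := sm gf N28
def N42 : Q := sm gi N28
def N43 : Q := sm gh N29
def N44 : Q := sm ga N30
def N45 : Q := sm ge N30
def N46 : Q := sm gi N30
def N47 : Q := sm gd N31
def N48 : Q := sm gi N31
def N49 : Q := sm gh N32
def N50 : Q := sm gh N33
def N51 : Q := sm gi N35
def N52 : Q := sm gh N36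
def N53 : Q := sm gd N37
def N54 : Q := sm ga N38
def N55 : Q := sm ge N38
def N56 : Q := sm gi N38
def N57 : Q := sm gd N39
def N58 : Q := sm gf N39
def N59 : Q := sm gi N39
def N60 : Q := sm gh N40
def N61 : Q := sm gi N41
def N62 : Q := sm gh N42
def N63 : Q := sm ge N44
def N64 : Q := sm gi N44
def N65 : Q := sm gd N45
def N66 : Q := sm gi N45
def N67 : Q := sm gh N46
def N68 : Q := sm gh N47
def N69 : Q := sm gi N47
def N70 : Q := sm gh N48
def N71 : Q := sm gd N49
def N72 : Q := sm gd N50
def N73 : Q := sm gh N51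
def N74 : Q := sm gd N52
def N75 : Q := sm ge N53
def N76 : Q := sm ge N54
def N77 : Q := sm gi N54
def N78 : Q := sm gd N55
def N79 : Q := sm gf N55
def N80 : Q := sm gi N55
def N81 : Q := sm gh N56
def N82 : Q := sm gf N57
def N83 : Q := sm gh N57
def N84 : Q := sm gi N57
def N85 : Q := sm gi N58
def N86 : Q := sm gh N59
def N87 : Q := sm gd N60
def N88 : Q := sm gh N61
def N89 : Q := sm gd N62
def N90 : Q := sm gd N63
def N91 : Q := sm gi N63
def N92 : Q := sm gh N64
def N93 : Q := sm gc N65
def N94 : Q := sm gh N65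
def N95 : Q := sm gi N65
def N96 : Q := sm gh N66
def N97 : Q := sm gd N67
def N98 : Q := sm gi N68
def N99 : Q := sm gh N69
def N100 : Q := sm gd N70
def N101 : Q := sm ge N71
def N102 : Q := sm gc N72
def N103 : Q := sm gd N73
def N104 : Q := sm gc N74
def N105 : Q := sm ge N74
def N106 : Q := sm gf N75
def N107 : Q := sm gd N76
def N108 : Q := sm gf N76
def N109 : Q := sm gi N76
def N110 : Q := sm gh N77
def N111 : Q := sm gc N78
def N112 : Q := sm gf N78
def N113 : Q := sm gh N78
def N114 : Q := sm gi N78
def N115 : Q := sm gi N79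
def N116 : Q := sm gh N80
def N117 : Q := sm gd N81
def N118 : Q := sm ge N82
def N119 : Q := sm gh N82
def N120 : Q := sm gi N82
def N121 : Q := sm gi N83
def N122 : Q := sm gh N84
def N123 : Q := sm gh N85
def N124 : Q := sm gd N86
def N125 : Q := sm ge N87
def N126 : Q := sm gd N88
def N127 : Q := sm gc N89
def N128 : Q := sm gi N90
def N129 : Q := sm gh N91
def N130 : Q := sm gd N92
def N131 : Q := sm gi N93
def N132 : Q := sm gi N94
def N133 : Q := sm gh N95
def N134 : Q := sm gd N96
def N135 : Q := sm gc N97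
def N136 : Q := sm ge N97
def N137 : Q := sm gh N98
def N138 : Q := sm gd N99
def N139 : Q := sm gc N100
def N140 : Q := sm ge N100
def N141 : Q := sm gf N101
def N142 : Q := sm gb N102
def N143 : Q := sm gc N103
def N144 : Q := sm ge N103
def N145 : Q := sm ge N104
def N146 : Q := sm gf N105
def N147 : Q := sm gg N106
def N148 : Q := sm gf N107
def N149 : Q := sm gi N107
def N150 : Q := sm gi N108
def N151 : Q := sm gh N109
def N152 : Q := sm gd N110
def N153 : Q := sm gf N111
def N154 : Q := sm gi N111
def N155 : Q := sm ge N112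
def N156 : Q := sm gh N112
def N157 : Q := sm gi N112
def N158 : Q := sm gi N113
def N159 : Q := sm gh N114
def N160 : Q := sm gh N115
def N161 : Q := sm gd N116
def N162 : Q := sm gc N117
def N163 : Q := sm ge N117
def N164 : Q := sm gh N118
def N165 : Q := sm gi N118
def N166 : Q := sm gi N119
def N167 : Q := sm gh N120
def N168 : Q := sm gh N121
def N169 : Q := sm gd N122
def N170 : Q := sm gd N123
def N171 : Q := sm gc N124
def N172 : Q := sm ge N124
def N173 : Q := sm gf N125
def N174 : Q := sm gc N126
def N175 : Q := sm ge N126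
def N176 : Q := sm gb N127
def N177 : Q := sm gh N128
def N178 : Q := sm gd N129
def N179 : Q := sm gc N130
def N180 : Q := sm ge N130
def N181 : Q := sm gh N131
def N182 : Q := sm gh N132
def N183 : Q := sm gd N133
def N184 : Q := sm gc N134
def N185 : Q := sm ge N134
def N186 : Q := sm ge N135
def N187 : Q := sm gf N136
def N188 : Q := sm gd N137
def N189 : Q := sm gc N138
def N190 : Q := sm ge N138
def N191 : Q := sm gb N139
def N192 : Q := sm ge N139
def N193 : Q := sm gf N140
def N194 : Q := sm gg N141
def N195 : Q := sm ga N142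
def N196 : Q := sm gb N143
def N197 : Q := sm ge N143
def N198 : Q := sm gf N144
def N199 : Q := sm gd N145
def N200 : Q := sm gf N145
def N201 : Q := sm gg N146
def N202 : Q := sm ge N148
def N203 : Q := sm gi N148
def N204 : Q := sm gh N149
def N205 : Q := sm gh N150
def N206 : Q := sm gd N151
def N207 : Q := sm gc N152
def N208 : Q := sm ge N152
def N209 : Q := sm ge N153
def N210 : Q := sm gi N153
def N211 : Q := sm gh N154
def N212 : Q := sm gh N155
def N213 : Q := sm gi N155
def N214 : Q := sm gi N156
def N215 : Q := sm gh N157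
def N216 : Q := sm gh N158
def N217 : Q := sm gd N159
def N218 : Q := sm gd N160
def N219 : Q := sm gc N161
def N220 : Q := sm ge N161
def N221 : Q := sm ge N162
def N222 : Q := sm gf N163
def N223 : Q := sm gd N164
def N224 : Q := sm gi N164
def N225 : Q := sm gh N165
def N226 : Q := sm gh N166
def N227 : Q := sm gd N167
def N228 : Q := sm gd N168
def N229 : Q := sm gc N169
def N230 : Q := sm ge N169
def N231 : Q := sm gc N170
def N232 : Q := sm ge N170
def N233 : Q := sm gb N171
def N234 : Q := sm ge N171
def N235 : Q := sm gf N172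
def N236 : Q := sm gg N173
def N237 : Q := sm gb N174
def N238 : Q := sm ge N174
def N239 : Q := sm ga N176
def N240 : Q := sm gd N177
def N241 : Q := sm gc N178
def N242 : Q := sm ge N178
def N243 : Q := sm gb N179
def N244 : Q := sm ge N179
def N245 : Q := sm gf N180
def N246 : Q := sm gd N181
def N247 : Q := sm gd N182
def N248 : Q := sm gc N183
def N249 : Q := sm ge N183
def N250 : Q := sm gb N184
def N251 : Q := sm ge N184
def N252 : Q := sm gf N185
def N253 : Q := sm gd N186
def N254 : Q := sm gf N186
def N255 : Q := sm gg N187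
def N256 : Q := sm gc N188
def N257 : Q := sm ge N188
def N258 : Q := sm gb N189
def N259 : Q := sm ge N189
def N260 : Q := sm gf N190
def N261 : Q := sm ga N191
def N262 : Q := sm ge N191
def N263 : Q := sm gf N192
def N264 : Q := sm gg N193
def N265 : Q := sm ge N196
def N266 : Q := sm gd N197
def N267 : Q := sm gf N197
def N268 : Q := sm gg N198
def N269 : Q := sm gf N199
def N270 : Q := sm gh N199
def N271 : Q := sm gg N200
def N272 : Q := sm gi N202
def N273 : Q := sm gh N203
def N274 : Q := sm gd N204
def N275 : Q := sm gd N205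
def N276 : Q := sm gc N206
def N277 : Q := sm ge N206
def N278 : Q := sm gb N207
def N279 : Q := sm ge N207
def N280 : Q := sm gf N208
def N281 : Q := sm gd N209
def N282 : Q := sm gi N209
def N283 : Q := sm gh N210
def N284 : Q := sm gd N211
def N285 : Q := sm gd N212
def N286 : Q := sm gi N212
def N287 : Q := sm gh N213
def N288 : Q := sm gh N214
def N289 : Q := sm gd N215
def N290 : Q := sm gd N216
def N291 : Q := sm gc N217
def N292 : Q := sm ge N217
def N293 : Q := sm gc N218
def N294 : Q := sm ge N218
def N295 : Q := sm gb N219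
def N296 : Q := sm ge N219
def N297 : Q := sm gf N220
def N298 : Q := sm gd N221
def N299 : Q := sm gf N221
def N300 : Q := sm gg N222
def N301 : Q := sm gc N223
def N302 : Q := sm gi N223
def N303 : Q := sm gh N224
def N304 : Q := sm gd N225
def N305 : Q := sm gd N226
def N306 : Q := sm gc N227
def N307 : Q := sm ge N227
def N308 : Q := sm gc N228
def N309 : Q := sm ge N228
def N310 : Q := sm gb N229
def N311 : Q := sm ge N229
def N312 : Q := sm gf N230
def N313 : Q := sm gb N231
def N314 : Q := sm ge N231
def N315 : Q := sm gf N232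
def N316 : Q := sm ga N233
def N317 : Q := sm ge N233
def N318 : Q := sm gf N234
def N319 : Q := sm gg N235
def N320 : Q := sm ga N237
def N321 : Q := sm ge N237
def N322 : Q := sm gd N238
def N323 : Q := sm gc N240
def N324 : Q := sm ge N240
def N325 : Q := sm gb N241
def N326 : Q := sm ge N241
def N327 : Q := sm gf N242
def N328 : Q := sm ge N243
def N329 : Q := sm gd N244
def N330 : Q := sm gf N244
def N331 : Q := sm gg N245
def N332 : Q := sm gc N246
def N333 : Q := sm ge N246
def N334 : Q := sm gc N247
def N335 : Q := sm ge N247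
def N336 : Q := sm gb N248
def N337 : Q := sm ge N248
def N338 : Q := sm gf N249
def N339 : Q := sm ga N250
def N340 : Q := sm ge N250
def N341 : Q := sm gd N251
def N342 : Q := sm gf N251
def N343 : Q := sm gg N252
def N344 : Q := sm gf N253
def N345 : Q := sm gh N253
def N346 : Q := sm gg N254
def N347 : Q := sm gb N256
def N348 : Q := sm ge N256
def N349 : Q := sm gf N257
def N350 : Q := sm ga N258
def N351 : Q := sm ge N258
def N352 : Q := sm gd N259
def N353 : Q := sm gf N259
def N354 : Q := sm gg N260
def N355 : Q := sm ge N261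
def N356 : Q := sm gf N262
def N357 : Q := sm gg N263
def N358 : Q := sm gd N265
def N359 : Q := sm gf N265
def N360 : Q := sm gf N266
def N361 : Q := sm gh N266
def N363 : Q := sm ge N269
def N364 : Q := sm gg N269
def N365 : Q := sm gh N269
def N366 : Q := sm gi N270
def N367 : Q := sm gh N272
def N368 : Q := sm gd N273
def N369 : Q := sm gc N274
def N370 : Q := sm ge N274
def N371 : Q := sm gc N275
def N372 : Q := sm ge N275
def N373 : Q := sm gb N276
def N374 : Q := sm ge N276
def N375 : Q := sm gf N277
def N376 : Q := sm ge N278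
def N377 : Q := sm gd N279
def N379 : Q := sm gg N280
def N380 : Q := sm gi N281
def N381 : Q := sm gh N282
def N382 : Q := sm gd N283
def N383 : Q := sm gc N284
def N384 : Q := sm ge N284
def N385 : Q := sm gi N285
def N386 : Q := sm gh N286
def N387 : Q := sm gd N287
def N388 : Q := sm gd N288
def N389 : Q := sm gc N289
def N390 : Q := sm ge N289
def N391 : Q := sm gc N290
def N392 : Q := sm ge N290
def N393 : Q := sm gb N291
def N394 : Q := sm ge N291
def N395 : Q := sm gf N292
def N396 : Q := sm gb N293
def N397 : Q := sm ge N293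
def N398 : Q := sm gf N294
def N399 : Q := sm ga N295
def N400 : Q := sm ge N295
def N401 : Q := sm gd N296
def N402 : Q := sm gf N296
def N403 : Q := sm gg N297
def N404 : Q := sm gf N298
def N405 : Q := sm gh N298
def N406 : Q := sm gg N299
def N407 : Q := sm gi N301
def N408 : Q := sm gh N302
def N409 : Q := sm gd N303
def N410 : Q := sm gc N304
def N411 : Q := sm ge N304
def N412 : Q := sm gc N305
def N413 : Q := sm ge N305
def N414 : Q := sm gb N306
def N415 : Q := sm ge N306
def N416 : Q := sm gf N307
def N417 : Q := sm gb N308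
def N418 : Q := sm ge N308
def N419 : Q := sm gf N309
def N420 : Q := sm ga N310
def N421 : Q := sm ge N310
def N422 : Q := sm gd N311
def N423 : Q := sm gf N311
def N424 : Q := sm gg N312
def N425 : Q := sm ga N313
def N426 : Q := sm ge N313
def N427 : Q := sm gd N314
def N428 : Q := sm gf N314
def N429 : Q := sm gg N315
def N430 : Q := sm ge N316
def N431 : Q := sm gf N317
def N432 : Q := sm gg N318
def N433 : Q := sm ge N320
def N434 : Q := sm gd N321
def N435 : Q := sm gh N322
def N436 : Q := sm gb N323
def N437 : Q := sm ge N323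
def N438 : Q := sm gf N324
def N439 : Q := sm ga N325
def N440 : Q := sm ge N325
def N441 : Q := sm gd N326
def N442 : Q := sm gf N326
def N443 : Q := sm gg N327
def N444 : Q := sm gd N328
def N445 : Q := sm gf N328
def N446 : Q := sm gf N329
def N449 : Q := sm gb N332
def N450 : Q := sm ge N332
def N451 : Q := sm gf N333
def N452 : Q := sm gb N334
def N453 : Q := sm ge N334
def N454 : Q := sm gf N335
def N455 : Q := sm ga N336
def N456 : Q := sm ge N336
def N457 : Q := sm gd N337
def N458 : Q := sm gf N337
def N459 : Q := sm gg N338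
def N460 : Q := sm ge N339
def N461 : Q := sm gd N340
def N462 : Q := sm gf N340
def N463 : Q := sm gf N341
def N464 : Q := sm gh N341
def N465 : Q := sm gg N342
def N466 : Q := sm ge N344
def N467 : Q := sm gg N344
def N468 : Q := sm gh N344
def N469 : Q := sm gi N345
def N470 : Q := sm ga N347
def N471 : Q := sm ge N347
def N472 : Q := sm gd N348
def N473 : Q := sm gf N348
def N474 : Q := sm gg N349
def N475 : Q := sm ge N350
def N476 : Q := sm gd N351
def N477 : Q := sm gf N351
def N478 : Q := sm gf N352
def N479 : Q := sm gg N353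
def N480 : Q := sm gf N355
def N481 : Q := sm gg N356
def N482 : Q := sm gc N358
def N483 : Q := sm gf N358
def N485 : Q := sm gg N359
def N486 : Q := sm ge N360
def N487 : Q := sm gg N360
def N488 : Q := sm gh N360
def N490 : Q := sm gg N363
def N491 : Q := sm gh N363
def N492 : Q := sm gh N364
def N493 : Q := sm gi N365
def N494 : Q := sm gd N367
def N495 : Q := sm gc N368
def N496 : Q := sm ge N368
def N497 : Q := sm gb N369
def N498 : Q := sm ge N369
def N499 : Q := sm gf N370
def N500 : Q := sm gb N371
def N501 : Q := sm ge N371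
def N502 : Q := sm gf N372
def N503 : Q := sm ga N373
def N504 : Q := sm ge N373
def N505 : Q := sm gd N374
def N506 : Q := sm gf N374
def N507 : Q := sm gg N375
def N508 : Q := sm gd N376
def N510 : Q := sm gf N377
def N511 : Q := sm gh N377
def N513 : Q := sm gh N380
def N514 : Q := sm gd N381
def N515 : Q := sm gc N382
def N516 : Q := sm ge N382
def N517 : Q := sm gb N383
def N518 : Q := sm ge N383
def N519 : Q := sm gf N384
def N520 : Q := sm gh N385
def N521 : Q := sm gd N386
def N522 : Q := sm gc N387
def N523 : Q := sm ge N387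
def N524 : Q := sm gc N388
def N525 : Q := sm ge N388
def N526 : Q := sm gb N389
def N527 : Q := sm ge N389
def N528 : Q := sm gf N390
def N529 : Q := sm gb N391
def N530 : Q := sm ge N391
def N531 : Q := sm gf N392
def N532 : Q := sm ga N393
def N533 : Q := sm ge N393
def N534 : Q := sm gd N394
def N535 : Q := sm gf N394
def N536 : Q := sm gg N395
def N537 : Q := sm ga N396
def N538 : Q := sm ge N396
def N539 : Q := sm gd N397
def N540 : Q := sm gf N397
def N541 : Q := sm gg N398
def N542 : Q := sm ge N399
def N543 : Q := sm gd N400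
def N544 : Q := sm gf N400
def N545 : Q := sm gf N401
def N546 : Q := sm gh N401
def N547 : Q := sm gg N402
def N548 : Q := sm ge N404
def N549 : Q := sm gg N404
def N550 : Q := sm gh N404
def N551 : Q := sm gi N405
def N552 : Q := sm gh N407
def N553 : Q := sm gd N408
def N554 : Q := sm gc N409
def N555 : Q := sm ge N409
def N556 : Q := sm gb N410
def N557 : Q := sm ge N410
def N558 : Q := sm gf N411
def N559 : Q := sm gb N412
def N560 : Q := sm ge N412
def N561 : Q := sm gf N413
def N562 : Q := sm ga N414
def N563 : Q := sm ge N414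
def N564 : Q := sm gd N415
def N565 : Q := sm gf N415
def N566 : Q := sm gg N416
def N567 : Q := sm ga N417
def N568 : Q := sm ge N417
def N569 : Q := sm gd N418
def N570 : Q := sm gf N418
def N571 : Q := sm gg N419
def N572 : Q := sm ge N420
def N573 : Q := sm gd N421
def N574 : Q := sm gf N421
def N575 : Q := sm gf N422
def N576 : Q := sm gg N423
def N577 : Q := sm ge N425
def N578 : Q := sm gd N426
def N579 : Q := sm gf N426
def N580 : Q := sm gf N427
def N581 : Q := sm gh N427
def N582 : Q := sm gg N428
def N583 : Q := sm gf N430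
def N584 : Q := sm gg N431
def N585 : Q := sm gd N433
def N586 : Q := sm gc N434
def N587 : Q := sm gh N434
def N588 : Q := sm gi N435
def N589 : Q := sm ga N436
def N590 : Q := sm ge N436
def N591 : Q := sm gd N437
def N592 : Q := sm gf N437
def N593 : Q := sm gg N438
def N594 : Q := sm ge N439
def N595 : Q := sm gd N440
def N596 : Q := sm gf N440
def N597 : Q := sm gf N441
def N599 : Q := sm gg N442
def N600 : Q := sm gc N444
def N601 : Q := sm gf N444
def N602 : Q := sm gh N444
def N604 : Q := sm ge N446
def N605 : Q := sm gg N446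
def N608 : Q := sm ga N449
def N609 : Q := sm ge N449
def N610 : Q := sm gd N450
def N611 : Q := sm gf N450
def N612 : Q := sm gg N451
def N613 : Q := sm ga N452
def N614 : Q := sm ge N452
def N615 : Q := sm gd N453
def N616 : Q := sm gf N453
def N617 : Q := sm gg N454
def N618 : Q := sm ge N455
def N619 : Q := sm gd N456
def N620 : Q := sm gf N456
def N621 : Q := sm gf N457
def N622 : Q := sm gh N457
def N623 : Q := sm gg N458
def N624 : Q := sm gd N460
def N625 : Q := sm gf N460
def N626 : Q := sm gf N461
def N627 : Q := sm gh N461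
def N628 : Q := sm gg N462
def N629 : Q := sm ge N463
def N630 : Q := sm gg N463
def N631 : Q := sm gh N463
def N632 : Q := sm gi N464
def N633 : Q := sm gg N466
def N634 : Q := sm gh N466
def N637 : Q := sm ge N470
def N638 : Q := sm gd N471
def N639 : Q := sm gf N471
def N640 : Q := sm gf N472
def N641 : Q := sm gh N472
def N642 : Q := sm gg N473
def N643 : Q := sm gd N475
def N644 : Q := sm gf N475
def N645 : Q := sm gc N476
def N646 : Q := sm gf N476
def N647 : Q := sm gg N477
def N648 : Q := sm ge N478
def N649 : Q := sm gg N478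
def N650 : Q := sm gg N480
def N651 : Q := sm gf N482
def N652 : Q := sm gh N482
def N653 : Q := sm ge N483
def N654 : Q := sm gg N483
def N655 : Q := sm gh N483
def N657 : Q := sm gg N486
def N658 : Q := sm gh N486
def N659 : Q := sm gh N487
def N660 : Q := sm gi N488
def N661 : Q := sm gf N490
def N662 : Q := sm gh N490
def N663 : Q := sm gd N491
def N664 : Q := sm gi N491
def N665 : Q := sm gi N492
def N666 : Q := sm gc N494
def N667 : Q := sm ge N494
def N668 : Q := sm gb N495
def N669 : Q := sm ge N495
def N670 : Q := sm gf N496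
def N671 : Q := sm ga N497
def N672 : Q := sm ge N497
def N673 : Q := sm gd N498
def N674 : Q := sm gf N498
def N675 : Q := sm gg N499
def N676 : Q := sm ga N500
def N677 : Q := sm ge N500
def N678 : Q := sm gd N501
def N679 : Q := sm gf N501
def N680 : Q := sm gg N502
def N681 : Q := sm ge N503
def N682 : Q := sm gd N504
def N683 : Q := sm gf N504
def N684 : Q := sm gf N505
def N685 : Q := sm gh N505
def N686 : Q := sm gg N506
def N687 : Q := sm gc N508
def N688 : Q := sm gf N508
def N689 : Q := sm gh N508
def N691 : Q := sm ge N510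
def N694 : Q := sm gi N511
def N695 : Q := sm gd N513
def N696 : Q := sm gc N514
def N697 : Q := sm ge N514
def N698 : Q := sm gb N515
def N699 : Q := sm ge N515
def N700 : Q := sm gf N516
def N701 : Q := sm ga N517
def N702 : Q := sm ge N517
def N703 : Q := sm gd N518
def N704 : Q := sm gf N518
def N705 : Q := sm gg N519
def N706 : Q := sm gd N520
def N707 : Q := sm gc N521
def N708 : Q := sm ge N521
def N709 : Q := sm gb N522
def N710 : Q := sm ge N522
def N711 : Q := sm gf N523
def N712 : Q := sm gb N524
def N713 : Q := sm ge N524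
def N714 : Q := sm gf N525
def N715 : Q := sm ga N526
def N716 : Q := sm ge N526
def N717 : Q := sm gd N527
def N718 : Q := sm gf N527
def N719 : Q := sm gg N528
def N720 : Q := sm ga N529
def N721 : Q := sm ge N529
def N722 : Q := sm gd N530
def N723 : Q := sm gf N530
def N724 : Q := sm gg N531
def N725 : Q := sm ge N532
def N726 : Q := sm gd N533
def N727 : Q := sm gf N533
def N728 : Q := sm gf N534
def N729 : Q := sm gh N534
def N730 : Q := sm gg N535
def N731 : Q := sm ge N537
def N732 : Q := sm gd N538
def N733 : Q := sm gf N538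
def N734 : Q := sm gf N539
def N735 : Q := sm gh N539
def N736 : Q := sm gg N540
def N737 : Q := sm gd N542
def N738 : Q := sm gf N542
def N739 : Q := sm gf N543
def N740 : Q := sm gh N543
def N741 : Q := sm gg N544
def N742 : Q := sm ge N545
def N743 : Q := sm gg N545
def N744 : Q := sm gh N545
def N745 : Q := sm gi N546
def N746 : Q := sm gg N548
def N747 : Q := sm gh N548
def N748 : Q := sm gh N549
def N749 : Q := sm gi N550
def N750 : Q := sm gd N552
def N751 : Q := sm gc N553
def N752 : Q := sm ge N553
def N753 : Q := sm gb N554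
def N754 : Q := sm ge N554
def N755 : Q := sm gf N555
def N756 : Q := sm ga N556
def N757 : Q := sm ge N556
def N758 : Q := sm gd N557
def N759 : Q := sm gf N557
def N760 : Q := sm gg N558
def N761 : Q := sm ga N559
def N762 : Q := sm ge N559
def N763 : Q := sm gd N560
def N764 : Q := sm gf N560
def N765 : Q := sm gg N561
def N766 : Q := sm ge N562
def N767 : Q := sm gd N563
def N768 : Q := sm gf N563
def N769 : Q := sm gf N564
def N770 : Q := sm gh N564
def N771 : Q := sm gg N565
def N772 : Q := sm ge N567
def N773 : Q := sm gd N568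
def N774 : Q := sm gf N568
def N775 : Q := sm gf N569
def N776 : Q := sm gh N569
def N777 : Q := sm gg N570
def N778 : Q := sm gd N572
def N779 : Q := sm gf N572
def N780 : Q := sm gc N573
def N781 : Q := sm gf N573
def N782 : Q := sm gg N574
def N783 : Q := sm ge N575
def N784 : Q := sm gg N575
def N785 : Q := sm gd N577
def N786 : Q := sm gf N577
def N787 : Q := sm gc N578
def N788 : Q := sm gf N578
def N789 : Q := sm gh N578
def N790 : Q := sm gg N579
def N791 : Q := sm gg N580
def N792 : Q := sm gh N580
def N793 : Q := sm gi N581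
def N794 : Q := sm gg N583
def N795 : Q := sm gc N585
def N796 : Q := sm gh N585
def N797 : Q := sm gh N586
def N798 : Q := sm gi N587
def N799 : Q := sm ge N589
def N800 : Q := sm gd N590
def N801 : Q := sm gf N590
def N802 : Q := sm gf N591
def N803 : Q := sm gh N591
def N804 : Q := sm gg N592
def N805 : Q := sm gd N594
def N806 : Q := sm gf N594
def N807 : Q := sm gc N595
def N808 : Q := sm gf N595
def N809 : Q := sm gh N595
def N810 : Q := sm gg N596
def N811 : Q := sm ge N597
def N812 : Q := sm gg N597
def N813 : Q := sm gh N597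
def N815 : Q := sm gf N600
def N816 : Q := sm gh N600
def N817 : Q := sm ge N601
def N818 : Q := sm gg N601
def N820 : Q := sm gi N602
def N821 : Q := sm gg N604
def N822 : Q := sm gh N604
def N823 : Q := sm gh N605
def N825 : Q := sm ge N608
def N826 : Q := sm gd N609
def N827 : Q := sm gf N609
def N828 : Q := sm gf N610
def N829 : Q := sm gh N610
def N831 : Q := sm ge N613
def N832 : Q := sm gd N614
def N833 : Q := sm gf N614
def N834 : Q := sm gf N615
def N835 : Q := sm gh N615
def N836 : Q := sm gg N616
def N837 : Q := sm gd N618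
def N838 : Q := sm gf N618
def N839 : Q := sm gc N619
def N840 : Q := sm gf N619
def N841 : Q := sm gh N619
def N842 : Q := sm gg N620
def N843 : Q := sm ge N621
def N844 : Q := sm gg N621
def N845 : Q := sm gh N621
def N846 : Q := sm gi N622
def N847 : Q := sm gf N624
def N848 : Q := sm gh N624
def N849 : Q := sm gg N625
def N850 : Q := sm ge N626
def N851 : Q := sm gg N626
def N852 : Q := sm gh N626
def N853 : Q := sm gi N627
def N854 : Q := sm gg N629
def N855 : Q := sm gh N629
def N856 : Q := sm gh N630
def N857 : Q := sm gi N631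
def N858 : Q := sm gf N633
def N859 : Q := sm gh N633
def N860 : Q := sm gd N634
def N861 : Q := sm gi N634
def N863 : Q := sm gd N637
def N864 : Q := sm gf N637
def N865 : Q := sm gc N638
def N866 : Q := sm gf N638
def N867 : Q := sm gh N638
def N868 : Q := sm gg N639
def N869 : Q := sm ge N640
def N870 : Q := sm gg N640
def N871 : Q := sm gh N640
def N872 : Q := sm gc N643
def N873 : Q := sm gf N643
def N874 : Q := sm gg N644
def N875 : Q := sm gf N645
def N876 : Q := sm ge N646
def N877 : Q := sm gg N646
def N878 : Q := sm gg N648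
def N879 : Q := sm ge N651
def N880 : Q := sm gg N651
def N881 : Q := sm gh N651
def N883 : Q := sm gi N652
def N884 : Q := sm gg N653
def N885 : Q := sm gh N653
def N886 : Q := sm gh N654
def N887 : Q := sm gi N655
def N888 : Q := sm gf N657
def N889 : Q := sm gh N657
def N890 : Q := sm gd N658
def N891 : Q := sm gi N658
def N893 : Q := sm gh N661
def N894 : Q := sm gd N662
def N895 : Q := sm gi N662
def N896 : Q := sm gc N663
def N897 : Q := sm gi N663
def N898 : Q := sm gb N666
def N899 : Q := sm ge N666
def N900 : Q := sm gf N667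
def N901 : Q := sm ga N668
def N902 : Q := sm ge N668
def N903 : Q := sm gd N669
def N904 : Q := sm gf N669
def N905 : Q := sm gg N670
def N906 : Q := sm ge N671
def N907 : Q := sm gd N672
def N908 : Q := sm gf N672
def N909 : Q := sm gf N673
def N910 : Q := sm gh N673
def N911 : Q := sm gg N674
def N912 : Q := sm ge N676
def N913 : Q := sm gd N677
def N914 : Q := sm gf N677
def N915 : Q := sm gf N678
def N916 : Q := sm gh N678
def N917 : Q := sm gg N679
def N918 : Q := sm gd N681
def N919 : Q := sm gf N681
def N920 : Q := sm gc N682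
def N921 : Q := sm gf N682
def N922 : Q := sm gh N682
def N923 : Q := sm gg N683
def N924 : Q := sm ge N684
def N925 : Q := sm gg N684
def N926 : Q := sm gh N684
def N927 : Q := sm gi N685
def N928 : Q := sm gf N687
def N929 : Q := sm gh N687
def N930 : Q := sm ge N688
def N931 : Q := sm gg N688
def N932 : Q := sm gh N688
def N933 : Q := sm gi N689
def N934 : Q := sm gg N691
def N935 : Q := sm gh N691
def N938 : Q := sm gc N695
def N939 : Q := sm ge N695
def N940 : Q := sm gb N696
def N941 : Q := sm ge N696
def N942 : Q := sm gf N697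
def N943 : Q := sm ga N698
def N944 : Q := sm ge N698
def N945 : Q := sm gd N699
def N946 : Q := sm gf N699
def N947 : Q := sm gg N700
def N948 : Q := sm ge N701
def N949 : Q := sm gd N702
def N950 : Q := sm gf N702
def N951 : Q := sm gf N703
def N952 : Q := sm gh N703
def N953 : Q := sm gg N704
def N954 : Q := sm gc N706
def N955 : Q := sm ge N706
def N956 : Q := sm gb N707
def N957 : Q := sm ge N707
def N958 : Q := sm gf N708
def N959 : Q := sm ga N709
def N960 : Q := sm ge N709
def N961 : Q := sm gd N710
def N962 : Q := sm gf N710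
def N963 : Q := sm gg N711
def N964 : Q := sm ga N712
def N965 : Q := sm ge N712
def N966 : Q := sm gd N713
def N967 : Q := sm gf N713
def N968 : Q := sm gg N714
def N969 : Q := sm ge N715
def N970 : Q := sm gd N716
def N971 : Q := sm gf N716
def N972 : Q := sm gf N717
def N973 : Q := sm gh N717
def N974 : Q := sm gg N718
def N975 : Q := sm ge N720
def N976 : Q := sm gd N721
def N977 : Q := sm gf N721
def N978 : Q := sm gf N722
def N979 : Q := sm gh N722
def N980 : Q := sm gg N723
def N981 : Q := sm gd N725
def N982 : Q := sm gf N725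
def N983 : Q := sm gc N726
def N984 : Q := sm gf N726
def N985 : Q := sm gh N726
def N986 : Q := sm gg N727
def N987 : Q := sm ge N728
def N988 : Q := sm gg N728
def N989 : Q := sm gh N728
def N990 : Q := sm gi N729
def N991 : Q := sm gd N731
def N992 : Q := sm gf N731
def N993 : Q := sm gc N732
def N994 : Q := sm gf N732
def N995 : Q := sm gh N732
def N996 : Q := sm gg N733
def N997 : Q := sm ge N734
def N998 : Q := sm gg N734
def N999 : Q := sm gh N734
def N1000 : Q := sm gi N735
def N1001 : Q := sm gf N737
def N1002 : Q := sm gh N737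
def N1003 : Q := sm gg N738
def N1004 : Q := sm ge N739
def N1005 : Q := sm gg N739
def N1006 : Q := sm gh N739
def N1007 : Q := sm gi N740
def N1008 : Q := sm gg N742
def N1009 : Q := sm gh N742
def N1010 : Q := sm gh N743
def N1011 : Q := sm gi N744
def N1012 : Q := sm gf N746
def N1013 : Q := sm gh N746
def N1014 : Q := sm gd N747
def N1015 : Q := sm gi N747
def N1016 : Q := sm gi N748
def N1017 : Q := sm gc N750
def N1018 : Q := sm ge N750
def N1019 : Q := sm gb N751
def N1020 : Q := sm ge N751
def N1021 : Q := sm gf N752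
def N1022 : Q := sm ga N753
def N1023 : Q := sm ge N753
def N1024 : Q := sm gd N754
def N1025 : Q := sm gf N754
def N1026 : Q := sm gg N755
def N1027 : Q := sm ge N756
def N1028 : Q := sm gd N757
def N1029 : Q := sm gf N757
def N1030 : Q := sm gf N758
def N1031 : Q := sm gh N758
def N1032 : Q := sm gg N759
def N1033 : Q := sm ge N761
def N1034 : Q := sm gd N762
def N1035 : Q := sm gf N762
def N1036 : Q := sm gf N763
def N1037 : Q := sm gh N763
def N1038 : Q := sm gg N764
def N1039 : Q := sm gd N766
def N1040 : Q := sm gf N766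
def N1041 : Q := sm gc N767
def N1042 : Q := sm gf N767
def N1043 : Q := sm gh N767
def N1044 : Q := sm gg N768
def N1045 : Q := sm ge N769
def N1046 : Q := sm gg N769
def N1047 : Q := sm gh N769
def N1048 : Q := sm gi N770
def N1049 : Q := sm gd N772
def N1050 : Q := sm gf N772
def N1051 : Q := sm gc N773
def N1052 : Q := sm gf N773
def N1053 : Q := sm gh N773
def N1054 : Q := sm gg N774
def N1055 : Q := sm ge N775
def N1056 : Q := sm gg N775
def N1057 : Q := sm gh N775
def N1058 : Q := sm gc N778
def N1059 : Q := sm gf N778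
def N1060 : Q := sm gg N779
def N1061 : Q := sm gf N780
def N1062 : Q := sm ge N781
def N1063 : Q := sm gg N781
def N1064 : Q := sm gg N783
def N1065 : Q := sm gc N785
def N1066 : Q := sm gf N785
def N1067 : Q := sm gh N785
def N1068 : Q := sm gg N786
def N1069 : Q := sm gf N787
def N1070 : Q := sm gh N787
def N1071 : Q := sm gg N788
def N1072 : Q := sm gh N788
def N1073 : Q := sm gi N789
def N1074 : Q := sm gh N791
def N1075 : Q := sm gi N792
def N1076 : Q := sm gb N795
def N1077 : Q := sm gh N795
def N1078 : Q := sm gi N796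
def N1079 : Q := sm gd N797
def N1080 : Q := sm gi N797
def N1081 : Q := sm gd N799
def N1082 : Q := sm gf N799
def N1083 : Q := sm gc N800
def N1084 : Q := sm gf N800
def N1085 : Q := sm gh N800
def N1086 : Q := sm gg N801
def N1087 : Q := sm ge N802
def N1088 : Q := sm gg N802
def N1089 : Q := sm gh N802
def N1090 : Q := sm gi N803
def N1091 : Q := sm gc N805
def N1092 : Q := sm gf N805
def N1093 : Q := sm gh N805
def N1094 : Q := sm gg N806
def N1095 : Q := sm gf N807
def N1096 : Q := sm gh N807
def N1097 : Q := sm ge N808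
def N1098 : Q := sm gg N808
def N1099 : Q := sm gh N808
def N1100 : Q := sm gi N809
def N1101 : Q := sm gg N811
def N1102 : Q := sm gh N811
def N1103 : Q := sm gh N812
def N1105 : Q := sm ge N815
def N1106 : Q := sm gg N815
def N1107 : Q := sm gh N815
def N1108 : Q := sm gd N816
def N1109 : Q := sm gi N816
def N1110 : Q := sm gg N817
def N1111 : Q := sm gh N817
def N1112 : Q := sm gh N818
def N1114 : Q := sm gf N821
def N1115 : Q := sm gh N821
def N1116 : Q := sm gd N822
def N1118 : Q := sm gi N823
def N1119 : Q := sm gd N825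
def N1120 : Q := sm gf N825
def N1121 : Q := sm gc N826
def N1122 : Q := sm gf N826
def N1123 : Q := sm gh N826
def N1124 : Q := sm gg N827
def N1125 : Q := sm ge N828
def N1126 : Q := sm gg N828
def N1127 : Q := sm gh N828
def N1128 : Q := sm gi N829
def N1129 : Q := sm gd N831
def N1130 : Q := sm gf N831
def N1131 : Q := sm gc N832
def N1132 : Q := sm gf N832
def N1133 : Q := sm gh N832
def N1134 : Q := sm gg N833
def N1135 : Q := sm ge N834
def N1136 : Q := sm gg N834
def N1137 : Q := sm gh N834
def N1138 : Q := sm gi N835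
def N1139 : Q := sm gc N837
def N1140 : Q := sm gf N837
def N1141 : Q := sm gh N837
def N1142 : Q := sm gg N838
def N1143 : Q := sm gf N839
def N1144 : Q := sm gh N839
def N1145 : Q := sm ge N840
def N1146 : Q := sm gg N840
def N1147 : Q := sm gh N840
def N1148 : Q := sm gi N841
def N1149 : Q := sm gg N843
def N1150 : Q := sm gh N843
def N1151 : Q := sm gh N844
def N1153 : Q := sm ge N847
def N1156 : Q := sm gi N848
def N1157 : Q := sm gg N850
def N1158 : Q := sm gh N850
def N1159 : Q := sm gh N851
def N1160 : Q := sm gi N852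
def N1161 : Q := sm gf N854
def N1162 : Q := sm gh N854
def N1163 : Q := sm gd N855
def N1164 : Q := sm gi N855
def N1166 : Q := sm gh N858
def N1167 : Q := sm gd N859
def N1169 : Q := sm gc N860
def N1171 : Q := sm gc N863
def N1172 : Q := sm gf N863
def N1173 : Q := sm gh N863
def N1174 : Q := sm gg N864
def N1175 : Q := sm gf N865
def N1176 : Q := sm gh N865
def N1177 : Q := sm ge N866
def N1178 : Q := sm gg N866
def N1179 : Q := sm gh N866
def N1180 : Q := sm gg N869
def N1181 : Q := sm gh N869
def N1182 : Q := sm gh N870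
def N1183 : Q := sm gb N872
def N1184 : Q := sm gf N872
def N1185 : Q := sm ge N873
def N1186 : Q := sm gg N873
def N1187 : Q := sm ge N875
def N1188 : Q := sm gg N875
def N1189 : Q := sm gg N876
def N1190 : Q := sm gf N878
def N1191 : Q := sm gd N879
def N1192 : Q := sm gg N879
def N1193 : Q := sm gh N879
def N1194 : Q := sm gh N880
def N1196 : Q := sm gi N881
def N1199 : Q := sm gf N884
def N1200 : Q := sm gh N884
def N1201 : Q := sm gd N885
def N1203 : Q := sm gi N886
def N1204 : Q := sm gh N888
def N1205 : Q := sm gd N889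
def N1206 : Q := sm gi N889
def N1207 : Q := sm gc N890
def N1208 : Q := sm gi N890
def N1209 : Q := sm gd N893
def N1211 : Q := sm gc N894
def N1213 : Q := sm gb N896
def N1214 : Q := sm gi N896
def N1216 : Q := sm ga N898
def N1217 : Q := sm ge N898
def N1218 : Q := sm gd N899
def N1219 : Q := sm gf N899
def N1220 : Q := sm gg N900
def N1221 : Q := sm ge N901
def N1222 : Q := sm gd N902
def N1223 : Q := sm gf N902
def N1224 : Q := sm gf N903
def N1225 : Q := sm gh N903
def N1226 : Q := sm gg N904
def N1227 : Q := sm gd N906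
def N1228 : Q := sm gf N906
def N1229 : Q := sm gc N907
def N1230 : Q := sm gf N907
def N1231 : Q := sm gh N907
def N1232 : Q := sm gg N908
def N1233 : Q := sm ge N909
def N1234 : Q := sm gg N909
def N1235 : Q := sm gh N909
def N1236 : Q := sm gi N910
def N1237 : Q := sm gd N912
def N1238 : Q := sm gf N912
def N1239 : Q := sm gc N913
def N1240 : Q := sm gf N913
def N1241 : Q := sm gh N913
def N1242 : Q := sm gg N914
def N1243 : Q := sm ge N915
def N1244 : Q := sm gg N915
def N1245 : Q := sm gh N915
def N1246 : Q := sm gi N916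
def N1247 : Q := sm gc N918
def N1248 : Q := sm gf N918
def N1249 : Q := sm gh N918
def N1250 : Q := sm gg N919
def N1251 : Q := sm gf N920
def N1252 : Q := sm gh N920
def N1253 : Q := sm ge N921
def N1255 : Q := sm gh N921
def N1256 : Q := sm gi N922
def N1257 : Q := sm gg N924
def N1258 : Q := sm gh N924
def N1259 : Q := sm gh N925
def N1261 : Q := sm ge N928
def N1262 : Q := sm gg N928
def N1263 : Q := sm gh N928
def N1264 : Q := sm gd N929
def N1266 : Q := sm gg N930
def N1267 : Q := sm gh N930
def N1269 : Q := sm gi N932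
def N1271 : Q := sm gh N934
def N1272 : Q := sm gd N935
def N1275 : Q := sm gb N938
def N1276 : Q := sm ge N938
def N1277 : Q := sm gf N939
def N1278 : Q := sm ga N940
def N1279 : Q := sm ge N940
def N1280 : Q := sm gd N941
def N1281 : Q := sm gf N941
def N1282 : Q := sm gg N942
def N1283 : Q := sm ge N943
def N1284 : Q := sm gd N944
def N1285 : Q := sm gf N944
def N1286 : Q := sm gf N945
def N1287 : Q := sm gh N945
def N1288 : Q := sm gg N946
def N1289 : Q := sm gd N948
def N1290 : Q := sm gf N948
def N1291 : Q := sm gc N949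
def N1292 : Q := sm gf N949
def N1293 : Q := sm gh N949
def N1294 : Q := sm gg N950
def N1295 : Q := sm ge N951
def N1296 : Q := sm gg N951
def N1297 : Q := sm gh N951
def N1298 : Q := sm gi N952
def N1299 : Q := sm gb N954
def N1300 : Q := sm ge N954
def N1301 : Q := sm gf N955
def N1302 : Q := sm ga N956
def N1303 : Q := sm ge N956
def N1304 : Q := sm gd N957
def N1305 : Q := sm gf N957
def N1306 : Q := sm gg N958
def N1307 : Q := sm ge N959
def N1308 : Q := sm gd N960
def N1309 : Q := sm gf N960
def N1310 : Q := sm gf N961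
def N1311 : Q := sm gh N961
def N1312 : Q := sm gg N962
def N1313 : Q := sm ge N964
def N1314 : Q := sm gd N965
def N1315 : Q := sm gf N965
def N1316 : Q := sm gf N966
def N1317 : Q := sm gh N966
def N1318 : Q := sm gg N967
def N1319 : Q := sm gd N969
def N1320 : Q := sm gf N969
def N1321 : Q := sm gc N970
def N1322 : Q := sm gf N970
def N1323 : Q := sm gh N970
def N1324 : Q := sm gg N971
def N1325 : Q := sm ge N972
def N1326 : Q := sm gg N972
def N1327 : Q := sm gh N972
def N1328 : Q := sm gi N973
def N1329 : Q := sm gd N975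
def N1330 : Q := sm gf N975
def N1331 : Q := sm gc N976
def N1332 : Q := sm gf N976
def N1333 : Q := sm gh N976
def N1334 : Q := sm gg N977
def N1335 : Q := sm ge N978
def N1336 : Q := sm gg N978
def N1337 : Q := sm gh N978
def N1338 : Q := sm gi N979
def N1339 : Q := sm gc N981
def N1340 : Q := sm gf N981
def N1341 : Q := sm gh N981
def N1342 : Q := sm gg N982
def N1343 : Q := sm gf N983
def N1344 : Q := sm gh N983
def N1345 : Q := sm ge N984
def N1346 : Q := sm gg N984
def N1347 : Q := sm gh N984
def N1348 : Q := sm gi N985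
def N1349 : Q := sm gg N987
def N1350 : Q := sm gh N987
def N1351 : Q := sm gh N988
def N1352 : Q := sm gi N989
def N1353 : Q := sm gc N991
def N1354 : Q := sm gf N991
def N1355 : Q := sm gh N991
def N1356 : Q := sm gg N992
def N1357 : Q := sm gf N993
def N1358 : Q := sm gh N993
def N1359 : Q := sm ge N994
def N1360 : Q := sm gg N994
def N1361 : Q := sm gh N994
def N1362 : Q := sm gi N995
def N1363 : Q := sm gg N997
def N1364 : Q := sm gh N997
def N1365 : Q := sm gh N998
def N1366 : Q := sm gi N999
def N1367 : Q := sm ge N1001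
def N1368 : Q := sm gg N1001
def N1369 : Q := sm gh N1001
def N1370 : Q := sm gi N1002
def N1371 : Q := sm gg N1004
def N1372 : Q := sm gh N1004
def N1373 : Q := sm gh N1005
def N1374 : Q := sm gi N1006
def N1375 : Q := sm gf N1008
def N1376 : Q := sm gh N1008
def N1377 : Q := sm gd N1009
def N1378 : Q := sm gi N1009
def N1380 : Q := sm gh N1012
def N1381 : Q := sm gd N1013
def N1383 : Q := sm gc N1014
def N1384 : Q := sm gi N1014
def N1385 : Q := sm gb N1017
def N1386 : Q := sm ge N1017
def N1387 : Q := sm gf N1018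
def N1388 : Q := sm ga N1019
def N1389 : Q := sm ge N1019
def N1390 : Q := sm gd N1020
def N1391 : Q := sm gf N1020
def N1392 : Q := sm gg N1021
def N1393 : Q := sm ge N1022
def N1394 : Q := sm gd N1023
def N1395 : Q := sm gf N1023
def N1396 : Q := sm gf N1024
def N1397 : Q := sm gh N1024
def N1398 : Q := sm gg N1025
def N1399 : Q := sm gd N1027
def N1400 : Q := sm gf N1027
def N1401 : Q := sm gc N1028
def N1402 : Q := sm gf N1028
def N1403 : Q := sm gh N1028
def N1404 : Q := sm gg N1029
def N1405 : Q := sm ge N1030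
def N1406 : Q := sm gg N1030
def N1407 : Q := sm gh N1030
def N1408 : Q := sm gi N1031
def N1409 : Q := sm gd N1033
def N1410 : Q := sm gf N1033
def N1411 : Q := sm gc N1034
def N1412 : Q := sm gf N1034
def N1413 : Q := sm gh N1034
def N1414 : Q := sm gg N1035
def N1415 : Q := sm ge N1036
def N1416 : Q := sm gg N1036
def N1417 : Q := sm gh N1036
def N1418 : Q := sm gi N1037
def N1419 : Q := sm gc N1039
def N1420 : Q := sm gf N1039
def N1421 : Q := sm gh N1039
def N1422 : Q := sm gg N1040
def N1423 : Q := sm gf N1041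
def N1424 : Q := sm gh N1041
def N1425 : Q := sm ge N1042
def N1426 : Q := sm gg N1042
def N1427 : Q := sm gh N1042
def N1428 : Q := sm gi N1043
def N1429 : Q := sm gg N1045
def N1430 : Q := sm gh N1045
def N1431 : Q := sm gh N1046
def N1432 : Q := sm gi N1047
def N1433 : Q := sm gc N1049
def N1434 : Q := sm gf N1049
def N1435 : Q := sm gh N1049
def N1436 : Q := sm gg N1050
def N1437 : Q := sm gf N1051
def N1438 : Q := sm gh N1051
def N1439 : Q := sm ge N1052
def N1440 : Q := sm gg N1052
def N1441 : Q := sm gh N1052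
def N1442 : Q := sm gg N1055
def N1443 : Q := sm gh N1055
def N1444 : Q := sm gh N1056
def N1445 : Q := sm gb N1058
def N1446 : Q := sm gf N1058
def N1447 : Q := sm ge N1059
def N1448 : Q := sm gg N1059
def N1449 : Q := sm ge N1061
def N1450 : Q := sm gg N1061
def N1451 : Q := sm gg N1062
def N1452 : Q := sm gf N1064
def N1453 : Q := sm gb N1065
def N1454 : Q := sm gf N1065
def N1455 : Q := sm gh N1065
def N1456 : Q := sm gg N1066
def N1457 : Q := sm gh N1066
def N1458 : Q := sm gi N1067
def N1459 : Q := sm gg N1069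
def N1460 : Q := sm gh N1069
def N1461 : Q := sm gd N1070
def N1462 : Q := sm gi N1070
def N1463 : Q := sm gh N1071
def N1464 : Q := sm gi N1072
def N1465 : Q := sm gi N1074
def N1466 : Q := sm gh N1076
def N1467 : Q := sm gd N1077
def N1468 : Q := sm gi N1077
def N1469 : Q := sm ge N1079
def N1470 : Q := sm gi N1079
def N1471 : Q := sm gc N1081
def N1472 : Q := sm gf N1081
def N1473 : Q := sm gh N1081
def N1474 : Q := sm gg N1082
def N1475 : Q := sm gf N1083
def N1476 : Q := sm gh N1083
def N1477 : Q := sm ge N1084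
def N1478 : Q := sm gg N1084
def N1480 : Q := sm gi N1085
def N1481 : Q := sm gg N1087
def N1482 : Q := sm gh N1087
def N1483 : Q := sm gh N1088
def N1484 : Q := sm gi N1089
def N1485 : Q := sm gf N1091
def N1486 : Q := sm gh N1091
def N1487 : Q := sm ge N1092
def N1488 : Q := sm gg N1092
def N1489 : Q := sm gh N1092
def N1491 : Q := sm ge N1095
def N1492 : Q := sm gg N1095
def N1493 : Q := sm gh N1095
def N1494 : Q := sm gd N1096
def N1495 : Q := sm gi N1096
def N1496 : Q := sm gg N1097
def N1497 : Q := sm gh N1097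
def N1498 : Q := sm gh N1098
def N1499 : Q := sm gi N1099
def N1500 : Q := sm gf N1101
def N1501 : Q := sm gh N1101
def N1502 : Q := sm gd N1102
def N1503 : Q := sm gi N1102
def N1505 : Q := sm gd N1105
def N1506 : Q := sm gg N1105
def N1507 : Q := sm gh N1105
def N1508 : Q := sm gh N1106
def N1509 : Q := sm gd N1107
def N1510 : Q := sm gi N1107
def N1511 : Q := sm ge N1108
def N1513 : Q := sm gf N1110
def N1514 : Q := sm gh N1110
def N1515 : Q := sm gd N1111
def N1516 : Q := sm gi N1111
def N1518 : Q := sm gh N1114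
def N1519 : Q := sm gd N1115
def N1520 : Q := sm gi N1115
def N1521 : Q := sm gc N1116
def N1522 : Q := sm gi N1116
def N1523 : Q := sm gc N1119
def N1524 : Q := sm gf N1119
def N1525 : Q := sm gh N1119
def N1526 : Q := sm gg N1120
def N1527 : Q := sm gf N1121
def N1528 : Q := sm gh N1121
def N1529 : Q := sm ge N1122
def N1530 : Q := sm gg N1122
def N1531 : Q := sm gh N1122
def N1532 : Q := sm gi N1123
def N1533 : Q := sm gg N1125
def N1534 : Q := sm gh N1125
def N1535 : Q := sm gh N1126
def N1536 : Q := sm gi N1127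
def N1537 : Q := sm gc N1129
def N1538 : Q := sm gf N1129
def N1539 : Q := sm gh N1129
def N1540 : Q := sm gg N1130
def N1541 : Q := sm gf N1131
def N1542 : Q := sm gh N1131
def N1543 : Q := sm ge N1132
def N1544 : Q := sm gg N1132
def N1546 : Q := sm gi N1133
def N1547 : Q := sm gg N1135
def N1548 : Q := sm gh N1135
def N1550 : Q := sm gi N1137
def N1551 : Q := sm gb N1139
def N1552 : Q := sm gf N1139
def N1553 : Q := sm gh N1139
def N1554 : Q := sm ge N1140
def N1555 : Q := sm gg N1140
def N1556 : Q := sm gh N1140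
def N1557 : Q := sm gi N1141
def N1558 : Q := sm ge N1143
def N1559 : Q := sm gg N1143
def N1561 : Q := sm gi N1144
def N1562 : Q := sm gg N1145
def N1563 : Q := sm gh N1145
def N1564 : Q := sm gh N1146
def N1566 : Q := sm gf N1149
def N1567 : Q := sm gh N1149
def N1568 : Q := sm gd N1150
def N1569 : Q := sm gi N1150
def N1571 : Q := sm gg N1153
def N1572 : Q := sm gh N1153
def N1575 : Q := sm gf N1157
def N1576 : Q := sm gh N1157
def N1577 : Q := sm gd N1158
def N1579 : Q := sm gi N1159
def N1580 : Q := sm gh N1161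
def N1581 : Q := sm gd N1162
def N1582 : Q := sm gi N1162
def N1583 : Q := sm gc N1163
def N1585 : Q := sm gd N1166
def N1587 : Q := sm gc N1167
def N1589 : Q := sm gb N1169
def N1590 : Q := sm gi N1169
def N1592 : Q := sm gb N1171
def N1593 : Q := sm gf N1171
def N1594 : Q := sm gh N1171
def N1595 : Q := sm ge N1172
def N1596 : Q := sm gg N1172
def N1597 : Q := sm gh N1172
def N1598 : Q := sm ge N1175
def N1599 : Q := sm gg N1175
def N1600 : Q := sm gh N1175
def N1601 : Q := sm gd N1176
def N1602 : Q := sm gg N1177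
def N1603 : Q := sm gh N1177
def N1604 : Q := sm gh N1178
def N1605 : Q := sm gf N1180
def N1606 : Q := sm gh N1180
def N1607 : Q := sm gd N1181
def N1608 : Q := sm gf N1183
def N1609 : Q := sm ge N1184
def N1610 : Q := sm gg N1184
def N1611 : Q := sm gg N1185
def N1612 : Q := sm gd N1187
def N1613 : Q := sm gg N1187
def N1614 : Q := sm gf N1189
def N1615 : Q := sm gg N1191
def N1616 : Q := sm gh N1191
def N1617 : Q := sm gf N1192
def N1618 : Q := sm gh N1192
def N1619 : Q := sm gd N1193
def N1620 : Q := sm gi N1193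
def N1622 : Q := sm gi N1194
def N1628 : Q := sm gh N1199
def N1629 : Q := sm gd N1200
def N1630 : Q := sm gi N1200
def N1631 : Q := sm gc N1201
def N1632 : Q := sm gi N1201
def N1633 : Q := sm gd N1204
def N1634 : Q := sm gi N1204
def N1635 : Q := sm gc N1205
def N1636 : Q := sm gi N1205
def N1637 : Q := sm gb N1207
def N1638 : Q := sm gi N1207
def N1639 : Q := sm gh N1208
def N1640 : Q := sm gc N1209
def N1641 : Q := sm ge N1209
def N1642 : Q := sm gi N1209
def N1643 : Q := sm gb N1211
def N1644 : Q := sm gi N1211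
def N1647 : Q := sm gi N1213
def N1648 : Q := sm gh N1214
def N1649 : Q := sm ge N1216
def N1650 : Q := sm gd N1217
def N1651 : Q := sm gf N1217
def N1652 : Q := sm gf N1218
def N1653 : Q := sm gh N1218
def N1654 : Q := sm gg N1219
def N1655 : Q := sm gd N1221
def N1656 : Q := sm gf N1221
def N1657 : Q := sm gc N1222
def N1658 : Q := sm gf N1222
def N1659 : Q := sm gh N1222
def N1660 : Q := sm gg N1223
def N1661 : Q := sm ge N1224
def N1662 : Q := sm gg N1224
def N1663 : Q := sm gh N1224
def N1664 : Q := sm gi N1225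
def N1665 : Q := sm gc N1227
def N1666 : Q := sm gf N1227
def N1667 : Q := sm gh N1227
def N1668 : Q := sm gg N1228
def N1669 : Q := sm gf N1229
def N1670 : Q := sm gh N1229
def N1671 : Q := sm ge N1230
def N1672 : Q := sm gg N1230
def N1673 : Q := sm gh N1230
def N1674 : Q := sm gi N1231
def N1675 : Q := sm gg N1233
def N1676 : Q := sm gh N1233
def N1677 : Q := sm gh N1234
def N1678 : Q := sm gi N1235
def N1679 : Q := sm gc N1237
def N1680 : Q := sm gf N1237
def N1681 : Q := sm gh N1237
def N1683 : Q := sm gf N1239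
def N1684 : Q := sm gh N1239
def N1685 : Q := sm ge N1240
def N1686 : Q := sm gg N1240
def N1687 : Q := sm gh N1240
def N1688 : Q := sm gi N1241
def N1689 : Q := sm gg N1243
def N1690 : Q := sm gh N1243
def N1691 : Q := sm gh N1244
def N1692 : Q := sm gi N1245
def N1693 : Q := sm gf N1247
def N1694 : Q := sm gh N1247
def N1695 : Q := sm ge N1248
def N1696 : Q := sm gg N1248
def N1697 : Q := sm gh N1248
def N1698 : Q := sm gi N1249
def N1699 : Q := sm ge N1251
def N1700 : Q := sm gg N1251
def N1701 : Q := sm gh N1251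
def N1702 : Q := sm gd N1252
def N1704 : Q := sm gg N1253
def N1705 : Q := sm gh N1253
def N1708 : Q := sm gf N1257
def N1709 : Q := sm gh N1257
def N1710 : Q := sm gd N1258
def N1711 : Q := sm gi N1258
def N1713 : Q := sm gd N1261
def N1714 : Q := sm gg N1261
def N1715 : Q := sm gh N1261
def N1716 : Q := sm gh N1262
def N1717 : Q := sm gd N1263
def N1719 : Q := sm ge N1264
def N1720 : Q := sm gi N1264
def N1721 : Q := sm gf N1266
def N1722 : Q := sm gh N1266
def N1723 : Q := sm gd N1267
def N1727 : Q := sm gd N1271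
def N1729 : Q := sm gc N1272
def N1731 : Q := sm ga N1275
def N1732 : Q := sm ge N1275
def N1733 : Q := sm gd N1276
def N1734 : Q := sm gf N1276
def N1735 : Q := sm gg N1277
def N1736 : Q := sm ge N1278
def N1737 : Q := sm gd N1279
def N1738 : Q := sm gf N1279
def N1739 : Q := sm gf N1280
def N1740 : Q := sm gh N1280
def N1741 : Q := sm gg N1281
def N1742 : Q := sm gd N1283
def N1743 : Q := sm gf N1283
def N1744 : Q := sm gc N1284
def N1745 : Q := sm gf N1284
def N1746 : Q := sm gh N1284
def N1747 : Q := sm gg N1285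
def N1748 : Q := sm ge N1286
def N1749 : Q := sm gg N1286
def N1750 : Q := sm gh N1286
def N1751 : Q := sm gi N1287
def N1752 : Q := sm gc N1289
def N1753 : Q := sm gf N1289
def N1754 : Q := sm gh N1289
def N1755 : Q := sm gg N1290
def N1756 : Q := sm gf N1291
def N1757 : Q := sm gh N1291
def N1758 : Q := sm ge N1292
def N1759 : Q := sm gg N1292
def N1760 : Q := sm gh N1292
def N1761 : Q := sm gi N1293
def N1762 : Q := sm gg N1295
def N1763 : Q := sm gh N1295
def N1764 : Q := sm gh N1296
def N1765 : Q := sm gi N1297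
def N1766 : Q := sm ga N1299
def N1767 : Q := sm ge N1299
def N1768 : Q := sm gd N1300
def N1769 : Q := sm gf N1300
def N1770 : Q := sm gg N1301
def N1771 : Q := sm ge N1302
def N1772 : Q := sm gd N1303
def N1773 : Q := sm gf N1303
def N1774 : Q := sm gf N1304
def N1775 : Q := sm gh N1304
def N1776 : Q := sm gg N1305
def N1777 : Q := sm gd N1307
def N1778 : Q := sm gf N1307
def N1779 : Q := sm gc N1308
def N1780 : Q := sm gf N1308
def N1781 : Q := sm gh N1308
def N1782 : Q := sm gg N1309
def N1783 : Q := sm ge N1310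
def N1784 : Q := sm gg N1310
def N1785 : Q := sm gh N1310
def N1786 : Q := sm gi N1311
def N1787 : Q := sm gd N1313
def N1788 : Q := sm gf N1313
def N1789 : Q := sm gc N1314
def N1790 : Q := sm gf N1314
def N1791 : Q := sm gh N1314
def N1792 : Q := sm gg N1315
def N1793 : Q := sm ge N1316
def N1794 : Q := sm gg N1316
def N1795 : Q := sm gh N1316
def N1796 : Q := sm gi N1317
def N1797 : Q := sm gc N1319
def N1798 : Q := sm gf N1319
def N1799 : Q := sm gh N1319
def N1800 : Q := sm gg N1320
def N1801 : Q := sm gf N1321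
def N1802 : Q := sm gh N1321
def N1803 : Q := sm ge N1322
def N1804 : Q := sm gg N1322
def N1805 : Q := sm gh N1322
def N1806 : Q := sm gi N1323
def N1807 : Q := sm gg N1325
def N1808 : Q := sm gh N1325
def N1809 : Q := sm gh N1326
def N1810 : Q := sm gi N1327
def N1811 : Q := sm gc N1329
def N1812 : Q := sm gf N1329
def N1813 : Q := sm gh N1329
def N1814 : Q := sm gg N1330
def N1815 : Q := sm gf N1331
def N1816 : Q := sm gh N1331
def N1817 : Q := sm ge N1332
def N1818 : Q := sm gg N1332
def N1819 : Q := sm gh N1332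
def N1820 : Q := sm gi N1333
def N1821 : Q := sm gg N1335
def N1822 : Q := sm gh N1335
def N1823 : Q := sm gh N1336
def N1824 : Q := sm gi N1337
def N1825 : Q := sm gb N1339
def N1826 : Q := sm gf N1339
def N1827 : Q := sm gh N1339
def N1828 : Q := sm ge N1340
def N1829 : Q := sm gg N1340
def N1830 : Q := sm gh N1340
def N1831 : Q := sm gi N1341
def N1832 : Q := sm ge N1343
def N1833 : Q := sm gg N1343
def N1834 : Q := sm gh N1343
def N1835 : Q := sm gi N1344
def N1836 : Q := sm gg N1345
def N1837 : Q := sm gh N1345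
def N1838 : Q := sm gh N1346
def N1839 : Q := sm gi N1347
def N1840 : Q := sm gf N1349
def N1841 : Q := sm gh N1349
def N1842 : Q := sm gd N1350
def N1843 : Q := sm gi N1350
def N1845 : Q := sm gb N1353
def N1846 : Q := sm gf N1353
def N1847 : Q := sm gh N1353
def N1848 : Q := sm ge N1354
def N1849 : Q := sm gg N1354
def N1850 : Q := sm gh N1354
def N1851 : Q := sm gi N1355
def N1852 : Q := sm ge N1357
def N1853 : Q := sm gg N1357
def N1854 : Q := sm gh N1357
def N1855 : Q := sm gd N1358
def N1856 : Q := sm gi N1358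
def N1857 : Q := sm gg N1359
def N1858 : Q := sm gh N1359
def N1859 : Q := sm gh N1360
def N1860 : Q := sm gi N1361
def N1861 : Q := sm gf N1363
def N1862 : Q := sm gh N1363
def N1863 : Q := sm gd N1364
def N1864 : Q := sm gi N1364
def N1865 : Q := sm gi N1365
def N1866 : Q := sm gg N1367
def N1867 : Q := sm gh N1367
def N1868 : Q := sm gh N1368
def N1869 : Q := sm gi N1369
def N1870 : Q := sm gf N1371
def N1871 : Q := sm gh N1371
def N1872 : Q := sm gd N1372
def N1873 : Q := sm gi N1372
def N1875 : Q := sm gh N1375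
def N1876 : Q := sm gd N1376
def N1878 : Q := sm gc N1377
def N1879 : Q := sm gi N1377
def N1880 : Q := sm gd N1380
def N1882 : Q := sm gc N1381
def N1883 : Q := sm gi N1381
def N1884 : Q := sm gb N1383
def N1885 : Q := sm gi N1383
def N1886 : Q := sm gh N1384
def N1887 : Q := sm ga N1385
def N1888 : Q := sm ge N1385
def N1889 : Q := sm gd N1386
def N1890 : Q := sm gf N1386
def N1891 : Q := sm gg N1387
def N1892 : Q := sm ge N1388
def N1893 : Q := sm gd N1389
def N1894 : Q := sm gf N1389
def N1895 : Q := sm gf N1390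
def N1896 : Q := sm gh N1390
def N1897 : Q := sm gg N1391
def N1898 : Q := sm gd N1393
def N1899 : Q := sm gf N1393
def N1900 : Q := sm gc N1394
def N1901 : Q := sm gf N1394
def N1902 : Q := sm gh N1394
def N1903 : Q := sm gg N1395
def N1904 : Q := sm ge N1396
def N1905 : Q := sm gg N1396
def N1906 : Q := sm gh N1396
def N1907 : Q := sm gi N1397
def N1908 : Q := sm gc N1399
def N1909 : Q := sm gf N1399
def N1910 : Q := sm gh N1399
def N1911 : Q := sm gg N1400
def N1912 : Q := sm gf N1401
def N1913 : Q := sm gh N1401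
def N1914 : Q := sm ge N1402
def N1915 : Q := sm gg N1402
def N1916 : Q := sm gh N1402
def N1917 : Q := sm gi N1403
def N1918 : Q := sm gg N1405
def N1919 : Q := sm gh N1405
def N1920 : Q := sm gh N1406
def N1921 : Q := sm gi N1407
def N1922 : Q := sm gc N1409
def N1923 : Q := sm gf N1409
def N1924 : Q := sm gh N1409
def N1925 : Q := sm gg N1410
def N1926 : Q := sm gf N1411
def N1927 : Q := sm gh N1411
def N1928 : Q := sm ge N1412
def N1929 : Q := sm gg N1412
def N1930 : Q := sm gh N1412
def N1931 : Q := sm gi N1413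
def N1932 : Q := sm gg N1415
def N1933 : Q := sm gh N1415
def N1934 : Q := sm gh N1416
def N1935 : Q := sm gi N1417
def N1936 : Q := sm gb N1419
def N1937 : Q := sm gf N1419
def N1938 : Q := sm gh N1419
def N1939 : Q := sm ge N1420
def N1940 : Q := sm gg N1420
def N1941 : Q := sm gh N1420
def N1942 : Q := sm gi N1421
def N1943 : Q := sm ge N1423
def N1944 : Q := sm gg N1423
def N1945 : Q := sm gh N1423
def N1946 : Q := sm gd N1424
def N1947 : Q := sm gi N1424
def N1948 : Q := sm gg N1425
def N1949 : Q := sm gh N1425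
def N1950 : Q := sm gh N1426
def N1951 : Q := sm gi N1427
def N1952 : Q := sm gf N1429
def N1953 : Q := sm gh N1429
def N1954 : Q := sm gi N1430
def N1955 : Q := sm gi N1431
def N1956 : Q := sm gb N1433
def N1957 : Q := sm gf N1433
def N1958 : Q := sm gh N1433
def N1959 : Q := sm ge N1434
def N1960 : Q := sm gg N1434
def N1961 : Q := sm gh N1434
def N1962 : Q := sm ge N1437
def N1963 : Q := sm gg N1437
def N1964 : Q := sm gh N1437
def N1965 : Q := sm gd N1438
def N1966 : Q := sm gg N1439
def N1967 : Q := sm gh N1439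
def N1968 : Q := sm gh N1440
def N1969 : Q := sm gf N1442
def N1970 : Q := sm gh N1442
def N1971 : Q := sm gd N1443
def N1972 : Q := sm gf N1445
def N1973 : Q := sm ge N1446
def N1974 : Q := sm gg N1446
def N1975 : Q := sm gg N1447
def N1976 : Q := sm gd N1449
def N1977 : Q := sm gg N1449
def N1978 : Q := sm gf N1451
def N1979 : Q := sm gf N1453
def N1980 : Q := sm gh N1453
def N1981 : Q := sm gg N1454
def N1982 : Q := sm gh N1454
def N1983 : Q := sm gd N1455
def N1984 : Q := sm gi N1455
def N1985 : Q := sm gh N1456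
def N1986 : Q := sm gi N1457
def N1987 : Q := sm gh N1459
def N1988 : Q := sm gd N1460
def N1989 : Q := sm gi N1460
def N1990 : Q := sm ge N1461
def N1991 : Q := sm gi N1461
def N1992 : Q := sm gi N1463
def N1993 : Q := sm gd N1466
def N1994 : Q := sm gi N1466
def N1995 : Q := sm ge N1467
def N1996 : Q := sm gi N1467
def N1997 : Q := sm gf N1469
def N1998 : Q := sm gi N1469
def N1999 : Q := sm gh N1470
def N2000 : Q := sm gb N1471
def N2001 : Q := sm gf N1471
def N2002 : Q := sm gh N1471
def N2003 : Q := sm ge N1472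
def N2004 : Q := sm gg N1472
def N2005 : Q := sm gh N1472
def N2006 : Q := sm gi N1473
def N2007 : Q := sm ge N1475
def N2008 : Q := sm gg N1475
def N2009 : Q := sm gh N1475
def N2010 : Q := sm gd N1476
def N2011 : Q := sm gi N1476
def N2012 : Q := sm gg N1477
def N2013 : Q := sm gh N1477
def N2014 : Q := sm gh N1478
def N2016 : Q := sm gf N1481
def N2017 : Q := sm gh N1481
def N2018 : Q := sm gd N1482
def N2019 : Q := sm gi N1482
def N2021 : Q := sm ge N1485
def N2022 : Q := sm gg N1485
def N2023 : Q := sm gh N1485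
def N2024 : Q := sm gd N1486
def N2026 : Q := sm gg N1487
def N2027 : Q := sm gh N1487
def N2028 : Q := sm gh N1488
def N2029 : Q := sm gi N1489
def N2030 : Q := sm gd N1491
def N2031 : Q := sm gg N1491
def N2032 : Q := sm gh N1491
def N2033 : Q := sm gh N1492
def N2034 : Q := sm gd N1493
def N2035 : Q := sm gi N1493
def N2036 : Q := sm ge N1494
def N2037 : Q := sm gi N1494
def N2038 : Q := sm gf N1496
def N2039 : Q := sm gh N1496
def N2041 : Q := sm gi N1497
def N2043 : Q := sm gh N1500
def N2044 : Q := sm gd N1501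
def N2045 : Q := sm gi N1501
def N2046 : Q := sm gc N1502
def N2047 : Q := sm gi N1502
def N2048 : Q := sm gg N1505
def N2049 : Q := sm gh N1505
def N2050 : Q := sm gf N1506
def N2051 : Q := sm gh N1506
def N2052 : Q := sm gd N1507
def N2053 : Q := sm gi N1507
def N2054 : Q := sm gd N1508
def N2055 : Q := sm gi N1508
def N2056 : Q := sm ge N1509
def N2057 : Q := sm gi N1509
def N2058 : Q := sm gf N1511
def N2059 : Q := sm gi N1511
def N2061 : Q := sm gh N1513
def N2062 : Q := sm gd N1514
def N2063 : Q := sm gi N1514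
def N2064 : Q := sm gc N1515
def N2066 : Q := sm gd N1518
def N2067 : Q := sm gi N1518
def N2068 : Q := sm gc N1519
def N2070 : Q := sm gb N1521
def N2072 : Q := sm gh N1522
def N2073 : Q := sm gb N1523
def N2074 : Q := sm gf N1523
def N2075 : Q := sm gh N1523
def N2076 : Q := sm ge N1524
def N2077 : Q := sm gg N1524
def N2078 : Q := sm gh N1524
def N2079 : Q := sm gi N1525
def N2080 : Q := sm ge N1527
def N2081 : Q := sm gg N1527
def N2082 : Q := sm gh N1527
def N2083 : Q := sm gd N1528
def N2084 : Q := sm gi N1528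
def N2085 : Q := sm gg N1529
def N2086 : Q := sm gh N1529
def N2089 : Q := sm gf N1533
def N2090 : Q := sm gh N1533
def N2091 : Q := sm gd N1534
def N2092 : Q := sm gi N1534
def N2093 : Q := sm gi N1535
def N2094 : Q := sm gb N1537
def N2095 : Q := sm gf N1537
def N2096 : Q := sm gh N1537
def N2097 : Q := sm ge N1538
def N2098 : Q := sm gg N1538
def N2099 : Q := sm gh N1538
def N2100 : Q := sm gi N1539
def N2101 : Q := sm ge N1541
def N2102 : Q := sm gg N1541
def N2103 : Q := sm gh N1541
def N2104 : Q := sm gd N1542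
def N2105 : Q := sm gi N1542
def N2106 : Q := sm gg N1543
def N2107 : Q := sm gh N1543
def N2110 : Q := sm gf N1547
def N2111 : Q := sm gh N1547
def N2112 : Q := sm gd N1548
def N2113 : Q := sm gi N1548
def N2115 : Q := sm gf N1551
def N2116 : Q := sm gh N1551
def N2117 : Q := sm ge N1552
def N2118 : Q := sm gg N1552
def N2119 : Q := sm gh N1552
def N2120 : Q := sm gi N1553
def N2121 : Q := sm gg N1554
def N2122 : Q := sm gh N1554
def N2123 : Q := sm gh N1555
def N2125 : Q := sm gd N1558
def N2126 : Q := sm gg N1558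
def N2127 : Q := sm gh N1558
def N2128 : Q := sm gh N1559
def N2130 : Q := sm gf N1562
def N2131 : Q := sm gh N1562
def N2132 : Q := sm gd N1563
def N2135 : Q := sm gh N1566
def N2136 : Q := sm gd N1567
def N2138 : Q := sm gc N1568
def N2141 : Q := sm gh N1571
def N2142 : Q := sm gd N1572
def N2145 : Q := sm gh N1575
def N2146 : Q := sm gd N1576
def N2148 : Q := sm gc N1577
def N2149 : Q := sm gi N1577
def N2150 : Q := sm gd N1580
def N2152 : Q := sm gc N1581
def N2154 : Q := sm gb N1583
def N2155 : Q := sm gi N1583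
def N2157 : Q := sm gc N1585
def N2158 : Q := sm ge N1585
def N2160 : Q := sm gb N1587
def N2161 : Q := sm gi N1587
def N2164 : Q := sm gi N1589
def N2165 : Q := sm gh N1590
def N2166 : Q := sm gf N1592
def N2167 : Q := sm gh N1592
def N2168 : Q := sm ge N1593
def N2169 : Q := sm gg N1593
def N2170 : Q := sm gh N1593
def N2171 : Q := sm gd N1594
def N2172 : Q := sm gg N1595
def N2173 : Q := sm gh N1595
def N2174 : Q := sm gh N1596
def N2175 : Q := sm gd N1598
def N2176 : Q := sm gg N1598
def N2177 : Q := sm gh N1598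
def N2178 : Q := sm gh N1599
def N2179 : Q := sm gd N1600
def N2180 : Q := sm ge N1601
def N2181 : Q := sm gf N1602
def N2182 : Q := sm gh N1602
def N2183 : Q := sm gd N1603
def N2184 : Q := sm gh N1605
def N2185 : Q := sm gd N1606
def N2186 : Q := sm gc N1607
def N2187 : Q := sm ge N1608
def N2188 : Q := sm gg N1608
def N2189 : Q := sm gd N1609
def N2190 : Q := sm gg N1609
def N2191 : Q := sm gf N1611
def N2192 : Q := sm gg N1612
def N2193 : Q := sm gh N1612
def N2194 : Q := sm gf N1613
def N2195 : Q := sm gf N1615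
def N2196 : Q := sm gh N1615
def N2197 : Q := sm gd N1616
def N2199 : Q := sm gh N1617
def N2200 : Q := sm gd N1618
def N2201 : Q := sm gi N1618
def N2202 : Q := sm gc N1619
def N2203 : Q := sm ge N1619
def N2204 : Q := sm gi N1619
def N2213 : Q := sm gd N1628
def N2214 : Q := sm gi N1628
def N2215 : Q := sm gc N1629
def N2216 : Q := sm gi N1629
def N2217 : Q := sm gb N1631
def N2219 : Q := sm gh N1632
def N2220 : Q := sm gc N1633
def N2222 : Q := sm gi N1633
def N2223 : Q := sm gb N1635
def N2224 : Q := sm gi N1635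
def N2226 : Q := sm ga N1637
def N2229 : Q := sm gb N1640
def N2230 : Q := sm ge N1640
def N2231 : Q := sm gi N1640
def N2232 : Q := sm gi N1641
def N2235 : Q := sm gi N1643
def N2236 : Q := sm gh N1644
def N2238 : Q := sm gh N1647
def N2239 : Q := sm gd N1648
def N2240 : Q := sm gd N1649
def N2241 : Q := sm gf N1649
def N2242 : Q := sm gc N1650
def N2243 : Q := sm gf N1650
def N2244 : Q := sm gh N1650
def N2245 : Q := sm gg N1651
def N2246 : Q := sm ge N1652
def N2247 : Q := sm gg N1652
def N2248 : Q := sm gh N1652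
def N2249 : Q := sm gi N1653
def N2250 : Q := sm gc N1655
def N2251 : Q := sm gf N1655
def N2252 : Q := sm gh N1655
def N2254 : Q := sm gf N1657
def N2255 : Q := sm gh N1657
def N2256 : Q := sm ge N1658
def N2257 : Q := sm gg N1658
def N2258 : Q := sm gh N1658
def N2259 : Q := sm gi N1659
def N2260 : Q := sm gg N1661
def N2261 : Q := sm gh N1661
def N2262 : Q := sm gh N1662
def N2263 : Q := sm gi N1663
def N2264 : Q := sm gb N1665
def N2265 : Q := sm gf N1665
def N2266 : Q := sm gh N1665
def N2267 : Q := sm ge N1666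
def N2268 : Q := sm gg N1666
def N2269 : Q := sm gh N1666
def N2270 : Q := sm gi N1667
def N2271 : Q := sm ge N1669
def N2272 : Q := sm gg N1669
def N2273 : Q := sm gh N1669
def N2274 : Q := sm gd N1670
def N2275 : Q := sm gi N1670
def N2276 : Q := sm gg N1671
def N2277 : Q := sm gh N1671
def N2279 : Q := sm gi N1673
def N2280 : Q := sm gf N1675
def N2281 : Q := sm gh N1675
def N2282 : Q := sm gd N1676
def N2285 : Q := sm gb N1679
def N2286 : Q := sm gf N1679
def N2287 : Q := sm gh N1679
def N2288 : Q := sm ge N1680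
def N2289 : Q := sm gg N1680
def N2290 : Q := sm gh N1680
def N2291 : Q := sm gi N1681
def N2292 : Q := sm ge N1683
def N2293 : Q := sm gg N1683
def N2294 : Q := sm gh N1683
def N2295 : Q := sm gd N1684
def N2296 : Q := sm gi N1684
def N2297 : Q := sm gg N1685
def N2298 : Q := sm gh N1685
def N2299 : Q := sm gh N1686
def N2300 : Q := sm gi N1687
def N2302 : Q := sm gh N1689
def N2303 : Q := sm gd N1690
def N2304 : Q := sm gi N1690
def N2305 : Q := sm gi N1691
def N2306 : Q := sm ge N1693
def N2307 : Q := sm gg N1693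
def N2308 : Q := sm gh N1693
def N2309 : Q := sm gd N1694
def N2311 : Q := sm gg N1695
def N2312 : Q := sm gh N1695
def N2313 : Q := sm gh N1696
def N2314 : Q := sm gi N1697
def N2315 : Q := sm gd N1699
def N2316 : Q := sm gg N1699
def N2317 : Q := sm gh N1699
def N2318 : Q := sm gh N1700
def N2319 : Q := sm gd N1701
def N2320 : Q := sm gi N1701
def N2321 : Q := sm ge N1702
def N2323 : Q := sm gf N1704
def N2324 : Q := sm gh N1704
def N2325 : Q := sm gd N1705
def N2328 : Q := sm gh N1708
def N2329 : Q := sm gd N1709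
def N2330 : Q := sm gi N1709
def N2331 : Q := sm gc N1710
def N2333 : Q := sm gg N1713
def N2334 : Q := sm gh N1713
def N2335 : Q := sm gf N1714
def N2336 : Q := sm gh N1714
def N2337 : Q := sm gd N1715
def N2339 : Q := sm gd N1716
def N2340 : Q := sm gi N1716
def N2342 : Q := sm gi N1717
def N2343 : Q := sm gf N1719
def N2344 : Q := sm gi N1719
def N2345 : Q := sm gh N1720
def N2346 : Q := sm gh N1721
def N2348 : Q := sm gi N1722
def N2349 : Q := sm gc N1723
def N2353 : Q := sm gc N1727
def N2355 : Q := sm gb N1729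
def N2358 : Q := sm ge N1731
def N2359 : Q := sm gd N1732
def N2360 : Q := sm gf N1732
def N2361 : Q := sm gf N1733
def N2362 : Q := sm gh N1733
def N2363 : Q := sm gg N1734
def N2364 : Q := sm gd N1736
def N2365 : Q := sm gf N1736
def N2366 : Q := sm gc N1737
def N2367 : Q := sm gf N1737
def N2368 : Q := sm gh N1737
def N2369 : Q := sm gg N1738
def N2370 : Q := sm ge N1739
def N2371 : Q := sm gg N1739
def N2372 : Q := sm gh N1739
def N2373 : Q := sm gi N1740
def N2374 : Q := sm gc N1742
def N2375 : Q := sm gf N1742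
def N2376 : Q := sm gh N1742
def N2377 : Q := sm gg N1743
def N2378 : Q := sm gf N1744
def N2379 : Q := sm gh N1744
def N2380 : Q := sm ge N1745
def N2381 : Q := sm gg N1745
def N2382 : Q := sm gh N1745
def N2383 : Q := sm gi N1746
def N2384 : Q := sm gg N1748
def N2385 : Q := sm gh N1748
def N2386 : Q := sm gh N1749
def N2387 : Q := sm gi N1750
def N2388 : Q := sm gb N1752
def N2389 : Q := sm gf N1752
def N2390 : Q := sm gh N1752
def N2391 : Q := sm ge N1753
def N2392 : Q := sm gg N1753
def N2393 : Q := sm gh N1753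
def N2394 : Q := sm gi N1754
def N2395 : Q := sm ge N1756
def N2396 : Q := sm gg N1756
def N2397 : Q := sm gh N1756
def N2398 : Q := sm gd N1757
def N2399 : Q := sm gi N1757
def N2400 : Q := sm gg N1758
def N2401 : Q := sm gh N1758
def N2402 : Q := sm gh N1759
def N2403 : Q := sm gi N1760
def N2404 : Q := sm gf N1762
def N2405 : Q := sm gh N1762
def N2406 : Q := sm gd N1763
def N2407 : Q := sm gi N1763
def N2408 : Q := sm gi N1764
def N2409 : Q := sm ge N1766
def N2410 : Q := sm gd N1767
def N2411 : Q := sm gf N1767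
def N2412 : Q := sm gf N1768
def N2413 : Q := sm gh N1768
def N2414 : Q := sm gg N1769
def N2415 : Q := sm gd N1771
def N2416 : Q := sm gf N1771
def N2417 : Q := sm gc N1772
def N2418 : Q := sm gf N1772
def N2419 : Q := sm gh N1772
def N2420 : Q := sm gg N1773
def N2421 : Q := sm ge N1774
def N2422 : Q := sm gg N1774
def N2423 : Q := sm gh N1774
def N2424 : Q := sm gi N1775
def N2425 : Q := sm gc N1777
def N2426 : Q := sm gf N1777
def N2427 : Q := sm gh N1777
def N2428 : Q := sm gg N1778
def N2429 : Q := sm gf N1779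
def N2430 : Q := sm gh N1779
def N2431 : Q := sm ge N1780
def N2432 : Q := sm gg N1780
def N2433 : Q := sm gh N1780
def N2434 : Q := sm gi N1781
def N2435 : Q := sm gg N1783
def N2436 : Q := sm gh N1783
def N2437 : Q := sm gh N1784
def N2438 : Q := sm gi N1785
def N2439 : Q := sm gc N1787
def N2440 : Q := sm gf N1787
def N2441 : Q := sm gh N1787
def N2442 : Q := sm gg N1788
def N2443 : Q := sm gf N1789
def N2444 : Q := sm gh N1789
def N2445 : Q := sm ge N1790
def N2446 : Q := sm gg N1790
def N2447 : Q := sm gh N1790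
def N2448 : Q := sm gi N1791
def N2449 : Q := sm gg N1793
def N2450 : Q := sm gh N1793
def N2451 : Q := sm gh N1794
def N2452 : Q := sm gi N1795
def N2453 : Q := sm gb N1797
def N2454 : Q := sm gf N1797
def N2455 : Q := sm gh N1797
def N2456 : Q := sm ge N1798
def N2457 : Q := sm gg N1798
def N2458 : Q := sm gh N1798
def N2459 : Q := sm gi N1799
def N2460 : Q := sm ge N1801
def N2461 : Q := sm gg N1801
def N2462 : Q := sm gh N1801
def N2463 : Q := sm gd N1802
def N2464 : Q := sm gi N1802
def N2465 : Q := sm gg N1803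
def N2466 : Q := sm gh N1803
def N2467 : Q := sm gh N1804
def N2468 : Q := sm gi N1805
def N2469 : Q := sm gf N1807
def N2470 : Q := sm gh N1807
def N2471 : Q := sm gd N1808
def N2472 : Q := sm gi N1808
def N2473 : Q := sm gi N1809
def N2474 : Q := sm gb N1811
def N2475 : Q := sm gf N1811
def N2476 : Q := sm gh N1811
def N2477 : Q := sm ge N1812
def N2478 : Q := sm gg N1812
def N2479 : Q := sm gh N1812
def N2480 : Q := sm gi N1813
def N2481 : Q := sm ge N1815
def N2482 : Q := sm gg N1815
def N2483 : Q := sm gh N1815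
def N2484 : Q := sm gd N1816
def N2485 : Q := sm gi N1816
def N2486 : Q := sm gg N1817
def N2487 : Q := sm gh N1817
def N2488 : Q := sm gh N1818
def N2489 : Q := sm gi N1819
def N2490 : Q := sm gf N1821
def N2491 : Q := sm gh N1821
def N2492 : Q := sm gd N1822
def N2493 : Q := sm gi N1822
def N2495 : Q := sm gf N1825
def N2496 : Q := sm gh N1825
def N2497 : Q := sm ge N1826
def N2498 : Q := sm gg N1826
def N2499 : Q := sm gh N1826
def N2500 : Q := sm gi N1827
def N2501 : Q := sm gg N1828
def N2502 : Q := sm gh N1828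
def N2503 : Q := sm gh N1829
def N2504 : Q := sm gi N1830
def N2505 : Q := sm gd N1832
def N2506 : Q := sm gg N1832
def N2507 : Q := sm gh N1832
def N2508 : Q := sm gh N1833
def N2509 : Q := sm gi N1834
def N2510 : Q := sm gf N1836
def N2511 : Q := sm gh N1836
def N2512 : Q := sm gd N1837
def N2515 : Q := sm gh N1840
def N2516 : Q := sm gd N1841
def N2518 : Q := sm gc N1842
def N2519 : Q := sm gi N1842
def N2520 : Q := sm gf N1845
def N2521 : Q := sm gh N1845
def N2522 : Q := sm ge N1846
def N2523 : Q := sm gg N1846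
def N2524 : Q := sm gh N1846
def N2525 : Q := sm gd N1847
def N2526 : Q := sm gi N1847
def N2527 : Q := sm gg N1848
def N2528 : Q := sm gh N1848
def N2529 : Q := sm gh N1849
def N2530 : Q := sm gi N1850
def N2531 : Q := sm gg N1852
def N2532 : Q := sm gh N1852
def N2533 : Q := sm gh N1853
def N2534 : Q := sm gd N1854
def N2535 : Q := sm gi N1854
def N2536 : Q := sm ge N1855
def N2537 : Q := sm gi N1855
def N2538 : Q := sm gf N1857
def N2539 : Q := sm gh N1857
def N2540 : Q := sm gd N1858
def N2541 : Q := sm gi N1858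
def N2542 : Q := sm gi N1859
def N2543 : Q := sm gh N1861
def N2544 : Q := sm gd N1862
def N2545 : Q := sm gi N1862
def N2546 : Q := sm gc N1863
def N2547 : Q := sm gi N1863
def N2548 : Q := sm gf N1866
def N2549 : Q := sm gh N1866
def N2550 : Q := sm gd N1867
def N2551 : Q := sm gi N1867
def N2553 : Q := sm gh N1870
def N2554 : Q := sm gd N1871
def N2555 : Q := sm gi N1871
def N2556 : Q := sm gc N1872
def N2557 : Q := sm gi N1872
def N2558 : Q := sm gd N1875
def N2560 : Q := sm gc N1876
def N2561 : Q := sm gi N1876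
def N2562 : Q := sm gb N1878
def N2563 : Q := sm gi N1878
def N2565 : Q := sm gc N1880
def N2566 : Q := sm ge N1880
def N2567 : Q := sm gi N1880
def N2568 : Q := sm gb N1882
def N2569 : Q := sm gi N1882
def N2570 : Q := sm gh N1883
def N2571 : Q := sm ga N1884
def N2572 : Q := sm gi N1884
def N2573 : Q := sm gh N1885
def N2574 : Q := sm ge N1887
def N2575 : Q := sm gd N1888
def N2576 : Q := sm gf N1888
def N2577 : Q := sm gf N1889
def N2578 : Q := sm gh N1889
def N2579 : Q := sm gg N1890
def N2580 : Q := sm gd N1892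
def N2581 : Q := sm gf N1892
def N2582 : Q := sm gc N1893
def N2583 : Q := sm gf N1893
def N2584 : Q := sm gh N1893
def N2585 : Q := sm gg N1894
def N2586 : Q := sm ge N1895
def N2587 : Q := sm gg N1895
def N2588 : Q := sm gh N1895
def N2589 : Q := sm gi N1896
def N2590 : Q := sm gc N1898
def N2591 : Q := sm gf N1898
def N2592 : Q := sm gh N1898
def N2593 : Q := sm gg N1899
def N2594 : Q := sm gf N1900
def N2595 : Q := sm gh N1900
def N2596 : Q := sm ge N1901
def N2597 : Q := sm gg N1901
def N2598 : Q := sm gh N1901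
def N2599 : Q := sm gi N1902
def N2600 : Q := sm gg N1904
def N2601 : Q := sm gh N1904
def N2602 : Q := sm gh N1905
def N2603 : Q := sm gi N1906
def N2604 : Q := sm gb N1908
def N2605 : Q := sm gf N1908
def N2606 : Q := sm gh N1908
def N2607 : Q := sm ge N1909
def N2608 : Q := sm gg N1909
def N2609 : Q := sm gh N1909
def N2610 : Q := sm gi N1910
def N2611 : Q := sm ge N1912
def N2612 : Q := sm gg N1912
def N2613 : Q := sm gh N1912
def N2614 : Q := sm gd N1913
def N2615 : Q := sm gi N1913
def N2616 : Q := sm gg N1914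
def N2617 : Q := sm gh N1914
def N2618 : Q := sm gh N1915
def N2619 : Q := sm gi N1916
def N2620 : Q := sm gf N1918
def N2621 : Q := sm gh N1918
def N2622 : Q := sm gd N1919
def N2623 : Q := sm gi N1919
def N2624 : Q := sm gi N1920
def N2625 : Q := sm gb N1922
def N2626 : Q := sm gf N1922
def N2627 : Q := sm gh N1922
def N2628 : Q := sm ge N1923
def N2629 : Q := sm gg N1923
def N2630 : Q := sm gh N1923
def N2631 : Q := sm gi N1924
def N2632 : Q := sm ge N1926
def N2633 : Q := sm gg N1926
def N2634 : Q := sm gh N1926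
def N2635 : Q := sm gd N1927
def N2636 : Q := sm gi N1927
def N2637 : Q := sm gg N1928
def N2638 : Q := sm gh N1928
def N2639 : Q := sm gh N1929
def N2641 : Q := sm gf N1932
def N2642 : Q := sm gh N1932
def N2643 : Q := sm gd N1933
def N2645 : Q := sm gi N1934
def N2646 : Q := sm gf N1936
def N2647 : Q := sm gh N1936
def N2648 : Q := sm ge N1937
def N2649 : Q := sm gg N1937
def N2650 : Q := sm gh N1937
def N2651 : Q := sm gd N1938
def N2652 : Q := sm gi N1938
def N2653 : Q := sm gg N1939
def N2654 : Q := sm gh N1939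
def N2655 : Q := sm gh N1940
def N2656 : Q := sm gi N1941
def N2657 : Q := sm gd N1943
def N2658 : Q := sm gg N1943
def N2659 : Q := sm gh N1943
def N2660 : Q := sm gh N1944
def N2661 : Q := sm gd N1945
def N2662 : Q := sm gi N1945
def N2663 : Q := sm ge N1946
def N2664 : Q := sm gi N1946
def N2665 : Q := sm gf N1948
def N2666 : Q := sm gh N1948
def N2667 : Q := sm gi N1949
def N2668 : Q := sm gi N1950
def N2669 : Q := sm gh N1952
def N2671 : Q := sm gf N1956
def N2672 : Q := sm gh N1956
def N2673 : Q := sm ge N1957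
def N2674 : Q := sm gg N1957
def N2675 : Q := sm gh N1957
def N2676 : Q := sm gd N1958
def N2677 : Q := sm gg N1959
def N2678 : Q := sm gh N1959
def N2679 : Q := sm gh N1960
def N2680 : Q := sm gd N1962
def N2681 : Q := sm gg N1962
def N2682 : Q := sm gh N1962
def N2683 : Q := sm gh N1963
def N2684 : Q := sm gd N1964
def N2685 : Q := sm ge N1965
def N2686 : Q := sm gf N1966
def N2687 : Q := sm gh N1966
def N2688 : Q := sm gd N1967
def N2689 : Q := sm gh N1969
def N2690 : Q := sm gd N1970
def N2691 : Q := sm gc N1971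
def N2692 : Q := sm ge N1972
def N2693 : Q := sm gg N1972
def N2694 : Q := sm gd N1973
def N2695 : Q := sm gg N1973
def N2696 : Q := sm gf N1975
def N2697 : Q := sm gg N1976
def N2698 : Q := sm gh N1976
def N2699 : Q := sm gf N1977
def N2700 : Q := sm gg N1979
def N2701 : Q := sm gh N1979
def N2702 : Q := sm gd N1980
def N2703 : Q := sm gi N1980
def N2704 : Q := sm gh N1981
def N2705 : Q := sm gd N1982
def N2706 : Q := sm gi N1982
def N2707 : Q := sm ge N1983
def N2708 : Q := sm gi N1983
def N2709 : Q := sm gi N1985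
def N2710 : Q := sm gd N1987
def N2711 : Q := sm gi N1987
def N2712 : Q := sm ge N1988
def N2713 : Q := sm gi N1988
def N2714 : Q := sm gf N1990
def N2715 : Q := sm gi N1990
def N2716 : Q := sm gh N1991
def N2717 : Q := sm gc N1993
def N2718 : Q := sm ge N1993
def N2719 : Q := sm gi N1993
def N2720 : Q := sm gf N1995
def N2721 : Q := sm gi N1995
def N2722 : Q := sm gh N1996
def N2723 : Q := sm gg N1997
def N2724 : Q := sm gi N1997
def N2725 : Q := sm gh N1998
def N2726 : Q := sm gf N2000
def N2727 : Q := sm gh N2000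
def N2728 : Q := sm ge N2001
def N2729 : Q := sm gg N2001
def N2730 : Q := sm gh N2001
def N2731 : Q := sm gd N2002
def N2733 : Q := sm gg N2003
def N2734 : Q := sm gh N2003
def N2735 : Q := sm gh N2004
def N2736 : Q := sm gi N2005
def N2737 : Q := sm gd N2007
def N2738 : Q := sm gg N2007
def N2739 : Q := sm gh N2007
def N2740 : Q := sm gh N2008
def N2741 : Q := sm gd N2009
def N2742 : Q := sm gi N2009
def N2743 : Q := sm ge N2010
def N2744 : Q := sm gi N2010
def N2746 : Q := sm gh N2012
def N2747 : Q := sm gd N2013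
def N2750 : Q := sm gh N2016
def N2751 : Q := sm gd N2017
def N2753 : Q := sm gc N2018
def N2754 : Q := sm gi N2018
def N2755 : Q := sm gd N2021
def N2756 : Q := sm gg N2021
def N2757 : Q := sm gh N2021
def N2758 : Q := sm gh N2022
def N2759 : Q := sm gd N2023
def N2760 : Q := sm gi N2023
def N2761 : Q := sm ge N2024
def N2762 : Q := sm gi N2024
def N2763 : Q := sm gf N2026
def N2764 : Q := sm gh N2026
def N2765 : Q := sm gd N2027
def N2766 : Q := sm gi N2027
def N2767 : Q := sm gi N2028
def N2768 : Q := sm gg N2030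
def N2769 : Q := sm gh N2030
def N2770 : Q := sm gf N2031
def N2771 : Q := sm gh N2031
def N2772 : Q := sm gd N2032
def N2774 : Q := sm gd N2033
def N2775 : Q := sm gi N2033
def N2776 : Q := sm ge N2034
def N2778 : Q := sm gf N2036
def N2779 : Q := sm gi N2036
def N2781 : Q := sm gh N2038
def N2782 : Q := sm gd N2039
def N2783 : Q := sm gi N2039
def N2786 : Q := sm gd N2043
def N2788 : Q := sm gc N2044
def N2789 : Q := sm gi N2044
def N2790 : Q := sm gb N2046
def N2791 : Q := sm gi N2046
def N2792 : Q := sm gh N2047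
def N2793 : Q := sm gf N2048
def N2795 : Q := sm gd N2049
def N2797 : Q := sm gh N2050
def N2798 : Q := sm gd N2051
def N2799 : Q := sm gi N2051
def N2800 : Q := sm gc N2052
def N2801 : Q := sm ge N2052
def N2802 : Q := sm gi N2052
def N2803 : Q := sm ge N2054
def N2804 : Q := sm gi N2054
def N2805 : Q := sm gf N2056
def N2808 : Q := sm gg N2058
def N2809 : Q := sm gi N2058
def N2810 : Q := sm gh N2059
def N2811 : Q := sm gd N2061
def N2812 : Q := sm gi N2061
def N2814 : Q := sm gi N2062
def N2815 : Q := sm gb N2064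
def N2818 : Q := sm gc N2066
def N2820 : Q := sm gi N2066
def N2821 : Q := sm gb N2068
def N2822 : Q := sm gi N2068
def N2824 : Q := sm ga N2070
def N2827 : Q := sm gf N2073
def N2828 : Q := sm gh N2073
def N2829 : Q := sm ge N2074
def N2830 : Q := sm gg N2074
def N2831 : Q := sm gh N2074
def N2832 : Q := sm gd N2075
def N2833 : Q := sm gi N2075
def N2834 : Q := sm gg N2076
def N2835 : Q := sm gh N2076
def N2836 : Q := sm gh N2077
def N2837 : Q := sm gi N2078
def N2838 : Q := sm gd N2080
def N2839 : Q := sm gg N2080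
def N2840 : Q := sm gh N2080
def N2841 : Q := sm gh N2081
def N2842 : Q := sm gd N2082
def N2843 : Q := sm gi N2082
def N2844 : Q := sm gi N2083
def N2845 : Q := sm gf N2085
def N2846 : Q := sm gh N2085
def N2847 : Q := sm gd N2086
def N2850 : Q := sm gh N2089
def N2851 : Q := sm gd N2090
def N2853 : Q := sm gc N2091
def N2854 : Q := sm gi N2091
def N2855 : Q := sm gf N2094
def N2856 : Q := sm gh N2094
def N2857 : Q := sm ge N2095
def N2858 : Q := sm gg N2095
def N2859 : Q := sm gh N2095
def N2860 : Q := sm gd N2096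
def N2861 : Q := sm gi N2096
def N2862 : Q := sm gg N2097
def N2863 : Q := sm gh N2097
def N2864 : Q := sm gh N2098
def N2866 : Q := sm gd N2101
def N2867 : Q := sm gg N2101
def N2868 : Q := sm gh N2101
def N2869 : Q := sm gh N2102
def N2870 : Q := sm gd N2103
def N2871 : Q := sm gi N2103
def N2872 : Q := sm ge N2104
def N2873 : Q := sm gi N2104
def N2875 : Q := sm gh N2106
def N2876 : Q := sm gd N2107
def N2879 : Q := sm gh N2110
def N2880 : Q := sm gd N2111
def N2882 : Q := sm gc N2112
def N2883 : Q := sm gi N2112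
def N2884 : Q := sm ge N2115
def N2885 : Q := sm gg N2115
def N2886 : Q := sm gh N2115
def N2887 : Q := sm gi N2116
def N2888 : Q := sm gd N2117
def N2889 : Q := sm gg N2117
def N2890 : Q := sm gh N2117
def N2893 : Q := sm gf N2121
def N2894 : Q := sm gh N2121
def N2895 : Q := sm gd N2122
def N2897 : Q := sm gi N2123
def N2898 : Q := sm gg N2125
def N2899 : Q := sm gh N2125
def N2900 : Q := sm gf N2126
def N2901 : Q := sm gh N2126
def N2902 : Q := sm gd N2127
def N2905 : Q := sm gh N2130
def N2906 : Q := sm gd N2131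
def N2908 : Q := sm gc N2132
def N2910 : Q := sm gd N2135
def N2912 : Q := sm gc N2136
def N2914 : Q := sm gb N2138
def N2920 : Q := sm gc N2142
def N2922 : Q := sm gd N2145
def N2923 : Q := sm gi N2145
def N2924 : Q := sm gc N2146
def N2925 : Q := sm gi N2146
def N2926 : Q := sm gb N2148
def N2927 : Q := sm gi N2148
def N2928 : Q := sm gh N2149
def N2929 : Q := sm gc N2150
def N2930 : Q := sm ge N2150
def N2932 : Q := sm gb N2152
def N2933 : Q := sm gi N2152
def N2935 : Q := sm ga N2154
def N2936 : Q := sm gi N2154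
def N2937 : Q := sm gh N2155
def N2938 : Q := sm gb N2157
def N2939 : Q := sm ge N2157
def N2940 : Q := sm gi N2157
def N2941 : Q := sm gi N2158
def N2944 : Q := sm gi N2160
def N2945 : Q := sm gh N2161
def N2947 : Q := sm gh N2164
def N2948 : Q := sm gd N2165
def N2949 : Q := sm ge N2166
def N2950 : Q := sm gg N2166
def N2951 : Q := sm gh N2166
def N2952 : Q := sm gd N2167
def N2953 : Q := sm gd N2168
def N2954 : Q := sm gg N2168
def N2955 : Q := sm gh N2168
def N2956 : Q := sm gh N2169
def N2957 : Q := sm gd N2170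
def N2958 : Q := sm ge N2171
def N2959 : Q := sm gf N2172
def N2960 : Q := sm gh N2172
def N2961 : Q := sm gd N2173
def N2962 : Q := sm gg N2175
def N2963 : Q := sm gh N2175
def N2964 : Q := sm gf N2176
def N2965 : Q := sm gh N2176
def N2966 : Q := sm gd N2177
def N2967 : Q := sm gd N2178
def N2968 : Q := sm ge N2179
def N2969 : Q := sm gf N2180
def N2970 : Q := sm gh N2181
def N2971 : Q := sm gd N2182
def N2972 : Q := sm gc N2183
def N2973 : Q := sm gd N2184
def N2974 : Q := sm gc N2185
def N2975 : Q := sm gb N2186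
def N2976 : Q := sm gd N2187
def N2977 : Q := sm gg N2187
def N2978 : Q := sm gg N2189
def N2980 : Q := sm gf N2190
def N2981 : Q := sm gf N2192
def N2982 : Q := sm gh N2192
def N2985 : Q := sm gh N2195
def N2986 : Q := sm gd N2196
def N2988 : Q := sm gc N2197
def N2989 : Q := sm ge N2197
def N2990 : Q := sm gi N2197
def N2991 : Q := sm gd N2199
def N2993 : Q := sm gc N2200
def N2994 : Q := sm ge N2200
def N2995 : Q := sm gi N2200
def N2996 : Q := sm gb N2202
def N2997 : Q := sm ge N2202
def N2999 : Q := sm gf N2203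
def N3001 : Q := sm gh N2204
def N3011 : Q := sm gc N2213
def N3012 : Q := sm ge N2213
def N3013 : Q := sm gi N2213
def N3014 : Q := sm gb N2215
def N3016 : Q := sm gh N2216
def N3017 : Q := sm ga N2217
def N3018 : Q := sm gi N2217
def N3020 : Q := sm gb N2220
def N3021 : Q := sm ge N2220
def N3024 : Q := sm gh N2222
def N3025 : Q := sm ga N2223
def N3027 : Q := sm gh N2224
def N3028 : Q := sm gi N2226
def N3031 : Q := sm ga N2229
def N3032 : Q := sm ge N2229
def N3034 : Q := sm gd N2230
def N3035 : Q := sm gi N2230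
def N3036 : Q := sm gh N2231
def N3037 : Q := sm gh N2232
def N3039 : Q := sm gh N2235
def N3040 : Q := sm gd N2236
def N3042 : Q := sm gd N2238
def N3043 : Q := sm ge N2239
def N3044 : Q := sm gc N2240
def N3045 : Q := sm gf N2240
def N3046 : Q := sm gh N2240
def N3047 : Q := sm gg N2241
def N3048 : Q := sm gf N2242
def N3049 : Q := sm gh N2242
def N3050 : Q := sm ge N2243
def N3051 : Q := sm gg N2243
def N3052 : Q := sm gh N2243
def N3053 : Q := sm gi N2244
def N3054 : Q := sm gg N2246
def N3055 : Q := sm gh N2246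
def N3056 : Q := sm gh N2247
def N3057 : Q := sm gi N2248
def N3058 : Q := sm gb N2250
def N3059 : Q := sm gf N2250
def N3060 : Q := sm gh N2250
def N3061 : Q := sm ge N2251
def N3062 : Q := sm gg N2251
def N3063 : Q := sm gh N2251
def N3064 : Q := sm gi N2252
def N3065 : Q := sm ge N2254
def N3066 : Q := sm gg N2254
def N3067 : Q := sm gh N2254
def N3068 : Q := sm gd N2255
def N3069 : Q := sm gi N2255
def N3070 : Q := sm gg N2256
def N3071 : Q := sm gh N2256
def N3072 : Q := sm gh N2257
def N3073 : Q := sm gi N2258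
def N3074 : Q := sm gf N2260
def N3075 : Q := sm gh N2260
def N3076 : Q := sm gd N2261
def N3077 : Q := sm gi N2261
def N3078 : Q := sm gi N2262
def N3079 : Q := sm gf N2264
def N3080 : Q := sm gh N2264
def N3081 : Q := sm ge N2265
def N3082 : Q := sm gg N2265
def N3083 : Q := sm gh N2265
def N3085 : Q := sm gi N2266
def N3086 : Q := sm gg N2267
def N3087 : Q := sm gh N2267
def N3088 : Q := sm gh N2268
def N3089 : Q := sm gi N2269
def N3090 : Q := sm gd N2271
def N3091 : Q := sm gg N2271
def N3092 : Q := sm gh N2271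
def N3093 : Q := sm gh N2272
def N3094 : Q := sm gd N2273
def N3095 : Q := sm gi N2273
def N3096 : Q := sm ge N2274
def N3097 : Q := sm gi N2274
def N3098 : Q := sm gf N2276
def N3100 : Q := sm gd N2277
def N3101 : Q := sm gi N2277
def N3103 : Q := sm gh N2280
def N3104 : Q := sm gd N2281
def N3105 : Q := sm gi N2281
def N3106 : Q := sm gc N2282
def N3108 : Q := sm gf N2285
def N3109 : Q := sm gh N2285
def N3110 : Q := sm ge N2286
def N3111 : Q := sm gg N2286
def N3112 : Q := sm gh N2286
def N3113 : Q := sm gd N2287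
def N3114 : Q := sm gi N2287
def N3115 : Q := sm gg N2288
def N3116 : Q := sm gh N2288
def N3117 : Q := sm gh N2289
def N3118 : Q := sm gi N2290
def N3119 : Q := sm gd N2292
def N3120 : Q := sm gg N2292
def N3121 : Q := sm gh N2292
def N3122 : Q := sm gh N2293
def N3123 : Q := sm gd N2294
def N3124 : Q := sm gi N2294
def N3125 : Q := sm ge N2295
def N3126 : Q := sm gi N2295
def N3127 : Q := sm gf N2297
def N3128 : Q := sm gh N2297
def N3129 : Q := sm gd N2298
def N3130 : Q := sm gi N2298
def N3131 : Q := sm gi N2299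
def N3133 : Q := sm gd N2302
def N3134 : Q := sm gi N2302
def N3135 : Q := sm gc N2303
def N3137 : Q := sm gd N2306
def N3140 : Q := sm gh N2307
def N3141 : Q := sm gd N2308
def N3143 : Q := sm ge N2309
def N3144 : Q := sm gi N2309
def N3145 : Q := sm gf N2311
def N3146 : Q := sm gh N2311
def N3147 : Q := sm gd N2312
def N3149 : Q := sm gi N2313
def N3150 : Q := sm gg N2315
def N3151 : Q := sm gh N2315
def N3152 : Q := sm gf N2316
def N3153 : Q := sm gh N2316
def N3154 : Q := sm gd N2317
def N3157 : Q := sm gi N2318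
def N3158 : Q := sm ge N2319
def N3160 : Q := sm gf N2321
def N3161 : Q := sm gi N2321
def N3163 : Q := sm gh N2323
def N3164 : Q := sm gd N2324
def N3166 : Q := sm gc N2325
def N3168 : Q := sm gd N2328
def N3169 : Q := sm gi N2328
def N3170 : Q := sm gc N2329
def N3172 : Q := sm gb N2331
def N3173 : Q := sm gi N2331
def N3175 : Q := sm gf N2333
def N3176 : Q := sm gh N2333
def N3177 : Q := sm gd N2334
def N3180 : Q := sm gd N2336
def N3181 : Q := sm gi N2336
def N3182 : Q := sm gc N2337
def N3185 : Q := sm ge N2339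
def N3186 : Q := sm gi N2339
def N3189 : Q := sm gh N2342
def N3190 : Q := sm gg N2343
def N3191 : Q := sm gi N2343
def N3192 : Q := sm gh N2344
def N3193 : Q := sm gd N2346
def N3194 : Q := sm gi N2346
def N3197 : Q := sm gb N2349
def N3203 : Q := sm gb N2353
def N3206 : Q := sm ga N2355
def N3209 : Q := sm gd N2358
def N3210 : Q := sm gf N2358
def N3211 : Q := sm gc N2359
def N3212 : Q := sm gf N2359
def N3213 : Q := sm gh N2359
def N3214 : Q := sm gg N2360
def N3215 : Q := sm ge N2361
def N3216 : Q := sm gg N2361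
def N3217 : Q := sm gh N2361
def N3218 : Q := sm gi N2362
def N3219 : Q := sm gc N2364
def N3220 : Q := sm gf N2364
def N3221 : Q := sm gh N2364
def N3222 : Q := sm gg N2365
def N3223 : Q := sm gf N2366
def N3224 : Q := sm gh N2366
def N3225 : Q := sm ge N2367
def N3226 : Q := sm gg N2367
def N3227 : Q := sm gh N2367
def N3228 : Q := sm gi N2368
def N3229 : Q := sm gg N2370
def N3230 : Q := sm gh N2370
def N3231 : Q := sm gh N2371
def N3232 : Q := sm gi N2372
def N3233 : Q := sm gb N2374
def N3234 : Q := sm gf N2374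
def N3235 : Q := sm gh N2374
def N3236 : Q := sm ge N2375
def N3237 : Q := sm gg N2375
def N3238 : Q := sm gh N2375
def N3239 : Q := sm gi N2376
def N3240 : Q := sm ge N2378
def N3241 : Q := sm gg N2378
def N3242 : Q := sm gh N2378
def N3243 : Q := sm gd N2379
def N3244 : Q := sm gi N2379
def N3245 : Q := sm gg N2380
def N3246 : Q := sm gh N2380
def N3247 : Q := sm gh N2381
def N3248 : Q := sm gi N2382
def N3249 : Q := sm gf N2384
def N3250 : Q := sm gh N2384
def N3251 : Q := sm gd N2385
def N3252 : Q := sm gi N2385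
def N3253 : Q := sm gi N2386
def N3254 : Q := sm gf N2388
def N3255 : Q := sm gh N2388
def N3256 : Q := sm ge N2389
def N3257 : Q := sm gg N2389
def N3258 : Q := sm gh N2389
def N3259 : Q := sm gd N2390
def N3260 : Q := sm gi N2390
def N3261 : Q := sm gg N2391
def N3262 : Q := sm gh N2391
def N3263 : Q := sm gh N2392
def N3264 : Q := sm gi N2393
def N3265 : Q := sm gd N2395
def N3266 : Q := sm gg N2395
def N3267 : Q := sm gh N2395
def N3268 : Q := sm gh N2396
def N3269 : Q := sm gd N2397
def N3270 : Q := sm gi N2397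
def N3271 : Q := sm gi N2398
def N3272 : Q := sm gf N2400
def N3273 : Q := sm gh N2400
def N3274 : Q := sm gd N2401
def N3275 : Q := sm gi N2401
def N3277 : Q := sm gh N2404
def N3278 : Q := sm gd N2405
def N3279 : Q := sm gi N2405
def N3280 : Q := sm gc N2406
def N3282 : Q := sm gd N2409
def N3283 : Q := sm gf N2409
def N3284 : Q := sm gc N2410
def N3285 : Q := sm gf N2410
def N3286 : Q := sm gh N2410
def N3287 : Q := sm gg N2411
def N3288 : Q := sm ge N2412
def N3289 : Q := sm gg N2412
def N3290 : Q := sm gh N2412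
def N3291 : Q := sm gi N2413
def N3292 : Q := sm gc N2415
def N3293 : Q := sm gf N2415
def N3294 : Q := sm gh N2415
def N3295 : Q := sm gg N2416
def N3296 : Q := sm gf N2417
def N3297 : Q := sm gh N2417
def N3298 : Q := sm ge N2418
def N3299 : Q := sm gg N2418
def N3300 : Q := sm gh N2418
def N3301 : Q := sm gi N2419
def N3302 : Q := sm gg N2421
def N3303 : Q := sm gh N2421
def N3304 : Q := sm gh N2422
def N3305 : Q := sm gi N2423
def N3306 : Q := sm gb N2425
def N3307 : Q := sm gf N2425
def N3308 : Q := sm gh N2425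
def N3309 : Q := sm ge N2426
def N3310 : Q := sm gg N2426
def N3311 : Q := sm gh N2426
def N3312 : Q := sm gi N2427
def N3313 : Q := sm ge N2429
def N3314 : Q := sm gg N2429
def N3315 : Q := sm gh N2429
def N3316 : Q := sm gd N2430
def N3317 : Q := sm gi N2430
def N3318 : Q := sm gg N2431
def N3319 : Q := sm gh N2431
def N3320 : Q := sm gh N2432
def N3321 : Q := sm gi N2433
def N3322 : Q := sm gf N2435
def N3323 : Q := sm gh N2435
def N3324 : Q := sm gd N2436
def N3325 : Q := sm gi N2436
def N3326 : Q := sm gi N2437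
def N3327 : Q := sm gb N2439
def N3328 : Q := sm gf N2439
def N3329 : Q := sm gh N2439
def N3330 : Q := sm ge N2440
def N3331 : Q := sm gg N2440
def N3332 : Q := sm gh N2440
def N3333 : Q := sm gi N2441
def N3334 : Q := sm ge N2443
def N3335 : Q := sm gg N2443
def N3336 : Q := sm gh N2443
def N3337 : Q := sm gd N2444
def N3338 : Q := sm gi N2444
def N3339 : Q := sm gg N2445
def N3340 : Q := sm gh N2445
def N3341 : Q := sm gh N2446
def N3342 : Q := sm gi N2447
def N3343 : Q := sm gf N2449
def N3344 : Q := sm gh N2449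
def N3345 : Q := sm gd N2450
def N3346 : Q := sm gi N2450
def N3347 : Q := sm gi N2451
def N3348 : Q := sm gf N2453
def N3349 : Q := sm gh N2453
def N3350 : Q := sm ge N2454
def N3351 : Q := sm gg N2454
def N3352 : Q := sm gh N2454
def N3353 : Q := sm gd N2455
def N3354 : Q := sm gi N2455
def N3355 : Q := sm gg N2456
def N3356 : Q := sm gh N2456
def N3357 : Q := sm gh N2457
def N3358 : Q := sm gi N2458
def N3359 : Q := sm gd N2460
def N3360 : Q := sm gg N2460
def N3361 : Q := sm gh N2460
def N3362 : Q := sm gh N2461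
def N3363 : Q := sm gd N2462
def N3364 : Q := sm gi N2462
def N3365 : Q := sm ge N2463
def N3366 : Q := sm gi N2463
def N3367 : Q := sm gf N2465
def N3368 : Q := sm gh N2465
def N3369 : Q := sm gd N2466
def N3370 : Q := sm gi N2466
def N3371 : Q := sm gi N2467
def N3372 : Q := sm gh N2469
def N3373 : Q := sm gd N2470
def N3374 : Q := sm gi N2470
def N3375 : Q := sm gc N2471
def N3376 : Q := sm gi N2471
def N3377 : Q := sm gf N2474
def N3378 : Q := sm gh N2474
def N3379 : Q := sm ge N2475
def N3380 : Q := sm gg N2475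
def N3381 : Q := sm gh N2475
def N3382 : Q := sm gd N2476
def N3383 : Q := sm gi N2476
def N3384 : Q := sm gg N2477
def N3385 : Q := sm gh N2477
def N3386 : Q := sm gh N2478
def N3387 : Q := sm gi N2479
def N3388 : Q := sm gd N2481
def N3389 : Q := sm gg N2481
def N3390 : Q := sm gh N2481
def N3391 : Q := sm gh N2482
def N3392 : Q := sm gd N2483
def N3393 : Q := sm gi N2483
def N3394 : Q := sm ge N2484
def N3395 : Q := sm gi N2484
def N3397 : Q := sm gh N2486
def N3398 : Q := sm gd N2487
def N3399 : Q := sm gi N2487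
def N3401 : Q := sm gh N2490
def N3402 : Q := sm gd N2491
def N3403 : Q := sm gi N2491
def N3404 : Q := sm gc N2492
def N3406 : Q := sm ge N2495
def N3407 : Q := sm gg N2495
def N3408 : Q := sm gh N2495
def N3409 : Q := sm gi N2496
def N3410 : Q := sm gd N2497
def N3411 : Q := sm gg N2497
def N3412 : Q := sm gh N2497
def N3413 : Q := sm gh N2498
def N3414 : Q := sm gi N2499
def N3415 : Q := sm gf N2501
def N3416 : Q := sm gh N2501
def N3417 : Q := sm gd N2502
def N3418 : Q := sm gi N2502
def N3419 : Q := sm gi N2503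
def N3420 : Q := sm gg N2505
def N3421 : Q := sm gh N2505
def N3422 : Q := sm gf N2506
def N3423 : Q := sm gh N2506
def N3424 : Q := sm gd N2507
def N3425 : Q := sm gi N2507
def N3426 : Q := sm gi N2508
def N3427 : Q := sm gh N2510
def N3428 : Q := sm gd N2511
def N3430 : Q := sm gc N2512
def N3432 : Q := sm gd N2515
def N3434 : Q := sm gc N2516
def N3436 : Q := sm gb N2518
def N3438 : Q := sm gh N2519
def N3439 : Q := sm ge N2520
def N3440 : Q := sm gg N2520
def N3441 : Q := sm gh N2520
def N3442 : Q := sm gd N2521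
def N3443 : Q := sm gi N2521
def N3444 : Q := sm gg N2522
def N3445 : Q := sm gh N2522
def N3446 : Q := sm gh N2523
def N3447 : Q := sm gd N2524
def N3448 : Q := sm gi N2524
def N3449 : Q := sm ge N2525
def N3450 : Q := sm gi N2525
def N3452 : Q := sm gh N2527
def N3453 : Q := sm gd N2528
def N3454 : Q := sm gi N2528
def N3455 : Q := sm gi N2529
def N3457 : Q := sm gh N2531
def N3458 : Q := sm gd N2532
def N3459 : Q := sm gi N2532
def N3460 : Q := sm gd N2533
def N3461 : Q := sm gi N2533
def N3462 : Q := sm ge N2534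
def N3463 : Q := sm gi N2534
def N3464 : Q := sm gf N2536
def N3465 : Q := sm gi N2536
def N3466 : Q := sm gh N2537
def N3467 : Q := sm gh N2538
def N3468 : Q := sm gd N2539
def N3469 : Q := sm gi N2539
def N3470 : Q := sm gc N2540
def N3471 : Q := sm gi N2540
def N3472 : Q := sm gd N2543
def N3474 : Q := sm gc N2544
def N3475 : Q := sm gi N2544
def N3476 : Q := sm gb N2546
def N3477 : Q := sm gi N2546
def N3478 : Q := sm gh N2547
def N3479 : Q := sm gh N2548
def N3480 : Q := sm gd N2549
def N3482 : Q := sm gc N2550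
def N3484 : Q := sm gd N2553
def N3486 : Q := sm gc N2554
def N3488 : Q := sm gb N2556
def N3489 : Q := sm gi N2556
def N3491 : Q := sm gc N2558
def N3492 : Q := sm ge N2558
def N3493 : Q := sm gi N2558
def N3494 : Q := sm gb N2560
def N3496 : Q := sm gh N2561
def N3497 : Q := sm ga N2562
def N3499 : Q := sm gh N2563
def N3500 : Q := sm gb N2565
def N3501 : Q := sm ge N2565
def N3502 : Q := sm gi N2565
def N3504 : Q := sm gh N2567
def N3505 : Q := sm ga N2568
def N3506 : Q := sm gi N2568
def N3507 : Q := sm gh N2569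
def N3510 : Q := sm gd N2573
def N3511 : Q := sm gd N2574
def N3512 : Q := sm gf N2574
def N3513 : Q := sm gc N2575
def N3514 : Q := sm gf N2575
def N3516 : Q := sm gg N2576
def N3517 : Q := sm ge N2577
def N3518 : Q := sm gg N2577
def N3519 : Q := sm gh N2577
def N3521 : Q := sm gc N2580
def N3522 : Q := sm gf N2580
def N3523 : Q := sm gh N2580
def N3524 : Q := sm gg N2581
def N3525 : Q := sm gf N2582
def N3526 : Q := sm gh N2582
def N3527 : Q := sm ge N2583
def N3528 : Q := sm gg N2583
def N3529 : Q := sm gh N2583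
def N3530 : Q := sm gi N2584
def N3531 : Q := sm gg N2586
def N3532 : Q := sm gh N2586
def N3533 : Q := sm gh N2587
def N3534 : Q := sm gi N2588
def N3535 : Q := sm gb N2590
def N3536 : Q := sm gf N2590
def N3537 : Q := sm gh N2590
def N3538 : Q := sm ge N2591
def N3539 : Q := sm gg N2591
def N3540 : Q := sm gh N2591
def N3541 : Q := sm gi N2592
def N3542 : Q := sm ge N2594
def N3543 : Q := sm gg N2594
def N3544 : Q := sm gh N2594
def N3545 : Q := sm gd N2595
def N3546 : Q := sm gi N2595
def N3547 : Q := sm gg N2596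
def N3548 : Q := sm gh N2596
def N3549 : Q := sm gh N2597
def N3550 : Q := sm gi N2598
def N3551 : Q := sm gf N2600
def N3553 : Q := sm gd N2601
def N3554 : Q := sm gi N2601
def N3555 : Q := sm gi N2602
def N3556 : Q := sm gf N2604
def N3557 : Q := sm gh N2604
def N3558 : Q := sm ge N2605
def N3559 : Q := sm gg N2605
def N3560 : Q := sm gh N2605
def N3561 : Q := sm gd N2606
def N3562 : Q := sm gi N2606
def N3563 : Q := sm gg N2607
def N3564 : Q := sm gh N2607
def N3565 : Q := sm gh N2608
def N3566 : Q := sm gi N2609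
def N3567 : Q := sm gd N2611
def N3568 : Q := sm gg N2611
def N3569 : Q := sm gh N2611
def N3570 : Q := sm gh N2612
def N3571 : Q := sm gd N2613
def N3572 : Q := sm gi N2613
def N3573 : Q := sm ge N2614
def N3574 : Q := sm gi N2614
def N3575 : Q := sm gf N2616
def N3576 : Q := sm gh N2616
def N3577 : Q := sm gd N2617
def N3578 : Q := sm gi N2617
def N3579 : Q := sm gi N2618
def N3580 : Q := sm gh N2620
def N3582 : Q := sm gi N2621
def N3584 : Q := sm gf N2625
def N3585 : Q := sm gh N2625
def N3586 : Q := sm ge N2626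
def N3587 : Q := sm gg N2626
def N3588 : Q := sm gh N2626
def N3589 : Q := sm gd N2627
def N3590 : Q := sm gi N2627
def N3591 : Q := sm gg N2628
def N3592 : Q := sm gh N2628
def N3593 : Q := sm gh N2629
def N3594 : Q := sm gi N2630
def N3595 : Q := sm gd N2632
def N3596 : Q := sm gg N2632
def N3597 : Q := sm gh N2632
def N3598 : Q := sm gh N2633
def N3599 : Q := sm gd N2634
def N3600 : Q := sm gi N2634
def N3601 : Q := sm ge N2635
def N3602 : Q := sm gi N2635
def N3603 : Q := sm gf N2637
def N3604 : Q := sm gh N2637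
def N3606 : Q := sm gi N2638
def N3607 : Q := sm gi N2639
def N3608 : Q := sm gh N2641
def N3609 : Q := sm gd N2642
def N3610 : Q := sm gi N2642
def N3611 : Q := sm gc N2643
def N3613 : Q := sm ge N2646
def N3614 : Q := sm gg N2646
def N3615 : Q := sm gh N2646
def N3616 : Q := sm gd N2647
def N3617 : Q := sm gi N2647
def N3618 : Q := sm gd N2648
def N3619 : Q := sm gg N2648
def N3620 : Q := sm gh N2648
def N3621 : Q := sm gh N2649
def N3622 : Q := sm gd N2650
def N3623 : Q := sm gi N2650
def N3624 : Q := sm ge N2651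
def N3625 : Q := sm gi N2651
def N3626 : Q := sm gf N2653
def N3627 : Q := sm gh N2653
def N3628 : Q := sm gi N2654
def N3629 : Q := sm gi N2655
def N3630 : Q := sm gg N2657
def N3631 : Q := sm gh N2657
def N3632 : Q := sm gf N2658
def N3633 : Q := sm gh N2658
def N3634 : Q := sm gd N2659
def N3635 : Q := sm gi N2659
def N3636 : Q := sm gd N2660
def N3637 : Q := sm gi N2660
def N3638 : Q := sm ge N2661
def N3639 : Q := sm gi N2661
def N3640 : Q := sm gf N2663
def N3641 : Q := sm gi N2663
def N3642 : Q := sm gh N2664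
def N3643 : Q := sm gh N2665
def N3646 : Q := sm ge N2671
def N3647 : Q := sm gg N2671
def N3648 : Q := sm gh N2671
def N3649 : Q := sm gd N2672
def N3650 : Q := sm gd N2673
def N3651 : Q := sm gg N2673
def N3652 : Q := sm gh N2673
def N3653 : Q := sm gh N2674
def N3654 : Q := sm gd N2675
def N3655 : Q := sm ge N2676
def N3656 : Q := sm gf N2677
def N3657 : Q := sm gh N2677
def N3658 : Q := sm gd N2678
def N3659 : Q := sm gg N2680
def N3660 : Q := sm gh N2680
def N3661 : Q := sm gf N2681
def N3662 : Q := sm gh N2681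
def N3663 : Q := sm gd N2682
def N3664 : Q := sm gd N2683
def N3665 : Q := sm ge N2684
def N3666 : Q := sm gf N2685
def N3667 : Q := sm gh N2686
def N3670 : Q := sm gd N2689
def N3671 : Q := sm gc N2690
def N3672 : Q := sm gb N2691
def N3673 : Q := sm gd N2692
def N3674 : Q := sm gg N2692
def N3675 : Q := sm gg N2694
def N3676 : Q := sm gh N2694
def N3677 : Q := sm gf N2695
def N3678 : Q := sm gf N2697
def N3679 : Q := sm gh N2697
def N3680 : Q := sm gi N2698
def N3681 : Q := sm gh N2700
def N3682 : Q := sm gd N2701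
def N3683 : Q := sm gi N2701
def N3684 : Q := sm gc N2702
def N3685 : Q := sm ge N2702
def N3686 : Q := sm gi N2702
def N3687 : Q := sm gd N2704
def N3688 : Q := sm gi N2704
def N3689 : Q := sm ge N2705
def N3690 : Q := sm gi N2705
def N3691 : Q := sm gf N2707
def N3692 : Q := sm gi N2707
def N3693 : Q := sm gh N2708
def N3694 : Q := sm ge N2710
def N3695 : Q := sm gi N2710
def N3696 : Q := sm gf N2712
def N3697 : Q := sm gi N2712
def N3698 : Q := sm gh N2713
def N3699 : Q := sm gg N2714
def N3700 : Q := sm gi N2714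
def N3701 : Q := sm gh N2715
def N3702 : Q := sm ge N2717
def N3703 : Q := sm gi N2717
def N3704 : Q := sm gf N2718
def N3705 : Q := sm gi N2718
def N3706 : Q := sm gh N2719
def N3707 : Q := sm gg N2720
def N3708 : Q := sm gi N2720
def N3709 : Q := sm gh N2721
def N3710 : Q := sm gi N2723
def N3711 : Q := sm gh N2724
def N3712 : Q := sm gd N2725
def N3713 : Q := sm ge N2726
def N3714 : Q := sm gg N2726
def N3715 : Q := sm gh N2726
def N3716 : Q := sm gd N2727
def N3717 : Q := sm gi N2727
def N3718 : Q := sm gd N2728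
def N3719 : Q := sm gg N2728
def N3720 : Q := sm gh N2728
def N3721 : Q := sm gh N2729
def N3722 : Q := sm gd N2730
def N3724 : Q := sm ge N2731
def N3726 : Q := sm gf N2733
def N3727 : Q := sm gh N2733
def N3728 : Q := sm gd N2734
def N3731 : Q := sm gg N2737
def N3732 : Q := sm gh N2737
def N3733 : Q := sm gf N2738
def N3734 : Q := sm gh N2738
def N3735 : Q := sm gd N2739
def N3736 : Q := sm gi N2739
def N3737 : Q := sm gd N2740
def N3738 : Q := sm gi N2740
def N3739 : Q := sm ge N2741
def N3740 : Q := sm gi N2741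
def N3741 : Q := sm gf N2743
def N3742 : Q := sm gi N2743
def N3743 : Q := sm gh N2744
def N3745 : Q := sm gd N2746
def N3747 : Q := sm gc N2747
def N3749 : Q := sm gd N2750
def N3750 : Q := sm gi N2750
def N3751 : Q := sm gc N2751
def N3752 : Q := sm gi N2751
def N3753 : Q := sm gb N2753
def N3754 : Q := sm gi N2753
def N3755 : Q := sm gh N2754
def N3756 : Q := sm gg N2755
def N3757 : Q := sm gh N2755
def N3759 : Q := sm gh N2756
def N3760 : Q := sm gd N2757
def N3761 : Q := sm gi N2757
def N3762 : Q := sm gd N2758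
def N3764 : Q := sm ge N2759
def N3765 : Q := sm gi N2759
def N3766 : Q := sm gf N2761
def N3767 : Q := sm gi N2761
def N3768 : Q := sm gh N2762
def N3769 : Q := sm gh N2763
def N3770 : Q := sm gd N2764
def N3771 : Q := sm gi N2764
def N3772 : Q := sm gc N2765
def N3774 : Q := sm gf N2768
def N3775 : Q := sm gh N2768
def N3776 : Q := sm gd N2769
def N3778 : Q := sm gh N2770
def N3779 : Q := sm gd N2771
def N3781 : Q := sm gc N2772
def N3782 : Q := sm ge N2772
def N3784 : Q := sm ge N2774
def N3785 : Q := sm gi N2774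
def N3786 : Q := sm gf N2776
def N3790 : Q := sm gi N2778
def N3792 : Q := sm gd N2781
def N3793 : Q := sm gi N2781
def N3794 : Q := sm gc N2782
def N3799 : Q := sm gc N2786
def N3802 : Q := sm gb N2788
def N3803 : Q := sm gi N2788
def N3804 : Q := sm gh N2789
def N3806 : Q := sm gi N2790
def N3807 : Q := sm gh N2791
def N3809 : Q := sm gh N2793
def N3812 : Q := sm gc N2795
def N3813 : Q := sm ge N2795
def N3815 : Q := sm gd N2797
def N3816 : Q := sm gi N2797
def N3817 : Q := sm gc N2798
def N3818 : Q := sm ge N2798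
def N3819 : Q := sm gi N2798
def N3821 : Q := sm ge N2800
def N3822 : Q := sm gi N2800
def N3823 : Q := sm gf N2801
def N3824 : Q := sm gi N2801
def N3825 : Q := sm gh N2802
def N3826 : Q := sm gf N2803
def N3827 : Q := sm gi N2803
def N3828 : Q := sm gh N2804
def N3829 : Q := sm gg N2805
def N3832 : Q := sm gi N2808
def N3834 : Q := sm gd N2810
def N3835 : Q := sm gc N2811
def N3836 : Q := sm ge N2811
def N3840 : Q := sm gh N2814
def N3842 : Q := sm gi N2815
def N3844 : Q := sm gb N2818
def N3845 : Q := sm ge N2818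
def N3846 : Q := sm gi N2818
def N3848 : Q := sm gh N2820
def N3849 : Q := sm ga N2821
def N3851 : Q := sm gh N2822
def N3852 : Q := sm gi N2824
def N3855 : Q := sm ge N2827
def N3856 : Q := sm gg N2827
def N3857 : Q := sm gh N2827
def N3858 : Q := sm gd N2828
def N3859 : Q := sm gi N2828
def N3860 : Q := sm gd N2829
def N3861 : Q := sm gg N2829
def N3862 : Q := sm gh N2829
def N3863 : Q := sm gh N2830
def N3864 : Q := sm gd N2831
def N3865 : Q := sm gi N2831
def N3866 : Q := sm gi N2832
def N3872 : Q := sm gg N2838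
def N3873 : Q := sm gh N2838
def N3874 : Q := sm gf N2839
def N3875 : Q := sm gh N2839
def N3877 : Q := sm gi N2840
def N3878 : Q := sm gd N2841
def N3880 : Q := sm ge N2842
def N3881 : Q := sm gi N2842
def N3884 : Q := sm gd N2846
def N3886 : Q := sm gc N2847
def N3888 : Q := sm gd N2850
def N3889 : Q := sm gi N2850
def N3890 : Q := sm gc N2851
def N3892 : Q := sm gb N2853
def N3893 : Q := sm gi N2853
def N3894 : Q := sm gh N2854
def N3895 : Q := sm ge N2855
def N3896 : Q := sm gg N2855
def N3897 : Q := sm gh N2855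
def N3898 : Q := sm gd N2856
def N3899 : Q := sm gi N2856
def N3900 : Q := sm gd N2857
def N3901 : Q := sm gg N2857
def N3902 : Q := sm gh N2857
def N3904 : Q := sm gd N2859
def N3906 : Q := sm ge N2860
def N3907 : Q := sm gi N2860
def N3908 : Q := sm gf N2862
def N3909 : Q := sm gh N2862
def N3910 : Q := sm gd N2863
def N3912 : Q := sm gi N2864
def N3913 : Q := sm gg N2866
def N3914 : Q := sm gh N2866
def N3915 : Q := sm gf N2867
def N3916 : Q := sm gh N2867
def N3917 : Q := sm gd N2868
def N3919 : Q := sm gd N2869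
def N3921 : Q := sm ge N2870
def N3922 : Q := sm gi N2870
def N3923 : Q := sm gf N2872
def N3924 : Q := sm gi N2872
def N3926 : Q := sm gd N2875
def N3928 : Q := sm gc N2876
def N3930 : Q := sm gd N2879
def N3931 : Q := sm gi N2879
def N3932 : Q := sm gc N2880
def N3933 : Q := sm gi N2880
def N3934 : Q := sm gb N2882
def N3935 : Q := sm gi N2882
def N3936 : Q := sm gh N2883
def N3937 : Q := sm gd N2884
def N3938 : Q := sm gg N2884
def N3940 : Q := sm gh N2885
def N3941 : Q := sm gi N2886
def N3942 : Q := sm gg N2888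
def N3943 : Q := sm gh N2888
def N3945 : Q := sm gh N2889
def N3946 : Q := sm gd N2890
def N3949 : Q := sm gh N2893
def N3950 : Q := sm gd N2894
def N3952 : Q := sm gc N2895
def N3954 : Q := sm gf N2898
def N3956 : Q := sm gd N2899
def N3958 : Q := sm gh N2900
def N3960 : Q := sm gi N2901
def N3961 : Q := sm gc N2902
def N3962 : Q := sm gi N2902
def N3963 : Q := sm gd N2905
def N3965 : Q := sm gc N2906
def N3966 : Q := sm gi N2906
def N3967 : Q := sm gb N2908
def N3968 : Q := sm gi N2908
def N3971 : Q := sm ge N2910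
def N3972 : Q := sm gi N2910
def N3973 : Q := sm gb N2912
def N3976 : Q := sm ga N2914
def N3977 : Q := sm gi N2914
def N3983 : Q := sm gb N2920
def N3986 : Q := sm gc N2922
def N3988 : Q := sm gi N2922
def N3989 : Q := sm gb N2924
def N3991 : Q := sm gh N2925
def N3992 : Q := sm ga N2926
def N3993 : Q := sm gi N2926
def N3996 : Q := sm ge N2929
def N3997 : Q := sm gi N2929
def N3998 : Q := sm gi N2930
def N4000 : Q := sm ga N2932
def N4001 : Q := sm gi N2932
def N4002 : Q := sm gh N2933
def N4003 : Q := sm gi N2935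
def N4004 : Q := sm gh N2936
def N4005 : Q := sm gd N2937
def N4006 : Q := sm ga N2938
def N4007 : Q := sm ge N2938
def N4010 : Q := sm gi N2939
def N4011 : Q := sm gh N2940
def N4012 : Q := sm gh N2941
def N4014 : Q := sm gh N2944
def N4015 : Q := sm gd N2945
def N4017 : Q := sm gd N2947
def N4018 : Q := sm ge N2948
def N4019 : Q := sm gd N2949
def N4020 : Q := sm gg N2949
def N4021 : Q := sm gh N2949
def N4022 : Q := sm gh N2950
def N4023 : Q := sm gd N2951
def N4024 : Q := sm gc N2952
def N4025 : Q := sm ge N2952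
def N4026 : Q := sm gg N2953
def N4027 : Q := sm gh N2953
def N4028 : Q := sm gf N2954
def N4029 : Q := sm gh N2954
def N4030 : Q := sm gd N2955
def N4031 : Q := sm gd N2956
def N4032 : Q := sm ge N2957
def N4033 : Q := sm gf N2958
def N4035 : Q := sm gd N2960
def N4036 : Q := sm gc N2961
def N4037 : Q := sm gf N2962
def N4038 : Q := sm gh N2962
def N4039 : Q := sm gd N2963
def N4041 : Q := sm gh N2964
def N4042 : Q := sm gd N2965
def N4043 : Q := sm gc N2966
def N4044 : Q := sm ge N2966
def N4045 : Q := sm ge N2967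
def N4047 : Q := sm gg N2969
def N4048 : Q := sm gd N2970
def N4050 : Q := sm gb N2972
def N4051 : Q := sm gc N2973
def N4052 : Q := sm ge N2973
def N4053 : Q := sm gb N2974
def N4055 : Q := sm gc N2976
def N4056 : Q := sm gg N2976
def N4057 : Q := sm gh N2976
def N4058 : Q := sm gf N2977
def N4059 : Q := sm gf N2978
def N4060 : Q := sm gh N2978
def N4062 : Q := sm ge N2981
def N4063 : Q := sm gh N2981
def N4066 : Q := sm gd N2985
def N4068 : Q := sm gc N2986
def N4069 : Q := sm ge N2986
def N4071 : Q := sm gb N2988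
def N4072 : Q := sm ge N2988
def N4074 : Q := sm gf N2989
def N4076 : Q := sm gh N2990
def N4077 : Q := sm gc N2991
def N4080 : Q := sm gb N2993
def N4081 : Q := sm ge N2993
def N4082 : Q := sm gi N2993
def N4083 : Q := sm gf N2994
def N4086 : Q := sm ga N2996
def N4087 : Q := sm ge N2996
def N4088 : Q := sm gi N2996
def N4090 : Q := sm gi N2997
def N4093 : Q := sm gi N2999
def N4104 : Q := sm gb N3011
def N4105 : Q := sm ge N3011
def N4107 : Q := sm gi N3012
def N4110 : Q := sm gi N3014
def N4112 : Q := sm gi N3017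
def N4113 : Q := sm gh N3018
def N4115 : Q := sm ga N3020
def N4116 : Q := sm ge N3020
def N4118 : Q := sm gd N3021
def N4119 : Q := sm gi N3021
def N4122 : Q := sm gi N3025
def N4128 : Q := sm ge N3031
def N4130 : Q := sm gd N3032
def N4131 : Q := sm gi N3032
def N4133 : Q := sm gh N3034
def N4134 : Q := sm gi N3034
def N4135 : Q := sm gh N3035
def N4140 : Q := sm ge N3040
def N4143 : Q := sm ge N3042
def N4144 : Q := sm gf N3043
def N4145 : Q := sm gb N3044
def N4146 : Q := sm gf N3044
def N4147 : Q := sm gh N3044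
def N4148 : Q := sm ge N3045
def N4149 : Q := sm gg N3045
def N4150 : Q := sm gh N3045
def N4151 : Q := sm gi N3046
def N4152 : Q := sm ge N3048
def N4153 : Q := sm gg N3048
def N4154 : Q := sm gh N3048
def N4155 : Q := sm gd N3049
def N4156 : Q := sm gi N3049
def N4157 : Q := sm gg N3050
def N4158 : Q := sm gh N3050
def N4159 : Q := sm gh N3051
def N4160 : Q := sm gi N3052
def N4161 : Q := sm gf N3054
def N4162 : Q := sm gh N3054
def N4163 : Q := sm gd N3055
def N4164 : Q := sm gi N3055
def N4165 : Q := sm gi N3056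
def N4166 : Q := sm gf N3058
def N4167 : Q := sm gh N3058
def N4168 : Q := sm ge N3059
def N4169 : Q := sm gg N3059
def N4170 : Q := sm gh N3059
def N4171 : Q := sm gd N3060
def N4172 : Q := sm gi N3060
def N4173 : Q := sm gg N3061
def N4174 : Q := sm gh N3061
def N4175 : Q := sm gh N3062
def N4176 : Q := sm gi N3063
def N4177 : Q := sm gd N3065
def N4178 : Q := sm gg N3065
def N4179 : Q := sm gh N3065
def N4180 : Q := sm gh N3066
def N4181 : Q := sm gd N3067
def N4182 : Q := sm gi N3067
def N4183 : Q := sm ge N3068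
def N4184 : Q := sm gi N3068
def N4185 : Q := sm gf N3070
def N4186 : Q := sm gh N3070
def N4187 : Q := sm gd N3071
def N4188 : Q := sm gi N3071
def N4189 : Q := sm gi N3072
def N4190 : Q := sm gh N3074
def N4191 : Q := sm gd N3075
def N4192 : Q := sm gi N3075
def N4193 : Q := sm gc N3076
def N4194 : Q := sm gi N3076
def N4195 : Q := sm ge N3079
def N4196 : Q := sm gg N3079
def N4197 : Q := sm gh N3079
def N4198 : Q := sm gd N3080
def N4199 : Q := sm gi N3080
def N4200 : Q := sm gd N3081
def N4201 : Q := sm gg N3081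
def N4202 : Q := sm gh N3081
def N4203 : Q := sm gh N3082
def N4204 : Q := sm gd N3083
def N4208 : Q := sm gf N3086
def N4209 : Q := sm gh N3086
def N4210 : Q := sm gd N3087
def N4211 : Q := sm gi N3087
def N4213 : Q := sm gg N3090
def N4214 : Q := sm gh N3090
def N4215 : Q := sm gf N3091
def N4216 : Q := sm gh N3091
def N4217 : Q := sm gd N3092
def N4218 : Q := sm gi N3092
def N4219 : Q := sm gd N3093
def N4221 : Q := sm ge N3094
def N4223 : Q := sm gf N3096
def N4224 : Q := sm gi N3096
def N4226 : Q := sm gh N3098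
def N4229 : Q := sm gc N3100
def N4231 : Q := sm gd N3103
def N4233 : Q := sm gc N3104
def N4234 : Q := sm gi N3104
def N4235 : Q := sm gb N3106
def N4236 : Q := sm gi N3106
def N4238 : Q := sm ge N3108
def N4239 : Q := sm gg N3108
def N4240 : Q := sm gh N3108
def N4241 : Q := sm gd N3109
def N4242 : Q := sm gi N3109
def N4243 : Q := sm gd N3110
def N4244 : Q := sm gg N3110
def N4245 : Q := sm gh N3110
def N4246 : Q := sm gh N3111
def N4247 : Q := sm gd N3112
def N4248 : Q := sm gi N3112
def N4249 : Q := sm ge N3113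
def N4250 : Q := sm gi N3113
def N4251 : Q := sm gf N3115
def N4253 : Q := sm gd N3116
def N4254 : Q := sm gi N3116
def N4255 : Q := sm gi N3117
def N4257 : Q := sm gh N3119
def N4258 : Q := sm gf N3120
def N4259 : Q := sm gh N3120
def N4260 : Q := sm gd N3121
def N4261 : Q := sm gi N3121
def N4262 : Q := sm gd N3122
def N4263 : Q := sm gi N3122
def N4264 : Q := sm ge N3123
def N4265 : Q := sm gi N3123
def N4266 : Q := sm gf N3125
def N4267 : Q := sm gi N3125
def N4268 : Q := sm gh N3126
def N4269 : Q := sm gh N3127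
def N4270 : Q := sm gd N3128
def N4272 : Q := sm gc N3129
def N4276 : Q := sm gc N3133
def N4278 : Q := sm gb N3135
def N4279 : Q := sm gi N3135
def N4281 : Q := sm gg N3137
def N4282 : Q := sm gh N3137
def N4287 : Q := sm gd N3140
def N4290 : Q := sm gi N3141
def N4292 : Q := sm gi N3143
def N4293 : Q := sm gh N3144
def N4294 : Q := sm gh N3145
def N4295 : Q := sm gd N3146
def N4297 : Q := sm gc N3147
def N4298 : Q := sm gi N3147
def N4299 : Q := sm gf N3150
def N4300 : Q := sm gh N3150
def N4301 : Q := sm gd N3151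
def N4303 : Q := sm gh N3152
def N4304 : Q := sm gd N3153
def N4306 : Q := sm gc N3154
def N4307 : Q := sm ge N3154
def N4308 : Q := sm gi N3154
def N4311 : Q := sm gf N3158
def N4315 : Q := sm gi N3160
def N4316 : Q := sm gh N3161
def N4317 : Q := sm gd N3163
def N4319 : Q := sm gc N3164
def N4321 : Q := sm gb N3166
def N4322 : Q := sm gi N3166
def N4325 : Q := sm ge N3168
def N4328 : Q := sm gi N3170
def N4330 : Q := sm ga N3172
def N4332 : Q := sm gh N3173
def N4334 : Q := sm gh N3175
def N4335 : Q := sm gd N3176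
def N4337 : Q := sm gc N3177
def N4338 : Q := sm ge N3177
def N4342 : Q := sm gc N3180
def N4343 : Q := sm ge N3180
def N4344 : Q := sm gi N3180
def N4345 : Q := sm gb N3182
def N4346 : Q := sm ge N3182
def N4347 : Q := sm gi N3182
def N4351 : Q := sm gf N3185
def N4352 : Q := sm gi N3185
def N4353 : Q := sm gh N3186
def N4357 : Q := sm gi N3190
def N4358 : Q := sm gh N3191
def N4359 : Q := sm gd N3192
def N4361 : Q := sm ge N3193
def N4362 : Q := sm gi N3193
def N4366 : Q := sm ga N3197
def N4374 : Q := sm ga N3203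
def N4377 : Q := sm gi N3206
def N4380 : Q := sm gc N3209
def N4381 : Q := sm gf N3209
def N4382 : Q := sm gh N3209
def N4383 : Q := sm gg N3210
def N4384 : Q := sm gf N3211
def N4385 : Q := sm gh N3211
def N4386 : Q := sm ge N3212
def N4387 : Q := sm gg N3212
def N4388 : Q := sm gh N3212
def N4389 : Q := sm gi N3213
def N4390 : Q := sm gg N3215
def N4391 : Q := sm gh N3215
def N4392 : Q := sm gh N3216
def N4393 : Q := sm gi N3217
def N4394 : Q := sm gb N3219
def N4395 : Q := sm gf N3219
def N4396 : Q := sm gh N3219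
def N4397 : Q := sm ge N3220
def N4398 : Q := sm gg N3220
def N4399 : Q := sm gh N3220
def N4400 : Q := sm gi N3221
def N4401 : Q := sm ge N3223
def N4402 : Q := sm gg N3223
def N4403 : Q := sm gh N3223
def N4404 : Q := sm gd N3224
def N4405 : Q := sm gi N3224
def N4406 : Q := sm gg N3225
def N4407 : Q := sm gh N3225
def N4408 : Q := sm gh N3226
def N4409 : Q := sm gi N3227
def N4410 : Q := sm gf N3229
def N4411 : Q := sm gh N3229
def N4412 : Q := sm gd N3230
def N4413 : Q := sm gi N3230
def N4414 : Q := sm gi N3231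
def N4415 : Q := sm gf N3233
def N4416 : Q := sm gh N3233
def N4417 : Q := sm ge N3234
def N4418 : Q := sm gg N3234
def N4419 : Q := sm gh N3234
def N4420 : Q := sm gd N3235
def N4421 : Q := sm gi N3235
def N4422 : Q := sm gg N3236
def N4423 : Q := sm gh N3236
def N4424 : Q := sm gh N3237
def N4425 : Q := sm gi N3238
def N4426 : Q := sm gd N3240
def N4427 : Q := sm gg N3240
def N4428 : Q := sm gh N3240
def N4429 : Q := sm gh N3241
def N4430 : Q := sm gd N3242
def N4431 : Q := sm gi N3242
def N4432 : Q := sm ge N3243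
def N4433 : Q := sm gi N3243
def N4434 : Q := sm gf N3245
def N4435 : Q := sm gh N3245
def N4436 : Q := sm gd N3246
def N4437 : Q := sm gi N3246
def N4438 : Q := sm gi N3247
def N4439 : Q := sm gh N3249
def N4440 : Q := sm gd N3250
def N4441 : Q := sm gi N3250
def N4442 : Q := sm gc N3251
def N4443 : Q := sm gi N3251
def N4444 : Q := sm ge N3254
def N4445 : Q := sm gg N3254
def N4446 : Q := sm gh N3254
def N4447 : Q := sm gd N3255
def N4448 : Q := sm gi N3255
def N4449 : Q := sm gd N3256
def N4450 : Q := sm gg N3256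
def N4451 : Q := sm gh N3256
def N4452 : Q := sm gh N3257
def N4453 : Q := sm gd N3258
def N4454 : Q := sm gi N3258
def N4455 : Q := sm gi N3259
def N4456 : Q := sm gf N3261
def N4457 : Q := sm gh N3261
def N4458 : Q := sm gd N3262
def N4459 : Q := sm gi N3262
def N4461 : Q := sm gg N3265
def N4462 : Q := sm gh N3265
def N4463 : Q := sm gf N3266
def N4464 : Q := sm gh N3266
def N4465 : Q := sm gd N3267
def N4466 : Q := sm gi N3267
def N4467 : Q := sm gd N3268
def N4468 : Q := sm gi N3268
def N4469 : Q := sm ge N3269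
def N4470 : Q := sm gi N3269
def N4471 : Q := sm gh N3271
def N4472 : Q := sm gh N3272
def N4473 : Q := sm gd N3273
def N4475 : Q := sm gc N3274
def N4476 : Q := sm gi N3274
def N4477 : Q := sm gd N3277
def N4479 : Q := sm gc N3278
def N4480 : Q := sm gi N3278
def N4481 : Q := sm gb N3280
def N4482 : Q := sm gi N3280
def N4484 : Q := sm gc N3282
def N4485 : Q := sm gf N3282
def N4486 : Q := sm gh N3282
def N4487 : Q := sm gg N3283
def N4488 : Q := sm gf N3284
def N4489 : Q := sm gh N3284
def N4490 : Q := sm ge N3285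
def N4491 : Q := sm gg N3285
def N4492 : Q := sm gh N3285
def N4493 : Q := sm gi N3286
def N4494 : Q := sm gg N3288
def N4495 : Q := sm gh N3288
def N4496 : Q := sm gh N3289
def N4497 : Q := sm gi N3290
def N4498 : Q := sm gb N3292
def N4499 : Q := sm gf N3292
def N4500 : Q := sm gh N3292
def N4501 : Q := sm ge N3293
def N4502 : Q := sm gg N3293
def N4503 : Q := sm gh N3293
def N4504 : Q := sm gi N3294
def N4505 : Q := sm ge N3296
def N4506 : Q := sm gg N3296
def N4507 : Q := sm gh N3296
def N4508 : Q := sm gd N3297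
def N4509 : Q := sm gi N3297
def N4510 : Q := sm gg N3298
def N4511 : Q := sm gh N3298
def N4512 : Q := sm gh N3299
def N4513 : Q := sm gi N3300
def N4514 : Q := sm gf N3302
def N4515 : Q := sm gh N3302
def N4516 : Q := sm gd N3303
def N4517 : Q := sm gi N3303
def N4518 : Q := sm gi N3304
def N4519 : Q := sm gf N3306
def N4520 : Q := sm gh N3306
def N4521 : Q := sm ge N3307
def N4522 : Q := sm gg N3307
def N4523 : Q := sm gh N3307
def N4524 : Q := sm gd N3308
def N4525 : Q := sm gi N3308
def N4526 : Q := sm gg N3309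
def N4527 : Q := sm gh N3309
def N4528 : Q := sm gh N3310
def N4529 : Q := sm gi N3311
def N4530 : Q := sm gd N3313
def N4531 : Q := sm gg N3313
def N4532 : Q := sm gh N3313
def N4533 : Q := sm gh N3314
def N4534 : Q := sm gd N3315
def N4535 : Q := sm gi N3315
def N4536 : Q := sm ge N3316
def N4537 : Q := sm gi N3316
def N4538 : Q := sm gf N3318
def N4539 : Q := sm gh N3318
def N4540 : Q := sm gd N3319
def N4541 : Q := sm gi N3319
def N4542 : Q := sm gi N3320
def N4543 : Q := sm gh N3322
def N4544 : Q := sm gd N3323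
def N4545 : Q := sm gi N3323
def N4546 : Q := sm gc N3324
def N4547 : Q := sm gi N3324
def N4548 : Q := sm gf N3327
def N4549 : Q := sm gh N3327
def N4550 : Q := sm ge N3328
def N4551 : Q := sm gg N3328
def N4552 : Q := sm gh N3328
def N4553 : Q := sm gd N3329
def N4554 : Q := sm gi N3329
def N4555 : Q := sm gg N3330
def N4556 : Q := sm gh N3330
def N4557 : Q := sm gh N3331
def N4558 : Q := sm gi N3332
def N4559 : Q := sm gd N3334
def N4560 : Q := sm gg N3334
def N4561 : Q := sm gh N3334
def N4562 : Q := sm gh N3335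
def N4563 : Q := sm gd N3336
def N4564 : Q := sm gi N3336
def N4565 : Q := sm ge N3337
def N4566 : Q := sm gi N3337
def N4567 : Q := sm gf N3339
def N4568 : Q := sm gh N3339
def N4569 : Q := sm gd N3340
def N4570 : Q := sm gi N3340
def N4571 : Q := sm gi N3341
def N4572 : Q := sm gh N3343
def N4573 : Q := sm gd N3344
def N4574 : Q := sm gi N3344
def N4575 : Q := sm gc N3345
def N4576 : Q := sm gi N3345
def N4577 : Q := sm ge N3348
def N4578 : Q := sm gg N3348
def N4579 : Q := sm gh N3348
def N4580 : Q := sm gd N3349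
def N4581 : Q := sm gi N3349
def N4582 : Q := sm gd N3350
def N4583 : Q := sm gg N3350
def N4584 : Q := sm gh N3350
def N4585 : Q := sm gh N3351
def N4586 : Q := sm gd N3352
def N4587 : Q := sm gi N3352
def N4588 : Q := sm ge N3353
def N4589 : Q := sm gi N3353
def N4590 : Q := sm gf N3355
def N4591 : Q := sm gh N3355
def N4592 : Q := sm gd N3356
def N4593 : Q := sm gi N3356
def N4594 : Q := sm gi N3357
def N4595 : Q := sm gg N3359
def N4596 : Q := sm gh N3359
def N4597 : Q := sm gf N3360
def N4598 : Q := sm gh N3360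
def N4599 : Q := sm gd N3361
def N4600 : Q := sm gi N3361
def N4601 : Q := sm gd N3362
def N4602 : Q := sm gi N3362
def N4603 : Q := sm ge N3363
def N4604 : Q := sm gi N3363
def N4605 : Q := sm gf N3365
def N4606 : Q := sm gi N3365
def N4607 : Q := sm gh N3366
def N4608 : Q := sm gh N3367
def N4609 : Q := sm gd N3368
def N4610 : Q := sm gi N3368
def N4611 : Q := sm gc N3369
def N4612 : Q := sm gi N3369
def N4613 : Q := sm gd N3372
def N4614 : Q := sm gi N3372
def N4615 : Q := sm gc N3373
def N4616 : Q := sm gi N3373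
def N4617 : Q := sm gb N3375
def N4618 : Q := sm gi N3375
def N4619 : Q := sm gh N3376
def N4620 : Q := sm ge N3377
def N4621 : Q := sm gg N3377
def N4622 : Q := sm gh N3377
def N4623 : Q := sm gd N3378
def N4624 : Q := sm gi N3378
def N4625 : Q := sm gd N3379
def N4626 : Q := sm gg N3379
def N4627 : Q := sm gh N3379
def N4628 : Q := sm gh N3380
def N4629 : Q := sm gd N3381
def N4631 : Q := sm ge N3382
def N4632 : Q := sm gi N3382
def N4633 : Q := sm gf N3384
def N4634 : Q := sm gh N3384
def N4635 : Q := sm gd N3385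
def N4636 : Q := sm gi N3385
def N4638 : Q := sm gg N3388
def N4639 : Q := sm gh N3388
def N4640 : Q := sm gf N3389
def N4641 : Q := sm gh N3389
def N4642 : Q := sm gd N3390
def N4643 : Q := sm gi N3390
def N4644 : Q := sm gd N3391
def N4646 : Q := sm ge N3392
def N4647 : Q := sm gi N3392
def N4648 : Q := sm gf N3394
def N4651 : Q := sm gd N3397
def N4653 : Q := sm gc N3398
def N4655 : Q := sm gd N3401
def N4656 : Q := sm gi N3401
def N4657 : Q := sm gc N3402
def N4659 : Q := sm gb N3404
def N4662 : Q := sm gd N3406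
def N4663 : Q := sm gg N3406
def N4664 : Q := sm gh N3406
def N4665 : Q := sm gh N3407
def N4666 : Q := sm gi N3408
def N4667 : Q := sm gg N3410
def N4668 : Q := sm gh N3410
def N4669 : Q := sm gf N3411
def N4670 : Q := sm gh N3411
def N4671 : Q := sm gd N3412
def N4674 : Q := sm gh N3415
def N4675 : Q := sm gd N3416
def N4677 : Q := sm gc N3417
def N4678 : Q := sm gi N3417
def N4679 : Q := sm gf N3420
def N4680 : Q := sm gh N3420
def N4681 : Q := sm gd N3421
def N4682 : Q := sm gi N3421
def N4683 : Q := sm gh N3422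
def N4684 : Q := sm gd N3423
def N4686 : Q := sm gc N3424
def N4687 : Q := sm gi N3424
def N4688 : Q := sm gd N3427
def N4690 : Q := sm gc N3428
def N4692 : Q := sm gb N3430
def N4693 : Q := sm gi N3430
def N4695 : Q := sm gc N3432
def N4697 : Q := sm gi N3432
def N4698 : Q := sm gb N3434
def N4699 : Q := sm gi N3434
def N4701 : Q := sm ga N3436
def N4702 : Q := sm gi N3436
def N4704 : Q := sm gg N3439
def N4705 : Q := sm gh N3439
def N4706 : Q := sm gh N3440
def N4707 : Q := sm gd N3441
def N4708 : Q := sm gi N3441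
def N4709 : Q := sm gc N3442
def N4710 : Q := sm ge N3442
def N4711 : Q := sm gi N3442
def N4712 : Q := sm gf N3444
def N4713 : Q := sm gh N3444
def N4714 : Q := sm gd N3445
def N4715 : Q := sm gi N3445
def N4716 : Q := sm gd N3446
def N4717 : Q := sm gi N3446
def N4718 : Q := sm ge N3447
def N4719 : Q := sm gi N3447
def N4720 : Q := sm gf N3449
def N4721 : Q := sm gi N3449
def N4722 : Q := sm gh N3450
def N4724 : Q := sm gd N3452
def N4725 : Q := sm gi N3452
def N4726 : Q := sm gc N3453
def N4727 : Q := sm gi N3453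
def N4729 : Q := sm gd N3457
def N4731 : Q := sm gc N3458
def N4732 : Q := sm ge N3458
def N4733 : Q := sm gi N3458
def N4734 : Q := sm ge N3460
def N4735 : Q := sm gi N3460
def N4736 : Q := sm gf N3462
def N4737 : Q := sm gi N3462
def N4738 : Q := sm gh N3463
def N4739 : Q := sm gg N3464
def N4740 : Q := sm gi N3464
def N4741 : Q := sm gh N3465
def N4742 : Q := sm gd N3467
def N4744 : Q := sm gc N3468
def N4745 : Q := sm gi N3468
def N4746 : Q := sm gb N3470
def N4747 : Q := sm gi N3470
def N4748 : Q := sm gh N3471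
def N4749 : Q := sm gc N3472
def N4750 : Q := sm ge N3472
def N4752 : Q := sm gb N3474
def N4753 : Q := sm gi N3474
def N4754 : Q := sm gh N3475
def N4755 : Q := sm ga N3476
def N4756 : Q := sm gi N3476
def N4757 : Q := sm gh N3477
def N4758 : Q := sm gd N3479
def N4760 : Q := sm gc N3480
def N4762 : Q := sm gb N3482
def N4763 : Q := sm gi N3482
def N4765 : Q := sm gc N3484
def N4766 : Q := sm ge N3484
def N4768 : Q := sm gb N3486
def N4769 : Q := sm gi N3486
def N4771 : Q := sm ga N3488
def N4772 : Q := sm gi N3488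
def N4773 : Q := sm gh N3489
def N4774 : Q := sm gb N3491
def N4775 : Q := sm ge N3491
def N4776 : Q := sm gi N3491
def N4777 : Q := sm gi N3492
def N4779 : Q := sm ga N3494
def N4782 : Q := sm gi N3497
def N4784 : Q := sm gd N3499
def N4786 : Q := sm ge N3500
def N4787 : Q := sm gi N3500
def N4788 : Q := sm gd N3501
def N4789 : Q := sm gi N3501
def N4790 : Q := sm gh N3502
def N4793 : Q := sm gh N3506
def N4794 : Q := sm gd N3507
def N4798 : Q := sm gc N3511
def N4799 : Q := sm gf N3511
def N4800 : Q := sm gh N3511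
def N4801 : Q := sm gg N3512
def N4802 : Q := sm gf N3513
def N4803 : Q := sm gh N3513
def N4804 : Q := sm ge N3514
def N4808 : Q := sm gg N3517
def N4809 : Q := sm gh N3517
def N4810 : Q := sm gh N3518
def N4811 : Q := sm gi N3519
def N4812 : Q := sm gb N3521
def N4813 : Q := sm gf N3521
def N4814 : Q := sm gh N3521
def N4815 : Q := sm ge N3522
def N4816 : Q := sm gg N3522
def N4817 : Q := sm gh N3522
def N4818 : Q := sm gi N3523
def N4819 : Q := sm ge N3525
def N4820 : Q := sm gg N3525
def N4821 : Q := sm gh N3525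
def N4822 : Q := sm gd N3526
def N4823 : Q := sm gi N3526
def N4825 : Q := sm gh N3527
def N4828 : Q := sm gf N3531
def N4829 : Q := sm gh N3531
def N4830 : Q := sm gd N3532
def N4832 : Q := sm gi N3533
def N4833 : Q := sm gf N3535
def N4834 : Q := sm gh N3535
def N4835 : Q := sm ge N3536
def N4836 : Q := sm gg N3536
def N4837 : Q := sm gh N3536
def N4838 : Q := sm gd N3537
def N4839 : Q := sm gi N3537
def N4840 : Q := sm gg N3538
def N4841 : Q := sm gh N3538
def N4843 : Q := sm gi N3540
def N4844 : Q := sm gd N3542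
def N4845 : Q := sm gg N3542
def N4846 : Q := sm gh N3542
def N4847 : Q := sm gh N3543
def N4848 : Q := sm gd N3544
def N4849 : Q := sm gi N3544
def N4850 : Q := sm ge N3545
def N4851 : Q := sm gi N3545
def N4852 : Q := sm gf N3547
def N4853 : Q := sm gh N3547
def N4854 : Q := sm gd N3548
def N4855 : Q := sm gi N3548
def N4856 : Q := sm gi N3549
def N4857 : Q := sm gh N3551
def N4860 : Q := sm gc N3553
def N4862 : Q := sm ge N3556
def N4863 : Q := sm gg N3556
def N4864 : Q := sm gh N3556
def N4865 : Q := sm gd N3557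
def N4866 : Q := sm gi N3557
def N4867 : Q := sm gd N3558
def N4868 : Q := sm gg N3558
def N4869 : Q := sm gh N3558
def N4870 : Q := sm gh N3559
def N4871 : Q := sm gd N3560
def N4872 : Q := sm gi N3560
def N4873 : Q := sm ge N3561
def N4874 : Q := sm gi N3561
def N4875 : Q := sm gf N3563
def N4876 : Q := sm gh N3563
def N4877 : Q := sm gd N3564
def N4878 : Q := sm gi N3564
def N4879 : Q := sm gi N3565
def N4880 : Q := sm gg N3567
def N4881 : Q := sm gh N3567
def N4882 : Q := sm gf N3568
def N4883 : Q := sm gh N3568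
def N4884 : Q := sm gd N3569
def N4885 : Q := sm gi N3569
def N4886 : Q := sm gd N3570
def N4887 : Q := sm gi N3570
def N4888 : Q := sm ge N3571
def N4889 : Q := sm gi N3571
def N4890 : Q := sm gf N3573
def N4891 : Q := sm gi N3573
def N4892 : Q := sm gh N3574
def N4893 : Q := sm gh N3575
def N4894 : Q := sm gd N3576
def N4897 : Q := sm gi N3577
def N4902 : Q := sm ge N3584
def N4903 : Q := sm gg N3584
def N4904 : Q := sm gh N3584
def N4905 : Q := sm gd N3585
def N4906 : Q := sm gi N3585
def N4907 : Q := sm gd N3586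
def N4908 : Q := sm gg N3586
def N4909 : Q := sm gh N3586
def N4910 : Q := sm gh N3587
def N4911 : Q := sm gd N3588
def N4912 : Q := sm gi N3588
def N4913 : Q := sm ge N3589
def N4914 : Q := sm gi N3589
def N4916 : Q := sm gh N3591
def N4917 : Q := sm gd N3592
def N4920 : Q := sm gg N3595
def N4921 : Q := sm gh N3595
def N4924 : Q := sm gd N3597
def N4926 : Q := sm gd N3598
def N4927 : Q := sm gi N3598
def N4928 : Q := sm ge N3599
def N4929 : Q := sm gi N3599
def N4930 : Q := sm gf N3601
def N4931 : Q := sm gi N3601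
def N4932 : Q := sm gh N3602
def N4933 : Q := sm gh N3603
def N4938 : Q := sm gd N3608
def N4941 : Q := sm gi N3609
def N4942 : Q := sm gb N3611
def N4943 : Q := sm gi N3611
def N4944 : Q := sm gd N3613
def N4945 : Q := sm gg N3613
def N4946 : Q := sm gh N3613
def N4947 : Q := sm gh N3614
def N4948 : Q := sm gd N3615
def N4949 : Q := sm gi N3615
def N4950 : Q := sm gc N3616
def N4951 : Q := sm ge N3616
def N4952 : Q := sm gi N3616
def N4953 : Q := sm gg N3618
def N4954 : Q := sm gh N3618
def N4955 : Q := sm gf N3619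
def N4956 : Q := sm gh N3619
def N4957 : Q := sm gd N3620
def N4958 : Q := sm gi N3620
def N4959 : Q := sm gd N3621
def N4960 : Q := sm gi N3621
def N4961 : Q := sm ge N3622
def N4962 : Q := sm gi N3622
def N4963 : Q := sm gf N3624
def N4964 : Q := sm gi N3624
def N4965 : Q := sm gh N3625
def N4967 : Q := sm gi N3627
def N4968 : Q := sm gf N3630
def N4969 : Q := sm gh N3630
def N4970 : Q := sm gd N3631
def N4971 : Q := sm gi N3631
def N4973 : Q := sm gd N3633
def N4975 : Q := sm ge N3634
def N4976 : Q := sm gi N3634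
def N4977 : Q := sm ge N3636
def N4978 : Q := sm gi N3636
def N4979 : Q := sm gf N3638
def N4980 : Q := sm gi N3638
def N4981 : Q := sm gh N3639
def N4982 : Q := sm gg N3640
def N4983 : Q := sm gi N3640
def N4984 : Q := sm gh N3641
def N4985 : Q := sm gi N3643
def N4986 : Q := sm gd N3646
def N4987 : Q := sm gg N3646
def N4988 : Q := sm gh N3646
def N4989 : Q := sm gh N3647
def N4990 : Q := sm gd N3648
def N4991 : Q := sm gc N3649
def N4992 : Q := sm ge N3649
def N4993 : Q := sm gg N3650
def N4994 : Q := sm gh N3650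
def N4995 : Q := sm gf N3651
def N4996 : Q := sm gh N3651
def N4997 : Q := sm gd N3652
def N4998 : Q := sm gd N3653
def N4999 : Q := sm ge N3654
def N5000 : Q := sm gf N3655
def N5001 : Q := sm gh N3656
def N5002 : Q := sm gd N3657
def N5004 : Q := sm gf N3659
def N5005 : Q := sm gh N3659
def N5006 : Q := sm gd N3660
def N5007 : Q := sm gi N3660
def N5008 : Q := sm gh N3661
def N5009 : Q := sm gd N3662
def N5010 : Q := sm gc N3663
def N5011 : Q := sm ge N3663
def N5012 : Q := sm ge N3664
def N5013 : Q := sm gf N3665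
def N5014 : Q := sm gg N3666
def N5015 : Q := sm gd N3667
def N5018 : Q := sm gc N3670
def N5019 : Q := sm ge N3670
def N5020 : Q := sm gb N3671
def N5022 : Q := sm gc N3673
def N5023 : Q := sm gg N3673
def N5024 : Q := sm gh N3673
def N5025 : Q := sm gf N3674
def N5026 : Q := sm gf N3675
def N5027 : Q := sm gh N3675
def N5028 : Q := sm gi N3676
def N5029 : Q := sm ge N3678
def N5030 : Q := sm gh N3678
def N5031 : Q := sm gi N3679
def N5032 : Q := sm gd N3681
def N5033 : Q := sm gi N3681
def N5034 : Q := sm gc N3682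
def N5035 : Q := sm ge N3682
def N5036 : Q := sm gi N3682
def N5037 : Q := sm ge N3684
def N5038 : Q := sm gi N3684
def N5039 : Q := sm gf N3685
def N5040 : Q := sm gi N3685
def N5041 : Q := sm gh N3686
def N5042 : Q := sm ge N3687
def N5043 : Q := sm gi N3687
def N5044 : Q := sm gf N3689
def N5045 : Q := sm gi N3689
def N5046 : Q := sm gh N3690
def N5047 : Q := sm gg N3691
def N5048 : Q := sm gi N3691
def N5049 : Q := sm gh N3692
def N5050 : Q := sm gf N3694
def N5051 : Q := sm gi N3694
def N5052 : Q := sm gh N3695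
def N5053 : Q := sm gg N3696
def N5054 : Q := sm gi N3696
def N5055 : Q := sm gh N3697
def N5056 : Q := sm gi N3699
def N5057 : Q := sm gh N3700
def N5058 : Q := sm gd N3701
def N5059 : Q := sm gd N3702
def N5060 : Q := sm gf N3702
def N5061 : Q := sm gi N3702
def N5062 : Q := sm gh N3703
def N5063 : Q := sm gg N3704
def N5064 : Q := sm gi N3704
def N5065 : Q := sm gh N3705
def N5066 : Q := sm gi N3707
def N5067 : Q := sm gh N3708
def N5068 : Q := sm gd N3709
def N5069 : Q := sm gh N3710
def N5070 : Q := sm gd N3711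
def N5071 : Q := sm gc N3712
def N5072 : Q := sm gd N3713
def N5073 : Q := sm gg N3713
def N5074 : Q := sm gh N3713
def N5078 : Q := sm ge N3716
def N5079 : Q := sm gi N3716
def N5080 : Q := sm gg N3718
def N5081 : Q := sm gh N3718
def N5082 : Q := sm gf N3719
def N5084 : Q := sm gd N3720
def N5085 : Q := sm gi N3720
def N5087 : Q := sm gi N3721
def N5088 : Q := sm ge N3722
def N5089 : Q := sm gi N3722
def N5090 : Q := sm gf N3724
def N5091 : Q := sm gi N3724
def N5093 : Q := sm gh N3726
def N5094 : Q := sm gd N3727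
def N5095 : Q := sm gi N3727
def N5097 : Q := sm gi N3728
def N5099 : Q := sm gh N3731
def N5100 : Q := sm gd N3732
def N5102 : Q := sm gh N3733
def N5103 : Q := sm gd N3734
def N5104 : Q := sm gi N3734
def N5106 : Q := sm ge N3735
def N5107 : Q := sm gi N3735
def N5108 : Q := sm ge N3737
def N5109 : Q := sm gi N3737
def N5110 : Q := sm gf N3739
def N5111 : Q := sm gi N3739
def N5112 : Q := sm gh N3740
def N5113 : Q := sm gg N3741
def N5114 : Q := sm gi N3741
def N5115 : Q := sm gh N3742
def N5118 : Q := sm gc N3745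
def N5120 : Q := sm gb N3747
def N5123 : Q := sm gc N3749
def N5125 : Q := sm gi N3749
def N5126 : Q := sm gb N3751
def N5127 : Q := sm gi N3751
def N5129 : Q := sm ga N3753
def N5131 : Q := sm gh N3754
def N5133 : Q := sm gh N3756
def N5134 : Q := sm gd N3757
def N5137 : Q := sm gd N3759
def N5139 : Q := sm gc N3760
def N5140 : Q := sm ge N3760
def N5141 : Q := sm gi N3760
def N5142 : Q := sm ge N3762
def N5144 : Q := sm gf N3764
def N5145 : Q := sm gi N3764
def N5146 : Q := sm gh N3765
def N5147 : Q := sm gg N3766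
def N5148 : Q := sm gi N3766
def N5149 : Q := sm gh N3767
def N5150 : Q := sm gd N3769
def N5152 : Q := sm gc N3770
def N5154 : Q := sm gb N3772
def N5157 : Q := sm ge N3774
def N5158 : Q := sm gh N3774
def N5160 : Q := sm gi N3775
def N5161 : Q := sm gc N3776
def N5164 : Q := sm gd N3778
def N5166 : Q := sm gc N3779
def N5167 : Q := sm ge N3779
def N5169 : Q := sm gb N3781
def N5170 : Q := sm ge N3781
def N5171 : Q := sm gi N3781
def N5172 : Q := sm gf N3782
def N5173 : Q := sm gi N3782
def N5176 : Q := sm gi N3784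
def N5177 : Q := sm gh N3785
def N5179 : Q := sm gi N3786
def N5184 : Q := sm gc N3792
def N5186 : Q := sm gi N3792
def N5187 : Q := sm gb N3794
def N5193 : Q := sm gb N3799
def N5194 : Q := sm ge N3799
def N5195 : Q := sm gi N3799
def N5199 : Q := sm gi N3802
def N5200 : Q := sm gh N3803
def N5202 : Q := sm gh N3806
def N5203 : Q := sm gd N3807
def N5205 : Q := sm gd N3809
def N5211 : Q := sm ge N3812
def N5212 : Q := sm gi N3812
def N5213 : Q := sm gf N3813
def N5214 : Q := sm gi N3813
def N5216 : Q := sm gc N3815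
def N5217 : Q := sm ge N3815
def N5218 : Q := sm gi N3815
def N5221 : Q := sm gi N3817
def N5222 : Q := sm gf N3818
def N5223 : Q := sm gi N3818
def N5224 : Q := sm gh N3819
def N5228 : Q := sm gf N3821
def N5230 : Q := sm gh N3822
def N5231 : Q := sm gg N3823
def N5232 : Q := sm gi N3823
def N5233 : Q := sm gh N3824
def N5234 : Q := sm gg N3826
def N5235 : Q := sm gi N3826
def N5236 : Q := sm gh N3827
def N5237 : Q := sm gi N3829
def N5240 : Q := sm gh N3832
def N5243 : Q := sm gb N3835
def N5244 : Q := sm ge N3835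
def N5246 : Q := sm gi N3836
def N5252 : Q := sm gh N3842
def N5254 : Q := sm ga N3844
def N5255 : Q := sm ge N3844
def N5257 : Q := sm gd N3845
def N5258 : Q := sm gi N3845
def N5261 : Q := sm gi N3849
def N5264 : Q := sm gh N3852
def N5267 : Q := sm gd N3855
def N5268 : Q := sm gg N3855
def N5269 : Q := sm gh N3855
def N5270 : Q := sm gh N3856
def N5271 : Q := sm gd N3857
def N5272 : Q := sm gi N3857
def N5273 : Q := sm gc N3858
def N5274 : Q := sm gi N3858
def N5275 : Q := sm gg N3860
def N5276 : Q := sm gh N3860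
def N5277 : Q := sm gf N3861
def N5280 : Q := sm gi N3862
def N5281 : Q := sm gd N3863
def N5282 : Q := sm gi N3863
def N5283 : Q := sm ge N3864
def N5291 : Q := sm gf N3872
def N5292 : Q := sm gh N3872
def N5295 : Q := sm gh N3874
def N5301 : Q := sm ge N3878
def N5303 : Q := sm gi N3880
def N5307 : Q := sm gc N3884
def N5310 : Q := sm gi N3886
def N5313 : Q := sm ge N3888
def N5314 : Q := sm gi N3888
def N5315 : Q := sm gb N3890
def N5319 : Q := sm gi N3892
def N5321 : Q := sm gd N3895
def N5322 : Q := sm gg N3895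
def N5323 : Q := sm gh N3895
def N5324 : Q := sm gh N3896
def N5325 : Q := sm gd N3897
def N5326 : Q := sm gi N3897
def N5327 : Q := sm gc N3898
def N5328 : Q := sm ge N3898
def N5329 : Q := sm gi N3898
def N5330 : Q := sm gg N3900
def N5331 : Q := sm gh N3900
def N5332 : Q := sm gf N3901
def N5334 : Q := sm gd N3902
def N5335 : Q := sm gi N3902
def N5340 : Q := sm gf N3906
def N5341 : Q := sm gi N3906
def N5342 : Q := sm gh N3908
def N5343 : Q := sm gd N3909
def N5346 : Q := sm gi N3910
def N5347 : Q := sm gf N3913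
def N5349 : Q := sm gd N3914
def N5351 : Q := sm gh N3915
def N5353 : Q := sm gi N3916
def N5355 : Q := sm ge N3917
def N5357 : Q := sm ge N3919
def N5358 : Q := sm gi N3919
def N5360 : Q := sm gi N3921
def N5362 : Q := sm gi N3923
def N5365 : Q := sm gc N3926
def N5367 : Q := sm gb N3928
def N5371 : Q := sm ge N3930
def N5373 : Q := sm gb N3932
def N5374 : Q := sm gi N3932
def N5375 : Q := sm gh N3933
def N5376 : Q := sm ga N3934
def N5377 : Q := sm gi N3934
def N5379 : Q := sm gc N3937
def N5380 : Q := sm gg N3937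
def N5382 : Q := sm gf N3938
def N5387 : Q := sm gf N3942
def N5388 : Q := sm gh N3942
def N5390 : Q := sm gi N3943
def N5392 : Q := sm gd N3945
def N5396 : Q := sm gd N3949
def N5397 : Q := sm gi N3949
def N5398 : Q := sm gc N3950
def N5401 : Q := sm gi N3952
def N5403 : Q := sm ge N3954
def N5404 : Q := sm gh N3954
def N5407 : Q := sm gc N3956
def N5408 : Q := sm gi N3956
def N5413 : Q := sm gb N3961
def N5415 : Q := sm gh N3962
def N5416 : Q := sm gc N3963
def N5418 : Q := sm gi N3963
def N5423 : Q := sm gi N3967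
def N5424 : Q := sm gh N3968
def N5428 : Q := sm gi N3971
def N5429 : Q := sm gh N3972
def N5431 : Q := sm gi N3973
def N5433 : Q := sm gi N3976
def N5434 : Q := sm gh N3977
def N5442 : Q := sm ga N3983
def N5445 : Q := sm gb N3986
def N5446 : Q := sm ge N3986
def N5449 : Q := sm gh N3988
def N5450 : Q := sm ga N3989
def N5451 : Q := sm gi N3989
def N5453 : Q := sm gi N3992
def N5459 : Q := sm gd N3996
def N5461 : Q := sm gh N3997
def N5462 : Q := sm gh N3998
def N5463 : Q := sm gi N4000
def N5464 : Q := sm gh N4001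
def N5465 : Q := sm gd N4002
def N5466 : Q := sm gh N4003
def N5468 : Q := sm ge N4005
def N5469 : Q := sm ge N4006
def N5472 : Q := sm gi N4007
def N5476 : Q := sm gh N4010
def N5477 : Q := sm gd N4011
def N5480 : Q := sm gd N4014
def N5481 : Q := sm ge N4015
def N5484 : Q := sm ge N4017
def N5485 : Q := sm gf N4018
def N5486 : Q := sm gc N4019
def N5487 : Q := sm gg N4019
def N5488 : Q := sm gh N4019
def N5489 : Q := sm gf N4020
def N5490 : Q := sm gh N4020
def N5491 : Q := sm gd N4021
def N5492 : Q := sm gd N4022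
def N5493 : Q := sm gc N4023
def N5494 : Q := sm ge N4023
def N5495 : Q := sm ge N4024
def N5496 : Q := sm gf N4025
def N5497 : Q := sm gf N4026
def N5498 : Q := sm gh N4026
def N5501 : Q := sm gh N4028
def N5502 : Q := sm gd N4029
def N5504 : Q := sm ge N4030
def N5505 : Q := sm ge N4031
def N5510 : Q := sm gb N4036
def N5511 : Q := sm ge N4037
def N5512 : Q := sm gh N4037
def N5513 : Q := sm gd N4038
def N5516 : Q := sm ge N4039
def N5517 : Q := sm gi N4039
def N5522 : Q := sm ge N4043
def N5523 : Q := sm gf N4044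
def N5527 : Q := sm ge N4048
def N5529 : Q := sm ga N4050
def N5530 : Q := sm gb N4051
def N5531 : Q := sm ge N4051
def N5533 : Q := sm gg N4055
def N5534 : Q := sm gh N4055
def N5535 : Q := sm gf N4056
def N5536 : Q := sm gh N4056
def N5538 : Q := sm ge N4059
def N5539 : Q := sm gh N4059
def N5540 : Q := sm gi N4060
def N5541 : Q := sm gh N4062
def N5545 : Q := sm gc N4066
def N5547 : Q := sm gi N4066
def N5548 : Q := sm gb N4068
def N5549 : Q := sm ge N4068
def N5550 : Q := sm gi N4068
def N5551 : Q := sm gf N4069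
def N5556 : Q := sm gi N4071
def N5557 : Q := sm gd N4072
def N5559 : Q := sm gi N4072
def N5561 : Q := sm gg N4074
def N5562 : Q := sm gi N4074
def N5564 : Q := sm gb N4077
def N5565 : Q := sm ge N4077
def N5566 : Q := sm gi N4077
def N5570 : Q := sm ga N4080
def N5571 : Q := sm ge N4080
def N5573 : Q := sm gf N4081
def N5575 : Q := sm gh N4082
def N5576 : Q := sm gg N4083
def N5577 : Q := sm gi N4083
def N5580 : Q := sm gi N4086
def N5582 : Q := sm gi N4087
def N5583 : Q := sm gh N4088
def N5586 : Q := sm gh N4090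
def N5589 : Q := sm gh N4093
def N5603 : Q := sm gi N4104
def N5605 : Q := sm gi N4105
def N5607 : Q := sm gh N4107
def N5612 : Q := sm gd N4113
def N5614 : Q := sm ge N4115
def N5615 : Q := sm gi N4115
def N5616 : Q := sm gd N4116
def N5619 : Q := sm gh N4118
def N5621 : Q := sm gh N4119
def N5624 : Q := sm gh N4122
def N5631 : Q := sm gd N4128
def N5636 : Q := sm gi N4130
def N5637 : Q := sm gh N4131
def N5639 : Q := sm gi N4133
def N5640 : Q := sm gh N4134
def N5641 : Q := sm gd N4135
def N5651 : Q := sm gf N4143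
def N5652 : Q := sm gg N4144
def N5653 : Q := sm gf N4145
def N5654 : Q := sm gh N4145
def N5655 : Q := sm ge N4146
def N5656 : Q := sm gg N4146
def N5657 : Q := sm gh N4146
def N5658 : Q := sm gd N4147
def N5659 : Q := sm gi N4147
def N5660 : Q := sm gg N4148
def N5661 : Q := sm gh N4148
def N5662 : Q := sm gh N4149
def N5663 : Q := sm gi N4150
def N5664 : Q := sm gd N4152
def N5665 : Q := sm gg N4152
def N5666 : Q := sm gh N4152
def N5667 : Q := sm gh N4153
def N5668 : Q := sm gd N4154
def N5669 : Q := sm gi N4154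
def N5670 : Q := sm ge N4155
def N5671 : Q := sm gi N4155
def N5672 : Q := sm gf N4157
def N5673 : Q := sm gh N4157
def N5674 : Q := sm gd N4158
def N5675 : Q := sm gi N4158
def N5676 : Q := sm gi N4159
def N5677 : Q := sm gh N4161
def N5678 : Q := sm gd N4162
def N5679 : Q := sm gi N4162
def N5680 : Q := sm gc N4163
def N5681 : Q := sm gi N4163
def N5682 : Q := sm ge N4166
def N5683 : Q := sm gg N4166
def N5684 : Q := sm gh N4166
def N5685 : Q := sm gd N4167
def N5686 : Q := sm gi N4167
def N5687 : Q := sm gd N4168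
def N5688 : Q := sm gg N4168
def N5689 : Q := sm gh N4168
def N5690 : Q := sm gh N4169
def N5691 : Q := sm gd N4170
def N5692 : Q := sm gi N4170
def N5693 : Q := sm ge N4171
def N5694 : Q := sm gi N4171
def N5695 : Q := sm gf N4173
def N5696 : Q := sm gh N4173
def N5697 : Q := sm gd N4174
def N5698 : Q := sm gi N4174
def N5699 : Q := sm gi N4175
def N5700 : Q := sm gg N4177
def N5701 : Q := sm gh N4177
def N5702 : Q := sm gf N4178
def N5703 : Q := sm gh N4178
def N5704 : Q := sm gd N4179
def N5705 : Q := sm gi N4179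
def N5706 : Q := sm gd N4180
def N5707 : Q := sm gi N4180
def N5708 : Q := sm ge N4181
def N5709 : Q := sm gi N4181
def N5710 : Q := sm gf N4183
def N5711 : Q := sm gi N4183
def N5712 : Q := sm gh N4184
def N5713 : Q := sm gh N4185
def N5714 : Q := sm gd N4186
def N5715 : Q := sm gi N4186
def N5716 : Q := sm gc N4187
def N5717 : Q := sm gi N4187
def N5718 : Q := sm gd N4190
def N5719 : Q := sm gi N4190
def N5720 : Q := sm gc N4191
def N5722 : Q := sm gb N4193
def N5723 : Q := sm gi N4193
def N5725 : Q := sm gd N4195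
def N5726 : Q := sm gg N4195
def N5727 : Q := sm gh N4195
def N5728 : Q := sm gh N4196
def N5729 : Q := sm gd N4197
def N5731 : Q := sm ge N4198
def N5732 : Q := sm gi N4198
def N5733 : Q := sm gg N4200
def N5734 : Q := sm gh N4200
def N5735 : Q := sm gf N4201
def N5737 : Q := sm gd N4202
def N5738 : Q := sm gi N4202
def N5739 : Q := sm gd N4203
def N5742 : Q := sm gi N4204
def N5746 : Q := sm gh N4208
def N5748 : Q := sm gi N4209
def N5749 : Q := sm gc N4210
def N5750 : Q := sm gi N4210
def N5751 : Q := sm gf N4213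
def N5752 : Q := sm gh N4213
def N5753 : Q := sm gd N4214
def N5754 : Q := sm gi N4214
def N5756 : Q := sm gd N4216
def N5757 : Q := sm gi N4216
def N5759 : Q := sm ge N4217
def N5760 : Q := sm gi N4217
def N5761 : Q := sm ge N4219
def N5764 : Q := sm gi N4221
def N5767 : Q := sm gi N4223
def N5768 : Q := sm gh N4224
def N5770 : Q := sm gi N4226
def N5774 : Q := sm gi N4229
def N5776 : Q := sm gc N4231
def N5777 : Q := sm ge N4231
def N5779 : Q := sm gb N4233
def N5782 : Q := sm ga N4235
def N5783 : Q := sm gi N4235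
def N5787 : Q := sm gh N4238
def N5788 : Q := sm gh N4239
def N5789 : Q := sm gd N4240
def N5790 : Q := sm gi N4240
def N5791 : Q := sm gc N4241
def N5792 : Q := sm ge N4241
def N5793 : Q := sm gi N4241
def N5794 : Q := sm gg N4243
def N5795 : Q := sm gh N4243
def N5796 : Q := sm gf N4244
def N5798 : Q := sm gd N4245
def N5800 : Q := sm gd N4246
def N5801 : Q := sm gi N4246
def N5802 : Q := sm ge N4247
def N5803 : Q := sm gi N4247
def N5804 : Q := sm gf N4249
def N5805 : Q := sm gi N4249
def N5806 : Q := sm gh N4250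
def N5807 : Q := sm gh N4251
def N5810 : Q := sm gc N4253
def N5811 : Q := sm gi N4253
def N5814 : Q := sm gd N4257
def N5815 : Q := sm gi N4257
def N5816 : Q := sm gh N4258
def N5818 : Q := sm gi N4259
def N5820 : Q := sm ge N4260
def N5821 : Q := sm gi N4260
def N5822 : Q := sm ge N4262
def N5823 : Q := sm gi N4262
def N5824 : Q := sm gf N4264
def N5825 : Q := sm gi N4264
def N5826 : Q := sm gh N4265
def N5827 : Q := sm gg N4266
def N5828 : Q := sm gi N4266
def N5829 : Q := sm gh N4267
def N5830 : Q := sm gd N4269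
def N5831 : Q := sm gi N4269
def N5833 : Q := sm gi N4270
def N5835 : Q := sm gi N4272
def N5841 : Q := sm gi N4276
def N5843 : Q := sm ga N4278
def N5845 : Q := sm gh N4279
def N5847 : Q := sm gh N4281
def N5849 : Q := sm gi N4282
def N5857 : Q := sm gi N4287
def N5860 : Q := sm gh N4290
def N5863 : Q := sm gh N4292
def N5864 : Q := sm gd N4294
def N5865 : Q := sm gi N4294
def N5867 : Q := sm gi N4295
def N5868 : Q := sm gb N4297
def N5870 : Q := sm gh N4298
def N5871 : Q := sm ge N4299
def N5872 : Q := sm gh N4299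
def N5874 : Q := sm gi N4300
def N5875 : Q := sm gc N4301
def N5877 : Q := sm gi N4301
def N5878 : Q := sm gd N4303
def N5879 : Q := sm gi N4303
def N5882 : Q := sm gi N4304
def N5883 : Q := sm gb N4306
def N5886 : Q := sm gf N4307
def N5887 : Q := sm gi N4307
def N5888 : Q := sm gh N4308
def N5896 : Q := sm gh N4315
def N5897 : Q := sm gd N4316
def N5899 : Q := sm ge N4317
def N5901 : Q := sm gb N4319
def N5902 : Q := sm gi N4319
def N5905 : Q := sm gi N4321
def N5906 : Q := sm gh N4322
def N5910 : Q := sm gi N4325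
def N5914 : Q := sm gh N4328
def N5915 : Q := sm gi N4330
def N5919 : Q := sm gd N4334
def N5921 : Q := sm gc N4335
def N5922 : Q := sm ge N4335
def N5923 : Q := sm gi N4335
def N5924 : Q := sm gb N4337
def N5925 : Q := sm ge N4337
def N5926 : Q := sm gi N4337
def N5927 : Q := sm gf N4338
def N5937 : Q := sm gi N4343
def N5938 : Q := sm gh N4344
def N5939 : Q := sm ga N4345
def N5940 : Q := sm ge N4345
def N5942 : Q := sm gf N4346
def N5944 : Q := sm gh N4347
def N5949 : Q := sm gi N4351
def N5950 : Q := sm gh N4352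
def N5954 : Q := sm gh N4357
def N5955 : Q := sm gd N4358
def N5960 : Q := sm gi N4361
def N5965 : Q := sm gi N4366
def N5975 : Q := sm gi N4374
def N5978 : Q := sm gh N4377
def N5981 : Q := sm gb N4380
def N5982 : Q := sm gf N4380
def N5983 : Q := sm gh N4380
def N5984 : Q := sm ge N4381
def N5985 : Q := sm gg N4381
def N5986 : Q := sm gh N4381
def N5987 : Q := sm gi N4382
def N5988 : Q := sm ge N4384
def N5989 : Q := sm gg N4384
def N5990 : Q := sm gh N4384
def N5991 : Q := sm gd N4385
def N5992 : Q := sm gi N4385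
def N5993 : Q := sm gg N4386
def N5994 : Q := sm gh N4386
def N5995 : Q := sm gh N4387
def N5996 : Q := sm gi N4388
def N5997 : Q := sm gf N4390
def N5998 : Q := sm gh N4390
def N5999 : Q := sm gd N4391
def N6000 : Q := sm gi N4391
def N6001 : Q := sm gi N4392
def N6002 : Q := sm gf N4394
def N6003 : Q := sm gh N4394
def N6004 : Q := sm ge N4395
def N6005 : Q := sm gg N4395
def N6006 : Q := sm gh N4395
def N6007 : Q := sm gd N4396
def N6008 : Q := sm gi N4396
def N6009 : Q := sm gg N4397
def N6010 : Q := sm gh N4397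
def N6011 : Q := sm gh N4398
def N6012 : Q := sm gi N4399
def N6013 : Q := sm gd N4401
def N6014 : Q := sm gg N4401
def N6015 : Q := sm gh N4401
def N6016 : Q := sm gh N4402
def N6017 : Q := sm gd N4403
def N6018 : Q := sm gi N4403
def N6019 : Q := sm ge N4404
def N6020 : Q := sm gi N4404
def N6021 : Q := sm gf N4406
def N6022 : Q := sm gh N4406
def N6023 : Q := sm gd N4407
def N6024 : Q := sm gi N4407
def N6025 : Q := sm gi N4408
def N6026 : Q := sm gh N4410
def N6027 : Q := sm gd N4411
def N6028 : Q := sm gi N4411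
def N6029 : Q := sm gc N4412
def N6030 : Q := sm gi N4412
def N6031 : Q := sm ge N4415
def N6032 : Q := sm gg N4415
def N6033 : Q := sm gh N4415
def N6034 : Q := sm gd N4416
def N6035 : Q := sm gi N4416
def N6036 : Q := sm gd N4417
def N6037 : Q := sm gg N4417
def N6038 : Q := sm gh N4417
def N6039 : Q := sm gh N4418
def N6040 : Q := sm gd N4419
def N6041 : Q := sm gi N4419
def N6042 : Q := sm ge N4420
def N6043 : Q := sm gi N4420
def N6044 : Q := sm gf N4422
def N6045 : Q := sm gh N4422
def N6046 : Q := sm gd N4423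
def N6047 : Q := sm gi N4423
def N6048 : Q := sm gi N4424
def N6049 : Q := sm gg N4426
def N6050 : Q := sm gh N4426
def N6051 : Q := sm gf N4427
def N6052 : Q := sm gh N4427
def N6053 : Q := sm gd N4428
def N6054 : Q := sm gi N4428
def N6055 : Q := sm gd N4429
def N6056 : Q := sm gi N4429
def N6057 : Q := sm ge N4430
def N6058 : Q := sm gi N4430
def N6059 : Q := sm gf N4432
def N6060 : Q := sm gi N4432
def N6061 : Q := sm gh N4433
def N6062 : Q := sm gh N4434
def N6063 : Q := sm gd N4435
def N6064 : Q := sm gi N4435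
def N6065 : Q := sm gc N4436
def N6066 : Q := sm gi N4436
def N6067 : Q := sm gd N4439
def N6068 : Q := sm gi N4439
def N6069 : Q := sm gc N4440
def N6070 : Q := sm gi N4440
def N6071 : Q := sm gb N4442
def N6072 : Q := sm gi N4442
def N6073 : Q := sm gh N4443
def N6074 : Q := sm gd N4444
def N6075 : Q := sm gg N4444
def N6076 : Q := sm gh N4444
def N6077 : Q := sm gh N4445
def N6078 : Q := sm gd N4446
def N6079 : Q := sm gi N4446
def N6080 : Q := sm gc N4447
def N6081 : Q := sm gi N4447
def N6082 : Q := sm gg N4449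
def N6083 : Q := sm gh N4449
def N6084 : Q := sm gf N4450
def N6085 : Q := sm gh N4450
def N6086 : Q := sm gd N4451
def N6087 : Q := sm gi N4451
def N6088 : Q := sm gd N4452
def N6089 : Q := sm gi N4452
def N6090 : Q := sm ge N4453
def N6091 : Q := sm gi N4453
def N6092 : Q := sm gh N4455
def N6093 : Q := sm gh N4456
def N6094 : Q := sm gd N4457
def N6095 : Q := sm gi N4457
def N6096 : Q := sm gc N4458
def N6098 : Q := sm gf N4461
def N6099 : Q := sm gh N4461
def N6100 : Q := sm gd N4462
def N6101 : Q := sm gi N4462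
def N6102 : Q := sm gh N4463
def N6103 : Q := sm gd N4464
def N6104 : Q := sm gi N4464
def N6105 : Q := sm gc N4465
def N6106 : Q := sm ge N4465
def N6107 : Q := sm gi N4465
def N6108 : Q := sm ge N4467
def N6109 : Q := sm gi N4467
def N6110 : Q := sm gi N4469
def N6111 : Q := sm gh N4470
def N6112 : Q := sm gd N4472
def N6113 : Q := sm gi N4472
def N6114 : Q := sm gc N4473
def N6116 : Q := sm gb N4475
def N6117 : Q := sm gi N4475
def N6119 : Q := sm gc N4477
def N6121 : Q := sm gi N4477
def N6122 : Q := sm gb N4479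
def N6123 : Q := sm gi N4479
def N6124 : Q := sm gh N4480
def N6125 : Q := sm ga N4481
def N6126 : Q := sm gi N4481
def N6127 : Q := sm gh N4482
def N6128 : Q := sm gb N4484
def N6129 : Q := sm gf N4484
def N6130 : Q := sm gh N4484
def N6131 : Q := sm ge N4485
def N6132 : Q := sm gg N4485
def N6133 : Q := sm gh N4485
def N6134 : Q := sm gi N4486
def N6135 : Q := sm ge N4488
def N6136 : Q := sm gg N4488
def N6137 : Q := sm gh N4488
def N6138 : Q := sm gd N4489
def N6139 : Q := sm gi N4489
def N6140 : Q := sm gg N4490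
def N6141 : Q := sm gh N4490
def N6142 : Q := sm gh N4491
def N6143 : Q := sm gi N4492
def N6144 : Q := sm gf N4494
def N6145 : Q := sm gh N4494
def N6146 : Q := sm gd N4495
def N6147 : Q := sm gi N4495
def N6148 : Q := sm gi N4496
def N6149 : Q := sm gf N4498
def N6150 : Q := sm gh N4498
def N6151 : Q := sm ge N4499
def N6152 : Q := sm gg N4499
def N6153 : Q := sm gh N4499
def N6154 : Q := sm gd N4500
def N6155 : Q := sm gi N4500
def N6156 : Q := sm gg N4501
def N6157 : Q := sm gh N4501
def N6158 : Q := sm gh N4502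
def N6159 : Q := sm gi N4503
def N6160 : Q := sm gd N4505
def N6161 : Q := sm gg N4505
def N6162 : Q := sm gh N4505
def N6163 : Q := sm gh N4506
def N6164 : Q := sm gd N4507
def N6165 : Q := sm gi N4507
def N6166 : Q := sm ge N4508
def N6167 : Q := sm gi N4508
def N6168 : Q := sm gf N4510
def N6169 : Q := sm gh N4510
def N6170 : Q := sm gd N4511
def N6171 : Q := sm gi N4511
def N6172 : Q := sm gi N4512
def N6173 : Q := sm gh N4514
def N6174 : Q := sm gd N4515
def N6175 : Q := sm gi N4515
def N6176 : Q := sm gc N4516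
def N6177 : Q := sm gi N4516
def N6178 : Q := sm ge N4519
def N6179 : Q := sm gg N4519
def N6180 : Q := sm gh N4519
def N6181 : Q := sm gd N4520
def N6182 : Q := sm gi N4520
def N6183 : Q := sm gd N4521
def N6184 : Q := sm gg N4521
def N6185 : Q := sm gh N4521
def N6186 : Q := sm gh N4522
def N6187 : Q := sm gd N4523
def N6188 : Q := sm gi N4523
def N6189 : Q := sm ge N4524
def N6190 : Q := sm gi N4524
def N6191 : Q := sm gf N4526
def N6192 : Q := sm gh N4526
def N6193 : Q := sm gd N4527
def N6194 : Q := sm gi N4527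
def N6195 : Q := sm gi N4528
def N6196 : Q := sm gg N4530
def N6197 : Q := sm gh N4530
def N6198 : Q := sm gf N4531
def N6199 : Q := sm gh N4531
def N6200 : Q := sm gd N4532
def N6201 : Q := sm gi N4532
def N6202 : Q := sm gd N4533
def N6203 : Q := sm gi N4533
def N6204 : Q := sm ge N4534
def N6205 : Q := sm gi N4534
def N6206 : Q := sm gf N4536
def N6207 : Q := sm gi N4536
def N6208 : Q := sm gh N4537
def N6209 : Q := sm gh N4538
def N6210 : Q := sm gd N4539
def N6211 : Q := sm gi N4539
def N6212 : Q := sm gc N4540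
def N6213 : Q := sm gi N4540
def N6214 : Q := sm gd N4543
def N6215 : Q := sm gi N4543
def N6216 : Q := sm gc N4544
def N6217 : Q := sm gi N4544
def N6218 : Q := sm gb N4546
def N6219 : Q := sm gi N4546
def N6220 : Q := sm gh N4547
def N6221 : Q := sm ge N4548
def N6222 : Q := sm gg N4548
def N6223 : Q := sm gh N4548
def N6224 : Q := sm gd N4549
def N6225 : Q := sm gi N4549
def N6226 : Q := sm gd N4550
def N6227 : Q := sm gg N4550
def N6228 : Q := sm gh N4550
def N6229 : Q := sm gh N4551
def N6230 : Q := sm gd N4552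
def N6231 : Q := sm gi N4552
def N6232 : Q := sm ge N4553
def N6233 : Q := sm gi N4553
def N6234 : Q := sm gf N4555
def N6235 : Q := sm gh N4555
def N6236 : Q := sm gd N4556
def N6237 : Q := sm gi N4556
def N6238 : Q := sm gi N4557
def N6239 : Q := sm gg N4559
def N6240 : Q := sm gh N4559
def N6241 : Q := sm gf N4560
def N6242 : Q := sm gh N4560
def N6243 : Q := sm gd N4561
def N6244 : Q := sm gi N4561
def N6245 : Q := sm gd N4562
def N6246 : Q := sm gi N4562
def N6247 : Q := sm ge N4563
def N6248 : Q := sm gi N4563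
def N6249 : Q := sm gf N4565
def N6250 : Q := sm gi N4565
def N6251 : Q := sm gh N4566
def N6252 : Q := sm gh N4567
def N6253 : Q := sm gd N4568
def N6254 : Q := sm gi N4568
def N6255 : Q := sm gc N4569
def N6256 : Q := sm gi N4569
def N6257 : Q := sm gd N4572
def N6258 : Q := sm gi N4572
def N6259 : Q := sm gc N4573
def N6260 : Q := sm gi N4573
def N6261 : Q := sm gb N4575
def N6262 : Q := sm gi N4575
def N6263 : Q := sm gh N4576
def N6264 : Q := sm gd N4577
def N6265 : Q := sm gg N4577
def N6266 : Q := sm gh N4577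
def N6267 : Q := sm gh N4578
def N6268 : Q := sm gd N4579
def N6269 : Q := sm gi N4579
def N6270 : Q := sm gc N4580
def N6271 : Q := sm ge N4580
def N6272 : Q := sm gi N4580
def N6273 : Q := sm gg N4582
def N6274 : Q := sm gh N4582
def N6275 : Q := sm gf N4583
def N6276 : Q := sm gh N4583
def N6277 : Q := sm gd N4584
def N6278 : Q := sm gi N4584
def N6279 : Q := sm gd N4585
def N6280 : Q := sm gi N4585
def N6281 : Q := sm ge N4586
def N6282 : Q := sm gi N4586
def N6283 : Q := sm gf N4588
def N6284 : Q := sm gi N4588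
def N6285 : Q := sm gh N4589
def N6287 : Q := sm gd N4591
def N6288 : Q := sm gi N4591
def N6289 : Q := sm gc N4592
def N6290 : Q := sm gi N4592
def N6291 : Q := sm gf N4595
def N6292 : Q := sm gh N4595
def N6293 : Q := sm gd N4596
def N6294 : Q := sm gi N4596
def N6295 : Q := sm gh N4597
def N6296 : Q := sm gd N4598
def N6297 : Q := sm gi N4598
def N6298 : Q := sm gc N4599
def N6299 : Q := sm ge N4599
def N6300 : Q := sm gi N4599
def N6301 : Q := sm ge N4601
def N6302 : Q := sm gi N4601
def N6303 : Q := sm gf N4603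
def N6304 : Q := sm gi N4603
def N6305 : Q := sm gh N4604
def N6306 : Q := sm gg N4605
def N6307 : Q := sm gi N4605
def N6308 : Q := sm gh N4606
def N6310 : Q := sm gi N4608
def N6311 : Q := sm gc N4609
def N6312 : Q := sm gi N4609
def N6313 : Q := sm gb N4611
def N6314 : Q := sm gi N4611
def N6315 : Q := sm gh N4612
def N6318 : Q := sm gi N4613
def N6319 : Q := sm gb N4615
def N6322 : Q := sm ga N4617
def N6323 : Q := sm gi N4617
def N6324 : Q := sm gh N4618
def N6325 : Q := sm gd N4620
def N6326 : Q := sm gg N4620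
def N6327 : Q := sm gh N4620
def N6328 : Q := sm gh N4621
def N6329 : Q := sm gd N4622
def N6330 : Q := sm gi N4622
def N6331 : Q := sm gc N4623
def N6332 : Q := sm ge N4623
def N6333 : Q := sm gi N4623
def N6334 : Q := sm gg N4625
def N6335 : Q := sm gh N4625
def N6336 : Q := sm gf N4626
def N6337 : Q := sm gh N4626
def N6338 : Q := sm gd N4627
def N6339 : Q := sm gi N4627
def N6340 : Q := sm gd N4628
def N6342 : Q := sm ge N4629
def N6343 : Q := sm gi N4629
def N6345 : Q := sm gi N4631
def N6346 : Q := sm gh N4633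
def N6347 : Q := sm gd N4634
def N6349 : Q := sm gc N4635
def N6350 : Q := sm gi N4635
def N6351 : Q := sm gf N4638
def N6352 : Q := sm gh N4638
def N6353 : Q := sm gd N4639
def N6354 : Q := sm gi N4639
def N6355 : Q := sm gh N4640
def N6356 : Q := sm gd N4641
def N6357 : Q := sm gi N4641
def N6359 : Q := sm ge N4642
def N6361 : Q := sm ge N4644
def N6363 : Q := sm gf N4646
def N6364 : Q := sm gi N4646
def N6366 : Q := sm gi N4648
def N6369 : Q := sm gc N4651
def N6371 : Q := sm gb N4653
def N6372 : Q := sm gi N4653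
def N6374 : Q := sm gc N4655
def N6375 : Q := sm ge N4655
def N6377 : Q := sm gb N4657
def N6380 : Q := sm ga N4659
def N6383 : Q := sm gc N4662
def N6384 : Q := sm gg N4662
def N6385 : Q := sm gh N4662
def N6386 : Q := sm gf N4663
def N6387 : Q := sm gh N4663
def N6388 : Q := sm gd N4664
def N6391 : Q := sm gf N4667
def N6392 : Q := sm gh N4667
def N6393 : Q := sm gd N4668
def N6394 : Q := sm gi N4668
def N6395 : Q := sm gh N4669
def N6396 : Q := sm gd N4670
def N6398 : Q := sm gc N4671
def N6399 : Q := sm gi N4671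
def N6400 : Q := sm gd N4674
def N6402 : Q := sm gc N4675
def N6403 : Q := sm gi N4675
def N6404 : Q := sm gb N4677
def N6405 : Q := sm gi N4677
def N6406 : Q := sm gh N4678
def N6407 : Q := sm ge N4679
def N6408 : Q := sm gh N4679
def N6409 : Q := sm gd N4680
def N6410 : Q := sm gi N4680
def N6411 : Q := sm gc N4681
def N6412 : Q := sm gi N4681
def N6413 : Q := sm gd N4683
def N6414 : Q := sm gi N4683
def N6415 : Q := sm gc N4684
def N6417 : Q := sm gb N4686
def N6418 : Q := sm gi N4686
def N6419 : Q := sm gh N4687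
def N6420 : Q := sm gc N4688
def N6423 : Q := sm gb N4690
def N6426 : Q := sm ga N4692
def N6427 : Q := sm gi N4692
def N6428 : Q := sm gh N4693
def N6430 : Q := sm ge N4695
def N6433 : Q := sm gh N4697
def N6435 : Q := sm gi N4698
def N6438 : Q := sm gh N4702
def N6441 : Q := sm gh N4704
def N6442 : Q := sm gd N4705
def N6443 : Q := sm gi N4705
def N6444 : Q := sm gd N4706
def N6445 : Q := sm gi N4706
def N6446 : Q := sm gc N4707
def N6447 : Q := sm ge N4707
def N6448 : Q := sm gi N4707
def N6449 : Q := sm ge N4709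
def N6450 : Q := sm gi N4709
def N6451 : Q := sm gf N4710
def N6452 : Q := sm gi N4710
def N6453 : Q := sm gh N4711
def N6454 : Q := sm gh N4712
def N6455 : Q := sm gd N4713
def N6456 : Q := sm gi N4713
def N6457 : Q := sm gc N4714
def N6458 : Q := sm ge N4714
def N6459 : Q := sm gi N4714
def N6460 : Q := sm ge N4716
def N6461 : Q := sm gi N4716
def N6462 : Q := sm gf N4718
def N6463 : Q := sm gi N4718
def N6464 : Q := sm gh N4719
def N6465 : Q := sm gg N4720
def N6466 : Q := sm gi N4720
def N6467 : Q := sm gh N4721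
def N6470 : Q := sm gc N4724
def N6472 : Q := sm gb N4726
def N6473 : Q := sm gi N4726
def N6474 : Q := sm gh N4727
def N6477 : Q := sm gc N4729
def N6478 : Q := sm ge N4729
def N6479 : Q := sm gi N4729
def N6480 : Q := sm gb N4731
def N6481 : Q := sm ge N4731
def N6482 : Q := sm gi N4731
def N6483 : Q := sm gf N4732
def N6484 : Q := sm gi N4732
def N6485 : Q := sm gh N4733
def N6486 : Q := sm gf N4734
def N6487 : Q := sm gi N4734
def N6488 : Q := sm gh N4735
def N6489 : Q := sm gg N4736
def N6490 : Q := sm gi N4736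
def N6491 : Q := sm gh N4737
def N6492 : Q := sm gi N4739
def N6493 : Q := sm gh N4740
def N6494 : Q := sm gd N4741
def N6495 : Q := sm gc N4742
def N6498 : Q := sm gb N4744
def N6499 : Q := sm gi N4744
def N6501 : Q := sm ga N4746
def N6502 : Q := sm gi N4746
def N6504 : Q := sm gb N4749
def N6506 : Q := sm gi N4749
def N6507 : Q := sm gi N4750
def N6509 : Q := sm ga N4752
def N6512 : Q := sm gi N4755
def N6513 : Q := sm gh N4756
def N6514 : Q := sm gd N4757
def N6516 : Q := sm ge N4758
def N6518 : Q := sm gb N4760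
def N6521 : Q := sm ga N4762
def N6522 : Q := sm gi N4762
def N6523 : Q := sm gh N4763
def N6525 : Q := sm ge N4765
def N6527 : Q := sm gi N4766
def N6529 : Q := sm ga N4768
def N6531 : Q := sm gh N4769
def N6532 : Q := sm gi N4771
def N6533 : Q := sm gh N4772
def N6534 : Q := sm gd N4773
def N6536 : Q := sm ge N4774
def N6537 : Q := sm gi N4774
def N6538 : Q := sm gd N4775
def N6539 : Q := sm gi N4775
def N6540 : Q := sm gh N4776
def N6541 : Q := sm gh N4777
def N6542 : Q := sm gi N4779
def N6545 : Q := sm gh N4782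
def N6551 : Q := sm gi N4786
def N6552 : Q := sm gh N4787
def N6554 : Q := sm gi N4788
def N6555 : Q := sm gh N4789
def N6556 : Q := sm gd N4790
def N6565 : Q := sm gb N4798
def N6566 : Q := sm gf N4798
def N6567 : Q := sm gh N4798
def N6568 : Q := sm ge N4799
def N6569 : Q := sm gg N4799
def N6570 : Q := sm gh N4799
def N6571 : Q := sm gi N4800
def N6573 : Q := sm gg N4802
def N6574 : Q := sm gh N4802
def N6575 : Q := sm gd N4803
def N6576 : Q := sm gi N4803
def N6578 : Q := sm gh N4804
def N6581 : Q := sm gf N4808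
def N6582 : Q := sm gh N4808
def N6583 : Q := sm gd N4809
def N6585 : Q := sm gi N4810
def N6586 : Q := sm gf N4812
def N6587 : Q := sm gh N4812
def N6588 : Q := sm ge N4813
def N6589 : Q := sm gg N4813
def N6590 : Q := sm gh N4813
def N6591 : Q := sm gd N4814
def N6593 : Q := sm gg N4815
def N6594 : Q := sm gh N4815
def N6595 : Q := sm gh N4816
def N6597 : Q := sm gd N4819
def N6600 : Q := sm gh N4820
def N6601 : Q := sm gd N4821
def N6603 : Q := sm ge N4822
def N6608 : Q := sm gi N4825
def N6610 : Q := sm gh N4828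
def N6611 : Q := sm gd N4829
def N6613 : Q := sm gc N4830
def N6614 : Q := sm gi N4830
def N6615 : Q := sm ge N4833
def N6616 : Q := sm gg N4833
def N6617 : Q := sm gh N4833
def N6618 : Q := sm gd N4834
def N6619 : Q := sm gi N4834
def N6620 : Q := sm gd N4835
def N6621 : Q := sm gg N4835
def N6622 : Q := sm gh N4835
def N6623 : Q := sm gh N4836
def N6624 : Q := sm gd N4837
def N6625 : Q := sm gi N4837
def N6626 : Q := sm ge N4838
def N6627 : Q := sm gi N4838
def N6631 : Q := sm gi N4841
def N6633 : Q := sm gg N4844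
def N6634 : Q := sm gh N4844
def N6636 : Q := sm gh N4845
def N6637 : Q := sm gd N4846
def N6638 : Q := sm gi N4846
def N6639 : Q := sm gd N4847
def N6640 : Q := sm gi N4847
def N6641 : Q := sm ge N4848
def N6642 : Q := sm gi N4848
def N6643 : Q := sm gf N4850
def N6644 : Q := sm gi N4850
def N6645 : Q := sm gh N4851
def N6646 : Q := sm gh N4852
def N6647 : Q := sm gd N4853
def N6650 : Q := sm gi N4854
def N6652 : Q := sm gi N4857
def N6656 : Q := sm gi N4860
def N6658 : Q := sm gd N4862
def N6659 : Q := sm gg N4862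
def N6660 : Q := sm gh N4862
def N6661 : Q := sm gh N4863
def N6662 : Q := sm gd N4864
def N6663 : Q := sm gi N4864
def N6664 : Q := sm gc N4865
def N6665 : Q := sm ge N4865
def N6666 : Q := sm gi N4865
def N6667 : Q := sm gg N4867
def N6668 : Q := sm gh N4867
def N6669 : Q := sm gf N4868
def N6670 : Q := sm gh N4868
def N6671 : Q := sm gd N4869
def N6672 : Q := sm gi N4869
def N6673 : Q := sm gd N4870
def N6675 : Q := sm ge N4871
def N6676 : Q := sm gi N4871
def N6677 : Q := sm gf N4873
def N6678 : Q := sm gi N4873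
def N6679 : Q := sm gh N4874
def N6680 : Q := sm gh N4875
def N6685 : Q := sm gf N4880
def N6686 : Q := sm gh N4880
def N6687 : Q := sm gd N4881
def N6688 : Q := sm gi N4881
def N6690 : Q := sm gd N4883
def N6691 : Q := sm gi N4883
def N6692 : Q := sm gc N4884
def N6693 : Q := sm ge N4884
def N6694 : Q := sm gi N4884
def N6695 : Q := sm ge N4886
def N6696 : Q := sm gi N4886
def N6697 : Q := sm gf N4888
def N6698 : Q := sm gi N4888
def N6699 : Q := sm gh N4889
def N6700 : Q := sm gg N4890
def N6701 : Q := sm gi N4890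
def N6702 : Q := sm gh N4891
def N6703 : Q := sm gd N4893
def N6704 : Q := sm gi N4893
def N6708 : Q := sm gh N4897
def N6712 : Q := sm gd N4902
def N6713 : Q := sm gg N4902
def N6714 : Q := sm gh N4902
def N6715 : Q := sm gh N4903
def N6716 : Q := sm gd N4904
def N6717 : Q := sm gi N4904
def N6718 : Q := sm gc N4905
def N6719 : Q := sm ge N4905
def N6720 : Q := sm gi N4905
def N6721 : Q := sm gg N4907
def N6722 : Q := sm gh N4907
def N6723 : Q := sm gf N4908
def N6724 : Q := sm gh N4908
def N6725 : Q := sm gd N4909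
def N6726 : Q := sm gi N4909
def N6727 : Q := sm gd N4910
def N6729 : Q := sm ge N4911
def N6730 : Q := sm gi N4911
def N6731 : Q := sm gf N4913
def N6732 : Q := sm gi N4913
def N6733 : Q := sm gh N4914
def N6735 : Q := sm gd N4916
def N6736 : Q := sm gi N4916
def N6737 : Q := sm gc N4917
def N6738 : Q := sm gi N4917
def N6739 : Q := sm gf N4920
def N6740 : Q := sm gh N4920
def N6741 : Q := sm gd N4921
def N6742 : Q := sm gi N4921
def N6747 : Q := sm ge N4924
def N6749 : Q := sm ge N4926
def N6750 : Q := sm gi N4926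
def N6751 : Q := sm gf N4928
def N6752 : Q := sm gi N4928
def N6753 : Q := sm gh N4929
def N6754 : Q := sm gg N4930
def N6755 : Q := sm gi N4930
def N6756 : Q := sm gh N4931
def N6757 : Q := sm gd N4933
def N6758 : Q := sm gi N4933
def N6763 : Q := sm gc N4938
def N6769 : Q := sm gi N4942
def N6770 : Q := sm gc N4944
def N6771 : Q := sm gg N4944
def N6772 : Q := sm gh N4944
def N6773 : Q := sm gf N4945
def N6774 : Q := sm gh N4945
def N6775 : Q := sm gd N4946
def N6777 : Q := sm gd N4947
def N6778 : Q := sm gi N4947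
def N6779 : Q := sm gc N4948
def N6780 : Q := sm ge N4948
def N6781 : Q := sm gi N4948
def N6782 : Q := sm ge N4950
def N6783 : Q := sm gi N4950
def N6784 : Q := sm gf N4951
def N6785 : Q := sm gi N4951
def N6786 : Q := sm gh N4952
def N6787 : Q := sm gf N4953
def N6788 : Q := sm gh N4953
def N6789 : Q := sm gd N4954
def N6790 : Q := sm gi N4954
def N6791 : Q := sm gh N4955
def N6792 : Q := sm gd N4956
def N6794 : Q := sm ge N4957
def N6795 : Q := sm gi N4957
def N6796 : Q := sm ge N4959
def N6797 : Q := sm gi N4959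
def N6798 : Q := sm gf N4961
def N6799 : Q := sm gi N4961
def N6800 : Q := sm gh N4962
def N6801 : Q := sm gg N4963
def N6802 : Q := sm gi N4963
def N6803 : Q := sm gh N4964
def N6805 : Q := sm ge N4968
def N6806 : Q := sm gh N4968
def N6807 : Q := sm gd N4969
def N6808 : Q := sm gi N4969
def N6809 : Q := sm ge N4970
def N6810 : Q := sm gi N4970
def N6813 : Q := sm ge N4973
def N6815 : Q := sm gf N4975
def N6816 : Q := sm gi N4975
def N6817 : Q := sm gh N4976
def N6818 : Q := sm gf N4977
def N6819 : Q := sm gi N4977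
def N6820 : Q := sm gh N4978
def N6821 : Q := sm gg N4979
def N6822 : Q := sm gi N4979
def N6823 : Q := sm gh N4980
def N6824 : Q := sm gi N4982
def N6825 : Q := sm gh N4983
def N6826 : Q := sm gd N4984
def N6827 : Q := sm gc N4986
def N6828 : Q := sm gg N4986
def N6829 : Q := sm gh N4986
def N6830 : Q := sm gf N4987
def N6831 : Q := sm gh N4987
def N6832 : Q := sm gd N4988
def N6833 : Q := sm gd N4989
def N6834 : Q := sm gc N4990
def N6835 : Q := sm ge N4990
def N6836 : Q := sm ge N4991
def N6837 : Q := sm gf N4992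
def N6838 : Q := sm gf N4993
def N6839 : Q := sm gh N4993
def N6840 : Q := sm gd N4994
def N6841 : Q := sm gi N4994
def N6843 : Q := sm gd N4996
def N6844 : Q := sm gc N4997
def N6845 : Q := sm ge N4997
def N6846 : Q := sm ge N4998
def N6847 : Q := sm gf N4999
def N6848 : Q := sm gg N5000
def N6849 : Q := sm gd N5001
def N6850 : Q := sm gc N5002
def N6852 : Q := sm ge N5004
def N6853 : Q := sm gh N5004
def N6854 : Q := sm gd N5005
def N6855 : Q := sm gi N5005
def N6856 : Q := sm gc N5006
def N6857 : Q := sm ge N5006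
def N6858 : Q := sm gi N5006
def N6859 : Q := sm gd N5008
def N6860 : Q := sm gc N5009
def N6861 : Q := sm ge N5009
def N6863 : Q := sm ge N5010
def N6864 : Q := sm gf N5011
def N6865 : Q := sm gf N5012
def N6866 : Q := sm gg N5013
def N6867 : Q := sm gc N5015
def N6868 : Q := sm ge N5015
def N6871 : Q := sm gb N5018
def N6872 : Q := sm ge N5018
def N6874 : Q := sm gg N5022
def N6875 : Q := sm gh N5022
def N6876 : Q := sm gf N5023
def N6877 : Q := sm gh N5023
def N6878 : Q := sm gi N5024
def N6879 : Q := sm ge N5026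
def N6880 : Q := sm gh N5026
def N6881 : Q := sm gi N5027
def N6882 : Q := sm gh N5029
def N6883 : Q := sm gi N5030
def N6884 : Q := sm gc N5032
def N6885 : Q := sm ge N5032
def N6886 : Q := sm gi N5032
def N6887 : Q := sm ge N5034
def N6888 : Q := sm gi N5034
def N6889 : Q := sm gf N5035
def N6890 : Q := sm gi N5035
def N6891 : Q := sm gh N5036
def N6892 : Q := sm gd N5037
def N6893 : Q := sm gf N5037
def N6894 : Q := sm gi N5037
def N6895 : Q := sm gh N5038
def N6896 : Q := sm gg N5039
def N6897 : Q := sm gi N5039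
def N6898 : Q := sm gh N5040
def N6899 : Q := sm gf N5042
def N6900 : Q := sm gi N5042
def N6901 : Q := sm gh N5043
def N6902 : Q := sm gg N5044
def N6903 : Q := sm gi N5044
def N6904 : Q := sm gh N5045
def N6905 : Q := sm gi N5047
def N6906 : Q := sm gh N5048
def N6907 : Q := sm gd N5049
def N6908 : Q := sm gg N5050
def N6909 : Q := sm gi N5050
def N6910 : Q := sm gh N5051
def N6911 : Q := sm gi N5053
def N6912 : Q := sm gh N5054
def N6913 : Q := sm gd N5055
def N6914 : Q := sm gh N5056
def N6915 : Q := sm gd N5057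
def N6916 : Q := sm gc N5058
def N6917 : Q := sm gf N5059
def N6918 : Q := sm gh N5059
def N6919 : Q := sm gi N5059
def N6920 : Q := sm gg N5060
def N6921 : Q := sm gi N5060
def N6922 : Q := sm gh N5061
def N6923 : Q := sm gd N5062
def N6924 : Q := sm gi N5063
def N6925 : Q := sm gh N5064
def N6926 : Q := sm gd N5065
def N6927 : Q := sm gh N5066
def N6928 : Q := sm gd N5067
def N6929 : Q := sm gc N5068
def N6930 : Q := sm gd N5069
def N6931 : Q := sm gc N5070
def N6932 : Q := sm ge N5070
def N6933 : Q := sm gb N5071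
def N6934 : Q := sm gc N5072
def N6935 : Q := sm gg N5072
def N6936 : Q := sm gh N5072
def N6937 : Q := sm gf N5073
def N6940 : Q := sm gi N5074
def N6946 : Q := sm gi N5078
def N6947 : Q := sm gh N5079
def N6949 : Q := sm gh N5080
def N6951 : Q := sm gi N5081
def N6952 : Q := sm gh N5082
def N6957 : Q := sm gi N5084
def N6960 : Q := sm gf N5088
def N6961 : Q := sm gi N5088
def N6964 : Q := sm gi N5090
def N6966 : Q := sm gd N5093
def N6969 : Q := sm gi N5094
def N6972 : Q := sm gh N5097
def N6976 : Q := sm gi N5099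
def N6979 : Q := sm gi N5100
def N6981 : Q := sm gi N5102
def N6983 : Q := sm ge N5103
def N6984 : Q := sm gi N5103
def N6988 : Q := sm gf N5106
def N6989 : Q := sm gi N5106
def N6990 : Q := sm gh N5107
def N6991 : Q := sm gf N5108
def N6992 : Q := sm gi N5108
def N6993 : Q := sm gh N5109
def N6994 : Q := sm gg N5110
def N6995 : Q := sm gi N5110
def N6996 : Q := sm gh N5111
def N6997 : Q := sm gi N5113
def N6998 : Q := sm gh N5114
def N7002 : Q := sm gb N5118
def N7006 : Q := sm gi N5120
def N7009 : Q := sm ge N5123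
def N7010 : Q := sm gi N5123
def N7012 : Q := sm gh N5125
def N7014 : Q := sm gi N5126
def N7015 : Q := sm gh N5127
def N7018 : Q := sm gd N5131
def N7021 : Q := sm gd N5133
def N7025 : Q := sm gi N5134
def N7028 : Q := sm gc N5137
def N7029 : Q := sm ge N5137
def N7032 : Q := sm ge N5139
def N7033 : Q := sm gi N5139
def N7035 : Q := sm gi N5140
def N7036 : Q := sm gh N5141
def N7037 : Q := sm gf N5142
def N7040 : Q := sm gg N5144
def N7041 : Q := sm gi N5144
def N7042 : Q := sm gh N5145
def N7043 : Q := sm gi N5147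
def N7044 : Q := sm gh N5148
def N7045 : Q := sm gd N5149
def N7047 : Q := sm ge N5150
def N7048 : Q := sm gi N5150
def N7049 : Q := sm gb N5152
def N7052 : Q := sm ga N5154
def N7055 : Q := sm gh N5157
def N7057 : Q := sm gi N5158
def N7063 : Q := sm gi N5161
def N7067 : Q := sm gc N5164
def N7070 : Q := sm gb N5166
def N7073 : Q := sm gf N5167
def N7078 : Q := sm gi N5169
def N7080 : Q := sm gi N5170
def N7081 : Q := sm gh N5171
def N7082 : Q := sm gg N5172
def N7083 : Q := sm gi N5172
def N7084 : Q := sm gh N5173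
def N7087 : Q := sm gh N5176
def N7093 : Q := sm gb N5184
def N7095 : Q := sm gi N5184
def N7097 : Q := sm gh N5186
def N7098 : Q := sm ga N5187
def N7105 : Q := sm ge N5193
def N7106 : Q := sm gi N5193
def N7107 : Q := sm gd N5194
def N7108 : Q := sm gi N5194
def N7109 : Q := sm gh N5195
def N7112 : Q := sm gh N5199
def N7116 : Q := sm ge N5203
def N7120 : Q := sm ge N5205
def N7121 : Q := sm gi N5205
def N7132 : Q := sm gf N5211
def N7134 : Q := sm gh N5212
def N7135 : Q := sm gg N5213
def N7137 : Q := sm gh N5214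
def N7139 : Q := sm ge N5216
def N7140 : Q := sm gi N5216
def N7141 : Q := sm gf N5217
def N7143 : Q := sm gh N5218
def N7151 : Q := sm gi N5222
def N7152 : Q := sm gh N5223
def N7159 : Q := sm gi N5228
def N7163 : Q := sm gh N5232
def N7164 : Q := sm gd N5233
def N7165 : Q := sm gi N5234
def N7166 : Q := sm gh N5235
def N7167 : Q := sm gd N5236
def N7168 : Q := sm gh N5237
def N7176 : Q := sm gi N5243
def N7177 : Q := sm gd N5244
def N7178 : Q := sm gi N5244
def N7180 : Q := sm gh N5246
def N7187 : Q := sm ge N5254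
def N7188 : Q := sm gi N5254
def N7189 : Q := sm gd N5255
def N7192 : Q := sm gh N5257
def N7193 : Q := sm gi N5257
def N7194 : Q := sm gh N5258
def N7197 : Q := sm gh N5261
def N7204 : Q := sm gc N5267
def N7205 : Q := sm gg N5267
def N7206 : Q := sm gh N5267
def N7207 : Q := sm gf N5268
def N7208 : Q := sm gh N5268
def N7210 : Q := sm gi N5269
def N7211 : Q := sm gd N5270
def N7213 : Q := sm gc N5271
def N7215 : Q := sm gi N5271
def N7216 : Q := sm gi N5273
def N7221 : Q := sm gi N5276
def N7229 : Q := sm gi N5281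
def N7230 : Q := sm gi N5283
def N7239 : Q := sm ge N5291
def N7240 : Q := sm gh N5291
def N7242 : Q := sm gi N5292
def N7247 : Q := sm gi N5295
def N7256 : Q := sm gf N5301
def N7257 : Q := sm gi N5301
def N7263 : Q := sm gb N5307
def N7264 : Q := sm gi N5307
def N7268 : Q := sm gh N5310
def N7272 : Q := sm gi N5313
def N7273 : Q := sm gh N5314
def N7278 : Q := sm gh N5319
def N7280 : Q := sm gc N5321
def N7281 : Q := sm gg N5321
def N7283 : Q := sm gf N5322
def N7286 : Q := sm gi N5323
def N7287 : Q := sm gd N5324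
def N7289 : Q := sm gc N5325
def N7292 : Q := sm ge N5327
def N7293 : Q := sm gi N5327
def N7295 : Q := sm gi N5328
def N7298 : Q := sm gd N5331
def N7300 : Q := sm gh N5332
def N7305 : Q := sm gi N5334
def N7311 : Q := sm gi N5340
def N7312 : Q := sm gd N5342
def N7313 : Q := sm gi N5342
def N7318 : Q := sm gh N5346
def N7319 : Q := sm ge N5347
def N7324 : Q := sm ge N5349
def N7327 : Q := sm gi N5351
def N7335 : Q := sm gi N5355
def N7337 : Q := sm gf N5357
def N7338 : Q := sm gi N5357
def N7345 : Q := sm gb N5365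
def N7354 : Q := sm gi N5371
def N7357 : Q := sm gi N5373
def N7359 : Q := sm gi N5376
def N7362 : Q := sm gg N5379
def N7373 : Q := sm ge N5387
def N7375 : Q := sm gd N5388
def N7376 : Q := sm gi N5388
def N7386 : Q := sm gc N5396
def N7394 : Q := sm gh N5401
def N7395 : Q := sm gh N5403
def N7400 : Q := sm gb N5407
def N7401 : Q := sm gi N5407
def N7402 : Q := sm gh N5408
def N7413 : Q := sm ge N5416
def N7416 : Q := sm gh N5418
def N7431 : Q := sm gh N5431
def N7433 : Q := sm gh N5433
def N7444 : Q := sm gi N5442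
def N7449 : Q := sm gi N5445
def N7465 : Q := sm gh N5459
def N7468 : Q := sm gd N5461
def N7469 : Q := sm gd N5462
def N7470 : Q := sm gh N5463
def N7476 : Q := sm gf N5468
def N7478 : Q := sm gi N5469
def N7483 : Q := sm gh N5472
def N7487 : Q := sm gd N5476
def N7492 : Q := sm ge N5480
def N7498 : Q := sm gg N5485
def N7499 : Q := sm gg N5486
def N7500 : Q := sm gh N5486
def N7501 : Q := sm gf N5487
def N7502 : Q := sm gh N5487
def N7505 : Q := sm gh N5489
def N7506 : Q := sm gd N5490
def N7509 : Q := sm gc N5492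
def N7510 : Q := sm ge N5492
def N7511 : Q := sm ge N5493
def N7512 : Q := sm gf N5494
def N7513 : Q := sm gd N5495
def N7514 : Q := sm gf N5495
def N7515 : Q := sm gg N5496
def N7516 : Q := sm ge N5497
def N7517 : Q := sm gh N5497
def N7519 : Q := sm gi N5498
def N7525 : Q := sm ge N5502
def N7528 : Q := sm gf N5504
def N7534 : Q := sm ga N5510
def N7535 : Q := sm gh N5511
def N7540 : Q := sm gi N5513
def N7545 : Q := sm gi N5516
def N7553 : Q := sm gf N5522
def N7561 : Q := sm gd N5531
def N7562 : Q := sm gf N5533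
def N7563 : Q := sm gh N5533
def N7564 : Q := sm gd N5534
def N7566 : Q := sm ge N5535

end Cfsg.Agent.Helper28.FibA
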