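import Cfsg.Agent.Helper28.FibB0

/-! # The Fi₂₂ presentation, cosets of the subgroup generated by b, …, i: the coset enumeration, part 1 (helper28; generated) -/

set_option autoImplicit false

noncomputable section

namespace Cfsg.Agent.Helper28.FibA

open Cfsg.Agent.Helper28.CosetTable

def N7567 : Q := sm gh N5535
def N7569 : Q := sm gh N5538
def N7571 : Q := sm gd N5541
def N7576 : Q := sm gb N5545
def N7578 : Q := sm gi N5545
def N7585 : Q := sm gd N5549
def N7586 : Q := sm gf N5549
def N7588 : Q := sm gh N5550
def N7589 : Q := sm gg N5551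
def N7597 : Q := sm gh N5556
def N7599 : Q := sm gi N5557
def N7602 : Q := sm gh N5559
def N7604 : Q := sm gi N5561
def N7605 : Q := sm gh N5562
def N7608 : Q := sm ge N5564
def N7612 : Q := sm gi N5565
def N7613 : Q := sm gh N5566
def N7617 : Q := sm ge N5570
def N7618 : Q := sm gi N5570
def N7623 : Q := sm gi N5573
def N7626 : Q := sm gi N5576
def N7635 : Q := sm gd N5583
def N7659 : Q := sm gh N5603
def N7662 : Q := sm gh N5605
def N7672 : Q := sm gd N5614
def N7674 : Q := sm gh N5615
def N7676 : Q := sm gh N5616
def N7706 : Q := sm gh N5639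
def N7707 : Q := sm gd N5640
def N7722 : Q := sm gg N5651
def N7723 : Q := sm ge N5653
def N7724 : Q := sm gg N5653
def N7725 : Q := sm gh N5653
def N7726 : Q := sm gd N5654
def N7727 : Q := sm gi N5654
def N7728 : Q := sm gd N5655
def N7730 : Q := sm gh N5655
def N7731 : Q := sm gh N5656
def N7732 : Q := sm gd N5657
def N7733 : Q := sm gi N5657
def N7734 : Q := sm ge N5658
def N7735 : Q := sm gi N5658
def N7736 : Q := sm gf N5660
def N7737 : Q := sm gh N5660
def N7738 : Q := sm gd N5661
def N7739 : Q := sm gi N5661
def N7740 : Q := sm gi N5662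
def N7741 : Q := sm gg N5664
def N7742 : Q := sm gh N5664
def N7744 : Q := sm gh N5665
def N7745 : Q := sm gd N5666
def N7746 : Q := sm gi N5666
def N7747 : Q := sm gd N5667
def N7748 : Q := sm gi N5667
def N7749 : Q := sm ge N5668
def N7750 : Q := sm gi N5668
def N7751 : Q := sm gf N5670
def N7752 : Q := sm gi N5670
def N7753 : Q := sm gh N5671
def N7755 : Q := sm gd N5673
def N7756 : Q := sm gi N5673
def N7757 : Q := sm gc N5674
def N7758 : Q := sm gi N5674
def N7759 : Q := sm gd N5677
def N7760 : Q := sm gi N5677
def N7762 : Q := sm gi N5678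
def N7763 : Q := sm gb N5680
def N7764 : Q := sm gi N5680
def N7765 : Q := sm gh N5681
def N7766 : Q := sm gd N5682
def N7767 : Q := sm gg N5682
def N7768 : Q := sm gh N5682
def N7769 : Q := sm gh N5683
def N7770 : Q := sm gd N5684
def N7771 : Q := sm gi N5684
def N7772 : Q := sm gc N5685
def N7773 : Q := sm ge N5685
def N7774 : Q := sm gi N5685
def N7775 : Q := sm gg N5687
def N7776 : Q := sm gh N5687
def N7778 : Q := sm gh N5688
def N7779 : Q := sm gd N5689
def N7780 : Q := sm gi N5689
def N7781 : Q := sm gd N5690
def N7782 : Q := sm gi N5690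
def N7783 : Q := sm ge N5691
def N7784 : Q := sm gi N5691
def N7785 : Q := sm gf N5693
def N7786 : Q := sm gi N5693
def N7787 : Q := sm gh N5694
def N7788 : Q := sm gh N5695
def N7790 : Q := sm gi N5696
def N7791 : Q := sm gc N5697
def N7792 : Q := sm gi N5697
def N7793 : Q := sm gf N5700
def N7795 : Q := sm gd N5701
def N7796 : Q := sm gi N5701
def N7798 : Q := sm gd N5703
def N7799 : Q := sm gi N5703
def N7800 : Q := sm gc N5704
def N7801 : Q := sm ge N5704
def N7802 : Q := sm gi N5704
def N7805 : Q := sm gf N5708
def N7806 : Q := sm gi N5708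
def N7807 : Q := sm gh N5709
def N7808 : Q := sm gg N5710
def N7809 : Q := sm gi N5710
def N7810 : Q := sm gh N5711
def N7812 : Q := sm gi N5713
def N7814 : Q := sm gi N5714
def N7816 : Q := sm gi N5716
def N7817 : Q := sm gh N5717
def N7818 : Q := sm gc N5718
def N7821 : Q := sm gb N5720
def N7822 : Q := sm gi N5720
def N7827 : Q := sm gc N5725
def N7828 : Q := sm gg N5725
def N7829 : Q := sm gh N5725
def N7830 : Q := sm gf N5726
def N7833 : Q := sm gi N5727
def N7835 : Q := sm gi N5728
def N7840 : Q := sm gh N5732
def N7841 : Q := sm gf N5733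
def N7843 : Q := sm gd N5734
def N7844 : Q := sm gi N5734
def N7852 : Q := sm gi N5739
def N7860 : Q := sm gi N5746
def N7863 : Q := sm gb N5749
def N7866 : Q := sm ge N5751
def N7867 : Q := sm gh N5751
def N7869 : Q := sm gi N5752
def N7872 : Q := sm gi N5753
def N7882 : Q := sm gi N5759
def N7883 : Q := sm gh N5760
def N7884 : Q := sm gf N5761
def N7891 : Q := sm gh N5767
def N7900 : Q := sm gh N5774
def N7903 : Q := sm gi N5776
def N7904 : Q := sm gi N5777
def N7907 : Q := sm gi N5779
def N7917 : Q := sm gi N5787
def N7919 : Q := sm gi N5788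
def N7920 : Q := sm gc N5789
def N7921 : Q := sm ge N5789
def N7922 : Q := sm gi N5789
def N7923 : Q := sm ge N5791
def N7924 : Q := sm gi N5791
def N7925 : Q := sm gf N5792
def N7926 : Q := sm gi N5792
def N7927 : Q := sm gh N5793
def N7928 : Q := sm gf N5794
def N7929 : Q := sm gh N5794
def N7931 : Q := sm gi N5795
def N7936 : Q := sm ge N5798
def N7939 : Q := sm gi N5800
def N7940 : Q := sm gf N5802
def N7941 : Q := sm gi N5802
def N7942 : Q := sm gh N5803
def N7943 : Q := sm gg N5804
def N7944 : Q := sm gi N5804
def N7945 : Q := sm gh N5805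
def N7947 : Q := sm gi N5807
def N7950 : Q := sm gb N5810
def N7952 : Q := sm gh N5811
def N7959 : Q := sm gi N5814
def N7961 : Q := sm gi N5816
def N7968 : Q := sm gf N5820
def N7969 : Q := sm gi N5820
def N7972 : Q := sm gi N5822
def N7973 : Q := sm gh N5823
def N7974 : Q := sm gg N5824
def N7975 : Q := sm gi N5824
def N7976 : Q := sm gh N5825
def N7977 : Q := sm gi N5827
def N7978 : Q := sm gh N5828
def N7979 : Q := sm gd N5829
def N7988 : Q := sm gh N5835
def N7997 : Q := sm gi N5843
def N7999 : Q := sm gd N5845
def N8003 : Q := sm gi N5847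
def N8020 : Q := sm gh N5857
def N8026 : Q := sm gd N5863
def N8029 : Q := sm gi N5864
def N8032 : Q := sm gh N5867
def N8033 : Q := sm ga N5868
def N8036 : Q := sm gh N5871
def N8042 : Q := sm gb N5875
def N8047 : Q := sm gh N5877
def N8050 : Q := sm gi N5878
def N8059 : Q := sm gi N5883
def N8064 : Q := sm gi N5886
def N8065 : Q := sm gh N5887
def N8073 : Q := sm gd N5896
def N8077 : Q := sm gi N5899
def N8080 : Q := sm gi N5901
def N8095 : Q := sm gh N5915
def N8100 : Q := sm gc N5919
def N8102 : Q := sm gi N5919
def N8108 : Q := sm gh N5923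
def N8111 : Q := sm gi N5924
def N8113 : Q := sm gf N5925
def N8115 : Q := sm gh N5926
def N8133 : Q := sm gh N5937
def N8134 : Q := sm ge N5939
def N8135 : Q := sm gi N5939
def N8136 : Q := sm gf N5940
def N8147 : Q := sm gh N5949
def N8153 : Q := sm gc N5955
def N8165 : Q := sm gh N5965
def N8178 : Q := sm gh N5975
def N8185 : Q := sm gf N5981
def N8186 : Q := sm gh N5981
def N8187 : Q := sm ge N5982
def N8188 : Q := sm gg N5982
def N8189 : Q := sm gh N5982
def N8190 : Q := sm gd N5983
def N8191 : Q := sm gi N5983
def N8192 : Q := sm gg N5984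
def N8193 : Q := sm gh N5984
def N8194 : Q := sm gh N5985
def N8195 : Q := sm gi N5986
def N8196 : Q := sm gd N5988
def N8197 : Q := sm gg N5988
def N8198 : Q := sm gh N5988
def N8199 : Q := sm gh N5989
def N8200 : Q := sm gd N5990
def N8201 : Q := sm gi N5990
def N8202 : Q := sm ge N5991
def N8203 : Q := sm gi N5991
def N8204 : Q := sm gf N5993
def N8205 : Q := sm gh N5993
def N8206 : Q := sm gd N5994
def N8207 : Q := sm gi N5994
def N8208 : Q := sm gi N5995
def N8209 : Q := sm gh N5997
def N8210 : Q := sm gd N5998
def N8211 : Q := sm gi N5998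
def N8212 : Q := sm gc N5999
def N8213 : Q := sm gi N5999
def N8214 : Q := sm ge N6002
def N8215 : Q := sm gg N6002
def N8216 : Q := sm gh N6002
def N8217 : Q := sm gd N6003
def N8218 : Q := sm gi N6003
def N8219 : Q := sm gd N6004
def N8220 : Q := sm gg N6004
def N8221 : Q := sm gh N6004
def N8222 : Q := sm gh N6005
def N8223 : Q := sm gd N6006
def N8224 : Q := sm gi N6006
def N8225 : Q := sm ge N6007
def N8226 : Q := sm gi N6007
def N8227 : Q := sm gf N6009
def N8228 : Q := sm gh N6009
def N8229 : Q := sm gd N6010
def N8230 : Q := sm gi N6010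
def N8231 : Q := sm gi N6011
def N8232 : Q := sm gg N6013
def N8233 : Q := sm gh N6013
def N8234 : Q := sm gf N6014
def N8235 : Q := sm gh N6014
def N8236 : Q := sm gd N6015
def N8237 : Q := sm gi N6015
def N8238 : Q := sm gd N6016
def N8239 : Q := sm gi N6016
def N8240 : Q := sm ge N6017
def N8241 : Q := sm gi N6017
def N8242 : Q := sm gf N6019
def N8243 : Q := sm gi N6019
def N8244 : Q := sm gh N6020
def N8245 : Q := sm gh N6021
def N8246 : Q := sm gd N6022
def N8247 : Q := sm gi N6022
def N8248 : Q := sm gc N6023
def N8249 : Q := sm gi N6023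
def N8250 : Q := sm gd N6026
def N8251 : Q := sm gi N6026
def N8252 : Q := sm gc N6027
def N8253 : Q := sm gi N6027
def N8254 : Q := sm gb N6029
def N8255 : Q := sm gi N6029
def N8256 : Q := sm gh N6030
def N8257 : Q := sm gd N6031
def N8258 : Q := sm gg N6031
def N8259 : Q := sm gh N6031
def N8260 : Q := sm gh N6032
def N8261 : Q := sm gd N6033
def N8262 : Q := sm gi N6033
def N8263 : Q := sm gc N6034
def N8264 : Q := sm ge N6034
def N8265 : Q := sm gi N6034
def N8266 : Q := sm gg N6036
def N8267 : Q := sm gh N6036
def N8268 : Q := sm gf N6037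
def N8269 : Q := sm gh N6037
def N8270 : Q := sm gd N6038
def N8271 : Q := sm gi N6038
def N8272 : Q := sm gd N6039
def N8273 : Q := sm gi N6039
def N8274 : Q := sm ge N6040
def N8275 : Q := sm gi N6040
def N8276 : Q := sm gf N6042
def N8277 : Q := sm gi N6042
def N8278 : Q := sm gh N6043
def N8279 : Q := sm gh N6044
def N8280 : Q := sm gd N6045
def N8281 : Q := sm gi N6045
def N8282 : Q := sm gc N6046
def N8283 : Q := sm gi N6046
def N8284 : Q := sm gf N6049
def N8285 : Q := sm gh N6049
def N8286 : Q := sm gd N6050
def N8287 : Q := sm gi N6050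
def N8288 : Q := sm gh N6051
def N8289 : Q := sm gd N6052
def N8290 : Q := sm gi N6052
def N8291 : Q := sm gc N6053
def N8292 : Q := sm ge N6053
def N8293 : Q := sm gi N6053
def N8294 : Q := sm ge N6055
def N8295 : Q := sm gi N6055
def N8296 : Q := sm gf N6057
def N8297 : Q := sm gi N6057
def N8298 : Q := sm gh N6058
def N8299 : Q := sm gg N6059
def N8300 : Q := sm gi N6059
def N8301 : Q := sm gh N6060
def N8302 : Q := sm gd N6062
def N8303 : Q := sm gi N6062
def N8304 : Q := sm gc N6063
def N8305 : Q := sm gi N6063
def N8306 : Q := sm gb N6065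
def N8307 : Q := sm gi N6065
def N8311 : Q := sm gi N6067
def N8312 : Q := sm gb N6069
def N8313 : Q := sm gi N6069
def N8314 : Q := sm gh N6070
def N8315 : Q := sm ga N6071
def N8316 : Q := sm gi N6071
def N8317 : Q := sm gh N6072
def N8318 : Q := sm gc N6074
def N8319 : Q := sm gg N6074
def N8320 : Q := sm gh N6074
def N8321 : Q := sm gf N6075
def N8322 : Q := sm gh N6075
def N8323 : Q := sm gd N6076
def N8324 : Q := sm gi N6076
def N8325 : Q := sm gd N6077
def N8326 : Q := sm gi N6077
def N8327 : Q := sm gc N6078
def N8328 : Q := sm ge N6078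
def N8329 : Q := sm gi N6078
def N8330 : Q := sm gi N6080
def N8331 : Q := sm gh N6081
def N8332 : Q := sm gf N6082
def N8333 : Q := sm gh N6082
def N8334 : Q := sm gd N6083
def N8335 : Q := sm gi N6083
def N8337 : Q := sm gd N6085
def N8339 : Q := sm gc N6086
def N8340 : Q := sm ge N6086
def N8342 : Q := sm ge N6088
def N8343 : Q := sm gi N6088
def N8344 : Q := sm gi N6090
def N8345 : Q := sm gh N6091
def N8346 : Q := sm gd N6093
def N8348 : Q := sm gc N6094
def N8349 : Q := sm gi N6094
def N8350 : Q := sm gb N6096
def N8351 : Q := sm gi N6096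
def N8353 : Q := sm ge N6098
def N8354 : Q := sm gh N6098
def N8355 : Q := sm gd N6099
def N8356 : Q := sm gi N6099
def N8357 : Q := sm gc N6100
def N8358 : Q := sm ge N6100
def N8359 : Q := sm gi N6100
def N8360 : Q := sm gd N6102
def N8362 : Q := sm gc N6103
def N8363 : Q := sm ge N6103
def N8364 : Q := sm gi N6103
def N8365 : Q := sm gb N6105
def N8366 : Q := sm ge N6105
def N8368 : Q := sm gi N6106
def N8369 : Q := sm gh N6107
def N8370 : Q := sm gf N6108
def N8371 : Q := sm gi N6108
def N8372 : Q := sm gh N6109
def N8373 : Q := sm gh N6110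
def N8374 : Q := sm gc N6112
def N8376 : Q := sm gi N6112
def N8377 : Q := sm gb N6114
def N8378 : Q := sm gi N6114
def N8380 : Q := sm ga N6116
def N8381 : Q := sm gi N6116
def N8384 : Q := sm ge N6119
def N8385 : Q := sm gi N6119
def N8387 : Q := sm gh N6121
def N8388 : Q := sm ga N6122
def N8390 : Q := sm gh N6123
def N8394 : Q := sm gf N6128
def N8395 : Q := sm gh N6128
def N8396 : Q := sm ge N6129
def N8397 : Q := sm gg N6129
def N8398 : Q := sm gh N6129
def N8399 : Q := sm gd N6130
def N8400 : Q := sm gi N6130
def N8401 : Q := sm gg N6131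
def N8402 : Q := sm gh N6131
def N8403 : Q := sm gh N6132
def N8404 : Q := sm gi N6133
def N8405 : Q := sm gd N6135
def N8406 : Q := sm gg N6135
def N8407 : Q := sm gh N6135
def N8408 : Q := sm gh N6136
def N8409 : Q := sm gd N6137
def N8410 : Q := sm gi N6137
def N8411 : Q := sm ge N6138
def N8412 : Q := sm gi N6138
def N8413 : Q := sm gf N6140
def N8414 : Q := sm gh N6140
def N8415 : Q := sm gd N6141
def N8416 : Q := sm gi N6141
def N8417 : Q := sm gi N6142
def N8418 : Q := sm gh N6144
def N8419 : Q := sm gd N6145
def N8420 : Q := sm gi N6145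
def N8421 : Q := sm gc N6146
def N8422 : Q := sm gi N6146
def N8423 : Q := sm ge N6149
def N8424 : Q := sm gg N6149
def N8425 : Q := sm gh N6149
def N8426 : Q := sm gd N6150
def N8427 : Q := sm gi N6150
def N8428 : Q := sm gd N6151
def N8429 : Q := sm gg N6151
def N8430 : Q := sm gh N6151
def N8431 : Q := sm gh N6152
def N8432 : Q := sm gd N6153
def N8433 : Q := sm gi N6153
def N8434 : Q := sm ge N6154
def N8435 : Q := sm gi N6154
def N8436 : Q := sm gf N6156
def N8437 : Q := sm gh N6156
def N8438 : Q := sm gd N6157
def N8439 : Q := sm gi N6157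
def N8440 : Q := sm gi N6158
def N8441 : Q := sm gg N6160
def N8442 : Q := sm gh N6160
def N8443 : Q := sm gf N6161
def N8444 : Q := sm gh N6161
def N8445 : Q := sm gd N6162
def N8446 : Q := sm gi N6162
def N8447 : Q := sm gd N6163
def N8448 : Q := sm gi N6163
def N8449 : Q := sm ge N6164
def N8450 : Q := sm gi N6164
def N8451 : Q := sm gf N6166
def N8452 : Q := sm gi N6166
def N8453 : Q := sm gh N6167
def N8454 : Q := sm gh N6168
def N8455 : Q := sm gd N6169
def N8456 : Q := sm gi N6169
def N8457 : Q := sm gc N6170
def N8458 : Q := sm gi N6170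
def N8459 : Q := sm gd N6173
def N8460 : Q := sm gi N6173
def N8461 : Q := sm gc N6174
def N8462 : Q := sm gi N6174
def N8463 : Q := sm gb N6176
def N8464 : Q := sm gi N6176
def N8465 : Q := sm gh N6177
def N8466 : Q := sm gd N6178
def N8467 : Q := sm gg N6178
def N8468 : Q := sm gh N6178
def N8469 : Q := sm gh N6179
def N8470 : Q := sm gd N6180
def N8471 : Q := sm gi N6180
def N8472 : Q := sm gc N6181
def N8473 : Q := sm ge N6181
def N8474 : Q := sm gi N6181
def N8475 : Q := sm gg N6183
def N8476 : Q := sm gh N6183
def N8477 : Q := sm gf N6184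
def N8478 : Q := sm gh N6184
def N8479 : Q := sm gd N6185
def N8480 : Q := sm gi N6185
def N8481 : Q := sm gd N6186
def N8482 : Q := sm gi N6186
def N8483 : Q := sm ge N6187
def N8484 : Q := sm gi N6187
def N8485 : Q := sm gf N6189
def N8486 : Q := sm gi N6189
def N8487 : Q := sm gh N6190
def N8488 : Q := sm gh N6191
def N8489 : Q := sm gd N6192
def N8490 : Q := sm gi N6192
def N8491 : Q := sm gc N6193
def N8492 : Q := sm gi N6193
def N8493 : Q := sm gf N6196
def N8494 : Q := sm gh N6196
def N8495 : Q := sm gd N6197
def N8496 : Q := sm gi N6197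
def N8497 : Q := sm gh N6198
def N8498 : Q := sm gd N6199
def N8499 : Q := sm gi N6199
def N8500 : Q := sm gc N6200
def N8501 : Q := sm ge N6200
def N8502 : Q := sm gi N6200
def N8503 : Q := sm ge N6202
def N8504 : Q := sm gi N6202
def N8505 : Q := sm gf N6204
def N8506 : Q := sm gi N6204
def N8507 : Q := sm gh N6205
def N8508 : Q := sm gg N6206
def N8509 : Q := sm gi N6206
def N8510 : Q := sm gh N6207
def N8511 : Q := sm gd N6209
def N8512 : Q := sm gi N6209
def N8513 : Q := sm gc N6210
def N8514 : Q := sm gi N6210
def N8515 : Q := sm gb N6212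
def N8516 : Q := sm gi N6212
def N8517 : Q := sm gh N6213
def N8520 : Q := sm gi N6214
def N8522 : Q := sm gi N6216
def N8523 : Q := sm gh N6217
def N8524 : Q := sm ga N6218
def N8525 : Q := sm gi N6218
def N8526 : Q := sm gh N6219
def N8527 : Q := sm gd N6221
def N8528 : Q := sm gg N6221
def N8529 : Q := sm gh N6221
def N8530 : Q := sm gh N6222
def N8531 : Q := sm gd N6223
def N8532 : Q := sm gi N6223
def N8533 : Q := sm gc N6224
def N8534 : Q := sm ge N6224
def N8535 : Q := sm gi N6224
def N8536 : Q := sm gg N6226
def N8537 : Q := sm gh N6226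
def N8538 : Q := sm gf N6227
def N8539 : Q := sm gh N6227
def N8540 : Q := sm gd N6228
def N8541 : Q := sm gi N6228
def N8542 : Q := sm gd N6229
def N8543 : Q := sm gi N6229
def N8544 : Q := sm ge N6230
def N8545 : Q := sm gi N6230
def N8546 : Q := sm gf N6232
def N8547 : Q := sm gi N6232
def N8548 : Q := sm gh N6233
def N8549 : Q := sm gh N6234
def N8550 : Q := sm gd N6235
def N8551 : Q := sm gi N6235
def N8552 : Q := sm gc N6236
def N8553 : Q := sm gi N6236
def N8554 : Q := sm gf N6239
def N8555 : Q := sm gh N6239
def N8556 : Q := sm gd N6240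
def N8557 : Q := sm gi N6240
def N8558 : Q := sm gh N6241
def N8559 : Q := sm gd N6242
def N8560 : Q := sm gi N6242
def N8561 : Q := sm gc N6243
def N8562 : Q := sm ge N6243
def N8563 : Q := sm gi N6243
def N8564 : Q := sm ge N6245
def N8565 : Q := sm gi N6245
def N8566 : Q := sm gf N6247
def N8567 : Q := sm gi N6247
def N8568 : Q := sm gh N6248
def N8569 : Q := sm gg N6249
def N8570 : Q := sm gi N6249
def N8571 : Q := sm gh N6250
def N8573 : Q := sm gi N6252
def N8574 : Q := sm gc N6253
def N8575 : Q := sm gi N6253
def N8576 : Q := sm gb N6255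
def N8577 : Q := sm gi N6255
def N8578 : Q := sm gh N6256
def N8579 : Q := sm gc N6257
def N8583 : Q := sm gi N6259
def N8585 : Q := sm ga N6261
def N8587 : Q := sm gh N6262
def N8588 : Q := sm gc N6264
def N8589 : Q := sm gg N6264
def N8590 : Q := sm gh N6264
def N8591 : Q := sm gf N6265
def N8592 : Q := sm gh N6265
def N8593 : Q := sm gd N6266
def N8594 : Q := sm gi N6266
def N8595 : Q := sm gd N6267
def N8596 : Q := sm gi N6267
def N8597 : Q := sm gc N6268
def N8598 : Q := sm ge N6268
def N8599 : Q := sm gi N6268
def N8600 : Q := sm ge N6270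
def N8601 : Q := sm gi N6270
def N8602 : Q := sm gf N6271
def N8603 : Q := sm gi N6271
def N8604 : Q := sm gh N6272
def N8605 : Q := sm gf N6273
def N8606 : Q := sm gh N6273
def N8607 : Q := sm gd N6274
def N8608 : Q := sm gi N6274
def N8609 : Q := sm gh N6275
def N8610 : Q := sm gd N6276
def N8611 : Q := sm gi N6276
def N8612 : Q := sm gc N6277
def N8613 : Q := sm ge N6277
def N8614 : Q := sm gi N6277
def N8615 : Q := sm ge N6279
def N8616 : Q := sm gi N6279
def N8617 : Q := sm gf N6281
def N8618 : Q := sm gi N6281
def N8619 : Q := sm gh N6282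
def N8620 : Q := sm gg N6283
def N8621 : Q := sm gi N6283
def N8622 : Q := sm gh N6284
def N8626 : Q := sm gi N6287
def N8627 : Q := sm gb N6289
def N8628 : Q := sm gi N6289
def N8629 : Q := sm gh N6290
def N8630 : Q := sm ge N6291
def N8631 : Q := sm gh N6291
def N8632 : Q := sm gd N6292
def N8633 : Q := sm gi N6292
def N8634 : Q := sm gc N6293
def N8635 : Q := sm ge N6293
def N8636 : Q := sm gi N6293
def N8637 : Q := sm gd N6295
def N8639 : Q := sm gc N6296
def N8640 : Q := sm ge N6296
def N8641 : Q := sm gi N6296
def N8642 : Q := sm gb N6298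
def N8643 : Q := sm ge N6298
def N8644 : Q := sm gi N6298
def N8645 : Q := sm gf N6299
def N8646 : Q := sm gi N6299
def N8647 : Q := sm gh N6300
def N8648 : Q := sm gf N6301
def N8649 : Q := sm gi N6301
def N8650 : Q := sm gh N6302
def N8651 : Q := sm gg N6303
def N8652 : Q := sm gi N6303
def N8653 : Q := sm gh N6304
def N8654 : Q := sm gi N6306
def N8655 : Q := sm gh N6307
def N8656 : Q := sm gd N6308
def N8661 : Q := sm gi N6311
def N8663 : Q := sm ga N6313
def N8664 : Q := sm gi N6313
def N8665 : Q := sm gh N6314
def N8672 : Q := sm gi N6319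
def N8674 : Q := sm gi N6322
def N8675 : Q := sm gh N6323
def N8677 : Q := sm gc N6325
def N8678 : Q := sm gg N6325
def N8679 : Q := sm gh N6325
def N8680 : Q := sm gf N6326
def N8681 : Q := sm gh N6326
def N8682 : Q := sm gd N6327
def N8683 : Q := sm gi N6327
def N8684 : Q := sm gd N6328
def N8686 : Q := sm gc N6329
def N8687 : Q := sm ge N6329
def N8688 : Q := sm gi N6329
def N8689 : Q := sm ge N6331
def N8690 : Q := sm gi N6331
def N8691 : Q := sm gf N6332
def N8693 : Q := sm gf N6334
def N8694 : Q := sm gh N6334
def N8695 : Q := sm gd N6335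
def N8696 : Q := sm gi N6335
def N8698 : Q := sm gd N6337
def N8700 : Q := sm gc N6338
def N8701 : Q := sm ge N6338
def N8702 : Q := sm gi N6338
def N8703 : Q := sm ge N6340
def N8704 : Q := sm gi N6340
def N8705 : Q := sm gf N6342
def N8706 : Q := sm gi N6342
def N8710 : Q := sm gi N6346
def N8711 : Q := sm gc N6347
def N8713 : Q := sm gb N6349
def N8716 : Q := sm ge N6351
def N8717 : Q := sm gh N6351
def N8718 : Q := sm gd N6352
def N8719 : Q := sm gi N6352
def N8721 : Q := sm ge N6353
def N8722 : Q := sm gi N6353
def N8724 : Q := sm gi N6355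
def N8731 : Q := sm gf N6359
def N8732 : Q := sm gi N6359
def N8734 : Q := sm gf N6361
def N8737 : Q := sm gi N6363
def N8746 : Q := sm gi N6371
def N8747 : Q := sm gh N6372
def N8750 : Q := sm gi N6374
def N8753 : Q := sm ga N6377
def N8759 : Q := sm gg N6383
def N8760 : Q := sm gh N6383
def N8761 : Q := sm gf N6384
def N8762 : Q := sm gh N6384
def N8763 : Q := sm gd N6385
def N8764 : Q := sm gi N6385
def N8766 : Q := sm gd N6387
def N8768 : Q := sm gc N6388
def N8769 : Q := sm gi N6388
def N8770 : Q := sm ge N6391
def N8771 : Q := sm gh N6391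
def N8772 : Q := sm gd N6392
def N8773 : Q := sm gi N6392
def N8774 : Q := sm gc N6393
def N8775 : Q := sm gi N6393
def N8778 : Q := sm gc N6396
def N8780 : Q := sm gb N6398
def N8781 : Q := sm gi N6398
def N8784 : Q := sm ge N6400
def N8786 : Q := sm gb N6402
def N8788 : Q := sm gh N6403
def N8789 : Q := sm ga N6404
def N8790 : Q := sm gi N6404
def N8792 : Q := sm gh N6407
def N8793 : Q := sm gd N6408
def N8794 : Q := sm gi N6408
def N8795 : Q := sm gc N6409
def N8796 : Q := sm gi N6409
def N8797 : Q := sm gb N6411
def N8798 : Q := sm gi N6411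
def N8799 : Q := sm gh N6412
def N8802 : Q := sm gi N6413
def N8803 : Q := sm gb N6415
def N8806 : Q := sm ga N6417
def N8807 : Q := sm gi N6417
def N8809 : Q := sm gb N6420
def N8814 : Q := sm ga N6423
def N8815 : Q := sm gi N6423
def N8817 : Q := sm gi N6426
def N8824 : Q := sm gi N6430
def N8828 : Q := sm gh N6435
def N8834 : Q := sm gd N6441
def N8835 : Q := sm gi N6441
def N8836 : Q := sm gc N6442
def N8837 : Q := sm ge N6442
def N8838 : Q := sm gi N6442
def N8839 : Q := sm gc N6444
def N8840 : Q := sm ge N6444
def N8841 : Q := sm gi N6444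
def N8842 : Q := sm ge N6446
def N8843 : Q := sm gi N6446
def N8844 : Q := sm gf N6447
def N8845 : Q := sm gi N6447
def N8846 : Q := sm gh N6448
def N8847 : Q := sm gd N6449
def N8848 : Q := sm gf N6449
def N8849 : Q := sm gi N6449
def N8850 : Q := sm gh N6450
def N8851 : Q := sm gg N6451
def N8852 : Q := sm gi N6451
def N8853 : Q := sm gh N6452
def N8854 : Q := sm gd N6454
def N8856 : Q := sm gc N6455
def N8857 : Q := sm ge N6455
def N8858 : Q := sm gi N6455
def N8859 : Q := sm gb N6457
def N8860 : Q := sm ge N6457
def N8861 : Q := sm gi N6457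
def N8862 : Q := sm gf N6458
def N8863 : Q := sm gi N6458
def N8864 : Q := sm gh N6459
def N8865 : Q := sm gf N6460
def N8866 : Q := sm gi N6460
def N8867 : Q := sm gh N6461
def N8868 : Q := sm gg N6462
def N8869 : Q := sm gi N6462
def N8870 : Q := sm gh N6463
def N8871 : Q := sm gi N6465
def N8872 : Q := sm gh N6466
def N8873 : Q := sm gd N6467
def N8877 : Q := sm gb N6470
def N8878 : Q := sm gi N6470
def N8880 : Q := sm ga N6472
def N8881 : Q := sm gi N6472
def N8882 : Q := sm gh N6473
def N8886 : Q := sm gb N6477
def N8887 : Q := sm ge N6477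
def N8888 : Q := sm gi N6477
def N8889 : Q := sm gf N6478
def N8890 : Q := sm gi N6478
def N8891 : Q := sm gh N6479
def N8892 : Q := sm ga N6480
def N8893 : Q := sm ge N6480
def N8894 : Q := sm gi N6480
def N8895 : Q := sm gf N6481
def N8896 : Q := sm gi N6481
def N8897 : Q := sm gh N6482
def N8898 : Q := sm gg N6483
def N8899 : Q := sm gi N6483
def N8900 : Q := sm gh N6484
def N8901 : Q := sm gg N6486
def N8902 : Q := sm gi N6486
def N8903 : Q := sm gh N6487
def N8904 : Q := sm gi N6489
def N8905 : Q := sm gh N6490
def N8906 : Q := sm gd N6491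
def N8907 : Q := sm gh N6492
def N8908 : Q := sm gd N6493
def N8909 : Q := sm gc N6494
def N8911 : Q := sm ge N6495
def N8912 : Q := sm gi N6495
def N8916 : Q := sm gi N6498
def N8917 : Q := sm gh N6499
def N8918 : Q := sm gi N6501
def N8919 : Q := sm gh N6502
def N8926 : Q := sm gh N6506
def N8927 : Q := sm gh N6507
def N8928 : Q := sm gi N6509
def N8931 : Q := sm gh N6512
def N8937 : Q := sm gi N6516
def N8939 : Q := sm ga N6518
def N8940 : Q := sm gi N6518
def N8942 : Q := sm gi N6521
def N8943 : Q := sm gh N6522
def N8944 : Q := sm gd N6523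
def N8949 : Q := sm gi N6525
def N8952 : Q := sm gi N6529
def N8956 : Q := sm gd N6533
def N8961 : Q := sm gi N6536
def N8966 : Q := sm gd N6540
def N8967 : Q := sm gd N6541
def N8981 : Q := sm gh N6551
def N8997 : Q := sm gf N6565
def N8998 : Q := sm gh N6565
def N8999 : Q := sm ge N6566
def N9000 : Q := sm gg N6566
def N9002 : Q := sm gd N6567
def N9006 : Q := sm gh N6569
def N9007 : Q := sm gi N6570
def N9013 : Q := sm gi N6574
def N9014 : Q := sm ge N6575
def N9019 : Q := sm gi N6578
def N9023 : Q := sm gi N6582
def N9024 : Q := sm gc N6583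
def N9025 : Q := sm gi N6583
def N9026 : Q := sm ge N6586
def N9027 : Q := sm gg N6586
def N9028 : Q := sm gh N6586
def N9029 : Q := sm gd N6587
def N9030 : Q := sm gi N6587
def N9031 : Q := sm gd N6588
def N9035 : Q := sm gd N6590
def N9037 : Q := sm ge N6591
def N9038 : Q := sm gi N6591
def N9040 : Q := sm gh N6593
def N9042 : Q := sm gi N6594
def N9050 : Q := sm gd N6600
def N9053 : Q := sm gi N6601
def N9054 : Q := sm gf N6603
def N9055 : Q := sm gi N6603
def N9062 : Q := sm gd N6610
def N9065 : Q := sm gi N6611
def N9069 : Q := sm gd N6615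
def N9070 : Q := sm gg N6615
def N9071 : Q := sm gh N6615
def N9073 : Q := sm gd N6617
def N9074 : Q := sm gi N6617
def N9075 : Q := sm gc N6618
def N9076 : Q := sm ge N6618
def N9077 : Q := sm gi N6618
def N9078 : Q := sm gg N6620
def N9079 : Q := sm gh N6620
def N9084 : Q := sm gd N6623
def N9086 : Q := sm ge N6624
def N9087 : Q := sm gi N6624
def N9088 : Q := sm gf N6626
def N9089 : Q := sm gi N6626
def N9090 : Q := sm gh N6627
def N9096 : Q := sm gf N6633
def N9098 : Q := sm gd N6634
def N9099 : Q := sm gi N6634
def N9105 : Q := sm gi N6637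
def N9108 : Q := sm gf N6641
def N9109 : Q := sm gi N6641
def N9110 : Q := sm gh N6642
def N9111 : Q := sm gg N6643
def N9112 : Q := sm gi N6643
def N9113 : Q := sm gh N6644
def N9114 : Q := sm gd N6646
def N9115 : Q := sm gi N6646
def N9117 : Q := sm gi N6647
def N9120 : Q := sm gh N6650
def N9130 : Q := sm gc N6658
def N9131 : Q := sm gg N6658
def N9132 : Q := sm gh N6658
def N9133 : Q := sm gf N6659
def N9134 : Q := sm gh N6659
def N9135 : Q := sm gd N6660
def N9136 : Q := sm gi N6660
def N9137 : Q := sm gd N6661
def N9138 : Q := sm gi N6661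
def N9139 : Q := sm gc N6662
def N9140 : Q := sm ge N6662
def N9141 : Q := sm gi N6662
def N9142 : Q := sm ge N6664
def N9143 : Q := sm gi N6664
def N9144 : Q := sm gf N6665
def N9145 : Q := sm gi N6665
def N9146 : Q := sm gh N6666
def N9147 : Q := sm gf N6667
def N9148 : Q := sm gh N6667
def N9149 : Q := sm gd N6668
def N9150 : Q := sm gi N6668
def N9151 : Q := sm gh N6669
def N9152 : Q := sm gd N6670
def N9155 : Q := sm ge N6671
def N9156 : Q := sm gi N6671
def N9157 : Q := sm ge N6673
def N9158 : Q := sm gi N6673
def N9159 : Q := sm gf N6675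
def N9160 : Q := sm gi N6675
def N9161 : Q := sm gh N6676
def N9162 : Q := sm gg N6677
def N9163 : Q := sm gi N6677
def N9164 : Q := sm gh N6678
def N9173 : Q := sm gh N6685
def N9174 : Q := sm gd N6686
def N9175 : Q := sm gi N6686
def N9177 : Q := sm ge N6687
def N9178 : Q := sm gi N6687
def N9182 : Q := sm ge N6690
def N9186 : Q := sm gf N6693
def N9187 : Q := sm gi N6693
def N9189 : Q := sm gf N6695
def N9190 : Q := sm gi N6695
def N9191 : Q := sm gh N6696
def N9192 : Q := sm gg N6697
def N9193 : Q := sm gi N6697
def N9194 : Q := sm gh N6698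
def N9195 : Q := sm gi N6700
def N9196 : Q := sm gh N6701
def N9197 : Q := sm gd N6702
def N9200 : Q := sm gi N6703
def N9206 : Q := sm gc N6712
def N9207 : Q := sm gg N6712
def N9208 : Q := sm gh N6712
def N9210 : Q := sm gh N6713
def N9213 : Q := sm gd N6715
def N9215 : Q := sm gc N6716
def N9216 : Q := sm ge N6716
def N9217 : Q := sm gi N6716
def N9218 : Q := sm ge N6718
def N9219 : Q := sm gi N6718
def N9220 : Q := sm gf N6719
def N9221 : Q := sm gi N6719
def N9222 : Q := sm gh N6720
def N9224 : Q := sm gh N6721
def N9225 : Q := sm gd N6722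
def N9226 : Q := sm gi N6722
def N9231 : Q := sm ge N6725
def N9232 : Q := sm gi N6725
def N9233 : Q := sm ge N6727
def N9235 : Q := sm gf N6729
def N9236 : Q := sm gi N6729
def N9237 : Q := sm gh N6730
def N9238 : Q := sm gg N6731
def N9239 : Q := sm gi N6731
def N9240 : Q := sm gh N6732
def N9243 : Q := sm gc N6735
def N9244 : Q := sm gi N6735
def N9246 : Q := sm gi N6737
def N9248 : Q := sm gh N6739
def N9250 : Q := sm gi N6740
def N9253 : Q := sm gi N6741
def N9262 : Q := sm gf N6747
def N9267 : Q := sm gh N6750
def N9268 : Q := sm gg N6751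
def N9269 : Q := sm gi N6751
def N9271 : Q := sm gi N6754
def N9272 : Q := sm gh N6755
def N9273 : Q := sm gd N6756
def N9275 : Q := sm ge N6757
def N9276 : Q := sm gi N6757
def N9281 : Q := sm gb N6763
def N9282 : Q := sm ge N6763
def N9288 : Q := sm gg N6770
def N9289 : Q := sm gh N6770
def N9290 : Q := sm gf N6771
def N9291 : Q := sm gh N6771
def N9292 : Q := sm gd N6772
def N9293 : Q := sm gi N6772
def N9295 : Q := sm gd N6774
def N9297 : Q := sm gc N6775
def N9298 : Q := sm ge N6775
def N9299 : Q := sm gi N6775
def N9300 : Q := sm gc N6777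
def N9301 : Q := sm ge N6777
def N9302 : Q := sm gi N6777
def N9303 : Q := sm ge N6779
def N9304 : Q := sm gi N6779
def N9305 : Q := sm gf N6780
def N9306 : Q := sm gi N6780
def N9307 : Q := sm gh N6781
def N9308 : Q := sm gd N6782
def N9309 : Q := sm gf N6782
def N9310 : Q := sm gi N6782
def N9311 : Q := sm gh N6783
def N9312 : Q := sm gg N6784
def N9313 : Q := sm gi N6784
def N9314 : Q := sm gh N6785
def N9315 : Q := sm ge N6787
def N9316 : Q := sm gh N6787
def N9317 : Q := sm gd N6788
def N9318 : Q := sm gi N6788
def N9319 : Q := sm ge N6789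
def N9320 : Q := sm gi N6789
def N9321 : Q := sm gd N6791
def N9323 : Q := sm ge N6792
def N9324 : Q := sm gi N6792
def N9325 : Q := sm gf N6794
def N9326 : Q := sm gi N6794
def N9327 : Q := sm gh N6795
def N9328 : Q := sm gf N6796
def N9329 : Q := sm gi N6796
def N9330 : Q := sm gh N6797
def N9331 : Q := sm gg N6798
def N9332 : Q := sm gi N6798
def N9333 : Q := sm gh N6799
def N9334 : Q := sm gi N6801
def N9335 : Q := sm gh N6802
def N9336 : Q := sm gd N6803
def N9337 : Q := sm gh N6805
def N9339 : Q := sm gi N6806
def N9340 : Q := sm ge N6807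
def N9341 : Q := sm gi N6807
def N9342 : Q := sm gf N6809
def N9343 : Q := sm gi N6809
def N9344 : Q := sm gh N6810
def N9347 : Q := sm gf N6813
def N9350 : Q := sm gg N6815
def N9351 : Q := sm gi N6815
def N9352 : Q := sm gh N6816
def N9353 : Q := sm gg N6818
def N9354 : Q := sm gi N6818
def N9355 : Q := sm gh N6819
def N9356 : Q := sm gi N6821
def N9357 : Q := sm gh N6822
def N9358 : Q := sm gd N6823
def N9359 : Q := sm gh N6824
def N9360 : Q := sm gd N6825
def N9361 : Q := sm gc N6826
def N9362 : Q := sm gg N6827
def N9363 : Q := sm gh N6827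
def N9364 : Q := sm gf N6828
def N9365 : Q := sm gh N6828
def N9366 : Q := sm gd N6829
def N9367 : Q := sm gi N6829
def N9368 : Q := sm gh N6830
def N9369 : Q := sm gd N6831
def N9370 : Q := sm gc N6832
def N9371 : Q := sm ge N6832
def N9372 : Q := sm gc N6833
def N9373 : Q := sm ge N6833
def N9374 : Q := sm ge N6834
def N9375 : Q := sm gf N6835
def N9376 : Q := sm gd N6836
def N9377 : Q := sm gf N6836
def N9378 : Q := sm gg N6837
def N9379 : Q := sm ge N6838
def N9380 : Q := sm gh N6838
def N9381 : Q := sm gd N6839
def N9382 : Q := sm gi N6839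
def N9383 : Q := sm gc N6840
def N9384 : Q := sm ge N6840
def N9385 : Q := sm gi N6840
def N9388 : Q := sm ge N6843
def N9390 : Q := sm ge N6844
def N9391 : Q := sm gf N6845
def N9392 : Q := sm gf N6846
def N9393 : Q := sm gg N6847
def N9394 : Q := sm gc N6849
def N9400 : Q := sm gi N6853
def N9402 : Q := sm ge N6854
def N9403 : Q := sm gi N6854
def N9405 : Q := sm ge N6856
def N9406 : Q := sm gi N6856
def N9407 : Q := sm gf N6857
def N9408 : Q := sm gi N6857
def N9409 : Q := sm gc N6859
def N9416 : Q := sm gf N6863
def N9417 : Q := sm gg N6864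
def N9418 : Q := sm gg N6865
def N9424 : Q := sm gd N6872
def N9425 : Q := sm gf N6874
def N9426 : Q := sm gh N6874
def N9427 : Q := sm gd N6875
def N9428 : Q := sm gi N6875
def N9429 : Q := sm ge N6876
def N9430 : Q := sm gh N6876
def N9431 : Q := sm gi N6877
def N9432 : Q := sm gh N6879
def N9433 : Q := sm gi N6880
def N9434 : Q := sm gd N6882
def N9435 : Q := sm gi N6882
def N9436 : Q := sm ge N6884
def N9437 : Q := sm gi N6884
def N9438 : Q := sm gf N6885
def N9439 : Q := sm gi N6885
def N9440 : Q := sm gh N6886
def N9441 : Q := sm gd N6887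
def N9442 : Q := sm gf N6887
def N9443 : Q := sm gi N6887
def N9444 : Q := sm gh N6888
def N9445 : Q := sm gg N6889
def N9446 : Q := sm gi N6889
def N9447 : Q := sm gh N6890
def N9448 : Q := sm gf N6892
def N9449 : Q := sm gh N6892
def N9450 : Q := sm gi N6892
def N9451 : Q := sm gg N6893
def N9452 : Q := sm gi N6893
def N9453 : Q := sm gh N6894
def N9454 : Q := sm gd N6895
def N9455 : Q := sm gi N6896
def N9456 : Q := sm gh N6897
def N9457 : Q := sm gd N6898
def N9458 : Q := sm gg N6899
def N9459 : Q := sm gi N6899
def N9460 : Q := sm gh N6900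
def N9461 : Q := sm gi N6902
def N9462 : Q := sm gh N6903
def N9463 : Q := sm gd N6904
def N9464 : Q := sm gh N6905
def N9465 : Q := sm gd N6906
def N9466 : Q := sm gc N6907
def N9467 : Q := sm gi N6908
def N9468 : Q := sm gh N6909
def N9469 : Q := sm gd N6910
def N9470 : Q := sm gh N6911
def N9471 : Q := sm gd N6912
def N9472 : Q := sm gc N6913
def N9473 : Q := sm gd N6914
def N9474 : Q := sm gc N6915
def N9475 : Q := sm ge N6915
def N9476 : Q := sm gb N6916
def N9477 : Q := sm ge N6917
def N9478 : Q := sm gg N6917
def N9479 : Q := sm gh N6917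
def N9480 : Q := sm gi N6917
def N9481 : Q := sm gi N6918
def N9482 : Q := sm gh N6919
def N9483 : Q := sm gi N6920
def N9484 : Q := sm gh N6921
def N9485 : Q := sm gd N6922
def N9486 : Q := sm ge N6923
def N9487 : Q := sm gh N6924
def N9488 : Q := sm gd N6925
def N9489 : Q := sm gc N6926
def N9490 : Q := sm gd N6927
def N9491 : Q := sm gc N6928
def N9492 : Q := sm ge N6928
def N9493 : Q := sm gb N6929
def N9500 : Q := sm gh N6934
def N9501 : Q := sm gf N6935
def N9504 : Q := sm gi N6936
def N9518 : Q := sm gh N6946
def N9522 : Q := sm gi N6949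
def N9527 : Q := sm gi N6952
def N9536 : Q := sm gh N6957
def N9546 : Q := sm ge N6966
def N9550 : Q := sm gh N6969
def N9565 : Q := sm gh N6979
def N9573 : Q := sm gi N6983
def N9581 : Q := sm gg N6988
def N9582 : Q := sm gi N6988
def N9585 : Q := sm gi N6991
def N9586 : Q := sm gh N6992
def N9587 : Q := sm gi N6994
def N9588 : Q := sm gh N6995
def N9590 : Q := sm gh N6997
def N9597 : Q := sm gi N7002
def N9611 : Q := sm gd N7015
def N9614 : Q := sm ge N7018
def N9618 : Q := sm gc N7021
def N9620 : Q := sm gi N7021
def N9626 : Q := sm gh N7025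
def N9632 : Q := sm gi N7028
def N9633 : Q := sm gf N7029
def N9640 : Q := sm gi N7032
def N9644 : Q := sm gh N7035
def N9645 : Q := sm gg N7037
def N9648 : Q := sm gi N7040
def N9649 : Q := sm gh N7041
def N9651 : Q := sm gh N7043
def N9656 : Q := sm gi N7047
def N9657 : Q := sm gh N7048
def N9658 : Q := sm ga N7049
def N9661 : Q := sm gi N7052
def N9665 : Q := sm gi N7055
def N9681 : Q := sm gh N7063
def N9685 : Q := sm gb N7067
def N9693 : Q := sm gi N7070
def N9697 : Q := sm gg N7073
def N9704 : Q := sm gh N7078
def N9710 : Q := sm gh N7083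
def N9720 : Q := sm ga N7093
def N9725 : Q := sm gh N7095
def N9735 : Q := sm gd N7105
def N9736 : Q := sm gi N7105
def N9737 : Q := sm gh N7106
def N9738 : Q := sm gh N7107
def N9739 : Q := sm gi N7107
def N9749 : Q := sm gf N7116
def N9756 : Q := sm gf N7120
def N9757 : Q := sm gi N7120
def N9758 : Q := sm gh N7121
def N9777 : Q := sm gg N7132
def N9783 : Q := sm gd N7137
def N9787 : Q := sm gd N7139
def N9789 : Q := sm gi N7139
def N9792 : Q := sm gi N7141
def N9805 : Q := sm gd N7152
def N9814 : Q := sm gh N7159
def N9821 : Q := sm gd N7166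
def N9834 : Q := sm gh N7176
def N9836 : Q := sm gi N7177
def N9837 : Q := sm gh N7178
def N9848 : Q := sm gi N7187
def N9851 : Q := sm gh N7189
def N9857 : Q := sm gd N7194
def N9870 : Q := sm gh N7204
def N9871 : Q := sm gf N7499
def N9872 : Q := sm ge N7501
def N9873 : Q := sm ge N7562
def N9874 : Q := sm gd N7723
def N9875 : Q := sm gh N7723
def N9876 : Q := sm gd N7725
def N9877 : Q := sm gi N7725
def N9878 : Q := sm gc N7726
def N9879 : Q := sm ge N7726
def N9880 : Q := sm gi N7726
def N9881 : Q := sm gh N7728
def N9882 : Q := sm gd N7730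
def N9883 : Q := sm gi N7730
def N9884 : Q := sm ge N7732
def N9885 : Q := sm gi N7732
def N9886 : Q := sm gf N7734
def N9887 : Q := sm gi N7734
def N9888 : Q := sm gh N7735
def N9889 : Q := sm gc N7738
def N9890 : Q := sm gi N7738
def N9891 : Q := sm gd N7742
def N9892 : Q := sm gi N7742
def N9893 : Q := sm gc N7745
def N9894 : Q := sm ge N7745
def N9895 : Q := sm gi N7745
def N9896 : Q := sm gf N7749
def N9897 : Q := sm gi N7749
def N9898 : Q := sm gh N7750
def N9899 : Q := sm gg N7751
def N9900 : Q := sm gi N7751
def N9901 : Q := sm gh N7752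
def N9902 : Q := sm gi N7757
def N9903 : Q := sm gh N7758
def N9904 : Q := sm gc N7766
def N9905 : Q := sm gh N7766
def N9906 : Q := sm gd N7768
def N9907 : Q := sm gi N7768
def N9908 : Q := sm gc N7770
def N9909 : Q := sm ge N7770
def N9910 : Q := sm gi N7770
def N9911 : Q := sm ge N7772
def N9912 : Q := sm gi N7772
def N9913 : Q := sm gf N7773
def N9914 : Q := sm gi N7773
def N9915 : Q := sm gh N7774
def N9916 : Q := sm gd N7776
def N9917 : Q := sm gi N7776
def N9918 : Q := sm ge N7779
def N9919 : Q := sm gi N7779
def N9920 : Q := sm gf N7783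
def N9921 : Q := sm gi N7783
def N9922 : Q := sm gh N7784
def N9923 : Q := sm gg N7785
def N9924 : Q := sm gi N7785
def N9925 : Q := sm gh N7786
def N9926 : Q := sm ge N7795
def N9927 : Q := sm gi N7795
def N9928 : Q := sm gf N7801
def N9929 : Q := sm gi N7801
def N9930 : Q := sm gh N7802
def N9931 : Q := sm gg N7805
def N9932 : Q := sm gi N7805
def N9933 : Q := sm gh N7806
def N9934 : Q := sm gi N7808
def N9935 : Q := sm gh N7809
def N9936 : Q := sm gd N7810
def N9937 : Q := sm gh N7827
def N9938 : Q := sm gi N7829
def N9939 : Q := sm ge N7920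
def N9940 : Q := sm gi N7920
def N9941 : Q := sm gf N7921
def N9942 : Q := sm gi N7921
def N9943 : Q := sm gh N7922
def N9944 : Q := sm gd N7923
def N9945 : Q := sm gf N7923
def N9946 : Q := sm gi N7923
def N9947 : Q := sm gh N7924
def N9948 : Q := sm gg N7925
def N9949 : Q := sm gi N7925
def N9950 : Q := sm gh N7926
def N9951 : Q := sm gg N7940
def N9952 : Q := sm gi N7940
def N9953 : Q := sm gh N7941
def N9954 : Q := sm gi N7943
def N9955 : Q := sm gh N7944
def N9956 : Q := sm gd N7945
def N9957 : Q := sm gi N7974
def N9958 : Q := sm gh N7975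
def N9959 : Q := sm gd N7976
def N9960 : Q := sm gh N7977
def N9961 : Q := sm gd N7978
def N9962 : Q := sm gc N7979
def N9963 : Q := sm ge N8185
def N9964 : Q := sm gh N8185
def N9965 : Q := sm gd N8186
def N9966 : Q := sm gi N8186
def N9967 : Q := sm gh N8187
def N9968 : Q := sm gh N8188
def N9969 : Q := sm gd N8189
def N9970 : Q := sm gi N8189
def N9971 : Q := sm ge N8190
def N9972 : Q := sm gi N8190
def N9973 : Q := sm gh N8192
def N9974 : Q := sm gd N8193
def N9975 : Q := sm gi N8193
def N9976 : Q := sm gi N8194
def N9977 : Q := sm gi N8198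
def N9978 : Q := sm gd N8199
def N9979 : Q := sm gi N8199
def N9980 : Q := sm ge N8200
def N9981 : Q := sm gi N8200
def N9982 : Q := sm gf N8202
def N9983 : Q := sm gi N8202
def N9984 : Q := sm gh N8203
def N9985 : Q := sm gd N8205
def N9986 : Q := sm gi N8205
def N9987 : Q := sm gc N8206
def N9988 : Q := sm gi N8206
def N9989 : Q := sm gd N8209
def N9990 : Q := sm gi N8209
def N9991 : Q := sm gc N8210
def N9992 : Q := sm gi N8210
def N9993 : Q := sm gb N8212
def N9994 : Q := sm gi N8212
def N9995 : Q := sm gh N8213
def N9996 : Q := sm gd N8214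
def N9997 : Q := sm gg N8214
def N9998 : Q := sm gh N8214
def N9999 : Q := sm gh N8215
def N10000 : Q := sm gd N8216
def N10001 : Q := sm gi N8216
def N10002 : Q := sm gc N8217
def N10003 : Q := sm ge N8217
def N10004 : Q := sm gi N8217
def N10005 : Q := sm gg N8219
def N10006 : Q := sm gh N8219
def N10007 : Q := sm gf N8220
def N10008 : Q := sm gh N8220
def N10009 : Q := sm gd N8221
def N10010 : Q := sm gi N8221
def N10011 : Q := sm gd N8222
def N10012 : Q := sm gi N8222
def N10013 : Q := sm ge N8223
def N10014 : Q := sm gi N8223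
def N10015 : Q := sm gf N8225
def N10016 : Q := sm gi N8225
def N10017 : Q := sm gh N8226
def N10018 : Q := sm gh N8227
def N10019 : Q := sm gd N8228
def N10020 : Q := sm gi N8228
def N10021 : Q := sm gc N8229
def N10022 : Q := sm gi N8229
def N10023 : Q := sm gf N8232
def N10024 : Q := sm gh N8232
def N10025 : Q := sm gd N8233
def N10026 : Q := sm gi N8233
def N10027 : Q := sm gh N8234
def N10028 : Q := sm gd N8235
def N10029 : Q := sm gi N8235
def N10030 : Q := sm gc N8236
def N10031 : Q := sm ge N8236
def N10032 : Q := sm gi N8236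
def N10033 : Q := sm ge N8238
def N10034 : Q := sm gi N8238
def N10035 : Q := sm gf N8240
def N10036 : Q := sm gi N8240
def N10037 : Q := sm gh N8241
def N10038 : Q := sm gg N8242
def N10039 : Q := sm gi N8242
def N10040 : Q := sm gh N8243
def N10041 : Q := sm gd N8245
def N10042 : Q := sm gi N8245
def N10043 : Q := sm gc N8246
def N10044 : Q := sm gi N8246
def N10045 : Q := sm gb N8248
def N10046 : Q := sm gi N8248
def N10047 : Q := sm gh N8249
def N10048 : Q := sm ge N8250
def N10049 : Q := sm gi N8250
def N10050 : Q := sm gb N8252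
def N10051 : Q := sm gi N8252
def N10052 : Q := sm gh N8253
def N10053 : Q := sm ga N8254
def N10054 : Q := sm gi N8254
def N10055 : Q := sm gh N8255
def N10056 : Q := sm gc N8257
def N10057 : Q := sm gg N8257
def N10058 : Q := sm gh N8257
def N10059 : Q := sm gf N8258
def N10060 : Q := sm gh N8258
def N10061 : Q := sm gd N8259
def N10062 : Q := sm gi N8259
def N10063 : Q := sm gd N8260
def N10064 : Q := sm gi N8260
def N10065 : Q := sm gc N8261
def N10066 : Q := sm ge N8261
def N10067 : Q := sm gi N8261
def N10068 : Q := sm ge N8263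
def N10069 : Q := sm gi N8263
def N10070 : Q := sm gf N8264
def N10071 : Q := sm gi N8264
def N10072 : Q := sm gh N8265
def N10073 : Q := sm gf N8266
def N10074 : Q := sm gh N8266
def N10075 : Q := sm gd N8267
def N10076 : Q := sm gi N8267
def N10077 : Q := sm gh N8268
def N10078 : Q := sm gd N8269
def N10079 : Q := sm gi N8269
def N10080 : Q := sm gc N8270
def N10081 : Q := sm ge N8270
def N10082 : Q := sm gi N8270
def N10083 : Q := sm ge N8272
def N10084 : Q := sm gi N8272
def N10085 : Q := sm gf N8274
def N10086 : Q := sm gi N8274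
def N10087 : Q := sm gh N8275
def N10088 : Q := sm gg N8276
def N10089 : Q := sm gi N8276
def N10090 : Q := sm gh N8277
def N10091 : Q := sm gi N8279
def N10092 : Q := sm gc N8280
def N10093 : Q := sm gi N8280
def N10094 : Q := sm gb N8282
def N10095 : Q := sm gi N8282
def N10096 : Q := sm ge N8284
def N10097 : Q := sm gh N8284
def N10098 : Q := sm gd N8285
def N10099 : Q := sm gi N8285
def N10100 : Q := sm gc N8286
def N10101 : Q := sm ge N8286
def N10102 : Q := sm gi N8286
def N10103 : Q := sm gd N8288
def N10104 : Q := sm gi N8288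
def N10105 : Q := sm gc N8289
def N10106 : Q := sm ge N8289
def N10107 : Q := sm gi N8289
def N10108 : Q := sm gb N8291
def N10109 : Q := sm ge N8291
def N10110 : Q := sm gi N8291
def N10111 : Q := sm gf N8292
def N10112 : Q := sm gi N8292
def N10113 : Q := sm gh N8293
def N10114 : Q := sm gf N8294
def N10115 : Q := sm gi N8294
def N10116 : Q := sm gh N8295
def N10117 : Q := sm gg N8296
def N10118 : Q := sm gi N8296
def N10119 : Q := sm gh N8297
def N10120 : Q := sm gi N8299
def N10121 : Q := sm gh N8300
def N10122 : Q := sm gd N8301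
def N10123 : Q := sm gb N8304
def N10124 : Q := sm gi N8304
def N10125 : Q := sm ga N8306
def N10126 : Q := sm gi N8306
def N10127 : Q := sm ga N8312
def N10128 : Q := sm gi N8312
def N10129 : Q := sm gi N8315
def N10130 : Q := sm gg N8318
def N10131 : Q := sm gh N8318
def N10132 : Q := sm gf N8319
def N10133 : Q := sm gh N8319
def N10134 : Q := sm gd N8320
def N10135 : Q := sm gi N8320
def N10136 : Q := sm gd N8322
def N10137 : Q := sm gc N8323
def N10138 : Q := sm ge N8323
def N10139 : Q := sm gc N8325
def N10140 : Q := sm ge N8325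
def N10141 : Q := sm ge N8327
def N10142 : Q := sm gi N8327
def N10143 : Q := sm gi N8328
def N10144 : Q := sm ge N8332
def N10145 : Q := sm gh N8332
def N10146 : Q := sm gd N8333
def N10147 : Q := sm gi N8333
def N10148 : Q := sm gc N8334
def N10149 : Q := sm ge N8334
def N10150 : Q := sm gi N8334
def N10151 : Q := sm gc N8337
def N10152 : Q := sm ge N8337
def N10153 : Q := sm gb N8339
def N10154 : Q := sm ge N8339
def N10155 : Q := sm gb N8348
def N10156 : Q := sm ga N8350
def N10157 : Q := sm gh N8353
def N10158 : Q := sm gi N8354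
def N10159 : Q := sm gc N8355
def N10160 : Q := sm ge N8355
def N10161 : Q := sm gi N8355
def N10162 : Q := sm gb N8357
def N10163 : Q := sm ge N8357
def N10164 : Q := sm gi N8357
def N10165 : Q := sm gi N8358
def N10166 : Q := sm ga N8365
def N10167 : Q := sm ga N8377
def N10168 : Q := sm ge N8394
def N10169 : Q := sm gh N8394
def N10170 : Q := sm gd N8395
def N10171 : Q := sm gi N8395
def N10172 : Q := sm gh N8396
def N10173 : Q := sm gi N8398
def N10174 : Q := sm ge N8399
def N10175 : Q := sm gi N8399
def N10176 : Q := sm gh N8401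
def N10177 : Q := sm gd N8402
def N10178 : Q := sm gi N8402
def N10179 : Q := sm gi N8403
def N10180 : Q := sm gi N8407
def N10181 : Q := sm gi N8411
def N10182 : Q := sm gh N8413
def N10183 : Q := sm gd N8414
def N10184 : Q := sm gi N8414
def N10185 : Q := sm gc N8415
def N10186 : Q := sm gi N8415
def N10187 : Q := sm gd N8418
def N10188 : Q := sm gi N8418
def N10189 : Q := sm gi N8419
def N10190 : Q := sm gb N8421
def N10191 : Q := sm gi N8421
def N10192 : Q := sm gh N8422
def N10193 : Q := sm gd N8423
def N10194 : Q := sm gg N8423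
def N10195 : Q := sm gh N8423
def N10196 : Q := sm gh N8424
def N10197 : Q := sm gd N8425
def N10198 : Q := sm gi N8425
def N10199 : Q := sm gc N8426
def N10200 : Q := sm ge N8426
def N10201 : Q := sm gi N8426
def N10202 : Q := sm gh N8428
def N10203 : Q := sm gh N8429
def N10204 : Q := sm gd N8430
def N10205 : Q := sm gi N8430
def N10206 : Q := sm gi N8431
def N10207 : Q := sm ge N8432
def N10208 : Q := sm gi N8432
def N10209 : Q := sm gf N8434
def N10210 : Q := sm gi N8434
def N10211 : Q := sm gh N8435
def N10212 : Q := sm gd N8437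
def N10213 : Q := sm gi N8437
def N10214 : Q := sm gc N8438
def N10215 : Q := sm gi N8438
def N10216 : Q := sm gd N8442
def N10217 : Q := sm gi N8442
def N10218 : Q := sm gd N8444
def N10219 : Q := sm gi N8444
def N10220 : Q := sm gc N8445
def N10221 : Q := sm ge N8445
def N10222 : Q := sm gi N8445
def N10223 : Q := sm gi N8449
def N10224 : Q := sm gi N8451
def N10225 : Q := sm gh N8452
def N10226 : Q := sm gc N8455
def N10227 : Q := sm gi N8455
def N10228 : Q := sm gb N8457
def N10229 : Q := sm gi N8457
def N10230 : Q := sm gh N8458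
def N10231 : Q := sm gh N8462
def N10232 : Q := sm ga N8463
def N10233 : Q := sm gi N8463
def N10234 : Q := sm gh N8464
def N10235 : Q := sm gc N8466
def N10236 : Q := sm gg N8466
def N10237 : Q := sm gh N8466
def N10238 : Q := sm gf N8467
def N10239 : Q := sm gh N8467
def N10240 : Q := sm gd N8468
def N10241 : Q := sm gi N8468
def N10242 : Q := sm gd N8469
def N10243 : Q := sm gi N8469
def N10244 : Q := sm gc N8470
def N10245 : Q := sm ge N8470
def N10246 : Q := sm gi N8470
def N10247 : Q := sm ge N8472
def N10248 : Q := sm gi N8472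
def N10249 : Q := sm gf N8473
def N10250 : Q := sm gi N8473
def N10251 : Q := sm gh N8474
def N10252 : Q := sm gf N8475
def N10253 : Q := sm gh N8475
def N10254 : Q := sm gd N8476
def N10255 : Q := sm gi N8476
def N10256 : Q := sm gh N8477
def N10257 : Q := sm gd N8478
def N10258 : Q := sm gi N8478
def N10259 : Q := sm gc N8479
def N10260 : Q := sm ge N8479
def N10261 : Q := sm gi N8479
def N10262 : Q := sm ge N8481
def N10263 : Q := sm gi N8481
def N10264 : Q := sm gf N8483
def N10265 : Q := sm gi N8483
def N10266 : Q := sm gh N8484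
def N10267 : Q := sm gg N8485
def N10268 : Q := sm gi N8485
def N10269 : Q := sm gh N8486
def N10270 : Q := sm gi N8488
def N10271 : Q := sm gc N8489
def N10272 : Q := sm gi N8489
def N10273 : Q := sm gb N8491
def N10274 : Q := sm gi N8491
def N10275 : Q := sm gh N8492
def N10276 : Q := sm gh N8493
def N10277 : Q := sm gd N8494
def N10278 : Q := sm gi N8494
def N10279 : Q := sm gc N8495
def N10280 : Q := sm ge N8495
def N10281 : Q := sm gi N8495
def N10282 : Q := sm gd N8497
def N10283 : Q := sm gi N8497
def N10284 : Q := sm gc N8498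
def N10285 : Q := sm ge N8498
def N10286 : Q := sm gi N8498
def N10287 : Q := sm gb N8500
def N10288 : Q := sm ge N8500
def N10289 : Q := sm gi N8500
def N10290 : Q := sm gf N8501
def N10291 : Q := sm gi N8501
def N10292 : Q := sm gh N8502
def N10293 : Q := sm gf N8503
def N10294 : Q := sm gi N8503
def N10295 : Q := sm gg N8505
def N10296 : Q := sm gi N8505
def N10297 : Q := sm gh N8506
def N10298 : Q := sm gi N8508
def N10299 : Q := sm gh N8509
def N10300 : Q := sm gd N8510
def N10301 : Q := sm gi N8513
def N10302 : Q := sm gh N8514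
def N10303 : Q := sm ga N8515
def N10304 : Q := sm gi N8515
def N10305 : Q := sm gh N8516
def N10306 : Q := sm gi N8524
def N10307 : Q := sm gh N8525
def N10308 : Q := sm gc N8527
def N10309 : Q := sm gg N8527
def N10310 : Q := sm gh N8527
def N10311 : Q := sm gh N8528
def N10312 : Q := sm gd N8529
def N10313 : Q := sm gi N8529
def N10314 : Q := sm gd N8530
def N10315 : Q := sm gi N8530
def N10316 : Q := sm gc N8531
def N10317 : Q := sm ge N8531
def N10318 : Q := sm gi N8531
def N10319 : Q := sm ge N8533
def N10320 : Q := sm gi N8533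
def N10321 : Q := sm gf N8534
def N10322 : Q := sm gi N8534
def N10323 : Q := sm gh N8535
def N10324 : Q := sm gd N8537
def N10325 : Q := sm gi N8537
def N10326 : Q := sm gd N8539
def N10327 : Q := sm gi N8539
def N10328 : Q := sm gc N8540
def N10329 : Q := sm ge N8540
def N10330 : Q := sm gi N8540
def N10331 : Q := sm gi N8542
def N10332 : Q := sm gf N8544
def N10333 : Q := sm gi N8544
def N10334 : Q := sm gh N8545
def N10335 : Q := sm gg N8546
def N10336 : Q := sm gi N8546
def N10337 : Q := sm gh N8547
def N10338 : Q := sm gb N8552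
def N10339 : Q := sm gi N8552
def N10340 : Q := sm gc N8556
def N10341 : Q := sm gi N8556
def N10342 : Q := sm gi N8559
def N10343 : Q := sm ge N8561
def N10344 : Q := sm gi N8561
def N10345 : Q := sm gf N8562
def N10346 : Q := sm gi N8562
def N10347 : Q := sm gh N8563
def N10348 : Q := sm gi N8566
def N10349 : Q := sm gi N8569
def N10350 : Q := sm gh N8570
def N10351 : Q := sm gd N8571
def N10352 : Q := sm gg N8588
def N10353 : Q := sm gh N8588
def N10354 : Q := sm gf N8589
def N10355 : Q := sm gh N8589
def N10356 : Q := sm gd N8590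
def N10357 : Q := sm gi N8590
def N10358 : Q := sm gd N8592
def N10359 : Q := sm gi N8592
def N10360 : Q := sm gc N8593
def N10361 : Q := sm ge N8593
def N10362 : Q := sm gi N8593
def N10363 : Q := sm gc N8595
def N10364 : Q := sm ge N8595
def N10365 : Q := sm gi N8595
def N10366 : Q := sm ge N8597
def N10367 : Q := sm gi N8597
def N10368 : Q := sm gf N8598
def N10369 : Q := sm gi N8598
def N10370 : Q := sm gh N8599
def N10371 : Q := sm gd N8600
def N10372 : Q := sm gf N8600
def N10373 : Q := sm gi N8600
def N10374 : Q := sm gh N8601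
def N10375 : Q := sm gg N8602
def N10376 : Q := sm gi N8602
def N10377 : Q := sm gh N8603
def N10378 : Q := sm ge N8605
def N10379 : Q := sm gh N8605
def N10380 : Q := sm gd N8606
def N10381 : Q := sm gi N8606
def N10382 : Q := sm gc N8607
def N10383 : Q := sm ge N8607
def N10384 : Q := sm gi N8607
def N10385 : Q := sm ge N8610
def N10386 : Q := sm gi N8610
def N10387 : Q := sm gb N8612
def N10388 : Q := sm ge N8612
def N10389 : Q := sm gi N8612
def N10390 : Q := sm gf N8613
def N10391 : Q := sm gi N8613
def N10392 : Q := sm gh N8614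
def N10393 : Q := sm gf N8615
def N10394 : Q := sm gi N8615
def N10395 : Q := sm gh N8616
def N10396 : Q := sm gg N8617
def N10397 : Q := sm gi N8617
def N10398 : Q := sm gh N8618
def N10399 : Q := sm gi N8620
def N10400 : Q := sm gh N8621
def N10401 : Q := sm gd N8622
def N10402 : Q := sm ga N8627
def N10403 : Q := sm gi N8627
def N10404 : Q := sm gh N8630
def N10405 : Q := sm gi N8631
def N10406 : Q := sm ge N8632
def N10407 : Q := sm gi N8632
def N10408 : Q := sm gb N8634
def N10409 : Q := sm ge N8634
def N10410 : Q := sm gi N8634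
def N10411 : Q := sm gf N8635
def N10412 : Q := sm gi N8635
def N10413 : Q := sm gh N8636
def N10414 : Q := sm gf N8640
def N10415 : Q := sm gi N8640
def N10416 : Q := sm gh N8641
def N10417 : Q := sm ga N8642
def N10418 : Q := sm ge N8642
def N10419 : Q := sm gi N8642
def N10420 : Q := sm gf N8643
def N10421 : Q := sm gi N8643
def N10422 : Q := sm gh N8644
def N10423 : Q := sm gg N8645
def N10424 : Q := sm gi N8645
def N10425 : Q := sm gh N8646
def N10426 : Q := sm gg N8648
def N10427 : Q := sm gi N8648
def N10428 : Q := sm gh N8649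
def N10429 : Q := sm gi N8651
def N10430 : Q := sm gh N8652
def N10431 : Q := sm gd N8653
def N10432 : Q := sm gh N8654
def N10433 : Q := sm gd N8655
def N10434 : Q := sm gc N8656
def N10435 : Q := sm gi N8663
def N10436 : Q := sm gg N8677
def N10437 : Q := sm gh N8677
def N10438 : Q := sm gh N8678
def N10439 : Q := sm gd N8679
def N10440 : Q := sm gi N8679
def N10441 : Q := sm gc N8682
def N10442 : Q := sm ge N8682
def N10443 : Q := sm ge N8686
def N10444 : Q := sm gi N8694
def N10445 : Q := sm ge N8695
def N10446 : Q := sm gi N8695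
def N10447 : Q := sm gi N8721
def N10448 : Q := sm gh N8759
def N10449 : Q := sm gd N8760
def N10450 : Q := sm gi N8760
def N10451 : Q := sm gi N8762
def N10452 : Q := sm gc N8763
def N10453 : Q := sm gi N8763
def N10454 : Q := sm gb N8768
def N10455 : Q := sm gb N8774
def N10456 : Q := sm gi N8774
def N10457 : Q := sm ga N8780
def N10458 : Q := sm ga N8797
def N10459 : Q := sm gi N8797
def N10460 : Q := sm gb N8836
def N10461 : Q := sm ge N8836
def N10462 : Q := sm gi N8836
def N10463 : Q := sm gf N8837
def N10464 : Q := sm gi N8837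
def N10465 : Q := sm gh N8838
def N10466 : Q := sm ge N8839
def N10467 : Q := sm gi N8839
def N10468 : Q := sm gf N8840
def N10469 : Q := sm gi N8840
def N10470 : Q := sm gh N8841
def N10471 : Q := sm gd N8842
def N10472 : Q := sm gf N8842
def N10473 : Q := sm gi N8842
def N10474 : Q := sm gh N8843
def N10475 : Q := sm gg N8844
def N10476 : Q := sm gi N8844
def N10477 : Q := sm gh N8845
def N10478 : Q := sm gf N8847
def N10479 : Q := sm gh N8847
def N10480 : Q := sm gi N8847
def N10481 : Q := sm gg N8848
def N10482 : Q := sm gi N8848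
def N10483 : Q := sm gh N8849
def N10484 : Q := sm gd N8850
def N10485 : Q := sm gi N8851
def N10486 : Q := sm gh N8852
def N10487 : Q := sm gd N8853
def N10488 : Q := sm ga N8859
def N10489 : Q := sm ge N8859
def N10490 : Q := sm gi N8859
def N10491 : Q := sm gf N8860
def N10492 : Q := sm gi N8860
def N10493 : Q := sm gh N8861
def N10494 : Q := sm gg N8862
def N10495 : Q := sm gi N8862
def N10496 : Q := sm gh N8863
def N10497 : Q := sm gg N8865
def N10498 : Q := sm gi N8865
def N10499 : Q := sm gh N8866
def N10500 : Q := sm gi N8868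
def N10501 : Q := sm gh N8869
def N10502 : Q := sm gd N8870
def N10503 : Q := sm gh N8871
def N10504 : Q := sm gd N8872
def N10505 : Q := sm gc N8873
def N10506 : Q := sm gi N8880
def N10507 : Q := sm ge N8892
def N10508 : Q := sm gi N8892
def N10509 : Q := sm gf N8893
def N10510 : Q := sm gi N8893
def N10511 : Q := sm gh N8894
def N10512 : Q := sm gg N8895
def N10513 : Q := sm gi N8895
def N10514 : Q := sm gh N8896
def N10515 : Q := sm gi N8898
def N10516 : Q := sm gh N8899
def N10517 : Q := sm gd N8900
def N10518 : Q := sm gi N8901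
def N10519 : Q := sm gh N8902
def N10520 : Q := sm gd N8903
def N10521 : Q := sm gh N8904
def N10522 : Q := sm gd N8905
def N10523 : Q := sm gc N8906
def N10524 : Q := sm gc N9029
def N10525 : Q := sm ge N9029
def N10526 : Q := sm gc N9069
def N10527 : Q := sm gc N9073
def N10528 : Q := sm ge N9075
def N10529 : Q := sm gi N9075
def N10530 : Q := sm gf N9076
def N10531 : Q := sm gi N9076
def N10532 : Q := sm gh N9077
def N10533 : Q := sm gh N9089
def N10534 : Q := sm gd N9113
def N10535 : Q := sm gg N9130
def N10536 : Q := sm gh N9130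
def N10537 : Q := sm gh N9131
def N10538 : Q := sm gd N9132
def N10539 : Q := sm gi N9132
def N10540 : Q := sm gc N9135
def N10541 : Q := sm ge N9135
def N10542 : Q := sm gc N9137
def N10543 : Q := sm ge N9137
def N10544 : Q := sm ge N9139
def N10545 : Q := sm gi N9139
def N10546 : Q := sm gf N9140
def N10547 : Q := sm gi N9140
def N10548 : Q := sm gh N9141
def N10549 : Q := sm gd N9142
def N10550 : Q := sm gf N9142
def N10551 : Q := sm gi N9142
def N10552 : Q := sm gh N9143
def N10553 : Q := sm gg N9144
def N10554 : Q := sm gi N9144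
def N10555 : Q := sm gh N9145
def N10556 : Q := sm ge N9149
def N10557 : Q := sm gf N9155
def N10558 : Q := sm gf N9157
def N10559 : Q := sm gg N9159
def N10560 : Q := sm gi N9159
def N10561 : Q := sm gh N9160
def N10562 : Q := sm gi N9162
def N10563 : Q := sm gh N9163
def N10564 : Q := sm gd N9164
def N10565 : Q := sm gf N9177
def N10566 : Q := sm gg N9186
def N10567 : Q := sm gg N9189
def N10568 : Q := sm gi N9192
def N10569 : Q := sm gh N9193
def N10570 : Q := sm gh N9195
def N10571 : Q := sm gd N9196
def N10572 : Q := sm gc N9197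
def N10573 : Q := sm gh N9206
def N10574 : Q := sm gi N9208
def N10575 : Q := sm ge N9215
def N10576 : Q := sm gf N9216
def N10577 : Q := sm gd N9218
def N10578 : Q := sm gf N9218
def N10579 : Q := sm gi N9218
def N10580 : Q := sm gh N9219
def N10581 : Q := sm gg N9220
def N10582 : Q := sm gi N9220
def N10583 : Q := sm gh N9221
def N10584 : Q := sm gi N9238
def N10585 : Q := sm gh N9239
def N10586 : Q := sm gd N9240
def N10587 : Q := sm gh N9271
def N10588 : Q := sm gd N9272
def N10589 : Q := sm gc N9273
def N10590 : Q := sm gh N9288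
def N10591 : Q := sm gd N9289
def N10592 : Q := sm gi N9289
def N10593 : Q := sm gi N9291
def N10594 : Q := sm gc N9292
def N10595 : Q := sm ge N9292
def N10596 : Q := sm gi N9292
def N10597 : Q := sm ge N9297
def N10598 : Q := sm gf N9298
def N10599 : Q := sm ge N9300
def N10600 : Q := sm gf N9301
def N10601 : Q := sm gd N9303
def N10602 : Q := sm gf N9303
def N10603 : Q := sm gi N9303
def N10604 : Q := sm gh N9304
def N10605 : Q := sm gg N9305
def N10606 : Q := sm gi N9305
def N10607 : Q := sm gh N9306
def N10608 : Q := sm gf N9308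
def N10609 : Q := sm gh N9308
def N10610 : Q := sm gi N9308
def N10611 : Q := sm gg N9309
def N10612 : Q := sm gi N9309
def N10613 : Q := sm gh N9310
def N10614 : Q := sm gd N9311
def N10615 : Q := sm gi N9312
def N10616 : Q := sm gh N9313
def N10617 : Q := sm gd N9314
def N10618 : Q := sm gf N9319
def N10619 : Q := sm gi N9319
def N10620 : Q := sm gg N9325
def N10621 : Q := sm gg N9328
def N10622 : Q := sm gi N9331
def N10623 : Q := sm gh N9332
def N10624 : Q := sm gd N9333
def N10625 : Q := sm gh N9334
def N10626 : Q := sm gd N9335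
def N10627 : Q := sm gc N9336
def N10628 : Q := sm gg N9342
def N10629 : Q := sm gi N9342
def N10630 : Q := sm gh N9356
def N10631 : Q := sm gd N9357
def N10632 : Q := sm gc N9358
def N10633 : Q := sm gh N9362
def N10634 : Q := sm gd N9363
def N10635 : Q := sm gi N9363
def N10636 : Q := sm gi N9365
def N10637 : Q := sm gc N9366
def N10638 : Q := sm ge N9366
def N10639 : Q := sm gi N9366
def N10640 : Q := sm ge N9372
def N10641 : Q := sm gf N9384
def N10642 : Q := sm gi N9384
def N10643 : Q := sm gi N9407
def N10644 : Q := sm ge N9425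
def N10645 : Q := sm gh N9425
def N10646 : Q := sm gd N9426
def N10647 : Q := sm gi N9426
def N10648 : Q := sm ge N9427
def N10649 : Q := sm gi N9427
def N10650 : Q := sm gh N9429
def N10651 : Q := sm gi N9430
def N10652 : Q := sm gi N9432
def N10653 : Q := sm gd N9436
def N10654 : Q := sm gf N9436
def N10655 : Q := sm gi N9436
def N10656 : Q := sm gh N9437
def N10657 : Q := sm gg N9438
def N10658 : Q := sm gi N9438
def N10659 : Q := sm gh N9439
def N10660 : Q := sm gf N9441
def N10661 : Q := sm gh N9441
def N10662 : Q := sm gi N9441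
def N10663 : Q := sm gg N9442
def N10664 : Q := sm gi N9442
def N10665 : Q := sm gh N9443
def N10666 : Q := sm gd N9444
def N10667 : Q := sm gi N9445
def N10668 : Q := sm gh N9446
def N10669 : Q := sm gd N9447
def N10670 : Q := sm ge N9448
def N10671 : Q := sm gg N9448
def N10672 : Q := sm gh N9448
def N10673 : Q := sm gi N9448
def N10674 : Q := sm gi N9449
def N10675 : Q := sm gh N9450
def N10676 : Q := sm gi N9451
def N10677 : Q := sm gh N9452
def N10678 : Q := sm gd N9453
def N10679 : Q := sm ge N9454
def N10680 : Q := sm gh N9455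
def N10681 : Q := sm gd N9456
def N10682 : Q := sm gc N9457
def N10683 : Q := sm gi N9458
def N10684 : Q := sm gh N9459
def N10685 : Q := sm gd N9460
def N10686 : Q := sm gh N9461
def N10687 : Q := sm gd N9462
def N10688 : Q := sm gc N9463
def N10689 : Q := sm gb N9466
def N10690 : Q := sm gh N9467
def N10691 : Q := sm gd N9468
def N10692 : Q := sm gc N9469
def N10693 : Q := sm gi N9477
def N10694 : Q := sm gi N9478
def N10695 : Q := sm gi N9479
def N10696 : Q := sm gh N9480
def N10697 : Q := sm gh N9481
def N10698 : Q := sm gh N9483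
def N10699 : Q := sm ge N9871
def N10700 : Q := sm gc N9874
def N10701 : Q := sm gh N9874
def N10702 : Q := sm gd N9875
def N10703 : Q := sm gi N9875
def N10704 : Q := sm gc N9876
def N10705 : Q := sm ge N9876
def N10706 : Q := sm gi N9876
def N10707 : Q := sm ge N9878
def N10708 : Q := sm gi N9878
def N10709 : Q := sm gf N9879
def N10710 : Q := sm gi N9879
def N10711 : Q := sm gh N9880
def N10712 : Q := sm gd N9881
def N10713 : Q := sm gi N9881
def N10714 : Q := sm gc N9882
def N10715 : Q := sm ge N9882
def N10716 : Q := sm gi N9882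
def N10717 : Q := sm gf N9884
def N10718 : Q := sm gi N9884
def N10719 : Q := sm gh N9885
def N10720 : Q := sm gg N9886
def N10721 : Q := sm gi N9886
def N10722 : Q := sm gh N9887
def N10723 : Q := sm gb N9889
def N10724 : Q := sm gi N9889
def N10725 : Q := sm gh N9890
def N10726 : Q := sm gc N9891
def N10727 : Q := sm ge N9891
def N10728 : Q := sm gi N9891
def N10729 : Q := sm ge N9893
def N10730 : Q := sm gi N9893
def N10731 : Q := sm gf N9894
def N10732 : Q := sm gi N9894
def N10733 : Q := sm gh N9895
def N10734 : Q := sm gg N9896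
def N10735 : Q := sm gi N9896
def N10736 : Q := sm gh N9897
def N10737 : Q := sm gi N9899
def N10738 : Q := sm gh N9900
def N10739 : Q := sm gd N9901
def N10740 : Q := sm gh N9902
def N10741 : Q := sm gh N9904
def N10742 : Q := sm gd N9905
def N10743 : Q := sm gi N9905
def N10744 : Q := sm gc N9906
def N10745 : Q := sm ge N9906
def N10746 : Q := sm gi N9906
def N10747 : Q := sm ge N9908
def N10748 : Q := sm gi N9908
def N10749 : Q := sm gf N9909
def N10750 : Q := sm gi N9909
def N10751 : Q := sm gh N9910
def N10752 : Q := sm gd N9911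
def N10753 : Q := sm gf N9911
def N10754 : Q := sm gi N9911
def N10755 : Q := sm gh N9912
def N10756 : Q := sm gg N9913
def N10757 : Q := sm gi N9913
def N10758 : Q := sm gh N9914
def N10759 : Q := sm ge N9916
def N10760 : Q := sm gi N9916
def N10761 : Q := sm gf N9918
def N10762 : Q := sm gi N9918
def N10763 : Q := sm gh N9919
def N10764 : Q := sm gg N9920
def N10765 : Q := sm gi N9920
def N10766 : Q := sm gh N9921
def N10767 : Q := sm gi N9923
def N10768 : Q := sm gh N9924
def N10769 : Q := sm gd N9925
def N10770 : Q := sm gf N9926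
def N10771 : Q := sm gi N9926
def N10772 : Q := sm gh N9927
def N10773 : Q := sm gg N9928
def N10774 : Q := sm gi N9928
def N10775 : Q := sm gh N9929
def N10776 : Q := sm gi N9931
def N10777 : Q := sm gh N9932
def N10778 : Q := sm gd N9933
def N10779 : Q := sm gh N9934
def N10780 : Q := sm gd N9935
def N10781 : Q := sm gc N9936
def N10782 : Q := sm gd N9937
def N10783 : Q := sm gi N9937
def N10784 : Q := sm gd N9939
def N10785 : Q := sm gf N9939
def N10786 : Q := sm gi N9939
def N10787 : Q := sm gh N9940
def N10788 : Q := sm gg N9941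
def N10789 : Q := sm gi N9941
def N10790 : Q := sm gh N9942
def N10791 : Q := sm gf N9944
def N10792 : Q := sm gh N9944
def N10793 : Q := sm gi N9944
def N10794 : Q := sm gg N9945
def N10795 : Q := sm gi N9945
def N10796 : Q := sm gh N9946
def N10797 : Q := sm gd N9947
def N10798 : Q := sm gi N9948
def N10799 : Q := sm gh N9949
def N10800 : Q := sm gd N9950
def N10801 : Q := sm gi N9951
def N10802 : Q := sm gh N9952
def N10803 : Q := sm gd N9953
def N10804 : Q := sm gh N9954
def N10805 : Q := sm gd N9955
def N10806 : Q := sm gc N9956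
def N10807 : Q := sm gh N9957
def N10808 : Q := sm gd N9958
def N10809 : Q := sm gc N9959
def N10810 : Q := sm gd N9960
def N10811 : Q := sm gc N9961
def N10812 : Q := sm ge N9961
def N10813 : Q := sm gb N9962
def N10814 : Q := sm gh N9963
def N10815 : Q := sm gd N9964
def N10816 : Q := sm gi N9964
def N10817 : Q := sm gc N9965
def N10818 : Q := sm ge N9965
def N10819 : Q := sm gi N9965
def N10820 : Q := sm gi N9967
def N10821 : Q := sm gd N9968
def N10822 : Q := sm gi N9968
def N10823 : Q := sm ge N9969
def N10824 : Q := sm gi N9969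
def N10825 : Q := sm gf N9971
def N10826 : Q := sm gi N9971
def N10827 : Q := sm gh N9972
def N10828 : Q := sm gd N9973
def N10829 : Q := sm gi N9973
def N10830 : Q := sm gc N9974
def N10831 : Q := sm gi N9974
def N10832 : Q := sm gi N9978
def N10833 : Q := sm gf N9980
def N10834 : Q := sm gi N9980
def N10835 : Q := sm gh N9981
def N10836 : Q := sm gg N9982
def N10837 : Q := sm gi N9982
def N10838 : Q := sm gh N9983
def N10839 : Q := sm gi N9985
def N10840 : Q := sm gb N9987
def N10841 : Q := sm gi N9987
def N10842 : Q := sm gh N9988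
def N10843 : Q := sm gc N9989
def N10844 : Q := sm ge N9989
def N10845 : Q := sm gi N9989
def N10846 : Q := sm gb N9991
def N10847 : Q := sm gi N9991
def N10848 : Q := sm gh N9992
def N10849 : Q := sm ga N9993
def N10850 : Q := sm gi N9993
def N10851 : Q := sm gh N9994
def N10852 : Q := sm gc N9996
def N10853 : Q := sm gg N9996
def N10854 : Q := sm gh N9996
def N10855 : Q := sm gf N9997
def N10856 : Q := sm gh N9997
def N10857 : Q := sm gd N9998
def N10858 : Q := sm gi N9998
def N10859 : Q := sm gd N9999
def N10860 : Q := sm gi N9999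
def N10861 : Q := sm gc N10000
def N10862 : Q := sm ge N10000
def N10863 : Q := sm gi N10000
def N10864 : Q := sm ge N10002
def N10865 : Q := sm gi N10002
def N10866 : Q := sm gf N10003
def N10867 : Q := sm gi N10003
def N10868 : Q := sm gh N10004
def N10869 : Q := sm gf N10005
def N10870 : Q := sm gh N10005
def N10871 : Q := sm gd N10006
def N10872 : Q := sm gi N10006
def N10873 : Q := sm gh N10007
def N10874 : Q := sm gd N10008
def N10875 : Q := sm gi N10008
def N10876 : Q := sm gc N10009
def N10877 : Q := sm ge N10009
def N10878 : Q := sm gi N10009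
def N10879 : Q := sm ge N10011
def N10880 : Q := sm gi N10011
def N10881 : Q := sm gf N10013
def N10882 : Q := sm gi N10013
def N10883 : Q := sm gh N10014
def N10884 : Q := sm gg N10015
def N10885 : Q := sm gi N10015
def N10886 : Q := sm gh N10016
def N10887 : Q := sm gd N10018
def N10888 : Q := sm gi N10018
def N10889 : Q := sm gc N10019
def N10890 : Q := sm gi N10019
def N10891 : Q := sm gb N10021
def N10892 : Q := sm gi N10021
def N10893 : Q := sm gh N10022
def N10894 : Q := sm gh N10023
def N10895 : Q := sm gd N10024
def N10896 : Q := sm gi N10024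
def N10897 : Q := sm gc N10025
def N10898 : Q := sm ge N10025
def N10899 : Q := sm gi N10025
def N10900 : Q := sm gd N10027
def N10901 : Q := sm gi N10027
def N10902 : Q := sm gc N10028
def N10903 : Q := sm ge N10028
def N10904 : Q := sm gi N10028
def N10905 : Q := sm gb N10030
def N10906 : Q := sm ge N10030
def N10907 : Q := sm gi N10030
def N10908 : Q := sm gf N10031
def N10909 : Q := sm gi N10031
def N10910 : Q := sm gh N10032
def N10911 : Q := sm gi N10033
def N10912 : Q := sm gh N10034
def N10913 : Q := sm gg N10035
def N10914 : Q := sm gi N10035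
def N10915 : Q := sm gh N10036
def N10916 : Q := sm gi N10038
def N10917 : Q := sm gh N10039
def N10918 : Q := sm gd N10040
def N10919 : Q := sm gc N10041
def N10920 : Q := sm ge N10041
def N10921 : Q := sm gi N10041
def N10922 : Q := sm gb N10043
def N10923 : Q := sm gi N10043
def N10924 : Q := sm gh N10044
def N10925 : Q := sm ga N10045
def N10926 : Q := sm gi N10045
def N10927 : Q := sm gh N10046
def N10928 : Q := sm gi N10048
def N10929 : Q := sm gh N10049
def N10930 : Q := sm ga N10050
def N10931 : Q := sm gi N10050
def N10932 : Q := sm gh N10051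
def N10933 : Q := sm gi N10053
def N10934 : Q := sm gh N10054
def N10935 : Q := sm gg N10056
def N10936 : Q := sm gh N10056
def N10937 : Q := sm gf N10057
def N10938 : Q := sm gh N10057
def N10939 : Q := sm gd N10058
def N10940 : Q := sm gi N10058
def N10941 : Q := sm gh N10059
def N10942 : Q := sm gd N10060
def N10943 : Q := sm gi N10060
def N10944 : Q := sm gc N10061
def N10945 : Q := sm ge N10061
def N10946 : Q := sm gi N10061
def N10947 : Q := sm gc N10063
def N10948 : Q := sm ge N10063
def N10949 : Q := sm gi N10063
def N10950 : Q := sm ge N10065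
def N10951 : Q := sm gi N10065
def N10952 : Q := sm gf N10066
def N10953 : Q := sm gi N10066
def N10954 : Q := sm gh N10067
def N10955 : Q := sm gd N10068
def N10956 : Q := sm gf N10068
def N10957 : Q := sm gi N10068
def N10958 : Q := sm gh N10069
def N10959 : Q := sm gg N10070
def N10960 : Q := sm gi N10070
def N10961 : Q := sm gh N10071
def N10962 : Q := sm ge N10073
def N10963 : Q := sm gh N10073
def N10964 : Q := sm gd N10074
def N10965 : Q := sm gi N10074
def N10966 : Q := sm gc N10075
def N10967 : Q := sm ge N10075
def N10968 : Q := sm gi N10075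
def N10969 : Q := sm gd N10077
def N10970 : Q := sm gi N10077
def N10971 : Q := sm gc N10078
def N10972 : Q := sm ge N10078
def N10973 : Q := sm gi N10078
def N10974 : Q := sm gb N10080
def N10975 : Q := sm ge N10080
def N10976 : Q := sm gi N10080
def N10977 : Q := sm gf N10081
def N10978 : Q := sm gi N10081
def N10979 : Q := sm gh N10082
def N10980 : Q := sm gf N10083
def N10981 : Q := sm gi N10083
def N10982 : Q := sm gh N10084
def N10983 : Q := sm gg N10085
def N10984 : Q := sm gi N10085
def N10985 : Q := sm gh N10086
def N10986 : Q := sm gi N10088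
def N10987 : Q := sm gh N10089
def N10988 : Q := sm gd N10090
def N10989 : Q := sm gb N10092
def N10990 : Q := sm gi N10092
def N10991 : Q := sm ga N10094
def N10992 : Q := sm gi N10094
def N10993 : Q := sm gh N10096
def N10994 : Q := sm gd N10097
def N10995 : Q := sm gi N10097
def N10996 : Q := sm gc N10098
def N10997 : Q := sm ge N10098
def N10998 : Q := sm gi N10098
def N10999 : Q := sm gb N10100
def N11000 : Q := sm ge N10100
def N11001 : Q := sm gi N10100
def N11002 : Q := sm gf N10101
def N11003 : Q := sm gi N10101
def N11004 : Q := sm gh N10102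
def N11005 : Q := sm ge N10103
def N11006 : Q := sm gi N10103
def N11007 : Q := sm gb N10105
def N11008 : Q := sm ge N10105
def N11009 : Q := sm gi N10105
def N11010 : Q := sm gf N10106
def N11011 : Q := sm gi N10106
def N11012 : Q := sm gh N10107
def N11013 : Q := sm ga N10108
def N11014 : Q := sm ge N10108
def N11015 : Q := sm gi N10108
def N11016 : Q := sm gf N10109
def N11017 : Q := sm gi N10109
def N11018 : Q := sm gh N10110
def N11019 : Q := sm gg N10111
def N11020 : Q := sm gi N10111
def N11021 : Q := sm gh N10112
def N11022 : Q := sm gg N10114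
def N11023 : Q := sm gi N10114
def N11024 : Q := sm gh N10115
def N11025 : Q := sm gi N10117
def N11026 : Q := sm gh N10118
def N11027 : Q := sm gd N10119
def N11028 : Q := sm gh N10120
def N11029 : Q := sm gd N10121
def N11030 : Q := sm gc N10122
def N11031 : Q := sm ga N10123
def N11032 : Q := sm gi N10123
def N11033 : Q := sm gi N10125
def N11034 : Q := sm gi N10127
def N11035 : Q := sm gf N10130
def N11036 : Q := sm gh N10130
def N11037 : Q := sm gd N10131
def N11038 : Q := sm gi N10131
def N11039 : Q := sm ge N10132
def N11040 : Q := sm gh N10132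
def N11041 : Q := sm gd N10133
def N11042 : Q := sm gi N10133
def N11043 : Q := sm gc N10134
def N11044 : Q := sm ge N10134
def N11045 : Q := sm gi N10134
def N11046 : Q := sm gc N10136
def N11047 : Q := sm ge N10136
def N11048 : Q := sm gb N10137
def N11049 : Q := sm ge N10137
def N11050 : Q := sm ge N10139
def N11051 : Q := sm gd N10141
def N11052 : Q := sm gi N10141
def N11053 : Q := sm gh N10144
def N11054 : Q := sm gi N10145
def N11055 : Q := sm gc N10146
def N11056 : Q := sm ge N10146
def N11057 : Q := sm gi N10146
def N11058 : Q := sm gb N10148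
def N11059 : Q := sm ge N10148
def N11060 : Q := sm gi N10148
def N11061 : Q := sm gi N10149
def N11062 : Q := sm gb N10151
def N11063 : Q := sm ga N10153
def N11064 : Q := sm ge N10153
def N11065 : Q := sm ga N10155
def N11066 : Q := sm gi N10157
def N11067 : Q := sm gi N10159
def N11068 : Q := sm gi N10160
def N11069 : Q := sm ga N10162
def N11070 : Q := sm gi N10162
def N11071 : Q := sm gi N10163
def N11072 : Q := sm gh N10168
def N11073 : Q := sm gi N10169
def N11074 : Q := sm gc N10170
def N11075 : Q := sm ge N10170
def N11076 : Q := sm gi N10170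
def N11077 : Q := sm gi N10172
def N11078 : Q := sm gi N10174
def N11079 : Q := sm gd N10176
def N11080 : Q := sm gi N10176
def N11081 : Q := sm gc N10177
def N11082 : Q := sm gi N10177
def N11083 : Q := sm gd N10182
def N11084 : Q := sm gi N10182
def N11085 : Q := sm gc N10183
def N11086 : Q := sm gi N10183
def N11087 : Q := sm gb N10185
def N11088 : Q := sm gi N10185
def N11089 : Q := sm gh N10186
def N11090 : Q := sm gi N10187
def N11091 : Q := sm gh N10189
def N11092 : Q := sm ga N10190
def N11093 : Q := sm gi N10190
def N11094 : Q := sm gh N10191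
def N11095 : Q := sm gc N10193
def N11096 : Q := sm gh N10193
def N11097 : Q := sm gh N10194
def N11098 : Q := sm gd N10195
def N11099 : Q := sm gi N10195
def N11100 : Q := sm gi N10196
def N11101 : Q := sm gc N10197
def N11102 : Q := sm ge N10197
def N11103 : Q := sm gi N10197
def N11104 : Q := sm ge N10199
def N11105 : Q := sm gi N10199
def N11106 : Q := sm gf N10200
def N11107 : Q := sm gi N10200
def N11108 : Q := sm gh N10201
def N11109 : Q := sm gd N10202
def N11110 : Q := sm gi N10202
def N11111 : Q := sm gd N10203
def N11112 : Q := sm gi N10203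
def N11113 : Q := sm gc N10204
def N11114 : Q := sm ge N10204
def N11115 : Q := sm gi N10204
def N11116 : Q := sm gi N10207
def N11117 : Q := sm gi N10209
def N11118 : Q := sm gh N10210
def N11119 : Q := sm gc N10212
def N11120 : Q := sm gi N10212
def N11121 : Q := sm gb N10214
def N11122 : Q := sm gi N10214
def N11123 : Q := sm gh N10215
def N11124 : Q := sm gi N10216
def N11125 : Q := sm gc N10218
def N11126 : Q := sm gi N10218
def N11127 : Q := sm gb N10220
def N11128 : Q := sm gi N10220
def N11129 : Q := sm gi N10221
def N11130 : Q := sm gh N10222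
def N11131 : Q := sm gh N10224
def N11132 : Q := sm gd N10225
def N11133 : Q := sm gi N10226
def N11134 : Q := sm gh N10227
def N11135 : Q := sm ga N10228
def N11136 : Q := sm gi N10228
def N11137 : Q := sm gh N10229
def N11138 : Q := sm gi N10232
def N11139 : Q := sm gh N10233
def N11140 : Q := sm gg N10235
def N11141 : Q := sm gh N10235
def N11142 : Q := sm gf N10236
def N11143 : Q := sm gh N10236
def N11144 : Q := sm gd N10237
def N11145 : Q := sm gi N10237
def N11146 : Q := sm gh N10238
def N11147 : Q := sm gd N10239
def N11148 : Q := sm gi N10239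
def N11149 : Q := sm gc N10240
def N11150 : Q := sm ge N10240
def N11151 : Q := sm gi N10240
def N11152 : Q := sm gc N10242
def N11153 : Q := sm ge N10242
def N11154 : Q := sm gi N10242
def N11155 : Q := sm ge N10244
def N11156 : Q := sm gi N10244
def N11157 : Q := sm gf N10245
def N11158 : Q := sm gi N10245
def N11159 : Q := sm gh N10246
def N11160 : Q := sm gd N10247
def N11161 : Q := sm gf N10247
def N11162 : Q := sm gi N10247
def N11163 : Q := sm gh N10248
def N11164 : Q := sm gg N10249
def N11165 : Q := sm gi N10249
def N11166 : Q := sm gh N10250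
def N11167 : Q := sm gh N10252
def N11168 : Q := sm gd N10253
def N11169 : Q := sm gi N10253
def N11170 : Q := sm gc N10254
def N11171 : Q := sm ge N10254
def N11172 : Q := sm gi N10254
def N11173 : Q := sm gd N10256
def N11174 : Q := sm gi N10256
def N11175 : Q := sm gc N10257
def N11176 : Q := sm ge N10257
def N11177 : Q := sm gi N10257
def N11178 : Q := sm gb N10259
def N11179 : Q := sm ge N10259
def N11180 : Q := sm gi N10259
def N11181 : Q := sm gf N10260
def N11182 : Q := sm gi N10260
def N11183 : Q := sm gh N10261
def N11184 : Q := sm gf N10262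
def N11185 : Q := sm gi N10262
def N11186 : Q := sm gg N10264
def N11187 : Q := sm gi N10264
def N11188 : Q := sm gh N10265
def N11189 : Q := sm gi N10267
def N11190 : Q := sm gh N10268
def N11191 : Q := sm gd N10269
def N11192 : Q := sm gb N10271
def N11193 : Q := sm gi N10271
def N11194 : Q := sm gh N10272
def N11195 : Q := sm ga N10273
def N11196 : Q := sm gi N10273
def N11197 : Q := sm gh N10274
def N11198 : Q := sm gd N10276
def N11199 : Q := sm gi N10276
def N11200 : Q := sm gc N10277
def N11201 : Q := sm gi N10277
def N11202 : Q := sm gb N10279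
def N11203 : Q := sm ge N10279
def N11204 : Q := sm gi N10279
def N11205 : Q := sm gf N10280
def N11206 : Q := sm gi N10280
def N11207 : Q := sm gh N10281
def N11208 : Q := sm ge N10282
def N11209 : Q := sm gi N10282
def N11210 : Q := sm ge N10284
def N11211 : Q := sm gi N10284
def N11212 : Q := sm gf N10285
def N11213 : Q := sm gi N10285
def N11214 : Q := sm gh N10286
def N11215 : Q := sm ga N10287
def N11216 : Q := sm ge N10287
def N11217 : Q := sm gi N10287
def N11218 : Q := sm gf N10288
def N11219 : Q := sm gi N10288
def N11220 : Q := sm gh N10289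
def N11221 : Q := sm gg N10290
def N11222 : Q := sm gi N10290
def N11223 : Q := sm gh N10291
def N11224 : Q := sm gg N10293
def N11225 : Q := sm gi N10293
def N11226 : Q := sm gi N10295
def N11227 : Q := sm gh N10296
def N11228 : Q := sm gd N10297
def N11229 : Q := sm gh N10298
def N11230 : Q := sm gd N10299
def N11231 : Q := sm gc N10300
def N11232 : Q := sm gh N10301
def N11233 : Q := sm gi N10303
def N11234 : Q := sm gh N10304
def N11235 : Q := sm gd N10305
def N11236 : Q := sm gh N10306
def N11237 : Q := sm gg N10308
def N11238 : Q := sm gh N10308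
def N11239 : Q := sm gd N10310
def N11240 : Q := sm gi N10310
def N11241 : Q := sm gd N10311
def N11242 : Q := sm gi N10311
def N11243 : Q := sm gc N10312
def N11244 : Q := sm ge N10312
def N11245 : Q := sm gi N10312
def N11246 : Q := sm gc N10314
def N11247 : Q := sm gi N10314
def N11248 : Q := sm ge N10316
def N11249 : Q := sm gi N10316
def N11250 : Q := sm gf N10317
def N11251 : Q := sm gi N10317
def N11252 : Q := sm gh N10318
def N11253 : Q := sm gd N10319
def N11254 : Q := sm gf N10319
def N11255 : Q := sm gi N10319
def N11256 : Q := sm gh N10320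
def N11257 : Q := sm gg N10321
def N11258 : Q := sm gi N10321
def N11259 : Q := sm gh N10322
def N11260 : Q := sm gc N10324
def N11261 : Q := sm gi N10324
def N11262 : Q := sm gi N10326
def N11263 : Q := sm gb N10328
def N11264 : Q := sm ge N10328
def N11265 : Q := sm gi N10328
def N11266 : Q := sm gf N10329
def N11267 : Q := sm gi N10329
def N11268 : Q := sm gh N10330
def N11269 : Q := sm gi N10332
def N11270 : Q := sm gi N10335
def N11271 : Q := sm gh N10336
def N11272 : Q := sm gd N10337
def N11273 : Q := sm gi N10338
def N11274 : Q := sm gi N10340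
def N11275 : Q := sm gh N10341
def N11276 : Q := sm gh N10342
def N11277 : Q := sm gf N10343
def N11278 : Q := sm gi N10343
def N11279 : Q := sm gh N10344
def N11280 : Q := sm gi N10345
def N11281 : Q := sm gh N10346
def N11282 : Q := sm gh N10349
def N11283 : Q := sm gd N10350
def N11284 : Q := sm gc N10351
def N11285 : Q := sm gf N10352
def N11286 : Q := sm gh N10352
def N11287 : Q := sm gd N10353
def N11288 : Q := sm gi N10353
def N11289 : Q := sm ge N10354
def N11290 : Q := sm gh N10354
def N11291 : Q := sm gd N10355
def N11292 : Q := sm gi N10355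
def N11293 : Q := sm gc N10356
def N11294 : Q := sm ge N10356
def N11295 : Q := sm gi N10356
def N11296 : Q := sm gc N10358
def N11297 : Q := sm ge N10358
def N11298 : Q := sm gi N10358
def N11299 : Q := sm gb N10360
def N11300 : Q := sm ge N10360
def N11301 : Q := sm gi N10360
def N11302 : Q := sm gf N10361
def N11303 : Q := sm gi N10361
def N11304 : Q := sm gh N10362
def N11305 : Q := sm ge N10363
def N11306 : Q := sm gi N10363
def N11307 : Q := sm gf N10364
def N11308 : Q := sm gi N10364
def N11309 : Q := sm gh N10365
def N11310 : Q := sm gd N10366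
def N11311 : Q := sm gf N10366
def N11312 : Q := sm gi N10366
def N11313 : Q := sm gh N10367
def N11314 : Q := sm gg N10368
def N11315 : Q := sm gi N10368
def N11316 : Q := sm gh N10369
def N11317 : Q := sm gf N10371
def N11318 : Q := sm gh N10371
def N11319 : Q := sm gi N10371
def N11320 : Q := sm gg N10372
def N11321 : Q := sm gi N10372
def N11322 : Q := sm gh N10373
def N11323 : Q := sm gd N10374
def N11324 : Q := sm gi N10375
def N11325 : Q := sm gh N10376
def N11326 : Q := sm gd N10377
def N11327 : Q := sm gh N10378
def N11328 : Q := sm gi N10379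
def N11329 : Q := sm ge N10380
def N11330 : Q := sm gi N10380
def N11331 : Q := sm gb N10382
def N11332 : Q := sm ge N10382
def N11333 : Q := sm gi N10382
def N11334 : Q := sm gf N10383
def N11335 : Q := sm gi N10383
def N11336 : Q := sm gh N10384
def N11337 : Q := sm gf N10385
def N11338 : Q := sm gi N10385
def N11339 : Q := sm gh N10386
def N11340 : Q := sm ga N10387
def N11341 : Q := sm ge N10387
def N11342 : Q := sm gi N10387
def N11343 : Q := sm gf N10388
def N11344 : Q := sm gi N10388
def N11345 : Q := sm gh N10389
def N11346 : Q := sm gg N10390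
def N11347 : Q := sm gi N10390
def N11348 : Q := sm gh N10391
def N11349 : Q := sm gg N10393
def N11350 : Q := sm gi N10393
def N11351 : Q := sm gh N10394
def N11352 : Q := sm gi N10396
def N11353 : Q := sm gh N10397
def N11354 : Q := sm gd N10398
def N11355 : Q := sm gh N10399
def N11356 : Q := sm gd N10400
def N11357 : Q := sm gc N10401
def N11358 : Q := sm gi N10402
def N11359 : Q := sm gf N10406
def N11360 : Q := sm gh N10407
def N11361 : Q := sm ga N10408
def N11362 : Q := sm ge N10408
def N11363 : Q := sm gi N10408
def N11364 : Q := sm gf N10409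
def N11365 : Q := sm gi N10409
def N11366 : Q := sm gh N10410
def N11367 : Q := sm gg N10411
def N11368 : Q := sm gi N10411
def N11369 : Q := sm gh N10412
def N11370 : Q := sm gg N10414
def N11371 : Q := sm gi N10414
def N11372 : Q := sm gh N10415
def N11373 : Q := sm ge N10417
def N11374 : Q := sm gi N10417
def N11375 : Q := sm gf N10418
def N11376 : Q := sm gi N10418
def N11377 : Q := sm gh N10419
def N11378 : Q := sm gg N10420
def N11379 : Q := sm gi N10420
def N11380 : Q := sm gh N10421
def N11381 : Q := sm gi N10423
def N11382 : Q := sm gh N10424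
def N11383 : Q := sm gd N10425
def N11384 : Q := sm gi N10426
def N11385 : Q := sm gh N10427
def N11386 : Q := sm gh N10429
def N11387 : Q := sm gd N10430
def N11388 : Q := sm gc N10431
def N11389 : Q := sm gh N10436
def N11390 : Q := sm gd N10437
def N11391 : Q := sm gi N10437
def N11392 : Q := sm gi N10438
def N11393 : Q := sm gc N10439
def N11394 : Q := sm ge N10439
def N11395 : Q := sm gi N10439
def N11396 : Q := sm ge N10441
def N11397 : Q := sm gi N10445
def N11398 : Q := sm gd N10448
def N11399 : Q := sm gi N10448
def N11400 : Q := sm gc N10449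
def N11401 : Q := sm ge N10449
def N11402 : Q := sm gi N10449
def N11403 : Q := sm gb N10452
def N11404 : Q := sm gi N10452
def N11405 : Q := sm ga N10454
def N11406 : Q := sm ga N10455
def N11407 : Q := sm gi N10455
def N11408 : Q := sm gi N10458
def N11409 : Q := sm ga N10460
def N11410 : Q := sm ge N10460
def N11411 : Q := sm gi N10460
def N11412 : Q := sm gd N10461
def N11413 : Q := sm gf N10461
def N11414 : Q := sm gi N10461
def N11415 : Q := sm gh N10462
def N11416 : Q := sm gg N10463
def N11417 : Q := sm gi N10463
def N11418 : Q := sm gh N10464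
def N11419 : Q := sm gd N10466
def N11420 : Q := sm gf N10466
def N11421 : Q := sm gi N10466
def N11422 : Q := sm gh N10467
def N11423 : Q := sm gg N10468
def N11424 : Q := sm gi N10468
def N11425 : Q := sm gh N10469
def N11426 : Q := sm gf N10471
def N11427 : Q := sm gh N10471
def N11428 : Q := sm gi N10471
def N11429 : Q := sm gg N10472
def N11430 : Q := sm gi N10472
def N11431 : Q := sm gh N10473
def N11432 : Q := sm gd N10474
def N11433 : Q := sm gi N10475
def N11434 : Q := sm gh N10476
def N11435 : Q := sm gd N10477
def N11436 : Q := sm ge N10478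
def N11437 : Q := sm gg N10478
def N11438 : Q := sm gh N10478
def N11439 : Q := sm gi N10478
def N11440 : Q := sm gi N10479
def N11441 : Q := sm gh N10480
def N11442 : Q := sm gi N10481
def N11443 : Q := sm gh N10482
def N11444 : Q := sm gd N10483
def N11445 : Q := sm ge N10484
def N11446 : Q := sm gh N10485
def N11447 : Q := sm gd N10486
def N11448 : Q := sm gc N10487
def N11449 : Q := sm ge N10488
def N11450 : Q := sm gi N10488
def N11451 : Q := sm gf N10489
def N11452 : Q := sm gi N10489
def N11453 : Q := sm gh N10490
def N11454 : Q := sm gg N10491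
def N11455 : Q := sm gi N10491
def N11456 : Q := sm gh N10492
def N11457 : Q := sm gi N10494
def N11458 : Q := sm gh N10495
def N11459 : Q := sm gd N10496
def N11460 : Q := sm gi N10497
def N11461 : Q := sm gh N10498
def N11462 : Q := sm gd N10499
def N11463 : Q := sm gh N10500
def N11464 : Q := sm gd N10501
def N11465 : Q := sm gc N10502
def N11466 : Q := sm gb N10505
def N11467 : Q := sm gf N10507
def N11468 : Q := sm gi N10507
def N11469 : Q := sm gh N10508
def N11470 : Q := sm gg N10509
def N11471 : Q := sm gi N10509
def N11472 : Q := sm gh N10510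
def N11473 : Q := sm gi N10512
def N11474 : Q := sm gh N10513
def N11475 : Q := sm gd N10514
def N11476 : Q := sm gh N10515
def N11477 : Q := sm gd N10516
def N11478 : Q := sm gc N10517
def N11479 : Q := sm gh N10518
def N11480 : Q := sm gd N10519
def N11481 : Q := sm gc N10520
def N11482 : Q := sm ge N10524
def N11483 : Q := sm gd N10528
def N11484 : Q := sm gf N10528
def N11485 : Q := sm gi N10528
def N11486 : Q := sm gh N10529
def N11487 : Q := sm gh N10531
def N11488 : Q := sm gd N10533
def N11489 : Q := sm gh N10535
def N11490 : Q := sm gd N10536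
def N11491 : Q := sm gi N10536
def N11492 : Q := sm gc N10538
def N11493 : Q := sm ge N10538
def N11494 : Q := sm ge N10540
def N11495 : Q := sm gf N10541
def N11496 : Q := sm ge N10542
def N11497 : Q := sm gf N10543
def N11498 : Q := sm gd N10544
def N11499 : Q := sm gf N10544
def N11500 : Q := sm gi N10544
def N11501 : Q := sm gh N10545
def N11502 : Q := sm gg N10546
def N11503 : Q := sm gi N10546
def N11504 : Q := sm gh N10547
def N11505 : Q := sm gf N10549
def N11506 : Q := sm gh N10549
def N11507 : Q := sm gi N10549
def N11508 : Q := sm gg N10550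
def N11509 : Q := sm gi N10550
def N11510 : Q := sm gh N10551
def N11511 : Q := sm gd N10552
def N11512 : Q := sm gi N10553
def N11513 : Q := sm gh N10554
def N11514 : Q := sm gd N10555
def N11515 : Q := sm gf N10556
def N11516 : Q := sm gg N10557
def N11517 : Q := sm gg N10558
def N11518 : Q := sm gi N10559
def N11519 : Q := sm gh N10560
def N11520 : Q := sm gh N10562
def N11521 : Q := sm gd N10563
def N11522 : Q := sm gc N10564
def N11523 : Q := sm gg N10565
def N11524 : Q := sm gh N10568
def N11525 : Q := sm gd N10573
def N11526 : Q := sm gi N10573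
def N11527 : Q := sm gd N10575
def N11528 : Q := sm gf N10575
def N11529 : Q := sm gf N10577
def N11530 : Q := sm gh N10577
def N11531 : Q := sm gi N10577
def N11532 : Q := sm gg N10578
def N11533 : Q := sm gi N10578
def N11534 : Q := sm gh N10579
def N11535 : Q := sm gd N10580
def N11536 : Q := sm gi N10581
def N11537 : Q := sm gh N10582
def N11538 : Q := sm gd N10583
def N11539 : Q := sm gh N10584
def N11540 : Q := sm gd N10585
def N11541 : Q := sm gc N10586
def N11542 : Q := sm gd N10590
def N11543 : Q := sm gi N10590
def N11544 : Q := sm gc N10591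
def N11545 : Q := sm ge N10591
def N11546 : Q := sm gi N10591
def N11547 : Q := sm ge N10594
def N11548 : Q := sm gi N10594
def N11549 : Q := sm gf N10595
def N11550 : Q := sm gi N10595
def N11551 : Q := sm gd N10597
def N11552 : Q := sm gf N10597
def N11553 : Q := sm gg N10598
def N11554 : Q := sm gd N10599
def N11555 : Q := sm gf N10599
def N11556 : Q := sm gg N10600
def N11557 : Q := sm gf N10601
def N11558 : Q := sm gh N10601
def N11559 : Q := sm gi N10601
def N11560 : Q := sm gg N10602
def N11561 : Q := sm gi N10602
def N11562 : Q := sm gh N10603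
def N11563 : Q := sm gd N10604
def N11564 : Q := sm gi N10605
def N11565 : Q := sm gh N10606
def N11566 : Q := sm gd N10607
def N11567 : Q := sm ge N10608
def N11568 : Q := sm gg N10608
def N11569 : Q := sm gh N10608
def N11570 : Q := sm gi N10608
def N11571 : Q := sm gi N10609
def N11572 : Q := sm gh N10610
def N11573 : Q := sm gi N10611
def N11574 : Q := sm gh N10612
def N11575 : Q := sm gd N10613
def N11576 : Q := sm ge N10614
def N11577 : Q := sm gh N10615
def N11578 : Q := sm gd N10616
def N11579 : Q := sm gc N10617
def N11580 : Q := sm gg N10618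
def N11581 : Q := sm gi N10618
def N11582 : Q := sm gh N10622
def N11583 : Q := sm gd N10623
def N11584 : Q := sm gc N10624
def N11585 : Q := sm gb N10627
def N11586 : Q := sm gi N10628
def N11587 : Q := sm gd N10633
def N11588 : Q := sm gi N10633
def N11589 : Q := sm gc N10634
def N11590 : Q := sm ge N10634
def N11591 : Q := sm gi N10634
def N11592 : Q := sm gi N10637
def N11593 : Q := sm gi N10638
def N11594 : Q := sm gi N10641
def N11595 : Q := sm gi N10645
def N11596 : Q := sm ge N10646
def N11597 : Q := sm gi N10646
def N11598 : Q := sm gf N10648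
def N11599 : Q := sm gi N10648
def N11600 : Q := sm gh N10649
def N11601 : Q := sm gi N10650
def N11602 : Q := sm gf N10653
def N11603 : Q := sm gh N10653
def N11604 : Q := sm gi N10653
def N11605 : Q := sm gg N10654
def N11606 : Q := sm gi N10654
def N11607 : Q := sm gh N10655
def N11608 : Q := sm gd N10656
def N11609 : Q := sm gi N10657
def N11610 : Q := sm gh N10658
def N11611 : Q := sm gd N10659
def N11612 : Q := sm ge N10660
def N11613 : Q := sm gg N10660
def N11614 : Q := sm gh N10660
def N11615 : Q := sm gi N10660
def N11616 : Q := sm gi N10661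
def N11617 : Q := sm gh N10662
def N11618 : Q := sm gi N10663
def N11619 : Q := sm gh N10664
def N11620 : Q := sm gd N10665
def N11621 : Q := sm ge N10666
def N11622 : Q := sm gh N10667
def N11623 : Q := sm gd N10668
def N11624 : Q := sm gc N10669
def N11625 : Q := sm gi N10670
def N11626 : Q := sm gi N10671
def N11627 : Q := sm gi N10672
def N11628 : Q := sm gh N10673
def N11629 : Q := sm gh N10674
def N11630 : Q := sm gh N10676
def N11631 : Q := sm gd N10677
def N11632 : Q := sm gh N10683
def N11633 : Q := sm gd N10684
def N11634 : Q := sm gc N10685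
def N11635 : Q := sm gb N10688
def N11636 : Q := sm gh N10694
def N11637 : Q := sm gh N10695
def N11638 : Q := sm gh N10700
def N11639 : Q := sm gd N10701
def N11640 : Q := sm gi N10701
def N11641 : Q := sm gc N10702
def N11642 : Q := sm ge N10702
def N11643 : Q := sm gi N10702
def N11644 : Q := sm ge N10704
def N11645 : Q := sm gi N10704
def N11646 : Q := sm gf N10705
def N11647 : Q := sm gi N10705
def N11648 : Q := sm gh N10706
def N11649 : Q := sm gd N10707
def N11650 : Q := sm gf N10707
def N11651 : Q := sm gi N10707
def N11652 : Q := sm gh N10708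
def N11653 : Q := sm gg N10709
def N11654 : Q := sm gi N10709
def N11655 : Q := sm gh N10710
def N11656 : Q := sm gc N10712
def N11657 : Q := sm ge N10712
def N11658 : Q := sm gi N10712
def N11659 : Q := sm gb N10714
def N11660 : Q := sm ge N10714
def N11661 : Q := sm gi N10714
def N11662 : Q := sm gf N10715
def N11663 : Q := sm gi N10715
def N11664 : Q := sm gh N10716
def N11665 : Q := sm gg N10717
def N11666 : Q := sm gi N10717
def N11667 : Q := sm gh N10718
def N11668 : Q := sm gi N10720
def N11669 : Q := sm gh N10721
def N11670 : Q := sm gd N10722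
def N11671 : Q := sm gi N10723
def N11672 : Q := sm gh N10724
def N11673 : Q := sm gi N10726
def N11674 : Q := sm gi N10727
def N11675 : Q := sm gh N10728
def N11676 : Q := sm gi N10729
def N11677 : Q := sm gh N10730
def N11678 : Q := sm gi N10731
def N11679 : Q := sm gh N10732
def N11680 : Q := sm gi N10734
def N11681 : Q := sm gh N10735
def N11682 : Q := sm gd N10736
def N11683 : Q := sm gh N10737
def N11684 : Q := sm gd N10738
def N11685 : Q := sm gc N10739
def N11686 : Q := sm gd N10740
def N11687 : Q := sm gd N10741
def N11688 : Q := sm gi N10741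
def N11689 : Q := sm gc N10742
def N11690 : Q := sm ge N10742
def N11691 : Q := sm gi N10742
def N11692 : Q := sm ge N10744
def N11693 : Q := sm gi N10744
def N11694 : Q := sm gf N10745
def N11695 : Q := sm gi N10745
def N11696 : Q := sm gh N10746
def N11697 : Q := sm gd N10747
def N11698 : Q := sm gf N10747
def N11699 : Q := sm gi N10747
def N11700 : Q := sm gh N10748
def N11701 : Q := sm gg N10749
def N11702 : Q := sm gi N10749
def N11703 : Q := sm gh N10750
def N11704 : Q := sm gf N10752
def N11705 : Q := sm gh N10752
def N11706 : Q := sm gi N10752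
def N11707 : Q := sm gg N10753
def N11708 : Q := sm gi N10753
def N11709 : Q := sm gh N10754
def N11710 : Q := sm gd N10755
def N11711 : Q := sm gi N10756
def N11712 : Q := sm gh N10757
def N11713 : Q := sm gd N10758
def N11714 : Q := sm gf N10759
def N11715 : Q := sm gi N10759
def N11716 : Q := sm gh N10760
def N11717 : Q := sm gg N10761
def N11718 : Q := sm gi N10761
def N11719 : Q := sm gh N10762
def N11720 : Q := sm gi N10764
def N11721 : Q := sm gh N10765
def N11722 : Q := sm gd N10766
def N11723 : Q := sm gh N10767
def N11724 : Q := sm gd N10768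
def N11725 : Q := sm gc N10769
def N11726 : Q := sm gi N10770
def N11727 : Q := sm gh N10771
def N11728 : Q := sm gi N10773
def N11729 : Q := sm gh N10774
def N11730 : Q := sm gd N10775
def N11731 : Q := sm gh N10776
def N11732 : Q := sm gd N10777
def N11733 : Q := sm gc N10778
def N11734 : Q := sm gd N10779
def N11735 : Q := sm gc N10780
def N11736 : Q := sm ge N10780
def N11737 : Q := sm gb N10781
def N11738 : Q := sm ge N10782
def N11739 : Q := sm gi N10782
def N11740 : Q := sm gf N10784
def N11741 : Q := sm gh N10784
def N11742 : Q := sm gi N10784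
def N11743 : Q := sm gg N10785
def N11744 : Q := sm gi N10785
def N11745 : Q := sm gh N10786
def N11746 : Q := sm gd N10787
def N11747 : Q := sm gi N10788
def N11748 : Q := sm gh N10789
def N11749 : Q := sm gd N10790
def N11750 : Q := sm ge N10791
def N11751 : Q := sm gg N10791
def N11752 : Q := sm gh N10791
def N11753 : Q := sm gi N10791
def N11754 : Q := sm gi N10792
def N11755 : Q := sm gh N10793
def N11756 : Q := sm gi N10794
def N11757 : Q := sm gh N10795
def N11758 : Q := sm gd N10796
def N11759 : Q := sm ge N10797
def N11760 : Q := sm gh N10798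
def N11761 : Q := sm gd N10799
def N11762 : Q := sm gc N10800
def N11763 : Q := sm gh N10801
def N11764 : Q := sm gd N10802
def N11765 : Q := sm gc N10803
def N11766 : Q := sm gd N10804
def N11767 : Q := sm gc N10805
def N11768 : Q := sm ge N10805
def N11769 : Q := sm gb N10806
def N11770 : Q := sm gd N10807
def N11771 : Q := sm gc N10808
def N11772 : Q := sm ge N10808
def N11773 : Q := sm gb N10809
def N11774 : Q := sm gc N10810
def N11775 : Q := sm ge N10810
def N11776 : Q := sm gb N10811
def N11777 : Q := sm ge N10811
def N11778 : Q := sm ga N10813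
def N11779 : Q := sm gi N10814
def N11780 : Q := sm ge N10815
def N11781 : Q := sm gi N10815
def N11782 : Q := sm ge N10817
def N11783 : Q := sm gi N10817
def N11784 : Q := sm gf N10818
def N11785 : Q := sm gi N10818
def N11786 : Q := sm gh N10819
def N11787 : Q := sm gi N10821
def N11788 : Q := sm gf N10823
def N11789 : Q := sm gi N10823
def N11790 : Q := sm gh N10824
def N11791 : Q := sm gg N10825
def N11792 : Q := sm gi N10825
def N11793 : Q := sm gh N10826
def N11794 : Q := sm gi N10828
def N11795 : Q := sm gb N10830
def N11796 : Q := sm gi N10830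
def N11797 : Q := sm gh N10831
def N11798 : Q := sm gh N10832
def N11799 : Q := sm gi N10833
def N11800 : Q := sm gh N10834
def N11801 : Q := sm gi N10836
def N11802 : Q := sm gh N10837
def N11803 : Q := sm gd N10838
def N11804 : Q := sm gh N10839
def N11805 : Q := sm ga N10840
def N11806 : Q := sm gi N10840
def N11807 : Q := sm gh N10841
def N11808 : Q := sm gi N10843
def N11809 : Q := sm gi N10844
def N11810 : Q := sm gh N10845
def N11811 : Q := sm ga N10846
def N11812 : Q := sm gi N10846
def N11813 : Q := sm gh N10847
def N11814 : Q := sm gi N10849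
def N11815 : Q := sm gh N10850
def N11816 : Q := sm gd N10851
def N11817 : Q := sm gh N10852
def N11818 : Q := sm gf N10853
def N11819 : Q := sm gh N10853
def N11820 : Q := sm gd N10854
def N11821 : Q := sm gi N10854
def N11822 : Q := sm gh N10855
def N11823 : Q := sm gd N10856
def N11824 : Q := sm gi N10856
def N11825 : Q := sm gc N10857
def N11826 : Q := sm ge N10857
def N11827 : Q := sm gi N10857
def N11828 : Q := sm ge N10859
def N11829 : Q := sm gi N10859
def N11830 : Q := sm ge N10861
def N11831 : Q := sm gi N10861
def N11832 : Q := sm gf N10862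
def N11833 : Q := sm gi N10862
def N11834 : Q := sm gh N10863
def N11835 : Q := sm gd N10864
def N11836 : Q := sm gf N10864
def N11837 : Q := sm gi N10864
def N11838 : Q := sm gh N10865
def N11839 : Q := sm gg N10866
def N11840 : Q := sm gi N10866
def N11841 : Q := sm gh N10867
def N11842 : Q := sm gh N10869
def N11843 : Q := sm gd N10870
def N11844 : Q := sm gi N10870
def N11845 : Q := sm gc N10871
def N11846 : Q := sm ge N10871
def N11847 : Q := sm gi N10871
def N11848 : Q := sm gd N10873
def N11849 : Q := sm gi N10873
def N11850 : Q := sm gc N10874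
def N11851 : Q := sm ge N10874
def N11852 : Q := sm gi N10874
def N11853 : Q := sm gb N10876
def N11854 : Q := sm ge N10876
def N11855 : Q := sm gi N10876
def N11856 : Q := sm gf N10877
def N11857 : Q := sm gi N10877
def N11858 : Q := sm gh N10878
def N11859 : Q := sm gi N10879
def N11860 : Q := sm gh N10880
def N11861 : Q := sm gg N10881
def N11862 : Q := sm gi N10881
def N11863 : Q := sm gh N10882
def N11864 : Q := sm gi N10884
def N11865 : Q := sm gh N10885
def N11866 : Q := sm gd N10886
def N11867 : Q := sm gc N10887
def N11868 : Q := sm ge N10887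
def N11869 : Q := sm gi N10887
def N11870 : Q := sm gb N10889
def N11871 : Q := sm gi N10889
def N11872 : Q := sm gh N10890
def N11873 : Q := sm ga N10891
def N11874 : Q := sm gi N10891
def N11875 : Q := sm gh N10892
def N11876 : Q := sm gd N10894
def N11877 : Q := sm gi N10894
def N11878 : Q := sm gc N10895
def N11879 : Q := sm ge N10895
def N11880 : Q := sm gi N10895
def N11881 : Q := sm gb N10897
def N11882 : Q := sm ge N10897
def N11883 : Q := sm gi N10897
def N11884 : Q := sm gf N10898
def N11885 : Q := sm gi N10898
def N11886 : Q := sm gh N10899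
def N11887 : Q := sm gc N10900
def N11888 : Q := sm ge N10900
def N11889 : Q := sm gi N10900
def N11890 : Q := sm gb N10902
def N11891 : Q := sm gi N10902
def N11892 : Q := sm gi N10903
def N11893 : Q := sm gh N10904
def N11894 : Q := sm ga N10905
def N11895 : Q := sm ge N10905
def N11896 : Q := sm gi N10905
def N11897 : Q := sm gf N10906
def N11898 : Q := sm gi N10906
def N11899 : Q := sm gh N10907
def N11900 : Q := sm gg N10908
def N11901 : Q := sm gi N10908
def N11902 : Q := sm gh N10909
def N11903 : Q := sm gh N10911
def N11904 : Q := sm gi N10913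
def N11905 : Q := sm gh N10914
def N11906 : Q := sm gd N10915
def N11907 : Q := sm gh N10916
def N11908 : Q := sm gd N10917
def N11909 : Q := sm gc N10918
def N11910 : Q := sm gi N10919
def N11911 : Q := sm gi N10920
def N11912 : Q := sm gh N10921
def N11913 : Q := sm ga N10922
def N11914 : Q := sm gi N10922
def N11915 : Q := sm gh N10923
def N11916 : Q := sm gi N10925
def N11917 : Q := sm gh N10926
def N11918 : Q := sm gd N10927
def N11919 : Q := sm gh N10928
def N11920 : Q := sm gi N10930
def N11921 : Q := sm gh N10931
def N11922 : Q := sm gh N10933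
def N11923 : Q := sm gf N10935
def N11924 : Q := sm gh N10935
def N11925 : Q := sm gd N10936
def N11926 : Q := sm gi N10936
def N11927 : Q := sm ge N10937
def N11928 : Q := sm gh N10937
def N11929 : Q := sm gd N10938
def N11930 : Q := sm gi N10938
def N11931 : Q := sm gc N10939
def N11932 : Q := sm ge N10939
def N11933 : Q := sm gi N10939
def N11934 : Q := sm gd N10941
def N11935 : Q := sm gi N10941
def N11936 : Q := sm gc N10942
def N11937 : Q := sm ge N10942
def N11938 : Q := sm gi N10942
def N11939 : Q := sm gb N10944
def N11940 : Q := sm ge N10944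
def N11941 : Q := sm gi N10944
def N11942 : Q := sm gf N10945
def N11943 : Q := sm gi N10945
def N11944 : Q := sm gh N10946
def N11945 : Q := sm ge N10947
def N11946 : Q := sm gi N10947
def N11947 : Q := sm gf N10948
def N11948 : Q := sm gi N10948
def N11949 : Q := sm gh N10949
def N11950 : Q := sm gd N10950
def N11951 : Q := sm gf N10950
def N11952 : Q := sm gi N10950
def N11953 : Q := sm gh N10951
def N11954 : Q := sm gg N10952
def N11955 : Q := sm gi N10952
def N11956 : Q := sm gh N10953
def N11957 : Q := sm gf N10955
def N11958 : Q := sm gh N10955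
def N11959 : Q := sm gi N10955
def N11960 : Q := sm gg N10956
def N11961 : Q := sm gi N10956
def N11962 : Q := sm gh N10957
def N11963 : Q := sm gd N10958
def N11964 : Q := sm gi N10959
def N11965 : Q := sm gh N10960
def N11966 : Q := sm gd N10961
def N11967 : Q := sm gh N10962
def N11968 : Q := sm gd N10963
def N11969 : Q := sm gi N10963
def N11970 : Q := sm gc N10964
def N11971 : Q := sm ge N10964
def N11972 : Q := sm gi N10964
def N11973 : Q := sm gb N10966
def N11974 : Q := sm ge N10966
def N11975 : Q := sm gi N10966
def N11976 : Q := sm gf N10967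
def N11977 : Q := sm gi N10967
def N11978 : Q := sm gh N10968
def N11979 : Q := sm ge N10969
def N11980 : Q := sm gi N10969
def N11981 : Q := sm gb N10971
def N11982 : Q := sm ge N10971
def N11983 : Q := sm gi N10971
def N11984 : Q := sm gf N10972
def N11985 : Q := sm gi N10972
def N11986 : Q := sm gh N10973
def N11987 : Q := sm ga N10974
def N11988 : Q := sm ge N10974
def N11989 : Q := sm gi N10974
def N11990 : Q := sm gf N10975
def N11991 : Q := sm gi N10975
def N11992 : Q := sm gh N10976
def N11993 : Q := sm gg N10977
def N11994 : Q := sm gi N10977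
def N11995 : Q := sm gh N10978
def N11996 : Q := sm gg N10980
def N11997 : Q := sm gi N10980
def N11998 : Q := sm gh N10981
def N11999 : Q := sm gi N10983
def N12000 : Q := sm gh N10984
def N12001 : Q := sm gd N10985
def N12002 : Q := sm gh N10986
def N12003 : Q := sm gd N10987
def N12004 : Q := sm gc N10988
def N12005 : Q := sm ga N10989
def N12006 : Q := sm gi N10989
def N12007 : Q := sm gi N10991
def N12008 : Q := sm gi N10993
def N12009 : Q := sm gi N10994
def N12010 : Q := sm gi N10996
def N12011 : Q := sm gi N10997
def N12012 : Q := sm gh N10998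
def N12013 : Q := sm ga N10999
def N12014 : Q := sm gi N10999
def N12015 : Q := sm gf N11000
def N12016 : Q := sm gi N11000
def N12017 : Q := sm gh N11001
def N12018 : Q := sm gg N11002
def N12019 : Q := sm gi N11002
def N12020 : Q := sm gh N11003
def N12021 : Q := sm gi N11005
def N12022 : Q := sm gh N11006
def N12023 : Q := sm ga N11007
def N12024 : Q := sm gi N11007
def N12025 : Q := sm gi N11008
def N12026 : Q := sm gh N11009
def N12027 : Q := sm gg N11010
def N12028 : Q := sm gi N11010
def N12029 : Q := sm gh N11011
def N12030 : Q := sm ge N11013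
def N12031 : Q := sm gi N11013
def N12032 : Q := sm gf N11014
def N12033 : Q := sm gi N11014
def N12034 : Q := sm gh N11015
def N12035 : Q := sm gg N11016
def N12036 : Q := sm gi N11016
def N12037 : Q := sm gh N11017
def N12038 : Q := sm gi N11019
def N12039 : Q := sm gh N11020
def N12040 : Q := sm gd N11021
def N12041 : Q := sm gi N11022
def N12042 : Q := sm gh N11023
def N12043 : Q := sm gd N11024
def N12044 : Q := sm gh N11025
def N12045 : Q := sm gd N11026
def N12046 : Q := sm gc N11027
def N12047 : Q := sm gi N11031
def N12048 : Q := sm ge N11035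
def N12049 : Q := sm gh N11035
def N12050 : Q := sm gd N11036
def N12051 : Q := sm gi N11036
def N12052 : Q := sm gc N11037
def N12053 : Q := sm ge N11037
def N12054 : Q := sm gi N11037
def N12055 : Q := sm gh N11039
def N12056 : Q := sm gi N11040
def N12057 : Q := sm gc N11041
def N12058 : Q := sm ge N11041
def N12059 : Q := sm gi N11041
def N12060 : Q := sm gb N11043
def N12061 : Q := sm ge N11043
def N12062 : Q := sm gi N11043
def N12063 : Q := sm gi N11044
def N12064 : Q := sm gb N11046
def N12065 : Q := sm ge N11046
def N12066 : Q := sm ga N11048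
def N12067 : Q := sm ge N11048
def N12068 : Q := sm gd N11049
def N12069 : Q := sm gi N11053
def N12070 : Q := sm gb N11055
def N12071 : Q := sm gi N11055
def N12072 : Q := sm gi N11056
def N12073 : Q := sm ga N11058
def N12074 : Q := sm ge N11058
def N12075 : Q := sm gi N11058
def N12076 : Q := sm gi N11059
def N12077 : Q := sm gi N11069
def N12078 : Q := sm gi N11072
def N12079 : Q := sm ge N11074
def N12080 : Q := sm gi N11074
def N12081 : Q := sm gi N11075
def N12082 : Q := sm gc N11079
def N12083 : Q := sm gi N11079
def N12084 : Q := sm gb N11081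
def N12085 : Q := sm gi N11081
def N12086 : Q := sm gh N11082
def N12087 : Q := sm gi N11083
def N12088 : Q := sm gi N11085
def N12089 : Q := sm gh N11086
def N12090 : Q := sm ga N11087
def N12091 : Q := sm gi N11087
def N12092 : Q := sm gh N11088
def N12093 : Q := sm gh N11090
def N12094 : Q := sm gi N11092
def N12095 : Q := sm gh N11093
def N12096 : Q := sm gd N11094
def N12097 : Q := sm gh N11095
def N12098 : Q := sm gd N11096
def N12099 : Q := sm gi N11096
def N12100 : Q := sm gd N11097
def N12101 : Q := sm gi N11097
def N12102 : Q := sm gc N11098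
def N12103 : Q := sm ge N11098
def N12104 : Q := sm gi N11098
def N12105 : Q := sm ge N11101
def N12106 : Q := sm gi N11101
def N12107 : Q := sm gi N11102
def N12108 : Q := sm gd N11104
def N12109 : Q := sm gf N11104
def N12110 : Q := sm gi N11104
def N12111 : Q := sm gh N11105
def N12112 : Q := sm gi N11106
def N12113 : Q := sm gh N11107
def N12114 : Q := sm gi N11109
def N12115 : Q := sm gc N11111
def N12116 : Q := sm gi N11111
def N12117 : Q := sm gb N11113
def N12118 : Q := sm gi N11113
def N12119 : Q := sm gi N11114
def N12120 : Q := sm gh N11115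
def N12121 : Q := sm gh N11117
def N12122 : Q := sm gd N11118
def N12123 : Q := sm gb N11119
def N12124 : Q := sm gi N11119
def N12125 : Q := sm gh N11120
def N12126 : Q := sm ga N11121
def N12127 : Q := sm gi N11121
def N12128 : Q := sm gh N11122
def N12129 : Q := sm gh N11124
def N12130 : Q := sm gi N11125
def N12131 : Q := sm gh N11126
def N12132 : Q := sm ga N11127
def N12133 : Q := sm gi N11127
def N12134 : Q := sm gh N11128
def N12135 : Q := sm gh N11129
def N12136 : Q := sm gh N11133
def N12137 : Q := sm gi N11135
def N12138 : Q := sm gh N11136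
def N12139 : Q := sm gd N11137
def N12140 : Q := sm gh N11138
def N12141 : Q := sm gf N11140
def N12142 : Q := sm gh N11140
def N12143 : Q := sm gd N11141
def N12144 : Q := sm gi N11141
def N12145 : Q := sm gh N11142
def N12146 : Q := sm gd N11143
def N12147 : Q := sm gi N11143
def N12148 : Q := sm gc N11144
def N12149 : Q := sm ge N11144
def N12150 : Q := sm gi N11144
def N12151 : Q := sm gd N11146
def N12152 : Q := sm gi N11146
def N12153 : Q := sm gc N11147
def N12154 : Q := sm ge N11147
def N12155 : Q := sm gi N11147
def N12156 : Q := sm gb N11149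
def N12157 : Q := sm ge N11149
def N12158 : Q := sm gi N11149
def N12159 : Q := sm gf N11150
def N12160 : Q := sm gi N11150
def N12161 : Q := sm gh N11151
def N12162 : Q := sm ge N11152
def N12163 : Q := sm gi N11152
def N12164 : Q := sm gf N11153
def N12165 : Q := sm gi N11153
def N12166 : Q := sm gd N11155
def N12167 : Q := sm gf N11155
def N12168 : Q := sm gi N11155
def N12169 : Q := sm gh N11156
def N12170 : Q := sm gg N11157
def N12171 : Q := sm gi N11157
def N12172 : Q := sm gh N11158
def N12173 : Q := sm gf N11160
def N12174 : Q := sm gh N11160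
def N12175 : Q := sm gi N11160
def N12176 : Q := sm gg N11161
def N12177 : Q := sm gi N11161
def N12178 : Q := sm gh N11162
def N12179 : Q := sm gd N11163
def N12180 : Q := sm gi N11164
def N12181 : Q := sm gh N11165
def N12182 : Q := sm gd N11166
def N12183 : Q := sm gd N11167
def N12184 : Q := sm gi N11167
def N12185 : Q := sm gc N11168
def N12186 : Q := sm gi N11168
def N12187 : Q := sm gb N11170
def N12188 : Q := sm ge N11170
def N12189 : Q := sm gi N11170
def N12190 : Q := sm gf N11171
def N12191 : Q := sm gi N11171
def N12192 : Q := sm gh N11172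
def N12193 : Q := sm ge N11173
def N12194 : Q := sm gi N11173
def N12195 : Q := sm gb N11175
def N12196 : Q := sm ge N11175
def N12197 : Q := sm gi N11175
def N12198 : Q := sm gf N11176
def N12199 : Q := sm gi N11176
def N12200 : Q := sm gh N11177
def N12201 : Q := sm ga N11178
def N12202 : Q := sm ge N11178
def N12203 : Q := sm gi N11178
def N12204 : Q := sm gf N11179
def N12205 : Q := sm gi N11179
def N12206 : Q := sm gh N11180
def N12207 : Q := sm gg N11181
def N12208 : Q := sm gi N11181
def N12209 : Q := sm gh N11182
def N12210 : Q := sm gg N11184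
def N12211 : Q := sm gi N11184
def N12212 : Q := sm gi N11186
def N12213 : Q := sm gh N11187
def N12214 : Q := sm gd N11188
def N12215 : Q := sm gh N11189
def N12216 : Q := sm gd N11190
def N12217 : Q := sm gc N11191
def N12218 : Q := sm gi N11192
def N12219 : Q := sm gh N11193
def N12220 : Q := sm gi N11195
def N12221 : Q := sm gh N11196
def N12222 : Q := sm gd N11197
def N12223 : Q := sm gi N11198
def N12224 : Q := sm gi N11200
def N12225 : Q := sm gh N11201
def N12226 : Q := sm ga N11202
def N12227 : Q := sm gi N11202
def N12228 : Q := sm gi N11203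
def N12229 : Q := sm gh N11204
def N12230 : Q := sm gi N11205
def N12231 : Q := sm gh N11206
def N12232 : Q := sm gi N11208
def N12233 : Q := sm gh N11209
def N12234 : Q := sm gi N11210
def N12235 : Q := sm gh N11211
def N12236 : Q := sm gi N11212
def N12237 : Q := sm gh N11213
def N12238 : Q := sm ge N11215
def N12239 : Q := sm gi N11215
def N12240 : Q := sm gi N11216
def N12241 : Q := sm gh N11217
def N12242 : Q := sm gi N11218
def N12243 : Q := sm gh N11219
def N12244 : Q := sm gd N11220
def N12245 : Q := sm gi N11221
def N12246 : Q := sm gh N11222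
def N12247 : Q := sm gd N11223
def N12248 : Q := sm gi N11224
def N12249 : Q := sm gh N11226
def N12250 : Q := sm gd N11227
def N12251 : Q := sm gd N11232
def N12252 : Q := sm gh N11233
def N12253 : Q := sm gd N11234
def N12254 : Q := sm ge N11235
def N12255 : Q := sm gd N11238
def N12256 : Q := sm gi N11238
def N12257 : Q := sm gc N11239
def N12258 : Q := sm gi N11239
def N12259 : Q := sm gc N11241
def N12260 : Q := sm gi N11241
def N12261 : Q := sm gb N11243
def N12262 : Q := sm ge N11243
def N12263 : Q := sm gi N11243
def N12264 : Q := sm gf N11244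
def N12265 : Q := sm gi N11244
def N12266 : Q := sm gh N11245
def N12267 : Q := sm gi N11246
def N12268 : Q := sm gd N11248
def N12269 : Q := sm gf N11248
def N12270 : Q := sm gi N11248
def N12271 : Q := sm gh N11249
def N12272 : Q := sm gi N11250
def N12273 : Q := sm gf N11253
def N12274 : Q := sm gh N11253
def N12275 : Q := sm gi N11253
def N12276 : Q := sm gg N11254
def N12277 : Q := sm gi N11254
def N12278 : Q := sm gh N11255
def N12279 : Q := sm gd N11256
def N12280 : Q := sm gi N11257
def N12281 : Q := sm gh N11258
def N12282 : Q := sm gd N11259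
def N12283 : Q := sm gb N11260
def N12284 : Q := sm gi N11260
def N12285 : Q := sm gh N11261
def N12286 : Q := sm gh N11262
def N12287 : Q := sm ge N11263
def N12288 : Q := sm gi N11263
def N12289 : Q := sm gf N11264
def N12290 : Q := sm gi N11264
def N12291 : Q := sm gh N11265
def N12292 : Q := sm gi N11266
def N12293 : Q := sm gh N11267
def N12294 : Q := sm gh N11270
def N12295 : Q := sm gd N11271
def N12296 : Q := sm gc N11272
def N12297 : Q := sm gh N11274
def N12298 : Q := sm gi N11277
def N12299 : Q := sm gh N11278
def N12300 : Q := sm gh N11280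
def N12301 : Q := sm ge N11285
def N12302 : Q := sm gh N11285
def N12303 : Q := sm gd N11286
def N12304 : Q := sm gi N11286
def N12305 : Q := sm gc N11287
def N12306 : Q := sm ge N11287
def N12307 : Q := sm gi N11287
def N12308 : Q := sm gh N11289
def N12309 : Q := sm gi N11290
def N12310 : Q := sm gc N11291
def N12311 : Q := sm ge N11291
def N12312 : Q := sm gi N11291
def N12313 : Q := sm gb N11293
def N12314 : Q := sm ge N11293
def N12315 : Q := sm gi N11293
def N12316 : Q := sm gf N11294
def N12317 : Q := sm gi N11294
def N12318 : Q := sm gh N11295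
def N12319 : Q := sm ge N11296
def N12320 : Q := sm gi N11296
def N12321 : Q := sm gf N11297
def N12322 : Q := sm gi N11297
def N12323 : Q := sm gh N11298
def N12324 : Q := sm ga N11299
def N12325 : Q := sm ge N11299
def N12326 : Q := sm gi N11299
def N12327 : Q := sm gd N11300
def N12328 : Q := sm gf N11300
def N12329 : Q := sm gi N11300
def N12330 : Q := sm gh N11301
def N12331 : Q := sm gg N11302
def N12332 : Q := sm gi N11302
def N12333 : Q := sm gh N11303
def N12334 : Q := sm gd N11305
def N12335 : Q := sm gf N11305
def N12336 : Q := sm gi N11305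
def N12337 : Q := sm gh N11306
def N12338 : Q := sm gg N11307
def N12339 : Q := sm gi N11307
def N12340 : Q := sm gh N11308
def N12341 : Q := sm gf N11310
def N12342 : Q := sm gh N11310
def N12343 : Q := sm gi N11310
def N12344 : Q := sm gg N11311
def N12345 : Q := sm gi N11311
def N12346 : Q := sm gh N11312
def N12347 : Q := sm gd N11313
def N12348 : Q := sm gi N11314
def N12349 : Q := sm gh N11315
def N12350 : Q := sm gd N11316
def N12351 : Q := sm ge N11317
def N12352 : Q := sm gg N11317
def N12353 : Q := sm gh N11317
def N12354 : Q := sm gi N11317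
def N12355 : Q := sm gi N11318
def N12356 : Q := sm gh N11319
def N12357 : Q := sm gi N11320
def N12358 : Q := sm gh N11321
def N12359 : Q := sm gd N11322
def N12360 : Q := sm ge N11323
def N12361 : Q := sm gh N11324
def N12362 : Q := sm gd N11325
def N12363 : Q := sm gc N11326
def N12364 : Q := sm gf N11329
def N12365 : Q := sm gh N11330
def N12366 : Q := sm ga N11331
def N12367 : Q := sm ge N11331
def N12368 : Q := sm gi N11331
def N12369 : Q := sm gf N11332
def N12370 : Q := sm gi N11332
def N12371 : Q := sm gh N11333
def N12372 : Q := sm gg N11334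
def N12373 : Q := sm gi N11334
def N12374 : Q := sm gh N11335
def N12375 : Q := sm gg N11337
def N12376 : Q := sm gi N11337
def N12377 : Q := sm gh N11338
def N12378 : Q := sm ge N11340
def N12379 : Q := sm gi N11340
def N12380 : Q := sm gf N11341
def N12381 : Q := sm gi N11341
def N12382 : Q := sm gh N11342
def N12383 : Q := sm gg N11343
def N12384 : Q := sm gi N11343
def N12385 : Q := sm gh N11344
def N12386 : Q := sm gi N11346
def N12387 : Q := sm gh N11347
def N12388 : Q := sm gd N11348
def N12389 : Q := sm gi N11349
def N12390 : Q := sm gh N11350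
def N12391 : Q := sm gh N11352
def N12392 : Q := sm gd N11353
def N12393 : Q := sm gc N11354
def N12394 : Q := sm gb N11357
def N12395 : Q := sm ge N11361
def N12396 : Q := sm gi N11361
def N12397 : Q := sm gi N11362
def N12398 : Q := sm gh N11363
def N12399 : Q := sm gi N11364
def N12400 : Q := sm gh N11365
def N12401 : Q := sm gi N11367
def N12402 : Q := sm gh N11368
def N12403 : Q := sm gi N11370
def N12404 : Q := sm gh N11371
def N12405 : Q := sm gf N11373
def N12406 : Q := sm gi N11373
def N12407 : Q := sm gh N11374
def N12408 : Q := sm gi N11375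
def N12409 : Q := sm gh N11376
def N12410 : Q := sm gi N11378
def N12411 : Q := sm gh N11379
def N12412 : Q := sm gd N11380
def N12413 : Q := sm gh N11381
def N12414 : Q := sm gd N11382
def N12415 : Q := sm gc N11383
def N12416 : Q := sm gh N11384
def N12417 : Q := sm gd N11389
def N12418 : Q := sm gi N11389
def N12419 : Q := sm gc N11390
def N12420 : Q := sm ge N11390
def N12421 : Q := sm gi N11390
def N12422 : Q := sm gi N11393
def N12423 : Q := sm gi N11394
def N12424 : Q := sm ge N11398
def N12425 : Q := sm gi N11398
def N12426 : Q := sm gb N11400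
def N12427 : Q := sm ge N11400
def N12428 : Q := sm gi N11400
def N12429 : Q := sm gf N11401
def N12430 : Q := sm gi N11401
def N12431 : Q := sm gh N11402
def N12432 : Q := sm ga N11403
def N12433 : Q := sm gi N11403
def N12434 : Q := sm gi N11406
def N12435 : Q := sm ge N11409
def N12436 : Q := sm gi N11409
def N12437 : Q := sm gd N11410
def N12438 : Q := sm gf N11410
def N12439 : Q := sm gi N11410
def N12440 : Q := sm gh N11411
def N12441 : Q := sm gf N11412
def N12442 : Q := sm gh N11412
def N12443 : Q := sm gi N11412
def N12444 : Q := sm gg N11413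
def N12445 : Q := sm gi N11413
def N12446 : Q := sm gh N11414
def N12447 : Q := sm gd N11415
def N12448 : Q := sm gi N11416
def N12449 : Q := sm gh N11417
def N12450 : Q := sm gd N11418
def N12451 : Q := sm gf N11419
def N12452 : Q := sm gh N11419
def N12453 : Q := sm gi N11419
def N12454 : Q := sm gg N11420
def N12455 : Q := sm gi N11420
def N12456 : Q := sm gh N11421
def N12457 : Q := sm gd N11422
def N12458 : Q := sm gi N11423
def N12459 : Q := sm gh N11424
def N12460 : Q := sm gd N11425
def N12461 : Q := sm ge N11426
def N12462 : Q := sm gg N11426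
def N12463 : Q := sm gh N11426
def N12464 : Q := sm gi N11426
def N12465 : Q := sm gi N11427
def N12466 : Q := sm gh N11428
def N12467 : Q := sm gi N11429
def N12468 : Q := sm gh N11430
def N12469 : Q := sm gd N11431
def N12470 : Q := sm ge N11432
def N12471 : Q := sm gh N11433
def N12472 : Q := sm gd N11434
def N12473 : Q := sm gc N11435
def N12474 : Q := sm gi N11436
def N12475 : Q := sm gi N11437
def N12476 : Q := sm gi N11438
def N12477 : Q := sm gh N11439
def N12478 : Q := sm gh N11440
def N12479 : Q := sm gd N11441
def N12480 : Q := sm gh N11442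
def N12481 : Q := sm gd N11443
def N12482 : Q := sm gf N11449
def N12483 : Q := sm gi N11449
def N12484 : Q := sm gh N11450
def N12485 : Q := sm gg N11451
def N12486 : Q := sm gi N11451
def N12487 : Q := sm gh N11452
def N12488 : Q := sm gi N11454
def N12489 : Q := sm gh N11455
def N12490 : Q := sm gd N11456
def N12491 : Q := sm gh N11457
def N12492 : Q := sm gd N11458
def N12493 : Q := sm gc N11459
def N12494 : Q := sm gh N11460
def N12495 : Q := sm gd N11461
def N12496 : Q := sm gc N11462
def N12497 : Q := sm gb N11465
def N12498 : Q := sm gg N11467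
def N12499 : Q := sm gi N11467
def N12500 : Q := sm gh N11468
def N12501 : Q := sm gi N11470
def N12502 : Q := sm gh N11471
def N12503 : Q := sm gd N11472
def N12504 : Q := sm gh N11473
def N12505 : Q := sm gd N11474
def N12506 : Q := sm gc N11475
def N12507 : Q := sm gf N11483
def N12508 : Q := sm gd N11489
def N12509 : Q := sm gc N11490
def N12510 : Q := sm ge N11490
def N12511 : Q := sm gi N11490
def N12512 : Q := sm ge N11492
def N12513 : Q := sm gf N11493
def N12514 : Q := sm gd N11494
def N12515 : Q := sm gf N11494
def N12516 : Q := sm gg N11495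
def N12517 : Q := sm gd N11496
def N12518 : Q := sm gf N11496
def N12519 : Q := sm gg N11497
def N12520 : Q := sm gf N11498
def N12521 : Q := sm gh N11498
def N12522 : Q := sm gi N11498
def N12523 : Q := sm gg N11499
def N12524 : Q := sm gi N11499
def N12525 : Q := sm gh N11500
def N12526 : Q := sm gd N11501
def N12527 : Q := sm gi N11502
def N12528 : Q := sm gh N11503
def N12529 : Q := sm ge N11505
def N12530 : Q := sm gg N11505
def N12531 : Q := sm gh N11505
def N12532 : Q := sm gi N11505
def N12533 : Q := sm gi N11508
def N12534 : Q := sm gh N11509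
def N12535 : Q := sm gh N11512
def N12536 : Q := sm gd N11513
def N12537 : Q := sm gg N11515
def N12538 : Q := sm gh N11518
def N12539 : Q := sm ge N11525
def N12540 : Q := sm gi N11525
def N12541 : Q := sm gf N11527
def N12542 : Q := sm gh N11527
def N12543 : Q := sm ge N11529
def N12544 : Q := sm gg N11529
def N12545 : Q := sm gh N11529
def N12546 : Q := sm gi N11529
def N12547 : Q := sm gi N11532
def N12548 : Q := sm gh N11533
def N12549 : Q := sm gh N11536
def N12550 : Q := sm gd N11537
def N12551 : Q := sm ge N11542
def N12552 : Q := sm gi N11542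
def N12553 : Q := sm ge N11544
def N12554 : Q := sm gi N11544
def N12555 : Q := sm gf N11545
def N12556 : Q := sm gi N11545
def N12557 : Q := sm gh N11546
def N12558 : Q := sm gd N11547
def N12559 : Q := sm gf N11547
def N12560 : Q := sm gi N11547
def N12561 : Q := sm gg N11549
def N12562 : Q := sm gi N11549
def N12563 : Q := sm gf N11551
def N12564 : Q := sm gh N11551
def N12565 : Q := sm gg N11552
def N12566 : Q := sm gf N11554
def N12567 : Q := sm gh N11554
def N12568 : Q := sm gg N11555
def N12569 : Q := sm ge N11557
def N12570 : Q := sm gg N11557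
def N12571 : Q := sm gh N11557
def N12572 : Q := sm gi N11557
def N12573 : Q := sm gi N11558
def N12574 : Q := sm gh N11559
def N12575 : Q := sm gi N11560
def N12576 : Q := sm gh N11561
def N12577 : Q := sm gd N11562
def N12578 : Q := sm ge N11563
def N12579 : Q := sm gh N11564
def N12580 : Q := sm gd N11565
def N12581 : Q := sm gc N11566
def N12582 : Q := sm gi N11567
def N12583 : Q := sm gi N11568
def N12584 : Q := sm gi N11569
def N12585 : Q := sm gh N11570
def N12586 : Q := sm gh N11573
def N12587 : Q := sm gd N11574
def N12588 : Q := sm gc N11578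
def N12589 : Q := sm gi N11580
def N12590 : Q := sm gb N11584
def N12591 : Q := sm ge N11587
def N12592 : Q := sm gi N11587
def N12593 : Q := sm gi N11589
def N12594 : Q := sm gi N11590
def N12595 : Q := sm gh N11591
def N12596 : Q := sm gi N11596
def N12597 : Q := sm gh N11597
def N12598 : Q := sm gg N11598
def N12599 : Q := sm gi N11598
def N12600 : Q := sm gh N11599
def N12601 : Q := sm ge N11602
def N12602 : Q := sm gg N11602
def N12603 : Q := sm gh N11602
def N12604 : Q := sm gi N11602
def N12605 : Q := sm gi N11603
def N12606 : Q := sm gh N11604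
def N12607 : Q := sm gi N11605
def N12608 : Q := sm gh N11606
def N12609 : Q := sm gd N11607
def N12610 : Q := sm ge N11608
def N12611 : Q := sm gh N11609
def N12612 : Q := sm gd N11610
def N12613 : Q := sm gc N11611
def N12614 : Q := sm gi N11612
def N12615 : Q := sm gi N11613
def N12616 : Q := sm gi N11614
def N12617 : Q := sm gh N11615
def N12618 : Q := sm gh N11616
def N12619 : Q := sm gd N11617
def N12620 : Q := sm gh N11618
def N12621 : Q := sm gd N11619
def N12622 : Q := sm gc N11620
def N12623 : Q := sm ge N11620
def N12624 : Q := sm gb N11624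
def N12625 : Q := sm gh N11626
def N12626 : Q := sm gh N11627
def N12627 : Q := sm gd N11630
def N12628 : Q := sm gb N11634
def N12629 : Q := sm gd N11638
def N12630 : Q := sm gi N11638
def N12631 : Q := sm gc N11639
def N12632 : Q := sm ge N11639
def N12633 : Q := sm gi N11639
def N12634 : Q := sm gb N11641
def N12635 : Q := sm ge N11641
def N12636 : Q := sm gi N11641
def N12637 : Q := sm gf N11642
def N12638 : Q := sm gi N11642
def N12639 : Q := sm gh N11643
def N12640 : Q := sm gd N11644
def N12641 : Q := sm gf N11644
def N12642 : Q := sm gi N11644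
def N12643 : Q := sm gh N11645
def N12644 : Q := sm gg N11646
def N12645 : Q := sm gi N11646
def N12646 : Q := sm gh N11647
def N12647 : Q := sm gf N11649
def N12648 : Q := sm gh N11649
def N12649 : Q := sm gi N11649
def N12650 : Q := sm gg N11650
def N12651 : Q := sm gi N11650
def N12652 : Q := sm gh N11651
def N12653 : Q := sm gd N11652
def N12654 : Q := sm gi N11653
def N12655 : Q := sm gh N11654
def N12656 : Q := sm gd N11655
def N12657 : Q := sm gb N11656
def N12658 : Q := sm gi N11656
def N12659 : Q := sm gi N11657
def N12660 : Q := sm gh N11658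
def N12661 : Q := sm ge N11659
def N12662 : Q := sm gi N11659
def N12663 : Q := sm gi N11660
def N12664 : Q := sm gh N11661
def N12665 : Q := sm gi N11662
def N12666 : Q := sm gh N11663
def N12667 : Q := sm gi N11665
def N12668 : Q := sm gh N11666
def N12669 : Q := sm gd N11667
def N12670 : Q := sm gh N11668
def N12671 : Q := sm gd N11669
def N12672 : Q := sm gc N11670
def N12673 : Q := sm gh N11671
def N12674 : Q := sm gd N11672
def N12675 : Q := sm gh N11673
def N12676 : Q := sm gh N11674
def N12677 : Q := sm gh N11676
def N12678 : Q := sm gd N11677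
def N12679 : Q := sm gh N11678
def N12680 : Q := sm gd N11679
def N12681 : Q := sm gh N11680
def N12682 : Q := sm gd N11681
def N12683 : Q := sm gc N11682
def N12684 : Q := sm ge N11686
def N12685 : Q := sm gc N11687
def N12686 : Q := sm ge N11687
def N12687 : Q := sm gi N11687
def N12688 : Q := sm ge N11689
def N12689 : Q := sm gi N11689
def N12690 : Q := sm gf N11690
def N12691 : Q := sm gi N11690
def N12692 : Q := sm gh N11691
def N12693 : Q := sm gd N11692
def N12694 : Q := sm gf N11692
def N12695 : Q := sm gi N11692
def N12696 : Q := sm gh N11693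
def N12697 : Q := sm gg N11694
def N12698 : Q := sm gi N11694
def N12699 : Q := sm gh N11695
def N12700 : Q := sm gf N11697
def N12701 : Q := sm gh N11697
def N12702 : Q := sm gi N11697
def N12703 : Q := sm gg N11698
def N12704 : Q := sm gi N11698
def N12705 : Q := sm gh N11699
def N12706 : Q := sm gd N11700
def N12707 : Q := sm gi N11701
def N12708 : Q := sm gh N11702
def N12709 : Q := sm gd N11703
def N12710 : Q := sm ge N11704
def N12711 : Q := sm gg N11704
def N12712 : Q := sm gh N11704
def N12713 : Q := sm gi N11704
def N12714 : Q := sm gi N11705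
def N12715 : Q := sm gh N11706
def N12716 : Q := sm gi N11707
def N12717 : Q := sm gh N11708
def N12718 : Q := sm gd N11709
def N12719 : Q := sm ge N11710
def N12720 : Q := sm gh N11711
def N12721 : Q := sm gd N11712
def N12722 : Q := sm gc N11713
def N12723 : Q := sm gi N11714
def N12724 : Q := sm gh N11715
def N12725 : Q := sm gi N11717
def N12726 : Q := sm gh N11718
def N12727 : Q := sm gd N11719
def N12728 : Q := sm gh N11720
def N12729 : Q := sm gd N11721
def N12730 : Q := sm gc N11722
def N12731 : Q := sm gd N11723
def N12732 : Q := sm gc N11724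
def N12733 : Q := sm ge N11724
def N12734 : Q := sm gb N11725
def N12735 : Q := sm gh N11726
def N12736 : Q := sm gd N11727
def N12737 : Q := sm gh N11728
def N12738 : Q := sm gd N11729
def N12739 : Q := sm gc N11730
def N12740 : Q := sm gd N11731
def N12741 : Q := sm gc N11732
def N12742 : Q := sm ge N11732
def N12743 : Q := sm gb N11733
def N12744 : Q := sm ga N11737
def N12745 : Q := sm gf N11738
def N12746 : Q := sm gi N11738
def N12747 : Q := sm gh N11739
def N12748 : Q := sm ge N11740
def N12749 : Q := sm gg N11740
def N12750 : Q := sm gh N11740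
def N12751 : Q := sm gi N11740
def N12752 : Q := sm gi N11741
def N12753 : Q := sm gh N11742
def N12754 : Q := sm gi N11743
def N12755 : Q := sm gh N11744
def N12756 : Q := sm gd N11745
def N12757 : Q := sm ge N11746
def N12758 : Q := sm gh N11747
def N12759 : Q := sm gd N11748
def N12760 : Q := sm gc N11749
def N12761 : Q := sm gi N11750
def N12762 : Q := sm gi N11751
def N12763 : Q := sm gi N11752
def N12764 : Q := sm gh N11753
def N12765 : Q := sm gh N11754
def N12766 : Q := sm gd N11755
def N12767 : Q := sm gh N11756
def N12768 : Q := sm gd N11757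
def N12769 : Q := sm gc N11758
def N12770 : Q := sm ge N11758
def N12771 : Q := sm gd N11760
def N12772 : Q := sm gc N11761
def N12773 : Q := sm ge N11761
def N12774 : Q := sm gb N11762
def N12775 : Q := sm gd N11763
def N12776 : Q := sm gc N11764
def N12777 : Q := sm ge N11764
def N12778 : Q := sm gb N11765
def N12779 : Q := sm gc N11766
def N12780 : Q := sm ge N11766
def N12781 : Q := sm gb N11767
def N12782 : Q := sm ge N11767
def N12783 : Q := sm ga N11769
def N12784 : Q := sm ga N11773
def N12785 : Q := sm ge N11774
def N12786 : Q := sm ga N11776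
def N12787 : Q := sm gf N11780
def N12788 : Q := sm gi N11780
def N12789 : Q := sm gh N11781
def N12790 : Q := sm gf N11782
def N12791 : Q := sm gg N11784
def N12792 : Q := sm gi N11784
def N12793 : Q := sm gh N11787
def N12794 : Q := sm gi N11788
def N12795 : Q := sm gh N11789
def N12796 : Q := sm gi N11791
def N12797 : Q := sm gh N11792
def N12798 : Q := sm gh N11794
def N12799 : Q := sm ga N11795
def N12800 : Q := sm gi N11795
def N12801 : Q := sm gh N11796
def N12802 : Q := sm gi N11805
def N12803 : Q := sm gh N11806
def N12804 : Q := sm gi N11811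
def N12805 : Q := sm gh N11812
def N12806 : Q := sm gh N11814
def N12807 : Q := sm gd N11817
def N12808 : Q := sm gi N11817
def N12809 : Q := sm gh N11818
def N12810 : Q := sm gd N11819
def N12811 : Q := sm gi N11819
def N12812 : Q := sm gc N11820
def N12813 : Q := sm ge N11820
def N12814 : Q := sm gi N11820
def N12815 : Q := sm gd N11822
def N12816 : Q := sm gi N11822
def N12817 : Q := sm gc N11823
def N12818 : Q := sm ge N11823
def N12819 : Q := sm gi N11823
def N12820 : Q := sm gb N11825
def N12821 : Q := sm ge N11825
def N12822 : Q := sm gi N11825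
def N12823 : Q := sm gf N11826
def N12824 : Q := sm gi N11826
def N12825 : Q := sm gh N11827
def N12826 : Q := sm gi N11828
def N12827 : Q := sm gh N11829
def N12828 : Q := sm gd N11830
def N12829 : Q := sm gf N11830
def N12830 : Q := sm gi N11830
def N12831 : Q := sm gh N11831
def N12832 : Q := sm gg N11832
def N12833 : Q := sm gi N11832
def N12834 : Q := sm gh N11833
def N12835 : Q := sm gf N11835
def N12836 : Q := sm gg N11836
def N12837 : Q := sm gi N11836
def N12838 : Q := sm gi N11839
def N12839 : Q := sm gh N11840
def N12840 : Q := sm gd N11842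
def N12841 : Q := sm gi N11842
def N12842 : Q := sm gc N11843
def N12843 : Q := sm ge N11843
def N12844 : Q := sm gi N11843
def N12845 : Q := sm gb N11845
def N12846 : Q := sm ge N11845
def N12847 : Q := sm gi N11845
def N12848 : Q := sm gf N11846
def N12849 : Q := sm gi N11846
def N12850 : Q := sm gh N11847
def N12851 : Q := sm gc N11848
def N12852 : Q := sm ge N11848
def N12853 : Q := sm gi N11848
def N12854 : Q := sm gb N11850
def N12855 : Q := sm gi N11850
def N12856 : Q := sm gi N11851
def N12857 : Q := sm gh N11852
def N12858 : Q := sm ga N11853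
def N12859 : Q := sm ge N11853
def N12860 : Q := sm gi N11853
def N12861 : Q := sm gf N11854
def N12862 : Q := sm gi N11854
def N12863 : Q := sm gh N11855
def N12864 : Q := sm gg N11856
def N12865 : Q := sm gi N11856
def N12866 : Q := sm gh N11857
def N12867 : Q := sm gh N11859
def N12868 : Q := sm gi N11861
def N12869 : Q := sm gh N11862
def N12870 : Q := sm gd N11863
def N12871 : Q := sm gh N11864
def N12872 : Q := sm gd N11865
def N12873 : Q := sm gb N11867
def N12874 : Q := sm gi N11867
def N12875 : Q := sm gi N11868
def N12876 : Q := sm gh N11869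
def N12877 : Q := sm ga N11870
def N12878 : Q := sm gi N11870
def N12879 : Q := sm gh N11871
def N12880 : Q := sm gi N11873
def N12881 : Q := sm gh N11874
def N12882 : Q := sm gd N11875
def N12883 : Q := sm gi N11876
def N12884 : Q := sm gi N11878
def N12885 : Q := sm gi N11879
def N12886 : Q := sm gh N11880
def N12887 : Q := sm ga N11881
def N12888 : Q := sm gi N11881
def N12889 : Q := sm gi N11882
def N12890 : Q := sm gh N11883
def N12891 : Q := sm gi N11884
def N12892 : Q := sm gh N11885
def N12893 : Q := sm gi N11887
def N12894 : Q := sm gi N11888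
def N12895 : Q := sm gh N11889
def N12896 : Q := sm ga N11890
def N12897 : Q := sm gi N11890
def N12898 : Q := sm gh N11891
def N12899 : Q := sm gh N11892
def N12900 : Q := sm ge N11894
def N12901 : Q := sm gi N11894
def N12902 : Q := sm gi N11895
def N12903 : Q := sm gh N11896
def N12904 : Q := sm gi N11897
def N12905 : Q := sm gh N11898
def N12906 : Q := sm gd N11899
def N12907 : Q := sm gi N11900
def N12908 : Q := sm gh N11901
def N12909 : Q := sm gd N11902
def N12910 : Q := sm gd N11903
def N12911 : Q := sm gd N11905
def N12912 : Q := sm gc N11906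
def N12913 : Q := sm ge N11908
def N12914 : Q := sm gi N11913
def N12915 : Q := sm gd N11915
def N12916 : Q := sm gh N11916
def N12917 : Q := sm gd N11917
def N12918 : Q := sm ge N11918
def N12919 : Q := sm gh N11920
def N12920 : Q := sm ge N11923
def N12921 : Q := sm gh N11923
def N12922 : Q := sm gd N11924
def N12923 : Q := sm gi N11924
def N12924 : Q := sm gc N11925
def N12925 : Q := sm ge N11925
def N12926 : Q := sm gi N11925
def N12927 : Q := sm gh N11927
def N12928 : Q := sm gd N11928
def N12929 : Q := sm gi N11928
def N12930 : Q := sm gc N11929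
def N12931 : Q := sm ge N11929
def N12932 : Q := sm gi N11929
def N12933 : Q := sm gb N11931
def N12934 : Q := sm ge N11931
def N12935 : Q := sm gi N11931
def N12936 : Q := sm gf N11932
def N12937 : Q := sm gi N11932
def N12938 : Q := sm gh N11933
def N12939 : Q := sm gc N11934
def N12940 : Q := sm ge N11934
def N12941 : Q := sm gi N11934
def N12942 : Q := sm gb N11936
def N12943 : Q := sm ge N11936
def N12944 : Q := sm gi N11936
def N12945 : Q := sm gf N11937
def N12946 : Q := sm gi N11937
def N12947 : Q := sm gh N11938
def N12948 : Q := sm ga N11939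
def N12949 : Q := sm ge N11939
def N12950 : Q := sm gi N11939
def N12951 : Q := sm gd N11940
def N12952 : Q := sm gf N11940
def N12953 : Q := sm gi N11940
def N12954 : Q := sm gh N11941
def N12955 : Q := sm gg N11942
def N12956 : Q := sm gi N11942
def N12957 : Q := sm gh N11943
def N12958 : Q := sm gd N11945
def N12959 : Q := sm gf N11945
def N12960 : Q := sm gi N11945
def N12961 : Q := sm gh N11946
def N12962 : Q := sm gg N11947
def N12963 : Q := sm gi N11947
def N12964 : Q := sm gh N11948
def N12965 : Q := sm gf N11950
def N12966 : Q := sm gh N11950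
def N12967 : Q := sm gi N11950
def N12968 : Q := sm gg N11951
def N12969 : Q := sm gi N11951
def N12970 : Q := sm gh N11952
def N12971 : Q := sm gd N11953
def N12972 : Q := sm gi N11954
def N12973 : Q := sm gh N11955
def N12974 : Q := sm gd N11956
def N12975 : Q := sm ge N11957
def N12976 : Q := sm gg N11957
def N12977 : Q := sm gh N11957
def N12978 : Q := sm gi N11957
def N12979 : Q := sm gi N11960
def N12980 : Q := sm gh N11961
def N12981 : Q := sm gh N11964
def N12982 : Q := sm gd N11965
def N12983 : Q := sm gi N11967
def N12984 : Q := sm gi N11968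
def N12985 : Q := sm gb N11970
def N12986 : Q := sm gi N11970
def N12987 : Q := sm gi N11971
def N12988 : Q := sm gh N11972
def N12989 : Q := sm ga N11973
def N12990 : Q := sm ge N11973
def N12991 : Q := sm gi N11973
def N12992 : Q := sm gf N11974
def N12993 : Q := sm gi N11974
def N12994 : Q := sm gh N11975
def N12995 : Q := sm gg N11976
def N12996 : Q := sm gi N11976
def N12997 : Q := sm gh N11977
def N12998 : Q := sm gi N11979
def N12999 : Q := sm gh N11980
def N13000 : Q := sm ga N11981
def N13001 : Q := sm ge N11981
def N13002 : Q := sm gi N11981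
def N13003 : Q := sm gi N11982
def N13004 : Q := sm gh N11983
def N13005 : Q := sm gg N11984
def N13006 : Q := sm gi N11984
def N13007 : Q := sm gh N11985
def N13008 : Q := sm ge N11987
def N13009 : Q := sm gi N11987
def N13010 : Q := sm gf N11988
def N13011 : Q := sm gi N11988
def N13012 : Q := sm gh N11989
def N13013 : Q := sm gg N11990
def N13014 : Q := sm gi N11990
def N13015 : Q := sm gh N11991
def N13016 : Q := sm gi N11993
def N13017 : Q := sm gh N11994
def N13018 : Q := sm gd N11995
def N13019 : Q := sm gi N11996
def N13020 : Q := sm gh N11997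
def N13021 : Q := sm gd N11998
def N13022 : Q := sm gh N11999
def N13023 : Q := sm gd N12000
def N13024 : Q := sm gc N12001
def N13025 : Q := sm gi N12005
def N13026 : Q := sm gh N12009
def N13027 : Q := sm gh N12010
def N13028 : Q := sm gh N12011
def N13029 : Q := sm gi N12013
def N13030 : Q := sm gh N12014
def N13031 : Q := sm gi N12015
def N13032 : Q := sm gh N12016
def N13033 : Q := sm gi N12018
def N13034 : Q := sm gh N12019
def N13035 : Q := sm gd N12020
def N13036 : Q := sm gh N12021
def N13037 : Q := sm gi N12023
def N13038 : Q := sm gh N12024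
def N13039 : Q := sm gh N12025
def N13040 : Q := sm gi N12027
def N13041 : Q := sm gh N12028
def N13042 : Q := sm gd N12029
def N13043 : Q := sm gf N12030
def N13044 : Q := sm gi N12030
def N13045 : Q := sm gh N12031
def N13046 : Q := sm gi N12032
def N13047 : Q := sm gh N12033
def N13048 : Q := sm gi N12035
def N13049 : Q := sm gh N12036
def N13050 : Q := sm gd N12037
def N13051 : Q := sm gh N12038
def N13052 : Q := sm gd N12039
def N13053 : Q := sm gc N12040
def N13054 : Q := sm gd N12042
def N13055 : Q := sm gc N12043
def N13056 : Q := sm gc N12045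
def N13057 : Q := sm gb N12046
def N13058 : Q := sm gd N12049
def N13059 : Q := sm gi N12049
def N13060 : Q := sm gc N12050
def N13061 : Q := sm ge N12050
def N13062 : Q := sm gi N12050
def N13063 : Q := sm gb N12052
def N13064 : Q := sm ge N12052
def N13065 : Q := sm gi N12052
def N13066 : Q := sm gf N12053
def N13067 : Q := sm gi N12053
def N13068 : Q := sm gh N12054
def N13069 : Q := sm gi N12055
def N13070 : Q := sm gb N12057
def N13071 : Q := sm ge N12057
def N13072 : Q := sm gi N12057
def N13073 : Q := sm gi N12058
def N13074 : Q := sm ga N12060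
def N13075 : Q := sm ge N12060
def N13076 : Q := sm gi N12060
def N13077 : Q := sm gd N12061
def N13078 : Q := sm gi N12061
def N13079 : Q := sm gd N12067
def N13080 : Q := sm gi N12070
def N13081 : Q := sm gi N12073
def N13082 : Q := sm gi N12074
def N13083 : Q := sm gi N12082
def N13084 : Q := sm gh N12083
def N13085 : Q := sm ga N12084
def N13086 : Q := sm gi N12084
def N13087 : Q := sm gh N12085
def N13088 : Q := sm gi N12090
def N13089 : Q := sm gh N12094
def N13090 : Q := sm gd N12097
def N13091 : Q := sm gi N12097
def N13092 : Q := sm gc N12098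
def N13093 : Q := sm gi N12098
def N13094 : Q := sm gc N12100
def N13095 : Q := sm gi N12100
def N13096 : Q := sm gb N12102
def N13097 : Q := sm ge N12102
def N13098 : Q := sm gi N12102
def N13099 : Q := sm gi N12103
def N13100 : Q := sm gh N12104
def N13101 : Q := sm gd N12105
def N13102 : Q := sm gi N12105
def N13103 : Q := sm gf N12108
def N13104 : Q := sm gi N12109
def N13105 : Q := sm gh N12112
def N13106 : Q := sm gh N12114
def N13107 : Q := sm gb N12115
def N13108 : Q := sm gi N12115
def N13109 : Q := sm gh N12116
def N13110 : Q := sm ga N12117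
def N13111 : Q := sm gi N12117
def N13112 : Q := sm gh N12118
def N13113 : Q := sm gh N12119
def N13114 : Q := sm gi N12123
def N13115 : Q := sm gh N12124
def N13116 : Q := sm gi N12126
def N13117 : Q := sm gh N12127
def N13118 : Q := sm gd N12128
def N13119 : Q := sm gh N12130
def N13120 : Q := sm gi N12132
def N13121 : Q := sm gh N12133
def N13122 : Q := sm gd N12134
def N13123 : Q := sm gd N12136
def N13124 : Q := sm gh N12137
def N13125 : Q := sm gd N12138
def N13126 : Q := sm ge N12139
def N13127 : Q := sm gh N12141
def N13128 : Q := sm gd N12142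
def N13129 : Q := sm gi N12142
def N13130 : Q := sm gc N12143
def N13131 : Q := sm ge N12143
def N13132 : Q := sm gi N12143
def N13133 : Q := sm gd N12145
def N13134 : Q := sm gi N12145
def N13135 : Q := sm gc N12146
def N13136 : Q := sm gi N12146
def N13137 : Q := sm gb N12148
def N13138 : Q := sm ge N12148
def N13139 : Q := sm gi N12148
def N13140 : Q := sm gf N12149
def N13141 : Q := sm gi N12149
def N13142 : Q := sm gh N12150
def N13143 : Q := sm gc N12151
def N13144 : Q := sm ge N12151
def N13145 : Q := sm gi N12151
def N13146 : Q := sm gb N12153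
def N13147 : Q := sm ge N12153
def N13148 : Q := sm gi N12153
def N13149 : Q := sm gf N12154
def N13150 : Q := sm gi N12154
def N13151 : Q := sm gh N12155
def N13152 : Q := sm ga N12156
def N13153 : Q := sm ge N12156
def N13154 : Q := sm gi N12156
def N13155 : Q := sm gd N12157
def N13156 : Q := sm gf N12157
def N13157 : Q := sm gi N12157
def N13158 : Q := sm gh N12158
def N13159 : Q := sm gg N12159
def N13160 : Q := sm gi N12159
def N13161 : Q := sm gh N12160
def N13162 : Q := sm gd N12162
def N13163 : Q := sm gf N12162
def N13164 : Q := sm gi N12162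
def N13165 : Q := sm gg N12164
def N13166 : Q := sm gi N12164
def N13167 : Q := sm gf N12166
def N13168 : Q := sm gh N12166
def N13169 : Q := sm gi N12166
def N13170 : Q := sm gg N12167
def N13171 : Q := sm gi N12167
def N13172 : Q := sm gh N12168
def N13173 : Q := sm gd N12169
def N13174 : Q := sm gi N12170
def N13175 : Q := sm gh N12171
def N13176 : Q := sm gd N12172
def N13177 : Q := sm ge N12173
def N13178 : Q := sm gg N12173
def N13179 : Q := sm gh N12173
def N13180 : Q := sm gi N12173
def N13181 : Q := sm gi N12176
def N13182 : Q := sm gh N12177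
def N13183 : Q := sm gh N12180
def N13184 : Q := sm gd N12181
def N13185 : Q := sm gi N12183
def N13186 : Q := sm gb N12185
def N13187 : Q := sm gi N12185
def N13188 : Q := sm gh N12186
def N13189 : Q := sm ga N12187
def N13190 : Q := sm ge N12187
def N13191 : Q := sm gi N12187
def N13192 : Q := sm gi N12188
def N13193 : Q := sm gh N12189
def N13194 : Q := sm gi N12190
def N13195 : Q := sm gh N12191
def N13196 : Q := sm gi N12193
def N13197 : Q := sm gh N12194
def N13198 : Q := sm ge N12195
def N13199 : Q := sm gi N12195
def N13200 : Q := sm gi N12196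
def N13201 : Q := sm gh N12197
def N13202 : Q := sm gi N12198
def N13203 : Q := sm gh N12199
def N13204 : Q := sm ge N12201
def N13205 : Q := sm gi N12201
def N13206 : Q := sm gf N12202
def N13207 : Q := sm gi N12202
def N13208 : Q := sm gh N12203
def N13209 : Q := sm gi N12204
def N13210 : Q := sm gh N12205
def N13211 : Q := sm gd N12206
def N13212 : Q := sm gi N12207
def N13213 : Q := sm gh N12208
def N13214 : Q := sm gd N12209
def N13215 : Q := sm gi N12210
def N13216 : Q := sm gh N12212
def N13217 : Q := sm gd N12213
def N13218 : Q := sm gh N12218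
def N13219 : Q := sm gd N12219
def N13220 : Q := sm gh N12220
def N13221 : Q := sm gd N12221
def N13222 : Q := sm ge N12222
def N13223 : Q := sm gh N12223
def N13224 : Q := sm gh N12224
def N13225 : Q := sm gi N12226
def N13226 : Q := sm gh N12227
def N13227 : Q := sm gh N12228
def N13228 : Q := sm gd N12229
def N13229 : Q := sm gh N12230
def N13230 : Q := sm gh N12232
def N13231 : Q := sm gh N12234
def N13232 : Q := sm gd N12235
def N13233 : Q := sm gh N12236
def N13234 : Q := sm gi N12238
def N13235 : Q := sm gh N12239
def N13236 : Q := sm gh N12240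
def N13237 : Q := sm gd N12241
def N13238 : Q := sm gh N12242
def N13239 : Q := sm gd N12243
def N13240 : Q := sm ge N12244
def N13241 : Q := sm gh N12245
def N13242 : Q := sm gd N12246
def N13243 : Q := sm ge N12251
def N13244 : Q := sm gd N12252
def N13245 : Q := sm gc N12255
def N13246 : Q := sm ge N12255
def N13247 : Q := sm gi N12255
def N13248 : Q := sm gb N12257
def N13249 : Q := sm gi N12257
def N13250 : Q := sm gh N12258
def N13251 : Q := sm gi N12259
def N13252 : Q := sm gh N12260
def N13253 : Q := sm ge N12261
def N13254 : Q := sm gi N12261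
def N13255 : Q := sm gd N12262
def N13256 : Q := sm gf N12262
def N13257 : Q := sm gi N12262
def N13258 : Q := sm gh N12263
def N13259 : Q := sm gi N12264
def N13260 : Q := sm gh N12265
def N13261 : Q := sm gf N12268
def N13262 : Q := sm gh N12268
def N13263 : Q := sm gi N12268
def N13264 : Q := sm gi N12269
def N13265 : Q := sm gd N12271
def N13266 : Q := sm ge N12273
def N13267 : Q := sm gg N12273
def N13268 : Q := sm gh N12273
def N13269 : Q := sm gi N12273
def N13270 : Q := sm gi N12276
def N13271 : Q := sm gh N12277
def N13272 : Q := sm gh N12280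
def N13273 : Q := sm gd N12281
def N13274 : Q := sm gi N12283
def N13275 : Q := sm gh N12284
def N13276 : Q := sm gf N12287
def N13277 : Q := sm gi N12287
def N13278 : Q := sm gh N12288
def N13279 : Q := sm gi N12289
def N13280 : Q := sm gh N12290
def N13281 : Q := sm gh N12292
def N13282 : Q := sm gh N12298
def N13283 : Q := sm gd N12299
def N13284 : Q := sm gd N12302
def N13285 : Q := sm gi N12302
def N13286 : Q := sm gc N12303
def N13287 : Q := sm ge N12303
def N13288 : Q := sm gi N12303
def N13289 : Q := sm gb N12305
def N13290 : Q := sm ge N12305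
def N13291 : Q := sm gi N12305
def N13292 : Q := sm gf N12306
def N13293 : Q := sm gi N12306
def N13294 : Q := sm gh N12307
def N13295 : Q := sm ge N12310
def N13296 : Q := sm gi N12310
def N13297 : Q := sm gf N12311
def N13298 : Q := sm gh N12312
def N13299 : Q := sm ga N12313
def N13300 : Q := sm ge N12313
def N13301 : Q := sm gi N12313
def N13302 : Q := sm gd N12314
def N13303 : Q := sm gf N12314
def N13304 : Q := sm gi N12314
def N13305 : Q := sm gh N12315
def N13306 : Q := sm gg N12316
def N13307 : Q := sm gi N12316
def N13308 : Q := sm gh N12317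
def N13309 : Q := sm gd N12319
def N13310 : Q := sm gf N12319
def N13311 : Q := sm gi N12319
def N13312 : Q := sm gh N12320
def N13313 : Q := sm gg N12321
def N13314 : Q := sm gi N12321
def N13315 : Q := sm gh N12322
def N13316 : Q := sm ge N12324
def N13317 : Q := sm gi N12324
def N13318 : Q := sm gd N12325
def N13319 : Q := sm gf N12325
def N13320 : Q := sm gi N12325
def N13321 : Q := sm gh N12326
def N13322 : Q := sm gf N12327
def N13323 : Q := sm gh N12327
def N13324 : Q := sm gi N12327
def N13325 : Q := sm gg N12328
def N13326 : Q := sm gi N12328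
def N13327 : Q := sm gh N12329
def N13328 : Q := sm gd N12330
def N13329 : Q := sm gi N12331
def N13330 : Q := sm gh N12332
def N13331 : Q := sm gd N12333
def N13332 : Q := sm gf N12334
def N13333 : Q := sm gh N12334
def N13334 : Q := sm gi N12334
def N13335 : Q := sm gg N12335
def N13336 : Q := sm gi N12335
def N13337 : Q := sm gh N12336
def N13338 : Q := sm gd N12337
def N13339 : Q := sm gi N12338
def N13340 : Q := sm gh N12339
def N13341 : Q := sm ge N12341
def N13342 : Q := sm gg N12341
def N13343 : Q := sm gh N12341
def N13344 : Q := sm gi N12341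
def N13345 : Q := sm gi N12342
def N13346 : Q := sm gh N12343
def N13347 : Q := sm gi N12344
def N13348 : Q := sm gh N12345
def N13349 : Q := sm gd N12346
def N13350 : Q := sm ge N12347
def N13351 : Q := sm gh N12348
def N13352 : Q := sm gd N12349
def N13353 : Q := sm gc N12350
def N13354 : Q := sm gi N12351
def N13355 : Q := sm gi N12352
def N13356 : Q := sm gi N12353
def N13357 : Q := sm gh N12354
def N13358 : Q := sm gh N12357
def N13359 : Q := sm gd N12358
def N13360 : Q := sm gc N12362
def N13361 : Q := sm ge N12366
def N13362 : Q := sm gi N12366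
def N13363 : Q := sm gf N12367
def N13364 : Q := sm gi N12367
def N13365 : Q := sm gh N12368
def N13366 : Q := sm gi N12369
def N13367 : Q := sm gh N12370
def N13368 : Q := sm gi N12372
def N13369 : Q := sm gh N12373
def N13370 : Q := sm gi N12375
def N13371 : Q := sm gh N12376
def N13372 : Q := sm gf N12378
def N13373 : Q := sm gi N12378
def N13374 : Q := sm gh N12379
def N13375 : Q := sm gg N12380
def N13376 : Q := sm gi N12380
def N13377 : Q := sm gh N12381
def N13378 : Q := sm gi N12383
def N13379 : Q := sm gh N12384
def N13380 : Q := sm gd N12385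
def N13381 : Q := sm gh N12386
def N13382 : Q := sm gd N12387
def N13383 : Q := sm gc N12388
def N13384 : Q := sm gh N12389
def N13385 : Q := sm gb N12393
def N13386 : Q := sm gi N12395
def N13387 : Q := sm gh N12396
def N13388 : Q := sm gh N12397
def N13389 : Q := sm gh N12399
def N13390 : Q := sm gd N12400
def N13391 : Q := sm gh N12401
def N13392 : Q := sm gh N12403
def N13393 : Q := sm gi N12405
def N13394 : Q := sm gh N12406
def N13395 : Q := sm gh N12408
def N13396 : Q := sm gd N12409
def N13397 : Q := sm gh N12410
def N13398 : Q := sm gd N12411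
def N13399 : Q := sm gc N12412
def N13400 : Q := sm ge N12417
def N13401 : Q := sm gi N12417
def N13402 : Q := sm gi N12419
def N13403 : Q := sm gi N12420
def N13404 : Q := sm gh N12421
def N13405 : Q := sm gi N12424
def N13406 : Q := sm gh N12425
def N13407 : Q := sm ga N12426
def N13408 : Q := sm ge N12426
def N13409 : Q := sm gi N12426
def N13410 : Q := sm gf N12427
def N13411 : Q := sm gi N12427
def N13412 : Q := sm gh N12428
def N13413 : Q := sm gg N12429
def N13414 : Q := sm gi N12429
def N13415 : Q := sm gh N12430
def N13416 : Q := sm gi N12432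
def N13417 : Q := sm gd N12435
def N13418 : Q := sm gf N12435
def N13419 : Q := sm gi N12435
def N13420 : Q := sm gh N12436
def N13421 : Q := sm gf N12437
def N13422 : Q := sm gh N12437
def N13423 : Q := sm gi N12437
def N13424 : Q := sm gg N12438
def N13425 : Q := sm gi N12438
def N13426 : Q := sm gh N12439
def N13427 : Q := sm gd N12440
def N13428 : Q := sm ge N12441
def N13429 : Q := sm gg N12441
def N13430 : Q := sm gh N12441
def N13431 : Q := sm gi N12441
def N13432 : Q := sm gi N12442
def N13433 : Q := sm gh N12443
def N13434 : Q := sm gi N12444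
def N13435 : Q := sm gh N12445
def N13436 : Q := sm gd N12446
def N13437 : Q := sm ge N12447
def N13438 : Q := sm gh N12448
def N13439 : Q := sm gd N12449
def N13440 : Q := sm gc N12450
def N13441 : Q := sm ge N12451
def N13442 : Q := sm gg N12451
def N13443 : Q := sm gh N12451
def N13444 : Q := sm gi N12451
def N13445 : Q := sm gi N12452
def N13446 : Q := sm gh N12453
def N13447 : Q := sm gi N12454
def N13448 : Q := sm gh N12455
def N13449 : Q := sm gd N12456
def N13450 : Q := sm ge N12457
def N13451 : Q := sm gh N12458
def N13452 : Q := sm gd N12459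
def N13453 : Q := sm gc N12460
def N13454 : Q := sm gi N12461
def N13455 : Q := sm gi N12462
def N13456 : Q := sm gi N12463
def N13457 : Q := sm gh N12464
def N13458 : Q := sm gh N12465
def N13459 : Q := sm gd N12466
def N13460 : Q := sm gh N12467
def N13461 : Q := sm gd N12468
def N13462 : Q := sm gc N12469
def N13463 : Q := sm ge N12469
def N13464 : Q := sm gb N12473
def N13465 : Q := sm gh N12474
def N13466 : Q := sm gh N12475
def N13467 : Q := sm gh N12476
def N13468 : Q := sm gd N12477
def N13469 : Q := sm gd N12480
def N13470 : Q := sm gg N12482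
def N13471 : Q := sm gi N12482
def N13472 : Q := sm gh N12483
def N13473 : Q := sm gi N12485
def N13474 : Q := sm gh N12486
def N13475 : Q := sm gd N12487
def N13476 : Q := sm gh N12488
def N13477 : Q := sm gd N12489
def N13478 : Q := sm gc N12490
def N13479 : Q := sm gb N12493
def N13480 : Q := sm gb N12496
def N13481 : Q := sm gi N12498
def N13482 : Q := sm gh N12499
def N13483 : Q := sm gd N12500
def N13484 : Q := sm gh N12501
def N13485 : Q := sm gd N12502
def N13486 : Q := sm gc N12503
def N13487 : Q := sm ge N12507
def N13488 : Q := sm ge N12508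
def N13489 : Q := sm ge N12509
def N13490 : Q := sm gf N12510
def N13491 : Q := sm gi N12510
def N13492 : Q := sm gh N12511
def N13493 : Q := sm gd N12512
def N13494 : Q := sm gf N12512
def N13495 : Q := sm gg N12513
def N13496 : Q := sm gf N12514
def N13497 : Q := sm gh N12514
def N13498 : Q := sm gg N12515
def N13499 : Q := sm gf N12517
def N13500 : Q := sm gh N12517
def N13501 : Q := sm gg N12518
def N13502 : Q := sm ge N12520
def N13503 : Q := sm gg N12520
def N13504 : Q := sm gh N12520
def N13505 : Q := sm gi N12520
def N13506 : Q := sm gi N12521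
def N13507 : Q := sm gh N12522
def N13508 : Q := sm gi N12523
def N13509 : Q := sm gh N12524
def N13510 : Q := sm gd N12525
def N13511 : Q := sm ge N12526
def N13512 : Q := sm gh N12527
def N13513 : Q := sm gi N12529
def N13514 : Q := sm gi N12530
def N13515 : Q := sm gh N12533
def N13516 : Q := sm gi N12539
def N13517 : Q := sm gh N12540
def N13518 : Q := sm gh N12541
def N13519 : Q := sm gi N12542
def N13520 : Q := sm gh N12547
def N13521 : Q := sm gi N12551
def N13522 : Q := sm gh N12552
def N13523 : Q := sm gd N12553
def N13524 : Q := sm gf N12553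
def N13525 : Q := sm gi N12553
def N13526 : Q := sm gh N12554
def N13527 : Q := sm gg N12555
def N13528 : Q := sm gi N12555
def N13529 : Q := sm gh N12556
def N13530 : Q := sm gf N12558
def N13531 : Q := sm gh N12558
def N13532 : Q := sm gi N12558
def N13533 : Q := sm gg N12559
def N13534 : Q := sm gi N12559
def N13535 : Q := sm gi N12561
def N13536 : Q := sm ge N12563
def N13537 : Q := sm gg N12563
def N13538 : Q := sm gh N12563
def N13539 : Q := sm gi N12564
def N13540 : Q := sm ge N12566
def N13541 : Q := sm gg N12566
def N13542 : Q := sm gh N12566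
def N13543 : Q := sm gi N12567
def N13544 : Q := sm gi N12569
def N13545 : Q := sm gi N12570
def N13546 : Q := sm gi N12571
def N13547 : Q := sm gh N12572
def N13548 : Q := sm gh N12573
def N13549 : Q := sm gd N12574
def N13550 : Q := sm gh N12575
def N13551 : Q := sm gd N12576
def N13552 : Q := sm gc N12577
def N13553 : Q := sm ge N12577
def N13554 : Q := sm gc N12580
def N13555 : Q := sm gb N12581
def N13556 : Q := sm gd N12586
def N13557 : Q := sm gf N12591
def N13558 : Q := sm gi N12591
def N13559 : Q := sm gh N12592
def N13560 : Q := sm gh N12593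
def N13561 : Q := sm gh N12594
def N13562 : Q := sm gh N12596
def N13563 : Q := sm gi N12598
def N13564 : Q := sm gh N12599
def N13565 : Q := sm gd N12600
def N13566 : Q := sm gi N12601
def N13567 : Q := sm gi N12602
def N13568 : Q := sm gi N12603
def N13569 : Q := sm gh N12604
def N13570 : Q := sm gh N12605
def N13571 : Q := sm gd N12606
def N13572 : Q := sm gh N12607
def N13573 : Q := sm gd N12608
def N13574 : Q := sm gc N12609
def N13575 : Q := sm ge N12609
def N13576 : Q := sm gc N12612
def N13577 : Q := sm gb N12613
def N13578 : Q := sm gh N12615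
def N13579 : Q := sm gh N12616
def N13580 : Q := sm gd N12618
def N13581 : Q := sm gd N12620
def N13582 : Q := sm gb N12622
def N13583 : Q := sm gc N12629
def N13584 : Q := sm ge N12629
def N13585 : Q := sm gi N12629
def N13586 : Q := sm gb N12631
def N13587 : Q := sm ge N12631
def N13588 : Q := sm gi N12631
def N13589 : Q := sm gi N12632
def N13590 : Q := sm gh N12633
def N13591 : Q := sm ge N12634
def N13592 : Q := sm gi N12634
def N13593 : Q := sm gd N12635
def N13594 : Q := sm gf N12635
def N13595 : Q := sm gi N12635
def N13596 : Q := sm gh N12636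
def N13597 : Q := sm gi N12637
def N13598 : Q := sm gh N12638
def N13599 : Q := sm gf N12640
def N13600 : Q := sm gh N12640
def N13601 : Q := sm gi N12640
def N13602 : Q := sm gg N12641
def N13603 : Q := sm gi N12641
def N13604 : Q := sm gh N12642
def N13605 : Q := sm gd N12643
def N13606 : Q := sm gi N12644
def N13607 : Q := sm gh N12645
def N13608 : Q := sm gd N12646
def N13609 : Q := sm ge N12647
def N13610 : Q := sm gg N12647
def N13611 : Q := sm gh N12647
def N13612 : Q := sm gi N12647
def N13613 : Q := sm gi N12650
def N13614 : Q := sm gh N12651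
def N13615 : Q := sm gh N12654
def N13616 : Q := sm gd N12655
def N13617 : Q := sm gi N12657
def N13618 : Q := sm gh N12658
def N13619 : Q := sm gh N12659
def N13620 : Q := sm gi N12661
def N13621 : Q := sm gh N12662
def N13622 : Q := sm gh N12663
def N13623 : Q := sm gd N12664
def N13624 : Q := sm gh N12665
def N13625 : Q := sm gd N12666
def N13626 : Q := sm gh N12667
def N13627 : Q := sm gd N12668
def N13628 : Q := sm gc N12669
def N13629 : Q := sm gd N12673
def N13630 : Q := sm ge N12674
def N13631 : Q := sm gd N12675
def N13632 : Q := sm gd N12676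
def N13633 : Q := sm gd N12677
def N13634 : Q := sm ge N12678
def N13635 : Q := sm gd N12679
def N13636 : Q := sm gc N12680
def N13637 : Q := sm gb N12683
def N13638 : Q := sm ge N12685
def N13639 : Q := sm gi N12685
def N13640 : Q := sm gf N12686
def N13641 : Q := sm gi N12686
def N13642 : Q := sm gh N12687
def N13643 : Q := sm gd N12688
def N13644 : Q := sm gf N12688
def N13645 : Q := sm gi N12688
def N13646 : Q := sm gh N12689
def N13647 : Q := sm gi N12690
def N13648 : Q := sm gh N12691
def N13649 : Q := sm gf N12693
def N13650 : Q := sm gh N12693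
def N13651 : Q := sm gi N12693
def N13652 : Q := sm gg N12694
def N13653 : Q := sm gi N12694
def N13654 : Q := sm gh N12695
def N13655 : Q := sm gd N12696
def N13656 : Q := sm gi N12697
def N13657 : Q := sm gh N12698
def N13658 : Q := sm gd N12699
def N13659 : Q := sm ge N12700
def N13660 : Q := sm gg N12700
def N13661 : Q := sm gh N12700
def N13662 : Q := sm gi N12700
def N13663 : Q := sm gi N12701
def N13664 : Q := sm gh N12702
def N13665 : Q := sm gi N12703
def N13666 : Q := sm gh N12704
def N13667 : Q := sm gd N12705
def N13668 : Q := sm ge N12706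
def N13669 : Q := sm gh N12707
def N13670 : Q := sm gd N12708
def N13671 : Q := sm gc N12709
def N13672 : Q := sm gi N12710
def N13673 : Q := sm gi N12711
def N13674 : Q := sm gi N12712
def N13675 : Q := sm gh N12713
def N13676 : Q := sm gh N12716
def N13677 : Q := sm gd N12717
def N13678 : Q := sm gd N12720
def N13679 : Q := sm gc N12721
def N13680 : Q := sm ge N12721
def N13681 : Q := sm gh N12723
def N13682 : Q := sm gd N12724
def N13683 : Q := sm gh N12725
def N13684 : Q := sm gd N12726
def N13685 : Q := sm gc N12727
def N13686 : Q := sm gd N12728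
def N13687 : Q := sm gc N12729
def N13688 : Q := sm ge N12729
def N13689 : Q := sm gb N12730
def N13690 : Q := sm gb N12732
def N13691 : Q := sm gd N12735
def N13692 : Q := sm gd N12737
def N13693 : Q := sm gc N12738
def N13694 : Q := sm ge N12738
def N13695 : Q := sm gb N12739
def N13696 : Q := sm ga N12743
def N13697 : Q := sm gg N12745
def N13698 : Q := sm gi N12745
def N13699 : Q := sm gh N12746
def N13700 : Q := sm gi N12748
def N13701 : Q := sm gi N12749
def N13702 : Q := sm gi N12750
def N13703 : Q := sm gh N12751
def N13704 : Q := sm gh N12752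
def N13705 : Q := sm gd N12753
def N13706 : Q := sm gh N12754
def N13707 : Q := sm gd N12755
def N13708 : Q := sm gc N12756
def N13709 : Q := sm ge N12756
def N13710 : Q := sm gd N12758
def N13711 : Q := sm gc N12759
def N13712 : Q := sm ge N12759
def N13713 : Q := sm gb N12760
def N13714 : Q := sm gh N12761
def N13715 : Q := sm gh N12762
def N13716 : Q := sm gh N12763
def N13717 : Q := sm gd N12764
def N13718 : Q := sm gd N12767
def N13719 : Q := sm gc N12768
def N13720 : Q := sm ge N12768
def N13721 : Q := sm gb N12776
def N13722 : Q := sm ga N12778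
def N13723 : Q := sm gi N12787
def N13724 : Q := sm gh N12788
def N13725 : Q := sm gg N12790
def N13726 : Q := sm gi N12791
def N13727 : Q := sm gi N12799
def N13728 : Q := sm gh N12800
def N13729 : Q := sm gh N12802
def N13730 : Q := sm gc N12807
def N13731 : Q := sm ge N12807
def N13732 : Q := sm gi N12807
def N13733 : Q := sm gd N12809
def N13734 : Q := sm gi N12809
def N13735 : Q := sm gc N12810
def N13736 : Q := sm ge N12810
def N13737 : Q := sm gi N12810
def N13738 : Q := sm gb N12812
def N13739 : Q := sm ge N12812
def N13740 : Q := sm gi N12812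
def N13741 : Q := sm gf N12813
def N13742 : Q := sm gi N12813
def N13743 : Q := sm gh N12814
def N13744 : Q := sm gc N12815
def N13745 : Q := sm ge N12815
def N13746 : Q := sm gi N12815
def N13747 : Q := sm gb N12817
def N13748 : Q := sm ge N12817
def N13749 : Q := sm gi N12817
def N13750 : Q := sm gi N12818
def N13751 : Q := sm gh N12819
def N13752 : Q := sm ga N12820
def N13753 : Q := sm ge N12820
def N13754 : Q := sm gi N12820
def N13755 : Q := sm gd N12821
def N13756 : Q := sm gf N12821
def N13757 : Q := sm gi N12821
def N13758 : Q := sm gh N12822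
def N13759 : Q := sm gg N12823
def N13760 : Q := sm gi N12823
def N13761 : Q := sm gh N12824
def N13762 : Q := sm gh N12826
def N13763 : Q := sm gf N12828
def N13764 : Q := sm gh N12828
def N13765 : Q := sm gi N12828
def N13766 : Q := sm gg N12829
def N13767 : Q := sm gi N12829
def N13768 : Q := sm gh N12830
def N13769 : Q := sm gi N12832
def N13770 : Q := sm gh N12833
def N13771 : Q := sm gd N12834
def N13772 : Q := sm ge N12835
def N13773 : Q := sm gg N12835
def N13774 : Q := sm gi N12836
def N13775 : Q := sm gh N12838
def N13776 : Q := sm gi N12840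
def N13777 : Q := sm gb N12842
def N13778 : Q := sm gi N12842
def N13779 : Q := sm gi N12843
def N13780 : Q := sm gh N12844
def N13781 : Q := sm ga N12845
def N13782 : Q := sm ge N12845
def N13783 : Q := sm gi N12845
def N13784 : Q := sm gi N12846
def N13785 : Q := sm gh N12847
def N13786 : Q := sm gi N12848
def N13787 : Q := sm gh N12849
def N13788 : Q := sm gb N12851
def N13789 : Q := sm gi N12851
def N13790 : Q := sm gi N12852
def N13791 : Q := sm gh N12853
def N13792 : Q := sm ga N12854
def N13793 : Q := sm gi N12854
def N13794 : Q := sm gh N12855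
def N13795 : Q := sm gh N12856
def N13796 : Q := sm ge N12858
def N13797 : Q := sm gi N12858
def N13798 : Q := sm gf N12859
def N13799 : Q := sm gi N12859
def N13800 : Q := sm gh N12860
def N13801 : Q := sm gi N12861
def N13802 : Q := sm gh N12862
def N13803 : Q := sm gd N12863
def N13804 : Q := sm gi N12864
def N13805 : Q := sm gh N12865
def N13806 : Q := sm gd N12866
def N13807 : Q := sm gd N12867
def N13808 : Q := sm gd N12869
def N13809 : Q := sm gc N12870
def N13810 : Q := sm ge N12872
def N13811 : Q := sm gi N12873
def N13812 : Q := sm gi N12877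
def N13813 : Q := sm gh N12878
def N13814 : Q := sm gd N12879
def N13815 : Q := sm gh N12880
def N13816 : Q := sm gd N12881
def N13817 : Q := sm ge N12882
def N13818 : Q := sm gh N12883
def N13819 : Q := sm gh N12884
def N13820 : Q := sm gh N12885
def N13821 : Q := sm gi N12887
def N13822 : Q := sm gh N12888
def N13823 : Q := sm gh N12889
def N13824 : Q := sm gd N12890
def N13825 : Q := sm gh N12891
def N13826 : Q := sm gd N12892
def N13827 : Q := sm gh N12893
def N13828 : Q := sm gh N12894
def N13829 : Q := sm gi N12896
def N13830 : Q := sm gh N12897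
def N13831 : Q := sm gd N12898
def N13832 : Q := sm gd N12899
def N13833 : Q := sm gi N12900
def N13834 : Q := sm gh N12901
def N13835 : Q := sm gh N12902
def N13836 : Q := sm gd N12903
def N13837 : Q := sm gh N12904
def N13838 : Q := sm ge N12906
def N13839 : Q := sm gh N12907
def N13840 : Q := sm gd N12908
def N13841 : Q := sm gc N12909
def N13842 : Q := sm ge N12911
def N13843 : Q := sm gb N12912
def N13844 : Q := sm gd N12916
def N13845 : Q := sm gd N12921
def N13846 : Q := sm gi N12921
def N13847 : Q := sm gc N12922
def N13848 : Q := sm gi N12922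
def N13849 : Q := sm gb N12924
def N13850 : Q := sm ge N12924
def N13851 : Q := sm gi N12924
def N13852 : Q := sm gf N12925
def N13853 : Q := sm gi N12925
def N13854 : Q := sm gh N12926
def N13855 : Q := sm gi N12927
def N13856 : Q := sm gc N12928
def N13857 : Q := sm gi N12928
def N13858 : Q := sm gb N12930
def N13859 : Q := sm ge N12930
def N13860 : Q := sm gi N12930
def N13861 : Q := sm gi N12931
def N13862 : Q := sm gh N12932
def N13863 : Q := sm ga N12933
def N13864 : Q := sm ge N12933
def N13865 : Q := sm gi N12933
def N13866 : Q := sm gd N12934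
def N13867 : Q := sm gf N12934
def N13868 : Q := sm gi N12934
def N13869 : Q := sm gh N12935
def N13870 : Q := sm gg N12936
def N13871 : Q := sm gi N12936
def N13872 : Q := sm gh N12937
def N13873 : Q := sm ge N12939
def N13874 : Q := sm gi N12939
def N13875 : Q := sm gi N12940
def N13876 : Q := sm gh N12941
def N13877 : Q := sm ga N12942
def N13878 : Q := sm ge N12942
def N13879 : Q := sm gi N12942
def N13880 : Q := sm gd N12943
def N13881 : Q := sm gf N12943
def N13882 : Q := sm gi N12943
def N13883 : Q := sm gh N12944
def N13884 : Q := sm gg N12945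
def N13885 : Q := sm gi N12945
def N13886 : Q := sm gh N12946
def N13887 : Q := sm ge N12948
def N13888 : Q := sm gi N12948
def N13889 : Q := sm gd N12949
def N13890 : Q := sm gf N12949
def N13891 : Q := sm gi N12949
def N13892 : Q := sm gh N12950
def N13893 : Q := sm gf N12951
def N13894 : Q := sm gh N12951
def N13895 : Q := sm gi N12951
def N13896 : Q := sm gg N12952
def N13897 : Q := sm gi N12952
def N13898 : Q := sm gh N12953
def N13899 : Q := sm gd N12954
def N13900 : Q := sm gi N12955
def N13901 : Q := sm gh N12956
def N13902 : Q := sm gd N12957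
def N13903 : Q := sm gf N12958
def N13904 : Q := sm gi N12958
def N13905 : Q := sm gg N12959
def N13906 : Q := sm gi N12959
def N13907 : Q := sm gh N12960
def N13908 : Q := sm gi N12962
def N13909 : Q := sm gh N12963
def N13910 : Q := sm gd N12964
def N13911 : Q := sm ge N12965
def N13912 : Q := sm gg N12965
def N13913 : Q := sm gh N12965
def N13914 : Q := sm gi N12965
def N13915 : Q := sm gi N12966
def N13916 : Q := sm gh N12967
def N13917 : Q := sm gi N12968
def N13918 : Q := sm gh N12969
def N13919 : Q := sm gd N12970
def N13920 : Q := sm ge N12971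
def N13921 : Q := sm gh N12972
def N13922 : Q := sm gd N12973
def N13923 : Q := sm gc N12974
def N13924 : Q := sm gi N12975
def N13925 : Q := sm gi N12976
def N13926 : Q := sm gh N12979
def N13927 : Q := sm gh N12984
def N13928 : Q := sm gi N12985
def N13929 : Q := sm gh N12986
def N13930 : Q := sm gh N12987
def N13931 : Q := sm gi N12989
def N13932 : Q := sm gf N12990
def N13933 : Q := sm gi N12990
def N13934 : Q := sm gh N12991
def N13935 : Q := sm gi N12992
def N13936 : Q := sm gh N12993
def N13937 : Q := sm gi N12995
def N13938 : Q := sm gh N12996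
def N13939 : Q := sm gd N12997
def N13940 : Q := sm gh N12998
def N13941 : Q := sm gi N13000
def N13942 : Q := sm gi N13001
def N13943 : Q := sm gh N13002
def N13944 : Q := sm gh N13003
def N13945 : Q := sm gi N13005
def N13946 : Q := sm gh N13006
def N13947 : Q := sm gd N13007
def N13948 : Q := sm gf N13008
def N13949 : Q := sm gi N13008
def N13950 : Q := sm gh N13009
def N13951 : Q := sm gg N13010
def N13952 : Q := sm gi N13010
def N13953 : Q := sm gh N13011
def N13954 : Q := sm gi N13013
def N13955 : Q := sm gh N13014
def N13956 : Q := sm gd N13015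
def N13957 : Q := sm gh N13016
def N13958 : Q := sm gd N13017
def N13959 : Q := sm gc N13018
def N13960 : Q := sm gd N13020
def N13961 : Q := sm gc N13021
def N13962 : Q := sm gc N13023
def N13963 : Q := sm gb N13024
def N13964 : Q := sm gd N13028
def N13965 : Q := sm gh N13029
def N13966 : Q := sm gh N13031
def N13967 : Q := sm gd N13032
def N13968 : Q := sm gh N13033
def N13969 : Q := sm gd N13034
def N13970 : Q := sm gc N13035
def N13971 : Q := sm gd N13036
def N13972 : Q := sm gh N13037
def N13973 : Q := sm gd N13039
def N13974 : Q := sm gh N13040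
def N13975 : Q := sm gd N13041
def N13976 : Q := sm gc N13042
def N13977 : Q := sm gi N13043
def N13978 : Q := sm gh N13044
def N13979 : Q := sm gh N13046
def N13980 : Q := sm gd N13047
def N13981 : Q := sm gh N13048
def N13982 : Q := sm gd N13049
def N13983 : Q := sm gc N13050
def N13984 : Q := sm gc N13052
def N13985 : Q := sm gb N13053
def N13986 : Q := sm gc N13054
def N13987 : Q := sm ge N13054
def N13988 : Q := sm ga N13057
def N13989 : Q := sm gi N13058
def N13990 : Q := sm gb N13060
def N13991 : Q := sm ge N13060
def N13992 : Q := sm gi N13060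
def N13993 : Q := sm gf N13061
def N13994 : Q := sm gi N13061
def N13995 : Q := sm gh N13062
def N13996 : Q := sm ga N13063
def N13997 : Q := sm ge N13063
def N13998 : Q := sm gi N13063
def N13999 : Q := sm gi N13064
def N14000 : Q := sm gh N13065
def N14001 : Q := sm gg N13066
def N14002 : Q := sm gi N13066
def N14003 : Q := sm gh N13067
def N14004 : Q := sm gi N13070
def N14005 : Q := sm gi N13074
def N14006 : Q := sm gd N13075
def N14007 : Q := sm gi N13075
def N14008 : Q := sm gi N13085
def N14009 : Q := sm gh N13086
def N14010 : Q := sm gc N13090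
def N14011 : Q := sm gi N13090
def N14012 : Q := sm gi N13092
def N14013 : Q := sm gh N13093
def N14014 : Q := sm gb N13094
def N14015 : Q := sm gi N13094
def N14016 : Q := sm gh N13095
def N14017 : Q := sm ga N13096
def N14018 : Q := sm gi N13096
def N14019 : Q := sm gd N13097
def N14020 : Q := sm gi N13097
def N14021 : Q := sm gh N13098
def N14022 : Q := sm gh N13099
def N14023 : Q := sm gi N13101
def N14024 : Q := sm ge N13103
def N14025 : Q := sm gi N13107
def N14026 : Q := sm gh N13108
def N14027 : Q := sm gi N13110
def N14028 : Q := sm gh N13111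
def N14029 : Q := sm gd N13112
def N14030 : Q := sm gh N13114
def N14031 : Q := sm gd N13115
def N14032 : Q := sm gh N13116
def N14033 : Q := sm gd N13117
def N14034 : Q := sm ge N13118
def N14035 : Q := sm gd N13119
def N14036 : Q := sm gh N13120
def N14037 : Q := sm gd N13121
def N14038 : Q := sm gd N13124
def N14039 : Q := sm gd N13127
def N14040 : Q := sm gi N13127
def N14041 : Q := sm gc N13128
def N14042 : Q := sm ge N13128
def N14043 : Q := sm gi N13128
def N14044 : Q := sm gb N13130
def N14045 : Q := sm ge N13130
def N14046 : Q := sm gi N13130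
def N14047 : Q := sm gf N13131
def N14048 : Q := sm gi N13131
def N14049 : Q := sm gh N13132
def N14050 : Q := sm gc N13133
def N14051 : Q := sm gi N13133
def N14052 : Q := sm gb N13135
def N14053 : Q := sm gi N13135
def N14054 : Q := sm gh N13136
def N14055 : Q := sm ga N13137
def N14056 : Q := sm ge N13137
def N14057 : Q := sm gi N13137
def N14058 : Q := sm gd N13138
def N14059 : Q := sm gf N13138
def N14060 : Q := sm gi N13138
def N14061 : Q := sm gh N13139
def N14062 : Q := sm gi N13140
def N14063 : Q := sm gh N13141
def N14064 : Q := sm ge N13143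
def N14065 : Q := sm gi N13143
def N14066 : Q := sm gi N13144
def N14067 : Q := sm gh N13145
def N14068 : Q := sm ge N13146
def N14069 : Q := sm gi N13146
def N14070 : Q := sm gd N13147
def N14071 : Q := sm gf N13147
def N14072 : Q := sm gi N13147
def N14073 : Q := sm gh N13148
def N14074 : Q := sm gi N13149
def N14075 : Q := sm gh N13150
def N14076 : Q := sm ge N13152
def N14077 : Q := sm gi N13152
def N14078 : Q := sm gd N13153
def N14079 : Q := sm gf N13153
def N14080 : Q := sm gi N13153
def N14081 : Q := sm gh N13154
def N14082 : Q := sm gf N13155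
def N14083 : Q := sm gh N13155
def N14084 : Q := sm gi N13155
def N14085 : Q := sm gg N13156
def N14086 : Q := sm gi N13156
def N14087 : Q := sm gh N13157
def N14088 : Q := sm gd N13158
def N14089 : Q := sm gi N13159
def N14090 : Q := sm gh N13160
def N14091 : Q := sm gd N13161
def N14092 : Q := sm gf N13162
def N14093 : Q := sm gh N13162
def N14094 : Q := sm gi N13162
def N14095 : Q := sm gg N13163
def N14096 : Q := sm gi N13163
def N14097 : Q := sm gi N13165
def N14098 : Q := sm ge N13167
def N14099 : Q := sm gg N13167
def N14100 : Q := sm gh N13167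
def N14101 : Q := sm gi N13167
def N14102 : Q := sm gi N13168
def N14103 : Q := sm gh N13169
def N14104 : Q := sm gi N13170
def N14105 : Q := sm gh N13171
def N14106 : Q := sm gd N13172
def N14107 : Q := sm ge N13173
def N14108 : Q := sm gh N13174
def N14109 : Q := sm gd N13175
def N14110 : Q := sm gc N13176
def N14111 : Q := sm gi N13177
def N14112 : Q := sm gi N13178
def N14113 : Q := sm gh N13181
def N14114 : Q := sm gh N13185
def N14115 : Q := sm gi N13186
def N14116 : Q := sm gh N13187
def N14117 : Q := sm gi N13189
def N14118 : Q := sm gi N13190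
def N14119 : Q := sm gh N13191
def N14120 : Q := sm gh N13192
def N14121 : Q := sm gd N13193
def N14122 : Q := sm gh N13194
def N14123 : Q := sm gh N13196
def N14124 : Q := sm gi N13198
def N14125 : Q := sm gh N13199
def N14126 : Q := sm gh N13200
def N14127 : Q := sm gd N13201
def N14128 : Q := sm gh N13202
def N14129 : Q := sm gi N13204
def N14130 : Q := sm gh N13205
def N14131 : Q := sm gi N13206
def N14132 : Q := sm gh N13207
def N14133 : Q := sm gd N13208
def N14134 : Q := sm gh N13209
def N14135 : Q := sm gd N13210
def N14136 : Q := sm ge N13211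
def N14137 : Q := sm gh N13212
def N14138 : Q := sm gd N13213
def N14139 : Q := sm gd N13218
def N14140 : Q := sm ge N13219
def N14141 : Q := sm gd N13220
def N14142 : Q := sm gc N13221
def N14143 : Q := sm ge N13221
def N14144 : Q := sm gd N13224
def N14145 : Q := sm gh N13225
def N14146 : Q := sm gd N13226
def N14147 : Q := sm gd N13230
def N14148 : Q := sm gd N13231
def N14149 : Q := sm ge N13232
def N14150 : Q := sm gh N13234
def N14151 : Q := sm gd N13235
def N14152 : Q := sm gd N13236
def N14153 : Q := sm gd N13238
def N14154 : Q := sm gb N13245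
def N14155 : Q := sm ge N13245
def N14156 : Q := sm gi N13245
def N14157 : Q := sm gi N13246
def N14158 : Q := sm gh N13247
def N14159 : Q := sm gi N13248
def N14160 : Q := sm gh N13249
def N14161 : Q := sm gh N13251
def N14162 : Q := sm gd N13253
def N14163 : Q := sm gf N13253
def N14164 : Q := sm gi N13253
def N14165 : Q := sm gh N13254
def N14166 : Q := sm gf N13255
def N14167 : Q := sm gh N13255
def N14168 : Q := sm gi N13255
def N14169 : Q := sm gi N13256
def N14170 : Q := sm gh N13257
def N14171 : Q := sm gd N13258
def N14172 : Q := sm gh N13259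
def N14173 : Q := sm ge N13261
def N14174 : Q := sm gh N13261
def N14175 : Q := sm gi N13261
def N14176 : Q := sm gi N13262
def N14177 : Q := sm gh N13263
def N14178 : Q := sm ge N13265
def N14179 : Q := sm gg N13266
def N14180 : Q := sm gh N13266
def N14181 : Q := sm gi N13266
def N14182 : Q := sm gh N13267
def N14183 : Q := sm gi N13267
def N14184 : Q := sm gh N13270
def N14185 : Q := sm gh N13274
def N14186 : Q := sm gi N13276
def N14187 : Q := sm gh N13277
def N14188 : Q := sm gh N13279
def N14189 : Q := sm gd N13280
def N14190 : Q := sm gd N13282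
def N14191 : Q := sm gi N13284
def N14192 : Q := sm ge N13286
def N14193 : Q := sm gi N13286
def N14194 : Q := sm gi N13287
def N14195 : Q := sm gh N13288
def N14196 : Q := sm ga N13289
def N14197 : Q := sm ge N13289
def N14198 : Q := sm gi N13289
def N14199 : Q := sm gd N13290
def N14200 : Q := sm gf N13290
def N14201 : Q := sm gi N13290
def N14202 : Q := sm gh N13291
def N14203 : Q := sm gg N13292
def N14204 : Q := sm gi N13292
def N14205 : Q := sm gh N13293
def N14206 : Q := sm gd N13295
def N14207 : Q := sm gf N13295
def N14208 : Q := sm gh N13296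
def N14209 : Q := sm ge N13299
def N14210 : Q := sm gi N13299
def N14211 : Q := sm gd N13300
def N14212 : Q := sm gf N13300
def N14213 : Q := sm gi N13300
def N14214 : Q := sm gh N13301
def N14215 : Q := sm gf N13302
def N14216 : Q := sm gh N13302
def N14217 : Q := sm gi N13302
def N14218 : Q := sm gg N13303
def N14219 : Q := sm gi N13303
def N14220 : Q := sm gh N13304
def N14221 : Q := sm gd N13305
def N14222 : Q := sm gi N13306
def N14223 : Q := sm gh N13307
def N14224 : Q := sm gf N13309
def N14225 : Q := sm gh N13309
def N14226 : Q := sm gi N13309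
def N14227 : Q := sm gg N13310
def N14228 : Q := sm gi N13310
def N14229 : Q := sm gh N13311
def N14230 : Q := sm gd N13312
def N14231 : Q := sm gi N13313
def N14232 : Q := sm gh N13314
def N14233 : Q := sm gd N13316
def N14234 : Q := sm gf N13316
def N14235 : Q := sm gi N13316
def N14236 : Q := sm gh N13317
def N14237 : Q := sm gf N13318
def N14238 : Q := sm gh N13318
def N14239 : Q := sm gi N13318
def N14240 : Q := sm gg N13319
def N14241 : Q := sm gi N13319
def N14242 : Q := sm gh N13320
def N14243 : Q := sm gd N13321
def N14244 : Q := sm ge N13322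
def N14245 : Q := sm gg N13322
def N14246 : Q := sm gh N13322
def N14247 : Q := sm gi N13322
def N14248 : Q := sm gi N13323
def N14249 : Q := sm gh N13324
def N14250 : Q := sm gi N13325
def N14251 : Q := sm gh N13326
def N14252 : Q := sm gd N13327
def N14253 : Q := sm ge N13328
def N14254 : Q := sm gh N13329
def N14255 : Q := sm gd N13330
def N14256 : Q := sm gc N13331
def N14257 : Q := sm ge N13332
def N14258 : Q := sm gg N13332
def N14259 : Q := sm gh N13332
def N14260 : Q := sm gi N13332
def N14261 : Q := sm gi N13333
def N14262 : Q := sm gh N13334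
def N14263 : Q := sm gi N13335
def N14264 : Q := sm gh N13336
def N14265 : Q := sm gd N13337
def N14266 : Q := sm ge N13338
def N14267 : Q := sm gh N13339
def N14268 : Q := sm gi N13341
def N14269 : Q := sm gi N13342
def N14270 : Q := sm gi N13343
def N14271 : Q := sm gh N13344
def N14272 : Q := sm gh N13345
def N14273 : Q := sm gd N13346
def N14274 : Q := sm gh N13347
def N14275 : Q := sm gd N13348
def N14276 : Q := sm gc N13349
def N14277 : Q := sm ge N13349
def N14278 : Q := sm gc N13352
def N14279 : Q := sm gb N13353
def N14280 : Q := sm gh N13354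
def N14281 : Q := sm gh N13355
def N14282 : Q := sm gd N13358
def N14283 : Q := sm gi N13361
def N14284 : Q := sm gh N13362
def N14285 : Q := sm gi N13363
def N14286 : Q := sm gh N13364
def N14287 : Q := sm gh N13366
def N14288 : Q := sm gd N13367
def N14289 : Q := sm gh N13368
def N14290 : Q := sm gh N13370
def N14291 : Q := sm gi N13372
def N14292 : Q := sm gh N13373
def N14293 : Q := sm gi N13375
def N14294 : Q := sm gh N13376
def N14295 : Q := sm gd N13377
def N14296 : Q := sm gh N13378
def N14297 : Q := sm gd N13379
def N14298 : Q := sm gc N13380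
def N14299 : Q := sm gb N13383
def N14300 : Q := sm gh N13386
def N14301 : Q := sm gd N13388
def N14302 : Q := sm gd N13389
def N14303 : Q := sm gh N13393
def N14304 : Q := sm gd N13394
def N14305 : Q := sm gd N13395
def N14306 : Q := sm gc N13396
def N14307 : Q := sm gf N13400
def N14308 : Q := sm gi N13400
def N14309 : Q := sm gh N13401
def N14310 : Q := sm gh N13402
def N14311 : Q := sm gh N13403
def N14312 : Q := sm gh N13405
def N14313 : Q := sm ge N13407
def N14314 : Q := sm gi N13407
def N14315 : Q := sm gf N13408
def N14316 : Q := sm gi N13408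
def N14317 : Q := sm gh N13409
def N14318 : Q := sm gg N13410
def N14319 : Q := sm gi N13410
def N14320 : Q := sm gh N13411
def N14321 : Q := sm gi N13413
def N14322 : Q := sm gh N13414
def N14323 : Q := sm gd N13415
def N14324 : Q := sm gf N13417
def N14325 : Q := sm gh N13417
def N14326 : Q := sm gi N13417
def N14327 : Q := sm gg N13418
def N14328 : Q := sm gi N13418
def N14329 : Q := sm gh N13419
def N14330 : Q := sm ge N13421
def N14331 : Q := sm gg N13421
def N14332 : Q := sm gh N13421
def N14333 : Q := sm gi N13421
def N14334 : Q := sm gi N13422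
def N14335 : Q := sm gh N13423
def N14336 : Q := sm gi N13424
def N14337 : Q := sm gh N13425
def N14338 : Q := sm gd N13426
def N14339 : Q := sm ge N13427
def N14340 : Q := sm gi N13428
def N14341 : Q := sm gi N13429
def N14342 : Q := sm gi N13430
def N14343 : Q := sm gh N13431
def N14344 : Q := sm gh N13432
def N14345 : Q := sm gd N13433
def N14346 : Q := sm gh N13434
def N14347 : Q := sm gd N13435
def N14348 : Q := sm gc N13436
def N14349 : Q := sm ge N13436
def N14350 : Q := sm gf N13437
def N14351 : Q := sm gb N13440
def N14352 : Q := sm gi N13441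
def N14353 : Q := sm gi N13442
def N14354 : Q := sm gi N13443
def N14355 : Q := sm gh N13444
def N14356 : Q := sm gh N13445
def N14357 : Q := sm gd N13446
def N14358 : Q := sm gh N13447
def N14359 : Q := sm gd N13448
def N14360 : Q := sm gc N13449
def N14361 : Q := sm ge N13449
def N14362 : Q := sm gc N13452
def N14363 : Q := sm gb N13453
def N14364 : Q := sm gh N13454
def N14365 : Q := sm gh N13455
def N14366 : Q := sm gh N13456
def N14367 : Q := sm gd N13457
def N14368 : Q := sm gd N13458
def N14369 : Q := sm gc N13459
def N14370 : Q := sm ge N13459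
def N14371 : Q := sm gd N13460
def N14372 : Q := sm gb N13462
def N14373 : Q := sm gd N13465
def N14374 : Q := sm gi N13470
def N14375 : Q := sm gh N13471
def N14376 : Q := sm gd N13472
def N14377 : Q := sm gh N13473
def N14378 : Q := sm gd N13474
def N14379 : Q := sm gc N13475
def N14380 : Q := sm ge N13477
def N14381 : Q := sm gb N13478
def N14382 : Q := sm gh N13481
def N14383 : Q := sm gd N13482
def N14384 : Q := sm gd N13489
def N14385 : Q := sm gi N13490
def N14386 : Q := sm gh N13491
def N14387 : Q := sm gf N13493
def N14388 : Q := sm gh N13493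
def N14389 : Q := sm gg N13494
def N14390 : Q := sm ge N13496
def N14391 : Q := sm gg N13496
def N14392 : Q := sm gh N13496
def N14393 : Q := sm gi N13497
def N14394 : Q := sm ge N13499
def N14395 : Q := sm gg N13499
def N14396 : Q := sm gh N13499
def N14397 : Q := sm gi N13500
def N14398 : Q := sm gi N13504
def N14399 : Q := sm gh N13506
def N14400 : Q := sm gd N13507
def N14401 : Q := sm gh N13508
def N14402 : Q := sm gd N13509
def N14403 : Q := sm ge N13510
def N14404 : Q := sm gh N13516
def N14405 : Q := sm gi N13518
def N14406 : Q := sm gh N13521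
def N14407 : Q := sm gf N13523
def N14408 : Q := sm gh N13523
def N14409 : Q := sm gi N13523
def N14410 : Q := sm gi N13524
def N14411 : Q := sm gh N13525
def N14412 : Q := sm gi N13527
def N14413 : Q := sm gh N13528
def N14414 : Q := sm gd N13529
def N14415 : Q := sm ge N13530
def N14416 : Q := sm gg N13530
def N14417 : Q := sm gh N13530
def N14418 : Q := sm gi N13530
def N14419 : Q := sm gi N13531
def N14420 : Q := sm gh N13532
def N14421 : Q := sm gi N13533
def N14422 : Q := sm gi N13538
def N14423 : Q := sm gi N13542
def N14424 : Q := sm gh N13546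
def N14425 : Q := sm gd N13548
def N14426 : Q := sm gc N13549
def N14427 : Q := sm gd N13550
def N14428 : Q := sm gc N13551
def N14429 : Q := sm gb N13552
def N14430 : Q := sm ge N13552
def N14431 : Q := sm gi N13557
def N14432 : Q := sm gh N13558
def N14433 : Q := sm gd N13561
def N14434 : Q := sm gd N13562
def N14435 : Q := sm gd N13564
def N14436 : Q := sm gc N13565
def N14437 : Q := sm gh N13566
def N14438 : Q := sm gh N13567
def N14439 : Q := sm gh N13568
def N14440 : Q := sm gd N13569
def N14441 : Q := sm gd N13570
def N14442 : Q := sm gd N13572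
def N14443 : Q := sm gc N13573
def N14444 : Q := sm ge N13573
def N14445 : Q := sm gb N13574
def N14446 : Q := sm gb N13583
def N14447 : Q := sm ge N13583
def N14448 : Q := sm gi N13583
def N14449 : Q := sm gf N13584
def N14450 : Q := sm gi N13584
def N14451 : Q := sm gh N13585
def N14452 : Q := sm gi N13586
def N14453 : Q := sm gd N13587
def N14454 : Q := sm gi N13587
def N14455 : Q := sm gh N13588
def N14456 : Q := sm gh N13589
def N14457 : Q := sm gd N13591
def N14458 : Q := sm gi N13591
def N14459 : Q := sm gh N13592
def N14460 : Q := sm gf N13593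
def N14461 : Q := sm gh N13593
def N14462 : Q := sm gi N13593
def N14463 : Q := sm gi N13594
def N14464 : Q := sm gh N13595
def N14465 : Q := sm gd N13596
def N14466 : Q := sm gh N13597
def N14467 : Q := sm gd N13598
def N14468 : Q := sm ge N13599
def N14469 : Q := sm gg N13599
def N14470 : Q := sm gh N13599
def N14471 : Q := sm gi N13599
def N14472 : Q := sm gi N13600
def N14473 : Q := sm gh N13601
def N14474 : Q := sm gi N13602
def N14475 : Q := sm gh N13603
def N14476 : Q := sm gd N13604
def N14477 : Q := sm ge N13605
def N14478 : Q := sm gh N13606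
def N14479 : Q := sm gd N13607
def N14480 : Q := sm gc N13608
def N14481 : Q := sm gi N13609
def N14482 : Q := sm gi N13610
def N14483 : Q := sm gh N13613
def N14484 : Q := sm gh N13617
def N14485 : Q := sm gd N13618
def N14486 : Q := sm gd N13619
def N14487 : Q := sm gh N13620
def N14488 : Q := sm gd N13621
def N14489 : Q := sm gd N13622
def N14490 : Q := sm ge N13623
def N14491 : Q := sm gd N13624
def N14492 : Q := sm gc N13625
def N14493 : Q := sm gb N13628
def N14494 : Q := sm gc N13629
def N14495 : Q := sm ge N13629
def N14496 : Q := sm gf N13630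
def N14497 : Q := sm ge N13631
def N14498 : Q := sm gc N13632
def N14499 : Q := sm gc N13633
def N14500 : Q := sm ge N13633
def N14501 : Q := sm gf N13634
def N14502 : Q := sm gd N13638
def N14503 : Q := sm gf N13638
def N14504 : Q := sm gi N13638
def N14505 : Q := sm gh N13639
def N14506 : Q := sm gg N13640
def N14507 : Q := sm gi N13640
def N14508 : Q := sm gh N13641
def N14509 : Q := sm gf N13643
def N14510 : Q := sm gh N13643
def N14511 : Q := sm gi N13643
def N14512 : Q := sm gi N13644
def N14513 : Q := sm gh N13645
def N14514 : Q := sm gd N13646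
def N14515 : Q := sm gh N13647
def N14516 : Q := sm gd N13648
def N14517 : Q := sm ge N13649
def N14518 : Q := sm gg N13649
def N14519 : Q := sm gh N13649
def N14520 : Q := sm gi N13649
def N14521 : Q := sm gi N13650
def N14522 : Q := sm gh N13651
def N14523 : Q := sm gi N13652
def N14524 : Q := sm gh N13653
def N14525 : Q := sm gd N13654
def N14526 : Q := sm ge N13655
def N14527 : Q := sm gh N13656
def N14528 : Q := sm gd N13657
def N14529 : Q := sm gc N13658
def N14530 : Q := sm gi N13659
def N14531 : Q := sm gi N13660
def N14532 : Q := sm gi N13661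
def N14533 : Q := sm gh N13662
def N14534 : Q := sm gh N13663
def N14535 : Q := sm gd N13664
def N14536 : Q := sm gh N13665
def N14537 : Q := sm gd N13666
def N14538 : Q := sm gc N13667
def N14539 : Q := sm ge N13667
def N14540 : Q := sm gd N13669
def N14541 : Q := sm gc N13670
def N14542 : Q := sm ge N13670
def N14543 : Q := sm gb N13671
def N14544 : Q := sm gh N13672
def N14545 : Q := sm gh N13673
def N14546 : Q := sm gd N13676
def N14547 : Q := sm ge N13677
def N14548 : Q := sm gc N13678
def N14549 : Q := sm ge N13679
def N14550 : Q := sm gd N13681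
def N14551 : Q := sm gd N13683
def N14552 : Q := sm gc N13684
def N14553 : Q := sm ge N13684
def N14554 : Q := sm gb N13685
def N14555 : Q := sm gb N13687
def N14556 : Q := sm ga N13689
def N14557 : Q := sm ga N13695
def N14558 : Q := sm gi N13697
def N14559 : Q := sm gh N13698
def N14560 : Q := sm gd N13699
def N14561 : Q := sm gh N13700
def N14562 : Q := sm gh N13701
def N14563 : Q := sm gh N13702
def N14564 : Q := sm gd N13703
def N14565 : Q := sm gd N13704
def N14566 : Q := sm gc N13705
def N14567 : Q := sm ge N13705
def N14568 : Q := sm gd N13706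
def N14569 : Q := sm gc N13707
def N14570 : Q := sm ge N13707
def N14571 : Q := sm gb N13708
def N14572 : Q := sm ge N13708
def N14573 : Q := sm gb N13711
def N14574 : Q := sm ga N13713
def N14575 : Q := sm gd N13714
def N14576 : Q := sm gd N13715
def N14577 : Q := sm gb N13730
def N14578 : Q := sm ge N13730
def N14579 : Q := sm gi N13730
def N14580 : Q := sm gf N13731
def N14581 : Q := sm gi N13731
def N14582 : Q := sm gh N13732
def N14583 : Q := sm gc N13733
def N14584 : Q := sm gi N13733
def N14585 : Q := sm gb N13735
def N14586 : Q := sm ge N13735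
def N14587 : Q := sm gi N13735
def N14588 : Q := sm gi N13736
def N14589 : Q := sm gh N13737
def N14590 : Q := sm ga N13738
def N14591 : Q := sm ge N13738
def N14592 : Q := sm gi N13738
def N14593 : Q := sm gd N13739
def N14594 : Q := sm gf N13739
def N14595 : Q := sm gi N13739
def N14596 : Q := sm gh N13740
def N14597 : Q := sm gi N13741
def N14598 : Q := sm gh N13742
def N14599 : Q := sm gb N13744
def N14600 : Q := sm ge N13744
def N14601 : Q := sm gi N13744
def N14602 : Q := sm gi N13745
def N14603 : Q := sm gh N13746
def N14604 : Q := sm ga N13747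
def N14605 : Q := sm gi N13747
def N14606 : Q := sm gi N13748
def N14607 : Q := sm gh N13749
def N14608 : Q := sm gh N13750
def N14609 : Q := sm ge N13752
def N14610 : Q := sm gi N13752
def N14611 : Q := sm gd N13753
def N14612 : Q := sm gf N13753
def N14613 : Q := sm gi N13753
def N14614 : Q := sm gh N13754
def N14615 : Q := sm gf N13755
def N14616 : Q := sm gh N13755
def N14617 : Q := sm gi N13755
def N14618 : Q := sm gg N13756
def N14619 : Q := sm gi N13756
def N14620 : Q := sm gh N13757
def N14621 : Q := sm gd N13758
def N14622 : Q := sm gi N13759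
def N14623 : Q := sm gh N13760
def N14624 : Q := sm gd N13761
def N14625 : Q := sm gd N13762
def N14626 : Q := sm ge N13763
def N14627 : Q := sm gg N13763
def N14628 : Q := sm gh N13763
def N14629 : Q := sm gi N13763
def N14630 : Q := sm gi N13764
def N14631 : Q := sm gh N13765
def N14632 : Q := sm gi N13766
def N14633 : Q := sm gd N13768
def N14634 : Q := sm gd N13770
def N14635 : Q := sm gc N13771
def N14636 : Q := sm gh N13776
def N14637 : Q := sm gi N13777
def N14638 : Q := sm gh N13778

end Cfsg.Agent.Helper28.FibA
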