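import Cfsg.Agent.Helper28.FibB9

/-! # The Fi₂₂ presentation, cosets of the subgroup generated by b, …, i: the coset enumeration, part 10 (helper28; generated) -/

set_option autoImplicit false

noncomputable section

namespace Cfsg.Agent.Helper28.FibA

open Cfsg.Agent.Helper28.CosetTable

theorem L136375 : sm gc N10712 = N11656 := rfl
theorem L136377 : sm ga N11656 = N10726 := ded_10_1 (flp_c L128284) (flp_a L128189) L136375
theorem L136379 : sm gh N11656 = N10714 := ded_28_2 (flp_c L128199) (flp_h L128191) L136375
theorem L136381 : sm gd N11656 = N11656 := ded_24_2 (flp_c L136375) (flp_d L128187) L121169 L128187 L136375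
theorem L136382 : sm ge N10712 = N11657 := rfl
theorem L136384 : sm ga N11657 = N10727 := ded_12_1 (flp_e L128289) (flp_a L128189) L136382
theorem L136386 : sm gh N11657 = N10715 := ded_37_2 (flp_e L128205) (flp_h L128191) L136382
theorem L136388 : sm gd N11657 = N11657 := ded_30_1 (flp_e L136382) (flp_d L128187) L121170 L128187 L136382
theorem L136389 : sm gi N10712 = N11658 := rfl
theorem L136391 : sm ga N11658 = N10728 := ded_16_1 (flp_i L128296) (flp_a L128189) L136389
theorem L136393 : sm gd N11658 = N10713 := ded_34_1 (flp_i L128193) L128187 L136389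
theorem L136395 : sm gb N10714 = N11659 := rfl
theorem L136397 : sm gd N11659 = N10723 := ded_18_2 (flp_b L128263) (flp_d L128203) L136395
theorem L136399 : sm ge N10714 = N11660 := rfl
theorem L136401 : sm ga N11660 = N10729 := ded_12_1 (flp_e L128302) (flp_a L128201) L136399
theorem L136403 : sm gc N11660 = N10715 := ded_25_1 (flp_e L128205) L128199 L136399
theorem L136405 : sm gd N11660 = N11660 := ded_30_1 (flp_e L136399) L128203 L121223 (flp_d L128203) L136399
theorem L136406 : sm gi N10714 = N11661 := rfl
theorem L136408 : sm ga N11661 = N10730 := ded_16_1 (flp_i L128307) (flp_a L128201) L136406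
theorem L136410 : sm gc N11661 = N10716 := ded_29_1 (flp_i L128211) L128199 L136406
theorem L136412 : sm gd N11661 = N10724 := ded_34_1 (flp_i L128269) (flp_d L128203) L136406
theorem L136414 : sm gf N10715 = N11662 := rfl
theorem L136416 : sm ga N11662 = N10731 := ded_13_1 (flp_f L128313) (flp_a L128207) L136414
theorem L136418 : sm gd N11662 = N10717 := ded_31_1 (flp_f L128217) (flp_d L128209) L136414
theorem L136420 : sm gi N10715 = N11663 := rfl
theorem L136422 : sm ga N11663 = N10732 := ded_16_1 (flp_i L128319) (flp_a L128207) L136420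
theorem L136424 : sm gd N11663 = N10718 := ded_34_1 (flp_i L128225) (flp_d L128209) L136420
theorem L136426 : sm ge N11663 = N10716 := ded_38_1 (flp_i L128211) L128205 L136420
theorem L136428 : sm gh N10716 = N11664 := rfl
theorem L136430 : sm ga N11664 = N10733 := ded_15_1 (flp_h L128327) (flp_a L128213) L136428
theorem L136432 : sm gg N10717 = N11665 := rfl
theorem L136434 : sm ga N11665 = N10734 := ded_14_1 (flp_g L128331) (flp_a L128219) L136432
theorem L136436 : sm gc N11665 = N11665 := ded_27_1 (flp_g L136432) L128221 L136432
theorem L136437 : sm ge N11665 = N10720 := ded_36_1 (flp_g L128240) (flp_e L128223) L136432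
theorem L136439 : sm gh N11665 = N11665 := ded_42_2 (flp_g L136432) L128222 L136432
theorem L136440 : sm gi N10717 = N11666 := rfl
theorem L136442 : sm ga N11666 = N10735 := ded_16_1 (flp_i L128339) (flp_a L128219) L136440
theorem L136444 : sm gc N11666 = N11666 := ded_29_1 (flp_i L136440) L128221 L136440
theorem L136445 : sm ge N11666 = N10721 := ded_38_1 (flp_i L128247) (flp_e L128223) L136440
theorem L136447 : sm gf N11666 = N10718 := ded_41_1 (flp_i L128225) L128217 L136440
theorem L136449 : sm gh N10718 = N11667 := rfl
theorem L136451 : sm ga N11667 = N10736 := ded_15_1 (flp_h L128348) (flp_a L128227) L136449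
theorem L136453 : sm gc N11667 = N11667 := ded_28_1 (flp_h L136449) L128229 L136449
theorem L136454 : sm ge N11667 = N10719 := ded_37_1 (flp_h L128232) (flp_e L128230) L136449
theorem L136456 : sm gi N11667 = N11667 := ded_44_2 (flp_h L136449) (flp_i L128225) L121188 L128225 L136449
theorem L136457 : sm gi N10720 = N11668 := rfl
theorem L136459 : sm ga N11668 = N10737 := ded_16_1 (flp_i L128356) (flp_a L128242) L136457
theorem L136461 : sm gc N11668 = N11668 := ded_29_1 (flp_i L136457) L128244 L136457
theorem L136462 : sm gf N11668 = N11668 := ded_41_1 (flp_i L136457) L128246 L136457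
theorem L136463 : sm gg N11668 = N10721 := ded_43_1 (flp_i L128247) L128240 L136457
theorem L136465 : sm gh N10721 = N11669 := rfl
theorem L136467 : sm ga N11669 = N10738 := ded_15_1 (flp_h L128364) (flp_a L128249) L136465
theorem L136469 : sm gc N11669 = N11669 := ded_28_1 (flp_h L136465) L128251 L136465
theorem L136470 : sm gf N11669 = N10722 := ded_40_1 (flp_h L128254) (flp_f L128252) L136465
theorem L136472 : sm gi N11669 = N11669 := ded_44_2 (flp_h L136465) (flp_i L128247) L121203 L128247 L136465
theorem L136473 : sm gd N10722 = N11670 := rfl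
theorem L136475 : sm ga N11670 = N10739 := ded_11_1 (flp_d L128372) (flp_a L128256) L136473
theorem L136477 : sm gg N11670 = N11670 := ded_32_2 (flp_d L136473) L128261 L136473
theorem L136478 : sm gi N11670 = N11670 := ded_34_2 (flp_d L136473) L128262 L136473
theorem L136479 : sm gi N10723 = N11671 := rfl
theorem L136481 : sm gb N11671 = N10724 := ded_23_1 (flp_i L128269) L128263 L136479
theorem L136483 : sm gc N11671 = N11196 := ded_29_1 (flp_i L132477) (flp_c L128267) L136479
theorem L136485 : sm ge N11671 = N11671 := ded_38_1 (flp_i L136479) L128265 L136479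
theorem L136486 : sm gh N10724 = N11672 := rfl
theorem L136488 : sm ga N11672 = N10740 := ded_15_1 (flp_h L128378) (flp_a L128271) L136486
theorem L136490 : sm gc N11672 = N10725 := ded_28_1 (flp_h L128276) (flp_c L128273) L136486
theorem L136492 : sm ge N11672 = N11672 := ded_37_1 (flp_h L136486) L128275 L136486
theorem L136493 : sm gi N11672 = N11672 := ded_44_2 (flp_h L136486) (flp_i L128269) L121224 L128269 L136486
theorem L136494 : sm gi N10726 = N11673 := rfl
theorem L136496 : sm gc N11673 = N10728 := ded_29_1 (flp_i L128296) L128284 L136494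
theorem L136498 : sm gd N11673 = N11673 := ded_34_1 (flp_i L136494) L128288 L136494
theorem L136499 : sm gi N10727 = N11674 := rfl
theorem L136501 : sm gb N11674 = N10771 := ded_23_1 (flp_i L128594) (flp_b L128291) L136499
theorem L136503 : sm gd N11674 = N11674 := ded_34_1 (flp_i L136499) L128295 L136499
theorem L136504 : sm ge N11674 = N10728 := ded_38_1 (flp_i L128296) L128289 L136499
theorem L136506 : sm gh N10728 = N11675 := rfl
theorem L136508 : sm gb N11675 = N10772 := ded_22_1 (flp_h L128599) (flp_b L128298) L136506
theorem L136510 : sm gi N11675 = N10733 := ded_44_2 (flp_h L128327) (flp_i L121256) (flp_h L121238) L128296 L136506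
theorem L136512 : sm gi N10729 = N11676 := rfl
theorem L136514 : sm gc N11676 = N10732 := ded_29_1 (flp_i L128319) (flp_c L128304) L136512
theorem L136516 : sm gd N11676 = N11676 := ded_34_1 (flp_i L136512) L128306 L136512
theorem L136517 : sm ge N11676 = N10730 := ded_38_1 (flp_i L128307) L128302 L136512
theorem L136519 : sm gh N10730 = N11677 := rfl
theorem L136521 : sm gc N11677 = N10733 := ded_28_1 (flp_h L128327) (flp_c L128309) L136519
theorem L136523 : sm gi N10731 = N11678 := rfl
theorem L136525 : sm gb N11678 = N10774 := ded_23_1 (flp_i L128607) (flp_b L128315) L136523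
theorem L136527 : sm gd N11678 = N10735 := ded_34_1 (flp_i L128339) (flp_d L128317) L136523
theorem L136529 : sm gf N11678 = N10732 := ded_41_1 (flp_i L128319) L128313 L136523
theorem L136531 : sm gh N10732 = N11679 := rfl
theorem L136533 : sm gb N11679 = N10775 := ded_22_1 (flp_h L128613) (flp_b L128321) L136531
theorem L136535 : sm ge N11679 = N10733 := ded_37_1 (flp_h L128327) (flp_e L128325) L136531
theorem L136537 : sm gi N10734 = N11680 := rfl
theorem L136539 : sm gb N11680 = N10776 := ded_23_1 (flp_i L128617) (flp_b L128333) L136537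
theorem L136541 : sm gc N11680 = N11680 := ded_29_1 (flp_i L136537) L128335 L136537
theorem L136542 : sm ge N11680 = N10737 := ded_38_1 (flp_i L128356) (flp_e L128336) L136537
theorem L136544 : sm gg N11680 = N10735 := ded_43_1 (flp_i L128339) L128331 L136537
theorem L136546 : sm gh N10735 = N11681 := rfl
theorem L136548 : sm gb N11681 = N10777 := ded_22_1 (flp_h L128625) (flp_b L128341) L136546
theorem L136550 : sm gc N11681 = N11681 := ded_28_1 (flp_h L136546) L128343 L136546
theorem L136551 : sm ge N11681 = N10738 := ded_37_1 (flp_h L128364) (flp_e L128344) L136546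
theorem L136553 : sm gf N11681 = N10736 := ded_40_1 (flp_h L128348) (flp_f L128346) L136546
theorem L136555 : sm gi N11681 = N11681 := ded_44_2 (flp_h L136546) (flp_i L128339) L121267 L128339 L136546
theorem L136556 : sm gd N10736 = N11682 := rfl
theorem L136558 : sm gb N11682 = N10778 := ded_18_1 (flp_d L128634) (flp_b L128350) L136556
theorem L136560 : sm gi N11682 = N11682 := ded_34_2 (flp_d L136556) L128355 L136556
theorem L136561 : sm gh N10737 = N11683 := rfl
theorem L136563 : sm gb N11683 = N10779 := ded_22_1 (flp_h L128637) (flp_b L128358) L136561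
theorem L136565 : sm gc N11683 = N11683 := ded_28_1 (flp_h L136561) L128360 L136561
theorem L136566 : sm gf N11683 = N11683 := ded_40_1 (flp_h L136561) L128361 L136561
theorem L136567 : sm gg N11683 = N10738 := ded_42_1 (flp_h L128364) (flp_g L128362) L136561
theorem L136569 : sm gi N11683 = N11683 := ded_44_2 (flp_h L136561) (flp_i L128356) L121290 L128356 L136561
theorem L136570 : sm gd N10738 = N11684 := rfl
theorem L136572 : sm gb N11684 = N10780 := ded_18_1 (flp_d L128645) (flp_b L128366) L136570
theorem L136574 : sm gf N11684 = N10739 := ded_31_2 (flp_d L128372) (flp_f L128369) L136570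
theorem L136576 : sm gi N11684 = N11684 := ded_34_2 (flp_d L136570) L128371 L136570
theorem L136577 : sm gc N10739 = N11685 := rfl
theorem L136579 : sm gg N11685 = N11685 := ded_27_2 (flp_c L136577) L128376 L136577
theorem L136580 : sm gi N11685 = N11685 := ded_29_2 (flp_c L136577) L128377 L136577
theorem L136581 : sm gd N11685 = N11685 := ded_24_2 (flp_c L136577) (flp_d L128372) L121303 L128372 L136577
theorem L136582 : sm gd N10740 = N11686 := rfl
theorem L136584 : sm gi N11686 = N11686 := ded_34_2 (flp_d L136582) L128383 L136582
theorem L136585 : sm gd N10741 = N11687 := rfl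
theorem L136587 : sm gb N11687 = N10782 := ded_18_1 (flp_d L128656) (flp_b L128386) L136585
theorem L136589 : sm gh N11687 = N11287 := ded_33_2 (flp_d L133242) (flp_h L125216) (flp_d L121324) L128384 L136585
theorem L136591 : sm gi N10741 = N11688 := rfl
theorem L136593 : sm gb N11688 = N10783 := ded_23_1 (flp_i L128661) (flp_b L128386) L136591
theorem L136595 : sm gc N11688 = N10743 := ded_29_1 (flp_i L128397) (flp_c L128388) L136591
theorem L136597 : sm ge N11688 = N11688 := ded_38_1 (flp_i L136591) L128390 L136591
theorem L136598 : sm gc N10742 = N11689 := rfl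
theorem L136600 : sm gh N11689 = N10744 := ded_28_2 (flp_c L128402) (flp_h L128395) L136598
theorem L136602 : sm ge N10742 = N11690 := rfl
theorem L136604 : sm gb N11690 = N10759 := ded_19_1 (flp_e L128506) (flp_b L128393) L136602
theorem L136606 : sm gh N11690 = N10745 := ded_37_2 (flp_e L128406) (flp_h L128395) L136602
theorem L136608 : sm gd N11690 = N11690 := ded_30_1 (flp_e L136602) (flp_d L128391) L121330 L128391 L136602
theorem L136609 : sm gi N10742 = N11691 := rfl
theorem L136611 : sm gb N11691 = N10760 := ded_23_1 (flp_i L128513) (flp_b L128393) L136609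
theorem L136613 : sm gd N11691 = N10743 := ded_34_1 (flp_i L128397) L128391 L136609
theorem L136615 : sm ge N10744 = N11692 := rfl
theorem L136617 : sm gc N11692 = N10745 := ded_25_1 (flp_e L128406) L128402 L136615
theorem L136619 : sm gi N10744 = N11693 := rfl
theorem L136621 : sm gc N11693 = N10746 := ded_29_1 (flp_i L128412) L128402 L136619
theorem L136623 : sm gd N11693 = N11301 := ded_34_1 (flp_i L133339) (flp_d L128404) L136619
theorem L136625 : sm gf N10745 = N11694 := rfl
theorem L136627 : sm gb N11694 = N10761 := ded_20_1 (flp_f L128519) (flp_b L128408) L136625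
theorem L136629 : sm gd N11694 = N10749 := ded_31_1 (flp_f L128435) (flp_d L128410) L136625
theorem L136631 : sm gi N10745 = N11695 := rfl
theorem L136633 : sm gb N11695 = N10762 := ded_23_1 (flp_i L128525) (flp_b L128408) L136631
theorem L136635 : sm gd N11695 = N10750 := ded_34_1 (flp_i L128442) (flp_d L128410) L136631
theorem L136637 : sm ge N11695 = N10746 := ded_38_1 (flp_i L128412) L128406 L136631
theorem L136639 : sm gh N10746 = N11696 := rfl
theorem L136641 : sm gb N11696 = N10763 := ded_22_1 (flp_h L128533) (flp_b L128414) L136639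
theorem L136643 : sm gd N10747 = N11697 := rfl
theorem L136645 : sm gb N11697 = N10784 := ded_18_1 (flp_d L128667) (flp_b L128420) L136643
theorem L136647 : sm ge N11697 = N11310 := ded_30_2 (flp_d L133408) (flp_e L125304) (flp_d L121350) L128418 L136643
theorem L136649 : sm gf N10747 = N11698 := rfl
theorem L136651 : sm gb N11698 = N10785 := ded_20_1 (flp_f L128672) (flp_b L128420) L136649
theorem L136653 : sm gc N11698 = N10749 := ded_26_1 (flp_f L128435) (flp_c L128422) L136649
theorem L136655 : sm gh N11698 = N11698 := ded_40_2 (flp_f L136649) L128424 L136649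
theorem L136656 : sm ge N11698 = N10753 := ded_35_1 (flp_f L128462) (flp_e L121365) (flp_f L121345) L128418 L136649
theorem L136658 : sm gi N10747 = N11699 := rfl
theorem L136660 : sm gb N11699 = N10786 := ded_23_1 (flp_i L128680) (flp_b L128420) L136658
theorem L136662 : sm gc N11699 = N10750 := ded_29_1 (flp_i L128442) (flp_c L128422) L136658
theorem L136664 : sm ge N11699 = N10748 := ded_38_1 (flp_i L128425) L128418 L136658
theorem L136666 : sm gh N10748 = N11700 := rfl
theorem L136668 : sm gb N11700 = N10787 := ded_22_1 (flp_h L128687) (flp_b L128427) L136666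
theorem L136670 : sm gc N11700 = N10751 := ded_28_1 (flp_h L128448) (flp_c L128429) L136666
theorem L136672 : sm gf N11700 = N10755 := ded_40_1 (flp_h L128478) (flp_f L128433) L136666
theorem L136674 : sm gi N11700 = N11700 := ded_44_2 (flp_h L136666) (flp_i L128425) L121347 L128425 L136666
theorem L136675 : sm gg N10749 = N11701 := rfl
theorem L136677 : sm gb N11701 = N10764 := ded_21_1 (flp_g L128537) (flp_b L128437) L136675
theorem L136679 : sm ge N11701 = N10756 := ded_36_1 (flp_g L128486) (flp_e L128440) L136675
theorem L136681 : sm gh N11701 = N11701 := ded_42_2 (flp_g L136675) L128439 L136675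
theorem L136682 : sm gi N10749 = N11702 := rfl
theorem L136684 : sm gb N11702 = N10765 := ded_23_1 (flp_i L128546) (flp_b L128437) L136682
theorem L136686 : sm ge N11702 = N10757 := ded_38_1 (flp_i L128492) (flp_e L128440) L136682
theorem L136688 : sm gf N11702 = N10750 := ded_41_1 (flp_i L128442) L128435 L136682
theorem L136690 : sm gh N10750 = N11703 := rfl
theorem L136692 : sm gb N11703 = N10766 := ded_22_1 (flp_h L128556) (flp_b L128444) L136690
theorem L136694 : sm ge N11703 = N10751 := ded_37_1 (flp_h L128448) (flp_e L128446) L136690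
theorem L136696 : sm gi N11703 = N11703 := ded_44_2 (flp_h L136690) (flp_i L128442) L121356 L128442 L136690
theorem L136697 : sm gf N10752 = N11704 := rfl
theorem L136699 : sm gb N11704 = N10791 := ded_20_1 (flp_f L128720) (flp_b L128457) L136697
theorem L136701 : sm gd N11704 = N10753 := ded_31_1 (flp_f L128462) L128455 L136697
theorem L136703 : sm gh N10752 = N11705 := rfl
theorem L136705 : sm gb N11705 = N10792 := ded_22_1 (flp_h L128726) (flp_b L128457) L136703
theorem L136707 : sm ge N11705 = N11318 := ded_37_1 (flp_h L133470) (flp_e L128460) L136703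
theorem L136709 : sm gg N11705 = N11705 := ded_42_1 (flp_h L136703) L128459 L136703
theorem L136710 : sm gd N11705 = N11705 := ded_33_1 (flp_h L136703) (flp_d L128455) L121372 L128455 L136703
theorem L136711 : sm gi N10752 = N11706 := rfl
theorem L136713 : sm gb N11706 = N10793 := ded_23_1 (flp_i L128734) (flp_b L128457) L136711
theorem L136715 : sm gd N11706 = N10754 := ded_34_1 (flp_i L128469) L128455 L136711
theorem L136717 : sm ge N11706 = N11319 := ded_38_1 (flp_i L133477) (flp_e L128460) L136711
theorem L136719 : sm gg N11706 = N11706 := ded_43_1 (flp_i L136711) L128459 L136711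
theorem L136720 : sm gg N10753 = N11707 := rfl
theorem L136722 : sm gb N11707 = N10794 := ded_21_1 (flp_g L128743) (flp_b L128464) L136720
theorem L136724 : sm gc N11707 = N10756 := ded_27_1 (flp_g L128486) (flp_c L128466) L136720
theorem L136726 : sm gh N11707 = N11707 := ded_42_2 (flp_g L136720) L128468 L136720
theorem L136727 : sm gf N11707 = N11707 := ded_39_1 (flp_g L136720) (flp_f L128462) L121371 L128462 L136720
theorem L136728 : sm gi N10753 = N11708 := rfl
theorem L136730 : sm gb N11708 = N10795 := ded_23_1 (flp_i L128750) (flp_b L128464) L136728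
theorem L136732 : sm gc N11708 = N10757 := ded_29_1 (flp_i L128492) (flp_c L128466) L136728
theorem L136734 : sm gf N11708 = N10754 := ded_41_1 (flp_i L128469) L128462 L136728
theorem L136736 : sm gh N10754 = N11709 := rfl
theorem L136738 : sm gb N11709 = N10796 := ded_22_1 (flp_h L128757) (flp_b L128471) L136736
theorem L136740 : sm gc N11709 = N10758 := ded_28_1 (flp_h L128498) (flp_c L128473) L136736
theorem L136742 : sm ge N11709 = N10755 := ded_37_1 (flp_h L128478) (flp_e L128475) L136736
theorem L136744 : sm gg N11709 = N11709 := ded_42_1 (flp_h L136736) L128477 L136736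
theorem L136745 : sm gi N11709 = N11709 := ded_44_2 (flp_h L136736) (flp_i L128469) L121372 L128469 L136736
theorem L136746 : sm gd N10755 = N11710 := rfl
theorem L136748 : sm gb N11710 = N10797 := ded_18_1 (flp_d L128766) (flp_b L128480) L136746
theorem L136750 : sm gg N11710 = N11710 := ded_32_2 (flp_d L136746) L128484 L136746
theorem L136751 : sm gi N11710 = N11710 := ded_34_2 (flp_d L136746) L128485 L136746
theorem L136752 : sm gh N11710 = N11323 := ded_33_2 (flp_d L133512) (flp_h L125364) (flp_d L121379) L128478 L136746
theorem L136754 : sm gi N10756 = N11711 := rfl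
theorem L136756 : sm gb N11711 = N10767 := ded_23_1 (flp_i L128565) (flp_b L128488) L136754
theorem L136758 : sm gf N11711 = N11711 := ded_41_1 (flp_i L136754) L128491 L136754
theorem L136759 : sm gg N11711 = N10757 := ded_43_1 (flp_i L128492) L128486 L136754
theorem L136761 : sm gh N10757 = N11712 := rfl
theorem L136763 : sm gb N11712 = N10768 := ded_22_1 (flp_h L128574) (flp_b L128494) L136761
theorem L136765 : sm gf N11712 = N10758 := ded_40_1 (flp_h L128498) (flp_f L128496) L136761
theorem L136767 : sm gi N11712 = N11712 := ded_44_2 (flp_h L136761) (flp_i L128492) L121386 L128492 L136761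
theorem L136768 : sm gd N10758 = N11713 := rfl
theorem L136770 : sm gb N11713 = N10769 := ded_18_1 (flp_d L128583) (flp_b L128500) L136768
theorem L136772 : sm gg N11713 = N11713 := ded_32_2 (flp_d L136768) L128504 L136768
theorem L136773 : sm gi N11713 = N11713 := ded_34_2 (flp_d L136768) L128505 L136768
theorem L136774 : sm gf N10759 = N11714 := rfl
theorem L136776 : sm ga N11714 = N10770 := ded_13_1 (flp_f L128589) (flp_a L128508) L136774
theorem L136778 : sm gd N11714 = N11714 := ded_31_1 (flp_f L136774) L128512 L136774
theorem L136779 : sm gh N11714 = N10761 := ded_40_2 (flp_f L128519) (flp_h L128510) L136774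
theorem L136781 : sm gi N10759 = N11715 := rfl
theorem L136783 : sm ga N11715 = N10771 := ded_16_1 (flp_i L128594) (flp_a L128508) L136781
theorem L136785 : sm gd N11715 = N11715 := ded_34_1 (flp_i L136781) L128512 L136781
theorem L136786 : sm ge N11715 = N10760 := ded_38_1 (flp_i L128513) L128506 L136781
theorem L136788 : sm gh N10760 = N11716 := rfl
theorem L136790 : sm ga N11716 = N10772 := ded_15_1 (flp_h L128599) (flp_a L128515) L136788
theorem L136792 : sm gi N11716 = N10763 := ded_44_2 (flp_h L128533) (flp_i L121419) (flp_h L121404) L128513 L136788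
theorem L136794 : sm gg N10761 = N11717 := rfl
theorem L136796 : sm ga N11717 = N10773 := ded_14_1 (flp_g L128603) (flp_a L128521) L136794
theorem L136798 : sm gd N11717 = N10764 := ded_32_1 (flp_g L128537) (flp_d L128523) L136794
theorem L136800 : sm gi N10761 = N11718 := rfl
theorem L136802 : sm ga N11718 = N10774 := ded_16_1 (flp_i L128607) (flp_a L128521) L136800
theorem L136804 : sm gd N11718 = N10765 := ded_34_1 (flp_i L128546) (flp_d L128523) L136800
theorem L136806 : sm gf N11718 = N10762 := ded_41_1 (flp_i L128525) L128519 L136800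
theorem L136808 : sm gh N10762 = N11719 := rfl
theorem L136810 : sm ga N11719 = N10775 := ded_15_1 (flp_h L128613) (flp_a L128527) L136808
theorem L136812 : sm ge N11719 = N10763 := ded_37_1 (flp_h L128533) (flp_e L128531) L136808
theorem L136814 : sm gi N10764 = N11720 := rfl
theorem L136816 : sm ga N11720 = N10776 := ded_16_1 (flp_i L128617) (flp_a L128539) L136814
theorem L136818 : sm gc N11720 = N10801 := ded_29_1 (flp_i L128800) (flp_c L128541) L136814
theorem L136820 : sm ge N11720 = N10767 := ded_38_1 (flp_i L128565) (flp_e L128543) L136814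
theorem L136822 : sm gg N11720 = N10765 := ded_43_1 (flp_i L128546) L128537 L136814
theorem L136824 : sm gh N10765 = N11721 := rfl
theorem L136826 : sm ga N11721 = N10777 := ded_15_1 (flp_h L128625) (flp_a L128548) L136824
theorem L136828 : sm gc N11721 = N10802 := ded_28_1 (flp_h L128808) (flp_c L128550) L136824
theorem L136830 : sm ge N11721 = N10768 := ded_37_1 (flp_h L128574) (flp_e L128552) L136824
theorem L136832 : sm gf N11721 = N10766 := ded_40_1 (flp_h L128556) (flp_f L128554) L136824
theorem L136834 : sm gi N11721 = N11721 := ded_44_2 (flp_h L136824) (flp_i L128546) L121431 L128546 L136824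
theorem L136835 : sm gd N10766 = N11722 := rfl
theorem L136837 : sm ga N11722 = N10778 := ded_11_1 (flp_d L128634) (flp_a L128558) L136835
theorem L136839 : sm gi N11722 = N11722 := ded_34_2 (flp_d L136835) L128564 L136835
theorem L136840 : sm gh N10767 = N11723 := rfl
theorem L136842 : sm ga N11723 = N10779 := ded_15_1 (flp_h L128637) (flp_a L128567) L136840
theorem L136844 : sm gc N11723 = N10804 := ded_28_1 (flp_h L128823) (flp_c L128569) L136840
theorem L136846 : sm gf N11723 = N11723 := ded_40_1 (flp_h L136840) L128571 L136840
theorem L136847 : sm gg N11723 = N10768 := ded_42_1 (flp_h L128574) (flp_g L128572) L136840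
theorem L136849 : sm gi N11723 = N11723 := ded_44_2 (flp_h L136840) (flp_i L128565) L121457 L128565 L136840
theorem L136850 : sm gd N10768 = N11724 := rfl
theorem L136852 : sm ga N11724 = N10780 := ded_11_1 (flp_d L128645) (flp_a L128576) L136850
theorem L136854 : sm gf N11724 = N10769 := ded_31_2 (flp_d L128583) (flp_f L128580) L136850
theorem L136856 : sm gi N11724 = N11724 := ded_34_2 (flp_d L136850) L128582 L136850
theorem L136857 : sm gc N10769 = N11725 := rfl
theorem L136859 : sm ga N11725 = N10781 := ded_10_1 (flp_c L128650) (flp_a L128585) L136857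
theorem L136861 : sm gg N11725 = N11725 := ded_27_2 (flp_c L136857) L128587 L136857
theorem L136862 : sm gi N11725 = N11725 := ded_29_2 (flp_c L136857) L128588 L136857
theorem L136863 : sm gd N11725 = N10806 := ded_24_2 (flp_c L128839) (flp_d L121679) (flp_c L121471) L128583 L136857
theorem L136865 : sm gi N10770 = N11726 := rfl
theorem L136867 : sm gd N11726 = N11726 := ded_34_1 (flp_i L136865) L128591 L136865
theorem L136868 : sm gf N11726 = N10771 := ded_41_1 (flp_i L128594) L128589 L136865
theorem L136870 : sm gh N10771 = N11727 := rfl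
theorem L136872 : sm ge N11727 = N10772 := ded_37_1 (flp_h L128599) (flp_e L128597) L136870
theorem L136874 : sm gi N11727 = N10775 := ded_44_2 (flp_h L128613) (flp_i L121490) (flp_h L121479) L128594 L136870
theorem L136876 : sm gi N10773 = N11728 := rfl
theorem L136878 : sm gd N11728 = N10776 := ded_34_1 (flp_i L128617) (flp_d L128605) L136876
theorem L136880 : sm gg N11728 = N10774 := ded_43_1 (flp_i L128607) L128603 L136876
theorem L136882 : sm gh N10774 = N11729 := rfl
theorem L136884 : sm gf N11729 = N10775 := ded_40_1 (flp_h L128613) (flp_f L128611) L136882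
theorem L136886 : sm gd N10775 = N11730 := rfl
theorem L136888 : sm gh N11730 = N10778 := ded_33_2 (flp_d L128634) (flp_h L121513) (flp_d L121492) L128613 L136886
theorem L136890 : sm gh N10776 = N11731 := rfl
theorem L136892 : sm gc N11731 = N10807 := ded_28_1 (flp_h L128847) (flp_c L128619) L136890
theorem L136894 : sm ge N11731 = N10779 := ded_37_1 (flp_h L128637) (flp_e L128621) L136890
theorem L136896 : sm gg N11731 = N10777 := ded_42_1 (flp_h L128625) (flp_g L128623) L136890
theorem L136898 : sm gi N11731 = N11731 := ded_44_2 (flp_h L136890) (flp_i L128617) L121504 L128617 L136890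
theorem L136899 : sm gd N10777 = N11732 := rfl
theorem L136901 : sm gf N11732 = N10778 := ded_31_2 (flp_d L128634) (flp_f L128631) L136899
theorem L136903 : sm gi N11732 = N11732 := ded_34_2 (flp_d L136899) L128633 L136899
theorem L136904 : sm gc N10778 = N11733 := rfl
theorem L136906 : sm gi N11733 = N11733 := ded_29_2 (flp_c L136904) L128636 L136904
theorem L136907 : sm gd N11733 = N10809 := ded_24_2 (flp_c L128861) (flp_d L121702) (flp_c L121515) L128634 L136904
theorem L136909 : sm gd N10779 = N11734 := rfl
theorem L136911 : sm gf N11734 = N11734 := ded_31_2 (flp_d L136909) L128641 L136909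
theorem L136912 : sm gg N11734 = N10780 := ded_32_2 (flp_d L128645) (flp_g L128642) L136909
theorem L136914 : sm gi N11734 = N11734 := ded_34_2 (flp_d L136909) L128644 L136909
theorem L136915 : sm gc N10780 = N11735 := rfl
theorem L136917 : sm gf N11735 = N10781 := ded_26_2 (flp_c L128650) (flp_f L128647) L136915
theorem L136919 : sm gi N11735 = N11735 := ded_29_2 (flp_c L136915) L128649 L136915
theorem L136920 : sm gd N11735 = N10811 := ded_24_2 (flp_c L128873) (flp_d L121714) (flp_c L121529) L128645 L136915
theorem L136922 : sm ge N10780 = N11736 := rfl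
theorem L136924 : sm gi N11736 = N11736 := ded_38_2 (flp_e L136922) L128649 L136922
theorem L136925 : sm gb N10781 = N11737 := rfl
theorem L136927 : sm gd N11737 = N10813 := ded_18_2 (flp_b L128885) (flp_d L128654) L136925
theorem L136929 : sm gg N11737 = N11737 := ded_21_2 (flp_b L136925) L128652 L136925
theorem L136930 : sm gi N11737 = N11737 := ded_23_2 (flp_b L136925) L128653 L136925
theorem L136931 : sm ge N10782 = N11738 := rfl
theorem L136933 : sm ga N11738 = N11738 := ded_12_1 (flp_e L136931) L128658 L136931
theorem L136934 : sm gh N11738 = N11401 := ded_37_2 (flp_e L134166) (flp_h L128659) L136931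
theorem L136936 : sm gd N11738 = N11738 := ded_30_1 (flp_e L136931) (flp_d L128656) L121543 L128656 L136931
theorem L136937 : sm gi N10782 = N11739 := rfl
theorem L136939 : sm ga N11739 = N11739 := ded_16_1 (flp_i L136937) L128658 L136937
theorem L136940 : sm gd N11739 = N10783 := ded_34_1 (flp_i L128661) L128656 L136937
theorem L136942 : sm gf N10784 = N11740 := rfl
theorem L136944 : sm ga N11740 = N11740 := ded_13_1 (flp_f L136942) L128669 L136942
theorem L136945 : sm gd N11740 = N10785 := ded_31_1 (flp_f L128672) L128667 L136942
theorem L136947 : sm gh N10784 = N11741 := rfl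
theorem L136949 : sm ga N11741 = N11741 := ded_15_1 (flp_h L136947) L128669 L136947
theorem L136950 : sm ge N11741 = N11427 := ded_37_1 (flp_h L134395) (flp_e L128670) L136947
theorem L136952 : sm gd N11741 = N11741 := ded_33_1 (flp_h L136947) (flp_d L128667) L121555 L128667 L136947
theorem L136953 : sm gi N10784 = N11742 := rfl
theorem L136955 : sm ga N11742 = N11742 := ded_16_1 (flp_i L136953) L128669 L136953
theorem L136956 : sm gd N11742 = N10786 := ded_34_1 (flp_i L128680) L128667 L136953
theorem L136958 : sm ge N11742 = N11428 := ded_38_1 (flp_i L134400) (flp_e L128670) L136953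
theorem L136960 : sm gg N10785 = N11743 := rfl
theorem L136962 : sm ga N11743 = N11743 := ded_14_1 (flp_g L136960) L128674 L136960
theorem L136963 : sm gc N11743 = N10788 := ded_27_1 (flp_g L128695) (flp_c L128675) L136960
theorem L136965 : sm ge N11743 = N10794 := ded_36_1 (flp_g L128743) (flp_e L128678) L136960
theorem L136967 : sm gh N11743 = N11743 := ded_42_2 (flp_g L136960) L128677 L136960
theorem L136968 : sm gi N10785 = N11744 := rfl
theorem L136970 : sm ga N11744 = N11744 := ded_16_1 (flp_i L136968) L128674 L136968
theorem L136971 : sm gc N11744 = N10789 := ded_29_1 (flp_i L128703) (flp_c L128675) L136968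
theorem L136973 : sm ge N11744 = N10795 := ded_38_1 (flp_i L128750) (flp_e L128678) L136968
theorem L136975 : sm gf N11744 = N10786 := ded_41_1 (flp_i L128680) L128672 L136968
theorem L136977 : sm gh N10786 = N11745 := rfl
theorem L136979 : sm ga N11745 = N11745 := ded_15_1 (flp_h L136977) L128682 L136977
theorem L136980 : sm gc N11745 = N10790 := ded_28_1 (flp_h L128712) (flp_c L128683) L136977
theorem L136982 : sm ge N11745 = N10787 := ded_37_1 (flp_h L128687) (flp_e L128685) L136977
theorem L136984 : sm gi N11745 = N11745 := ded_44_2 (flp_h L136977) (flp_i L128680) L121555 L128680 L136977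
theorem L136985 : sm gd N10787 = N11746 := rfl
theorem L136987 : sm ga N11746 = N11746 := ded_11_1 (flp_d L136985) L128689 L136985
theorem L136988 : sm gf N11746 = N10797 := ded_31_2 (flp_d L128766) (flp_f L128692) L136985
theorem L136990 : sm gi N11746 = N11746 := ded_34_2 (flp_d L136985) L128694 L136985
theorem L136991 : sm gc N11746 = N11746 := ded_24_1 (flp_d L136985) L128690 L121587 (flp_c L128690) L136985
theorem L136992 : sm gh N11746 = N11432 := ded_33_2 (flp_d L134432) (flp_h L126207) (flp_d L121561) L128687 L136985
theorem L136994 : sm gi N10788 = N11747 := rfl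
theorem L136996 : sm ga N11747 = N11747 := ded_16_1 (flp_i L136994) L128697 L136994
theorem L136997 : sm gb N11747 = N10801 := ded_23_1 (flp_i L128800) (flp_b L128698) L136994
theorem L136999 : sm ge N11747 = N10798 := ded_38_1 (flp_i L128774) (flp_e L128700) L136994
theorem L137001 : sm gg N11747 = N10789 := ded_43_1 (flp_i L128703) L128695 L136994
theorem L137003 : sm gh N10789 = N11748 := rfl
theorem L137005 : sm ga N11748 = N11748 := ded_15_1 (flp_h L137003) L128705 L137003
theorem L137006 : sm gb N11748 = N10802 := ded_22_1 (flp_h L128808) (flp_b L128706) L137003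
theorem L137008 : sm ge N11748 = N10799 := ded_37_1 (flp_h L128783) (flp_e L128708) L137003
theorem L137010 : sm gf N11748 = N10790 := ded_40_1 (flp_h L128712) (flp_f L128710) L137003
theorem L137012 : sm gi N11748 = N11748 := ded_44_2 (flp_h L137003) (flp_i L128703) L121570 L128703 L137003
theorem L137013 : sm gd N10790 = N11749 := rfl
theorem L137015 : sm ga N11749 = N11749 := ded_11_1 (flp_d L137013) L128714 L137013
theorem L137016 : sm gb N11749 = N10803 := ded_18_1 (flp_d L128817) (flp_b L128715) L137013
theorem L137018 : sm gi N11749 = N11749 := ded_34_2 (flp_d L137013) L128719 L137013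
theorem L137019 : sm ge N11749 = N11749 := ded_30_2 (flp_d L137013) L128717 L121587 (flp_e L128717) L137013
theorem L137020 : sm ge N10791 = N11750 := rfl
theorem L137022 : sm ga N11750 = N11750 := ded_12_1 (flp_e L137020) L128722 L137020
theorem L137023 : sm gc N11750 = N11750 := ded_25_1 (flp_e L137020) L128723 L137020
theorem L137024 : sm gf N11750 = N11436 := ded_35_2 (flp_e L134468) (flp_f L126243) (flp_e L121594) L128720 L137020
theorem L137026 : sm gg N10791 = N11751 := rfl
theorem L137028 : sm ga N11751 = N11751 := ded_14_1 (flp_g L137026) L128722 L137026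
theorem L137029 : sm gc N11751 = N11751 := ded_27_1 (flp_g L137026) L128723 L137026
theorem L137030 : sm gd N11751 = N10794 := ded_32_1 (flp_g L128743) (flp_d L128724) L137026
theorem L137032 : sm gf N11751 = N11751 := ded_39_1 (flp_g L137026) (flp_f L128720) L121592 L128720 L137026
theorem L137033 : sm gh N10791 = N11752 := rfl
theorem L137035 : sm ga N11752 = N11752 := ded_15_1 (flp_h L137033) L128722 L137033
theorem L137036 : sm gc N11752 = N11752 := ded_28_1 (flp_h L137033) L128723 L137033
theorem L137037 : sm gf N11752 = N10792 := ded_40_1 (flp_h L128726) L128720 L137033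
theorem L137039 : sm gd N11752 = N11752 := ded_33_1 (flp_h L137033) L128724 L121601 (flp_d L128724) L137033
theorem L137040 : sm gi N10791 = N11753 := rfl
theorem L137042 : sm ga N11753 = N11753 := ded_16_1 (flp_i L137040) L128722 L137040
theorem L137043 : sm gc N11753 = N11753 := ded_29_1 (flp_i L137040) L128723 L137040
theorem L137044 : sm gd N11753 = N10795 := ded_34_1 (flp_i L128750) (flp_d L128724) L137040
theorem L137046 : sm gf N11753 = N10793 := ded_41_1 (flp_i L128734) L128720 L137040
theorem L137048 : sm gi N10792 = N11754 := rfl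
theorem L137050 : sm ga N11754 = N11754 := ded_16_1 (flp_i L137048) L128728 L137048
theorem L137051 : sm gc N11754 = N11754 := ded_29_1 (flp_i L137048) L128729 L137048
theorem L137052 : sm gd N11754 = N11754 := ded_34_1 (flp_i L137048) L128733 L137048
theorem L137053 : sm ge N11754 = N11440 := ded_38_1 (flp_i L134495) (flp_e L128730) L137048
theorem L137055 : sm gg N11754 = N11754 := ded_43_1 (flp_i L137048) L128732 L137048
theorem L137056 : sm gh N10793 = N11755 := rfl
theorem L137058 : sm ga N11755 = N11755 := ded_15_1 (flp_h L137056) L128736 L137056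
theorem L137059 : sm gc N11755 = N11755 := ded_28_1 (flp_h L137056) L128737 L137056
theorem L137060 : sm ge N11755 = N11441 := ded_37_1 (flp_h L134502) (flp_e L128740) L137056
theorem L137062 : sm gg N11755 = N11755 := ded_42_1 (flp_h L137056) L128742 L137056
theorem L137063 : sm gi N10794 = N11756 := rfl
theorem L137065 : sm ga N11756 = N11756 := ded_16_1 (flp_i L137063) L128745 L137063
theorem L137066 : sm gc N11756 = N10798 := ded_29_1 (flp_i L128774) (flp_c L128746) L137063
theorem L137068 : sm gf N11756 = N11756 := ded_41_1 (flp_i L137063) L128749 L137063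
theorem L137069 : sm gg N11756 = N10795 := ded_43_1 (flp_i L128750) L128743 L137063
theorem L137071 : sm gh N10795 = N11757 := rfl
theorem L137073 : sm ga N11757 = N11757 := ded_15_1 (flp_h L137071) L128752 L137071
theorem L137074 : sm gc N11757 = N10799 := ded_28_1 (flp_h L128783) (flp_c L128753) L137071
theorem L137076 : sm gf N11757 = N10796 := ded_40_1 (flp_h L128757) (flp_f L128755) L137071
theorem L137078 : sm gi N11757 = N11757 := ded_44_2 (flp_h L137071) (flp_i L128750) L121601 L128750 L137071
theorem L137079 : sm gd N10796 = N11758 := rfl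
theorem L137081 : sm ga N11758 = N11758 := ded_11_1 (flp_d L137079) L128759 L137079
theorem L137082 : sm gg N11758 = N11758 := ded_32_2 (flp_d L137079) L128764 L137079
theorem L137083 : sm gi N11758 = N11758 := ded_34_2 (flp_d L137079) L128765 L137079
theorem L137084 : sm ge N10797 = N11759 := rfl
theorem L137086 : sm ga N11759 = N11759 := ded_12_1 (flp_e L137084) L128768 L137084
theorem L137087 : sm gc N11759 = N11759 := ded_25_1 (flp_e L137084) L128771 L137084
theorem L137088 : sm gg N11759 = N11759 := ded_36_2 (flp_e L137084) L128769 L137084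
theorem L137089 : sm gh N11759 = N11445 := ded_37_2 (flp_e L134530) (flp_h L128772) L137084
theorem L137091 : sm gi N11759 = N11759 := ded_38_2 (flp_e L137084) L128770 L137084
theorem L137092 : sm gh N10798 = N11760 := rfl
theorem L137094 : sm ga N11760 = N11760 := ded_15_1 (flp_h L137092) L128776 L137092
theorem L137095 : sm gb N11760 = N10804 := ded_22_1 (flp_h L128823) (flp_b L128777) L137092
theorem L137097 : sm gf N11760 = N11760 := ded_40_1 (flp_h L137092) L128780 L137092
theorem L137098 : sm gg N11760 = N10799 := ded_42_1 (flp_h L128783) (flp_g L128781) L137092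
theorem L137100 : sm gi N11760 = N11760 := ded_44_2 (flp_h L137092) (flp_i L128774) L121623 L128774 L137092
theorem L137101 : sm gd N10799 = N11761 := rfl
theorem L137103 : sm ga N11761 = N11761 := ded_11_1 (flp_d L137101) L128785 L137101
theorem L137104 : sm gb N11761 = N10805 := ded_18_1 (flp_d L128831) (flp_b L128786) L137101
theorem L137106 : sm gf N11761 = N10800 := ded_31_2 (flp_d L128791) (flp_f L128788) L137101
theorem L137108 : sm gi N11761 = N11761 := ded_34_2 (flp_d L137101) L128790 L137101
theorem L137109 : sm gh N11761 = N11761 := ded_33_2 (flp_d L137101) (flp_h L128783) L121630 L128783 L137101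
theorem L137110 : sm gc N10800 = N11762 := rfl
theorem L137112 : sm ga N11762 = N11762 := ded_10_1 (flp_c L137110) L128793 L137110
theorem L137113 : sm ge N11762 = N11762 := ded_25_2 (flp_c L137110) L128798 L137110
theorem L137114 : sm gg N11762 = N11762 := ded_27_2 (flp_c L137110) L128796 L137110
theorem L137115 : sm gh N11762 = N11762 := ded_28_2 (flp_c L137110) L128799 L137110
theorem L137116 : sm gi N11762 = N11762 := ded_29_2 (flp_c L137110) L128797 L137110
theorem L137117 : sm gh N10801 = N11763 := rfl
theorem L137119 : sm ga N11763 = N10807 := ded_15_1 (flp_h L128847) (flp_a L128802) L137117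
theorem L137121 : sm ge N11763 = N10804 := ded_37_1 (flp_h L128823) (flp_e L128804) L137117
theorem L137123 : sm gg N11763 = N10802 := ded_42_1 (flp_h L128808) (flp_g L128806) L137117
theorem L137125 : sm gi N11763 = N11763 := ded_44_2 (flp_h L137117) (flp_i L128800) L121648 L128800 L137117
theorem L137126 : sm gd N10802 = N11764 := rfl
theorem L137128 : sm ga N11764 = N10808 := ded_11_1 (flp_d L128855) (flp_a L128810) L137126
theorem L137130 : sm gf N11764 = N10803 := ded_31_2 (flp_d L128817) (flp_f L128814) L137126
theorem L137132 : sm gi N11764 = N11764 := ded_34_2 (flp_d L137126) L128816 L137126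
theorem L137133 : sm gc N10803 = N11765 := rfl
theorem L137135 : sm ga N11765 = N10809 := ded_10_1 (flp_c L128861) (flp_a L128819) L137133
theorem L137137 : sm ge N11765 = N11765 := ded_25_2 (flp_c L137133) L128822 L137133
theorem L137138 : sm gi N11765 = N11765 := ded_29_2 (flp_c L137133) L128821 L137133
theorem L137139 : sm gd N10804 = N11766 := rfl
theorem L137141 : sm ga N11766 = N10810 := ded_11_1 (flp_d L128865) (flp_a L128825) L137139
theorem L137143 : sm gf N11766 = N11766 := ded_31_2 (flp_d L137139) L128827 L137139
theorem L137144 : sm gg N11766 = N10805 := ded_32_2 (flp_d L128831) (flp_g L128828) L137139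
theorem L137146 : sm gi N11766 = N11766 := ded_34_2 (flp_d L137139) L128830 L137139
theorem L137147 : sm gh N11766 = N11766 := ded_33_2 (flp_d L137139) (flp_h L128823) L121668 L128823 L137139
theorem L137148 : sm gc N10805 = N11767 := rfl
theorem L137150 : sm ga N11767 = N10811 := ded_10_1 (flp_c L128873) (flp_a L128833) L137148
theorem L137152 : sm gf N11767 = N10806 := ded_26_2 (flp_c L128839) (flp_f L128835) L137148
theorem L137154 : sm gh N11767 = N11767 := ded_28_2 (flp_c L137148) L128838 L137148
theorem L137155 : sm gi N11767 = N11767 := ded_29_2 (flp_c L137148) L128837 L137148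
theorem L137156 : sm ge N10805 = N11768 := rfl
theorem L137158 : sm ga N11768 = N10812 := ded_12_1 (flp_e L128879) (flp_a L128833) L137156
theorem L137160 : sm gh N11768 = N11768 := ded_37_2 (flp_e L137156) L128838 L137156
theorem L137161 : sm gi N11768 = N11768 := ded_38_2 (flp_e L137156) L128837 L137156
theorem L137162 : sm gf N11768 = N11768 := ded_35_2 (flp_e L137156) L128835 L121685 (flp_f L128835) L137156
theorem L137163 : sm gb N10806 = N11769 := rfl
theorem L137165 : sm ge N11769 = N11769 := ded_19_2 (flp_b L137163) L128843 L137163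
theorem L137166 : sm gg N11769 = N11769 := ded_21_2 (flp_b L137163) L128844 L137163
theorem L137167 : sm gh N11769 = N11769 := ded_22_2 (flp_b L137163) L128845 L137163
theorem L137168 : sm gi N11769 = N11769 := ded_23_2 (flp_b L137163) L128846 L137163
theorem L137169 : sm gd N10807 = N11770 := rfl
theorem L137171 : sm gb N11770 = N11770 := ded_18_1 (flp_d L137169) L128849 L137169
theorem L137172 : sm gg N11770 = N10808 := ded_32_2 (flp_d L128855) (flp_g L128852) L137169
theorem L137174 : sm gi N11770 = N11770 := ded_34_2 (flp_d L137169) L128854 L137169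
theorem L137175 : sm gc N10808 = N11771 := rfl
theorem L137177 : sm gf N11771 = N10809 := ded_26_2 (flp_c L128861) (flp_f L128858) L137175
theorem L137179 : sm gi N11771 = N11771 := ded_29_2 (flp_c L137175) L128860 L137175
theorem L137180 : sm ge N10808 = N11772 := rfl
theorem L137182 : sm gb N11772 = N11772 := ded_19_1 (flp_e L137180) L128857 L137180
theorem L137183 : sm gi N11772 = N11772 := ded_38_2 (flp_e L137180) L128860 L137180
theorem L137184 : sm gd N11772 = N10812 := ded_30_1 (flp_e L128879) (flp_d L121714) (flp_e L121697) L128855 L137180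
theorem L137186 : sm gf N11772 = N11772 := ded_35_2 (flp_e L137180) L128858 L121706 (flp_f L128858) L137180
theorem L137187 : sm gb N10809 = N11773 := rfl
theorem L137189 : sm ge N11773 = N11773 := ded_19_2 (flp_b L137187) L128863 L137187
theorem L137190 : sm gi N11773 = N11773 := ded_23_2 (flp_b L137187) L128864 L137187
theorem L137191 : sm gc N11773 = N11773 := ded_17_2 (flp_b L137187) (flp_c L128861) L121704 L128861 L137187
theorem L137192 : sm gc N10810 = N11774 := rfl
theorem L137194 : sm gf N11774 = N11774 := ded_26_2 (flp_c L137192) L128868 L137192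
theorem L137195 : sm gg N11774 = N10811 := ded_27_2 (flp_c L128873) (flp_g L128869) L137192
theorem L137197 : sm gh N11774 = N11774 := ded_28_2 (flp_c L137192) L128872 L137192
theorem L137198 : sm gi N11774 = N11774 := ded_29_2 (flp_c L137192) L128871 L137192
theorem L137199 : sm ge N10810 = N11775 := rfl
theorem L137201 : sm gb N11775 = N11775 := ded_19_1 (flp_e L137199) L128867 L137199
theorem L137202 : sm gg N11775 = N10812 := ded_36_2 (flp_e L128879) (flp_g L128869) L137199
theorem L137204 : sm gh N11775 = N11775 := ded_37_2 (flp_e L137199) L128872 L137199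
theorem L137205 : sm gi N11775 = N11775 := ded_38_2 (flp_e L137199) L128871 L137199
theorem L137206 : sm gb N10811 = N11776 := rfl
theorem L137208 : sm gf N11776 = N10813 := ded_20_2 (flp_b L128885) (flp_f L128875) L137206
theorem L137210 : sm gh N11776 = N11776 := ded_22_2 (flp_b L137206) L128877 L137206
theorem L137211 : sm gi N11776 = N11776 := ded_23_2 (flp_b L137206) L128878 L137206
theorem L137212 : sm gc N11776 = N11776 := ded_17_2 (flp_b L137206) (flp_c L128873) L121716 L128873 L137206
theorem L137213 : sm ge N10811 = N11777 := rfl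
theorem L137215 : sm gc N11777 = N10812 := ded_25_1 (flp_e L128879) L128873 L137213
theorem L137217 : sm gh N11777 = N11777 := ded_37_2 (flp_e L137213) L128877 L137213
theorem L137218 : sm gi N11777 = N11777 := ded_38_2 (flp_e L137213) L128878 L137213
theorem L137219 : sm gf N11777 = N11777 := ded_35_2 (flp_e L137213) L128875 L121723 (flp_f L128875) L137213
theorem L137220 : sm ga N10813 = N11778 := rfl
theorem L137222 : sm gc N11778 = N11778 := ded_10_2 (flp_a L137220) L128891 L137220
theorem L137223 : sm ge N11778 = N11778 := ded_12_2 (flp_a L137220) L128887 L137220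
theorem L137224 : sm gg N11778 = N11778 := ded_14_2 (flp_a L137220) L128888 L137220
theorem L137225 : sm gh N11778 = N11778 := ded_15_2 (flp_a L137220) L128889 L137220
theorem L137226 : sm gi N11778 = N11778 := ded_16_2 (flp_a L137220) L128890 L137220
theorem L137227 : sm gi N10814 = N11779 := rfl
theorem L137229 : sm ga N11779 = N11779 := ded_16_1 (flp_i L137227) L128894 L137227
theorem L137230 : sm gb N11779 = N10820 := ded_23_1 (flp_i L128943) (flp_b L128895) L137227
theorem L137232 : sm gd N11779 = N11446 := ded_34_1 L134545 (flp_d L128902) L137227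
theorem L137234 : sm ge N11779 = N10816 := ded_38_1 (flp_i L128912) (flp_e L128897) L137227
theorem L137236 : sm gf N11779 = N11779 := ded_41_1 (flp_i L137227) L128899 L137227
theorem L137237 : sm gg N11779 = N11447 := ded_43_1 L134554 (flp_g L128900) L137227
theorem L137239 : sm gh N11779 = N11779 := ded_44_1 (flp_i L137227) (flp_h L128892) L121734 L128892 L137227
theorem L137240 : sm ge N10815 = N11780 := rfl
theorem L137242 : sm ga N11780 = N11780 := ded_12_1 (flp_e L137240) L128906 L137240
theorem L137243 : sm gb N11780 = N10823 := ded_19_1 (flp_e L128981) (flp_b L128907) L137240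
theorem L137245 : sm gg N11780 = N11623 := ded_36_2 L136089 L135797 L137240
theorem L137247 : sm gh N11780 = N11780 := ded_37_2 (flp_e L137240) L128911 L137240
theorem L137248 : sm gd N11780 = N11622 := ded_30_1 L136078 (flp_d L128902) L128897 L128904 L137240
theorem L137250 : sm gi N10815 = N11781 := rfl
theorem L137252 : sm ga N11781 = N11781 := ded_16_1 (flp_i L137250) L128906 L137250
theorem L137253 : sm gb N11781 = N10824 := ded_23_1 (flp_i L128992) (flp_b L128907) L137250
theorem L137255 : sm gd N11781 = N10816 := ded_34_1 (flp_i L128912) L128904 L137250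
theorem L137257 : sm gf N11781 = N10819 := ded_41_1 (flp_i L128935) (flp_f L128909) L137250
theorem L137259 : sm ge N10817 = N11782 := rfl
theorem L137261 : sm ga N11782 = N11782 := ded_12_1 (flp_e L137259) L128922 L137259
theorem L137262 : sm gb N11782 = N10864 := ded_19_1 (flp_e L129394) (flp_b L128925) L137259
theorem L137264 : sm gc N11782 = N10818 := ded_25_1 (flp_e L128927) L128920 L137259
theorem L137266 : sm gg N11782 = N11782 := ded_36_2 (flp_e L137259) L128923 L137259
theorem L137267 : sm gh N11782 = N11782 := ded_37_2 (flp_e L137259) L128924 L137259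
theorem L137268 : sm gi N10817 = N11783 := rfl
theorem L137270 : sm ga N11783 = N11783 := ded_16_1 (flp_i L137268) L128922 L137268
theorem L137271 : sm gb N11783 = N10865 := ded_23_1 (flp_i L129402) (flp_b L128925) L137268
theorem L137273 : sm gc N11783 = N10819 := ded_29_1 (flp_i L128935) L128920 L137268
theorem L137275 : sm gg N11783 = N11783 := ded_43_1 (flp_i L137268) L128923 L137268
theorem L137276 : sm gf N10818 = N11784 := rfl
theorem L137278 : sm ga N11784 = N11784 := ded_13_1 (flp_f L137276) L128929 L137276
theorem L137279 : sm gb N11784 = N10825 := ded_20_1 (flp_f L129002) (flp_b L128930) L137276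
theorem L137281 : sm gd N11784 = N11784 := ded_31_1 (flp_f L137276) L128934 L137276
theorem L137282 : sm gh N11784 = N11784 := ded_40_2 (flp_f L137276) L128933 L137276
theorem L137283 : sm gi N10818 = N11785 := rfl
theorem L137285 : sm ga N11785 = N11785 := ded_16_1 (flp_i L137283) L128929 L137283
theorem L137286 : sm gb N11785 = N10826 := ded_23_1 (flp_i L129010) (flp_b L128930) L137283
theorem L137288 : sm gd N11785 = N11785 := ded_34_1 (flp_i L137283) L128934 L137283
theorem L137289 : sm ge N11785 = N10819 := ded_38_1 (flp_i L128935) L128927 L137283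
theorem L137291 : sm gg N11785 = N11785 := ded_43_1 (flp_i L137283) L128932 L137283
theorem L137292 : sm gh N10819 = N11786 := rfl
theorem L137294 : sm ga N11786 = N11786 := ded_15_1 (flp_h L137292) L128937 L137292
theorem L137295 : sm gb N11786 = N10827 := ded_22_1 (flp_h L129020) (flp_b L128938) L137292
theorem L137297 : sm gg N11786 = N11786 := ded_42_1 (flp_h L137292) L128942 L137292
theorem L137298 : sm gd N11786 = N11786 := ded_33_1 (flp_h L137292) L128940 L121759 (flp_d L128940) L137292
theorem L137299 : sm gi N11786 = N11786 := ded_44_2 (flp_h L137292) (flp_i L128935) L121751 L128935 L137292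
theorem L137300 : sm gi N10821 = N11787 := rfl
theorem L137302 : sm ga N11787 = N10832 := ded_16_1 (flp_i L129076) (flp_a L128959) L137300
theorem L137304 : sm gc N11787 = N10880 := ded_29_1 (flp_i L129540) (flp_c L128964) L137300
theorem L137306 : sm gd N11787 = N10822 := ded_34_1 (flp_i L128969) L128957 L137300
theorem L137308 : sm ge N11787 = N11464 := ded_38_1 L134713 (flp_e L128966) L137300
theorem L137310 : sm gf N11787 = N11787 := ded_41_1 (flp_i L137300) L128961 L137300
theorem L137311 : sm gg N11787 = N10824 := ded_43_1 (flp_i L128992) (flp_g L128962) L137300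
theorem L137313 : sm gf N10823 = N11788 := rfl
theorem L137315 : sm ga N11788 = N10833 := ded_13_1 (flp_f L129088) (flp_a L128983) L137313
theorem L137317 : sm gc N11788 = N10881 := ded_26_1 (flp_f L129549) (flp_c L128985) L137313
theorem L137319 : sm gd N11788 = N11632 := ded_31_1 L136176 (flp_d L128990) L137313
theorem L137321 : sm gh N11788 = N11788 := ded_40_2 (flp_f L137313) L128989 L137313
theorem L137322 : sm ge N11788 = N10825 := ded_35_1 (flp_f L129002) (flp_e L121802) (flp_f L121788) L128981 L137313
theorem L137324 : sm gg N11788 = N11633 := ded_39_2 L136184 L127960 (flp_f L127976) (flp_g L128987) L137313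
theorem L137326 : sm gi N10823 = N11789 := rfl
theorem L137328 : sm ga N11789 = N10834 := ded_16_1 (flp_i L129100) (flp_a L128983) L137326
theorem L137330 : sm gc N11789 = N10882 := ded_29_1 (flp_i L129556) (flp_c L128985) L137326
theorem L137332 : sm gd N11789 = N11463 := ded_34_1 L134705 (flp_d L128990) L137326
theorem L137334 : sm ge N11789 = N10824 := ded_38_1 (flp_i L128992) L128981 L137326
theorem L137336 : sm gg N11789 = N11464 := ded_43_1 L134713 (flp_g L128987) L137326
theorem L137338 : sm gh N10824 = N11790 := rfl
theorem L137340 : sm ga N11790 = N10835 := ded_15_1 (flp_h L129111) (flp_a L128994) L137338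
theorem L137342 : sm gc N11790 = N10883 := ded_28_1 (flp_h L129562) (flp_c L128996) L137338
theorem L137344 : sm gf N11790 = N10827 := ded_40_1 (flp_h L129020) (flp_f L129000) L137338
theorem L137346 : sm gd N11790 = N11790 := ded_33_1 (flp_h L137338) L128998 L121801 (flp_d L128998) L137338
theorem L137347 : sm gi N11790 = N11790 := ded_44_2 (flp_h L137338) (flp_i L128992) L121792 L128992 L137338
theorem L137348 : sm gg N10825 = N11791 := rfl
theorem L137350 : sm ga N11791 = N10836 := ded_14_1 (flp_g L129120) (flp_a L129004) L137348
theorem L137352 : sm gc N11791 = N10884 := ded_27_1 (flp_g L129571) (flp_c L129006) L137348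
theorem L137354 : sm gd N11791 = N11791 := ded_32_1 (flp_g L137348) L129008 L137348
theorem L137355 : sm ge N11791 = N11633 := ded_36_1 (flp_g L137324) L137322 L137348
theorem L137357 : sm gh N11791 = N11791 := ded_42_2 (flp_g L137348) L129009 L137348
theorem L137358 : sm gf N11791 = N11791 := ded_39_1 (flp_g L137348) (flp_f L129002) L121808 L129002 L137348
theorem L137359 : sm gi N10825 = N11792 := rfl
theorem L137361 : sm ga N11792 = N10837 := ded_16_1 (flp_i L129130) (flp_a L129004) L137359
theorem L137363 : sm gc N11792 = N10885 := ded_29_1 (flp_i L129579) (flp_c L129006) L137359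
theorem L137365 : sm gd N11792 = N11792 := ded_34_1 (flp_i L137359) L129008 L137359
theorem L137366 : sm gf N11792 = N10826 := ded_41_1 (flp_i L129010) L129002 L137359
theorem L137368 : sm gh N10826 = N11793 := rfl
theorem L137370 : sm ga N11793 = N10838 := ded_15_1 (flp_h L129138) (flp_a L129012) L137368
theorem L137372 : sm gc N11793 = N10886 := ded_28_1 (flp_h L129587) (flp_c L129014) L137368
theorem L137374 : sm ge N11793 = N10827 := ded_37_1 (flp_h L129020) (flp_e L129017) L137368
theorem L137376 : sm gg N11793 = N11793 := ded_42_1 (flp_h L137368) L129019 L137368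
theorem L137377 : sm gi N11793 = N11793 := ded_44_2 (flp_h L137368) (flp_i L129010) L121809 L129010 L137368
theorem L137378 : sm gi N10828 = N11794 := rfl
theorem L137380 : sm ga N11794 = N10839 := ded_16_1 (flp_i L129147) (flp_a L129031) L137378
theorem L137382 : sm gc N11794 = N11356 := ded_29_1 L133809 (flp_c L129037) L137378
theorem L137384 : sm gd N11794 = N10829 := ded_34_1 (flp_i L129042) L129029 L137378
theorem L137386 : sm ge N11794 = N10890 := ded_38_1 (flp_i L129624) (flp_e L129039) L137378
theorem L137388 : sm gf N11794 = N11357 := ded_41_1 L133816 (flp_f L129033) L137378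
theorem L137390 : sm gg N11794 = N10831 := ded_43_1 (flp_i L129067) (flp_g L129035) L137378
theorem L137392 : sm gb N10830 = N11795 := rfl
theorem L137394 : sm gd N11795 = N11577 := ded_18_2 L135690 (flp_d L129065) L137392
theorem L137396 : sm ge N11795 = N10891 := ded_19_2 (flp_b L129632) (flp_e L129059) L137392
theorem L137398 : sm gf N11795 = N11795 := ded_20_2 (flp_b L137392) L129061 L137392
theorem L137399 : sm gg N11795 = N11578 := ded_21_2 L135697 (flp_g L129062) L137392
theorem L137401 : sm gh N11795 = N11795 := ded_22_2 (flp_b L137392) L129064 L137392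
theorem L137402 : sm gi N10830 = N11796 := rfl
theorem L137404 : sm ga N11796 = N10841 := ded_16_1 (flp_i L129173) (flp_a L129057) L137402
theorem L137406 : sm gc N11796 = N10831 := ded_29_1 (flp_i L129067) L129055 L137402
theorem L137408 : sm gd N11796 = N11355 := ded_34_1 L133801 (flp_d L129065) L137402
theorem L137410 : sm ge N11796 = N10892 := ded_38_1 (flp_i L129637) (flp_e L129059) L137402
theorem L137412 : sm gf N11796 = N11796 := ded_41_1 (flp_i L137402) L129061 L137402
theorem L137413 : sm gg N11796 = N11356 := ded_43_1 L133809 (flp_g L129062) L137402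
theorem L137415 : sm gh N10831 = N11797 := rfl
theorem L137417 : sm ga N11797 = N10842 := ded_15_1 (flp_h L129184) (flp_a L129069) L137415
theorem L137419 : sm ge N11797 = N10893 := ded_37_1 (flp_h L129645) (flp_e L129073) L137415
theorem L137421 : sm gf N11797 = N11797 := ded_40_1 (flp_h L137415) L129075 L137415
theorem L137422 : sm gd N11797 = N11797 := ded_33_1 (flp_h L137415) L129071 L121847 (flp_d L129071) L137415
theorem L137423 : sm gi N11797 = N11797 := ded_44_2 (flp_h L137415) (flp_i L129067) L121839 L129067 L137415
theorem L137424 : sm gh N10832 = N11798 := rfl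
theorem L137426 : sm gb N11798 = N11798 := ded_22_1 (flp_h L137424) L129078 L137424
theorem L137427 : sm gc N11798 = N10912 := ded_28_1 (flp_h L129814) (flp_c L129079) L137424
theorem L137429 : sm ge N11798 = N11477 := ded_37_1 L134822 (flp_e L129083) L137424
theorem L137431 : sm gf N11798 = N11798 := ded_40_1 (flp_h L137424) L129085 L137424
theorem L137432 : sm gg N11798 = N10835 := ded_42_1 (flp_h L129111) (flp_g L129086) L137424
theorem L137434 : sm gd N11798 = N11798 := ded_33_1 (flp_h L137424) L129081 L121892 (flp_d L129081) L137424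
theorem L137435 : sm gi N11798 = N11798 := ded_44_2 (flp_h L137424) (flp_i L129076) L121881 L129076 L137424
theorem L137436 : sm gi N10833 = N11799 := rfl
theorem L137438 : sm gb N11799 = N11799 := ded_23_1 (flp_i L137436) L129090 L137436
theorem L137439 : sm gc N11799 = N10914 := ded_29_1 (flp_i L129835) (flp_c L129091) L137436
theorem L137441 : sm gd N11799 = N11479 := ded_34_1 L134840 (flp_d L129093) L137436
theorem L137443 : sm ge N11799 = N10837 := ded_38_1 (flp_i L129130) (flp_e L129096) L137436
theorem L137445 : sm gf N11799 = N10834 := ded_41_1 (flp_i L129100) L129088 L137436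
theorem L137447 : sm gg N11799 = N11480 := ded_43_1 L134847 (flp_g L129098) L137436
theorem L137449 : sm gh N11770 = N11799 := ded_33_0 L137441 (flp_h L134832) L126594 L128847 L137169
theorem L137451 : sm gh N10834 = N11800 := rfl
theorem L137453 : sm gb N11800 = N11800 := ded_22_1 (flp_h L137451) L129102 L137451
theorem L137454 : sm gc N11800 = N10915 := ded_28_1 (flp_h L129843) (flp_c L129103) L137451
theorem L137456 : sm ge N11800 = N10835 := ded_37_1 (flp_h L129111) (flp_e L129107) L137451
theorem L137458 : sm gf N11800 = N11770 := ded_40_1 L137449 L137445 L137451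
theorem L137460 : sm gg N11800 = N11477 := ded_42_1 L134822 (flp_g L129109) L137451
theorem L137462 : sm gd N11800 = N11476 := ded_33_1 (flp_h L134807) L126568 L126619 (flp_d L129105) L137451
theorem L137464 : sm gi N11800 = N11800 := ded_44_2 (flp_h L137451) (flp_i L129100) L121900 L129100 L137451
theorem L137465 : sm gi N10836 = N11801 := rfl
theorem L137467 : sm gb N11801 = N11801 := ded_23_1 (flp_i L137465) L129122 L137465
theorem L137468 : sm gc N11801 = N10916 := ded_29_1 (flp_i L129850) (flp_c L129123) L137465
theorem L137470 : sm gd N11801 = N11801 := ded_34_1 (flp_i L137465) L129125 L137465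
theorem L137471 : sm ge N11801 = N11480 := ded_38_1 L134847 (flp_e L129126) L137465
theorem L137473 : sm gf N11801 = N11801 := ded_41_1 (flp_i L137465) L129129 L137465
theorem L137474 : sm gg N11801 = N10837 := ded_43_1 (flp_i L129130) L129120 L137465
theorem L137476 : sm gh N11772 = N11801 := ded_37_0 L137471 L134849 L137180
theorem L137478 : sm gh N10837 = N11802 := rfl
theorem L137480 : sm gb N11802 = N11802 := ded_22_1 (flp_h L137478) L129132 L137478
theorem L137481 : sm gc N11802 = N10917 := ded_28_1 (flp_h L129859) (flp_c L129133) L137478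
theorem L137483 : sm ge N11802 = N11770 := ded_37_1 L137449 L137443 L137478
theorem L137485 : sm gf N11802 = N10838 := ded_40_1 (flp_h L129138) (flp_f L129136) L137478
theorem L137487 : sm gg N11802 = N11772 := ded_42_1 L137476 L137474 L137478
theorem L137489 : sm gi N11802 = N11802 := ded_44_2 (flp_h L137478) (flp_i L129130) L121918 L129130 L137478
theorem L137490 : sm gd N11775 = N11802 := ded_30_5 L137483 (flp_d L137169) L128850 L128865 L137199
theorem L137492 : sm gd N10838 = N11803 := rfl
theorem L137494 : sm gb N11803 = N11803 := ded_18_1 (flp_d L137492) L129140 L137492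
theorem L137495 : sm gf N11803 = N11775 := ded_31_2 L137490 L137485 L137492
theorem L137497 : sm gg N11803 = N11803 := ded_32_2 (flp_d L137492) L129145 L137492
theorem L137498 : sm gi N11803 = N11803 := ded_34_2 (flp_d L137492) L129146 L137492
theorem L137499 : sm ge N11803 = N11803 := ded_30_2 (flp_d L137492) L129143 L121934 (flp_e L129143) L137492
theorem L137500 : sm gh N11803 = N11803 := ded_33_2 (flp_d L137492) (flp_h L129138) L121924 L129138 L137492
theorem L137501 : sm gh N10839 = N11804 := rfl
theorem L137503 : sm gb N11804 = N10848 := ded_22_1 (flp_h L129247) (flp_b L129149) L137501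
theorem L137505 : sm gc N11804 = N11029 := ded_28_1 L130834 (flp_c L129151) L137501
theorem L137507 : sm ge N11804 = N10924 := ded_37_1 (flp_h L129928) (flp_e L129155) L137501
theorem L137509 : sm gf N11804 = N11030 := ded_40_1 L130841 (flp_f L129157) L137501
theorem L137511 : sm gg N11804 = N10842 := ded_42_1 (flp_h L129184) (flp_g L129159) L137501
theorem L137513 : sm gd N11804 = N11804 := ded_33_1 (flp_h L137501) L129153 L121961 (flp_d L129153) L137501
theorem L137514 : sm gi N11804 = N11804 := ded_44_2 (flp_h L137501) (flp_i L129147) L121948 L129147 L137501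
theorem L137515 : sm ga N10840 = N11805 := rfl
theorem L137517 : sm gc N11805 = N10849 := ded_10_2 (flp_a L129255) (flp_c L129171) L137515
theorem L137519 : sm gd N11805 = N11520 := ded_11_2 L135225 (flp_d L129163) L137515
theorem L137521 : sm ge N11805 = N10925 := ded_12_2 (flp_a L129937) (flp_e L129165) L137515
theorem L137523 : sm gf N11805 = N11805 := ded_13_2 (flp_a L137515) L129167 L137515
theorem L137524 : sm gg N11805 = N11521 := ded_14_2 L135233 (flp_g L129168) L137515
theorem L137526 : sm gh N11805 = N11805 := ded_15_2 (flp_a L137515) L129170 L137515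
theorem L137527 : sm gi N10840 = N11806 := rfl
theorem L137529 : sm gb N11806 = N10841 := ded_23_1 (flp_i L129173) L129161 L137527
theorem L137531 : sm gc N11806 = N10850 := ded_29_1 (flp_i L129262) (flp_c L129171) L137527
theorem L137533 : sm gd N11806 = N11229 := ded_34_1 L132759 (flp_d L129163) L137527
theorem L137535 : sm ge N11806 = N10926 := ded_38_1 (flp_i L129944) (flp_e L129165) L137527
theorem L137537 : sm gf N11806 = N11806 := ded_41_1 (flp_i L137527) L129167 L137527
theorem L137538 : sm gg N11806 = N11230 := ded_43_1 L132767 (flp_g L129168) L137527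
theorem L137540 : sm gh N10841 = N11807 := rfl
theorem L137542 : sm gc N11807 = N10842 := ded_28_1 (flp_h L129184) (flp_c L129175) L137540
theorem L137544 : sm ge N11807 = N10927 := ded_37_1 (flp_h L129952) (flp_e L129179) L137540
theorem L137546 : sm gf N11807 = N11807 := ded_40_1 (flp_h L137540) L129181 L137540
theorem L137547 : sm gg N11807 = N11029 := ded_42_1 L130834 (flp_g L129182) L137540
theorem L137549 : sm gd N11807 = N11028 := ded_33_1 (flp_h L130822) L123078 L125839 (flp_d L129177) L137540
theorem L137551 : sm gi N11807 = N11807 := ded_44_2 (flp_h L137540) (flp_i L129173) L121969 L129173 L137540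
theorem L137552 : sm gi N10843 = N11808 := rfl
theorem L137554 : sm gb N11808 = N11231 := ded_23_1 L132772 (flp_b L129199) L137552
theorem L137556 : sm gc N11808 = N10845 := ded_29_1 (flp_i L129217) L129193 L137552
theorem L137558 : sm gd N11808 = N11808 := ded_34_1 (flp_i L137552) L129201 L137552
theorem L137559 : sm ge N11808 = N11090 := ded_38_1 (flp_i L131484) L129202 L137552
theorem L137561 : sm gf N11808 = N10847 := ded_41_1 (flp_i L129238) (flp_f L129195) L137552
theorem L137563 : sm gg N11808 = N11808 := ded_43_1 (flp_i L137552) L129197 L137552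
theorem L137564 : sm gi N10844 = N11809 := rfl
theorem L137566 : sm ga N11809 = N11808 := ded_16_1 (flp_i L137552) (flp_a L129206) L137564
theorem L137568 : sm gb N11809 = N11284 := ded_23_1 L133221 (flp_b L129208) L137564
theorem L137570 : sm gc N11809 = N11090 := ded_29_1 (flp_i L131484) (flp_c L129210) L137564
theorem L137572 : sm gd N11809 = N11809 := ded_34_1 (flp_i L137564) L129214 L137564
theorem L137573 : sm ge N11809 = N10845 := ded_38_1 (flp_i L129217) L129204 L137564
theorem L137575 : sm gf N11809 = N10928 := ded_41_1 (flp_i L129959) (flp_f L129215) L137564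
theorem L137577 : sm gg N11809 = N11809 := ded_43_1 (flp_i L137564) L129212 L137564
theorem L137578 : sm gh N11737 = N11809 := ded_22_0 L137568 L133219 L136925
theorem L137580 : sm gh N10845 = N11810 := rfl
theorem L137582 : sm gb N11810 = N11030 := ded_22_1 L130841 (flp_b L129219) L137580
theorem L137584 : sm ge N11810 = N11737 := ded_37_1 L137578 L137573 L137580
theorem L137586 : sm gf N11810 = N10848 := ded_40_1 (flp_h L129247) (flp_f L129223) L137580
theorem L137588 : sm gg N11810 = N11810 := ded_42_1 (flp_h L137580) L129225 L137580
theorem L137589 : sm gd N11810 = N11810 := ded_33_1 (flp_h L137580) L129221 L121998 (flp_d L129221) L137580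
theorem L137590 : sm gi N11810 = N11810 := ded_44_2 (flp_h L137580) (flp_i L129217) L121988 L129217 L137580
theorem L137591 : sm ga N10846 = N11811 := rfl
theorem L137593 : sm gc N11811 = N11521 := ded_10_2 L135233 (flp_c L129236) L137591
theorem L137595 : sm gd N11811 = N11811 := ded_11_2 (flp_a L137591) L129228 L137591
theorem L137596 : sm ge N11811 = N10930 := ded_12_2 (flp_a L129981) (flp_e L129229) L137591
theorem L137598 : sm gf N11811 = N11522 := ded_13_2 L135240 (flp_f L129231) L137591
theorem L137600 : sm gg N11811 = N10849 := ded_14_2 (flp_a L129255) (flp_g L129233) L137591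
theorem L137602 : sm gh N11811 = N11811 := ded_15_2 (flp_a L137591) L129235 L137591
theorem L137603 : sm gi N10846 = N11812 := rfl
theorem L137605 : sm gb N11812 = N10847 := ded_23_1 (flp_i L129238) L129226 L137603
theorem L137607 : sm gc N11812 = N11230 := ded_29_1 L132767 (flp_c L129236) L137603
theorem L137609 : sm gd N11812 = N11812 := ded_34_1 (flp_i L137603) L129228 L137603
theorem L137610 : sm ge N11812 = N10931 := ded_38_1 (flp_i L129992) (flp_e L129229) L137603
theorem L137612 : sm gf N11812 = N11231 := ded_41_1 L132772 (flp_f L129231) L137603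
theorem L137614 : sm gg N11812 = N10850 := ded_43_1 (flp_i L129262) (flp_g L129233) L137603
theorem L137616 : sm gh N10847 = N11813 := rfl
theorem L137618 : sm gc N11813 = N10848 := ded_28_1 (flp_h L129247) (flp_c L129240) L137616
theorem L137620 : sm ge N11813 = N10932 := ded_37_1 (flp_h L130002) (flp_e L129243) L137616
theorem L137622 : sm gg N11813 = N10851 := ded_42_1 (flp_h L129270) (flp_g L129245) L137616
theorem L137624 : sm gi N11813 = N11813 := ded_44_2 (flp_h L137616) (flp_i L129238) L122005 L129238 L137616
theorem L137625 : sm gi N10849 = N11814 := rfl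
theorem L137627 : sm ga N11814 = N10850 := ded_16_1 (flp_i L129262) L129255 L137625
theorem L137629 : sm gd N11814 = N11814 := ded_34_1 (flp_i L137625) L129257 L137625
theorem L137630 : sm ge N11814 = N10933 := ded_38_1 (flp_i L130015) (flp_e L129258) L137625
theorem L137632 : sm gf N11814 = N11814 := ded_41_1 (flp_i L137625) L129260 L137625
theorem L137633 : sm gh N10850 = N11815 := rfl
theorem L137635 : sm gb N11815 = N10851 := ded_22_1 (flp_h L129270) (flp_b L129264) L137633
theorem L137637 : sm ge N11815 = N10934 := ded_37_1 (flp_h L130023) (flp_e L129267) L137633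
theorem L137639 : sm gf N11815 = N11815 := ded_40_1 (flp_h L137633) L129269 L137633
theorem L137640 : sm gi N11815 = N11815 := ded_44_2 (flp_h L137633) (flp_i L129262) L122021 L129262 L137633
theorem L137641 : sm gd N10851 = N11816 := rfl
theorem L137643 : sm gf N11816 = N11816 := ded_31_2 (flp_d L137641) L129276 L137641
theorem L137644 : sm gi N11816 = N11816 := ded_34_2 (flp_d L137641) L129277 L137641
theorem L137645 : sm gc N11816 = N11816 := ded_24_1 (flp_d L137641) L129272 L122035 (flp_c L129272) L137641
theorem L137646 : sm gh N11816 = N11816 := ded_33_2 (flp_d L137641) (flp_h L129270) L122026 L129270 L137641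
theorem L137647 : sm gh N10852 = N11817 := rfl
theorem L137649 : sm ga N11817 = N10936 := ded_15_1 (flp_h L130039) (flp_a L129280) L137647
theorem L137651 : sm gb N11817 = N11817 := ded_22_1 (flp_h L137647) L129287 L137647
theorem L137652 : sm gc N11817 = N10854 := ded_28_1 (flp_h L129299) L129278 L137647
theorem L137654 : sm ge N11817 = N11817 := ded_37_1 (flp_h L137647) L129282 L137647
theorem L137655 : sm gf N11817 = N11141 := ded_40_1 (flp_h L131997) (flp_f L129283) L137647
theorem L137657 : sm gf N10853 = N11818 := rfl
theorem L137659 : sm ga N11818 = N10937 := ded_13_1 (flp_f L130048) (flp_a L129290) L137657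
theorem L137661 : sm gb N11818 = N10869 := ded_20_1 (flp_f L129439) (flp_b L129292) L137657
theorem L137663 : sm gd N11818 = N10855 := ded_31_1 (flp_f L129308) (flp_d L129294) L137657
theorem L137665 : sm gi N11818 = N11063 := ded_41_2 L131176 (flp_i L129297) L137657
theorem L137667 : sm gg N11818 = N11142 := ded_39_2 (flp_f L132006) (flp_g L124233) (flp_f L122043) L129288 L137657
theorem L137669 : sm ge N11536 = N11818 := ded_19_0 L137661 (flp_e L129450) (flp_b L135365)
theorem L137671 : sm gh N10853 = N11819 := rfl
theorem L137673 : sm ga N11819 = N10938 := ded_15_1 (flp_h L130058) (flp_a L129290) L137671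
theorem L137675 : sm gb N11819 = N10870 := ded_22_1 (flp_h L129452) (flp_b L129292) L137671
theorem L137677 : sm ge N11819 = N11819 := ded_37_1 (flp_h L137671) L129296 L137671
theorem L137678 : sm gg N11819 = N10854 := ded_42_1 (flp_h L129299) L129288 L137671
theorem L137680 : sm gd N10854 = N11820 := rfl
theorem L137682 : sm ga N11820 = N10939 := ded_11_1 (flp_d L130065) (flp_a L129301) L137680
theorem L137684 : sm gb N11820 = N10871 := ded_18_1 (flp_d L129460) (flp_b L129303) L137680
theorem L137686 : sm gf N11820 = N11144 := ded_31_2 (flp_d L132028) (flp_f L129306) L137680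
theorem L137688 : sm gh N11820 = N10857 := ded_33_2 (flp_d L129329) (flp_h L122058) L122037 L129299 L137680
theorem L137690 : sm gi N10854 = N11821 := rfl
theorem L137692 : sm ga N11821 = N10940 := ded_16_1 (flp_i L130073) (flp_a L129301) L137690
theorem L137694 : sm gb N11821 = N10872 := ded_23_1 (flp_i L129468) (flp_b L129303) L137690
theorem L137696 : sm ge N11821 = N11821 := ded_38_1 (flp_i L137690) L129305 L137690
theorem L137697 : sm gf N11821 = N11145 := ded_41_1 (flp_i L132036) (flp_f L129306) L137690
theorem L137699 : sm gh N11821 = N11640 := ded_44_1 (flp_i L136240) (flp_h L128094) (flp_i L122045) L129299 L137690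
theorem L137701 : sm gh N10855 = N11822 := rfl
theorem L137703 : sm ga N11822 = N10941 := ded_15_1 (flp_h L130082) (flp_a L129310) L137701
theorem L137705 : sm gb N11822 = N10873 := ded_22_1 (flp_h L129478) (flp_b L129312) L137701
theorem L137707 : sm ge N11822 = N11822 := ded_37_1 (flp_h L137701) L129316 L137701
theorem L137708 : sm gf N11822 = N10856 := ded_40_1 (flp_h L129319) L129308 L137701
theorem L137710 : sm gg N11822 = N11146 := ded_42_1 (flp_h L132044) (flp_g L129317) L137701
theorem L137712 : sm gd N10856 = N11823 := rfl
theorem L137714 : sm ga N11823 = N10942 := ded_11_1 (flp_d L130091) (flp_a L129321) L137712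
theorem L137716 : sm gb N11823 = N10874 := ded_18_1 (flp_d L129489) (flp_b L129323) L137712
theorem L137718 : sm gg N11823 = N10857 := ded_32_2 (flp_d L129329) (flp_g L129327) L137712
theorem L137720 : sm gi N10856 = N11824 := rfl
theorem L137722 : sm ga N11824 = N10943 := ded_16_1 (flp_i L130097) (flp_a L129321) L137720
theorem L137724 : sm gb N11824 = N10875 := ded_23_1 (flp_i L129495) (flp_b L129323) L137720
theorem L137726 : sm ge N11824 = N10860 := ded_38_1 (flp_i L129359) (flp_e L129325) L137720
theorem L137728 : sm gg N11824 = N10858 := ded_43_1 (flp_i L129337) (flp_g L129327) L137720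
theorem L137730 : sm gh N11824 = N11358 := ded_44_1 (flp_i L133820) L125618 (flp_i L122056) L129319 L137720
theorem L137732 : sm gc N10857 = N11825 := rfl
theorem L137734 : sm ga N11825 = N10944 := ded_10_1 (flp_c L130107) (flp_a L129331) L137732
theorem L137736 : sm gf N11825 = N11149 := ded_26_2 (flp_c L132073) (flp_f L129335) L137732
theorem L137738 : sm ge N10857 = N11826 := rfl
theorem L137740 : sm ga N11826 = N10945 := ded_12_1 (flp_e L130111) (flp_a L129331) L137738
theorem L137742 : sm gb N11826 = N10877 := ded_19_1 (flp_e L129515) (flp_b L129333) L137738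
theorem L137744 : sm gd N11826 = N10862 := ded_30_1 (flp_e L129377) (flp_d L122077) (flp_e L122064) L129329 L137738
theorem L137746 : sm gi N10857 = N11827 := rfl
theorem L137748 : sm ga N11827 = N10946 := ded_16_1 (flp_i L130117) (flp_a L129331) L137746
theorem L137750 : sm gb N11827 = N10878 := ded_23_1 (flp_i L129521) (flp_b L129333) L137746
theorem L137752 : sm gd N11827 = N10858 := ded_34_1 (flp_i L129337) L129329 L137746
theorem L137754 : sm gf N11827 = N11151 := ded_41_1 (flp_i L132085) (flp_f L129335) L137746
theorem L137756 : sm ge N10859 = N11828 := rfl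
theorem L137758 : sm ga N11828 = N10948 := ded_12_1 (flp_e L130132) (flp_a L129351) L137756
theorem L137760 : sm gb N11828 = N10879 := ded_19_1 (flp_e L129529) (flp_b L129353) L137756
theorem L137762 : sm gg N11828 = N10862 := ded_36_2 (flp_e L129377) (flp_g L129356) L137756
theorem L137764 : sm gh N11828 = N11828 := ded_37_2 (flp_e L137756) L129358 L137756
theorem L137765 : sm gf N11635 = N11828 := ded_20_0 L137760 (flp_f L129538) L136195
theorem L137767 : sm gi N10859 = N11829 := rfl
theorem L137769 : sm ga N11829 = N10949 := ded_16_1 (flp_i L130139) (flp_a L129351) L137767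
theorem L137771 : sm gb N11829 = N10880 := ded_23_1 (flp_i L129540) (flp_b L129353) L137767
theorem L137773 : sm gd N11829 = N10860 := ded_34_1 (flp_i L129359) L129349 L137767
theorem L137775 : sm gf N11829 = N11829 := ded_41_1 (flp_i L137767) L129355 L137767
theorem L137776 : sm gg N11829 = N10863 := ded_43_1 (flp_i L129384) (flp_g L129356) L137767
theorem L137778 : sm ge N10861 = N11830 := rfl
theorem L137780 : sm ga N11830 = N10950 := ded_12_1 (flp_e L130148) (flp_a L129372) L137778
theorem L137782 : sm gc N11830 = N10862 := ded_25_1 (flp_e L129377) L129370 L137778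
theorem L137784 : sm gh N11830 = N11830 := ded_37_2 (flp_e L137778) L129376 L137778
theorem L137785 : sm gi N10861 = N11831 := rfl
theorem L137787 : sm ga N11831 = N10951 := ded_16_1 (flp_i L130154) (flp_a L129372) L137785
theorem L137789 : sm gc N11831 = N10863 := ded_29_1 (flp_i L129384) L129370 L137785
theorem L137791 : sm gf N11831 = N10865 := ded_41_1 (flp_i L129402) (flp_f L129374) L137785
theorem L137793 : sm gf N10862 = N11832 := rfl
theorem L137795 : sm ga N11832 = N10952 := ded_13_1 (flp_f L130161) (flp_a L129379) L137793
theorem L137797 : sm gb N11832 = N10881 := ded_20_1 (flp_f L129549) (flp_b L129381) L137793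
theorem L137799 : sm gh N11832 = N11832 := ded_40_2 (flp_f L137793) L129383 L137793
theorem L137800 : sm ge N11832 = N10866 := ded_35_1 (flp_f L129409) (flp_e L122102) (flp_f L122083) L129377 L137793
theorem L137802 : sm gi N10862 = N11833 := rfl
theorem L137804 : sm ga N11833 = N10953 := ded_16_1 (flp_i L130168) (flp_a L129379) L137802
theorem L137806 : sm gb N11833 = N10882 := ded_23_1 (flp_i L129556) (flp_b L129381) L137802
theorem L137808 : sm ge N11833 = N10863 := ded_38_1 (flp_i L129384) L129377 L137802
theorem L137810 : sm gh N10863 = N11834 := rfl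
theorem L137812 : sm ga N11834 = N10954 := ded_15_1 (flp_h L130174) (flp_a L129386) L137810
theorem L137814 : sm gb N11834 = N10883 := ded_22_1 (flp_h L129562) (flp_b L129388) L137810
theorem L137816 : sm gf N11834 = N10868 := ded_40_1 (flp_h L129429) (flp_f L129392) L137810
theorem L137818 : sm gd N11834 = N11648 := ded_33_1 (flp_h L136305) L128140 (flp_h L122094) (flp_d L129390) L137810
theorem L137820 : sm gi N11834 = N11834 := ded_44_2 (flp_h L137810) (flp_i L129384) L122085 L129384 L137810
theorem L137821 : sm gd N10864 = N11835 := rfl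
theorem L137823 : sm ga N11835 = N10955 := ded_11_1 (flp_d L130183) (flp_a L129396) L137821
theorem L137825 : sm gg N11835 = N11835 := ded_32_2 (flp_d L137821) L129400 L137821
theorem L137826 : sm gc N11835 = N11160 := ded_24_1 (flp_d L132176) L124338 (flp_d L122110) (flp_c L129398) L137821
theorem L137828 : sm gf N10864 = N11836 := rfl
theorem L137830 : sm ga N11836 = N10956 := ded_13_1 (flp_f L130189) (flp_a L129396) L137828
theorem L137832 : sm gc N11836 = N10866 := ded_26_1 (flp_f L129409) (flp_c L129398) L137828
theorem L137834 : sm gh N11836 = N11836 := ded_40_2 (flp_f L137828) L129401 L137828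
theorem L137835 : sm gi N10864 = N11837 := rfl
theorem L137837 : sm ga N11837 = N10957 := ded_16_1 (flp_i L130195) (flp_a L129396) L137835
theorem L137839 : sm gc N11837 = N10867 := ded_29_1 (flp_i L129418) (flp_c L129398) L137835
theorem L137841 : sm ge N11837 = N10865 := ded_38_1 (flp_i L129402) L129394 L137835
theorem L137843 : sm gg N11837 = N11837 := ded_43_1 (flp_i L137835) L129400 L137835
theorem L137844 : sm gh N10865 = N11838 := rfl
theorem L137846 : sm ga N11838 = N10958 := ded_15_1 (flp_h L130203) (flp_a L129404) L137844
theorem L137848 : sm gc N11838 = N10868 := ded_28_1 (flp_h L129429) (flp_c L129406) L137844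
theorem L137850 : sm gg N11838 = N11838 := ded_42_1 (flp_h L137844) L129408 L137844
theorem L137851 : sm gi N11838 = N11838 := ded_44_2 (flp_h L137844) (flp_i L129402) L122101 L129402 L137844
theorem L137852 : sm gg N10866 = N11839 := rfl
theorem L137854 : sm ga N11839 = N10959 := ded_14_1 (flp_g L130210) (flp_a L129411) L137852
theorem L137856 : sm gb N11839 = N10884 := ded_21_1 (flp_g L129571) (flp_b L129413) L137852
theorem L137858 : sm gd N11839 = N11164 := ded_32_1 (flp_g L132211) (flp_d L129415) L137852
theorem L137860 : sm gh N11839 = N11839 := ded_42_2 (flp_g L137852) L129417 L137852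
theorem L137861 : sm gf N11839 = N11839 := ded_39_1 (flp_g L137852) (flp_f L129409) L122108 L129409 L137852
theorem L137862 : sm gi N10866 = N11840 := rfl
theorem L137864 : sm ga N11840 = N10960 := ded_16_1 (flp_i L130218) (flp_a L129411) L137862
theorem L137866 : sm gb N11840 = N10885 := ded_23_1 (flp_i L129579) (flp_b L129413) L137862
theorem L137868 : sm gd N11840 = N11165 := ded_34_1 (flp_i L132220) (flp_d L129415) L137862
theorem L137870 : sm gf N11840 = N10867 := ded_41_1 (flp_i L129418) L129409 L137862
theorem L137872 : sm gh N10867 = N11841 := rfl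
theorem L137874 : sm ga N11841 = N10961 := ded_15_1 (flp_h L130226) (flp_a L129420) L137872
theorem L137876 : sm gb N11841 = N10886 := ded_22_1 (flp_h L129587) (flp_b L129422) L137872
theorem L137878 : sm ge N11841 = N10868 := ded_37_1 (flp_h L129429) (flp_e L129426) L137872
theorem L137880 : sm gg N11841 = N11841 := ded_42_1 (flp_h L137872) L129428 L137872
theorem L137881 : sm gi N11841 = N11841 := ded_44_2 (flp_h L137872) (flp_i L129418) L122109 L129418 L137872
theorem L137882 : sm gh N10869 = N11842 := rfl
theorem L137884 : sm ga N11842 = N10894 := ded_15_1 (flp_h L129654) (flp_a L129441) L137882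
theorem L137886 : sm gc N11842 = N11842 := ded_28_1 (flp_h L137882) L129443 L137882
theorem L137887 : sm ge N11842 = N11539 := ded_37_1 (flp_h L135387) L129450 L137882
theorem L137889 : sm gf N11842 = N10870 := ded_40_1 (flp_h L129452) L129439 L137882
theorem L137891 : sm gg N11842 = N11167 := ded_42_1 (flp_h L132239) (flp_g L129448) L137882
theorem L137893 : sm gd N10870 = N11843 := rfl
theorem L137895 : sm ga N11843 = N10895 := ded_11_1 (flp_d L129665) (flp_a L129454) L137893
theorem L137897 : sm gg N11843 = N10871 := ded_32_2 (flp_d L129460) (flp_g L129458) L137893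
theorem L137899 : sm gh N11843 = N10874 := ded_33_2 (flp_d L129489) (flp_h L122150) (flp_d L122126) L129452 L137893
theorem L137901 : sm gi N10870 = N11844 := rfl
theorem L137903 : sm ga N11844 = N10896 := ded_16_1 (flp_i L129673) (flp_a L129454) L137901
theorem L137905 : sm gc N11844 = N11844 := ded_29_1 (flp_i L137901) L129456 L137901
theorem L137906 : sm ge N11844 = N11844 := ded_38_1 (flp_i L137901) L129457 L137901
theorem L137907 : sm gg N11844 = N10872 := ded_43_1 (flp_i L129468) (flp_g L129458) L137901
theorem L137909 : sm gh N11844 = N11408 := ded_44_1 (flp_i L134219) L126071 (flp_i L122129) L129452 L137901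
theorem L137911 : sm gc N10871 = N11845 := rfl
theorem L137913 : sm ga N11845 = N10897 := ded_10_1 (flp_c L129683) (flp_a L129462) L137911
theorem L137915 : sm gf N11845 = N11170 := ded_26_2 (flp_c L132269) (flp_f L129464) L137911
theorem L137917 : sm gh N11845 = N10876 := ded_28_2 (flp_c L129507) (flp_h L129466) L137911
theorem L137919 : sm gd N11845 = N11845 := ded_24_2 (flp_c L137911) (flp_d L129460) L122135 L129460 L137911
theorem L137920 : sm ge N10871 = N11846 := rfl
theorem L137922 : sm ga N11846 = N10898 := ded_12_1 (flp_e L129690) (flp_a L129462) L137920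
theorem L137924 : sm gh N11846 = N10877 := ded_37_2 (flp_e L129515) (flp_h L129466) L137920
theorem L137926 : sm gd N11846 = N11846 := ded_30_1 (flp_e L137920) (flp_d L129460) L122136 L129460 L137920
theorem L137927 : sm gi N10871 = N11847 := rfl
theorem L137929 : sm ga N11847 = N10899 := ded_16_1 (flp_i L129697) (flp_a L129462) L137927
theorem L137931 : sm gd N11847 = N10872 := ded_34_1 (flp_i L129468) L129460 L137927
theorem L137933 : sm gf N11847 = N11172 := ded_41_1 (flp_i L132286) (flp_f L129464) L137927
theorem L137935 : sm gd N10873 = N11848 := rfl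
theorem L137937 : sm ga N11848 = N10900 := ded_11_1 (flp_d L129705) (flp_a L129480) L137935
theorem L137939 : sm gf N11848 = N10874 := ded_31_2 (flp_d L129489) (flp_f L129485) L137935
theorem L137941 : sm gg N11848 = N11173 := ded_32_2 (flp_d L132292) (flp_g L129487) L137935
theorem L137943 : sm gi N10873 = N11849 := rfl
theorem L137945 : sm ga N11849 = N10901 := ded_16_1 (flp_i L129713) (flp_a L129480) L137943
theorem L137947 : sm gc N11849 = N10888 := ded_29_1 (flp_i L129604) (flp_c L129482) L137943
theorem L137949 : sm ge N11849 = N11849 := ded_38_1 (flp_i L137943) L129484 L137943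
theorem L137950 : sm gf N11849 = N10875 := ded_41_1 (flp_i L129495) (flp_f L129485) L137943
theorem L137952 : sm gg N11849 = N11174 := ded_43_1 (flp_i L132298) (flp_g L129487) L137943
theorem L137954 : sm gh N11849 = N11033 := ded_44_1 (flp_i L130869) L123126 (flp_i L122145) L129478 L137943
theorem L137956 : sm gc N10874 = N11850 := rfl
theorem L137958 : sm ga N11850 = N10902 := ded_10_1 (flp_c L129726) (flp_a L129491) L137956
theorem L137960 : sm gg N11850 = N10876 := ded_27_2 (flp_c L129507) (flp_g L129493) L137956
theorem L137962 : sm gd N11850 = N10889 := ded_24_2 (flp_c L129615) (flp_d L122243) (flp_c L122154) L129489 L137956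
theorem L137964 : sm ge N11583 = N11850 := ded_12_0 L137958 (flp_e L129732) (flp_a L135742)
theorem L137966 : sm ge N10874 = N11851 := rfl
theorem L137968 : sm ga N11851 = N10903 := ded_12_1 (flp_e L129734) (flp_a L129491) L137966
theorem L137970 : sm gc N11851 = N11583 := ded_25_1 L137964 (flp_c L137956) L137966
theorem L137972 : sm gg N11851 = N10877 := ded_36_2 (flp_e L129515) (flp_g L129493) L137966
theorem L137974 : sm gd N11851 = N10879 := ded_30_1 (flp_e L129529) (flp_d L122178) (flp_e L122156) L129489 L137966
theorem L137976 : sm gf N11584 = N11851 := ded_13_0 L137968 (flp_f L129744) (flp_a L135748)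
theorem L137978 : sm gi N10874 = N11852 := rfl
theorem L137980 : sm ga N11852 = N10904 := ded_16_1 (flp_i L129746) (flp_a L129491) L137978
theorem L137982 : sm gd N11852 = N10875 := ded_34_1 (flp_i L129495) L129489 L137978
theorem L137984 : sm gg N11852 = N10878 := ded_43_1 (flp_i L129521) (flp_g L129493) L137978
theorem L137986 : sm gb N10876 = N11853 := rfl
theorem L137988 : sm gd N11853 = N10891 := ded_18_2 (flp_b L129632) (flp_d L129513) L137986
theorem L137990 : sm gf N11853 = N11178 := ded_20_2 (flp_b L132333) (flp_f L129511) L137986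
theorem L137992 : sm ge N10876 = N11854 := rfl
theorem L137994 : sm ga N11854 = N10906 := ded_12_1 (flp_e L129762) (flp_a L129509) L137992
theorem L137996 : sm gc N11854 = N10877 := ded_25_1 (flp_e L129515) L129507 L137992
theorem L137998 : sm gg N11854 = N11583 := ded_36_2 L137964 L137960 L137992
theorem L138000 : sm gd N11854 = N11582 := ded_30_1 L135736 (flp_d L129065) L129059 (flp_d L129513) L137992
theorem L138002 : sm gi N10876 = N11855 := rfl
theorem L138004 : sm ga N11855 = N10907 := ded_16_1 (flp_i L129770) (flp_a L129509) L138002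
theorem L138006 : sm gc N11855 = N10878 := ded_29_1 (flp_i L129521) L129507 L138002
theorem L138008 : sm gd N11855 = N10892 := ded_34_1 (flp_i L129637) (flp_d L129513) L138002
theorem L138010 : sm gf N11855 = N11180 := ded_41_1 (flp_i L132344) (flp_f L129511) L138002
theorem L138012 : sm gf N10877 = N11856 := rfl
theorem L138014 : sm ga N11856 = N10908 := ded_13_1 (flp_f L129778) (flp_a L129517) L138012
theorem L138016 : sm gd N11856 = N10881 := ded_31_1 (flp_f L129549) (flp_d L129519) L138012
theorem L138018 : sm ge N11856 = N11181 := ded_35_1 (flp_f L132352) (flp_e L124441) (flp_f L122164) L129515 L138012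
theorem L138020 : sm gi N10877 = N11857 := rfl
theorem L138022 : sm ga N11857 = N10909 := ded_16_1 (flp_i L129786) (flp_a L129517) L138020
theorem L138024 : sm gd N11857 = N10882 := ded_34_1 (flp_i L129556) (flp_d L129519) L138020
theorem L138026 : sm ge N11857 = N10878 := ded_38_1 (flp_i L129521) L129515 L138020
theorem L138028 : sm gh N10878 = N11858 := rfl
theorem L138030 : sm ga N11858 = N10910 := ded_15_1 (flp_h L129794) (flp_a L129523) L138028
theorem L138032 : sm gf N11858 = N11183 := ded_40_1 (flp_h L132366) (flp_f L129527) L138028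
theorem L138034 : sm gd N11858 = N11664 := ded_33_1 (flp_h L136428) L128215 (flp_h L122176) (flp_d L129525) L138028
theorem L138036 : sm gi N10879 = N11859 := rfl
theorem L138038 : sm ga N11859 = N10911 := ded_16_1 (flp_i L129802) (flp_a L129531) L138036
theorem L138040 : sm gc N11859 = N11464 := ded_29_1 L134713 (flp_c L129533) L138036
theorem L138042 : sm ge N11859 = N10880 := ded_38_1 (flp_i L129540) L129529 L138036
theorem L138044 : sm gf N11859 = N11465 := ded_41_1 L134720 L129538 L138036
theorem L138046 : sm gg N11859 = N10882 := ded_43_1 (flp_i L129556) (flp_g L129535) L138036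
theorem L138048 : sm gh N10880 = N11860 := rfl
theorem L138050 : sm ga N11860 = N10912 := ded_15_1 (flp_h L129814) (flp_a L129542) L138048
theorem L138052 : sm gf N11860 = N11860 := ded_40_1 (flp_h L138048) L129546 L138048
theorem L138053 : sm gg N11860 = N10883 := ded_42_1 (flp_h L129562) (flp_g L129547) L138048
theorem L138055 : sm gd N11860 = N11469 := ded_33_1 (flp_h L134749) L126511 (flp_h L122195) (flp_d L129544) L138048
theorem L138057 : sm gi N11860 = N11860 := ded_44_2 (flp_h L138048) (flp_i L129540) L122185 L129540 L138048
theorem L138058 : sm gg N10881 = N11861 := rfl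
theorem L138060 : sm ga N11861 = N10913 := ded_14_1 (flp_g L129824) (flp_a L129551) L138058
theorem L138062 : sm gc N11861 = N11633 := ded_27_1 (flp_g L137324) L137317 L138058
theorem L138064 : sm ge N11861 = N10884 := ded_36_1 (flp_g L129571) (flp_e L129554) L138058
theorem L138066 : sm gh N11861 = N11861 := ded_42_2 (flp_g L138058) L129553 L138058
theorem L138067 : sm gf N11861 = N11634 := ded_39_1 L136192 L129538 L129535 L129549 L138058
theorem L138069 : sm gi N10881 = N11862 := rfl
theorem L138071 : sm ga N11862 = N10914 := ded_16_1 (flp_i L129835) (flp_a L129551) L138069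
theorem L138073 : sm ge N11862 = N10885 := ded_38_1 (flp_i L129579) (flp_e L129554) L138069
theorem L138075 : sm gf N11862 = N10882 := ded_41_1 (flp_i L129556) L129549 L138069
theorem L138077 : sm gh N10882 = N11863 := rfl
theorem L138079 : sm ga N11863 = N10915 := ded_15_1 (flp_h L129843) (flp_a L129558) L138077
theorem L138081 : sm ge N11863 = N10883 := ded_37_1 (flp_h L129562) (flp_e L129560) L138077
theorem L138083 : sm gi N11863 = N11863 := ded_44_2 (flp_h L138077) (flp_i L129556) L122201 L129556 L138077
theorem L138084 : sm gi N10884 = N11864 := rfl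
theorem L138086 : sm ga N11864 = N10916 := ded_16_1 (flp_i L129850) (flp_a L129573) L138084
theorem L138088 : sm gd N11864 = N11189 := ded_34_1 (flp_i L132418) (flp_d L129575) L138084
theorem L138090 : sm gf N11864 = N11864 := ded_41_1 (flp_i L138084) L129578 L138084
theorem L138091 : sm gg N11864 = N10885 := ded_43_1 (flp_i L129579) L129571 L138084
theorem L138093 : sm gh N10885 = N11865 := rfl
theorem L138095 : sm ga N11865 = N10917 := ded_15_1 (flp_h L129859) (flp_a L129581) L138093
theorem L138097 : sm gf N11865 = N10886 := ded_40_1 (flp_h L129587) (flp_f L129585) L138093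
theorem L138099 : sm gi N11865 = N11865 := ded_44_2 (flp_h L138093) (flp_i L129579) L122216 L129579 L138093
theorem L138100 : sm gd N10886 = N11866 := rfl
theorem L138102 : sm ga N11866 = N10918 := ded_11_1 (flp_d L129866) (flp_a L129589) L138100
theorem L138104 : sm gg N11866 = N11866 := ded_32_2 (flp_d L138100) L129593 L138100
theorem L138105 : sm gi N11866 = N11866 := ded_34_2 (flp_d L138100) L129594 L138100
theorem L138106 : sm ge N11866 = N11670 := ded_30_2 (flp_d L136473) L128259 (flp_d L122231) (flp_e L129591) L138100
theorem L138108 : sm gh N11866 = N11191 := ded_33_2 (flp_d L132435) (flp_h L124518) (flp_d L122221) L129587 L138100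
theorem L138110 : sm gc N10887 = N11867 := rfl
theorem L138112 : sm ga N11867 = N10919 := ded_10_1 (flp_c L129876) (flp_a L129597) L138110
theorem L138114 : sm gf N11867 = N10889 := ded_26_2 (flp_c L129615) (flp_f L129599) L138110
theorem L138116 : sm gg N11867 = N11135 := ded_27_2 L131949 (flp_g L129601) L138110
theorem L138118 : sm gh N11867 = N11867 := ded_28_2 (flp_c L138110) L129603 L138110
theorem L138119 : sm ge N11540 = N11867 := ded_12_0 L138112 (flp_e L129885) (flp_a L135397)
theorem L138121 : sm ge N10887 = N11868 := rfl
theorem L138123 : sm ga N11868 = N10920 := ded_12_1 (flp_e L129887) (flp_a L129597) L138121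
theorem L138125 : sm gb N11868 = N11811 := ded_19_1 L137596 L129990 L138121
theorem L138127 : sm gc N11868 = N11540 := ded_25_1 L138119 (flp_c L138110) L138121
theorem L138129 : sm gg N11868 = N11092 := ded_36_2 L131506 (flp_g L129601) L138121
theorem L138131 : sm gh N11868 = N11868 := ded_37_2 (flp_e L138121) L129603 L138121
theorem L138132 : sm gd N11868 = N11868 := ded_30_1 (flp_e L138121) (flp_d L129595) L122238 L129595 L138121
theorem L138133 : sm gf N11868 = N11541 := ded_35_2 L135406 (flp_f L129033) L129039 (flp_f L129599) L138121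
theorem L138135 : sm gi N10887 = N11869 := rfl
theorem L138137 : sm ga N11869 = N10921 := ded_16_1 (flp_i L129899) (flp_a L129597) L138135
theorem L138139 : sm gd N11869 = N10888 := ded_34_1 (flp_i L129604) L129595 L138135
theorem L138141 : sm gf N11869 = N10890 := ded_41_1 (flp_i L129624) (flp_f L129599) L138135
theorem L138143 : sm gg N11869 = N11138 := ded_43_1 (flp_i L131969) (flp_g L129601) L138135
theorem L138145 : sm gb N10889 = N11870 := rfl
theorem L138147 : sm ge N11870 = N11578 := ded_19_2 L135697 (flp_e L129619) L138145
theorem L138149 : sm gg N11870 = N10891 := ded_21_2 (flp_b L129632) (flp_g L129621) L138145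
theorem L138151 : sm gh N11870 = N11870 := ded_22_2 (flp_b L138145) L129623 L138145
theorem L138152 : sm gi N10889 = N11871 := rfl
theorem L138154 : sm ga N11871 = N10923 := ded_16_1 (flp_i L129920) (flp_a L129617) L138152
theorem L138156 : sm gc N11871 = N10890 := ded_29_1 (flp_i L129624) L129615 L138152
theorem L138158 : sm ge N11871 = N11356 := ded_38_1 L133809 (flp_e L129619) L138152
theorem L138160 : sm gg N11871 = N10892 := ded_43_1 (flp_i L129637) (flp_g L129621) L138152
theorem L138162 : sm gh N10890 = N11872 := rfl
theorem L138164 : sm ga N11872 = N10924 := ded_15_1 (flp_h L129928) (flp_a L129626) L138162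
theorem L138166 : sm gg N11872 = N10893 := ded_42_1 (flp_h L129645) (flp_g L129630) L138162
theorem L138168 : sm gd N11872 = N11236 := ded_33_1 (flp_h L132807) L124818 (flp_h L122258) (flp_d L129628) L138162
theorem L138170 : sm gi N11872 = N11872 := ded_44_2 (flp_h L138162) (flp_i L129624) L122249 L129624 L138162
theorem L138171 : sm ga N10891 = N11873 := rfl
theorem L138173 : sm gf N11873 = N11195 := ded_13_2 (flp_a L132467) (flp_f L129634) L138171
theorem L138175 : sm gh N11873 = N11873 := ded_15_2 (flp_a L138171) L129636 L138171
theorem L138176 : sm gb N11873 = N10925 := ded_9_2 (flp_a L129937) (flp_b L122464) (flp_a L122262) L129632 L138171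
theorem L138178 : sm gi N10891 = N11874 := rfl
theorem L138180 : sm gb N11874 = N10892 := ded_23_1 (flp_i L129637) L129632 L138178
theorem L138182 : sm gf N11874 = N11196 := ded_41_1 (flp_i L132477) (flp_f L129634) L138178
theorem L138184 : sm gh N10892 = N11875 := rfl
theorem L138186 : sm ga N11875 = N10927 := ded_15_1 (flp_h L129952) (flp_a L129639) L138184
theorem L138188 : sm gc N11875 = N10893 := ded_28_1 (flp_h L129645) (flp_c L129641) L138184
theorem L138190 : sm gf N11875 = N11197 := ded_40_1 (flp_h L132482) (flp_f L129643) L138184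
theorem L138192 : sm gi N11875 = N11875 := ded_44_2 (flp_h L138184) (flp_i L129637) L122266 L129637 L138184
theorem L138193 : sm gd N10894 = N11876 := rfl
theorem L138195 : sm gb N11876 = N10994 := ded_18_1 (flp_d L130529) (flp_b L129656) L138193
theorem L138197 : sm gf N11876 = N10895 := ded_31_2 (flp_d L129665) (flp_f L129661) L138193
theorem L138199 : sm gg N11876 = N11198 := ded_32_2 (flp_d L132490) (flp_g L129663) L138193
theorem L138201 : sm ge N11876 = N11127 := ded_30_2 L131877 (flp_e L131460) L131458 (flp_e L129659) L138193
theorem L138203 : sm gh N11876 = N10900 := ded_33_2 (flp_d L129705) (flp_h L122314) (flp_d L122280) L129654 L138193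
theorem L138205 : sm gc N11208 = N11876 := ded_17_0 L138195 L130535 L124109 (flp_c L125148) (flp_b L132580)
theorem L138207 : sm gi N10894 = N11877 := rfl
theorem L138209 : sm gb N11877 = N10995 := ded_23_1 (flp_i L130541) (flp_b L129656) L138207
theorem L138211 : sm gc N11877 = N11877 := ded_29_1 (flp_i L138207) L129658 L138207
theorem L138212 : sm ge N11877 = N11282 := ded_38_1 L133204 (flp_e L129659) L138207
theorem L138214 : sm gf N11877 = N10896 := ded_41_1 (flp_i L129673) (flp_f L129661) L138207
theorem L138216 : sm gg N11877 = N11199 := ded_43_1 (flp_i L132498) (flp_g L129663) L138207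
theorem L138218 : sm gh N11877 = N11070 := ded_44_1 (flp_i L131260) L123489 (flp_i L122282) L129654 L138207
theorem L138220 : sm gc N10895 = N11878 := rfl
theorem L138222 : sm gf N11878 = N11208 := ded_26_2 L138205 L138197 L138220
theorem L138224 : sm gg N11878 = N10897 := ded_27_2 (flp_c L129683) (flp_g L129669) L138220
theorem L138226 : sm gh N11878 = N10902 := ded_28_2 (flp_c L129726) (flp_h L129671) L138220
theorem L138228 : sm gb N11878 = N11277 := ded_17_1 L133168 L130561 (flp_c L130551) (flp_b L129667) L138220
theorem L138230 : sm gd N11878 = N11878 := ded_24_2 (flp_c L138220) (flp_d L129665) L122292 L129665 L138220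
theorem L138231 : sm ge N11212 = N11878 := ded_35_5 L138222 (flp_e L132578) L124626 L124645 L132612
theorem L138233 : sm ge N10895 = N11879 := rfl
theorem L138235 : sm gb N11879 = N10997 := ded_19_1 (flp_e L130565) (flp_b L129667) L138233
theorem L138237 : sm gc N11879 = N11212 := ded_25_1 L138231 (flp_c L138220) L138233
theorem L138239 : sm gg N11879 = N10898 := ded_36_2 (flp_e L129690) (flp_g L129669) L138233
theorem L138241 : sm gh N11879 = N10903 := ded_37_2 (flp_e L129734) (flp_h L129671) L138233
theorem L138243 : sm gd N11879 = N11879 := ded_30_1 (flp_e L138233) (flp_d L129665) L122293 L129665 L138233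
theorem L138244 : sm gf N11879 = N11210 := ded_35_2 (flp_e L132591) (flp_f L131879) (flp_e L138201) L138197 L138233
theorem L138246 : sm gi N10895 = N11880 := rfl
theorem L138248 : sm gb N11880 = N10998 := ded_23_1 (flp_i L130576) (flp_b L129667) L138246
theorem L138250 : sm gd N11880 = N10896 := ded_34_1 (flp_i L129673) L129665 L138246
theorem L138252 : sm gg N11880 = N10899 := ded_43_1 (flp_i L129697) (flp_g L129669) L138246
theorem L138254 : sm gb N10897 = N11881 := rfl
theorem L138256 : sm gd N11881 = N11881 := ded_18_2 (flp_b L138254) L129689 L138254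
theorem L138257 : sm gf N11881 = N11202 := ded_20_2 (flp_b L132530) (flp_f L129685) L138254
theorem L138259 : sm gg N11881 = N11277 := ded_21_2 (flp_b L138228) L138224 L138254
theorem L138261 : sm gh N11881 = N10905 := ded_22_2 (flp_b L129754) (flp_h L129687) L138254
theorem L138263 : sm gc N11881 = N10999 := ded_17_2 (flp_b L130582) (flp_c L122938) (flp_b L122298) L129683 L138254
theorem L138265 : sm ge N11881 = N11370 := ded_47_3 L133921 L125791 L70235 L70237 (flp_g L54481) (flp_f L39941) (flp_e L29280) (flp_d L21546) L15839 L11703 (flp_h L8622) (flp_g L6383) (flp_f L4697) L3485 (flp_d L2634) L1956 L1441 L1443 L1442 L1446 (flp_e L1438) (flp_d L1032) (flp_c L1011) (flp_b L1320) (flp_h L1318) L949 L947 L654 L457 L456 L454 L485 L491 L400 L304 L428 L433 (flp_b L602) L606 L604 (flp_f L802) L1116 (flp_d L1523) (flp_c L2058) (flp_b L2776) (flp_h L3720) (flp_g L4337) L5891 (flp_e L7829) (flp_d L10606) (flp_c L14397) (flp_b L19351) L26330 (flp_g L35940) L35939 (flp_e L49015) L67052 L124637 L124641 (flp_h L128286) (flp_g L132533) (flp_f L138257)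
theorem L138267 : sm ge N10897 = N11882 := rfl
theorem L138269 : sm gb N11882 = N11370 := ded_19_1 (flp_e L138265) (flp_b L138254) L138267
theorem L138271 : sm gc N11882 = N10898 := ded_25_1 (flp_e L129690) L129683 L138267
theorem L138273 : sm gg N11882 = N11212 := ded_36_2 L138231 L138224 L138267
theorem L138275 : sm gh N11882 = N10906 := ded_37_2 (flp_e L129762) (flp_h L129687) L138267
theorem L138277 : sm gd N11882 = N11224 := ded_47_4 L132703 L132701 L125794 (flp_g L73651) (flp_f L53816) (flp_e L39393) (flp_d L28837) L21142 L15534 (flp_h L11438) (flp_g L8399) (flp_f L6208) L4574 (flp_d L4570) L3388 (flp_b L3186) L3189 L2417 L3252 L3258 L2439 (flp_c L2452) L2451 L2454 (flp_g L108150) (flp_f L2284) (flp_e L1698) (flp_d L1243) L899 L898 (flp_h L894) L632 L527 L418 L417 L416 L415 L591 L598 (flp_f L759) (flp_e L1064) L1462 L1979 L2656 (flp_h L3554) (flp_g L4017) (flp_f L5369) L7227 L9759 L13195 (flp_b L17809) L24168 L24174 (flp_f L32861) (flp_e L44739) L61025 L121246 (flp_b L124641) (flp_h L132515) L132513 (flp_f L129685) L138267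
theorem L138279 : sm gf N11221 = N11882 := ded_20_0 L138269 L133923 (flp_b L132681)
theorem L138281 : sm gi N10897 = N11883 := rfl
theorem L138283 : sm gc N11883 = N10899 := ded_29_1 (flp_i L129697) L129683 L138281
theorem L138285 : sm gd N11883 = N11883 := ded_34_1 (flp_i L138281) L129689 L138281
theorem L138286 : sm gf N11883 = N11204 := ded_41_1 (flp_i L132549) (flp_f L129685) L138281
theorem L138288 : sm gf N10898 = N11884 := rfl
theorem L138290 : sm gb N11884 = N11002 := ded_20_1 (flp_f L130614) (flp_b L129692) L138288
theorem L138292 : sm gc N11884 = N11221 := ded_26_1 L138279 L138271 L138288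
theorem L138294 : sm gd N11884 = N11884 := ded_31_1 (flp_f L138288) L129696 L138288
theorem L138295 : sm gh N11884 = N10908 := ded_40_2 (flp_f L129778) (flp_h L129694) L138288
theorem L138297 : sm ge N11884 = N11205 := ded_35_1 (flp_f L132554) (flp_e L124606) (flp_f L122300) L129690 L138288
theorem L138299 : sm gg N11884 = N11218 := ded_39_2 (flp_f L132663) (flp_g L132597) (flp_f L138244) L138239 L138288
theorem L138301 : sm gi N10898 = N11885 := rfl
theorem L138303 : sm gb N11885 = N11003 := ded_23_1 (flp_i L130621) (flp_b L129692) L138301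
theorem L138305 : sm gd N11885 = N11885 := ded_34_1 (flp_i L138301) L129696 L138301
theorem L138306 : sm ge N11885 = N10899 := ded_38_1 (flp_i L129697) L129690 L138301
theorem L138308 : sm gh N10899 = N11886 := rfl
theorem L138310 : sm gb N11886 = N11004 := ded_22_1 (flp_h L130626) (flp_b L129699) L138308
theorem L138312 : sm gf N11886 = N11207 := ded_40_1 (flp_h L132572) (flp_f L129703) L138308
theorem L138314 : sm gd N11886 = N11675 := ded_33_1 (flp_h L136506) L128300 (flp_h L122312) (flp_d L129701) L138308
theorem L138316 : sm gi N11886 = N10910 := ded_44_2 (flp_h L129794) (flp_i L122355) (flp_h L122302) L129697 L138308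
theorem L138318 : sm gc N10900 = N11887 := rfl
theorem L138320 : sm gf N11887 = N10902 := ded_26_2 (flp_c L129726) (flp_f L129709) L138318
theorem L138322 : sm gg N11887 = N11127 := ded_27_2 L131881 (flp_g L129711) L138318
theorem L138324 : sm gh N11887 = N11208 := ded_28_2 L138205 L138203 L138318
theorem L138326 : sm gb N11887 = N11125 := ded_17_1 (flp_c L131855) L124081 (flp_c L122963) (flp_b L129707) L138318
theorem L138328 : sm gd N11887 = N10919 := ded_24_2 (flp_c L129876) (flp_d L122429) (flp_c L122318) L129705 L138318
theorem L138330 : sm ge N11198 = N11887 := ded_35_5 L138320 (flp_e L129732) L127519 (flp_e L124586) (flp_f L132494)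
theorem L138332 : sm ge N10900 = N11888 := rfl
theorem L138334 : sm gb N11888 = N11005 := ded_19_1 (flp_e L130634) (flp_b L129707) L138332
theorem L138336 : sm gc N11888 = N11198 := ded_25_1 L138330 (flp_c L138318) L138332
theorem L138338 : sm gg N11888 = N11208 := ded_36_2 (flp_e L132578) (flp_g L129711) L138332
theorem L138340 : sm gh N11888 = N11127 := ded_37_2 (flp_e L138201) L138203 L138332
theorem L138342 : sm gd N11888 = N11888 := ded_30_1 (flp_e L138332) (flp_d L129705) L122320 L129705 L138332
theorem L138343 : sm gf N11888 = N11200 := ded_35_2 L132511 L129744 (flp_e L129734) (flp_f L129709) L138332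
theorem L138345 : sm gi N10900 = N11889 := rfl
theorem L138347 : sm gb N11889 = N11006 := ded_23_1 (flp_i L130645) (flp_b L129707) L138345
theorem L138349 : sm gd N11889 = N10901 := ded_34_1 (flp_i L129713) L129705 L138345
theorem L138351 : sm gf N11889 = N10904 := ded_41_1 (flp_i L129746) (flp_f L129709) L138345
theorem L138353 : sm gg N11889 = N11209 := ded_43_1 (flp_i L132583) (flp_g L129711) L138345
theorem L138355 : sm gb N10902 = N11890 := rfl
theorem L138357 : sm gd N11890 = N10922 := ded_18_2 (flp_b L129909) (flp_d L129730) L138355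
theorem L138359 : sm ge N11890 = N11359 := ded_19_2 L133834 L129732 L138355
theorem L138361 : sm gf N11890 = N11125 := ded_20_2 (flp_b L138326) L138320 L138355
theorem L138363 : sm gg N11890 = N10905 := ded_21_2 (flp_b L129754) (flp_g L129728) L138355
theorem L138365 : sm gh N11890 = N11277 := ded_22_2 (flp_b L138228) L138226 L138355
theorem L138367 : sm gc N11890 = N11007 := ded_17_2 (flp_b L130655) (flp_c L122976) (flp_b L122327) L129726 L138355
theorem L138369 : sm gi N10902 = N11891 := rfl
theorem L138371 : sm gc N11891 = N10904 := ded_29_1 (flp_i L129746) L129726 L138369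
theorem L138373 : sm gd N11891 = N10923 := ded_34_1 (flp_i L129920) (flp_d L129730) L138369
theorem L138375 : sm ge N11891 = N11387 := ded_38_1 L134051 L129732 L138369
theorem L138377 : sm gg N11891 = N10907 := ded_43_1 (flp_i L129770) (flp_g L129728) L138369
theorem L138379 : sm gi N10903 = N11892 := rfl
theorem L138381 : sm gb N11892 = N11011 := ded_23_1 (flp_i L130702) (flp_b L129736) L138379
theorem L138383 : sm gc N11892 = N11387 := ded_29_1 L134051 (flp_c L129738) L138379
theorem L138385 : sm gd N11892 = N10911 := ded_34_1 (flp_i L129802) (flp_d L129742) L138379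
theorem L138387 : sm ge N11892 = N10904 := ded_38_1 (flp_i L129746) L129734 L138379
theorem L138389 : sm gf N11892 = N11388 := ded_41_1 L134055 L129744 L138379
theorem L138391 : sm gg N11892 = N10909 := ded_43_1 (flp_i L129786) (flp_g L129740) L138379
theorem L138393 : sm gh N10904 = N11893 := rfl
theorem L138395 : sm gb N11893 = N11012 := ded_22_1 (flp_h L130710) (flp_b L129748) L138393
theorem L138397 : sm gg N11893 = N10910 := ded_42_1 (flp_h L129794) (flp_g L129752) L138393
theorem L138399 : sm gd N11893 = N11377 := ded_33_1 (flp_h L133973) L125749 (flp_h L122341) (flp_d L129750) L138393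
theorem L138401 : sm ga N10905 = N11894 := rfl
theorem L138403 : sm gc N11894 = N11013 := ded_10_2 (flp_a L130716) (flp_c L129760) L138401
theorem L138405 : sm gd N11894 = N10925 := ded_11_2 (flp_a L129937) (flp_d L129756) L138401
theorem L138407 : sm gf N11894 = N11215 := ded_13_2 (flp_a L132636) (flp_f L129758) L138401
theorem L138409 : sm ge N10905 = N11895 := rfl
theorem L138411 : sm gb N11895 = N10906 := ded_19_1 (flp_e L129762) L129754 L138409
theorem L138413 : sm gc N11895 = N11014 := ded_25_1 (flp_e L130722) (flp_c L129760) L138409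
theorem L138415 : sm gg N11895 = N11359 := ded_36_2 (flp_e L138359) L138363 L138409
theorem L138417 : sm gh N11895 = N11370 := ded_37_2 (flp_e L138265) L138261 L138409
theorem L138419 : sm gd N11895 = N11524 := ded_30_1 L135261 (flp_d L129163) L129165 (flp_d L129756) L138409
theorem L138421 : sm gf N11367 = N11895 := ded_45_3 (flp_e L138409) L129756 (flp_b L122464) (flp_c L64945) (flp_d L47522) L47529 L47537 (flp_d L61122) (flp_f L66731) (flp_e L123747) L123745 L66328 L48557 (flp_d L66385) (flp_i L66381) L48552 (flp_d L48545) L35604 L35602 L26122 (flp_b L26215) (flp_c L35723) L48723 L66660 L116568 (flp_d L117882) L67124 (flp_e L67148) L124765 L124767 L125854 L125859 L70299 L54539 L40102 L120988 L47274 L34687 L25476 L18776 L13834 L13838 L13836 L10255 L7612 L7607 L5689 L5688 (flp_c L7658) (flp_d L10376) (flp_i L108775) (flp_h L7966) L5902 (flp_f L4346) (flp_e L3222) (flp_d L3121) L4185 L4194 L4187 (flp_i L4298) L4297 L4293 (flp_f L5369) L7227 L9759 L9761 (flp_c L9729) (flp_d L9724) (flp_i L7558) (flp_h L10208) L13817 L18761 L25484 L25488 (flp_b L34678) (flp_c L47235) (flp_d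 L121030) L40090 (flp_h L40082) (flp_d L39983) L39985 (flp_e L54506) L54505 L54504 (flp_c L73675) (flp_d L127063) L127066 (flp_h L127501) (flp_d L133901)
theorem L138423 : sm gi N10905 = N11896 := rfl
theorem L138425 : sm gb N11896 = N10907 := ded_23_1 (flp_i L129770) L129754 L138423
theorem L138427 : sm gc N11896 = N11015 := ded_29_1 (flp_i L130731) (flp_c L129760) L138423
theorem L138429 : sm gd N11896 = N10926 := ded_34_1 (flp_i L129944) (flp_d L129756) L138423
theorem L138431 : sm gf N11896 = N11217 := ded_41_1 (flp_i L132653) (flp_f L129758) L138423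
theorem L138433 : sm gf N10906 = N11897 := rfl
theorem L138435 : sm gb N11897 = N11367 := ded_20_1 L138421 L138411 L138433
theorem L138437 : sm gc N11897 = N10908 := ded_26_1 (flp_f L129778) (flp_c L129764) L138433
theorem L138439 : sm gd N11897 = N11523 := ded_31_1 L135254 (flp_d L129768) L138433
theorem L138441 : sm gh N11897 = N11221 := ded_40_2 L138279 L138275 L138433
theorem L138443 : sm ge N11897 = N11218 := ded_35_1 (flp_f L132663) (flp_e L124671) (flp_f L122345) L129762 L138433
theorem L138445 : sm gg N11897 = N11205 := ded_39_2 (flp_f L132554) L124610 (flp_f L127519) (flp_g L129766) L138433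
theorem L138447 : sm gi N10906 = N11898 := rfl
theorem L138449 : sm gc N11898 = N10909 := ded_29_1 (flp_i L129786) (flp_c L129764) L138447
theorem L138451 : sm gd N11898 = N11386 := ded_34_1 L134045 (flp_d L129768) L138447
theorem L138453 : sm ge N11898 = N10907 := ded_38_1 (flp_i L129770) L129762 L138447
theorem L138455 : sm gg N11898 = N11387 := ded_43_1 L134051 (flp_g L129766) L138447
theorem L138457 : sm gh N10907 = N11899 := rfl
theorem L138459 : sm gc N11899 = N10910 := ded_28_1 (flp_h L129794) (flp_c L129772) L138457
theorem L138461 : sm gf N11899 = N11220 := ded_40_1 (flp_h L132675) (flp_f L129776) L138457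
theorem L138463 : sm gg N10908 = N11900 := rfl
theorem L138465 : sm gb N11900 = N11019 := ded_21_1 (flp_g L130759) (flp_b L129780) L138463
theorem L138467 : sm gc N11900 = N11205 := ded_27_1 (flp_g L138445) L138437 L138463
theorem L138469 : sm gd N11900 = N10913 := ded_32_1 (flp_g L129824) (flp_d L129782) L138463
theorem L138471 : sm ge N11900 = N11221 := ded_36_1 (flp_g L132679) (flp_e L129784) L138463
theorem L138473 : sm gh N11900 = N11218 := ded_42_2 (flp_g L138299) L138295 L138463
theorem L138475 : sm gf N11900 = N11203 := ded_39_1 L132543 L129744 L129740 L129778 L138463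
theorem L138477 : sm gi N10908 = N11901 := rfl
theorem L138479 : sm gb N11901 = N11020 := ded_23_1 (flp_i L130765) (flp_b L129780) L138477
theorem L138481 : sm gd N11901 = N10914 := ded_34_1 (flp_i L129835) (flp_d L129782) L138477
theorem L138483 : sm ge N11901 = N11222 := ded_38_1 (flp_i L132685) (flp_e L129784) L138477
theorem L138485 : sm gf N11901 = N10909 := ded_41_1 (flp_i L129786) L129778 L138477
theorem L138487 : sm gh N10909 = N11902 := rfl
theorem L138489 : sm gb N11902 = N11021 := ded_22_1 (flp_h L130773) (flp_b L129788) L138487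
theorem L138491 : sm ge N11902 = N10910 := ded_37_1 (flp_h L129794) (flp_e L129792) L138487
theorem L138493 : sm gh N10911 = N11903 := rfl
theorem L138495 : sm gb N11903 = N11024 := ded_22_1 (flp_h L130794) (flp_b L129804) L138493
theorem L138497 : sm gc N11903 = N11477 := ded_28_1 L134822 (flp_c L129806) L138493
theorem L138499 : sm ge N11903 = N10912 := ded_37_1 (flp_h L129814) (flp_e L129808) L138493
theorem L138501 : sm gf N11903 = N11478 := ded_40_1 L134829 (flp_f L129810) L138493
theorem L138503 : sm gg N11903 = N10915 := ded_42_1 (flp_h L129843) (flp_g L129812) L138493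
theorem L138505 : sm gi N11903 = N11903 := ded_44_2 (flp_h L138493) (flp_i L129802) L122371 L129802 L138493
theorem L138506 : sm gi N10913 = N11904 := rfl
theorem L138508 : sm gb N11904 = N11025 := ded_23_1 (flp_i L130802) (flp_b L129826) L138506
theorem L138510 : sm gc N11904 = N11480 := ded_29_1 L134847 (flp_c L129828) L138506
theorem L138512 : sm ge N11904 = N10916 := ded_38_1 (flp_i L129850) (flp_e L129830) L138506
theorem L138514 : sm gf N11904 = N11481 := ded_41_1 L134858 (flp_f L129833) L138506
theorem L138516 : sm gg N11904 = N10914 := ded_43_1 (flp_i L129835) L129824 L138506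
theorem L138518 : sm gh N11771 = N11904 := ded_28_0 L138510 L134849 L137175
theorem L138520 : sm gh N10914 = N11905 := rfl
theorem L138522 : sm gb N11905 = N11026 := ded_22_1 (flp_h L130809) (flp_b L129837) L138520
theorem L138524 : sm gc N11905 = N11770 := ded_28_1 L137449 L137439 L138520
theorem L138526 : sm ge N11905 = N10917 := ded_37_1 (flp_h L129859) (flp_e L129839) L138520
theorem L138528 : sm gf N11905 = N10915 := ded_40_1 (flp_h L129843) (flp_f L129841) L138520
theorem L138530 : sm gg N11905 = N11771 := ded_42_1 L138518 L138516 L138520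
theorem L138532 : sm gi N11905 = N11905 := ded_44_2 (flp_h L138520) (flp_i L129835) L122387 L129835 L138520
theorem L138533 : sm gd N10915 = N11906 := rfl
theorem L138535 : sm gb N11906 = N11027 := ded_18_1 (flp_d L130817) (flp_b L129845) L138533
theorem L138537 : sm gi N11906 = N11906 := ded_34_2 (flp_d L138533) L129849 L138533
theorem L138538 : sm ge N11906 = N11682 := ded_30_2 (flp_d L136556) L128353 (flp_d L122402) (flp_e L129847) L138533
theorem L138540 : sm gh N10916 = N11907 := rfl
theorem L138542 : sm gb N11907 = N11028 := ded_22_1 (flp_h L130822) (flp_b L129852) L138540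
theorem L138544 : sm gc N11907 = N11772 := ded_28_1 L137476 L137468 L138540
theorem L138546 : sm ge N11907 = N11771 := ded_37_1 L138518 L138512 L138540
theorem L138548 : sm gf N11907 = N11907 := ded_40_1 (flp_h L138540) L129856 L138540
theorem L138549 : sm gg N11907 = N10917 := ded_42_1 (flp_h L129859) (flp_g L129857) L138540
theorem L138551 : sm gi N11907 = N11907 := ded_44_2 (flp_h L138540) (flp_i L129850) L122411 L129850 L138540
theorem L138552 : sm gd N10917 = N11908 := rfl
theorem L138554 : sm gb N11908 = N11029 := ded_18_1 (flp_d L130829) (flp_b L129861) L138552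
theorem L138556 : sm gf N11908 = N10918 := ded_31_2 (flp_d L129866) (flp_f L129863) L138552
theorem L138558 : sm gi N11908 = N11908 := ded_34_2 (flp_d L138552) L129865 L138552
theorem L138559 : sm gh N11908 = N11230 := ded_33_2 (flp_d L132761) (flp_h L124756) (flp_d L122417) L129859 L138552
theorem L138561 : sm gc N10918 = N11909 := rfl
theorem L138563 : sm ge N11909 = N11685 := ded_25_2 (flp_c L136577) (flp_e L129872) L138561
theorem L138565 : sm gg N11909 = N11909 := ded_27_2 (flp_c L138561) L129870 L138561
theorem L138566 : sm gh N11909 = N11231 := ded_28_2 (flp_c L132769) (flp_h L129874) L138561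
theorem L138568 : sm gi N11909 = N11909 := ded_29_2 (flp_c L138561) L129871 L138561
theorem L138569 : sm gi N10919 = N11910 := rfl
theorem L138571 : sm gb N11910 = N11133 := ded_23_1 (flp_i L131932) (flp_b L129883) L138569
theorem L138573 : sm gc N11910 = N10921 := ded_29_1 (flp_i L129899) L129876 L138569
theorem L138575 : sm ge N11910 = N11283 := ded_38_1 L133210 L129885 L138569
theorem L138577 : sm gf N11910 = N10923 := ded_41_1 (flp_i L129920) (flp_f L129878) L138569
theorem L138579 : sm gg N11910 = N11136 := ded_43_1 (flp_i L131954) (flp_g L129880) L138569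
theorem L138581 : sm gh N11736 = N11910 := ded_37_0 L138575 L133212 L136922
theorem L138583 : sm gi N10920 = N11911 := rfl
theorem L138585 : sm gb N11911 = N10928 := ded_23_1 (flp_i L129959) (flp_b L129889) L138583
theorem L138587 : sm gc N11911 = N11283 := ded_29_1 L133210 (flp_c L129891) L138583
theorem L138589 : sm gd N11911 = N11911 := ded_34_1 (flp_i L138583) L129896 L138583
theorem L138590 : sm ge N11911 = N10921 := ded_38_1 (flp_i L129899) L129887 L138583
theorem L138592 : sm gf N11911 = N11284 := ded_41_1 L133221 (flp_f L129897) L138583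
theorem L138594 : sm gg N11911 = N11093 := ded_43_1 (flp_i L131512) (flp_g L129893) L138583
theorem L138596 : sm gh N11735 = N11911 := ded_28_0 L138587 L133212 L136915
theorem L138598 : sm gh N10921 = N11912 := rfl
theorem L138600 : sm gb N11912 = N10929 := ded_22_1 (flp_h L129970) (flp_b L129901) L138598
theorem L138602 : sm gc N11912 = N11736 := ded_28_1 L138581 L138573 L138598
theorem L138604 : sm ge N11912 = N11735 := ded_37_1 L138596 L138590 L138598
theorem L138606 : sm gf N11912 = N10924 := ded_40_1 (flp_h L129928) (flp_f L129905) L138598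
theorem L138608 : sm gg N11912 = N11139 := ded_42_1 (flp_h L131979) (flp_g L129907) L138598
theorem L138610 : sm gd N11912 = N10934 := ded_33_1 (flp_h L130023) L122545 (flp_h L122447) (flp_d L129903) L138598
theorem L138612 : sm gi N11912 = N11912 := ded_44_2 (flp_h L138598) (flp_i L129899) L122437 L129899 L138598
theorem L138613 : sm gd N11777 = N11815 := ded_30_3 L137637 (flp_d L138610) L138604 L136920 L137213
theorem L138615 : sm gb N11816 = N11777 := ded_18_3 L138613 L137635 L137641
theorem L138617 : sm ge N11776 = N11816 := ded_19_0 L138615 (flp_e L137213) L137206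
theorem L138619 : sm ga N10922 = N11913 := rfl
theorem L138621 : sm gc N11913 = N10930 := ded_10_2 (flp_a L129981) (flp_c L129918) L138619
theorem L138623 : sm ge N11913 = N11521 := ded_12_2 L135233 (flp_e L129911) L138619
theorem L138625 : sm gf N11913 = N11119 := ded_13_2 L131802 (flp_f L129913) L138619
theorem L138627 : sm gg N11913 = N10925 := ded_14_2 (flp_a L129937) (flp_g L129915) L138619
theorem L138629 : sm gh N11913 = N11913 := ded_15_2 (flp_a L138619) L129917 L138619
theorem L138630 : sm gi N10922 = N11914 := rfl
theorem L138632 : sm gb N11914 = N10923 := ded_23_1 (flp_i L129920) L129909 L138630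
theorem L138634 : sm gc N11914 = N10931 := ded_29_1 (flp_i L129992) (flp_c L129918) L138630
theorem L138636 : sm ge N11914 = N11230 := ded_38_1 L132767 (flp_e L129911) L138630
theorem L138638 : sm gf N11914 = N11133 := ded_41_1 (flp_i L131932) (flp_f L129913) L138630
theorem L138640 : sm gg N11914 = N10926 := ded_43_1 (flp_i L129944) (flp_g L129915) L138630
theorem L138642 : sm gh N10923 = N11915 := rfl
theorem L138644 : sm gc N11915 = N10924 := ded_28_1 (flp_h L129928) (flp_c L129922) L138642
theorem L138646 : sm ge N11915 = N11029 := ded_37_1 L130834 (flp_e L129924) L138642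
theorem L138648 : sm gf N11915 = N11736 := ded_40_1 L138581 L138577 L138642
theorem L138650 : sm gg N11915 = N10927 := ded_42_1 (flp_h L129952) (flp_g L129926) L138642
theorem L138652 : sm gi N11915 = N11915 := ded_44_2 (flp_h L138642) (flp_i L129920) L122455 L129920 L138642
theorem L138653 : sm gi N10925 = N11916 := rfl
theorem L138655 : sm ga N11916 = N10926 := ded_16_1 (flp_i L129944) L129937 L138653
theorem L138657 : sm gc N11916 = N10933 := ded_29_1 (flp_i L130015) (flp_c L129939) L138653
theorem L138659 : sm gf N11916 = N11233 := ded_41_1 (flp_i L132785) (flp_f L129941) L138653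
theorem L138661 : sm gh N10926 = N11917 := rfl
theorem L138663 : sm gb N11917 = N10927 := ded_22_1 (flp_h L129952) (flp_b L129946) L138661
theorem L138665 : sm gc N11917 = N10934 := ded_28_1 (flp_h L130023) (flp_c L129948) L138661
theorem L138667 : sm gf N11917 = N11234 := ded_40_1 (flp_h L132794) (flp_f L129950) L138661
theorem L138669 : sm gi N11917 = N11917 := ded_44_2 (flp_h L138661) (flp_i L129944) L122468 L129944 L138661
theorem L138670 : sm gd N10927 = N11918 := rfl
theorem L138672 : sm gf N11918 = N11235 := ded_31_2 (flp_d L132804) (flp_f L129956) L138670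
theorem L138674 : sm gi N11918 = N11918 := ded_34_2 (flp_d L138670) L129958 L138670
theorem L138675 : sm gc N11918 = N11686 := ded_24_1 (flp_d L136582) L128380 (flp_d L122483) (flp_c L129954) L138670
theorem L138677 : sm gh N10928 = N11919 := rfl
theorem L138679 : sm ga N11919 = N11813 := ded_15_1 (flp_h L137616) (flp_a L129961) L138677
theorem L138681 : sm gb N11919 = N11735 := ded_22_1 L138596 L138585 L138677
theorem L138683 : sm gc N11919 = N11091 := ded_28_1 (flp_h L131493) (flp_c L129963) L138677
theorem L138685 : sm ge N11919 = N10929 := ded_37_1 (flp_h L129970) (flp_e L129966) L138677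
theorem L138687 : sm gf N11919 = N11737 := ded_40_1 L137578 L137575 L138677
theorem L138689 : sm gg N11919 = N11094 := ded_42_1 (flp_h L131520) (flp_g L129968) L138677
theorem L138691 : sm gi N11919 = N11919 := ded_44_2 (flp_h L138677) (flp_i L129959) L122494 L129959 L138677
theorem L138692 : sm gd N11776 = N11919 := ded_18_0 L138681 L136920 L137206
theorem L138694 : sm gi N10930 = N11920 := rfl
theorem L138696 : sm ga N11920 = N10931 := ded_16_1 (flp_i L129992) L129981 L138694
theorem L138698 : sm gb N11920 = N11869 := ded_23_1 (flp_i L138135) (flp_b L129990) L138694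
theorem L138700 : sm gd N11920 = N11034 := ded_34_1 (flp_i L130878) (flp_d L129983) L138694
theorem L138702 : sm gf N11920 = N11120 := ded_41_1 (flp_i L131807) (flp_f L129985) L138694
theorem L138704 : sm gg N11920 = N10933 := ded_43_1 (flp_i L130015) (flp_g L129987) L138694
theorem L138706 : sm gh N10931 = N11921 := rfl
theorem L138708 : sm gb N11921 = N10932 := ded_22_1 (flp_h L130002) (flp_b L129994) L138706
theorem L138710 : sm gf N11921 = N11134 := ded_40_1 (flp_h L131938) (flp_f L129998) L138706
theorem L138712 : sm gg N11921 = N10934 := ded_42_1 (flp_h L130023) (flp_g L130000) L138706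
theorem L138714 : sm gd N11921 = N11139 := ded_33_1 (flp_h L131979) L124213 (flp_h L123157) (flp_d L129996) L138706
theorem L138716 : sm gi N11921 = N11921 := ded_44_2 (flp_h L138706) (flp_i L129992) L122514 L129992 L138706
theorem L138717 : sm gh N10933 = N11922 := rfl
theorem L138719 : sm ga N11922 = N10934 := ded_15_1 (flp_h L130023) (flp_a L130017) L138717
theorem L138721 : sm gf N11922 = N11236 := ded_40_1 (flp_h L132807) (flp_f L130021) L138717
theorem L138723 : sm gi N11922 = N11922 := ded_44_2 (flp_h L138717) (flp_i L130015) L122540 L130015 L138717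
theorem L138724 : sm gf N10935 = N11923 := rfl
theorem L138726 : sm gb N11923 = N11035 := ded_20_1 (flp_f L130891) (flp_b L130032) L138724
theorem L138728 : sm gc N11923 = N10937 := ded_26_1 (flp_f L130048) (flp_c L130034) L138724
theorem L138730 : sm gi N11923 = N11048 := ded_41_2 L131018 (flp_i L130037) L138724
theorem L138732 : sm gg N11923 = N11285 := ded_39_2 (flp_f L133224) (flp_g L125208) (flp_f L122559) L130030 L138724
theorem L138734 : sm gh N10935 = N11924 := rfl
theorem L138736 : sm gb N11924 = N11036 := ded_22_1 (flp_h L130900) (flp_b L130032) L138734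
theorem L138738 : sm gc N11924 = N10938 := ded_28_1 (flp_h L130058) (flp_c L130034) L138734
theorem L138740 : sm ge N11924 = N11924 := ded_37_1 (flp_h L138734) L130036 L138734
theorem L138741 : sm gg N11924 = N10936 := ded_42_1 (flp_h L130039) L130030 L138734
theorem L138743 : sm gd N10936 = N11925 := rfl
theorem L138745 : sm gb N11925 = N11037 := ded_18_1 (flp_d L130908) (flp_b L130041) L138743
theorem L138747 : sm gf N11925 = N11287 := ded_31_2 (flp_d L133242) (flp_f L130046) L138743
theorem L138749 : sm gi N10936 = N11926 := rfl
theorem L138751 : sm gb N11926 = N11038 := ded_23_1 (flp_i L130913) (flp_b L130041) L138749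
theorem L138753 : sm gc N11926 = N10940 := ded_29_1 (flp_i L130073) (flp_c L130043) L138749
theorem L138755 : sm ge N11926 = N11926 := ded_38_1 (flp_i L138749) L130045 L138749
theorem L138756 : sm gf N11926 = N11288 := ded_41_1 (flp_i L133246) (flp_f L130046) L138749
theorem L138758 : sm gh N11926 = N11688 := ded_44_1 (flp_i L136591) (flp_h L128384) (flp_i L122561) L130039 L138749
theorem L138760 : sm ge N10937 = N11927 := rfl
theorem L138762 : sm ga N11927 = N11536 := ded_12_1 L137669 L137659 L138760
theorem L138764 : sm gb N11927 = N10962 := ded_19_1 (flp_e L130234) (flp_b L130050) L138760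
theorem L138766 : sm gg N11927 = N11289 := ded_36_2 (flp_e L133254) (flp_g L130056) L138760
theorem L138768 : sm gi N11927 = N11064 := ded_38_2 (flp_e L131184) (flp_i L130054) L138760
theorem L138770 : sm gd N11927 = N11927 := ded_30_1 (flp_e L138760) L130052 L122587 (flp_d L130052) L138760
theorem L138771 : sm gf N11927 = N11927 := ded_35_2 (flp_e L138760) (flp_f L130048) L122571 L130048 L138760
theorem L138772 : sm gh N10937 = N11928 := rfl
theorem L138774 : sm gb N11928 = N10963 := ded_22_1 (flp_h L130246) (flp_b L130050) L138772
theorem L138776 : sm gf N11928 = N10938 := ded_40_1 (flp_h L130058) L130048 L138772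
theorem L138778 : sm gg N11928 = N11290 := ded_42_1 (flp_h L133265) (flp_g L130056) L138772
theorem L138780 : sm gd N10938 = N11929 := rfl
theorem L138782 : sm gb N11929 = N10964 := ded_18_1 (flp_d L130256) (flp_b L130060) L138780
theorem L138784 : sm gg N11929 = N10939 := ded_32_2 (flp_d L130065) (flp_g L130063) L138780
theorem L138786 : sm gh N11929 = N10942 := ded_33_2 (flp_d L130091) (flp_h L122590) (flp_d L122569) L130058 L138780
theorem L138788 : sm gi N10938 = N11930 := rfl
theorem L138790 : sm gb N11930 = N10965 := ded_23_1 (flp_i L130264) (flp_b L130060) L138788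
theorem L138792 : sm ge N11930 = N11930 := ded_38_1 (flp_i L138788) L130062 L138788
theorem L138793 : sm gg N11930 = N10940 := ded_43_1 (flp_i L130073) (flp_g L130063) L138788
theorem L138795 : sm gh N11930 = N11407 := ded_44_1 (flp_i L134212) L126045 (flp_i L122572) L130058 L138788
theorem L138797 : sm gc N10939 = N11931 := rfl
theorem L138799 : sm gf N11931 = N11293 := ded_26_2 (flp_c L133287) (flp_f L130069) L138797
theorem L138801 : sm gh N11931 = N10944 := ded_28_2 (flp_c L130107) (flp_h L130071) L138797
theorem L138803 : sm ge N10939 = N11932 := rfl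
theorem L138805 : sm gb N11932 = N10967 := ded_19_1 (flp_e L130285) (flp_b L130067) L138803
theorem L138807 : sm gh N11932 = N10945 := ded_37_2 (flp_e L130111) (flp_h L130071) L138803
theorem L138809 : sm gd N11932 = N11932 := ded_30_1 (flp_e L138803) (flp_d L130065) L122578 L130065 L138803
theorem L138810 : sm gi N10939 = N11933 := rfl
theorem L138812 : sm gb N11933 = N10968 := ded_23_1 (flp_i L130292) (flp_b L130067) L138810
theorem L138814 : sm gd N11933 = N10940 := ded_34_1 (flp_i L130073) L130065 L138810
theorem L138816 : sm gf N11933 = N11295 := ded_41_1 (flp_i L133299) (flp_f L130069) L138810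
theorem L138818 : sm gd N10941 = N11934 := rfl
theorem L138820 : sm gb N11934 = N10969 := ded_18_1 (flp_d L130300) (flp_b L130084) L138818
theorem L138822 : sm gf N11934 = N10942 := ded_31_2 (flp_d L130091) (flp_f L130087) L138818
theorem L138824 : sm gg N11934 = N11263 := ded_32_2 L133051 (flp_g L130089) L138818
theorem L138826 : sm gi N10941 = N11935 := rfl
theorem L138828 : sm gb N11935 = N10970 := ded_23_1 (flp_i L130310) (flp_b L130084) L138826
theorem L138830 : sm ge N11935 = N11935 := ded_38_1 (flp_i L138826) L130086 L138826
theorem L138831 : sm gf N11935 = N10943 := ded_41_1 (flp_i L130097) (flp_f L130087) L138826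
theorem L138833 : sm gg N11935 = N11273 := ded_43_1 (flp_i L133135) (flp_g L130089) L138826
theorem L138835 : sm gh N11935 = N10992 := ded_44_1 (flp_i L130509) L122892 (flp_i L122585) L130082 L138826
theorem L138837 : sm gc N10942 = N11936 := rfl
theorem L138839 : sm gg N11936 = N10944 := ded_27_2 (flp_c L130107) (flp_g L130095) L138837
theorem L138841 : sm ge N10942 = N11937 := rfl
theorem L138843 : sm gb N11937 = N10972 := ded_19_1 (flp_e L130333) (flp_b L130093) L138841
theorem L138845 : sm gg N11937 = N10945 := ded_36_2 (flp_e L130111) (flp_g L130095) L138841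
theorem L138847 : sm gd N11937 = N10948 := ded_30_1 (flp_e L130132) (flp_d L122614) (flp_e L122594) L130091 L138841
theorem L138849 : sm gi N10942 = N11938 := rfl
theorem L138851 : sm gb N11938 = N10973 := ded_23_1 (flp_i L130341) (flp_b L130093) L138849
theorem L138853 : sm gd N11938 = N10943 := ded_34_1 (flp_i L130097) L130091 L138849
theorem L138855 : sm gg N11938 = N10946 := ded_43_1 (flp_i L130117) (flp_g L130095) L138849
theorem L138857 : sm gb N10944 = N11939 := rfl
theorem L138859 : sm gf N11939 = N11299 := ded_20_2 (flp_b L133327) (flp_f L130109) L138857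
theorem L138861 : sm gc N11939 = N10974 := ded_17_2 (flp_b L130349) (flp_c L122756) (flp_b L122600) L130107 L138857
theorem L138863 : sm ge N10944 = N11940 := rfl
theorem L138865 : sm gc N11940 = N10945 := ded_25_1 (flp_e L130111) L130107 L138863
theorem L138867 : sm gi N10944 = N11941 := rfl
theorem L138869 : sm gc N11941 = N10946 := ded_29_1 (flp_i L130117) L130107 L138867
theorem L138871 : sm gf N11941 = N11301 := ded_41_1 (flp_i L133339) (flp_f L130109) L138867
theorem L138873 : sm gf N10945 = N11942 := rfl
theorem L138875 : sm gb N11942 = N10977 := ded_20_1 (flp_f L130372) (flp_b L130113) L138873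
theorem L138877 : sm gd N11942 = N10952 := ded_31_1 (flp_f L130161) (flp_d L130115) L138873
theorem L138879 : sm ge N11942 = N11302 := ded_35_1 (flp_f L133343) (flp_e L125266) (flp_f L122602) L130111 L138873
theorem L138881 : sm gi N10945 = N11943 := rfl
theorem L138883 : sm gb N11943 = N10978 := ded_23_1 (flp_i L130380) (flp_b L130113) L138881
theorem L138885 : sm gd N11943 = N10953 := ded_34_1 (flp_i L130168) (flp_d L130115) L138881
theorem L138887 : sm ge N11943 = N10946 := ded_38_1 (flp_i L130117) L130111 L138881
theorem L138889 : sm gh N10946 = N11944 := rfl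
theorem L138891 : sm gb N11944 = N10979 := ded_22_1 (flp_h L130388) (flp_b L130119) L138889
theorem L138893 : sm gf N11944 = N11304 := ded_40_1 (flp_h L133357) (flp_f L130123) L138889
theorem L138895 : sm gd N11944 = N11696 := ded_33_1 (flp_h L136639) L128416 (flp_h L122612) (flp_d L130121) L138889
theorem L138897 : sm ge N10947 = N11945 := rfl
theorem L138899 : sm gb N11945 = N11945 := ded_19_1 (flp_e L138897) L130131 L138897
theorem L138900 : sm gc N11945 = N10948 := ded_25_1 (flp_e L130132) L130125 L138897
theorem L138902 : sm gg N11945 = N10950 := ded_36_2 (flp_e L130148) (flp_g L130128) L138897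
theorem L138904 : sm gh N11945 = N11945 := ded_37_2 (flp_e L138897) L130130 L138897
theorem L138905 : sm gi N10947 = N11946 := rfl
theorem L138907 : sm gb N11946 = N11946 := ded_23_1 (flp_i L138905) L130131 L138905
theorem L138908 : sm gc N11946 = N10949 := ded_29_1 (flp_i L130139) L130125 L138905
theorem L138910 : sm gf N11946 = N11946 := ded_41_1 (flp_i L138905) L130127 L138905
theorem L138911 : sm gg N11946 = N10951 := ded_43_1 (flp_i L130154) (flp_g L130128) L138905
theorem L138913 : sm gf N10948 = N11947 := rfl
theorem L138915 : sm ga N11947 = N11635 := ded_13_1 L137765 L137758 L138913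
theorem L138917 : sm gb N11947 = N10980 := ded_20_1 (flp_f L130396) (flp_b L130134) L138913
theorem L138919 : sm gh N11947 = N11947 := ded_40_2 (flp_f L138913) L130138 L138913
theorem L138920 : sm ge N11947 = N11947 := ded_35_1 (flp_f L138913) (flp_e L130132) L122618 L130132 L138913
theorem L138921 : sm gi N10948 = N11948 := rfl
theorem L138923 : sm gb N11948 = N10981 := ded_23_1 (flp_i L130403) (flp_b L130134) L138921
theorem L138925 : sm ge N11948 = N10949 := ded_38_1 (flp_i L130139) L130132 L138921
theorem L138927 : sm gg N11948 = N10953 := ded_43_1 (flp_i L130168) (flp_g L130136) L138921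
theorem L138929 : sm gh N10949 = N11949 := rfl
theorem L138931 : sm gb N11949 = N10982 := ded_22_1 (flp_h L130412) (flp_b L130141) L138929
theorem L138933 : sm gf N11949 = N11949 := ded_40_1 (flp_h L138929) L130145 L138929
theorem L138934 : sm gg N11949 = N10954 := ded_42_1 (flp_h L130174) (flp_g L130146) L138929
theorem L138936 : sm gd N11949 = N11453 := ded_33_1 (flp_h L134599) L126344 (flp_h L122629) (flp_d L130143) L138929
theorem L138938 : sm gi N11949 = N11949 := ded_44_2 (flp_h L138929) (flp_i L130139) L122621 L130139 L138929
theorem L138939 : sm gd N10950 = N11950 := rfl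
theorem L138941 : sm gb N11950 = N11950 := ded_18_1 (flp_d L138939) L130150 L138939
theorem L138942 : sm gf N10950 = N11951 := rfl
theorem L138944 : sm gb N11951 = N11951 := ded_20_1 (flp_f L138942) L130150 L138942
theorem L138945 : sm gc N11951 = N10952 := ded_26_1 (flp_f L130161) (flp_c L130151) L138942
theorem L138947 : sm gh N11951 = N11951 := ded_40_2 (flp_f L138942) L130153 L138942
theorem L138948 : sm ge N11951 = N10956 := ded_35_1 (flp_f L130189) (flp_e L122650) (flp_f L122633) L130148 L138942
theorem L138950 : sm gi N10950 = N11952 := rfl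
theorem L138952 : sm gb N11952 = N11952 := ded_23_1 (flp_i L138950) L130150 L138950
theorem L138953 : sm gc N11952 = N10953 := ded_29_1 (flp_i L130168) (flp_c L130151) L138950
theorem L138955 : sm ge N11952 = N10951 := ded_38_1 (flp_i L130154) L130148 L138950
theorem L138957 : sm gh N10951 = N11953 := rfl
theorem L138959 : sm gb N11953 = N11953 := ded_22_1 (flp_h L138957) L130156 L138957
theorem L138960 : sm gc N11953 = N10954 := ded_28_1 (flp_h L130174) (flp_c L130157) L138957
theorem L138962 : sm gf N11953 = N10958 := ded_40_1 (flp_h L130203) (flp_f L130159) L138957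
theorem L138964 : sm gi N11953 = N11953 := ded_44_2 (flp_h L138957) (flp_i L130154) L122635 L130154 L138957
theorem L138965 : sm gg N10952 = N11954 := rfl
theorem L138967 : sm gb N11954 = N10983 := ded_21_1 (flp_g L130423) (flp_b L130163) L138965
theorem L138969 : sm ge N11954 = N10959 := ded_36_1 (flp_g L130210) (flp_e L130166) L138965
theorem L138971 : sm gh N11954 = N11954 := ded_42_2 (flp_g L138965) L130165 L138965
theorem L138972 : sm gi N10952 = N11955 := rfl
theorem L138974 : sm gb N11955 = N10984 := ded_23_1 (flp_i L130431) (flp_b L130163) L138972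
theorem L138976 : sm ge N11955 = N10960 := ded_38_1 (flp_i L130218) (flp_e L130166) L138972
theorem L138978 : sm gf N11955 = N10953 := ded_41_1 (flp_i L130168) L130161 L138972
theorem L138980 : sm gh N10953 = N11956 := rfl
theorem L138982 : sm gb N11956 = N10985 := ded_22_1 (flp_h L130440) (flp_b L130170) L138980
theorem L138984 : sm ge N11956 = N10954 := ded_37_1 (flp_h L130174) (flp_e L130172) L138980
theorem L138986 : sm gi N11956 = N11956 := ded_44_2 (flp_h L138980) (flp_i L130168) L122641 L130168 L138980
theorem L138987 : sm gf N10955 = N11957 := rfl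
theorem L138989 : sm gb N11957 = N11957 := ded_20_1 (flp_f L138987) L130185 L138987
theorem L138990 : sm gc N11957 = N11317 := ded_26_1 (flp_f L133464) (flp_c L130187) L138987
theorem L138992 : sm gd N11957 = N10956 := ded_31_1 (flp_f L130189) L130183 L138987
theorem L138994 : sm gh N10955 = N11958 := rfl
theorem L138996 : sm gb N11958 = N11958 := ded_22_1 (flp_h L138994) L130185 L138994
theorem L138997 : sm gc N11958 = N11318 := ded_28_1 (flp_h L133470) (flp_c L130187) L138994
theorem L138999 : sm gg N11958 = N11958 := ded_42_1 (flp_h L138994) L130186 L138994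
theorem L139000 : sm gd N11958 = N11958 := ded_33_1 (flp_h L138994) (flp_d L130183) L122656 L130183 L138994
theorem L139001 : sm gi N10955 = N11959 := rfl
theorem L139003 : sm gb N11959 = N11959 := ded_23_1 (flp_i L139001) L130185 L139001
theorem L139004 : sm gc N11959 = N11319 := ded_29_1 (flp_i L133477) (flp_c L130187) L139001
theorem L139006 : sm gd N11959 = N10957 := ded_34_1 (flp_i L130195) L130183 L139001
theorem L139008 : sm gg N11959 = N11959 := ded_43_1 (flp_i L139001) L130186 L139001
theorem L139009 : sm gg N10956 = N11960 := rfl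
theorem L139011 : sm gb N11960 = N11960 := ded_21_1 (flp_g L139009) L130191 L139009
theorem L139012 : sm gc N11960 = N10959 := ded_27_1 (flp_g L130210) (flp_c L130192) L139009
theorem L139014 : sm gh N11960 = N11960 := ded_42_2 (flp_g L139009) L130194 L139009
theorem L139015 : sm gf N11960 = N11960 := ded_39_1 (flp_g L139009) (flp_f L130189) L122655 L130189 L139009
theorem L139016 : sm gi N10956 = N11961 := rfl
theorem L139018 : sm gb N11961 = N11961 := ded_23_1 (flp_i L139016) L130191 L139016
theorem L139019 : sm gc N11961 = N10960 := ded_29_1 (flp_i L130218) (flp_c L130192) L139016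
theorem L139021 : sm gf N11961 = N10957 := ded_41_1 (flp_i L130195) L130189 L139016
theorem L139023 : sm gh N10957 = N11962 := rfl
theorem L139025 : sm gb N11962 = N11962 := ded_22_1 (flp_h L139023) L130197 L139023
theorem L139026 : sm gc N11962 = N10961 := ded_28_1 (flp_h L130226) (flp_c L130198) L139023
theorem L139028 : sm ge N11962 = N10958 := ded_37_1 (flp_h L130203) (flp_e L130200) L139023
theorem L139030 : sm gg N11962 = N11962 := ded_42_1 (flp_h L139023) L130202 L139023
theorem L139031 : sm gi N11962 = N11962 := ded_44_2 (flp_h L139023) (flp_i L130195) L122656 L130195 L139023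
theorem L139032 : sm gd N10958 = N11963 := rfl
theorem L139034 : sm gb N11963 = N11963 := ded_18_1 (flp_d L139032) L130205 L139032
theorem L139035 : sm gg N11963 = N11963 := ded_32_2 (flp_d L139032) L130208 L139032
theorem L139036 : sm gi N11963 = N11963 := ded_34_2 (flp_d L139032) L130209 L139032
theorem L139037 : sm gc N11963 = N11710 := ded_24_1 (flp_d L136746) L128482 (flp_d L122684) (flp_c L130206) L139032
theorem L139039 : sm gi N10959 = N11964 := rfl
theorem L139041 : sm gb N11964 = N10986 := ded_23_1 (flp_i L130448) (flp_b L130212) L139039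
theorem L139043 : sm gd N11964 = N11324 := ded_34_1 (flp_i L133519) (flp_d L130214) L139039
theorem L139045 : sm gf N11964 = N11964 := ded_41_1 (flp_i L139039) L130217 L139039
theorem L139046 : sm gg N11964 = N10960 := ded_43_1 (flp_i L130218) L130210 L139039
theorem L139048 : sm gh N10960 = N11965 := rfl
theorem L139050 : sm gb N11965 = N10987 := ded_22_1 (flp_h L130458) (flp_b L130220) L139048
theorem L139052 : sm gf N11965 = N10961 := ded_40_1 (flp_h L130226) (flp_f L130224) L139048
theorem L139054 : sm gi N11965 = N11965 := ded_44_2 (flp_h L139048) (flp_i L130218) L122669 L130218 L139048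
theorem L139055 : sm gd N10961 = N11966 := rfl
theorem L139057 : sm gb N11966 = N10988 := ded_18_1 (flp_d L130466) (flp_b L130228) L139055
theorem L139059 : sm gg N11966 = N11966 := ded_32_2 (flp_d L139055) L130232 L139055
theorem L139060 : sm gi N11966 = N11966 := ded_34_2 (flp_d L139055) L130233 L139055
theorem L139061 : sm ge N11966 = N11713 := ded_30_2 (flp_d L136768) L128502 (flp_d L122684) (flp_e L130230) L139055
theorem L139063 : sm gh N11966 = N11326 := ded_33_2 (flp_d L133534) (flp_h L125386) (flp_d L122674) L130226 L139055
theorem L139065 : sm gh N10962 = N11967 := rfl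
theorem L139067 : sm ga N11967 = N10993 := ded_15_1 (flp_h L130516) (flp_a L130236) L139065
theorem L139069 : sm gc N11967 = N11053 := ded_28_1 (flp_h L131063) (flp_c L130238) L139065
theorem L139071 : sm ge N11967 = N10963 := ded_37_1 (flp_h L130246) L130234 L139065
theorem L139073 : sm gf N11967 = N11967 := ded_40_1 (flp_h L139065) L130245 L139065
theorem L139074 : sm gg N11967 = N11327 := ded_42_1 (flp_h L133541) (flp_g L130240) L139065
theorem L139076 : sm gd N11081 = N11967 := ded_11_0 L139067 (flp_d L130527) (flp_a L131393)
theorem L139078 : sm gd N10963 = N11968 := rfl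
theorem L139080 : sm ga N11968 = N10994 := ded_11_1 (flp_d L130529) (flp_a L130248) L139078
theorem L139082 : sm gf N11968 = N10964 := ded_31_2 (flp_d L130256) (flp_f L130252) L139078
theorem L139084 : sm gg N11968 = N11260 := ded_32_2 L133031 (flp_g L130254) L139078
theorem L139086 : sm gc N11968 = N11114 := ded_24_1 L131759 L123966 (flp_d L123320) (flp_c L130250) L139078
theorem L139088 : sm ge N11968 = N11113 := ded_30_2 L131749 (flp_e L131395) L139076 L139071 L139078
theorem L139090 : sm gh N11968 = N10969 := ded_33_2 (flp_d L130300) (flp_h L122727) (flp_d L122693) L130246 L139078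
theorem L139092 : sm gi N10963 = N11969 := rfl
theorem L139094 : sm ga N11969 = N10995 := ded_16_1 (flp_i L130541) (flp_a L130248) L139092
theorem L139096 : sm gc N11969 = N11054 := ded_29_1 (flp_i L131074) (flp_c L130250) L139092
theorem L139098 : sm gf N11969 = N10965 := ded_41_1 (flp_i L130264) (flp_f L130252) L139092
theorem L139100 : sm gg N11969 = N11328 := ded_43_1 (flp_i L133551) (flp_g L130254) L139092
theorem L139102 : sm gh N11969 = N11060 := ded_44_1 (flp_i L131142) L123347 (flp_i L122695) L130246 L139092
theorem L139104 : sm gc N10964 = N11970 := rfl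
theorem L139106 : sm ga N11970 = N10996 := ded_10_1 (flp_c L130551) (flp_a L130258) L139104
theorem L139108 : sm gf N11970 = N11114 := ded_26_2 (flp_c L139086) L139082 L139104
theorem L139110 : sm gg N11970 = N10966 := ded_27_2 (flp_c L130275) (flp_g L130260) L139104
theorem L139112 : sm gh N11970 = N10971 := ded_28_2 (flp_c L130323) (flp_h L130262) L139104
theorem L139114 : sm gd N11970 = N11055 := ded_24_2 (flp_c L131086) (flp_d L123322) (flp_c L122703) L130256 L139104
theorem L139116 : sm ge N11662 = N11970 := ded_12_0 L139106 (flp_e L130563) (flp_a L136416)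
theorem L139118 : sm ge N10964 = N11971 := rfl
theorem L139120 : sm ga N11971 = N10997 := ded_12_1 (flp_e L130565) (flp_a L130258) L139118
theorem L139122 : sm gc N11971 = N11662 := ded_25_1 L139116 (flp_c L139104) L139118
theorem L139124 : sm gg N11971 = N10967 := ded_36_2 (flp_e L130285) (flp_g L130260) L139118
theorem L139126 : sm gh N11971 = N10972 := ded_37_2 (flp_e L130333) (flp_h L130262) L139118
theorem L139128 : sm gd N11971 = N11971 := ded_30_1 (flp_e L139118) (flp_d L130256) L122705 L130256 L139118
theorem L139129 : sm gf N11971 = N11660 := ded_35_2 (flp_e L136399) (flp_f L131747) (flp_e L139088) L139082 L139118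
theorem L139131 : sm gi N10964 = N11972 := rfl
theorem L139133 : sm ga N11972 = N10998 := ded_16_1 (flp_i L130576) (flp_a L130258) L139131
theorem L139135 : sm gd N11972 = N10965 := ded_34_1 (flp_i L130264) L130256 L139131
theorem L139137 : sm gg N11972 = N10968 := ded_43_1 (flp_i L130292) (flp_g L130260) L139131
theorem L139139 : sm gb N10966 = N11973 := rfl
theorem L139141 : sm gd N11973 = N11058 := ded_18_2 (flp_b L131123) (flp_d L130283) L139139
theorem L139143 : sm gf N11973 = N11331 := ded_20_2 (flp_b L133581) (flp_f L130279) L139139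
theorem L139145 : sm gh N11973 = N10974 := ded_22_2 (flp_b L130349) (flp_h L130281) L139139
theorem L139147 : sm ge N10966 = N11974 := rfl
theorem L139149 : sm ga N11974 = N11000 := ded_12_1 (flp_e L130594) (flp_a L130277) L139147
theorem L139151 : sm gc N11974 = N10967 := ded_25_1 (flp_e L130285) L130275 L139147
theorem L139153 : sm gg N11974 = N11662 := ded_36_2 L139116 L139110 L139147
theorem L139155 : sm gh N11974 = N10975 := ded_37_2 (flp_e L130355) (flp_h L130281) L139147
theorem L139157 : sm gd N11974 = N11665 := ded_30_1 L136437 L131140 (flp_e L131129) (flp_d L130283) L139147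
theorem L139159 : sm gi N10966 = N11975 := rfl
theorem L139161 : sm ga N11975 = N11001 := ded_16_1 (flp_i L130606) (flp_a L130277) L139159
theorem L139163 : sm gc N11975 = N10968 := ded_29_1 (flp_i L130292) L130275 L139159
theorem L139165 : sm gd N11975 = N11060 := ded_34_1 (flp_i L131142) (flp_d L130283) L139159
theorem L139167 : sm gf N11975 = N11333 := ded_41_1 (flp_i L133600) (flp_f L130279) L139159
theorem L139169 : sm gf N10967 = N11976 := rfl
theorem L139171 : sm ga N11976 = N11002 := ded_13_1 (flp_f L130614) (flp_a L130287) L139169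
theorem L139173 : sm gd N11976 = N11976 := ded_31_1 (flp_f L139169) L130291 L139169
theorem L139174 : sm gh N11976 = N10977 := ded_40_2 (flp_f L130372) (flp_h L130289) L139169
theorem L139176 : sm ge N11976 = N11334 := ded_35_1 (flp_f L133610) (flp_e L125444) (flp_f L122712) L130285 L139169
theorem L139178 : sm gi N10967 = N11977 := rfl
theorem L139180 : sm ga N11977 = N11003 := ded_16_1 (flp_i L130621) (flp_a L130287) L139178
theorem L139182 : sm gd N11977 = N11977 := ded_34_1 (flp_i L139178) L130291 L139178
theorem L139183 : sm ge N11977 = N10968 := ded_38_1 (flp_i L130292) L130285 L139178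
theorem L139185 : sm gh N10968 = N11978 := rfl
theorem L139187 : sm ga N11978 = N11004 := ded_15_1 (flp_h L130626) (flp_a L130294) L139185
theorem L139189 : sm gf N11978 = N11336 := ded_40_1 (flp_h L133626) (flp_f L130298) L139185
theorem L139191 : sm gd N11978 = N11716 := ded_33_1 (flp_h L136788) L128517 (flp_h L122725) (flp_d L130296) L139185
theorem L139193 : sm gi N11978 = N10979 := ded_44_2 (flp_h L130388) (flp_i L122770) (flp_h L122714) L130292 L139185
theorem L139195 : sm ge N10969 = N11979 := rfl
theorem L139197 : sm ga N11979 = N11005 := ded_12_1 (flp_e L130634) (flp_a L130302) L139195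
theorem L139199 : sm gc N11979 = N11109 := ded_25_1 L131704 (flp_c L130308) L139195
theorem L139201 : sm gg N11979 = N11264 := ded_36_2 (flp_e L133055) (flp_g L130306) L139195
theorem L139203 : sm gh N11979 = N11113 := ded_37_2 (flp_e L139088) L139090 L139195
theorem L139205 : sm gd N11979 = N11979 := ded_30_1 (flp_e L139195) (flp_d L130300) L122733 L130300 L139195
theorem L139206 : sm gf N11656 = N11979 := ded_46_1 (flp_e L139195) (flp_d L130300) L122731 L104620 L65210 L47856 L109086 L26531 L19491 L14320 L11314 L8341 L8346 L8349 L8344 (flp_d L8482) L8481 (flp_b L11516) (flp_a L15616) L21294 L21299 (flp_e L23498) (flp_d L119984) L27867 L27866 L27864 L20495 (flp_f L20490) (flp_e L15059) L11090 (flp_c L10406) (flp_b L10398) L7667 L7532 L5609 L7553 L10236 L10241 (flp_b L10272) (flp_a L13890) L18885 (flp_f L25678) (flp_e L34991) L47716 L65227 L122887 L130500 L130505 L123423 L69411 L51554 (flp_c L102810) L48858 L35852 L35933 L35939 (flp_e L49015) L67052 L124637 L124641 (flp_a L128201) (flp_h L136379)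
theorem L139208 : sm gi N10969 = N11980 := rfl
theorem L139210 : sm ga N11980 = N11006 := ded_16_1 (flp_i L130645) (flp_a L130302) L139208
theorem L139212 : sm gc N11980 = N11262 := ded_29_1 (flp_i L133041) (flp_c L130308) L139208
theorem L139214 : sm gd N11980 = N10970 := ded_34_1 (flp_i L130310) L130300 L139208
theorem L139216 : sm gf N11980 = N10973 := ded_41_1 (flp_i L130341) (flp_f L130304) L139208
theorem L139218 : sm gg N11980 = N11265 := ded_43_1 (flp_i L133062) (flp_g L130306) L139208
theorem L139220 : sm gb N10971 = N11981 := rfl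
theorem L139222 : sm gd N11981 = N10989 := ded_18_2 (flp_b L130476) (flp_d L130331) L139220
theorem L139224 : sm gf N11981 = N11241 := ded_20_2 L132861 (flp_f L130327) L139220
theorem L139226 : sm gg N11981 = N10974 := ded_21_2 (flp_b L130349) (flp_g L130329) L139220
theorem L139228 : sm ge N10971 = N11982 := rfl
theorem L139230 : sm ga N11982 = N11008 := ded_12_1 (flp_e L130667) (flp_a L130325) L139228
theorem L139232 : sm gc N11982 = N10972 := ded_25_1 (flp_e L130333) L130323 L139228
theorem L139234 : sm gg N11982 = N10975 := ded_36_2 (flp_e L130355) (flp_g L130329) L139228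
theorem L139236 : sm gh N11982 = N11662 := ded_37_2 L139116 L139112 L139228
theorem L139238 : sm gd N11982 = N11982 := ded_30_1 (flp_e L139228) L130331 L122865 (flp_d L130331) L139228
theorem L139239 : sm gf N11982 = N11657 := ded_35_2 (flp_e L136382) (flp_f L131700) L131704 (flp_f L130327) L139228
theorem L139241 : sm gi N10971 = N11983 := rfl
theorem L139243 : sm ga N11983 = N11009 := ded_16_1 (flp_i L130680) (flp_a L130325) L139241
theorem L139245 : sm gc N11983 = N10973 := ded_29_1 (flp_i L130341) L130323 L139241
theorem L139247 : sm gd N11983 = N10990 := ded_34_1 (flp_i L130487) (flp_d L130331) L139241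
theorem L139249 : sm gf N11983 = N11262 := ded_41_1 (flp_i L133041) (flp_f L130327) L139241
theorem L139251 : sm gg N11983 = N10976 := ded_43_1 (flp_i L130362) (flp_g L130329) L139241
theorem L139253 : sm gf N10972 = N11984 := rfl
theorem L139255 : sm ga N11984 = N11010 := ded_13_1 (flp_f L130690) (flp_a L130335) L139253
theorem L139257 : sm gc N11984 = N11657 := ded_26_1 (flp_f L139239) L139232 L139253
theorem L139259 : sm gd N11984 = N10980 := ded_31_1 (flp_f L130396) (flp_d L130339) L139253
theorem L139261 : sm gh N11984 = N11660 := ded_40_2 (flp_f L139129) L139126 L139253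
theorem L139263 : sm ge N11984 = N11656 := ded_35_1 L139206 (flp_e L139195) L130304 L130333 L139253
theorem L139265 : sm gi N10972 = N11985 := rfl
theorem L139267 : sm ga N11985 = N11011 := ded_16_1 (flp_i L130702) (flp_a L130335) L139265
theorem L139269 : sm gd N11985 = N10981 := ded_34_1 (flp_i L130403) (flp_d L130339) L139265
theorem L139271 : sm ge N11985 = N10973 := ded_38_1 (flp_i L130341) L130333 L139265
theorem L139273 : sm gg N11985 = N10978 := ded_43_1 (flp_i L130380) (flp_g L130337) L139265
theorem L139275 : sm gh N10973 = N11986 := rfl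
theorem L139277 : sm ga N11986 = N11012 := ded_15_1 (flp_h L130710) (flp_a L130343) L139275
theorem L139279 : sm gg N11986 = N10979 := ded_42_1 (flp_h L130388) (flp_g L130347) L139275
theorem L139281 : sm gd N11986 = N11345 := ded_33_1 (flp_h L133704) L125500 (flp_h L122754) (flp_d L130345) L139275
theorem L139283 : sm ga N10974 = N11987 := rfl
theorem L139285 : sm gd N11987 = N10991 := ded_11_2 (flp_a L130500) (flp_d L130351) L139283
theorem L139287 : sm gf N11987 = N11340 := ded_13_2 (flp_a L133660) (flp_f L130353) L139283
theorem L139289 : sm gb N11987 = N11013 := ded_9_2 (flp_a L130716) (flp_b L122996) (flp_a L122758) L130349 L139283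
theorem L139291 : sm ge N10974 = N11988 := rfl
theorem L139293 : sm gb N11988 = N10975 := ded_19_1 (flp_e L130355) L130349 L139291
theorem L139295 : sm gd N11988 = N11988 := ded_30_1 (flp_e L139291) L130351 L122889 (flp_d L130351) L139291
theorem L139296 : sm gi N10974 = N11989 := rfl
theorem L139298 : sm gb N11989 = N10976 := ded_23_1 (flp_i L130362) L130349 L139296
theorem L139300 : sm gd N11989 = N10992 := ded_34_1 (flp_i L130509) (flp_d L130351) L139296
theorem L139302 : sm gf N11989 = N11342 := ded_41_1 (flp_i L133676) (flp_f L130353) L139296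
theorem L139304 : sm gf N10975 = N11990 := rfl
theorem L139306 : sm ga N11990 = N11016 := ded_13_1 (flp_f L130739) (flp_a L130357) L139304
theorem L139308 : sm gc N11990 = N10977 := ded_26_1 (flp_f L130372) (flp_c L130359) L139304
theorem L139310 : sm gd N11990 = N11990 := ded_31_1 (flp_f L139304) L130361 L139304
theorem L139311 : sm ge N11990 = N11343 := ded_35_1 (flp_f L133684) (flp_e L125484) (flp_f L122760) L130355 L139304
theorem L139313 : sm gi N10975 = N11991 := rfl
theorem L139315 : sm ga N11991 = N11017 := ded_16_1 (flp_i L130746) (flp_a L130357) L139313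
theorem L139317 : sm gc N11991 = N10978 := ded_29_1 (flp_i L130380) (flp_c L130359) L139313
theorem L139319 : sm gd N11991 = N11991 := ded_34_1 (flp_i L139313) L130361 L139313
theorem L139320 : sm ge N11991 = N10976 := ded_38_1 (flp_i L130362) L130355 L139313
theorem L139322 : sm gh N10976 = N11992 := rfl
theorem L139324 : sm ga N11992 = N11018 := ded_15_1 (flp_h L130753) (flp_a L130364) L139322
theorem L139326 : sm gc N11992 = N10979 := ded_28_1 (flp_h L130388) (flp_c L130366) L139322
theorem L139328 : sm gf N11992 = N11345 := ded_40_1 (flp_h L133704) (flp_f L130370) L139322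
theorem L139330 : sm gg N10977 = N11993 := rfl
theorem L139332 : sm ga N11993 = N11019 := ded_14_1 (flp_g L130759) (flp_a L130374) L139330
theorem L139334 : sm gd N11993 = N10983 := ded_32_1 (flp_g L130423) (flp_d L130376) L139330
theorem L139336 : sm ge N11993 = N11346 := ded_36_1 (flp_g L133712) (flp_e L130378) L139330
theorem L139338 : sm gi N10977 = N11994 := rfl
theorem L139340 : sm ga N11994 = N11020 := ded_16_1 (flp_i L130765) (flp_a L130374) L139338
theorem L139342 : sm gd N11994 = N10984 := ded_34_1 (flp_i L130431) (flp_d L130376) L139338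
theorem L139344 : sm ge N11994 = N11347 := ded_38_1 (flp_i L133718) (flp_e L130378) L139338
theorem L139346 : sm gf N11994 = N10978 := ded_41_1 (flp_i L130380) L130372 L139338
theorem L139348 : sm gh N10978 = N11995 := rfl
theorem L139350 : sm ga N11995 = N11021 := ded_15_1 (flp_h L130773) (flp_a L130382) L139348
theorem L139352 : sm ge N11995 = N10979 := ded_37_1 (flp_h L130388) (flp_e L130386) L139348
theorem L139354 : sm gg N10980 = N11996 := rfl
theorem L139356 : sm ga N11996 = N11022 := ded_14_1 (flp_g L130777) (flp_a L130398) L139354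
theorem L139358 : sm gc N11996 = N11996 := ded_27_1 (flp_g L139354) L130400 L139354
theorem L139359 : sm ge N11996 = N11996 := ded_36_1 (flp_g L139354) L130402 L139354
theorem L139360 : sm gh N11996 = N11996 := ded_42_2 (flp_g L139354) L130401 L139354
theorem L139361 : sm gf N11996 = N10983 := ded_39_1 (flp_g L130423) (flp_f L122796) (flp_g L122783) L130396 L139354
theorem L139363 : sm gi N10980 = N11997 := rfl
theorem L139365 : sm ga N11997 = N11023 := ded_16_1 (flp_i L130786) (flp_a L130398) L139363
theorem L139367 : sm gc N11997 = N11997 := ded_29_1 (flp_i L139363) L130400 L139363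
theorem L139368 : sm ge N11997 = N11997 := ded_38_1 (flp_i L139363) L130402 L139363
theorem L139369 : sm gf N11997 = N10981 := ded_41_1 (flp_i L130403) L130396 L139363
theorem L139371 : sm gh N10981 = N11998 := rfl
theorem L139373 : sm ga N11998 = N11024 := ded_15_1 (flp_h L130794) (flp_a L130405) L139371
theorem L139375 : sm gc N11998 = N11998 := ded_28_1 (flp_h L139371) L130407 L139371
theorem L139376 : sm ge N11998 = N10982 := ded_37_1 (flp_h L130412) (flp_e L130408) L139371
theorem L139378 : sm gg N11998 = N10985 := ded_42_1 (flp_h L130440) (flp_g L130410) L139371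
theorem L139380 : sm gi N11998 = N11998 := ded_44_2 (flp_h L139371) (flp_i L130403) L122785 L130403 L139371
theorem L139381 : sm gi N10983 = N11999 := rfl
theorem L139383 : sm ga N11999 = N11025 := ded_16_1 (flp_i L130802) (flp_a L130425) L139381
theorem L139385 : sm gc N11999 = N11999 := ded_29_1 (flp_i L139381) L130427 L139381
theorem L139386 : sm ge N11999 = N10986 := ded_38_1 (flp_i L130448) (flp_e L130428) L139381
theorem L139388 : sm gg N11999 = N10984 := ded_43_1 (flp_i L130431) L130423 L139381
theorem L139390 : sm gh N10984 = N12000 := rfl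
theorem L139392 : sm ga N12000 = N11026 := ded_15_1 (flp_h L130809) (flp_a L130433) L139390
theorem L139394 : sm gc N12000 = N12000 := ded_28_1 (flp_h L139390) L130435 L139390
theorem L139395 : sm ge N12000 = N10987 := ded_37_1 (flp_h L130458) (flp_e L130436) L139390
theorem L139397 : sm gf N12000 = N10985 := ded_40_1 (flp_h L130440) (flp_f L130438) L139390
theorem L139399 : sm gi N12000 = N12000 := ded_44_2 (flp_h L139390) (flp_i L130431) L122801 L130431 L139390
theorem L139400 : sm gd N10985 = N12001 := rfl
theorem L139402 : sm ga N12001 = N11027 := ded_11_1 (flp_d L130817) (flp_a L130442) L139400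
theorem L139404 : sm gi N12001 = N12001 := ded_34_2 (flp_d L139400) L130447 L139400
theorem L139405 : sm ge N12001 = N11722 := ded_30_2 (flp_d L136835) L128562 (flp_d L122818) (flp_e L130445) L139400
theorem L139407 : sm gh N10986 = N12002 := rfl
theorem L139409 : sm ga N12002 = N11028 := ded_15_1 (flp_h L130822) (flp_a L130450) L139407
theorem L139411 : sm gc N12002 = N12002 := ded_28_1 (flp_h L139407) L130452 L139407
theorem L139412 : sm gf N12002 = N12002 := ded_40_1 (flp_h L139407) L130455 L139407
theorem L139413 : sm gg N12002 = N10987 := ded_42_1 (flp_h L130458) (flp_g L130456) L139407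
theorem L139415 : sm gi N12002 = N12002 := ded_44_2 (flp_h L139407) (flp_i L130448) L122828 L130448 L139407
theorem L139416 : sm gd N10987 = N12003 := rfl
theorem L139418 : sm ga N12003 = N11029 := ded_11_1 (flp_d L130829) (flp_a L130460) L139416
theorem L139420 : sm gf N12003 = N10988 := ded_31_2 (flp_d L130466) (flp_f L130463) L139416
theorem L139422 : sm gi N12003 = N12003 := ded_34_2 (flp_d L139416) L130465 L139416
theorem L139423 : sm gh N12003 = N11356 := ded_33_2 (flp_d L133803) (flp_h L125593) (flp_d L122835) L130458 L139416
theorem L139425 : sm gc N10988 = N12004 := rfl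
theorem L139427 : sm ga N12004 = N11030 := ded_10_1 (flp_c L130836) (flp_a L130468) L139425
theorem L139429 : sm ge N12004 = N11725 := ded_25_2 (flp_c L136857) (flp_e L130472) L139425
theorem L139431 : sm gg N12004 = N12004 := ded_27_2 (flp_c L139425) L130470 L139425
theorem L139432 : sm gh N12004 = N11357 := ded_28_2 (flp_c L133811) (flp_h L130474) L139425
theorem L139434 : sm gi N12004 = N12004 := ded_29_2 (flp_c L139425) L130471 L139425
theorem L139435 : sm gd N12004 = N12004 := ded_24_2 (flp_c L139425) (flp_d L130466) L122843 L130466 L139425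
theorem L139436 : sm ga N10989 = N12005 := rfl
theorem L139438 : sm gc N12005 = N11822 := ded_10_2 L137703 (flp_c L130485) L139436
theorem L139440 : sm ge N12005 = N12005 := ded_12_2 (flp_a L139436) L130478 L139436
theorem L139441 : sm gf N12005 = N11097 := ded_13_2 L131559 (flp_f L130479) L139436
theorem L139443 : sm gg N12005 = N10991 := ded_14_2 (flp_a L130500) (flp_g L130481) L139436
theorem L139445 : sm gh N12005 = N11065 := ded_15_2 (flp_a L131194) (flp_h L130483) L139436
theorem L139447 : sm gb N12005 = N11031 := ded_9_2 (flp_a L130845) (flp_b L123097) (flp_a L122863) L130476 L139436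
theorem L139449 : sm gi N10989 = N12006 := rfl
theorem L139451 : sm gb N12006 = N10990 := ded_23_1 (flp_i L130487) L130476 L139449
theorem L139453 : sm gc N12006 = N11935 := ded_29_1 (flp_i L138826) (flp_c L130485) L139449
theorem L139455 : sm ge N12006 = N12006 := ded_38_1 (flp_i L139449) L130478 L139449
theorem L139456 : sm gf N12006 = N11242 := ded_41_1 (flp_i L132865) (flp_f L130479) L139449
theorem L139458 : sm gg N12006 = N10992 := ded_43_1 (flp_i L130509) (flp_g L130481) L139449
theorem L139460 : sm gh N12006 = N11273 := ded_44_1 (flp_i L133135) L125113 (flp_i L123416) (flp_h L130483) L139449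
theorem L139462 : sm gi N10991 = N12007 := rfl
theorem L139464 : sm ga N12007 = N10992 := ded_16_1 (flp_i L130509) L130500 L139462
theorem L139466 : sm gb N12007 = N11033 := ded_23_1 (flp_i L130869) (flp_b L130507) L139462
theorem L139468 : sm ge N12007 = N12007 := ded_38_1 (flp_i L139462) L130502 L139462
theorem L139469 : sm gf N12007 = N11358 := ded_41_1 (flp_i L133820) (flp_f L130503) L139462
theorem L139471 : sm gi N10993 = N12008 := rfl
theorem L139473 : sm gb N12008 = N11282 := ded_23_1 L133204 (flp_b L130518) L139471
theorem L139475 : sm gc N12008 = N11066 := ded_29_1 (flp_i L131209) (flp_c L130520) L139471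
theorem L139477 : sm gd N12008 = N11088 := ded_34_1 (flp_i L131468) L130527 L139471
theorem L139479 : sm ge N12008 = N10995 := ded_38_1 (flp_i L130541) (flp_e L130522) L139471
theorem L139481 : sm gf N12008 = N12008 := ded_41_1 (flp_i L139471) L130524 L139471
theorem L139482 : sm gg N12008 = N11131 := ded_43_1 L131919 (flp_g L130525) L139471
theorem L139484 : sm gh N12008 = N11071 := ded_44_1 (flp_i L131271) L123502 (flp_i L122911) L130516 L139471
theorem L139486 : sm gi N10994 = N12009 := rfl
theorem L139488 : sm gc N12009 = N11129 := ded_29_1 (flp_i L131891) (flp_c L130535) L139486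
theorem L139490 : sm gd N12009 = N10995 := ded_34_1 (flp_i L130541) L130529 L139486
theorem L139492 : sm ge N12009 = N11128 := ded_38_1 (flp_i L131883) (flp_e L130537) L139486
theorem L139494 : sm gf N12009 = N10998 := ded_41_1 (flp_i L130576) (flp_f L130531) L139486
theorem L139496 : sm gg N12009 = N11274 := ded_43_1 (flp_i L133144) (flp_g L130533) L139486
theorem L139498 : sm gi N10996 = N12010 := rfl
theorem L139500 : sm gb N12010 = N11280 := ded_23_1 (flp_i L133186) L130561 L139498
theorem L139502 : sm gc N12010 = N10998 := ded_29_1 (flp_i L130576) L130551 L139498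
theorem L139504 : sm gd N12010 = N11067 := ded_34_1 (flp_i L131221) (flp_d L130559) L139498
theorem L139506 : sm ge N12010 = N11678 := ded_38_1 (flp_i L136523) L130563 L139498
theorem L139508 : sm gf N12010 = N11129 := ded_41_1 (flp_i L131891) (flp_f L130553) L139498
theorem L139510 : sm gg N12010 = N11001 := ded_43_1 (flp_i L130606) (flp_g L130555) L139498
theorem L139512 : sm gi N10997 = N12011 := rfl
theorem L139514 : sm gc N12011 = N11678 := ded_29_1 (flp_i L136523) (flp_c L130567) L139512
theorem L139516 : sm gd N12011 = N12011 := ded_34_1 (flp_i L139512) L130573 L139512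
theorem L139517 : sm ge N12011 = N10998 := ded_38_1 (flp_i L130576) L130565 L139512
theorem L139519 : sm gf N12011 = N11676 := ded_41_1 (flp_i L136512) (flp_f L130574) L139512
theorem L139521 : sm gg N12011 = N11003 := ded_43_1 (flp_i L130621) (flp_g L130569) L139512
theorem L139523 : sm gh N10998 = N12012 := rfl
theorem L139525 : sm gg N12012 = N11004 := ded_42_1 (flp_h L130626) (flp_g L130580) L139523
theorem L139527 : sm gd N12012 = N11366 := ded_33_1 (flp_h L133891) L125689 (flp_h L122936) (flp_d L130578) L139523
theorem L139529 : sm gi N12012 = N11012 := ded_44_2 (flp_h L130710) (flp_i L122990) (flp_h L122927) L130576 L139523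
theorem L139531 : sm ga N10999 = N12013 := rfl
theorem L139533 : sm gd N12013 = N11069 := ded_11_2 (flp_a L131249) (flp_d L130584) L139531
theorem L139535 : sm ge N12013 = N11717 := ded_12_2 L136796 L130592 L139531
theorem L139537 : sm gf N12013 = N11361 := ded_13_2 (flp_a L133850) (flp_f L130586) L139531
theorem L139539 : sm gg N12013 = N11266 := ded_14_2 L133074 (flp_g L130588) L139531
theorem L139541 : sm gh N12013 = N11013 := ded_15_2 (flp_a L130716) (flp_h L130590) L139531
theorem L139543 : sm gi N10999 = N12014 := rfl
theorem L139545 : sm gb N12014 = N11001 := ded_23_1 (flp_i L130606) L130582 L139543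
theorem L139547 : sm gd N12014 = N11070 := ded_34_1 (flp_i L131260) (flp_d L130584) L139543
theorem L139549 : sm ge N12014 = N11728 := ded_38_1 (flp_i L136876) L130592 L139543
theorem L139551 : sm gf N12014 = N11363 := ded_41_1 (flp_i L133867) (flp_f L130586) L139543
theorem L139553 : sm gg N12014 = N11280 := ded_43_1 (flp_i L133186) (flp_g L130588) L139543
theorem L139555 : sm gf N11000 = N12015 := rfl
theorem L139557 : sm gb N12015 = N11378 := ded_20_1 L133985 (flp_b L130596) L139555
theorem L139559 : sm gc N12015 = N11002 := ded_26_1 (flp_f L130614) (flp_c L130598) L139555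
theorem L139561 : sm gd N12015 = N11470 := ded_31_1 L134765 (flp_d L130604) L139555
theorem L139563 : sm gh N12015 = N11016 := ded_40_2 (flp_f L130739) (flp_h L130602) L139555
theorem L139565 : sm ge N12015 = N11364 := ded_35_1 (flp_f L133875) (flp_e L125676) (flp_f L122940) L130594 L139555
theorem L139567 : sm gg N12015 = N11375 := ded_39_2 (flp_f L133957) L125741 L128313 (flp_g L130600) L139555
theorem L139569 : sm gi N11000 = N12016 := rfl
theorem L139571 : sm gb N12016 = N11728 := ded_23_1 (flp_i L136876) (flp_b L130596) L139569
theorem L139573 : sm gc N12016 = N11003 := ded_29_1 (flp_i L130621) (flp_c L130598) L139569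
theorem L139575 : sm gd N12016 = N11680 := ded_34_1 (flp_i L136537) (flp_d L130604) L139569
theorem L139577 : sm ge N12016 = N11001 := ded_38_1 (flp_i L130606) L130594 L139569
theorem L139579 : sm gg N12016 = N11678 := ded_43_1 (flp_i L136523) (flp_g L130600) L139569
theorem L139581 : sm gh N11001 = N12017 := rfl
theorem L139583 : sm gc N12017 = N11004 := ded_28_1 (flp_h L130626) (flp_c L130608) L139581
theorem L139585 : sm gf N12017 = N11366 := ded_40_1 (flp_h L133891) (flp_f L130612) L139581
theorem L139587 : sm gi N12017 = N11018 := ded_44_2 (flp_h L130753) (flp_i L123007) (flp_h L122942) L130606 L139581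
theorem L139589 : sm gg N11002 = N12018 := rfl
theorem L139591 : sm gb N12018 = N11218 := ded_21_1 (flp_g L138299) L138290 L139589
theorem L139593 : sm gc N12018 = N11375 := ded_27_1 (flp_g L139567) L139559 L139589
theorem L139595 : sm gd N12018 = N12018 := ded_32_1 (flp_g L139589) L130616 L139589
theorem L139596 : sm ge N12018 = N11367 := ded_36_1 (flp_g L133899) (flp_e L130619) L139589
theorem L139598 : sm gh N12018 = N11019 := ded_42_2 (flp_g L130759) (flp_h L130617) L139589
theorem L139600 : sm gf N12018 = N11216 := ded_39_1 L132650 (flp_f L130574) L130569 L130614 L139589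
theorem L139602 : sm gi N11002 = N12019 := rfl
theorem L139604 : sm gd N12019 = N12019 := ded_34_1 (flp_i L139602) L130616 L139602
theorem L139605 : sm ge N12019 = N11368 := ded_38_1 (flp_i L133905) (flp_e L130619) L139602
theorem L139607 : sm gf N12019 = N11003 := ded_41_1 (flp_i L130621) L130614 L139602
theorem L139609 : sm gh N11003 = N12020 := rfl
theorem L139611 : sm ge N12020 = N11004 := ded_37_1 (flp_h L130626) (flp_e L130624) L139609
theorem L139613 : sm gi N12020 = N11021 := ded_44_2 (flp_h L130773) (flp_i L123021) (flp_h L122948) L130621 L139609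
theorem L139615 : sm gi N11005 = N12021 := rfl
theorem L139617 : sm gc N12021 = N11124 := ded_29_1 (flp_i L131843) (flp_c L130636) L139615
theorem L139619 : sm gd N12021 = N12021 := ded_34_1 (flp_i L139615) L130642 L139615
theorem L139620 : sm ge N12021 = N11006 := ded_38_1 (flp_i L130645) L130634 L139615
theorem L139622 : sm gf N12021 = N11673 := ded_41_1 (flp_i L136494) L130643 L139615
theorem L139624 : sm gg N12021 = N11278 := ded_43_1 (flp_i L133173) (flp_g L130638) L139615
theorem L139626 : sm gh N11006 = N12022 := rfl
theorem L139628 : sm gc N12022 = N11276 := ded_28_1 (flp_h L133160) (flp_c L130647) L139626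
theorem L139630 : sm gf N12022 = N11012 := ded_40_1 (flp_h L130710) (flp_f L130651) L139626
theorem L139632 : sm gg N12022 = N11279 := ded_42_1 (flp_h L133180) (flp_g L130653) L139626
theorem L139634 : sm gd N12022 = N11018 := ded_33_1 (flp_h L130753) L123011 (flp_h L122974) (flp_d L130649) L139626
theorem L139636 : sm ga N11007 = N12023 := rfl
theorem L139638 : sm gd N12023 = N11031 := ded_11_2 (flp_a L130845) (flp_d L130657) L139636
theorem L139640 : sm ge N12023 = N11714 := ded_12_2 L136776 L130665 L139636
theorem L139642 : sm gf N12023 = N11111 := ded_13_2 L131723 (flp_f L130659) L139636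
theorem L139644 : sm gg N12023 = N11013 := ded_14_2 (flp_a L130716) (flp_g L130661) L139636
theorem L139646 : sm gh N12023 = N11266 := ded_15_2 L133074 (flp_h L130663) L139636
theorem L139648 : sm gi N11007 = N12024 := rfl
theorem L139650 : sm gb N12024 = N11009 := ded_23_1 (flp_i L130680) L130655 L139648
theorem L139652 : sm gd N12024 = N11032 := ded_34_1 (flp_i L130856) (flp_d L130657) L139648
theorem L139654 : sm ge N12024 = N11726 := ded_38_1 (flp_i L136865) L130665 L139648
theorem L139656 : sm gf N12024 = N11126 := ded_41_1 (flp_i L131865) (flp_f L130659) L139648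
theorem L139658 : sm gg N12024 = N11015 := ded_43_1 (flp_i L130731) (flp_g L130661) L139648
theorem L139660 : sm gi N11008 = N12025 := rfl
theorem L139662 : sm gb N12025 = N11726 := ded_23_1 (flp_i L136865) (flp_b L130669) L139660
theorem L139664 : sm gc N12025 = N11011 := ded_29_1 (flp_i L130702) (flp_c L130671) L139660
theorem L139666 : sm gd N12025 = N12025 := ded_34_1 (flp_i L139660) L130677 L139660
theorem L139667 : sm ge N12025 = N11009 := ded_38_1 (flp_i L130680) L130667 L139660
theorem L139669 : sm gf N12025 = N11674 := ded_41_1 (flp_i L136499) (flp_f L130678) L139660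
theorem L139671 : sm gg N12025 = N11017 := ded_43_1 (flp_i L130746) (flp_g L130673) L139660
theorem L139673 : sm gh N11009 = N12026 := rfl
theorem L139675 : sm gc N12026 = N11012 := ded_28_1 (flp_h L130710) (flp_c L130682) L139673
theorem L139677 : sm gf N12026 = N11276 := ded_40_1 (flp_h L133160) (flp_f L130686) L139673
theorem L139679 : sm gg N12026 = N11018 := ded_42_1 (flp_h L130753) (flp_g L130688) L139673
theorem L139681 : sm gd N12026 = N11279 := ded_33_1 (flp_h L133180) L125155 (flp_h L123117) (flp_d L130684) L139673
theorem L139683 : sm gg N11010 = N12027 := rfl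
theorem L139685 : sm gb N12027 = N11203 := ded_21_1 L132543 (flp_b L130692) L139683
theorem L139687 : sm gc N12027 = N11362 := ded_27_1 L133862 (flp_c L130694) L139683
theorem L139689 : sm gd N12027 = N11022 := ded_32_1 (flp_g L130777) (flp_d L130696) L139683
theorem L139691 : sm ge N12027 = N11202 := ded_36_1 L132533 (flp_e L130700) L139683
theorem L139693 : sm gh N12027 = N11216 := ded_42_2 L132650 (flp_h L130698) L139683
theorem L139695 : sm gf N12027 = N11019 := ded_39_1 (flp_g L130759) (flp_f L123015) (flp_g L122986) L130690 L139683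
theorem L139697 : sm gi N11010 = N12028 := rfl
theorem L139699 : sm gb N12028 = N11388 := ded_23_1 L134055 (flp_b L130692) L139697
theorem L139701 : sm gc N12028 = N11674 := ded_29_1 (flp_i L136499) (flp_c L130694) L139697
theorem L139703 : sm gd N12028 = N11023 := ded_34_1 (flp_i L130786) (flp_d L130696) L139697
theorem L139705 : sm ge N12028 = N11673 := ded_38_1 (flp_i L136494) (flp_e L130700) L139697
theorem L139707 : sm gf N12028 = N11011 := ded_41_1 (flp_i L130702) L130690 L139697
theorem L139709 : sm gh N11011 = N12029 := rfl
theorem L139711 : sm ge N12029 = N11012 := ded_37_1 (flp_h L130710) (flp_e L130706) L139709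
theorem L139713 : sm gg N12029 = N11021 := ded_42_1 (flp_h L130773) (flp_g L130708) L139709
theorem L139715 : sm ge N11013 = N12030 := rfl
theorem L139717 : sm ga N12030 = N11014 := ded_12_1 (flp_e L130722) L130716 L139715
theorem L139719 : sm gg N12030 = N11714 := ded_36_2 (flp_e L139640) L139644 L139715
theorem L139721 : sm gh N12030 = N11717 := ded_37_2 (flp_e L139535) L139541 L139715
theorem L139723 : sm gd N12030 = N12030 := ded_30_1 (flp_e L139715) L130718 L123123 (flp_d L130718) L139715
theorem L139724 : sm gi N11013 = N12031 := rfl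
theorem L139726 : sm ga N12031 = N11015 := ded_16_1 (flp_i L130731) L130716 L139724
theorem L139728 : sm gd N12031 = N11033 := ded_34_1 (flp_i L130869) (flp_d L130718) L139724
theorem L139730 : sm gf N12031 = N11374 := ded_41_1 (flp_i L133949) (flp_f L130720) L139724
theorem L139732 : sm gf N11014 = N12032 := rfl
theorem L139734 : sm gb N12032 = N11016 := ded_20_1 (flp_f L130739) (flp_b L130724) L139732
theorem L139736 : sm gc N12032 = N11367 := ded_26_1 L138421 L138413 L139732
theorem L139738 : sm gd N12032 = N12032 := ded_31_1 (flp_f L139732) L130730 L139732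
theorem L139739 : sm gh N12032 = N11378 := ded_40_2 L133985 (flp_h L130728) L139732
theorem L139741 : sm ge N12032 = N11375 := ded_35_1 (flp_f L133957) (flp_e L125737) (flp_f L123000) L130722 L139732
theorem L139743 : sm gg N12032 = N11364 := ded_39_2 (flp_f L133875) L125680 L128589 (flp_g L130726) L139732
theorem L139745 : sm gi N11014 = N12033 := rfl
theorem L139747 : sm gb N12033 = N11017 := ded_23_1 (flp_i L130746) (flp_b L130724) L139745
theorem L139749 : sm gd N12033 = N12033 := ded_34_1 (flp_i L139745) L130730 L139745
theorem L139750 : sm ge N12033 = N11015 := ded_38_1 (flp_i L130731) L130722 L139745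
theorem L139752 : sm gg N12033 = N11726 := ded_43_1 (flp_i L136865) (flp_g L130726) L139745
theorem L139754 : sm gh N11015 = N12034 := rfl
theorem L139756 : sm gb N12034 = N11018 := ded_22_1 (flp_h L130753) (flp_b L130733) L139754
theorem L139758 : sm gf N12034 = N11377 := ded_40_1 (flp_h L133973) (flp_f L130737) L139754
theorem L139760 : sm gg N11016 = N12035 := rfl
theorem L139762 : sm gb N12035 = N11364 := ded_21_1 (flp_g L139743) L139734 L139760
theorem L139764 : sm gc N12035 = N11019 := ded_27_1 (flp_g L130759) (flp_c L130741) L139760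
theorem L139766 : sm gd N12035 = N12035 := ded_32_1 (flp_g L139760) L130743 L139760
theorem L139767 : sm ge N12035 = N11378 := ded_36_1 (flp_g L133979) (flp_e L130744) L139760
theorem L139769 : sm gh N12035 = N11375 := ded_42_2 (flp_g L139567) L139563 L139760
theorem L139771 : sm gf N12035 = N11362 := ded_39_1 L133862 (flp_f L130678) L130673 L130739 L139760
theorem L139773 : sm gi N11016 = N12036 := rfl
theorem L139775 : sm gc N12036 = N11020 := ded_29_1 (flp_i L130765) (flp_c L130741) L139773
theorem L139777 : sm gd N12036 = N12036 := ded_34_1 (flp_i L139773) L130743 L139773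
theorem L139778 : sm ge N12036 = N11379 := ded_38_1 (flp_i L133987) (flp_e L130744) L139773
theorem L139780 : sm gf N12036 = N11017 := ded_41_1 (flp_i L130746) L130739 L139773
theorem L139782 : sm gh N11017 = N12037 := rfl
theorem L139784 : sm gc N12037 = N11021 := ded_28_1 (flp_h L130773) (flp_c L130748) L139782
theorem L139786 : sm ge N12037 = N11018 := ded_37_1 (flp_h L130753) (flp_e L130751) L139782
theorem L139788 : sm gi N11019 = N12038 := rfl
theorem L139790 : sm gd N12038 = N11025 := ded_34_1 (flp_i L130802) (flp_d L130761) L139788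
theorem L139792 : sm ge N12038 = N11381 := ded_38_1 (flp_i L134003) (flp_e L130763) L139788
theorem L139794 : sm gg N12038 = N11020 := ded_43_1 (flp_i L130765) L130759 L139788
theorem L139796 : sm gh N11020 = N12039 := rfl
theorem L139798 : sm ge N12039 = N11382 := ded_37_1 (flp_h L134009) (flp_e L130769) L139796
theorem L139800 : sm gf N12039 = N11021 := ded_40_1 (flp_h L130773) (flp_f L130771) L139796
theorem L139802 : sm gd N11021 = N12040 := rfl
theorem L139804 : sm ge N12040 = N11730 := ded_30_2 (flp_d L136886) L128615 (flp_d L123031) (flp_e L130775) L139802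
theorem L139806 : sm gh N12040 = N11027 := ded_33_2 (flp_d L130817) (flp_h L123069) (flp_d L123023) L130773 L139802
theorem L139808 : sm gi N11022 = N12041 := rfl
theorem L139810 : sm gb N12041 = N11481 := ded_23_1 L134858 (flp_b L130779) L139808
theorem L139812 : sm gc N12041 = N12041 := ded_29_1 (flp_i L139808) L130781 L139808
theorem L139813 : sm ge N12041 = N12041 := ded_38_1 (flp_i L139808) L130782 L139808
theorem L139814 : sm gf N12041 = N11025 := ded_41_1 (flp_i L130802) (flp_f L130784) L139808
theorem L139816 : sm gg N12041 = N11023 := ded_43_1 (flp_i L130786) L130777 L139808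
theorem L139818 : sm gh N11773 = N12041 := ded_22_0 L139810 L134856 L137187
theorem L139820 : sm gh N11023 = N12042 := rfl
theorem L139822 : sm gb N12042 = N11478 := ded_22_1 L134829 (flp_b L130788) L139820
theorem L139824 : sm gc N12042 = N12042 := ded_28_1 (flp_h L139820) L130790 L139820
theorem L139825 : sm ge N12042 = N12042 := ded_37_1 (flp_h L139820) L130791 L139820
theorem L139826 : sm gf N12042 = N11024 := ded_40_1 (flp_h L130794) (flp_f L130792) L139820
theorem L139828 : sm gg N12042 = N11773 := ded_42_1 L139818 L139816 L139820
theorem L139830 : sm gi N12042 = N12042 := ded_44_2 (flp_h L139820) (flp_i L130786) L123038 L130786 L139820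
theorem L139831 : sm gd N11024 = N12043 := rfl
theorem L139833 : sm gg N12043 = N11027 := ded_32_2 (flp_d L130817) (flp_g L130799) L139831
theorem L139835 : sm gi N12043 = N12043 := ded_34_2 (flp_d L139831) L130801 L139831
theorem L139836 : sm ge N12043 = N11475 := ded_30_2 (flp_d L134802) L126560 (flp_d L123053) (flp_e L130797) L139831
theorem L139838 : sm gh N11025 = N12044 := rfl
theorem L139840 : sm gb N12044 = N11771 := ded_22_1 L138518 L138508 L139838
theorem L139842 : sm gc N12044 = N12044 := ded_28_1 (flp_h L139838) L130804 L139838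
theorem L139843 : sm ge N12044 = N11028 := ded_37_1 (flp_h L130822) (flp_e L130805) L139838
theorem L139845 : sm gf N12044 = N11773 := ded_40_1 L139818 L139814 L139838
theorem L139847 : sm gg N12044 = N11026 := ded_42_1 (flp_h L130809) (flp_g L130807) L139838
theorem L139849 : sm gi N12044 = N12044 := ded_44_2 (flp_h L139838) (flp_i L130802) L123061 L130802 L139838
theorem L139850 : sm gd N11026 = N12045 := rfl
theorem L139852 : sm gf N12045 = N11027 := ded_31_2 (flp_d L130817) (flp_f L130814) L139850
theorem L139854 : sm gi N12045 = N12045 := ded_34_2 (flp_d L139850) L130816 L139850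
theorem L139855 : sm gc N11027 = N12046 := rfl
theorem L139857 : sm ge N12046 = N11733 := ded_25_2 (flp_c L136904) (flp_e L130820) L139855
theorem L139859 : sm gi N12046 = N12046 := ded_29_2 (flp_c L139855) L130819 L139855
theorem L139860 : sm gd N12046 = N12046 := ded_24_2 (flp_c L139855) (flp_d L130817) L123071 L130817 L139855
theorem L139861 : sm gi N11031 = N12047 := rfl
theorem L139863 : sm ga N12047 = N11032 := ded_16_1 (flp_i L130856) L130845 L139861
theorem L139865 : sm gc N12047 = N11034 := ded_29_1 (flp_i L130878) (flp_c L130847) L139861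
theorem L139867 : sm ge N12047 = N12047 := ded_38_1 (flp_i L139861) L130849 L139861
theorem L139868 : sm gf N12047 = N11112 := ded_41_1 (flp_i L131731) (flp_f L130850) L139861
theorem L139870 : sm gg N12047 = N11033 := ded_43_1 (flp_i L130869) (flp_g L130852) L139861
theorem L139872 : sm gh N12047 = N11174 := ded_44_1 (flp_i L132298) (flp_h L124410) (flp_i L123542) (flp_h L130854) L139861
theorem L139874 : sm ge N11035 = N12048 := rfl
theorem L139876 : sm ga N12048 = N12048 := ded_12_1 (flp_e L139874) L130893 L139874
theorem L139877 : sm gc N12048 = N11039 := ded_25_1 (flp_e L130923) (flp_c L130894) L139874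
theorem L139879 : sm gg N12048 = N11396 := ded_36_2 (flp_e L134124) (flp_g L130898) L139874
theorem L139881 : sm gi N12048 = N11049 := ded_38_2 (flp_e L131022) (flp_i L130896) L139874
theorem L139883 : sm gf N12048 = N12048 := ded_35_2 (flp_e L139874) (flp_f L130891) L123171 L130891 L139874
theorem L139884 : sm gh N11035 = N12049 := rfl
theorem L139886 : sm ga N12049 = N12049 := ded_15_1 (flp_h L139884) L130893 L139884
theorem L139887 : sm gc N12049 = N11040 := ded_28_1 (flp_h L130935) (flp_c L130894) L139884
theorem L139889 : sm gf N12049 = N11036 := ded_40_1 (flp_h L130900) L130891 L139884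
theorem L139891 : sm gg N12049 = N11393 := ded_42_1 L134102 (flp_g L130898) L139884
theorem L139893 : sm gd N11036 = N12050 := rfl
theorem L139895 : sm ga N12050 = N12050 := ded_11_1 (flp_d L139893) L130902 L139893
theorem L139896 : sm gg N12050 = N11037 := ded_32_2 (flp_d L130908) (flp_g L130906) L139893
theorem L139898 : sm gi N11036 = N12051 := rfl
theorem L139900 : sm ga N12051 = N12051 := ded_16_1 (flp_i L139898) L130902 L139898
theorem L139901 : sm gc N12051 = N11042 := ded_29_1 (flp_i L130957) (flp_c L130903) L139898
theorem L139903 : sm ge N12051 = N12051 := ded_38_1 (flp_i L139898) L130905 L139898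
theorem L139904 : sm gg N12051 = N11038 := ded_43_1 (flp_i L130913) (flp_g L130906) L139898
theorem L139906 : sm gh N12051 = N11404 := ded_44_1 (flp_i L134185) L126019 (flp_i L123172) L130900 L139898
theorem L139908 : sm gc N11037 = N12052 := rfl
theorem L139910 : sm ga N12052 = N12052 := ded_10_1 (flp_c L139908) L130910 L139908
theorem L139911 : sm gf N12052 = N11400 := ded_26_2 (flp_c L134157) (flp_f L130911) L139908
theorem L139913 : sm gd N12052 = N11043 := ded_24_2 (flp_c L130967) (flp_d L123201) (flp_c L123177) L130908 L139908
theorem L139915 : sm ge N11037 = N12053 := rfl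
theorem L139917 : sm ga N12053 = N12053 := ded_12_1 (flp_e L139915) L130910 L139915
theorem L139918 : sm gd N12053 = N12053 := ded_30_1 (flp_e L139915) (flp_d L130908) L123179 L130908 L139915
theorem L139919 : sm gi N11037 = N12054 := rfl
theorem L139921 : sm ga N12054 = N12054 := ded_16_1 (flp_i L139919) L130910 L139919
theorem L139922 : sm gd N12054 = N11038 := ded_34_1 (flp_i L130913) L130908 L139919
theorem L139924 : sm gf N12054 = N11402 := ded_41_1 (flp_i L134171) (flp_f L130911) L139919
theorem L139926 : sm gh N11039 = N12055 := rfl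
theorem L139928 : sm ga N12055 = N12055 := ded_15_1 (flp_h L139926) L130925 L139926
theorem L139929 : sm gb N12055 = N11053 := ded_22_1 (flp_h L131063) (flp_b L130926) L139926
theorem L139931 : sm ge N12055 = N11040 := ded_37_1 (flp_h L130935) L130923 L139926
theorem L139933 : sm gf N12055 = N12055 := ded_40_1 (flp_h L139926) L130934 L139926
theorem L139934 : sm gg N12055 = N11394 := ded_42_1 L134109 (flp_g L130928) L139926
theorem L139936 : sm gd N12055 = N11072 := ded_33_1 (flp_h L131284) L123554 L123299 (flp_d L130932) L139926
theorem L139938 : sm gi N11040 = N12056 := rfl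
theorem L139940 : sm ga N12056 = N12056 := ded_16_1 (flp_i L139938) L130937 L139938
theorem L139941 : sm gb N12056 = N11054 := ded_23_1 (flp_i L131074) (flp_b L130938) L139938
theorem L139943 : sm gd N12056 = N11392 := ded_34_1 (flp_i L134086) (flp_d L130944) L139938
theorem L139945 : sm gf N12056 = N11042 := ded_41_1 (flp_i L130957) (flp_f L130940) L139938
theorem L139947 : sm gg N12056 = N11395 := ded_43_1 (flp_i L134115) (flp_g L130942) L139938
theorem L139949 : sm gh N12056 = N11045 := ded_44_1 (flp_i L130983) L123208 (flp_i L123189) L130935 L139938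
theorem L139951 : sm gc N11041 = N12057 := rfl
theorem L139953 : sm ga N12057 = N12057 := ded_10_1 (flp_c L139951) L130948 L139951
theorem L139954 : sm gf N12057 = N11389 := ded_26_2 L134062 (flp_f L130951) L139951
theorem L139956 : sm gg N12057 = N11043 := ded_27_2 (flp_c L130967) (flp_g L130953) L139951
theorem L139958 : sm gh N12057 = N11046 := ded_28_2 (flp_c L130992) (flp_h L130955) L139951
theorem L139960 : sm ge N11041 = N12058 := rfl
theorem L139962 : sm ga N12058 = N12058 := ded_12_1 (flp_e L139960) L130948 L139960
theorem L139963 : sm gb N12058 = N11056 := ded_19_1 (flp_e L131098) (flp_b L130949) L139960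
theorem L139965 : sm gg N12058 = N11044 := ded_36_2 (flp_e L130974) (flp_g L130953) L139960
theorem L139967 : sm gh N12058 = N11047 := ded_37_2 (flp_e L131003) (flp_h L130955) L139960
theorem L139969 : sm gd N12058 = N12058 := ded_30_1 (flp_e L139960) (flp_d L130946) L123198 L130946 L139960
theorem L139970 : sm gf N12058 = N11075 := ded_35_2 (flp_e L131322) L123575 (flp_e L125896) (flp_f L130951) L139960
theorem L139972 : sm gi N11041 = N12059 := rfl
theorem L139974 : sm ga N12059 = N12059 := ded_16_1 (flp_i L139972) L130948 L139972
theorem L139975 : sm gb N12059 = N11057 := ded_23_1 (flp_i L131111) (flp_b L130949) L139972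
theorem L139977 : sm gd N12059 = N11042 := ded_34_1 (flp_i L130957) L130946 L139972
theorem L139979 : sm gf N12059 = N11392 := ded_41_1 (flp_i L134086) (flp_f L130951) L139972
theorem L139981 : sm gg N12059 = N11045 := ded_43_1 (flp_i L130983) (flp_g L130953) L139972
theorem L139983 : sm gh N12059 = N11395 := ded_44_1 (flp_i L134115) L125907 (flp_i L123229) (flp_h L130955) L139972
theorem L139985 : sm gb N11043 = N12060 := rfl
theorem L139987 : sm gf N12060 = N11403 := ded_20_2 (flp_b L134176) (flp_f L130970) L139985
theorem L139989 : sm gh N12060 = N11048 := ded_22_2 (flp_b L131016) (flp_h L130972) L139985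
theorem L139991 : sm gc N12060 = N11058 := ded_17_2 (flp_b L131123) (flp_c L123341) (flp_b L123204) L130967 L139985
theorem L139993 : sm ge N11043 = N12061 := rfl
theorem L139995 : sm ga N12061 = N12061 := ded_12_1 (flp_e L139993) L130969 L139993
theorem L139996 : sm gc N12061 = N11044 := ded_25_1 (flp_e L130974) L130967 L139993
theorem L139998 : sm gh N12061 = N11049 := ded_37_2 (flp_e L131022) (flp_h L130972) L139993
theorem L140000 : sm gf N12061 = N12061 := ded_35_2 (flp_e L139993) L130970 L126016 (flp_f L130970) L139993
theorem L140001 : sm gi N11043 = N12062 := rfl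
theorem L140003 : sm ga N12062 = N12062 := ded_16_1 (flp_i L140001) L130969 L140001
theorem L140004 : sm gc N12062 = N11045 := ded_29_1 (flp_i L130983) L130967 L140001
theorem L140006 : sm gf N12062 = N11404 := ded_41_1 (flp_i L134185) (flp_f L130970) L140001
theorem L140008 : sm gi N11044 = N12063 := rfl
theorem L140010 : sm ga N12063 = N12063 := ded_16_1 (flp_i L140008) L130976 L140008
theorem L140011 : sm gb N12063 = N11061 := ded_23_1 (flp_i L131150) (flp_b L130977) L140008
theorem L140013 : sm gd N12063 = N12063 := ded_34_1 (flp_i L140008) L130981 L140008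
theorem L140014 : sm ge N12063 = N11045 := ded_38_1 (flp_i L130983) L130974 L140008
theorem L140016 : sm gf N12063 = N12063 := ded_41_1 (flp_i L140008) L130982 L140008
theorem L140017 : sm gb N11046 = N12064 := rfl
theorem L140019 : sm gd N12064 = N11923 := ded_18_2 L138726 (flp_d L131001) L140017
theorem L140021 : sm gf N12064 = N11237 := ded_20_2 L132821 (flp_f L130995) L140017
theorem L140023 : sm gg N12064 = N11048 := ded_21_2 (flp_b L131016) (flp_g L130997) L140017
theorem L140025 : sm gi N12064 = N11285 := ded_23_2 L133226 (flp_i L130999) L140017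
theorem L140027 : sm gc N12064 = N11062 := ded_17_2 (flp_b L131158) (flp_c L123365) (flp_b L123223) L130992 L140017
theorem L140029 : sm ge N11484 = N12064 := ded_46_2 L140019 L138728 L130050 L122689 L122915 L122919 L65259 L122923 L130551 (flp_b L130561) (flp_a L133074) (flp_h L139646) L139642 L131727 (flp_d L124978) L67356 (flp_b L68472) L68471 (flp_h L68469) L50012 L45186 (flp_d L45181) L33171 L27093 L19908 L19982 (flp_f L25925) L25923 L25936 L25941 L25938 (flp_a L35242) L35247 L35244 L25853 (flp_d L25846) L19004 (flp_b L14483) L14481 (flp_h L10688) L10680 L14521 (flp_d L19483) (flp_c L26489) (flp_b L35700) (flp_a L48598) L66468 L66476 L60908 L60919 L60925 (flp_b L121124) L121122 L61217 L61215 L61234 (flp_d L67331) (flp_c L124939) L124938 (flp_a L131646) L131651 L134877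
theorem L140031 : sm ga N11528 = N12064 := ded_13_3 L140021 L132819 L135300
theorem L140033 : sm ge N11046 = N12065 := rfl
theorem L140035 : sm ga N12065 = N12065 := ded_12_1 (flp_e L140033) L130994 L140033
theorem L140036 : sm gb N12065 = N11484 := ded_19_1 L140029 (flp_b L140017) L140033
theorem L140038 : sm gc N12065 = N11047 := ded_25_1 (flp_e L131003) L130992 L140033
theorem L140040 : sm gg N12065 = N11049 := ded_36_2 (flp_e L131022) (flp_g L130997) L140033
theorem L140042 : sm gi N12065 = N11396 := ded_38_2 (flp_e L134124) (flp_i L130999) L140033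
theorem L140044 : sm gf N12065 = N11482 := ded_35_2 (flp_e L134860) L126643 (flp_e L125878) (flp_f L130995) L140033
theorem L140046 : sm ga N11048 = N12066 := rfl
theorem L140048 : sm gc N12066 = N11063 := ded_10_2 (flp_a L131172) (flp_c L131020) L140046
theorem L140050 : sm gf N12066 = N11405 := ded_13_2 (flp_a L134193) (flp_f L131018) L140046
theorem L140052 : sm gg N12066 = N11528 := ded_14_2 L140031 L140023 L140046
theorem L140054 : sm gb N12066 = N12066 := ded_9_2 (flp_a L140046) (flp_b L131016) L123233 L131016 L140046
theorem L140055 : sm ge N11532 = N12066 := ded_25_0 L140048 (flp_e L131182) (flp_c L135330)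
theorem L140057 : sm ge N11048 = N12067 := rfl
theorem L140059 : sm ga N12067 = N11532 := ded_12_1 L140055 (flp_a L140046) L140057
theorem L140061 : sm gb N12067 = N11049 := ded_19_1 (flp_e L131022) L131016 L140057
theorem L140063 : sm gc N12067 = N11064 := ded_25_1 (flp_e L131184) (flp_c L131020) L140057
theorem L140065 : sm gg N12067 = N11484 := ded_36_2 L140029 L140023 L140057
theorem L140067 : sm gf N12067 = N12067 := ded_35_2 (flp_e L140057) L131018 L126035 (flp_f L131018) L140057
theorem L140068 : sm gd N11049 = N12068 := rfl
theorem L140070 : sm ga N12068 = N12068 := ded_11_1 (flp_d L140068) L131024 L140068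
theorem L140071 : sm gf N12068 = N12068 := ded_31_2 (flp_d L140068) L131027 L140068
theorem L140072 : sm gc N12068 = N11051 := ded_24_1 (flp_d L131041) L123271 (flp_d L123241) (flp_c L131025) L140068
theorem L140074 : sm ge N12068 = N11628 := ded_30_2 (flp_d L136137) (flp_e L134124) L125925 L131022 L140068
theorem L140076 : sm gh N11625 = N12068 := ded_28_0 L140072 (flp_h L131048) (flp_c L136104)
theorem L140078 : sm gi N11053 = N12069 := rfl
theorem L140080 : sm ga N12069 = N11066 := ded_16_1 (flp_i L131209) (flp_a L131065) L140078
theorem L140082 : sm gd N12069 = N11077 := ded_34_1 (flp_i L131343) (flp_d L131072) L140078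
theorem L140084 : sm ge N12069 = N11054 := ded_38_1 (flp_i L131074) (flp_e L131067) L140078
theorem L140086 : sm gf N12069 = N12069 := ded_41_1 (flp_i L140078) L131069 L140078
theorem L140087 : sm gg N12069 = N11397 := ded_43_1 (flp_i L134131) (flp_g L131070) L140078
theorem L140089 : sm gh N12069 = N11061 := ded_44_1 (flp_i L131150) L123353 (flp_i L123307) L131063 L140078
theorem L140091 : sm gb N11055 = N12070 := rfl
theorem L140093 : sm ge N12070 = N11106 := ded_19_2 L131666 L131096 L140091
theorem L140095 : sm gf N12070 = N11102 := ded_20_2 L131624 (flp_f L131090) L140091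
theorem L140097 : sm gg N12070 = N11058 := ded_21_2 (flp_b L131123) (flp_g L131092) L140091
theorem L140099 : sm gh N12070 = N11062 := ded_22_2 (flp_b L131158) (flp_h L131094) L140091
theorem L140101 : sm ga N12070 = N11250 := ded_9_1 L132940 L125052 (flp_b L123456) (flp_a L131088) L140091
theorem L140103 : sm gi N11055 = N12071 := rfl
theorem L140105 : sm ga N12071 = N11067 := ded_16_1 (flp_i L131221) (flp_a L131088) L140103
theorem L140107 : sm gc N12071 = N11057 := ded_29_1 (flp_i L131111) L131086 L140103
theorem L140109 : sm ge N12071 = N11117 := ded_38_1 (flp_i L131781) L131096 L140103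
theorem L140111 : sm gf N12071 = N11116 := ded_41_1 (flp_i L131769) (flp_f L131090) L140103
theorem L140113 : sm gg N12071 = N11060 := ded_43_1 (flp_i L131142) (flp_g L131092) L140103
theorem L140115 : sm gh N12071 = N11328 := ded_44_1 (flp_i L133551) (flp_h L125406) (flp_i L123373) (flp_h L131094) L140103
theorem L140117 : sm gi N11056 = N12072 := rfl
theorem L140119 : sm ga N12072 = N11068 := ded_16_1 (flp_i L131235) (flp_a L131100) L140117
theorem L140121 : sm gc N12072 = N11117 := ded_29_1 (flp_i L131781) (flp_c L131102) L140117
theorem L140123 : sm gd N12072 = N12072 := ded_34_1 (flp_i L140117) L131108 L140117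
theorem L140124 : sm ge N12072 = N11057 := ded_38_1 (flp_i L131111) L131098 L140117
theorem L140126 : sm gf N12072 = N11078 := ded_41_1 (flp_i L131355) (flp_f L131109) L140117
theorem L140128 : sm gg N12072 = N11061 := ded_43_1 (flp_i L131150) (flp_g L131104) L140117
theorem L140130 : sm gh N12072 = N11397 := ded_44_1 (flp_i L134131) L125960 (flp_i L123387) (flp_h L131106) L140117
theorem L140132 : sm ga N11058 = N12073 := rfl
theorem L140134 : sm gf N12073 = N11406 := ded_13_2 (flp_a L134203) (flp_f L131125) L140132
theorem L140136 : sm gg N12073 = N11250 := ded_14_2 (flp_a L140101) L140097 L140132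
theorem L140138 : sm gh N12073 = N11063 := ded_15_2 (flp_a L131172) (flp_h L131127) L140132
theorem L140140 : sm gb N12073 = N11069 := ded_9_2 (flp_a L131249) (flp_b L123483) (flp_a L123343) L131123 L140132
theorem L140142 : sm ge N11257 = N12073 := ded_36_3 L140136 L132944 L132997
theorem L140144 : sm ge N11058 = N12074 := rfl
theorem L140146 : sm ga N12074 = N11257 := ded_12_1 L140142 (flp_a L140132) L140144
theorem L140148 : sm gb N12074 = N11059 := ded_19_1 (flp_e L131129) L131123 L140144
theorem L140150 : sm gg N12074 = N11106 := ded_36_2 (flp_e L140093) L140097 L140144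
theorem L140152 : sm gh N12074 = N11064 := ded_37_2 (flp_e L131184) (flp_h L131127) L140144
theorem L140154 : sm gf N12074 = N12074 := ded_35_2 (flp_e L140144) L131125 L126042 (flp_f L131125) L140144
theorem L140155 : sm gd N11653 = N12074 := ded_11_0 L140146 L133001 (flp_a L136351)
theorem L140157 : sm gi N11058 = N12075 := rfl
theorem L140159 : sm gb N12075 = N11060 := ded_23_1 (flp_i L131142) L131123 L140157
theorem L140161 : sm gf N12075 = N11407 := ded_41_1 (flp_i L134212) (flp_f L131125) L140157
theorem L140163 : sm gi N11059 = N12076 := rfl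
theorem L140165 : sm ga N12076 = N11071 := ded_16_1 (flp_i L131271) (flp_a L131131) L140163
theorem L140167 : sm gc N12076 = N11061 := ded_29_1 (flp_i L131150) (flp_c L131133) L140163
theorem L140169 : sm gd N12076 = N11668 := ded_34_1 (flp_i L136457) L131140 L140163
theorem L140171 : sm ge N12076 = N11060 := ded_38_1 (flp_i L131142) L131129 L140163
theorem L140173 : sm gf N12076 = N12076 := ded_41_1 (flp_i L140163) L131139 L140163
theorem L140174 : sm gg N12076 = N11117 := ded_43_1 (flp_i L131781) (flp_g L131135) L140163
theorem L140176 : sm gi N11069 = N12077 := rfl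
theorem L140178 : sm ga N12077 = N11070 := ded_16_1 (flp_i L131260) L131249 L140176
theorem L140180 : sm gc N12077 = N12077 := ded_29_1 (flp_i L140176) L131251 L140176
theorem L140181 : sm ge N12077 = N11270 := ded_38_1 (flp_i L133105) (flp_e L131252) L140176
theorem L140183 : sm gf N12077 = N11408 := ded_41_1 (flp_i L134219) (flp_f L131254) L140176
theorem L140185 : sm gg N12077 = N11269 := ded_43_1 (flp_i L133096) (flp_g L131256) L140176
theorem L140187 : sm gi N11072 = N12078 := rfl
theorem L140189 : sm ga N12078 = N12078 := ded_16_1 (flp_i L140187) L131286 L140187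
theorem L140190 : sm gb N12078 = N11077 := ded_23_1 (flp_i L131343) (flp_b L131287) L140187
theorem L140192 : sm gc N12078 = N11779 := ded_29_1 (flp_i L137227) (flp_c L131289) L140187
theorem L140194 : sm ge N12078 = N11073 := ded_38_1 (flp_i L131296) (flp_e L131291) L140187
theorem L140196 : sm gf N12078 = N12078 := ded_41_1 (flp_i L140187) L131293 L140187
theorem L140197 : sm gg N12078 = N11593 := ded_43_1 (flp_i L135827) (flp_g L131294) L140187
theorem L140199 : sm gh N12078 = N12078 := ded_44_1 (flp_i L140187) (flp_h L131284) L123553 L131284 L140187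
theorem L140200 : sm ge N11074 = N12079 := rfl
theorem L140202 : sm ga N12079 = N12079 := ded_12_1 (flp_e L140200) L131312 L140200
theorem L140203 : sm gb N12079 = N11104 := ded_19_1 (flp_e L131644) (flp_b L131318) L140200
theorem L140205 : sm gc N12079 = N11075 := ded_25_1 (flp_e L131322) L131310 L140200
theorem L140207 : sm gg N12079 = N12079 := ded_36_2 (flp_e L140200) L131315 L140200
theorem L140208 : sm gh N12079 = N11482 := ded_37_2 (flp_e L134860) (flp_h L131316) L140200
theorem L140210 : sm gi N11074 = N12080 := rfl
theorem L140212 : sm ga N12080 = N12080 := ded_16_1 (flp_i L140210) L131312 L140210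
theorem L140213 : sm gb N12080 = N11105 := ded_23_1 (flp_i L131653) (flp_b L131318) L140210
theorem L140215 : sm gc N12080 = N11076 := ded_29_1 (flp_i L131331) L131310 L140210
theorem L140217 : sm gd N12080 = N11783 := ded_34_1 (flp_i L137268) (flp_d L131320) L140210
theorem L140219 : sm gf N12080 = N11588 := ded_41_1 (flp_i L135784) (flp_f L131313) L140210
theorem L140221 : sm gg N12080 = N12080 := ded_43_1 (flp_i L140210) L131315 L140210
theorem L140222 : sm gh N12080 = N11595 := ded_44_1 (flp_i L135854) (flp_h L127623) (flp_i L126646) (flp_h L131316) L140210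
theorem L140224 : sm gi N11075 = N12081 := rfl
theorem L140226 : sm ga N12081 = N12081 := ded_16_1 (flp_i L140224) L131324 L140224
theorem L140227 : sm gb N12081 = N11078 := ded_23_1 (flp_i L131355) (flp_b L131325) L140224
theorem L140229 : sm gd N12081 = N12081 := ded_34_1 (flp_i L140224) L131330 L140224
theorem L140230 : sm ge N12081 = N11076 := ded_38_1 (flp_i L131331) L131322 L140224
theorem L140232 : sm gg N12081 = N12081 := ded_43_1 (flp_i L140224) L131327 L140224
theorem L140233 : sm gh N12081 = N11601 := ded_44_1 (flp_i L135901) (flp_h L127657) (flp_i L126657) (flp_h L131328) L140224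
theorem L140235 : sm gc N11079 = N12082 := rfl
theorem L140237 : sm ga N12082 = N11085 := ded_10_1 (flp_c L131433) (flp_a L131369) L140235
theorem L140239 : sm ge N12082 = N11119 := ded_25_2 (flp_c L131800) (flp_e L131375) L140235
theorem L140241 : sm gf N12082 = N11488 := ded_26_2 (flp_c L135764) L135758 L140235
theorem L140243 : sm gg N12082 = N11081 := ded_27_2 (flp_c L131391) (flp_g L131373) L140235
theorem L140245 : sm gh N12082 = N12082 := ded_28_2 (flp_c L140235) L131377 L140235
theorem L140246 : sm gd N12082 = N11327 := ded_24_2 L133545 L125962 (flp_c L123643) L131367 L140235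
theorem L140248 : sm gi N11079 = N12083 := rfl
theorem L140250 : sm ga N12083 = N11086 := ded_16_1 (flp_i L131446) (flp_a L131369) L140248
theorem L140252 : sm gb N12083 = N11794 := ded_23_1 (flp_i L137378) (flp_b L131371) L140248
theorem L140254 : sm gd N12083 = N11080 := ded_34_1 (flp_i L131378) L131367 L140248
theorem L140256 : sm ge N12083 = N11120 := ded_38_1 (flp_i L131807) (flp_e L131375) L140248
theorem L140258 : sm gg N12083 = N11082 := ded_43_1 (flp_i L131399) (flp_g L131373) L140248
theorem L140260 : sm gb N11081 = N12084 := rfl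
theorem L140262 : sm ge N12084 = N11121 := ded_19_2 (flp_b L131817) (flp_e L131395) L140260
theorem L140264 : sm gf N12084 = N12084 := ded_20_2 (flp_b L140260) L131397 L140260
theorem L140265 : sm gh N12084 = N12084 := ded_22_2 (flp_b L140260) L131398 L140260
theorem L140266 : sm gc N12084 = N11795 := ded_17_2 (flp_b L137392) (flp_c L129055) (flp_b L123653) L131391 L140260
theorem L140268 : sm gi N11081 = N12085 := rfl
theorem L140270 : sm ga N12085 = N11088 := ded_16_1 (flp_i L131468) (flp_a L131393) L140268
theorem L140272 : sm gc N12085 = N11082 := ded_29_1 (flp_i L131399) L131391 L140268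
theorem L140274 : sm ge N12085 = N11122 := ded_38_1 (flp_i L131824) (flp_e L131395) L140268
theorem L140276 : sm gf N12085 = N12085 := ded_41_1 (flp_i L140268) L131397 L140268
theorem L140277 : sm gh N11082 = N12086 := rfl
theorem L140279 : sm ga N12086 = N11089 := ded_15_1 (flp_h L131475) (flp_a L131401) L140277
theorem L140281 : sm gb N12086 = N11797 := ded_22_1 (flp_h L137415) (flp_b L131403) L140277
theorem L140283 : sm ge N12086 = N11123 := ded_37_1 (flp_h L131832) (flp_e L131407) L140277
theorem L140285 : sm gf N12086 = N12086 := ded_40_1 (flp_h L140277) L131409 L140277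
theorem L140286 : sm gd N12086 = N12086 := ded_33_1 (flp_h L140277) L131405 L123668 (flp_d L131405) L140277
theorem L140287 : sm gi N12086 = N12086 := ded_44_2 (flp_h L140277) (flp_i L131399) L123658 L131399 L140277
theorem L140288 : sm gi N11083 = N12087 := rfl
theorem L140290 : sm gb N12087 = N11090 := ded_23_1 (flp_i L131484) (flp_b L131412) L140288
theorem L140292 : sm gc N12087 = N11132 := ded_29_1 L131926 (flp_c L131417) L140288
theorem L140294 : sm gd N12087 = N11084 := ded_34_1 (flp_i L131422) L131410 L140288
theorem L140296 : sm ge N12087 = N11231 := ded_38_1 L132772 L131420 L140288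
theorem L140298 : sm gf N12087 = N11086 := ded_41_1 (flp_i L131446) (flp_f L131414) L140288
theorem L140300 : sm gg N12087 = N12087 := ded_43_1 (flp_i L140288) L131416 L140288
theorem L140301 : sm gh N11685 = N12087 := ded_28_0 L140292 L131930 L136577
theorem L140303 : sm gi N11085 = N12088 := rfl
theorem L140305 : sm gb N12088 = N11283 := ded_23_1 L133210 (flp_b L131442) L140303
theorem L140307 : sm gc N12088 = N11086 := ded_29_1 (flp_i L131446) L131433 L140303
theorem L140309 : sm gd N12088 = N11131 := ded_34_1 L131919 (flp_d L131444) L140303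
theorem L140311 : sm ge N12088 = N11133 := ded_38_1 (flp_i L131932) (flp_e L131435) L140303
theorem L140313 : sm gf N12088 = N11132 := ded_41_1 L131926 (flp_f L131437) L140303
theorem L140315 : sm gg N12088 = N11088 := ded_43_1 (flp_i L131468) (flp_g L131439) L140303
theorem L140317 : sm gh N11684 = N12088 := ded_22_0 L140305 L133212 (flp_b L136572)
theorem L140319 : sm gh N11086 = N12089 := rfl
theorem L140321 : sm gb N12089 = N11091 := ded_22_1 (flp_h L131493) (flp_b L131448) L140319
theorem L140323 : sm gc N12089 = N11684 := ded_28_1 L140317 L140307 L140319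
theorem L140325 : sm ge N12089 = N11134 := ded_37_1 (flp_h L131938) (flp_e L131452) L140319
theorem L140327 : sm gf N12089 = N11685 := ded_40_1 L140301 L140298 L140319
theorem L140329 : sm gg N12089 = N11089 := ded_42_1 (flp_h L131475) (flp_g L131454) L140319
theorem L140331 : sm gd N12089 = N12089 := ded_33_1 (flp_h L140319) L131450 L123734 (flp_d L131450) L140319
theorem L140332 : sm gi N12089 = N12089 := ded_44_2 (flp_h L140319) (flp_i L131446) L123723 L131446 L140319
theorem L140333 : sm ga N11087 = N12090 := rfl
theorem L140335 : sm gc N12090 = N11092 := ded_10_2 (flp_a L131503) (flp_c L131466) L140333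
theorem L140337 : sm gd N12090 = N11539 := ded_11_2 L135389 (flp_d L131458) L140333
theorem L140339 : sm ge N12090 = N11135 := ded_12_2 (flp_a L131947) (flp_e L131460) L140333
theorem L140341 : sm gf N12090 = N12090 := ded_13_2 (flp_a L140333) L131462 L140333
theorem L140342 : sm gg N12090 = N11540 := ded_14_2 L135397 (flp_g L131463) L140333
theorem L140344 : sm gh N12090 = N12090 := ded_15_2 (flp_a L140333) L131465 L140333
theorem L140345 : sm gi N11087 = N12091 := rfl
theorem L140347 : sm gb N12091 = N11088 := ded_23_1 (flp_i L131468) L131456 L140345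
theorem L140349 : sm gc N12091 = N11093 := ded_29_1 (flp_i L131512) (flp_c L131466) L140345
theorem L140351 : sm gd N12091 = N11282 := ded_34_1 L133204 (flp_d L131458) L140345
theorem L140353 : sm ge N12091 = N11136 := ded_38_1 (flp_i L131954) (flp_e L131460) L140345
theorem L140355 : sm gf N12091 = N12091 := ded_41_1 (flp_i L140345) L131462 L140345
theorem L140356 : sm gg N12091 = N11283 := ded_43_1 L133210 (flp_g L131463) L140345
theorem L140358 : sm gh N11734 = N12091 := ded_33_0 L140351 (flp_h L133198) L125187 L128637 L136909
theorem L140360 : sm gh N11088 = N12092 := rfl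
theorem L140362 : sm gb N12092 = N11734 := ded_22_1 L140358 L140347 L140360
theorem L140364 : sm gc N12092 = N11089 := ded_28_1 (flp_h L131475) (flp_c L131470) L140360
theorem L140366 : sm ge N12092 = N11137 := ded_37_1 (flp_h L131962) (flp_e L131472) L140360
theorem L140368 : sm gf N12092 = N12092 := ded_40_1 (flp_h L140360) L131474 L140360
theorem L140369 : sm gg N12092 = N11684 := ded_42_1 L140317 L140315 L140360
theorem L140371 : sm gd N12092 = N11683 := ded_33_1 (flp_h L136561) (flp_d L131277) (flp_h L139484) L139477 L140360
theorem L140373 : sm gi N12092 = N12092 := ded_44_2 (flp_h L140360) (flp_i L131468) L123740 L131468 L140360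
theorem L140374 : sm gh N11090 = N12093 := rfl
theorem L140376 : sm ga N12093 = N11810 := ded_15_1 (flp_h L137580) (flp_a L131486) L140374
theorem L140378 : sm gb N12093 = N11685 := ded_22_1 L140301 L140290 L140374
theorem L140380 : sm gc N12093 = N11737 := ded_28_1 L137578 L137570 L140374
theorem L140382 : sm gf N12093 = N11091 := ded_40_1 (flp_h L131493) (flp_f L131490) L140374
theorem L140384 : sm gg N12093 = N12093 := ded_42_1 (flp_h L140374) L131492 L140374
theorem L140385 : sm gd N12093 = N12093 := ded_33_1 (flp_h L140374) L131488 L123767 (flp_d L131488) L140374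
theorem L140386 : sm gi N12093 = N12093 := ded_44_2 (flp_h L140374) (flp_i L131484) L123757 L131484 L140374
theorem L140387 : sm gi N11092 = N12094 := rfl
theorem L140389 : sm ga N12094 = N11093 := ded_16_1 (flp_i L131512) L131503 L140387
theorem L140391 : sm gb N12094 = N11814 := ded_23_1 (flp_i L137625) (flp_b L131510) L140387
theorem L140393 : sm gd N12094 = N12094 := ded_34_1 (flp_i L140387) L131505 L140387
theorem L140394 : sm ge N12094 = N11138 := ded_38_1 (flp_i L131969) (flp_e L131506) L140387
theorem L140396 : sm gf N12094 = N12094 := ded_41_1 (flp_i L140387) L131508 L140387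
theorem L140397 : sm gh N11093 = N12095 := rfl
theorem L140399 : sm gb N12095 = N11094 := ded_22_1 (flp_h L131520) (flp_b L131514) L140397
theorem L140401 : sm gc N12095 = N11734 := ded_28_1 L140358 L140349 L140397
theorem L140403 : sm ge N12095 = N11139 := ded_37_1 (flp_h L131979) (flp_e L131517) L140397
theorem L140405 : sm gf N12095 = N12095 := ded_40_1 (flp_h L140397) L131519 L140397
theorem L140406 : sm gg N12095 = N11735 := ded_42_1 L138596 L138594 L140397
theorem L140408 : sm gi N12095 = N12095 := ded_44_2 (flp_h L140397) (flp_i L131512) L123784 L131512 L140397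
theorem L140409 : sm gd N11774 = N12095 := ded_24_0 L140401 (flp_d L136909) L128639 L128865 L137192
theorem L140411 : sm gd N11094 = N12096 := rfl
theorem L140413 : sm ga N12096 = N11816 := ded_11_1 (flp_d L137641) (flp_a L131522) L140411
theorem L140415 : sm gb N12096 = N11774 := ded_18_1 L140409 L140399 L140411
theorem L140417 : sm gf N12096 = N12096 := ded_31_2 (flp_d L140411) L131528 L140411
theorem L140418 : sm gg N12096 = N11776 := ded_32_2 L138692 L138689 L140411
theorem L140420 : sm gi N12096 = N12096 := ded_34_2 (flp_d L140411) L131529 L140411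
theorem L140421 : sm gc N12096 = N12096 := ded_24_1 (flp_d L140411) L131524 L123802 (flp_c L131524) L140411
theorem L140422 : sm gh N12096 = N12096 := ded_33_2 (flp_d L140411) (flp_h L131520) L123791 L131520 L140411
theorem L140423 : sm gh N11095 = N12097 := rfl
theorem L140425 : sm ga N12097 = N11238 := ded_15_1 (flp_h L132831) (flp_a L131532) L140423
theorem L140427 : sm gb N12097 = N12097 := ded_22_1 (flp_h L140423) L131542 L140423
theorem L140428 : sm gc N12097 = N11096 := ded_28_1 (flp_h L131545) L131530 L140423
theorem L140430 : sm ge N12097 = N11246 := ded_37_1 L132904 (flp_e L131534) L140423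
theorem L140432 : sm gf N12097 = N11638 := ded_40_1 (flp_h L136224) (flp_f L131536) L140423
theorem L140434 : sm gg N12097 = N11248 := ded_42_1 L132927 (flp_g L131538) L140423
theorem L140436 : sm gd N11096 = N12098 := rfl
theorem L140438 : sm ga N12098 = N11239 := ded_11_1 (flp_d L132841) (flp_a L131547) L140436
theorem L140440 : sm gb N12098 = N11109 := ded_18_1 (flp_d L131696) (flp_b L131549) L140436
theorem L140442 : sm gf N12098 = N11639 := ded_31_2 (flp_d L136232) (flp_f L131553) L140436
theorem L140444 : sm gg N12098 = N11244 := ded_32_2 L132887 (flp_g L131555) L140436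
theorem L140446 : sm ge N12098 = N11241 := ded_30_2 (flp_d L132859) L124869 L124891 (flp_e L131551) L140436
theorem L140448 : sm gh N12098 = N11098 := ded_33_2 (flp_d L131569) (flp_h L123832) L123804 L131545 L140436
theorem L140450 : sm gi N11096 = N12099 := rfl
theorem L140452 : sm ga N12099 = N11240 := ded_16_1 (flp_i L132849) (flp_a L131547) L140450
theorem L140454 : sm gb N12099 = N11110 := ded_23_1 (flp_i L131708) (flp_b L131549) L140450
theorem L140456 : sm ge N12099 = N11247 := ded_38_1 (flp_i L132909) (flp_e L131551) L140450
theorem L140458 : sm gf N12099 = N11640 := ded_41_1 (flp_i L136240) (flp_f L131553) L140450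
theorem L140460 : sm gg N12099 = N11251 := ded_43_1 (flp_i L132946) (flp_g L131555) L140450
theorem L140462 : sm gh N12099 = N11145 := ded_44_1 (flp_i L132036) (flp_h L124245) (flp_i L123812) L131545 L140450
theorem L140464 : sm gd N11097 = N12100 := rfl
theorem L140466 : sm ga N12100 = N11241 := ded_11_1 (flp_d L132859) (flp_a L131559) L140464
theorem L140468 : sm gb N12100 = N11111 := ded_18_1 (flp_d L131721) (flp_b L131561) L140464
theorem L140470 : sm gg N12100 = N11098 := ded_32_2 (flp_d L131569) (flp_g L131567) L140464
theorem L140472 : sm ge N12100 = N11239 := ded_30_2 (flp_d L132841) L124859 (flp_d L123855) (flp_e L131565) L140464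
theorem L140474 : sm gh N12100 = N11244 := ded_33_2 L132887 L124926 (flp_d L123826) L131557 L140464
theorem L140476 : sm gi N11097 = N12101 := rfl
theorem L140478 : sm ga N12101 = N11242 := ded_16_1 (flp_i L132865) (flp_a L131559) L140476
theorem L140480 : sm gb N12101 = N11112 := ded_23_1 (flp_i L131731) (flp_b L131561) L140476
theorem L140482 : sm gc N12101 = N11824 := ded_29_1 (flp_i L137720) (flp_c L131563) L140476
theorem L140484 : sm ge N12101 = N11100 := ded_38_1 (flp_i L131591) (flp_e L131565) L140476
theorem L140486 : sm gg N12101 = N11099 := ded_43_1 (flp_i L131577) (flp_g L131567) L140476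
theorem L140488 : sm gh N12101 = N11148 := ded_44_1 (flp_i L132063) (flp_h L124262) (flp_i L123830) L131557 L140476
theorem L140490 : sm gc N11098 = N12102 := rfl
theorem L140492 : sm ga N12102 = N11243 := ded_10_1 (flp_c L132877) (flp_a L131571) L140490
theorem L140494 : sm gf N12102 = N11641 := ded_26_2 (flp_c L136247) (flp_f L131575) L140490
theorem L140496 : sm gd N12102 = N11825 := ded_24_2 (flp_c L137732) (flp_d L129329) (flp_c L123838) L131569 L140490
theorem L140498 : sm ge N11098 = N12103 := rfl
theorem L140500 : sm ga N12103 = N11244 := ded_12_1 (flp_e L132883) (flp_a L131571) L140498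
theorem L140502 : sm gb N12103 = N11114 := ded_19_1 (flp_e L131751) (flp_b L131573) L140498
theorem L140504 : sm gg N12103 = N11239 := ded_36_2 (flp_e L140472) L140470 L140498
theorem L140506 : sm gh N12103 = N11241 := ded_37_2 (flp_e L140446) L140448 L140498
theorem L140508 : sm gd N12103 = N11102 := ded_30_1 (flp_e L131620) (flp_d L123857) (flp_e L123840) L131569 L140498
theorem L140510 : sm gi N11098 = N12104 := rfl
theorem L140512 : sm ga N12104 = N11245 := ded_16_1 (flp_i L132889) (flp_a L131571) L140510
theorem L140514 : sm gb N12104 = N11115 := ded_23_1 (flp_i L131761) (flp_b L131573) L140510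
theorem L140516 : sm gd N12104 = N11099 := ded_34_1 (flp_i L131577) L131569 L140510
theorem L140518 : sm gf N12104 = N11643 := ded_41_1 (flp_i L136261) (flp_f L131575) L140510
theorem L140520 : sm ge N11101 = N12105 := rfl
theorem L140522 : sm ga N12105 = N11248 := ded_12_1 (flp_e L132922) (flp_a L131608) L140520
theorem L140524 : sm gb N12105 = N11389 := ded_19_1 L134064 (flp_b L131616) L140520
theorem L140526 : sm gc N12105 = N11102 := ded_25_1 (flp_e L131620) L131606 L140520
theorem L140528 : sm gg N12105 = N11238 := ded_36_2 L132837 (flp_g L131612) L140520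
theorem L140530 : sm gh N12105 = N11237 := ded_37_2 L132827 (flp_h L131614) L140520
theorem L140532 : sm gi N11101 = N12106 := rfl
theorem L140534 : sm ga N12106 = N11249 := ded_16_1 (flp_i L132929) (flp_a L131608) L140532
theorem L140536 : sm gb N12106 = N11588 := ded_23_1 (flp_i L135784) (flp_b L131616) L140532
theorem L140538 : sm gc N12106 = N11103 := ded_29_1 (flp_i L131630) L131606 L140532
theorem L140540 : sm gd N12106 = N11831 := ded_34_1 (flp_i L137785) (flp_d L131618) L140532
theorem L140542 : sm gf N12106 = N11105 := ded_41_1 (flp_i L131653) (flp_f L131610) L140532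
theorem L140544 : sm gg N12106 = N11526 := ded_43_1 (flp_i L135279) (flp_g L131612) L140532
theorem L140546 : sm gh N12106 = N11543 := ded_44_1 (flp_i L135420) (flp_h L127224) (flp_i L126680) (flp_h L131614) L140532
theorem L140548 : sm gi N11102 = N12107 := rfl
theorem L140550 : sm ga N12107 = N11251 := ded_16_1 (flp_i L132946) (flp_a L131622) L140548
theorem L140552 : sm gb N12107 = N11116 := ded_23_1 (flp_i L131769) (flp_b L131624) L140548
theorem L140554 : sm ge N12107 = N11103 := ded_38_1 (flp_i L131630) L131620 L140548
theorem L140556 : sm gg N12107 = N11240 := ded_43_1 (flp_i L132849) (flp_g L131626) L140548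
theorem L140558 : sm gh N12107 = N11292 := ded_44_1 (flp_i L133279) (flp_h L125230) (flp_i L124853) (flp_h L131628) L140548
theorem L140560 : sm gd N11104 = N12108 := rfl
theorem L140562 : sm ga N12108 = N11253 := ded_11_1 (flp_d L132966) (flp_a L131646) L140560
theorem L140564 : sm gg N12108 = N12108 := ded_32_2 (flp_d L140560) L131650 L140560
theorem L140565 : sm gc N12108 = N11649 := ded_24_1 (flp_d L136314) L128149 (flp_d L123899) (flp_c L131648) L140560
theorem L140567 : sm ge N12108 = N11835 := ded_30_2 (flp_d L137821) (flp_e L129394) (flp_d L123888) L131644 L140560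
theorem L140569 : sm gf N11104 = N12109 := rfl
theorem L140571 : sm ga N12109 = N11254 := ded_13_1 (flp_f L132974) (flp_a L131646) L140569
theorem L140573 : sm gc N12109 = N11106 := ded_26_1 (flp_f L131662) (flp_c L131648) L140569
theorem L140575 : sm gh N12109 = N11484 := ded_40_2 (flp_f L134877) (flp_h L131651) L140569
theorem L140577 : sm gi N11104 = N12110 := rfl
theorem L140579 : sm ga N12110 = N11255 := ded_16_1 (flp_i L132981) (flp_a L131646) L140577
theorem L140581 : sm gc N12110 = N11107 := ded_29_1 (flp_i L131672) (flp_c L131648) L140577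
theorem L140583 : sm ge N12110 = N11105 := ded_38_1 (flp_i L131653) L131644 L140577
theorem L140585 : sm gg N12110 = N12110 := ded_43_1 (flp_i L140577) L131650 L140577
theorem L140586 : sm gh N11105 = N12111 := rfl
theorem L140588 : sm ga N12111 = N11256 := ded_15_1 (flp_h L132989) (flp_a L131655) L140586
theorem L140590 : sm gb N12111 = N11595 := ded_22_1 (flp_h L140222) L140213 L140586
theorem L140592 : sm gc N12111 = N11108 := ded_28_1 (flp_h L131683) (flp_c L131657) L140586
theorem L140594 : sm gf N12111 = N11543 := ded_40_1 (flp_h L140546) L140542 L140586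
theorem L140596 : sm gg N12111 = N12111 := ded_42_1 (flp_h L140586) L131661 L140586
theorem L140597 : sm gi N12111 = N11486 := ded_44_2 (flp_h L134894) (flp_i L126692) (flp_h L123886) L131653 L140586
theorem L140599 : sm gi N11106 = N12112 := rfl
theorem L140601 : sm ga N12112 = N11258 := ded_16_1 (flp_i L133006) (flp_a L131664) L140599
theorem L140603 : sm gb N12112 = N11117 := ded_23_1 (flp_i L131781) (flp_b L131666) L140599
theorem L140605 : sm gd N12112 = N11654 := ded_34_1 (flp_i L136357) (flp_d L131668) L140599
theorem L140607 : sm gf N12112 = N11107 := ded_41_1 (flp_i L131672) L131662 L140599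
theorem L140609 : sm gh N11107 = N12113 := rfl
theorem L140611 : sm ga N12113 = N11259 := ded_15_1 (flp_h L133014) (flp_a L131674) L140609
theorem L140613 : sm gb N12113 = N11118 := ded_22_1 (flp_h L131789) (flp_b L131676) L140609
theorem L140615 : sm ge N12113 = N11108 := ded_37_1 (flp_h L131683) (flp_e L131680) L140609
theorem L140617 : sm gg N12113 = N12113 := ded_42_1 (flp_h L140609) L131682 L140609
theorem L140618 : sm gi N12113 = N11487 := ded_44_2 (flp_h L134905) (flp_i L126711) (flp_h L123897) L131672 L140609
theorem L140620 : sm gi N11109 = N12114 := rfl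
theorem L140622 : sm ga N12114 = N11124 := ded_16_1 (flp_i L131843) (flp_a L131698) L140620
theorem L140624 : sm gd N12114 = N11110 := ded_34_1 (flp_i L131708) L131696 L140620
theorem L140626 : sm ge N12114 = N11262 := ded_38_1 (flp_i L133041) (flp_e L131704) L140620
theorem L140628 : sm gf N12114 = N11658 := ded_41_1 (flp_i L136389) (flp_f L131700) L140620
theorem L140630 : sm gg N12114 = N11267 := ded_43_1 (flp_i L133080) (flp_g L131702) L140620
theorem L140632 : sm gc N11111 = N12115 := rfl
theorem L140634 : sm ga N12115 = N11125 := ded_10_1 (flp_c L131855) (flp_a L131723) L140632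
theorem L140636 : sm ge N12115 = N11260 := ded_25_2 (flp_c L133023) (flp_e L131727) L140632
theorem L140638 : sm gg N12115 = N11113 := ded_27_2 (flp_c L131743) (flp_g L131725) L140632
theorem L140640 : sm gh N12115 = N11264 := ded_28_2 L133059 (flp_h L131729) L140632
theorem L140642 : sm gd N12115 = N11119 := ded_24_2 (flp_c L131800) (flp_d L124016) (flp_c L123925) L131721 L140632
theorem L140644 : sm gi N11111 = N12116 := rfl
theorem L140646 : sm ga N12116 = N11126 := ded_16_1 (flp_i L131865) (flp_a L131723) L140644
theorem L140648 : sm gd N12116 = N11112 := ded_34_1 (flp_i L131731) L131721 L140644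
theorem L140650 : sm ge N12116 = N11261 := ded_38_1 (flp_i L133033) (flp_e L131727) L140644
theorem L140652 : sm gg N12116 = N11115 := ded_43_1 (flp_i L131761) (flp_g L131725) L140644
theorem L140654 : sm gb N11113 = N12117 := rfl
theorem L140656 : sm gd N12117 = N11121 := ded_18_2 (flp_b L131817) (flp_d L131749) L140654
theorem L140658 : sm gf N12117 = N11659 := ded_20_2 (flp_b L136395) (flp_f L131747) L140654
theorem L140660 : sm gi N11113 = N12118 := rfl
theorem L140662 : sm ga N12118 = N11128 := ded_16_1 (flp_i L131883) (flp_a L131745) L140660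
theorem L140664 : sm gc N12118 = N11115 := ded_29_1 (flp_i L131761) L131743 L140660
theorem L140666 : sm gd N12118 = N11122 := ded_34_1 (flp_i L131824) (flp_d L131749) L140660
theorem L140668 : sm gf N12118 = N11661 := ded_41_1 (flp_i L136406) (flp_f L131747) L140660
theorem L140670 : sm gi N11114 = N12119 := rfl
theorem L140672 : sm ga N12119 = N11129 := ded_16_1 (flp_i L131891) (flp_a L131753) L140670
theorem L140674 : sm gd N12119 = N11116 := ded_34_1 (flp_i L131769) (flp_d L131759) L140670
theorem L140676 : sm ge N12119 = N11115 := ded_38_1 (flp_i L131761) L131751 L140670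
theorem L140678 : sm gg N12119 = N11261 := ded_43_1 (flp_i L133033) (flp_g L131755) L140670
theorem L140680 : sm gh N11115 = N12120 := rfl
theorem L140682 : sm ga N12120 = N11130 := ded_15_1 (flp_h L131901) (flp_a L131763) L140680
theorem L140684 : sm gf N12120 = N11664 := ded_40_1 (flp_h L136428) (flp_f L131767) L140680
theorem L140686 : sm gd N12120 = N11183 := ded_33_1 (flp_h L132366) L124451 (flp_h L123947) (flp_d L131765) L140680
theorem L140688 : sm gh N11117 = N12121 := rfl
theorem L140690 : sm ga N12121 = N11131 := ded_15_1 (flp_h L131909) (flp_a L131783) L140688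
theorem L140692 : sm gc N12121 = N11397 := ded_28_1 (flp_h L140130) L140121 L140688
theorem L140694 : sm ge N12121 = N11328 := ded_37_1 (flp_h L140115) L140109 L140688
theorem L140696 : sm gf N12121 = N11118 := ded_40_1 (flp_h L131789) (flp_f L131787) L140688
theorem L140698 : sm gi N12121 = N11327 := ded_44_2 (flp_h L133541) L125401 (flp_h L123992) L131781 L140688
theorem L140700 : sm gd N11118 = N12122 := rfl
theorem L140702 : sm ga N12122 = N11132 := ded_11_1 (flp_d L131921) (flp_a L131791) L140700
theorem L140704 : sm gg N12122 = N12122 := ded_32_2 (flp_d L140700) L131797 L140700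
theorem L140705 : sm gi N12122 = N11488 := ded_34_2 (flp_d L134914) (flp_i L131798) L140700
theorem L140707 : sm ge N12122 = N11191 := ded_30_2 (flp_d L132435) L124523 (flp_d L124012) (flp_e L131795) L140700
theorem L140709 : sm gh N12122 = N11670 := ded_33_2 (flp_d L136473) (flp_h L128254) (flp_d L123998) L131789 L140700
theorem L140711 : sm gb N11119 = N12123 := rfl
theorem L140713 : sm gg N12123 = N11121 := ded_21_2 (flp_b L131817) (flp_g L131804) L140711
theorem L140715 : sm gh N12123 = N12123 := ded_22_2 (flp_b L140711) L131806 L140711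
theorem L140716 : sm gc N12123 = N11870 := ded_17_2 (flp_b L138145) (flp_c L129615) (flp_b L124020) L131800 L140711
theorem L140718 : sm gi N11119 = N12124 := rfl
theorem L140720 : sm ga N12124 = N11133 := ded_16_1 (flp_i L131932) (flp_a L131802) L140718
theorem L140722 : sm gc N12124 = N11120 := ded_29_1 (flp_i L131807) L131800 L140718
theorem L140724 : sm gg N12124 = N11122 := ded_43_1 (flp_i L131824) (flp_g L131804) L140718
theorem L140726 : sm gh N11120 = N12125 := rfl
theorem L140728 : sm ga N12125 = N11134 := ded_15_1 (flp_h L131938) (flp_a L131809) L140726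
theorem L140730 : sm gb N12125 = N11872 := ded_22_1 (flp_h L138162) (flp_b L131811) L140726
theorem L140732 : sm gg N12125 = N11123 := ded_42_1 (flp_h L131832) (flp_g L131815) L140726
theorem L140734 : sm gd N12125 = N11194 := ded_33_1 (flp_h L132459) L124549 (flp_h L124035) (flp_d L131813) L140726
theorem L140736 : sm gi N12125 = N12125 := ded_44_2 (flp_h L140726) (flp_i L131807) L124024 L131807 L140726
theorem L140737 : sm ga N11121 = N12126 := rfl
theorem L140739 : sm gc N12126 = N11873 := ded_10_2 (flp_a L138171) (flp_c L131822) L140737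
theorem L140741 : sm gf N12126 = N11192 := ded_13_2 L132448 (flp_f L131819) L140737
theorem L140743 : sm gh N12126 = N12126 := ded_15_2 (flp_a L140737) L131821 L140737
theorem L140744 : sm gb N12126 = N11135 := ded_9_2 (flp_a L131947) (flp_b L124169) (flp_a L124039) L131817 L140737
theorem L140746 : sm gi N11121 = N12127 := rfl
theorem L140748 : sm gb N12127 = N11122 := ded_23_1 (flp_i L131824) L131817 L140746
theorem L140750 : sm gc N12127 = N11874 := ded_29_1 (flp_i L138178) (flp_c L131822) L140746
theorem L140752 : sm gf N12127 = N11671 := ded_41_1 (flp_i L136479) (flp_f L131819) L140746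
theorem L140754 : sm gh N11122 = N12128 := rfl
theorem L140756 : sm ga N12128 = N11137 := ded_15_1 (flp_h L131962) (flp_a L131826) L140754
theorem L140758 : sm gc N12128 = N11123 := ded_28_1 (flp_h L131832) (flp_c L131828) L140754
theorem L140760 : sm gf N12128 = N11672 := ded_40_1 (flp_h L136486) (flp_f L131830) L140754
theorem L140762 : sm gi N12128 = N12128 := ded_44_2 (flp_h L140754) (flp_i L131824) L124043 L131824 L140754
theorem L140763 : sm gh N11124 = N12129 := rfl
theorem L140765 : sm gb N12129 = N11275 := ded_22_1 (flp_h L133152) (flp_b L131845) L140763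
theorem L140767 : sm ge N12129 = N11276 := ded_37_1 (flp_h L133160) (flp_e L131849) L140763
theorem L140769 : sm gf N12129 = N11675 := ded_40_1 (flp_h L136506) (flp_f L131851) L140763
theorem L140771 : sm gg N12129 = N11281 := ded_42_1 (flp_h L133194) (flp_g L131853) L140763
theorem L140773 : sm gd N12129 = N11207 := ded_33_1 (flp_h L132572) L124620 (flp_h L124077) (flp_d L131847) L140763
theorem L140775 : sm gi N12129 = N11130 := ded_44_2 (flp_h L131901) (flp_i L124117) (flp_h L124064) L131843 L140763
theorem L140777 : sm gi N11125 = N12130 := rfl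
theorem L140779 : sm gc N12130 = N11126 := ded_29_1 (flp_i L131865) L131855 L140777
theorem L140781 : sm gd N12130 = N11133 := ded_34_1 (flp_i L131932) (flp_d L131863) L140777
theorem L140783 : sm ge N12130 = N11274 := ded_38_1 (flp_i L133144) (flp_e L131857) L140777
theorem L140785 : sm gg N12130 = N11128 := ded_43_1 (flp_i L131883) (flp_g L131859) L140777
theorem L140787 : sm gh N11126 = N12131 := rfl
theorem L140789 : sm gb N12131 = N11276 := ded_22_1 (flp_h L133160) (flp_b L131867) L140787
theorem L140791 : sm ge N12131 = N11275 := ded_37_1 (flp_h L133152) (flp_e L131871) L140787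
theorem L140793 : sm gg N12131 = N11130 := ded_42_1 (flp_h L131901) (flp_g L131873) L140787
theorem L140795 : sm gd N12131 = N11214 := ded_33_1 (flp_h L132630) L124659 (flp_h L124099) (flp_d L131869) L140787
theorem L140797 : sm gi N12131 = N11281 := ded_44_2 (flp_h L133194) (flp_i L125165) (flp_h L124087) L131865 L140787
theorem L140799 : sm ga N11127 = N12132 := rfl
theorem L140801 : sm gc N12132 = N11173 := ded_10_2 L132294 (flp_c L131881) L140799
theorem L140803 : sm gd N12132 = N11135 := ded_11_2 (flp_a L131947) (flp_d L131877) L140799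
theorem L140805 : sm gf N12132 = N11175 := ded_13_2 L132309 (flp_f L131879) L140799
theorem L140807 : sm gi N11127 = N12133 := rfl
theorem L140809 : sm gb N12133 = N11128 := ded_23_1 (flp_i L131883) L131875 L140807
theorem L140811 : sm gc N12133 = N11209 := ded_29_1 (flp_i L132583) (flp_c L131881) L140807
theorem L140813 : sm gd N12133 = N11136 := ded_34_1 (flp_i L131954) (flp_d L131877) L140807
theorem L140815 : sm gf N12133 = N11211 := ded_41_1 (flp_i L132602) (flp_f L131879) L140807
theorem L140817 : sm gh N11128 = N12134 := rfl
theorem L140819 : sm gc N12134 = N11130 := ded_28_1 (flp_h L131901) (flp_c L131885) L140817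
theorem L140821 : sm gf N12134 = N11677 := ded_40_1 (flp_h L136519) (flp_f L131889) L140817
theorem L140823 : sm gh N11129 = N12135 := rfl
theorem L140825 : sm gb N12135 = N11281 := ded_22_1 (flp_h L133194) (flp_b L131893) L140823
theorem L140827 : sm ge N12135 = N11130 := ded_37_1 (flp_h L131901) (flp_e L131897) L140823
theorem L140829 : sm gg N12135 = N11275 := ded_42_1 (flp_h L133152) (flp_g L131899) L140823
theorem L140831 : sm gd N12135 = N11360 := ded_33_1 (flp_h L133842) L125664 (flp_h L124135) (flp_d L131895) L140823
theorem L140833 : sm gi N12135 = N11276 := ded_44_2 (flp_h L133160) (flp_i L125140) (flp_h L124113) L131891 L140823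
theorem L140835 : sm gh N11133 = N12136 := rfl
theorem L140837 : sm gb N12136 = N11736 := ded_22_1 L138581 L138571 L140835
theorem L140839 : sm gc N12136 = N11134 := ded_28_1 (flp_h L131938) (flp_c L131934) L140835
theorem L140841 : sm ge N12136 = N11684 := ded_37_1 L140317 L140311 L140835
theorem L140843 : sm gg N12136 = N11137 := ded_42_1 (flp_h L131962) (flp_g L131936) L140835
theorem L140845 : sm gi N12136 = N12136 := ded_44_2 (flp_h L140835) (flp_i L131932) L124160 L131932 L140835
theorem L140846 : sm gi N11135 = N12137 := rfl
theorem L140848 : sm ga N12137 = N11136 := ded_16_1 (flp_i L131954) L131947 L140846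
theorem L140850 : sm gc N12137 = N11138 := ded_29_1 (flp_i L131969) (flp_c L131949) L140846
theorem L140852 : sm gf N12137 = N11193 := ded_41_1 (flp_i L132450) (flp_f L131951) L140846
theorem L140854 : sm gh N11136 = N12138 := rfl
theorem L140856 : sm gb N12138 = N11137 := ded_22_1 (flp_h L131962) (flp_b L131956) L140854
theorem L140858 : sm gc N12138 = N11139 := ded_28_1 (flp_h L131979) (flp_c L131958) L140854
theorem L140860 : sm ge N12138 = N11734 := ded_37_1 L140358 L140353 L140854
theorem L140862 : sm gf N12138 = N11232 := ded_40_1 (flp_h L132775) (flp_f L131960) L140854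
theorem L140864 : sm gg N12138 = N11736 := ded_42_1 L138581 L138579 L140854
theorem L140866 : sm gi N12138 = N12138 := ded_44_2 (flp_h L140854) (flp_i L131954) L124173 L131954 L140854
theorem L140867 : sm gd N11137 = N12139 := rfl
theorem L140869 : sm gf N12139 = N11686 := ded_31_2 (flp_d L136582) (flp_f L131966) L140867
theorem L140871 : sm gi N12139 = N12139 := ded_34_2 (flp_d L140867) L131968 L140867
theorem L140872 : sm gc N12139 = N11235 := ded_24_1 (flp_d L132804) L124808 (flp_d L124188) (flp_c L131964) L140867
theorem L140874 : sm gh N11138 = N12140 := rfl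
theorem L140876 : sm ga N12140 = N11139 := ded_15_1 (flp_h L131979) (flp_a L131971) L140874
theorem L140878 : sm gb N12140 = N11922 := ded_22_1 (flp_h L138717) (flp_b L131973) L140874
theorem L140880 : sm gf N12140 = N11194 := ded_40_1 (flp_h L132459) (flp_f L131977) L140874
theorem L140882 : sm gi N12140 = N12140 := ded_44_2 (flp_h L140874) (flp_i L131969) L124206 L131969 L140874
theorem L140883 : sm gf N11140 = N12141 := rfl
theorem L140885 : sm ga N12141 = N11285 := ded_13_1 (flp_f L133224) (flp_a L131988) L140883
theorem L140887 : sm gb N12141 = N12141 := ded_20_1 (flp_f L140883) L131990 L140883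
theorem L140888 : sm gc N12141 = N11142 := ded_26_1 (flp_f L132006) (flp_c L131991) L140883
theorem L140890 : sm gd N12141 = N12066 := ded_31_1 L140050 L134197 L140883
theorem L140892 : sm gi N12141 = N11528 := ded_41_2 (flp_f L135300) (flp_i L131995) L140883
theorem L140894 : sm ge N12141 = N11533 := ded_35_1 L135338 L127153 L126759 (flp_e L131993) L140883
theorem L140896 : sm gh N11140 = N12142 := rfl
theorem L140898 : sm ga N12142 = N11286 := ded_15_1 (flp_h L133232) (flp_a L131988) L140896
theorem L140900 : sm gb N12142 = N12142 := ded_22_1 (flp_h L140896) L131990 L140896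
theorem L140901 : sm gc N12142 = N11143 := ded_28_1 (flp_h L132018) (flp_c L131991) L140896
theorem L140903 : sm ge N12142 = N11489 := ded_37_1 (flp_h L134922) (flp_e L131993) L140896
theorem L140905 : sm gg N12142 = N11141 := ded_42_1 (flp_h L131997) L131986 L140896
theorem L140907 : sm gd N11141 = N12143 := rfl
theorem L140909 : sm ga N12143 = N11287 := ded_11_1 (flp_d L133242) (flp_a L131999) L140907
theorem L140911 : sm gb N12143 = N12143 := ded_18_1 (flp_d L140907) L132001 L140907
theorem L140912 : sm gi N11141 = N12144 := rfl
theorem L140914 : sm ga N12144 = N11288 := ded_16_1 (flp_i L133246) (flp_a L131999) L140912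
theorem L140916 : sm gb N12144 = N12144 := ded_23_1 (flp_i L140912) L132001 L140912
theorem L140917 : sm gc N12144 = N11145 := ded_29_1 (flp_i L132036) (flp_c L132002) L140912
theorem L140919 : sm ge N12144 = N11491 := ded_38_1 (flp_i L134940) (flp_e L132004) L140912
theorem L140921 : sm gh N11142 = N12145 := rfl
theorem L140923 : sm ga N12145 = N11290 := ded_15_1 (flp_h L133265) (flp_a L132008) L140921
theorem L140925 : sm gb N12145 = N11167 := ded_22_1 (flp_h L132239) (flp_b L132010) L140921
theorem L140927 : sm ge N12145 = N11537 := ded_37_1 (flp_h L135371) (flp_e L132016) L140921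
theorem L140929 : sm gf N12145 = N11143 := ded_40_1 (flp_h L132018) L132006 L140921
theorem L140931 : sm gd N11143 = N12146 := rfl
theorem L140933 : sm ga N12146 = N11291 := ded_11_1 (flp_d L133271) (flp_a L132020) L140931
theorem L140935 : sm gb N12146 = N11168 := ded_18_1 (flp_d L132248) (flp_b L132022) L140931
theorem L140937 : sm gg N12146 = N11144 := ded_32_2 (flp_d L132028) (flp_g L132026) L140931
theorem L140939 : sm ge N12146 = N11566 := ded_30_2 (flp_d L135580) L127342 (flp_d L126779) (flp_e L132024) L140931
theorem L140941 : sm gh N12146 = N11147 := ded_33_2 (flp_d L132055) (flp_h L124262) (flp_d L124239) L132018 L140931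
theorem L140943 : sm gi N11143 = N12147 := rfl
theorem L140945 : sm ga N12147 = N11292 := ded_16_1 (flp_i L133279) (flp_a L132020) L140943
theorem L140947 : sm gb N12147 = N11169 := ded_23_1 (flp_i L132258) (flp_b L132022) L140943
theorem L140949 : sm ge N12147 = N11252 := ded_38_1 L132964 (flp_e L132024) L140943
theorem L140951 : sm gg N12147 = N11145 := ded_43_1 (flp_i L132036) (flp_g L132026) L140943
theorem L140953 : sm gh N12147 = N11251 := ded_44_1 (flp_i L132946) L124926 (flp_i L124243) L132018 L140943
theorem L140955 : sm gc N11144 = N12148 := rfl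
theorem L140957 : sm ga N12148 = N11293 := ded_10_1 (flp_c L133287) (flp_a L132030) L140955
theorem L140959 : sm gh N12148 = N11149 := ded_28_2 (flp_c L132073) (flp_h L132034) L140955
theorem L140961 : sm ge N11144 = N12149 := rfl
theorem L140963 : sm ga N12149 = N11294 := ded_12_1 (flp_e L133291) (flp_a L132030) L140961
theorem L140965 : sm gb N12149 = N11171 := ded_19_1 (flp_e L132276) (flp_b L132032) L140961
theorem L140967 : sm gg N12149 = N11566 := ded_36_2 (flp_e L140939) L140937 L140961
theorem L140969 : sm gh N12149 = N11150 := ded_37_2 (flp_e L132077) (flp_h L132034) L140961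
theorem L140971 : sm gd N12149 = N11493 := ded_30_1 (flp_e L134959) (flp_d L126781) (flp_e L124251) L132028 L140961
theorem L140973 : sm gi N11144 = N12150 := rfl
theorem L140975 : sm ga N12150 = N11295 := ded_16_1 (flp_i L133299) (flp_a L132030) L140973
theorem L140977 : sm gb N12150 = N11172 := ded_23_1 (flp_i L132286) (flp_b L132032) L140973
theorem L140979 : sm gd N12150 = N11145 := ded_34_1 (flp_i L132036) L132028 L140973
theorem L140981 : sm gd N11146 = N12151 := rfl
theorem L140983 : sm ga N12151 = N11263 := ded_11_1 L133051 (flp_a L132046) L140981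
theorem L140985 : sm gb N12151 = N11173 := ded_18_1 (flp_d L132292) (flp_b L132048) L140981
theorem L140987 : sm gf N12151 = N11147 := ded_31_2 (flp_d L132055) (flp_f L132053) L140981
theorem L140989 : sm gi N11146 = N12152 := rfl
theorem L140991 : sm ga N12152 = N11273 := ded_16_1 (flp_i L133135) (flp_a L132046) L140989
theorem L140993 : sm gb N12152 = N11174 := ded_23_1 (flp_i L132298) (flp_b L132048) L140989
theorem L140995 : sm gc N12152 = N12007 := ded_29_1 (flp_i L139462) (flp_c L132050) L140989
theorem L140997 : sm ge N12152 = N12152 := ded_38_1 (flp_i L140989) L132052 L140989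
theorem L140998 : sm gf N12152 = N11148 := ded_41_1 (flp_i L132063) (flp_f L132053) L140989
theorem L141000 : sm gc N11147 = N12153 := rfl
theorem L141002 : sm ga N12153 = N11296 := ded_10_1 (flp_c L133305) (flp_a L132057) L141000
theorem L141004 : sm gg N12153 = N11149 := ded_27_2 (flp_c L132073) (flp_g L132061) L141000
theorem L141006 : sm ge N11147 = N12154 := rfl
theorem L141008 : sm ga N12154 = N11297 := ded_12_1 (flp_e L133311) (flp_a L132057) L141006
theorem L141010 : sm gb N12154 = N11176 := ded_19_1 (flp_e L132315) (flp_b L132059) L141006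
theorem L141012 : sm gg N12154 = N11150 := ded_36_2 (flp_e L132077) (flp_g L132061) L141006
theorem L141014 : sm gh N12154 = N11566 := ded_37_2 (flp_e L140939) L140941 L141006
theorem L141016 : sm gd N12154 = N11153 := ded_30_1 (flp_e L132103) (flp_d L124286) (flp_e L124268) L132055 L141006
theorem L141018 : sm gi N11147 = N12155 := rfl
theorem L141020 : sm ga N12155 = N11298 := ded_16_1 (flp_i L133319) (flp_a L132057) L141018
theorem L141022 : sm gb N12155 = N11177 := ded_23_1 (flp_i L132325) (flp_b L132059) L141018
theorem L141024 : sm gd N12155 = N11148 := ded_34_1 (flp_i L132063) L132055 L141018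
theorem L141026 : sm gg N12155 = N11151 := ded_43_1 (flp_i L132085) (flp_g L132061) L141018
theorem L141028 : sm gb N11149 = N12156 := rfl
theorem L141030 : sm gc N12156 = N11178 := ded_17_2 (flp_b L132333) (flp_c L124435) (flp_b L124276) L132073 L141028
theorem L141032 : sm ge N11149 = N12157 := rfl
theorem L141034 : sm ga N12157 = N11300 := ded_12_1 (flp_e L133335) (flp_a L132075) L141032
theorem L141036 : sm gc N12157 = N11150 := ded_25_1 (flp_e L132077) L132073 L141032
theorem L141038 : sm gi N11149 = N12158 := rfl
theorem L141040 : sm ga N12158 = N11301 := ded_16_1 (flp_i L133339) (flp_a L132075) L141038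
theorem L141042 : sm gc N12158 = N11151 := ded_29_1 (flp_i L132085) L132073 L141038
theorem L141044 : sm gf N11150 = N12159 := rfl
theorem L141046 : sm ga N12159 = N11302 := ded_13_1 (flp_f L133343) (flp_a L132079) L141044
theorem L141048 : sm gb N12159 = N11181 := ded_20_1 (flp_f L132352) (flp_b L132081) L141044
theorem L141050 : sm gd N12159 = N11157 := ded_31_1 (flp_f L132144) (flp_d L132083) L141044
theorem L141052 : sm gi N11150 = N12160 := rfl
theorem L141054 : sm ga N12160 = N11303 := ded_16_1 (flp_i L133349) (flp_a L132079) L141052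
theorem L141056 : sm gb N12160 = N11182 := ded_23_1 (flp_i L132358) (flp_b L132081) L141052
theorem L141058 : sm gd N12160 = N11158 := ded_34_1 (flp_i L132154) (flp_d L132083) L141052
theorem L141060 : sm ge N12160 = N11151 := ded_38_1 (flp_i L132085) L132077 L141052
theorem L141062 : sm gh N11151 = N12161 := rfl
theorem L141064 : sm ga N12161 = N11304 := ded_15_1 (flp_h L133357) (flp_a L132087) L141062
theorem L141066 : sm gb N12161 = N11183 := ded_22_1 (flp_h L132366) (flp_b L132089) L141062
theorem L141068 : sm ge N11152 = N12162 := rfl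
theorem L141070 : sm ga N12162 = N11305 := ded_12_1 (flp_e L133361) (flp_a L132095) L141068
theorem L141072 : sm gb N12162 = N12162 := ded_19_1 (flp_e L141068) L132102 L141068
theorem L141073 : sm gc N12162 = N11153 := ded_25_1 (flp_e L132103) L132093 L141068
theorem L141075 : sm gg N12162 = N11155 := ded_36_2 (flp_e L132126) (flp_g L132098) L141068
theorem L141077 : sm gh N12162 = N11496 := ded_37_2 (flp_e L134992) (flp_h L132100) L141068
theorem L141079 : sm gi N11152 = N12163 := rfl
theorem L141081 : sm ga N12163 = N11306 := ded_16_1 (flp_i L133371) (flp_a L132095) L141079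
theorem L141083 : sm gb N12163 = N12163 := ded_23_1 (flp_i L141079) L132102 L141079
theorem L141084 : sm gc N12163 = N11154 := ded_29_1 (flp_i L132113) L132093 L141079
theorem L141086 : sm gf N12163 = N12163 := ded_41_1 (flp_i L141079) L132097 L141079
theorem L141087 : sm gg N12163 = N11156 := ded_43_1 (flp_i L132135) (flp_g L132098) L141079
theorem L141089 : sm gh N12163 = N11548 := ded_44_1 (flp_i L135454) L127254 (flp_i L126830) (flp_h L132100) L141079
theorem L141091 : sm gf N11153 = N12164 := rfl
theorem L141093 : sm ga N12164 = N11307 := ded_13_1 (flp_f L133380) (flp_a L132105) L141091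
theorem L141095 : sm gb N12164 = N11184 := ded_20_1 (flp_f L132370) (flp_b L132107) L141091
theorem L141097 : sm gh N12164 = N11497 := ded_40_2 (flp_f L135003) (flp_h L132111) L141091
theorem L141099 : sm ge N12164 = N12164 := ded_35_1 (flp_f L141091) (flp_e L132103) L124292 L132103 L141091
theorem L141100 : sm gi N11153 = N12165 := rfl
theorem L141102 : sm ga N12165 = N11308 := ded_16_1 (flp_i L133387) (flp_a L132105) L141100
theorem L141104 : sm gb N12165 = N11185 := ded_23_1 (flp_i L132378) (flp_b L132107) L141100
theorem L141106 : sm ge N12165 = N11154 := ded_38_1 (flp_i L132113) L132103 L141100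
theorem L141108 : sm gg N12165 = N11158 := ded_43_1 (flp_i L132154) (flp_g L132109) L141100
theorem L141110 : sm gh N12165 = N11550 := ded_44_1 (flp_i L135467) L127261 (flp_i L126842) (flp_h L132111) L141100
theorem L141112 : sm gd N11155 = N12166 := rfl
theorem L141114 : sm ga N12166 = N11310 := ded_11_1 (flp_d L133408) (flp_a L132128) L141112
theorem L141116 : sm gb N12166 = N12166 := ded_18_1 (flp_d L141112) L132130 L141112
theorem L141117 : sm gf N11155 = N12167 := rfl
theorem L141119 : sm ga N12167 = N11311 := ded_13_1 (flp_f L133412) (flp_a L132128) L141117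
theorem L141121 : sm gb N12167 = N12167 := ded_20_1 (flp_f L141117) L132130 L141117
theorem L141122 : sm gc N12167 = N11157 := ded_26_1 (flp_f L132144) (flp_c L132131) L141117
theorem L141124 : sm gh N12167 = N11499 := ded_40_2 (flp_f L135020) (flp_h L132133) L141117
theorem L141126 : sm ge N12167 = N11161 := ded_35_1 (flp_f L132182) (flp_e L124333) (flp_f L124310) L132126 L141117
theorem L141128 : sm gi N11155 = N12168 := rfl
theorem L141130 : sm ga N12168 = N11312 := ded_16_1 (flp_i L133422) (flp_a L132128) L141128
theorem L141132 : sm gb N12168 = N12168 := ded_23_1 (flp_i L141128) L132130 L141128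
theorem L141133 : sm gc N12168 = N11158 := ded_29_1 (flp_i L132154) (flp_c L132131) L141128
theorem L141135 : sm ge N12168 = N11156 := ded_38_1 (flp_i L132135) L132126 L141128
theorem L141137 : sm gh N11156 = N12169 := rfl
theorem L141139 : sm ga N12169 = N11313 := ded_15_1 (flp_h L133430) (flp_a L132137) L141137
theorem L141141 : sm gb N12169 = N12169 := ded_22_1 (flp_h L141137) L132139 L141137
theorem L141142 : sm gc N12169 = N11159 := ded_28_1 (flp_h L132162) (flp_c L132140) L141137
theorem L141144 : sm gf N12169 = N11163 := ded_40_1 (flp_h L132201) (flp_f L132142) L141137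
theorem L141146 : sm gg N12169 = N11548 := ded_42_1 (flp_h L141089) L141087 L141137
theorem L141148 : sm gi N12169 = N11501 := ded_44_2 (flp_h L135040) (flp_i L126853) (flp_h L124312) L132135 L141137
theorem L141150 : sm gg N11157 = N12170 := rfl
theorem L141152 : sm ga N12170 = N11314 := ded_14_1 (flp_g L133440) (flp_a L132146) L141150
theorem L141154 : sm gb N12170 = N11186 := ded_21_1 (flp_g L132389) (flp_b L132148) L141150
theorem L141156 : sm ge N12170 = N11164 := ded_36_1 (flp_g L132211) (flp_e L132152) L141150
theorem L141158 : sm gh N12170 = N11502 := ded_42_2 (flp_g L135051) (flp_h L132150) L141150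
theorem L141160 : sm gi N11157 = N12171 := rfl
theorem L141162 : sm ga N12171 = N11315 := ded_16_1 (flp_i L133448) (flp_a L132146) L141160
theorem L141164 : sm gb N12171 = N11187 := ded_23_1 (flp_i L132398) (flp_b L132148) L141160
theorem L141166 : sm ge N12171 = N11165 := ded_38_1 (flp_i L132220) (flp_e L132152) L141160
theorem L141168 : sm gf N12171 = N11158 := ded_41_1 (flp_i L132154) L132144 L141160
theorem L141170 : sm gh N11158 = N12172 := rfl
theorem L141172 : sm ga N12172 = N11316 := ded_15_1 (flp_h L133456) (flp_a L132156) L141170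
theorem L141174 : sm gb N12172 = N11188 := ded_22_1 (flp_h L132407) (flp_b L132158) L141170
theorem L141176 : sm ge N12172 = N11159 := ded_37_1 (flp_h L132162) (flp_e L132160) L141170
theorem L141178 : sm gg N12172 = N11550 := ded_42_1 (flp_h L141110) L141108 L141170
theorem L141180 : sm gi N12172 = N11504 := ded_44_2 (flp_h L135071) (flp_i L126873) (flp_h L124321) L132154 L141170
theorem L141182 : sm gf N11160 = N12173 := rfl
theorem L141184 : sm ga N12173 = N11317 := ded_13_1 (flp_f L133464) (flp_a L132178) L141182
theorem L141186 : sm gb N12173 = N12173 := ded_20_1 (flp_f L141182) L132180 L141182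
theorem L141187 : sm gd N12173 = N11161 := ded_31_1 (flp_f L132182) L132176 L141182
theorem L141189 : sm gh N11160 = N12174 := rfl
theorem L141191 : sm ga N12174 = N11318 := ded_15_1 (flp_h L133470) (flp_a L132178) L141189
theorem L141193 : sm gb N12174 = N12174 := ded_22_1 (flp_h L141189) L132180 L141189
theorem L141194 : sm gg N12174 = N12174 := ded_42_1 (flp_h L141189) L132181 L141189
theorem L141195 : sm gd N12174 = N11506 := ded_33_1 (flp_h L135089) (flp_d L126897) (flp_h L124341) L132176 L141189
theorem L141197 : sm gi N11160 = N12175 := rfl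
theorem L141199 : sm ga N12175 = N11319 := ded_16_1 (flp_i L133477) (flp_a L132178) L141197
theorem L141201 : sm gb N12175 = N12175 := ded_23_1 (flp_i L141197) L132180 L141197
theorem L141202 : sm gd N12175 = N11162 := ded_34_1 (flp_i L132191) L132176 L141197
theorem L141204 : sm gg N12175 = N12175 := ded_43_1 (flp_i L141197) L132181 L141197
theorem L141205 : sm gg N11161 = N12176 := rfl
theorem L141207 : sm ga N12176 = N11320 := ded_14_1 (flp_g L133484) (flp_a L132184) L141205
theorem L141209 : sm gb N12176 = N12176 := ded_21_1 (flp_g L141205) L132186 L141205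
theorem L141210 : sm gc N12176 = N11164 := ded_27_1 (flp_g L132211) (flp_c L132187) L141205
theorem L141212 : sm gh N12176 = N11508 := ded_42_2 (flp_g L135107) (flp_h L132189) L141205
theorem L141214 : sm gf N12176 = N12176 := ded_39_1 (flp_g L141205) (flp_f L132182) L124340 L132182 L141205
theorem L141215 : sm gi N11161 = N12177 := rfl
theorem L141217 : sm ga N12177 = N11321 := ded_16_1 (flp_i L133493) (flp_a L132184) L141215
theorem L141219 : sm gb N12177 = N12177 := ded_23_1 (flp_i L141215) L132186 L141215
theorem L141220 : sm gc N12177 = N11165 := ded_29_1 (flp_i L132220) (flp_c L132187) L141215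
theorem L141222 : sm gf N12177 = N11162 := ded_41_1 (flp_i L132191) L132182 L141215
theorem L141224 : sm gh N11162 = N12178 := rfl
theorem L141226 : sm ga N12178 = N11322 := ded_15_1 (flp_h L133501) (flp_a L132193) L141224
theorem L141228 : sm gb N12178 = N12178 := ded_22_1 (flp_h L141224) L132195 L141224
theorem L141229 : sm gc N12178 = N11166 := ded_28_1 (flp_h L132228) (flp_c L132196) L141224
theorem L141231 : sm ge N12178 = N11163 := ded_37_1 (flp_h L132201) (flp_e L132198) L141224
theorem L141233 : sm gg N12178 = N12178 := ded_42_1 (flp_h L141224) L132200 L141224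
theorem L141234 : sm gi N12178 = N11510 := ded_44_2 (flp_h L135124) (flp_i L126912) (flp_h L124341) L132191 L141224
theorem L141236 : sm gd N11163 = N12179 := rfl
theorem L141238 : sm ga N12179 = N11323 := ded_11_1 (flp_d L133512) (flp_a L132203) L141236
theorem L141240 : sm gb N12179 = N12179 := ded_18_1 (flp_d L141236) L132205 L141236
theorem L141241 : sm gg N12179 = N12179 := ded_32_2 (flp_d L141236) L132208 L141236
theorem L141242 : sm gi N12179 = N11511 := ded_34_2 (flp_d L135134) (flp_i L132209) L141236
theorem L141244 : sm gi N11164 = N12180 := rfl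
theorem L141246 : sm ga N12180 = N11324 := ded_16_1 (flp_i L133519) (flp_a L132213) L141244
theorem L141248 : sm gb N12180 = N11189 := ded_23_1 (flp_i L132418) (flp_b L132215) L141244
theorem L141250 : sm gf N12180 = N12180 := ded_41_1 (flp_i L141244) L132219 L141244
theorem L141251 : sm gg N12180 = N11165 := ded_43_1 (flp_i L132220) L132211 L141244
theorem L141253 : sm gh N11165 = N12181 := rfl
theorem L141255 : sm ga N12181 = N11325 := ded_15_1 (flp_h L133526) (flp_a L132222) L141253
theorem L141257 : sm gb N12181 = N11190 := ded_22_1 (flp_h L132426) (flp_b L132224) L141253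
theorem L141259 : sm gf N12181 = N11166 := ded_40_1 (flp_h L132228) (flp_f L132226) L141253
theorem L141261 : sm gi N12181 = N11513 := ded_44_2 (flp_h L135151) (flp_i L126938) (flp_h L124357) L132220 L141253
theorem L141263 : sm gd N11166 = N12182 := rfl
theorem L141265 : sm ga N12182 = N11326 := ded_11_1 (flp_d L133534) (flp_a L132230) L141263
theorem L141267 : sm gb N12182 = N11191 := ded_18_1 (flp_d L132435) (flp_b L132232) L141263
theorem L141269 : sm gg N12182 = N12182 := ded_32_2 (flp_d L141263) L132236 L141263
theorem L141270 : sm gi N12182 = N11514 := ded_34_2 (flp_d L135159) (flp_i L132237) L141263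
theorem L141272 : sm gd N11167 = N12183 := rfl
theorem L141274 : sm ga N12183 = N11198 := ded_11_1 (flp_d L132490) (flp_a L132241) L141272
theorem L141276 : sm gf N12183 = N11168 := ded_31_2 (flp_d L132248) (flp_f L132246) L141272
theorem L141278 : sm gh N12183 = N11173 := ded_33_2 (flp_d L132292) (flp_h L124410) (flp_d L124382) L132239 L141272
theorem L141280 : sm gi N11167 = N12184 := rfl
theorem L141282 : sm ga N12184 = N11199 := ded_16_1 (flp_i L132498) (flp_a L132241) L141280
theorem L141284 : sm gc N12184 = N12184 := ded_29_1 (flp_i L141280) L132243 L141280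
theorem L141285 : sm ge N12184 = N11271 := ded_38_1 L133122 (flp_e L132244) L141280
theorem L141287 : sm gf N12184 = N11169 := ded_41_1 (flp_i L132258) (flp_f L132246) L141280
theorem L141289 : sm gh N12184 = N11269 := ded_44_1 (flp_i L133096) L125055 (flp_i L124384) L132239 L141280
theorem L141291 : sm gc N11168 = N12185 := rfl
theorem L141293 : sm ga N12185 = N11200 := ded_10_1 (flp_c L132509) (flp_a L132250) L141291
theorem L141295 : sm ge N12185 = N11584 := ded_25_2 (flp_c L135746) (flp_e L132254) L141291
theorem L141297 : sm gg N12185 = N11170 := ded_27_2 (flp_c L132269) (flp_g L132252) L141291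
theorem L141299 : sm gh N12185 = N11175 := ded_28_2 (flp_c L132307) (flp_h L132256) L141291
theorem L141301 : sm gd N12185 = N12185 := ded_24_2 (flp_c L141291) (flp_d L132248) L124392 L132248 L141291
theorem L141302 : sm gi N11168 = N12186 := rfl
theorem L141304 : sm ga N12186 = N11201 := ded_16_1 (flp_i L132520) (flp_a L132250) L141302
theorem L141306 : sm gd N12186 = N11169 := ded_34_1 (flp_i L132258) L132248 L141302
theorem L141308 : sm ge N12186 = N11354 := ded_38_1 L133790 (flp_e L132254) L141302
theorem L141310 : sm gg N12186 = N11172 := ded_43_1 (flp_i L132286) (flp_g L132252) L141302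
theorem L141312 : sm gb N11170 = N12187 := rfl
theorem L141314 : sm gd N12187 = N12187 := ded_18_2 (flp_b L141312) L132275 L141312
theorem L141315 : sm gh N12187 = N11178 := ded_22_2 (flp_b L132333) (flp_h L132273) L141312
theorem L141317 : sm ge N11170 = N12188 := rfl
theorem L141319 : sm ga N12188 = N11203 := ded_12_1 (flp_e L132539) (flp_a L132271) L141317
theorem L141321 : sm gc N12188 = N11171 := ded_25_1 (flp_e L132276) L132269 L141317
theorem L141323 : sm gg N12188 = N11584 := ded_36_2 (flp_e L141295) L141297 L141317
theorem L141325 : sm gh N12188 = N11179 := ded_37_2 (flp_e L132337) (flp_h L132273) L141317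
theorem L141327 : sm gd N11634 = N12188 := ded_11_0 L141319 (flp_d L132547) (flp_a L136189)
theorem L141329 : sm gi N11170 = N12189 := rfl
theorem L141331 : sm ga N12189 = N11204 := ded_16_1 (flp_i L132549) (flp_a L132271) L141329
theorem L141333 : sm gc N12189 = N11172 := ded_29_1 (flp_i L132286) L132269 L141329
theorem L141335 : sm gd N12189 = N12189 := ded_34_1 (flp_i L141329) L132275 L141329
theorem L141336 : sm gf N11171 = N12190 := rfl
theorem L141338 : sm ga N12190 = N11205 := ded_13_1 (flp_f L132554) (flp_a L132278) L141336
theorem L141340 : sm gd N12190 = N11515 := ded_31_1 (flp_f L135167) (flp_d L132284) L141336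
theorem L141342 : sm gh N12190 = N11181 := ded_40_2 (flp_f L132352) (flp_h L132282) L141336
theorem L141344 : sm gi N11171 = N12191 := rfl
theorem L141346 : sm ga N12191 = N11206 := ded_16_1 (flp_i L132562) (flp_a L132278) L141344
theorem L141348 : sm gd N12191 = N11351 := ded_34_1 L133762 (flp_d L132284) L141344
theorem L141350 : sm ge N12191 = N11172 := ded_38_1 (flp_i L132286) L132276 L141344
theorem L141352 : sm gg N12191 = N11354 := ded_43_1 L133790 (flp_g L132280) L141344
theorem L141354 : sm gh N11172 = N12192 := rfl
theorem L141356 : sm ga N12192 = N11207 := ded_15_1 (flp_h L132572) (flp_a L132288) L141354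
theorem L141358 : sm gi N12192 = N11183 := ded_44_2 (flp_h L132366) (flp_i L124447) (flp_h L124401) L132286 L141354
theorem L141360 : sm ge N11173 = N12193 := rfl
theorem L141362 : sm ga N12193 = N11208 := ded_12_1 (flp_e L132578) (flp_a L132294) L141360
theorem L141364 : sm gd N12193 = N12193 := ded_30_1 (flp_e L141360) (flp_d L132292) L124416 L132292 L141360
theorem L141365 : sm gi N11173 = N12194 := rfl
theorem L141367 : sm ga N12194 = N11209 := ded_16_1 (flp_i L132583) (flp_a L132294) L141365
theorem L141369 : sm gd N12194 = N11174 := ded_34_1 (flp_i L132298) L132292 L141365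
theorem L141371 : sm gf N12194 = N11177 := ded_41_1 (flp_i L132325) (flp_f L132296) L141365
theorem L141373 : sm gb N11175 = N12195 := rfl
theorem L141375 : sm gd N12195 = N11192 := ded_18_2 (flp_b L132442) (flp_d L132313) L141373
theorem L141377 : sm gg N12195 = N11178 := ded_21_2 (flp_b L132333) (flp_g L132311) L141373
theorem L141379 : sm ga N12195 = N11659 := ded_9_1 (flp_b L136395) L128201 (flp_b L124641) (flp_a L132309) L141373
theorem L141381 : sm ge N11175 = N12196 := rfl
theorem L141383 : sm ga N12196 = N11210 := ded_12_1 (flp_e L132591) (flp_a L132309) L141381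
theorem L141385 : sm gc N12196 = N11176 := ded_25_1 (flp_e L132315) L132307 L141381
theorem L141387 : sm gg N12196 = N11179 := ded_36_2 (flp_e L132337) (flp_g L132311) L141381
theorem L141389 : sm gh N12196 = N11584 := ded_37_2 (flp_e L141295) L141299 L141381
theorem L141391 : sm gd N12196 = N12196 := ded_30_1 (flp_e L141381) L132313 L124541 (flp_d L132313) L141381
theorem L141392 : sm gi N11175 = N12197 := rfl
theorem L141394 : sm ga N12197 = N11211 := ded_16_1 (flp_i L132602) (flp_a L132309) L141392
theorem L141396 : sm gc N12197 = N11177 := ded_29_1 (flp_i L132325) L132307 L141392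
theorem L141398 : sm gd N12197 = N11193 := ded_34_1 (flp_i L132450) (flp_d L132313) L141392
theorem L141400 : sm gg N12197 = N11180 := ded_43_1 (flp_i L132344) (flp_g L132311) L141392
theorem L141402 : sm gf N11176 = N12198 := rfl
theorem L141404 : sm ga N12198 = N11212 := ded_13_1 (flp_f L132612) (flp_a L132317) L141402
theorem L141406 : sm gd N12198 = N11184 := ded_31_1 (flp_f L132370) (flp_d L132323) L141402
theorem L141408 : sm gh N12198 = N11583 := ded_40_2 L135744 (flp_h L132321) L141402
theorem L141410 : sm gi N11176 = N12199 := rfl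
theorem L141412 : sm ga N12199 = N11213 := ded_16_1 (flp_i L132620) (flp_a L132317) L141410
theorem L141414 : sm gd N12199 = N11185 := ded_34_1 (flp_i L132378) (flp_d L132323) L141410
theorem L141416 : sm ge N12199 = N11177 := ded_38_1 (flp_i L132325) L132315 L141410
theorem L141418 : sm gg N12199 = N11182 := ded_43_1 (flp_i L132358) (flp_g L132319) L141410
theorem L141420 : sm gh N11177 = N12200 := rfl
theorem L141422 : sm ga N12200 = N11214 := ded_15_1 (flp_h L132630) (flp_a L132327) L141420
theorem L141424 : sm gg N12200 = N11183 := ded_42_1 (flp_h L132366) (flp_g L132331) L141420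
theorem L141426 : sm ga N11178 = N12201 := rfl
theorem L141428 : sm gd N12201 = N11195 := ded_11_2 (flp_a L132467) (flp_d L132335) L141426
theorem L141430 : sm gg N12201 = N11659 := ded_14_2 (flp_a L141379) L141377 L141426
theorem L141432 : sm gb N12201 = N11215 := ded_9_2 (flp_a L132636) (flp_b L124663) (flp_a L124437) L132333 L141426
theorem L141434 : sm ge N11178 = N12202 := rfl
theorem L141436 : sm gb N12202 = N11179 := ded_19_1 (flp_e L132337) L132333 L141434
theorem L141438 : sm gd N12202 = N12202 := ded_30_1 (flp_e L141434) L132335 L124556 (flp_d L132335) L141434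
theorem L141439 : sm gi N11178 = N12203 := rfl
theorem L141441 : sm gb N12203 = N11180 := ded_23_1 (flp_i L132344) L132333 L141439
theorem L141443 : sm gd N12203 = N11196 := ded_34_1 (flp_i L132477) (flp_d L132335) L141439
theorem L141445 : sm gf N11179 = N12204 := rfl
theorem L141447 : sm ga N12204 = N11218 := ded_13_1 (flp_f L132663) (flp_a L132339) L141445
theorem L141449 : sm gc N12204 = N11181 := ded_26_1 (flp_f L132352) (flp_c L132341) L141445
theorem L141451 : sm gd N12204 = N12204 := ded_31_1 (flp_f L141445) L132343 L141445
theorem L141452 : sm gi N11179 = N12205 := rfl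
theorem L141454 : sm ga N12205 = N11219 := ded_16_1 (flp_i L132668) (flp_a L132339) L141452
theorem L141456 : sm gc N12205 = N11182 := ded_29_1 (flp_i L132358) (flp_c L132341) L141452
theorem L141458 : sm gd N12205 = N12205 := ded_34_1 (flp_i L141452) L132343 L141452
theorem L141459 : sm ge N12205 = N11180 := ded_38_1 (flp_i L132344) L132337 L141452
theorem L141461 : sm gh N11180 = N12206 := rfl
theorem L141463 : sm ga N12206 = N11220 := ded_15_1 (flp_h L132675) (flp_a L132346) L141461
theorem L141465 : sm gc N12206 = N11183 := ded_28_1 (flp_h L132366) (flp_c L132348) L141461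
theorem L141467 : sm gg N11181 = N12207 := rfl
theorem L141469 : sm ga N12207 = N11221 := ded_14_1 (flp_g L132679) (flp_a L132354) L141467
theorem L141471 : sm gd N12207 = N11186 := ded_32_1 (flp_g L132389) (flp_d L132356) L141467
theorem L141473 : sm gi N11181 = N12208 := rfl
theorem L141475 : sm ga N12208 = N11222 := ded_16_1 (flp_i L132685) (flp_a L132354) L141473
theorem L141477 : sm gd N12208 = N11187 := ded_34_1 (flp_i L132398) (flp_d L132356) L141473
theorem L141479 : sm gf N12208 = N11182 := ded_41_1 (flp_i L132358) L132352 L141473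
theorem L141481 : sm gh N11182 = N12209 := rfl
theorem L141483 : sm ga N12209 = N11223 := ded_15_1 (flp_h L132693) (flp_a L132360) L141481
theorem L141485 : sm ge N12209 = N11183 := ded_37_1 (flp_h L132366) (flp_e L132364) L141481
theorem L141487 : sm gg N11184 = N12210 := rfl
theorem L141489 : sm ga N12210 = N11224 := ded_14_1 (flp_g L132699) (flp_a L132372) L141487
theorem L141491 : sm gc N12210 = N12210 := ded_27_1 (flp_g L141487) L132374 L141487
theorem L141492 : sm ge N12210 = N12210 := ded_36_1 (flp_g L141487) L132377 L141487
theorem L141493 : sm gh N12210 = N11517 := ded_42_2 (flp_g L135189) (flp_h L132375) L141487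
theorem L141495 : sm gf N12210 = N11186 := ded_39_1 (flp_g L132389) (flp_f L124474) (flp_g L124458) L132370 L141487
theorem L141497 : sm gi N11184 = N12211 := rfl
theorem L141499 : sm ga N12211 = N11225 := ded_16_1 (flp_i L132709) (flp_a L132372) L141497
theorem L141501 : sm gc N12211 = N12211 := ded_29_1 (flp_i L141497) L132374 L141497
theorem L141502 : sm ge N12211 = N12211 := ded_38_1 (flp_i L141497) L132377 L141497
theorem L141503 : sm gf N12211 = N11185 := ded_41_1 (flp_i L132378) L132370 L141497
theorem L141505 : sm gh N12211 = N11581 := ded_44_1 (flp_i L135722) L127422 (flp_i L126984) (flp_h L132375) L141497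
theorem L141507 : sm gi N11186 = N12212 := rfl
theorem L141509 : sm ga N12212 = N11226 := ded_16_1 (flp_i L132719) (flp_a L132391) L141507
theorem L141511 : sm gc N12212 = N12212 := ded_29_1 (flp_i L141507) L132393 L141507
theorem L141512 : sm ge N12212 = N11189 := ded_38_1 (flp_i L132418) (flp_e L132394) L141507
theorem L141514 : sm gg N12212 = N11187 := ded_43_1 (flp_i L132398) L132389 L141507
theorem L141516 : sm gh N11187 = N12213 := rfl
theorem L141518 : sm ga N12213 = N11227 := ded_15_1 (flp_h L132728) (flp_a L132400) L141516
theorem L141520 : sm gc N12213 = N12213 := ded_28_1 (flp_h L141516) L132402 L141516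
theorem L141521 : sm ge N12213 = N11190 := ded_37_1 (flp_h L132426) (flp_e L132403) L141516
theorem L141523 : sm gf N12213 = N11188 := ded_40_1 (flp_h L132407) (flp_f L132405) L141516
theorem L141525 : sm gi N12213 = N11519 := ded_44_2 (flp_h L135214) (flp_i L126994) (flp_h L124479) L132398 L141516
theorem L141527 : sm gd N11188 = N12214 := rfl
theorem L141529 : sm ga N12214 = N11228 := ded_11_1 (flp_d L132739) (flp_a L132409) L141527
theorem L141531 : sm gg N12214 = N11335 := ded_32_2 L133622 (flp_g L132414) L141527
theorem L141533 : sm gi N12214 = N11329 := ded_34_2 L133569 (flp_i L132416) L141527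
theorem L141535 : sm ge N12214 = N11330 := ded_30_2 L133577 L125430 (flp_d L124499) (flp_e L132412) L141527
theorem L141537 : sm gc N11715 = N12214 := ded_10_0 L141529 (flp_c L132749) (flp_a L136783)
theorem L141539 : sm gh N11189 = N12215 := rfl
theorem L141541 : sm ga N12215 = N11229 := ded_15_1 (flp_h L132751) (flp_a L132420) L141539
theorem L141543 : sm gc N12215 = N12215 := ded_28_1 (flp_h L141539) L132422 L141539
theorem L141544 : sm gf N12215 = N12215 := ded_40_1 (flp_h L141539) L132423 L141539
theorem L141545 : sm gg N12215 = N11190 := ded_42_1 (flp_h L132426) (flp_g L132424) L141539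
theorem L141547 : sm gi N12215 = N11520 := ded_44_2 (flp_h L135223) (flp_i L127014) (flp_h L124508) L132418 L141539
theorem L141549 : sm gd N11190 = N12216 := rfl
theorem L141551 : sm ga N12216 = N11230 := ded_11_1 (flp_d L132761) (flp_a L132428) L141549
theorem L141553 : sm gf N12216 = N11191 := ded_31_2 (flp_d L132435) (flp_f L132431) L141549
theorem L141555 : sm gi N12216 = N11521 := ded_34_2 (flp_d L135231) (flp_i L132433) L141549
theorem L141557 : sm gc N11191 = N12217 := rfl
theorem L141559 : sm ga N12217 = N11231 := ded_10_1 (flp_c L132769) (flp_a L132437) L141557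
theorem L141561 : sm gg N12217 = N12217 := ded_27_2 (flp_c L141557) L132439 L141557
theorem L141562 : sm gi N12217 = N11522 := ded_29_2 (flp_c L135238) (flp_i L132440) L141557
theorem L141564 : sm gd N12217 = N12217 := ded_24_2 (flp_c L141557) (flp_d L132435) L124522 L132435 L141557
theorem L141565 : sm gi N11192 = N12218 := rfl
theorem L141567 : sm ga N12218 = N11671 := ded_16_1 (flp_i L136479) (flp_a L132448) L141565
theorem L141569 : sm gb N12218 = N11193 := ded_23_1 (flp_i L132450) L132442 L141565
theorem L141571 : sm ge N12218 = N12218 := ded_38_1 (flp_i L141565) L132444 L141565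
theorem L141572 : sm gg N12218 = N11196 := ded_43_1 (flp_i L132477) (flp_g L132445) L141565
theorem L141574 : sm gh N11193 = N12219 := rfl
theorem L141576 : sm ga N12219 = N11232 := ded_15_1 (flp_h L132775) (flp_a L132452) L141574
theorem L141578 : sm gc N12219 = N11194 := ded_28_1 (flp_h L132459) (flp_c L132454) L141574
theorem L141580 : sm ge N12219 = N12219 := ded_37_1 (flp_h L141574) L132456 L141574
theorem L141581 : sm gg N12219 = N11197 := ded_42_1 (flp_h L132482) (flp_g L132457) L141574
theorem L141583 : sm gi N12219 = N12219 := ded_44_2 (flp_h L141574) (flp_i L132450) L124544 L132450 L141574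
theorem L141584 : sm gi N11195 = N12220 := rfl
theorem L141586 : sm ga N12220 = N11196 := ded_16_1 (flp_i L132477) L132467 L141584
theorem L141588 : sm gb N12220 = N11233 := ded_23_1 (flp_i L132785) (flp_b L132475) L141584
theorem L141590 : sm gc N12220 = N12218 := ded_29_1 (flp_i L141565) (flp_c L132469) L141584
theorem L141592 : sm ge N12220 = N12220 := ded_38_1 (flp_i L141584) L132471 L141584
theorem L141593 : sm gg N12220 = N11671 := ded_43_1 (flp_i L136479) (flp_g L132472) L141584
theorem L141595 : sm gh N11196 = N12221 := rfl
theorem L141597 : sm gb N12221 = N11197 := ded_22_1 (flp_h L132482) (flp_b L132479) L141595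
theorem L141599 : sm ge N12221 = N12221 := ded_37_1 (flp_h L141595) L132481 L141595
theorem L141600 : sm gi N12221 = N12221 := ded_44_2 (flp_h L141595) (flp_i L132477) L124557 L132477 L141595
theorem L141601 : sm gd N11197 = N12222 := rfl
theorem L141603 : sm ga N12222 = N11235 := ded_11_1 (flp_d L132804) (flp_a L132484) L141601
theorem L141605 : sm gi N12222 = N12222 := ded_34_2 (flp_d L141601) L132489 L141601
theorem L141606 : sm gi N11198 = N12223 := rfl
theorem L141608 : sm gb N12223 = N11274 := ded_23_1 (flp_i L133144) (flp_b L132492) L141606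
theorem L141610 : sm gd N12223 = N11199 := ded_34_1 (flp_i L132498) L132490 L141606
theorem L141612 : sm gf N12223 = N11201 := ded_41_1 (flp_i L132520) (flp_f L132494) L141606
theorem L141614 : sm gi N11200 = N12224 := rfl
theorem L141616 : sm gb N12224 = N11673 := ded_23_1 (flp_i L136494) (flp_b L132517) L141614
theorem L141618 : sm gc N12224 = N11201 := ded_29_1 (flp_i L132520) L132509 L141614
theorem L141620 : sm gd N12224 = N12224 := ded_34_1 (flp_i L141614) L132519 L141614
theorem L141621 : sm ge N12224 = N11388 := ded_38_1 L134055 (flp_e L132511) L141614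
theorem L141623 : sm gg N12224 = N11204 := ded_43_1 (flp_i L132549) (flp_g L132513) L141614
theorem L141625 : sm gh N11201 = N12225 := rfl
theorem L141627 : sm gb N12225 = N11360 := ded_22_1 (flp_h L133842) (flp_b L132522) L141625
theorem L141629 : sm ge N12225 = N11383 := ded_37_1 L134015 (flp_e L132526) L141625
theorem L141631 : sm gg N12225 = N11207 := ded_42_1 (flp_h L132572) (flp_g L132528) L141625
theorem L141633 : sm gd N12225 = N11281 := ded_33_1 (flp_h L133194) L125167 (flp_h L124599) (flp_d L132524) L141625
theorem L141635 : sm gi N12225 = N11214 := ded_44_2 (flp_h L132630) (flp_i L124655) (flp_h L124588) L132520 L141625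
theorem L141637 : sm ga N11202 = N12226 := rfl
theorem L141639 : sm gc N12226 = N11361 := ded_10_2 (flp_a L133850) (flp_c L132537) L141637
theorem L141641 : sm gd N12226 = N12226 := ded_11_2 (flp_a L141637) L132532 L141637
theorem L141642 : sm gg N12226 = N11656 := ded_14_2 L136377 (flp_g L132533) L141637
theorem L141644 : sm gh N12226 = N11215 := ded_15_2 (flp_a L132636) (flp_h L132535) L141637
theorem L141646 : sm gi N11202 = N12227 := rfl
theorem L141648 : sm gb N12227 = N11204 := ded_23_1 (flp_i L132549) L132530 L141646
theorem L141650 : sm gc N12227 = N11363 := ded_29_1 (flp_i L133867) (flp_c L132537) L141646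
theorem L141652 : sm gd N12227 = N12227 := ded_34_1 (flp_i L141646) L132532 L141646
theorem L141653 : sm gg N12227 = N11673 := ded_43_1 (flp_i L136494) (flp_g L132533) L141646
theorem L141655 : sm gi N11203 = N12228 := rfl
theorem L141657 : sm gc N12228 = N11206 := ded_29_1 (flp_i L132562) (flp_c L132541) L141655
theorem L141659 : sm gd N12228 = N11481 := ded_34_1 L134858 L132547 L141655
theorem L141661 : sm ge N12228 = N11204 := ded_38_1 (flp_i L132549) L132539 L141655
theorem L141663 : sm gg N12228 = N11388 := ded_43_1 L134055 (flp_g L132543) L141655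
theorem L141665 : sm gh N11204 = N12229 := rfl
theorem L141667 : sm gc N12229 = N11207 := ded_28_1 (flp_h L132572) (flp_c L132551) L141665
theorem L141669 : sm gi N12229 = N11220 := ded_44_2 (flp_h L132675) (flp_i L124676) (flp_h L124603) L132549 L141665
theorem L141671 : sm gi N11205 = N12230 := rfl
theorem L141673 : sm gb N12230 = N11368 := ded_23_1 (flp_i L133905) (flp_b L132556) L141671
theorem L141675 : sm gd N12230 = N11385 := ded_34_1 L134035 (flp_d L132558) L141671
theorem L141677 : sm gf N12230 = N11206 := ded_41_1 (flp_i L132562) L132554 L141671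
theorem L141679 : sm gh N11206 = N12231 := rfl
theorem L141681 : sm gb N12231 = N11369 := ded_22_1 (flp_h L133911) (flp_b L132564) L141679
theorem L141683 : sm ge N12231 = N11207 := ded_37_1 (flp_h L132572) (flp_e L132568) L141679
theorem L141685 : sm gg N12231 = N11383 := ded_42_1 L134015 (flp_g L132570) L141679
theorem L141687 : sm gd N12231 = N11372 := ded_33_1 (flp_h L133933) L125719 L125805 (flp_d L132566) L141679
theorem L141689 : sm gi N12231 = N11223 := ded_44_2 (flp_h L132693) (flp_i L124688) (flp_h L124612) L132562 L141679
theorem L141691 : sm gi N11208 = N12232 := rfl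
theorem L141693 : sm gb N12232 = N11278 := ded_23_1 (flp_i L133173) (flp_b L132580) L141691
theorem L141695 : sm gd N12232 = N12232 := ded_34_1 (flp_i L141691) L132582 L141691
theorem L141696 : sm ge N12232 = N11209 := ded_38_1 (flp_i L132583) L132578 L141691
theorem L141698 : sm gh N11209 = N12233 := rfl
theorem L141700 : sm gb N12233 = N11279 := ded_22_1 (flp_h L133180) (flp_b L132585) L141698
theorem L141702 : sm gf N12233 = N11214 := ded_40_1 (flp_h L132630) (flp_f L132589) L141698
theorem L141704 : sm gi N11210 = N12234 := rfl
theorem L141706 : sm gb N12234 = N11676 := ded_23_1 (flp_i L136512) (flp_b L132593) L141704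
theorem L141708 : sm gc N12234 = N11213 := ded_29_1 (flp_i L132620) (flp_c L132595) L141704
theorem L141710 : sm gd N12234 = N12234 := ded_34_1 (flp_i L141704) L132601 L141704
theorem L141711 : sm ge N12234 = N11211 := ded_38_1 (flp_i L132602) L132591 L141704
theorem L141713 : sm gg N12234 = N11219 := ded_43_1 (flp_i L132668) (flp_g L132597) L141704
theorem L141715 : sm gh N11211 = N12235 := rfl
theorem L141717 : sm gb N12235 = N11677 := ded_22_1 (flp_h L136519) (flp_b L132604) L141715
theorem L141719 : sm gc N12235 = N11214 := ded_28_1 (flp_h L132630) (flp_c L132606) L141715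
theorem L141721 : sm gg N12235 = N11220 := ded_42_1 (flp_h L132675) (flp_g L132610) L141715
theorem L141723 : sm gi N11212 = N12236 := rfl
theorem L141725 : sm gb N12236 = N11371 := ded_23_1 (flp_i L133925) (flp_b L132614) L141723
theorem L141727 : sm gd N12236 = N11225 := ded_34_1 (flp_i L132709) (flp_d L132616) L141723
theorem L141729 : sm gf N12236 = N11213 := ded_41_1 (flp_i L132620) L132612 L141723
theorem L141731 : sm gh N11213 = N12237 := rfl
theorem L141733 : sm gb N12237 = N11372 := ded_22_1 (flp_h L133933) (flp_b L132622) L141731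
theorem L141735 : sm ge N12237 = N11214 := ded_37_1 (flp_h L132630) (flp_e L132626) L141731
theorem L141737 : sm gg N12237 = N11223 := ded_42_1 (flp_h L132693) (flp_g L132628) L141731
theorem L141739 : sm gd N12237 = N11369 := ded_33_1 (flp_h L133911) L125701 (flp_h L124717) (flp_d L132624) L141731
theorem L141741 : sm gi N12237 = N11383 := ded_44_2 L134015 L125837 (flp_h L124651) L132620 L141731
theorem L141743 : sm ge N11215 = N12238 := rfl
theorem L141745 : sm ga N12238 = N11216 := ded_12_1 (flp_e L132644) L132636 L141743
theorem L141747 : sm gc N12238 = N11373 := ded_25_1 (flp_e L133941) (flp_c L132638) L141743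
theorem L141749 : sm gg N12238 = N11660 := ded_36_2 (flp_e L136399) (flp_g L132642) L141743
theorem L141751 : sm gd N12238 = N12238 := ded_30_1 (flp_e L141743) L132640 L124793 (flp_d L132640) L141743
theorem L141752 : sm gi N11215 = N12239 := rfl
theorem L141754 : sm ga N12239 = N11217 := ded_16_1 (flp_i L132653) L132636 L141752
theorem L141756 : sm gc N12239 = N11374 := ded_29_1 (flp_i L133949) (flp_c L132638) L141752
theorem L141758 : sm gd N12239 = N11233 := ded_34_1 (flp_i L132785) (flp_d L132640) L141752
theorem L141760 : sm gg N12239 = N11661 := ded_43_1 (flp_i L136406) (flp_g L132642) L141752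
theorem L141762 : sm gi N11216 = N12240 := rfl
theorem L141764 : sm gb N12240 = N11219 := ded_23_1 (flp_i L132668) (flp_b L132646) L141762
theorem L141766 : sm gc N12240 = N11376 := ded_29_1 (flp_i L133963) (flp_c L132648) L141762
theorem L141768 : sm gd N12240 = N12240 := ded_34_1 (flp_i L141762) L132652 L141762
theorem L141769 : sm ge N12240 = N11217 := ded_38_1 (flp_i L132653) L132644 L141762
theorem L141771 : sm gg N12240 = N11676 := ded_43_1 (flp_i L136512) (flp_g L132650) L141762
theorem L141773 : sm gh N11217 = N12241 := rfl
theorem L141775 : sm gb N12241 = N11220 := ded_22_1 (flp_h L132675) (flp_b L132655) L141773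
theorem L141777 : sm gc N12241 = N11377 := ded_28_1 (flp_h L133973) (flp_c L132657) L141773
theorem L141779 : sm gg N12241 = N11677 := ded_42_1 (flp_h L136519) (flp_g L132661) L141773
theorem L141781 : sm gi N11218 = N12242 := rfl
theorem L141783 : sm gc N12242 = N11222 := ded_29_1 (flp_i L132685) (flp_c L132665) L141781
theorem L141785 : sm gd N12242 = N12242 := ded_34_1 (flp_i L141781) L132667 L141781
theorem L141786 : sm gf N12242 = N11219 := ded_41_1 (flp_i L132668) L132663 L141781
theorem L141788 : sm gh N11219 = N12243 := rfl
theorem L141790 : sm gc N12243 = N11223 := ded_28_1 (flp_h L132693) (flp_c L132670) L141788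
theorem L141792 : sm ge N12243 = N11220 := ded_37_1 (flp_h L132675) (flp_e L132673) L141788
theorem L141794 : sm gd N11220 = N12244 := rfl
theorem L141796 : sm gh N12244 = N11235 := ded_33_2 (flp_d L132804) (flp_h L124806) (flp_d L124680) L132675 L141794
theorem L141798 : sm gi N11221 = N12245 := rfl
theorem L141800 : sm gb N12245 = N11381 := ded_23_1 (flp_i L134003) (flp_b L132681) L141798
theorem L141802 : sm gd N12245 = N11226 := ded_34_1 (flp_i L132719) (flp_d L132683) L141798
theorem L141804 : sm gg N12245 = N11222 := ded_43_1 (flp_i L132685) L132679 L141798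
theorem L141806 : sm gh N11222 = N12246 := rfl
theorem L141808 : sm gb N12246 = N11382 := ded_22_1 (flp_h L134009) (flp_b L132687) L141806
theorem L141810 : sm gf N12246 = N11223 := ded_40_1 (flp_h L132693) (flp_f L132691) L141806
theorem L141812 : sm gd N11223 = N12247 := rfl
theorem L141814 : sm gb N12247 = N11383 := ded_18_1 (flp_d L134013) (flp_b L132695) L141812
theorem L141816 : sm gg N12247 = N11369 := ded_32_2 (flp_d L141739) L141737 L141812
theorem L141818 : sm gi N12247 = N11372 := ded_34_2 (flp_d L141687) L141689 L141812
theorem L141820 : sm ge N12247 = N11360 := ded_30_2 (flp_d L140831) L140827 L131907 (flp_e L132697) L141812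
theorem L141822 : sm gh N12247 = N11228 := ded_33_2 (flp_d L132739) (flp_h L124737) (flp_d L124692) L132693 L141812
theorem L141824 : sm gc N11727 = N12247 := ded_29_3 L141818 L133935 (flp_i L136874)
theorem L141826 : sm gi N11224 = N12248 := rfl
theorem L141828 : sm gb N12248 = N11384 := ded_23_1 (flp_i L134017) (flp_b L132701) L141826
theorem L141830 : sm gc N12248 = N12248 := ded_29_1 (flp_i L141826) L132703 L141826
theorem L141831 : sm ge N12248 = N12248 := ded_38_1 (flp_i L141826) L132704 L141826
theorem L141832 : sm gf N12248 = N11226 := ded_41_1 (flp_i L132719) (flp_f L132707) L141826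
theorem L141834 : sm gg N12248 = N11225 := ded_43_1 (flp_i L132709) L132699 L141826
theorem L141836 : sm gh N12248 = N11586 := ded_44_1 (flp_i L135766) L127501 (flp_i L127066) (flp_h L132705) L141826
theorem L141838 : sm gh N11226 = N12249 := rfl
theorem L141840 : sm gb N12249 = N11386 := ded_22_1 (flp_h L134037) (flp_b L132721) L141838
theorem L141842 : sm gc N12249 = N12249 := ded_28_1 (flp_h L141838) L132723 L141838
theorem L141843 : sm ge N12249 = N11229 := ded_37_1 (flp_h L132751) (flp_e L132724) L141838
theorem L141845 : sm gf N12249 = N11586 := ded_40_1 (flp_h L141836) L141832 L141838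
theorem L141847 : sm gg N12249 = N11227 := ded_42_1 (flp_h L132728) (flp_g L132726) L141838
theorem L141849 : sm gi N12249 = N11524 := ded_44_2 (flp_h L135256) (flp_i L127070) (flp_h L124726) L132719 L141838
theorem L141851 : sm gd N11227 = N12250 := rfl
theorem L141853 : sm gb N12250 = N11387 := ded_18_1 (flp_d L134047) (flp_b L132730) L141851
theorem L141855 : sm gf N12250 = N11228 := ded_31_2 (flp_d L132739) (flp_f L132735) L141851
theorem L141857 : sm gi N12250 = N11359 := ded_34_2 L133838 (flp_i L132737) L141851
theorem L141859 : sm gc N11726 = N12250 := ded_45_7 (flp_d L141851) L132737 (flp_h L127083) L117897 (flp_f L53816) (flp_e L39393) (flp_d L28837) (flp_b L28327) L28329 L20820 (flp_i L116189) (flp_h L15524) L11398 L8532 (flp_e L8527) L6310 L4655 L3452 L2560 (flp_i L3423) L3422 L3421 (flp_f L3418) (flp_e L2532) (flp_d L1875) (flp_b L1779) L1781 L2228 (flp_i L2324) L2326 (flp_d L2319) (flp_f L2314) (flp_e L3099) L4161 L4163 L5607 L5613 (flp_i L5712) (flp_h L7671) L7674 L7669 L10408 L14113 (flp_b L19179) L26064 L26070 L20541 L27973 L38187 L119513 (flp_e L36808) L36806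 L26937 L26938 (flp_d L26529) L26533 L26749 L108976 (flp_f L26541) L26539 L19502 L19498 (flp_c L19306) (flp_d L26122) L35615 L35624 L35620 L26264 L19316 L17863 (flp_b L24196) (flp_c L32874) (flp_d L44778) (flp_i L44773) L32869 (flp_d L32863) (flp_f L32861) (flp_e L44739) L61025 L61027 L103521 (flp_d L49804) L49808 (flp_h L67576) (flp_d L125142) (flp_f L130686) (flp_e L139667) L139666 L139662
theorem L141861 : sm gd N11232 = N12251 := rfl
theorem L141863 : sm gb N12251 = N11686 := ded_18_1 (flp_d L136582) (flp_b L132777) L141861
theorem L141865 : sm gg N12251 = N11235 := ded_32_2 (flp_d L132804) (flp_g L132782) L141861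
theorem L141867 : sm gi N12251 = N12251 := ded_34_2 (flp_d L141861) L132784 L141861
theorem L141868 : sm gh N11233 = N12252 := rfl
theorem L141870 : sm ga N12252 = N11234 := ded_15_1 (flp_h L132794) (flp_a L132787) L141868
theorem L141872 : sm gc N12252 = N11236 := ded_28_1 (flp_h L132807) (flp_c L132789) L141868
theorem L141874 : sm ge N12252 = N12252 := ded_37_1 (flp_h L141868) L132791 L141868
theorem L141875 : sm gg N12252 = N11672 := ded_42_1 (flp_h L136486) (flp_g L132792) L141868
theorem L141877 : sm gi N12252 = N12252 := ded_44_2 (flp_h L141868) (flp_i L132785) L124796 L132785 L141868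
theorem L141878 : sm gd N11234 = N12253 := rfl
theorem L141880 : sm gb N12253 = N11235 := ded_18_1 (flp_d L132804) (flp_b L132796) L141878
theorem L141882 : sm gg N12253 = N11686 := ded_32_2 (flp_d L136582) (flp_g L132801) L141878
theorem L141884 : sm gi N12253 = N12253 := ded_34_2 (flp_d L141878) L132803 L141878
theorem L141885 : sm ge N11235 = N12254 := rfl
theorem L141887 : sm gi N12254 = N12254 := ded_38_2 (flp_e L141885) L132806 L141885
theorem L141888 : sm gd N12254 = N12254 := ded_30_1 (flp_e L141885) (flp_d L132804) L124810 L132804 L141885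
theorem L141889 : sm gd N11238 = N12255 := rfl
theorem L141891 : sm gb N12255 = N11390 := ded_18_1 (flp_d L134068) (flp_b L132833) L141889
theorem L141893 : sm gf N12255 = N11687 := ded_31_2 (flp_d L136585) (flp_f L132839) L141889
theorem L141895 : sm gh N12255 = N11925 := ded_33_2 (flp_d L138743) (flp_h L130039) (flp_d L124841) L132831 L141889
theorem L141897 : sm gi N11238 = N12256 := rfl
theorem L141899 : sm gb N12256 = N11391 := ded_23_1 (flp_i L134075) (flp_b L132833) L141897
theorem L141901 : sm gc N12256 = N11240 := ded_29_1 (flp_i L132849) (flp_c L132835) L141897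
theorem L141903 : sm ge N12256 = N11526 := ded_38_1 (flp_i L135279) (flp_e L132837) L141897
theorem L141905 : sm gf N12256 = N11688 := ded_41_1 (flp_i L136591) (flp_f L132839) L141897
theorem L141907 : sm gh N12256 = N11288 := ded_44_1 (flp_i L133246) (flp_h L125216) (flp_i L124837) L132831 L141897
theorem L141909 : sm gc N11239 = N12257 := rfl
theorem L141911 : sm gf N12257 = N11689 := ded_26_2 (flp_c L136598) (flp_f L132845) L141909
theorem L141913 : sm gh N12257 = N11243 := ded_28_2 (flp_c L132877) (flp_h L132847) L141909
theorem L141915 : sm gi N11239 = N12258 := rfl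
theorem L141917 : sm gb N12258 = N11261 := ded_23_1 (flp_i L133033) (flp_b L132843) L141915
theorem L141919 : sm gd N12258 = N11240 := ded_34_1 (flp_i L132849) L132841 L141915
theorem L141921 : sm gf N12258 = N11691 := ded_41_1 (flp_i L136609) (flp_f L132845) L141915
theorem L141923 : sm gc N11241 = N12259 := rfl
theorem L141925 : sm gg N12259 = N11243 := ded_27_2 (flp_c L132877) (flp_g L132863) L141923
theorem L141927 : sm gd N12259 = N11936 := ded_24_2 (flp_c L138837) (flp_d L130091) (flp_c L124867) L132859 L141923
theorem L141929 : sm gi N11241 = N12260 := rfl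
theorem L141931 : sm gb N12260 = N11262 := ded_23_1 (flp_i L133041) (flp_b L132861) L141929
theorem L141933 : sm gd N12260 = N11242 := ded_34_1 (flp_i L132865) L132859 L141929
theorem L141935 : sm gg N12260 = N11245 := ded_43_1 (flp_i L132889) (flp_g L132863) L141929
theorem L141937 : sm gb N11243 = N12261 := rfl
theorem L141939 : sm gd N12261 = N11939 := ded_18_2 (flp_b L138857) (flp_d L132881) L141937
theorem L141941 : sm gf N12261 = N11296 := ded_20_2 L133309 (flp_f L132879) L141937
theorem L141943 : sm gc N12261 = N11263 := ded_17_2 (flp_b L133049) (flp_c L125016) (flp_b L124875) L132877 L141937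
theorem L141945 : sm ge N11243 = N12262 := rfl
theorem L141947 : sm gc N12262 = N11244 := ded_25_1 (flp_e L132883) L132877 L141945
theorem L141949 : sm gi N11243 = N12263 := rfl
theorem L141951 : sm gc N12263 = N11245 := ded_29_1 (flp_i L132889) L132877 L141949
theorem L141953 : sm gd N12263 = N11941 := ded_34_1 (flp_i L138867) (flp_d L132881) L141949
theorem L141955 : sm gf N12263 = N11693 := ded_41_1 (flp_i L136619) (flp_f L132879) L141949
theorem L141957 : sm gf N11244 = N12264 := rfl
theorem L141959 : sm gb N12264 = N11266 := ded_20_1 (flp_f L133072) (flp_b L132885) L141957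
theorem L141961 : sm gd N12264 = N11250 := ded_31_1 (flp_f L132938) (flp_d L132887) L141957
theorem L141963 : sm ge N12264 = N11694 := ded_35_1 (flp_f L136625) (flp_e L128406) (flp_f L124877) L132883 L141957
theorem L141965 : sm gi N11244 = N12265 := rfl
theorem L141967 : sm gb N12265 = N11267 := ded_23_1 (flp_i L133080) (flp_b L132885) L141965
theorem L141969 : sm gd N12265 = N11251 := ded_34_1 (flp_i L132946) (flp_d L132887) L141965
theorem L141971 : sm ge N12265 = N11245 := ded_38_1 (flp_i L132889) L132883 L141965
theorem L141973 : sm gh N11245 = N12266 := rfl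
theorem L141975 : sm gb N12266 = N11268 := ded_22_1 (flp_h L133088) (flp_b L132891) L141973
theorem L141977 : sm gf N12266 = N11696 := ded_40_1 (flp_h L136639) (flp_f L132895) L141973
theorem L141979 : sm gd N12266 = N11304 := ded_33_1 (flp_h L133357) L125276 (flp_h L124889) (flp_d L132893) L141973
theorem L141981 : sm gi N11246 = N12267 := rfl
theorem L141983 : sm ga N12267 = N11526 := ded_16_1 (flp_i L135279) (flp_a L132899) L141981
theorem L141985 : sm gb N12267 = N12267 := ded_23_1 (flp_i L141981) L132906 L141981
theorem L141986 : sm gc N12267 = N11247 := ded_29_1 (flp_i L132909) L132897 L141981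
theorem L141988 : sm gd N12267 = N11946 := ded_34_1 (flp_i L138905) (flp_d L132907) L141981
theorem L141990 : sm gf N12267 = N12267 := ded_41_1 (flp_i L141981) L132901 L141981
theorem L141991 : sm gg N12267 = N11249 := ded_43_1 (flp_i L132929) (flp_g L132902) L141981
theorem L141993 : sm gh N12267 = N11491 := ded_44_1 (flp_i L134940) (flp_h L126761) (flp_i L126668) (flp_h L132904) L141981
theorem L141995 : sm gd N11248 = N12268 := rfl
theorem L141997 : sm gb N12268 = N12268 := ded_18_1 (flp_d L141995) L132924 L141995
theorem L141998 : sm ge N12268 = N11950 := ded_30_2 (flp_d L138939) (flp_e L130148) (flp_d L124920) L132922 L141995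
theorem L142000 : sm gf N11248 = N12269 := rfl
theorem L142002 : sm gb N12269 = N12269 := ded_20_1 (flp_f L142000) L132924 L142000
theorem L142003 : sm gc N12269 = N11250 := ded_26_1 (flp_f L132938) (flp_c L132925) L142000
theorem L142005 : sm gh N12269 = N11528 := ded_40_2 (flp_f L135300) (flp_h L132927) L142000
theorem L142007 : sm ge N12269 = N11254 := ded_35_1 (flp_f L132974) (flp_e L124936) (flp_f L124915) L132922 L142000
theorem L142009 : sm gi N11248 = N12270 := rfl
theorem L142011 : sm gb N12270 = N12270 := ded_23_1 (flp_i L142009) L132924 L142009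
theorem L142012 : sm gc N12270 = N11251 := ded_29_1 (flp_i L132946) (flp_c L132925) L142009
theorem L142014 : sm ge N12270 = N11249 := ded_38_1 (flp_i L132929) L132922 L142009
theorem L142016 : sm gh N11249 = N12271 := rfl
theorem L142018 : sm ga N12271 = N11543 := ded_15_1 (flp_h L140546) L140534 L142016
theorem L142020 : sm gb N12271 = N12271 := ded_22_1 (flp_h L142016) L132931 L142016
theorem L142021 : sm gc N12271 = N11252 := ded_28_1 (flp_h L132952) (flp_c L132932) L142016
theorem L142023 : sm gf N12271 = N11256 := ded_40_1 (flp_h L132989) (flp_f L132936) L142016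
theorem L142025 : sm gg N12271 = N11491 := ded_42_1 (flp_h L141993) L141991 L142016
theorem L142027 : sm gi N12271 = N11489 := ded_44_2 (flp_h L134922) L126757 (flp_h L124917) L132929 L142016
theorem L142029 : sm gi N11250 = N12272 := rfl
theorem L142031 : sm gb N12272 = N11269 := ded_23_1 (flp_i L133096) (flp_b L132940) L142029
theorem L142033 : sm ge N12272 = N11258 := ded_38_1 (flp_i L133006) (flp_e L132944) L142029
theorem L142035 : sm gf N12272 = N11251 := ded_41_1 (flp_i L132946) L132938 L142029
theorem L142037 : sm gf N11253 = N12273 := rfl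
theorem L142039 : sm gb N12273 = N12273 := ded_20_1 (flp_f L142037) L132968 L142037
theorem L142040 : sm gc N12273 = N11704 := ded_26_1 (flp_f L136697) (flp_c L132970) L142037
theorem L142042 : sm gd N12273 = N11254 := ded_31_1 (flp_f L132974) L132966 L142037
theorem L142044 : sm gh N11253 = N12274 := rfl
theorem L142046 : sm gb N12274 = N12274 := ded_22_1 (flp_h L142044) L132968 L142044
theorem L142047 : sm gc N12274 = N11705 := ded_28_1 (flp_h L136703) (flp_c L132970) L142044
theorem L142049 : sm ge N12274 = N11958 := ded_37_1 (flp_h L138994) (flp_e L132972) L142044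
theorem L142051 : sm gg N12274 = N12274 := ded_42_1 (flp_h L142044) L132969 L142044
theorem L142052 : sm gd N12274 = N11530 := ded_33_1 (flp_h L135313) (flp_d L127137) (flp_h L124942) L132966 L142044
theorem L142054 : sm gi N12174 = N12274 := ded_34_0 L142052 (flp_i L135352) (flp_d L141195)
theorem L142056 : sm gi N11253 = N12275 := rfl
theorem L142058 : sm gb N12275 = N12275 := ded_23_1 (flp_i L142056) L132968 L142056
theorem L142059 : sm gc N12275 = N11706 := ded_29_1 (flp_i L136711) (flp_c L132970) L142056
theorem L142061 : sm gd N12275 = N11255 := ded_34_1 (flp_i L132981) L132966 L142056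
theorem L142063 : sm ge N12275 = N11959 := ded_38_1 (flp_i L139001) (flp_e L132972) L142056
theorem L142065 : sm gg N12275 = N12275 := ded_43_1 (flp_i L142056) L132969 L142056
theorem L142066 : sm gh N12275 = N12175 := ded_44_1 (flp_i L141197) L141189 L142054 (flp_h L142044) L142056
theorem L142068 : sm gg N11254 = N12276 := rfl
theorem L142070 : sm gb N12276 = N12276 := ded_21_1 (flp_g L142068) L132976 L142068
theorem L142071 : sm gc N12276 = N11257 := ded_27_1 (flp_g L132997) (flp_c L132977) L142068
theorem L142073 : sm gh N12276 = N11532 := ded_42_2 (flp_g L135327) (flp_h L132979) L142068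
theorem L142075 : sm gf N12276 = N12276 := ded_39_1 (flp_g L142068) (flp_f L132974) L124941 L132974 L142068
theorem L142076 : sm gi N11254 = N12277 := rfl
theorem L142078 : sm gb N12277 = N12277 := ded_23_1 (flp_i L142076) L132976 L142076
theorem L142079 : sm gc N12277 = N11258 := ded_29_1 (flp_i L133006) (flp_c L132977) L142076
theorem L142081 : sm gf N12277 = N11255 := ded_41_1 (flp_i L132981) L132974 L142076
theorem L142083 : sm gh N11255 = N12278 := rfl
theorem L142085 : sm gb N12278 = N12278 := ded_22_1 (flp_h L142083) L132983 L142083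
theorem L142086 : sm gc N12278 = N11259 := ded_28_1 (flp_h L133014) (flp_c L132984) L142083
theorem L142088 : sm ge N12278 = N11256 := ded_37_1 (flp_h L132989) (flp_e L132986) L142083
theorem L142090 : sm gg N12278 = N12278 := ded_42_1 (flp_h L142083) L132988 L142083
theorem L142091 : sm gd N12278 = N12178 := ded_33_1 (flp_h L141224) (flp_d L141202) (flp_h L142066) L142061 L142083
theorem L142093 : sm gi N12278 = N11534 := ded_44_2 (flp_h L135340) (flp_i L127148) (flp_h L124942) L132981 L142083
theorem L142095 : sm gd N11256 = N12279 := rfl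
theorem L142097 : sm gb N12279 = N12279 := ded_18_1 (flp_d L142095) L132991 L142095
theorem L142098 : sm gg N12279 = N12279 := ded_32_2 (flp_d L142095) L132994 L142095
theorem L142099 : sm gi N12279 = N11535 := ded_34_2 (flp_d L135354) (flp_i L132995) L142095
theorem L142101 : sm gc N12279 = N11323 := ded_24_1 (flp_d L133512) L125368 (flp_d L124974) (flp_c L132992) L142095
theorem L142103 : sm ge N12279 = N12179 := ded_30_2 (flp_d L141236) (flp_e L141231) (flp_d L142091) L142088 L142095
theorem L142105 : sm gh N12279 = N11963 := ded_33_2 (flp_d L139032) (flp_h L130203) (flp_d L124949) L132989 L142095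
theorem L142107 : sm gi N11257 = N12280 := rfl
theorem L142109 : sm gb N12280 = N11270 := ded_23_1 (flp_i L133105) (flp_b L132999) L142107
theorem L142111 : sm gd N12280 = N11711 := ded_34_1 (flp_i L136754) (flp_d L133001) L142107
theorem L142113 : sm gf N12280 = N12280 := ded_41_1 (flp_i L142107) L133005 L142107
theorem L142114 : sm gg N12280 = N11258 := ded_43_1 (flp_i L133006) L132997 L142107
theorem L142116 : sm gh N11258 = N12281 := rfl
theorem L142118 : sm gb N12281 = N11271 := ded_22_1 (flp_h L133115) (flp_b L133008) L142116
theorem L142120 : sm gf N12281 = N11259 := ded_40_1 (flp_h L133014) (flp_f L133012) L142116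
theorem L142122 : sm gi N12281 = N11537 := ded_44_2 (flp_h L135371) (flp_i L127168) (flp_h L124958) L133006 L142116
theorem L142124 : sm gd N11259 = N12282 := rfl
theorem L142126 : sm gb N12282 = N11272 := ded_18_1 (flp_d L133124) (flp_b L133016) L142124
theorem L142128 : sm gg N12282 = N12282 := ded_32_2 (flp_d L142124) L133020 L142124
theorem L142129 : sm gi N12282 = N11538 := ded_34_2 (flp_d L135377) (flp_i L133021) L142124
theorem L142131 : sm gc N12282 = N12182 := ded_24_1 (flp_d L141263) (flp_c L141229) (flp_d L142091) L142086 L142124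
theorem L142133 : sm ge N12282 = N11326 := ded_30_2 (flp_d L133534) L125390 (flp_d L124974) (flp_e L133018) L142124
theorem L142135 : sm gh N12282 = N11713 := ded_33_2 (flp_d L136768) (flp_h L128498) (flp_d L124964) L133014 L142124
theorem L142137 : sm gb N11260 = N12283 := rfl
theorem L142139 : sm gd N12283 = N11290 := ded_18_2 L133267 (flp_d L133031) L142137
theorem L142141 : sm gf N12283 = N11291 := ded_20_2 L133273 (flp_f L133027) L142137
theorem L142143 : sm gh N12283 = N11263 := ded_22_2 (flp_b L133049) (flp_h L133029) L142137
theorem L142145 : sm gi N11260 = N12284 := rfl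
theorem L142147 : sm ga N12284 = N11274 := ded_16_1 (flp_i L133144) (flp_a L133025) L142145
theorem L142149 : sm gc N12284 = N11261 := ded_29_1 (flp_i L133033) L133023 L142145
theorem L142151 : sm gd N12284 = N11328 := ded_34_1 (flp_i L133551) (flp_d L133031) L142145
theorem L142153 : sm gf N12284 = N11330 := ded_41_1 (flp_i L133571) (flp_f L133027) L142145
theorem L142155 : sm gh N11261 = N12285 := rfl
theorem L142157 : sm ga N12285 = N11275 := ded_15_1 (flp_h L133152) (flp_a L133035) L142155
theorem L142159 : sm gf N12285 = N11716 := ded_40_1 (flp_h L136788) (flp_f L133039) L142155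
theorem L142161 : sm gd N12285 = N11336 := ded_33_1 (flp_h L133626) L125456 (flp_h L124996) (flp_d L133037) L142155
theorem L142163 : sm gi N12285 = N11268 := ded_44_2 (flp_h L133088) (flp_i L125030) (flp_h L124984) L133033 L142155
theorem L142165 : sm gh N11262 = N12286 := rfl
theorem L142167 : sm ga N12286 = N11276 := ded_15_1 (flp_h L133160) (flp_a L133043) L142165
theorem L142169 : sm gg N12286 = N11268 := ded_42_1 (flp_h L133088) (flp_g L133047) L142165
theorem L142171 : sm gd N12286 = N11339 := ded_33_1 (flp_h L133652) L125474 (flp_h L125014) (flp_d L133045) L142165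
theorem L142173 : sm ge N11263 = N12287 := rfl
theorem L142175 : sm gb N12287 = N11264 := ded_19_1 (flp_e L133055) L133049 L142173
theorem L142177 : sm gd N12287 = N12287 := ded_30_1 (flp_e L142173) L133051 L125110 (flp_d L133051) L142173
theorem L142178 : sm gi N11263 = N12288 := rfl
theorem L142180 : sm gb N12288 = N11265 := ded_23_1 (flp_i L133062) L133049 L142178
theorem L142182 : sm gd N12288 = N11273 := ded_34_1 (flp_i L133135) (flp_d L133051) L142178
theorem L142184 : sm gf N12288 = N11298 := ded_41_1 (flp_i L133319) (flp_f L133053) L142178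
theorem L142186 : sm gf N11264 = N12289 := rfl
theorem L142188 : sm ga N12289 = N11277 := ded_13_1 (flp_f L133166) (flp_a L133057) L142186
theorem L142190 : sm gc N12289 = N11266 := ded_26_1 (flp_f L133072) (flp_c L133059) L142186
theorem L142192 : sm gd N12289 = N12289 := ded_31_1 (flp_f L142186) L133061 L142186
theorem L142193 : sm ge N12289 = N11337 := ded_35_1 (flp_f L133632) (flp_e L125458) (flp_f L125020) L133055 L142186
theorem L142195 : sm gi N11264 = N12290 := rfl
theorem L142197 : sm ga N12290 = N11278 := ded_16_1 (flp_i L133173) (flp_a L133057) L142195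
theorem L142199 : sm gc N12290 = N11267 := ded_29_1 (flp_i L133080) (flp_c L133059) L142195
theorem L142201 : sm gd N12290 = N12290 := ded_34_1 (flp_i L142195) L133061 L142195
theorem L142202 : sm ge N12290 = N11265 := ded_38_1 (flp_i L133062) L133055 L142195
theorem L142204 : sm gh N11265 = N12291 := rfl
theorem L142206 : sm ga N12291 = N11279 := ded_15_1 (flp_h L133180) (flp_a L133064) L142204
theorem L142208 : sm gc N12291 = N11268 := ded_28_1 (flp_h L133088) (flp_c L133066) L142204
theorem L142210 : sm gf N12291 = N11339 := ded_40_1 (flp_h L133652) (flp_f L133070) L142204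
theorem L142212 : sm gi N11266 = N12292 := rfl
theorem L142214 : sm ga N12292 = N11280 := ded_16_1 (flp_i L133186) (flp_a L133074) L142212
theorem L142216 : sm gd N12292 = N11269 := ded_34_1 (flp_i L133096) (flp_d L133076) L142212
theorem L142218 : sm ge N12292 = N11718 := ded_38_1 (flp_i L136800) (flp_e L133078) L142212
theorem L142220 : sm gf N12292 = N11267 := ded_41_1 (flp_i L133080) L133072 L142212
theorem L142222 : sm gh N11267 = N12293 := rfl
theorem L142224 : sm ga N12293 = N11281 := ded_15_1 (flp_h L133194) (flp_a L133082) L142222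
theorem L142226 : sm ge N12293 = N11268 := ded_37_1 (flp_h L133088) (flp_e L133086) L142222
theorem L142228 : sm gh N11270 = N12294 := rfl
theorem L142230 : sm ga N12294 = N11282 := ded_15_1 (flp_h L133198) (flp_a L133107) L142228
theorem L142232 : sm gc N12294 = N12294 := ded_28_1 (flp_h L142228) L133109 L142228
theorem L142233 : sm gf N12294 = N12294 := ded_40_1 (flp_h L142228) L133112 L142228
theorem L142234 : sm gg N12294 = N11271 := ded_42_1 (flp_h L133115) (flp_g L133113) L142228
theorem L142236 : sm gi N12294 = N11539 := ded_44_2 (flp_h L135387) (flp_i L127182) (flp_h L125086) L133105 L142228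
theorem L142238 : sm gd N11271 = N12295 := rfl
theorem L142240 : sm ga N12295 = N11283 := ded_11_1 (flp_d L133206) (flp_a L133117) L142238
theorem L142242 : sm gf N12295 = N11272 := ded_31_2 (flp_d L133124) (flp_f L133120) L142238
theorem L142244 : sm gi N12295 = N11540 := ded_34_2 (flp_d L135395) (flp_i L133122) L142238
theorem L142246 : sm gh N12295 = N11724 := ded_33_2 (flp_d L136850) (flp_h L128574) (flp_d L125094) L133115 L142238
theorem L142248 : sm gc N11272 = N12296 := rfl
theorem L142250 : sm ga N12296 = N11284 := ded_10_1 (flp_c L133214) (flp_a L133126) L142248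
theorem L142252 : sm ge N12296 = N11357 := ded_25_2 (flp_c L133811) (flp_e L133131) L142248
theorem L142254 : sm gg N12296 = N12296 := ded_27_2 (flp_c L142248) L133128 L142248
theorem L142255 : sm gh N12296 = N11725 := ded_28_2 (flp_c L136857) (flp_h L133133) L142248
theorem L142257 : sm gi N12296 = N11541 := ded_29_2 (flp_c L135402) (flp_i L133129) L142248
theorem L142259 : sm gb N12296 = N12217 := ded_17_1 (flp_c L141557) (flp_b L141267) (flp_c L142131) L142126 L142248
theorem L142261 : sm gd N12296 = N12296 := ded_24_2 (flp_c L142248) (flp_d L133124) L125102 L133124 L142248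
theorem L142262 : sm gh N11274 = N12297 := rfl
theorem L142264 : sm gc N12297 = N11275 := ded_28_1 (flp_h L133152) (flp_c L133146) L142262
theorem L142266 : sm gf N12297 = N11360 := ded_40_1 (flp_h L133842) (flp_f L133150) L142262
theorem L142268 : sm gi N12297 = N11279 := ded_44_2 (flp_h L133180) (flp_i L125151) (flp_h L125130) L133144 L142262
theorem L142270 : sm gi N11277 = N12298 := rfl
theorem L142272 : sm gc N12298 = N11280 := ded_29_1 (flp_i L133186) (flp_c L133168) L142270
theorem L142274 : sm gd N12298 = N12298 := ded_34_1 (flp_i L142270) L133170 L142270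
theorem L142275 : sm ge N12298 = N11371 := ded_38_1 (flp_i L133925) (flp_e L133171) L142270
theorem L142277 : sm gf N12298 = N11278 := ded_41_1 (flp_i L133173) L133166 L142270
theorem L142279 : sm gh N11278 = N12299 := rfl
theorem L142281 : sm gc N12299 = N11281 := ded_28_1 (flp_h L133194) (flp_c L133175) L142279
theorem L142283 : sm ge N12299 = N11279 := ded_37_1 (flp_h L133180) (flp_e L133178) L142279
theorem L142285 : sm gh N11280 = N12300 := rfl
theorem L142287 : sm ge N12300 = N11729 := ded_37_1 (flp_h L136882) (flp_e L133190) L142285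
theorem L142289 : sm gf N12300 = N11281 := ded_40_1 (flp_h L133194) (flp_f L133192) L142285
theorem L142291 : sm ge N11285 = N12301 := rfl
theorem L142293 : sm ga N12301 = N11533 := ded_12_1 (flp_e L140894) L140885 L142291
theorem L142295 : sm gb N12301 = N11396 := ded_19_1 (flp_e L134124) (flp_b L133226) L142291
theorem L142297 : sm gc N12301 = N11289 := ded_25_1 (flp_e L133254) (flp_c L133228) L142291
theorem L142299 : sm gi N12301 = N11484 := ded_38_2 L140029 L140025 L142291
theorem L142301 : sm gf N12301 = N11485 := ded_35_2 L134891 L126701 (flp_e L125214) L133224 L142291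
theorem L142303 : sm gh N11285 = N12302 := rfl
theorem L142305 : sm gb N12302 = N11393 := ded_22_1 L134102 (flp_b L133226) L142303
theorem L142307 : sm gc N12302 = N11290 := ded_28_1 (flp_h L133265) (flp_c L133228) L142303
theorem L142309 : sm gf N12302 = N11286 := ded_40_1 (flp_h L133232) L133224 L142303
theorem L142311 : sm gd N11286 = N12303 := rfl
theorem L142313 : sm gb N12303 = N11398 := ded_18_1 (flp_d L134141) (flp_b L133234) L142311
theorem L142315 : sm gg N12303 = N11287 := ded_32_2 (flp_d L133242) (flp_g L133240) L142311
theorem L142317 : sm gi N11286 = N12304 := rfl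
theorem L142319 : sm gb N12304 = N11399 := ded_23_1 (flp_i L134148) (flp_b L133234) L142317
theorem L142321 : sm gc N12304 = N11292 := ded_29_1 (flp_i L133279) (flp_c L133236) L142317
theorem L142323 : sm ge N12304 = N11543 := ded_38_1 (flp_i L135420) (flp_e L133238) L142317
theorem L142325 : sm gg N12304 = N11288 := ded_43_1 (flp_i L133246) (flp_g L133240) L142317
theorem L142327 : sm gc N11287 = N12305 := rfl
theorem L142329 : sm gd N12305 = N11293 := ded_24_2 (flp_c L133287) (flp_d L125238) (flp_c L125220) L133242 L142327
theorem L142331 : sm ge N11287 = N12306 := rfl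
theorem L142333 : sm gb N12306 = N11401 := ded_19_1 (flp_e L134166) (flp_b L133244) L142331
theorem L142335 : sm gd N12306 = N11545 := ded_30_1 (flp_e L135435) (flp_d L127232) (flp_e L125222) L133242 L142331
theorem L142337 : sm gi N11287 = N12307 := rfl
theorem L142339 : sm gb N12307 = N11402 := ded_23_1 (flp_i L134171) (flp_b L133244) L142337
theorem L142341 : sm gd N12307 = N11288 := ded_34_1 (flp_i L133246) L133242 L142337
theorem L142343 : sm gh N11289 = N12308 := rfl
theorem L142345 : sm ga N12308 = N11537 := ded_15_1 (flp_h L135371) (flp_a L133256) L142343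
theorem L142347 : sm gb N12308 = N11327 := ded_22_1 (flp_h L133541) (flp_b L133258) L142343
theorem L142349 : sm ge N12308 = N11290 := ded_37_1 (flp_h L133265) L133254 L142343
theorem L142351 : sm gf N12308 = N11487 := ded_40_1 (flp_h L134905) (flp_f L133263) L142343
theorem L142353 : sm gi N11290 = N12309 := rfl
theorem L142355 : sm gb N12309 = N11328 := ded_23_1 (flp_i L133551) (flp_b L133267) L142353
theorem L142357 : sm gf N12309 = N11292 := ded_41_1 (flp_i L133279) (flp_f L133269) L142353
theorem L142359 : sm gc N11291 = N12310 := rfl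
theorem L142361 : sm gg N12310 = N11293 := ded_27_2 (flp_c L133287) (flp_g L133275) L142359
theorem L142363 : sm gh N12310 = N11296 := ded_28_2 (flp_c L133305) (flp_h L133277) L142359
theorem L142365 : sm gb N12310 = N11689 := ded_17_1 (flp_c L136598) L128393 (flp_c L125420) (flp_b L133273) L142359
theorem L142367 : sm ge N11291 = N12311 := rfl
theorem L142369 : sm ga N12311 = N11566 := ded_12_1 (flp_e L140939) L140933 L142367
theorem L142371 : sm gb N12311 = N11329 := ded_19_1 (flp_e L133559) (flp_b L133273) L142367
theorem L142373 : sm gg N12311 = N11294 := ded_36_2 (flp_e L133291) (flp_g L133275) L142367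
theorem L142375 : sm gh N12311 = N11297 := ded_37_2 (flp_e L133311) (flp_h L133277) L142367
theorem L142377 : sm gd N12311 = N11504 := ded_30_1 L135077 L126895 (flp_e L125234) L133271 L142367
theorem L142379 : sm gi N11291 = N12312 := rfl
theorem L142381 : sm gb N12312 = N11330 := ded_23_1 (flp_i L133571) (flp_b L133273) L142379
theorem L142383 : sm gd N12312 = N11292 := ded_34_1 (flp_i L133279) L133271 L142379
theorem L142385 : sm gg N12312 = N11295 := ded_43_1 (flp_i L133299) (flp_g L133275) L142379
theorem L142387 : sm gb N11293 = N12313 := rfl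
theorem L142389 : sm gg N12313 = N11689 := ded_21_2 (flp_b L142365) L142361 L142387
theorem L142391 : sm gh N12313 = N11299 := ded_22_2 (flp_b L133327) (flp_h L133289) L142387
theorem L142393 : sm gc N12313 = N11331 := ded_17_2 (flp_b L133581) (flp_c L125434) (flp_b L125240) L133287 L142387
theorem L142395 : sm ge N11293 = N12314 := rfl
theorem L142397 : sm gc N12314 = N11294 := ded_25_1 (flp_e L133291) L133287 L142395
theorem L142399 : sm gh N12314 = N11300 := ded_37_2 (flp_e L133335) (flp_h L133289) L142395
theorem L142401 : sm gi N11293 = N12315 := rfl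
theorem L142403 : sm gc N12315 = N11295 := ded_29_1 (flp_i L133299) L133287 L142401
theorem L142405 : sm gf N11294 = N12316 := rfl
theorem L142407 : sm gb N12316 = N11334 := ded_20_1 (flp_f L133610) (flp_b L133293) L142405
theorem L142409 : sm gd N12316 = N11549 := ded_31_1 (flp_f L135460) (flp_d L133297) L142405
theorem L142411 : sm gh N12316 = N11302 := ded_40_2 (flp_f L133343) (flp_h L133295) L142405
theorem L142413 : sm gi N11294 = N12317 := rfl
theorem L142415 : sm gb N12317 = N11335 := ded_23_1 (flp_i L133618) (flp_b L133293) L142413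
theorem L142417 : sm gd N12317 = N11550 := ded_34_1 (flp_i L135467) (flp_d L133297) L142413
theorem L142419 : sm ge N12317 = N11295 := ded_38_1 (flp_i L133299) L133291 L142413
theorem L142421 : sm gh N11295 = N12318 := rfl
theorem L142423 : sm gb N12318 = N11336 := ded_22_1 (flp_h L133626) (flp_b L133301) L142421
theorem L142425 : sm gi N12318 = N11304 := ded_44_2 (flp_h L133357) (flp_i L125272) (flp_h L125242) L133299 L142421
theorem L142427 : sm ge N11296 = N12319 := rfl
theorem L142429 : sm gb N12319 = N11692 := ded_19_1 (flp_e L136615) (flp_b L133309) L142427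
theorem L142431 : sm gc N12319 = N11297 := ded_25_1 (flp_e L133311) L133305 L142427
theorem L142433 : sm gg N12319 = N11300 := ded_36_2 (flp_e L133335) (flp_g L133307) L142427
theorem L142435 : sm gi N11296 = N12320 := rfl
theorem L142437 : sm gb N12320 = N11693 := ded_23_1 (flp_i L136619) (flp_b L133309) L142435
theorem L142439 : sm gc N12320 = N11298 := ded_29_1 (flp_i L133319) L133305 L142435
theorem L142441 : sm gg N12320 = N11301 := ded_43_1 (flp_i L133339) (flp_g L133307) L142435
theorem L142443 : sm gf N11297 = N12321 := rfl
theorem L142445 : sm gb N12321 = N11337 := ded_20_1 (flp_f L133632) (flp_b L133313) L142443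
theorem L142447 : sm gd N12321 = N11307 := ded_31_1 (flp_f L133380) (flp_d L133317) L142443
theorem L142449 : sm gi N11297 = N12322 := rfl
theorem L142451 : sm gb N12322 = N11338 := ded_23_1 (flp_i L133640) (flp_b L133313) L142449
theorem L142453 : sm gd N12322 = N11308 := ded_34_1 (flp_i L133387) (flp_d L133317) L142449
theorem L142455 : sm ge N12322 = N11298 := ded_38_1 (flp_i L133319) L133311 L142449
theorem L142457 : sm gg N12322 = N11303 := ded_43_1 (flp_i L133349) (flp_g L133315) L142449
theorem L142459 : sm gh N11298 = N12323 := rfl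
theorem L142461 : sm gb N12323 = N11339 := ded_22_1 (flp_h L133652) (flp_b L133321) L142459
theorem L142463 : sm gg N12323 = N11304 := ded_42_1 (flp_h L133357) (flp_g L133325) L142459
theorem L142465 : sm ga N11299 = N12324 := rfl
theorem L142467 : sm gc N12324 = N11340 := ded_10_2 (flp_a L133660) (flp_c L133333) L142465
theorem L142469 : sm gd N12324 = N12153 := ded_11_2 L141002 (flp_d L133329) L142465
theorem L142471 : sm gg N12324 = N11641 := ded_14_2 L136249 (flp_g L133331) L142465
theorem L142473 : sm ge N11299 = N12325 := rfl
theorem L142475 : sm gb N12325 = N11300 := ded_19_1 (flp_e L133335) L133327 L142473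
theorem L142477 : sm gc N12325 = N11341 := ded_25_1 (flp_e L133668) (flp_c L133333) L142473
theorem L142479 : sm gg N12325 = N11692 := ded_36_2 (flp_e L136615) (flp_g L133331) L142473
theorem L142481 : sm gi N11299 = N12326 := rfl
theorem L142483 : sm gb N12326 = N11301 := ded_23_1 (flp_i L133339) L133327 L142481
theorem L142485 : sm gc N12326 = N11342 := ded_29_1 (flp_i L133676) (flp_c L133333) L142481
theorem L142487 : sm gd N12326 = N12320 := ded_34_1 (flp_i L142435) (flp_d L133329) L142481
theorem L142489 : sm gg N12326 = N11693 := ded_43_1 (flp_i L136619) (flp_g L133331) L142481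
theorem L142491 : sm gd N11300 = N12327 := rfl
theorem L142493 : sm gc N12327 = N11310 := ded_24_1 (flp_d L133408) L125308 (flp_d L125270) (flp_c L133337) L142491
theorem L142495 : sm gf N11300 = N12328 := rfl
theorem L142497 : sm gc N12328 = N11302 := ded_26_1 (flp_f L133343) (flp_c L133337) L142495
theorem L142499 : sm gi N11300 = N12329 := rfl
theorem L142501 : sm gc N12329 = N11303 := ded_29_1 (flp_i L133349) (flp_c L133337) L142499
theorem L142503 : sm ge N12329 = N11301 := ded_38_1 (flp_i L133339) L133335 L142499
theorem L142505 : sm gh N11301 = N12330 := rfl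
theorem L142507 : sm gc N12330 = N11304 := ded_28_1 (flp_h L133357) (flp_c L133341) L142505
theorem L142509 : sm gg N11302 = N12331 := rfl
theorem L142511 : sm gb N12331 = N11346 := ded_21_1 (flp_g L133712) (flp_b L133345) L142509
theorem L142513 : sm gd N12331 = N11314 := ded_32_1 (flp_g L133440) (flp_d L133347) L142509
theorem L142515 : sm gi N11302 = N12332 := rfl
theorem L142517 : sm gb N12332 = N11347 := ded_23_1 (flp_i L133718) (flp_b L133345) L142515
theorem L142519 : sm gd N12332 = N11315 := ded_34_1 (flp_i L133448) (flp_d L133347) L142515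
theorem L142521 : sm gf N12332 = N11303 := ded_41_1 (flp_i L133349) L133343 L142515
theorem L142523 : sm gh N11303 = N12333 := rfl
theorem L142525 : sm gb N12333 = N11348 := ded_22_1 (flp_h L133726) (flp_b L133351) L142523
theorem L142527 : sm ge N12333 = N11304 := ded_37_1 (flp_h L133357) (flp_e L133355) L142523
theorem L142529 : sm gd N11305 = N12334 := rfl
theorem L142531 : sm gb N12334 = N11419 := ded_18_1 (flp_d L134321) (flp_b L133363) L142529
theorem L142533 : sm gg N12334 = N11310 := ded_32_2 (flp_d L133408) (flp_g L133367) L142529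
theorem L142535 : sm gf N11305 = N12335 := rfl
theorem L142537 : sm gb N12335 = N11420 := ded_20_1 (flp_f L134330) (flp_b L133363) L142535
theorem L142539 : sm gc N12335 = N11307 := ded_26_1 (flp_f L133380) (flp_c L133365) L142535
theorem L142541 : sm gh N12335 = N11555 := ded_40_2 (flp_f L135499) (flp_h L133369) L142535
theorem L142543 : sm ge N12335 = N12335 := ded_35_1 (flp_f L142535) (flp_e L133361) L125280 L133361 L142535
theorem L142544 : sm gi N11305 = N12336 := rfl
theorem L142546 : sm gb N12336 = N11421 := ded_23_1 (flp_i L134338) (flp_b L133363) L142544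
theorem L142548 : sm gc N12336 = N11308 := ded_29_1 (flp_i L133387) (flp_c L133365) L142544
theorem L142550 : sm ge N12336 = N11306 := ded_38_1 (flp_i L133371) L133361 L142544
theorem L142552 : sm gg N12336 = N11312 := ded_43_1 (flp_i L133422) (flp_g L133367) L142544
theorem L142554 : sm gh N11306 = N12337 := rfl
theorem L142556 : sm ga N12337 = N11548 := ded_15_1 (flp_h L141089) L141081 L142554
theorem L142558 : sm gb N12337 = N11422 := ded_22_1 (flp_h L134347) (flp_b L133373) L142554
theorem L142560 : sm gc N12337 = N11309 := ded_28_1 (flp_h L133395) (flp_c L133375) L142554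
theorem L142562 : sm gf N12337 = N12337 := ded_40_1 (flp_h L142554) L133377 L142554
theorem L142563 : sm gg N12337 = N11313 := ded_42_1 (flp_h L133430) (flp_g L133378) L142554
theorem L142565 : sm gi N12337 = N11492 := ded_44_2 L134955 L126806 (flp_h L125283) L133371 L142554
theorem L142567 : sm gg N11307 = N12338 := rfl
theorem L142569 : sm gb N12338 = N11349 := ded_21_1 (flp_g L133732) (flp_b L133382) L142567
theorem L142571 : sm ge N12338 = N12338 := ded_36_1 (flp_g L142567) L133386 L142567
theorem L142572 : sm gh N12338 = N11556 := ded_42_2 (flp_g L135506) (flp_h L133384) L142567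
theorem L142574 : sm gf N12338 = N11314 := ded_39_1 (flp_g L133440) (flp_f L125320) (flp_g L125291) L133380 L142567
theorem L142576 : sm gi N11307 = N12339 := rfl
theorem L142578 : sm gb N12339 = N11350 := ded_23_1 (flp_i L133743) (flp_b L133382) L142576
theorem L142580 : sm ge N12339 = N12339 := ded_38_1 (flp_i L142576) L133386 L142576
theorem L142581 : sm gf N12339 = N11308 := ded_41_1 (flp_i L133387) L133380 L142576
theorem L142583 : sm gh N11308 = N12340 := rfl
theorem L142585 : sm ga N12340 = N11550 := ded_15_1 (flp_h L141110) L141102 L142583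
theorem L142587 : sm gb N12340 = N11351 := ded_22_1 (flp_h L133752) (flp_b L133389) L142583
theorem L142589 : sm ge N12340 = N11309 := ded_37_1 (flp_h L133395) (flp_e L133391) L142583
theorem L142591 : sm gg N12340 = N11316 := ded_42_1 (flp_h L133456) (flp_g L133393) L142583
theorem L142593 : sm gi N12340 = N11493 := ded_44_2 L134967 L126819 (flp_h L125293) L133387 L142583
theorem L142595 : sm gf N11310 = N12341 := rfl
theorem L142597 : sm gb N12341 = N11426 := ded_20_1 (flp_f L134390) (flp_b L133410) L142595
theorem L142599 : sm gd N12341 = N11311 := ded_31_1 (flp_f L133412) L133408 L142595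
theorem L142601 : sm gh N11310 = N12342 := rfl
theorem L142603 : sm gb N12342 = N11427 := ded_22_1 (flp_h L134395) (flp_b L133410) L142601
theorem L142605 : sm gd N12342 = N11558 := ded_33_1 (flp_h L135519) (flp_d L127295) (flp_h L125310) L133408 L142601
theorem L142607 : sm gi N11310 = N12343 := rfl
theorem L142609 : sm gb N12343 = N11428 := ded_23_1 (flp_i L134400) (flp_b L133410) L142607
theorem L142611 : sm gd N12343 = N11312 := ded_34_1 (flp_i L133422) L133408 L142607
theorem L142613 : sm gg N11311 = N12344 := rfl
theorem L142615 : sm gb N12344 = N11429 := ded_21_1 (flp_g L134405) (flp_b L133414) L142613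
theorem L142617 : sm gc N12344 = N11314 := ded_27_1 (flp_g L133440) (flp_c L133416) L142613
theorem L142619 : sm ge N12344 = N11320 := ded_36_1 (flp_g L133484) (flp_e L133420) L142613
theorem L142621 : sm gh N12344 = N11560 := ded_42_2 (flp_g L135531) (flp_h L133418) L142613
theorem L142623 : sm gi N11311 = N12345 := rfl
theorem L142625 : sm gb N12345 = N11430 := ded_23_1 (flp_i L134414) (flp_b L133414) L142623
theorem L142627 : sm gc N12345 = N11315 := ded_29_1 (flp_i L133448) (flp_c L133416) L142623
theorem L142629 : sm ge N12345 = N11321 := ded_38_1 (flp_i L133493) (flp_e L133420) L142623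
theorem L142631 : sm gf N12345 = N11312 := ded_41_1 (flp_i L133422) L133412 L142623
theorem L142633 : sm gh N11312 = N12346 := rfl
theorem L142635 : sm gb N12346 = N11431 := ded_22_1 (flp_h L134423) (flp_b L133424) L142633
theorem L142637 : sm gc N12346 = N11316 := ded_28_1 (flp_h L133456) (flp_c L133426) L142633
theorem L142639 : sm ge N12346 = N11313 := ded_37_1 (flp_h L133430) (flp_e L133428) L142633
theorem L142641 : sm gi N12346 = N11562 := ded_44_2 (flp_h L135549) (flp_i L127308) (flp_h L125310) L133422 L142633
theorem L142643 : sm gd N11313 = N12347 := rfl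
theorem L142645 : sm gb N12347 = N11432 := ded_18_1 (flp_d L134432) (flp_b L133432) L142643
theorem L142647 : sm gf N12347 = N11323 := ded_31_2 (flp_d L133512) (flp_f L133436) L142643
theorem L142649 : sm gi N12347 = N11563 := ded_34_2 (flp_d L135557) (flp_i L133438) L142643
theorem L142651 : sm gi N11314 = N12348 := rfl
theorem L142653 : sm gb N12348 = N11352 := ded_23_1 (flp_i L133764) (flp_b L133442) L142651
theorem L142655 : sm ge N12348 = N11324 := ded_38_1 (flp_i L133519) (flp_e L133444) L142651
theorem L142657 : sm gg N12348 = N11315 := ded_43_1 (flp_i L133448) L133440 L142651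
theorem L142659 : sm gh N11315 = N12349 := rfl
theorem L142661 : sm gb N12349 = N11353 := ded_22_1 (flp_h L133774) (flp_b L133450) L142659
theorem L142663 : sm ge N12349 = N11325 := ded_37_1 (flp_h L133526) (flp_e L133452) L142659
theorem L142665 : sm gf N12349 = N11316 := ded_40_1 (flp_h L133456) (flp_f L133454) L142659
theorem L142667 : sm gi N12349 = N11565 := ded_44_2 (flp_h L135572) (flp_i L127330) (flp_h L125324) L133448 L142659
theorem L142669 : sm gd N11316 = N12350 := rfl
theorem L142671 : sm gb N12350 = N11354 := ded_18_1 (flp_d L133786) (flp_b L133458) L142669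
theorem L142673 : sm gi N12350 = N11566 := ded_34_2 (flp_d L135580) (flp_i L133462) L142669
theorem L142675 : sm ge N11317 = N12351 := rfl
theorem L142677 : sm gb N12351 = N11436 := ded_19_1 (flp_e L134468) (flp_b L133466) L142675
theorem L142679 : sm gg N11317 = N12352 := rfl
theorem L142681 : sm gb N12352 = N11437 := ded_21_1 (flp_g L134472) (flp_b L133466) L142679
theorem L142683 : sm gd N12352 = N11320 := ded_32_1 (flp_g L133484) (flp_d L133468) L142679
theorem L142685 : sm gf N12352 = N12352 := ded_39_1 (flp_g L142679) (flp_f L133464) L125346 L133464 L142679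
theorem L142686 : sm gh N11317 = N12353 := rfl
theorem L142688 : sm gb N12353 = N11438 := ded_22_1 (flp_h L134479) (flp_b L133466) L142686
theorem L142690 : sm gf N12353 = N11318 := ded_40_1 (flp_h L133470) L133464 L142686
theorem L142692 : sm gd N12353 = N11569 := ded_33_1 (flp_h L135600) L127349 (flp_h L125353) (flp_d L133468) L142686
theorem L142694 : sm gi N11317 = N12354 := rfl
theorem L142696 : sm gb N12354 = N11439 := ded_23_1 (flp_i L134487) (flp_b L133466) L142694
theorem L142698 : sm gd N12354 = N11321 := ded_34_1 (flp_i L133493) (flp_d L133468) L142694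
theorem L142700 : sm gf N12354 = N11319 := ded_41_1 (flp_i L133477) L133464 L142694
theorem L142702 : sm gi N11318 = N12355 := rfl
theorem L142704 : sm ga N12355 = N12274 := ded_16_1 (flp_i L142054) L141191 L142702
theorem L142706 : sm gb N12355 = N11440 := ded_23_1 (flp_i L134495) (flp_b L133472) L142702
theorem L142708 : sm gd N12355 = N11571 := ded_34_1 (flp_i L135620) (flp_d L133475) L142702
theorem L142710 : sm gg N12355 = N12355 := ded_43_1 (flp_i L142702) L133474 L142702
theorem L142711 : sm gh N12108 = N12355 := ded_15_0 L142704 (flp_h L142044) (flp_a L140562)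
theorem L142713 : sm gh N11319 = N12356 := rfl
theorem L142715 : sm ga N12356 = N12275 := ded_15_1 L142066 L141199 L142713
theorem L142717 : sm gb N12356 = N11441 := ded_22_1 (flp_h L134502) (flp_b L133479) L142713
theorem L142719 : sm gg N12356 = N12356 := ded_42_1 (flp_h L142713) L133483 L142713
theorem L142720 : sm gi N12356 = N12108 := ded_44_2 L142711 (flp_i L142702) (flp_h L133470) L133477 L142713
theorem L142722 : sm gd N12110 = N12356 := ded_11_0 L142715 L142061 (flp_a L140579)
theorem L142724 : sm gi N11320 = N12357 := rfl
theorem L142726 : sm gb N12357 = N11442 := ded_23_1 (flp_i L134507) (flp_b L133486) L142724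
theorem L142728 : sm gc N12357 = N11324 := ded_29_1 (flp_i L133519) (flp_c L133488) L142724
theorem L142730 : sm gf N12357 = N12357 := ded_41_1 (flp_i L142724) L133492 L142724
theorem L142731 : sm gg N12357 = N11321 := ded_43_1 (flp_i L133493) L133484 L142724
theorem L142733 : sm gh N11321 = N12358 := rfl
theorem L142735 : sm gb N12358 = N11443 := ded_22_1 (flp_h L134515) (flp_b L133495) L142733
theorem L142737 : sm gc N12358 = N11325 := ded_28_1 (flp_h L133526) (flp_c L133497) L142733
theorem L142739 : sm gf N12358 = N11322 := ded_40_1 (flp_h L133501) (flp_f L133499) L142733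
theorem L142741 : sm gi N12358 = N11574 := ded_44_2 (flp_h L135653) (flp_i L127374) (flp_h L125353) L133493 L142733
theorem L142743 : sm gd N11322 = N12359 := rfl
theorem L142745 : sm ga N12359 = N12278 := ded_11_1 L142091 L141226 L142743
theorem L142747 : sm gb N12359 = N11444 := ded_18_1 (flp_d L134524) (flp_b L133503) L142743
theorem L142749 : sm gg N12359 = N12359 := ded_32_2 (flp_d L142743) L133509 L142743
theorem L142750 : sm gi N12359 = N11575 := ded_34_2 (flp_d L135661) (flp_i L133510) L142743
theorem L142752 : sm gh N12359 = N12110 := ded_33_2 L142722 (flp_h L142713) L133481 L133501 L142743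
theorem L142754 : sm gc N12113 = N12359 := ded_10_0 L142745 L142086 (flp_a L140611)
theorem L142756 : sm ge N12111 = N12359 := ded_12_0 L142745 L142088 (flp_a L140588)
theorem L142758 : sm ge N11323 = N12360 := rfl
theorem L142760 : sm ga N12360 = N12279 := ded_12_1 L142103 L141238 L142758
theorem L142762 : sm gb N12360 = N11445 := ded_19_1 (flp_e L134530) (flp_b L133514) L142758
theorem L142764 : sm gc N12360 = N12179 := ded_25_1 (flp_e L142103) L142101 L142758
theorem L142766 : sm gg N12360 = N12360 := ded_36_2 (flp_e L142758) L133516 L142758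
theorem L142767 : sm gi N12360 = N11576 := ded_38_2 (flp_e L135674) (flp_i L133517) L142758
theorem L142769 : sm gd N12360 = N12111 := ded_30_1 L142756 (flp_d L142743) L133507 L133512 L142758
theorem L142771 : sm gh N11324 = N12361 := rfl
theorem L142773 : sm gb N12361 = N11355 := ded_22_1 (flp_h L133792) (flp_b L133521) L142771
theorem L142775 : sm gf N12361 = N12361 := ded_40_1 (flp_h L142771) L133523 L142771
theorem L142776 : sm gg N12361 = N11325 := ded_42_1 (flp_h L133526) (flp_g L133524) L142771
theorem L142778 : sm gi N12361 = N11577 := ded_44_2 (flp_h L135688) (flp_i L127397) (flp_h L125377) L133519 L142771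
theorem L142780 : sm gd N11325 = N12362 := rfl
theorem L142782 : sm gb N12362 = N11356 := ded_18_1 (flp_d L133803) (flp_b L133528) L142780
theorem L142784 : sm gf N12362 = N11326 := ded_31_2 (flp_d L133534) (flp_f L133530) L142780
theorem L142786 : sm gi N12362 = N11578 := ded_34_2 (flp_d L135695) (flp_i L133532) L142780
theorem L142788 : sm gc N11326 = N12363 := rfl
theorem L142790 : sm ga N12363 = N12282 := ded_10_1 L142131 L141265 L142788
theorem L142792 : sm ge N12363 = N12182 := ded_25_2 (flp_c L142131) L142133 L142788
theorem L142794 : sm gg N12363 = N12363 := ded_27_2 (flp_c L142788) L133538 L142788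
theorem L142795 : sm gi N12363 = N11579 := ded_29_2 (flp_c L135702) (flp_i L133539) L142788
theorem L142797 : sm gd N12363 = N12113 := ded_24_2 L142754 (flp_d L142743) L133505 L133534 L142788
theorem L142799 : sm gb N12122 = N12363 := ded_9_0 L142790 L142126 L133126 (flp_b L131923) (flp_a L140702)
theorem L142801 : sm gf N11329 = N12364 := rfl
theorem L142803 : sm ga N12364 = N11359 := ded_13_1 (flp_f L133832) (flp_a L133561) L142801
theorem L142805 : sm gc N12364 = N11714 := ded_26_1 (flp_f L136774) (flp_c L133563) L142801
theorem L142807 : sm gd N12364 = N11519 := ded_31_1 L135221 (flp_d L133569) L142801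
theorem L142809 : sm gh N12364 = N11337 := ded_40_2 (flp_f L133632) (flp_h L133567) L142801
theorem L142811 : sm gh N11330 = N12365 := rfl
theorem L142813 : sm ga N12365 = N11360 := ded_15_1 (flp_h L133842) (flp_a L133573) L142811
theorem L142815 : sm gc N12365 = N11716 := ded_28_1 (flp_h L136788) (flp_c L133575) L142811
theorem L142817 : sm gg N12365 = N11336 := ded_42_1 (flp_h L133626) (flp_g L133579) L142811
theorem L142819 : sm gi N12365 = N11339 := ded_44_2 (flp_h L133652) (flp_i L125468) (flp_h L125422) L133571 L142811
theorem L142821 : sm ga N11331 = N12366 := rfl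
theorem L142823 : sm gd N12366 = N11406 := ded_11_2 (flp_a L134203) (flp_d L133583) L142821
theorem L142825 : sm gg N12366 = N11639 := ded_14_2 L136234 (flp_g L133585) L142821
theorem L142827 : sm gh N12366 = N11340 := ded_15_2 (flp_a L133660) (flp_h L133587) L142821
theorem L142829 : sm gb N12366 = N11361 := ded_9_2 (flp_a L133850) (flp_b L125668) (flp_a L125436) L133581 L142821
theorem L142831 : sm ge N11331 = N12367 := rfl
theorem L142833 : sm gb N12367 = N11332 := ded_19_1 (flp_e L133589) L133581 L142831
theorem L142835 : sm gg N12367 = N11690 := ded_36_2 (flp_e L136602) (flp_g L133585) L142831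
theorem L142837 : sm gh N12367 = N11341 := ded_37_2 (flp_e L133668) (flp_h L133587) L142831
theorem L142839 : sm gd N12367 = N12367 := ded_30_1 (flp_e L142831) L133583 L126042 (flp_d L133583) L142831
theorem L142840 : sm gi N11331 = N12368 := rfl
theorem L142842 : sm gb N12368 = N11333 := ded_23_1 (flp_i L133600) L133581 L142840
theorem L142844 : sm gd N12368 = N11407 := ded_34_1 (flp_i L134212) (flp_d L133583) L142840
theorem L142846 : sm gg N12368 = N11691 := ded_43_1 (flp_i L136609) (flp_g L133585) L142840
theorem L142848 : sm gf N11332 = N12369 := rfl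
theorem L142850 : sm ga N12369 = N11364 := ded_13_1 (flp_f L133875) (flp_a L133591) L142848
theorem L142852 : sm gc N12369 = N11334 := ded_26_1 (flp_f L133610) (flp_c L133593) L142848
theorem L142854 : sm gd N12369 = N12369 := ded_31_1 (flp_f L142848) L133599 L142848
theorem L142855 : sm gh N12369 = N11343 := ded_40_2 (flp_f L133684) (flp_h L133597) L142848
theorem L142857 : sm gi N11332 = N12370 := rfl
theorem L142859 : sm ga N12370 = N11365 := ded_16_1 (flp_i L133882) (flp_a L133591) L142857
theorem L142861 : sm gc N12370 = N11335 := ded_29_1 (flp_i L133618) (flp_c L133593) L142857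
theorem L142863 : sm gd N12370 = N12370 := ded_34_1 (flp_i L142857) L133599 L142857
theorem L142864 : sm ge N12370 = N11333 := ded_38_1 (flp_i L133600) L133589 L142857
theorem L142866 : sm gg N12370 = N11715 := ded_43_1 (flp_i L136781) (flp_g L133595) L142857
theorem L142868 : sm gh N11333 = N12371 := rfl
theorem L142870 : sm ga N12371 = N11366 := ded_15_1 (flp_h L133891) (flp_a L133602) L142868
theorem L142872 : sm gc N12371 = N11336 := ded_28_1 (flp_h L133626) (flp_c L133604) L142868
theorem L142874 : sm gg N12371 = N11716 := ded_42_1 (flp_h L136788) (flp_g L133608) L142868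
theorem L142876 : sm gi N12371 = N11345 := ded_44_2 (flp_h L133704) (flp_i L125494) (flp_h L125440) L133600 L142868
theorem L142878 : sm gg N11334 = N12372 := rfl
theorem L142880 : sm ga N12372 = N11367 := ded_14_1 (flp_g L133899) (flp_a L133612) L142878
theorem L142882 : sm gd N12372 = N11580 := ded_32_1 (flp_g L135714) (flp_d L133614) L142878
theorem L142884 : sm gh N12372 = N11346 := ded_42_2 (flp_g L133712) (flp_h L133616) L142878
theorem L142886 : sm gi N11334 = N12373 := rfl
theorem L142888 : sm ga N12373 = N11368 := ded_16_1 (flp_i L133905) (flp_a L133612) L142886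
theorem L142890 : sm gd N12373 = N11581 := ded_34_1 (flp_i L135722) (flp_d L133614) L142886
theorem L142892 : sm gf N12373 = N11335 := ded_41_1 (flp_i L133618) L133610 L142886
theorem L142894 : sm gh N11335 = N12374 := rfl
theorem L142896 : sm ga N12374 = N11369 := ded_15_1 (flp_h L133911) (flp_a L133620) L142894
theorem L142898 : sm ge N12374 = N11336 := ded_37_1 (flp_h L133626) (flp_e L133624) L142894
theorem L142900 : sm gi N12374 = N11348 := ded_44_2 (flp_h L133726) (flp_i L125510) (flp_h L125448) L133618 L142894
theorem L142902 : sm gg N11337 = N12375 := rfl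
theorem L142904 : sm ga N12375 = N11370 := ded_14_1 (flp_g L133917) (flp_a L133634) L142902
theorem L142906 : sm gc N12375 = N11717 := ded_27_1 (flp_g L136794) (flp_c L133636) L142902
theorem L142908 : sm gd N12375 = N11349 := ded_32_1 (flp_g L133732) (flp_d L133638) L142902
theorem L142910 : sm gf N12375 = N11346 := ded_39_1 (flp_g L133712) (flp_f L125504) (flp_g L125464) L133632 L142902
theorem L142912 : sm gi N11337 = N12376 := rfl
theorem L142914 : sm ga N12376 = N11371 := ded_16_1 (flp_i L133925) (flp_a L133634) L142912
theorem L142916 : sm gc N12376 = N11718 := ded_29_1 (flp_i L136800) (flp_c L133636) L142912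
theorem L142918 : sm gd N12376 = N11350 := ded_34_1 (flp_i L133743) (flp_d L133638) L142912
theorem L142920 : sm gf N12376 = N11338 := ded_41_1 (flp_i L133640) L133632 L142912
theorem L142922 : sm gh N11338 = N12377 := rfl
theorem L142924 : sm ga N12377 = N11372 := ded_15_1 (flp_h L133933) (flp_a L133642) L142922
theorem L142926 : sm gc N12377 = N11719 := ded_28_1 (flp_h L136808) (flp_c L133644) L142922
theorem L142928 : sm ge N12377 = N11339 := ded_37_1 (flp_h L133652) (flp_e L133648) L142922
theorem L142930 : sm gg N12377 = N11348 := ded_42_1 (flp_h L133726) (flp_g L133650) L142922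
theorem L142932 : sm ge N11340 = N12378 := rfl
theorem L142934 : sm ga N12378 = N11341 := ded_12_1 (flp_e L133668) L133660 L142932
theorem L142936 : sm gb N12378 = N11373 := ded_19_1 (flp_e L133941) (flp_b L133666) L142932
theorem L142938 : sm gg N12378 = N11642 := ded_36_2 (flp_e L136253) (flp_g L133664) L142932
theorem L142940 : sm gd N12378 = N11449 := ded_30_1 (flp_e L134565) L126325 (flp_e L125614) (flp_d L133662) L142932
theorem L142942 : sm gi N11340 = N12379 := rfl
theorem L142944 : sm ga N12379 = N11342 := ded_16_1 (flp_i L133676) L133660 L142942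
theorem L142946 : sm gb N12379 = N11374 := ded_23_1 (flp_i L133949) (flp_b L133666) L142942
theorem L142948 : sm gd N12379 = N11358 := ded_34_1 (flp_i L133820) (flp_d L133662) L142942
theorem L142950 : sm gg N12379 = N11643 := ded_43_1 (flp_i L136261) (flp_g L133664) L142942
theorem L142952 : sm gf N11341 = N12380 := rfl
theorem L142954 : sm gb N12380 = N11343 := ded_20_1 (flp_f L133684) (flp_b L133670) L142952
theorem L142956 : sm gd N12380 = N11451 := ded_31_1 (flp_f L134585) (flp_d L133674) L142952
theorem L142958 : sm gi N11341 = N12381 := rfl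
theorem L142960 : sm gb N12381 = N11344 := ded_23_1 (flp_i L133692) (flp_b L133670) L142958
theorem L142962 : sm gd N12381 = N11452 := ded_34_1 (flp_i L134591) (flp_d L133674) L142958
theorem L142964 : sm ge N12381 = N11342 := ded_38_1 (flp_i L133676) L133668 L142958
theorem L142966 : sm gg N12381 = N11695 := ded_43_1 (flp_i L136631) (flp_g L133672) L142958
theorem L142968 : sm gh N11342 = N12382 := rfl
theorem L142970 : sm gb N12382 = N11345 := ded_22_1 (flp_h L133704) (flp_b L133678) L142968
theorem L142972 : sm gg N12382 = N11696 := ded_42_1 (flp_h L136639) (flp_g L133682) L142968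
theorem L142974 : sm gg N11343 = N12383 := rfl
theorem L142976 : sm ga N12383 = N11378 := ded_14_1 (flp_g L133979) (flp_a L133686) L142974
theorem L142978 : sm gc N12383 = N11346 := ded_27_1 (flp_g L133712) (flp_c L133688) L142974
theorem L142980 : sm gd N12383 = N11454 := ded_32_1 (flp_g L134607) (flp_d L133690) L142974
theorem L142982 : sm gf N12383 = N11717 := ded_39_1 (flp_g L136794) (flp_f L128519) (flp_g L125490) L133684 L142974
theorem L142984 : sm gi N11343 = N12384 := rfl
theorem L142986 : sm ga N12384 = N11379 := ded_16_1 (flp_i L133987) (flp_a L133686) L142984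
theorem L142988 : sm gc N12384 = N11347 := ded_29_1 (flp_i L133718) (flp_c L133688) L142984
theorem L142990 : sm gd N12384 = N11455 := ded_34_1 (flp_i L134617) (flp_d L133690) L142984
theorem L142992 : sm gf N12384 = N11344 := ded_41_1 (flp_i L133692) L133684 L142984
theorem L142994 : sm gh N11344 = N12385 := rfl
theorem L142996 : sm ga N12385 = N11380 := ded_15_1 (flp_h L133995) (flp_a L133694) L142994
theorem L142998 : sm gc N12385 = N11348 := ded_28_1 (flp_h L133726) (flp_c L133696) L142994
theorem L143000 : sm ge N12385 = N11345 := ded_37_1 (flp_h L133704) (flp_e L133700) L142994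
theorem L143002 : sm gg N12385 = N11719 := ded_42_1 (flp_h L136808) (flp_g L133702) L142994
theorem L143004 : sm gi N11346 = N12386 := rfl
theorem L143006 : sm ga N12386 = N11381 := ded_16_1 (flp_i L134003) (flp_a L133714) L143004
theorem L143008 : sm gd N12386 = N11352 := ded_34_1 (flp_i L133764) (flp_d L133716) L143004
theorem L143010 : sm gg N12386 = N11347 := ded_43_1 (flp_i L133718) L133712 L143004
theorem L143012 : sm gh N11347 = N12387 := rfl
theorem L143014 : sm ga N12387 = N11382 := ded_15_1 (flp_h L134009) (flp_a L133720) L143012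
theorem L143016 : sm gf N12387 = N11348 := ded_40_1 (flp_h L133726) (flp_f L133724) L143012
theorem L143018 : sm gd N11348 = N12388 := rfl
theorem L143020 : sm ga N12388 = N11383 := ded_11_1 (flp_d L134013) (flp_a L133728) L143018
theorem L143022 : sm gh N12388 = N11354 := ded_33_2 (flp_d L133786) (flp_h L125574) (flp_d L125514) L133726 L143018
theorem L143024 : sm gi N11349 = N12389 := rfl
theorem L143026 : sm ga N12389 = N11384 := ded_16_1 (flp_i L134017) (flp_a L133734) L143024
theorem L143028 : sm gc N12389 = N11460 := ded_29_1 (flp_i L134666) (flp_c L133736) L143024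
theorem L143030 : sm ge N12389 = N12389 := ded_38_1 (flp_i L143024) L133738 L143024
theorem L143031 : sm gf N12389 = N11352 := ded_41_1 (flp_i L133764) (flp_f L133741) L143024
theorem L143033 : sm gg N12389 = N11350 := ded_43_1 (flp_i L133743) L133732 L143024
theorem L143035 : sm gh N11350 = N12390 := rfl
theorem L143037 : sm ga N12390 = N11385 := ded_15_1 (flp_h L134026) (flp_a L133745) L143035
theorem L143039 : sm gc N12390 = N11461 := ded_28_1 (flp_h L134677) (flp_c L133747) L143035
theorem L143041 : sm ge N12390 = N12390 := ded_37_1 (flp_h L143035) L133749 L143035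
theorem L143042 : sm gf N12390 = N11351 := ded_40_1 (flp_h L133752) (flp_f L133750) L143035
theorem L143044 : sm gi N12390 = N11515 := ded_44_2 L135173 L126974 (flp_h L125528) L133743 L143035
theorem L143046 : sm gh N11352 = N12391 := rfl
theorem L143048 : sm ga N12391 = N11386 := ded_15_1 (flp_h L134037) (flp_a L133766) L143046
theorem L143050 : sm gc N12391 = N11463 := ded_28_1 (flp_h L134697) (flp_c L133768) L143046
theorem L143052 : sm ge N12391 = N11355 := ded_37_1 (flp_h L133792) (flp_e L133770) L143046
theorem L143054 : sm gg N12391 = N11353 := ded_42_1 (flp_h L133774) (flp_g L133772) L143046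
theorem L143056 : sm gi N12391 = N11582 := ded_44_2 (flp_h L135730) (flp_i L127449) (flp_h L125562) L133764 L143046
theorem L143058 : sm gd N11353 = N12392 := rfl
theorem L143060 : sm ga N12392 = N11387 := ded_11_1 (flp_d L134047) (flp_a L133776) L143058
theorem L143062 : sm gf N12392 = N11354 := ded_31_2 (flp_d L133786) (flp_f L133782) L143058
theorem L143064 : sm gi N12392 = N11583 := ded_34_2 (flp_d L135740) (flp_i L133784) L143058
theorem L143066 : sm gc N11354 = N12393 := rfl
theorem L143068 : sm ga N12393 = N11388 := ded_10_1 (flp_c L134053) (flp_a L133788) L143066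
theorem L143070 : sm gi N12393 = N11584 := ded_29_2 (flp_c L135746) (flp_i L133790) L143066
theorem L143072 : sm gd N12393 = N11465 := ded_24_2 (flp_c L134715) (flp_d L126453) (flp_c L125578) L133786 L143066
theorem L143074 : sm gb N11357 = N12394 := rfl
theorem L143076 : sm gd N12394 = N11466 := ded_18_2 (flp_b L134722) (flp_d L133818) L143074
theorem L143078 : sm ge N12394 = N12217 := ded_19_2 (flp_b L142259) L142252 L143074
theorem L143080 : sm gf N12394 = N12083 := ded_20_2 L140252 L137388 L143074
theorem L143082 : sm gg N12394 = N12394 := ded_21_2 (flp_b L143074) L133815 L143074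
theorem L143083 : sm gi N12394 = N11585 := ded_23_2 (flp_b L135752) (flp_i L133816) L143074
theorem L143085 : sm ga N12394 = N12087 := ded_9_1 L140290 L131486 L129219 (flp_a L133813) L143074
theorem L143087 : sm gc N12394 = N12122 := ded_17_2 L142799 (flp_c L142788) L133536 L133811 L143074
theorem L143089 : sm ge N11361 = N12395 := rfl
theorem L143091 : sm ga N12395 = N11362 := ded_12_1 (flp_e L133858) L133850 L143089
theorem L143093 : sm gg N12395 = N11657 := ded_36_2 (flp_e L136382) (flp_g L133854) L143089
theorem L143095 : sm gh N12395 = N11373 := ded_37_2 (flp_e L133941) (flp_h L133856) L143089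
theorem L143097 : sm gd N12395 = N12395 := ded_30_1 (flp_e L143089) L133852 L126068 (flp_d L133852) L143089
theorem L143098 : sm gi N11361 = N12396 := rfl
theorem L143100 : sm ga N12396 = N11363 := ded_16_1 (flp_i L133867) L133850 L143098
theorem L143102 : sm gd N12396 = N11408 := ded_34_1 (flp_i L134219) (flp_d L133852) L143098
theorem L143104 : sm gg N12396 = N11658 := ded_43_1 (flp_i L136389) (flp_g L133854) L143098
theorem L143106 : sm gi N11362 = N12397 := rfl
theorem L143108 : sm gb N12397 = N11365 := ded_23_1 (flp_i L133882) (flp_b L133860) L143106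
theorem L143110 : sm gd N12397 = N12397 := ded_34_1 (flp_i L143106) L133866 L143106
theorem L143111 : sm ge N12397 = N11363 := ded_38_1 (flp_i L133867) L133858 L143106
theorem L143113 : sm gg N12397 = N11674 := ded_43_1 (flp_i L136499) (flp_g L133862) L143106
theorem L143115 : sm gh N11363 = N12398 := rfl
theorem L143117 : sm gb N12398 = N11366 := ded_22_1 (flp_h L133891) (flp_b L133869) L143115
theorem L143119 : sm gg N12398 = N11675 := ded_42_1 (flp_h L136506) (flp_g L133873) L143115
theorem L143121 : sm gi N12398 = N11377 := ded_44_2 (flp_h L133973) (flp_i L125745) (flp_h L125674) L133867 L143115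
theorem L143123 : sm gi N11364 = N12399 := rfl
theorem L143125 : sm gc N12399 = N11368 := ded_29_1 (flp_i L133905) (flp_c L133877) L143123
theorem L143127 : sm gd N12399 = N12399 := ded_34_1 (flp_i L143123) L133879 L143123
theorem L143128 : sm gf N12399 = N11365 := ded_41_1 (flp_i L133882) L133875 L143123
theorem L143130 : sm gh N11365 = N12400 := rfl
theorem L143132 : sm gc N12400 = N11369 := ded_28_1 (flp_h L133911) (flp_c L133884) L143130
theorem L143134 : sm ge N12400 = N11366 := ded_37_1 (flp_h L133891) (flp_e L133887) L143130
theorem L143136 : sm gg N12400 = N11727 := ded_42_1 (flp_h L136870) (flp_g L133889) L143130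
theorem L143138 : sm gi N12400 = N11380 := ded_44_2 (flp_h L133995) (flp_i L125759) (flp_h L125682) L133882 L143130
theorem L143140 : sm gi N11367 = N12401 := rfl
theorem L143142 : sm gd N12401 = N11586 := ded_34_1 (flp_i L135766) (flp_d L133901) L143140
theorem L143144 : sm gg N12401 = N11368 := ded_43_1 (flp_i L133905) L133899 L143140
theorem L143146 : sm gh N11368 = N12402 := rfl
theorem L143148 : sm gf N12402 = N11369 := ded_40_1 (flp_h L133911) (flp_f L133909) L143146
theorem L143150 : sm gi N12402 = N11382 := ded_44_2 (flp_h L134009) (flp_i L125779) (flp_h L125697) L133905 L143146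
theorem L143152 : sm gi N11370 = N12403 := rfl
theorem L143154 : sm gc N12403 = N11728 := ded_29_1 (flp_i L136876) (flp_c L133919) L143152
theorem L143156 : sm gd N12403 = N11384 := ded_34_1 (flp_i L134017) (flp_d L133921) L143152
theorem L143158 : sm gf N12403 = N11381 := ded_41_1 (flp_i L134003) (flp_f L133923) L143152
theorem L143160 : sm gg N12403 = N11371 := ded_43_1 (flp_i L133925) L133917 L143152
theorem L143162 : sm gh N11371 = N12404 := rfl
theorem L143164 : sm gc N12404 = N11729 := ded_28_1 (flp_h L136882) (flp_c L133927) L143162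
theorem L143166 : sm gf N12404 = N11372 := ded_40_1 (flp_h L133933) (flp_f L133931) L143162
theorem L143168 : sm gf N11373 = N12405 := rfl
theorem L143170 : sm ga N12405 = N11375 := ded_13_1 (flp_f L133957) (flp_a L133943) L143168
theorem L143172 : sm gd N12405 = N11467 := ded_31_1 (flp_f L134733) (flp_d L133947) L143168
theorem L143174 : sm gi N11373 = N12406 := rfl
theorem L143176 : sm ga N12406 = N11376 := ded_16_1 (flp_i L133963) (flp_a L133943) L143174
theorem L143178 : sm gd N12406 = N11468 := ded_34_1 (flp_i L134740) (flp_d L133947) L143174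
theorem L143180 : sm ge N12406 = N11374 := ded_38_1 (flp_i L133949) L133941 L143174
theorem L143182 : sm gg N12406 = N11663 := ded_43_1 (flp_i L136420) (flp_g L133945) L143174
theorem L143184 : sm gh N11374 = N12407 := rfl
theorem L143186 : sm ga N12407 = N11377 := ded_15_1 (flp_h L133973) (flp_a L133951) L143184
theorem L143188 : sm gg N12407 = N11664 := ded_42_1 (flp_h L136428) (flp_g L133955) L143184
theorem L143190 : sm gi N11375 = N12408 := rfl
theorem L143192 : sm gb N12408 = N11379 := ded_23_1 (flp_i L133987) (flp_b L133959) L143190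
theorem L143194 : sm gd N12408 = N11471 := ded_34_1 (flp_i L134767) (flp_d L133961) L143190
theorem L143196 : sm gf N12408 = N11376 := ded_41_1 (flp_i L133963) L133957 L143190
theorem L143198 : sm gh N11376 = N12409 := rfl
theorem L143200 : sm gb N12409 = N11380 := ded_22_1 (flp_h L133995) (flp_b L133965) L143198
theorem L143202 : sm ge N12409 = N11377 := ded_37_1 (flp_h L133973) (flp_e L133969) L143198
theorem L143204 : sm gg N12409 = N11679 := ded_42_1 (flp_h L136531) (flp_g L133971) L143198
theorem L143206 : sm gi N11378 = N12410 := rfl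
theorem L143208 : sm gc N12410 = N11381 := ded_29_1 (flp_i L134003) (flp_c L133981) L143206
theorem L143210 : sm gd N12410 = N11473 := ded_34_1 (flp_i L134785) (flp_d L133983) L143206
theorem L143212 : sm gf N12410 = N11728 := ded_41_1 (flp_i L136876) (flp_f L133985) L143206
theorem L143214 : sm gg N12410 = N11379 := ded_43_1 (flp_i L133987) L133979 L143206
theorem L143216 : sm gh N11379 = N12411 := rfl
theorem L143218 : sm gc N12411 = N11382 := ded_28_1 (flp_h L134009) (flp_c L133989) L143216
theorem L143220 : sm gf N12411 = N11380 := ded_40_1 (flp_h L133995) (flp_f L133993) L143216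
theorem L143222 : sm gd N11380 = N12412 := rfl
theorem L143224 : sm gg N12412 = N11730 := ded_32_2 (flp_d L136886) (flp_g L134001) L143222
theorem L143226 : sm gh N12412 = N11475 := ded_33_2 (flp_d L134802) (flp_h L126556) (flp_d L125763) L133995 L143222
theorem L143228 : sm gh N11381 = N12413 := rfl
theorem L143230 : sm gg N12413 = N11382 := ded_42_1 (flp_h L134009) (flp_g L134007) L143228
theorem L143232 : sm gd N11382 = N12414 := rfl
theorem L143234 : sm gf N12414 = N11383 := ded_31_2 (flp_d L134013) (flp_f L134011) L143232
theorem L143236 : sm gh N12414 = N11387 := ded_33_2 (flp_d L134047) (flp_h L125825) (flp_d L125781) L134009 L143232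
theorem L143238 : sm gc N11383 = N12415 := rfl
theorem L143240 : sm gh N12415 = N11388 := ded_28_2 (flp_c L134053) (flp_h L134015) L143238
theorem L143242 : sm gh N11384 = N12416 := rfl
theorem L143244 : sm gb N12416 = N11586 := ded_22_1 (flp_h L141836) L141828 L143242
theorem L143246 : sm gc N12416 = N11479 := ded_28_1 (flp_h L134832) (flp_c L134019) L143242
theorem L143248 : sm ge N12416 = N12416 := ded_37_1 (flp_h L143242) L134021 L143242
theorem L143249 : sm gf N12416 = N11386 := ded_40_1 (flp_h L134037) (flp_f L134022) L143242
theorem L143251 : sm gg N12416 = N11385 := ded_42_1 (flp_h L134026) (flp_g L134024) L143242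
theorem L143253 : sm gi N12416 = N11523 := ded_44_2 L135252 L127054 (flp_h L125794) L134017 L143242
theorem L143255 : sm gd N11389 = N12417 := rfl
theorem L143257 : sm ga N12417 = N12417 := ded_11_1 (flp_d L143255) L134061 L143255
theorem L143258 : sm gg N12417 = N11390 := ded_32_2 (flp_d L134068) (flp_g L134066) L143255
theorem L143260 : sm gh N12417 = N12050 := ded_33_2 (flp_d L139893) (flp_h L130900) (flp_d L125876) L134059 L143255
theorem L143262 : sm gi N11389 = N12418 := rfl
theorem L143264 : sm ga N12418 = N12418 := ded_16_1 (flp_i L143262) L134061 L143262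
theorem L143265 : sm gc N12418 = N11392 := ded_29_1 (flp_i L134086) (flp_c L134062) L143262
theorem L143267 : sm ge N12418 = N11588 := ded_38_1 (flp_i L135784) (flp_e L134064) L143262
theorem L143269 : sm gg N12418 = N11391 := ded_43_1 (flp_i L134075) (flp_g L134066) L143262
theorem L143271 : sm gh N12418 = N11399 := ded_44_1 (flp_i L134148) (flp_h L125983) (flp_i L125880) L134059 L143262
theorem L143273 : sm gc N11390 = N12419 := rfl
theorem L143275 : sm ga N12419 = N12419 := ded_10_1 (flp_c L143273) L134070 L143273
theorem L143276 : sm gf N12419 = N11398 := ded_26_2 L134146 (flp_f L134071) L143273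
theorem L143278 : sm gh N12419 = N12052 := ded_28_2 (flp_c L139908) (flp_h L134073) L143273
theorem L143280 : sm gd N12419 = N11393 := ded_24_2 (flp_c L134097) (flp_d L125900) (flp_c L125885) L134068 L143273
theorem L143282 : sm ge N11390 = N12420 := rfl
theorem L143284 : sm ga N12420 = N12420 := ded_12_1 (flp_e L143282) L134070 L143282
theorem L143285 : sm gh N12420 = N12053 := ded_37_2 (flp_e L139915) (flp_h L134073) L143282
theorem L143287 : sm gd N12420 = N11590 := ded_30_1 (flp_e L135804) (flp_d L127532) (flp_e L125887) L134068 L143282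
theorem L143289 : sm gi N11390 = N12421 := rfl
theorem L143291 : sm ga N12421 = N12421 := ded_16_1 (flp_i L143289) L134070 L143289
theorem L143292 : sm gd N12421 = N11391 := ded_34_1 (flp_i L134075) L134068 L143289
theorem L143294 : sm gf N12421 = N11739 := ded_41_1 (flp_i L136937) (flp_f L134071) L143289
theorem L143296 : sm gi N11393 = N12422 := rfl
theorem L143298 : sm ga N12422 = N12422 := ded_16_1 (flp_i L143296) L134099 L143296
theorem L143299 : sm gc N12422 = N11395 := ded_29_1 (flp_i L134115) L134097 L143296
theorem L143301 : sm gf N12422 = N11399 := ded_41_1 (flp_i L134148) (flp_f L134100) L143296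
theorem L143303 : sm gi N11394 = N12423 := rfl
theorem L143305 : sm ga N12423 = N12423 := ded_16_1 (flp_i L143303) L134106 L143303
theorem L143306 : sm gb N12423 = N11397 := ded_23_1 (flp_i L134131) (flp_b L134107) L143303
theorem L143308 : sm gd N12423 = N11593 := ded_34_1 (flp_i L135827) (flp_d L134111) L143303
theorem L143310 : sm ge N12423 = N11395 := ded_38_1 (flp_i L134115) L134104 L143303
theorem L143312 : sm gf N12423 = N11601 := ded_41_1 (flp_i L135901) (flp_f L134113) L143303
theorem L143314 : sm ge N11398 = N12424 := rfl
theorem L143316 : sm ga N12424 = N12424 := ded_12_1 (flp_e L143314) L134143 L143314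
theorem L143317 : sm gc N12424 = N11738 := ded_25_1 (flp_e L136931) (flp_c L134146) L143314
theorem L143319 : sm gg N12424 = N11401 := ded_36_2 (flp_e L134166) (flp_g L134144) L143314
theorem L143321 : sm gd N12424 = N11596 := ded_30_1 (flp_e L135866) (flp_d L127631) (flp_e L125988) L134141 L143314
theorem L143323 : sm gi N11398 = N12425 := rfl
theorem L143325 : sm ga N12425 = N12425 := ded_16_1 (flp_i L143323) L134143 L143323
theorem L143326 : sm gc N12425 = N11739 := ded_29_1 (flp_i L136937) (flp_c L134146) L143323
theorem L143328 : sm gd N12425 = N11399 := ded_34_1 (flp_i L134148) L134141 L143323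
theorem L143330 : sm gg N12425 = N11402 := ded_43_1 (flp_i L134171) (flp_g L134144) L143323
theorem L143332 : sm gb N11400 = N12426 := rfl
theorem L143334 : sm gd N12426 = N11403 := ded_18_2 (flp_b L134176) (flp_d L134164) L143332
theorem L143336 : sm gg N12426 = N11687 := ded_21_2 L136587 (flp_g L134160) L143332
theorem L143338 : sm gh N12426 = N12303 := ded_22_2 L142313 (flp_h L134162) L143332
theorem L143340 : sm ge N11400 = N12427 := rfl
theorem L143342 : sm ga N12427 = N12427 := ded_12_1 (flp_e L143340) L134159 L143340
theorem L143343 : sm gc N12427 = N11401 := ded_25_1 (flp_e L134166) L134157 L143340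
theorem L143345 : sm gg N12427 = N11738 := ded_36_2 (flp_e L136931) (flp_g L134160) L143340
theorem L143347 : sm gh N12427 = N12424 := ded_37_2 (flp_e L143314) (flp_h L134162) L143340
theorem L143349 : sm gd N12427 = N12427 := ded_30_1 (flp_e L143340) L134164 L126016 (flp_d L134164) L143340
theorem L143350 : sm gi N11400 = N12428 := rfl
theorem L143352 : sm ga N12428 = N12428 := ded_16_1 (flp_i L143350) L134159 L143350
theorem L143353 : sm gc N12428 = N11402 := ded_29_1 (flp_i L134171) L134157 L143350
theorem L143355 : sm gd N12428 = N11404 := ded_34_1 (flp_i L134185) (flp_d L134164) L143350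
theorem L143357 : sm gg N12428 = N11739 := ded_43_1 (flp_i L136937) (flp_g L134160) L143350
theorem L143359 : sm gf N11401 = N12429 := rfl
theorem L143361 : sm ga N12429 = N12429 := ded_13_1 (flp_f L143359) L134168 L143359
theorem L143362 : sm gd N12429 = N11598 := ded_31_1 (flp_f L135883) (flp_d L134169) L143359
theorem L143364 : sm gi N11401 = N12430 := rfl
theorem L143366 : sm ga N12430 = N12430 := ded_16_1 (flp_i L143364) L134168 L143364
theorem L143367 : sm gd N12430 = N11599 := ded_34_1 (flp_i L135889) (flp_d L134169) L143364
theorem L143369 : sm ge N12430 = N11402 := ded_38_1 (flp_i L134171) L134166 L143364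
theorem L143371 : sm gh N11402 = N12431 := rfl
theorem L143373 : sm ga N12431 = N12431 := ded_15_1 (flp_h L143371) L134173 L143371
theorem L143374 : sm ga N11403 = N12432 := rfl
theorem L143376 : sm gc N12432 = N11406 := ded_10_2 (flp_a L134203) (flp_c L134183) L143374
theorem L143378 : sm ge N12432 = N12432 := ded_12_2 (flp_a L143374) L134178 L143374
theorem L143379 : sm gg N12432 = N11638 := ded_14_2 L136226 (flp_g L134179) L143374
theorem L143381 : sm gh N12432 = N11405 := ded_15_2 (flp_a L134193) (flp_h L134181) L143374
theorem L143383 : sm gb N12432 = N12432 := ded_9_2 (flp_a L143374) (flp_b L134176) L126015 L134176 L143374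
theorem L143384 : sm gi N11403 = N12433 := rfl
theorem L143386 : sm gb N12433 = N11404 := ded_23_1 (flp_i L134185) L134176 L143384
theorem L143388 : sm gc N12433 = N11407 := ded_29_1 (flp_i L134212) (flp_c L134183) L143384
theorem L143390 : sm ge N12433 = N12433 := ded_38_1 (flp_i L143384) L134178 L143384
theorem L143391 : sm gg N12433 = N11688 := ded_43_1 (flp_i L136591) (flp_g L134179) L143384
theorem L143393 : sm gi N11406 = N12434 := rfl
theorem L143395 : sm ga N12434 = N11407 := ded_16_1 (flp_i L134212) L134203 L143393
theorem L143397 : sm gb N12434 = N11408 := ded_23_1 (flp_i L134219) (flp_b L134210) L143393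
theorem L143399 : sm ge N12434 = N12434 := ded_38_1 (flp_i L143393) L134205 L143393
theorem L143400 : sm gg N12434 = N11640 := ded_43_1 (flp_i L136240) (flp_g L134206) L143393
theorem L143402 : sm ge N11409 = N12435 := rfl
theorem L143404 : sm ga N12435 = N11410 := ded_12_1 (flp_e L134238) L134227 L143402
theorem L143406 : sm gb N12435 = N12435 := ded_19_1 (flp_e L143402) L134237 L143402
theorem L143407 : sm gc N12435 = N11449 := ded_25_1 (flp_e L134565) (flp_c L134229) L143402
theorem L143409 : sm gg N12435 = N11644 := ded_36_2 (flp_e L136269) (flp_g L134234) L143402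
theorem L143411 : sm gh N12435 = N12435 := ded_37_2 (flp_e L143402) L134236 L143402
theorem L143412 : sm gi N11409 = N12436 := rfl
theorem L143414 : sm ga N12436 = N11411 := ded_16_1 (flp_i L134247) L134227 L143412
theorem L143416 : sm gb N12436 = N12436 := ded_23_1 (flp_i L143412) L134237 L143412
theorem L143417 : sm gc N12436 = N11450 := ded_29_1 (flp_i L134574) (flp_c L134229) L143412
theorem L143419 : sm gd N12436 = N12163 := ded_34_1 (flp_i L141079) (flp_d L134231) L143412
theorem L143421 : sm gf N12436 = N12436 := ded_41_1 (flp_i L143412) L134233 L143412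
theorem L143422 : sm gg N12436 = N11645 := ded_43_1 (flp_i L136277) (flp_g L134234) L143412
theorem L143424 : sm gd N11410 = N12437 := rfl
theorem L143426 : sm gb N12437 = N11412 := ded_18_1 (flp_d L134258) (flp_b L134240) L143424
theorem L143428 : sm gg N12437 = N11697 := ded_32_2 (flp_d L136643) (flp_g L134244) L143424
theorem L143430 : sm ge N12437 = N12334 := ded_30_2 (flp_d L142529) (flp_e L133361) (flp_d L126083) L134238 L143424
theorem L143432 : sm gf N11410 = N12438 := rfl
theorem L143434 : sm gb N12438 = N11413 := ded_20_1 (flp_f L134265) (flp_b L134240) L143432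
theorem L143436 : sm gc N12438 = N11451 := ded_26_1 (flp_f L134585) (flp_c L134242) L143432
theorem L143438 : sm gh N12438 = N12438 := ded_40_2 (flp_f L143432) L134246 L143432
theorem L143439 : sm ge N12438 = N12438 := ded_35_1 (flp_f L143432) (flp_e L134238) L126085 L134238 L143432
theorem L143440 : sm gi N11410 = N12439 := rfl
theorem L143442 : sm gb N12439 = N11414 := ded_23_1 (flp_i L134272) (flp_b L134240) L143440
theorem L143444 : sm gc N12439 = N11452 := ded_29_1 (flp_i L134591) (flp_c L134242) L143440
theorem L143446 : sm ge N12439 = N11411 := ded_38_1 (flp_i L134247) L134238 L143440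
theorem L143448 : sm gg N12439 = N11699 := ded_43_1 (flp_i L136658) (flp_g L134244) L143440
theorem L143450 : sm gh N11411 = N12440 := rfl
theorem L143452 : sm gb N12440 = N11415 := ded_22_1 (flp_h L134281) (flp_b L134249) L143450
theorem L143454 : sm gc N12440 = N11453 := ded_28_1 (flp_h L134599) (flp_c L134251) L143450
theorem L143456 : sm gf N12440 = N12440 := ded_40_1 (flp_h L143450) L134255 L143450
theorem L143457 : sm gg N12440 = N11700 := ded_42_1 (flp_h L136666) (flp_g L134256) L143450
theorem L143459 : sm gi N12440 = N12440 := ded_44_2 (flp_h L143450) (flp_i L134247) L126088 L134247 L143450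
theorem L143460 : sm gf N11412 = N12441 := rfl
theorem L143462 : sm ga N12441 = N12441 := ded_13_1 (flp_f L143460) L134260 L143460
theorem L143463 : sm gc N12441 = N11426 := ded_26_1 (flp_f L134390) (flp_c L134263) L143460
theorem L143465 : sm gd N12441 = N11413 := ded_31_1 (flp_f L134265) L134258 L143460
theorem L143467 : sm gh N11412 = N12442 := rfl
theorem L143469 : sm ga N12442 = N12442 := ded_15_1 (flp_h L143467) L134260 L143467
theorem L143470 : sm gc N12442 = N11427 := ded_28_1 (flp_h L134395) (flp_c L134263) L143467
theorem L143472 : sm gg N12442 = N11741 := ded_42_1 (flp_h L136947) (flp_g L134261) L143467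
theorem L143474 : sm gd N12442 = N12442 := ded_33_1 (flp_h L143467) (flp_d L134258) L126098 L134258 L143467
theorem L143475 : sm gi N11412 = N12443 := rfl
theorem L143477 : sm ga N12443 = N12443 := ded_16_1 (flp_i L143475) L134260 L143475
theorem L143478 : sm gc N12443 = N11428 := ded_29_1 (flp_i L134400) (flp_c L134263) L143475
theorem L143480 : sm gd N12443 = N11414 := ded_34_1 (flp_i L134272) L134258 L143475
theorem L143482 : sm gg N12443 = N11742 := ded_43_1 (flp_i L136953) (flp_g L134261) L143475
theorem L143484 : sm gg N11413 = N12444 := rfl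
theorem L143486 : sm ga N12444 = N12444 := ded_14_1 (flp_g L143484) L134267 L143484
theorem L143487 : sm gc N12444 = N11416 := ded_27_1 (flp_g L134290) (flp_c L134268) L143484
theorem L143489 : sm ge N12444 = N12444 := ded_36_1 (flp_g L143484) L134271 L143484
theorem L143490 : sm gh N12444 = N12444 := ded_42_2 (flp_g L143484) L134270 L143484
theorem L143491 : sm gf N12444 = N11743 := ded_39_1 (flp_g L136960) (flp_f L128672) (flp_g L126096) L134265 L143484
theorem L143493 : sm gi N11413 = N12445 := rfl
theorem L143495 : sm ga N12445 = N12445 := ded_16_1 (flp_i L143493) L134267 L143493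
theorem L143496 : sm gc N12445 = N11417 := ded_29_1 (flp_i L134301) (flp_c L134268) L143493
theorem L143498 : sm ge N12445 = N12445 := ded_38_1 (flp_i L143493) L134271 L143493
theorem L143499 : sm gf N12445 = N11414 := ded_41_1 (flp_i L134272) L134265 L143493
theorem L143501 : sm gh N11414 = N12446 := rfl
theorem L143503 : sm ga N12446 = N12446 := ded_15_1 (flp_h L143501) L134274 L143501
theorem L143504 : sm gc N12446 = N11418 := ded_28_1 (flp_h L134311) (flp_c L134275) L143501
theorem L143506 : sm ge N12446 = N11415 := ded_37_1 (flp_h L134281) (flp_e L134277) L143501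
theorem L143508 : sm gg N12446 = N11745 := ded_42_1 (flp_h L136977) (flp_g L134279) L143501
theorem L143510 : sm gi N12446 = N12446 := ded_44_2 (flp_h L143501) (flp_i L134272) L126098 L134272 L143501
theorem L143511 : sm gd N11415 = N12447 := rfl
theorem L143513 : sm ga N12447 = N12447 := ded_11_1 (flp_d L143511) L134283 L143511
theorem L143514 : sm gf N12447 = N12447 := ded_31_2 (flp_d L143511) L134286 L143511
theorem L143515 : sm gg N12447 = N11746 := ded_32_2 (flp_d L136985) (flp_g L134287) L143511
theorem L143517 : sm gi N12447 = N12447 := ded_34_2 (flp_d L143511) L134289 L143511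
theorem L143518 : sm gc N12447 = N12447 := ded_24_1 (flp_d L143511) L134284 L126135 (flp_c L134284) L143511
theorem L143519 : sm gi N11416 = N12448 := rfl
theorem L143521 : sm ga N12448 = N12448 := ded_16_1 (flp_i L143519) L134292 L143519
theorem L143522 : sm gb N12448 = N11457 := ded_23_1 (flp_i L134637) (flp_b L134293) L143519
theorem L143524 : sm gd N12448 = N11433 := ded_34_1 (flp_i L134440) (flp_d L134295) L143519
theorem L143526 : sm ge N12448 = N12448 := ded_38_1 (flp_i L143519) L134297 L143519
theorem L143527 : sm gf N12448 = N11747 := ded_41_1 (flp_i L136994) (flp_f L134299) L143519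
theorem L143529 : sm gg N12448 = N11417 := ded_43_1 (flp_i L134301) L134290 L143519
theorem L143531 : sm gh N11417 = N12449 := rfl
theorem L143533 : sm ga N12449 = N12449 := ded_15_1 (flp_h L143531) L134303 L143531
theorem L143534 : sm gb N12449 = N11458 := ded_22_1 (flp_h L134648) (flp_b L134304) L143531
theorem L143536 : sm ge N12449 = N12449 := ded_37_1 (flp_h L143531) L134308 L143531
theorem L143537 : sm gf N12449 = N11418 := ded_40_1 (flp_h L134311) (flp_f L134309) L143531
theorem L143539 : sm gi N12449 = N12449 := ded_44_2 (flp_h L143531) (flp_i L134301) L126114 L134301 L143531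
theorem L143540 : sm gd N11418 = N12450 := rfl
theorem L143542 : sm ga N12450 = N12450 := ded_11_1 (flp_d L143540) L134313 L143540
theorem L143543 : sm gb N12450 = N11459 := ded_18_1 (flp_d L134656) (flp_b L134314) L143540
theorem L143545 : sm gg N12450 = N11749 := ded_32_2 (flp_d L137013) (flp_g L134318) L143540
theorem L143547 : sm gi N12450 = N12450 := ded_34_2 (flp_d L143540) L134320 L143540
theorem L143548 : sm ge N12450 = N12450 := ded_30_2 (flp_d L143540) L134316 L126135 (flp_e L134316) L143540
theorem L143549 : sm gh N12450 = N11435 := ded_33_2 (flp_d L134460) (flp_h L126234) (flp_d L126121) L134311 L143540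
theorem L143551 : sm gf N11419 = N12451 := rfl
theorem L143553 : sm ga N12451 = N12451 := ded_13_1 (flp_f L143551) L134323 L143551
theorem L143554 : sm gc N12451 = N11740 := ded_26_1 (flp_f L136942) (flp_c L134326) L143551
theorem L143556 : sm gd N12451 = N11420 := ded_31_1 (flp_f L134330) L134321 L143551
theorem L143558 : sm gh N11419 = N12452 := rfl
theorem L143560 : sm ga N12452 = N12452 := ded_15_1 (flp_h L143558) L134323 L143558
theorem L143561 : sm gc N12452 = N11741 := ded_28_1 (flp_h L136947) (flp_c L134326) L143558
theorem L143563 : sm ge N12452 = N12442 := ded_37_1 (flp_h L143467) (flp_e L134328) L143558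
theorem L143565 : sm gg N12452 = N11427 := ded_42_1 (flp_h L134395) (flp_g L134324) L143558
theorem L143567 : sm gd N12452 = N11603 := ded_33_1 (flp_h L135919) (flp_d L127681) (flp_h L126144) L134321 L143558
theorem L143569 : sm gi N11419 = N12453 := rfl
theorem L143571 : sm ga N12453 = N12453 := ded_16_1 (flp_i L143569) L134323 L143569
theorem L143572 : sm gc N12453 = N11742 := ded_29_1 (flp_i L136953) (flp_c L134326) L143569
theorem L143574 : sm gd N12453 = N11421 := ded_34_1 (flp_i L134338) L134321 L143569
theorem L143576 : sm ge N12453 = N12443 := ded_38_1 (flp_i L143475) (flp_e L134328) L143569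
theorem L143578 : sm gg N12453 = N11428 := ded_43_1 (flp_i L134400) (flp_g L134324) L143569
theorem L143580 : sm gg N11420 = N12454 := rfl
theorem L143582 : sm ga N12454 = N12454 := ded_14_1 (flp_g L143580) L134332 L143580
theorem L143583 : sm gc N12454 = N11423 := ded_27_1 (flp_g L134357) (flp_c L134333) L143580
theorem L143585 : sm ge N12454 = N12454 := ded_36_1 (flp_g L143580) L134337 L143580
theorem L143586 : sm gh N12454 = N11605 := ded_42_2 (flp_g L135935) (flp_h L134335) L143580
theorem L143588 : sm gf N12454 = N11429 := ded_39_1 (flp_g L134405) (flp_f L126191) (flp_g L126142) L134330 L143580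
theorem L143590 : sm gi N11420 = N12455 := rfl
theorem L143592 : sm ga N12455 = N12455 := ded_16_1 (flp_i L143590) L134332 L143590
theorem L143593 : sm gc N12455 = N11424 := ded_29_1 (flp_i L134369) (flp_c L134333) L143590
theorem L143595 : sm ge N12455 = N12455 := ded_38_1 (flp_i L143590) L134337 L143590
theorem L143596 : sm gf N12455 = N11421 := ded_41_1 (flp_i L134338) L134330 L143590
theorem L143598 : sm gh N11421 = N12456 := rfl
theorem L143600 : sm ga N12456 = N12456 := ded_15_1 (flp_h L143598) L134340 L143598
theorem L143601 : sm gc N12456 = N11425 := ded_28_1 (flp_h L134379) (flp_c L134341) L143598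
theorem L143603 : sm ge N12456 = N11422 := ded_37_1 (flp_h L134347) (flp_e L134343) L143598
theorem L143605 : sm gg N12456 = N11431 := ded_42_1 (flp_h L134423) (flp_g L134345) L143598
theorem L143607 : sm gi N12456 = N11607 := ded_44_2 (flp_h L135951) (flp_i L127694) (flp_h L126144) L134338 L143598
theorem L143609 : sm gd N11422 = N12457 := rfl
theorem L143611 : sm ga N12457 = N12457 := ded_11_1 (flp_d L143609) L134349 L143609
theorem L143612 : sm gf N12457 = N12457 := ded_31_2 (flp_d L143609) L134352 L143609
theorem L143613 : sm gg N12457 = N11432 := ded_32_2 (flp_d L134432) (flp_g L134353) L143609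
theorem L143615 : sm gi N12457 = N11608 := ded_34_2 (flp_d L135960) (flp_i L134355) L143609
theorem L143617 : sm gc N12457 = N12457 := ded_24_1 (flp_d L143609) L134350 L126185 (flp_c L134350) L143609
theorem L143618 : sm gh N12457 = N12447 := ded_33_2 (flp_d L143511) (flp_h L134281) (flp_d L126151) L134347 L143609
theorem L143620 : sm gi N11423 = N12458 := rfl
theorem L143622 : sm ga N12458 = N12458 := ded_16_1 (flp_i L143620) L134359 L143620
theorem L143623 : sm gb N12458 = N11460 := ded_23_1 (flp_i L134666) (flp_b L134360) L143620
theorem L143625 : sm gd N12458 = N11747 := ded_34_1 (flp_i L136994) (flp_d L134362) L143620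
theorem L143627 : sm ge N12458 = N12458 := ded_38_1 (flp_i L143620) L134364 L143620
theorem L143628 : sm gf N12458 = N11433 := ded_41_1 (flp_i L134440) (flp_f L134367) L143620
theorem L143630 : sm gg N12458 = N11424 := ded_43_1 (flp_i L134369) L134357 L143620
theorem L143632 : sm gh N11424 = N12459 := rfl
theorem L143634 : sm ga N12459 = N12459 := ded_15_1 (flp_h L143632) L134371 L143632
theorem L143635 : sm gb N12459 = N11461 := ded_22_1 (flp_h L134677) (flp_b L134372) L143632
theorem L143637 : sm ge N12459 = N12459 := ded_37_1 (flp_h L143632) L134376 L143632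
theorem L143638 : sm gf N12459 = N11425 := ded_40_1 (flp_h L134379) (flp_f L134377) L143632
theorem L143640 : sm gi N12459 = N11610 := ded_44_2 (flp_h L135979) (flp_i L127720) (flp_h L126163) L134369 L143632
theorem L143642 : sm gd N11425 = N12460 := rfl
theorem L143644 : sm ga N12460 = N12460 := ded_11_1 (flp_d L143642) L134381 L143642
theorem L143645 : sm gb N12460 = N11462 := ded_18_1 (flp_d L134686) (flp_b L134382) L143642
theorem L143647 : sm gg N12460 = N11435 := ded_32_2 (flp_d L134460) (flp_g L134386) L143642
theorem L143649 : sm gi N12460 = N11611 := ded_34_2 (flp_d L135987) (flp_i L134388) L143642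
theorem L143651 : sm ge N12460 = N12460 := ded_30_2 (flp_d L143642) L134384 L126185 (flp_e L134384) L143642
theorem L143652 : sm gh N12460 = N11749 := ded_33_2 (flp_d L137013) (flp_h L128712) (flp_d L126171) L134379 L143642
theorem L143654 : sm ge N11426 = N12461 := rfl
theorem L143656 : sm ga N12461 = N12461 := ded_12_1 (flp_e L143654) L134392 L143654
theorem L143657 : sm gd N12461 = N11436 := ded_30_1 (flp_e L134468) L126247 (flp_e L126198) (flp_d L134393) L143654
theorem L143659 : sm gg N11426 = N12462 := rfl
theorem L143661 : sm ga N12462 = N12462 := ded_14_1 (flp_g L143659) L134392 L143659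
theorem L143662 : sm gd N12462 = N11429 := ded_32_1 (flp_g L134405) (flp_d L134393) L143659
theorem L143664 : sm gh N12461 = N12462 := ded_33_0 L143662 L134412 (flp_d L136011) (flp_h L136015) (flp_d L143657)
theorem L143666 : sm gh N11426 = N12463 := rfl
theorem L143668 : sm ga N12463 = N12463 := ded_15_1 (flp_h L143666) L134392 L143666
theorem L143669 : sm ge N12463 = N12462 := ded_37_1 (flp_h L143664) (flp_e L143654) L143666
theorem L143671 : sm gf N12463 = N11427 := ded_40_1 (flp_h L134395) L134390 L143666
theorem L143673 : sm gg N12463 = N12461 := ded_42_1 L143664 (flp_g L143659) L143666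
theorem L143675 : sm gd N12463 = N11614 := ded_33_1 (flp_h L136017) L127742 (flp_h L126196) (flp_d L134393) L143666
theorem L143677 : sm gi N11426 = N12464 := rfl
theorem L143679 : sm ga N12464 = N12464 := ded_16_1 (flp_i L143677) L134392 L143677
theorem L143680 : sm gd N12464 = N11430 := ded_34_1 (flp_i L134414) (flp_d L134393) L143677
theorem L143682 : sm gf N12464 = N11428 := ded_41_1 (flp_i L134400) L134390 L143677
theorem L143684 : sm gi N11427 = N12465 := rfl
theorem L143686 : sm ga N12465 = N12465 := ded_16_1 (flp_i L143684) L134397 L143684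
theorem L143687 : sm gd N12465 = N11616 := ded_34_1 (flp_i L136035) (flp_d L134398) L143684
theorem L143689 : sm gh N11428 = N12466 := rfl
theorem L143691 : sm ga N12466 = N12466 := ded_15_1 (flp_h L143689) L134402 L143689
theorem L143692 : sm gi N11429 = N12467 := rfl
theorem L143694 : sm ga N12467 = N12467 := ded_16_1 (flp_i L143692) L134407 L143692
theorem L143695 : sm gc N12467 = N11433 := ded_29_1 (flp_i L134440) (flp_c L134408) L143692
theorem L143697 : sm ge N12467 = N11442 := ded_38_1 (flp_i L134507) (flp_e L134410) L143692
theorem L143699 : sm gg N12467 = N11430 := ded_43_1 (flp_i L134414) L134405 L143692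
theorem L143701 : sm gh N11430 = N12468 := rfl
theorem L143703 : sm ga N12468 = N12468 := ded_15_1 (flp_h L143701) L134416 L143701
theorem L143704 : sm gc N12468 = N11434 := ded_28_1 (flp_h L134449) (flp_c L134417) L143701
theorem L143706 : sm ge N12468 = N11443 := ded_37_1 (flp_h L134515) (flp_e L134419) L143701
theorem L143708 : sm gf N12468 = N11431 := ded_40_1 (flp_h L134423) (flp_f L134421) L143701
theorem L143710 : sm gi N12468 = N11619 := ded_44_2 (flp_h L136054) (flp_i L127763) (flp_h L126196) L134414 L143701
theorem L143712 : sm gd N11431 = N12469 := rfl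
theorem L143714 : sm ga N12469 = N12469 := ded_11_1 (flp_d L143712) L134425 L143712
theorem L143715 : sm gi N12469 = N11620 := ded_34_2 (flp_d L136063) (flp_i L134430) L143712
theorem L143717 : sm ge N11432 = N12470 := rfl
theorem L143719 : sm ga N12470 = N12470 := ded_12_1 (flp_e L143717) L134434 L143717
theorem L143720 : sm gc N12470 = N12470 := ded_25_1 (flp_e L143717) L134439 L143717
theorem L143721 : sm gi N12470 = N11621 := ded_38_2 (flp_e L136066) (flp_i L134437) L143717
theorem L143723 : sm gh N11433 = N12471 := rfl
theorem L143725 : sm ga N12471 = N12471 := ded_15_1 (flp_h L143723) L134442 L143723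
theorem L143726 : sm gb N12471 = N11463 := ded_22_1 (flp_h L134697) (flp_b L134443) L143723
theorem L143728 : sm ge N12471 = N11446 := ded_37_1 (flp_h L134537) (flp_e L134445) L143723
theorem L143730 : sm gg N12471 = N11434 := ded_42_1 (flp_h L134449) (flp_g L134447) L143723
theorem L143732 : sm gi N12471 = N11622 := ded_44_2 (flp_h L136073) (flp_i L127786) (flp_h L126223) L134440 L143723
theorem L143734 : sm gd N11434 = N12472 := rfl
theorem L143736 : sm ga N12472 = N12472 := ded_11_1 (flp_d L143734) L134451 L143734
theorem L143737 : sm gb N12472 = N11464 := ded_18_1 (flp_d L134707) (flp_b L134452) L143734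
theorem L143739 : sm gf N12472 = N11435 := ded_31_2 (flp_d L134460) (flp_f L134456) L143734
theorem L143741 : sm gi N12472 = N11623 := ded_34_2 (flp_d L136082) (flp_i L134458) L143734
theorem L143743 : sm gc N11435 = N12473 := rfl
theorem L143745 : sm ga N12473 = N12473 := ded_10_1 (flp_c L143743) L134462 L143743
theorem L143746 : sm ge N12473 = N12473 := ded_25_2 (flp_c L143743) L134467 L143743
theorem L143747 : sm gi N12473 = N11624 := ded_29_2 (flp_c L136094) (flp_i L134465) L143743
theorem L143749 : sm gi N11436 = N12474 := rfl
theorem L143751 : sm ga N12474 = N12474 := ded_16_1 (flp_i L143749) L134470 L143749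
theorem L143752 : sm gc N12474 = N12474 := ded_29_1 (flp_i L143749) L134471 L143749
theorem L143753 : sm ge N12474 = N11439 := ded_38_1 (flp_i L134487) L134468 L143749
theorem L143755 : sm gi N11437 = N12475 := rfl
theorem L143757 : sm ga N12475 = N12475 := ded_16_1 (flp_i L143755) L134474 L143755
theorem L143758 : sm gc N12475 = N12475 := ded_29_1 (flp_i L143755) L134475 L143755
theorem L143759 : sm gd N12475 = N11442 := ded_34_1 (flp_i L134507) (flp_d L134476) L143755
theorem L143761 : sm gf N12475 = N12475 := ded_41_1 (flp_i L143755) L134478 L143755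
theorem L143762 : sm gg N12475 = N11439 := ded_43_1 (flp_i L134487) L134472 L143755
theorem L143764 : sm gi N11438 = N12476 := rfl
theorem L143766 : sm ga N12476 = N12476 := ded_16_1 (flp_i L143764) L134481 L143764
theorem L143767 : sm gc N12476 = N12476 := ded_29_1 (flp_i L143764) L134482 L143764
theorem L143768 : sm gd N12476 = N11627 := ded_34_1 (flp_i L136119) (flp_d L134485) L143764
theorem L143770 : sm gf N12476 = N11440 := ded_41_1 (flp_i L134495) (flp_f L134483) L143764
theorem L143772 : sm gh N11439 = N12477 := rfl
theorem L143774 : sm ga N12477 = N12477 := ded_15_1 (flp_h L143772) L134489 L143772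
theorem L143775 : sm gc N12477 = N12477 := ded_28_1 (flp_h L143772) L134490 L143772
theorem L143776 : sm gf N12477 = N11441 := ded_40_1 (flp_h L134502) (flp_f L134493) L143772
theorem L143778 : sm gh N11440 = N12478 := rfl
theorem L143780 : sm ga N12478 = N12478 := ded_15_1 (flp_h L143778) L134497 L143778
theorem L143781 : sm gb N12478 = N12108 := ded_22_1 L142711 L142706 L143778
theorem L143783 : sm gc N12478 = N12478 := ded_28_1 (flp_h L143778) L134498 L143778
theorem L143784 : sm gg N12478 = N12478 := ded_42_1 (flp_h L143778) L134501 L143778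
theorem L143785 : sm gd N12478 = N12079 := ded_33_1 L140208 L136150 (flp_h L136139) (flp_d L134499) L143778
theorem L143787 : sm gi N12478 = N11441 := ded_44_2 (flp_h L134502) (flp_i L126256) L126249 L134495 L143778
theorem L143789 : sm gd N11441 = N12479 := rfl
theorem L143791 : sm ga N12479 = N12479 := ded_11_1 (flp_d L143789) L134504 L143789
theorem L143792 : sm gb N12479 = N12110 := ded_18_1 L142722 L142717 L143789
theorem L143794 : sm gg N12479 = N12479 := ded_32_2 (flp_d L143789) L134506 L143789
theorem L143795 : sm gi N12479 = N12079 := ded_34_2 (flp_d L143785) L143787 L143789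
theorem L143797 : sm gh N12479 = N11444 := ded_33_2 (flp_d L134524) (flp_h L126278) (flp_d L126260) L134502 L143789
theorem L143799 : sm ge N12080 = N12479 := ded_19_0 L143792 L140583 (flp_b L140213)
theorem L143801 : sm gc N12081 = N12479 := ded_17_0 L143792 L140581 L131676 (flp_c L131359) (flp_b L140227)
theorem L143803 : sm gh N11442 = N12480 := rfl
theorem L143805 : sm ga N12480 = N12480 := ded_15_1 (flp_h L143803) L134509 L143803
theorem L143806 : sm gc N12480 = N11446 := ded_28_1 (flp_h L134537) (flp_c L134510) L143803
theorem L143808 : sm gf N12480 = N12480 := ded_40_1 (flp_h L143803) L134512 L143803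
theorem L143809 : sm gg N12480 = N11443 := ded_42_1 (flp_h L134515) (flp_g L134513) L143803
theorem L143811 : sm gi N12480 = N11630 := ded_44_2 (flp_h L136152) (flp_i L127870) (flp_h L126268) L134507 L143803
theorem L143813 : sm gd N11443 = N12481 := rfl
theorem L143815 : sm ga N12481 = N12481 := ded_11_1 (flp_d L143813) L134517 L143813
theorem L143816 : sm gf N12481 = N11444 := ded_31_2 (flp_d L134524) (flp_f L134520) L143813
theorem L143818 : sm gi N12481 = N11631 := ded_34_2 (flp_d L136160) (flp_i L134522) L143813
theorem L143820 : sm gc N12481 = N12423 := ded_24_1 L143308 L135832 (flp_d L134547) (flp_c L134518) L143813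
theorem L143822 : sm ge N12422 = N12481 := ded_35_5 L143816 (flp_e L135861) L135863 (flp_e L134153) (flp_f L143301)
theorem L143824 : sm gf N11449 = N12482 := rfl
theorem L143826 : sm ga N12482 = N11451 := ded_13_1 (flp_f L134585) (flp_a L134567) L143824
theorem L143828 : sm gb N12482 = N11467 := ded_20_1 (flp_f L134733) (flp_b L134569) L143824
theorem L143830 : sm gh N12482 = N12482 := ded_40_2 (flp_f L143824) L134573 L143824
theorem L143831 : sm ge N12482 = N12482 := ded_35_1 (flp_f L143824) (flp_e L134565) L126327 L134565 L143824
theorem L143832 : sm gi N11449 = N12483 := rfl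
theorem L143834 : sm ga N12483 = N11452 := ded_16_1 (flp_i L134591) (flp_a L134567) L143832
theorem L143836 : sm gb N12483 = N11468 := ded_23_1 (flp_i L134740) (flp_b L134569) L143832
theorem L143838 : sm ge N12483 = N11450 := ded_38_1 (flp_i L134574) L134565 L143832
theorem L143840 : sm gg N12483 = N11647 := ded_43_1 (flp_i L136297) (flp_g L134571) L143832
theorem L143842 : sm gh N11450 = N12484 := rfl
theorem L143844 : sm ga N12484 = N11453 := ded_15_1 (flp_h L134599) (flp_a L134576) L143842
theorem L143846 : sm gb N12484 = N11469 := ded_22_1 (flp_h L134749) (flp_b L134578) L143842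
theorem L143848 : sm gf N12484 = N12484 := ded_40_1 (flp_h L143842) L134582 L143842
theorem L143849 : sm gg N12484 = N11648 := ded_42_1 (flp_h L136305) (flp_g L134583) L143842
theorem L143851 : sm gi N12484 = N12484 := ded_44_2 (flp_h L143842) (flp_i L134574) L126330 L134574 L143842
theorem L143852 : sm gg N11451 = N12485 := rfl
theorem L143854 : sm gb N12485 = N11454 := ded_21_1 (flp_g L134607) (flp_b L134587) L143852
theorem L143856 : sm ge N12485 = N12485 := ded_36_1 (flp_g L143852) L134590 L143852
theorem L143857 : sm gh N12485 = N12485 := ded_42_2 (flp_g L143852) L134589 L143852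
theorem L143858 : sm gf N12485 = N11701 := ded_39_1 (flp_g L136675) (flp_f L128435) (flp_g L126337) L134585 L143852
theorem L143860 : sm gi N11451 = N12486 := rfl
theorem L143862 : sm gb N12486 = N11455 := ded_23_1 (flp_i L134617) (flp_b L134587) L143860
theorem L143864 : sm ge N12486 = N12486 := ded_38_1 (flp_i L143860) L134590 L143860
theorem L143865 : sm gf N12486 = N11452 := ded_41_1 (flp_i L134591) L134585 L143860
theorem L143867 : sm gh N11452 = N12487 := rfl
theorem L143869 : sm gb N12487 = N11456 := ded_22_1 (flp_h L134626) (flp_b L134593) L143867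
theorem L143871 : sm ge N12487 = N11453 := ded_37_1 (flp_h L134599) (flp_e L134595) L143867
theorem L143873 : sm gg N12487 = N11703 := ded_42_1 (flp_h L136690) (flp_g L134597) L143867
theorem L143875 : sm gi N12487 = N12487 := ded_44_2 (flp_h L143867) (flp_i L134591) L126339 L134591 L143867
theorem L143876 : sm gi N11454 = N12488 := rfl
theorem L143878 : sm ga N12488 = N11473 := ded_16_1 (flp_i L134785) (flp_a L134609) L143876
theorem L143880 : sm gc N12488 = N11457 := ded_29_1 (flp_i L134637) (flp_c L134611) L143876
theorem L143882 : sm ge N12488 = N12488 := ded_38_1 (flp_i L143876) L134613 L143876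
theorem L143883 : sm gf N12488 = N11720 := ded_41_1 (flp_i L136814) (flp_f L134615) L143876
theorem L143885 : sm gg N12488 = N11455 := ded_43_1 (flp_i L134617) L134607 L143876
theorem L143887 : sm gh N11455 = N12489 := rfl
theorem L143889 : sm ga N12489 = N11474 := ded_15_1 (flp_h L134794) (flp_a L134619) L143887
theorem L143891 : sm gc N12489 = N11458 := ded_28_1 (flp_h L134648) (flp_c L134621) L143887
theorem L143893 : sm ge N12489 = N12489 := ded_37_1 (flp_h L143887) L134623 L143887
theorem L143894 : sm gf N12489 = N11456 := ded_40_1 (flp_h L134626) (flp_f L134624) L143887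
theorem L143896 : sm gi N12489 = N12489 := ded_44_2 (flp_h L143887) (flp_i L134617) L126355 L134617 L143887
theorem L143897 : sm gd N11456 = N12490 := rfl
theorem L143899 : sm ga N12490 = N11475 := ded_11_1 (flp_d L134802) (flp_a L134628) L143897
theorem L143901 : sm gg N12490 = N11722 := ded_32_2 (flp_d L136835) (flp_g L134634) L143897
theorem L143903 : sm gi N12490 = N12490 := ded_34_2 (flp_d L143897) L134636 L143897
theorem L143904 : sm gh N11457 = N12491 := rfl
theorem L143906 : sm ga N12491 = N11476 := ded_15_1 (flp_h L134807) (flp_a L134639) L143904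
theorem L143908 : sm ge N12491 = N12491 := ded_37_1 (flp_h L143904) L134643 L143904
theorem L143909 : sm gf N12491 = N11763 := ded_40_1 (flp_h L137117) (flp_f L134644) L143904
theorem L143911 : sm gg N12491 = N11458 := ded_42_1 (flp_h L134648) (flp_g L134646) L143904
theorem L143913 : sm gi N12491 = N12491 := ded_44_2 (flp_h L143904) (flp_i L134637) L126384 L134637 L143904
theorem L143914 : sm gd N11458 = N12492 := rfl
theorem L143916 : sm ga N12492 = N11477 := ded_11_1 (flp_d L134816) (flp_a L134650) L143914
theorem L143918 : sm gf N12492 = N11459 := ded_31_2 (flp_d L134656) (flp_f L134653) L143914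
theorem L143920 : sm gi N12492 = N12492 := ded_34_2 (flp_d L143914) L134655 L143914
theorem L143921 : sm gh N12492 = N11464 := ded_33_2 (flp_d L134707) (flp_h L126443) (flp_d L126391) L134648 L143914
theorem L143923 : sm gc N11459 = N12493 := rfl
theorem L143925 : sm ga N12493 = N11478 := ded_10_1 (flp_c L134824) (flp_a L134658) L143923
theorem L143927 : sm ge N12493 = N12493 := ded_25_2 (flp_c L143923) L134663 L143923
theorem L143928 : sm gg N12493 = N11765 := ded_27_2 (flp_c L137133) (flp_g L134660) L143923
theorem L143930 : sm gh N12493 = N11465 := ded_28_2 (flp_c L134715) (flp_h L134664) L143923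
theorem L143932 : sm gi N12493 = N12493 := ded_29_2 (flp_c L143923) L134662 L143923
theorem L143933 : sm gh N11460 = N12494 := rfl
theorem L143935 : sm ga N12494 = N11479 := ded_15_1 (flp_h L134832) (flp_a L134668) L143933
theorem L143937 : sm ge N12494 = N12494 := ded_37_1 (flp_h L143933) L134672 L143933
theorem L143938 : sm gf N12494 = N11463 := ded_40_1 (flp_h L134697) (flp_f L134673) L143933
theorem L143940 : sm gg N12494 = N11461 := ded_42_1 (flp_h L134677) (flp_g L134675) L143933
theorem L143942 : sm gi N12494 = N11632 := ded_44_2 (flp_h L136171) (flp_i L127939) (flp_h L126412) L134666 L143933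
theorem L143944 : sm gd N11461 = N12495 := rfl
theorem L143946 : sm ga N12495 = N11480 := ded_11_1 (flp_d L134842) (flp_a L134679) L143944
theorem L143948 : sm gf N12495 = N11462 := ded_31_2 (flp_d L134686) (flp_f L134682) L143944
theorem L143950 : sm gi N12495 = N11633 := ded_34_2 (flp_d L136180) (flp_i L134684) L143944
theorem L143952 : sm gh N12495 = N11764 := ded_33_2 (flp_d L137126) (flp_h L128808) (flp_d L126420) L134677 L143944
theorem L143954 : sm gc N11462 = N12496 := rfl
theorem L143956 : sm ga N12496 = N11481 := ded_10_1 (flp_c L134851) (flp_a L134688) L143954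
theorem L143958 : sm ge N12496 = N12496 := ded_25_2 (flp_c L143954) L134694 L143954
theorem L143959 : sm gg N12496 = N11465 := ded_27_2 (flp_c L134715) (flp_g L134690) L143954
theorem L143961 : sm gh N12496 = N11765 := ded_28_2 (flp_c L137133) (flp_h L134695) L143954
theorem L143963 : sm gi N12496 = N11634 := ded_29_2 (flp_c L136187) (flp_i L134692) L143954
theorem L143965 : sm gb N11465 = N12497 := rfl
theorem L143967 : sm ge N12497 = N12497 := ded_19_2 (flp_b L143965) L134719 L143965
theorem L143968 : sm gi N12497 = N11635 := ded_23_2 (flp_b L136195) (flp_i L134720) L143965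
theorem L143970 : sm gg N11467 = N12498 := rfl
theorem L143972 : sm ga N12498 = N11470 := ded_14_1 (flp_g L134758) (flp_a L134735) L143970
theorem L143974 : sm gc N12498 = N12498 := ded_27_1 (flp_g L143970) L134737 L143970
theorem L143975 : sm ge N12498 = N12498 := ded_36_1 (flp_g L143970) L134739 L143970
theorem L143976 : sm gh N12498 = N12498 := ded_42_2 (flp_g L143970) L134738 L143970
theorem L143977 : sm gf N12498 = N11665 := ded_39_1 (flp_g L136432) (flp_f L128217) (flp_g L126503) L134733 L143970
theorem L143979 : sm gi N11467 = N12499 := rfl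
theorem L143981 : sm ga N12499 = N11471 := ded_16_1 (flp_i L134767) (flp_a L134735) L143979
theorem L143983 : sm gc N12499 = N12499 := ded_29_1 (flp_i L143979) L134737 L143979
theorem L143984 : sm ge N12499 = N12499 := ded_38_1 (flp_i L143979) L134739 L143979
theorem L143985 : sm gf N12499 = N11468 := ded_41_1 (flp_i L134740) L134733 L143979
theorem L143987 : sm gh N11468 = N12500 := rfl
theorem L143989 : sm ga N12500 = N11472 := ded_15_1 (flp_h L134775) (flp_a L134742) L143987
theorem L143991 : sm gc N12500 = N12500 := ded_28_1 (flp_h L143987) L134744 L143987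
theorem L143992 : sm ge N12500 = N11469 := ded_37_1 (flp_h L134749) (flp_e L134745) L143987
theorem L143994 : sm gg N12500 = N11667 := ded_42_1 (flp_h L136449) (flp_g L134747) L143987
theorem L143996 : sm gi N12500 = N12500 := ded_44_2 (flp_h L143987) (flp_i L134740) L126505 L134740 L143987
theorem L143997 : sm gi N11470 = N12501 := rfl
theorem L143999 : sm gb N12501 = N11473 := ded_23_1 (flp_i L134785) (flp_b L134760) L143997
theorem L144001 : sm gc N12501 = N12501 := ded_29_1 (flp_i L143997) L134762 L143997
theorem L144002 : sm ge N12501 = N12501 := ded_38_1 (flp_i L143997) L134763 L143997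
theorem L144003 : sm gf N12501 = N11680 := ded_41_1 (flp_i L136537) (flp_f L134765) L143997
theorem L144005 : sm gg N12501 = N11471 := ded_43_1 (flp_i L134767) L134758 L143997
theorem L144007 : sm gh N11471 = N12502 := rfl
theorem L144009 : sm gb N12502 = N11474 := ded_22_1 (flp_h L134794) (flp_b L134769) L144007
theorem L144011 : sm gc N12502 = N12502 := ded_28_1 (flp_h L144007) L134771 L144007
theorem L144012 : sm ge N12502 = N12502 := ded_37_1 (flp_h L144007) L134772 L144007
theorem L144013 : sm gf N12502 = N11472 := ded_40_1 (flp_h L134775) (flp_f L134773) L144007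
theorem L144015 : sm gi N12502 = N12502 := ded_44_2 (flp_h L144007) (flp_i L134767) L126521 L134767 L144007
theorem L144016 : sm gd N11472 = N12503 := rfl
theorem L144018 : sm gb N12503 = N11475 := ded_18_1 (flp_d L134802) (flp_b L134777) L144016
theorem L144020 : sm gg N12503 = N11682 := ded_32_2 (flp_d L136556) (flp_g L134782) L144016
theorem L144022 : sm gi N12503 = N12503 := ded_34_2 (flp_d L144016) L134784 L144016
theorem L144023 : sm gh N11473 = N12504 := rfl
theorem L144025 : sm gc N12504 = N11476 := ded_28_1 (flp_h L134807) (flp_c L134787) L144023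
theorem L144027 : sm ge N12504 = N12504 := ded_37_1 (flp_h L144023) L134789 L144023
theorem L144028 : sm gf N12504 = N11731 := ded_40_1 (flp_h L136890) (flp_f L134790) L144023
theorem L144030 : sm gg N12504 = N11474 := ded_42_1 (flp_h L134794) (flp_g L134792) L144023
theorem L144032 : sm gi N12504 = N12504 := ded_44_2 (flp_h L144023) (flp_i L134785) L126546 L134785 L144023
theorem L144033 : sm gd N11474 = N12505 := rfl
theorem L144035 : sm gf N12505 = N11475 := ded_31_2 (flp_d L134802) (flp_f L134799) L144033
theorem L144037 : sm gi N12505 = N12505 := ded_34_2 (flp_d L144033) L134801 L144033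
theorem L144038 : sm gc N11475 = N12506 := rfl
theorem L144040 : sm gg N12506 = N11733 := ded_27_2 (flp_c L136904) (flp_g L134804) L144038
theorem L144042 : sm gi N12506 = N12506 := ded_29_2 (flp_c L144038) L134806 L144038
theorem L144043 : sm gd N12506 = N11478 := ded_24_2 (flp_c L134824) (flp_d L126582) (flp_c L126558) L134802 L144038
theorem L144045 : sm gf N11483 = N12507 := rfl
theorem L144047 : sm ga N12507 = N11529 := ded_13_1 (flp_f L135307) (flp_a L134872) L144045
theorem L144049 : sm gc N12507 = N12507 := ded_26_1 (flp_f L144045) L134875 L144045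
theorem L144050 : sm gd N12507 = N11484 := ded_31_1 (flp_f L134877) L134870 L144045
theorem L144052 : sm gd N11489 = N12508 := rfl
theorem L144054 : sm ga N12508 = N11542 := ded_11_1 (flp_d L135413) (flp_a L134924) L144052
theorem L144056 : sm gb N12508 = N12508 := ded_18_1 (flp_d L144052) L134926 L144052
theorem L144057 : sm gf N12508 = N11535 := ded_31_2 (flp_d L135354) (flp_f L134929) L144052
theorem L144059 : sm gg N12508 = N11490 := ded_32_2 (flp_d L134933) (flp_g L134931) L144052
theorem L144061 : sm gc N12508 = N11563 := ded_24_1 (flp_d L135557) L127320 (flp_d L126779) (flp_c L134927) L144052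
theorem L144063 : sm gh N12508 = N12508 := ded_33_2 (flp_d L144052) (flp_h L134922) L126756 L134922 L144052
theorem L144064 : sm gc N11490 = N12509 := rfl
theorem L144066 : sm ga N12509 = N11544 := ded_10_1 (flp_c L135428) (flp_a L134935) L144064
theorem L144068 : sm gf N12509 = N12509 := ded_26_2 (flp_c L144064) L134938 L144064
theorem L144069 : sm gg N12509 = N11563 := ded_27_2 (flp_c L144061) L144059 L144064
theorem L144071 : sm gh N12509 = N12509 := ded_28_2 (flp_c L144064) L134939 L144064
theorem L144072 : sm gd N12509 = N11492 := ded_24_2 (flp_c L134948) (flp_d L126781) (flp_c L126766) L134933 L144064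
theorem L144074 : sm gb N11608 = N12509 := ded_21_3 L144069 L135559 (flp_g L135964)
theorem L144076 : sm ge N11490 = N12510 := rfl
theorem L144078 : sm ga N12510 = N11545 := ded_12_1 (flp_e L135435) (flp_a L134935) L144076
theorem L144080 : sm gb N12510 = N12510 := ded_19_1 (flp_e L144076) L134937 L144076
theorem L144081 : sm gh N12510 = N12510 := ded_37_2 (flp_e L144076) L134939 L144076
theorem L144082 : sm gi N11490 = N12511 := rfl
theorem L144084 : sm ga N12511 = N11546 := ded_16_1 (flp_i L135440) (flp_a L134935) L144082
theorem L144086 : sm gb N12511 = N12511 := ded_23_1 (flp_i L144082) L134937 L144082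
theorem L144087 : sm gd N12511 = N11491 := ded_34_1 (flp_i L134940) L134933 L144082
theorem L144089 : sm gf N12511 = N12511 := ded_41_1 (flp_i L144082) L134938 L144082
theorem L144090 : sm ge N11492 = N12512 := rfl
theorem L144092 : sm ga N12512 = N11547 := ded_12_1 (flp_e L135447) (flp_a L134950) L144090
theorem L144094 : sm gb N12512 = N11607 := ded_19_1 L135956 (flp_b L134957) L144090
theorem L144096 : sm gc N12512 = N11493 := ded_25_1 (flp_e L134959) L134948 L144090
theorem L144098 : sm gg N12512 = N11562 := ded_36_2 L135555 (flp_g L134953) L144090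
theorem L144100 : sm gh N12512 = N11494 := ded_37_2 (flp_e L134969) (flp_h L134955) L144090
theorem L144102 : sm gf N11493 = N12513 := rfl
theorem L144104 : sm ga N12513 = N11549 := ded_13_1 (flp_f L135460) (flp_a L134961) L144102
theorem L144106 : sm gb N12513 = N11515 := ded_20_1 (flp_f L135167) (flp_b L134963) L144102
theorem L144108 : sm gh N12513 = N11495 := ded_40_2 (flp_f L134981) (flp_h L134967) L144102
theorem L144110 : sm ge N12513 = N12513 := ded_35_1 (flp_f L144102) (flp_e L134959) L126787 L134959 L144102
theorem L144111 : sm gd N11494 = N12514 := rfl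
theorem L144113 : sm ga N12514 = N11551 := ded_11_1 (flp_d L135473) (flp_a L134971) L144111
theorem L144115 : sm gb N12514 = N11604 := ded_18_1 L135930 (flp_b L134973) L144111
theorem L144117 : sm gg N12514 = N11559 := ded_32_2 L135528 (flp_g L134977) L144111
theorem L144119 : sm gi N12514 = N11554 := ded_34_2 (flp_d L135492) (flp_i L134979) L144111
theorem L144121 : sm gc N12514 = N11498 := ded_24_1 (flp_d L135014) L126851 (flp_d L126821) (flp_c L134975) L144111
theorem L144123 : sm ge N12514 = N12514 := ded_30_2 (flp_d L144111) (flp_e L134969) L126810 L134969 L144111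
theorem L144124 : sm gf N11494 = N12515 := rfl
theorem L144126 : sm ga N12515 = N11552 := ded_13_1 (flp_f L135479) (flp_a L134971) L144124
theorem L144128 : sm gb N12515 = N11606 := ded_20_1 L135949 (flp_b L134973) L144124
theorem L144130 : sm gc N12515 = N11495 := ded_26_1 (flp_f L134981) (flp_c L134975) L144124
theorem L144132 : sm gi N12515 = N11555 := ded_41_2 (flp_f L135499) (flp_i L134979) L144124
theorem L144134 : sm ge N12515 = N12515 := ded_35_1 (flp_f L144124) (flp_e L134969) L126803 L134969 L144124
theorem L144135 : sm gg N11495 = N12516 := rfl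
theorem L144137 : sm ga N12516 = N11553 := ded_14_1 (flp_g L135485) (flp_a L134983) L144135
theorem L144139 : sm gb N12516 = N11516 := ded_21_1 (flp_g L135176) (flp_b L134985) L144135
theorem L144141 : sm gd N12516 = N11502 := ded_32_1 (flp_g L135051) (flp_d L134987) L144135
theorem L144143 : sm ge N12516 = N12516 := ded_36_1 (flp_g L144135) L134991 L144135
theorem L144144 : sm gi N12516 = N11556 := ded_43_2 (flp_g L135506) (flp_i L134989) L144135
theorem L144146 : sm gf N12516 = N11564 := ded_39_1 L135570 L127336 (flp_g L126817) L134981 L144135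
theorem L144148 : sm gd N11496 = N12517 := rfl
theorem L144150 : sm ga N12517 = N11554 := ded_11_1 (flp_d L135492) (flp_a L134994) L144148
theorem L144152 : sm gb N12517 = N12517 := ded_18_1 (flp_d L144148) L134996 L144148
theorem L144153 : sm gg N12517 = N11498 := ded_32_2 (flp_d L135014) (flp_g L134999) L144148
theorem L144155 : sm gi N12517 = N11551 := ded_34_2 (flp_d L135473) (flp_i L135001) L144148
theorem L144157 : sm gc N12517 = N11559 := ded_24_1 L135528 L127312 (flp_d L126844) (flp_c L134997) L144148
theorem L144159 : sm ge N12517 = N12517 := ded_30_2 (flp_d L144148) (flp_e L134992) L126833 L134992 L144148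
theorem L144160 : sm gf N11496 = N12518 := rfl
theorem L144162 : sm ga N12518 = N11555 := ded_13_1 (flp_f L135499) (flp_a L134994) L144160
theorem L144164 : sm gb N12518 = N12518 := ded_20_1 (flp_f L144160) L134996 L144160
theorem L144165 : sm gc N12518 = N11497 := ded_26_1 (flp_f L135003) (flp_c L134997) L144160
theorem L144167 : sm gi N12518 = N11552 := ded_41_2 (flp_f L135479) (flp_i L135001) L144160
theorem L144169 : sm ge N12518 = N12518 := ded_35_1 (flp_f L144160) (flp_e L134992) L126827 L134992 L144160
theorem L144170 : sm gg N11497 = N12519 := rfl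
theorem L144172 : sm ga N12519 = N11556 := ded_14_1 (flp_g L135506) (flp_a L135005) L144170
theorem L144174 : sm gb N12519 = N11517 := ded_21_1 (flp_g L135189) (flp_b L135007) L144170
theorem L144176 : sm gd N12519 = N11564 := ded_32_1 L135570 (flp_d L135009) L144170
theorem L144178 : sm ge N12519 = N12519 := ded_36_1 (flp_g L144170) L135013 L144170
theorem L144179 : sm gi N12519 = N11553 := ded_43_2 (flp_g L135485) (flp_i L135011) L144170
theorem L144181 : sm gf N12519 = N11502 := ded_39_1 (flp_g L135051) (flp_f L126865) (flp_g L126840) L135003 L144170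
theorem L144183 : sm gf N11498 = N12520 := rfl
theorem L144185 : sm ga N12520 = N11557 := ded_13_1 (flp_f L135513) (flp_a L135016) L144183
theorem L144187 : sm gb N12520 = N12520 := ded_20_1 (flp_f L144183) L135018 L144183
theorem L144188 : sm gd N12520 = N11499 := ded_31_1 (flp_f L135020) L135014 L144183
theorem L144190 : sm gh N11498 = N12521 := rfl
theorem L144192 : sm ga N12521 = N11558 := ded_15_1 (flp_h L135519) (flp_a L135016) L144190
theorem L144194 : sm gb N12521 = N12521 := ded_22_1 (flp_h L144190) L135018 L144190
theorem L144195 : sm ge N12521 = N12521 := ded_37_1 (flp_h L144190) L135019 L144190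
theorem L144196 : sm gi N11498 = N12522 := rfl
theorem L144198 : sm ga N12522 = N11559 := ded_16_1 (flp_i L135524) (flp_a L135016) L144196
theorem L144200 : sm gb N12522 = N12522 := ded_23_1 (flp_i L144196) L135018 L144196
theorem L144201 : sm gc N12522 = N11554 := ded_29_1 (flp_i L144119) L144121 L144196
theorem L144203 : sm gd N12522 = N11500 := ded_34_1 (flp_i L135029) L135014 L144196
theorem L144205 : sm ge N12522 = N12522 := ded_38_1 (flp_i L144196) L135019 L144196
theorem L144206 : sm gg N12522 = N11551 := ded_43_1 (flp_i L144155) L144153 L144196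
theorem L144208 : sm gg N11499 = N12523 := rfl
theorem L144210 : sm ga N12523 = N11560 := ded_14_1 (flp_g L135531) (flp_a L135022) L144208
theorem L144212 : sm gb N12523 = N12523 := ded_21_1 (flp_g L144208) L135024 L144208
theorem L144213 : sm gc N12523 = N11502 := ded_27_1 (flp_g L135051) (flp_c L135025) L144208
theorem L144215 : sm ge N12523 = N11508 := ded_36_1 (flp_g L135107) (flp_e L135027) L144208
theorem L144217 : sm gi N11499 = N12524 := rfl
theorem L144219 : sm ga N12524 = N11561 := ded_16_1 (flp_i L135539) (flp_a L135022) L144217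
theorem L144221 : sm gb N12524 = N12524 := ded_23_1 (flp_i L144217) L135024 L144217
theorem L144222 : sm gc N12524 = N11503 := ded_29_1 (flp_i L135059) (flp_c L135025) L144217
theorem L144224 : sm ge N12524 = N11509 := ded_38_1 (flp_i L135115) (flp_e L135027) L144217
theorem L144226 : sm gf N12524 = N11500 := ded_41_1 (flp_i L135029) L135020 L144217
theorem L144228 : sm gh N11500 = N12525 := rfl
theorem L144230 : sm ga N12525 = N11562 := ded_15_1 (flp_h L135549) (flp_a L135031) L144228
theorem L144232 : sm gb N12525 = N12525 := ded_22_1 (flp_h L144228) L135033 L144228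
theorem L144233 : sm gc N12525 = N11504 := ded_28_1 (flp_h L135071) (flp_c L135034) L144228
theorem L144235 : sm ge N12525 = N11501 := ded_37_1 (flp_h L135040) (flp_e L135036) L144228
theorem L144237 : sm gg N12525 = N11547 := ded_42_1 L135452 (flp_g L135038) L144228
theorem L144239 : sm gd N11501 = N12526 := rfl
theorem L144241 : sm ga N12526 = N11563 := ded_11_1 (flp_d L135557) (flp_a L135042) L144239
theorem L144243 : sm gb N12526 = N12526 := ded_18_1 (flp_d L144239) L135044 L144239
theorem L144244 : sm gf N12526 = N11511 := ded_31_2 (flp_d L135134) (flp_f L135047) L144239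
theorem L144246 : sm gg N12526 = N11544 := ded_32_2 L135433 (flp_g L135049) L144239
theorem L144248 : sm gc N12526 = N11542 := ded_24_1 (flp_d L135413) L127228 (flp_d L126895) (flp_c L135045) L144239
theorem L144250 : sm gh N12526 = N12526 := ded_33_2 (flp_d L144239) (flp_h L135040) L126860 L135040 L144239
theorem L144251 : sm gi N11502 = N12527 := rfl
theorem L144253 : sm ga N12527 = N11564 := ded_16_1 (flp_i L135564) (flp_a L135053) L144251
theorem L144255 : sm gb N12527 = N11518 := ded_23_1 (flp_i L135201) (flp_b L135055) L144251
theorem L144257 : sm gd N12527 = N11556 := ded_34_1 (flp_i L144144) L144141 L144251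
theorem L144259 : sm ge N12527 = N11512 := ded_38_1 (flp_i L135141) (flp_e L135057) L144251
theorem L144261 : sm gf N12527 = N11553 := ded_41_1 (flp_i L144179) L144181 L144251
theorem L144263 : sm gg N12527 = N11503 := ded_43_1 (flp_i L135059) L135051 L144251
theorem L144265 : sm gh N11503 = N12528 := rfl
theorem L144267 : sm ga N12528 = N11565 := ded_15_1 (flp_h L135572) (flp_a L135061) L144265
theorem L144269 : sm gb N12528 = N11519 := ded_22_1 (flp_h L135214) (flp_b L135063) L144265
theorem L144271 : sm ge N12528 = N11513 := ded_37_1 (flp_h L135151) (flp_e L135067) L144265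
theorem L144273 : sm gf N12528 = N11504 := ded_40_1 (flp_h L135071) (flp_f L135069) L144265
theorem L144275 : sm ge N11505 = N12529 := rfl
theorem L144277 : sm ga N12529 = N11567 := ded_12_1 (flp_e L135584) (flp_a L135083) L144275
theorem L144279 : sm gb N12529 = N12529 := ded_19_1 (flp_e L144275) L135085 L144275
theorem L144280 : sm gc N12529 = N12529 := ded_25_1 (flp_e L144275) L135086 L144275
theorem L144281 : sm gf N12529 = N12529 := ded_35_2 (flp_e L144275) (flp_f L135081) L126904 L135081 L144275
theorem L144282 : sm gg N11505 = N12530 := rfl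
theorem L144284 : sm ga N12530 = N11568 := ded_14_1 (flp_g L135590) (flp_a L135083) L144282
theorem L144286 : sm gb N12530 = N12530 := ded_21_1 (flp_g L144282) L135085 L144282
theorem L144287 : sm gc N12530 = N12530 := ded_27_1 (flp_g L144282) L135086 L144282
theorem L144288 : sm gd N12530 = N11508 := ded_32_1 (flp_g L135107) (flp_d L135087) L144282
theorem L144290 : sm gf N12530 = N12530 := ded_39_1 (flp_g L144282) (flp_f L135081) L126902 L135081 L144282
theorem L144291 : sm gh N12529 = N12530 := ded_15_0 L144284 (flp_h L135598) (flp_a L144277)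
theorem L144293 : sm gh N11505 = N12531 := rfl
theorem L144295 : sm ga N12531 = N11569 := ded_15_1 (flp_h L135600) (flp_a L135083) L144293
theorem L144297 : sm gb N12531 = N12531 := ded_22_1 (flp_h L144293) L135085 L144293
theorem L144298 : sm gc N12531 = N12531 := ded_28_1 (flp_h L144293) L135086 L144293
theorem L144299 : sm ge N12531 = N12530 := ded_37_1 (flp_h L144291) (flp_e L144275) L144293
theorem L144301 : sm gf N12531 = N11506 := ded_40_1 (flp_h L135089) L135081 L144293
theorem L144303 : sm gg N12531 = N12529 := ded_42_1 L144291 (flp_g L144282) L144293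
theorem L144305 : sm gi N11505 = N12532 := rfl
theorem L144307 : sm ga N12532 = N11570 := ded_16_1 (flp_i L135611) (flp_a L135083) L144305
theorem L144309 : sm gb N12532 = N12532 := ded_23_1 (flp_i L144305) L135085 L144305
theorem L144310 : sm gc N12532 = N12532 := ded_29_1 (flp_i L144305) L135086 L144305
theorem L144311 : sm gd N12532 = N11509 := ded_34_1 (flp_i L135115) (flp_d L135087) L144305
theorem L144313 : sm gf N12532 = N11507 := ded_41_1 (flp_i L135097) L135081 L144305
theorem L144315 : sm gi N11508 = N12533 := rfl
theorem L144317 : sm ga N12533 = N11573 := ded_16_1 (flp_i L135644) (flp_a L135109) L144315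
theorem L144319 : sm gb N12533 = N12533 := ded_23_1 (flp_i L144315) L135111 L144315
theorem L144320 : sm gc N12533 = N11512 := ded_29_1 (flp_i L135141) (flp_c L135112) L144315
theorem L144322 : sm gf N12533 = N12533 := ded_41_1 (flp_i L144315) L135114 L144315
theorem L144323 : sm gg N12533 = N11509 := ded_43_1 (flp_i L135115) L135107 L144315
theorem L144325 : sm gh N11509 = N12534 := rfl
theorem L144327 : sm ga N12534 = N11574 := ded_15_1 (flp_h L135653) (flp_a L135117) L144325
theorem L144329 : sm gb N12534 = N12534 := ded_22_1 (flp_h L144325) L135119 L144325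
theorem L144330 : sm gc N12534 = N11513 := ded_28_1 (flp_h L135151) (flp_c L135120) L144325
theorem L144332 : sm gf N12534 = N11510 := ded_40_1 (flp_h L135124) (flp_f L135122) L144325
theorem L144334 : sm gh N11512 = N12535 := rfl
theorem L144336 : sm ga N12535 = N11577 := ded_15_1 (flp_h L135688) (flp_a L135143) L144334
theorem L144338 : sm gb N12535 = N11520 := ded_22_1 (flp_h L135223) (flp_b L135145) L144334
theorem L144340 : sm gf N12535 = N12535 := ded_40_1 (flp_h L144334) L135148 L144334
theorem L144341 : sm gg N12535 = N11513 := ded_42_1 (flp_h L135151) (flp_g L135149) L144334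
theorem L144343 : sm gd N11513 = N12536 := rfl
theorem L144345 : sm ga N12536 = N11578 := ded_11_1 (flp_d L135695) (flp_a L135153) L144343
theorem L144347 : sm gb N12536 = N11521 := ded_18_1 (flp_d L135231) (flp_b L135155) L144343
theorem L144349 : sm gf N12536 = N11514 := ded_31_2 (flp_d L135159) (flp_f L135157) L144343
theorem L144351 : sm gh N12536 = N12536 := ded_33_2 (flp_d L144343) (flp_h L135151) L126944 L135151 L144343
theorem L144352 : sm gg N11515 = N12537 := rfl
theorem L144354 : sm ga N12537 = N11523 := ded_14_1 (flp_g L135245) (flp_a L135169) L144352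
theorem L144356 : sm gc N12537 = N11632 := ded_27_1 L136178 (flp_c L135171) L144352
theorem L144358 : sm ge N12537 = N12537 := ded_36_1 (flp_g L144352) L135175 L144352
theorem L144359 : sm gh N12537 = N11516 := ded_42_2 (flp_g L135176) (flp_h L135173) L144352
theorem L144361 : sm gf N12537 = N11582 := ded_39_1 L135738 L127467 (flp_g L126962) L135167 L144352
theorem L144363 : sm gh N11518 = N12538 := rfl
theorem L144365 : sm ga N12538 = N11524 := ded_15_1 (flp_h L135256) (flp_a L135203) L144363
theorem L144367 : sm gc N12538 = N12538 := ded_28_1 (flp_h L144363) L135205 L144363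
theorem L144368 : sm ge N12538 = N11520 := ded_37_1 (flp_h L135223) (flp_e L135208) L144363
theorem L144370 : sm gf N12538 = N11580 := ded_40_1 L135720 (flp_f L135210) L144363
theorem L144372 : sm gg N12538 = N11519 := ded_42_1 (flp_h L135214) (flp_g L135212) L144363
theorem L144374 : sm ge N11525 = N12539 := rfl
theorem L144376 : sm ga N12539 = N11945 := ded_12_1 (flp_e L138897) (flp_a L135269) L144374
theorem L144378 : sm gb N12539 = N11590 := ded_19_1 (flp_e L135804) (flp_b L135271) L144374
theorem L144380 : sm gc N12539 = N11828 := ded_25_1 (flp_e L137756) (flp_c L135276) L144374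
theorem L144382 : sm gg N12539 = N11830 := ded_36_2 (flp_e L137778) (flp_g L135274) L144374
theorem L144384 : sm gh N12539 = N12539 := ded_37_2 (flp_e L144374) L135278 L144374
theorem L144385 : sm gi N11525 = N12540 := rfl
theorem L144387 : sm ga N12540 = N11946 := ded_16_1 (flp_i L138905) (flp_a L135269) L144385
theorem L144389 : sm gb N12540 = N11591 := ded_23_1 (flp_i L135808) (flp_b L135271) L144385
theorem L144391 : sm gc N12540 = N11829 := ded_29_1 (flp_i L137767) (flp_c L135276) L144385
theorem L144393 : sm gd N12540 = N11526 := ded_34_1 (flp_i L135279) L135267 L144385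
theorem L144395 : sm gf N12540 = N12540 := ded_41_1 (flp_i L144385) L135273 L144385
theorem L144396 : sm gg N12540 = N11831 := ded_43_1 (flp_i L137785) (flp_g L135274) L144385
theorem L144398 : sm gf N11527 = N12541 := rfl
theorem L144400 : sm ga N12541 = N11923 := ded_13_1 (flp_f L138724) (flp_a L135290) L144398
theorem L144402 : sm gb N12541 = N12541 := ded_20_1 (flp_f L144398) L135292 L144398
theorem L144403 : sm gc N12541 = N11818 := ded_26_1 (flp_f L137657) (flp_c L135297) L144398
theorem L144405 : sm gd N12541 = N11528 := ded_31_1 (flp_f L135300) L135288 L144398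
theorem L144407 : sm gi N12541 = N12066 := ded_41_2 L140050 (flp_i L135295) L144398
theorem L144409 : sm gg N12541 = N12141 := ded_39_2 (flp_f L140883) (flp_g L131986) (flp_f L129283) (flp_g L135293) L144398
theorem L144411 : sm gh N11527 = N12542 := rfl
theorem L144413 : sm ga N12542 = N11924 := ded_15_1 (flp_h L138734) (flp_a L135290) L144411
theorem L144415 : sm gb N12542 = N12542 := ded_22_1 (flp_h L144411) L135292 L144411
theorem L144416 : sm gc N12542 = N11819 := ded_28_1 (flp_h L137671) (flp_c L135297) L144411
theorem L144418 : sm ge N12542 = N12542 := ded_37_1 (flp_h L144411) L135299 L144411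
theorem L144419 : sm gg N12542 = N11817 := ded_42_1 (flp_h L137647) (flp_g L135293) L144411
theorem L144421 : sm ge N11529 = N12543 := rfl
theorem L144423 : sm gb N12543 = N12543 := ded_19_1 (flp_e L144421) L135309 L144421
theorem L144424 : sm gc N12543 = N12543 := ded_25_1 (flp_e L144421) L135310 L144421
theorem L144425 : sm gf N12543 = N12543 := ded_35_2 (flp_e L144421) (flp_f L135307) L127142 L135307 L144421
theorem L144426 : sm gg N11529 = N12544 := rfl
theorem L144428 : sm gb N12544 = N12544 := ded_21_1 (flp_g L144426) L135309 L144426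
theorem L144429 : sm gc N12544 = N12544 := ded_27_1 (flp_g L144426) L135310 L144426
theorem L144430 : sm gd N12544 = N11532 := ded_32_1 (flp_g L135327) (flp_d L135311) L144426
theorem L144432 : sm gf N12544 = N12544 := ded_39_1 (flp_g L144426) (flp_f L135307) L127140 L135307 L144426
theorem L144433 : sm gh N11529 = N12545 := rfl
theorem L144435 : sm gb N12545 = N12545 := ded_22_1 (flp_h L144433) L135309 L144433
theorem L144436 : sm gc N12545 = N12545 := ded_28_1 (flp_h L144433) L135310 L144433
theorem L144437 : sm gf N12545 = N11530 := ded_40_1 (flp_h L135313) L135307 L144433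
theorem L144439 : sm gi N12531 = N12545 := ded_41_0 L144437 (flp_i L135352) (flp_f L144301)
theorem L144441 : sm gi N11529 = N12546 := rfl
theorem L144443 : sm gb N12546 = N12546 := ded_23_1 (flp_i L144441) L135309 L144441
theorem L144444 : sm gc N12546 = N12546 := ded_29_1 (flp_i L144441) L135310 L144441
theorem L144445 : sm gd N12546 = N11533 := ded_34_1 (flp_i L135333) (flp_d L135311) L144441
theorem L144447 : sm gf N12546 = N11531 := ded_41_1 (flp_i L135319) L135307 L144441
theorem L144449 : sm gh N12546 = N12532 := ded_44_1 (flp_i L144305) L144293 L144439 (flp_h L144433) L144441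
theorem L144451 : sm ge N12544 = N12546 := ded_30_0 L144445 (flp_e L140894) L140890 (flp_e L140055) (flp_d L144430)
theorem L144453 : sm gg N12546 = N12543 := ded_36_2 (flp_e L144421) L144426 L144451
theorem L144455 : sm gi N12543 = N12544 := ded_38_0 L144451 (flp_i L144441) L144421
theorem L144457 : sm gi N11532 = N12547 := rfl
theorem L144459 : sm gb N12547 = N12547 := ded_23_1 (flp_i L144457) L135329 L144457
theorem L144460 : sm gc N12547 = N11536 := ded_29_1 (flp_i L135363) (flp_c L135330) L144457
theorem L144462 : sm gd N12547 = N12543 := ded_34_1 L144455 L144430 L144457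
theorem L144464 : sm ge N12547 = N12541 := ded_38_1 L144407 (flp_e L140055) L144457
theorem L144466 : sm gf N12547 = N12547 := ded_41_1 (flp_i L144457) L135332 L144457
theorem L144467 : sm gg N12547 = N11533 := ded_43_1 (flp_i L135333) L135327 L144457
theorem L144469 : sm gh N11533 = N12548 := rfl
theorem L144471 : sm gb N12548 = N12548 := ded_22_1 (flp_h L144469) L135335 L144469
theorem L144472 : sm gc N12548 = N11537 := ded_28_1 (flp_h L135371) (flp_c L135336) L144469
theorem L144474 : sm gf N12548 = N11534 := ded_40_1 (flp_h L135340) (flp_f L135338) L144469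
theorem L144476 : sm gd N12548 = N12534 := ded_33_1 (flp_h L144325) (flp_d L144311) (flp_h L144449) L144445 L144469
theorem L144478 : sm gh N11536 = N12549 := rfl
theorem L144480 : sm gb N12549 = N11539 := ded_22_1 (flp_h L135387) (flp_b L135365) L144478
theorem L144482 : sm gf N12549 = N12549 := ded_40_1 (flp_h L144478) L135368 L144478
theorem L144483 : sm gg N12549 = N11537 := ded_42_1 (flp_h L135371) (flp_g L135369) L144478
theorem L144485 : sm gd N11537 = N12550 := rfl
theorem L144487 : sm gb N12550 = N11540 := ded_18_1 (flp_d L135395) (flp_b L135373) L144485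
theorem L144489 : sm gf N12550 = N11538 := ded_31_2 (flp_d L135377) (flp_f L135375) L144485
theorem L144491 : sm gc N12550 = N12536 := ded_24_1 (flp_d L144343) (flp_c L144330) (flp_d L144476) L144472 L144485
theorem L144493 : sm gh N12550 = N12550 := ded_33_2 (flp_d L144485) (flp_h L135371) L127172 L135371 L144485
theorem L144494 : sm ge N11542 = N12551 := rfl
theorem L144496 : sm gb N12551 = N11596 := ded_19_1 (flp_e L135866) (flp_b L135415) L144494
theorem L144498 : sm gg N12551 = N11545 := ded_36_2 (flp_e L135435) (flp_g L135417) L144494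
theorem L144500 : sm gh N12551 = N12551 := ded_37_2 (flp_e L144494) L135419 L144494
theorem L144501 : sm gi N11542 = N12552 := rfl
theorem L144503 : sm gb N12552 = N11597 := ded_23_1 (flp_i L135873) (flp_b L135415) L144501
theorem L144505 : sm gd N12552 = N11543 := ded_34_1 (flp_i L135420) L135413 L144501
theorem L144507 : sm gf N12552 = N12360 := ded_41_1 L142767 (flp_f L135686) L144501
theorem L144509 : sm gg N12552 = N11546 := ded_43_1 (flp_i L135440) (flp_g L135417) L144501
theorem L144511 : sm ge N11544 = N12553 := rfl
theorem L144513 : sm gb N12553 = N12553 := ded_19_1 (flp_e L144511) L135432 L144511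
theorem L144514 : sm gc N12553 = N11545 := ded_25_1 (flp_e L135435) L135428 L144511
theorem L144516 : sm gh N12553 = N12553 := ded_37_2 (flp_e L144511) L135431 L144511
theorem L144517 : sm gi N11544 = N12554 := rfl
theorem L144519 : sm gb N12554 = N12554 := ded_23_1 (flp_i L144517) L135432 L144517
theorem L144520 : sm gc N12554 = N11546 := ded_29_1 (flp_i L135440) L135428 L144517
theorem L144522 : sm gd N12554 = N11548 := ded_34_1 (flp_i L135454) (flp_d L135433) L144517
theorem L144524 : sm gf N12554 = N12554 := ded_41_1 (flp_i L144517) L135430 L144517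
theorem L144525 : sm gf N11545 = N12555 := rfl
theorem L144527 : sm gb N12555 = N11598 := ded_20_1 (flp_f L135883) (flp_b L135437) L144525
theorem L144529 : sm gh N12555 = N12555 := ded_40_2 (flp_f L144525) L135439 L144525
theorem L144530 : sm ge N12555 = N12555 := ded_35_1 (flp_f L144525) (flp_e L135435) L127236 L135435 L144525
theorem L144531 : sm gi N11545 = N12556 := rfl
theorem L144533 : sm gb N12556 = N11599 := ded_23_1 (flp_i L135889) (flp_b L135437) L144531
theorem L144535 : sm ge N12556 = N11546 := ded_38_1 (flp_i L135440) L135435 L144531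
theorem L144537 : sm gh N11546 = N12557 := rfl
theorem L144539 : sm gb N12557 = N11600 := ded_22_1 (flp_h L135895) (flp_b L135442) L144537
theorem L144541 : sm gf N12557 = N12557 := ded_40_1 (flp_h L144537) L135446 L144537
theorem L144542 : sm gi N12557 = N12557 := ded_44_2 (flp_h L144537) (flp_i L135440) L127237 L135440 L144537
theorem L144543 : sm gd N11547 = N12558 := rfl
theorem L144545 : sm gb N12558 = N12558 := ded_18_1 (flp_d L144543) L135449 L144543
theorem L144546 : sm gf N11547 = N12559 := rfl
theorem L144548 : sm gb N12559 = N12559 := ded_20_1 (flp_f L144546) L135449 L144546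
theorem L144549 : sm gc N12559 = N11549 := ded_26_1 (flp_f L135460) (flp_c L135450) L144546
theorem L144551 : sm gh N12559 = N11552 := ded_40_2 (flp_f L135479) (flp_h L135452) L144546
theorem L144553 : sm ge N12559 = N12559 := ded_35_1 (flp_f L144546) (flp_e L135447) L127253 L135447 L144546
theorem L144554 : sm gi N11547 = N12560 := rfl
theorem L144556 : sm gb N12560 = N12560 := ded_23_1 (flp_i L144554) L135449 L144554
theorem L144557 : sm gc N12560 = N11550 := ded_29_1 (flp_i L135467) (flp_c L135450) L144554
theorem L144559 : sm ge N12560 = N11548 := ded_38_1 (flp_i L135454) L135447 L144554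
theorem L144561 : sm gg N11549 = N12561 := rfl
theorem L144563 : sm gb N12561 = N11580 := ded_21_1 (flp_g L135714) (flp_b L135462) L144561
theorem L144565 : sm ge N12561 = N12561 := ded_36_1 (flp_g L144561) L135466 L144561
theorem L144566 : sm gh N12561 = N11553 := ded_42_2 (flp_g L135485) (flp_h L135464) L144561
theorem L144568 : sm gi N11549 = N12562 := rfl
theorem L144570 : sm gb N12562 = N11581 := ded_23_1 (flp_i L135722) (flp_b L135462) L144568
theorem L144572 : sm ge N12562 = N12562 := ded_38_1 (flp_i L144568) L135466 L144568
theorem L144573 : sm gf N12562 = N11550 := ded_41_1 (flp_i L135467) L135460 L144568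
theorem L144575 : sm gf N11551 = N12563 := rfl
theorem L144577 : sm gb N12563 = N12563 := ded_20_1 (flp_f L144575) L135475 L144575
theorem L144578 : sm gc N12563 = N11557 := ded_26_1 (flp_f L135513) (flp_c L135476) L144575
theorem L144580 : sm gd N12563 = N11552 := ded_31_1 (flp_f L135479) L135473 L144575
theorem L144582 : sm gh N11551 = N12564 := rfl
theorem L144584 : sm gb N12564 = N12564 := ded_22_1 (flp_h L144582) L135475 L144582
theorem L144585 : sm gc N12564 = N11558 := ded_28_1 (flp_h L135519) (flp_c L135476) L144582
theorem L144587 : sm ge N12564 = N12564 := ded_37_1 (flp_h L144582) L135478 L144582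
theorem L144588 : sm gg N11552 = N12565 := rfl
theorem L144590 : sm gb N12565 = N12565 := ded_21_1 (flp_g L144588) L135481 L144588
theorem L144591 : sm gc N12565 = N11553 := ded_27_1 (flp_g L135485) (flp_c L135482) L144588
theorem L144593 : sm ge N12565 = N12565 := ded_36_1 (flp_g L144588) L135484 L144588
theorem L144594 : sm gf N11554 = N12566 := rfl
theorem L144596 : sm gb N12566 = N11602 := ded_20_1 (flp_f L135913) (flp_b L135494) L144594
theorem L144598 : sm gd N12566 = N11555 := ded_31_1 (flp_f L135499) L135492 L144594
theorem L144600 : sm gh N11554 = N12567 := rfl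
theorem L144602 : sm gb N12567 = N11603 := ded_22_1 (flp_h L135919) (flp_b L135494) L144600
theorem L144604 : sm ge N12567 = N12567 := ded_37_1 (flp_h L144600) L135498 L144600
theorem L144605 : sm gg N12567 = N11558 := ded_42_1 (flp_h L135519) (flp_g L135496) L144600
theorem L144607 : sm gg N11555 = N12568 := rfl
theorem L144609 : sm gb N12568 = N11605 := ded_21_1 (flp_g L135935) (flp_b L135501) L144607
theorem L144611 : sm gc N12568 = N11556 := ded_27_1 (flp_g L135506) (flp_c L135503) L144607
theorem L144613 : sm ge N12568 = N12568 := ded_36_1 (flp_g L144607) L135505 L144607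
theorem L144614 : sm gf N12568 = N11560 := ded_39_1 (flp_g L135531) (flp_f L127300) (flp_g L127288) L135499 L144607
theorem L144616 : sm ge N11557 = N12569 := rfl
theorem L144618 : sm gb N12569 = N11612 := ded_19_1 (flp_e L135996) (flp_b L135515) L144616
theorem L144620 : sm gd N12569 = N11567 := ded_30_1 (flp_e L135584) L127349 (flp_e L127306) (flp_d L135517) L144616
theorem L144622 : sm gf N12569 = N12569 := ded_35_2 (flp_e L144616) (flp_f L135513) L127299 L135513 L144616
theorem L144623 : sm gg N12353 = N12569 := ded_21_0 L144618 (flp_g L136003) (flp_b L142688)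
theorem L144625 : sm gh N12352 = N12569 := ded_22_0 L144618 (flp_h L136005) (flp_b L142681)
theorem L144627 : sm gg N11557 = N12570 := rfl
theorem L144629 : sm gb N12570 = N11613 := ded_21_1 (flp_g L136007) (flp_b L135515) L144627
theorem L144631 : sm gd N12570 = N11560 := ded_32_1 (flp_g L135531) (flp_d L135517) L144627
theorem L144633 : sm ge N12570 = N12353 := ded_36_1 L144623 (flp_e L144616) L144627
theorem L144635 : sm gh N12351 = N12570 := ded_22_0 L144629 (flp_h L136015) (flp_b L142677)
theorem L144637 : sm gh N11557 = N12571 := rfl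
theorem L144639 : sm gb N12571 = N11614 := ded_22_1 (flp_h L136017) (flp_b L135515) L144637
theorem L144641 : sm ge N12571 = N12352 := ded_37_1 L144625 (flp_e L144616) L144637
theorem L144643 : sm gf N12571 = N11558 := ded_40_1 (flp_h L135519) L135513 L144637
theorem L144645 : sm gg N12571 = N12351 := ded_42_1 L144635 (flp_g L144627) L144637
theorem L144647 : sm gi N11557 = N12572 := rfl
theorem L144649 : sm gb N12572 = N11615 := ded_23_1 (flp_i L136027) (flp_b L135515) L144647
theorem L144651 : sm gd N12572 = N11561 := ded_34_1 (flp_i L135539) (flp_d L135517) L144647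
theorem L144653 : sm gf N12572 = N11559 := ded_41_1 (flp_i L135524) L135513 L144647
theorem L144655 : sm gi N11558 = N12573 := rfl
theorem L144657 : sm gb N12573 = N11616 := ded_23_1 (flp_i L136035) (flp_b L135521) L144655
theorem L144659 : sm ge N12573 = N12573 := ded_38_1 (flp_i L144655) L135523 L144655
theorem L144660 : sm gh N11559 = N12574 := rfl
theorem L144662 : sm gb N12574 = N11617 := ded_22_1 (flp_h L136040) (flp_b L135526) L144660
theorem L144664 : sm ge N12574 = N12574 := ded_37_1 (flp_h L144660) L135530 L144660
theorem L144665 : sm gi N11560 = N12575 := rfl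
theorem L144667 : sm gb N12575 = N11618 := ded_23_1 (flp_i L136045) (flp_b L135533) L144665
theorem L144669 : sm gc N12575 = N11564 := ded_29_1 (flp_i L135564) (flp_c L135535) L144665
theorem L144671 : sm ge N12575 = N11573 := ded_38_1 (flp_i L135644) (flp_e L135537) L144665
theorem L144673 : sm gg N12575 = N11561 := ded_43_1 (flp_i L135539) L135531 L144665
theorem L144675 : sm gh N11561 = N12576 := rfl
theorem L144677 : sm gb N12576 = N11619 := ded_22_1 (flp_h L136054) (flp_b L135541) L144675
theorem L144679 : sm gc N12576 = N11565 := ded_28_1 (flp_h L135572) (flp_c L135543) L144675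
theorem L144681 : sm ge N12576 = N11574 := ded_37_1 (flp_h L135653) (flp_e L135545) L144675
theorem L144683 : sm gf N12576 = N11562 := ded_40_1 (flp_h L135549) (flp_f L135547) L144675
theorem L144685 : sm gd N11562 = N12577 := rfl
theorem L144687 : sm gb N12577 = N11620 := ded_18_1 (flp_d L136063) (flp_b L135551) L144685
theorem L144689 : sm ge N11563 = N12578 := rfl
theorem L144691 : sm gb N12578 = N11621 := ded_19_1 (flp_e L136066) (flp_b L135559) L144689
theorem L144693 : sm gh N12578 = N12578 := ded_37_2 (flp_e L144689) L135563 L144689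
theorem L144694 : sm gf N12578 = N12551 := ded_35_2 (flp_e L144494) L135686 (flp_e L135674) (flp_f L135561) L144689
theorem L144696 : sm gh N11564 = N12579 := rfl
theorem L144698 : sm gb N12579 = N11582 := ded_22_1 (flp_h L135730) (flp_b L135566) L144696
theorem L144700 : sm ge N12579 = N11577 := ded_37_1 (flp_h L135688) (flp_e L135568) L144696
theorem L144702 : sm gg N12579 = N11565 := ded_42_1 (flp_h L135572) (flp_g L135570) L144696
theorem L144704 : sm gd N11565 = N12580 := rfl
theorem L144706 : sm gb N12580 = N11583 := ded_18_1 (flp_d L135740) (flp_b L135574) L144704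
theorem L144708 : sm gf N12580 = N11566 := ded_31_2 (flp_d L135580) (flp_f L135578) L144704
theorem L144710 : sm gc N11566 = N12581 := rfl
theorem L144712 : sm gi N11567 = N12582 := rfl
theorem L144714 : sm gb N12582 = N11625 := ded_23_1 (flp_i L136101) (flp_b L135586) L144712
theorem L144716 : sm gc N12582 = N12582 := ded_29_1 (flp_i L144712) L135588 L144712
theorem L144717 : sm ge N12582 = N11570 := ded_38_1 (flp_i L135611) L135584 L144712
theorem L144719 : sm gf N12582 = N12582 := ded_41_1 (flp_i L144712) L135589 L144712
theorem L144720 : sm gi N11568 = N12583 := rfl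
theorem L144722 : sm gb N12583 = N11626 := ded_23_1 (flp_i L136109) (flp_b L135592) L144720
theorem L144724 : sm gc N12583 = N12583 := ded_29_1 (flp_i L144720) L135594 L144720
theorem L144725 : sm gd N12583 = N11573 := ded_34_1 (flp_i L135644) (flp_d L135595) L144720
theorem L144727 : sm gf N12583 = N12583 := ded_41_1 (flp_i L144720) L135597 L144720
theorem L144728 : sm gg N12583 = N11570 := ded_43_1 (flp_i L135611) L135590 L144720
theorem L144730 : sm gi N11569 = N12584 := rfl
theorem L144732 : sm ga N12584 = N12545 := ded_16_1 (flp_i L144439) L144295 L144730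
theorem L144734 : sm gb N12584 = N11627 := ded_23_1 (flp_i L136119) (flp_b L135602) L144730
theorem L144736 : sm gc N12584 = N12584 := ded_29_1 (flp_i L144730) L135604 L144730
theorem L144737 : sm ge N12584 = N12583 := ded_38_1 (flp_i L144720) (flp_e L135605) L144730
theorem L144739 : sm gf N12584 = N11571 := ded_41_1 (flp_i L135620) (flp_f L135607) L144730
theorem L144741 : sm gg N12584 = N12582 := ded_43_1 (flp_i L144712) (flp_g L135609) L144730
theorem L144743 : sm gh N12507 = N12584 := ded_15_0 L144732 (flp_h L144433) (flp_a L144047)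
theorem L144745 : sm gh N11570 = N12585 := rfl
theorem L144747 : sm ga N12585 = N12546 := ded_15_1 L144449 L144307 L144745
theorem L144749 : sm gb N12585 = N11628 := ded_22_1 (flp_h L136130) (flp_b L135613) L144745
theorem L144751 : sm gc N12585 = N12585 := ded_28_1 (flp_h L144745) L135615 L144745
theorem L144752 : sm gf N12585 = N11572 := ded_40_1 (flp_h L135631) (flp_f L135618) L144745
theorem L144754 : sm gi N12585 = N12507 := ded_44_2 L144743 (flp_i L144730) (flp_h L135600) L135611 L144745
theorem L144756 : sm gd N12301 = N12585 := ded_11_0 L144747 L144445 (flp_a L142293)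
theorem L144758 : sm gh N11573 = N12586 := rfl
theorem L144760 : sm gb N12586 = N11630 := ded_22_1 (flp_h L136152) (flp_b L135646) L144758
theorem L144762 : sm gc N12586 = N11577 := ded_28_1 (flp_h L135688) (flp_c L135648) L144758
theorem L144764 : sm gf N12586 = N12586 := ded_40_1 (flp_h L144758) L135650 L144758
theorem L144765 : sm gg N12586 = N11574 := ded_42_1 (flp_h L135653) (flp_g L135651) L144758
theorem L144767 : sm gd N11574 = N12587 := rfl
theorem L144769 : sm ga N12587 = N12548 := ded_11_1 L144476 L144327 L144767
theorem L144771 : sm gb N12587 = N11631 := ded_18_1 (flp_d L136160) (flp_b L135655) L144767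
theorem L144773 : sm gf N12587 = N11575 := ded_31_2 (flp_d L135661) (flp_f L135659) L144767
theorem L144775 : sm gh N12587 = N12301 := ded_33_2 L144756 (flp_h L144745) L135616 L135653 L144767
theorem L144777 : sm gc N12587 = N12308 := ded_46_4 L142347 L133543 (flp_h L125632) L118437 L52508 L38426 L28136 L20670 L15214 L15219 (flp_f L15322) L120477 L11444 L8625 (flp_b L11703) (flp_a L15820) (flp_h L15818) L11654 L11652 L11650 (flp_c L10875) L104814 L10953 L10992 L10999 L10997 (flp_d L10813) (flp_c L14664) L14663 (flp_a L19924) (flp_h L19922) (flp_f L14602) (flp_e L13974) L13980 (flp_c L13970) (flp_b L10650) L10648 L10688 (flp_f L14543) (flp_e L19819) L108930 (flp_c L36459) (flp_b L49004) (flp_a L66893) L124410 L124417 L66904 L66920 L66927 (flp_b L124290) L124288 L67851 L53518 L73266 (flp_d L126879) (flp_c L135034) L135033 L135031 L135549 (flp_f L144683) L144681 L144767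
theorem L144779 : sm ge N12302 = N12587 := ded_46_2 (flp_d L144767) L135657 L127407 L73535 (flp_h L53864) L39437 L28873 L21169 L15512 L11418 L8414 (flp_h L11350) (flp_f L120491) L15297 L11253 L8295 (flp_b L7744) L102015 L8159 L8157 L8158 (flp_d L8154) (flp_c L8119) (flp_b L10994) (flp_a L14903) (flp_h L14901) L10957 (flp_e L10951) L8057 L5975 L4725 L4723 (flp_h L4657) (flp_f L4653) (flp_e L3433) L2543 (flp_c L3220) (flp_b L3214) (flp_a L2991) L2995 (flp_f L3011) L4048 L5453 L5459 (flp_b L7321) (flp_a L9877) L13378 (flp_f L18184) (flp_e L104701) (flp_d L26679) (flp_c L36364) (flp_b L49581) (flp_a L66824) (flp_h L66822) L48862 (flp_e L66812) (flp_d L124239) (flp_c L131991) L131990 L131988 L133232 (flp_f L142309)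
theorem L144781 : sm gc N11578 = N12588 := rfl
theorem L144783 : sm ga N12588 = N12550 := ded_10_1 L144491 L144345 L144781
theorem L144785 : sm ge N12588 = N12123 := ded_25_2 L140716 L138147 L144781
theorem L144787 : sm gf N12588 = N11579 := ded_26_2 (flp_c L135702) (flp_f L135699) L144781
theorem L144789 : sm gg N12588 = N12084 := ded_27_2 L140266 L137399 L144781
theorem L144791 : sm gh N12588 = N12588 := ded_28_2 (flp_c L144781) L135701 L144781
theorem L144792 : sm gb N12588 = N12082 := ded_17_1 (flp_c L140235) L131371 L129037 (flp_b L135697) L144781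
theorem L144794 : sm gd N12588 = N12308 := ded_24_2 (flp_c L144777) (flp_d L144767) L135657 L135695 L144781
theorem L144796 : sm gi N11580 = N12589 := rfl
theorem L144798 : sm ga N12589 = N11586 := ded_16_1 (flp_i L135766) (flp_a L135716) L144796
theorem L144800 : sm gc N12589 = N12589 := ded_29_1 (flp_i L144796) L135718 L144796
theorem L144801 : sm ge N12589 = N12589 := ded_38_1 (flp_i L144796) L135719 L144796
theorem L144802 : sm gg N12589 = N11581 := ded_43_1 (flp_i L135722) L135714 L144796
theorem L144804 : sm gb N11584 = N12590 := rfl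
theorem L144806 : sm gd N12590 = N11635 := ded_18_2 (flp_b L136195) (flp_d L135750) L144804
theorem L144808 : sm ge N11587 = N12591 := rfl
theorem L144810 : sm ga N12591 = N12591 := ded_12_1 (flp_e L144808) L135774 L144808
theorem L144811 : sm gb N12591 = N11830 := ded_19_1 (flp_e L137778) (flp_b L135775) L144808
theorem L144813 : sm gc N12591 = N11780 := ded_25_1 (flp_e L137240) (flp_c L135781) L144808
theorem L144815 : sm gg N12591 = N11590 := ded_36_2 (flp_e L135804) (flp_g L135779) L144808
theorem L144817 : sm gh N12591 = N12591 := ded_37_2 (flp_e L144808) L135783 L144808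
theorem L144818 : sm gi N11587 = N12592 := rfl
theorem L144820 : sm ga N12592 = N12592 := ded_16_1 (flp_i L144818) L135774 L144818
theorem L144821 : sm gb N12592 = N11831 := ded_23_1 (flp_i L137785) (flp_b L135775) L144818
theorem L144823 : sm gc N12592 = N11781 := ded_29_1 (flp_i L137250) (flp_c L135781) L144818
theorem L144825 : sm gd N12592 = N11588 := ded_34_1 (flp_i L135784) L135772 L144818
theorem L144827 : sm gf N12592 = N11783 := ded_41_1 (flp_i L137268) (flp_f L135777) L144818
theorem L144829 : sm gg N12592 = N11591 := ded_43_1 (flp_i L135808) (flp_g L135779) L144818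
theorem L144831 : sm gi N11589 = N12593 := rfl
theorem L144833 : sm ga N12593 = N12593 := ded_16_1 (flp_i L144831) L135795 L144831
theorem L144834 : sm gb N12593 = N11787 := ded_23_1 (flp_i L137300) (flp_b L135800) L144831
theorem L144836 : sm gc N12593 = N11591 := ded_29_1 (flp_i L135808) L135793 L144831
theorem L144838 : sm gd N12593 = N11592 := ded_34_1 (flp_i L135814) (flp_d L135802) L144831
theorem L144840 : sm ge N12593 = N12472 := ded_38_1 L143741 L136089 L144831
theorem L144842 : sm gf N12593 = N12593 := ded_41_1 (flp_i L144831) L135796 L144831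
theorem L144843 : sm gg N12593 = N11781 := ded_43_1 (flp_i L137250) (flp_g L135797) L144831
theorem L144845 : sm gi N11590 = N12594 := rfl
theorem L144847 : sm ga N12594 = N12594 := ded_16_1 (flp_i L144845) L135806 L144845
theorem L144848 : sm gc N12594 = N12472 := ded_29_1 L143741 (flp_c L136092) L144845
theorem L144850 : sm ge N12594 = N11591 := ded_38_1 (flp_i L135808) L135804 L144845
theorem L144852 : sm gf N12594 = N12473 := ded_41_1 L143747 L136098 L144845
theorem L144854 : sm gh N11591 = N12595 := rfl
theorem L144856 : sm ga N12595 = N12595 := ded_15_1 (flp_h L144854) L135810 L144854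
theorem L144857 : sm gf N12595 = N12595 := ded_40_1 (flp_h L144854) L135813 L144854
theorem L144858 : sm gd N12595 = N11600 := ded_33_1 (flp_h L135895) L127654 (flp_h L127543) (flp_d L135811) L144854
theorem L144860 : sm gi N12595 = N12595 := ded_44_2 (flp_h L144854) (flp_i L135808) L127536 L135808 L144854
theorem L144861 : sm gi N11596 = N12596 := rfl
theorem L144863 : sm ga N12596 = N12596 := ded_16_1 (flp_i L144861) L135868 L144861
theorem L144864 : sm gc N12596 = N12596 := ded_29_1 (flp_i L144861) L135869 L144861
theorem L144865 : sm ge N12596 = N11597 := ded_38_1 (flp_i L135873) L135866 L144861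
theorem L144867 : sm gf N12596 = N12470 := ded_41_1 L143721 L136071 L144861
theorem L144869 : sm gg N12596 = N11599 := ded_43_1 (flp_i L135889) (flp_g L135870) L144861
theorem L144871 : sm gh N11597 = N12597 := rfl
theorem L144873 : sm ga N12597 = N12597 := ded_15_1 (flp_h L144871) L135875 L144871
theorem L144874 : sm gc N12597 = N12597 := ded_28_1 (flp_h L144871) L135876 L144871
theorem L144875 : sm gf N12597 = N11759 := ded_40_1 L137089 (flp_f L135879) L144871
theorem L144877 : sm gg N12597 = N11600 := ded_42_1 (flp_h L135895) (flp_g L135881) L144871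
theorem L144879 : sm gi N12597 = N12597 := ded_44_2 (flp_h L144871) (flp_i L135873) L127637 L135873 L144871
theorem L144880 : sm gg N11598 = N12598 := rfl
theorem L144882 : sm ga N12598 = N12598 := ded_14_1 (flp_g L144880) L135885 L144880
theorem L144883 : sm gc N12598 = N12598 := ded_27_1 (flp_g L144880) L135886 L144880
theorem L144884 : sm ge N12598 = N12598 := ded_36_1 (flp_g L144880) L135888 L144880
theorem L144885 : sm gh N12598 = N12598 := ded_42_2 (flp_g L144880) L135887 L144880
theorem L144886 : sm gi N11598 = N12599 := rfl
theorem L144888 : sm ga N12599 = N12599 := ded_16_1 (flp_i L144886) L135885 L144886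
theorem L144889 : sm gc N12599 = N12599 := ded_29_1 (flp_i L144886) L135886 L144886
theorem L144890 : sm ge N12599 = N12599 := ded_38_1 (flp_i L144886) L135888 L144886
theorem L144891 : sm gf N12599 = N11599 := ded_41_1 (flp_i L135889) L135883 L144886
theorem L144893 : sm gh N11599 = N12600 := rfl
theorem L144895 : sm ga N12600 = N12600 := ded_15_1 (flp_h L144893) L135891 L144893
theorem L144896 : sm gc N12600 = N12600 := ded_28_1 (flp_h L144893) L135892 L144893
theorem L144897 : sm ge N12600 = N11600 := ded_37_1 (flp_h L135895) (flp_e L135893) L144893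
theorem L144899 : sm gi N12600 = N12600 := ded_44_2 (flp_h L144893) (flp_i L135889) L127649 L135889 L144893
theorem L144900 : sm ge N11602 = N12601 := rfl
theorem L144902 : sm ga N12601 = N12601 := ded_12_1 (flp_e L144900) L135915 L144900
theorem L144903 : sm gc N12601 = N12601 := ded_25_1 (flp_e L144900) L135916 L144900
theorem L144904 : sm gd N12601 = N12601 := ded_30_1 (flp_e L144900) L135917 L127693 (flp_d L135917) L144900
theorem L144905 : sm gf N12601 = N12601 := ded_35_2 (flp_e L144900) (flp_f L135913) L127687 L135913 L144900
theorem L144906 : sm gg N11752 = N12601 := ded_47_1 L144905 (flp_e L144900) L135917 L127691 L74291 (flp_h L69966) L126405 L126414 L69991 L51143 (flp_c L68046) (flp_b L125375) L125377 (flp_g L73343) (flp_f L53563) (flp_e L39198) (flp_d L28685) L21045 L21043 (flp_h L15447) L11357 L15441 L21048 L28697 L28702 (flp_b L29129) L39749 (flp_g L54255) (flp_f L74232) (flp_e L127662) (flp_d L127935) (flp_c L127926) L74435 L54479 L40079 (flp_f L54639) (flp_e L120958) L64442 L64440 (flp_b L48428) L66214 L66221 L48440 L35524 L35526 (flp_c L35652) (flp_b L48589)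 (flp_h L48585) L35631 L48573 L66390 L123804 L131530 L131542 L140423 L140434 L142000 L142007 (flp_d L142042) L142040 L136699 L137033
theorem L144908 : sm gh N12601 = N11751 := ded_42_2 (flp_g L137026) L137033 L144906
theorem L144910 : sm gg N11602 = N12602 := rfl
theorem L144912 : sm ga N12602 = N12602 := ded_14_1 (flp_g L144910) L135915 L144910
theorem L144913 : sm gc N12602 = N12602 := ded_27_1 (flp_g L144910) L135916 L144910
theorem L144914 : sm gd N12602 = N11605 := ded_32_1 (flp_g L135935) (flp_d L135917) L144910
theorem L144916 : sm ge N12602 = N11752 := ded_36_1 L144906 (flp_e L144900) L144910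
theorem L144918 : sm gf N12602 = N11613 := ded_39_1 (flp_g L136007) (flp_f L127738) (flp_g L127684) L135913 L144910
theorem L144920 : sm gh N11750 = N12602 := ded_37_0 L144916 (flp_h L137033) L137020
theorem L144922 : sm gh N11602 = N12603 := rfl
theorem L144924 : sm ga N12603 = N12603 := ded_15_1 (flp_h L144922) L135915 L144922
theorem L144925 : sm gc N12603 = N12603 := ded_28_1 (flp_h L144922) L135916 L144922
theorem L144926 : sm ge N12603 = N11751 := ded_37_1 (flp_h L144908) (flp_e L144900) L144922
theorem L144928 : sm gf N12603 = N11603 := ded_40_1 (flp_h L135919) L135913 L144922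
theorem L144930 : sm gg N12603 = N11750 := ded_42_1 L144920 (flp_g L144910) L144922
theorem L144932 : sm gi N11602 = N12604 := rfl
theorem L144934 : sm ga N12604 = N12604 := ded_16_1 (flp_i L144932) L135915 L144932
theorem L144935 : sm gc N12604 = N12604 := ded_29_1 (flp_i L144932) L135916 L144932
theorem L144936 : sm gd N12604 = N11606 := ded_34_1 (flp_i L135943) (flp_d L135917) L144932
theorem L144938 : sm gf N12604 = N11604 := ded_41_1 (flp_i L135926) L135913 L144932
theorem L144940 : sm gi N11603 = N12605 := rfl
theorem L144942 : sm ga N12605 = N12605 := ded_16_1 (flp_i L144940) L135921 L144940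
theorem L144943 : sm gc N12605 = N12605 := ded_29_1 (flp_i L144940) L135922 L144940
theorem L144944 : sm ge N12605 = N12605 := ded_38_1 (flp_i L144940) L135923 L144940
theorem L144945 : sm gg N12605 = N11616 := ded_43_1 (flp_i L136035) (flp_g L135924) L144940
theorem L144947 : sm gh N11604 = N12606 := rfl
theorem L144949 : sm ga N12606 = N12606 := ded_15_1 (flp_h L144947) L135928 L144947
theorem L144950 : sm gc N12606 = N12606 := ded_28_1 (flp_h L144947) L135929 L144947
theorem L144951 : sm ge N12606 = N12606 := ded_37_1 (flp_h L144947) L135932 L144947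
theorem L144952 : sm gg N12606 = N11617 := ded_42_1 (flp_h L136040) (flp_g L135933) L144947
theorem L144954 : sm gi N11605 = N12607 := rfl
theorem L144956 : sm ga N12607 = N12607 := ded_16_1 (flp_i L144954) L135937 L144954
theorem L144957 : sm gc N12607 = N11609 := ded_29_1 (flp_i L135968) (flp_c L135938) L144954
theorem L144959 : sm ge N12607 = N12607 := ded_38_1 (flp_i L144954) L135940 L144954
theorem L144960 : sm gf N12607 = N11618 := ded_41_1 (flp_i L136045) (flp_f L135941) L144954
theorem L144962 : sm gg N12607 = N11606 := ded_43_1 (flp_i L135943) L135935 L144954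
theorem L144964 : sm gh N11606 = N12608 := rfl
theorem L144966 : sm ga N12608 = N12608 := ded_15_1 (flp_h L144964) L135945 L144964
theorem L144967 : sm gc N12608 = N11610 := ded_28_1 (flp_h L135979) (flp_c L135946) L144964
theorem L144969 : sm ge N12608 = N12608 := ded_37_1 (flp_h L144964) L135948 L144964
theorem L144970 : sm gf N12608 = N11607 := ded_40_1 (flp_h L135951) (flp_f L135949) L144964
theorem L144972 : sm gd N11607 = N12609 := rfl
theorem L144974 : sm ga N12609 = N12609 := ded_11_1 (flp_d L144972) L135953 L144972
theorem L144975 : sm gg N12609 = N11620 := ded_32_2 (flp_d L136063) (flp_g L135958) L144972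
theorem L144977 : sm ge N11608 = N12610 := rfl
theorem L144979 : sm ga N12610 = N12610 := ded_12_1 (flp_e L144977) L135962 L144977
theorem L144980 : sm gc N12610 = N12610 := ded_25_1 (flp_e L144977) L135966 L144977
theorem L144981 : sm gg N12610 = N11621 := ded_36_2 (flp_e L136066) (flp_g L135964) L144977
theorem L144983 : sm gh N12610 = N12610 := ded_37_2 (flp_e L144977) L135967 L144977
theorem L144984 : sm gf N12598 = N12610 := ded_39_5 L144981 L136071 L135870 L135883 L144880
theorem L144986 : sm gh N11609 = N12611 := rfl
theorem L144988 : sm ga N12611 = N12611 := ded_15_1 (flp_h L144986) L135970 L144986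
theorem L144989 : sm gb N12611 = N11632 := ded_22_1 (flp_h L136171) (flp_b L135971) L144986
theorem L144991 : sm ge N12611 = N12611 := ded_37_1 (flp_h L144986) L135974 L144986
theorem L144992 : sm gf N12611 = N11622 := ded_40_1 (flp_h L136073) (flp_f L135975) L144986
theorem L144994 : sm gg N12611 = N11610 := ded_42_1 (flp_h L135979) (flp_g L135977) L144986
theorem L144996 : sm gd N11610 = N12612 := rfl
theorem L144998 : sm ga N12612 = N12612 := ded_11_1 (flp_d L144996) L135981 L144996
theorem L144999 : sm gb N12612 = N11633 := ded_18_1 (flp_d L136180) (flp_b L135982) L144996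
theorem L145001 : sm gf N12612 = N11611 := ded_31_2 (flp_d L135987) (flp_f L135985) L144996
theorem L145003 : sm gh N12612 = N12612 := ded_33_2 (flp_d L144996) (flp_h L135979) L127725 L135979 L144996
theorem L145004 : sm gc N11611 = N12613 := rfl
theorem L145006 : sm ga N12613 = N12613 := ded_10_1 (flp_c L145004) L135989 L145004
theorem L145007 : sm ge N12613 = N12613 := ded_25_2 (flp_c L145004) L135994 L145004
theorem L145008 : sm gg N12613 = N11624 := ded_27_2 (flp_c L136094) (flp_g L135992) L145004
theorem L145010 : sm gh N12613 = N12613 := ded_28_2 (flp_c L145004) L135995 L145004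
theorem L145011 : sm gi N11612 = N12614 := rfl
theorem L145013 : sm ga N12614 = N12614 := ded_16_1 (flp_i L145011) L135998 L145011
theorem L145014 : sm gc N12614 = N12614 := ded_29_1 (flp_i L145011) L135999 L145011
theorem L145015 : sm gd N12614 = N11625 := ded_34_1 (flp_i L136101) (flp_d L136000) L145011
theorem L145017 : sm ge N12614 = N11615 := ded_38_1 (flp_i L136027) L135996 L145011
theorem L145019 : sm gf N12614 = N12614 := ded_41_1 (flp_i L145011) L136002 L145011
theorem L145020 : sm gg N12614 = N12476 := ded_43_1 (flp_i L143764) L136003 L145011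
theorem L145022 : sm gi N11613 = N12615 := rfl
theorem L145024 : sm ga N12615 = N12615 := ded_16_1 (flp_i L145022) L136009 L145022
theorem L145025 : sm gc N12615 = N12615 := ded_29_1 (flp_i L145022) L136010 L145022
theorem L145026 : sm gd N12615 = N11618 := ded_34_1 (flp_i L136045) (flp_d L136011) L145022
theorem L145028 : sm ge N12615 = N12476 := ded_38_1 (flp_i L143764) (flp_e L136013) L145022
theorem L145030 : sm gg N12615 = N11615 := ded_43_1 (flp_i L136027) L136007 L145022
theorem L145032 : sm gi N11614 = N12616 := rfl
theorem L145034 : sm ga N12616 = N12616 := ded_16_1 (flp_i L145032) L136019 L145032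
theorem L145035 : sm gc N12616 = N12616 := ded_29_1 (flp_i L145032) L136020 L145032
theorem L145036 : sm ge N12616 = N12475 := ded_38_1 (flp_i L143755) (flp_e L136021) L145032
theorem L145038 : sm gf N12616 = N11616 := ded_41_1 (flp_i L136035) (flp_f L136023) L145032
theorem L145040 : sm gg N12616 = N12474 := ded_43_1 (flp_i L143749) (flp_g L136025) L145032
theorem L145042 : sm gh N11615 = N12617 := rfl
theorem L145044 : sm ga N12617 = N12617 := ded_15_1 (flp_h L145042) L136029 L145042
theorem L145045 : sm gc N12617 = N12617 := ded_28_1 (flp_h L145042) L136030 L145042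
theorem L145046 : sm gf N12617 = N11617 := ded_40_1 (flp_h L136040) (flp_f L136033) L145042
theorem L145048 : sm gh N11616 = N12618 := rfl
theorem L145050 : sm ga N12618 = N12618 := ded_15_1 (flp_h L145048) L136037 L145048
theorem L145051 : sm gc N12618 = N12618 := ded_28_1 (flp_h L145048) L136038 L145048
theorem L145052 : sm ge N12618 = N12618 := ded_37_1 (flp_h L145048) L136039 L145048
theorem L145053 : sm gi N12618 = N11617 := ded_44_2 (flp_h L136040) (flp_i L127749) L127744 L136035 L145048
theorem L145055 : sm gd N11617 = N12619 := rfl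
theorem L145057 : sm ga N12619 = N12619 := ded_11_1 (flp_d L145055) L136042 L145055
theorem L145058 : sm gh N12619 = N11620 := ded_33_2 (flp_d L136063) (flp_h L127772) (flp_d L127753) L136040 L145055
theorem L145060 : sm gh N11618 = N12620 := rfl
theorem L145062 : sm ga N12620 = N12620 := ded_15_1 (flp_h L145060) L136047 L145060
theorem L145063 : sm gc N12620 = N11622 := ded_28_1 (flp_h L136073) (flp_c L136048) L145060
theorem L145065 : sm ge N12620 = N11630 := ded_37_1 (flp_h L136152) (flp_e L136050) L145060
theorem L145067 : sm gg N12620 = N11619 := ded_42_1 (flp_h L136054) (flp_g L136052) L145060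
theorem L145069 : sm gd N11619 = N12621 := rfl
theorem L145071 : sm ga N12621 = N12621 := ded_11_1 (flp_d L145069) L136056 L145069
theorem L145072 : sm gf N12621 = N11620 := ded_31_2 (flp_d L136063) (flp_f L136061) L145069
theorem L145074 : sm gc N12621 = N12420 := ded_24_1 L143287 L136092 (flp_d L136082) (flp_c L136057) L145069
theorem L145076 : sm ge N12621 = N12419 := ded_30_2 L143280 L136169 (flp_d L136160) (flp_e L136059) L145069
theorem L145078 : sm gc N11620 = N12622 := rfl
theorem L145080 : sm ga N12622 = N12622 := ded_10_1 (flp_c L145078) L136065 L145078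
theorem L145081 : sm gf N12622 = N12420 := ded_26_2 (flp_c L145074) L145072 L145078
theorem L145083 : sm gd N12622 = N11624 := ded_24_2 (flp_c L136094) (flp_d L127805) (flp_c L127775) L136063 L145078
theorem L145085 : sm ge N11620 = N12623 := rfl
theorem L145087 : sm ga N12623 = N12623 := ded_12_1 (flp_e L145085) L136065 L145085
theorem L145088 : sm gd N12623 = N11621 := ded_30_1 (flp_e L136066) (flp_d L127779) (flp_e L127777) L136063 L145085
theorem L145090 : sm gf N12623 = N12424 := ded_35_2 (flp_e L143314) (flp_f L143276) (flp_e L145076) L145072 L145085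
theorem L145092 : sm gb N11624 = N12624 := rfl
theorem L145094 : sm ge N12624 = N12624 := ded_19_2 (flp_b L145092) L136097 L145092
theorem L145095 : sm gf N12624 = N12539 := ded_20_2 L144378 (flp_f L136098) L145092
theorem L145097 : sm gh N12624 = N12624 := ded_22_2 (flp_b L145092) L136100 L145092
theorem L145098 : sm gc N12624 = N11635 := ded_17_2 (flp_b L136195) (flp_c L127979) (flp_b L127808) L136094 L145092
theorem L145100 : sm gh N11626 = N12625 := rfl
theorem L145102 : sm ga N12625 = N12625 := ded_15_1 (flp_h L145100) L136111 L145100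
theorem L145103 : sm gc N12625 = N11636 := ded_28_1 (flp_h L136199) (flp_c L136112) L145100
theorem L145105 : sm gf N12625 = N12625 := ded_40_1 (flp_h L145100) L136116 L145100
theorem L145106 : sm gg N12625 = N11628 := ded_42_1 (flp_h L136130) (flp_g L136117) L145100
theorem L145108 : sm gi N12625 = N12068 := ded_44_2 (flp_h L140076) (flp_i L136101) (flp_h L127839) L136109 L145100
theorem L145110 : sm gd N12048 = N12625 := ded_24_0 L145103 L136206 L131054 (flp_d L130932) (flp_c L139877)
theorem L145112 : sm gh N11627 = N12626 := rfl
theorem L145114 : sm ga N12626 = N12626 := ded_15_1 (flp_h L145112) L136121 L145112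
theorem L145115 : sm gb N12626 = N12507 := ded_22_1 L144743 L144734 L145112
theorem L145117 : sm gc N12626 = N11637 := ded_28_1 (flp_h L136210) (flp_c L136122) L145112
theorem L145119 : sm ge N12626 = N12625 := ded_37_1 (flp_h L145100) (flp_e L136124) L145112
theorem L145121 : sm gf N12626 = N11629 := ded_40_1 (flp_h L136139) (flp_f L136126) L145112
theorem L145123 : sm gg N12626 = N12068 := ded_42_1 (flp_h L140076) (flp_g L136128) L145112
theorem L145125 : sm gi N12626 = N11628 := ded_44_2 (flp_h L136130) (flp_i L127845) L127826 L136119 L145112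
theorem L145127 : sm gd N12065 = N12626 := ded_18_0 L145115 L144050 (flp_b L140036)
theorem L145129 : sm gd N11630 = N12627 := rfl
theorem L145131 : sm ga N12627 = N12627 := ded_11_1 (flp_d L145129) L136154 L145129
theorem L145132 : sm gf N12627 = N12627 := ded_31_2 (flp_d L145129) L136157 L145129
theorem L145133 : sm gg N12627 = N11631 := ded_32_2 (flp_d L136160) (flp_g L136158) L145129
theorem L145135 : sm gc N12627 = N12055 := ded_24_1 L139936 L131289 L128902 (flp_c L136155) L145129
theorem L145137 : sm gh N12627 = N12048 := ded_33_2 L145110 (flp_h L145100) L136114 L136152 L145129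
theorem L145139 : sm ge N12049 = N12627 := ded_36_3 L145133 (flp_e L136169) (flp_g L139891)
theorem L145141 : sm gb N11634 = N12628 := rfl
theorem L145143 : sm ge N12628 = N12628 := ded_19_2 (flp_b L145141) L136191 L145141
theorem L145144 : sm gg N12628 = N11635 := ded_21_2 (flp_b L136195) (flp_g L136192) L145141
theorem L145146 : sm gh N12628 = N12628 := ded_22_2 (flp_b L145141) L136194 L145141
theorem L145147 : sm gd N11638 = N12629 := rfl
theorem L145149 : sm ga N12629 = N11687 := ded_11_1 (flp_d L136585) (flp_a L136226) L145147
theorem L145151 : sm gb N12629 = N12629 := ded_18_1 (flp_d L145147) L136228 L145147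
theorem L145152 : sm gh N12629 = N12143 := ded_33_2 (flp_d L140907) (flp_h L131997) (flp_d L128092) L136224 L145147
theorem L145154 : sm gi N11638 = N12630 := rfl
theorem L145156 : sm ga N12630 = N11688 := ded_16_1 (flp_i L136591) (flp_a L136226) L145154
theorem L145158 : sm gb N12630 = N12630 := ded_23_1 (flp_i L145154) L136228 L145154
theorem L145159 : sm gc N12630 = N11640 := ded_29_1 (flp_i L136240) (flp_c L136229) L145154
theorem L145161 : sm ge N12630 = N12630 := ded_38_1 (flp_i L145154) L136231 L145154
theorem L145162 : sm gc N11639 = N12631 := rfl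
theorem L145164 : sm ga N12631 = N11689 := ded_10_1 (flp_c L136598) (flp_a L136234) L145162
theorem L145166 : sm gh N12631 = N11641 := ded_28_2 (flp_c L136247) (flp_h L136238) L145162
theorem L145168 : sm ge N11639 = N12632 := rfl
theorem L145170 : sm ga N12632 = N11690 := ded_12_1 (flp_e L136602) (flp_a L136234) L145168
theorem L145172 : sm gb N12632 = N11657 := ded_19_1 (flp_e L136382) (flp_b L136236) L145168
theorem L145174 : sm gh N12632 = N11642 := ded_37_2 (flp_e L136253) (flp_h L136238) L145168
theorem L145176 : sm gd N12632 = N12632 := ded_30_1 (flp_e L145168) (flp_d L136232) L128100 L136232 L145168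
theorem L145177 : sm gi N11639 = N12633 := rfl
theorem L145179 : sm ga N12633 = N11691 := ded_16_1 (flp_i L136609) (flp_a L136234) L145177
theorem L145181 : sm gb N12633 = N11658 := ded_23_1 (flp_i L136389) (flp_b L136236) L145177
theorem L145183 : sm gd N12633 = N11640 := ded_34_1 (flp_i L136240) L136232 L145177
theorem L145185 : sm gb N11641 = N12634 := rfl
theorem L145187 : sm gd N12634 = N12156 := ded_18_2 (flp_b L141028) (flp_d L136251) L145185
theorem L145189 : sm gc N12634 = N11659 := ded_17_2 (flp_b L136395) (flp_c L128199) (flp_b L128105) L136247 L145185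
theorem L145191 : sm ge N11641 = N12635 := rfl
theorem L145193 : sm ga N12635 = N11692 := ded_12_1 (flp_e L136615) (flp_a L136249) L145191
theorem L145195 : sm gc N12635 = N11642 := ded_25_1 (flp_e L136253) L136247 L145191
theorem L145197 : sm gi N11641 = N12636 := rfl
theorem L145199 : sm ga N12636 = N11693 := ded_16_1 (flp_i L136619) (flp_a L136249) L145197
theorem L145201 : sm gc N12636 = N11643 := ded_29_1 (flp_i L136261) L136247 L145197
theorem L145203 : sm gd N12636 = N12158 := ded_34_1 (flp_i L141038) (flp_d L136251) L145197
theorem L145205 : sm gf N11642 = N12637 := rfl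
theorem L145207 : sm ga N12637 = N11694 := ded_13_1 (flp_f L136625) (flp_a L136255) L145205
theorem L145209 : sm gb N12637 = N11662 := ded_20_1 (flp_f L136414) (flp_b L136257) L145205
theorem L145211 : sm gd N12637 = N11646 := ded_31_1 (flp_f L136288) (flp_d L136259) L145205
theorem L145213 : sm gi N11642 = N12638 := rfl
theorem L145215 : sm ga N12638 = N11695 := ded_16_1 (flp_i L136631) (flp_a L136255) L145213
theorem L145217 : sm gb N12638 = N11663 := ded_23_1 (flp_i L136420) (flp_b L136257) L145213
theorem L145219 : sm gd N12638 = N11647 := ded_34_1 (flp_i L136297) (flp_d L136259) L145213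
theorem L145221 : sm ge N12638 = N11643 := ded_38_1 (flp_i L136261) L136253 L145213
theorem L145223 : sm gh N11643 = N12639 := rfl
theorem L145225 : sm ga N12639 = N11696 := ded_15_1 (flp_h L136639) (flp_a L136263) L145223
theorem L145227 : sm gb N12639 = N11664 := ded_22_1 (flp_h L136428) (flp_b L136265) L145223
theorem L145229 : sm gd N11644 = N12640 := rfl
theorem L145231 : sm ga N12640 = N11697 := ded_11_1 (flp_d L136643) (flp_a L136271) L145229
theorem L145233 : sm gb N12640 = N12640 := ded_18_1 (flp_d L145229) L136273 L145229
theorem L145234 : sm ge N12640 = N12166 := ded_30_2 (flp_d L141112) (flp_e L132126) (flp_d L128125) L136269 L145229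
theorem L145236 : sm gf N11644 = N12641 := rfl
theorem L145238 : sm ga N12641 = N11698 := ded_13_1 (flp_f L136649) (flp_a L136271) L145236
theorem L145240 : sm gb N12641 = N12641 := ded_20_1 (flp_f L145236) L136273 L145236
theorem L145241 : sm gc N12641 = N11646 := ded_26_1 (flp_f L136288) (flp_c L136274) L145236
theorem L145243 : sm gh N12641 = N12641 := ded_40_2 (flp_f L145236) L136276 L145236
theorem L145244 : sm ge N12641 = N11650 := ded_35_1 (flp_f L136322) (flp_e L128144) (flp_f L128121) L136269 L145236
theorem L145246 : sm gi N11644 = N12642 := rfl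
theorem L145248 : sm ga N12642 = N11699 := ded_16_1 (flp_i L136658) (flp_a L136271) L145246
theorem L145250 : sm gb N12642 = N12642 := ded_23_1 (flp_i L145246) L136273 L145246
theorem L145251 : sm gc N12642 = N11647 := ded_29_1 (flp_i L136297) (flp_c L136274) L145246
theorem L145253 : sm ge N12642 = N11645 := ded_38_1 (flp_i L136277) L136269 L145246
theorem L145255 : sm gh N11645 = N12643 := rfl
theorem L145257 : sm ga N12643 = N11700 := ded_15_1 (flp_h L136666) (flp_a L136279) L145255
theorem L145259 : sm gb N12643 = N12643 := ded_22_1 (flp_h L145255) L136281 L145255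
theorem L145260 : sm gc N12643 = N11648 := ded_28_1 (flp_h L136305) (flp_c L136282) L145255
theorem L145262 : sm gf N12643 = N11652 := ded_40_1 (flp_h L136340) (flp_f L136286) L145255
theorem L145264 : sm gi N12643 = N12643 := ded_44_2 (flp_h L145255) (flp_i L136277) L128123 L136277 L145255
theorem L145265 : sm gg N11646 = N12644 := rfl
theorem L145267 : sm ga N12644 = N11701 := ded_14_1 (flp_g L136675) (flp_a L136290) L145265
theorem L145269 : sm gb N12644 = N11665 := ded_21_1 (flp_g L136432) (flp_b L136292) L145265
theorem L145271 : sm ge N12644 = N11653 := ded_36_1 (flp_g L136349) (flp_e L136295) L145265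
theorem L145273 : sm gh N12644 = N12644 := ded_42_2 (flp_g L145265) L136294 L145265
theorem L145274 : sm gi N11646 = N12645 := rfl
theorem L145276 : sm ga N12645 = N11702 := ded_16_1 (flp_i L136682) (flp_a L136290) L145274
theorem L145278 : sm gb N12645 = N11666 := ded_23_1 (flp_i L136440) (flp_b L136292) L145274
theorem L145280 : sm ge N12645 = N11654 := ded_38_1 (flp_i L136357) (flp_e L136295) L145274
theorem L145282 : sm gf N12645 = N11647 := ded_41_1 (flp_i L136297) L136288 L145274
theorem L145284 : sm gh N11647 = N12646 := rfl
theorem L145286 : sm ga N12646 = N11703 := ded_15_1 (flp_h L136690) (flp_a L136299) L145284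
theorem L145288 : sm gb N12646 = N11667 := ded_22_1 (flp_h L136449) (flp_b L136301) L145284
theorem L145290 : sm ge N12646 = N11648 := ded_37_1 (flp_h L136305) (flp_e L136303) L145284
theorem L145292 : sm gi N12646 = N12646 := ded_44_2 (flp_h L145284) (flp_i L136297) L128133 L136297 L145284
theorem L145293 : sm gf N11649 = N12647 := rfl
theorem L145295 : sm ga N12647 = N11704 := ded_13_1 (flp_f L136697) (flp_a L136316) L145293
theorem L145297 : sm gb N12647 = N12647 := ded_20_1 (flp_f L145293) L136318 L145293
theorem L145298 : sm gd N12647 = N11650 := ded_31_1 (flp_f L136322) L136314 L145293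
theorem L145300 : sm gh N11649 = N12648 := rfl
theorem L145302 : sm ga N12648 = N11705 := ded_15_1 (flp_h L136703) (flp_a L136316) L145300
theorem L145304 : sm gb N12648 = N12648 := ded_22_1 (flp_h L145300) L136318 L145300
theorem L145305 : sm gc N12648 = N12355 := ded_28_1 (flp_h L142711) L140565 L145300
theorem L145307 : sm ge N12648 = N12174 := ded_37_1 (flp_h L141189) (flp_e L136320) L145300
theorem L145309 : sm gg N12648 = N12648 := ded_42_1 (flp_h L145300) L136319 L145300
theorem L145310 : sm gd N12648 = N12648 := ded_33_1 (flp_h L145300) (flp_d L136314) L128152 L136314 L145300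
theorem L145311 : sm gi N11958 = N12648 := ded_29_0 L145305 (flp_i L142702) (flp_c L138997)
theorem L145313 : sm gi N11649 = N12649 := rfl
theorem L145315 : sm ga N12649 = N11706 := ded_16_1 (flp_i L136711) (flp_a L136316) L145313
theorem L145317 : sm gb N12649 = N12649 := ded_23_1 (flp_i L145313) L136318 L145313
theorem L145318 : sm gc N12649 = N12356 := ded_29_1 L142720 L140565 L145313
theorem L145320 : sm gd N12649 = N11651 := ded_34_1 (flp_i L136330) L136314 L145313
theorem L145322 : sm ge N12649 = N12175 := ded_38_1 (flp_i L141197) (flp_e L136320) L145313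
theorem L145324 : sm gg N12649 = N12649 := ded_43_1 (flp_i L145313) L136319 L145313
theorem L145325 : sm gh N12649 = N11959 := ded_44_1 (flp_i L139001) L138994 L145311 (flp_h L145300) L145313
theorem L145327 : sm gg N11650 = N12650 := rfl
theorem L145329 : sm ga N12650 = N11707 := ded_14_1 (flp_g L136720) (flp_a L136324) L145327
theorem L145331 : sm gb N12650 = N12650 := ded_21_1 (flp_g L145327) L136326 L145327
theorem L145332 : sm gc N12650 = N11653 := ded_27_1 (flp_g L136349) (flp_c L136327) L145327
theorem L145334 : sm gh N12650 = N12650 := ded_42_2 (flp_g L145327) L136329 L145327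
theorem L145335 : sm gf N12650 = N12650 := ded_39_1 (flp_g L145327) (flp_f L136322) L128151 L136322 L145327
theorem L145336 : sm gi N11650 = N12651 := rfl
theorem L145338 : sm ga N12651 = N11708 := ded_16_1 (flp_i L136728) (flp_a L136324) L145336
theorem L145340 : sm gb N12651 = N12651 := ded_23_1 (flp_i L145336) L136326 L145336
theorem L145341 : sm gc N12651 = N11654 := ded_29_1 (flp_i L136357) (flp_c L136327) L145336
theorem L145343 : sm gf N12651 = N11651 := ded_41_1 (flp_i L136330) L136322 L145336
theorem L145345 : sm gh N11651 = N12652 := rfl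
theorem L145347 : sm ga N12652 = N11709 := ded_15_1 (flp_h L136736) (flp_a L136332) L145345
theorem L145349 : sm gb N12652 = N12652 := ded_22_1 (flp_h L145345) L136334 L145345
theorem L145350 : sm gc N12652 = N11655 := ded_28_1 (flp_h L136365) (flp_c L136335) L145345
theorem L145352 : sm ge N12652 = N11652 := ded_37_1 (flp_h L136340) (flp_e L136337) L145345
theorem L145354 : sm gg N12652 = N12652 := ded_42_1 (flp_h L145345) L136339 L145345
theorem L145355 : sm gd N12652 = N11962 := ded_33_1 (flp_h L139023) (flp_d L139006) (flp_h L145325) L145320 L145345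
theorem L145357 : sm gi N12652 = N12652 := ded_44_2 (flp_h L145345) (flp_i L136330) L128152 L136330 L145345
theorem L145358 : sm gd N11652 = N12653 := rfl
theorem L145360 : sm ga N12653 = N11710 := ded_11_1 (flp_d L136746) (flp_a L136342) L145358
theorem L145362 : sm gb N12653 = N12653 := ded_18_1 (flp_d L145358) L136344 L145358
theorem L145363 : sm gg N12653 = N12653 := ded_32_2 (flp_d L145358) L136347 L145358
theorem L145364 : sm gi N12653 = N12653 := ded_34_2 (flp_d L145358) L136348 L145358
theorem L145365 : sm ge N12653 = N11963 := ded_30_2 (flp_d L139032) (flp_e L139028) (flp_d L145355) L145352 L145358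
theorem L145367 : sm gh N12653 = N12179 := ded_33_2 (flp_d L141236) (flp_h L132201) (flp_d L128160) L136340 L145358
theorem L145369 : sm gi N11653 = N12654 := rfl
theorem L145371 : sm ga N12654 = N11711 := ded_16_1 (flp_i L136754) (flp_a L136351) L145369
theorem L145373 : sm gb N12654 = N11668 := ded_23_1 (flp_i L136457) (flp_b L136353) L145369
theorem L145375 : sm gf N12654 = N12654 := ded_41_1 (flp_i L145369) L136356 L145369
theorem L145376 : sm gg N12654 = N11654 := ded_43_1 (flp_i L136357) L136349 L145369
theorem L145378 : sm gh N11654 = N12655 := rfl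
theorem L145380 : sm ga N12655 = N11712 := ded_15_1 (flp_h L136761) (flp_a L136359) L145378
theorem L145382 : sm gb N12655 = N11669 := ded_22_1 (flp_h L136465) (flp_b L136361) L145378
theorem L145384 : sm gf N12655 = N11655 := ded_40_1 (flp_h L136365) (flp_f L136363) L145378
theorem L145386 : sm gi N12655 = N12655 := ded_44_2 (flp_h L145378) (flp_i L136357) L128169 L136357 L145378
theorem L145387 : sm gd N11655 = N12656 := rfl
theorem L145389 : sm ga N12656 = N11713 := ded_11_1 (flp_d L136768) (flp_a L136367) L145387
theorem L145391 : sm gb N12656 = N11670 := ded_18_1 (flp_d L136473) (flp_b L136369) L145387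
theorem L145393 : sm gg N12656 = N12656 := ded_32_2 (flp_d L145387) L136373 L145387
theorem L145394 : sm gi N12656 = N12656 := ded_34_2 (flp_d L145387) L136374 L145387
theorem L145395 : sm gc N12656 = N11966 := ded_24_1 (flp_d L139055) (flp_c L139026) (flp_d L145355) L145350 L145387
theorem L145397 : sm gh N12656 = N12363 := ded_33_2 L142797 (flp_h L140609) L131678 L136365 L145387
theorem L145399 : sm gb N11656 = N12657 := rfl
theorem L145401 : sm gd N12657 = N12657 := ded_18_2 (flp_b L145399) L136381 L145399
theorem L145402 : sm gh N12657 = N11659 := ded_22_2 (flp_b L136395) (flp_h L136379) L145399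
theorem L145404 : sm gi N11656 = N12658 := rfl
theorem L145406 : sm ga N12658 = N11673 := ded_16_1 (flp_i L136494) (flp_a L136377) L145404
theorem L145408 : sm gc N12658 = N11658 := ded_29_1 (flp_i L136389) L136375 L145404
theorem L145410 : sm gd N12658 = N12658 := ded_34_1 (flp_i L145404) L136381 L145404
theorem L145411 : sm gi N11657 = N12659 := rfl
theorem L145413 : sm ga N12659 = N11674 := ded_16_1 (flp_i L136499) (flp_a L136384) L145411
theorem L145415 : sm gd N12659 = N12659 := ded_34_1 (flp_i L145411) L136388 L145411
theorem L145416 : sm ge N12659 = N11658 := ded_38_1 (flp_i L136389) L136382 L145411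
theorem L145418 : sm gh N11658 = N12660 := rfl
theorem L145420 : sm ga N12660 = N11675 := ded_15_1 (flp_h L136506) (flp_a L136391) L145418
theorem L145422 : sm gi N12660 = N11664 := ded_44_2 (flp_h L136428) (flp_i L128211) (flp_h L128191) L136389 L145418
theorem L145424 : sm ge N11659 = N12661 := rfl
theorem L145426 : sm gb N12661 = N11660 := ded_19_1 (flp_e L136399) L136395 L145424
theorem L145428 : sm gd N12661 = N12661 := ded_30_1 (flp_e L145424) L136397 L128265 (flp_d L136397) L145424
theorem L145429 : sm gi N11659 = N12662 := rfl
theorem L145431 : sm gb N12662 = N11661 := ded_23_1 (flp_i L136406) L136395 L145429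
theorem L145433 : sm gd N12662 = N11671 := ded_34_1 (flp_i L136479) (flp_d L136397) L145429
theorem L145435 : sm gi N11660 = N12663 := rfl
theorem L145437 : sm ga N12663 = N11676 := ded_16_1 (flp_i L136512) (flp_a L136401) L145435
theorem L145439 : sm gc N12663 = N11663 := ded_29_1 (flp_i L136420) (flp_c L136403) L145435
theorem L145441 : sm gd N12663 = N12663 := ded_34_1 (flp_i L145435) L136405 L145435
theorem L145442 : sm ge N12663 = N11661 := ded_38_1 (flp_i L136406) L136399 L145435
theorem L145444 : sm gh N11661 = N12664 := rfl
theorem L145446 : sm ga N12664 = N11677 := ded_15_1 (flp_h L136519) (flp_a L136408) L145444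
theorem L145448 : sm gc N12664 = N11664 := ded_28_1 (flp_h L136428) (flp_c L136410) L145444
theorem L145450 : sm gi N11662 = N12665 := rfl
theorem L145452 : sm ga N12665 = N11678 := ded_16_1 (flp_i L136523) (flp_a L136416) L145450
theorem L145454 : sm gd N12665 = N11666 := ded_34_1 (flp_i L136440) (flp_d L136418) L145450
theorem L145456 : sm gf N12665 = N11663 := ded_41_1 (flp_i L136420) L136414 L145450
theorem L145458 : sm gh N11663 = N12666 := rfl
theorem L145460 : sm ga N12666 = N11679 := ded_15_1 (flp_h L136531) (flp_a L136422) L145458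
theorem L145462 : sm ge N12666 = N11664 := ded_37_1 (flp_h L136428) (flp_e L136426) L145458
theorem L145464 : sm gi N11665 = N12667 := rfl
theorem L145466 : sm ga N12667 = N11680 := ded_16_1 (flp_i L136537) (flp_a L136434) L145464
theorem L145468 : sm gc N12667 = N12667 := ded_29_1 (flp_i L145464) L136436 L145464
theorem L145469 : sm ge N12667 = N11668 := ded_38_1 (flp_i L136457) (flp_e L136437) L145464
theorem L145471 : sm gg N12667 = N11666 := ded_43_1 (flp_i L136440) L136432 L145464
theorem L145473 : sm gh N11666 = N12668 := rfl
theorem L145475 : sm ga N12668 = N11681 := ded_15_1 (flp_h L136546) (flp_a L136442) L145473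
theorem L145477 : sm gc N12668 = N12668 := ded_28_1 (flp_h L145473) L136444 L145473
theorem L145478 : sm ge N12668 = N11669 := ded_37_1 (flp_h L136465) (flp_e L136445) L145473
theorem L145480 : sm gf N12668 = N11667 := ded_40_1 (flp_h L136449) (flp_f L136447) L145473
theorem L145482 : sm gi N12668 = N12668 := ded_44_2 (flp_h L145473) (flp_i L136440) L128222 L136440 L145473
theorem L145483 : sm gd N11667 = N12669 := rfl
theorem L145485 : sm ga N12669 = N11682 := ded_11_1 (flp_d L136556) (flp_a L136451) L145483
theorem L145487 : sm gi N12669 = N12669 := ded_34_2 (flp_d L145483) L136456 L145483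
theorem L145488 : sm gh N11668 = N12670 := rfl
theorem L145490 : sm ga N12670 = N11683 := ded_15_1 (flp_h L136561) (flp_a L136459) L145488
theorem L145492 : sm gc N12670 = N12670 := ded_28_1 (flp_h L145488) L136461 L145488
theorem L145493 : sm gf N12670 = N12670 := ded_40_1 (flp_h L145488) L136462 L145488
theorem L145494 : sm gg N12670 = N11669 := ded_42_1 (flp_h L136465) (flp_g L136463) L145488
theorem L145496 : sm gi N12670 = N12670 := ded_44_2 (flp_h L145488) (flp_i L136457) L128245 L136457 L145488
theorem L145497 : sm gd N11669 = N12671 := rfl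
theorem L145499 : sm ga N12671 = N11684 := ded_11_1 (flp_d L136570) (flp_a L136467) L145497
theorem L145501 : sm gf N12671 = N11670 := ded_31_2 (flp_d L136473) (flp_f L136470) L145497
theorem L145503 : sm gi N12671 = N12671 := ded_34_2 (flp_d L145497) L136472 L145497
theorem L145504 : sm gc N11670 = N12672 := rfl
theorem L145506 : sm ga N12672 = N11685 := ded_10_1 (flp_c L136577) (flp_a L136475) L145504
theorem L145508 : sm gg N12672 = N12672 := ded_27_2 (flp_c L145504) L136477 L145504
theorem L145509 : sm gh N12672 = N12394 := ded_28_2 L143087 L140709 L145504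
theorem L145511 : sm gi N12672 = N12672 := ded_29_2 (flp_c L145504) L136478 L145504
theorem L145512 : sm gb N12672 = N12004 := ded_17_1 (flp_c L139425) (flp_b L139057) (flp_c L145395) L145391 L145504
theorem L145514 : sm gd N12672 = N12672 := ded_24_2 (flp_c L145504) (flp_d L136473) L128258 L136473 L145504
theorem L145515 : sm gh N11671 = N12673 := rfl
theorem L145517 : sm gb N12673 = N11672 := ded_22_1 (flp_h L136486) (flp_b L136481) L145515
theorem L145519 : sm gc N12673 = N12221 := ded_28_1 (flp_h L141595) (flp_c L136483) L145515
theorem L145521 : sm ge N12673 = N12673 := ded_37_1 (flp_h L145515) L136485 L145515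
theorem L145522 : sm gi N12673 = N12673 := ded_44_2 (flp_h L145515) (flp_i L136479) L128266 L136479 L145515
theorem L145523 : sm gd N11672 = N12674 := rfl
theorem L145525 : sm ga N12674 = N11686 := ded_11_1 (flp_d L136582) (flp_a L136488) L145523
theorem L145527 : sm gi N12674 = N12674 := ded_34_2 (flp_d L145523) L136493 L145523
theorem L145528 : sm gh N11673 = N12675 := rfl
theorem L145530 : sm gc N12675 = N11675 := ded_28_1 (flp_h L136506) (flp_c L136496) L145528
theorem L145532 : sm gi N12675 = N11677 := ded_44_2 (flp_h L136519) (flp_i L128307) (flp_h L128286) L136494 L145528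
theorem L145534 : sm gh N11674 = N12676 := rfl
theorem L145536 : sm gb N12676 = N11727 := ded_22_1 (flp_h L136870) (flp_b L136501) L145534
theorem L145538 : sm ge N12676 = N11675 := ded_37_1 (flp_h L136506) (flp_e L136504) L145534
theorem L145540 : sm gi N12676 = N11679 := ded_44_2 (flp_h L136531) (flp_i L128319) (flp_h L128293) L136499 L145534
theorem L145542 : sm gh N11676 = N12677 := rfl
theorem L145544 : sm gc N12677 = N11679 := ded_28_1 (flp_h L136531) (flp_c L136514) L145542
theorem L145546 : sm ge N12677 = N11677 := ded_37_1 (flp_h L136519) (flp_e L136517) L145542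
theorem L145548 : sm gd N11677 = N12678 := rfl
theorem L145550 : sm gh N12678 = N11686 := ded_33_2 (flp_d L136582) (flp_h L128378) (flp_d L128311) L136519 L145548
theorem L145552 : sm gh N11678 = N12679 := rfl
theorem L145554 : sm gb N12679 = N11729 := ded_22_1 (flp_h L136882) (flp_b L136525) L145552
theorem L145556 : sm gf N12679 = N11679 := ded_40_1 (flp_h L136531) (flp_f L136529) L145552
theorem L145558 : sm gd N11679 = N12680 := rfl
theorem L145560 : sm gb N12680 = N11730 := ded_18_1 (flp_d L136886) (flp_b L136533) L145558
theorem L145562 : sm gh N12680 = N11682 := ded_33_2 (flp_d L136556) (flp_h L128348) (flp_d L128323) L136531 L145558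
theorem L145564 : sm gh N11680 = N12681 := rfl
theorem L145566 : sm gb N12681 = N11731 := ded_22_1 (flp_h L136890) (flp_b L136539) L145564
theorem L145568 : sm gc N12681 = N12681 := ded_28_1 (flp_h L145564) L136541 L145564
theorem L145569 : sm ge N12681 = N11683 := ded_37_1 (flp_h L136561) (flp_e L136542) L145564
theorem L145571 : sm gg N12681 = N11681 := ded_42_1 (flp_h L136546) (flp_g L136544) L145564
theorem L145573 : sm gi N12681 = N12681 := ded_44_2 (flp_h L145564) (flp_i L136537) L128338 L136537 L145564
theorem L145574 : sm gd N11681 = N12682 := rfl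
theorem L145576 : sm gb N12682 = N11732 := ded_18_1 (flp_d L136899) (flp_b L136548) L145574
theorem L145578 : sm gf N12682 = N11682 := ded_31_2 (flp_d L136556) (flp_f L136553) L145574
theorem L145580 : sm gi N12682 = N12682 := ded_34_2 (flp_d L145574) L136555 L145574
theorem L145581 : sm gc N11682 = N12683 := rfl
theorem L145583 : sm gi N12683 = N12683 := ded_29_2 (flp_c L145581) L136560 L145581
theorem L145584 : sm gd N12683 = N12683 := ded_24_2 (flp_c L145581) (flp_d L136556) L128352 L136556 L145581
theorem L145585 : sm ge N11686 = N12684 := rfl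
theorem L145587 : sm gi N12684 = N12684 := ded_38_2 (flp_e L145585) L136584 L145585
theorem L145588 : sm gd N12684 = N12684 := ded_30_1 (flp_e L145585) (flp_d L136582) L128382 L136582 L145585
theorem L145589 : sm gc N11687 = N12685 := rfl
theorem L145591 : sm gh N12685 = N12305 := ded_28_2 (flp_c L142327) (flp_h L136589) L145589
theorem L145593 : sm gd N12685 = N11689 := ded_24_2 (flp_c L136598) (flp_d L128391) (flp_c L128388) L136585 L145589
theorem L145595 : sm ge N11687 = N12686 := rfl
theorem L145597 : sm gb N12686 = N11738 := ded_19_1 (flp_e L136931) (flp_b L136587) L145595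
theorem L145599 : sm gh N12686 = N12306 := ded_37_2 (flp_e L142331) (flp_h L136589) L145595
theorem L145601 : sm gd N12686 = N12686 := ded_30_1 (flp_e L145595) (flp_d L136585) L128390 L136585 L145595
theorem L145602 : sm gi N11687 = N12687 := rfl
theorem L145604 : sm gb N12687 = N11739 := ded_23_1 (flp_i L136937) (flp_b L136587) L145602
theorem L145606 : sm gd N12687 = N11688 := ded_34_1 (flp_i L136591) L136585 L145602
theorem L145608 : sm ge N11689 = N12688 := rfl
theorem L145610 : sm gc N12688 = N11690 := ded_25_1 (flp_e L136602) L136598 L145608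
theorem L145612 : sm gh N12688 = N11692 := ded_37_2 (flp_e L136615) (flp_h L136600) L145608
theorem L145614 : sm gi N11689 = N12689 := rfl
theorem L145616 : sm gc N12689 = N11691 := ded_29_1 (flp_i L136609) L136598 L145614
theorem L145618 : sm gf N11690 = N12690 := rfl
theorem L145620 : sm gb N12690 = N11714 := ded_20_1 (flp_f L136774) (flp_b L136604) L145618
theorem L145622 : sm gd N12690 = N12690 := ded_31_1 (flp_f L145618) L136608 L145618
theorem L145623 : sm gh N12690 = N11694 := ded_40_2 (flp_f L136625) (flp_h L136606) L145618
theorem L145625 : sm gi N11690 = N12691 := rfl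
theorem L145627 : sm gb N12691 = N11715 := ded_23_1 (flp_i L136781) (flp_b L136604) L145625
theorem L145629 : sm gd N12691 = N12691 := ded_34_1 (flp_i L145625) L136608 L145625
theorem L145630 : sm ge N12691 = N11691 := ded_38_1 (flp_i L136609) L136602 L145625
theorem L145632 : sm gh N11691 = N12692 := rfl
theorem L145634 : sm gb N12692 = N11716 := ded_22_1 (flp_h L136788) (flp_b L136611) L145632
theorem L145636 : sm gi N12692 = N11696 := ded_44_2 (flp_h L136639) (flp_i L128412) (flp_h L128395) L136609 L145632
theorem L145638 : sm gd N11692 = N12693 := rfl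
theorem L145640 : sm gc N12693 = N11697 := ded_24_1 (flp_d L136643) L128422 (flp_d L128410) (flp_c L136617) L145638
theorem L145642 : sm ge N12693 = N12327 := ded_30_2 (flp_d L142491) (flp_e L133335) (flp_d L128404) L136615 L145638
theorem L145644 : sm gf N11692 = N12694 := rfl
theorem L145646 : sm gc N12694 = N11694 := ded_26_1 (flp_f L136625) (flp_c L136617) L145644
theorem L145648 : sm gi N11692 = N12695 := rfl
theorem L145650 : sm gc N12695 = N11695 := ded_29_1 (flp_i L136631) (flp_c L136617) L145648
theorem L145652 : sm ge N12695 = N11693 := ded_38_1 (flp_i L136619) L136615 L145648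
theorem L145654 : sm gh N11693 = N12696 := rfl
theorem L145656 : sm gc N12696 = N11696 := ded_28_1 (flp_h L136639) (flp_c L136621) L145654
theorem L145658 : sm gg N11694 = N12697 := rfl
theorem L145660 : sm gb N12697 = N11717 := ded_21_1 (flp_g L136794) (flp_b L136627) L145658
theorem L145662 : sm gd N12697 = N11701 := ded_32_1 (flp_g L136675) (flp_d L136629) L145658
theorem L145664 : sm gi N11694 = N12698 := rfl
theorem L145666 : sm gb N12698 = N11718 := ded_23_1 (flp_i L136800) (flp_b L136627) L145664
theorem L145668 : sm gd N12698 = N11702 := ded_34_1 (flp_i L136682) (flp_d L136629) L145664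
theorem L145670 : sm gf N12698 = N11695 := ded_41_1 (flp_i L136631) L136625 L145664
theorem L145672 : sm gh N11695 = N12699 := rfl
theorem L145674 : sm gb N12699 = N11719 := ded_22_1 (flp_h L136808) (flp_b L136633) L145672
theorem L145676 : sm ge N12699 = N11696 := ded_37_1 (flp_h L136639) (flp_e L136637) L145672
theorem L145678 : sm gf N11697 = N12700 := rfl
theorem L145680 : sm gb N12700 = N11740 := ded_20_1 (flp_f L136942) (flp_b L136645) L145678
theorem L145682 : sm gd N12700 = N11698 := ded_31_1 (flp_f L136649) L136643 L145678
theorem L145684 : sm gh N11697 = N12701 := rfl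
theorem L145686 : sm gb N12701 = N11741 := ded_22_1 (flp_h L136947) (flp_b L136645) L145684
theorem L145688 : sm ge N12701 = N12342 := ded_37_1 (flp_h L142601) (flp_e L136647) L145684
theorem L145690 : sm gd N12701 = N12701 := ded_33_1 (flp_h L145684) (flp_d L136643) L128424 L136643 L145684
theorem L145691 : sm gi N11697 = N12702 := rfl
theorem L145693 : sm gb N12702 = N11742 := ded_23_1 (flp_i L136953) (flp_b L136645) L145691
theorem L145695 : sm gd N12702 = N11699 := ded_34_1 (flp_i L136658) L136643 L145691
theorem L145697 : sm ge N12702 = N12343 := ded_38_1 (flp_i L142607) (flp_e L136647) L145691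
theorem L145699 : sm gg N11698 = N12703 := rfl
theorem L145701 : sm gb N12703 = N11743 := ded_21_1 (flp_g L136960) (flp_b L136651) L145699
theorem L145703 : sm gc N12703 = N11701 := ded_27_1 (flp_g L136675) (flp_c L136653) L145699
theorem L145705 : sm ge N12703 = N11707 := ded_36_1 (flp_g L136720) (flp_e L136656) L145699
theorem L145707 : sm gh N12703 = N12703 := ded_42_2 (flp_g L145699) L136655 L145699
theorem L145708 : sm gi N11698 = N12704 := rfl
theorem L145710 : sm gb N12704 = N11744 := ded_23_1 (flp_i L136968) (flp_b L136651) L145708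
theorem L145712 : sm gc N12704 = N11702 := ded_29_1 (flp_i L136682) (flp_c L136653) L145708
theorem L145714 : sm ge N12704 = N11708 := ded_38_1 (flp_i L136728) (flp_e L136656) L145708
theorem L145716 : sm gf N12704 = N11699 := ded_41_1 (flp_i L136658) L136649 L145708
theorem L145718 : sm gh N11699 = N12705 := rfl
theorem L145720 : sm gb N12705 = N11745 := ded_22_1 (flp_h L136977) (flp_b L136660) L145718
theorem L145722 : sm gc N12705 = N11703 := ded_28_1 (flp_h L136690) (flp_c L136662) L145718
theorem L145724 : sm ge N12705 = N11700 := ded_37_1 (flp_h L136666) (flp_e L136664) L145718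
theorem L145726 : sm gi N12705 = N12705 := ded_44_2 (flp_h L145718) (flp_i L136658) L128424 L136658 L145718
theorem L145727 : sm gd N11700 = N12706 := rfl
theorem L145729 : sm gb N12706 = N11746 := ded_18_1 (flp_d L136985) (flp_b L136668) L145727
theorem L145731 : sm gf N12706 = N11710 := ded_31_2 (flp_d L136746) (flp_f L136672) L145727
theorem L145733 : sm gi N12706 = N12706 := ded_34_2 (flp_d L145727) L136674 L145727
theorem L145734 : sm gh N12706 = N12347 := ded_33_2 (flp_d L142643) (flp_h L133430) (flp_d L128431) L136666 L145727
theorem L145736 : sm gi N11701 = N12707 := rfl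
theorem L145738 : sm gb N12707 = N11720 := ded_23_1 (flp_i L136814) (flp_b L136677) L145736
theorem L145740 : sm ge N12707 = N11711 := ded_38_1 (flp_i L136754) (flp_e L136679) L145736
theorem L145742 : sm gg N12707 = N11702 := ded_43_1 (flp_i L136682) L136675 L145736
theorem L145744 : sm gh N11702 = N12708 := rfl
theorem L145746 : sm gb N12708 = N11721 := ded_22_1 (flp_h L136824) (flp_b L136684) L145744
theorem L145748 : sm ge N12708 = N11712 := ded_37_1 (flp_h L136761) (flp_e L136686) L145744
theorem L145750 : sm gf N12708 = N11703 := ded_40_1 (flp_h L136690) (flp_f L136688) L145744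
theorem L145752 : sm gi N12708 = N12708 := ded_44_2 (flp_h L145744) (flp_i L136682) L128439 L136682 L145744
theorem L145753 : sm gd N11703 = N12709 := rfl
theorem L145755 : sm gb N12709 = N11722 := ded_18_1 (flp_d L136835) (flp_b L136692) L145753
theorem L145757 : sm gi N12709 = N12709 := ded_34_2 (flp_d L145753) L136696 L145753
theorem L145758 : sm ge N11704 = N12710 := rfl
theorem L145760 : sm gb N12710 = N11750 := ded_19_1 (flp_e L137020) (flp_b L136699) L145758
theorem L145762 : sm gf N12710 = N12351 := ded_35_2 (flp_e L142675) (flp_f L133464) (flp_e L128460) L136697 L145758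
theorem L145764 : sm gg N11704 = N12711 := rfl
theorem L145766 : sm gb N12711 = N11751 := ded_21_1 (flp_g L137026) (flp_b L136699) L145764
theorem L145768 : sm gd N12711 = N11707 := ded_32_1 (flp_g L136720) (flp_d L136701) L145764
theorem L145770 : sm gf N12711 = N12711 := ded_39_1 (flp_g L145764) (flp_f L136697) L128459 L136697 L145764
theorem L145771 : sm gh N11704 = N12712 := rfl
theorem L145773 : sm gb N12712 = N11752 := ded_22_1 (flp_h L137033) (flp_b L136699) L145771
theorem L145775 : sm gf N12712 = N11705 := ded_40_1 (flp_h L136703) L136697 L145771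
theorem L145777 : sm gd N12712 = N12712 := ded_33_1 (flp_h L145771) L136701 L128468 (flp_d L136701) L145771
theorem L145778 : sm gi N11704 = N12713 := rfl
theorem L145780 : sm gb N12713 = N11753 := ded_23_1 (flp_i L137040) (flp_b L136699) L145778
theorem L145782 : sm gd N12713 = N11708 := ded_34_1 (flp_i L136728) (flp_d L136701) L145778
theorem L145784 : sm gf N12713 = N11706 := ded_41_1 (flp_i L136711) L136697 L145778
theorem L145786 : sm gi N11705 = N12714 := rfl
theorem L145788 : sm ga N12714 = N11958 := ded_16_1 L145311 L145302 L145786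
theorem L145790 : sm gb N12714 = N11754 := ded_23_1 (flp_i L137048) (flp_b L136705) L145786
theorem L145792 : sm gc N12714 = N12174 := ded_29_1 L142054 L142047 L145786
theorem L145794 : sm gd N12714 = N12714 := ded_34_1 (flp_i L145786) L136710 L145786
theorem L145795 : sm ge N12714 = N12355 := ded_38_1 (flp_i L142702) (flp_e L136707) L145786
theorem L145797 : sm gg N12714 = N12714 := ded_43_1 (flp_i L145786) L136709 L145786
theorem L145798 : sm gh N11835 = N12714 := ded_15_0 L145788 (flp_h L138994) (flp_a L137823)
theorem L145800 : sm gh N11706 = N12715 := rfl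
theorem L145802 : sm ga N12715 = N11959 := ded_15_1 (flp_h L145325) L145315 L145800
theorem L145804 : sm gb N12715 = N11755 := ded_22_1 (flp_h L137056) (flp_b L136713) L145800
theorem L145806 : sm gc N12715 = N12175 := ded_28_1 (flp_h L142066) L142059 L145800
theorem L145808 : sm ge N12715 = N12356 := ded_37_1 (flp_h L142713) (flp_e L136717) L145800
theorem L145810 : sm gg N12715 = N12715 := ded_42_1 (flp_h L145800) L136719 L145800
theorem L145811 : sm gi N12715 = N11835 := ded_44_2 L145798 (flp_i L145786) (flp_h L136703) L136711 L145800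
theorem L145813 : sm gd N11837 = N12715 := ded_11_0 L145802 L139006 (flp_a L137837)
theorem L145815 : sm gi N11707 = N12716 := rfl
theorem L145817 : sm gb N12716 = N11756 := ded_23_1 (flp_i L137063) (flp_b L136722) L145815
theorem L145819 : sm gc N12716 = N11711 := ded_29_1 (flp_i L136754) (flp_c L136724) L145815
theorem L145821 : sm gf N12716 = N12716 := ded_41_1 (flp_i L145815) L136727 L145815
theorem L145822 : sm gg N12716 = N11708 := ded_43_1 (flp_i L136728) L136720 L145815
theorem L145824 : sm gh N11708 = N12717 := rfl
theorem L145826 : sm gb N12717 = N11757 := ded_22_1 (flp_h L137071) (flp_b L136730) L145824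
theorem L145828 : sm gc N12717 = N11712 := ded_28_1 (flp_h L136761) (flp_c L136732) L145824
theorem L145830 : sm gf N12717 = N11709 := ded_40_1 (flp_h L136736) (flp_f L136734) L145824
theorem L145832 : sm gi N12717 = N12717 := ded_44_2 (flp_h L145824) (flp_i L136728) L128468 L136728 L145824
theorem L145833 : sm gd N11709 = N12718 := rfl
theorem L145835 : sm ga N12718 = N11962 := ded_11_1 (flp_d L145355) L145347 L145833
theorem L145837 : sm gb N12718 = N11758 := ded_18_1 (flp_d L137079) (flp_b L136738) L145833
theorem L145839 : sm gg N12718 = N12718 := ded_32_2 (flp_d L145833) L136744 L145833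
theorem L145840 : sm gi N12718 = N12718 := ded_34_2 (flp_d L145833) L136745 L145833
theorem L145841 : sm gh N12718 = N11837 := ded_33_2 L145813 (flp_h L145800) L136715 L136736 L145833
theorem L145843 : sm gc N11841 = N12718 := ded_10_0 L145835 L139026 (flp_a L137874)
theorem L145845 : sm ge N11838 = N12718 := ded_12_0 L145835 L139028 (flp_a L137846)
theorem L145847 : sm ge N11710 = N12719 := rfl
theorem L145849 : sm ga N12719 = N11963 := ded_12_1 (flp_e L145365) L145360 L145847
theorem L145851 : sm gb N12719 = N11759 := ded_19_1 (flp_e L137084) (flp_b L136748) L145847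
theorem L145853 : sm gc N12719 = N12653 := ded_25_1 L145365 L139037 L145847
theorem L145855 : sm gg N12719 = N12719 := ded_36_2 (flp_e L145847) L136750 L145847
theorem L145856 : sm gh N12719 = N12360 := ded_37_2 (flp_e L142758) (flp_h L136752) L145847
theorem L145858 : sm gi N12719 = N12719 := ded_38_2 (flp_e L145847) L136751 L145847
theorem L145859 : sm gd N12719 = N11838 := ded_30_1 L145845 (flp_d L145833) L136742 L136746 L145847
theorem L145861 : sm gh N11711 = N12720 := rfl
theorem L145863 : sm gb N12720 = N11723 := ded_22_1 (flp_h L136840) (flp_b L136756) L145861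
theorem L145865 : sm gf N12720 = N12720 := ded_40_1 (flp_h L145861) L136758 L145861
theorem L145866 : sm gg N12720 = N11712 := ded_42_1 (flp_h L136761) (flp_g L136759) L145861
theorem L145868 : sm gi N12720 = N12720 := ded_44_2 (flp_h L145861) (flp_i L136754) L128490 L136754 L145861
theorem L145869 : sm gd N11712 = N12721 := rfl
theorem L145871 : sm gb N12721 = N11724 := ded_18_1 (flp_d L136850) (flp_b L136763) L145869
theorem L145873 : sm gf N12721 = N11713 := ded_31_2 (flp_d L136768) (flp_f L136765) L145869
theorem L145875 : sm gi N12721 = N12721 := ded_34_2 (flp_d L145869) L136767 L145869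
theorem L145876 : sm gc N11713 = N12722 := rfl
theorem L145878 : sm ga N12722 = N11966 := ded_10_1 (flp_c L145395) L145389 L145876
theorem L145880 : sm ge N12722 = N12656 := ded_25_2 L145395 L139061 L145876
theorem L145882 : sm gg N12722 = N12722 := ded_27_2 (flp_c L145876) L136772 L145876
theorem L145883 : sm gh N12722 = N12182 := ded_28_2 (flp_c L142131) L142135 L145876
theorem L145885 : sm gi N12722 = N12722 := ded_29_2 (flp_c L145876) L136773 L145876
theorem L145886 : sm gd N12722 = N11841 := ded_24_2 L145843 (flp_d L145833) L136740 L136768 L145876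
theorem L145888 : sm gb N11866 = N12722 := ded_9_0 L145878 L139057 L130468 (flp_b L129868) (flp_a L138102)
theorem L145890 : sm gi N11714 = N12723 := rfl
theorem L145892 : sm ga N12723 = N11726 := ded_16_1 (flp_i L136865) (flp_a L136776) L145890
theorem L145894 : sm gd N12723 = N12723 := ded_34_1 (flp_i L145890) L136778 L145890
theorem L145895 : sm gf N12723 = N11715 := ded_41_1 (flp_i L136781) L136774 L145890
theorem L145897 : sm gh N11715 = N12724 := rfl
theorem L145899 : sm ga N12724 = N11727 := ded_15_1 (flp_h L136870) (flp_a L136783) L145897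
theorem L145901 : sm ge N12724 = N11716 := ded_37_1 (flp_h L136788) (flp_e L136786) L145897
theorem L145903 : sm gi N12724 = N11719 := ded_44_2 (flp_h L136808) (flp_i L128525) (flp_h L128510) L136781 L145897
theorem L145905 : sm gi N11717 = N12725 := rfl
theorem L145907 : sm ga N12725 = N11728 := ded_16_1 (flp_i L136876) (flp_a L136796) L145905
theorem L145909 : sm gd N12725 = N11720 := ded_34_1 (flp_i L136814) (flp_d L136798) L145905
theorem L145911 : sm gg N12725 = N11718 := ded_43_1 (flp_i L136800) L136794 L145905
theorem L145913 : sm gh N11718 = N12726 := rfl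
theorem L145915 : sm ga N12726 = N11729 := ded_15_1 (flp_h L136882) (flp_a L136802) L145913
theorem L145917 : sm gf N12726 = N11719 := ded_40_1 (flp_h L136808) (flp_f L136806) L145913
theorem L145919 : sm gd N11719 = N12727 := rfl
theorem L145921 : sm ga N12727 = N11730 := ded_11_1 (flp_d L136886) (flp_a L136810) L145919
theorem L145923 : sm gh N12727 = N11722 := ded_33_2 (flp_d L136835) (flp_h L128556) (flp_d L128529) L136808 L145919
theorem L145925 : sm gh N11720 = N12728 := rfl
theorem L145927 : sm ga N12728 = N11731 := ded_15_1 (flp_h L136890) (flp_a L136816) L145925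
theorem L145929 : sm gc N12728 = N11763 := ded_28_1 (flp_h L137117) (flp_c L136818) L145925
theorem L145931 : sm ge N12728 = N11723 := ded_37_1 (flp_h L136840) (flp_e L136820) L145925
theorem L145933 : sm gg N12728 = N11721 := ded_42_1 (flp_h L136824) (flp_g L136822) L145925
theorem L145935 : sm gi N12728 = N12728 := ded_44_2 (flp_h L145925) (flp_i L136814) L128545 L136814 L145925
theorem L145936 : sm gd N11721 = N12729 := rfl
theorem L145938 : sm ga N12729 = N11732 := ded_11_1 (flp_d L136899) (flp_a L136826) L145936
theorem L145940 : sm gf N12729 = N11722 := ded_31_2 (flp_d L136835) (flp_f L136832) L145936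
theorem L145942 : sm gi N12729 = N12729 := ded_34_2 (flp_d L145936) L136834 L145936
theorem L145943 : sm gc N11722 = N12730 := rfl
theorem L145945 : sm ga N12730 = N11733 := ded_10_1 (flp_c L136904) (flp_a L136837) L145943
theorem L145947 : sm gi N12730 = N12730 := ded_29_2 (flp_c L145943) L136839 L145943
theorem L145948 : sm gd N12730 = N11765 := ded_24_2 (flp_c L137133) (flp_d L128817) (flp_c L128560) L136835 L145943
theorem L145950 : sm gd N11723 = N12731 := rfl
theorem L145952 : sm ga N12731 = N11734 := ded_11_1 (flp_d L136909) (flp_a L136842) L145950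
theorem L145954 : sm gf N12731 = N12731 := ded_31_2 (flp_d L145950) L136846 L145950
theorem L145955 : sm gg N12731 = N11724 := ded_32_2 (flp_d L136850) (flp_g L136847) L145950
theorem L145957 : sm gi N12731 = N12731 := ded_34_2 (flp_d L145950) L136849 L145950
theorem L145958 : sm gc N11724 = N12732 := rfl
theorem L145960 : sm ga N12732 = N11735 := ded_10_1 (flp_c L136915) (flp_a L136852) L145958
theorem L145962 : sm gf N12732 = N11725 := ded_26_2 (flp_c L136857) (flp_f L136854) L145958
theorem L145964 : sm gi N12732 = N12732 := ded_29_2 (flp_c L145958) L136856 L145958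
theorem L145965 : sm gd N12732 = N11767 := ded_24_2 (flp_c L137148) (flp_d L128831) (flp_c L128578) L136850 L145958
theorem L145967 : sm ge N11724 = N12733 := rfl
theorem L145969 : sm ga N12733 = N11736 := ded_12_1 (flp_e L136922) (flp_a L136852) L145967
theorem L145971 : sm gi N12733 = N12733 := ded_38_2 (flp_e L145967) L136856 L145967
theorem L145972 : sm gb N11725 = N12734 := rfl
theorem L145974 : sm gd N12734 = N11769 := ded_18_2 (flp_b L137163) (flp_d L136863) L145972
theorem L145976 : sm ge N12734 = N12672 := ded_19_2 L145512 L139429 L145972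
theorem L145978 : sm gg N12734 = N12734 := ded_21_2 (flp_b L145972) L136861 L145972
theorem L145979 : sm gh N12734 = N12217 := ded_22_2 (flp_b L142259) L142255 L145972
theorem L145981 : sm gi N12734 = N12734 := ded_23_2 (flp_b L145972) L136862 L145972
theorem L145982 : sm gc N12734 = N11866 := ded_17_2 L145888 (flp_c L145876) L136770 L136857 L145972
theorem L145984 : sm ga N11909 = N12734 := ded_12_3 L145976 L145506 (flp_e L138563)
theorem L145986 : sm gh N11726 = N12735 := rfl
theorem L145988 : sm gf N12735 = N11727 := ded_40_1 (flp_h L136870) (flp_f L136868) L145986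
theorem L145990 : sm gi N12735 = N11729 := ded_44_2 (flp_h L136882) (flp_i L128607) (flp_h L128592) L136865 L145986
theorem L145992 : sm gd N11727 = N12736 := rfl
theorem L145994 : sm gi N12736 = N11730 := ded_34_2 (flp_d L136886) (flp_i L136874) L145992
theorem L145996 : sm gh N12736 = N12736 := ded_33_2 (flp_d L145992) (flp_h L136870) L128596 L136870 L145992
theorem L145997 : sm gh N11728 = N12737 := rfl
theorem L145999 : sm gg N12737 = N11729 := ded_42_1 (flp_h L136882) (flp_g L136880) L145997
theorem L146001 : sm gd N11729 = N12738 := rfl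
theorem L146003 : sm gf N12738 = N11730 := ded_31_2 (flp_d L136886) (flp_f L136884) L146001
theorem L146005 : sm gh N12738 = N11732 := ded_33_2 (flp_d L136899) (flp_h L128625) (flp_d L128609) L136882 L146001
theorem L146007 : sm gc N11730 = N12739 := rfl
theorem L146009 : sm gh N12739 = N11733 := ded_28_2 (flp_c L136904) (flp_h L136888) L146007
theorem L146011 : sm gd N11731 = N12740 := rfl
theorem L146013 : sm gg N12740 = N11732 := ded_32_2 (flp_d L136899) (flp_g L136896) L146011
theorem L146015 : sm gi N12740 = N12740 := ded_34_2 (flp_d L146011) L136898 L146011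
theorem L146016 : sm gc N11732 = N12741 := rfl
theorem L146018 : sm gf N12741 = N11733 := ded_26_2 (flp_c L136904) (flp_f L136901) L146016
theorem L146020 : sm gi N12741 = N12741 := ded_29_2 (flp_c L146016) L136903 L146016
theorem L146021 : sm gd N12741 = N11771 := ded_24_2 (flp_c L137175) (flp_d L128855) (flp_c L128627) L136899 L146016
theorem L146023 : sm ge N11732 = N12742 := rfl
theorem L146025 : sm gi N12742 = N12742 := ded_38_2 (flp_e L146023) L136903 L146023
theorem L146026 : sm gd N12742 = N11736 := ded_30_1 (flp_e L136922) (flp_d L128645) (flp_e L128629) L136899 L146023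
theorem L146028 : sm gb N11733 = N12743 := rfl
theorem L146030 : sm gd N12743 = N11773 := ded_18_2 (flp_b L137187) (flp_d L136907) L146028
theorem L146032 : sm gi N12743 = N12743 := ded_23_2 (flp_b L146028) L136906 L146028
theorem L146033 : sm ga N11737 = N12744 := rfl
theorem L146035 : sm gc N12744 = N11810 := ded_10_2 (flp_a L140376) L140380 L146033
theorem L146037 : sm gd N12744 = N11778 := ded_11_2 (flp_a L137220) (flp_d L136927) L146033
theorem L146039 : sm ge N12744 = N12093 := ded_12_2 L140376 L137584 L146033
theorem L146041 : sm gf N12744 = N11813 := ded_13_2 (flp_a L138679) L138687 L146033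
theorem L146043 : sm gg N12744 = N12744 := ded_14_2 (flp_a L146033) L136929 L146033
theorem L146044 : sm gh N12744 = N11808 := ded_15_2 (flp_a L137566) (flp_h L137578) L146033
theorem L146046 : sm gi N12744 = N12744 := ded_16_2 (flp_a L146033) L136930 L146033
theorem L146047 : sm gb N12744 = N11909 := ded_9_2 L145984 (flp_b L145972) L136859 L136925 L146033
theorem L146049 : sm gf N11738 = N12745 := rfl
theorem L146051 : sm ga N12745 = N12745 := ded_13_1 (flp_f L146049) L136933 L146049
theorem L146052 : sm gc N12745 = N12623 := ded_26_1 L145090 L143317 L146049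
theorem L146054 : sm gd N12745 = N12745 := ded_31_1 (flp_f L146049) L136936 L146049
theorem L146055 : sm gh N12745 = N12429 := ded_40_2 (flp_f L143359) (flp_h L136934) L146049
theorem L146057 : sm ge N12745 = N12622 := ded_35_1 L145081 (flp_e L143282) L134071 L136931 L146049
theorem L146059 : sm gi N11738 = N12746 := rfl
theorem L146061 : sm ga N12746 = N12746 := ded_16_1 (flp_i L146059) L136933 L146059
theorem L146062 : sm gd N12746 = N12746 := ded_34_1 (flp_i L146059) L136936 L146059
theorem L146063 : sm ge N12746 = N11739 := ded_38_1 (flp_i L136937) L136931 L146059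
theorem L146065 : sm gh N11739 = N12747 := rfl
theorem L146067 : sm ga N12747 = N12747 := ded_15_1 (flp_h L146065) L136939 L146065
theorem L146068 : sm gi N12747 = N12431 := ded_44_2 (flp_h L143371) (flp_i L134171) (flp_h L128659) L136937 L146065
theorem L146070 : sm ge N11740 = N12748 := rfl
theorem L146072 : sm ga N12748 = N12748 := ded_12_1 (flp_e L146070) L136944 L146070
theorem L146073 : sm gd N12748 = N11750 := ded_30_1 (flp_e L137020) L128724 (flp_e L128678) (flp_d L136945) L146070
theorem L146075 : sm gf N12748 = N12461 := ded_35_2 (flp_e L143654) (flp_f L134390) (flp_e L128670) L136942 L146070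
theorem L146077 : sm gg N11740 = N12749 := rfl
theorem L146079 : sm ga N12749 = N12749 := ded_14_1 (flp_g L146077) L136944 L146077
theorem L146080 : sm gd N12749 = N11743 := ded_32_1 (flp_g L136960) (flp_d L136945) L146077
theorem L146082 : sm gh N11740 = N12750 := rfl
theorem L146084 : sm ga N12750 = N12750 := ded_15_1 (flp_h L146082) L136944 L146082
theorem L146085 : sm gf N12750 = N11741 := ded_40_1 (flp_h L136947) L136942 L146082
theorem L146087 : sm gd N12750 = N12750 := ded_33_1 (flp_h L146082) L136945 L128677 (flp_d L136945) L146082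
theorem L146088 : sm gi N11740 = N12751 := rfl
theorem L146090 : sm ga N12751 = N12751 := ded_16_1 (flp_i L146088) L136944 L146088
theorem L146091 : sm gd N12751 = N11744 := ded_34_1 (flp_i L136968) (flp_d L136945) L146088
theorem L146093 : sm gf N12751 = N11742 := ded_41_1 (flp_i L136953) L136942 L146088
theorem L146095 : sm gi N11741 = N12752 := rfl
theorem L146097 : sm ga N12752 = N12752 := ded_16_1 (flp_i L146095) L136949 L146095
theorem L146098 : sm gd N12752 = N12752 := ded_34_1 (flp_i L146095) L136952 L146095
theorem L146099 : sm ge N12752 = N12465 := ded_38_1 (flp_i L143684) (flp_e L136950) L146095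
theorem L146101 : sm gh N11742 = N12753 := rfl
theorem L146103 : sm ga N12753 = N12753 := ded_15_1 (flp_h L146101) L136955 L146101
theorem L146104 : sm ge N12753 = N12466 := ded_37_1 (flp_h L143689) (flp_e L136958) L146101
theorem L146106 : sm gi N11743 = N12754 := rfl
theorem L146108 : sm ga N12754 = N12754 := ded_16_1 (flp_i L146106) L136962 L146106
theorem L146109 : sm gc N12754 = N11747 := ded_29_1 (flp_i L136994) (flp_c L136963) L146106
theorem L146111 : sm ge N12754 = N11756 := ded_38_1 (flp_i L137063) (flp_e L136965) L146106
theorem L146113 : sm gg N12754 = N11744 := ded_43_1 (flp_i L136968) L136960 L146106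
theorem L146115 : sm gh N11744 = N12755 := rfl
theorem L146117 : sm ga N12755 = N12755 := ded_15_1 (flp_h L146115) L136970 L146115
theorem L146118 : sm gc N12755 = N11748 := ded_28_1 (flp_h L137003) (flp_c L136971) L146115
theorem L146120 : sm ge N12755 = N11757 := ded_37_1 (flp_h L137071) (flp_e L136973) L146115
theorem L146122 : sm gf N12755 = N11745 := ded_40_1 (flp_h L136977) (flp_f L136975) L146115
theorem L146124 : sm gi N12755 = N12755 := ded_44_2 (flp_h L146115) (flp_i L136968) L128677 L136968 L146115
theorem L146125 : sm gd N11745 = N12756 := rfl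
theorem L146127 : sm ga N12756 = N12756 := ded_11_1 (flp_d L146125) L136979 L146125
theorem L146128 : sm gi N12756 = N12756 := ded_34_2 (flp_d L146125) L136984 L146125
theorem L146129 : sm ge N11746 = N12757 := rfl
theorem L146131 : sm ga N12757 = N12757 := ded_12_1 (flp_e L146129) L136987 L146129
theorem L146132 : sm gc N12757 = N12757 := ded_25_1 (flp_e L146129) L136991 L146129
theorem L146133 : sm gh N12757 = N12470 := ded_37_2 (flp_e L143717) (flp_h L136992) L146129
theorem L146135 : sm gi N12757 = N12757 := ded_38_2 (flp_e L146129) L136990 L146129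
theorem L146136 : sm gh N11747 = N12758 := rfl
theorem L146138 : sm ga N12758 = N12758 := ded_15_1 (flp_h L146136) L136996 L146136
theorem L146139 : sm gb N12758 = N11763 := ded_22_1 (flp_h L137117) (flp_b L136997) L146136
theorem L146141 : sm ge N12758 = N11760 := ded_37_1 (flp_h L137092) (flp_e L136999) L146136
theorem L146143 : sm gg N12758 = N11748 := ded_42_1 (flp_h L137003) (flp_g L137001) L146136
theorem L146145 : sm gi N12758 = N12758 := ded_44_2 (flp_h L146136) (flp_i L136994) L128702 L136994 L146136
theorem L146146 : sm gd N11748 = N12759 := rfl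
theorem L146148 : sm ga N12759 = N12759 := ded_11_1 (flp_d L146146) L137005 L146146
theorem L146149 : sm gb N12759 = N11764 := ded_18_1 (flp_d L137126) (flp_b L137006) L146146
theorem L146151 : sm gf N12759 = N11749 := ded_31_2 (flp_d L137013) (flp_f L137010) L146146
theorem L146153 : sm gi N12759 = N12759 := ded_34_2 (flp_d L146146) L137012 L146146
theorem L146154 : sm gc N11749 = N12760 := rfl
theorem L146156 : sm ga N12760 = N12760 := ded_10_1 (flp_c L146154) L137015 L146154
theorem L146157 : sm ge N12760 = N12760 := ded_25_2 (flp_c L146154) L137019 L146154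
theorem L146158 : sm gi N12760 = N12760 := ded_29_2 (flp_c L146154) L137018 L146154
theorem L146159 : sm gi N11750 = N12761 := rfl
theorem L146161 : sm ga N12761 = N12761 := ded_16_1 (flp_i L146159) L137022 L146159
theorem L146162 : sm gc N12761 = N12761 := ded_29_1 (flp_i L146159) L137023 L146159
theorem L146163 : sm ge N12761 = N11753 := ded_38_1 (flp_i L137040) L137020 L146159
theorem L146165 : sm gf N12761 = N12474 := ded_41_1 (flp_i L143749) (flp_f L137024) L146159
theorem L146167 : sm gi N11751 = N12762 := rfl
theorem L146169 : sm ga N12762 = N12762 := ded_16_1 (flp_i L146167) L137028 L146167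
theorem L146170 : sm gc N12762 = N12762 := ded_29_1 (flp_i L146167) L137029 L146167
theorem L146171 : sm gd N12762 = N11756 := ded_34_1 (flp_i L137063) (flp_d L137030) L146167
theorem L146173 : sm gf N12762 = N12762 := ded_41_1 (flp_i L146167) L137032 L146167
theorem L146174 : sm gg N12762 = N11753 := ded_43_1 (flp_i L137040) L137026 L146167
theorem L146176 : sm gi N11752 = N12763 := rfl
theorem L146178 : sm ga N12763 = N12763 := ded_16_1 (flp_i L146176) L137035 L146176
theorem L146179 : sm gc N12763 = N12763 := ded_29_1 (flp_i L146176) L137036 L146176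
theorem L146180 : sm gd N12763 = N12763 := ded_34_1 (flp_i L146176) L137039 L146176
theorem L146181 : sm gf N12763 = N11754 := ded_41_1 (flp_i L137048) (flp_f L137037) L146176
theorem L146183 : sm gh N11753 = N12764 := rfl
theorem L146185 : sm ga N12764 = N12764 := ded_15_1 (flp_h L146183) L137042 L146183
theorem L146186 : sm gc N12764 = N12764 := ded_28_1 (flp_h L146183) L137043 L146183
theorem L146187 : sm gf N12764 = N11755 := ded_40_1 (flp_h L137056) (flp_f L137046) L146183
theorem L146189 : sm gh N11754 = N12765 := rfl
theorem L146191 : sm ga N12765 = N12765 := ded_15_1 (flp_h L146189) L137050 L146189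
theorem L146192 : sm gb N12765 = N11835 := ded_22_1 L145798 L145790 L146189
theorem L146194 : sm gc N12765 = N12765 := ded_28_1 (flp_h L146189) L137051 L146189
theorem L146195 : sm ge N12765 = N12478 := ded_37_1 (flp_h L143778) (flp_e L137053) L146189
theorem L146197 : sm gg N12765 = N12765 := ded_42_1 (flp_h L146189) L137055 L146189
theorem L146198 : sm gi N12765 = N11755 := ded_44_2 (flp_h L137056) (flp_i L128734) L128726 L137048 L146189
theorem L146200 : sm gd N11782 = N12765 := ded_18_0 L146192 (flp_d L137821) (flp_b L137262)
theorem L146202 : sm gd N11755 = N12766 := rfl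
theorem L146204 : sm ga N12766 = N12766 := ded_11_1 (flp_d L146202) L137058 L146202
theorem L146205 : sm gb N12766 = N11837 := ded_18_1 L145813 L145804 L146202
theorem L146207 : sm gg N12766 = N12766 := ded_32_2 (flp_d L146202) L137062 L146202
theorem L146208 : sm gi N12766 = N11782 := ded_34_2 L146200 L146198 L146202
theorem L146210 : sm ge N12766 = N11783 := ded_30_2 (flp_d L140217) L143799 (flp_d L143789) (flp_e L137060) L146202
theorem L146212 : sm gh N12766 = N11758 := ded_33_2 (flp_d L137079) (flp_h L128757) (flp_d L128738) L137056 L146202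
theorem L146214 : sm gc N11785 = N12766 := ded_17_0 L146205 L137839 L129422 (flp_c L129014) (flp_b L137286)
theorem L146216 : sm gh N11756 = N12767 := rfl
theorem L146218 : sm ga N12767 = N12767 := ded_15_1 (flp_h L146216) L137065 L146216
theorem L146219 : sm gc N12767 = N11760 := ded_28_1 (flp_h L137092) (flp_c L137066) L146216
theorem L146221 : sm gf N12767 = N12767 := ded_40_1 (flp_h L146216) L137068 L146216
theorem L146222 : sm gg N12767 = N11757 := ded_42_1 (flp_h L137071) (flp_g L137069) L146216
theorem L146224 : sm gi N12767 = N12767 := ded_44_2 (flp_h L146216) (flp_i L137063) L128748 L137063 L146216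
theorem L146225 : sm gd N11757 = N12768 := rfl
theorem L146227 : sm ga N12768 = N12768 := ded_11_1 (flp_d L146225) L137073 L146225
theorem L146228 : sm gf N12768 = N11758 := ded_31_2 (flp_d L137079) (flp_f L137076) L146225
theorem L146230 : sm gi N12768 = N12768 := ded_34_2 (flp_d L146225) L137078 L146225
theorem L146231 : sm gc N11758 = N12769 := rfl
theorem L146233 : sm ga N12769 = N12769 := ded_10_1 (flp_c L146231) L137081 L146231
theorem L146234 : sm gg N12769 = N12769 := ded_27_2 (flp_c L146231) L137082 L146231
theorem L146235 : sm gh N12769 = N11785 := ded_28_2 L146214 L146212 L146231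
theorem L146237 : sm gi N12769 = N12769 := ded_29_2 (flp_c L146231) L137083 L146231
theorem L146238 : sm gb N12769 = N11793 := ded_17_1 L137372 (flp_b L137876) L145843 L145837 L146231
theorem L146240 : sm gd N12769 = N11762 := ded_24_2 (flp_c L137110) (flp_d L128791) (flp_c L128760) L137079 L146231
theorem L146242 : sm ge N11786 = N12769 := ded_37_3 L146235 L137289 L137292
theorem L146244 : sm ge N11758 = N12770 := rfl
theorem L146246 : sm ga N12770 = N12770 := ded_12_1 (flp_e L146244) L137081 L146244
theorem L146247 : sm gb N12770 = N11838 := ded_19_1 L145845 L145837 L146244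
theorem L146249 : sm gc N12770 = N11786 := ded_25_1 L146242 (flp_c L146231) L146244
theorem L146251 : sm gg N12770 = N12770 := ded_36_2 (flp_e L146244) L137082 L146244
theorem L146252 : sm gh N12770 = N11783 := ded_37_2 (flp_e L146210) L146212 L146244
theorem L146254 : sm gi N12770 = N12770 := ded_38_2 (flp_e L146244) L137083 L146244
theorem L146255 : sm gd N12770 = N11759 := ded_30_1 (flp_e L137084) (flp_d L128766) (flp_e L128762) L137079 L146244
theorem L146257 : sm gd N11760 = N12771 := rfl
theorem L146259 : sm ga N12771 = N12771 := ded_11_1 (flp_d L146257) L137094 L146257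
theorem L146260 : sm gb N12771 = N11766 := ded_18_1 (flp_d L137139) (flp_b L137095) L146257
theorem L146262 : sm gf N12771 = N12771 := ded_31_2 (flp_d L146257) L137097 L146257
theorem L146263 : sm gg N12771 = N11761 := ded_32_2 (flp_d L137101) (flp_g L137098) L146257
theorem L146265 : sm gi N12771 = N12771 := ded_34_2 (flp_d L146257) L137100 L146257
theorem L146266 : sm gh N12771 = N12771 := ded_33_2 (flp_d L146257) (flp_h L137092) L128779 L137092 L146257
theorem L146267 : sm gc N11761 = N12772 := rfl
theorem L146269 : sm ga N12772 = N12772 := ded_10_1 (flp_c L146267) L137103 L146267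
theorem L146270 : sm gf N12772 = N11762 := ded_26_2 (flp_c L137110) (flp_f L137106) L146267
theorem L146272 : sm gh N12772 = N12772 := ded_28_2 (flp_c L146267) L137109 L146267
theorem L146273 : sm gi N12772 = N12772 := ded_29_2 (flp_c L146267) L137108 L146267
theorem L146274 : sm ge N11761 = N12773 := rfl
theorem L146276 : sm ga N12773 = N12773 := ded_12_1 (flp_e L146274) L137103 L146274
theorem L146277 : sm gb N12773 = N11768 := ded_19_1 (flp_e L137156) (flp_b L137104) L146274
theorem L146279 : sm gh N12773 = N12773 := ded_37_2 (flp_e L146274) L137109 L146274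
theorem L146280 : sm gi N12773 = N12773 := ded_38_2 (flp_e L146274) L137108 L146274
theorem L146281 : sm gf N12773 = N12773 := ded_35_2 (flp_e L146274) L137106 L128798 (flp_f L137106) L146274
theorem L146282 : sm gb N11762 = N12774 := rfl
theorem L146284 : sm gd N12774 = N11793 := ded_18_2 (flp_b L146238) L146240 L146282
theorem L146286 : sm ge N12774 = N12774 := ded_19_2 (flp_b L146282) L137113 L146282
theorem L146287 : sm gg N12774 = N12774 := ded_21_2 (flp_b L146282) L137114 L146282
theorem L146288 : sm gh N12774 = N12774 := ded_22_2 (flp_b L146282) L137115 L146282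
theorem L146289 : sm gi N12774 = N12774 := ded_23_2 (flp_b L146282) L137116 L146282
theorem L146290 : sm gc N12774 = N11769 := ded_17_2 (flp_b L137163) (flp_c L128839) (flp_b L128794) L137110 L146282
theorem L146292 : sm ga N11803 = N12774 := ded_11_3 L146284 L137370 L137492
theorem L146294 : sm gd N11763 = N12775 := rfl
theorem L146296 : sm ga N12775 = N11770 := ded_11_1 (flp_d L137169) (flp_a L137119) L146294
theorem L146298 : sm gg N12775 = N11764 := ded_32_2 (flp_d L137126) (flp_g L137123) L146294
theorem L146300 : sm gi N12775 = N12775 := ded_34_2 (flp_d L146294) L137125 L146294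
theorem L146301 : sm gc N11764 = N12776 := rfl
theorem L146303 : sm ga N12776 = N11771 := ded_10_1 (flp_c L137175) (flp_a L137128) L146301
theorem L146305 : sm gf N12776 = N11765 := ded_26_2 (flp_c L137133) (flp_f L137130) L146301
theorem L146307 : sm gi N12776 = N12776 := ded_29_2 (flp_c L146301) L137132 L146301
theorem L146308 : sm ge N11764 = N12777 := rfl
theorem L146310 : sm ga N12777 = N11772 := ded_12_1 (flp_e L137180) (flp_a L137128) L146308
theorem L146312 : sm gi N12777 = N12777 := ded_38_2 (flp_e L146308) L137132 L146308
theorem L146313 : sm gd N12777 = N11768 := ded_30_1 (flp_e L137156) (flp_d L128831) (flp_e L128812) L137126 L146308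
theorem L146315 : sm gf N12777 = N12777 := ded_35_2 (flp_e L146308) L137130 L128822 (flp_f L137130) L146308
theorem L146316 : sm gb N11765 = N12778 := rfl
theorem L146318 : sm ge N12778 = N12778 := ded_19_2 (flp_b L146316) L137137 L146316
theorem L146319 : sm gi N12778 = N12778 := ded_23_2 (flp_b L146316) L137138 L146316
theorem L146320 : sm gc N11766 = N12779 := rfl
theorem L146322 : sm ga N12779 = N11774 := ded_10_1 (flp_c L137192) (flp_a L137141) L146320
theorem L146324 : sm gf N12779 = N12779 := ded_26_2 (flp_c L146320) L137143 L146320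
theorem L146325 : sm gg N12779 = N11767 := ded_27_2 (flp_c L137148) (flp_g L137144) L146320
theorem L146327 : sm gh N12779 = N12779 := ded_28_2 (flp_c L146320) L137147 L146320
theorem L146328 : sm gi N12779 = N12779 := ded_29_2 (flp_c L146320) L137146 L146320
theorem L146329 : sm ge N11766 = N12780 := rfl
theorem L146331 : sm ga N12780 = N11775 := ded_12_1 (flp_e L137199) (flp_a L137141) L146329
theorem L146333 : sm gg N12780 = N11768 := ded_36_2 (flp_e L137156) (flp_g L137144) L146329
theorem L146335 : sm gh N12780 = N12780 := ded_37_2 (flp_e L146329) L137147 L146329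
theorem L146336 : sm gi N12780 = N12780 := ded_38_2 (flp_e L146329) L137146 L146329
theorem L146337 : sm gf N12774 = N12780 := ded_13_0 L146331 (flp_f L137495) L146292
theorem L146339 : sm gb N12780 = N12772 := ded_20_1 L146270 L146282 L146337
theorem L146341 : sm ge N12772 = N12771 := ded_19_2 L146260 L146329 L146339
theorem L146343 : sm gg N12772 = N12773 := ded_21_2 L146277 (flp_g L146333) L146339
theorem L146345 : sm gc N12771 = N12773 := ded_25_1 (flp_e L146274) L146267 L146341
theorem L146347 : sm gb N11767 = N12781 := rfl
theorem L146349 : sm gf N12781 = N11769 := ded_20_2 (flp_b L137163) (flp_f L137152) L146347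
theorem L146351 : sm gh N12781 = N12781 := ded_22_2 (flp_b L146347) L137154 L146347
theorem L146352 : sm gi N12781 = N12781 := ded_23_2 (flp_b L146347) L137155 L146347
theorem L146353 : sm gc N12781 = N12780 := ded_17_2 L146339 (flp_c L146267) L137104 L137148 L146347
theorem L146355 : sm ge N12779 = N12781 := ded_25_0 L146353 (flp_e L146329) L146320
theorem L146357 : sm ge N11767 = N12782 := rfl
theorem L146359 : sm ga N12782 = N11777 := ded_12_1 (flp_e L137213) (flp_a L137150) L146357
theorem L146361 : sm gb N12782 = N12779 := ded_19_1 L146355 (flp_b L146347) L146357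
theorem L146363 : sm gc N12782 = N11768 := ded_25_1 (flp_e L137156) L137148 L146357
theorem L146365 : sm gg N12782 = N12781 := ded_36_2 (flp_e L146355) L146325 L146357
theorem L146367 : sm gh N12782 = N12782 := ded_37_2 (flp_e L146357) L137154 L146357
theorem L146368 : sm gi N12782 = N12782 := ded_38_2 (flp_e L146357) L137155 L146357
theorem L146369 : sm gf N12782 = N12782 := ded_35_2 (flp_e L146357) L137152 L128843 (flp_f L137152) L146357
theorem L146370 : sm ga N11769 = N12783 := rfl
theorem L146372 : sm gc N12783 = N11803 := ded_10_2 L146292 L146290 L146370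
theorem L146374 : sm gd N12783 = N11909 := ded_11_2 L145984 L145974 L146370
theorem L146376 : sm ge N12783 = N12783 := ded_12_2 (flp_a L146370) L137165 L146370
theorem L146377 : sm gg N12783 = N12783 := ded_14_2 (flp_a L146370) L137166 L146370
theorem L146378 : sm gh N12783 = N12783 := ded_15_2 (flp_a L146370) L137167 L146370
theorem L146379 : sm gi N12783 = N12783 := ded_16_2 (flp_a L146370) L137168 L146370
theorem L146380 : sm gb N12783 = N11778 := ded_9_2 (flp_a L137220) (flp_b L128885) (flp_a L128841) L137163 L146370
theorem L146382 : sm ga N11773 = N12784 := rfl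
theorem L146384 : sm gc N12784 = N12784 := ded_10_2 (flp_a L146382) L137191 L146382
theorem L146385 : sm ge N12784 = N12784 := ded_12_2 (flp_a L146382) L137189 L146382
theorem L146386 : sm gi N12784 = N12784 := ded_16_2 (flp_a L146382) L137190 L146382
theorem L146387 : sm ge N11774 = N12785 := rfl
theorem L146389 : sm ga N12785 = N12781 := ded_12_1 (flp_e L146355) L146322 L146387
theorem L146391 : sm gc N12785 = N11775 := ded_25_1 (flp_e L137199) L137192 L146387
theorem L146393 : sm gg N12785 = N11777 := ded_36_2 (flp_e L137213) (flp_g L137195) L146387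
theorem L146395 : sm gh N12785 = N12785 := ded_37_2 (flp_e L146387) L137197 L146387
theorem L146396 : sm gi N12785 = N12785 := ded_38_2 (flp_e L146387) L137198 L146387
theorem L146397 : sm gf N12783 = N12785 := ded_45_3 (flp_e L146387) L140409 L140399 L131524 L123802 L123803 (flp_h L123795) L66385 L48560 L48558 L35620 (flp_b L35771) (flp_c L48735) (flp_d L66664) (flp_i L66660) L48729 (flp_d L38400) L28125 L20643 L28127 L28129 L20953 (flp_d L20950) L20954 L20960 (flp_d L21169) (flp_f L28861) (flp_e L39418) L118163 L52900 L39395 L29285 L39946 L54495 L74526 (flp_f L128008) (flp_e L129126) L129125 L129122 L129123 L122409 L124748 L132751 (flp_d L137533) L137537 L137535 (flp_d L138429) L138425 L129772 L122359 (flp_i L64851) (flp_h L47453) L47433 L47437 L35915 (flp_d L28302) L20765 L15491 L11398 (flp_i L11511) L15674 (flp_d L120286) L20565 L20561 L120286 L15676 L11543 L115330 L15137 L15135 (flp_d L15200) L15204 (flp_e L120514) L11343 (flp_b L15392) (flp_c L20946) L28558 L119714 L52833 (flp_d L119547) L39424 (flp_e L39443) L53870 (flp_b L72500) L127107 L127111 (flp_i L132772) (flp_h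 L138566) (flp_d L146374)
theorem L146399 : sm ga N11776 = N12786 := rfl
theorem L146401 : sm gc N12786 = N12786 := ded_10_2 (flp_a L146399) L137212 L146399
theorem L146402 : sm gd N12786 = N11813 := ded_11_2 (flp_a L138679) (flp_d L138692) L146399
theorem L146404 : sm ge N12786 = N12096 := ded_12_2 L140413 (flp_e L138617) L146399
theorem L146406 : sm gf N12786 = N11778 := ded_13_2 (flp_a L137220) (flp_f L137208) L146399
theorem L146408 : sm gg N12786 = N11816 := ded_14_2 (flp_a L140413) L140418 L146399
theorem L146410 : sm gh N12786 = N12786 := ded_15_2 (flp_a L146399) L137210 L146399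
theorem L146411 : sm gi N12786 = N12786 := ded_16_2 (flp_a L146399) L137211 L146399
theorem L146412 : sm gb N12786 = N12785 := ded_9_2 L146389 (flp_b L146347) L137150 L137206 L146399
theorem L146414 : sm gf N11780 = N12787 := rfl
theorem L146416 : sm ga N12787 = N12787 := ded_13_1 (flp_f L146414) L137242 L146414
theorem L146417 : sm gb N12787 = N11788 := ded_20_1 (flp_f L137313) (flp_b L137243) L146414
theorem L146419 : sm gd N12787 = N12611 := ded_31_1 L144992 (flp_d L137248) L146414
theorem L146421 : sm gh N12787 = N12787 := ded_40_2 (flp_f L146414) L137247 L146414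
theorem L146422 : sm ge N12787 = N11784 := ded_35_1 (flp_f L137276) (flp_e L128927) (flp_f L128909) L137240 L146414
theorem L146424 : sm gg N12787 = N12612 := ded_39_2 L145001 L135992 (flp_f L136087) (flp_g L137245) L146414
theorem L146426 : sm gi N11780 = N12788 := rfl
theorem L146428 : sm ga N12788 = N12788 := ded_16_1 (flp_i L146426) L137242 L146426
theorem L146429 : sm gb N12788 = N11789 := ded_23_1 (flp_i L137326) (flp_b L137243) L146426
theorem L146431 : sm gd N12788 = N12471 := ded_34_1 L143732 (flp_d L137248) L146426
theorem L146433 : sm ge N12788 = N11781 := ded_38_1 (flp_i L137250) L137240 L146426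
theorem L146435 : sm gg N12788 = N12472 := ded_43_1 L143741 (flp_g L137245) L146426
theorem L146437 : sm gh N11781 = N12789 := rfl
theorem L146439 : sm ga N12789 = N12789 := ded_15_1 (flp_h L146437) L137252 L146437
theorem L146440 : sm gb N12789 = N11790 := ded_22_1 (flp_h L137338) (flp_b L137253) L146437
theorem L146442 : sm gf N12789 = N11786 := ded_40_1 (flp_h L137292) (flp_f L137257) L146437
theorem L146444 : sm gd N12789 = N12789 := ded_33_1 (flp_h L146437) L137255 L128919 (flp_d L137255) L146437
theorem L146445 : sm gi N12789 = N12789 := ded_44_2 (flp_h L146437) (flp_i L137250) L128911 L137250 L146437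
theorem L146446 : sm gf N11782 = N12790 := rfl
theorem L146448 : sm ga N12790 = N12790 := ded_13_1 (flp_f L146446) L137261 L146446
theorem L146449 : sm gb N12790 = N11836 := ded_20_1 (flp_f L137828) (flp_b L137262) L146446
theorem L146451 : sm gc N12790 = N11784 := ded_26_1 (flp_f L137276) (flp_c L137264) L146446
theorem L146453 : sm gh N12790 = N12790 := ded_40_2 (flp_f L146446) L137267 L146446
theorem L146454 : sm gg N11784 = N12791 := rfl
theorem L146456 : sm ga N12791 = N12791 := ded_14_1 (flp_g L146454) L137278 L146454
theorem L146457 : sm gb N12791 = N11791 := ded_21_1 (flp_g L137348) (flp_b L137279) L146454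
theorem L146459 : sm gd N12791 = N12791 := ded_32_1 (flp_g L146454) L137281 L146454
theorem L146460 : sm ge N12791 = N12612 := ded_36_1 (flp_g L146424) L146422 L146454
theorem L146462 : sm gh N12791 = N12791 := ded_42_2 (flp_g L146454) L137282 L146454
theorem L146463 : sm gf N12791 = N12791 := ded_39_1 (flp_g L146454) (flp_f L137276) L128932 L137276 L146454
theorem L146464 : sm gi N11784 = N12792 := rfl
theorem L146466 : sm ga N12792 = N12792 := ded_16_1 (flp_i L146464) L137278 L146464
theorem L146467 : sm gb N12792 = N11792 := ded_23_1 (flp_i L137359) (flp_b L137279) L146464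
theorem L146469 : sm gd N12792 = N12792 := ded_34_1 (flp_i L146464) L137281 L146464
theorem L146470 : sm gf N12792 = N11785 := ded_41_1 (flp_i L137283) L137276 L146464
theorem L146472 : sm gh N11787 = N12793 := rfl
theorem L146474 : sm ga N12793 = N11798 := ded_15_1 (flp_h L137424) (flp_a L137302) L146472
theorem L146476 : sm gc N12793 = N11860 := ded_28_1 (flp_h L138048) (flp_c L137304) L146472
theorem L146478 : sm ge N12793 = N12492 := ded_37_1 L143921 (flp_e L137308) L146472
theorem L146480 : sm gf N12793 = N12793 := ded_40_1 (flp_h L146472) L137310 L146472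
theorem L146481 : sm gg N12793 = N11790 := ded_42_1 (flp_h L137338) (flp_g L137311) L146472
theorem L146483 : sm gd N12793 = N12793 := ded_33_1 (flp_h L146472) L137306 L128980 (flp_d L137306) L146472
theorem L146484 : sm gi N12793 = N12793 := ded_44_2 (flp_h L146472) (flp_i L137300) L128968 L137300 L146472
theorem L146485 : sm gi N11788 = N12794 := rfl
theorem L146487 : sm ga N12794 = N11799 := ded_16_1 (flp_i L137436) (flp_a L137315) L146485
theorem L146489 : sm gc N12794 = N11862 := ded_29_1 (flp_i L138069) (flp_c L137317) L146485
theorem L146491 : sm gd N12794 = N12494 := ded_34_1 L143942 (flp_d L137319) L146485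
theorem L146493 : sm ge N12794 = N11792 := ded_38_1 (flp_i L137359) (flp_e L137322) L146485
theorem L146495 : sm gf N12794 = N11789 := ded_41_1 (flp_i L137326) L137313 L146485
theorem L146497 : sm gg N12794 = N12495 := ded_43_1 L143950 (flp_g L137324) L146485
theorem L146499 : sm gh N12775 = N12794 := ded_15_0 L146487 (flp_h L137449) (flp_a L146296)
theorem L146501 : sm gh N11789 = N12795 := rfl
theorem L146503 : sm ga N12795 = N11800 := ded_15_1 (flp_h L137451) (flp_a L137328) L146501
theorem L146505 : sm gc N12795 = N11863 := ded_28_1 (flp_h L138077) (flp_c L137330) L146501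
theorem L146507 : sm ge N12795 = N11790 := ded_37_1 (flp_h L137338) (flp_e L137334) L146501
theorem L146509 : sm gf N12795 = N12775 := ded_40_1 L146499 L146495 L146501
theorem L146511 : sm gg N12795 = N12492 := ded_42_1 L143921 (flp_g L137336) L146501
theorem L146513 : sm gd N12795 = N12491 := ded_33_1 (flp_h L143904) L134641 L134697 (flp_d L137332) L146501
theorem L146515 : sm gi N12795 = N12795 := ded_44_2 (flp_h L146501) (flp_i L137326) L128989 L137326 L146501
theorem L146516 : sm gi N11791 = N12796 := rfl
theorem L146518 : sm ga N12796 = N11801 := ded_16_1 (flp_i L137465) (flp_a L137350) L146516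
theorem L146520 : sm gc N12796 = N11864 := ded_29_1 (flp_i L138084) (flp_c L137352) L146516
theorem L146522 : sm gd N12796 = N12796 := ded_34_1 (flp_i L146516) L137354 L146516
theorem L146523 : sm ge N12796 = N12495 := ded_38_1 L143950 (flp_e L137355) L146516
theorem L146525 : sm gf N12796 = N12796 := ded_41_1 (flp_i L146516) L137358 L146516
theorem L146526 : sm gg N12796 = N11792 := ded_43_1 (flp_i L137359) L137348 L146516
theorem L146528 : sm gh N12777 = N12796 := ded_15_0 L146518 (flp_h L137476) (flp_a L146310)
theorem L146530 : sm gh N11792 = N12797 := rfl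
theorem L146532 : sm ga N12797 = N11802 := ded_15_1 (flp_h L137478) (flp_a L137361) L146530
theorem L146534 : sm gc N12797 = N11865 := ded_28_1 (flp_h L138093) (flp_c L137363) L146530
theorem L146536 : sm ge N12797 = N12775 := ded_37_1 L146499 L146493 L146530
theorem L146538 : sm gf N12797 = N11793 := ded_40_1 (flp_h L137368) (flp_f L137366) L146530
theorem L146540 : sm gg N12797 = N12777 := ded_42_1 L146528 L146526 L146530
theorem L146542 : sm gi N12797 = N12797 := ded_44_2 (flp_h L146530) (flp_i L137359) L129009 L137359 L146530
theorem L146543 : sm gd N12780 = N12797 := ded_11_0 L146532 (flp_d L137490) (flp_a L146331)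
theorem L146545 : sm gh N11794 = N12798 := rfl
theorem L146547 : sm ga N12798 = N11804 := ded_15_1 (flp_h L137501) (flp_a L137380) L146545
theorem L146549 : sm gc N12798 = N12003 := ded_28_1 L139423 (flp_c L137382) L146545
theorem L146551 : sm ge N12798 = N11872 := ded_37_1 (flp_h L138162) (flp_e L137386) L146545
theorem L146553 : sm gf N12798 = N12004 := ded_40_1 L139432 (flp_f L137388) L146545
theorem L146555 : sm gg N12798 = N11797 := ded_42_1 (flp_h L137415) (flp_g L137390) L146545
theorem L146557 : sm gd N12798 = N12798 := ded_33_1 (flp_h L146545) L137384 L129054 (flp_d L137384) L146545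
theorem L146558 : sm gi N12798 = N12798 := ded_44_2 (flp_h L146545) (flp_i L137378) L129041 L137378 L146545
theorem L146559 : sm ga N11795 = N12799 := rfl
theorem L146561 : sm gd N12799 = N12535 := ded_11_2 L144336 (flp_d L137394) L146559
theorem L146563 : sm ge N12799 = N11873 := ded_12_2 (flp_a L138171) (flp_e L137396) L146559
theorem L146565 : sm gf N12799 = N12799 := ded_13_2 (flp_a L146559) L137398 L146559
theorem L146566 : sm gg N12799 = N12536 := ded_14_2 L144345 (flp_g L137399) L146559
theorem L146568 : sm gh N12799 = N12799 := ded_15_2 (flp_a L146559) L137401 L146559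
theorem L146569 : sm gb N12799 = N11805 := ded_9_2 (flp_a L137515) (flp_b L129161) (flp_a L129057) L137392 L146559
theorem L146571 : sm gi N11795 = N12800 := rfl
theorem L146573 : sm gb N12800 = N11796 := ded_23_1 (flp_i L137402) L137392 L146571
theorem L146575 : sm gd N12800 = N12361 := ded_34_1 L142778 (flp_d L137394) L146571
theorem L146577 : sm ge N12800 = N11874 := ded_38_1 (flp_i L138178) (flp_e L137396) L146571
theorem L146579 : sm gf N12800 = N12800 := ded_41_1 (flp_i L146571) L137398 L146571
theorem L146580 : sm gg N12800 = N12362 := ded_43_1 L142786 (flp_g L137399) L146571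
theorem L146582 : sm gh N11796 = N12801 := rfl
theorem L146584 : sm ga N12801 = N11807 := ded_15_1 (flp_h L137540) (flp_a L137404) L146582
theorem L146586 : sm gc N12801 = N11797 := ded_28_1 (flp_h L137415) (flp_c L137406) L146582
theorem L146588 : sm ge N12801 = N11875 := ded_37_1 (flp_h L138184) (flp_e L137410) L146582
theorem L146590 : sm gf N12801 = N12801 := ded_40_1 (flp_h L146582) L137412 L146582
theorem L146591 : sm gg N12801 = N12003 := ded_42_1 L139423 (flp_g L137413) L146582
theorem L146593 : sm gd N12801 = N12002 := ded_33_1 (flp_h L139407) L130453 L133792 (flp_d L137408) L146582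
theorem L146595 : sm gi N12801 = N12801 := ded_44_2 (flp_h L146582) (flp_i L137402) L129064 L137402 L146582
theorem L146596 : sm gi N11805 = N12802 := rfl
theorem L146598 : sm ga N12802 = N11806 := ded_16_1 (flp_i L137527) L137515 L146596
theorem L146600 : sm gc N12802 = N11814 := ded_29_1 (flp_i L137625) (flp_c L137517) L146596
theorem L146602 : sm gd N12802 = N12215 := ded_34_1 L141547 (flp_d L137519) L146596
theorem L146604 : sm ge N12802 = N11916 := ded_38_1 (flp_i L138653) (flp_e L137521) L146596
theorem L146606 : sm gf N12802 = N12802 := ded_41_1 (flp_i L146596) L137523 L146596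
theorem L146607 : sm gg N12802 = N12216 := ded_43_1 L141555 (flp_g L137524) L146596
theorem L146609 : sm gh N11806 = N12803 := rfl
theorem L146611 : sm gb N12803 = N11807 := ded_22_1 (flp_h L137540) (flp_b L137529) L146609
theorem L146613 : sm gc N12803 = N11815 := ded_28_1 (flp_h L137633) (flp_c L137531) L146609
theorem L146615 : sm ge N12803 = N11917 := ded_37_1 (flp_h L138661) (flp_e L137535) L146609
theorem L146617 : sm gf N12803 = N12803 := ded_40_1 (flp_h L146609) L137537 L146609
theorem L146618 : sm gg N12803 = N11908 := ded_42_1 L138559 (flp_g L137538) L146609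
theorem L146620 : sm gd N12803 = N11907 := ded_33_1 (flp_h L138540) L129854 L132751 (flp_d L137533) L146609
theorem L146622 : sm gi N12803 = N12803 := ded_44_2 (flp_h L146609) (flp_i L137527) L129170 L137527 L146609
theorem L146623 : sm gi N11811 = N12804 := rfl
theorem L146625 : sm ga N12804 = N11812 := ded_16_1 (flp_i L137603) L137591 L146623
theorem L146627 : sm gc N12804 = N12216 := ded_29_1 L141555 (flp_c L137593) L146623
theorem L146629 : sm gd N12804 = N12804 := ded_34_1 (flp_i L146623) L137595 L146623
theorem L146630 : sm ge N12804 = N11920 := ded_38_1 (flp_i L138694) (flp_e L137596) L146623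
theorem L146632 : sm gf N12804 = N12217 := ded_41_1 L141562 (flp_f L137598) L146623
theorem L146634 : sm gg N12804 = N11814 := ded_43_1 (flp_i L137625) (flp_g L137600) L146623
theorem L146636 : sm gh N11812 = N12805 := rfl
theorem L146638 : sm gb N12805 = N11813 := ded_22_1 (flp_h L137616) (flp_b L137605) L146636
theorem L146640 : sm gc N12805 = N11908 := ded_28_1 L138559 (flp_c L137607) L146636
theorem L146642 : sm ge N12805 = N11921 := ded_37_1 (flp_h L138706) (flp_e L137610) L146636
theorem L146644 : sm gf N12805 = N11909 := ded_40_1 L138566 (flp_f L137612) L146636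
theorem L146646 : sm gg N12805 = N11815 := ded_42_1 (flp_h L137633) (flp_g L137614) L146636
theorem L146648 : sm gi N12805 = N12805 := ded_44_2 (flp_h L146636) (flp_i L137603) L129235 L137603 L146636
theorem L146649 : sm gd N12785 = N12805 := ded_18_0 L146638 (flp_d L146402) L146412
theorem L146651 : sm gh N11814 = N12806 := rfl
theorem L146653 : sm ga N12806 = N11815 := ded_15_1 (flp_h L137633) (flp_a L137627) L146651
theorem L146655 : sm ge N12806 = N11922 := ded_37_1 (flp_h L138717) (flp_e L137630) L146651
theorem L146657 : sm gf N12806 = N12806 := ded_40_1 (flp_h L146651) L137632 L146651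
theorem L146658 : sm gi N12806 = N12806 := ded_44_2 (flp_h L146651) (flp_i L137625) L129261 L137625 L146651
theorem L146659 : sm gd N12782 = N12806 := ded_11_0 L146653 (flp_d L138613) (flp_a L146359)
theorem L146661 : sm gd N11817 = N12807 := rfl
theorem L146663 : sm ga N12807 = N11925 := ded_11_1 (flp_d L138743) (flp_a L137649) L146661
theorem L146665 : sm gb N12807 = N12807 := ded_18_1 (flp_d L146661) L137651 L146661
theorem L146666 : sm gf N12807 = N12143 := ded_31_2 (flp_d L140907) (flp_f L137655) L146661
theorem L146668 : sm gi N11817 = N12808 := rfl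
theorem L146670 : sm ga N12808 = N11926 := ded_16_1 (flp_i L138749) (flp_a L137649) L146668
theorem L146672 : sm gb N12808 = N12808 := ded_23_1 (flp_i L146668) L137651 L146668
theorem L146673 : sm gc N12808 = N11821 := ded_29_1 (flp_i L137690) (flp_c L137652) L146668
theorem L146675 : sm ge N12808 = N12808 := ded_38_1 (flp_i L146668) L137654 L146668
theorem L146676 : sm gf N12808 = N12144 := ded_41_1 (flp_i L140912) (flp_f L137655) L146668
theorem L146678 : sm gh N12808 = N12630 := ded_44_1 (flp_i L145154) (flp_h L136224) (flp_i L129285) L137647 L146668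
theorem L146680 : sm gh N11818 = N12809 := rfl
theorem L146682 : sm ga N12809 = N11928 := ded_15_1 (flp_h L138772) (flp_a L137659) L146680
theorem L146684 : sm gb N12809 = N11842 := ded_22_1 (flp_h L137882) (flp_b L137661) L146680
theorem L146686 : sm ge N12809 = N12549 := ded_37_1 (flp_h L144478) L137669 L146680
theorem L146688 : sm gf N12809 = N11819 := ded_40_1 (flp_h L137671) L137657 L146680
theorem L146690 : sm gg N12809 = N12145 := ded_42_1 (flp_h L140921) (flp_g L137667) L146680
theorem L146692 : sm gd N11819 = N12810 := rfl
theorem L146694 : sm ga N12810 = N11929 := ded_11_1 (flp_d L138780) (flp_a L137673) L146692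
theorem L146696 : sm gb N12810 = N11843 := ded_18_1 (flp_d L137893) (flp_b L137675) L146692
theorem L146698 : sm gg N12810 = N11820 := ded_32_2 (flp_d L137680) (flp_g L137678) L146692
theorem L146700 : sm gh N12810 = N11823 := ded_33_2 (flp_d L137712) (flp_h L129319) (flp_d L129294) L137671 L146692
theorem L146702 : sm gi N11819 = N12811 := rfl
theorem L146704 : sm ga N12811 = N11930 := ded_16_1 (flp_i L138788) (flp_a L137673) L146702
theorem L146706 : sm gb N12811 = N11844 := ded_23_1 (flp_i L137901) (flp_b L137675) L146702
theorem L146708 : sm ge N12811 = N12811 := ded_38_1 (flp_i L146702) L137677 L146702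
theorem L146709 : sm gg N12811 = N11821 := ded_43_1 (flp_i L137690) (flp_g L137678) L146702
theorem L146711 : sm gh N12811 = N12434 := ded_44_1 (flp_i L143393) L134208 (flp_i L129297) L137671 L146702
theorem L146713 : sm gc N11820 = N12812 := rfl
theorem L146715 : sm ga N12812 = N11931 := ded_10_1 (flp_c L138797) (flp_a L137682) L146713
theorem L146717 : sm gf N12812 = N12148 := ded_26_2 (flp_c L140955) (flp_f L137686) L146713
theorem L146719 : sm gh N12812 = N11825 := ded_28_2 (flp_c L137732) (flp_h L137688) L146713
theorem L146721 : sm ge N11820 = N12813 := rfl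
theorem L146723 : sm ga N12813 = N11932 := ded_12_1 (flp_e L138803) (flp_a L137682) L146721
theorem L146725 : sm gb N12813 = N11846 := ded_19_1 (flp_e L137920) (flp_b L137684) L146721
theorem L146727 : sm gh N12813 = N11826 := ded_37_2 (flp_e L137738) (flp_h L137688) L146721
theorem L146729 : sm gd N12813 = N12813 := ded_30_1 (flp_e L146721) (flp_d L137680) L129305 L137680 L146721
theorem L146730 : sm gi N11820 = N12814 := rfl
theorem L146732 : sm ga N12814 = N11933 := ded_16_1 (flp_i L138810) (flp_a L137682) L146730
theorem L146734 : sm gb N12814 = N11847 := ded_23_1 (flp_i L137927) (flp_b L137684) L146730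
theorem L146736 : sm gd N12814 = N11821 := ded_34_1 (flp_i L137690) L137680 L146730
theorem L146738 : sm gf N12814 = N12150 := ded_41_1 (flp_i L140973) (flp_f L137686) L146730
theorem L146740 : sm gd N11822 = N12815 := rfl
theorem L146742 : sm ga N12815 = N11934 := ded_11_1 (flp_d L138818) (flp_a L137703) L146740
theorem L146744 : sm gb N12815 = N11848 := ded_18_1 (flp_d L137935) (flp_b L137705) L146740
theorem L146746 : sm gf N12815 = N11823 := ded_31_2 (flp_d L137712) (flp_f L137708) L146740
theorem L146748 : sm gg N12815 = N12151 := ded_32_2 (flp_d L140981) (flp_g L137710) L146740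
theorem L146750 : sm gi N11822 = N12816 := rfl
theorem L146752 : sm ga N12816 = N11935 := ded_16_1 (flp_i L138826) (flp_a L137703) L146750
theorem L146754 : sm gb N12816 = N11849 := ded_23_1 (flp_i L137943) (flp_b L137705) L146750
theorem L146756 : sm ge N12816 = N12816 := ded_38_1 (flp_i L146750) L137707 L146750
theorem L146757 : sm gf N12816 = N11824 := ded_41_1 (flp_i L137720) (flp_f L137708) L146750
theorem L146759 : sm gg N12816 = N12152 := ded_43_1 (flp_i L140989) (flp_g L137710) L146750
theorem L146761 : sm gh N12816 = N12007 := ded_44_1 (flp_i L139462) L130505 (flp_i L129314) L137701 L146750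
theorem L146763 : sm gc N11823 = N12817 := rfl
theorem L146765 : sm ga N12817 = N11936 := ded_10_1 (flp_c L138837) (flp_a L137714) L146763
theorem L146767 : sm gg N12817 = N11825 := ded_27_2 (flp_c L137732) (flp_g L137718) L146763
theorem L146769 : sm ge N11823 = N12818 := rfl
theorem L146771 : sm ga N12818 = N11937 := ded_12_1 (flp_e L138841) (flp_a L137714) L146769
theorem L146773 : sm gb N12818 = N11851 := ded_19_1 (flp_e L137966) (flp_b L137716) L146769
theorem L146775 : sm gg N12818 = N11826 := ded_36_2 (flp_e L137738) (flp_g L137718) L146769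
theorem L146777 : sm gd N12818 = N11828 := ded_30_1 (flp_e L137756) (flp_d L129349) (flp_e L129325) L137712 L146769
theorem L146779 : sm gf N12590 = N12818 := ded_20_0 L146773 (flp_f L137976) L144804
theorem L146781 : sm gi N11823 = N12819 := rfl
theorem L146783 : sm ga N12819 = N11938 := ded_16_1 (flp_i L138849) (flp_a L137714) L146781
theorem L146785 : sm gb N12819 = N11852 := ded_23_1 (flp_i L137978) (flp_b L137716) L146781
theorem L146787 : sm gd N12819 = N11824 := ded_34_1 (flp_i L137720) L137712 L146781
theorem L146789 : sm gg N12819 = N11827 := ded_43_1 (flp_i L137746) (flp_g L137718) L146781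
theorem L146791 : sm gb N11825 = N12820 := rfl
theorem L146793 : sm gf N12820 = N12156 := ded_20_2 (flp_b L141028) (flp_f L137736) L146791
theorem L146795 : sm gc N12820 = N11853 := ded_17_2 (flp_b L137986) (flp_c L129507) (flp_b L129333) L137732 L146791
theorem L146797 : sm ge N11825 = N12821 := rfl
theorem L146799 : sm ga N12821 = N11940 := ded_12_1 (flp_e L138863) (flp_a L137734) L146797
theorem L146801 : sm gc N12821 = N11826 := ded_25_1 (flp_e L137738) L137732 L146797
theorem L146803 : sm gi N11825 = N12822 := rfl
theorem L146805 : sm ga N12822 = N11941 := ded_16_1 (flp_i L138867) (flp_a L137734) L146803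
theorem L146807 : sm gc N12822 = N11827 := ded_29_1 (flp_i L137746) L137732 L146803
theorem L146809 : sm gf N12822 = N12158 := ded_41_1 (flp_i L141038) (flp_f L137736) L146803
theorem L146811 : sm gf N11826 = N12823 := rfl
theorem L146813 : sm ga N12823 = N11942 := ded_13_1 (flp_f L138873) (flp_a L137740) L146811
theorem L146815 : sm gb N12823 = N11856 := ded_20_1 (flp_f L138012) (flp_b L137742) L146811
theorem L146817 : sm gd N12823 = N11832 := ded_31_1 (flp_f L137793) (flp_d L137744) L146811
theorem L146819 : sm ge N12823 = N12159 := ded_35_1 (flp_f L141044) (flp_e L132077) (flp_f L129335) L137738 L146811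
theorem L146821 : sm gi N11826 = N12824 := rfl
theorem L146823 : sm ga N12824 = N11943 := ded_16_1 (flp_i L138881) (flp_a L137740) L146821
theorem L146825 : sm gb N12824 = N11857 := ded_23_1 (flp_i L138020) (flp_b L137742) L146821
theorem L146827 : sm gd N12824 = N11833 := ded_34_1 (flp_i L137802) (flp_d L137744) L146821
theorem L146829 : sm ge N12824 = N11827 := ded_38_1 (flp_i L137746) L137738 L146821
theorem L146831 : sm gh N11827 = N12825 := rfl
theorem L146833 : sm ga N12825 = N11944 := ded_15_1 (flp_h L138889) (flp_a L137748) L146831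
theorem L146835 : sm gb N12825 = N11858 := ded_22_1 (flp_h L138028) (flp_b L137750) L146831
theorem L146837 : sm gf N12825 = N12161 := ded_40_1 (flp_h L141062) (flp_f L137754) L146831
theorem L146839 : sm gd N12825 = N12639 := ded_33_1 (flp_h L145223) L136267 (flp_h L129347) (flp_d L137752) L146831
theorem L146841 : sm gi N11828 = N12826 := rfl
theorem L146843 : sm ga N12826 = N11948 := ded_16_1 (flp_i L138921) (flp_a L137758) L146841
theorem L146845 : sm gb N12826 = N11859 := ded_23_1 (flp_i L138036) (flp_b L137760) L146841
theorem L146847 : sm ge N12826 = N11829 := ded_38_1 (flp_i L137767) L137756 L146841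
theorem L146849 : sm gf N12826 = N12497 := ded_41_1 L143968 L137765 L146841
theorem L146851 : sm gg N12826 = N11833 := ded_43_1 (flp_i L137802) (flp_g L137762) L146841
theorem L146853 : sm gh N11829 = N12827 := rfl
theorem L146855 : sm ga N12827 = N11949 := ded_15_1 (flp_h L138929) (flp_a L137769) L146853
theorem L146857 : sm gb N12827 = N11860 := ded_22_1 (flp_h L138048) (flp_b L137771) L146853
theorem L146859 : sm gf N12827 = N12827 := ded_40_1 (flp_h L146853) L137775 L146853
theorem L146860 : sm gg N12827 = N11834 := ded_42_1 (flp_h L137810) (flp_g L137776) L146853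
theorem L146862 : sm gd N12827 = N12484 := ded_33_1 (flp_h L143842) L134580 (flp_h L129368) (flp_d L137773) L146853
theorem L146864 : sm gi N12827 = N12827 := ded_44_2 (flp_h L146853) (flp_i L137767) L129358 L137767 L146853
theorem L146865 : sm gd N11830 = N12828 := rfl
theorem L146867 : sm ga N12828 = N11950 := ded_11_1 (flp_d L138939) (flp_a L137780) L146865
theorem L146869 : sm gf N11830 = N12829 := rfl
theorem L146871 : sm ga N12829 = N11951 := ded_13_1 (flp_f L138942) (flp_a L137780) L146869
theorem L146873 : sm gc N12829 = N11832 := ded_26_1 (flp_f L137793) (flp_c L137782) L146869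
theorem L146875 : sm gh N12829 = N12829 := ded_40_2 (flp_f L146869) L137784 L146869
theorem L146876 : sm ge N12829 = N11836 := ded_35_1 (flp_f L137828) (flp_e L129394) (flp_f L129374) L137778 L146869
theorem L146878 : sm gi N11830 = N12830 := rfl
theorem L146880 : sm ga N12830 = N11952 := ded_16_1 (flp_i L138950) (flp_a L137780) L146878
theorem L146882 : sm gc N12830 = N11833 := ded_29_1 (flp_i L137802) (flp_c L137782) L146878
theorem L146884 : sm ge N12830 = N11831 := ded_38_1 (flp_i L137785) L137778 L146878
theorem L146886 : sm gh N11831 = N12831 := rfl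
theorem L146888 : sm ga N12831 = N11953 := ded_15_1 (flp_h L138957) (flp_a L137787) L146886
theorem L146890 : sm gc N12831 = N11834 := ded_28_1 (flp_h L137810) (flp_c L137789) L146886
theorem L146892 : sm gf N12831 = N11838 := ded_40_1 (flp_h L137844) (flp_f L137791) L146886
theorem L146894 : sm gi N12831 = N12831 := ded_44_2 (flp_h L146886) (flp_i L137785) L129376 L137785 L146886
theorem L146895 : sm gg N11832 = N12832 := rfl
theorem L146897 : sm ga N12832 = N11954 := ded_14_1 (flp_g L138965) (flp_a L137795) L146895
theorem L146899 : sm gb N12832 = N11861 := ded_21_1 (flp_g L138058) (flp_b L137797) L146895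
theorem L146901 : sm ge N12832 = N11839 := ded_36_1 (flp_g L137852) (flp_e L137800) L146895
theorem L146903 : sm gh N12832 = N12832 := ded_42_2 (flp_g L146895) L137799 L146895
theorem L146904 : sm gf N12832 = N12628 := ded_39_1 L145144 L137765 L137762 L137793 L146895
theorem L146906 : sm gi N11832 = N12833 := rfl
theorem L146908 : sm ga N12833 = N11955 := ded_16_1 (flp_i L138972) (flp_a L137795) L146906
theorem L146910 : sm gb N12833 = N11862 := ded_23_1 (flp_i L138069) (flp_b L137797) L146906
theorem L146912 : sm ge N12833 = N11840 := ded_38_1 (flp_i L137862) (flp_e L137800) L146906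
theorem L146914 : sm gf N12833 = N11833 := ded_41_1 (flp_i L137802) L137793 L146906
theorem L146916 : sm gh N11833 = N12834 := rfl
theorem L146918 : sm ga N12834 = N11956 := ded_15_1 (flp_h L138980) (flp_a L137804) L146916
theorem L146920 : sm gb N12834 = N11863 := ded_22_1 (flp_h L138077) (flp_b L137806) L146916
theorem L146922 : sm ge N12834 = N11834 := ded_37_1 (flp_h L137810) (flp_e L137808) L146916
theorem L146924 : sm gi N12834 = N12834 := ded_44_2 (flp_h L146916) (flp_i L137802) L129383 L137802 L146916
theorem L146925 : sm gf N11835 = N12835 := rfl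
theorem L146927 : sm ga N12835 = N11957 := ded_13_1 (flp_f L138987) (flp_a L137823) L146925
theorem L146929 : sm gc N12835 = N12173 := ded_26_1 (flp_f L141182) (flp_c L137826) L146925
theorem L146931 : sm gd N12835 = N11836 := ded_31_1 (flp_f L137828) L137821 L146925
theorem L146933 : sm gg N11836 = N12836 := rfl
theorem L146935 : sm ga N12836 = N11960 := ded_14_1 (flp_g L139009) (flp_a L137830) L146933
theorem L146937 : sm gc N12836 = N11839 := ded_27_1 (flp_g L137852) (flp_c L137832) L146933
theorem L146939 : sm gh N12836 = N12836 := ded_42_2 (flp_g L146933) L137834 L146933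
theorem L146940 : sm gf N12836 = N12836 := ded_39_1 (flp_g L146933) (flp_f L137828) L129400 L137828 L146933
theorem L146941 : sm gi N11836 = N12837 := rfl
theorem L146943 : sm ga N12837 = N11961 := ded_16_1 (flp_i L139016) (flp_a L137830) L146941
theorem L146945 : sm gc N12837 = N11840 := ded_29_1 (flp_i L137862) (flp_c L137832) L146941
theorem L146947 : sm gf N12837 = N11837 := ded_41_1 (flp_i L137835) L137828 L146941
theorem L146949 : sm gi N11839 = N12838 := rfl
theorem L146951 : sm ga N12838 = N11964 := ded_16_1 (flp_i L139039) (flp_a L137854) L146949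
theorem L146953 : sm gb N12838 = N11864 := ded_23_1 (flp_i L138084) (flp_b L137856) L146949
theorem L146955 : sm gd N12838 = N12180 := ded_34_1 (flp_i L141244) (flp_d L137858) L146949
theorem L146957 : sm gf N12838 = N12838 := ded_41_1 (flp_i L146949) L137861 L146949
theorem L146958 : sm gg N12838 = N11840 := ded_43_1 (flp_i L137862) L137852 L146949
theorem L146960 : sm gh N11840 = N12839 := rfl
theorem L146962 : sm ga N12839 = N11965 := ded_15_1 (flp_h L139048) (flp_a L137864) L146960
theorem L146964 : sm gb N12839 = N11865 := ded_22_1 (flp_h L138093) (flp_b L137866) L146960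
theorem L146966 : sm gf N12839 = N11841 := ded_40_1 (flp_h L137872) (flp_f L137870) L146960
theorem L146968 : sm gi N12839 = N12839 := ded_44_2 (flp_h L146960) (flp_i L137862) L129417 L137862 L146960
theorem L146969 : sm gd N11842 = N12840 := rfl
theorem L146971 : sm ga N12840 = N11876 := ded_11_1 (flp_d L138193) (flp_a L137884) L146969
theorem L146973 : sm gf N12840 = N11843 := ded_31_2 (flp_d L137893) (flp_f L137889) L146969
theorem L146975 : sm gg N12840 = N12183 := ded_32_2 (flp_d L141272) (flp_g L137891) L146969
theorem L146977 : sm ge N12840 = N12132 := ded_30_2 L140803 (flp_e L140339) L140337 (flp_e L137887) L146969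
theorem L146979 : sm gh N12840 = N11848 := ded_33_2 (flp_d L137935) (flp_h L129478) (flp_d L129444) L137882 L146969
theorem L146981 : sm gc N12193 = N12840 := ded_10_0 L146971 (flp_c L138205) (flp_a L141362)
theorem L146983 : sm gi N11842 = N12841 := rfl
theorem L146985 : sm ga N12841 = N11877 := ded_16_1 (flp_i L138207) (flp_a L137884) L146983
theorem L146987 : sm gc N12841 = N12841 := ded_29_1 (flp_i L146983) L137886 L146983
theorem L146988 : sm ge N12841 = N12294 := ded_38_1 L142236 (flp_e L137887) L146983
theorem L146990 : sm gf N12841 = N11844 := ded_41_1 (flp_i L137901) (flp_f L137889) L146983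
theorem L146992 : sm gg N12841 = N12184 := ded_43_1 (flp_i L141280) (flp_g L137891) L146983
theorem L146994 : sm gh N12841 = N12077 := ded_44_1 (flp_i L140176) L131258 (flp_i L129446) L137882 L146983
theorem L146996 : sm gc N11843 = N12842 := rfl
theorem L146998 : sm ga N12842 = N11878 := ded_10_1 (flp_c L138220) (flp_a L137895) L146996
theorem L147000 : sm gf N12842 = N12193 := ded_26_2 L146981 L146973 L146996
theorem L147002 : sm gg N12842 = N11845 := ded_27_2 (flp_c L137911) (flp_g L137897) L146996
theorem L147004 : sm gh N12842 = N11850 := ded_28_2 (flp_c L137956) (flp_h L137899) L146996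
theorem L147006 : sm gd N12842 = N12842 := ded_24_2 (flp_c L146996) (flp_d L137893) L129456 L137893 L146996
theorem L147007 : sm ge N12198 = N12842 := ded_12_0 L146998 (flp_e L138231) (flp_a L141404)
theorem L147009 : sm ge N11843 = N12843 := rfl
theorem L147011 : sm ga N12843 = N11879 := ded_12_1 (flp_e L138233) (flp_a L137895) L147009
theorem L147013 : sm gc N12843 = N12198 := ded_25_1 L147007 (flp_c L146996) L147009
theorem L147015 : sm gg N12843 = N11846 := ded_36_2 (flp_e L137920) (flp_g L137897) L147009
theorem L147017 : sm gh N12843 = N11851 := ded_37_2 (flp_e L137966) (flp_h L137899) L147009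
theorem L147019 : sm gd N12843 = N12843 := ded_30_1 (flp_e L147009) (flp_d L137893) L129457 L137893 L147009
theorem L147020 : sm gf N12843 = N12196 := ded_35_2 (flp_e L141381) (flp_f L140805) (flp_e L146977) L146973 L147009
theorem L147022 : sm gi N11843 = N12844 := rfl
theorem L147024 : sm ga N12844 = N11880 := ded_16_1 (flp_i L138246) (flp_a L137895) L147022
theorem L147026 : sm gd N12844 = N11844 := ded_34_1 (flp_i L137901) L137893 L147022
theorem L147028 : sm gg N12844 = N11847 := ded_43_1 (flp_i L137927) (flp_g L137897) L147022
theorem L147030 : sm gb N11845 = N12845 := rfl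
theorem L147032 : sm gd N12845 = N12845 := ded_18_2 (flp_b L147030) L137919 L147030
theorem L147033 : sm gf N12845 = N12187 := ded_20_2 (flp_b L141312) (flp_f L137915) L147030
theorem L147035 : sm gh N12845 = N11853 := ded_22_2 (flp_b L137986) (flp_h L137917) L147030
theorem L147037 : sm ge N11845 = N12846 := rfl
theorem L147039 : sm ga N12846 = N11882 := ded_12_1 (flp_e L138267) (flp_a L137913) L147037
theorem L147041 : sm gc N12846 = N11846 := ded_25_1 (flp_e L137920) L137911 L147037
theorem L147043 : sm gg N12846 = N12198 := ded_36_2 L147007 L147002 L147037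
theorem L147045 : sm gh N12846 = N11854 := ded_37_2 (flp_e L137992) (flp_h L137917) L147037
theorem L147047 : sm gd N12210 = N12846 := ded_11_0 L147039 L138277 (flp_a L141489)
theorem L147049 : sm gf N12207 = N12846 := ded_13_0 L147039 (flp_f L138279) (flp_a L141469)
theorem L147051 : sm gi N11845 = N12847 := rfl
theorem L147053 : sm ga N12847 = N11883 := ded_16_1 (flp_i L138281) (flp_a L137913) L147051
theorem L147055 : sm gc N12847 = N11847 := ded_29_1 (flp_i L137927) L137911 L147051
theorem L147057 : sm gd N12847 = N12847 := ded_34_1 (flp_i L147051) L137919 L147051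
theorem L147058 : sm gf N12847 = N12189 := ded_41_1 (flp_i L141329) (flp_f L137915) L147051
theorem L147060 : sm gf N11846 = N12848 := rfl
theorem L147062 : sm ga N12848 = N11884 := ded_13_1 (flp_f L138288) (flp_a L137922) L147060
theorem L147064 : sm gc N12848 = N12207 := ded_26_1 L147049 L147041 L147060
theorem L147066 : sm gd N12848 = N12848 := ded_31_1 (flp_f L147060) L137926 L147060
theorem L147067 : sm gh N12848 = N11856 := ded_40_2 (flp_f L138012) (flp_h L137924) L147060
theorem L147069 : sm ge N12848 = N12190 := ded_35_1 (flp_f L141336) (flp_e L132276) (flp_f L129464) L137920 L147060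
theorem L147071 : sm gg N12848 = N12204 := ded_39_2 (flp_f L141445) (flp_g L141387) (flp_f L147020) L147015 L147060
theorem L147073 : sm gi N11846 = N12849 := rfl
theorem L147075 : sm ga N12849 = N11885 := ded_16_1 (flp_i L138301) (flp_a L137922) L147073
theorem L147077 : sm gd N12849 = N12849 := ded_34_1 (flp_i L147073) L137926 L147073
theorem L147078 : sm ge N12849 = N11847 := ded_38_1 (flp_i L137927) L137920 L147073
theorem L147080 : sm gh N11847 = N12850 := rfl
theorem L147082 : sm ga N12850 = N11886 := ded_15_1 (flp_h L138308) (flp_a L137929) L147080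
theorem L147084 : sm gf N12850 = N12192 := ded_40_1 (flp_h L141354) (flp_f L137933) L147080
theorem L147086 : sm gd N12850 = N12660 := ded_33_1 (flp_h L145418) L136393 (flp_h L129476) (flp_d L137931) L147080
theorem L147088 : sm gi N12850 = N11858 := ded_44_2 (flp_h L138028) (flp_i L129521) (flp_h L129466) L137927 L147080
theorem L147090 : sm gc N11848 = N12851 := rfl
theorem L147092 : sm ga N12851 = N11887 := ded_10_1 (flp_c L138318) (flp_a L137937) L147090
theorem L147094 : sm gf N12851 = N11850 := ded_26_2 (flp_c L137956) (flp_f L137939) L147090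
theorem L147096 : sm gg N12851 = N12132 := ded_27_2 L140801 (flp_g L137941) L147090
theorem L147098 : sm gh N12851 = N12193 := ded_28_2 L146981 L146979 L147090
theorem L147100 : sm gd N12851 = N11867 := ded_24_2 (flp_c L138110) (flp_d L129595) (flp_c L129482) L137935 L147090
theorem L147102 : sm ge N12183 = N12851 := ded_12_0 L147092 (flp_e L138330) (flp_a L141274)
theorem L147104 : sm ge N11848 = N12852 := rfl
theorem L147106 : sm ga N12852 = N11888 := ded_12_1 (flp_e L138332) (flp_a L137937) L147104
theorem L147108 : sm gc N12852 = N12183 := ded_25_1 L147102 (flp_c L147090) L147104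
theorem L147110 : sm gg N12852 = N12193 := ded_36_2 (flp_e L141360) (flp_g L137941) L147104
theorem L147112 : sm gh N12852 = N12132 := ded_37_2 (flp_e L146977) L146979 L147104
theorem L147114 : sm gd N12852 = N12852 := ded_30_1 (flp_e L147104) (flp_d L137935) L129484 L137935 L147104
theorem L147115 : sm gf N12852 = N12185 := ded_35_2 L141295 L137976 (flp_e L137966) (flp_f L137939) L147104
theorem L147117 : sm gi N11848 = N12853 := rfl
theorem L147119 : sm ga N12853 = N11889 := ded_16_1 (flp_i L138345) (flp_a L137937) L147117
theorem L147121 : sm gd N12853 = N11849 := ded_34_1 (flp_i L137943) L137935 L147117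
theorem L147123 : sm gf N12853 = N11852 := ded_41_1 (flp_i L137978) (flp_f L137939) L147117
theorem L147125 : sm gg N12853 = N12194 := ded_43_1 (flp_i L141365) (flp_g L137941) L147117
theorem L147127 : sm gb N11850 = N12854 := rfl
theorem L147129 : sm gd N12854 = N11870 := ded_18_2 (flp_b L138145) (flp_d L137962) L147127
theorem L147131 : sm ge N12854 = N12580 := ded_19_2 L144706 L137964 L147127
theorem L147133 : sm gg N12854 = N11853 := ded_21_2 (flp_b L137986) (flp_g L137960) L147127
theorem L147135 : sm gi N11850 = N12855 := rfl
theorem L147137 : sm ga N12855 = N11891 := ded_16_1 (flp_i L138369) (flp_a L137958) L147135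
theorem L147139 : sm gc N12855 = N11852 := ded_29_1 (flp_i L137978) L137956 L147135
theorem L147141 : sm gd N12855 = N11871 := ded_34_1 (flp_i L138152) (flp_d L137962) L147135
theorem L147143 : sm ge N12855 = N12392 := ded_38_1 L143064 L137964 L147135
theorem L147145 : sm gg N12855 = N11855 := ded_43_1 (flp_i L138002) (flp_g L137960) L147135
theorem L147147 : sm gi N11851 = N12856 := rfl
theorem L147149 : sm ga N12856 = N11892 := ded_16_1 (flp_i L138379) (flp_a L137968) L147147
theorem L147151 : sm gc N12856 = N12392 := ded_29_1 L143064 (flp_c L137970) L147147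
theorem L147153 : sm gd N12856 = N11859 := ded_34_1 (flp_i L138036) (flp_d L137974) L147147
theorem L147155 : sm ge N12856 = N11852 := ded_38_1 (flp_i L137978) L137966 L147147
theorem L147157 : sm gf N12856 = N12393 := ded_41_1 L143070 L137976 L147147
theorem L147159 : sm gg N12856 = N11857 := ded_43_1 (flp_i L138020) (flp_g L137972) L147147
theorem L147161 : sm gh N11852 = N12857 := rfl
theorem L147163 : sm ga N12857 = N11893 := ded_15_1 (flp_h L138393) (flp_a L137980) L147161
theorem L147165 : sm gg N12857 = N11858 := ded_42_1 (flp_h L138028) (flp_g L137984) L147161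
theorem L147167 : sm gd N12857 = N12407 := ded_33_1 (flp_h L143184) L133953 (flp_h L129505) (flp_d L137982) L147161
theorem L147169 : sm ga N11853 = N12858 := rfl
theorem L147171 : sm gd N12858 = N11873 := ded_11_2 (flp_a L138171) (flp_d L137988) L147169
theorem L147173 : sm gf N12858 = N12201 := ded_13_2 (flp_a L141426) (flp_f L137990) L147169
theorem L147175 : sm gb N12858 = N11894 := ded_9_2 (flp_a L138401) (flp_b L129754) (flp_a L129509) L137986 L147169
theorem L147177 : sm ge N11853 = N12859 := rfl
theorem L147179 : sm gb N12859 = N11854 := ded_19_1 (flp_e L137992) L137986 L147177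
theorem L147181 : sm gg N12859 = N12580 := ded_36_2 (flp_e L147131) L147133 L147177
theorem L147183 : sm gd N12859 = N12579 := ded_30_1 L144700 (flp_d L137394) L137396 (flp_d L137988) L147177

end Cfsg.Agent.Helper28.FibA
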