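import Cfsg.Agent.Helper28.FibB10

/-! # The Fi₂₂ presentation, cosets of the subgroup generated by b, …, i: the coset enumeration, part 11 (helper28; generated) -/

set_option autoImplicit false

noncomputable section

namespace Cfsg.Agent.Helper28.FibA

open Cfsg.Agent.Helper28.CosetTable

theorem L147185 : sm gi N11853 = N12860 := rfl
theorem L147187 : sm gb N12860 = N11855 := ded_23_1 (flp_i L138002) L137986 L147185
theorem L147189 : sm gd N12860 = N11874 := ded_34_1 (flp_i L138178) (flp_d L137988) L147185
theorem L147191 : sm gf N12860 = N12203 := ded_41_1 (flp_i L141439) (flp_f L137990) L147185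
theorem L147193 : sm gf N11854 = N12861 := rfl
theorem L147195 : sm ga N12861 = N11897 := ded_13_1 (flp_f L138433) (flp_a L137994) L147193
theorem L147197 : sm gc N12861 = N11856 := ded_26_1 (flp_f L138012) (flp_c L137996) L147193
theorem L147199 : sm gd N12861 = N12537 := ded_31_1 L144361 (flp_d L138000) L147193
theorem L147201 : sm gh N12861 = N12207 := ded_40_2 L147049 L147045 L147193
theorem L147203 : sm ge N12861 = N12204 := ded_35_1 (flp_f L141445) (flp_e L132337) (flp_f L129511) L137992 L147193
theorem L147205 : sm gg N12861 = N12190 := ded_39_2 (flp_f L141336) L132280 (flp_f L135744) (flp_g L137998) L147193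
theorem L147207 : sm gi N11854 = N12862 := rfl
theorem L147209 : sm ga N12862 = N11898 := ded_16_1 (flp_i L138447) (flp_a L137994) L147207
theorem L147211 : sm gc N12862 = N11857 := ded_29_1 (flp_i L138020) (flp_c L137996) L147207
theorem L147213 : sm gd N12862 = N12391 := ded_34_1 L143056 (flp_d L138000) L147207
theorem L147215 : sm ge N12862 = N11855 := ded_38_1 (flp_i L138002) L137992 L147207
theorem L147217 : sm gg N12862 = N12392 := ded_43_1 L143064 (flp_g L137998) L147207
theorem L147219 : sm gh N11855 = N12863 := rfl
theorem L147221 : sm ga N12863 = N11899 := ded_15_1 (flp_h L138457) (flp_a L138004) L147219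
theorem L147223 : sm gc N12863 = N11858 := ded_28_1 (flp_h L138028) (flp_c L138006) L147219
theorem L147225 : sm gf N12863 = N12206 := ded_40_1 (flp_h L141461) (flp_f L138010) L147219
theorem L147227 : sm gg N11856 = N12864 := rfl
theorem L147229 : sm ga N12864 = N11900 := ded_14_1 (flp_g L138463) (flp_a L138014) L147227
theorem L147231 : sm gc N12864 = N12190 := ded_27_1 (flp_g L147205) L147197 L147227
theorem L147233 : sm gd N12864 = N11861 := ded_32_1 (flp_g L138058) (flp_d L138016) L147227
theorem L147235 : sm ge N12864 = N12207 := ded_36_1 (flp_g L141467) (flp_e L138018) L147227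
theorem L147237 : sm gh N12864 = N12204 := ded_42_2 (flp_g L147071) L147067 L147227
theorem L147239 : sm gf N12864 = N12188 := ded_39_1 L141323 L137976 L137972 L138012 L147227
theorem L147241 : sm gi N11856 = N12865 := rfl
theorem L147243 : sm ga N12865 = N11901 := ded_16_1 (flp_i L138477) (flp_a L138014) L147241
theorem L147245 : sm gd N12865 = N11862 := ded_34_1 (flp_i L138069) (flp_d L138016) L147241
theorem L147247 : sm ge N12865 = N12208 := ded_38_1 (flp_i L141473) (flp_e L138018) L147241
theorem L147249 : sm gf N12865 = N11857 := ded_41_1 (flp_i L138020) L138012 L147241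
theorem L147251 : sm gh N11857 = N12866 := rfl
theorem L147253 : sm ga N12866 = N11902 := ded_15_1 (flp_h L138487) (flp_a L138022) L147251
theorem L147255 : sm ge N12866 = N11858 := ded_37_1 (flp_h L138028) (flp_e L138026) L147251
theorem L147257 : sm gh N11859 = N12867 := rfl
theorem L147259 : sm ga N12867 = N11903 := ded_15_1 (flp_h L138493) (flp_a L138038) L147257
theorem L147261 : sm gc N12867 = N12492 := ded_28_1 L143921 (flp_c L138040) L147257
theorem L147263 : sm ge N12867 = N11860 := ded_37_1 (flp_h L138048) (flp_e L138042) L147257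
theorem L147265 : sm gf N12867 = N12493 := ded_40_1 L143930 (flp_f L138044) L147257
theorem L147267 : sm gg N12867 = N11863 := ded_42_1 (flp_h L138077) (flp_g L138046) L147257
theorem L147269 : sm gi N12867 = N12867 := ded_44_2 (flp_h L147257) (flp_i L138036) L129537 L138036 L147257
theorem L147270 : sm gi N11861 = N12868 := rfl
theorem L147272 : sm ga N12868 = N11904 := ded_16_1 (flp_i L138506) (flp_a L138060) L147270
theorem L147274 : sm gc N12868 = N12495 := ded_29_1 L143950 (flp_c L138062) L147270
theorem L147276 : sm ge N12868 = N11864 := ded_38_1 (flp_i L138084) (flp_e L138064) L147270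
theorem L147278 : sm gf N12868 = N12496 := ded_41_1 L143963 (flp_f L138067) L147270
theorem L147280 : sm gg N12868 = N11862 := ded_43_1 (flp_i L138069) L138058 L147270
theorem L147282 : sm gh N12776 = N12868 := ded_15_0 L147272 (flp_h L138518) (flp_a L146303)
theorem L147284 : sm gh N11862 = N12869 := rfl
theorem L147286 : sm ga N12869 = N11905 := ded_15_1 (flp_h L138520) (flp_a L138071) L147284
theorem L147288 : sm gc N12869 = N12775 := ded_28_1 L146499 L146489 L147284
theorem L147290 : sm ge N12869 = N11865 := ded_37_1 (flp_h L138093) (flp_e L138073) L147284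
theorem L147292 : sm gf N12869 = N11863 := ded_40_1 (flp_h L138077) (flp_f L138075) L147284
theorem L147294 : sm gg N12869 = N12776 := ded_42_1 L147282 L147280 L147284
theorem L147296 : sm gi N12869 = N12869 := ded_44_2 (flp_h L147284) (flp_i L138069) L129553 L138069 L147284
theorem L147297 : sm gd N11863 = N12870 := rfl
theorem L147299 : sm ga N12870 = N11906 := ded_11_1 (flp_d L138533) (flp_a L138079) L147297
theorem L147301 : sm gi N12870 = N12870 := ded_34_2 (flp_d L147297) L138083 L147297
theorem L147302 : sm ge N12870 = N12669 := ded_30_2 (flp_d L145483) L136454 (flp_d L129568) (flp_e L138081) L147297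
theorem L147304 : sm gh N11864 = N12871 := rfl
theorem L147306 : sm ga N12871 = N11907 := ded_15_1 (flp_h L138540) (flp_a L138086) L147304
theorem L147308 : sm gc N12871 = N12777 := ded_28_1 L146528 L146520 L147304
theorem L147310 : sm ge N12871 = N12776 := ded_37_1 L147282 L147276 L147304
theorem L147312 : sm gf N12871 = N12871 := ded_40_1 (flp_h L147304) L138090 L147304
theorem L147313 : sm gg N12871 = N11865 := ded_42_1 (flp_h L138093) (flp_g L138091) L147304
theorem L147315 : sm gi N12871 = N12871 := ded_44_2 (flp_h L147304) (flp_i L138084) L129577 L138084 L147304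
theorem L147316 : sm gd N11865 = N12872 := rfl
theorem L147318 : sm ga N12872 = N11908 := ded_11_1 (flp_d L138552) (flp_a L138095) L147316
theorem L147320 : sm gf N12872 = N11866 := ded_31_2 (flp_d L138100) (flp_f L138097) L147316
theorem L147322 : sm gi N12872 = N12872 := ded_34_2 (flp_d L147316) L138099 L147316
theorem L147323 : sm gh N12872 = N12216 := ded_33_2 (flp_d L141549) (flp_h L132426) (flp_d L129583) L138093 L147316
theorem L147325 : sm gb N11867 = N12873 := rfl
theorem L147327 : sm ge N12873 = N12550 := ded_19_2 L144487 L138119 L147325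
theorem L147329 : sm gf N12873 = N11870 := ded_20_2 (flp_b L138145) (flp_f L138114) L147325
theorem L147331 : sm gg N12873 = N12126 := ded_21_2 L140744 (flp_g L138116) L147325
theorem L147333 : sm gh N12873 = N12873 := ded_22_2 (flp_b L147325) L138118 L147325
theorem L147334 : sm ga N12873 = N12123 := ded_9_1 (flp_b L140711) L131802 (flp_b L129883) (flp_a L138112) L147325
theorem L147336 : sm gi N11867 = N12874 := rfl
theorem L147338 : sm ga N12874 = N11910 := ded_16_1 (flp_i L138569) (flp_a L138112) L147336
theorem L147340 : sm gc N12874 = N11869 := ded_29_1 (flp_i L138135) L138110 L147336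
theorem L147342 : sm ge N12874 = N12295 := ded_38_1 L142244 L138119 L147336
theorem L147344 : sm gf N12874 = N11871 := ded_41_1 (flp_i L138152) (flp_f L138114) L147336
theorem L147346 : sm gg N12874 = N12137 := ded_43_1 (flp_i L140846) (flp_g L138116) L147336
theorem L147348 : sm gh N12733 = N12874 := ded_15_0 L147338 (flp_h L138581) (flp_a L145969)
theorem L147350 : sm gi N11868 = N12875 := rfl
theorem L147352 : sm ga N12875 = N11911 := ded_16_1 (flp_i L138583) (flp_a L138123) L147350
theorem L147354 : sm gb N12875 = N12804 := ded_23_1 (flp_i L146623) (flp_b L138125) L147350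
theorem L147356 : sm gc N12875 = N12295 := ded_29_1 L142244 (flp_c L138127) L147350
theorem L147358 : sm gd N12875 = N12875 := ded_34_1 (flp_i L147350) L138132 L147350
theorem L147359 : sm ge N12875 = N11869 := ded_38_1 (flp_i L138135) L138121 L147350
theorem L147361 : sm gf N12875 = N12296 := ded_41_1 L142257 (flp_f L138133) L147350
theorem L147363 : sm gg N12875 = N12094 := ded_43_1 (flp_i L140387) (flp_g L138129) L147350
theorem L147365 : sm gh N12732 = N12875 := ded_15_0 L147352 (flp_h L138596) (flp_a L145960)
theorem L147367 : sm gh N11869 = N12876 := rfl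
theorem L147369 : sm ga N12876 = N11912 := ded_15_1 (flp_h L138598) (flp_a L138137) L147367
theorem L147371 : sm gc N12876 = N12733 := ded_28_1 L147348 L147340 L147367
theorem L147373 : sm ge N12876 = N12732 := ded_37_1 L147365 L147359 L147367
theorem L147375 : sm gf N12876 = N11872 := ded_40_1 (flp_h L138162) (flp_f L138141) L147367
theorem L147377 : sm gg N12876 = N12140 := ded_42_1 (flp_h L140874) (flp_g L138143) L147367
theorem L147379 : sm gd N12876 = N11922 := ded_33_1 (flp_h L138717) L130019 (flp_h L129613) (flp_d L138139) L147367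
theorem L147381 : sm gi N12876 = N12876 := ded_44_2 (flp_h L147367) (flp_i L138135) L129603 L138135 L147367
theorem L147382 : sm ga N11870 = N12877 := rfl
theorem L147384 : sm gc N12877 = N12873 := ded_10_2 L147334 L140716 L147382
theorem L147386 : sm ge N12877 = N12536 := ded_12_2 L144345 (flp_e L138147) L147382
theorem L147388 : sm gf N12877 = N12123 := ded_13_2 (flp_a L147334) L147329 L147382
theorem L147390 : sm gg N12877 = N11873 := ded_14_2 (flp_a L138171) (flp_g L138149) L147382
theorem L147392 : sm gh N12877 = N12877 := ded_15_2 (flp_a L147382) L138151 L147382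
theorem L147393 : sm gb N12877 = N11913 := ded_9_2 (flp_a L138619) (flp_b L129909) (flp_a L129617) L138145 L147382
theorem L147395 : sm gi N11870 = N12878 := rfl
theorem L147397 : sm gb N12878 = N11871 := ded_23_1 (flp_i L138152) L138145 L147395
theorem L147399 : sm ge N12878 = N12362 := ded_38_1 L142786 (flp_e L138147) L147395
theorem L147401 : sm gg N12878 = N11874 := ded_43_1 (flp_i L138178) (flp_g L138149) L147395
theorem L147403 : sm gh N11871 = N12879 := rfl
theorem L147405 : sm ga N12879 = N11915 := ded_15_1 (flp_h L138642) (flp_a L138154) L147403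
theorem L147407 : sm gc N12879 = N11872 := ded_28_1 (flp_h L138162) (flp_c L138156) L147403
theorem L147409 : sm ge N12879 = N12003 := ded_37_1 L139423 (flp_e L138158) L147403
theorem L147411 : sm gf N12879 = N12733 := ded_40_1 L147348 L147344 L147403
theorem L147413 : sm gg N12879 = N11875 := ded_42_1 (flp_h L138184) (flp_g L138160) L147403
theorem L147415 : sm gi N12879 = N12879 := ded_44_2 (flp_h L147403) (flp_i L138152) L129623 L138152 L147403
theorem L147416 : sm gi N11873 = N12880 := rfl
theorem L147418 : sm ga N12880 = N11874 := ded_16_1 (flp_i L138178) L138171 L147416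
theorem L147420 : sm gb N12880 = N11916 := ded_23_1 (flp_i L138653) (flp_b L138176) L147416
theorem L147422 : sm gf N12880 = N12220 := ded_41_1 (flp_i L141584) (flp_f L138173) L147416
theorem L147424 : sm gh N11874 = N12881 := rfl
theorem L147426 : sm gb N12881 = N11875 := ded_22_1 (flp_h L138184) (flp_b L138180) L147424
theorem L147428 : sm gf N12881 = N12221 := ded_40_1 (flp_h L141595) (flp_f L138182) L147424
theorem L147430 : sm gi N12881 = N12881 := ded_44_2 (flp_h L147424) (flp_i L138178) L129636 L138178 L147424
theorem L147431 : sm gd N11875 = N12882 := rfl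
theorem L147433 : sm ga N12882 = N11918 := ded_11_1 (flp_d L138670) (flp_a L138186) L147431
theorem L147435 : sm gf N12882 = N12222 := ded_31_2 (flp_d L141601) (flp_f L138190) L147431
theorem L147437 : sm gi N12882 = N12882 := ded_34_2 (flp_d L147431) L138192 L147431
theorem L147438 : sm gc N12882 = N12674 := ded_24_1 (flp_d L145523) L136490 (flp_d L129651) (flp_c L138188) L147431
theorem L147440 : sm gi N11876 = N12883 := rfl
theorem L147442 : sm gb N12883 = N12009 := ded_23_1 (flp_i L139486) (flp_b L138195) L147440
theorem L147444 : sm gc N12883 = N12232 := ded_29_1 (flp_i L141691) L138205 L147440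
theorem L147446 : sm gd N12883 = N11877 := ded_34_1 (flp_i L138207) L138193 L147440
theorem L147448 : sm ge N12883 = N12133 := ded_38_1 (flp_i L140807) (flp_e L138201) L147440
theorem L147450 : sm gf N12883 = N11880 := ded_41_1 (flp_i L138246) (flp_f L138197) L147440
theorem L147452 : sm gg N12883 = N12223 := ded_43_1 (flp_i L141606) (flp_g L138199) L147440
theorem L147454 : sm gi N11878 = N12884 := rfl
theorem L147456 : sm gb N12884 = N12298 := ded_23_1 (flp_i L142270) (flp_b L138228) L147454
theorem L147458 : sm gc N12884 = N11880 := ded_29_1 (flp_i L138246) L138220 L147454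
theorem L147460 : sm gd N12884 = N12884 := ded_34_1 (flp_i L147454) L138230 L147454
theorem L147461 : sm ge N12884 = N12236 := ded_38_1 (flp_i L141723) L138231 L147454
theorem L147463 : sm gf N12884 = N12232 := ded_41_1 (flp_i L141691) (flp_f L138222) L147454
theorem L147465 : sm gg N12884 = N11883 := ded_43_1 (flp_i L138281) (flp_g L138224) L147454
theorem L147467 : sm gi N11879 = N12885 := rfl
theorem L147469 : sm gb N12885 = N12011 := ded_23_1 (flp_i L139512) (flp_b L138235) L147467
theorem L147471 : sm gc N12885 = N12236 := ded_29_1 (flp_i L141723) (flp_c L138237) L147467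
theorem L147473 : sm gd N12885 = N12885 := ded_34_1 (flp_i L147467) L138243 L147467
theorem L147474 : sm ge N12885 = N11880 := ded_38_1 (flp_i L138246) L138233 L147467
theorem L147476 : sm gf N12885 = N12234 := ded_41_1 (flp_i L141704) (flp_f L138244) L147467
theorem L147478 : sm gg N12885 = N11885 := ded_43_1 (flp_i L138301) (flp_g L138239) L147467
theorem L147480 : sm gh N11880 = N12886 := rfl
theorem L147482 : sm gb N12886 = N12012 := ded_22_1 (flp_h L139523) (flp_b L138248) L147480
theorem L147484 : sm gg N12886 = N11886 := ded_42_1 (flp_h L138308) (flp_g L138252) L147480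
theorem L147486 : sm gd N12886 = N12398 := ded_33_1 (flp_h L143115) L133871 (flp_h L129681) (flp_d L138250) L147480
theorem L147488 : sm gi N12886 = N11893 := ded_44_2 (flp_h L138393) (flp_i L129746) (flp_h L129671) L138246 L147480
theorem L147490 : sm ga N11881 = N12887 := rfl
theorem L147492 : sm gc N12887 = N12013 := ded_10_2 (flp_a L139531) (flp_c L138263) L147490
theorem L147494 : sm gd N12887 = N12887 := ded_11_2 (flp_a L147490) L138256 L147490
theorem L147495 : sm ge N12887 = N12375 := ded_12_2 L142904 (flp_e L138265) L147490
theorem L147497 : sm gf N12887 = N12226 := ded_13_2 (flp_a L141637) (flp_f L138257) L147490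
theorem L147499 : sm gg N12887 = N12289 := ded_14_2 L142188 (flp_g L138259) L147490
theorem L147501 : sm gh N12887 = N11894 := ded_15_2 (flp_a L138401) (flp_h L138261) L147490
theorem L147503 : sm gi N11881 = N12888 := rfl
theorem L147505 : sm gb N12888 = N11883 := ded_23_1 (flp_i L138281) L138254 L147503
theorem L147507 : sm gc N12888 = N12014 := ded_29_1 (flp_i L139543) (flp_c L138263) L147503
theorem L147509 : sm gd N12888 = N12888 := ded_34_1 (flp_i L147503) L138256 L147503
theorem L147510 : sm ge N12888 = N12403 := ded_38_1 (flp_i L143152) (flp_e L138265) L147503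
theorem L147512 : sm gf N12888 = N12227 := ded_41_1 (flp_i L141646) (flp_f L138257) L147503
theorem L147514 : sm gg N12888 = N12298 := ded_43_1 (flp_i L142270) (flp_g L138259) L147503
theorem L147516 : sm gi N11882 = N12889 := rfl
theorem L147518 : sm gb N12889 = N12403 := ded_23_1 (flp_i L143152) (flp_b L138269) L147516
theorem L147520 : sm gc N12889 = N11885 := ded_29_1 (flp_i L138301) (flp_c L138271) L147516
theorem L147522 : sm gd N12889 = N12248 := ded_34_1 (flp_i L141826) (flp_d L138277) L147516
theorem L147524 : sm ge N12889 = N11883 := ded_38_1 (flp_i L138281) L138267 L147516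
theorem L147526 : sm gf N12889 = N12245 := ded_41_1 (flp_i L141798) L138279 L147516
theorem L147528 : sm gg N12889 = N12236 := ded_43_1 (flp_i L141723) (flp_g L138273) L147516
theorem L147530 : sm gh N11883 = N12890 := rfl
theorem L147532 : sm gc N12890 = N11886 := ded_28_1 (flp_h L138308) (flp_c L138283) L147530
theorem L147534 : sm gf N12890 = N12229 := ded_40_1 (flp_h L141665) (flp_f L138286) L147530
theorem L147536 : sm gi N12890 = N11899 := ded_44_2 (flp_h L138457) (flp_i L129770) (flp_h L129687) L138281 L147530
theorem L147538 : sm gi N11884 = N12891 := rfl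
theorem L147540 : sm gb N12891 = N12019 := ded_23_1 (flp_i L139602) (flp_b L138290) L147538
theorem L147542 : sm gc N12891 = N12245 := ded_29_1 (flp_i L141798) (flp_c L138292) L147538
theorem L147544 : sm gd N12891 = N12891 := ded_34_1 (flp_i L147538) L138294 L147538
theorem L147545 : sm ge N12891 = N12230 := ded_38_1 (flp_i L141671) (flp_e L138297) L147538
theorem L147547 : sm gf N12891 = N11885 := ded_41_1 (flp_i L138301) L138288 L147538
theorem L147549 : sm gg N12891 = N12242 := ded_43_1 (flp_i L141781) (flp_g L138299) L147538
theorem L147551 : sm gh N11885 = N12892 := rfl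
theorem L147553 : sm gb N12892 = N12020 := ded_22_1 (flp_h L139609) (flp_b L138303) L147551
theorem L147555 : sm ge N12892 = N11886 := ded_37_1 (flp_h L138308) (flp_e L138306) L147551
theorem L147557 : sm gi N12892 = N11902 := ded_44_2 (flp_h L138487) (flp_i L129786) (flp_h L129694) L138301 L147551
theorem L147559 : sm gi N11887 = N12893 := rfl
theorem L147561 : sm gb N12893 = N12130 := ded_23_1 (flp_i L140777) (flp_b L138326) L147559
theorem L147563 : sm gc N12893 = N11889 := ded_29_1 (flp_i L138345) L138318 L147559
theorem L147565 : sm gd N12893 = N11910 := ded_34_1 (flp_i L138569) (flp_d L138328) L147559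
theorem L147567 : sm ge N12893 = N12223 := ded_38_1 (flp_i L141606) L138330 L147559
theorem L147569 : sm gf N12893 = N11891 := ded_41_1 (flp_i L138369) (flp_f L138320) L147559
theorem L147571 : sm gg N12893 = N12133 := ded_43_1 (flp_i L140807) (flp_g L138322) L147559
theorem L147573 : sm gi N11888 = N12894 := rfl
theorem L147575 : sm gb N12894 = N12021 := ded_23_1 (flp_i L139615) (flp_b L138334) L147573
theorem L147577 : sm gc N12894 = N12223 := ded_29_1 (flp_i L141606) (flp_c L138336) L147573
theorem L147579 : sm gd N12894 = N12894 := ded_34_1 (flp_i L147573) L138342 L147573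
theorem L147580 : sm ge N12894 = N11889 := ded_38_1 (flp_i L138345) L138332 L147573
theorem L147582 : sm gf N12894 = N12224 := ded_41_1 (flp_i L141614) (flp_f L138343) L147573
theorem L147584 : sm gg N12894 = N12232 := ded_43_1 (flp_i L141691) (flp_g L138338) L147573
theorem L147586 : sm gh N11889 = N12895 := rfl
theorem L147588 : sm gb N12895 = N12022 := ded_22_1 (flp_h L139626) (flp_b L138347) L147586
theorem L147590 : sm gf N12895 = N11893 := ded_40_1 (flp_h L138393) (flp_f L138351) L147586
theorem L147592 : sm gg N12895 = N12233 := ded_42_1 (flp_h L141698) (flp_g L138353) L147586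
theorem L147594 : sm gd N12895 = N12034 := ded_33_1 (flp_h L139754) L130735 (flp_h L129724) (flp_d L138349) L147586
theorem L147596 : sm ga N11890 = N12896 := rfl
theorem L147598 : sm gc N12896 = N12023 := ded_10_2 (flp_a L139636) (flp_c L138367) L147596
theorem L147600 : sm gd N12896 = N11913 := ded_11_2 (flp_a L138619) (flp_d L138357) L147596
theorem L147602 : sm ge N12896 = N12364 := ded_12_2 L142803 (flp_e L138359) L147596
theorem L147604 : sm gf N12896 = N12115 := ded_13_2 L140634 (flp_f L138361) L147596
theorem L147606 : sm gg N12896 = N11894 := ded_14_2 (flp_a L138401) (flp_g L138363) L147596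
theorem L147608 : sm gh N12896 = N12289 := ded_15_2 L142188 (flp_h L138365) L147596
theorem L147610 : sm gi N11890 = N12897 := rfl
theorem L147612 : sm gb N12897 = N11891 := ded_23_1 (flp_i L138369) L138355 L147610
theorem L147614 : sm gc N12897 = N12024 := ded_29_1 (flp_i L139648) (flp_c L138367) L147610
theorem L147616 : sm gd N12897 = N11914 := ded_34_1 (flp_i L138630) (flp_d L138357) L147610
theorem L147618 : sm ge N12897 = N12250 := ded_38_1 L141857 (flp_e L138359) L147610
theorem L147620 : sm gf N12897 = N12130 := ded_41_1 (flp_i L140777) (flp_f L138361) L147610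
theorem L147622 : sm gg N12897 = N11896 := ded_43_1 (flp_i L138423) (flp_g L138363) L147610
theorem L147624 : sm gh N11891 = N12898 := rfl
theorem L147626 : sm gc N12898 = N11893 := ded_28_1 (flp_h L138393) (flp_c L138371) L147624
theorem L147628 : sm ge N12898 = N12414 := ded_37_1 L143236 (flp_e L138375) L147624
theorem L147630 : sm gg N12898 = N11899 := ded_42_1 (flp_h L138457) (flp_g L138377) L147624
theorem L147632 : sm gh N11892 = N12899 := rfl
theorem L147634 : sm gb N12899 = N12029 := ded_22_1 (flp_h L139709) (flp_b L138381) L147632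
theorem L147636 : sm gc N12899 = N12414 := ded_28_1 L143236 (flp_c L138383) L147632
theorem L147638 : sm ge N12899 = N11893 := ded_37_1 (flp_h L138393) (flp_e L138387) L147632
theorem L147640 : sm gf N12899 = N12415 := ded_40_1 L143240 (flp_f L138389) L147632
theorem L147642 : sm gg N12899 = N11902 := ded_42_1 (flp_h L138487) (flp_g L138391) L147632
theorem L147644 : sm ge N11894 = N12900 := rfl
theorem L147646 : sm ga N12900 = N11895 := ded_12_1 (flp_e L138409) L138401 L147644
theorem L147648 : sm gc N12900 = N12030 := ded_25_1 (flp_e L139715) (flp_c L138403) L147644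
theorem L147650 : sm gg N12900 = N12364 := ded_36_2 (flp_e L147602) L147606 L147644
theorem L147652 : sm gh N12900 = N12375 := ded_37_2 (flp_e L147495) L147501 L147644
theorem L147654 : sm gd N12900 = N12538 := ded_30_1 L144368 (flp_d L137519) L137521 (flp_d L138405) L147644
theorem L147656 : sm gf N12372 = N12900 := ded_13_0 L147646 (flp_f L138421) (flp_a L142880)
theorem L147658 : sm gi N11894 = N12901 := rfl
theorem L147660 : sm ga N12901 = N11896 := ded_16_1 (flp_i L138423) L138401 L147658
theorem L147662 : sm gc N12901 = N12031 := ded_29_1 (flp_i L139724) (flp_c L138403) L147658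
theorem L147664 : sm gd N12901 = N11916 := ded_34_1 (flp_i L138653) (flp_d L138405) L147658
theorem L147666 : sm gf N12901 = N12239 := ded_41_1 (flp_i L141752) (flp_f L138407) L147658
theorem L147668 : sm gi N11895 = N12902 := rfl
theorem L147670 : sm gb N12902 = N11898 := ded_23_1 (flp_i L138447) (flp_b L138411) L147668
theorem L147672 : sm gc N12902 = N12033 := ded_29_1 (flp_i L139745) (flp_c L138413) L147668
theorem L147674 : sm gd N12902 = N12249 := ded_34_1 L141849 (flp_d L138419) L147668
theorem L147676 : sm ge N12902 = N11896 := ded_38_1 (flp_i L138423) L138409 L147668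
theorem L147678 : sm gf N12902 = N12401 := ded_41_1 (flp_i L143140) L138421 L147668
theorem L147680 : sm gg N12902 = N12250 := ded_43_1 L141857 (flp_g L138415) L147668
theorem L147682 : sm gh N11896 = N12903 := rfl
theorem L147684 : sm gb N12903 = N11899 := ded_22_1 (flp_h L138457) (flp_b L138425) L147682
theorem L147686 : sm gc N12903 = N12034 := ded_28_1 (flp_h L139754) (flp_c L138427) L147682
theorem L147688 : sm gf N12903 = N12241 := ded_40_1 (flp_h L141773) (flp_f L138431) L147682
theorem L147690 : sm gi N11897 = N12904 := rfl
theorem L147692 : sm gb N12904 = N12401 := ded_23_1 (flp_i L143140) (flp_b L138435) L147690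
theorem L147694 : sm gc N12904 = N11901 := ded_29_1 (flp_i L138477) (flp_c L138437) L147690
theorem L147696 : sm gd N12904 = N12416 := ded_34_1 L143253 (flp_d L138439) L147690
theorem L147698 : sm ge N12904 = N12242 := ded_38_1 (flp_i L141781) (flp_e L138443) L147690
theorem L147700 : sm gf N12904 = N11898 := ded_41_1 (flp_i L138447) L138433 L147690
theorem L147702 : sm gg N12904 = N12230 := ded_43_1 (flp_i L141671) (flp_g L138445) L147690
theorem L147704 : sm gh N11898 = N12905 := rfl
theorem L147706 : sm gc N12905 = N11902 := ded_28_1 (flp_h L138487) (flp_c L138449) L147704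
theorem L147708 : sm ge N12905 = N11899 := ded_37_1 (flp_h L138457) (flp_e L138453) L147704
theorem L147710 : sm gg N12905 = N12414 := ded_42_1 L143236 (flp_g L138455) L147704
theorem L147712 : sm gd N12905 = N12413 := ded_33_1 (flp_h L143228) L134005 L134037 (flp_d L138451) L147704
theorem L147714 : sm gd N11899 = N12906 := rfl
theorem L147716 : sm gf N12906 = N12244 := ded_31_2 (flp_d L141794) (flp_f L138461) L147714
theorem L147718 : sm gc N12906 = N12678 := ded_24_1 (flp_d L145548) L136521 (flp_d L129800) (flp_c L138459) L147714
theorem L147720 : sm gh N12906 = N11918 := ded_33_2 (flp_d L138670) (flp_h L129952) (flp_d L129774) L138457 L147714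
theorem L147722 : sm gi N11900 = N12907 := rfl
theorem L147724 : sm gb N12907 = N12038 := ded_23_1 (flp_i L139788) (flp_b L138465) L147722
theorem L147726 : sm gc N12907 = N12230 := ded_29_1 (flp_i L141671) (flp_c L138467) L147722
theorem L147728 : sm gd N12907 = N11904 := ded_34_1 (flp_i L138506) (flp_d L138469) L147722
theorem L147730 : sm ge N12907 = N12245 := ded_38_1 (flp_i L141798) (flp_e L138471) L147722
theorem L147732 : sm gf N12907 = N12228 := ded_41_1 (flp_i L141655) (flp_f L138475) L147722
theorem L147734 : sm gg N12907 = N11901 := ded_43_1 (flp_i L138477) L138463 L147722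
theorem L147736 : sm gh N11901 = N12908 := rfl
theorem L147738 : sm gb N12908 = N12039 := ded_22_1 (flp_h L139796) (flp_b L138479) L147736
theorem L147740 : sm ge N12908 = N12246 := ded_37_1 (flp_h L141806) (flp_e L138483) L147736
theorem L147742 : sm gf N12908 = N11902 := ded_40_1 (flp_h L138487) (flp_f L138485) L147736
theorem L147744 : sm gd N11902 = N12909 := rfl
theorem L147746 : sm gb N12909 = N12040 := ded_18_1 (flp_d L139802) (flp_b L138489) L147744
theorem L147748 : sm ge N12909 = N12680 := ded_30_2 (flp_d L145558) L136535 (flp_d L129800) (flp_e L138491) L147744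
theorem L147750 : sm gh N12909 = N11906 := ded_33_2 (flp_d L138533) (flp_h L129843) (flp_d L129790) L138487 L147744
theorem L147752 : sm gd N11903 = N12910 := rfl
theorem L147754 : sm gb N12910 = N12043 := ded_18_1 (flp_d L139831) (flp_b L138495) L147752
theorem L147756 : sm gf N12910 = N12506 := ded_31_2 L144043 (flp_f L138501) L147752
theorem L147758 : sm gg N12910 = N11906 := ded_32_2 (flp_d L138533) (flp_g L138503) L147752
theorem L147760 : sm gi N12910 = N12910 := ded_34_2 (flp_d L147752) L138505 L147752
theorem L147761 : sm gc N12910 = N12505 := ded_24_1 (flp_d L144033) L134796 L134816 (flp_c L138497) L147752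
theorem L147763 : sm ge N12910 = N12503 := ded_30_2 (flp_d L144016) L134780 (flp_d L129821) (flp_e L138499) L147752
theorem L147765 : sm gd N11905 = N12911 := rfl
theorem L147767 : sm gb N12911 = N12045 := ded_18_1 (flp_d L139850) (flp_b L138522) L147765
theorem L147769 : sm gf N12911 = N11906 := ded_31_2 (flp_d L138533) (flp_f L138528) L147765
theorem L147771 : sm gg N12911 = N12741 := ded_32_2 L146021 (flp_g L138530) L147765
theorem L147773 : sm gi N12911 = N12911 := ded_34_2 (flp_d L147765) L138532 L147765
theorem L147774 : sm gc N12911 = N12740 := ded_24_1 (flp_d L146011) L136892 L137169 (flp_c L138524) L147765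
theorem L147776 : sm gc N11906 = N12912 := rfl
theorem L147778 : sm ge N12912 = N12683 := ded_25_2 (flp_c L145581) (flp_e L138538) L147776
theorem L147780 : sm gf N12912 = N12740 := ded_26_2 (flp_c L147774) L147769 L147776
theorem L147782 : sm gg N12912 = N12505 := ded_27_2 (flp_c L147761) L147758 L147776
theorem L147784 : sm gi N12912 = N12912 := ded_29_2 (flp_c L147776) L138537 L147776
theorem L147785 : sm gd N12912 = N12504 := ded_24_2 L144025 (flp_d L137462) L137454 L138533 L147776
theorem L147787 : sm ge N11908 = N12913 := rfl
theorem L147789 : sm gb N12913 = N11915 := ded_19_1 L138646 (flp_b L138554) L147787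
theorem L147791 : sm gc N12913 = N11921 := ded_25_1 (flp_e L146642) L146640 L147787
theorem L147793 : sm gg N12913 = N11917 := ded_36_2 (flp_e L146615) L146618 L147787
theorem L147795 : sm gh N12913 = N11914 := ded_37_2 L138636 (flp_h L138559) L147787
theorem L147797 : sm gi N12913 = N12913 := ded_38_2 (flp_e L147787) L138558 L147787
theorem L147798 : sm gf N12913 = N12136 := ded_35_2 L140841 L136574 (flp_e L129872) (flp_f L138556) L147787
theorem L147800 : sm gi N11913 = N12914 := rfl
theorem L147802 : sm ga N12914 = N11914 := ded_16_1 (flp_i L138630) L138619 L147800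
theorem L147804 : sm gc N12914 = N11920 := ded_29_1 (flp_i L138694) (flp_c L138621) L147800
theorem L147806 : sm ge N12914 = N12216 := ded_38_1 L141555 (flp_e L138623) L147800
theorem L147808 : sm gf N12914 = N12124 := ded_41_1 (flp_i L140718) (flp_f L138625) L147800
theorem L147810 : sm gg N12914 = N11916 := ded_43_1 (flp_i L138653) (flp_g L138627) L147800
theorem L147812 : sm gd N11915 = N12915 := rfl
theorem L147814 : sm gf N12915 = N12742 := ded_31_2 L146026 (flp_f L138648) L147812
theorem L147816 : sm gg N12915 = N11918 := ded_32_2 (flp_d L138670) (flp_g L138650) L147812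
theorem L147818 : sm gi N12915 = N12915 := ded_34_2 (flp_d L147812) L138652 L147812
theorem L147819 : sm gc N12915 = N12253 := ded_24_1 (flp_d L141878) L132798 (flp_d L129934) (flp_c L138644) L147812
theorem L147821 : sm ge N12915 = N12045 := ded_30_2 (flp_d L139850) L130812 L130829 (flp_e L138646) L147812
theorem L147823 : sm gh N11916 = N12916 := rfl
theorem L147825 : sm ga N12916 = N11917 := ded_15_1 (flp_h L138661) (flp_a L138655) L147823
theorem L147827 : sm gc N12916 = N11922 := ded_28_1 (flp_h L138717) (flp_c L138657) L147823
theorem L147829 : sm gf N12916 = N12252 := ded_40_1 (flp_h L141868) (flp_f L138659) L147823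
theorem L147831 : sm gi N12916 = N12916 := ded_44_2 (flp_h L147823) (flp_i L138653) L129943 L138653 L147823
theorem L147832 : sm gd N11917 = N12917 := rfl
theorem L147834 : sm gb N12917 = N11918 := ded_18_1 (flp_d L138670) (flp_b L138663) L147832
theorem L147836 : sm gf N12917 = N12253 := ded_31_2 (flp_d L141878) (flp_f L138667) L147832
theorem L147838 : sm gi N12917 = N12917 := ded_34_2 (flp_d L147832) L138669 L147832
theorem L147839 : sm gc N12917 = N12742 := ded_24_1 L146026 (flp_c L138602) L138610 (flp_c L138665) L147832
theorem L147841 : sm ge N12917 = N12741 := ded_30_2 L146021 (flp_e L138546) (flp_d L146620) L146615 L147832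
theorem L147843 : sm ge N11918 = N12918 := rfl
theorem L147845 : sm gb N12918 = N12741 := ded_19_1 (flp_e L147841) L147834 L147843
theorem L147847 : sm gc N12918 = N12684 := ded_25_1 (flp_e L145585) (flp_c L138675) L147843
theorem L147849 : sm gg N12918 = N12045 := ded_36_2 (flp_e L147821) L147816 L147843
theorem L147851 : sm gi N12918 = N12918 := ded_38_2 (flp_e L147843) L138674 L147843
theorem L147852 : sm gd N12918 = N12044 := ded_30_1 L139843 (flp_d L137549) L137544 L138670 L147843
theorem L147854 : sm gf N12743 = N12918 := ded_45_3 (flp_e L147843) (flp_d L138670) (flp_b L138663) L138665 (flp_d L138610) L138612 (flp_h L138598) L129903 L122443 L64939 (flp_d L64602) L64600 L47331 L47332 (flp_i L34908) (flp_h L25614) L18847 L13887 L13884 (flp_d L18847) (flp_b L25575) (flp_c L34812) L34814 (flp_i L104415) (flp_h L37640) (flp_d L51258) L51260 L70180 (flp_d L125743) L125739 L68205 L49822 L49853 L68267 L125835 (flp_f L134049) (flp_e L138375) L138373 (flp_b L138632) L138634 L129996 (flp_i L123148) L65463 L48348 L104037 L35750 L26208 L19272 L14195 L10476 L7804 L5816 L4395 L4399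 L4396 L3294 L2459 L1939 (flp_d L2611) L2613 (flp_h L3460) L3459 L3462 L2875 L2874 (flp_b L3734) (flp_c L5033) (flp_d L6793) (flp_i L9116) L108725 L10391 (flp_f L14087) (flp_e L108885) (flp_d L25764) (flp_b L35073) (flp_c L47763) (flp_d L65249) (flp_i L110615) (flp_h L65851) (flp_d L122944) L122940 L125676 L125684 (flp_b L133860) (flp_c L139687) L139689 L139808 (flp_h L139818) (flp_d L146030)
theorem L147856 : sm gh N11920 = N12919 := rfl
theorem L147858 : sm ga N12919 = N11921 := ded_15_1 (flp_h L138706) (flp_a L138696) L147856
theorem L147860 : sm gb N12919 = N12876 := ded_22_1 (flp_h L147367) (flp_b L138698) L147856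
theorem L147862 : sm gf N12919 = N12125 := ded_40_1 (flp_h L140726) (flp_f L138702) L147856
theorem L147864 : sm gg N12919 = N11922 := ded_42_1 (flp_h L138717) (flp_g L138704) L147856
theorem L147866 : sm gd N12919 = N12140 := ded_33_1 (flp_h L140874) L131975 (flp_h L130889) (flp_d L138700) L147856
theorem L147868 : sm gi N12919 = N12919 := ded_44_2 (flp_h L147856) (flp_i L138694) L129989 L138694 L147856
theorem L147869 : sm ge N11923 = N12920 := rfl
theorem L147871 : sm ga N12920 = N12547 := ded_12_1 L144464 L144400 L147869
theorem L147873 : sm gb N12920 = N12048 := ded_19_1 (flp_e L139874) (flp_b L138726) L147869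
theorem L147875 : sm gc N12920 = N11927 := ded_25_1 (flp_e L138760) (flp_c L138728) L147869
theorem L147877 : sm gg N12920 = N12301 := ded_36_2 (flp_e L142291) (flp_g L138732) L147869
theorem L147879 : sm gi N12920 = N12067 := ded_38_2 (flp_e L140057) (flp_i L138730) L147869
theorem L147881 : sm gf N12920 = N12920 := ded_35_2 (flp_e L147869) (flp_f L138724) L130036 L138724 L147869
theorem L147882 : sm gh N11923 = N12921 := rfl
theorem L147884 : sm gb N12921 = N12049 := ded_22_1 (flp_h L139884) (flp_b L138726) L147882
theorem L147886 : sm gc N12921 = N11928 := ded_28_1 (flp_h L138772) (flp_c L138728) L147882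
theorem L147888 : sm gf N12921 = N11924 := ded_40_1 (flp_h L138734) L138724 L147882
theorem L147890 : sm gg N12921 = N12302 := ded_42_1 (flp_h L142303) (flp_g L138732) L147882
theorem L147892 : sm gd N11924 = N12922 := rfl
theorem L147894 : sm gb N12922 = N12050 := ded_18_1 (flp_d L139893) (flp_b L138736) L147892
theorem L147896 : sm gg N12922 = N11925 := ded_32_2 (flp_d L138743) (flp_g L138741) L147892
theorem L147898 : sm gi N11924 = N12923 := rfl
theorem L147900 : sm gb N12923 = N12051 := ded_23_1 (flp_i L139898) (flp_b L138736) L147898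
theorem L147902 : sm gc N12923 = N11930 := ded_29_1 (flp_i L138788) (flp_c L138738) L147898
theorem L147904 : sm ge N12923 = N12923 := ded_38_1 (flp_i L147898) L138740 L147898
theorem L147905 : sm gg N12923 = N11926 := ded_43_1 (flp_i L138749) (flp_g L138741) L147898
theorem L147907 : sm gh N12923 = N12433 := ded_44_1 (flp_i L143384) L134181 (flp_i L130037) L138734 L147898
theorem L147909 : sm gc N11925 = N12924 := rfl
theorem L147911 : sm gf N12924 = N12305 := ded_26_2 (flp_c L142327) (flp_f L138747) L147909
theorem L147913 : sm gd N12924 = N11931 := ded_24_2 (flp_c L138797) (flp_d L130065) (flp_c L130043) L138743 L147909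
theorem L147915 : sm ge N11925 = N12925 := rfl
theorem L147917 : sm gb N12925 = N12053 := ded_19_1 (flp_e L139915) (flp_b L138745) L147915
theorem L147919 : sm gd N12925 = N12925 := ded_30_1 (flp_e L147915) (flp_d L138743) L130045 L138743 L147915
theorem L147920 : sm gi N11925 = N12926 := rfl
theorem L147922 : sm gb N12926 = N12054 := ded_23_1 (flp_i L139919) (flp_b L138745) L147920
theorem L147924 : sm gd N12926 = N11926 := ded_34_1 (flp_i L138749) L138743 L147920
theorem L147926 : sm gf N12926 = N12307 := ded_41_1 (flp_i L142337) (flp_f L138747) L147920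
theorem L147928 : sm gh N11927 = N12927 := rfl
theorem L147930 : sm ga N12927 = N12549 := ded_15_1 (flp_h L144478) (flp_a L138762) L147928
theorem L147932 : sm gb N12927 = N11967 := ded_22_1 (flp_h L139065) (flp_b L138764) L147928
theorem L147934 : sm ge N12927 = N11928 := ded_37_1 (flp_h L138772) L138760 L147928
theorem L147936 : sm gf N12927 = N12927 := ded_40_1 (flp_h L147928) L138771 L147928
theorem L147937 : sm gg N12927 = N12308 := ded_42_1 (flp_h L142343) (flp_g L138766) L147928
theorem L147939 : sm gd N12084 = N12927 := ded_18_0 L147932 (flp_d L139076) L140260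
theorem L147941 : sm gd N11928 = N12928 := rfl
theorem L147943 : sm gb N12928 = N11968 := ded_18_1 (flp_d L139078) (flp_b L138774) L147941
theorem L147945 : sm gf N12928 = N11929 := ded_31_2 (flp_d L138780) (flp_f L138776) L147941
theorem L147947 : sm gg N12928 = N12283 := ded_32_2 L142139 (flp_g L138778) L147941
theorem L147949 : sm ge N12928 = N12117 := ded_30_2 L140656 (flp_e L140262) L147939 L147934 L147941
theorem L147951 : sm gh N12928 = N11934 := ded_33_2 (flp_d L138818) (flp_h L130082) (flp_d L130052) L138772 L147941
theorem L147953 : sm gi N11928 = N12929 := rfl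
theorem L147955 : sm gb N12929 = N11969 := ded_23_1 (flp_i L139092) (flp_b L138774) L147953
theorem L147957 : sm gf N12929 = N11930 := ded_41_1 (flp_i L138788) (flp_f L138776) L147953
theorem L147959 : sm gg N12929 = N12309 := ded_43_1 (flp_i L142353) (flp_g L138778) L147953
theorem L147961 : sm gh N12929 = N12075 := ded_44_1 (flp_i L140157) L131127 (flp_i L130054) L138772 L147953
theorem L147963 : sm gc N11929 = N12930 := rfl
theorem L147965 : sm gg N12930 = N11931 := ded_27_2 (flp_c L138797) (flp_g L138784) L147963
theorem L147967 : sm gh N12930 = N11936 := ded_28_2 (flp_c L138837) (flp_h L138786) L147963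
theorem L147969 : sm ge N11929 = N12931 := rfl
theorem L147971 : sm gb N12931 = N11971 := ded_19_1 (flp_e L139118) (flp_b L138782) L147969
theorem L147973 : sm gg N12931 = N11932 := ded_36_2 (flp_e L138803) (flp_g L138784) L147969
theorem L147975 : sm gh N12931 = N11937 := ded_37_2 (flp_e L138841) (flp_h L138786) L147969
theorem L147977 : sm gd N12931 = N12931 := ded_30_1 (flp_e L147969) (flp_d L138780) L130062 L138780 L147969
theorem L147978 : sm gf N12931 = N12661 := ded_35_2 (flp_e L145424) (flp_f L140658) (flp_e L147949) L147945 L147969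
theorem L147980 : sm gi N11929 = N12932 := rfl
theorem L147982 : sm gb N12932 = N11972 := ded_23_1 (flp_i L139131) (flp_b L138782) L147980
theorem L147984 : sm gd N12932 = N11930 := ded_34_1 (flp_i L138788) L138780 L147980
theorem L147986 : sm gg N12932 = N11933 := ded_43_1 (flp_i L138810) (flp_g L138784) L147980
theorem L147988 : sm gb N11931 = N12933 := rfl
theorem L147990 : sm gf N12933 = N12313 := ded_20_2 (flp_b L142387) (flp_f L138799) L147988
theorem L147992 : sm gh N12933 = N11939 := ded_22_2 (flp_b L138857) (flp_h L138801) L147988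
theorem L147994 : sm gc N12933 = N11973 := ded_17_2 (flp_b L139139) (flp_c L130275) (flp_b L130067) L138797 L147988
theorem L147996 : sm ge N11931 = N12934 := rfl
theorem L147998 : sm gc N12934 = N11932 := ded_25_1 (flp_e L138803) L138797 L147996
theorem L148000 : sm gh N12934 = N11940 := ded_37_2 (flp_e L138863) (flp_h L138801) L147996
theorem L148002 : sm gi N11931 = N12935 := rfl
theorem L148004 : sm gc N12935 = N11933 := ded_29_1 (flp_i L138810) L138797 L148002
theorem L148006 : sm gf N12935 = N12315 := ded_41_1 (flp_i L142401) (flp_f L138799) L148002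
theorem L148008 : sm gf N11932 = N12936 := rfl
theorem L148010 : sm gb N12936 = N11976 := ded_20_1 (flp_f L139169) (flp_b L138805) L148008
theorem L148012 : sm gd N12936 = N12936 := ded_31_1 (flp_f L148008) L138809 L148008
theorem L148013 : sm gh N12936 = N11942 := ded_40_2 (flp_f L138873) (flp_h L138807) L148008
theorem L148015 : sm ge N12936 = N12316 := ded_35_1 (flp_f L142405) (flp_e L133291) (flp_f L130069) L138803 L148008
theorem L148017 : sm gi N11932 = N12937 := rfl
theorem L148019 : sm gb N12937 = N11977 := ded_23_1 (flp_i L139178) (flp_b L138805) L148017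
theorem L148021 : sm gd N12937 = N12937 := ded_34_1 (flp_i L148017) L138809 L148017
theorem L148022 : sm ge N12937 = N11933 := ded_38_1 (flp_i L138810) L138803 L148017
theorem L148024 : sm gh N11933 = N12938 := rfl
theorem L148026 : sm gb N12938 = N11978 := ded_22_1 (flp_h L139185) (flp_b L138812) L148024
theorem L148028 : sm gf N12938 = N12318 := ded_40_1 (flp_h L142421) (flp_f L138816) L148024
theorem L148030 : sm gd N12938 = N12692 := ded_33_1 (flp_h L145632) L136613 (flp_h L130080) (flp_d L138814) L148024
theorem L148032 : sm gi N12938 = N11944 := ded_44_2 (flp_h L138889) (flp_i L130117) (flp_h L130071) L138810 L148024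
theorem L148034 : sm gc N11934 = N12939 := rfl
theorem L148036 : sm gf N12939 = N11936 := ded_26_2 (flp_c L138837) (flp_f L138822) L148034
theorem L148038 : sm gg N12939 = N12261 := ded_27_2 L141943 (flp_g L138824) L148034
theorem L148040 : sm gb N12939 = N12259 := ded_17_1 (flp_c L141923) L132861 (flp_c L130308) (flp_b L138820) L148034
theorem L148042 : sm ge N11934 = N12940 := rfl
theorem L148044 : sm gb N12940 = N11979 := ded_19_1 (flp_e L139195) (flp_b L138820) L148042
theorem L148046 : sm gg N12940 = N12287 := ded_36_2 (flp_e L142173) (flp_g L138824) L148042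
theorem L148048 : sm gh N12940 = N12117 := ded_37_2 (flp_e L147949) L147951 L148042
theorem L148050 : sm gd N12940 = N12940 := ded_30_1 (flp_e L148042) (flp_d L138818) L130086 L138818 L148042
theorem L148051 : sm gf N12657 = N12940 := ded_46_1 (flp_e L148042) (flp_d L138818) (flp_c L130485) (flp_b L130476) L122863 L65396 (flp_f L92138) L36165 L26499 L20939 L15383 L11332 (flp_h L115226) L15194 (flp_e L15186) L11181 L8244 (flp_b L7709) L7707 (flp_h L10215) (flp_f L10211) (flp_e L7536) (flp_d L5599) L4156 L4155 (flp_a L4213) (flp_h L4211) L3142 L3141 L3139 L2344 L2214 L2212 L2350 L2356 L2354 L2371 L3177 L4267 L5781 L5788 L4366 L4400 L5962 L5969 (flp_b L109944) L6823 (flp_h L6784) (flp_f L7954) (flp_e L10621) (flp_d L14416) (flp_c L19602) (flp_b L26323) (flp_a L35852) L48910 L48916 (flp_e L66904) L124419 L132307 L141373 L141379 (flp_h L145402)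
theorem L148053 : sm gi N11934 = N12941 := rfl
theorem L148055 : sm gb N12941 = N11980 := ded_23_1 (flp_i L139208) (flp_b L138820) L148053
theorem L148057 : sm gd N12941 = N11935 := ded_34_1 (flp_i L138826) L138818 L148053
theorem L148059 : sm gf N12941 = N11938 := ded_41_1 (flp_i L138849) (flp_f L138822) L148053
theorem L148061 : sm gg N12941 = N12288 := ded_43_1 (flp_i L142178) (flp_g L138824) L148053
theorem L148063 : sm gb N11936 = N12942 := rfl
theorem L148065 : sm gd N12942 = N12939 := ded_18_2 L148040 L141927 L148063
theorem L148067 : sm gf N12942 = N12259 := ded_20_2 (flp_b L148040) L148036 L148063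
theorem L148069 : sm gg N12942 = N11939 := ded_21_2 (flp_b L138857) (flp_g L138839) L148063
theorem L148071 : sm gc N12942 = N11981 := ded_17_2 (flp_b L139220) (flp_c L130323) (flp_b L130093) L138837 L148063
theorem L148073 : sm ge N11936 = N12943 := rfl
theorem L148075 : sm gc N12943 = N11937 := ded_25_1 (flp_e L138841) L138837 L148073
theorem L148077 : sm gg N12943 = N11940 := ded_36_2 (flp_e L138863) (flp_g L138839) L148073
theorem L148079 : sm gi N11936 = N12944 := rfl
theorem L148081 : sm gc N12944 = N11938 := ded_29_1 (flp_i L138849) L138837 L148079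
theorem L148083 : sm gg N12944 = N11941 := ded_43_1 (flp_i L138867) (flp_g L138839) L148079
theorem L148085 : sm gf N11937 = N12945 := rfl
theorem L148087 : sm ga N12945 = N12590 := ded_13_1 L146779 L146771 L148085
theorem L148089 : sm gb N12945 = N11984 := ded_20_1 (flp_f L139253) (flp_b L138843) L148085
theorem L148091 : sm gd N12945 = N11947 := ded_31_1 (flp_f L138913) (flp_d L138847) L148085
theorem L148093 : sm gh N12945 = N12661 := ded_40_2 (flp_f L147978) L147975 L148085
theorem L148095 : sm ge N12945 = N12657 := ded_35_1 L148051 (flp_e L148042) L138822 L138841 L148085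
theorem L148097 : sm gi N11937 = N12946 := rfl
theorem L148099 : sm gb N12946 = N11985 := ded_23_1 (flp_i L139265) (flp_b L138843) L148097
theorem L148101 : sm gd N12946 = N11948 := ded_34_1 (flp_i L138921) (flp_d L138847) L148097
theorem L148103 : sm ge N12946 = N11938 := ded_38_1 (flp_i L138849) L138841 L148097
theorem L148105 : sm gg N12946 = N11943 := ded_43_1 (flp_i L138881) (flp_g L138845) L148097
theorem L148107 : sm gh N11938 = N12947 := rfl
theorem L148109 : sm gb N12947 = N11986 := ded_22_1 (flp_h L139275) (flp_b L138851) L148107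
theorem L148111 : sm gg N12947 = N11944 := ded_42_1 (flp_h L138889) (flp_g L138855) L148107
theorem L148113 : sm gd N12947 = N12382 := ded_33_1 (flp_h L142968) L133680 (flp_h L130105) (flp_d L138853) L148107
theorem L148115 : sm ga N11939 = N12948 := rfl
theorem L148117 : sm gc N12948 = N11987 := ded_10_2 (flp_a L139283) (flp_c L138861) L148115
theorem L148119 : sm gf N12948 = N12324 := ded_13_2 (flp_a L142465) (flp_f L138859) L148115
theorem L148121 : sm ge N11939 = N12949 := rfl
theorem L148123 : sm gb N12949 = N11940 := ded_19_1 (flp_e L138863) L138857 L148121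
theorem L148125 : sm gc N12949 = N11988 := ded_25_1 (flp_e L139291) (flp_c L138861) L148121
theorem L148127 : sm gi N11939 = N12950 := rfl
theorem L148129 : sm gb N12950 = N11941 := ded_23_1 (flp_i L138867) L138857 L148127
theorem L148131 : sm gc N12950 = N11989 := ded_29_1 (flp_i L139296) (flp_c L138861) L148127
theorem L148133 : sm gf N12950 = N12326 := ded_41_1 (flp_i L142481) (flp_f L138859) L148127
theorem L148135 : sm gd N11940 = N12951 := rfl
theorem L148137 : sm gc N12951 = N11950 := ded_24_1 (flp_d L138939) L130151 (flp_d L130115) (flp_c L138865) L148135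
theorem L148139 : sm gf N11940 = N12952 := rfl
theorem L148141 : sm gc N12952 = N11942 := ded_26_1 (flp_f L138873) (flp_c L138865) L148139
theorem L148143 : sm ge N12952 = N12328 := ded_35_1 (flp_f L142495) (flp_e L133335) (flp_f L130109) L138863 L148139
theorem L148145 : sm gi N11940 = N12953 := rfl
theorem L148147 : sm gc N12953 = N11943 := ded_29_1 (flp_i L138881) (flp_c L138865) L148145
theorem L148149 : sm ge N12953 = N11941 := ded_38_1 (flp_i L138867) L138863 L148145
theorem L148151 : sm gh N11941 = N12954 := rfl
theorem L148153 : sm gc N12954 = N11944 := ded_28_1 (flp_h L138889) (flp_c L138869) L148151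
theorem L148155 : sm gf N12954 = N12330 := ded_40_1 (flp_h L142505) (flp_f L138871) L148151
theorem L148157 : sm gg N11942 = N12955 := rfl
theorem L148159 : sm gb N12955 = N11993 := ded_21_1 (flp_g L139330) (flp_b L138875) L148157
theorem L148161 : sm gd N12955 = N11954 := ded_32_1 (flp_g L138965) (flp_d L138877) L148157
theorem L148163 : sm ge N12955 = N12331 := ded_36_1 (flp_g L142509) (flp_e L138879) L148157
theorem L148165 : sm gi N11942 = N12956 := rfl
theorem L148167 : sm gb N12956 = N11994 := ded_23_1 (flp_i L139338) (flp_b L138875) L148165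
theorem L148169 : sm gd N12956 = N11955 := ded_34_1 (flp_i L138972) (flp_d L138877) L148165
theorem L148171 : sm ge N12956 = N12332 := ded_38_1 (flp_i L142515) (flp_e L138879) L148165
theorem L148173 : sm gf N12956 = N11943 := ded_41_1 (flp_i L138881) L138873 L148165
theorem L148175 : sm gh N11943 = N12957 := rfl
theorem L148177 : sm gb N12957 = N11995 := ded_22_1 (flp_h L139348) (flp_b L138883) L148175
theorem L148179 : sm ge N12957 = N11944 := ded_37_1 (flp_h L138889) (flp_e L138887) L148175
theorem L148181 : sm gd N11945 = N12958 := rfl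
theorem L148183 : sm gb N12958 = N12958 := ded_18_1 (flp_d L148181) L138899 L148181
theorem L148184 : sm gg N12958 = N11950 := ded_32_2 (flp_d L138939) (flp_g L138902) L148181
theorem L148186 : sm gf N11945 = N12959 := rfl
theorem L148188 : sm ga N12959 = N12624 := ded_13_1 L145095 L144376 L148186
theorem L148190 : sm gb N12959 = N12959 := ded_20_1 (flp_f L148186) L138899 L148186
theorem L148191 : sm gc N12959 = N11947 := ded_26_1 (flp_f L138913) (flp_c L138900) L148186
theorem L148193 : sm gh N12959 = N12959 := ded_40_2 (flp_f L148186) L138904 L148186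
theorem L148194 : sm ge N12959 = N12959 := ded_35_1 (flp_f L148186) (flp_e L138897) L130127 L138897 L148186
theorem L148195 : sm gi N11945 = N12960 := rfl
theorem L148197 : sm gb N12960 = N12960 := ded_23_1 (flp_i L148195) L138899 L148195
theorem L148198 : sm gc N12960 = N11948 := ded_29_1 (flp_i L138921) (flp_c L138900) L148195
theorem L148200 : sm ge N12960 = N11946 := ded_38_1 (flp_i L138905) L138897 L148195
theorem L148202 : sm gg N12960 = N11952 := ded_43_1 (flp_i L138950) (flp_g L138902) L148195
theorem L148204 : sm gh N11946 = N12961 := rfl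
theorem L148206 : sm gb N12961 = N12961 := ded_22_1 (flp_h L148204) L138907 L148204
theorem L148207 : sm gc N12961 = N11949 := ded_28_1 (flp_h L138929) (flp_c L138908) L148204
theorem L148209 : sm gf N12961 = N12961 := ded_40_1 (flp_h L148204) L138910 L148204
theorem L148210 : sm gg N12961 = N11953 := ded_42_1 (flp_h L138957) (flp_g L138911) L148204
theorem L148212 : sm gi N12961 = N12961 := ded_44_2 (flp_h L148204) (flp_i L138905) L130130 L138905 L148204
theorem L148213 : sm gg N11947 = N12962 := rfl
theorem L148215 : sm ga N12962 = N12628 := ded_14_1 L145144 (flp_a L138915) L148213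
theorem L148217 : sm gb N12962 = N11996 := ded_21_1 (flp_g L139354) (flp_b L138917) L148213
theorem L148219 : sm ge N12962 = N12962 := ded_36_1 (flp_g L148213) L138920 L148213
theorem L148220 : sm gh N12962 = N12962 := ded_42_2 (flp_g L148213) L138919 L148213
theorem L148221 : sm gf N12962 = N11954 := ded_39_1 (flp_g L138965) (flp_f L130161) (flp_g L130136) L138913 L148213
theorem L148223 : sm gi N11947 = N12963 := rfl
theorem L148225 : sm ga N12963 = N12497 := ded_16_1 L143968 (flp_a L138915) L148223
theorem L148227 : sm gb N12963 = N11997 := ded_23_1 (flp_i L139363) (flp_b L138917) L148223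
theorem L148229 : sm ge N12963 = N12963 := ded_38_1 (flp_i L148223) L138920 L148223
theorem L148230 : sm gf N12963 = N11948 := ded_41_1 (flp_i L138921) L138913 L148223
theorem L148232 : sm gh N11948 = N12964 := rfl
theorem L148234 : sm gb N12964 = N11998 := ded_22_1 (flp_h L139371) (flp_b L138923) L148232
theorem L148236 : sm ge N12964 = N11949 := ded_37_1 (flp_h L138929) (flp_e L138925) L148232
theorem L148238 : sm gg N12964 = N11956 := ded_42_1 (flp_h L138980) (flp_g L138927) L148232
theorem L148240 : sm gi N12964 = N12964 := ded_44_2 (flp_h L148232) (flp_i L138921) L130138 L138921 L148232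
theorem L148241 : sm gf N11950 = N12965 := rfl
theorem L148243 : sm gb N12965 = N12965 := ded_20_1 (flp_f L148241) L138941 L148241
theorem L148244 : sm gd N12965 = N11951 := ded_31_1 (flp_f L138942) L138939 L148241
theorem L148246 : sm gh N11950 = N12966 := rfl
theorem L148248 : sm gb N12966 = N12966 := ded_22_1 (flp_h L148246) L138941 L148246
theorem L148249 : sm gd N12966 = N12966 := ded_33_1 (flp_h L148246) (flp_d L138939) L130153 L138939 L148246
theorem L148250 : sm gi N11950 = N12967 := rfl
theorem L148252 : sm gb N12967 = N12967 := ded_23_1 (flp_i L148250) L138941 L148250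
theorem L148253 : sm gd N12967 = N11952 := ded_34_1 (flp_i L138950) L138939 L148250
theorem L148255 : sm gg N11951 = N12968 := rfl
theorem L148257 : sm gb N12968 = N12968 := ded_21_1 (flp_g L148255) L138944 L148255
theorem L148258 : sm gc N12968 = N11954 := ded_27_1 (flp_g L138965) (flp_c L138945) L148255
theorem L148260 : sm ge N12968 = N11960 := ded_36_1 (flp_g L139009) (flp_e L138948) L148255
theorem L148262 : sm gh N12968 = N12968 := ded_42_2 (flp_g L148255) L138947 L148255
theorem L148263 : sm gi N11951 = N12969 := rfl
theorem L148265 : sm gb N12969 = N12969 := ded_23_1 (flp_i L148263) L138944 L148263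
theorem L148266 : sm gc N12969 = N11955 := ded_29_1 (flp_i L138972) (flp_c L138945) L148263
theorem L148268 : sm ge N12969 = N11961 := ded_38_1 (flp_i L139016) (flp_e L138948) L148263
theorem L148270 : sm gf N12969 = N11952 := ded_41_1 (flp_i L138950) L138942 L148263
theorem L148272 : sm gh N11952 = N12970 := rfl
theorem L148274 : sm gb N12970 = N12970 := ded_22_1 (flp_h L148272) L138952 L148272
theorem L148275 : sm gc N12970 = N11956 := ded_28_1 (flp_h L138980) (flp_c L138953) L148272
theorem L148277 : sm ge N12970 = N11953 := ded_37_1 (flp_h L138957) (flp_e L138955) L148272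
theorem L148279 : sm gi N12970 = N12970 := ded_44_2 (flp_h L148272) (flp_i L138950) L130153 L138950 L148272
theorem L148280 : sm gd N11953 = N12971 := rfl
theorem L148282 : sm gb N12971 = N12971 := ded_18_1 (flp_d L148280) L138959 L148280
theorem L148283 : sm gf N12971 = N11963 := ded_31_2 (flp_d L139032) (flp_f L138962) L148280
theorem L148285 : sm gi N12971 = N12971 := ded_34_2 (flp_d L148280) L138964 L148280
theorem L148286 : sm gc N12971 = N12706 := ded_24_1 (flp_d L145727) L136670 (flp_d L130180) (flp_c L138960) L148280
theorem L148288 : sm gi N11954 = N12972 := rfl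
theorem L148290 : sm gb N12972 = N11999 := ded_23_1 (flp_i L139381) (flp_b L138967) L148288
theorem L148292 : sm ge N12972 = N11964 := ded_38_1 (flp_i L139039) (flp_e L138969) L148288
theorem L148294 : sm gg N12972 = N11955 := ded_43_1 (flp_i L138972) L138965 L148288
theorem L148296 : sm gh N11955 = N12973 := rfl
theorem L148298 : sm gb N12973 = N12000 := ded_22_1 (flp_h L139390) (flp_b L138974) L148296
theorem L148300 : sm ge N12973 = N11965 := ded_37_1 (flp_h L139048) (flp_e L138976) L148296
theorem L148302 : sm gf N12973 = N11956 := ded_40_1 (flp_h L138980) (flp_f L138978) L148296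
theorem L148304 : sm gi N12973 = N12973 := ded_44_2 (flp_h L148296) (flp_i L138972) L130165 L138972 L148296
theorem L148305 : sm gd N11956 = N12974 := rfl
theorem L148307 : sm gb N12974 = N12001 := ded_18_1 (flp_d L139400) (flp_b L138982) L148305
theorem L148309 : sm gi N12974 = N12974 := ded_34_2 (flp_d L148305) L138986 L148305
theorem L148310 : sm ge N12974 = N12709 := ded_30_2 (flp_d L145753) L136694 (flp_d L130180) (flp_e L138984) L148305
theorem L148312 : sm ge N11957 = N12975 := rfl
theorem L148314 : sm gb N12975 = N12975 := ded_19_1 (flp_e L148312) L138989 L148312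
theorem L148315 : sm gc N12975 = N12351 := ded_25_1 (flp_e L142675) (flp_c L138990) L148312
theorem L148317 : sm gg N11957 = N12976 := rfl
theorem L148319 : sm gb N12976 = N12976 := ded_21_1 (flp_g L148317) L138989 L148317
theorem L148320 : sm gc N12976 = N12352 := ded_27_1 (flp_g L142679) (flp_c L138990) L148317
theorem L148322 : sm gd N12976 = N11960 := ded_32_1 (flp_g L139009) (flp_d L138992) L148317
theorem L148324 : sm gf N12976 = N12976 := ded_39_1 (flp_g L148317) (flp_f L138987) L130186 L138987 L148317
theorem L148325 : sm gh N11957 = N12977 := rfl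
theorem L148327 : sm gb N12977 = N12977 := ded_22_1 (flp_h L148325) L138989 L148325
theorem L148328 : sm gc N12977 = N12353 := ded_28_1 (flp_h L142686) (flp_c L138990) L148325
theorem L148330 : sm gf N12977 = N11958 := ded_40_1 (flp_h L138994) L138987 L148325
theorem L148332 : sm gd N12977 = N12977 := ded_33_1 (flp_h L148325) L138992 L130194 (flp_d L138992) L148325
theorem L148333 : sm gi N11957 = N12978 := rfl
theorem L148335 : sm gb N12978 = N12978 := ded_23_1 (flp_i L148333) L138989 L148333
theorem L148336 : sm gc N12978 = N12354 := ded_29_1 (flp_i L142694) (flp_c L138990) L148333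
theorem L148338 : sm gd N12978 = N11961 := ded_34_1 (flp_i L139016) (flp_d L138992) L148333
theorem L148340 : sm gf N12978 = N11959 := ded_41_1 (flp_i L139001) L138987 L148333
theorem L148342 : sm gi N11960 = N12979 := rfl
theorem L148344 : sm gb N12979 = N12979 := ded_23_1 (flp_i L148342) L139011 L148342
theorem L148345 : sm gc N12979 = N11964 := ded_29_1 (flp_i L139039) (flp_c L139012) L148342
theorem L148347 : sm gf N12979 = N12979 := ded_41_1 (flp_i L148342) L139015 L148342
theorem L148348 : sm gg N12979 = N11961 := ded_43_1 (flp_i L139016) L139009 L148342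
theorem L148350 : sm gh N11961 = N12980 := rfl
theorem L148352 : sm gb N12980 = N12980 := ded_22_1 (flp_h L148350) L139018 L148350
theorem L148353 : sm gc N12980 = N11965 := ded_28_1 (flp_h L139048) (flp_c L139019) L148350
theorem L148355 : sm gf N12980 = N11962 := ded_40_1 (flp_h L139023) (flp_f L139021) L148350
theorem L148357 : sm gi N12980 = N12980 := ded_44_2 (flp_h L148350) (flp_i L139016) L130194 L139016 L148350
theorem L148358 : sm gh N11964 = N12981 := rfl
theorem L148360 : sm gb N12981 = N12002 := ded_22_1 (flp_h L139407) (flp_b L139041) L148358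
theorem L148362 : sm gf N12981 = N12981 := ded_40_1 (flp_h L148358) L139045 L148358
theorem L148363 : sm gg N12981 = N11965 := ded_42_1 (flp_h L139048) (flp_g L139046) L148358
theorem L148365 : sm gi N12981 = N12981 := ded_44_2 (flp_h L148358) (flp_i L139039) L130216 L139039 L148358
theorem L148366 : sm gd N11965 = N12982 := rfl
theorem L148368 : sm gb N12982 = N12003 := ded_18_1 (flp_d L139416) (flp_b L139050) L148366
theorem L148370 : sm gf N12982 = N11966 := ded_31_2 (flp_d L139055) (flp_f L139052) L148366
theorem L148372 : sm gi N12982 = N12982 := ded_34_2 (flp_d L148366) L139054 L148366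
theorem L148373 : sm gh N12982 = N12362 := ded_33_2 (flp_d L142780) (flp_h L133526) (flp_d L130222) L139048 L148366
theorem L148375 : sm gi N11967 = N12983 := rfl
theorem L148377 : sm ga N12983 = N12008 := ded_16_1 (flp_i L139471) (flp_a L139067) L148375
theorem L148379 : sm gc N12983 = N12069 := ded_29_1 (flp_i L140078) (flp_c L139069) L148375
theorem L148381 : sm gd N12983 = N12085 := ded_34_1 (flp_i L140268) L139076 L148375
theorem L148383 : sm ge N12983 = N11969 := ded_38_1 (flp_i L139092) (flp_e L139071) L148375
theorem L148385 : sm gf N12983 = N12983 := ded_41_1 (flp_i L148375) L139073 L148375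
theorem L148386 : sm gg N12983 = N12121 := ded_43_1 L140698 (flp_g L139074) L148375
theorem L148388 : sm gh N12983 = N12076 := ded_44_1 (flp_i L140163) L131137 (flp_i L130242) L139065 L148375
theorem L148390 : sm gi N11968 = N12984 := rfl
theorem L148392 : sm ga N12984 = N12009 := ded_16_1 (flp_i L139486) (flp_a L139080) L148390
theorem L148394 : sm gc N12984 = N12119 := ded_29_1 (flp_i L140670) (flp_c L139086) L148390
theorem L148396 : sm gd N12984 = N11969 := ded_34_1 (flp_i L139092) L139078 L148390
theorem L148398 : sm ge N12984 = N12118 := ded_38_1 (flp_i L140660) (flp_e L139088) L148390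
theorem L148400 : sm gf N12984 = N11972 := ded_41_1 (flp_i L139131) (flp_f L139082) L148390
theorem L148402 : sm gg N12984 = N12284 := ded_43_1 (flp_i L142145) (flp_g L139084) L148390
theorem L148404 : sm gb N11970 = N12985 := rfl
theorem L148406 : sm gd N12985 = N12070 := ded_18_2 (flp_b L140091) (flp_d L139114) L148404
theorem L148408 : sm ge N12985 = N12637 := ded_19_2 L145209 L139116 L148404
theorem L148410 : sm gf N12985 = N12103 := ded_20_2 L140502 (flp_f L139108) L148404
theorem L148412 : sm gg N12985 = N11973 := ded_21_2 (flp_b L139139) (flp_g L139110) L148404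
theorem L148414 : sm gh N12985 = N11981 := ded_22_2 (flp_b L139220) (flp_h L139112) L148404
theorem L148416 : sm ga N12985 = N12264 := ded_9_1 L141959 L133074 L130561 (flp_a L139106) L148404
theorem L148418 : sm gi N11970 = N12986 := rfl
theorem L148420 : sm ga N12986 = N12010 := ded_16_1 (flp_i L139498) (flp_a L139106) L148418
theorem L148422 : sm gc N12986 = N11972 := ded_29_1 (flp_i L139131) L139104 L148418
theorem L148424 : sm gd N12986 = N12071 := ded_34_1 (flp_i L140103) (flp_d L139114) L148418
theorem L148426 : sm ge N12986 = N12665 := ded_38_1 (flp_i L145450) L139116 L148418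
theorem L148428 : sm gf N12986 = N12119 := ded_41_1 (flp_i L140670) (flp_f L139108) L148418
theorem L148430 : sm gg N12986 = N11975 := ded_43_1 (flp_i L139159) (flp_g L139110) L148418
theorem L148432 : sm gi N11971 = N12987 := rfl
theorem L148434 : sm ga N12987 = N12011 := ded_16_1 (flp_i L139512) (flp_a L139120) L148432
theorem L148436 : sm gc N12987 = N12665 := ded_29_1 (flp_i L145450) (flp_c L139122) L148432
theorem L148438 : sm gd N12987 = N12987 := ded_34_1 (flp_i L148432) L139128 L148432
theorem L148439 : sm ge N12987 = N11972 := ded_38_1 (flp_i L139131) L139118 L148432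
theorem L148441 : sm gf N12987 = N12663 := ded_41_1 (flp_i L145435) (flp_f L139129) L148432
theorem L148443 : sm gg N12987 = N11977 := ded_43_1 (flp_i L139178) (flp_g L139124) L148432
theorem L148445 : sm gh N11972 = N12988 := rfl
theorem L148447 : sm ga N12988 = N12012 := ded_15_1 (flp_h L139523) (flp_a L139133) L148445
theorem L148449 : sm gg N12988 = N11978 := ded_42_1 (flp_h L139185) (flp_g L139137) L148445
theorem L148451 : sm gd N12988 = N12371 := ded_33_1 (flp_h L142868) L133606 (flp_h L130273) (flp_d L139135) L148445
theorem L148453 : sm gi N12988 = N11986 := ded_44_2 (flp_h L139275) (flp_i L130341) (flp_h L130262) L139131 L148445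
theorem L148455 : sm ga N11973 = N12989 := rfl
theorem L148457 : sm gd N12989 = N12073 := ded_11_2 (flp_a L140132) (flp_d L139141) L148455
theorem L148459 : sm gf N12989 = N12366 := ded_13_2 (flp_a L142821) (flp_f L139143) L148455
theorem L148461 : sm gg N12989 = N12264 := ded_14_2 (flp_a L148416) L148412 L148455
theorem L148463 : sm gh N12989 = N11987 := ded_15_2 (flp_a L139283) (flp_h L139145) L148455
theorem L148465 : sm gb N12989 = N12013 := ded_9_2 (flp_a L139531) (flp_b L130582) (flp_a L130277) L139139 L148455
theorem L148467 : sm ge N12697 = N12989 := ded_30_0 L148457 (flp_e L140142) L133001 (flp_e L136679) (flp_d L145662)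
theorem L148469 : sm ge N11973 = N12990 := rfl
theorem L148471 : sm ga N12990 = N12697 := ded_12_1 L148467 (flp_a L148455) L148469
theorem L148473 : sm gb N12990 = N11974 := ded_19_1 (flp_e L139147) L139139 L148469
theorem L148475 : sm gg N12990 = N12637 := ded_36_2 (flp_e L148408) L148412 L148469
theorem L148477 : sm gh N12990 = N11988 := ded_37_2 (flp_e L139291) (flp_h L139145) L148469
theorem L148479 : sm gd N12990 = N12644 := ded_30_1 L145271 L140155 (flp_e L140144) (flp_d L139141) L148469
theorem L148481 : sm gi N11973 = N12991 := rfl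
theorem L148483 : sm gb N12991 = N11975 := ded_23_1 (flp_i L139159) L139139 L148481
theorem L148485 : sm gd N12991 = N12075 := ded_34_1 (flp_i L140157) (flp_d L139141) L148481
theorem L148487 : sm gf N12991 = N12368 := ded_41_1 (flp_i L142840) (flp_f L139143) L148481
theorem L148489 : sm gf N11974 = N12992 := rfl
theorem L148491 : sm ga N12992 = N12015 := ded_13_1 (flp_f L139555) (flp_a L139149) L148489
theorem L148493 : sm gc N12992 = N11976 := ded_26_1 (flp_f L139169) (flp_c L139151) L148489
theorem L148495 : sm gd N12992 = N12498 := ded_31_1 L143977 (flp_d L139157) L148489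
theorem L148497 : sm gh N12992 = N11990 := ded_40_2 (flp_f L139304) (flp_h L139155) L148489
theorem L148499 : sm ge N12992 = N12369 := ded_35_1 (flp_f L142848) (flp_e L133589) (flp_f L130279) L139147 L148489
theorem L148501 : sm gg N12992 = N12405 := ded_39_2 (flp_f L143168) L133945 L136414 (flp_g L139153) L148489
theorem L148503 : sm gi N11974 = N12993 := rfl
theorem L148505 : sm ga N12993 = N12016 := ded_16_1 (flp_i L139569) (flp_a L139149) L148503
theorem L148507 : sm gc N12993 = N11977 := ded_29_1 (flp_i L139178) (flp_c L139151) L148503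
theorem L148509 : sm gd N12993 = N12667 := ded_34_1 (flp_i L145464) (flp_d L139157) L148503
theorem L148511 : sm ge N12993 = N11975 := ded_38_1 (flp_i L139159) L139147 L148503
theorem L148513 : sm gg N12993 = N12665 := ded_43_1 (flp_i L145450) (flp_g L139153) L148503
theorem L148515 : sm gh N11975 = N12994 := rfl
theorem L148517 : sm ga N12994 = N12017 := ded_15_1 (flp_h L139581) (flp_a L139161) L148515
theorem L148519 : sm gc N12994 = N11978 := ded_28_1 (flp_h L139185) (flp_c L139163) L148515
theorem L148521 : sm gf N12994 = N12371 := ded_40_1 (flp_h L142868) (flp_f L139167) L148515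
theorem L148523 : sm gi N12994 = N11992 := ded_44_2 (flp_h L139322) (flp_i L130362) (flp_h L130281) L139159 L148515
theorem L148525 : sm gg N11976 = N12995 := rfl
theorem L148527 : sm ga N12995 = N12018 := ded_14_1 (flp_g L139589) (flp_a L139171) L148525
theorem L148529 : sm gc N12995 = N12405 := ded_27_1 (flp_g L148501) L148493 L148525
theorem L148531 : sm gd N12995 = N12995 := ded_32_1 (flp_g L148525) L139173 L148525
theorem L148532 : sm ge N12995 = N12372 := ded_36_1 (flp_g L142878) (flp_e L139176) L148525
theorem L148534 : sm gh N12995 = N11993 := ded_42_2 (flp_g L139330) (flp_h L139174) L148525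
theorem L148536 : sm gf N12995 = N12238 := ded_39_1 L141749 (flp_f L139129) L139124 L139169 L148525
theorem L148538 : sm gi N11976 = N12996 := rfl
theorem L148540 : sm ga N12996 = N12019 := ded_16_1 (flp_i L139602) (flp_a L139171) L148538
theorem L148542 : sm gd N12996 = N12996 := ded_34_1 (flp_i L148538) L139173 L148538
theorem L148543 : sm ge N12996 = N12373 := ded_38_1 (flp_i L142886) (flp_e L139176) L148538
theorem L148545 : sm gf N12996 = N11977 := ded_41_1 (flp_i L139178) L139169 L148538
theorem L148547 : sm gh N11977 = N12997 := rfl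
theorem L148549 : sm ga N12997 = N12020 := ded_15_1 (flp_h L139609) (flp_a L139180) L148547
theorem L148551 : sm ge N12997 = N11978 := ded_37_1 (flp_h L139185) (flp_e L139183) L148547
theorem L148553 : sm gi N12997 = N11995 := ded_44_2 (flp_h L139348) (flp_i L130380) (flp_h L130289) L139178 L148547
theorem L148555 : sm gi N11979 = N12998 := rfl
theorem L148557 : sm ga N12998 = N12021 := ded_16_1 (flp_i L139615) (flp_a L139197) L148555
theorem L148559 : sm gc N12998 = N12114 := ded_29_1 (flp_i L140620) (flp_c L139199) L148555
theorem L148561 : sm gd N12998 = N12998 := ded_34_1 (flp_i L148555) L139205 L148555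
theorem L148562 : sm ge N12998 = N11980 := ded_38_1 (flp_i L139208) L139195 L148555
theorem L148564 : sm gf N12998 = N12658 := ded_41_1 (flp_i L145404) L139206 L148555
theorem L148566 : sm gg N12998 = N12290 := ded_43_1 (flp_i L142195) (flp_g L139201) L148555
theorem L148568 : sm gh N11980 = N12999 := rfl
theorem L148570 : sm ga N12999 = N12022 := ded_15_1 (flp_h L139626) (flp_a L139210) L148568
theorem L148572 : sm gc N12999 = N12286 := ded_28_1 (flp_h L142165) (flp_c L139212) L148568
theorem L148574 : sm gf N12999 = N11986 := ded_40_1 (flp_h L139275) (flp_f L139216) L148568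
theorem L148576 : sm gg N12999 = N12291 := ded_42_1 (flp_h L142204) (flp_g L139218) L148568
theorem L148578 : sm gd N12999 = N11992 := ded_33_1 (flp_h L139322) L130368 (flp_h L130321) (flp_d L139214) L148568
theorem L148580 : sm ga N11981 = N13000 := rfl
theorem L148582 : sm gd N13000 = N12005 := ded_11_2 (flp_a L139436) (flp_d L139222) L148580
theorem L148584 : sm gf N13000 = N12100 := ded_13_2 L140466 (flp_f L139224) L148580
theorem L148586 : sm gg N13000 = N11987 := ded_14_2 (flp_a L139283) (flp_g L139226) L148580
theorem L148588 : sm gh N13000 = N12264 := ded_15_2 (flp_a L148416) L148414 L148580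
theorem L148590 : sm gb N13000 = N12023 := ded_9_2 (flp_a L139636) (flp_b L130655) (flp_a L130325) L139220 L148580
theorem L148592 : sm ge N12690 = N13000 := ded_46_2 L148582 L139438 L137705 L129480 (flp_h L122314) (flp_f L64824) L47449 L34814 L34812 L25575 (flp_a L19293) L26249 L26255 (flp_e L35795) L48812 (flp_c L103661) (flp_b L122431) (flp_a L129597) L129603 L129599 (flp_e L129039) (flp_d L129029) L121824 (flp_b L127916) L127915 L127920 L74667 L54624 (flp_d L54617) (flp_c L54584) L54583 L54582 (flp_h L54580) (flp_f L54578) L54577 (flp_d L74601) (flp_c L127848) (flp_b L135613) (flp_a L144307) (flp_h L144449) L144447 L135325 L135323 L127151 L72678 L53189 L53356 (flp_f L73051) (flp_e L124576) L132490 (flp_c L138336) L138334 (flp_a L139197) L139203 L131747 L136399 L136405 L136403 (flp_b L136257) L136255 (flp_h L136606) L145618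
theorem L148594 : sm ge N11981 = N13001 := rfl
theorem L148596 : sm ga N13001 = N12690 := ded_12_1 L148592 (flp_a L148580) L148594
theorem L148598 : sm gb N13001 = N11982 := ded_19_1 (flp_e L139228) L139220 L148594
theorem L148600 : sm gg N13001 = N11988 := ded_36_2 (flp_e L139291) (flp_g L139226) L148594
theorem L148602 : sm gh N13001 = N12637 := ded_37_2 (flp_e L148408) L148414 L148594
theorem L148604 : sm gd N13001 = N13001 := ded_30_1 (flp_e L148594) L139222 L130478 (flp_d L139222) L148594
theorem L148605 : sm gf N13001 = N12632 := ded_35_2 (flp_e L145168) (flp_f L140442) L140446 (flp_f L139224) L148594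
theorem L148607 : sm gi N11981 = N13002 := rfl
theorem L148609 : sm gb N13002 = N11983 := ded_23_1 (flp_i L139241) L139220 L148607
theorem L148611 : sm gd N13002 = N12006 := ded_34_1 (flp_i L139449) (flp_d L139222) L148607
theorem L148613 : sm gf N13002 = N12260 := ded_41_1 (flp_i L141929) (flp_f L139224) L148607
theorem L148615 : sm gg N13002 = N11989 := ded_43_1 (flp_i L139296) (flp_g L139226) L148607
theorem L148617 : sm gi N11982 = N13003 := rfl
theorem L148619 : sm ga N13003 = N12025 := ded_16_1 (flp_i L139660) (flp_a L139230) L148617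
theorem L148621 : sm gc N13003 = N11985 := ded_29_1 (flp_i L139265) (flp_c L139232) L148617
theorem L148623 : sm gd N13003 = N13003 := ded_34_1 (flp_i L148617) L139238 L148617
theorem L148624 : sm ge N13003 = N11983 := ded_38_1 (flp_i L139241) L139228 L148617
theorem L148626 : sm gf N13003 = N12659 := ded_41_1 (flp_i L145411) (flp_f L139239) L148617
theorem L148628 : sm gg N13003 = N11991 := ded_43_1 (flp_i L139313) (flp_g L139234) L148617
theorem L148630 : sm gh N11983 = N13004 := rfl
theorem L148632 : sm ga N13004 = N12026 := ded_15_1 (flp_h L139673) (flp_a L139243) L148630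
theorem L148634 : sm gc N13004 = N11986 := ded_28_1 (flp_h L139275) (flp_c L139245) L148630
theorem L148636 : sm gf N13004 = N12286 := ded_40_1 (flp_h L142165) (flp_f L139249) L148630
theorem L148638 : sm gg N13004 = N11992 := ded_42_1 (flp_h L139322) (flp_g L139251) L148630
theorem L148640 : sm gd N13004 = N12291 := ded_33_1 (flp_h L142204) L133068 (flp_h L130498) (flp_d L139247) L148630
theorem L148642 : sm gg N11984 = N13005 := rfl
theorem L148644 : sm ga N13005 = N12027 := ded_14_1 (flp_g L139683) (flp_a L139255) L148642
theorem L148646 : sm gc N13005 = N12395 := ded_27_1 L143093 (flp_c L139257) L148642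
theorem L148648 : sm gd N13005 = N11996 := ded_32_1 (flp_g L139354) (flp_d L139259) L148642
theorem L148650 : sm ge N13005 = N12226 := ded_36_1 L141642 (flp_e L139263) L148642
theorem L148652 : sm gh N13005 = N12238 := ded_42_2 L141749 (flp_h L139261) L148642
theorem L148654 : sm gf N13005 = N11993 := ded_39_1 (flp_g L139330) (flp_f L130372) (flp_g L130337) L139253 L148642
theorem L148656 : sm gi N11984 = N13006 := rfl
theorem L148658 : sm ga N13006 = N12028 := ded_16_1 (flp_i L139697) (flp_a L139255) L148656
theorem L148660 : sm gc N13006 = N12659 := ded_29_1 (flp_i L145411) (flp_c L139257) L148656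
theorem L148662 : sm gd N13006 = N11997 := ded_34_1 (flp_i L139363) (flp_d L139259) L148656
theorem L148664 : sm ge N13006 = N12658 := ded_38_1 (flp_i L145404) (flp_e L139263) L148656
theorem L148666 : sm gf N13006 = N11985 := ded_41_1 (flp_i L139265) L139253 L148656
theorem L148668 : sm gh N11985 = N13007 := rfl
theorem L148670 : sm ga N13007 = N12029 := ded_15_1 (flp_h L139709) (flp_a L139267) L148668
theorem L148672 : sm ge N13007 = N11986 := ded_37_1 (flp_h L139275) (flp_e L139271) L148668
theorem L148674 : sm gg N13007 = N11995 := ded_42_1 (flp_h L139348) (flp_g L139273) L148668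
theorem L148676 : sm ge N11987 = N13008 := rfl
theorem L148678 : sm ga N13008 = N11988 := ded_12_1 (flp_e L139291) L139283 L148676
theorem L148680 : sm gb N13008 = N12030 := ded_19_1 (flp_e L139715) (flp_b L139289) L148676
theorem L148682 : sm gg N13008 = N12690 := ded_36_2 L148592 L148586 L148676
theorem L148684 : sm gh N13008 = N12697 := ded_37_2 L148467 L148463 L148676
theorem L148686 : sm gd N13008 = N13008 := ded_30_1 (flp_e L148676) L139285 L130502 (flp_d L139285) L148676
theorem L148687 : sm gi N11987 = N13009 := rfl
theorem L148689 : sm ga N13009 = N11989 := ded_16_1 (flp_i L139296) L139283 L148687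
theorem L148691 : sm gb N13009 = N12031 := ded_23_1 (flp_i L139724) (flp_b L139289) L148687
theorem L148693 : sm gd N13009 = N12007 := ded_34_1 (flp_i L139462) (flp_d L139285) L148687
theorem L148695 : sm gf N13009 = N12379 := ded_41_1 (flp_i L142942) (flp_f L139287) L148687
theorem L148697 : sm gf N11988 = N13010 := rfl
theorem L148699 : sm gb N13010 = N11990 := ded_20_1 (flp_f L139304) (flp_b L139293) L148697
theorem L148701 : sm gd N13010 = N13010 := ded_31_1 (flp_f L148697) L139295 L148697
theorem L148702 : sm ge N13010 = N12380 := ded_35_1 (flp_f L142952) (flp_e L133668) (flp_f L130353) L139291 L148697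
theorem L148704 : sm gi N11988 = N13011 := rfl
theorem L148706 : sm gb N13011 = N11991 := ded_23_1 (flp_i L139313) (flp_b L139293) L148704
theorem L148708 : sm gd N13011 = N13011 := ded_34_1 (flp_i L148704) L139295 L148704
theorem L148709 : sm ge N13011 = N11989 := ded_38_1 (flp_i L139296) L139291 L148704
theorem L148711 : sm gh N11989 = N13012 := rfl
theorem L148713 : sm gb N13012 = N11992 := ded_22_1 (flp_h L139322) (flp_b L139298) L148711
theorem L148715 : sm gf N13012 = N12382 := ded_40_1 (flp_h L142968) (flp_f L139302) L148711
theorem L148717 : sm gg N11990 = N13013 := rfl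
theorem L148719 : sm ga N13013 = N12035 := ded_14_1 (flp_g L139760) (flp_a L139306) L148717
theorem L148721 : sm gc N13013 = N11993 := ded_27_1 (flp_g L139330) (flp_c L139308) L148717
theorem L148723 : sm gd N13013 = N13013 := ded_32_1 (flp_g L148717) L139310 L148717
theorem L148724 : sm ge N13013 = N12383 := ded_36_1 (flp_g L142974) (flp_e L139311) L148717
theorem L148726 : sm gh N13013 = N12405 := ded_42_2 (flp_g L148501) L148497 L148717
theorem L148728 : sm gf N13013 = N12395 := ded_39_1 L143093 (flp_f L139239) L139234 L139304 L148717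
theorem L148730 : sm gi N11990 = N13014 := rfl
theorem L148732 : sm ga N13014 = N12036 := ded_16_1 (flp_i L139773) (flp_a L139306) L148730
theorem L148734 : sm gc N13014 = N11994 := ded_29_1 (flp_i L139338) (flp_c L139308) L148730
theorem L148736 : sm gd N13014 = N13014 := ded_34_1 (flp_i L148730) L139310 L148730
theorem L148737 : sm ge N13014 = N12384 := ded_38_1 (flp_i L142984) (flp_e L139311) L148730
theorem L148739 : sm gf N13014 = N11991 := ded_41_1 (flp_i L139313) L139304 L148730
theorem L148741 : sm gh N11991 = N13015 := rfl
theorem L148743 : sm ga N13015 = N12037 := ded_15_1 (flp_h L139782) (flp_a L139315) L148741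
theorem L148745 : sm gc N13015 = N11995 := ded_28_1 (flp_h L139348) (flp_c L139317) L148741
theorem L148747 : sm ge N13015 = N11992 := ded_37_1 (flp_h L139322) (flp_e L139320) L148741
theorem L148749 : sm gi N11993 = N13016 := rfl
theorem L148751 : sm ga N13016 = N12038 := ded_16_1 (flp_i L139788) (flp_a L139332) L148749
theorem L148753 : sm gd N13016 = N11999 := ded_34_1 (flp_i L139381) (flp_d L139334) L148749
theorem L148755 : sm ge N13016 = N12386 := ded_38_1 (flp_i L143004) (flp_e L139336) L148749
theorem L148757 : sm gg N13016 = N11994 := ded_43_1 (flp_i L139338) L139330 L148749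
theorem L148759 : sm gh N11994 = N13017 := rfl
theorem L148761 : sm ga N13017 = N12039 := ded_15_1 (flp_h L139796) (flp_a L139340) L148759
theorem L148763 : sm ge N13017 = N12387 := ded_37_1 (flp_h L143012) (flp_e L139344) L148759
theorem L148765 : sm gf N13017 = N11995 := ded_40_1 (flp_h L139348) (flp_f L139346) L148759
theorem L148767 : sm gd N11995 = N13018 := rfl
theorem L148769 : sm ga N13018 = N12040 := ded_11_1 (flp_d L139802) (flp_a L139350) L148767
theorem L148771 : sm ge N13018 = N12727 := ded_30_2 (flp_d L145919) L136812 (flp_d L130394) (flp_e L139352) L148767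
theorem L148773 : sm gh N13018 = N12001 := ded_33_2 (flp_d L139400) (flp_h L130440) (flp_d L130384) L139348 L148767
theorem L148775 : sm gi N11996 = N13019 := rfl
theorem L148777 : sm ga N13019 = N12041 := ded_16_1 (flp_i L139808) (flp_a L139356) L148775
theorem L148779 : sm gc N13019 = N13019 := ded_29_1 (flp_i L148775) L139358 L148775
theorem L148780 : sm ge N13019 = N13019 := ded_38_1 (flp_i L148775) L139359 L148775
theorem L148781 : sm gf N13019 = N11999 := ded_41_1 (flp_i L139381) (flp_f L139361) L148775
theorem L148783 : sm gg N13019 = N11997 := ded_43_1 (flp_i L139363) L139354 L148775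
theorem L148785 : sm gh N12784 = N13019 := ded_15_0 L148777 (flp_h L139818) L146382
theorem L148787 : sm gh N11997 = N13020 := rfl
theorem L148789 : sm ga N13020 = N12042 := ded_15_1 (flp_h L139820) (flp_a L139365) L148787
theorem L148791 : sm gc N13020 = N13020 := ded_28_1 (flp_h L148787) L139367 L148787
theorem L148792 : sm ge N13020 = N13020 := ded_37_1 (flp_h L148787) L139368 L148787
theorem L148793 : sm gf N13020 = N11998 := ded_40_1 (flp_h L139371) (flp_f L139369) L148787
theorem L148795 : sm gg N13020 = N12784 := ded_42_1 L148785 L148783 L148787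
theorem L148797 : sm gi N13020 = N13020 := ded_44_2 (flp_h L148787) (flp_i L139363) L130401 L139363 L148787
theorem L148798 : sm gd N11998 = N13021 := rfl
theorem L148800 : sm ga N13021 = N12043 := ded_11_1 (flp_d L139831) (flp_a L139373) L148798
theorem L148802 : sm gg N13021 = N12001 := ded_32_2 (flp_d L139400) (flp_g L139378) L148798
theorem L148804 : sm gi N13021 = N13021 := ded_34_2 (flp_d L148798) L139380 L148798
theorem L148805 : sm ge N13021 = N12490 := ded_30_2 (flp_d L143897) L134632 (flp_d L130420) (flp_e L139376) L148798
theorem L148807 : sm gh N11999 = N13022 := rfl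
theorem L148809 : sm ga N13022 = N12044 := ded_15_1 (flp_h L139838) (flp_a L139383) L148807
theorem L148811 : sm gc N13022 = N13022 := ded_28_1 (flp_h L148807) L139385 L148807
theorem L148812 : sm ge N13022 = N12002 := ded_37_1 (flp_h L139407) (flp_e L139386) L148807
theorem L148814 : sm gf N13022 = N12784 := ded_40_1 L148785 L148781 L148807
theorem L148816 : sm gg N13022 = N12000 := ded_42_1 (flp_h L139390) (flp_g L139388) L148807
theorem L148818 : sm gi N13022 = N13022 := ded_44_2 (flp_h L148807) (flp_i L139381) L130430 L139381 L148807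
theorem L148819 : sm gd N12000 = N13023 := rfl
theorem L148821 : sm ga N13023 = N12045 := ded_11_1 (flp_d L139850) (flp_a L139392) L148819
theorem L148823 : sm gf N13023 = N12001 := ded_31_2 (flp_d L139400) (flp_f L139397) L148819
theorem L148825 : sm gi N13023 = N13023 := ded_34_2 (flp_d L148819) L139399 L148819
theorem L148826 : sm gc N12001 = N13024 := rfl
theorem L148828 : sm ga N13024 = N12046 := ded_10_1 (flp_c L139855) (flp_a L139402) L148826
theorem L148830 : sm ge N13024 = N12730 := ded_25_2 (flp_c L145943) (flp_e L139405) L148826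
theorem L148832 : sm gi N13024 = N13024 := ded_29_2 (flp_c L148826) L139404 L148826
theorem L148833 : sm gd N13024 = N13024 := ded_24_2 (flp_c L148826) (flp_d L139400) L130444 L139400 L148826
theorem L148834 : sm gi N12005 = N13025 := rfl
theorem L148836 : sm ga N13025 = N12006 := ded_16_1 (flp_i L139449) L139436 L148834
theorem L148838 : sm gb N13025 = N12047 := ded_23_1 (flp_i L139861) (flp_b L139447) L148834
theorem L148840 : sm gc N13025 = N12816 := ded_29_1 (flp_i L146750) (flp_c L139438) L148834
theorem L148842 : sm ge N13025 = N13025 := ded_38_1 (flp_i L148834) L139440 L148834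
theorem L148843 : sm gf N13025 = N12101 := ded_41_1 (flp_i L140476) (flp_f L139441) L148834
theorem L148845 : sm gg N13025 = N12007 := ded_43_1 (flp_i L139462) (flp_g L139443) L148834
theorem L148847 : sm gh N13025 = N12152 := ded_44_1 (flp_i L140989) (flp_h L132044) (flp_i L131205) (flp_h L139445) L148834
theorem L148849 : sm gh N12009 = N13026 := rfl
theorem L148851 : sm gc N13026 = N12135 := ded_28_1 (flp_h L140823) (flp_c L139488) L148849
theorem L148853 : sm ge N13026 = N12134 := ded_37_1 (flp_h L140817) (flp_e L139492) L148849
theorem L148855 : sm gf N13026 = N12012 := ded_40_1 (flp_h L139523) (flp_f L139494) L148849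
theorem L148857 : sm gg N13026 = N12297 := ded_42_1 (flp_h L142262) (flp_g L139496) L148849
theorem L148859 : sm gd N13026 = N12017 := ded_33_1 (flp_h L139581) L130610 (flp_h L130549) (flp_d L139490) L148849
theorem L148861 : sm gi N13026 = N12022 := ded_44_2 (flp_h L139626) (flp_i L130645) (flp_h L130539) L139486 L148849
theorem L148863 : sm gh N12010 = N13027 := rfl
theorem L148865 : sm gb N13027 = N12300 := ded_22_1 (flp_h L142285) (flp_b L139500) L148863
theorem L148867 : sm gc N13027 = N12012 := ded_28_1 (flp_h L139523) (flp_c L139502) L148863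
theorem L148869 : sm ge N13027 = N12679 := ded_37_1 (flp_h L145552) (flp_e L139506) L148863
theorem L148871 : sm gf N13027 = N12135 := ded_40_1 (flp_h L140823) (flp_f L139508) L148863
theorem L148873 : sm gg N13027 = N12017 := ded_42_1 (flp_h L139581) (flp_g L139510) L148863
theorem L148875 : sm gd N13027 = N12297 := ded_33_1 (flp_h L142262) L133148 (flp_h L131233) (flp_d L139504) L148863
theorem L148877 : sm gi N13027 = N12026 := ded_44_2 (flp_h L139673) (flp_i L130680) (flp_h L130557) L139498 L148863
theorem L148879 : sm gh N12011 = N13028 := rfl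
theorem L148881 : sm gc N13028 = N12679 := ded_28_1 (flp_h L145552) (flp_c L139514) L148879
theorem L148883 : sm ge N13028 = N12012 := ded_37_1 (flp_h L139523) (flp_e L139517) L148879
theorem L148885 : sm gf N13028 = N12677 := ded_40_1 (flp_h L145542) (flp_f L139519) L148879
theorem L148887 : sm gg N13028 = N12020 := ded_42_1 (flp_h L139609) (flp_g L139521) L148879
theorem L148889 : sm gi N13028 = N12029 := ded_44_2 (flp_h L139709) (flp_i L130702) (flp_h L130571) L139512 L148879
theorem L148891 : sm gi N12013 = N13029 := rfl
theorem L148893 : sm ga N13029 = N12014 := ded_16_1 (flp_i L139543) L139531 L148891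
theorem L148895 : sm gd N13029 = N12077 := ded_34_1 (flp_i L140176) (flp_d L139533) L148891
theorem L148897 : sm ge N13029 = N12725 := ded_38_1 (flp_i L145905) (flp_e L139535) L148891
theorem L148899 : sm gf N13029 = N12396 := ded_41_1 (flp_i L143098) (flp_f L139537) L148891
theorem L148901 : sm gg N13029 = N12292 := ded_43_1 (flp_i L142212) (flp_g L139539) L148891
theorem L148903 : sm gh N12014 = N13030 := rfl
theorem L148905 : sm gb N13030 = N12017 := ded_22_1 (flp_h L139581) (flp_b L139545) L148903
theorem L148907 : sm ge N13030 = N12737 := ded_37_1 (flp_h L145997) (flp_e L139549) L148903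
theorem L148909 : sm gf N13030 = N12398 := ded_40_1 (flp_h L143115) (flp_f L139551) L148903
theorem L148911 : sm gg N13030 = N12300 := ded_42_1 (flp_h L142285) (flp_g L139553) L148903
theorem L148913 : sm gi N13030 = N12034 := ded_44_2 (flp_h L139754) (flp_i L130731) (flp_h L130590) L139543 L148903
theorem L148915 : sm gi N12015 = N13031 := rfl
theorem L148917 : sm gb N13031 = N12410 := ded_23_1 (flp_i L143206) (flp_b L139557) L148915
theorem L148919 : sm gc N13031 = N12019 := ded_29_1 (flp_i L139602) (flp_c L139559) L148915
theorem L148921 : sm gd N13031 = N12501 := ded_34_1 (flp_i L143997) (flp_d L139561) L148915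
theorem L148923 : sm ge N13031 = N12399 := ded_38_1 (flp_i L143123) (flp_e L139565) L148915
theorem L148925 : sm gf N13031 = N12016 := ded_41_1 (flp_i L139569) L139555 L148915
theorem L148927 : sm gg N13031 = N12408 := ded_43_1 (flp_i L143190) (flp_g L139567) L148915
theorem L148929 : sm gh N12016 = N13032 := rfl
theorem L148931 : sm gb N13032 = N12737 := ded_22_1 (flp_h L145997) (flp_b L139571) L148929
theorem L148933 : sm gc N13032 = N12020 := ded_28_1 (flp_h L139609) (flp_c L139573) L148929
theorem L148935 : sm ge N13032 = N12017 := ded_37_1 (flp_h L139581) (flp_e L139577) L148929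
theorem L148937 : sm gg N13032 = N12679 := ded_42_1 (flp_h L145552) (flp_g L139579) L148929
theorem L148939 : sm gi N13032 = N12037 := ded_44_2 (flp_h L139782) (flp_i L130746) (flp_h L130602) L139569 L148929
theorem L148941 : sm gi N12018 = N13033 := rfl
theorem L148943 : sm gb N13033 = N12242 := ded_23_1 (flp_i L141781) (flp_b L139591) L148941
theorem L148945 : sm gc N13033 = N12408 := ded_29_1 (flp_i L143190) (flp_c L139593) L148941
theorem L148947 : sm gd N13033 = N13033 := ded_34_1 (flp_i L148941) L139595 L148941
theorem L148948 : sm ge N13033 = N12401 := ded_38_1 (flp_i L143140) (flp_e L139596) L148941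
theorem L148950 : sm gf N13033 = N12240 := ded_41_1 (flp_i L141762) (flp_f L139600) L148941
theorem L148952 : sm gg N13033 = N12019 := ded_43_1 (flp_i L139602) L139589 L148941
theorem L148954 : sm gh N12019 = N13034 := rfl
theorem L148956 : sm ge N13034 = N12402 := ded_37_1 (flp_h L143146) (flp_e L139605) L148954
theorem L148958 : sm gf N13034 = N12020 := ded_40_1 (flp_h L139609) (flp_f L139607) L148954
theorem L148960 : sm gi N13034 = N12039 := ded_44_2 (flp_h L139796) (flp_i L130765) (flp_h L130617) L139602 L148954
theorem L148962 : sm gd N12020 = N13035 := rfl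
theorem L148964 : sm gi N13035 = N12040 := ded_34_2 (flp_d L139802) (flp_i L139613) L148962
theorem L148966 : sm ge N13035 = N12736 := ded_30_2 (flp_d L145992) L136872 (flp_d L130630) (flp_e L139611) L148962
theorem L148968 : sm gh N13035 = N13035 := ded_33_2 (flp_d L148962) (flp_h L139609) L130623 L139609 L148962
theorem L148969 : sm gh N12021 = N13036 := rfl
theorem L148971 : sm gc N13036 = N12129 := ded_28_1 (flp_h L140763) (flp_c L139617) L148969
theorem L148973 : sm ge N13036 = N12022 := ded_37_1 (flp_h L139626) (flp_e L139620) L148969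
theorem L148975 : sm gf N13036 = N12675 := ded_40_1 (flp_h L145528) (flp_f L139622) L148969
theorem L148977 : sm gg N13036 = N12299 := ded_42_1 (flp_h L142279) (flp_g L139624) L148969
theorem L148979 : sm gi N13036 = N12134 := ded_44_2 (flp_h L140817) (flp_i L131883) (flp_h L130640) L139615 L148969
theorem L148981 : sm gi N12023 = N13037 := rfl
theorem L148983 : sm ga N13037 = N12024 := ded_16_1 (flp_i L139648) L139636 L148981
theorem L148985 : sm gd N13037 = N12047 := ded_34_1 (flp_i L139861) (flp_d L139638) L148981
theorem L148987 : sm ge N13037 = N12723 := ded_38_1 (flp_i L145890) (flp_e L139640) L148981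
theorem L148989 : sm gf N13037 = N12116 := ded_41_1 (flp_i L140644) (flp_f L139642) L148981
theorem L148991 : sm gg N13037 = N12031 := ded_43_1 (flp_i L139724) (flp_g L139644) L148981
theorem L148993 : sm gh N12024 = N13038 := rfl
theorem L148995 : sm gb N13038 = N12026 := ded_22_1 (flp_h L139673) (flp_b L139650) L148993
theorem L148997 : sm ge N13038 = N12735 := ded_37_1 (flp_h L145986) (flp_e L139654) L148993
theorem L148999 : sm gf N13038 = N12131 := ded_40_1 (flp_h L140787) (flp_f L139656) L148993
theorem L149001 : sm gg N13038 = N12034 := ded_42_1 (flp_h L139754) (flp_g L139658) L148993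
theorem L149003 : sm gd N13038 = N12233 := ded_33_1 (flp_h L141698) L132587 (flp_h L130867) (flp_d L139652) L148993
theorem L149005 : sm gi N13038 = N12300 := ded_44_2 (flp_h L142285) (flp_i L133186) (flp_h L130663) L139648 L148993
theorem L149007 : sm gh N12025 = N13039 := rfl
theorem L149009 : sm gb N13039 = N12735 := ded_22_1 (flp_h L145986) (flp_b L139662) L149007
theorem L149011 : sm gc N13039 = N12029 := ded_28_1 (flp_h L139709) (flp_c L139664) L149007
theorem L149013 : sm ge N13039 = N12026 := ded_37_1 (flp_h L139673) (flp_e L139667) L149007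
theorem L149015 : sm gf N13039 = N12676 := ded_40_1 (flp_h L145534) (flp_f L139669) L149007
theorem L149017 : sm gg N13039 = N12037 := ded_42_1 (flp_h L139782) (flp_g L139671) L149007
theorem L149019 : sm gi N13039 = N12679 := ded_44_2 (flp_h L145552) (flp_i L136523) (flp_h L130675) L139660 L149007
theorem L149021 : sm gi N12027 = N13040 := rfl
theorem L149023 : sm gb N13040 = N12228 := ded_23_1 (flp_i L141655) (flp_b L139685) L149021
theorem L149025 : sm gc N13040 = N12397 := ded_29_1 (flp_i L143106) (flp_c L139687) L149021
theorem L149027 : sm gd N13040 = N12041 := ded_34_1 (flp_i L139808) (flp_d L139689) L149021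
theorem L149029 : sm ge N13040 = N12227 := ded_38_1 (flp_i L141646) (flp_e L139691) L149021
theorem L149031 : sm gf N13040 = N12038 := ded_41_1 (flp_i L139788) (flp_f L139695) L149021
theorem L149033 : sm gg N13040 = N12028 := ded_43_1 (flp_i L139697) L139683 L149021
theorem L149035 : sm gh N12028 = N13041 := rfl
theorem L149037 : sm gb N13041 = N12415 := ded_22_1 L143240 (flp_b L139699) L149035
theorem L149039 : sm gc N13041 = N12676 := ded_28_1 (flp_h L145534) (flp_c L139701) L149035
theorem L149041 : sm ge N13041 = N12675 := ded_37_1 (flp_h L145528) (flp_e L139705) L149035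
theorem L149043 : sm gf N13041 = N12029 := ded_40_1 (flp_h L139709) (flp_f L139707) L149035
theorem L149045 : sm gi N13041 = N12677 := ded_44_2 (flp_h L145542) (flp_i L136512) (flp_h L130698) L139697 L149035
theorem L149047 : sm gd N12029 = N13042 := rfl
theorem L149049 : sm gg N13042 = N12040 := ded_32_2 (flp_d L139802) (flp_g L139713) L149047
theorem L149051 : sm ge N13042 = N12412 := ded_30_2 (flp_d L143222) L133999 (flp_d L130714) (flp_e L139711) L149047
theorem L149053 : sm gh N13042 = N12043 := ded_33_2 (flp_d L139831) (flp_h L130794) (flp_d L130704) L139709 L149047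
theorem L149055 : sm gf N12030 = N13043 := rfl
theorem L149057 : sm ga N13043 = N12032 := ded_13_1 (flp_f L139732) (flp_a L139717) L149055
theorem L149059 : sm gc N13043 = N12372 := ded_26_1 L147656 L147648 L149055
theorem L149061 : sm gd N13043 = N13043 := ded_31_1 (flp_f L149055) L139723 L149055
theorem L149062 : sm gh N13043 = N12383 := ded_40_2 L142982 (flp_h L139721) L149055
theorem L149064 : sm ge N13043 = N12405 := ded_35_1 (flp_f L143168) (flp_e L133941) (flp_f L130720) L139715 L149055
theorem L149066 : sm gg N13043 = N12369 := ded_39_2 (flp_f L142848) L133595 L136774 (flp_g L139719) L149055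
theorem L149068 : sm gi N12030 = N13044 := rfl
theorem L149070 : sm ga N13044 = N12033 := ded_16_1 (flp_i L139745) (flp_a L139717) L149068
theorem L149072 : sm gd N13044 = N13044 := ded_34_1 (flp_i L149068) L139723 L149068
theorem L149073 : sm ge N13044 = N12031 := ded_38_1 (flp_i L139724) L139715 L149068
theorem L149075 : sm gg N13044 = N12723 := ded_43_1 (flp_i L145890) (flp_g L139719) L149068
theorem L149077 : sm gh N12031 = N13045 := rfl
theorem L149079 : sm ga N13045 = N12034 := ded_15_1 (flp_h L139754) (flp_a L139726) L149077
theorem L149081 : sm gf N13045 = N12407 := ded_40_1 (flp_h L143184) (flp_f L139730) L149077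
theorem L149083 : sm gi N12032 = N13046 := rfl
theorem L149085 : sm gb N13046 = N12036 := ded_23_1 (flp_i L139773) (flp_b L139734) L149083
theorem L149087 : sm gc N13046 = N12401 := ded_29_1 (flp_i L143140) (flp_c L139736) L149083
theorem L149089 : sm gd N13046 = N13046 := ded_34_1 (flp_i L149083) L139738 L149083
theorem L149090 : sm ge N13046 = N12408 := ded_38_1 (flp_i L143190) (flp_e L139741) L149083
theorem L149092 : sm gf N13046 = N12033 := ded_41_1 (flp_i L139745) L139732 L149083
theorem L149094 : sm gg N13046 = N12399 := ded_43_1 (flp_i L143123) (flp_g L139743) L149083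
theorem L149096 : sm gh N12033 = N13047 := rfl
theorem L149098 : sm gb N13047 = N12037 := ded_22_1 (flp_h L139782) (flp_b L139747) L149096
theorem L149100 : sm ge N13047 = N12034 := ded_37_1 (flp_h L139754) (flp_e L139750) L149096
theorem L149102 : sm gg N13047 = N12735 := ded_42_1 (flp_h L145986) (flp_g L139752) L149096
theorem L149104 : sm gi N13047 = N12737 := ded_44_2 (flp_h L145997) (flp_i L136876) (flp_h L130728) L139745 L149096
theorem L149106 : sm gi N12035 = N13048 := rfl
theorem L149108 : sm gb N13048 = N12399 := ded_23_1 (flp_i L143123) (flp_b L139762) L149106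
theorem L149110 : sm gc N13048 = N12038 := ded_29_1 (flp_i L139788) (flp_c L139764) L149106
theorem L149112 : sm gd N13048 = N13048 := ded_34_1 (flp_i L149106) L139766 L149106
theorem L149113 : sm ge N13048 = N12410 := ded_38_1 (flp_i L143206) (flp_e L139767) L149106
theorem L149115 : sm gf N13048 = N12397 := ded_41_1 (flp_i L143106) (flp_f L139771) L149106
theorem L149117 : sm gg N13048 = N12036 := ded_43_1 (flp_i L139773) L139760 L149106
theorem L149119 : sm gh N12036 = N13049 := rfl
theorem L149121 : sm gc N13049 = N12039 := ded_28_1 (flp_h L139796) (flp_c L139775) L149119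
theorem L149123 : sm ge N13049 = N12411 := ded_37_1 (flp_h L143216) (flp_e L139778) L149119
theorem L149125 : sm gf N13049 = N12037 := ded_40_1 (flp_h L139782) (flp_f L139780) L149119
theorem L149127 : sm gd N12037 = N13050 := rfl
theorem L149129 : sm gh N13050 = N13050 := ded_33_2 (flp_d L149127) (flp_h L139782) L130750 L139782 L149127
theorem L149130 : sm gh N12038 = N13051 := rfl
theorem L149132 : sm ge N13051 = N12413 := ded_37_1 (flp_h L143228) (flp_e L139792) L149130
theorem L149134 : sm gg N13051 = N12039 := ded_42_1 (flp_h L139796) (flp_g L139794) L149130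
theorem L149136 : sm gd N12039 = N13052 := rfl
theorem L149138 : sm gf N13052 = N12040 := ded_31_2 (flp_d L139802) (flp_f L139800) L149136
theorem L149140 : sm gh N13052 = N12045 := ded_33_2 (flp_d L139850) (flp_h L130809) (flp_d L130767) L139796 L149136
theorem L149142 : sm gc N12040 = N13053 := rfl
theorem L149144 : sm ge N13053 = N12739 := ded_25_2 (flp_c L146007) (flp_e L139804) L149142
theorem L149146 : sm gh N13053 = N12046 := ded_28_2 (flp_c L139855) (flp_h L139806) L149142
theorem L149148 : sm gd N12042 = N13054 := rfl
theorem L149150 : sm gb N13054 = N12506 := ded_18_1 L144043 (flp_b L139822) L149148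
theorem L149152 : sm gf N13054 = N12043 := ded_31_2 (flp_d L139831) (flp_f L139826) L149148
theorem L149154 : sm gg N13054 = N12743 := ded_32_2 L146030 (flp_g L139828) L149148
theorem L149156 : sm gi N13054 = N13054 := ded_34_2 (flp_d L149148) L139830 L149148
theorem L149157 : sm gc N12043 = N13055 := rfl
theorem L149159 : sm ge N13055 = N12506 := ded_25_2 (flp_c L144038) (flp_e L139836) L149157
theorem L149161 : sm gg N13055 = N12046 := ded_27_2 (flp_c L139855) (flp_g L139833) L149157
theorem L149163 : sm gi N13055 = N13055 := ded_29_2 (flp_c L149157) L139835 L149157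
theorem L149164 : sm gd N13055 = N13055 := ded_24_2 (flp_c L149157) (flp_d L139831) L130796 L139831 L149157
theorem L149165 : sm gc N12045 = N13056 := rfl
theorem L149167 : sm ge N13056 = N12253 := ded_25_2 (flp_c L147819) L147821 L149165
theorem L149169 : sm gf N13056 = N12046 := ded_26_2 (flp_c L139855) (flp_f L139852) L149165
theorem L149171 : sm gg N13056 = N12684 := ded_27_2 (flp_c L147847) L147849 L149165
theorem L149173 : sm gi N13056 = N13056 := ded_29_2 (flp_c L149165) L139854 L149165
theorem L149174 : sm gd N13056 = N13056 := ded_24_2 (flp_c L149165) (flp_d L139850) L130811 L139850 L149165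
theorem L149175 : sm gb N12254 = N13056 := ded_19_3 L149167 L141880 L141885
theorem L149177 : sm gb N12046 = N13057 := rfl
theorem L149179 : sm gd N13057 = N13057 := ded_18_2 (flp_b L149177) L139860 L149177
theorem L149180 : sm ge N13057 = N12743 := ded_19_2 (flp_b L146028) (flp_e L139857) L149177
theorem L149182 : sm gf N13057 = N12254 := ded_20_2 L149175 L149169 L149177
theorem L149184 : sm gi N13057 = N13057 := ded_23_2 (flp_b L149177) L139859 L149177
theorem L149185 : sm gd N12049 = N13058 := rfl
theorem L149187 : sm ga N13058 = N13058 := ded_11_1 (flp_d L149185) L139886 L149185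
theorem L149188 : sm gf N13058 = N12050 := ded_31_2 (flp_d L139893) (flp_f L139889) L149185
theorem L149190 : sm gg N13058 = N12419 := ded_32_2 L143280 (flp_g L139891) L149185
theorem L149192 : sm gc N13058 = N12417 := ded_24_1 (flp_d L143255) L134062 (flp_d L130944) (flp_c L139887) L149185
theorem L149194 : sm gi N12049 = N13059 := rfl
theorem L149196 : sm ga N13059 = N13059 := ded_16_1 (flp_i L149194) L139886 L149194
theorem L149197 : sm gc N13059 = N12056 := ded_29_1 (flp_i L139938) (flp_c L139887) L149194
theorem L149199 : sm gf N13059 = N12051 := ded_41_1 (flp_i L139898) (flp_f L139889) L149194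
theorem L149201 : sm gg N13059 = N12422 := ded_43_1 (flp_i L143296) (flp_g L139891) L149194
theorem L149203 : sm gh N13059 = N12062 := ded_44_1 (flp_i L140001) L130972 (flp_i L130896) L139884 L149194
theorem L149205 : sm gc N12050 = N13060 := rfl
theorem L149207 : sm ga N13060 = N13060 := ded_10_1 (flp_c L149205) L139895 L149205
theorem L149208 : sm gf N13060 = N12417 := ded_26_2 (flp_c L149192) L149188 L149205
theorem L149210 : sm gg N13060 = N12052 := ded_27_2 (flp_c L139908) (flp_g L139896) L149205
theorem L149212 : sm gh N13060 = N13058 := ded_28_2 L149192 L143260 L149205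
theorem L149214 : sm gd N13060 = N12057 := ded_24_2 (flp_c L139951) (flp_d L130946) (flp_c L130903) L139893 L149205
theorem L149216 : sm ge N12050 = N13061 := rfl
theorem L149218 : sm ga N13061 = N13061 := ded_12_1 (flp_e L149216) L139895 L149216
theorem L149219 : sm gg N13061 = N12053 := ded_36_2 (flp_e L139915) (flp_g L139896) L149216
theorem L149221 : sm gd N13061 = N13061 := ded_30_1 (flp_e L149216) (flp_d L139893) L130905 L139893 L149216
theorem L149222 : sm gi N12050 = N13062 := rfl
theorem L149224 : sm ga N13062 = N13062 := ded_16_1 (flp_i L149222) L139895 L149222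
theorem L149225 : sm gd N13062 = N12051 := ded_34_1 (flp_i L139898) L139893 L149222
theorem L149227 : sm gg N13062 = N12054 := ded_43_1 (flp_i L139919) (flp_g L139896) L149222
theorem L149229 : sm gb N12052 = N13063 := rfl
theorem L149231 : sm gd N13063 = N12060 := ded_18_2 (flp_b L139985) (flp_d L139913) L149229
theorem L149233 : sm gf N13063 = N12426 := ded_20_2 (flp_b L143332) (flp_f L139911) L149229
theorem L149235 : sm ge N12052 = N13064 := rfl
theorem L149237 : sm ga N13064 = N13064 := ded_12_1 (flp_e L149235) L139910 L149235
theorem L149238 : sm gc N13064 = N12053 := ded_25_1 (flp_e L139915) L139908 L149235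
theorem L149240 : sm gh N13064 = N12621 := ded_37_2 L145076 L143278 L149235
theorem L149242 : sm gf N12619 = N13064 := ded_40_3 L149240 L145072 (flp_h L145058)
theorem L149244 : sm gd N12617 = N13064 := ded_33_5 L149240 (flp_d L145069) (flp_h L136054) (flp_d L136031) L145042
theorem L149246 : sm gi N12052 = N13065 := rfl
theorem L149248 : sm ga N13065 = N13065 := ded_16_1 (flp_i L149246) L139910 L149246
theorem L149249 : sm gc N13065 = N12054 := ded_29_1 (flp_i L139919) L139908 L149246
theorem L149251 : sm gd N13065 = N12062 := ded_34_1 (flp_i L140001) (flp_d L139913) L149246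
theorem L149253 : sm gf N13065 = N12428 := ded_41_1 (flp_i L143350) (flp_f L139911) L149246
theorem L149255 : sm gf N12053 = N13066 := rfl
theorem L149257 : sm ga N13066 = N13066 := ded_13_1 (flp_f L149255) L139917 L149255
theorem L149258 : sm gc N13066 = N12619 := ded_26_1 L149242 L149238 L149255
theorem L149260 : sm gd N13066 = N13066 := ded_31_1 (flp_f L149255) L139918 L149255
theorem L149261 : sm gh N13066 = N12622 := ded_40_2 L145081 L143285 L149255
theorem L149263 : sm ge N13066 = N12429 := ded_35_1 (flp_f L143359) (flp_e L134166) (flp_f L130911) L139915 L149255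
theorem L149265 : sm gi N12053 = N13067 := rfl
theorem L149267 : sm ga N13067 = N13067 := ded_16_1 (flp_i L149265) L139917 L149265
theorem L149268 : sm gd N13067 = N13067 := ded_34_1 (flp_i L149265) L139918 L149265
theorem L149269 : sm ge N13067 = N12054 := ded_38_1 (flp_i L139919) L139915 L149265
theorem L149271 : sm gh N12054 = N13068 := rfl
theorem L149273 : sm ga N13068 = N13068 := ded_15_1 (flp_h L149271) L139921 L149271
theorem L149274 : sm gf N13068 = N12431 := ded_40_1 (flp_h L143371) (flp_f L139924) L149271
theorem L149276 : sm gd N13068 = N12747 := ded_33_1 (flp_h L146065) L136940 (flp_h L130921) (flp_d L139922) L149271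
theorem L149278 : sm gi N12055 = N13069 := rfl
theorem L149280 : sm ga N13069 = N13069 := ded_16_1 (flp_i L149278) L139928 L149278
theorem L149281 : sm gb N13069 = N12069 := ded_23_1 (flp_i L140078) (flp_b L139929) L149278
theorem L149283 : sm gd N13069 = N12078 := ded_34_1 (flp_i L140187) (flp_d L139936) L149278
theorem L149285 : sm ge N13069 = N12056 := ded_38_1 (flp_i L139938) (flp_e L139931) L149278
theorem L149287 : sm gf N13069 = N13069 := ded_41_1 (flp_i L149278) L139933 L149278
theorem L149288 : sm gg N13069 = N12423 := ded_43_1 (flp_i L143303) (flp_g L139934) L149278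
theorem L149290 : sm gh N13069 = N12063 := ded_44_1 (flp_i L140008) L130979 (flp_i L130930) L139926 L149278
theorem L149292 : sm gb N12057 = N13070 := rfl
theorem L149294 : sm gf N13070 = N12105 := ded_20_2 L140524 (flp_f L139954) L149292
theorem L149296 : sm gg N13070 = N12060 := ded_21_2 (flp_b L139985) (flp_g L139956) L149292
theorem L149298 : sm gh N13070 = N12064 := ded_22_2 (flp_b L140017) (flp_h L139958) L149292
theorem L149300 : sm gc N13070 = N12070 := ded_17_2 (flp_b L140091) (flp_c L131086) (flp_b L130949) L139951 L149292
theorem L149302 : sm ga N13070 = N12269 := ded_46_6 L142005 (flp_f L135300) (flp_e L127126) L72645 (flp_c L72640) L53064 L38898 (flp_h L36189) L36186 L36199 L36205 L33076 L24763 (flp_a L33605) L33608 L45812 (flp_e L62531) L120805 (flp_c L125526) (flp_b L133382) (flp_a L141093) L141097 (flp_f L135003) (flp_e L126834) (flp_d L72034) L52640 L52638 L38575 (flp_h L28325) L20776 (flp_e L28314) (flp_d L38659) L38658 L38656 (flp_a L39213) L53590 (flp_f L118406) (flp_e L126738) L134914 (flp_c L135764) (flp_b L135752) L127491 L73706 (flp_f L121940) L121946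 (flp_d L64928) (flp_c L64839) L64837 (flp_a L65111) (flp_h L65109) L65098 L65106 (flp_d L122693) L122691 (flp_b L123185) L123184 L130935 L130940 L123198 L130946 L139951 L149292
theorem L149304 : sm ge N12109 = N13070 := ded_35_5 L149294 (flp_e L140520) L131610 L131644 L140569
theorem L149306 : sm ge N12057 = N13071 := rfl
theorem L149308 : sm ga N13071 = N13071 := ded_12_1 (flp_e L149306) L139953 L149306
theorem L149309 : sm gb N13071 = N12109 := ded_19_1 L149304 (flp_b L149292) L149306
theorem L149311 : sm gc N13071 = N12058 := ded_25_1 (flp_e L139960) L139951 L149306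
theorem L149313 : sm gg N13071 = N12061 := ded_36_2 (flp_e L139993) (flp_g L139956) L149306
theorem L149315 : sm gh N13071 = N12065 := ded_37_2 (flp_e L140033) (flp_h L139958) L149306
theorem L149317 : sm gf N13071 = N12079 := ded_35_2 (flp_e L140200) L131313 (flp_e L134064) (flp_f L139954) L149306
theorem L149319 : sm gi N12057 = N13072 := rfl
theorem L149321 : sm ga N13072 = N13072 := ded_16_1 (flp_i L149319) L139953 L149319
theorem L149322 : sm gc N13072 = N12059 := ded_29_1 (flp_i L139972) L139951 L149319
theorem L149324 : sm gf N13072 = N12418 := ded_41_1 (flp_i L143262) (flp_f L139954) L149319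
theorem L149326 : sm gg N13072 = N12062 := ded_43_1 (flp_i L140001) (flp_g L139956) L149319
theorem L149328 : sm gh N13072 = N12422 := ded_44_1 (flp_i L143296) L134102 (flp_i L130999) (flp_h L139958) L149319
theorem L149330 : sm gi N12058 = N13073 := rfl
theorem L149332 : sm ga N13073 = N13073 := ded_16_1 (flp_i L149330) L139962 L149330
theorem L149333 : sm gb N13073 = N12072 := ded_23_1 (flp_i L140117) (flp_b L139963) L149330
theorem L149335 : sm gd N13073 = N13073 := ded_34_1 (flp_i L149330) L139969 L149330
theorem L149336 : sm ge N13073 = N12059 := ded_38_1 (flp_i L139972) L139960 L149330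
theorem L149338 : sm gf N13073 = N12081 := ded_41_1 (flp_i L140224) (flp_f L139970) L149330
theorem L149340 : sm gg N13073 = N12063 := ded_43_1 (flp_i L140008) (flp_g L139965) L149330
theorem L149342 : sm gh N13073 = N12423 := ded_44_1 (flp_i L143303) L134109 (flp_i L131010) (flp_h L139967) L149330
theorem L149344 : sm ga N12060 = N13074 := rfl
theorem L149346 : sm gc N13074 = N12073 := ded_10_2 (flp_a L140132) (flp_c L139991) L149344
theorem L149348 : sm gf N13074 = N12432 := ded_13_2 (flp_a L143374) (flp_f L139987) L149344
theorem L149350 : sm gg N13074 = N12269 := ded_14_2 (flp_a L149302) L149296 L149344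
theorem L149352 : sm gh N13074 = N12066 := ded_15_2 (flp_a L140046) (flp_h L139989) L149344
theorem L149354 : sm gb N13074 = N13074 := ded_9_2 (flp_a L149344) (flp_b L139985) L130969 L139985 L149344
theorem L149355 : sm ge N12276 = N13074 := ded_25_0 L149346 (flp_e L140142) (flp_c L142071)
theorem L149357 : sm ge N12060 = N13075 := rfl
theorem L149359 : sm ga N13075 = N12276 := ded_12_1 L149355 (flp_a L149344) L149357
theorem L149361 : sm gb N13075 = N12061 := ded_19_1 (flp_e L139993) L139985 L149357
theorem L149363 : sm gc N13075 = N12074 := ded_25_1 (flp_e L140144) (flp_c L139991) L149357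
theorem L149365 : sm gg N13075 = N12109 := ded_36_2 L149304 L149296 L149357
theorem L149367 : sm gh N13075 = N12067 := ded_37_2 (flp_e L140057) (flp_h L139989) L149357
theorem L149369 : sm gf N13075 = N13075 := ded_35_2 (flp_e L149357) L139987 L134178 (flp_f L139987) L149357
theorem L149370 : sm gi N12060 = N13076 := rfl
theorem L149372 : sm gb N13076 = N12062 := ded_23_1 (flp_i L140001) L139985 L149370
theorem L149374 : sm gc N13076 = N12075 := ded_29_1 (flp_i L140157) (flp_c L139991) L149370
theorem L149376 : sm gf N13076 = N12433 := ded_41_1 (flp_i L143384) (flp_f L139987) L149370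
theorem L149378 : sm gd N12061 = N13077 := rfl
theorem L149380 : sm ga N13077 = N13077 := ded_11_1 (flp_d L149378) L139995 L149378
theorem L149381 : sm gf N13077 = N13077 := ded_31_2 (flp_d L149378) L140000 L149378
theorem L149382 : sm gc N13077 = N13077 := ded_24_1 (flp_d L149378) L139996 L130981 (flp_c L139996) L149378
theorem L149383 : sm ge N13077 = N12617 := ded_30_2 L149244 (flp_e L149235) L139913 L139993 L149378
theorem L149385 : sm gh N13077 = N12614 := ded_33_2 L145015 L140076 (flp_d L140068) (flp_h L139998) L149378
theorem L149387 : sm gi N12061 = N13078 := rfl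
theorem L149389 : sm ga N13078 = N13078 := ded_16_1 (flp_i L149387) L139995 L149387
theorem L149390 : sm gc N13078 = N12063 := ded_29_1 (flp_i L140008) (flp_c L139996) L149387
theorem L149392 : sm ge N13078 = N12062 := ded_38_1 (flp_i L140001) L139993 L149387
theorem L149394 : sm gf N13078 = N13078 := ded_41_1 (flp_i L149387) L140000 L149387
theorem L149395 : sm gd N12067 = N13079 := rfl
theorem L149397 : sm ga N13079 = N12544 := ded_11_1 L144430 (flp_a L140059) L149395
theorem L149399 : sm gb N13079 = N12068 := ded_18_1 (flp_d L140068) (flp_b L140061) L149395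
theorem L149401 : sm gf N13079 = N13079 := ded_31_2 (flp_d L149395) L140067 L149395
theorem L149402 : sm gg N13079 = N12507 := ded_32_2 L144050 (flp_g L140065) L149395
theorem L149404 : sm gc N13079 = N13079 := ded_24_1 (flp_d L149395) L140063 L131192 (flp_c L140063) L149395
theorem L149405 : sm ge N13079 = N12585 := ded_30_2 (flp_d L144756) (flp_e L142291) L133230 L140057 L149395
theorem L149407 : sm gh N13079 = N12582 := ded_46_7 L144719 L144717 L135616 L127378 L73351 L53708 L53864 L53868 L39443 (flp_d L39059) L39057 (flp_b L52513) (flp_a L71676) (flp_h L71674) (flp_f L119437) (flp_e L49629) L49627 L36348 (flp_b L111400) L27178 (flp_h L26763) (flp_f L35094) L35096 (flp_d L35090) (flp_c L35031) (flp_b L47455) (flp_a L64713) (flp_h L64711) L47364 (flp_e L35844) L26281 L20722 L15231 L15229 L15277 L15281 L11231 L11233 (flp_c L15260) L15258 (flp_a L15449) (flp_h L15447) L15441 L21048 L28697 L28702 (flp_b L29129) L29128 L39749 L39754 (flp_e L50556) L69212 L126013 L134176 L143374 L143381 (flp_f L140050) (flp_e L140055) (flp_d L144430) L144429 L144428 (flp_a L149397)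
theorem L149409 : sm gi N12070 = N13080 := rfl
theorem L149411 : sm ga N13080 = N12272 := ded_16_1 (flp_i L142029) (flp_a L140101) L149409
theorem L149413 : sm gb N13080 = N12071 := ded_23_1 (flp_i L140103) L140091 L149409
theorem L149415 : sm ge N13080 = N12112 := ded_38_1 (flp_i L140599) (flp_e L140093) L149409
theorem L149417 : sm gf N13080 = N12107 := ded_41_1 (flp_i L140548) (flp_f L140095) L149409
theorem L149419 : sm gg N13080 = N12075 := ded_43_1 (flp_i L140157) (flp_g L140097) L149409
theorem L149421 : sm gh N13080 = N12309 := ded_44_1 (flp_i L142353) (flp_h L133265) (flp_i L131168) (flp_h L140099) L149409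
theorem L149423 : sm gi N12073 = N13081 := rfl
theorem L149425 : sm ga N13081 = N12075 := ded_16_1 (flp_i L140157) L140132 L149423
theorem L149427 : sm gb N13081 = N12077 := ded_23_1 (flp_i L140176) (flp_b L140140) L149423
theorem L149429 : sm ge N13081 = N12280 := ded_38_1 (flp_i L142107) L140142 L149423
theorem L149431 : sm gf N13081 = N12434 := ded_41_1 (flp_i L143393) (flp_f L140134) L149423
theorem L149433 : sm gg N13081 = N12272 := ded_43_1 (flp_i L142029) (flp_g L140136) L149423
theorem L149435 : sm gi N12074 = N13082 := rfl
theorem L149437 : sm ga N13082 = N12280 := ded_16_1 (flp_i L142107) (flp_a L140146) L149435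
theorem L149439 : sm gb N13082 = N12076 := ded_23_1 (flp_i L140163) (flp_b L140148) L149435
theorem L149441 : sm gd N13082 = N12654 := ded_34_1 (flp_i L145369) L140155 L149435
theorem L149443 : sm ge N13082 = N12075 := ded_38_1 (flp_i L140157) L140144 L149435
theorem L149445 : sm gf N13082 = N13082 := ded_41_1 (flp_i L149435) L140154 L149435
theorem L149446 : sm gg N13082 = N12112 := ded_43_1 (flp_i L140599) (flp_g L140150) L149435
theorem L149448 : sm gi N12082 = N13083 := rfl
theorem L149450 : sm ga N13083 = N12088 := ded_16_1 (flp_i L140303) (flp_a L140237) L149448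
theorem L149452 : sm gc N13083 = N12083 := ded_29_1 (flp_i L140248) L140235 L149448
theorem L149454 : sm gd N13083 = N12121 := ded_34_1 L140698 (flp_d L140246) L149448
theorem L149456 : sm ge N13083 = N12124 := ded_38_1 (flp_i L140718) (flp_e L140239) L149448
theorem L149458 : sm gf N13083 = N12122 := ded_41_1 L140705 (flp_f L140241) L149448
theorem L149460 : sm gg N13083 = N12085 := ded_43_1 (flp_i L140268) (flp_g L140243) L149448
theorem L149462 : sm gh N12671 = N13083 := ded_15_0 L149450 (flp_h L140317) (flp_a L145499)
theorem L149464 : sm gh N12083 = N13084 := rfl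
theorem L149466 : sm ga N13084 = N12089 := ded_15_1 (flp_h L140319) (flp_a L140250) L149464
theorem L149468 : sm gb N13084 = N12798 := ded_22_1 (flp_h L146545) (flp_b L140252) L149464
theorem L149470 : sm gc N13084 = N12671 := ded_28_1 L149462 L149452 L149464
theorem L149472 : sm ge N13084 = N12125 := ded_37_1 (flp_h L140726) (flp_e L140256) L149464
theorem L149474 : sm gf N13084 = N12672 := ded_40_1 L145509 L143080 L149464
theorem L149476 : sm gg N13084 = N12086 := ded_42_1 (flp_h L140277) (flp_g L140258) L149464
theorem L149478 : sm gd N13084 = N13084 := ded_33_1 (flp_h L149464) L140254 L131390 (flp_d L140254) L149464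
theorem L149479 : sm gi N13084 = N13084 := ded_44_2 (flp_h L149464) (flp_i L140248) L131377 L140248 L149464
theorem L149480 : sm ga N12084 = N13085 := rfl
theorem L149482 : sm gc N13085 = N12799 := ded_10_2 (flp_a L146559) (flp_c L140266) L149480
theorem L149484 : sm gd N13085 = N12549 := ded_11_2 (flp_a L147930) (flp_d L147939) L149480
theorem L149486 : sm ge N13085 = N12126 := ded_12_2 (flp_a L140737) (flp_e L140262) L149480
theorem L149488 : sm gf N13085 = N13085 := ded_13_2 (flp_a L149480) L140264 L149480
theorem L149489 : sm gg N13085 = N12550 := ded_14_2 (flp_a L144783) L144789 L149480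
theorem L149491 : sm gh N13085 = N13085 := ded_15_2 (flp_a L149480) L140265 L149480
theorem L149492 : sm gb N13085 = N12090 := ded_9_2 (flp_a L140333) (flp_b L131456) (flp_a L131393) L140260 L149480
theorem L149494 : sm gi N12084 = N13086 := rfl
theorem L149496 : sm gb N13086 = N12085 := ded_23_1 (flp_i L140268) L140260 L149494
theorem L149498 : sm gc N13086 = N12800 := ded_29_1 (flp_i L146571) (flp_c L140266) L149494
theorem L149500 : sm ge N13086 = N12127 := ded_38_1 (flp_i L140746) (flp_e L140262) L149494
theorem L149502 : sm gf N13086 = N13086 := ded_41_1 (flp_i L149494) L140264 L149494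
theorem L149503 : sm gh N12085 = N13087 := rfl
theorem L149505 : sm ga N13087 = N12092 := ded_15_1 (flp_h L140360) (flp_a L140270) L149503
theorem L149507 : sm gc N13087 = N12086 := ded_28_1 (flp_h L140277) (flp_c L140272) L149503
theorem L149509 : sm ge N13087 = N12128 := ded_37_1 (flp_h L140754) (flp_e L140274) L149503
theorem L149511 : sm gf N13087 = N13087 := ded_40_1 (flp_h L149503) L140276 L149503
theorem L149512 : sm gg N13087 = N12671 := ded_42_1 L149462 L149460 L149503
theorem L149514 : sm gd N13087 = N12670 := ded_33_1 (flp_h L145488) (flp_d L140169) (flp_h L148388) L148381 L149503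
theorem L149516 : sm gi N13087 = N13087 := ded_44_2 (flp_h L149503) (flp_i L140268) L131398 L140268 L149503
theorem L149517 : sm gi N12090 = N13088 := rfl
theorem L149519 : sm ga N13088 = N12091 := ded_16_1 (flp_i L140345) L140333 L149517
theorem L149521 : sm gc N13088 = N12094 := ded_29_1 (flp_i L140387) (flp_c L140335) L149517
theorem L149523 : sm gd N13088 = N12294 := ded_34_1 L142236 (flp_d L140337) L149517
theorem L149525 : sm ge N13088 = N12137 := ded_38_1 (flp_i L140846) (flp_e L140339) L149517
theorem L149527 : sm gf N13088 = N13088 := ded_41_1 (flp_i L149517) L140341 L149517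
theorem L149528 : sm gg N13088 = N12295 := ded_43_1 L142244 (flp_g L140342) L149517
theorem L149530 : sm gh N12731 = N13088 := ded_15_0 L149519 (flp_h L140358) (flp_a L145952)
theorem L149532 : sm gh N12094 = N13089 := rfl
theorem L149534 : sm ga N13089 = N12095 := ded_15_1 (flp_h L140397) (flp_a L140389) L149532
theorem L149536 : sm gb N13089 = N12806 := ded_22_1 (flp_h L146651) (flp_b L140391) L149532
theorem L149538 : sm gc N13089 = N12731 := ded_28_1 L149530 L149521 L149532
theorem L149540 : sm ge N13089 = N12140 := ded_37_1 (flp_h L140874) (flp_e L140394) L149532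
theorem L149542 : sm gf N13089 = N13089 := ded_40_1 (flp_h L149532) L140396 L149532
theorem L149543 : sm gg N13089 = N12732 := ded_42_1 L147365 L147363 L149532
theorem L149545 : sm gi N13089 = N13089 := ded_44_2 (flp_h L149532) (flp_i L140387) L131509 L140387 L149532
theorem L149546 : sm gd N12779 = N13089 := ded_11_0 L149534 (flp_d L140409) (flp_a L146322)
theorem L149548 : sm gd N12097 = N13090 := rfl
theorem L149550 : sm ga N13090 = N12255 := ded_11_1 (flp_d L141889) (flp_a L140425) L149548
theorem L149552 : sm gb N13090 = N13090 := ded_18_1 (flp_d L149548) L140427 L149548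
theorem L149553 : sm gf N13090 = N12629 := ded_31_2 (flp_d L145147) (flp_f L140432) L149548
theorem L149555 : sm gg N13090 = N12268 := ded_32_2 (flp_d L141995) (flp_g L140434) L149548
theorem L149557 : sm ge N13090 = N12958 := ded_30_2 (flp_d L148181) (flp_e L138897) (flp_d L132907) (flp_e L140430) L149548
theorem L149559 : sm gh N13090 = N12807 := ded_33_2 (flp_d L146661) (flp_h L137647) (flp_d L131543) L140423 L149548
theorem L149561 : sm gi N12097 = N13091 := rfl
theorem L149563 : sm ga N13091 = N12256 := ded_16_1 (flp_i L141897) (flp_a L140425) L149561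
theorem L149565 : sm gb N13091 = N13091 := ded_23_1 (flp_i L149561) L140427 L149561
theorem L149566 : sm gc N13091 = N12099 := ded_29_1 (flp_i L140450) (flp_c L140428) L149561
theorem L149568 : sm ge N13091 = N12267 := ded_38_1 (flp_i L141981) (flp_e L140430) L149561
theorem L149570 : sm gf N13091 = N12630 := ded_41_1 (flp_i L145154) (flp_f L140432) L149561
theorem L149572 : sm gg N13091 = N12270 := ded_43_1 (flp_i L142009) (flp_g L140434) L149561
theorem L149574 : sm gh N13091 = N12144 := ded_44_1 (flp_i L140912) (flp_h L131997) (flp_i L131540) L140423 L149561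
theorem L149576 : sm gc N12098 = N13092 := rfl
theorem L149578 : sm ga N13092 = N12257 := ded_10_1 (flp_c L141909) (flp_a L140438) L149576
theorem L149580 : sm ge N13092 = N12259 := ded_25_2 (flp_c L141923) (flp_e L140446) L149576
theorem L149582 : sm gf N13092 = N12631 := ded_26_2 (flp_c L145162) (flp_f L140442) L149576
theorem L149584 : sm gg N13092 = N12262 := ded_27_2 L141947 (flp_g L140444) L149576
theorem L149586 : sm gh N13092 = N12102 := ded_28_2 (flp_c L140490) (flp_h L140448) L149576
theorem L149588 : sm gi N12098 = N13093 := rfl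
theorem L149590 : sm ga N13093 = N12258 := ded_16_1 (flp_i L141915) (flp_a L140438) L149588
theorem L149592 : sm gb N13093 = N12114 := ded_23_1 (flp_i L140620) (flp_b L140440) L149588
theorem L149594 : sm gd N13093 = N12099 := ded_34_1 (flp_i L140450) L140436 L149588
theorem L149596 : sm ge N13093 = N12260 := ded_38_1 (flp_i L141929) (flp_e L140446) L149588
theorem L149598 : sm gf N13093 = N12633 := ded_41_1 (flp_i L145177) (flp_f L140442) L149588
theorem L149600 : sm gg N13093 = N12265 := ded_43_1 (flp_i L141965) (flp_g L140444) L149588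
theorem L149602 : sm gc N12100 = N13094 := rfl
theorem L149604 : sm ga N13094 = N12259 := ded_10_1 (flp_c L141923) (flp_a L140466) L149602
theorem L149606 : sm ge N13094 = N12257 := ded_25_2 (flp_c L141909) (flp_e L140472) L149602
theorem L149608 : sm gg N13094 = N12102 := ded_27_2 (flp_c L140490) (flp_g L140470) L149602
theorem L149610 : sm gh N13094 = N12262 := ded_28_2 L141947 (flp_h L140474) L149602
theorem L149612 : sm gd N13094 = N12817 := ded_24_2 (flp_c L146763) (flp_d L137712) (flp_c L131563) L140464 L149602
theorem L149614 : sm gi N12100 = N13095 := rfl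
theorem L149616 : sm ga N13095 = N12260 := ded_16_1 (flp_i L141929) (flp_a L140466) L149614
theorem L149618 : sm gb N13095 = N12116 := ded_23_1 (flp_i L140644) (flp_b L140468) L149614
theorem L149620 : sm gd N13095 = N12101 := ded_34_1 (flp_i L140476) L140464 L149614
theorem L149622 : sm ge N13095 = N12258 := ded_38_1 (flp_i L141915) (flp_e L140472) L149614
theorem L149624 : sm gg N13095 = N12104 := ded_43_1 (flp_i L140510) (flp_g L140470) L149614
theorem L149626 : sm gb N12102 = N13096 := rfl
theorem L149628 : sm gd N13096 = N12820 := ded_18_2 (flp_b L146791) (flp_d L140496) L149626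
theorem L149630 : sm gf N13096 = N12634 := ded_20_2 (flp_b L145185) (flp_f L140494) L149626
theorem L149632 : sm gc N13096 = N12117 := ded_17_2 (flp_b L140654) (flp_c L131743) (flp_b L131573) L140490 L149626
theorem L149634 : sm ge N12102 = N13097 := rfl
theorem L149636 : sm ga N13097 = N12262 := ded_12_1 (flp_e L141945) (flp_a L140492) L149634
theorem L149638 : sm gc N13097 = N12103 := ded_25_1 (flp_e L140498) L140490 L149634
theorem L149640 : sm gg N13097 = N12257 := ded_36_2 (flp_e L149606) L149608 L149634
theorem L149642 : sm gh N13097 = N12259 := ded_37_2 (flp_e L149580) L149586 L149634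
theorem L149644 : sm gi N12102 = N13098 := rfl
theorem L149646 : sm ga N13098 = N12263 := ded_16_1 (flp_i L141949) (flp_a L140492) L149644
theorem L149648 : sm gc N13098 = N12104 := ded_29_1 (flp_i L140510) L140490 L149644
theorem L149650 : sm gd N13098 = N12822 := ded_34_1 (flp_i L146803) (flp_d L140496) L149644
theorem L149652 : sm gf N13098 = N12636 := ded_41_1 (flp_i L145197) (flp_f L140494) L149644
theorem L149654 : sm gi N12103 = N13099 := rfl
theorem L149656 : sm ga N13099 = N12265 := ded_16_1 (flp_i L141965) (flp_a L140500) L149654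
theorem L149658 : sm gb N13099 = N12119 := ded_23_1 (flp_i L140670) (flp_b L140502) L149654
theorem L149660 : sm gd N13099 = N12107 := ded_34_1 (flp_i L140548) (flp_d L140508) L149654
theorem L149662 : sm ge N13099 = N12104 := ded_38_1 (flp_i L140510) L140498 L149654
theorem L149664 : sm gg N13099 = N12258 := ded_43_1 (flp_i L141915) (flp_g L140504) L149654
theorem L149666 : sm gh N12104 = N13100 := rfl
theorem L149668 : sm ga N13100 = N12266 := ded_15_1 (flp_h L141973) (flp_a L140512) L149666
theorem L149670 : sm gb N13100 = N12120 := ded_22_1 (flp_h L140680) (flp_b L140514) L149666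
theorem L149672 : sm gf N13100 = N12639 := ded_40_1 (flp_h L145223) (flp_f L140518) L149666
theorem L149674 : sm gd N13100 = N12161 := ded_33_1 (flp_h L141062) L132091 (flp_h L131589) (flp_d L140516) L149666
theorem L149676 : sm gd N12105 = N13101 := rfl
theorem L149678 : sm ga N13101 = N12268 := ded_11_1 (flp_d L141995) (flp_a L140522) L149676
theorem L149680 : sm gb N13101 = N12417 := ded_18_1 (flp_d L143255) (flp_b L140524) L149676
theorem L149682 : sm gg N13101 = N12255 := ded_32_2 (flp_d L141889) (flp_g L140528) L149676
theorem L149684 : sm ge N13101 = N12828 := ded_30_2 (flp_d L146865) (flp_e L137778) (flp_d L131618) L140520 L149676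
theorem L149686 : sm gh N13101 = N12922 := ded_33_2 (flp_d L147892) (flp_h L138734) (flp_d L132825) (flp_h L140530) L149676
theorem L149688 : sm gi N12105 = N13102 := rfl
theorem L149690 : sm ga N13102 = N12270 := ded_16_1 (flp_i L142009) (flp_a L140522) L149688
theorem L149692 : sm gb N13102 = N12418 := ded_23_1 (flp_i L143262) (flp_b L140524) L149688
theorem L149694 : sm gc N13102 = N12107 := ded_29_1 (flp_i L140548) (flp_c L140526) L149688
theorem L149696 : sm ge N13102 = N12106 := ded_38_1 (flp_i L140532) L140520 L149688
theorem L149698 : sm gg N13102 = N12256 := ded_43_1 (flp_i L141897) (flp_g L140528) L149688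
theorem L149700 : sm gh N13102 = N12304 := ded_44_1 (flp_i L142317) (flp_h L133232) (flp_i L132829) (flp_h L140530) L149688
theorem L149702 : sm gf N12108 = N13103 := rfl
theorem L149704 : sm ga N13103 = N12273 := ded_13_1 (flp_f L142037) (flp_a L140562) L149702
theorem L149706 : sm gc N13103 = N12647 := ded_26_1 (flp_f L145293) (flp_c L140565) L149702
theorem L149708 : sm gd N13103 = N12109 := ded_31_1 (flp_f L140569) L140560 L149702
theorem L149710 : sm gi N12109 = N13104 := rfl
theorem L149712 : sm ga N13104 = N12277 := ded_16_1 (flp_i L142076) (flp_a L140571) L149710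
theorem L149714 : sm gc N13104 = N12112 := ded_29_1 (flp_i L140599) (flp_c L140573) L149710
theorem L149716 : sm gf N13104 = N12110 := ded_41_1 (flp_i L140577) L140569 L149710
theorem L149718 : sm gh N12112 = N13105 := rfl
theorem L149720 : sm ga N13105 = N12281 := ded_15_1 (flp_h L142116) (flp_a L140601) L149718
theorem L149722 : sm gb N13105 = N12121 := ded_22_1 (flp_h L140688) (flp_b L140603) L149718
theorem L149724 : sm ge N13105 = N12309 := ded_37_1 (flp_h L149421) L149415 L149718
theorem L149726 : sm gf N13105 = N12113 := ded_40_1 (flp_h L140609) (flp_f L140607) L149718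
theorem L149728 : sm gi N13105 = N12308 := ded_44_2 (flp_h L142343) L133260 (flp_h L131670) L140599 L149718
theorem L149730 : sm gh N12114 = N13106 := rfl
theorem L149732 : sm ga N13106 = N12129 := ded_15_1 (flp_h L140763) (flp_a L140622) L149730
theorem L149734 : sm ge N13106 = N12286 := ded_37_1 (flp_h L142165) (flp_e L140626) L149730
theorem L149736 : sm gf N13106 = N12660 := ded_40_1 (flp_h L145418) (flp_f L140628) L149730
theorem L149738 : sm gg N13106 = N12293 := ded_42_1 (flp_h L142222) (flp_g L140630) L149730
theorem L149740 : sm gd N13106 = N12192 := ded_33_1 (flp_h L141354) L132290 (flp_h L131719) (flp_d L140624) L149730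
theorem L149742 : sm gi N13106 = N12120 := ded_44_2 (flp_h L140680) (flp_i L131761) (flp_h L131706) L140620 L149730
theorem L149744 : sm gb N12115 = N13107 := rfl
theorem L149746 : sm gd N13107 = N12123 := ded_18_2 (flp_b L140711) (flp_d L140642) L149744
theorem L149748 : sm ge N13107 = N12283 := ded_19_2 (flp_b L142137) (flp_e L140636) L149744
theorem L149750 : sm gg N13107 = N12117 := ded_21_2 (flp_b L140654) (flp_g L140638) L149744
theorem L149752 : sm gh N13107 = N12287 := ded_22_2 L142175 (flp_h L140640) L149744
theorem L149754 : sm gi N12115 = N13108 := rfl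
theorem L149756 : sm ga N13108 = N12130 := ded_16_1 (flp_i L140777) (flp_a L140634) L149754
theorem L149758 : sm gc N13108 = N12116 := ded_29_1 (flp_i L140644) L140632 L149754
theorem L149760 : sm gd N13108 = N12124 := ded_34_1 (flp_i L140718) (flp_d L140642) L149754
theorem L149762 : sm ge N13108 = N12284 := ded_38_1 (flp_i L142145) (flp_e L140636) L149754
theorem L149764 : sm gg N13108 = N12118 := ded_43_1 (flp_i L140660) (flp_g L140638) L149754
theorem L149766 : sm gh N12116 = N13109 := rfl
theorem L149768 : sm ga N13109 = N12131 := ded_15_1 (flp_h L140787) (flp_a L140646) L149766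
theorem L149770 : sm ge N13109 = N12285 := ded_37_1 (flp_h L142155) (flp_e L140650) L149766
theorem L149772 : sm gg N13109 = N12120 := ded_42_1 (flp_h L140680) (flp_g L140652) L149766
theorem L149774 : sm gd N13109 = N12200 := ded_33_1 (flp_h L141420) L132329 (flp_h L131741) (flp_d L140648) L149766
theorem L149776 : sm gi N13109 = N12293 := ded_44_2 (flp_h L142222) (flp_i L133080) (flp_h L131729) L140644 L149766
theorem L149778 : sm ga N12117 = N13110 := rfl
theorem L149780 : sm gd N13110 = N12126 := ded_11_2 (flp_a L140737) (flp_d L140656) L149778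
theorem L149782 : sm gf N13110 = N12195 := ded_13_2 L141379 (flp_f L140658) L149778
theorem L149784 : sm gb N13110 = N12132 := ded_9_2 (flp_a L140799) (flp_b L131875) (flp_a L131745) L140654 L149778
theorem L149786 : sm gi N12117 = N13111 := rfl
theorem L149788 : sm gb N13111 = N12118 := ded_23_1 (flp_i L140660) L140654 L149786
theorem L149790 : sm gd N13111 = N12127 := ded_34_1 (flp_i L140746) (flp_d L140656) L149786
theorem L149792 : sm gf N13111 = N12662 := ded_41_1 (flp_i L145429) (flp_f L140658) L149786
theorem L149794 : sm gh N12118 = N13112 := rfl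
theorem L149796 : sm ga N13112 = N12134 := ded_15_1 (flp_h L140817) (flp_a L140662) L149794
theorem L149798 : sm gc N13112 = N12120 := ded_28_1 (flp_h L140680) (flp_c L140664) L149794
theorem L149800 : sm gf N13112 = N12664 := ded_40_1 (flp_h L145444) (flp_f L140668) L149794
theorem L149802 : sm gh N12119 = N13113 := rfl
theorem L149804 : sm ga N13113 = N12135 := ded_15_1 (flp_h L140823) (flp_a L140672) L149802
theorem L149806 : sm ge N13113 = N12120 := ded_37_1 (flp_h L140680) (flp_e L140676) L149802
theorem L149808 : sm gg N13113 = N12285 := ded_42_1 (flp_h L142155) (flp_g L140678) L149802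
theorem L149810 : sm gd N13113 = N12365 := ded_33_1 (flp_h L142811) L133577 (flp_h L131779) (flp_d L140674) L149802
theorem L149812 : sm gi N13113 = N12286 := ded_44_2 (flp_h L142165) (flp_i L133041) (flp_h L131757) L140670 L149802
theorem L149814 : sm gi N12123 = N13114 := rfl
theorem L149816 : sm gb N13114 = N12124 := ded_23_1 (flp_i L140718) L140711 L149814
theorem L149818 : sm gc N13114 = N12878 := ded_29_1 (flp_i L147395) (flp_c L140716) L149814
theorem L149820 : sm gg N13114 = N12127 := ded_43_1 (flp_i L140746) (flp_g L140713) L149814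
theorem L149822 : sm gh N12124 = N13115 := rfl
theorem L149824 : sm ga N13115 = N12136 := ded_15_1 (flp_h L140835) (flp_a L140720) L149822
theorem L149826 : sm gc N13115 = N12125 := ded_28_1 (flp_h L140726) (flp_c L140722) L149822
theorem L149828 : sm ge N13115 = N12671 := ded_37_1 L149462 L149456 L149822
theorem L149830 : sm gg N13115 = N12128 := ded_42_1 (flp_h L140754) (flp_g L140724) L149822
theorem L149832 : sm gi N13115 = N13115 := ded_44_2 (flp_h L149822) (flp_i L140718) L131806 L140718 L149822
theorem L149833 : sm gi N12126 = N13116 := rfl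
theorem L149835 : sm ga N13116 = N12127 := ded_16_1 (flp_i L140746) L140737 L149833
theorem L149837 : sm gb N13116 = N12137 := ded_23_1 (flp_i L140846) (flp_b L140744) L149833
theorem L149839 : sm gc N13116 = N12880 := ded_29_1 (flp_i L147416) (flp_c L140739) L149833
theorem L149841 : sm gf N13116 = N12218 := ded_41_1 (flp_i L141565) (flp_f L140741) L149833
theorem L149843 : sm gh N12127 = N13117 := rfl
theorem L149845 : sm gb N13117 = N12128 := ded_22_1 (flp_h L140754) (flp_b L140748) L149843
theorem L149847 : sm gc N13117 = N12881 := ded_28_1 (flp_h L147424) (flp_c L140750) L149843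
theorem L149849 : sm gf N13117 = N12673 := ded_40_1 (flp_h L145515) (flp_f L140752) L149843
theorem L149851 : sm gi N13117 = N13117 := ded_44_2 (flp_h L149843) (flp_i L140746) L131821 L140746 L149843
theorem L149852 : sm gd N12128 = N13118 := rfl
theorem L149854 : sm ga N13118 = N12139 := ded_11_1 (flp_d L140867) (flp_a L140756) L149852
theorem L149856 : sm gf N13118 = N12674 := ded_31_2 (flp_d L145523) (flp_f L140760) L149852
theorem L149858 : sm gi N13118 = N13118 := ded_34_2 (flp_d L149852) L140762 L149852
theorem L149859 : sm gc N13118 = N12222 := ded_24_1 (flp_d L141601) L132486 (flp_d L131840) (flp_c L140758) L149852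
theorem L149861 : sm gh N12130 = N13119 := rfl
theorem L149863 : sm gc N13119 = N12131 := ded_28_1 (flp_h L140787) (flp_c L140779) L149861
theorem L149865 : sm ge N13119 = N12297 := ded_37_1 (flp_h L142262) (flp_e L140783) L149861
theorem L149867 : sm gg N13119 = N12134 := ded_42_1 (flp_h L140817) (flp_g L140785) L149861
theorem L149869 : sm gi N13119 = N12299 := ded_44_2 (flp_h L142279) (flp_i L133173) (flp_h L131861) L140777 L149861
theorem L149871 : sm gi N12132 = N13120 := rfl
theorem L149873 : sm ga N13120 = N12133 := ded_16_1 (flp_i L140807) L140799 L149871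
theorem L149875 : sm gc N13120 = N12194 := ded_29_1 (flp_i L141365) (flp_c L140801) L149871
theorem L149877 : sm gd N13120 = N12137 := ded_34_1 (flp_i L140846) (flp_d L140803) L149871
theorem L149879 : sm gf N13120 = N12197 := ded_41_1 (flp_i L141392) (flp_f L140805) L149871
theorem L149881 : sm gh N12133 = N13121 := rfl
theorem L149883 : sm gb N13121 = N12134 := ded_22_1 (flp_h L140817) (flp_b L140809) L149881
theorem L149885 : sm gc N13121 = N12233 := ded_28_1 (flp_h L141698) (flp_c L140811) L149881
theorem L149887 : sm gf N13121 = N12235 := ded_40_1 (flp_h L141715) (flp_f L140815) L149881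
theorem L149889 : sm gd N12134 = N13122 := rfl
theorem L149891 : sm gf N13122 = N12678 := ded_31_2 (flp_d L145548) (flp_f L140821) L149889
theorem L149893 : sm gc N13122 = N12244 := ded_24_1 (flp_d L141794) L132677 (flp_d L131907) (flp_c L140819) L149889
theorem L149895 : sm gh N13122 = N12139 := ded_33_2 (flp_d L140867) (flp_h L131962) (flp_d L131887) L140817 L149889
theorem L149897 : sm gd N12136 = N13123 := rfl
theorem L149899 : sm gb N13123 = N12742 := ded_18_1 L146026 (flp_b L140837) L149897
theorem L149901 : sm gg N13123 = N12139 := ded_32_2 (flp_d L140867) (flp_g L140843) L149897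
theorem L149903 : sm gi N13123 = N13123 := ded_34_2 (flp_d L149897) L140845 L149897
theorem L149904 : sm gc N13123 = N12251 := ded_24_1 (flp_d L141861) L132779 (flp_d L131944) (flp_c L140839) L149897
theorem L149906 : sm ge N13123 = N12682 := ded_30_2 (flp_d L145574) L136551 L136570 (flp_e L140841) L149897
theorem L149908 : sm gh N12137 = N13124 := rfl
theorem L149910 : sm ga N13124 = N12138 := ded_15_1 (flp_h L140854) (flp_a L140848) L149908
theorem L149912 : sm gc N13124 = N12140 := ded_28_1 (flp_h L140874) (flp_c L140850) L149908
theorem L149914 : sm ge N13124 = N12731 := ded_37_1 L149530 L149525 L149908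
theorem L149916 : sm gf N13124 = N12219 := ded_40_1 (flp_h L141574) (flp_f L140852) L149908
theorem L149918 : sm gg N13124 = N12733 := ded_42_1 L147348 L147346 L149908
theorem L149920 : sm gi N13124 = N13124 := ded_44_2 (flp_h L149908) (flp_i L140846) L131953 L140846 L149908
theorem L149921 : sm gd N12138 = N13125 := rfl
theorem L149923 : sm gb N13125 = N12139 := ded_18_1 (flp_d L140867) (flp_b L140856) L149921
theorem L149925 : sm gf N13125 = N12251 := ded_31_2 (flp_d L141861) (flp_f L140862) L149921
theorem L149927 : sm gg N13125 = N12742 := ded_32_2 L146026 (flp_g L140864) L149921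
theorem L149929 : sm gi N13125 = N13125 := ded_34_2 (flp_d L149921) L140866 L149921
theorem L149930 : sm ge N13125 = N12740 := ded_30_2 (flp_d L146011) L136894 L136909 (flp_e L140860) L149921
theorem L149932 : sm ge N12139 = N13126 := rfl
theorem L149934 : sm gb N13126 = N12740 := ded_19_1 (flp_e L149930) L149923 L149932
theorem L149936 : sm gc N13126 = N12254 := ded_25_1 (flp_e L141885) (flp_c L140872) L149932
theorem L149938 : sm gg N13126 = N12682 := ded_36_2 (flp_e L149906) L149901 L149932
theorem L149940 : sm gi N13126 = N13126 := ded_38_2 (flp_e L149932) L140871 L149932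
theorem L149941 : sm gd N13126 = N12681 := ded_30_1 L145569 (flp_d L140371) L140366 L140867 L149932
theorem L149943 : sm gh N12141 = N13127 := rfl
theorem L149945 : sm ga N13127 = N12302 := ded_15_1 (flp_h L142303) (flp_a L140885) L149943
theorem L149947 : sm gb N13127 = N13127 := ded_22_1 (flp_h L149943) L140887 L149943
theorem L149948 : sm gc N13127 = N12145 := ded_28_1 (flp_h L140921) (flp_c L140888) L149943
theorem L149950 : sm ge N13127 = N12548 := ded_37_1 (flp_h L144469) (flp_e L140894) L149943
theorem L149952 : sm gf N13127 = N12142 := ded_40_1 (flp_h L140896) L140883 L149943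
theorem L149954 : sm gd N12142 = N13128 := rfl
theorem L149956 : sm ga N13128 = N12303 := ded_11_1 (flp_d L142311) (flp_a L140898) L149954
theorem L149958 : sm gb N13128 = N13128 := ded_18_1 (flp_d L149954) L140900 L149954
theorem L149959 : sm gg N13128 = N12143 := ded_32_2 (flp_d L140907) (flp_g L140905) L149954
theorem L149961 : sm gi N12142 = N13129 := rfl
theorem L149963 : sm ga N13129 = N12304 := ded_16_1 (flp_i L142317) (flp_a L140898) L149961
theorem L149965 : sm gb N13129 = N13129 := ded_23_1 (flp_i L149961) L140900 L149961
theorem L149966 : sm gc N13129 = N12147 := ded_29_1 (flp_i L140943) (flp_c L140901) L149961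
theorem L149968 : sm ge N13129 = N12271 := ded_38_1 L142027 (flp_e L140903) L149961
theorem L149970 : sm gg N13129 = N12144 := ded_43_1 (flp_i L140912) (flp_g L140905) L149961
theorem L149972 : sm gh N13129 = N12270 := ded_44_1 (flp_i L142009) L132927 (flp_i L131995) L140896 L149961
theorem L149974 : sm gc N12143 = N13130 := rfl
theorem L149976 : sm ga N13130 = N12305 := ded_10_1 (flp_c L142327) (flp_a L140909) L149974
theorem L149978 : sm gd N13130 = N12148 := ded_24_2 (flp_c L140955) (flp_d L132028) (flp_c L132002) L140907 L149974
theorem L149980 : sm ge N12143 = N13131 := rfl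
theorem L149982 : sm ga N13131 = N12306 := ded_12_1 (flp_e L142331) (flp_a L140909) L149980
theorem L149984 : sm gb N13131 = N13131 := ded_19_1 (flp_e L149980) L140911 L149980
theorem L149985 : sm gd N13131 = N12510 := ded_30_1 (flp_e L144076) (flp_d L134933) (flp_e L132004) L140907 L149980
theorem L149987 : sm gi N12143 = N13132 := rfl
theorem L149989 : sm ga N13132 = N12307 := ded_16_1 (flp_i L142337) (flp_a L140909) L149987
theorem L149991 : sm gb N13132 = N13132 := ded_23_1 (flp_i L149987) L140911 L149987
theorem L149992 : sm gd N13132 = N12144 := ded_34_1 (flp_i L140912) L140907 L149987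
theorem L149994 : sm gd N12145 = N13133 := rfl
theorem L149996 : sm ga N13133 = N12283 := ded_11_1 L142139 (flp_a L140923) L149994
theorem L149998 : sm gb N13133 = N12183 := ded_18_1 (flp_d L141272) (flp_b L140925) L149994
theorem L150000 : sm gf N13133 = N12146 := ded_31_2 (flp_d L140931) (flp_f L140929) L149994
theorem L150002 : sm gh N13133 = N12151 := ded_33_2 (flp_d L140981) (flp_h L132044) (flp_d L132012) L140921 L149994
theorem L150004 : sm gi N12145 = N13134 := rfl
theorem L150006 : sm ga N13134 = N12309 := ded_16_1 (flp_i L142353) (flp_a L140923) L150004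
theorem L150008 : sm gb N13134 = N12184 := ded_23_1 (flp_i L141280) (flp_b L140925) L150004
theorem L150010 : sm ge N13134 = N12281 := ded_38_1 L142122 (flp_e L140927) L150004
theorem L150012 : sm gf N13134 = N12147 := ded_41_1 (flp_i L140943) (flp_f L140929) L150004
theorem L150014 : sm gh N13134 = N12272 := ded_44_1 (flp_i L142029) L132942 (flp_i L132014) L140921 L150004
theorem L150016 : sm gc N12146 = N13135 := rfl
theorem L150018 : sm ga N13135 = N12310 := ded_10_1 (flp_c L142359) (flp_a L140933) L150016
theorem L150020 : sm ge N13135 = N12581 := ded_25_2 (flp_c L144710) (flp_e L140939) L150016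
theorem L150022 : sm gg N13135 = N12148 := ded_27_2 (flp_c L140955) (flp_g L140937) L150016
theorem L150024 : sm gh N13135 = N12153 := ded_28_2 (flp_c L141000) (flp_h L140941) L150016
theorem L150026 : sm gi N12146 = N13136 := rfl
theorem L150028 : sm ga N13136 = N12312 := ded_16_1 (flp_i L142379) (flp_a L140933) L150026
theorem L150030 : sm gb N13136 = N12186 := ded_23_1 (flp_i L141302) (flp_b L140935) L150026
theorem L150032 : sm gd N13136 = N12147 := ded_34_1 (flp_i L140943) L140931 L150026
theorem L150034 : sm ge N13136 = N12350 := ded_38_1 L142673 (flp_e L140939) L150026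
theorem L150036 : sm gg N13136 = N12150 := ded_43_1 (flp_i L140973) (flp_g L140937) L150026
theorem L150038 : sm gb N12148 = N13137 := rfl
theorem L150040 : sm gh N13137 = N12156 := ded_22_2 (flp_b L141028) (flp_h L140959) L150038
theorem L150042 : sm gc N13137 = N12187 := ded_17_2 (flp_b L141312) (flp_c L132269) (flp_b L132032) L140955 L150038
theorem L150044 : sm ge N12148 = N13138 := rfl
theorem L150046 : sm ga N13138 = N12314 := ded_12_1 (flp_e L142395) (flp_a L140957) L150044
theorem L150048 : sm gc N13138 = N12149 := ded_25_1 (flp_e L140961) L140955 L150044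
theorem L150050 : sm gg N13138 = N12581 := ded_36_2 (flp_e L150020) L150022 L150044
theorem L150052 : sm gh N13138 = N12157 := ded_37_2 (flp_e L141032) (flp_h L140959) L150044
theorem L150054 : sm gi N12148 = N13139 := rfl
theorem L150056 : sm ga N13139 = N12315 := ded_16_1 (flp_i L142401) (flp_a L140957) L150054
theorem L150058 : sm gc N13139 = N12150 := ded_29_1 (flp_i L140973) L140955 L150054
theorem L150060 : sm gf N12149 = N13140 := rfl
theorem L150062 : sm ga N13140 = N12316 := ded_13_1 (flp_f L142405) (flp_a L140963) L150060
theorem L150064 : sm gb N13140 = N12190 := ded_20_1 (flp_f L141336) (flp_b L140965) L150060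
theorem L150066 : sm gd N13140 = N12513 := ded_31_1 (flp_f L144102) (flp_d L140971) L150060
theorem L150068 : sm gh N13140 = N12159 := ded_40_2 (flp_f L141044) (flp_h L140969) L150060
theorem L150070 : sm gi N12149 = N13141 := rfl
theorem L150072 : sm ga N13141 = N12317 := ded_16_1 (flp_i L142413) (flp_a L140963) L150070
theorem L150074 : sm gb N13141 = N12191 := ded_23_1 (flp_i L141344) (flp_b L140965) L150070
theorem L150076 : sm gd N13141 = N12340 := ded_34_1 L142593 (flp_d L140971) L150070
theorem L150078 : sm ge N13141 = N12150 := ded_38_1 (flp_i L140973) L140961 L150070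
theorem L150080 : sm gg N13141 = N12350 := ded_43_1 L142673 (flp_g L140967) L150070
theorem L150082 : sm gh N12150 = N13142 := rfl
theorem L150084 : sm ga N13142 = N12318 := ded_15_1 (flp_h L142421) (flp_a L140975) L150082
theorem L150086 : sm gb N13142 = N12192 := ded_22_1 (flp_h L141354) (flp_b L140977) L150082
theorem L150088 : sm gi N13142 = N12161 := ded_44_2 (flp_h L141062) (flp_i L132085) (flp_h L132034) L140973 L150082
theorem L150090 : sm gc N12151 = N13143 := rfl
theorem L150092 : sm ga N13143 = N12261 := ded_10_1 L141943 (flp_a L140983) L150090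
theorem L150094 : sm gf N13143 = N12153 := ded_26_2 (flp_c L141000) (flp_f L140987) L150090
theorem L150096 : sm gd N13143 = N12948 := ded_24_2 L148117 L139285 (flp_c L132050) L140981 L150090
theorem L150098 : sm ge N12151 = N13144 := rfl
theorem L150100 : sm ga N13144 = N12287 := ded_12_1 (flp_e L142173) (flp_a L140983) L150098
theorem L150102 : sm gb N13144 = N12193 := ded_19_1 (flp_e L141360) (flp_b L140985) L150098
theorem L150104 : sm gd N13144 = N13144 := ded_30_1 (flp_e L150098) (flp_d L140981) L132052 L140981 L150098
theorem L150105 : sm gi N12151 = N13145 := rfl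
theorem L150107 : sm ga N13145 = N12288 := ded_16_1 (flp_i L142178) (flp_a L140983) L150105
theorem L150109 : sm gb N13145 = N12194 := ded_23_1 (flp_i L141365) (flp_b L140985) L150105
theorem L150111 : sm gd N13145 = N12152 := ded_34_1 (flp_i L140989) L140981 L150105
theorem L150113 : sm gf N13145 = N12155 := ded_41_1 (flp_i L141018) (flp_f L140987) L150105
theorem L150115 : sm gb N12153 = N13146 := rfl
theorem L150117 : sm gg N13146 = N12156 := ded_21_2 (flp_b L141028) (flp_g L141004) L150115
theorem L150119 : sm ga N13146 = N12634 := ded_9_1 (flp_b L145185) L136249 (flp_b L133309) (flp_a L141002) L150115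
theorem L150121 : sm gc N13146 = N12195 := ded_17_2 (flp_b L141373) (flp_c L132307) (flp_b L132059) L141000 L150115
theorem L150123 : sm ge N12153 = N13147 := rfl
theorem L150125 : sm ga N13147 = N12319 := ded_12_1 (flp_e L142427) (flp_a L141002) L150123
theorem L150127 : sm gc N13147 = N12154 := ded_25_1 (flp_e L141006) L141000 L150123
theorem L150129 : sm gg N13147 = N12157 := ded_36_2 (flp_e L141032) (flp_g L141004) L150123
theorem L150131 : sm gh N13147 = N12581 := ded_37_2 (flp_e L150020) L150024 L150123
theorem L150133 : sm gi N12153 = N13148 := rfl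
theorem L150135 : sm ga N13148 = N12320 := ded_16_1 (flp_i L142435) (flp_a L141002) L150133
theorem L150137 : sm gc N13148 = N12155 := ded_29_1 (flp_i L141018) L141000 L150133
theorem L150139 : sm gg N13148 = N12158 := ded_43_1 (flp_i L141038) (flp_g L141004) L150133
theorem L150141 : sm gf N12154 = N13149 := rfl
theorem L150143 : sm ga N13149 = N12321 := ded_13_1 (flp_f L142443) (flp_a L141008) L150141
theorem L150145 : sm gb N13149 = N12198 := ded_20_1 (flp_f L141402) (flp_b L141010) L150141
theorem L150147 : sm gd N13149 = N12164 := ded_31_1 (flp_f L141091) (flp_d L141016) L150141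
theorem L150149 : sm gh N13149 = N12580 := ded_40_2 L144708 (flp_h L141014) L150141
theorem L150151 : sm gi N12154 = N13150 := rfl
theorem L150153 : sm ga N13150 = N12322 := ded_16_1 (flp_i L142449) (flp_a L141008) L150151
theorem L150155 : sm gb N13150 = N12199 := ded_23_1 (flp_i L141410) (flp_b L141010) L150151
theorem L150157 : sm gd N13150 = N12165 := ded_34_1 (flp_i L141100) (flp_d L141016) L150151
theorem L150159 : sm ge N13150 = N12155 := ded_38_1 (flp_i L141018) L141006 L150151
theorem L150161 : sm gg N13150 = N12160 := ded_43_1 (flp_i L141052) (flp_g L141012) L150151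
theorem L150163 : sm gh N12155 = N13151 := rfl
theorem L150165 : sm ga N13151 = N12323 := ded_15_1 (flp_h L142459) (flp_a L141020) L150163
theorem L150167 : sm gb N13151 = N12200 := ded_22_1 (flp_h L141420) (flp_b L141022) L150163
theorem L150169 : sm gg N13151 = N12161 := ded_42_1 (flp_h L141062) (flp_g L141026) L150163
theorem L150171 : sm ga N12156 = N13152 := rfl
theorem L150173 : sm gc N13152 = N12201 := ded_10_2 (flp_a L141426) (flp_c L141030) L150171
theorem L150175 : sm gd N13152 = N13146 := ded_11_2 L150119 L145187 L150171
theorem L150177 : sm gg N13152 = N12634 := ded_14_2 (flp_a L150119) L150117 L150171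
theorem L150179 : sm gb N13152 = N12324 := ded_9_2 (flp_a L142465) (flp_b L133327) (flp_a L132075) L141028 L150171
theorem L150181 : sm ge N12156 = N13153 := rfl
theorem L150183 : sm gb N13153 = N12157 := ded_19_1 (flp_e L141032) L141028 L150181
theorem L150185 : sm gc N13153 = N12202 := ded_25_1 (flp_e L141434) (flp_c L141030) L150181
theorem L150187 : sm gi N12156 = N13154 := rfl
theorem L150189 : sm gb N13154 = N12158 := ded_23_1 (flp_i L141038) L141028 L150187
theorem L150191 : sm gc N13154 = N12203 := ded_29_1 (flp_i L141439) (flp_c L141030) L150187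
theorem L150193 : sm gd N12157 = N13155 := rfl
theorem L150195 : sm ga N13155 = N12327 := ded_11_1 (flp_d L142491) (flp_a L141034) L150193
theorem L150197 : sm gc N13155 = N12166 := ded_24_1 (flp_d L141112) L132131 (flp_d L132083) (flp_c L141036) L150193
theorem L150199 : sm gf N12157 = N13156 := rfl
theorem L150201 : sm ga N13156 = N12328 := ded_13_1 (flp_f L142495) (flp_a L141034) L150199
theorem L150203 : sm gc N13156 = N12159 := ded_26_1 (flp_f L141044) (flp_c L141036) L150199
theorem L150205 : sm gi N12157 = N13157 := rfl
theorem L150207 : sm ga N13157 = N12329 := ded_16_1 (flp_i L142499) (flp_a L141034) L150205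
theorem L150209 : sm gc N13157 = N12160 := ded_29_1 (flp_i L141052) (flp_c L141036) L150205
theorem L150211 : sm ge N13157 = N12158 := ded_38_1 (flp_i L141038) L141032 L150205
theorem L150213 : sm gh N12158 = N13158 := rfl
theorem L150215 : sm ga N13158 = N12330 := ded_15_1 (flp_h L142505) (flp_a L141040) L150213
theorem L150217 : sm gc N13158 = N12161 := ded_28_1 (flp_h L141062) (flp_c L141042) L150213
theorem L150219 : sm gg N12159 = N13159 := rfl
theorem L150221 : sm ga N13159 = N12331 := ded_14_1 (flp_g L142509) (flp_a L141046) L150219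
theorem L150223 : sm gb N13159 = N12207 := ded_21_1 (flp_g L141467) (flp_b L141048) L150219
theorem L150225 : sm gd N13159 = N12170 := ded_32_1 (flp_g L141150) (flp_d L141050) L150219
theorem L150227 : sm gi N12159 = N13160 := rfl
theorem L150229 : sm ga N13160 = N12332 := ded_16_1 (flp_i L142515) (flp_a L141046) L150227
theorem L150231 : sm gb N13160 = N12208 := ded_23_1 (flp_i L141473) (flp_b L141048) L150227
theorem L150233 : sm gd N13160 = N12171 := ded_34_1 (flp_i L141160) (flp_d L141050) L150227
theorem L150235 : sm gf N13160 = N12160 := ded_41_1 (flp_i L141052) L141044 L150227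
theorem L150237 : sm gh N12160 = N13161 := rfl
theorem L150239 : sm ga N13161 = N12333 := ded_15_1 (flp_h L142523) (flp_a L141054) L150237
theorem L150241 : sm gb N13161 = N12209 := ded_22_1 (flp_h L141481) (flp_b L141056) L150237
theorem L150243 : sm ge N13161 = N12161 := ded_37_1 (flp_h L141062) (flp_e L141060) L150237
theorem L150245 : sm gd N12162 = N13162 := rfl
theorem L150247 : sm ga N13162 = N12334 := ded_11_1 (flp_d L142529) (flp_a L141070) L150245
theorem L150249 : sm gb N13162 = N13162 := ded_18_1 (flp_d L150245) L141072 L150245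
theorem L150250 : sm gg N13162 = N12166 := ded_32_2 (flp_d L141112) (flp_g L141075) L150245
theorem L150252 : sm gf N12162 = N13163 := rfl
theorem L150254 : sm ga N13163 = N12335 := ded_13_1 (flp_f L142535) (flp_a L141070) L150252
theorem L150256 : sm gb N13163 = N13163 := ded_20_1 (flp_f L150252) L141072 L150252
theorem L150257 : sm gc N13163 = N12164 := ded_26_1 (flp_f L141091) (flp_c L141073) L150252
theorem L150259 : sm gh N13163 = N12518 := ded_40_2 (flp_f L144160) (flp_h L141077) L150252
theorem L150261 : sm ge N13163 = N13163 := ded_35_1 (flp_f L150252) (flp_e L141068) L132097 L141068 L150252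
theorem L150262 : sm gi N12162 = N13164 := rfl
theorem L150264 : sm ga N13164 = N12336 := ded_16_1 (flp_i L142544) (flp_a L141070) L150262
theorem L150266 : sm gb N13164 = N13164 := ded_23_1 (flp_i L150262) L141072 L150262
theorem L150267 : sm gc N13164 = N12165 := ded_29_1 (flp_i L141100) (flp_c L141073) L150262
theorem L150269 : sm ge N13164 = N12163 := ded_38_1 (flp_i L141079) L141068 L150262
theorem L150271 : sm gg N13164 = N12168 := ded_43_1 (flp_i L141128) (flp_g L141075) L150262
theorem L150273 : sm gh N13164 = N12560 := ded_44_1 (flp_i L144554) L135452 (flp_i L135001) (flp_h L141077) L150262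
theorem L150275 : sm gg N12164 = N13165 := rfl
theorem L150277 : sm ga N13165 = N12338 := ded_14_1 (flp_g L142567) (flp_a L141093) L150275
theorem L150279 : sm gb N13165 = N12210 := ded_21_1 (flp_g L141487) (flp_b L141095) L150275
theorem L150281 : sm ge N13165 = N13165 := ded_36_1 (flp_g L150275) L141099 L150275
theorem L150282 : sm gh N13165 = N12519 := ded_42_2 (flp_g L144170) (flp_h L141097) L150275
theorem L150284 : sm gf N13165 = N12170 := ded_39_1 (flp_g L141150) (flp_f L132144) (flp_g L132109) L141091 L150275
theorem L150286 : sm gi N12164 = N13166 := rfl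
theorem L150288 : sm ga N13166 = N12339 := ded_16_1 (flp_i L142576) (flp_a L141093) L150286
theorem L150290 : sm gb N13166 = N12211 := ded_23_1 (flp_i L141497) (flp_b L141095) L150286
theorem L150292 : sm ge N13166 = N13166 := ded_38_1 (flp_i L150286) L141099 L150286
theorem L150293 : sm gf N13166 = N12165 := ded_41_1 (flp_i L141100) L141091 L150286
theorem L150295 : sm gh N13166 = N12562 := ded_44_1 (flp_i L144568) L135464 (flp_i L135011) (flp_h L141097) L150286
theorem L150297 : sm gf N12166 = N13167 := rfl
theorem L150299 : sm ga N13167 = N12341 := ded_13_1 (flp_f L142595) (flp_a L141114) L150297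
theorem L150301 : sm gb N13167 = N13167 := ded_20_1 (flp_f L150297) L141116 L150297
theorem L150302 : sm gd N13167 = N12167 := ded_31_1 (flp_f L141117) L141112 L150297
theorem L150304 : sm gh N12166 = N13168 := rfl
theorem L150306 : sm ga N13168 = N12342 := ded_15_1 (flp_h L142601) (flp_a L141114) L150304
theorem L150308 : sm gb N13168 = N13168 := ded_22_1 (flp_h L150304) L141116 L150304
theorem L150309 : sm gd N13168 = N12521 := ded_33_1 (flp_h L144190) (flp_d L135014) (flp_h L132133) L141112 L150304
theorem L150311 : sm gi N12166 = N13169 := rfl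
theorem L150313 : sm ga N13169 = N12343 := ded_16_1 (flp_i L142607) (flp_a L141114) L150311
theorem L150315 : sm gb N13169 = N13169 := ded_23_1 (flp_i L150311) L141116 L150311
theorem L150316 : sm gd N13169 = N12168 := ded_34_1 (flp_i L141128) L141112 L150311
theorem L150318 : sm gg N12167 = N13170 := rfl
theorem L150320 : sm ga N13170 = N12344 := ded_14_1 (flp_g L142613) (flp_a L141119) L150318
theorem L150322 : sm gb N13170 = N13170 := ded_21_1 (flp_g L150318) L141121 L150318
theorem L150323 : sm gc N13170 = N12170 := ded_27_1 (flp_g L141150) (flp_c L141122) L150318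
theorem L150325 : sm ge N13170 = N12176 := ded_36_1 (flp_g L141205) (flp_e L141126) L150318
theorem L150327 : sm gh N13170 = N12523 := ded_42_2 (flp_g L144208) (flp_h L141124) L150318
theorem L150329 : sm gi N12167 = N13171 := rfl
theorem L150331 : sm ga N13171 = N12345 := ded_16_1 (flp_i L142623) (flp_a L141119) L150329
theorem L150333 : sm gb N13171 = N13171 := ded_23_1 (flp_i L150329) L141121 L150329
theorem L150334 : sm gc N13171 = N12171 := ded_29_1 (flp_i L141160) (flp_c L141122) L150329
theorem L150336 : sm ge N13171 = N12177 := ded_38_1 (flp_i L141215) (flp_e L141126) L150329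
theorem L150338 : sm gf N13171 = N12168 := ded_41_1 (flp_i L141128) L141117 L150329
theorem L150340 : sm gh N12168 = N13172 := rfl
theorem L150342 : sm ga N13172 = N12346 := ded_15_1 (flp_h L142633) (flp_a L141130) L150340
theorem L150344 : sm gb N13172 = N13172 := ded_22_1 (flp_h L150340) L141132 L150340
theorem L150345 : sm gc N13172 = N12172 := ded_28_1 (flp_h L141170) (flp_c L141133) L150340
theorem L150347 : sm ge N13172 = N12169 := ded_37_1 (flp_h L141137) (flp_e L141135) L150340
theorem L150349 : sm gg N13172 = N12560 := ded_42_1 (flp_h L150273) L150271 L150340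
theorem L150351 : sm gi N13172 = N12525 := ded_44_2 (flp_h L144228) (flp_i L135029) (flp_h L132133) L141128 L150340
theorem L150353 : sm gd N12169 = N13173 := rfl
theorem L150355 : sm ga N13173 = N12347 := ded_11_1 (flp_d L142643) (flp_a L141139) L150353
theorem L150357 : sm gb N13173 = N13173 := ded_18_1 (flp_d L150353) L141141 L150353
theorem L150358 : sm gf N13173 = N12179 := ded_31_2 (flp_d L141236) (flp_f L141144) L150353
theorem L150360 : sm gg N13173 = N12554 := ded_32_2 L144522 (flp_g L141146) L150353
theorem L150362 : sm gi N13173 = N12526 := ded_34_2 (flp_d L144239) (flp_i L141148) L150353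
theorem L150364 : sm gc N13173 = N12552 := ded_24_1 L144505 L135424 (flp_d L132172) (flp_c L141142) L150353
theorem L150366 : sm gi N12170 = N13174 := rfl
theorem L150368 : sm ga N13174 = N12348 := ded_16_1 (flp_i L142651) (flp_a L141152) L150366
theorem L150370 : sm gb N13174 = N12212 := ded_23_1 (flp_i L141507) (flp_b L141154) L150366
theorem L150372 : sm ge N13174 = N12180 := ded_38_1 (flp_i L141244) (flp_e L141156) L150366
theorem L150374 : sm gg N13174 = N12171 := ded_43_1 (flp_i L141160) L141150 L150366
theorem L150376 : sm gh N12171 = N13175 := rfl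
theorem L150378 : sm ga N13175 = N12349 := ded_15_1 (flp_h L142659) (flp_a L141162) L150376
theorem L150380 : sm gb N13175 = N12213 := ded_22_1 (flp_h L141516) (flp_b L141164) L150376
theorem L150382 : sm ge N13175 = N12181 := ded_37_1 (flp_h L141253) (flp_e L141166) L150376
theorem L150384 : sm gf N13175 = N12172 := ded_40_1 (flp_h L141170) (flp_f L141168) L150376
theorem L150386 : sm gi N13175 = N12528 := ded_44_2 (flp_h L144265) (flp_i L135059) (flp_h L132150) L141160 L150376
theorem L150388 : sm gd N12172 = N13176 := rfl
theorem L150390 : sm ga N13176 = N12350 := ded_11_1 (flp_d L142669) (flp_a L141172) L150388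
theorem L150392 : sm gb N13176 = N12214 := ded_18_1 (flp_d L141527) (flp_b L141174) L150388
theorem L150394 : sm gg N13176 = N12317 := ded_32_2 L142417 (flp_g L141178) L150388
theorem L150396 : sm gi N13176 = N12311 := ded_34_2 L142377 (flp_i L141180) L150388
theorem L150398 : sm ge N13176 = N12312 := ded_30_2 L142383 L133283 (flp_d L132172) (flp_e L141176) L150388
theorem L150400 : sm ge N12173 = N13177 := rfl
theorem L150402 : sm ga N13177 = N12351 := ded_12_1 (flp_e L142675) (flp_a L141184) L150400
theorem L150404 : sm gb N13177 = N13177 := ded_19_1 (flp_e L150400) L141186 L150400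
theorem L150405 : sm gg N12173 = N13178 := rfl
theorem L150407 : sm ga N13178 = N12352 := ded_14_1 (flp_g L142679) (flp_a L141184) L150405
theorem L150409 : sm gb N13178 = N13178 := ded_21_1 (flp_g L150405) L141186 L150405
theorem L150410 : sm gd N13178 = N12176 := ded_32_1 (flp_g L141205) (flp_d L141187) L150405
theorem L150412 : sm gf N13178 = N13178 := ded_39_1 (flp_g L150405) (flp_f L141182) L132181 L141182 L150405
theorem L150413 : sm gh N12173 = N13179 := rfl
theorem L150415 : sm ga N13179 = N12353 := ded_15_1 (flp_h L142686) (flp_a L141184) L150413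
theorem L150417 : sm gb N13179 = N13179 := ded_22_1 (flp_h L150413) L141186 L150413
theorem L150418 : sm gf N13179 = N12174 := ded_40_1 (flp_h L141189) L141182 L150413
theorem L150420 : sm gd N13179 = N12531 := ded_33_1 (flp_h L144293) L135087 (flp_h L132189) (flp_d L141187) L150413
theorem L150422 : sm gi N12173 = N13180 := rfl
theorem L150424 : sm ga N13180 = N12354 := ded_16_1 (flp_i L142694) (flp_a L141184) L150422
theorem L150426 : sm gb N13180 = N13180 := ded_23_1 (flp_i L150422) L141186 L150422
theorem L150427 : sm gd N13180 = N12177 := ded_34_1 (flp_i L141215) (flp_d L141187) L150422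
theorem L150429 : sm gf N13180 = N12175 := ded_41_1 (flp_i L141197) L141182 L150422
theorem L150431 : sm gi N12176 = N13181 := rfl
theorem L150433 : sm ga N13181 = N12357 := ded_16_1 (flp_i L142724) (flp_a L141207) L150431
theorem L150435 : sm gb N13181 = N13181 := ded_23_1 (flp_i L150431) L141209 L150431
theorem L150436 : sm gc N13181 = N12180 := ded_29_1 (flp_i L141244) (flp_c L141210) L150431
theorem L150438 : sm gf N13181 = N13181 := ded_41_1 (flp_i L150431) L141214 L150431
theorem L150439 : sm gg N13181 = N12177 := ded_43_1 (flp_i L141215) L141205 L150431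
theorem L150441 : sm gh N12177 = N13182 := rfl
theorem L150443 : sm ga N13182 = N12358 := ded_15_1 (flp_h L142733) (flp_a L141217) L150441
theorem L150445 : sm gb N13182 = N13182 := ded_22_1 (flp_h L150441) L141219 L150441
theorem L150446 : sm gc N13182 = N12181 := ded_28_1 (flp_h L141253) (flp_c L141220) L150441
theorem L150448 : sm gf N13182 = N12178 := ded_40_1 (flp_h L141224) (flp_f L141222) L150441
theorem L150450 : sm gi N13182 = N12534 := ded_44_2 (flp_h L144325) (flp_i L135115) (flp_h L132189) L141215 L150441
theorem L150452 : sm gh N12180 = N13183 := rfl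
theorem L150454 : sm ga N13183 = N12361 := ded_15_1 (flp_h L142771) (flp_a L141246) L150452
theorem L150456 : sm gb N13183 = N12215 := ded_22_1 (flp_h L141539) (flp_b L141248) L150452
theorem L150458 : sm gf N13183 = N13183 := ded_40_1 (flp_h L150452) L141250 L150452
theorem L150459 : sm gg N13183 = N12181 := ded_42_1 (flp_h L141253) (flp_g L141251) L150452
theorem L150461 : sm gi N13183 = N12535 := ded_44_2 (flp_h L144334) (flp_i L135141) (flp_h L132217) L141244 L150452
theorem L150463 : sm gd N12181 = N13184 := rfl
theorem L150465 : sm ga N13184 = N12362 := ded_11_1 (flp_d L142780) (flp_a L141255) L150463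
theorem L150467 : sm gb N13184 = N12216 := ded_18_1 (flp_d L141549) (flp_b L141257) L150463
theorem L150469 : sm gf N13184 = N12182 := ded_31_2 (flp_d L141263) (flp_f L141259) L150463
theorem L150471 : sm gi N13184 = N12536 := ded_34_2 (flp_d L144343) (flp_i L141261) L150463
theorem L150473 : sm gi N12183 = N13185 := rfl
theorem L150475 : sm ga N13185 = N12223 := ded_16_1 (flp_i L141606) (flp_a L141274) L150473
theorem L150477 : sm gd N13185 = N12184 := ded_34_1 (flp_i L141280) L141272 L150473
theorem L150479 : sm gf N13185 = N12186 := ded_41_1 (flp_i L141302) (flp_f L141276) L150473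
theorem L150481 : sm gb N12185 = N13186 := rfl
theorem L150483 : sm gd N13186 = N13186 := ded_18_2 (flp_b L150481) L141301 L150481
theorem L150484 : sm ge N13186 = N12590 := ded_19_2 (flp_b L144804) (flp_e L141295) L150481
theorem L150486 : sm gg N13186 = N12187 := ded_21_2 (flp_b L141312) (flp_g L141297) L150481
theorem L150488 : sm gh N13186 = N12195 := ded_22_2 (flp_b L141373) (flp_h L141299) L150481
theorem L150490 : sm ga N13186 = N12657 := ded_9_1 (flp_b L145399) L136377 (flp_b L132517) (flp_a L141293) L150481
theorem L150492 : sm gi N12185 = N13187 := rfl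
theorem L150494 : sm ga N13187 = N12224 := ded_16_1 (flp_i L141614) (flp_a L141293) L150492
theorem L150496 : sm gc N13187 = N12186 := ded_29_1 (flp_i L141302) L141291 L150492
theorem L150498 : sm gd N13187 = N13187 := ded_34_1 (flp_i L150492) L141301 L150492
theorem L150499 : sm ge N13187 = N12393 := ded_38_1 L143070 (flp_e L141295) L150492
theorem L150501 : sm gg N13187 = N12189 := ded_43_1 (flp_i L141329) (flp_g L141297) L150492
theorem L150503 : sm gh N12186 = N13188 := rfl
theorem L150505 : sm ga N13188 = N12225 := ded_15_1 (flp_h L141625) (flp_a L141304) L150503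
theorem L150507 : sm ge N13188 = N12388 := ded_37_1 L143022 (flp_e L141308) L150503
theorem L150509 : sm gg N13188 = N12192 := ded_42_1 (flp_h L141354) (flp_g L141310) L150503
theorem L150511 : sm gd N13188 = N12293 := ded_33_1 (flp_h L142222) L133084 (flp_h L132267) (flp_d L141306) L150503
theorem L150513 : sm gi N13188 = N12200 := ded_44_2 (flp_h L141420) (flp_i L132325) (flp_h L132256) L141302 L150503
theorem L150515 : sm ga N12187 = N13189 := rfl
theorem L150517 : sm gd N13189 = N13189 := ded_11_2 (flp_a L150515) L141314 L150515
theorem L150518 : sm gg N13189 = N12657 := ded_14_2 (flp_a L150490) L150486 L150515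
theorem L150520 : sm gh N13189 = N12201 := ded_15_2 (flp_a L141426) (flp_h L141315) L150515
theorem L150522 : sm gb N13189 = N12226 := ded_9_2 (flp_a L141637) (flp_b L132530) (flp_a L132271) L141312 L150515
theorem L150524 : sm ge N12187 = N13190 := rfl
theorem L150526 : sm gb N13190 = N12188 := ded_19_1 (flp_e L141317) L141312 L150524
theorem L150528 : sm gg N13190 = N12590 := ded_36_2 (flp_e L150484) L150486 L150524
theorem L150530 : sm gh N13190 = N12202 := ded_37_2 (flp_e L141434) (flp_h L141315) L150524
theorem L150532 : sm gd N12628 = N13190 := ded_18_0 L150526 (flp_d L141327) L145141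
theorem L150534 : sm gi N12187 = N13191 := rfl
theorem L150536 : sm gb N13191 = N12189 := ded_23_1 (flp_i L141329) L141312 L150534
theorem L150538 : sm gd N13191 = N13191 := ded_34_1 (flp_i L150534) L141314 L150534
theorem L150539 : sm gi N12188 = N13192 := rfl
theorem L150541 : sm ga N13192 = N12228 := ded_16_1 (flp_i L141655) (flp_a L141319) L150539
theorem L150543 : sm gc N13192 = N12191 := ded_29_1 (flp_i L141344) (flp_c L141321) L150539
theorem L150545 : sm gd N13192 = N12496 := ded_34_1 L143963 L141327 L150539
theorem L150547 : sm ge N13192 = N12189 := ded_38_1 (flp_i L141329) L141317 L150539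
theorem L150549 : sm gg N13192 = N12393 := ded_43_1 L143070 (flp_g L141323) L150539
theorem L150551 : sm gh N12189 = N13193 := rfl
theorem L150553 : sm ga N13193 = N12229 := ded_15_1 (flp_h L141665) (flp_a L141331) L150551
theorem L150555 : sm gc N13193 = N12192 := ded_28_1 (flp_h L141354) (flp_c L141333) L150551
theorem L150557 : sm gi N13193 = N12206 := ded_44_2 (flp_h L141461) (flp_i L132344) (flp_h L132273) L141329 L150551
theorem L150559 : sm gi N12190 = N13194 := rfl
theorem L150561 : sm ga N13194 = N12230 := ded_16_1 (flp_i L141671) (flp_a L141338) L150559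
theorem L150563 : sm gd N13194 = N12390 := ded_34_1 L143044 (flp_d L141340) L150559
theorem L150565 : sm gf N13194 = N12191 := ded_41_1 (flp_i L141344) L141336 L150559
theorem L150567 : sm gh N12191 = N13195 := rfl
theorem L150569 : sm ga N13195 = N12231 := ded_15_1 (flp_h L141679) (flp_a L141346) L150567
theorem L150571 : sm ge N13195 = N12192 := ded_37_1 (flp_h L141354) (flp_e L141350) L150567
theorem L150573 : sm gg N13195 = N12388 := ded_42_1 L143022 (flp_g L141352) L150567
theorem L150575 : sm gd N13195 = N12377 := ded_33_1 (flp_h L142922) L133646 L133752 (flp_d L141348) L150567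
theorem L150577 : sm gi N13195 = N12209 := ded_44_2 (flp_h L141481) (flp_i L132358) (flp_h L132282) L141344 L150567
theorem L150579 : sm gi N12193 = N13196 := rfl
theorem L150581 : sm ga N13196 = N12232 := ded_16_1 (flp_i L141691) (flp_a L141362) L150579
theorem L150583 : sm gd N13196 = N13196 := ded_34_1 (flp_i L150579) L141364 L150579
theorem L150584 : sm ge N13196 = N12194 := ded_38_1 (flp_i L141365) L141360 L150579
theorem L150586 : sm gh N12194 = N13197 := rfl
theorem L150588 : sm ga N13197 = N12233 := ded_15_1 (flp_h L141698) (flp_a L141367) L150586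
theorem L150590 : sm gf N13197 = N12200 := ded_40_1 (flp_h L141420) (flp_f L141371) L150586
theorem L150592 : sm ge N12195 = N13198 := rfl
theorem L150594 : sm ga N13198 = N12661 := ded_12_1 (flp_e L145424) (flp_a L141379) L150592
theorem L150596 : sm gb N13198 = N12196 := ded_19_1 (flp_e L141381) L141373 L150592
theorem L150598 : sm gg N13198 = N12202 := ded_36_2 (flp_e L141434) (flp_g L141377) L150592
theorem L150600 : sm gh N13198 = N12590 := ded_37_2 (flp_e L150484) L150488 L150592
theorem L150602 : sm gd N13198 = N13198 := ded_30_1 (flp_e L150592) L141375 L132444 (flp_d L141375) L150592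
theorem L150603 : sm gi N12195 = N13199 := rfl
theorem L150605 : sm ga N13199 = N12662 := ded_16_1 (flp_i L145429) (flp_a L141379) L150603
theorem L150607 : sm gb N13199 = N12197 := ded_23_1 (flp_i L141392) L141373 L150603
theorem L150609 : sm gd N13199 = N12218 := ded_34_1 (flp_i L141565) (flp_d L141375) L150603
theorem L150611 : sm gg N13199 = N12203 := ded_43_1 (flp_i L141439) (flp_g L141377) L150603
theorem L150613 : sm gi N12196 = N13200 := rfl
theorem L150615 : sm ga N13200 = N12234 := ded_16_1 (flp_i L141704) (flp_a L141383) L150613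
theorem L150617 : sm gc N13200 = N12199 := ded_29_1 (flp_i L141410) (flp_c L141385) L150613
theorem L150619 : sm gd N13200 = N13200 := ded_34_1 (flp_i L150613) L141391 L150613
theorem L150620 : sm ge N13200 = N12197 := ded_38_1 (flp_i L141392) L141381 L150613
theorem L150622 : sm gg N13200 = N12205 := ded_43_1 (flp_i L141452) (flp_g L141387) L150613
theorem L150624 : sm gh N12197 = N13201 := rfl
theorem L150626 : sm ga N13201 = N12235 := ded_15_1 (flp_h L141715) (flp_a L141394) L150624
theorem L150628 : sm gc N13201 = N12200 := ded_28_1 (flp_h L141420) (flp_c L141396) L150624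
theorem L150630 : sm gg N13201 = N12206 := ded_42_1 (flp_h L141461) (flp_g L141400) L150624
theorem L150632 : sm gi N12198 = N13202 := rfl
theorem L150634 : sm ga N13202 = N12236 := ded_16_1 (flp_i L141723) (flp_a L141404) L150632
theorem L150636 : sm gd N13202 = N12211 := ded_34_1 (flp_i L141497) (flp_d L141406) L150632
theorem L150638 : sm gf N13202 = N12199 := ded_41_1 (flp_i L141410) L141402 L150632
theorem L150640 : sm gh N12199 = N13203 := rfl
theorem L150642 : sm ga N13203 = N12237 := ded_15_1 (flp_h L141731) (flp_a L141412) L150640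
theorem L150644 : sm ge N13203 = N12200 := ded_37_1 (flp_h L141420) (flp_e L141416) L150640
theorem L150646 : sm gg N13203 = N12209 := ded_42_1 (flp_h L141481) (flp_g L141418) L150640
theorem L150648 : sm gd N13203 = N12374 := ded_33_1 (flp_h L142894) L133622 (flp_h L132387) (flp_d L141414) L150640
theorem L150650 : sm gi N13203 = N12388 := ded_44_2 L143022 L133790 (flp_h L132321) L141410 L150640
theorem L150652 : sm ge N12201 = N13204 := rfl
theorem L150654 : sm ga N13204 = N12202 := ded_12_1 (flp_e L141434) L141426 L150652
theorem L150656 : sm gb N13204 = N12238 := ded_19_1 (flp_e L141743) (flp_b L141432) L150652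
theorem L150658 : sm gg N13204 = N12661 := ded_36_2 (flp_e L145424) (flp_g L141430) L150652
theorem L150660 : sm gd N13204 = N13204 := ded_30_1 (flp_e L150652) L141428 L132471 (flp_d L141428) L150652
theorem L150661 : sm gi N12201 = N13205 := rfl
theorem L150663 : sm ga N13205 = N12203 := ded_16_1 (flp_i L141439) L141426 L150661
theorem L150665 : sm gb N13205 = N12239 := ded_23_1 (flp_i L141752) (flp_b L141432) L150661
theorem L150667 : sm gd N13205 = N12220 := ded_34_1 (flp_i L141584) (flp_d L141428) L150661
theorem L150669 : sm gg N13205 = N12662 := ded_43_1 (flp_i L145429) (flp_g L141430) L150661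
theorem L150671 : sm gf N12202 = N13206 := rfl
theorem L150673 : sm gb N13206 = N12204 := ded_20_1 (flp_f L141445) (flp_b L141436) L150671
theorem L150675 : sm gd N13206 = N13206 := ded_31_1 (flp_f L150671) L141438 L150671
theorem L150676 : sm gi N12202 = N13207 := rfl
theorem L150678 : sm gb N13207 = N12205 := ded_23_1 (flp_i L141452) (flp_b L141436) L150676
theorem L150680 : sm gd N13207 = N13207 := ded_34_1 (flp_i L150676) L141438 L150676
theorem L150681 : sm ge N13207 = N12203 := ded_38_1 (flp_i L141439) L141434 L150676
theorem L150683 : sm gh N12203 = N13208 := rfl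
theorem L150685 : sm gb N13208 = N12206 := ded_22_1 (flp_h L141461) (flp_b L141441) L150683
theorem L150687 : sm gi N12204 = N13209 := rfl
theorem L150689 : sm ga N13209 = N12242 := ded_16_1 (flp_i L141781) (flp_a L141447) L150687
theorem L150691 : sm gc N13209 = N12208 := ded_29_1 (flp_i L141473) (flp_c L141449) L150687
theorem L150693 : sm gd N13209 = N13209 := ded_34_1 (flp_i L150687) L141451 L150687
theorem L150694 : sm gf N13209 = N12205 := ded_41_1 (flp_i L141452) L141445 L150687
theorem L150696 : sm gh N12205 = N13210 := rfl
theorem L150698 : sm ga N13210 = N12243 := ded_15_1 (flp_h L141788) (flp_a L141454) L150696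
theorem L150700 : sm gc N13210 = N12209 := ded_28_1 (flp_h L141481) (flp_c L141456) L150696
theorem L150702 : sm ge N13210 = N12206 := ded_37_1 (flp_h L141461) (flp_e L141459) L150696
theorem L150704 : sm gd N12206 = N13211 := rfl
theorem L150706 : sm ga N13211 = N12244 := ded_11_1 (flp_d L141794) (flp_a L141463) L150704
theorem L150708 : sm gh N13211 = N12222 := ded_33_2 (flp_d L141601) (flp_h L132482) (flp_d L132350) L141461 L150704
theorem L150710 : sm gi N12207 = N13212 := rfl
theorem L150712 : sm ga N13212 = N12245 := ded_16_1 (flp_i L141798) (flp_a L141469) L150710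
theorem L150714 : sm gd N13212 = N12212 := ded_34_1 (flp_i L141507) (flp_d L141471) L150710
theorem L150716 : sm gg N13212 = N12208 := ded_43_1 (flp_i L141473) L141467 L150710
theorem L150718 : sm gh N12208 = N13213 := rfl
theorem L150720 : sm ga N13213 = N12246 := ded_15_1 (flp_h L141806) (flp_a L141475) L150718
theorem L150722 : sm gf N13213 = N12209 := ded_40_1 (flp_h L141481) (flp_f L141479) L150718
theorem L150724 : sm gd N12209 = N13214 := rfl
theorem L150726 : sm ga N13214 = N12247 := ded_11_1 (flp_d L141812) (flp_a L141483) L150724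
theorem L150728 : sm gg N13214 = N12374 := ded_32_2 (flp_d L150648) L150646 L150724
theorem L150730 : sm gi N13214 = N12377 := ded_34_2 (flp_d L150575) L150577 L150724
theorem L150732 : sm ge N13214 = N12365 := ded_30_2 (flp_d L149810) L149806 L140686 (flp_e L141485) L150724
theorem L150734 : sm gh N13214 = N12214 := ded_33_2 (flp_d L141527) (flp_h L132407) (flp_d L132362) L141481 L150724
theorem L150736 : sm gc N12724 = N13214 := ded_10_0 L150726 (flp_c L141824) (flp_a L145899)
theorem L150738 : sm gi N12210 = N13215 := rfl
theorem L150740 : sm ga N13215 = N12248 := ded_16_1 (flp_i L141826) (flp_a L141489) L150738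
theorem L150742 : sm gc N13215 = N13215 := ded_29_1 (flp_i L150738) L141491 L150738
theorem L150743 : sm ge N13215 = N13215 := ded_38_1 (flp_i L150738) L141492 L150738
theorem L150744 : sm gf N13215 = N12212 := ded_41_1 (flp_i L141507) (flp_f L141495) L150738
theorem L150746 : sm gg N13215 = N12211 := ded_43_1 (flp_i L141497) L141487 L150738
theorem L150748 : sm gh N13215 = N12589 := ded_44_1 (flp_i L144796) L135720 (flp_i L135197) (flp_h L141493) L150738
theorem L150750 : sm gh N12212 = N13216 := rfl
theorem L150752 : sm ga N13216 = N12249 := ded_15_1 (flp_h L141838) (flp_a L141509) L150750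
theorem L150754 : sm gc N13216 = N13216 := ded_28_1 (flp_h L150750) L141511 L150750
theorem L150755 : sm ge N13216 = N12215 := ded_37_1 (flp_h L141539) (flp_e L141512) L150750
theorem L150757 : sm gf N13216 = N12589 := ded_40_1 (flp_h L150748) L150744 L150750
theorem L150759 : sm gg N13216 = N12213 := ded_42_1 (flp_h L141516) (flp_g L141514) L150750
theorem L150761 : sm gi N13216 = N12538 := ded_44_2 (flp_h L144363) (flp_i L135201) (flp_h L132396) L141507 L150750
theorem L150763 : sm gd N12213 = N13217 := rfl
theorem L150765 : sm ga N13217 = N12250 := ded_11_1 (flp_d L141851) (flp_a L141518) L150763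
theorem L150767 : sm gf N13217 = N12214 := ded_31_2 (flp_d L141527) (flp_f L141523) L150763
theorem L150769 : sm gi N13217 = N12364 := ded_34_2 L142807 (flp_i L141525) L150763
theorem L150771 : sm gc N12723 = N13217 := ded_10_0 L150765 (flp_c L141859) (flp_a L145892)
theorem L150773 : sm gh N12218 = N13218 := rfl
theorem L150775 : sm ga N13218 = N12673 := ded_15_1 (flp_h L145515) (flp_a L141567) L150773
theorem L150777 : sm gb N13218 = N12219 := ded_22_1 (flp_h L141574) (flp_b L141569) L150773
theorem L150779 : sm ge N13218 = N13218 := ded_37_1 (flp_h L150773) L141571 L150773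
theorem L150780 : sm gg N13218 = N12221 := ded_42_1 (flp_h L141595) (flp_g L141572) L150773
theorem L150782 : sm gi N13218 = N13218 := ded_44_2 (flp_h L150773) (flp_i L141565) L132447 L141565 L150773
theorem L150783 : sm gd N12219 = N13219 := rfl
theorem L150785 : sm ga N13219 = N12251 := ded_11_1 (flp_d L141861) (flp_a L141576) L150783
theorem L150787 : sm gg N13219 = N12222 := ded_32_2 (flp_d L141601) (flp_g L141581) L150783
theorem L150789 : sm gi N13219 = N13219 := ded_34_2 (flp_d L150783) L141583 L150783
theorem L150790 : sm gh N12220 = N13220 := rfl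
theorem L150792 : sm ga N13220 = N12221 := ded_15_1 (flp_h L141595) (flp_a L141586) L150790
theorem L150794 : sm gb N13220 = N12252 := ded_22_1 (flp_h L141868) (flp_b L141588) L150790
theorem L150796 : sm gc N13220 = N13218 := ded_28_1 (flp_h L150773) (flp_c L141590) L150790
theorem L150798 : sm ge N13220 = N13220 := ded_37_1 (flp_h L150790) L141592 L150790
theorem L150799 : sm gg N13220 = N12673 := ded_42_1 (flp_h L145515) (flp_g L141593) L150790
theorem L150801 : sm gi N13220 = N13220 := ded_44_2 (flp_h L150790) (flp_i L141584) L132474 L141584 L150790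
theorem L150802 : sm gd N12221 = N13221 := rfl
theorem L150804 : sm gb N13221 = N12222 := ded_18_1 (flp_d L141601) (flp_b L141597) L150802
theorem L150806 : sm gi N13221 = N13221 := ded_34_2 (flp_d L150802) L141600 L150802
theorem L150807 : sm ge N12222 = N13222 := rfl
theorem L150809 : sm ga N13222 = N12254 := ded_12_1 (flp_e L141885) (flp_a L141603) L150807
theorem L150811 : sm gi N13222 = N13222 := ded_38_2 (flp_e L150807) L141605 L150807
theorem L150812 : sm gd N13222 = N13222 := ded_30_1 (flp_e L150807) (flp_d L141601) L132488 L141601 L150807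
theorem L150813 : sm gh N12223 = N13223 := rfl
theorem L150815 : sm gb N13223 = N12297 := ded_22_1 (flp_h L142262) (flp_b L141608) L150813
theorem L150817 : sm gf N13223 = N12225 := ded_40_1 (flp_h L141625) (flp_f L141612) L150813
theorem L150819 : sm gd N13223 = N12300 := ded_33_1 (flp_h L142285) L133188 (flp_h L132507) (flp_d L141610) L150813
theorem L150821 : sm gi N13223 = N12233 := ded_44_2 (flp_h L141698) (flp_i L132583) (flp_h L132496) L141606 L150813
theorem L150823 : sm gh N12224 = N13224 := rfl
theorem L150825 : sm gb N13224 = N12675 := ded_22_1 (flp_h L145528) (flp_b L141616) L150823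
theorem L150827 : sm gc N13224 = N12225 := ded_28_1 (flp_h L141625) (flp_c L141618) L150823
theorem L150829 : sm ge N13224 = N12415 := ded_37_1 L143240 (flp_e L141621) L150823
theorem L150831 : sm gg N13224 = N12229 := ded_42_1 (flp_h L141665) (flp_g L141623) L150823
theorem L150833 : sm gi N13224 = N12235 := ded_44_2 (flp_h L141715) (flp_i L132602) (flp_h L132515) L141614 L150823
theorem L150835 : sm gi N12226 = N13225 := rfl
theorem L150837 : sm ga N13225 = N12227 := ded_16_1 (flp_i L141646) L141637 L150835
theorem L150839 : sm gc N13225 = N12396 := ded_29_1 (flp_i L143098) (flp_c L141639) L150835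
theorem L150841 : sm gd N13225 = N13225 := ded_34_1 (flp_i L150835) L141641 L150835
theorem L150842 : sm gg N13225 = N12658 := ded_43_1 (flp_i L145404) (flp_g L141642) L150835
theorem L150844 : sm gh N12227 = N13226 := rfl
theorem L150846 : sm gb N13226 = N12229 := ded_22_1 (flp_h L141665) (flp_b L141648) L150844
theorem L150848 : sm gc N13226 = N12398 := ded_28_1 (flp_h L143115) (flp_c L141650) L150844
theorem L150850 : sm gg N13226 = N12675 := ded_42_1 (flp_h L145528) (flp_g L141653) L150844
theorem L150852 : sm gi N13226 = N12241 := ded_44_2 (flp_h L141773) (flp_i L132653) (flp_h L132535) L141646 L150844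
theorem L150854 : sm gh N12228 = N13227 := rfl
theorem L150856 : sm gc N13227 = N12231 := ded_28_1 (flp_h L141679) (flp_c L141657) L150854
theorem L150858 : sm ge N13227 = N12229 := ded_37_1 (flp_h L141665) (flp_e L141661) L150854
theorem L150860 : sm gg N13227 = N12415 := ded_42_1 L143240 (flp_g L141663) L150854
theorem L150862 : sm gd N13227 = N12739 := ded_33_1 L146009 L136907 (flp_h L134856) (flp_d L141659) L150854
theorem L150864 : sm gi N13227 = N12243 := ded_44_2 (flp_h L141788) (flp_i L132668) (flp_h L132545) L141655 L150854
theorem L150866 : sm gd N12229 = N13228 := rfl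
theorem L150868 : sm gi N13228 = N12244 := ded_34_2 (flp_d L141794) (flp_i L141669) L150866
theorem L150870 : sm gh N13228 = N13228 := ded_33_2 (flp_d L150866) (flp_h L141665) L132553 L141665 L150866
theorem L150871 : sm gh N12230 = N13229 := rfl
theorem L150873 : sm gb N13229 = N12402 := ded_22_1 (flp_h L143146) (flp_b L141673) L150871
theorem L150875 : sm gf N13229 = N12231 := ded_40_1 (flp_h L141679) (flp_f L141677) L150871
theorem L150877 : sm gd N13229 = N12404 := ded_33_1 (flp_h L143162) L133929 L134026 (flp_d L141675) L150871
theorem L150879 : sm gi N13229 = N12246 := ded_44_2 (flp_h L141806) (flp_i L132685) (flp_h L132560) L141671 L150871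
theorem L150881 : sm gh N12232 = N13230 := rfl
theorem L150883 : sm gb N13230 = N12299 := ded_22_1 (flp_h L142279) (flp_b L141693) L150881
theorem L150885 : sm ge N13230 = N12233 := ded_37_1 (flp_h L141698) (flp_e L141696) L150881
theorem L150887 : sm gh N12234 = N13231 := rfl
theorem L150889 : sm gb N13231 = N12677 := ded_22_1 (flp_h L145542) (flp_b L141706) L150887
theorem L150891 : sm gc N13231 = N12237 := ded_28_1 (flp_h L141731) (flp_c L141708) L150887
theorem L150893 : sm ge N13231 = N12235 := ded_37_1 (flp_h L141715) (flp_e L141711) L150887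
theorem L150895 : sm gg N13231 = N12243 := ded_42_1 (flp_h L141788) (flp_g L141713) L150887
theorem L150897 : sm gi N13231 = N12415 := ded_44_2 L143240 L134055 (flp_h L132599) L141704 L150887
theorem L150899 : sm gd N12235 = N13232 := rfl
theorem L150901 : sm gb N13232 = N12678 := ded_18_1 (flp_d L145548) (flp_b L141717) L150899
theorem L150903 : sm gg N13232 = N12244 := ded_32_2 (flp_d L141794) (flp_g L141721) L150899
theorem L150905 : sm gh N13232 = N12251 := ded_33_2 (flp_d L141861) (flp_h L132775) (flp_d L132608) L141715 L150899
theorem L150907 : sm gh N12236 = N13233 := rfl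
theorem L150909 : sm gb N13233 = N12404 := ded_22_1 (flp_h L143162) (flp_b L141725) L150907
theorem L150911 : sm gf N13233 = N12237 := ded_40_1 (flp_h L141731) (flp_f L141729) L150907
theorem L150913 : sm gd N13233 = N12402 := ded_33_1 (flp_h L143146) L133907 (flp_h L132717) (flp_d L141727) L150907
theorem L150915 : sm gi N13233 = N12414 := ded_44_2 L143236 L134051 (flp_h L132618) L141723 L150907
theorem L150917 : sm gi N12238 = N13234 := rfl
theorem L150919 : sm ga N13234 = N12240 := ded_16_1 (flp_i L141762) (flp_a L141745) L150917
theorem L150921 : sm gc N13234 = N12406 := ded_29_1 (flp_i L143174) (flp_c L141747) L150917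
theorem L150923 : sm gd N13234 = N13234 := ded_34_1 (flp_i L150917) L141751 L150917
theorem L150924 : sm ge N13234 = N12239 := ded_38_1 (flp_i L141752) L141743 L150917
theorem L150926 : sm gg N13234 = N12663 := ded_43_1 (flp_i L145435) (flp_g L141749) L150917
theorem L150928 : sm gh N12239 = N13235 := rfl
theorem L150930 : sm ga N13235 = N12241 := ded_15_1 (flp_h L141773) (flp_a L141754) L150928
theorem L150932 : sm gc N13235 = N12407 := ded_28_1 (flp_h L143184) (flp_c L141756) L150928
theorem L150934 : sm gg N13235 = N12664 := ded_42_1 (flp_h L145444) (flp_g L141760) L150928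
theorem L150936 : sm gh N12240 = N13236 := rfl
theorem L150938 : sm gb N13236 = N12243 := ded_22_1 (flp_h L141788) (flp_b L141764) L150936
theorem L150940 : sm gc N13236 = N12409 := ded_28_1 (flp_h L143198) (flp_c L141766) L150936
theorem L150942 : sm ge N13236 = N12241 := ded_37_1 (flp_h L141773) (flp_e L141769) L150936
theorem L150944 : sm gg N13236 = N12677 := ded_42_1 (flp_h L145542) (flp_g L141771) L150936
theorem L150946 : sm gd N12241 = N13237 := rfl
theorem L150948 : sm gb N13237 = N12244 := ded_18_1 (flp_d L141794) (flp_b L141775) L150946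
theorem L150950 : sm gg N13237 = N12678 := ded_32_2 (flp_d L145548) (flp_g L141779) L150946
theorem L150952 : sm gh N13237 = N12253 := ded_33_2 (flp_d L141878) (flp_h L132794) (flp_d L132659) L141773 L150946
theorem L150954 : sm gh N12242 = N13238 := rfl
theorem L150956 : sm gc N13238 = N12246 := ded_28_1 (flp_h L141806) (flp_c L141783) L150954
theorem L150958 : sm gf N13238 = N12243 := ded_40_1 (flp_h L141788) (flp_f L141786) L150954
theorem L150960 : sm gd N12243 = N13239 := rfl
theorem L150962 : sm gi N13239 = N12739 := ded_34_2 (flp_d L150862) L150864 L150960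
theorem L150964 : sm gc N13239 = N12736 := ded_24_1 (flp_d L145992) L141824 (flp_d L141812) (flp_c L141790) L150960
theorem L150966 : sm gh N13239 = N13239 := ded_33_2 (flp_d L150960) (flp_h L141788) L132672 L141788 L150960
theorem L150967 : sm ge N12244 = N13240 := rfl
theorem L150969 : sm gh N13240 = N12254 := ded_37_2 (flp_e L141885) (flp_h L141796) L150967
theorem L150971 : sm gh N12245 = N13241 := rfl
theorem L150973 : sm gb N13241 = N12413 := ded_22_1 (flp_h L143228) (flp_b L141800) L150971
theorem L150975 : sm gg N13241 = N12246 := ded_42_1 (flp_h L141806) (flp_g L141804) L150971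
theorem L150977 : sm gd N12246 = N13242 := rfl
theorem L150979 : sm gb N13242 = N12414 := ded_18_1 (flp_d L143232) (flp_b L141808) L150977
theorem L150981 : sm gf N13242 = N12247 := ded_31_2 (flp_d L141812) (flp_f L141810) L150977
theorem L150983 : sm gi N13242 = N12404 := ded_34_2 (flp_d L150877) L150879 L150977
theorem L150985 : sm gh N13242 = N12250 := ded_33_2 (flp_d L141851) (flp_h L132728) (flp_d L132689) L141806 L150977
theorem L150987 : sm gc N12735 = N13242 := ded_17_0 L150979 (flp_c L147636) L147634 (flp_c L149011) L149009
theorem L150989 : sm ge N12251 = N13243 := rfl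
theorem L150991 : sm gb N13243 = N12684 := ded_19_1 (flp_e L145585) (flp_b L141863) L150989
theorem L150993 : sm gc N13243 = N12682 := ded_25_1 (flp_e L149906) L149904 L150989
theorem L150995 : sm gg N13243 = N12254 := ded_36_2 (flp_e L141885) (flp_g L141865) L150989
theorem L150997 : sm gi N13243 = N13243 := ded_38_2 (flp_e L150989) L141867 L150989
theorem L150998 : sm gd N13243 = N13243 := ded_30_1 (flp_e L150989) (flp_d L141861) L132781 L141861 L150989
theorem L150999 : sm gf N13243 = N12683 := ded_35_2 (flp_e L147778) L147780 (flp_e L149930) L149925 L150989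
theorem L151001 : sm gd N12252 = N13244 := rfl
theorem L151003 : sm ga N13244 = N12253 := ded_11_1 (flp_d L141878) (flp_a L141870) L151001
theorem L151005 : sm gg N13244 = N12674 := ded_32_2 (flp_d L145523) (flp_g L141875) L151001
theorem L151007 : sm gi N13244 = N13244 := ded_34_2 (flp_d L151001) L141877 L151001
theorem L151008 : sm gc N12255 = N13245 := rfl
theorem L151010 : sm gf N13245 = N12685 := ded_26_2 (flp_c L145589) (flp_f L141893) L151008
theorem L151012 : sm gh N13245 = N12924 := ded_28_2 (flp_c L147909) (flp_h L141895) L151008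
theorem L151014 : sm gd N13245 = N12257 := ded_24_2 (flp_c L141909) (flp_d L132841) (flp_c L132835) L141889 L151008
theorem L151016 : sm ge N12255 = N13246 := rfl
theorem L151018 : sm ga N13246 = N12958 := ded_12_1 (flp_e L149557) L149550 L151016
theorem L151020 : sm gb N13246 = N12420 := ded_19_1 (flp_e L143282) (flp_b L141891) L151016
theorem L151022 : sm gg N13246 = N12828 := ded_36_2 (flp_e L149684) L149682 L151016
theorem L151024 : sm gh N13246 = N12925 := ded_37_2 (flp_e L147915) (flp_h L141895) L151016
theorem L151026 : sm gd N13246 = N12539 := ded_30_1 (flp_e L144374) (flp_d L135267) (flp_e L132837) L141889 L151016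
theorem L151028 : sm gi N12255 = N13247 := rfl
theorem L151030 : sm gb N13247 = N12421 := ded_23_1 (flp_i L143289) (flp_b L141891) L151028
theorem L151032 : sm gd N13247 = N12256 := ded_34_1 (flp_i L141897) L141889 L151028
theorem L151034 : sm gf N13247 = N12687 := ded_41_1 (flp_i L145602) (flp_f L141893) L151028
theorem L151036 : sm gb N12257 = N13248 := rfl
theorem L151038 : sm gf N13248 = N12310 := ded_20_2 L142365 (flp_f L141911) L151036
theorem L151040 : sm gh N13248 = N12261 := ded_22_2 (flp_b L141937) (flp_h L141913) L151036
theorem L151042 : sm gc N13248 = N12283 := ded_17_2 (flp_b L142137) (flp_c L133023) (flp_b L132843) L141909 L151036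
theorem L151044 : sm gi N12257 = N13249 := rfl
theorem L151046 : sm gc N13249 = N12258 := ded_29_1 (flp_i L141915) L141909 L151044
theorem L151048 : sm gf N13249 = N12689 := ded_41_1 (flp_i L145614) (flp_f L141911) L151044
theorem L151050 : sm gh N12258 = N13250 := rfl
theorem L151052 : sm gb N13250 = N12285 := ded_22_1 (flp_h L142155) (flp_b L141917) L151050
theorem L151054 : sm gf N13250 = N12692 := ded_40_1 (flp_h L145632) (flp_f L141921) L151050
theorem L151056 : sm gd N13250 = N12318 := ded_33_1 (flp_h L142421) L133303 (flp_h L132857) (flp_d L141919) L151050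
theorem L151058 : sm gi N13250 = N12266 := ded_44_2 (flp_h L141973) (flp_i L132889) (flp_h L132847) L141915 L151050
theorem L151060 : sm gi N12259 = N13251 := rfl
theorem L151062 : sm gc N13251 = N12260 := ded_29_1 (flp_i L141929) L141923 L151060
theorem L151064 : sm gd N13251 = N12944 := ded_34_1 (flp_i L148079) (flp_d L141927) L151060
theorem L151066 : sm gg N13251 = N12263 := ded_43_1 (flp_i L141949) (flp_g L141925) L151060
theorem L151068 : sm gh N12260 = N13252 := rfl
theorem L151070 : sm gb N13252 = N12286 := ded_22_1 (flp_h L142165) (flp_b L141931) L151068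
theorem L151072 : sm gg N13252 = N12266 := ded_42_1 (flp_h L141973) (flp_g L141935) L151068
theorem L151074 : sm gd N13252 = N12323 := ded_33_1 (flp_h L142459) L133323 (flp_h L132875) (flp_d L141933) L151068
theorem L151076 : sm ge N12261 = N13253 := rfl
theorem L151078 : sm gb N13253 = N12262 := ded_19_1 (flp_e L141945) L141937 L151076
theorem L151080 : sm gc N13253 = N12287 := ded_25_1 (flp_e L142173) (flp_c L141943) L151076
theorem L151082 : sm gi N12261 = N13254 := rfl
theorem L151084 : sm gb N13254 = N12263 := ded_23_1 (flp_i L141949) L141937 L151082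
theorem L151086 : sm gc N13254 = N12288 := ded_29_1 (flp_i L142178) (flp_c L141943) L151082
theorem L151088 : sm gd N13254 = N12950 := ded_34_1 (flp_i L148127) (flp_d L141939) L151082
theorem L151090 : sm gf N13254 = N12320 := ded_41_1 (flp_i L142435) (flp_f L141941) L151082
theorem L151092 : sm gd N12262 = N13255 := rfl
theorem L151094 : sm gc N13255 = N12268 := ded_24_1 (flp_d L141995) L132925 (flp_d L132887) (flp_c L141947) L151092
theorem L151096 : sm ge N13255 = N12951 := ded_30_2 (flp_d L148135) (flp_e L138863) (flp_d L132881) L141945 L151092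
theorem L151098 : sm gf N12262 = N13256 := rfl
theorem L151100 : sm gc N13256 = N12264 := ded_26_1 (flp_f L141957) (flp_c L141947) L151098
theorem L151102 : sm ge N13256 = N12694 := ded_35_1 (flp_f L145644) (flp_e L136615) (flp_f L132879) L141945 L151098
theorem L151104 : sm gi N12262 = N13257 := rfl
theorem L151106 : sm gc N13257 = N12265 := ded_29_1 (flp_i L141965) (flp_c L141947) L151104
theorem L151108 : sm ge N13257 = N12263 := ded_38_1 (flp_i L141949) L141945 L151104
theorem L151110 : sm gh N12263 = N13258 := rfl
theorem L151112 : sm gc N13258 = N12266 := ded_28_1 (flp_h L141973) (flp_c L141951) L151110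
theorem L151114 : sm gf N13258 = N12696 := ded_40_1 (flp_h L145654) (flp_f L141955) L151110
theorem L151116 : sm gi N12264 = N13259 := rfl
theorem L151118 : sm gb N13259 = N12292 := ded_23_1 (flp_i L142212) (flp_b L141959) L151116
theorem L151120 : sm gd N13259 = N12272 := ded_34_1 (flp_i L142029) (flp_d L141961) L151116
theorem L151122 : sm ge N13259 = N12698 := ded_38_1 (flp_i L145664) (flp_e L141963) L151116
theorem L151124 : sm gf N13259 = N12265 := ded_41_1 (flp_i L141965) L141957 L151116
theorem L151126 : sm gh N12265 = N13260 := rfl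
theorem L151128 : sm gb N13260 = N12293 := ded_22_1 (flp_h L142222) (flp_b L141967) L151126
theorem L151130 : sm ge N13260 = N12266 := ded_37_1 (flp_h L141973) (flp_e L141971) L151126
theorem L151132 : sm gf N12268 = N13261 := rfl
theorem L151134 : sm gb N13261 = N13261 := ded_20_1 (flp_f L151132) L141997 L151132
theorem L151135 : sm gd N13261 = N12269 := ded_31_1 (flp_f L142000) L141995 L151132
theorem L151137 : sm gh N12268 = N13262 := rfl
theorem L151139 : sm ga N13262 = N12922 := ded_15_1 (flp_h L149686) L149678 L151137
theorem L151141 : sm gb N13262 = N13262 := ded_22_1 (flp_h L151137) L141997 L151137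
theorem L151142 : sm ge N13262 = N12966 := ded_37_1 (flp_h L148246) (flp_e L141998) L151137
theorem L151144 : sm gg N13262 = N12807 := ded_42_1 (flp_h L149559) L149555 L151137
theorem L151146 : sm gd N13262 = N12542 := ded_33_1 (flp_h L144411) (flp_d L135288) (flp_h L132927) L141995 L151137
theorem L151148 : sm gi N12268 = N13263 := rfl
theorem L151150 : sm gb N13263 = N13263 := ded_23_1 (flp_i L151148) L141997 L151148
theorem L151151 : sm gd N13263 = N12270 := ded_34_1 (flp_i L142009) L141995 L151148
theorem L151153 : sm ge N13263 = N12967 := ded_38_1 (flp_i L148250) (flp_e L141998) L151148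
theorem L151155 : sm gi N12269 = N13264 := rfl
theorem L151157 : sm gb N13264 = N13264 := ded_23_1 (flp_i L151155) L142002 L151155
theorem L151158 : sm gc N13264 = N12272 := ded_29_1 (flp_i L142029) (flp_c L142003) L151155
theorem L151160 : sm ge N13264 = N12277 := ded_38_1 (flp_i L142076) (flp_e L142007) L151155
theorem L151162 : sm gf N13264 = N12270 := ded_41_1 (flp_i L142009) L142000 L151155
theorem L151164 : sm gd N12271 = N13265 := rfl
theorem L151166 : sm ga N13265 = N12552 := ded_11_1 L144505 (flp_a L142018) L151164
theorem L151168 : sm gb N13265 = N13265 := ded_18_1 (flp_d L151164) L142020 L151164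
theorem L151169 : sm gf N13265 = N12279 := ded_31_2 (flp_d L142095) (flp_f L142023) L151164
theorem L151171 : sm gg N13265 = N12511 := ded_32_2 L144087 (flp_g L142025) L151164
theorem L151173 : sm gi N13265 = N12508 := ded_34_2 (flp_d L144052) (flp_i L142027) L151164
theorem L151175 : sm gc N13265 = N12347 := ded_24_1 (flp_d L142643) L133434 (flp_d L132962) (flp_c L142021) L151164
theorem L151177 : sm gh N13265 = N12971 := ded_33_2 (flp_d L148280) (flp_h L138957) (flp_d L132934) L142016 L151164
theorem L151179 : sm ge N12273 = N13266 := rfl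
theorem L151181 : sm gb N13266 = N13266 := ded_19_1 (flp_e L151179) L142039 L151179
theorem L151182 : sm gc N13266 = N12710 := ded_25_1 (flp_e L145758) (flp_c L142040) L151179
theorem L151184 : sm gf N13266 = N12975 := ded_35_2 (flp_e L148312) (flp_f L138987) (flp_e L132972) L142037 L151179
theorem L151186 : sm gg N12273 = N13267 := rfl
theorem L151188 : sm gb N13267 = N13267 := ded_21_1 (flp_g L151186) L142039 L151186
theorem L151189 : sm gc N13267 = N12711 := ded_27_1 (flp_g L145764) (flp_c L142040) L151186
theorem L151191 : sm gd N13267 = N12276 := ded_32_1 (flp_g L142068) (flp_d L142042) L151186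
theorem L151193 : sm gf N13267 = N13267 := ded_39_1 (flp_g L151186) (flp_f L142037) L132969 L142037 L151186
theorem L151194 : sm gh N12273 = N13268 := rfl
theorem L151196 : sm gb N13268 = N13268 := ded_22_1 (flp_h L151194) L142039 L151194
theorem L151197 : sm gc N13268 = N12712 := ded_28_1 (flp_h L145771) (flp_c L142040) L151194
theorem L151199 : sm gf N13268 = N12274 := ded_40_1 (flp_h L142044) L142037 L151194
theorem L151201 : sm gd N13268 = N12545 := ded_33_1 (flp_h L144433) L135311 (flp_h L132979) (flp_d L142042) L151194
theorem L151203 : sm gi N13179 = N13268 := ded_41_0 L151199 (flp_i L142054) (flp_f L150418)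
theorem L151205 : sm gi N12273 = N13269 := rfl
theorem L151207 : sm gb N13269 = N13269 := ded_23_1 (flp_i L151205) L142039 L151205
theorem L151208 : sm gc N13269 = N12713 := ded_29_1 (flp_i L145778) (flp_c L142040) L151205
theorem L151210 : sm gd N13269 = N12277 := ded_34_1 (flp_i L142076) (flp_d L142042) L151205
theorem L151212 : sm gf N13269 = N12275 := ded_41_1 (flp_i L142056) L142037 L151205
theorem L151214 : sm gh N13269 = N13180 := ded_44_1 (flp_i L150422) L150413 L151203 (flp_h L151194) L151205
theorem L151216 : sm gi N12276 = N13270 := rfl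
theorem L151218 : sm gb N13270 = N13270 := ded_23_1 (flp_i L151216) L142070 L151216
theorem L151219 : sm gc N13270 = N12280 := ded_29_1 (flp_i L142107) (flp_c L142071) L151216
theorem L151221 : sm gf N13270 = N13270 := ded_41_1 (flp_i L151216) L142075 L151216
theorem L151222 : sm gg N13270 = N12277 := ded_43_1 (flp_i L142076) L142068 L151216
theorem L151224 : sm gh N12277 = N13271 := rfl
theorem L151226 : sm gb N13271 = N13271 := ded_22_1 (flp_h L151224) L142078 L151224
theorem L151227 : sm gc N13271 = N12281 := ded_28_1 (flp_h L142116) (flp_c L142079) L151224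
theorem L151229 : sm gf N13271 = N12278 := ded_40_1 (flp_h L142083) (flp_f L142081) L151224
theorem L151231 : sm gd N13271 = N13182 := ded_33_1 (flp_h L150441) (flp_d L150427) (flp_h L151214) L151210 L151224
theorem L151233 : sm gi N13271 = N12548 := ded_44_2 (flp_h L144469) (flp_i L135333) (flp_h L132979) L142076 L151224
theorem L151235 : sm gh N12280 = N13272 := rfl
theorem L151237 : sm gb N13272 = N12294 := ded_22_1 (flp_h L142228) (flp_b L142109) L151235
theorem L151239 : sm gf N13272 = N13272 := ded_40_1 (flp_h L151235) L142113 L151235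
theorem L151240 : sm gg N13272 = N12281 := ded_42_1 (flp_h L142116) (flp_g L142114) L151235
theorem L151242 : sm gi N13272 = N12549 := ded_44_2 (flp_h L144478) (flp_i L135363) (flp_h L133003) L142107 L151235
theorem L151244 : sm gd N12281 = N13273 := rfl
theorem L151246 : sm gb N13273 = N12295 := ded_18_1 (flp_d L142238) (flp_b L142118) L151244
theorem L151248 : sm gf N13273 = N12282 := ded_31_2 (flp_d L142124) (flp_f L142120) L151244
theorem L151250 : sm gi N13273 = N12550 := ded_34_2 (flp_d L144485) (flp_i L142122) L151244
theorem L151252 : sm gc N13273 = N13184 := ded_24_1 (flp_d L150463) (flp_c L150446) (flp_d L151231) L151227 L151244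
theorem L151254 : sm gh N13273 = N12721 := ded_33_2 (flp_d L145869) (flp_h L136761) (flp_d L133010) L142116 L151244
theorem L151256 : sm gi N12283 = N13274 := rfl
theorem L151258 : sm gb N13274 = N12284 := ded_23_1 (flp_i L142145) L142137 L151256
theorem L151260 : sm gd N13274 = N12309 := ded_34_1 (flp_i L142353) (flp_d L142139) L151256
theorem L151262 : sm gf N13274 = N12312 := ded_41_1 (flp_i L142379) (flp_f L142141) L151256
theorem L151264 : sm gh N12284 = N13275 := rfl
theorem L151266 : sm ga N13275 = N12297 := ded_15_1 (flp_h L142262) (flp_a L142147) L151264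
theorem L151268 : sm gc N13275 = N12285 := ded_28_1 (flp_h L142155) (flp_c L142149) L151264
theorem L151270 : sm gf N13275 = N12365 := ded_40_1 (flp_h L142811) (flp_f L142153) L151264
theorem L151272 : sm gi N13275 = N12291 := ded_44_2 (flp_h L142204) (flp_i L133062) (flp_h L133029) L142145 L151264
theorem L151274 : sm gf N12287 = N13276 := rfl
theorem L151276 : sm gb N13276 = N12289 := ded_20_1 (flp_f L142186) (flp_b L142175) L151274
theorem L151278 : sm gd N13276 = N13276 := ded_31_1 (flp_f L151274) L142177 L151274
theorem L151279 : sm ge N13276 = N12321 := ded_35_1 (flp_f L142443) (flp_e L133311) (flp_f L133053) L142173 L151274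
theorem L151281 : sm gi N12287 = N13277 := rfl
theorem L151283 : sm gb N13277 = N12290 := ded_23_1 (flp_i L142195) (flp_b L142175) L151281
theorem L151285 : sm gd N13277 = N13277 := ded_34_1 (flp_i L151281) L142177 L151281
theorem L151286 : sm ge N13277 = N12288 := ded_38_1 (flp_i L142178) L142173 L151281
theorem L151288 : sm gh N12288 = N13278 := rfl
theorem L151290 : sm gb N13278 = N12291 := ded_22_1 (flp_h L142204) (flp_b L142180) L151288
theorem L151292 : sm gf N13278 = N12323 := ded_40_1 (flp_h L142459) (flp_f L142184) L151288
theorem L151294 : sm gi N12289 = N13279 := rfl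
theorem L151296 : sm ga N13279 = N12298 := ded_16_1 (flp_i L142270) (flp_a L142188) L151294
theorem L151298 : sm gc N13279 = N12292 := ded_29_1 (flp_i L142212) (flp_c L142190) L151294
theorem L151300 : sm gd N13279 = N13279 := ded_34_1 (flp_i L151294) L142192 L151294
theorem L151301 : sm ge N13279 = N12376 := ded_38_1 (flp_i L142912) (flp_e L142193) L151294
theorem L151303 : sm gf N13279 = N12290 := ded_41_1 (flp_i L142195) L142186 L151294
theorem L151305 : sm gh N12290 = N13280 := rfl
theorem L151307 : sm ga N13280 = N12299 := ded_15_1 (flp_h L142279) (flp_a L142197) L151305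
theorem L151309 : sm gc N13280 = N12293 := ded_28_1 (flp_h L142222) (flp_c L142199) L151305
theorem L151311 : sm ge N13280 = N12291 := ded_37_1 (flp_h L142204) (flp_e L142202) L151305
theorem L151313 : sm gh N12292 = N13281 := rfl
theorem L151315 : sm ga N13281 = N12300 := ded_15_1 (flp_h L142285) (flp_a L142214) L151313
theorem L151317 : sm ge N13281 = N12726 := ded_37_1 (flp_h L145913) (flp_e L142218) L151313
theorem L151319 : sm gf N13281 = N12293 := ded_40_1 (flp_h L142222) (flp_f L142220) L151313
theorem L151321 : sm gh N12298 = N13282 := rfl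
theorem L151323 : sm gc N13282 = N12300 := ded_28_1 (flp_h L142285) (flp_c L142272) L151321
theorem L151325 : sm ge N13282 = N12404 := ded_37_1 (flp_h L143162) (flp_e L142275) L151321
theorem L151327 : sm gf N13282 = N12299 := ded_40_1 (flp_h L142279) (flp_f L142277) L151321
theorem L151329 : sm gd N12299 = N13283 := rfl
theorem L151331 : sm gh N13283 = N13283 := ded_33_2 (flp_d L151329) (flp_h L142279) L133177 L142279 L151329
theorem L151332 : sm gd N12302 = N13284 := rfl
theorem L151334 : sm gb N13284 = N12419 := ded_18_1 L143280 (flp_b L142305) L151332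
theorem L151336 : sm gf N13284 = N12303 := ded_31_2 (flp_d L142311) (flp_f L142309) L151332
theorem L151338 : sm gh N13284 = N13063 := ded_33_2 L149231 L139989 (flp_d L133230) L142303 L151332
theorem L151340 : sm gi N12302 = N13285 := rfl
theorem L151342 : sm gb N13285 = N12422 := ded_23_1 (flp_i L143296) (flp_b L142305) L151340
theorem L151344 : sm gc N13285 = N12309 := ded_29_1 (flp_i L142353) (flp_c L142307) L151340
theorem L151346 : sm gf N13285 = N12304 := ded_41_1 (flp_i L142317) (flp_f L142309) L151340
theorem L151348 : sm gc N12303 = N13286 := rfl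
theorem L151350 : sm gg N13286 = N12305 := ded_27_2 (flp_c L142327) (flp_g L142315) L151348
theorem L151352 : sm gb N13286 = N12685 := ded_17_1 (flp_c L145589) L136587 (flp_c L134146) (flp_b L142313) L151348
theorem L151354 : sm gd N13286 = N12310 := ded_24_2 (flp_c L142359) (flp_d L133271) (flp_c L133236) L142311 L151348
theorem L151356 : sm ge N12303 = N13287 := rfl
theorem L151358 : sm gb N13287 = N12424 := ded_19_1 (flp_e L143314) (flp_b L142313) L151356
theorem L151360 : sm gg N13287 = N12306 := ded_36_2 (flp_e L142331) (flp_g L142315) L151356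
theorem L151362 : sm gd N13287 = N12551 := ded_30_1 (flp_e L144494) (flp_d L135413) (flp_e L133238) L142311 L151356
theorem L151364 : sm gi N12303 = N13288 := rfl
theorem L151366 : sm gb N13288 = N12425 := ded_23_1 (flp_i L143323) (flp_b L142313) L151364
theorem L151368 : sm gd N13288 = N12304 := ded_34_1 (flp_i L142317) L142311 L151364
theorem L151370 : sm gg N13288 = N12307 := ded_43_1 (flp_i L142337) (flp_g L142315) L151364
theorem L151372 : sm gb N12305 = N13289 := rfl
theorem L151374 : sm gd N13289 = N12313 := ded_18_2 (flp_b L142387) (flp_d L142329) L151372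
theorem L151376 : sm gg N13289 = N12685 := ded_21_2 (flp_b L151352) L151350 L151372
theorem L151378 : sm gh N13289 = N13286 := ded_22_2 L151352 L145591 L151372
theorem L151380 : sm gc N13289 = N12426 := ded_17_2 (flp_b L143332) (flp_c L134157) (flp_b L133244) L142327 L151372
theorem L151382 : sm ge N12305 = N13290 := rfl
theorem L151384 : sm gc N13290 = N12306 := ded_25_1 (flp_e L142331) L142327 L151382
theorem L151386 : sm gi N12305 = N13291 := rfl
theorem L151388 : sm gc N13291 = N12307 := ded_29_1 (flp_i L142337) L142327 L151386
theorem L151390 : sm gd N13291 = N12315 := ded_34_1 (flp_i L142401) (flp_d L142329) L151386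
theorem L151392 : sm gf N12306 = N13292 := rfl
theorem L151394 : sm gb N13292 = N12429 := ded_20_1 (flp_f L143359) (flp_b L142333) L151392
theorem L151396 : sm gd N13292 = N12555 := ded_31_1 (flp_f L144525) (flp_d L142335) L151392
theorem L151398 : sm gi N12306 = N13293 := rfl
theorem L151400 : sm gb N13293 = N12430 := ded_23_1 (flp_i L143364) (flp_b L142333) L151398
theorem L151402 : sm gd N13293 = N12556 := ded_34_1 (flp_i L144531) (flp_d L142335) L151398
theorem L151404 : sm ge N13293 = N12307 := ded_38_1 (flp_i L142337) L142331 L151398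
theorem L151406 : sm gh N12307 = N13294 := rfl
theorem L151408 : sm gb N13294 = N12431 := ded_22_1 (flp_h L143371) (flp_b L142339) L151406
theorem L151410 : sm ge N12310 = N13295 := rfl
theorem L151412 : sm ga N13295 = N12581 := ded_12_1 (flp_e L150020) L150018 L151410
theorem L151414 : sm gb N13295 = N12688 := ded_19_1 (flp_e L145608) (flp_b L142365) L151410
theorem L151416 : sm gc N13295 = N12311 := ded_25_1 (flp_e L142367) L142359 L151410
theorem L151418 : sm gg N13295 = N12314 := ded_36_2 (flp_e L142395) (flp_g L142361) L151410
theorem L151420 : sm gh N13295 = N12319 := ded_37_2 (flp_e L142427) (flp_h L142363) L151410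
theorem L151422 : sm gi N12310 = N13296 := rfl
theorem L151424 : sm gb N13296 = N12689 := ded_23_1 (flp_i L145614) (flp_b L142365) L151422
theorem L151426 : sm gc N13296 = N12312 := ded_29_1 (flp_i L142379) L142359 L151422
theorem L151428 : sm gg N13296 = N12315 := ded_43_1 (flp_i L142401) (flp_g L142361) L151422
theorem L151430 : sm gf N12311 = N13297 := rfl
theorem L151432 : sm ga N13297 = N12580 := ded_13_1 L144708 (flp_a L142369) L151430
theorem L151434 : sm gb N13297 = N12364 := ded_20_1 (flp_f L142801) (flp_b L142371) L151430
theorem L151436 : sm gd N13297 = N12528 := ded_31_1 L144273 (flp_d L142377) L151430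
theorem L151438 : sm gh N13297 = N12321 := ded_40_2 (flp_f L142443) (flp_h L142375) L151430
theorem L151440 : sm gh N12312 = N13298 := rfl
theorem L151442 : sm gb N13298 = N12365 := ded_22_1 (flp_h L142811) (flp_b L142381) L151440
theorem L151444 : sm gg N13298 = N12318 := ded_42_1 (flp_h L142421) (flp_g L142385) L151440
theorem L151446 : sm gi N13298 = N12323 := ded_44_2 (flp_h L142459) (flp_i L133319) (flp_h L133277) L142379 L151440
theorem L151448 : sm ga N12313 = N13299 := rfl
theorem L151450 : sm gc N13299 = N12366 := ded_10_2 (flp_a L142821) (flp_c L142393) L151448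
theorem L151452 : sm gg N13299 = N12631 := ded_14_2 L145164 (flp_g L142389) L151448
theorem L151454 : sm gh N13299 = N12324 := ded_15_2 (flp_a L142465) (flp_h L142391) L151448
theorem L151456 : sm ge N12313 = N13300 := rfl
theorem L151458 : sm gb N13300 = N12314 := ded_19_1 (flp_e L142395) L142387 L151456
theorem L151460 : sm gc N13300 = N12367 := ded_25_1 (flp_e L142831) (flp_c L142393) L151456
theorem L151462 : sm gg N13300 = N12688 := ded_36_2 (flp_e L145608) (flp_g L142389) L151456
theorem L151464 : sm gh N13300 = N12325 := ded_37_2 (flp_e L142473) (flp_h L142391) L151456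
theorem L151466 : sm gi N12313 = N13301 := rfl
theorem L151468 : sm gb N13301 = N12315 := ded_23_1 (flp_i L142401) L142387 L151466
theorem L151470 : sm gc N13301 = N12368 := ded_29_1 (flp_i L142840) (flp_c L142393) L151466
theorem L151472 : sm gg N13301 = N12689 := ded_43_1 (flp_i L145614) (flp_g L142389) L151466
theorem L151474 : sm gd N12314 = N13302 := rfl
theorem L151476 : sm gc N13302 = N12558 := ded_24_1 (flp_d L144543) L135450 (flp_d L133297) (flp_c L142397) L151474
theorem L151478 : sm gf N12314 = N13303 := rfl
theorem L151480 : sm gc N13303 = N12316 := ded_26_1 (flp_f L142405) (flp_c L142397) L151478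
theorem L151482 : sm gh N13303 = N12328 := ded_40_2 (flp_f L142495) (flp_h L142399) L151478
theorem L151484 : sm gi N12314 = N13304 := rfl
theorem L151486 : sm gc N13304 = N12317 := ded_29_1 (flp_i L142413) (flp_c L142397) L151484
theorem L151488 : sm ge N13304 = N12315 := ded_38_1 (flp_i L142401) L142395 L151484
theorem L151490 : sm gh N12315 = N13305 := rfl
theorem L151492 : sm gc N13305 = N12318 := ded_28_1 (flp_h L142421) (flp_c L142403) L151490
theorem L151494 : sm gi N13305 = N12330 := ded_44_2 (flp_h L142505) (flp_i L133339) (flp_h L133289) L142401 L151490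
theorem L151496 : sm gg N12316 = N13306 := rfl
theorem L151498 : sm gb N13306 = N12372 := ded_21_1 (flp_g L142878) (flp_b L142407) L151496
theorem L151500 : sm gd N13306 = N12561 := ded_32_1 (flp_g L144561) (flp_d L142409) L151496
theorem L151502 : sm gh N13306 = N12331 := ded_42_2 (flp_g L142509) (flp_h L142411) L151496
theorem L151504 : sm gi N12316 = N13307 := rfl
theorem L151506 : sm gb N13307 = N12373 := ded_23_1 (flp_i L142886) (flp_b L142407) L151504
theorem L151508 : sm gd N13307 = N12562 := ded_34_1 (flp_i L144568) (flp_d L142409) L151504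
theorem L151510 : sm gf N13307 = N12317 := ded_41_1 (flp_i L142413) L142405 L151504
theorem L151512 : sm gh N12317 = N13308 := rfl
theorem L151514 : sm gb N13308 = N12374 := ded_22_1 (flp_h L142894) (flp_b L142415) L151512
theorem L151516 : sm ge N13308 = N12318 := ded_37_1 (flp_h L142421) (flp_e L142419) L151512
theorem L151518 : sm gi N13308 = N12333 := ded_44_2 (flp_h L142523) (flp_i L133349) (flp_h L133295) L142413 L151512
theorem L151520 : sm gd N12319 = N13309 := rfl
theorem L151522 : sm gb N13309 = N12693 := ded_18_1 (flp_d L145638) (flp_b L142429) L151520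
theorem L151524 : sm gg N13309 = N12327 := ded_32_2 (flp_d L142491) (flp_g L142433) L151520
theorem L151526 : sm gc N13309 = N12334 := ded_24_1 (flp_d L142529) L133365 (flp_d L133317) (flp_c L142431) L151520
theorem L151528 : sm gf N12319 = N13310 := rfl
theorem L151530 : sm gb N13310 = N12694 := ded_20_1 (flp_f L145644) (flp_b L142429) L151528
theorem L151532 : sm gc N13310 = N12321 := ded_26_1 (flp_f L142443) (flp_c L142431) L151528
theorem L151534 : sm gi N12319 = N13311 := rfl
theorem L151536 : sm gb N13311 = N12695 := ded_23_1 (flp_i L145648) (flp_b L142429) L151534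
theorem L151538 : sm gc N13311 = N12322 := ded_29_1 (flp_i L142449) (flp_c L142431) L151534
theorem L151540 : sm ge N13311 = N12320 := ded_38_1 (flp_i L142435) L142427 L151534
theorem L151542 : sm gg N13311 = N12329 := ded_43_1 (flp_i L142499) (flp_g L142433) L151534
theorem L151544 : sm gh N12320 = N13312 := rfl
theorem L151546 : sm gb N13312 = N12696 := ded_22_1 (flp_h L145654) (flp_b L142437) L151544
theorem L151548 : sm gc N13312 = N12323 := ded_28_1 (flp_h L142459) (flp_c L142439) L151544
theorem L151550 : sm gg N13312 = N12330 := ded_42_1 (flp_h L142505) (flp_g L142441) L151544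
theorem L151552 : sm gg N12321 = N13313 := rfl
theorem L151554 : sm gb N13313 = N12375 := ded_21_1 (flp_g L142902) (flp_b L142445) L151552
theorem L151556 : sm gd N13313 = N12338 := ded_32_1 (flp_g L142567) (flp_d L142447) L151552
theorem L151558 : sm gf N13313 = N12331 := ded_39_1 (flp_g L142509) (flp_f L133343) (flp_g L133315) L142443 L151552
theorem L151560 : sm gi N12321 = N13314 := rfl
theorem L151562 : sm gb N13314 = N12376 := ded_23_1 (flp_i L142912) (flp_b L142445) L151560
theorem L151564 : sm gd N13314 = N12339 := ded_34_1 (flp_i L142576) (flp_d L142447) L151560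
theorem L151566 : sm gf N13314 = N12322 := ded_41_1 (flp_i L142449) L142443 L151560
theorem L151568 : sm gh N12322 = N13315 := rfl
theorem L151570 : sm gb N13315 = N12377 := ded_22_1 (flp_h L142922) (flp_b L142451) L151568
theorem L151572 : sm ge N13315 = N12323 := ded_37_1 (flp_h L142459) (flp_e L142455) L151568
theorem L151574 : sm gg N13315 = N12333 := ded_42_1 (flp_h L142523) (flp_g L142457) L151568
theorem L151576 : sm ge N12324 = N13316 := rfl
theorem L151578 : sm ga N13316 = N12325 := ded_12_1 (flp_e L142473) L142465 L151576
theorem L151580 : sm gc N13316 = N12378 := ded_25_1 (flp_e L142932) (flp_c L142467) L151576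
theorem L151582 : sm gg N13316 = N12635 := ded_36_2 (flp_e L145191) (flp_g L142471) L151576
theorem L151584 : sm gi N12324 = N13317 := rfl
theorem L151586 : sm ga N13317 = N12326 := ded_16_1 (flp_i L142481) L142465 L151584
theorem L151588 : sm gc N13317 = N12379 := ded_29_1 (flp_i L142942) (flp_c L142467) L151584
theorem L151590 : sm gd N13317 = N13148 := ded_34_1 (flp_i L150133) (flp_d L142469) L151584
theorem L151592 : sm gg N13317 = N12636 := ded_43_1 (flp_i L145197) (flp_g L142471) L151584
theorem L151594 : sm gd N12325 = N13318 := rfl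
theorem L151596 : sm gb N13318 = N12327 := ded_18_1 (flp_d L142491) (flp_b L142475) L151594
theorem L151598 : sm gg N13318 = N12693 := ded_32_2 (flp_d L145638) (flp_g L142479) L151594
theorem L151600 : sm gc N13318 = N12437 := ded_24_1 (flp_d L143424) L134242 (flp_d L133674) (flp_c L142477) L151594
theorem L151602 : sm ge N13318 = N13309 := ded_30_2 (flp_d L151520) (flp_e L142427) (flp_d L133329) L142473 L151594
theorem L151604 : sm gf N12325 = N13319 := rfl
theorem L151606 : sm gb N13319 = N12328 := ded_20_1 (flp_f L142495) (flp_b L142475) L151604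
theorem L151608 : sm gc N13319 = N12380 := ded_26_1 (flp_f L142952) (flp_c L142477) L151604
theorem L151610 : sm gi N12325 = N13320 := rfl
theorem L151612 : sm gb N13320 = N12329 := ded_23_1 (flp_i L142499) (flp_b L142475) L151610
theorem L151614 : sm gc N13320 = N12381 := ded_29_1 (flp_i L142958) (flp_c L142477) L151610
theorem L151616 : sm ge N13320 = N12326 := ded_38_1 (flp_i L142481) L142473 L151610
theorem L151618 : sm gg N13320 = N12695 := ded_43_1 (flp_i L145648) (flp_g L142479) L151610
theorem L151620 : sm gh N12326 = N13321 := rfl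
theorem L151622 : sm gb N13321 = N12330 := ded_22_1 (flp_h L142505) (flp_b L142483) L151620
theorem L151624 : sm gc N13321 = N12382 := ded_28_1 (flp_h L142968) (flp_c L142485) L151620
theorem L151626 : sm gg N13321 = N12696 := ded_42_1 (flp_h L145654) (flp_g L142489) L151620
theorem L151628 : sm gf N12327 = N13322 := rfl
theorem L151630 : sm gc N13322 = N12341 := ded_26_1 (flp_f L142595) (flp_c L142493) L151628
theorem L151632 : sm gd N13322 = N12328 := ded_31_1 (flp_f L142495) L142491 L151628
theorem L151634 : sm gh N12327 = N13323 := rfl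
theorem L151636 : sm gc N13323 = N12342 := ded_28_1 (flp_h L142601) (flp_c L142493) L151634
theorem L151638 : sm gi N12327 = N13324 := rfl
theorem L151640 : sm gc N13324 = N12343 := ded_29_1 (flp_i L142607) (flp_c L142493) L151638
theorem L151642 : sm gd N13324 = N12329 := ded_34_1 (flp_i L142499) L142491 L151638
theorem L151644 : sm gg N12328 = N13325 := rfl
theorem L151646 : sm gc N13325 = N12331 := ded_27_1 (flp_g L142509) (flp_c L142497) L151644
theorem L151648 : sm gi N12328 = N13326 := rfl
theorem L151650 : sm gc N13326 = N12332 := ded_29_1 (flp_i L142515) (flp_c L142497) L151648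
theorem L151652 : sm gf N13326 = N12329 := ded_41_1 (flp_i L142499) L142495 L151648
theorem L151654 : sm gh N12329 = N13327 := rfl
theorem L151656 : sm gc N13327 = N12333 := ded_28_1 (flp_h L142523) (flp_c L142501) L151654
theorem L151658 : sm ge N13327 = N12330 := ded_37_1 (flp_h L142505) (flp_e L142503) L151654
theorem L151660 : sm gd N12330 = N13328 := rfl
theorem L151662 : sm gi N12331 = N13329 := rfl
theorem L151664 : sm gb N13329 = N12386 := ded_23_1 (flp_i L143004) (flp_b L142511) L151662
theorem L151666 : sm gd N13329 = N12348 := ded_34_1 (flp_i L142651) (flp_d L142513) L151662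
theorem L151668 : sm gg N13329 = N12332 := ded_43_1 (flp_i L142515) L142509 L151662
theorem L151670 : sm gh N12332 = N13330 := rfl
theorem L151672 : sm gb N13330 = N12387 := ded_22_1 (flp_h L143012) (flp_b L142517) L151670
theorem L151674 : sm gf N13330 = N12333 := ded_40_1 (flp_h L142523) (flp_f L142521) L151670
theorem L151676 : sm gd N12333 = N13331 := rfl
theorem L151678 : sm gb N13331 = N12388 := ded_18_1 (flp_d L143018) (flp_b L142525) L151676
theorem L151680 : sm gh N13331 = N12350 := ded_33_2 (flp_d L142669) (flp_h L133456) (flp_d L133353) L142523 L151676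
theorem L151682 : sm gf N12334 = N13332 := rfl
theorem L151684 : sm gb N13332 = N12451 := ded_20_1 (flp_f L143551) (flp_b L142531) L151682
theorem L151686 : sm gd N13332 = N12335 := ded_31_1 (flp_f L142535) L142529 L151682
theorem L151688 : sm gh N12334 = N13333 := rfl
theorem L151690 : sm gb N13333 = N12452 := ded_22_1 (flp_h L143558) (flp_b L142531) L151688
theorem L151692 : sm gg N13333 = N12342 := ded_42_1 (flp_h L142601) (flp_g L142533) L151688
theorem L151694 : sm gd N13333 = N12567 := ded_33_1 (flp_h L144600) (flp_d L135492) (flp_h L133369) L142529 L151688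
theorem L151696 : sm gi N12334 = N13334 := rfl
theorem L151698 : sm gb N13334 = N12453 := ded_23_1 (flp_i L143569) (flp_b L142531) L151696
theorem L151700 : sm gd N13334 = N12336 := ded_34_1 (flp_i L142544) L142529 L151696
theorem L151702 : sm gg N13334 = N12343 := ded_43_1 (flp_i L142607) (flp_g L142533) L151696
theorem L151704 : sm gg N12335 = N13335 := rfl
theorem L151706 : sm gb N13335 = N12454 := ded_21_1 (flp_g L143580) (flp_b L142537) L151704
theorem L151708 : sm gc N13335 = N12338 := ded_27_1 (flp_g L142567) (flp_c L142539) L151704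
theorem L151710 : sm ge N13335 = N13335 := ded_36_1 (flp_g L151704) L142543 L151704
theorem L151711 : sm gh N13335 = N12568 := ded_42_2 (flp_g L144607) (flp_h L142541) L151704
theorem L151713 : sm gf N13335 = N12344 := ded_39_1 (flp_g L142613) (flp_f L133412) (flp_g L133367) L142535 L151704
theorem L151715 : sm gi N12335 = N13336 := rfl
theorem L151717 : sm gb N13336 = N12455 := ded_23_1 (flp_i L143590) (flp_b L142537) L151715
theorem L151719 : sm gc N13336 = N12339 := ded_29_1 (flp_i L142576) (flp_c L142539) L151715
theorem L151721 : sm ge N13336 = N13336 := ded_38_1 (flp_i L151715) L142543 L151715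
theorem L151722 : sm gf N13336 = N12336 := ded_41_1 (flp_i L142544) L142535 L151715
theorem L151724 : sm gh N12336 = N13337 := rfl
theorem L151726 : sm ga N13337 = N12560 := ded_15_1 (flp_h L150273) L150264 L151724
theorem L151728 : sm gb N13337 = N12456 := ded_22_1 (flp_h L143598) (flp_b L142546) L151724
theorem L151730 : sm gc N13337 = N12340 := ded_28_1 (flp_h L142583) (flp_c L142548) L151724
theorem L151732 : sm ge N13337 = N12337 := ded_37_1 (flp_h L142554) (flp_e L142550) L151724
theorem L151734 : sm gg N13337 = N12346 := ded_42_1 (flp_h L142633) (flp_g L142552) L151724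
theorem L151736 : sm gi N13337 = N12512 := ded_44_2 L144100 L134979 (flp_h L133369) L142544 L151724
theorem L151738 : sm gd N12337 = N13338 := rfl
theorem L151740 : sm ga N13338 = N12554 := ded_11_1 L144522 (flp_a L142556) L151738
theorem L151742 : sm gb N13338 = N12457 := ded_18_1 (flp_d L143609) (flp_b L142558) L151738
theorem L151744 : sm gf N13338 = N13338 := ded_31_2 (flp_d L151738) L142562 L151738
theorem L151745 : sm gg N13338 = N12347 := ded_32_2 (flp_d L142643) (flp_g L142563) L151738
theorem L151747 : sm gi N13338 = N12509 := ded_34_2 L144072 (flp_i L142565) L151738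
theorem L151749 : sm gc N13338 = N12511 := ded_24_1 L144087 L134945 (flp_d L133404) (flp_c L142560) L151738
theorem L151751 : sm gi N12338 = N13339 := rfl
theorem L151753 : sm gb N13339 = N12389 := ded_23_1 (flp_i L143024) (flp_b L142569) L151751
theorem L151755 : sm ge N13339 = N13339 := ded_38_1 (flp_i L151751) L142571 L151751
theorem L151756 : sm gf N13339 = N12348 := ded_41_1 (flp_i L142651) (flp_f L142574) L151751
theorem L151758 : sm gg N13339 = N12339 := ded_43_1 (flp_i L142576) L142567 L151751
theorem L151760 : sm gh N12339 = N13340 := rfl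
theorem L151762 : sm ga N13340 = N12562 := ded_15_1 (flp_h L150295) L150288 L151760
theorem L151764 : sm gb N13340 = N12390 := ded_22_1 (flp_h L143035) (flp_b L142578) L151760
theorem L151766 : sm ge N13340 = N13340 := ded_37_1 (flp_h L151760) L142580 L151760
theorem L151767 : sm gf N13340 = N12340 := ded_40_1 (flp_h L142583) (flp_f L142581) L151760
theorem L151769 : sm gi N13340 = N12513 := ded_44_2 L144108 L134989 (flp_h L133384) L142576 L151760
theorem L151771 : sm ge N12341 = N13341 := rfl
theorem L151773 : sm gb N13341 = N12461 := ded_19_1 (flp_e L143654) (flp_b L142597) L151771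
theorem L151775 : sm gd N13341 = N12351 := ded_30_1 (flp_e L142675) L133468 (flp_e L133420) (flp_d L142599) L151771
theorem L151777 : sm gg N12341 = N13342 := rfl
theorem L151779 : sm gb N13342 = N12462 := ded_21_1 (flp_g L143659) (flp_b L142597) L151777
theorem L151781 : sm gd N13342 = N12344 := ded_32_1 (flp_g L142613) (flp_d L142599) L151777
theorem L151783 : sm gh N13341 = N13342 := ded_22_0 L151779 (flp_h L143664) (flp_b L151773)
theorem L151785 : sm gh N12341 = N13343 := rfl
theorem L151787 : sm gb N13343 = N12463 := ded_22_1 (flp_h L143666) (flp_b L142597) L151785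
theorem L151789 : sm ge N13343 = N13342 := ded_37_1 (flp_h L151783) (flp_e L151771) L151785
theorem L151791 : sm gf N13343 = N12342 := ded_40_1 (flp_h L142601) L142595 L151785
theorem L151793 : sm gg N13343 = N13341 := ded_42_1 L151783 (flp_g L151777) L151785
theorem L151795 : sm gd N13343 = N12571 := ded_33_1 (flp_h L144637) L135517 (flp_h L133418) (flp_d L142599) L151785
theorem L151797 : sm gi N12341 = N13344 := rfl
theorem L151799 : sm gb N13344 = N12464 := ded_23_1 (flp_i L143677) (flp_b L142597) L151797
theorem L151801 : sm gd N13344 = N12345 := ded_34_1 (flp_i L142623) (flp_d L142599) L151797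
theorem L151803 : sm gf N13344 = N12343 := ded_41_1 (flp_i L142607) L142595 L151797
theorem L151805 : sm gi N12342 = N13345 := rfl
theorem L151807 : sm gb N13345 = N12465 := ded_23_1 (flp_i L143684) (flp_b L142603) L151805
theorem L151809 : sm gd N13345 = N12573 := ded_34_1 (flp_i L144655) (flp_d L142605) L151805
theorem L151811 : sm gh N12343 = N13346 := rfl
theorem L151813 : sm gb N13346 = N12466 := ded_22_1 (flp_h L143689) (flp_b L142609) L151811
theorem L151815 : sm gi N12344 = N13347 := rfl
theorem L151817 : sm gb N13347 = N12467 := ded_23_1 (flp_i L143692) (flp_b L142615) L151815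
theorem L151819 : sm gc N13347 = N12348 := ded_29_1 (flp_i L142651) (flp_c L142617) L151815
theorem L151821 : sm ge N13347 = N12357 := ded_38_1 (flp_i L142724) (flp_e L142619) L151815
theorem L151823 : sm gg N13347 = N12345 := ded_43_1 (flp_i L142623) L142613 L151815
theorem L151825 : sm gh N12345 = N13348 := rfl
theorem L151827 : sm gb N13348 = N12468 := ded_22_1 (flp_h L143701) (flp_b L142625) L151825
theorem L151829 : sm gc N13348 = N12349 := ded_28_1 (flp_h L142659) (flp_c L142627) L151825
theorem L151831 : sm ge N13348 = N12358 := ded_37_1 (flp_h L142733) (flp_e L142629) L151825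
theorem L151833 : sm gf N13348 = N12346 := ded_40_1 (flp_h L142633) (flp_f L142631) L151825
theorem L151835 : sm gi N13348 = N12576 := ded_44_2 (flp_h L144675) (flp_i L135539) (flp_h L133418) L142623 L151825
theorem L151837 : sm gd N12346 = N13349 := rfl
theorem L151839 : sm gb N13349 = N12469 := ded_18_1 (flp_d L143712) (flp_b L142635) L151837
theorem L151841 : sm gi N13349 = N12577 := ded_34_2 (flp_d L144685) (flp_i L142641) L151837
theorem L151843 : sm ge N12347 = N13350 := rfl
theorem L151845 : sm gb N13350 = N12470 := ded_19_1 (flp_e L143717) (flp_b L142645) L151843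
theorem L151847 : sm gi N13350 = N12578 := ded_38_2 (flp_e L144689) (flp_i L142649) L151843
theorem L151849 : sm gh N12348 = N13351 := rfl
theorem L151851 : sm gb N13351 = N12391 := ded_22_1 (flp_h L143046) (flp_b L142653) L151849
theorem L151853 : sm ge N13351 = N12361 := ded_37_1 (flp_h L142771) (flp_e L142655) L151849
theorem L151855 : sm gg N13351 = N12349 := ded_42_1 (flp_h L142659) (flp_g L142657) L151849
theorem L151857 : sm gi N13351 = N12579 := ded_44_2 (flp_h L144696) (flp_i L135564) (flp_h L133446) L142651 L151849
theorem L151859 : sm gd N12349 = N13352 := rfl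
theorem L151861 : sm gb N13352 = N12392 := ded_18_1 (flp_d L143058) (flp_b L142661) L151859
theorem L151863 : sm gf N13352 = N12350 := ded_31_2 (flp_d L142669) (flp_f L142665) L151859
theorem L151865 : sm gi N13352 = N12580 := ded_34_2 (flp_d L144704) (flp_i L142667) L151859
theorem L151867 : sm gc N12350 = N13353 := rfl
theorem L151869 : sm gi N13353 = N12581 := ded_29_2 (flp_c L144710) (flp_i L142673) L151867
theorem L151871 : sm gi N12351 = N13354 := rfl
theorem L151873 : sm gb N13354 = N12474 := ded_23_1 (flp_i L143749) (flp_b L142677) L151871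
theorem L151875 : sm ge N13354 = N12354 := ded_38_1 (flp_i L142694) L142675 L151871
theorem L151877 : sm gi N12352 = N13355 := rfl
theorem L151879 : sm gb N13355 = N12475 := ded_23_1 (flp_i L143755) (flp_b L142681) L151877
theorem L151881 : sm gd N13355 = N12357 := ded_34_1 (flp_i L142724) (flp_d L142683) L151877
theorem L151883 : sm gf N13355 = N13355 := ded_41_1 (flp_i L151877) L142685 L151877
theorem L151884 : sm gg N13355 = N12354 := ded_43_1 (flp_i L142694) L142679 L151877
theorem L151886 : sm gi N12353 = N13356 := rfl
theorem L151888 : sm ga N13356 = N13268 := ded_16_1 (flp_i L151203) L150415 L151886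
theorem L151890 : sm gb N13356 = N12476 := ded_23_1 (flp_i L143764) (flp_b L142688) L151886
theorem L151892 : sm gd N13356 = N12584 := ded_34_1 (flp_i L144730) (flp_d L142692) L151886
theorem L151894 : sm gf N13356 = N12355 := ded_41_1 (flp_i L142702) (flp_f L142690) L151886
theorem L151896 : sm gh N13103 = N13356 := ded_15_0 L151888 (flp_h L151194) (flp_a L149704)
theorem L151898 : sm gh N12354 = N13357 := rfl
theorem L151900 : sm ga N13357 = N13269 := ded_15_1 L151214 L150424 L151898
theorem L151902 : sm gb N13357 = N12477 := ded_22_1 (flp_h L143772) (flp_b L142696) L151898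
theorem L151904 : sm gf N13357 = N12356 := ded_40_1 (flp_h L142713) (flp_f L142700) L151898
theorem L151906 : sm gi N13357 = N13103 := ded_44_2 L151896 (flp_i L151886) (flp_h L142686) L142694 L151898
theorem L151908 : sm gd N13104 = N13357 := ded_11_0 L151900 L151210 (flp_a L149712)
theorem L151910 : sm gh N12357 = N13358 := rfl
theorem L151912 : sm gb N13358 = N12480 := ded_22_1 (flp_h L143803) (flp_b L142726) L151910
theorem L151914 : sm gc N13358 = N12361 := ded_28_1 (flp_h L142771) (flp_c L142728) L151910
theorem L151916 : sm gf N13358 = N13358 := ded_40_1 (flp_h L151910) L142730 L151910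
theorem L151917 : sm gg N13358 = N12358 := ded_42_1 (flp_h L142733) (flp_g L142731) L151910
theorem L151919 : sm gi N13358 = N12586 := ded_44_2 (flp_h L144758) (flp_i L135644) (flp_h L133490) L142724 L151910
theorem L151921 : sm gd N12358 = N13359 := rfl
theorem L151923 : sm ga N13359 = N13271 := ded_11_1 L151231 L150443 L151921
theorem L151925 : sm gb N13359 = N12481 := ded_18_1 (flp_d L143813) (flp_b L142735) L151921
theorem L151927 : sm gf N13359 = N12359 := ded_31_2 (flp_d L142743) (flp_f L142739) L151921
theorem L151929 : sm gi N13359 = N12587 := ded_34_2 (flp_d L144767) (flp_i L142741) L151921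
theorem L151931 : sm gh N13359 = N13104 := ded_33_2 L151908 (flp_h L151898) L142698 L142733 L151921
theorem L151933 : sm gc N13105 = N13359 := ded_10_0 L151923 L151227 (flp_a L149720)
theorem L151935 : sm ge N13285 = N13359 := ded_19_0 L151925 (flp_e L143822) (flp_b L151342)
theorem L151937 : sm gc N12362 = N13360 := rfl
theorem L151939 : sm ga N13360 = N13273 := ded_10_1 L151252 L150465 L151937
theorem L151941 : sm ge N13360 = N13114 := ded_25_2 L149818 L147399 L151937
theorem L151943 : sm gf N13360 = N12363 := ded_26_2 (flp_c L142788) (flp_f L142784) L151937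
theorem L151945 : sm gg N13360 = N13086 := ded_27_2 L149498 L146580 L151937
theorem L151947 : sm gi N13360 = N12588 := ded_29_2 (flp_c L144781) (flp_i L142786) L151937
theorem L151949 : sm gb N13360 = N13083 := ded_17_1 L149452 L140252 L137382 (flp_b L142782) L151937
theorem L151951 : sm gd N13360 = N13105 := ded_24_2 L151933 (flp_d L151921) L142737 L142780 L151937
theorem L151953 : sm ge N12366 = N13361 := rfl
theorem L151955 : sm ga N13361 = N12367 := ded_12_1 (flp_e L142831) L142821 L151953
theorem L151957 : sm gb N13361 = N12395 := ded_19_1 (flp_e L143089) (flp_b L142829) L151953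
theorem L151959 : sm gg N13361 = N12632 := ded_36_2 (flp_e L145168) (flp_g L142825) L151953
theorem L151961 : sm gh N13361 = N12378 := ded_37_2 (flp_e L142932) (flp_h L142827) L151953
theorem L151963 : sm gd N13361 = N13361 := ded_30_1 (flp_e L151953) L142823 L134205 (flp_d L142823) L151953
theorem L151964 : sm gi N12366 = N13362 := rfl
theorem L151966 : sm ga N13362 = N12368 := ded_16_1 (flp_i L142840) L142821 L151964
theorem L151968 : sm gb N13362 = N12396 := ded_23_1 (flp_i L143098) (flp_b L142829) L151964
theorem L151970 : sm gd N13362 = N12434 := ded_34_1 (flp_i L143393) (flp_d L142823) L151964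
theorem L151972 : sm gg N13362 = N12633 := ded_43_1 (flp_i L145177) (flp_g L142825) L151964
theorem L151974 : sm gf N12367 = N13363 := rfl
theorem L151976 : sm gb N13363 = N12369 := ded_20_1 (flp_f L142848) (flp_b L142833) L151974
theorem L151978 : sm gd N13363 = N13363 := ded_31_1 (flp_f L151974) L142839 L151974
theorem L151979 : sm gh N13363 = N12380 := ded_40_2 (flp_f L142952) (flp_h L142837) L151974
theorem L151981 : sm gi N12367 = N13364 := rfl
theorem L151983 : sm gb N13364 = N12370 := ded_23_1 (flp_i L142857) (flp_b L142833) L151981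
theorem L151985 : sm gd N13364 = N13364 := ded_34_1 (flp_i L151981) L142839 L151981
theorem L151986 : sm ge N13364 = N12368 := ded_38_1 (flp_i L142840) L142831 L151981
theorem L151988 : sm gg N13364 = N12691 := ded_43_1 (flp_i L145625) (flp_g L142835) L151981
theorem L151990 : sm gh N12368 = N13365 := rfl
theorem L151992 : sm gb N13365 = N12371 := ded_22_1 (flp_h L142868) (flp_b L142842) L151990
theorem L151994 : sm gg N13365 = N12692 := ded_42_1 (flp_h L145632) (flp_g L142846) L151990
theorem L151996 : sm gi N13365 = N12382 := ded_44_2 (flp_h L142968) (flp_i L133676) (flp_h L133587) L142840 L151990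
theorem L151998 : sm gi N12369 = N13366 := rfl
theorem L152000 : sm ga N13366 = N12399 := ded_16_1 (flp_i L143123) (flp_a L142850) L151998
theorem L152002 : sm gc N13366 = N12373 := ded_29_1 (flp_i L142886) (flp_c L142852) L151998
theorem L152004 : sm gd N13366 = N13366 := ded_34_1 (flp_i L151998) L142854 L151998
theorem L152005 : sm gf N13366 = N12370 := ded_41_1 (flp_i L142857) L142848 L151998
theorem L152007 : sm gh N12370 = N13367 := rfl
theorem L152009 : sm ga N13367 = N12400 := ded_15_1 (flp_h L143130) (flp_a L142859) L152007
theorem L152011 : sm gc N13367 = N12374 := ded_28_1 (flp_h L142894) (flp_c L142861) L152007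
theorem L152013 : sm ge N13367 = N12371 := ded_37_1 (flp_h L142868) (flp_e L142864) L152007
theorem L152015 : sm gg N13367 = N12724 := ded_42_1 (flp_h L145897) (flp_g L142866) L152007
theorem L152017 : sm gi N13367 = N12385 := ded_44_2 (flp_h L142994) (flp_i L133692) (flp_h L133597) L142857 L152007
theorem L152019 : sm gi N12372 = N13368 := rfl
theorem L152021 : sm ga N13368 = N12401 := ded_16_1 (flp_i L143140) (flp_a L142880) L152019
theorem L152023 : sm gd N13368 = N12589 := ded_34_1 (flp_i L144796) (flp_d L142882) L152019
theorem L152025 : sm gg N13368 = N12373 := ded_43_1 (flp_i L142886) L142878 L152019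
theorem L152027 : sm gh N12373 = N13369 := rfl
theorem L152029 : sm ga N13369 = N12402 := ded_15_1 (flp_h L143146) (flp_a L142888) L152027
theorem L152031 : sm gf N13369 = N12374 := ded_40_1 (flp_h L142894) (flp_f L142892) L152027
theorem L152033 : sm gi N13369 = N12387 := ded_44_2 (flp_h L143012) (flp_i L133718) (flp_h L133616) L142886 L152027
theorem L152035 : sm gi N12375 = N13370 := rfl
theorem L152037 : sm ga N13370 = N12403 := ded_16_1 (flp_i L143152) (flp_a L142904) L152035
theorem L152039 : sm gc N13370 = N12725 := ded_29_1 (flp_i L145905) (flp_c L142906) L152035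
theorem L152041 : sm gd N13370 = N12389 := ded_34_1 (flp_i L143024) (flp_d L142908) L152035
theorem L152043 : sm gf N13370 = N12386 := ded_41_1 (flp_i L143004) (flp_f L142910) L152035
theorem L152045 : sm gg N13370 = N12376 := ded_43_1 (flp_i L142912) L142902 L152035
theorem L152047 : sm gh N12376 = N13371 := rfl
theorem L152049 : sm ga N13371 = N12404 := ded_15_1 (flp_h L143162) (flp_a L142914) L152047
theorem L152051 : sm gc N13371 = N12726 := ded_28_1 (flp_h L145913) (flp_c L142916) L152047
theorem L152053 : sm gf N13371 = N12377 := ded_40_1 (flp_h L142922) (flp_f L142920) L152047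
theorem L152055 : sm gf N12378 = N13372 := rfl
theorem L152057 : sm ga N13372 = N12380 := ded_13_1 (flp_f L142952) (flp_a L142934) L152055
theorem L152059 : sm gb N13372 = N12405 := ded_20_1 (flp_f L143168) (flp_b L142936) L152055
theorem L152061 : sm gd N13372 = N12482 := ded_31_1 (flp_f L143824) (flp_d L142940) L152055
theorem L152063 : sm gi N12378 = N13373 := rfl
theorem L152065 : sm ga N13373 = N12381 := ded_16_1 (flp_i L142958) (flp_a L142934) L152063
theorem L152067 : sm gb N13373 = N12406 := ded_23_1 (flp_i L143174) (flp_b L142936) L152063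
theorem L152069 : sm gd N13373 = N12483 := ded_34_1 (flp_i L143832) (flp_d L142940) L152063
theorem L152071 : sm ge N13373 = N12379 := ded_38_1 (flp_i L142942) L142932 L152063
theorem L152073 : sm gg N13373 = N12638 := ded_43_1 (flp_i L145213) (flp_g L142938) L152063
theorem L152075 : sm gh N12379 = N13374 := rfl
theorem L152077 : sm ga N13374 = N12382 := ded_15_1 (flp_h L142968) (flp_a L142944) L152075
theorem L152079 : sm gb N13374 = N12407 := ded_22_1 (flp_h L143184) (flp_b L142946) L152075
theorem L152081 : sm gg N13374 = N12639 := ded_42_1 (flp_h L145223) (flp_g L142950) L152075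
theorem L152083 : sm gg N12380 = N13375 := rfl
theorem L152085 : sm gb N13375 = N12383 := ded_21_1 (flp_g L142974) (flp_b L142954) L152083
theorem L152087 : sm gd N13375 = N12485 := ded_32_1 (flp_g L143852) (flp_d L142956) L152083
theorem L152089 : sm gf N13375 = N12697 := ded_39_1 (flp_g L145658) (flp_f L136625) (flp_g L133672) L142952 L152083
theorem L152091 : sm gi N12380 = N13376 := rfl
theorem L152093 : sm gb N13376 = N12384 := ded_23_1 (flp_i L142984) (flp_b L142954) L152091
theorem L152095 : sm gd N13376 = N12486 := ded_34_1 (flp_i L143860) (flp_d L142956) L152091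
theorem L152097 : sm gf N13376 = N12381 := ded_41_1 (flp_i L142958) L142952 L152091
theorem L152099 : sm gh N12381 = N13377 := rfl
theorem L152101 : sm gb N13377 = N12385 := ded_22_1 (flp_h L142994) (flp_b L142960) L152099
theorem L152103 : sm ge N13377 = N12382 := ded_37_1 (flp_h L142968) (flp_e L142964) L152099
theorem L152105 : sm gg N13377 = N12699 := ded_42_1 (flp_h L145672) (flp_g L142966) L152099
theorem L152107 : sm gi N12383 = N13378 := rfl
theorem L152109 : sm ga N13378 = N12410 := ded_16_1 (flp_i L143206) (flp_a L142976) L152107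
theorem L152111 : sm gc N13378 = N12386 := ded_29_1 (flp_i L143004) (flp_c L142978) L152107
theorem L152113 : sm gd N13378 = N12488 := ded_34_1 (flp_i L143876) (flp_d L142980) L152107
theorem L152115 : sm gf N13378 = N12725 := ded_41_1 (flp_i L145905) (flp_f L142982) L152107
theorem L152117 : sm gg N13378 = N12384 := ded_43_1 (flp_i L142984) L142974 L152107
theorem L152119 : sm gh N12384 = N13379 := rfl
theorem L152121 : sm ga N13379 = N12411 := ded_15_1 (flp_h L143216) (flp_a L142986) L152119
theorem L152123 : sm gc N13379 = N12387 := ded_28_1 (flp_h L143012) (flp_c L142988) L152119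
theorem L152125 : sm gf N13379 = N12385 := ded_40_1 (flp_h L142994) (flp_f L142992) L152119
theorem L152127 : sm gd N12385 = N13380 := rfl
theorem L152129 : sm ga N13380 = N12412 := ded_11_1 (flp_d L143222) (flp_a L142996) L152127
theorem L152131 : sm gg N13380 = N12727 := ded_32_2 (flp_d L145919) (flp_g L143002) L152127
theorem L152133 : sm gh N13380 = N12490 := ded_33_2 (flp_d L143897) (flp_h L134626) (flp_d L133698) L142994 L152127
theorem L152135 : sm gh N12386 = N13381 := rfl
theorem L152137 : sm ga N13381 = N12413 := ded_15_1 (flp_h L143228) (flp_a L143006) L152135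
theorem L152139 : sm gg N13381 = N12387 := ded_42_1 (flp_h L143012) (flp_g L143010) L152135
theorem L152141 : sm gd N12387 = N13382 := rfl
theorem L152143 : sm ga N13382 = N12414 := ded_11_1 (flp_d L143232) (flp_a L143014) L152141
theorem L152145 : sm gf N13382 = N12388 := ded_31_2 (flp_d L143018) (flp_f L143016) L152141
theorem L152147 : sm gh N13382 = N12392 := ded_33_2 (flp_d L143058) (flp_h L133774) (flp_d L133722) L143012 L152141
theorem L152149 : sm gc N12388 = N13383 := rfl
theorem L152151 : sm ga N13383 = N12415 := ded_10_1 (flp_c L143238) (flp_a L143020) L152149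
theorem L152153 : sm gh N13383 = N12393 := ded_28_2 (flp_c L143066) (flp_h L143022) L152149
theorem L152155 : sm gh N12389 = N13384 := rfl
theorem L152157 : sm ga N13384 = N12416 := ded_15_1 (flp_h L143242) (flp_a L143026) L152155
theorem L152159 : sm gc N13384 = N12494 := ded_28_1 (flp_h L143933) (flp_c L143028) L152155
theorem L152161 : sm ge N13384 = N13384 := ded_37_1 (flp_h L152155) L143030 L152155
theorem L152162 : sm gf N13384 = N12391 := ded_40_1 (flp_h L143046) (flp_f L143031) L152155
theorem L152164 : sm gg N13384 = N12390 := ded_42_1 (flp_h L143035) (flp_g L143033) L152155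
theorem L152166 : sm gi N13384 = N12537 := ded_44_2 L144359 L135185 (flp_h L133739) L143024 L152155
theorem L152168 : sm gb N12393 = N13385 := rfl
theorem L152170 : sm gd N13385 = N12497 := ded_18_2 (flp_b L143965) (flp_d L143072) L152168
theorem L152172 : sm gi N13385 = N12590 := ded_23_2 (flp_b L144804) (flp_i L143070) L152168
theorem L152174 : sm gi N12395 = N13386 := rfl
theorem L152176 : sm ga N13386 = N12397 := ded_16_1 (flp_i L143106) (flp_a L143091) L152174
theorem L152178 : sm gd N13386 = N13386 := ded_34_1 (flp_i L152174) L143097 L152174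
theorem L152179 : sm ge N13386 = N12396 := ded_38_1 (flp_i L143098) L143089 L152174
theorem L152181 : sm gg N13386 = N12659 := ded_43_1 (flp_i L145411) (flp_g L143093) L152174
theorem L152183 : sm gh N12396 = N13387 := rfl
theorem L152185 : sm ga N13387 = N12398 := ded_15_1 (flp_h L143115) (flp_a L143100) L152183
theorem L152187 : sm gg N13387 = N12660 := ded_42_1 (flp_h L145418) (flp_g L143104) L152183
theorem L152189 : sm gi N13387 = N12407 := ded_44_2 (flp_h L143184) (flp_i L133949) (flp_h L133856) L143098 L152183
theorem L152191 : sm gh N12397 = N13388 := rfl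
theorem L152193 : sm gb N13388 = N12400 := ded_22_1 (flp_h L143130) (flp_b L143108) L152191
theorem L152195 : sm ge N13388 = N12398 := ded_37_1 (flp_h L143115) (flp_e L143111) L152191
theorem L152197 : sm gg N13388 = N12676 := ded_42_1 (flp_h L145534) (flp_g L143113) L152191
theorem L152199 : sm gi N13388 = N12409 := ded_44_2 (flp_h L143198) (flp_i L133963) (flp_h L133864) L143106 L152191
theorem L152201 : sm gh N12399 = N13389 := rfl
theorem L152203 : sm gc N13389 = N12402 := ded_28_1 (flp_h L143146) (flp_c L143125) L152201
theorem L152205 : sm gf N13389 = N12400 := ded_40_1 (flp_h L143130) (flp_f L143128) L152201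
theorem L152207 : sm gi N13389 = N12411 := ded_44_2 (flp_h L143216) (flp_i L133987) (flp_h L133880) L143123 L152201
theorem L152209 : sm gd N12400 = N13390 := rfl
theorem L152211 : sm gg N13390 = N12736 := ded_32_2 (flp_d L145992) (flp_g L143136) L152209
theorem L152213 : sm gi N13390 = N12412 := ded_34_2 (flp_d L143222) (flp_i L143138) L152209
theorem L152215 : sm gh N13390 = N13390 := ded_33_2 (flp_d L152209) (flp_h L143130) L133886 L143130 L152209
theorem L152216 : sm gh N12401 = N13391 := rfl
theorem L152218 : sm gg N13391 = N12402 := ded_42_1 (flp_h L143146) (flp_g L143144) L152216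
theorem L152220 : sm gi N13391 = N12413 := ded_44_2 (flp_h L143228) (flp_i L134003) (flp_h L133903) L143140 L152216
theorem L152222 : sm gh N12403 = N13392 := rfl
theorem L152224 : sm gc N13392 = N12737 := ded_28_1 (flp_h L145997) (flp_c L143154) L152222
theorem L152226 : sm gf N13392 = N12413 := ded_40_1 (flp_h L143228) (flp_f L143158) L152222
theorem L152228 : sm gg N13392 = N12404 := ded_42_1 (flp_h L143162) (flp_g L143160) L152222
theorem L152230 : sm gi N12405 = N13393 := rfl
theorem L152232 : sm ga N13393 = N12408 := ded_16_1 (flp_i L143190) (flp_a L143170) L152230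
theorem L152234 : sm gd N13393 = N12499 := ded_34_1 (flp_i L143979) (flp_d L143172) L152230
theorem L152236 : sm gf N13393 = N12406 := ded_41_1 (flp_i L143174) L143168 L152230
theorem L152238 : sm gh N12406 = N13394 := rfl
theorem L152240 : sm ga N13394 = N12409 := ded_15_1 (flp_h L143198) (flp_a L143176) L152238
theorem L152242 : sm ge N13394 = N12407 := ded_37_1 (flp_h L143184) (flp_e L143180) L152238
theorem L152244 : sm gg N13394 = N12666 := ded_42_1 (flp_h L145458) (flp_g L143182) L152238
theorem L152246 : sm gh N12408 = N13395 := rfl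
theorem L152248 : sm gb N13395 = N12411 := ded_22_1 (flp_h L143216) (flp_b L143192) L152246
theorem L152250 : sm gf N13395 = N12409 := ded_40_1 (flp_h L143198) (flp_f L143196) L152246
theorem L152252 : sm gd N12409 = N13396 := rfl
theorem L152254 : sm gb N13396 = N12412 := ded_18_1 (flp_d L143222) (flp_b L143200) L152252
theorem L152256 : sm gg N13396 = N12680 := ded_32_2 (flp_d L145558) (flp_g L143204) L152252
theorem L152258 : sm gh N13396 = N12503 := ded_33_2 (flp_d L144016) (flp_h L134775) (flp_d L133967) L143198 L152252
theorem L152260 : sm gh N12410 = N13397 := rfl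
theorem L152262 : sm gc N13397 = N12413 := ded_28_1 (flp_h L143228) (flp_c L143208) L152260
theorem L152264 : sm gf N13397 = N12737 := ded_40_1 (flp_h L145997) (flp_f L143212) L152260
theorem L152266 : sm gg N13397 = N12411 := ded_42_1 (flp_h L143216) (flp_g L143214) L152260
theorem L152268 : sm gd N12411 = N13398 := rfl
theorem L152270 : sm gf N13398 = N12412 := ded_31_2 (flp_d L143222) (flp_f L143220) L152268
theorem L152272 : sm gh N13398 = N12505 := ded_33_2 (flp_d L144033) (flp_h L134794) (flp_d L133991) L143216 L152268
theorem L152274 : sm gc N12412 = N13399 := rfl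
theorem L152276 : sm gg N13399 = N12739 := ded_27_2 (flp_c L146007) (flp_g L143224) L152274
theorem L152278 : sm gh N13399 = N12506 := ded_28_2 (flp_c L144038) (flp_h L143226) L152274
theorem L152280 : sm gd N13399 = N12415 := ded_24_2 (flp_c L143238) (flp_d L134013) (flp_c L133997) L143222 L152274
theorem L152282 : sm ge N12417 = N13400 := rfl
theorem L152284 : sm ga N13400 = N13400 := ded_12_1 (flp_e L152282) L143257 L152282
theorem L152285 : sm gb N13400 = N12828 := ded_19_1 (flp_e L149684) L149680 L152282
theorem L152287 : sm gg N13400 = N12420 := ded_36_2 (flp_e L143282) (flp_g L143258) L152282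
theorem L152289 : sm gh N13400 = N13061 := ded_37_2 (flp_e L149216) (flp_h L143260) L152282
theorem L152291 : sm gd N13400 = N12591 := ded_30_1 (flp_e L144808) (flp_d L135772) (flp_e L134064) L143255 L152282
theorem L152293 : sm gi N12417 = N13401 := rfl
theorem L152295 : sm ga N13401 = N13401 := ded_16_1 (flp_i L152293) L143257 L152293
theorem L152296 : sm gd N13401 = N12418 := ded_34_1 (flp_i L143262) L143255 L152293
theorem L152298 : sm gg N13401 = N12421 := ded_43_1 (flp_i L143289) (flp_g L143258) L152293
theorem L152300 : sm gi N12419 = N13402 := rfl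
theorem L152302 : sm ga N13402 = N13402 := ded_16_1 (flp_i L152300) L143275 L152300
theorem L152303 : sm gc N13402 = N12421 := ded_29_1 (flp_i L143289) L143273 L152300
theorem L152305 : sm gd N13402 = N12422 := ded_34_1 (flp_i L143296) (flp_d L143280) L152300
theorem L152307 : sm gf N13402 = N12425 := ded_41_1 (flp_i L143323) (flp_f L143276) L152300
theorem L152309 : sm gi N12420 = N13403 := rfl
theorem L152311 : sm ga N13403 = N13403 := ded_16_1 (flp_i L152309) L143284 L152309
theorem L152312 : sm gd N13403 = N12594 := ded_34_1 (flp_i L144845) (flp_d L143287) L152309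
theorem L152314 : sm ge N13403 = N12421 := ded_38_1 (flp_i L143289) L143282 L152309
theorem L152316 : sm gh N12421 = N13404 := rfl
theorem L152318 : sm ga N13404 = N13404 := ded_15_1 (flp_h L152316) L143291 L152316
theorem L152319 : sm gf N13404 = N12747 := ded_40_1 (flp_h L146065) (flp_f L143294) L152316
theorem L152321 : sm gd N13404 = N12431 := ded_33_1 (flp_h L143371) L134174 (flp_h L134084) (flp_d L143292) L152316
theorem L152323 : sm gi N13404 = N13068 := ded_44_2 (flp_h L149271) (flp_i L139919) (flp_h L134073) L143289 L152316
theorem L152325 : sm gi N12424 = N13405 := rfl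
theorem L152327 : sm ga N13405 = N13405 := ded_16_1 (flp_i L152325) L143316 L152325
theorem L152328 : sm gc N13405 = N12746 := ded_29_1 (flp_i L146059) (flp_c L143317) L152325
theorem L152330 : sm gd N13405 = N12596 := ded_34_1 (flp_i L144861) (flp_d L143321) L152325
theorem L152332 : sm ge N13405 = N12425 := ded_38_1 (flp_i L143323) L143314 L152325
theorem L152334 : sm gg N13405 = N12430 := ded_43_1 (flp_i L143364) (flp_g L143319) L152325
theorem L152336 : sm gh N12425 = N13406 := rfl
theorem L152338 : sm ga N13406 = N13406 := ded_15_1 (flp_h L152336) L143325 L152336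
theorem L152339 : sm gc N13406 = N12747 := ded_28_1 (flp_h L146065) (flp_c L143326) L152336
theorem L152341 : sm gg N13406 = N12431 := ded_42_1 (flp_h L143371) (flp_g L143330) L152336
theorem L152343 : sm ga N12426 = N13407 := rfl
theorem L152345 : sm gd N13407 = N12432 := ded_11_2 (flp_a L143374) (flp_d L143334) L152343
theorem L152347 : sm gg N13407 = N12629 := ded_14_2 L145149 (flp_g L143336) L152343
theorem L152349 : sm gh N13407 = N13128 := ded_15_2 L149956 (flp_h L143338) L152343
theorem L152351 : sm gb N13407 = N13407 := ded_9_2 (flp_a L152343) (flp_b L143332) L134159 L143332 L152343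
theorem L152352 : sm ge N12426 = N13408 := rfl
theorem L152354 : sm gb N13408 = N12427 := ded_19_1 (flp_e L143340) L143332 L152352
theorem L152356 : sm gg N13408 = N12686 := ded_36_2 (flp_e L145595) (flp_g L143336) L152352
theorem L152358 : sm gh N13408 = N13287 := ded_37_2 (flp_e L151356) (flp_h L143338) L152352
theorem L152360 : sm gd N13408 = N13408 := ded_30_1 (flp_e L152352) L143334 L134178 (flp_d L143334) L152352
theorem L152361 : sm gi N12426 = N13409 := rfl
theorem L152363 : sm gb N13409 = N12428 := ded_23_1 (flp_i L143350) L143332 L152361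
theorem L152365 : sm gd N13409 = N12433 := ded_34_1 (flp_i L143384) (flp_d L143334) L152361
theorem L152367 : sm gg N13409 = N12687 := ded_43_1 (flp_i L145602) (flp_g L143336) L152361
theorem L152369 : sm gf N12427 = N13410 := rfl
theorem L152371 : sm ga N13410 = N13410 := ded_13_1 (flp_f L152369) L143342 L152369
theorem L152372 : sm gc N13410 = N12429 := ded_26_1 (flp_f L143359) (flp_c L143343) L152369
theorem L152374 : sm gd N13410 = N13410 := ded_31_1 (flp_f L152369) L143349 L152369
theorem L152375 : sm gh N13410 = N12623 := ded_40_2 L145090 (flp_h L143347) L152369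
theorem L152377 : sm ge N13410 = N12619 := ded_35_1 L149242 (flp_e L149235) L139911 L143340 L152369
theorem L152379 : sm gi N12427 = N13411 := rfl
theorem L152381 : sm ga N13411 = N13411 := ded_16_1 (flp_i L152379) L143342 L152379
theorem L152382 : sm gc N13411 = N12430 := ded_29_1 (flp_i L143364) (flp_c L143343) L152379
theorem L152384 : sm gd N13411 = N13411 := ded_34_1 (flp_i L152379) L143349 L152379
theorem L152385 : sm ge N13411 = N12428 := ded_38_1 (flp_i L143350) L143340 L152379
theorem L152387 : sm gg N13411 = N12746 := ded_43_1 (flp_i L146059) (flp_g L143345) L152379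
theorem L152389 : sm gh N12428 = N13412 := rfl
theorem L152391 : sm ga N13412 = N13412 := ded_15_1 (flp_h L152389) L143352 L152389
theorem L152392 : sm gc N13412 = N12431 := ded_28_1 (flp_h L143371) (flp_c L143353) L152389
theorem L152394 : sm gg N13412 = N12747 := ded_42_1 (flp_h L146065) (flp_g L143357) L152389
theorem L152396 : sm gi N13412 = N13406 := ded_44_2 (flp_h L152336) (flp_i L143323) (flp_h L134162) L143350 L152389
theorem L152398 : sm gg N12429 = N13413 := rfl
theorem L152400 : sm ga N13413 = N13413 := ded_14_1 (flp_g L152398) L143361 L152398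
theorem L152401 : sm gd N13413 = N12598 := ded_32_1 (flp_g L144880) (flp_d L143362) L152398
theorem L152403 : sm gi N12429 = N13414 := rfl
theorem L152405 : sm ga N13414 = N13414 := ded_16_1 (flp_i L152403) L143361 L152403
theorem L152406 : sm gd N13414 = N12599 := ded_34_1 (flp_i L144886) (flp_d L143362) L152403
theorem L152408 : sm gf N13414 = N12430 := ded_41_1 (flp_i L143364) L143359 L152403
theorem L152410 : sm gh N12430 = N13415 := rfl
theorem L152412 : sm ga N13415 = N13415 := ded_15_1 (flp_h L152410) L143366 L152410
theorem L152413 : sm ge N13415 = N12431 := ded_37_1 (flp_h L143371) (flp_e L143369) L152410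
theorem L152415 : sm gi N12432 = N13416 := rfl
theorem L152417 : sm ga N13416 = N12433 := ded_16_1 (flp_i L143384) L143374 L152415
theorem L152419 : sm gb N13416 = N13416 := ded_23_1 (flp_i L152415) L143383 L152415
theorem L152420 : sm gc N13416 = N12434 := ded_29_1 (flp_i L143393) (flp_c L143376) L152415
theorem L152422 : sm ge N13416 = N13416 := ded_38_1 (flp_i L152415) L143378 L152415
theorem L152423 : sm gg N13416 = N12630 := ded_43_1 (flp_i L145154) (flp_g L143379) L152415
theorem L152425 : sm gd N12435 = N13417 := rfl
theorem L152427 : sm ga N13417 = N12437 := ded_11_1 (flp_d L143424) (flp_a L143404) L152425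
theorem L152429 : sm gb N13417 = N13417 := ded_18_1 (flp_d L152425) L143406 L152425
theorem L152430 : sm gg N13417 = N12640 := ded_32_2 (flp_d L145229) (flp_g L143409) L152425
theorem L152432 : sm ge N13417 = N13162 := ded_30_2 (flp_d L150245) (flp_e L141068) (flp_d L134231) L143402 L152425
theorem L152434 : sm gf N12435 = N13418 := rfl
theorem L152436 : sm ga N13418 = N12438 := ded_13_1 (flp_f L143432) (flp_a L143404) L152434
theorem L152438 : sm gb N13418 = N13418 := ded_20_1 (flp_f L152434) L143406 L152434
theorem L152439 : sm gc N13418 = N12482 := ded_26_1 (flp_f L143824) (flp_c L143407) L152434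
theorem L152441 : sm gh N13418 = N13418 := ded_40_2 (flp_f L152434) L143411 L152434
theorem L152442 : sm ge N13418 = N13418 := ded_35_1 (flp_f L152434) (flp_e L143402) L134233 L143402 L152434
theorem L152443 : sm gi N12435 = N13419 := rfl
theorem L152445 : sm ga N13419 = N12439 := ded_16_1 (flp_i L143440) (flp_a L143404) L152443
theorem L152447 : sm gb N13419 = N13419 := ded_23_1 (flp_i L152443) L143406 L152443
theorem L152448 : sm gc N13419 = N12483 := ded_29_1 (flp_i L143832) (flp_c L143407) L152443
theorem L152450 : sm ge N13419 = N12436 := ded_38_1 (flp_i L143412) L143402 L152443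
theorem L152452 : sm gg N13419 = N12642 := ded_43_1 (flp_i L145246) (flp_g L143409) L152443
theorem L152454 : sm gh N12436 = N13420 := rfl
theorem L152456 : sm ga N13420 = N12440 := ded_15_1 (flp_h L143450) (flp_a L143414) L152454
theorem L152458 : sm gb N13420 = N13420 := ded_22_1 (flp_h L152454) L143416 L152454
theorem L152459 : sm gc N13420 = N12484 := ded_28_1 (flp_h L143842) (flp_c L143417) L152454
theorem L152461 : sm gf N13420 = N13420 := ded_40_1 (flp_h L152454) L143421 L152454
theorem L152462 : sm gg N13420 = N12643 := ded_42_1 (flp_h L145255) (flp_g L143422) L152454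
theorem L152464 : sm gi N13420 = N13420 := ded_44_2 (flp_h L152454) (flp_i L143412) L134236 L143412 L152454
theorem L152465 : sm gf N12437 = N13421 := rfl
theorem L152467 : sm gb N13421 = N12441 := ded_20_1 (flp_f L143460) (flp_b L143426) L152465
theorem L152469 : sm gd N13421 = N12438 := ded_31_1 (flp_f L143432) L143424 L152465
theorem L152471 : sm gh N12437 = N13422 := rfl
theorem L152473 : sm gb N13422 = N12442 := ded_22_1 (flp_h L143467) (flp_b L143426) L152471
theorem L152475 : sm ge N13422 = N13333 := ded_37_1 (flp_h L151688) (flp_e L143430) L152471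
theorem L152477 : sm gg N13422 = N12701 := ded_42_1 (flp_h L145684) (flp_g L143428) L152471
theorem L152479 : sm gd N13422 = N13422 := ded_33_1 (flp_h L152471) (flp_d L143424) L134246 L143424 L152471
theorem L152480 : sm gi N12437 = N13423 := rfl
theorem L152482 : sm gb N13423 = N12443 := ded_23_1 (flp_i L143475) (flp_b L143426) L152480
theorem L152484 : sm gd N13423 = N12439 := ded_34_1 (flp_i L143440) L143424 L152480
theorem L152486 : sm ge N13423 = N13334 := ded_38_1 (flp_i L151696) (flp_e L143430) L152480
theorem L152488 : sm gg N13423 = N12702 := ded_43_1 (flp_i L145691) (flp_g L143428) L152480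
theorem L152490 : sm gg N12438 = N13424 := rfl
theorem L152492 : sm gb N13424 = N12444 := ded_21_1 (flp_g L143484) (flp_b L143434) L152490
theorem L152494 : sm gc N13424 = N12485 := ded_27_1 (flp_g L143852) (flp_c L143436) L152490
theorem L152496 : sm ge N13424 = N13424 := ded_36_1 (flp_g L152490) L143439 L152490
theorem L152497 : sm gh N13424 = N13424 := ded_42_2 (flp_g L152490) L143438 L152490
theorem L152498 : sm gf N13424 = N12703 := ded_39_1 (flp_g L145699) (flp_f L136649) (flp_g L134244) L143432 L152490
theorem L152500 : sm gi N12438 = N13425 := rfl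
theorem L152502 : sm gb N13425 = N12445 := ded_23_1 (flp_i L143493) (flp_b L143434) L152500
theorem L152504 : sm gc N13425 = N12486 := ded_29_1 (flp_i L143860) (flp_c L143436) L152500
theorem L152506 : sm ge N13425 = N13425 := ded_38_1 (flp_i L152500) L143439 L152500
theorem L152507 : sm gf N13425 = N12439 := ded_41_1 (flp_i L143440) L143432 L152500
theorem L152509 : sm gh N12439 = N13426 := rfl
theorem L152511 : sm gb N13426 = N12446 := ded_22_1 (flp_h L143501) (flp_b L143442) L152509
theorem L152513 : sm gc N13426 = N12487 := ded_28_1 (flp_h L143867) (flp_c L143444) L152509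
theorem L152515 : sm ge N13426 = N12440 := ded_37_1 (flp_h L143450) (flp_e L143446) L152509
theorem L152517 : sm gg N13426 = N12705 := ded_42_1 (flp_h L145718) (flp_g L143448) L152509
theorem L152519 : sm gi N13426 = N13426 := ded_44_2 (flp_h L152509) (flp_i L143440) L134246 L143440 L152509
theorem L152520 : sm gd N12440 = N13427 := rfl
theorem L152522 : sm gb N13427 = N12447 := ded_18_1 (flp_d L143511) (flp_b L143452) L152520
theorem L152524 : sm gf N13427 = N13427 := ded_31_2 (flp_d L152520) L143456 L152520
theorem L152525 : sm gg N13427 = N12706 := ded_32_2 (flp_d L145727) (flp_g L143457) L152520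
theorem L152527 : sm gi N13427 = N13427 := ded_34_2 (flp_d L152520) L143459 L152520
theorem L152528 : sm gh N13427 = N13338 := ded_33_2 (flp_d L151738) (flp_h L142554) (flp_d L134253) L143450 L152520
theorem L152530 : sm ge N12441 = N13428 := rfl
theorem L152532 : sm ga N13428 = N13428 := ded_12_1 (flp_e L152530) L143462 L152530
theorem L152533 : sm gc N13428 = N12461 := ded_25_1 (flp_e L143654) (flp_c L143463) L152530
theorem L152535 : sm gd N13428 = N13428 := ded_30_1 (flp_e L152530) L143465 L134271 (flp_d L143465) L152530
theorem L152536 : sm gg N12441 = N13429 := rfl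
theorem L152538 : sm ga N13429 = N13429 := ded_14_1 (flp_g L152536) L143462 L152536
theorem L152539 : sm gc N13429 = N12462 := ded_27_1 (flp_g L143659) (flp_c L143463) L152536
theorem L152541 : sm gd N13429 = N12444 := ded_32_1 (flp_g L143484) (flp_d L143465) L152536
theorem L152543 : sm gf N13429 = N12749 := ded_39_1 (flp_g L146077) (flp_f L136942) (flp_g L134261) L143460 L152536
theorem L152545 : sm gh N13428 = N13429 := ded_28_0 L152539 (flp_h L143664) (flp_c L152533)
theorem L152547 : sm gh N12441 = N13430 := rfl
theorem L152549 : sm ga N13430 = N13430 := ded_15_1 (flp_h L152547) L143462 L152547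
theorem L152550 : sm gc N13430 = N12463 := ded_28_1 (flp_h L143666) (flp_c L143463) L152547
theorem L152552 : sm ge N13430 = N13429 := ded_37_1 (flp_h L152545) (flp_e L152530) L152547
theorem L152554 : sm gf N13430 = N12442 := ded_40_1 (flp_h L143467) L143460 L152547
theorem L152556 : sm gg N13430 = N13428 := ded_42_1 L152545 (flp_g L152536) L152547
theorem L152558 : sm gd N13430 = N13430 := ded_33_1 (flp_h L152547) L143465 L134270 (flp_d L143465) L152547
theorem L152559 : sm gi N12441 = N13431 := rfl
theorem L152561 : sm ga N13431 = N13431 := ded_16_1 (flp_i L152559) L143462 L152559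
theorem L152562 : sm gc N13431 = N12464 := ded_29_1 (flp_i L143677) (flp_c L143463) L152559
theorem L152564 : sm gd N13431 = N12445 := ded_34_1 (flp_i L143493) (flp_d L143465) L152559
theorem L152566 : sm gf N13431 = N12443 := ded_41_1 (flp_i L143475) L143460 L152559
theorem L152568 : sm gi N12442 = N13432 := rfl
theorem L152570 : sm ga N13432 = N13432 := ded_16_1 (flp_i L152568) L143469 L152568
theorem L152571 : sm gc N13432 = N12465 := ded_29_1 (flp_i L143684) (flp_c L143470) L152568
theorem L152573 : sm gd N13432 = N13432 := ded_34_1 (flp_i L152568) L143474 L152568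
theorem L152574 : sm gg N13432 = N12752 := ded_43_1 (flp_i L146095) (flp_g L143472) L152568
theorem L152576 : sm gh N12443 = N13433 := rfl
theorem L152578 : sm ga N13433 = N13433 := ded_15_1 (flp_h L152576) L143477 L152576
theorem L152579 : sm gc N13433 = N12466 := ded_28_1 (flp_h L143689) (flp_c L143478) L152576
theorem L152581 : sm gg N13433 = N12753 := ded_42_1 (flp_h L146101) (flp_g L143482) L152576
theorem L152583 : sm gi N12444 = N13434 := rfl
theorem L152585 : sm ga N13434 = N13434 := ded_16_1 (flp_i L152583) L143486 L152583
theorem L152586 : sm gc N13434 = N12448 := ded_29_1 (flp_i L143519) (flp_c L143487) L152583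
theorem L152588 : sm ge N13434 = N13434 := ded_38_1 (flp_i L152583) L143489 L152583
theorem L152589 : sm gf N13434 = N12754 := ded_41_1 (flp_i L146106) (flp_f L143491) L152583
theorem L152591 : sm gg N13434 = N12445 := ded_43_1 (flp_i L143493) L143484 L152583
theorem L152593 : sm gh N12445 = N13435 := rfl
theorem L152595 : sm ga N13435 = N13435 := ded_15_1 (flp_h L152593) L143495 L152593
theorem L152596 : sm gc N13435 = N12449 := ded_28_1 (flp_h L143531) (flp_c L143496) L152593
theorem L152598 : sm ge N13435 = N13435 := ded_37_1 (flp_h L152593) L143498 L152593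
theorem L152599 : sm gf N13435 = N12446 := ded_40_1 (flp_h L143501) (flp_f L143499) L152593
theorem L152601 : sm gi N13435 = N13435 := ded_44_2 (flp_h L152593) (flp_i L143493) L134270 L143493 L152593
theorem L152602 : sm gd N12446 = N13436 := rfl
theorem L152604 : sm ga N13436 = N13436 := ded_11_1 (flp_d L152602) L143503 L152602
theorem L152605 : sm gg N13436 = N12756 := ded_32_2 (flp_d L146125) (flp_g L143508) L152602
theorem L152607 : sm gi N13436 = N13436 := ded_34_2 (flp_d L152602) L143510 L152602
theorem L152608 : sm ge N12447 = N13437 := rfl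
theorem L152610 : sm ga N13437 = N13437 := ded_12_1 (flp_e L152608) L143513 L152608
theorem L152611 : sm gc N13437 = N13437 := ded_25_1 (flp_e L152608) L143518 L152608
theorem L152612 : sm gg N13437 = N12757 := ded_36_2 (flp_e L146129) (flp_g L143515) L152608
theorem L152614 : sm gi N13437 = N13437 := ded_38_2 (flp_e L152608) L143517 L152608
theorem L152615 : sm gh N12448 = N13438 := rfl
theorem L152617 : sm ga N13438 = N13438 := ded_15_1 (flp_h L152615) L143521 L152615
theorem L152618 : sm gb N13438 = N12491 := ded_22_1 (flp_h L143904) (flp_b L143522) L152615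
theorem L152620 : sm ge N13438 = N13438 := ded_37_1 (flp_h L152615) L143526 L152615
theorem L152621 : sm gf N13438 = N12758 := ded_40_1 (flp_h L146136) (flp_f L143527) L152615
theorem L152623 : sm gg N13438 = N12449 := ded_42_1 (flp_h L143531) (flp_g L143529) L152615
theorem L152625 : sm gi N13438 = N13438 := ded_44_2 (flp_h L152615) (flp_i L143519) L134298 L143519 L152615
theorem L152626 : sm gd N12449 = N13439 := rfl
theorem L152628 : sm ga N13439 = N13439 := ded_11_1 (flp_d L152626) L143533 L152626
theorem L152629 : sm gb N13439 = N12492 := ded_18_1 (flp_d L143914) (flp_b L143534) L152626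
theorem L152631 : sm gf N13439 = N12450 := ded_31_2 (flp_d L143540) (flp_f L143537) L152626
theorem L152633 : sm gi N13439 = N13439 := ded_34_2 (flp_d L152626) L143539 L152626
theorem L152634 : sm gh N13439 = N12472 := ded_33_2 (flp_d L143734) (flp_h L134449) (flp_d L134306) L143531 L152626
theorem L152636 : sm gc N12450 = N13440 := rfl
theorem L152638 : sm ga N13440 = N13440 := ded_10_1 (flp_c L152636) L143542 L152636
theorem L152639 : sm ge N13440 = N13440 := ded_25_2 (flp_c L152636) L143548 L152636
theorem L152640 : sm gg N13440 = N12760 := ded_27_2 (flp_c L146154) (flp_g L143545) L152636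
theorem L152642 : sm gh N13440 = N12473 := ded_28_2 (flp_c L143743) (flp_h L143549) L152636
theorem L152644 : sm gi N13440 = N13440 := ded_29_2 (flp_c L152636) L143547 L152636
theorem L152645 : sm ge N12451 = N13441 := rfl
theorem L152647 : sm ga N13441 = N13441 := ded_12_1 (flp_e L152645) L143553 L152645
theorem L152648 : sm gc N13441 = N12748 := ded_25_1 (flp_e L146070) (flp_c L143554) L152645
theorem L152650 : sm gd N13441 = N13441 := ded_30_1 (flp_e L152645) L143556 L134337 (flp_d L143556) L152645
theorem L152651 : sm gf N13441 = N13428 := ded_35_2 (flp_e L152530) (flp_f L143460) (flp_e L134328) L143551 L152645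
theorem L152653 : sm gh N12749 = N13441 := ded_40_0 L152651 L152545 L152543
theorem L152655 : sm gg N12750 = N13441 := ded_39_0 L152651 (flp_g L152556) L152554 L143472 (flp_f L146085)
theorem L152657 : sm gg N12451 = N13442 := rfl
theorem L152659 : sm ga N13442 = N13442 := ded_14_1 (flp_g L152657) L143553 L152657
theorem L152660 : sm gc N13442 = N12749 := ded_27_1 (flp_g L146077) (flp_c L143554) L152657
theorem L152662 : sm gd N13442 = N12454 := ded_32_1 (flp_g L143580) (flp_d L143556) L152657
theorem L152664 : sm ge N13442 = N12750 := ded_36_1 L152655 (flp_e L152645) L152657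
theorem L152666 : sm gf N13442 = N12462 := ded_39_1 (flp_g L143659) (flp_f L134390) (flp_g L134324) L143551 L152657
theorem L152668 : sm gh N12748 = N13442 := ded_28_0 L152660 L152653 L152648
theorem L152670 : sm gh N12451 = N13443 := rfl
theorem L152672 : sm ga N13443 = N13443 := ded_15_1 (flp_h L152670) L143553 L152670
theorem L152673 : sm gc N13443 = N12750 := ded_28_1 (flp_h L146082) (flp_c L143554) L152670
theorem L152675 : sm ge N13443 = N12749 := ded_37_1 L152653 (flp_e L152645) L152670
theorem L152677 : sm gf N13443 = N12452 := ded_40_1 (flp_h L143558) L143551 L152670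
theorem L152679 : sm gg N13443 = N12748 := ded_42_1 L152668 (flp_g L152657) L152670
theorem L152681 : sm gd N13443 = N12603 := ded_33_1 (flp_h L144922) L135917 (flp_h L134335) (flp_d L143556) L152670
theorem L152683 : sm gi N12451 = N13444 := rfl
theorem L152685 : sm ga N13444 = N13444 := ded_16_1 (flp_i L152683) L143553 L152683
theorem L152686 : sm gc N13444 = N12751 := ded_29_1 (flp_i L146088) (flp_c L143554) L152683
theorem L152688 : sm gd N13444 = N12455 := ded_34_1 (flp_i L143590) (flp_d L143556) L152683
theorem L152690 : sm gf N13444 = N12453 := ded_41_1 (flp_i L143569) L143551 L152683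
theorem L152692 : sm gi N12452 = N13445 := rfl
theorem L152694 : sm ga N13445 = N13445 := ded_16_1 (flp_i L152692) L143560 L152692
theorem L152695 : sm gc N13445 = N12752 := ded_29_1 (flp_i L146095) (flp_c L143561) L152692
theorem L152697 : sm gd N13445 = N12605 := ded_34_1 (flp_i L144940) (flp_d L143567) L152692
theorem L152699 : sm ge N13445 = N13432 := ded_38_1 (flp_i L152568) (flp_e L143563) L152692
theorem L152701 : sm gg N13445 = N12465 := ded_43_1 (flp_i L143684) (flp_g L143565) L152692
theorem L152703 : sm gh N12453 = N13446 := rfl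
theorem L152705 : sm ga N13446 = N13446 := ded_15_1 (flp_h L152703) L143571 L152703
theorem L152706 : sm gc N13446 = N12753 := ded_28_1 (flp_h L146101) (flp_c L143572) L152703
theorem L152708 : sm ge N13446 = N13433 := ded_37_1 (flp_h L152576) (flp_e L143576) L152703
theorem L152710 : sm gg N13446 = N12466 := ded_42_1 (flp_h L143689) (flp_g L143578) L152703
theorem L152712 : sm gi N12454 = N13447 := rfl
theorem L152714 : sm ga N13447 = N13447 := ded_16_1 (flp_i L152712) L143582 L152712
theorem L152715 : sm gc N13447 = N12458 := ded_29_1 (flp_i L143620) (flp_c L143583) L152712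
theorem L152717 : sm ge N13447 = N13447 := ded_38_1 (flp_i L152712) L143585 L152712
theorem L152718 : sm gf N13447 = N12467 := ded_41_1 (flp_i L143692) (flp_f L143588) L152712
theorem L152720 : sm gg N13447 = N12455 := ded_43_1 (flp_i L143590) L143580 L152712
theorem L152722 : sm gh N12455 = N13448 := rfl
theorem L152724 : sm ga N13448 = N13448 := ded_15_1 (flp_h L152722) L143592 L152722
theorem L152725 : sm gc N13448 = N12459 := ded_28_1 (flp_h L143632) (flp_c L143593) L152722
theorem L152727 : sm ge N13448 = N13448 := ded_37_1 (flp_h L152722) L143595 L152722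
theorem L152728 : sm gf N13448 = N12456 := ded_40_1 (flp_h L143598) (flp_f L143596) L152722
theorem L152730 : sm gi N13448 = N12608 := ded_44_2 (flp_h L144964) (flp_i L135943) (flp_h L134335) L143590 L152722
theorem L152732 : sm gd N12456 = N13449 := rfl
theorem L152734 : sm ga N13449 = N13449 := ded_11_1 (flp_d L152732) L143600 L152732
theorem L152735 : sm gg N13449 = N12469 := ded_32_2 (flp_d L143712) (flp_g L143605) L152732
theorem L152737 : sm gi N13449 = N12609 := ded_34_2 (flp_d L144972) (flp_i L143607) L152732
theorem L152739 : sm ge N12457 = N13450 := rfl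
theorem L152741 : sm ga N13450 = N13450 := ded_12_1 (flp_e L152739) L143611 L152739
theorem L152742 : sm gc N13450 = N13450 := ded_25_1 (flp_e L152739) L143617 L152739
theorem L152743 : sm gg N13450 = N12470 := ded_36_2 (flp_e L143717) (flp_g L143613) L152739
theorem L152745 : sm gh N13450 = N13437 := ded_37_2 (flp_e L152608) (flp_h L143618) L152739
theorem L152747 : sm gi N13450 = N12610 := ded_38_2 (flp_e L144977) (flp_i L143615) L152739
theorem L152749 : sm gh N12458 = N13451 := rfl
theorem L152751 : sm ga N13451 = N13451 := ded_15_1 (flp_h L152749) L143622 L152749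
theorem L152752 : sm gb N13451 = N12494 := ded_22_1 (flp_h L143933) (flp_b L143623) L152749
theorem L152754 : sm ge N13451 = N13451 := ded_37_1 (flp_h L152749) L143627 L152749
theorem L152755 : sm gf N13451 = N12471 := ded_40_1 (flp_h L143723) (flp_f L143628) L152749
theorem L152757 : sm gg N13451 = N12459 := ded_42_1 (flp_h L143632) (flp_g L143630) L152749
theorem L152759 : sm gi N13451 = N12611 := ded_44_2 (flp_h L144986) (flp_i L135968) (flp_h L134365) L143620 L152749
theorem L152761 : sm gd N12459 = N13452 := rfl
theorem L152763 : sm ga N13452 = N13452 := ded_11_1 (flp_d L152761) L143634 L152761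
theorem L152764 : sm gb N13452 = N12495 := ded_18_1 (flp_d L143944) (flp_b L143635) L152761
theorem L152766 : sm gf N13452 = N12460 := ded_31_2 (flp_d L143642) (flp_f L143638) L152761
theorem L152768 : sm gi N13452 = N12612 := ded_34_2 (flp_d L144996) (flp_i L143640) L152761
theorem L152770 : sm gh N13452 = N12759 := ded_33_2 (flp_d L146146) (flp_h L137003) (flp_d L134374) L143632 L152761
theorem L152772 : sm gc N12460 = N13453 := rfl
theorem L152774 : sm ga N13453 = N13453 := ded_10_1 (flp_c L152772) L143644 L152772
theorem L152775 : sm ge N13453 = N13453 := ded_25_2 (flp_c L152772) L143651 L152772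
theorem L152776 : sm gg N13453 = N12473 := ded_27_2 (flp_c L143743) (flp_g L143647) L152772
theorem L152778 : sm gh N13453 = N12760 := ded_28_2 (flp_c L146154) (flp_h L143652) L152772
theorem L152780 : sm gi N13453 = N12613 := ded_29_2 (flp_c L145004) (flp_i L143649) L152772
theorem L152782 : sm gi N12461 = N13454 := rfl
theorem L152784 : sm ga N13454 = N13454 := ded_16_1 (flp_i L152782) L143656 L152782
theorem L152785 : sm gd N13454 = N12474 := ded_34_1 (flp_i L143749) (flp_d L143657) L152782
theorem L152787 : sm ge N13454 = N12464 := ded_38_1 (flp_i L143677) L143654 L152782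
theorem L152789 : sm gi N12462 = N13455 := rfl
theorem L152791 : sm ga N13455 = N13455 := ded_16_1 (flp_i L152789) L143661 L152789
theorem L152792 : sm gd N13455 = N12467 := ded_34_1 (flp_i L143692) (flp_d L143662) L152789
theorem L152794 : sm gg N13455 = N12464 := ded_43_1 (flp_i L143677) L143659 L152789
theorem L152796 : sm gi N12463 = N13456 := rfl
theorem L152798 : sm ga N13456 = N13456 := ded_16_1 (flp_i L152796) L143668 L152796
theorem L152799 : sm gd N13456 = N12616 := ded_34_1 (flp_i L145032) (flp_d L143675) L152796
theorem L152801 : sm ge N13456 = N13455 := ded_38_1 (flp_i L152789) (flp_e L143669) L152796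
theorem L152803 : sm gf N13456 = N12465 := ded_41_1 (flp_i L143684) (flp_f L143671) L152796
theorem L152805 : sm gg N13456 = N13454 := ded_43_1 (flp_i L152782) (flp_g L143673) L152796
theorem L152807 : sm gh N12464 = N13457 := rfl
theorem L152809 : sm ga N13457 = N13457 := ded_15_1 (flp_h L152807) L143679 L152807
theorem L152810 : sm gf N13457 = N12466 := ded_40_1 (flp_h L143689) (flp_f L143682) L152807
theorem L152812 : sm gh N12465 = N13458 := rfl
theorem L152814 : sm ga N13458 = N13458 := ded_15_1 (flp_h L152812) L143686 L152812
theorem L152815 : sm gi N13458 = N12466 := ded_44_2 (flp_h L143689) (flp_i L134400) L134395 L143684 L152812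
theorem L152817 : sm gd N12466 = N13459 := rfl
theorem L152819 : sm ga N13459 = N13459 := ded_11_1 (flp_d L152817) L143691 L152817
theorem L152820 : sm gh N13459 = N12469 := ded_33_2 (flp_d L143712) (flp_h L134423) (flp_d L134403) L143689 L152817
theorem L152822 : sm gh N12467 = N13460 := rfl
theorem L152824 : sm ga N13460 = N13460 := ded_15_1 (flp_h L152822) L143694 L152822
theorem L152825 : sm gc N13460 = N12471 := ded_28_1 (flp_h L143723) (flp_c L143695) L152822
theorem L152827 : sm ge N13460 = N12480 := ded_37_1 (flp_h L143803) (flp_e L143697) L152822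
theorem L152829 : sm gg N13460 = N12468 := ded_42_1 (flp_h L143701) (flp_g L143699) L152822
theorem L152831 : sm gi N13460 = N12620 := ded_44_2 (flp_h L145060) (flp_i L136045) (flp_h L134412) L143692 L152822
theorem L152833 : sm gd N12468 = N13461 := rfl
theorem L152835 : sm ga N13461 = N13461 := ded_11_1 (flp_d L152833) L143703 L152833
theorem L152836 : sm gf N13461 = N12469 := ded_31_2 (flp_d L143712) (flp_f L143708) L152833
theorem L152838 : sm gi N13461 = N12621 := ded_34_2 (flp_d L145069) (flp_i L143710) L152833
theorem L152840 : sm gc N13461 = N13403 := ded_24_1 L152312 L144848 (flp_d L143734) (flp_c L143704) L152833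
theorem L152842 : sm ge N13461 = N13402 := ded_30_2 L152305 L143822 (flp_d L143813) (flp_e L143706) L152833
theorem L152844 : sm gc N12469 = N13462 := rfl
theorem L152846 : sm ga N13462 = N13462 := ded_10_1 (flp_c L152844) L143714 L152844
theorem L152847 : sm gf N13462 = N13403 := ded_26_2 (flp_c L152840) L152836 L152844
theorem L152849 : sm gi N13462 = N12622 := ded_29_2 (flp_c L145078) (flp_i L143715) L152844
theorem L152851 : sm gd N13462 = N12473 := ded_24_2 (flp_c L143743) (flp_d L134460) (flp_c L134426) L143712 L152844
theorem L152853 : sm ge N12469 = N13463 := rfl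
theorem L152855 : sm ga N13463 = N13463 := ded_12_1 (flp_e L152853) L143714 L152853
theorem L152856 : sm gi N13463 = N12623 := ded_38_2 (flp_e L145085) (flp_i L143715) L152853
theorem L152858 : sm gd N13463 = N12470 := ded_30_1 (flp_e L143717) (flp_d L134432) (flp_e L134428) L143712 L152853
theorem L152860 : sm gf N13463 = N13405 := ded_35_2 L152332 (flp_f L152307) (flp_e L152842) L152836 L152853
theorem L152862 : sm gb N12473 = N13464 := rfl
theorem L152864 : sm ge N13464 = N13464 := ded_19_2 (flp_b L152862) L143746 L152862
theorem L152865 : sm gi N13464 = N12624 := ded_23_2 (flp_b L145092) (flp_i L143747) L152862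
theorem L152867 : sm gc N13464 = N12497 := ded_17_2 (flp_b L143965) (flp_c L134715) (flp_b L134463) L143743 L152862
theorem L152869 : sm gh N12474 = N13465 := rfl
theorem L152871 : sm ga N13465 = N13465 := ded_15_1 (flp_h L152869) L143751 L152869
theorem L152872 : sm gc N13465 = N13465 := ded_28_1 (flp_h L152869) L143752 L152869
theorem L152873 : sm ge N13465 = N12477 := ded_37_1 (flp_h L143772) (flp_e L143753) L152869
theorem L152875 : sm gh N12475 = N13466 := rfl
theorem L152877 : sm ga N13466 = N13466 := ded_15_1 (flp_h L152875) L143757 L152875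
theorem L152878 : sm gc N13466 = N13466 := ded_28_1 (flp_h L152875) L143758 L152875
theorem L152879 : sm gf N13466 = N13466 := ded_40_1 (flp_h L152875) L143761 L152875
theorem L152880 : sm gg N13466 = N12477 := ded_42_1 (flp_h L143772) (flp_g L143762) L152875
theorem L152882 : sm gi N13466 = N13077 := ded_44_2 L149385 (flp_i L145011) (flp_h L136005) L143755 L152875
theorem L152884 : sm gd N13078 = N13466 := ded_34_3 L152882 (flp_d L149378) L149387
theorem L152886 : sm gh N12476 = N13467 := rfl
theorem L152888 : sm ga N13467 = N13467 := ded_15_1 (flp_h L152886) L143766 L152886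
theorem L152889 : sm gb N13467 = N13103 := ded_22_1 L151896 L151890 L152886
theorem L152891 : sm gc N13467 = N13467 := ded_28_1 (flp_h L152886) L143767 L152886
theorem L152892 : sm gf N13467 = N12478 := ded_40_1 (flp_h L143778) (flp_f L143770) L152886
theorem L152894 : sm gg N13467 = N13077 := ded_42_1 L149385 L145020 L152886
theorem L152896 : sm gd N13467 = N13071 := ded_33_1 L149315 L145127 (flp_h L145112) (flp_d L143768) L152886
theorem L152898 : sm gi N13467 = N12477 := ded_44_2 (flp_h L143772) (flp_i L134487) L134479 L143764 L152886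
theorem L152900 : sm gd N12477 = N13468 := rfl
theorem L152902 : sm ga N13468 = N13468 := ded_11_1 (flp_d L152900) L143774 L152900
theorem L152903 : sm gb N13468 = N13104 := ded_18_1 L151908 L151902 L152900
theorem L152905 : sm gf N13468 = N12479 := ded_31_2 (flp_d L143789) (flp_f L143776) L152900
theorem L152907 : sm gg N13468 = N13078 := ded_32_2 L152884 L152880 L152900
theorem L152909 : sm gi N13468 = N13071 := ded_34_2 (flp_d L152896) L152898 L152900
theorem L152911 : sm gh N13468 = N12481 := ded_33_2 (flp_d L143813) (flp_h L134515) (flp_d L134491) L143772 L152900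
theorem L152913 : sm gc N13073 = N13468 := ded_17_0 L152903 L149714 L140603 (flp_c L140121) (flp_b L149333)
theorem L152915 : sm ge N13072 = N13468 := ded_35_5 L152905 (flp_e L143799) L140219 (flp_e L143267) (flp_f L149324)
theorem L152917 : sm gd N12480 = N13469 := rfl
theorem L152919 : sm ga N13469 = N13469 := ded_11_1 (flp_d L152917) L143805 L152917
theorem L152920 : sm gf N13469 = N13469 := ded_31_2 (flp_d L152917) L143808 L152917
theorem L152921 : sm gg N13469 = N12481 := ded_32_2 (flp_d L143813) (flp_g L143809) L152917
theorem L152923 : sm gi N13469 = N12627 := ded_34_2 (flp_d L145129) (flp_i L143811) L152917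
theorem L152925 : sm gc N13469 = N13069 := ded_24_1 L149283 L140192 L137232 (flp_c L143806) L152917
theorem L152927 : sm gh N13469 = N13078 := ded_33_2 L152884 (flp_h L152875) L143759 L143803 L152917
theorem L152929 : sm ge N13059 = N13469 := ded_36_3 L152921 (flp_e L143822) (flp_g L149201)
theorem L152931 : sm gg N12482 = N13470 := rfl
theorem L152933 : sm ga N13470 = N12485 := ded_14_1 (flp_g L143852) (flp_a L143826) L152931
theorem L152935 : sm gb N13470 = N12498 := ded_21_1 (flp_g L143970) (flp_b L143828) L152931
theorem L152937 : sm ge N13470 = N13470 := ded_36_1 (flp_g L152931) L143831 L152931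
theorem L152938 : sm gh N13470 = N13470 := ded_42_2 (flp_g L152931) L143830 L152931
theorem L152939 : sm gf N13470 = N12644 := ded_39_1 (flp_g L145265) (flp_f L136288) (flp_g L134571) L143824 L152931
theorem L152941 : sm gi N12482 = N13471 := rfl
theorem L152943 : sm ga N13471 = N12486 := ded_16_1 (flp_i L143860) (flp_a L143826) L152941
theorem L152945 : sm gb N13471 = N12499 := ded_23_1 (flp_i L143979) (flp_b L143828) L152941
theorem L152947 : sm ge N13471 = N13471 := ded_38_1 (flp_i L152941) L143831 L152941
theorem L152948 : sm gf N13471 = N12483 := ded_41_1 (flp_i L143832) L143824 L152941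
theorem L152950 : sm gh N12483 = N13472 := rfl
theorem L152952 : sm ga N13472 = N12487 := ded_15_1 (flp_h L143867) (flp_a L143834) L152950
theorem L152954 : sm gb N13472 = N12500 := ded_22_1 (flp_h L143987) (flp_b L143836) L152950
theorem L152956 : sm ge N13472 = N12484 := ded_37_1 (flp_h L143842) (flp_e L143838) L152950
theorem L152958 : sm gg N13472 = N12646 := ded_42_1 (flp_h L145284) (flp_g L143840) L152950
theorem L152960 : sm gi N13472 = N13472 := ded_44_2 (flp_h L152950) (flp_i L143832) L134573 L143832 L152950
theorem L152961 : sm gi N12485 = N13473 := rfl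
theorem L152963 : sm gb N13473 = N12488 := ded_23_1 (flp_i L143876) (flp_b L143854) L152961
theorem L152965 : sm ge N13473 = N13473 := ded_38_1 (flp_i L152961) L143856 L152961
theorem L152966 : sm gf N13473 = N12707 := ded_41_1 (flp_i L145736) (flp_f L143858) L152961
theorem L152968 : sm gg N13473 = N12486 := ded_43_1 (flp_i L143860) L143852 L152961
theorem L152970 : sm gh N12486 = N13474 := rfl
theorem L152972 : sm gb N13474 = N12489 := ded_22_1 (flp_h L143887) (flp_b L143862) L152970
theorem L152974 : sm ge N13474 = N13474 := ded_37_1 (flp_h L152970) L143864 L152970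
theorem L152975 : sm gf N13474 = N12487 := ded_40_1 (flp_h L143867) (flp_f L143865) L152970
theorem L152977 : sm gi N13474 = N13474 := ded_44_2 (flp_h L152970) (flp_i L143860) L134589 L143860 L152970
theorem L152978 : sm gd N12487 = N13475 := rfl
theorem L152980 : sm gb N13475 = N12490 := ded_18_1 (flp_d L143897) (flp_b L143869) L152978
theorem L152982 : sm gg N13475 = N12709 := ded_32_2 (flp_d L145753) (flp_g L143873) L152978
theorem L152984 : sm gi N13475 = N13475 := ded_34_2 (flp_d L152978) L143875 L152978
theorem L152985 : sm gh N12488 = N13476 := rfl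
theorem L152987 : sm ga N13476 = N12504 := ded_15_1 (flp_h L144023) (flp_a L143878) L152985
theorem L152989 : sm gc N13476 = N12491 := ded_28_1 (flp_h L143904) (flp_c L143880) L152985
theorem L152991 : sm ge N13476 = N13476 := ded_37_1 (flp_h L152985) L143882 L152985
theorem L152992 : sm gf N13476 = N12728 := ded_40_1 (flp_h L145925) (flp_f L143883) L152985
theorem L152994 : sm gg N13476 = N12489 := ded_42_1 (flp_h L143887) (flp_g L143885) L152985
theorem L152996 : sm gi N13476 = N13476 := ded_44_2 (flp_h L152985) (flp_i L143876) L134614 L143876 L152985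
theorem L152997 : sm gd N12489 = N13477 := rfl
theorem L152999 : sm ga N13477 = N12505 := ded_11_1 (flp_d L144033) (flp_a L143889) L152997
theorem L153001 : sm gf N13477 = N12490 := ded_31_2 (flp_d L143897) (flp_f L143894) L152997
theorem L153003 : sm gi N13477 = N13477 := ded_34_2 (flp_d L152997) L143896 L152997
theorem L153004 : sm gc N12490 = N13478 := rfl
theorem L153006 : sm ga N13478 = N12506 := ded_10_1 (flp_c L144038) (flp_a L143899) L153004
theorem L153008 : sm gg N13478 = N12730 := ded_27_2 (flp_c L145943) (flp_g L143901) L153004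
theorem L153010 : sm gi N13478 = N13478 := ded_29_2 (flp_c L153004) L143903 L153004
theorem L153011 : sm gd N13478 = N12493 := ded_24_2 (flp_c L143923) (flp_d L134656) (flp_c L134630) L143897 L153004
theorem L153013 : sm gb N12493 = N13479 := rfl
theorem L153015 : sm ge N13479 = N13479 := ded_19_2 (flp_b L153013) L143927 L153013
theorem L153016 : sm gg N13479 = N12778 := ded_21_2 (flp_b L146316) (flp_g L143928) L153013
theorem L153018 : sm gh N13479 = N12497 := ded_22_2 (flp_b L143965) (flp_h L143930) L153013
theorem L153020 : sm gi N13479 = N13479 := ded_23_2 (flp_b L153013) L143932 L153013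
theorem L153021 : sm gb N12496 = N13480 := rfl
theorem L153023 : sm ge N13480 = N13480 := ded_19_2 (flp_b L153021) L143958 L153021
theorem L153024 : sm gg N13480 = N12497 := ded_21_2 (flp_b L143965) (flp_g L143959) L153021
theorem L153026 : sm gh N13480 = N12778 := ded_22_2 (flp_b L146316) (flp_h L143961) L153021
theorem L153028 : sm gi N13480 = N12628 := ded_23_2 (flp_b L145141) (flp_i L143963) L153021
theorem L153030 : sm gi N12498 = N13481 := rfl
theorem L153032 : sm ga N13481 = N12501 := ded_16_1 (flp_i L143997) (flp_a L143972) L153030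
theorem L153034 : sm gc N13481 = N13481 := ded_29_1 (flp_i L153030) L143974 L153030
theorem L153035 : sm ge N13481 = N13481 := ded_38_1 (flp_i L153030) L143975 L153030
theorem L153036 : sm gf N13481 = N12667 := ded_41_1 (flp_i L145464) (flp_f L143977) L153030
theorem L153038 : sm gg N13481 = N12499 := ded_43_1 (flp_i L143979) L143970 L153030
theorem L153040 : sm gh N12499 = N13482 := rfl
theorem L153042 : sm ga N13482 = N12502 := ded_15_1 (flp_h L144007) (flp_a L143981) L153040
theorem L153044 : sm gc N13482 = N13482 := ded_28_1 (flp_h L153040) L143983 L153040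
theorem L153045 : sm ge N13482 = N13482 := ded_37_1 (flp_h L153040) L143984 L153040
theorem L153046 : sm gf N13482 = N12500 := ded_40_1 (flp_h L143987) (flp_f L143985) L153040
theorem L153048 : sm gi N13482 = N13482 := ded_44_2 (flp_h L153040) (flp_i L143979) L134738 L143979 L153040
theorem L153049 : sm gd N12500 = N13483 := rfl
theorem L153051 : sm ga N13483 = N12503 := ded_11_1 (flp_d L144016) (flp_a L143989) L153049
theorem L153053 : sm gg N13483 = N12669 := ded_32_2 (flp_d L145483) (flp_g L143994) L153049
theorem L153055 : sm gi N13483 = N13483 := ded_34_2 (flp_d L153049) L143996 L153049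
theorem L153056 : sm gh N12501 = N13484 := rfl
theorem L153058 : sm gb N13484 = N12504 := ded_22_1 (flp_h L144023) (flp_b L143999) L153056
theorem L153060 : sm gc N13484 = N13484 := ded_28_1 (flp_h L153056) L144001 L153056
theorem L153061 : sm ge N13484 = N13484 := ded_37_1 (flp_h L153056) L144002 L153056
theorem L153062 : sm gf N13484 = N12681 := ded_40_1 (flp_h L145564) (flp_f L144003) L153056
theorem L153064 : sm gg N13484 = N12502 := ded_42_1 (flp_h L144007) (flp_g L144005) L153056
theorem L153066 : sm gi N13484 = N13484 := ded_44_2 (flp_h L153056) (flp_i L143997) L134764 L143997 L153056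
theorem L153067 : sm gd N12502 = N13485 := rfl
theorem L153069 : sm gb N13485 = N12505 := ded_18_1 (flp_d L144033) (flp_b L144009) L153067
theorem L153071 : sm gf N13485 = N12503 := ded_31_2 (flp_d L144016) (flp_f L144013) L153067
theorem L153073 : sm gi N13485 = N13485 := ded_34_2 (flp_d L153067) L144015 L153067
theorem L153074 : sm gc N12503 = N13486 := rfl
theorem L153076 : sm ge N13486 = N12505 := ded_25_2 (flp_c L147761) L147763 L153074
theorem L153078 : sm gg N13486 = N12683 := ded_27_2 (flp_c L145581) (flp_g L144020) L153074
theorem L153080 : sm gi N13486 = N13486 := ded_29_2 (flp_c L153074) L144022 L153074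
theorem L153081 : sm gd N13486 = N13486 := ded_24_2 (flp_c L153074) (flp_d L144016) L134779 L144016 L153074
theorem L153082 : sm ge N12507 = N13487 := rfl
theorem L153084 : sm ga N13487 = N12543 := ded_12_1 (flp_e L144421) (flp_a L144047) L153082
theorem L153086 : sm gb N13487 = N12625 := ded_19_1 (flp_e L145119) L145115 L153082
theorem L153088 : sm gc N13487 = N13487 := ded_25_1 (flp_e L153082) L144049 L153082
theorem L153089 : sm gg N13487 = N12585 := ded_36_2 (flp_e L149405) L149402 L153082
theorem L153091 : sm gh N13487 = N12583 := ded_37_2 (flp_e L144737) (flp_h L144743) L153082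
theorem L153093 : sm gi N13487 = N13079 := ded_38_2 L149405 L144754 L153082
theorem L153095 : sm gd N13487 = N12920 := ded_30_1 (flp_e L147869) (flp_d L140019) (flp_e L140029) (flp_d L144050) L153082
theorem L153097 : sm gf N13487 = N13487 := ded_35_2 (flp_e L153082) (flp_f L144045) L134876 L144045 L153082
theorem L153098 : sm ge N12508 = N13488 := rfl
theorem L153100 : sm ga N13488 = N12551 := ded_12_1 (flp_e L144494) (flp_a L144054) L153098
theorem L153102 : sm gb N13488 = N13488 := ded_19_1 (flp_e L153098) L144056 L153098
theorem L153103 : sm gc N13488 = N12578 := ded_25_1 (flp_e L144689) (flp_c L144061) L153098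
theorem L153105 : sm gg N13488 = N12510 := ded_36_2 (flp_e L144076) (flp_g L144059) L153098
theorem L153107 : sm gh N13488 = N13488 := ded_37_2 (flp_e L153098) L144063 L153098
theorem L153108 : sm ge N12509 = N13489 := rfl
theorem L153110 : sm ga N13489 = N12553 := ded_12_1 (flp_e L144511) (flp_a L144066) L153108
theorem L153112 : sm gb N13489 = N12610 := ded_19_1 (flp_e L144977) L144074 L153108
theorem L153114 : sm gc N13489 = N12510 := ded_25_1 (flp_e L144076) L144064 L153108
theorem L153116 : sm gg N13489 = N12578 := ded_36_2 (flp_e L144689) (flp_g L144069) L153108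
theorem L153118 : sm gh N13489 = N13489 := ded_37_2 (flp_e L153108) L144071 L153108
theorem L153119 : sm gf N12510 = N13490 := rfl
theorem L153121 : sm ga N13490 = N12555 := ded_13_1 (flp_f L144525) (flp_a L144078) L153119
theorem L153123 : sm gb N13490 = N13490 := ded_20_1 (flp_f L153119) L144080 L153119
theorem L153124 : sm gh N13490 = N13490 := ded_40_2 (flp_f L153119) L144081 L153119
theorem L153125 : sm ge N13490 = N13490 := ded_35_1 (flp_f L153119) (flp_e L144076) L134938 L144076 L153119
theorem L153126 : sm gi N12510 = N13491 := rfl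
theorem L153128 : sm ga N13491 = N12556 := ded_16_1 (flp_i L144531) (flp_a L144078) L153126
theorem L153130 : sm gb N13491 = N13491 := ded_23_1 (flp_i L153126) L144080 L153126
theorem L153131 : sm ge N13491 = N12511 := ded_38_1 (flp_i L144082) L144076 L153126
theorem L153133 : sm gh N12511 = N13492 := rfl
theorem L153135 : sm ga N13492 = N12557 := ded_15_1 (flp_h L144537) (flp_a L144084) L153133
theorem L153137 : sm gb N13492 = N13492 := ded_22_1 (flp_h L153133) L144086 L153133
theorem L153138 : sm gc N13492 = N13427 := ded_28_1 L152528 L151749 L153133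
theorem L153140 : sm gf N13492 = N13492 := ded_40_1 (flp_h L153133) L144089 L153133
theorem L153141 : sm gg N13492 = N12971 := ded_42_1 (flp_h L151177) L151171 L153133
theorem L153143 : sm gd N13492 = N12961 := ded_33_1 (flp_h L148204) (flp_d L141988) L141993 (flp_d L144087) L153133
theorem L153145 : sm gi N13492 = N13492 := ded_44_2 (flp_h L153133) (flp_i L144082) L134939 L144082 L153133
theorem L153146 : sm gd N12512 = N13493 := rfl
theorem L153148 : sm ga N13493 = N12558 := ded_11_1 (flp_d L144543) (flp_a L144092) L153146
theorem L153150 : sm gb N13493 = N12609 := ded_18_1 (flp_d L144972) (flp_b L144094) L153146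
theorem L153152 : sm gg N13493 = N12577 := ded_32_2 (flp_d L144685) (flp_g L144098) L153146
theorem L153154 : sm gf N12512 = N13494 := rfl
theorem L153156 : sm ga N13494 = N12559 := ded_13_1 (flp_f L144546) (flp_a L144092) L153154
theorem L153158 : sm gb N13494 = N12608 := ded_20_1 L144970 (flp_b L144094) L153154
theorem L153160 : sm gc N13494 = N12513 := ded_26_1 (flp_f L144102) (flp_c L144096) L153154
theorem L153162 : sm gh N13494 = N12515 := ded_40_2 (flp_f L144124) (flp_h L144100) L153154
theorem L153164 : sm ge N13494 = N13494 := ded_35_1 (flp_f L153154) (flp_e L144090) L134952 L144090 L153154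
theorem L153165 : sm gg N12513 = N13495 := rfl
theorem L153167 : sm ga N13495 = N12561 := ded_14_1 (flp_g L144561) (flp_a L144104) L153165
theorem L153169 : sm gb N13495 = N12537 := ded_21_1 (flp_g L144352) (flp_b L144106) L153165
theorem L153171 : sm ge N13495 = N13495 := ded_36_1 (flp_g L153165) L144110 L153165
theorem L153172 : sm gh N13495 = N12516 := ded_42_2 (flp_g L144135) (flp_h L144108) L153165
theorem L153174 : sm gf N13495 = N12579 := ded_39_1 L144702 L135578 (flp_g L134965) L144102 L153165
theorem L153176 : sm gf N12514 = N13496 := rfl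
theorem L153178 : sm ga N13496 = N12563 := ded_13_1 (flp_f L144575) (flp_a L144113) L153176
theorem L153180 : sm gb N13496 = N12604 := ded_20_1 L144938 (flp_b L144115) L153176
theorem L153182 : sm gc N13496 = N12520 := ded_26_1 (flp_f L144183) (flp_c L144121) L153176
theorem L153184 : sm gd N13496 = N12515 := ded_31_1 (flp_f L144124) L144111 L153176
theorem L153186 : sm gi N13496 = N12566 := ded_41_2 (flp_f L144594) (flp_i L144119) L153176
theorem L153188 : sm gh N12514 = N13497 := rfl
theorem L153190 : sm ga N13497 = N12564 := ded_15_1 (flp_h L144582) (flp_a L144113) L153188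
theorem L153192 : sm gb N13497 = N12606 := ded_22_1 (flp_h L144947) (flp_b L144115) L153188
theorem L153194 : sm gc N13497 = N12521 := ded_28_1 (flp_h L144190) (flp_c L144121) L153188
theorem L153196 : sm ge N13497 = N13497 := ded_37_1 (flp_h L153188) L144123 L153188
theorem L153197 : sm gg N13497 = N12574 := ded_42_1 (flp_h L144660) (flp_g L144117) L153188
theorem L153199 : sm gg N12515 = N13498 := rfl
theorem L153201 : sm ga N13498 = N12565 := ded_14_1 (flp_g L144588) (flp_a L144126) L153199
theorem L153203 : sm gb N13498 = N12607 := ded_21_1 L144962 (flp_b L144128) L153199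
theorem L153205 : sm gc N13498 = N12516 := ded_27_1 (flp_g L144135) (flp_c L144130) L153199
theorem L153207 : sm ge N13498 = N13498 := ded_36_1 (flp_g L153199) L144134 L153199
theorem L153208 : sm gi N13498 = N12568 := ded_43_2 (flp_g L144607) (flp_i L144132) L153199
theorem L153210 : sm gf N13498 = N12575 := ded_39_1 L144673 L135547 (flp_g L134977) L144124 L153199
theorem L153212 : sm gf N12517 = N13499 := rfl
theorem L153214 : sm ga N13499 = N12566 := ded_13_1 (flp_f L144594) (flp_a L144150) L153212
theorem L153216 : sm gb N13499 = N13499 := ded_20_1 (flp_f L153212) L144152 L153212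
theorem L153217 : sm gc N13499 = N12572 := ded_26_1 L144653 (flp_c L144157) L153212
theorem L153219 : sm gd N13499 = N12518 := ded_31_1 (flp_f L144160) L144148 L153212
theorem L153221 : sm gi N13499 = N12563 := ded_41_2 (flp_f L144575) (flp_i L144155) L153212
theorem L153223 : sm gh N12517 = N13500 := rfl
theorem L153225 : sm ga N13500 = N12567 := ded_15_1 (flp_h L144600) (flp_a L144150) L153223
theorem L153227 : sm gb N13500 = N13500 := ded_22_1 (flp_h L153223) L144152 L153223
theorem L153228 : sm gc N13500 = N12574 := ded_28_1 (flp_h L144660) (flp_c L144157) L153223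
theorem L153230 : sm ge N13500 = N13500 := ded_37_1 (flp_h L153223) L144159 L153223
theorem L153231 : sm gg N13500 = N12521 := ded_42_1 (flp_h L144190) (flp_g L144153) L153223
theorem L153233 : sm gg N12518 = N13501 := rfl
theorem L153235 : sm ga N13501 = N12568 := ded_14_1 (flp_g L144607) (flp_a L144162) L153233
theorem L153237 : sm gb N13501 = N13501 := ded_21_1 (flp_g L153233) L144164 L153233
theorem L153238 : sm gc N13501 = N12519 := ded_27_1 (flp_g L144170) (flp_c L144165) L153233
theorem L153240 : sm ge N13501 = N13501 := ded_36_1 (flp_g L153233) L144169 L153233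
theorem L153241 : sm gi N13501 = N12565 := ded_43_2 (flp_g L144588) (flp_i L144167) L153233
theorem L153243 : sm gf N13501 = N12523 := ded_39_1 (flp_g L144208) (flp_f L135020) (flp_g L134999) L144160 L153233
theorem L153245 : sm ge N12520 = N13502 := rfl
theorem L153247 : sm ga N13502 = N12569 := ded_12_1 (flp_e L144616) (flp_a L144185) L153245
theorem L153249 : sm gb N13502 = N13502 := ded_19_1 (flp_e L153245) L144187 L153245
theorem L153250 : sm gd N13502 = N12529 := ded_30_1 (flp_e L144275) L135087 (flp_e L135027) (flp_d L144188) L153245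
theorem L153252 : sm gf N13502 = N13502 := ded_35_2 (flp_e L153245) (flp_f L144183) L135019 L144183 L153245
theorem L153253 : sm gh N13178 = N13502 := ded_46_0 L153252 (flp_e L153245) L144188 L135025 L126869 L72211 (flp_h L67108) (flp_f L67103) (flp_e L49050) (flp_d L35942) L26334 L19378 (flp_a L17850) (flp_h L17848) (flp_f L13152) (flp_e L10459) (flp_d L10450) L7700 L5720 L4502 (flp_h L6080) L8209 L8216 L8212 (flp_c L11138) (flp_b L15109) (flp_a L20531) L20534 (flp_f L15148) (flp_e L11153) L8219 (flp_c L10431) L10439 (flp_a L10219) (flp_h L10199) L10197 L13808 L18745 L25452 L25457 (flp_a L34631) L47192 (flp_f L64451) (flp_e L121766) L121771 (flp_c L127477) (flp_b L135690) (flp_a L144336) (flp_h L144334) L135148 (flp_e L144259) L144257 (flp_c L144611) L144609 L135937 (flp_h L143586) L143588 L134410 (flp_d L134476) L134475 (flp_b L142681) (flp_a L150407)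
theorem L153255 : sm gg N13179 = N13502 := ded_14_0 L153247 (flp_g L144623) (flp_a L150415)
theorem L153257 : sm gg N12520 = N13503 := rfl
theorem L153259 : sm ga N13503 = N12570 := ded_14_1 (flp_g L144627) (flp_a L144185) L153257
theorem L153261 : sm gb N13503 = N13503 := ded_21_1 (flp_g L153257) L144187 L153257
theorem L153262 : sm gd N13503 = N12523 := ded_32_1 (flp_g L144208) (flp_d L144188) L153257
theorem L153264 : sm ge N13503 = N13179 := ded_36_1 L153255 (flp_e L153245) L153257
theorem L153266 : sm gh N13177 = N13503 := ded_15_0 L153259 (flp_h L144635) (flp_a L150402)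
theorem L153268 : sm gh N12520 = N13504 := rfl
theorem L153270 : sm ga N13504 = N12571 := ded_15_1 (flp_h L144637) (flp_a L144185) L153268
theorem L153272 : sm gb N13504 = N13504 := ded_22_1 (flp_h L153268) L144187 L153268
theorem L153273 : sm ge N13504 = N13178 := ded_37_1 L153253 (flp_e L153245) L153268
theorem L153275 : sm gf N13504 = N12521 := ded_40_1 (flp_h L144190) L144183 L153268
theorem L153277 : sm gg N13504 = N13177 := ded_42_1 L153266 (flp_g L153257) L153268
theorem L153279 : sm gi N12520 = N13505 := rfl
theorem L153281 : sm ga N13505 = N12572 := ded_16_1 (flp_i L144647) (flp_a L144185) L153279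
theorem L153283 : sm gb N13505 = N13505 := ded_23_1 (flp_i L153279) L144187 L153279
theorem L153284 : sm gc N13505 = N12566 := ded_29_1 (flp_i L153186) L153182 L153279
theorem L153286 : sm gd N13505 = N12524 := ded_34_1 (flp_i L144217) (flp_d L144188) L153279
theorem L153288 : sm gf N13505 = N12522 := ded_41_1 (flp_i L144196) L144183 L153279
theorem L153290 : sm gi N12521 = N13506 := rfl
theorem L153292 : sm ga N13506 = N12573 := ded_16_1 (flp_i L144655) (flp_a L144192) L153290
theorem L153294 : sm gb N13506 = N13506 := ded_23_1 (flp_i L153290) L144194 L153290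
theorem L153295 : sm ge N13506 = N13506 := ded_38_1 (flp_i L153290) L144195 L153290
theorem L153296 : sm gh N12522 = N13507 := rfl
theorem L153298 : sm ga N13507 = N12574 := ded_15_1 (flp_h L144660) (flp_a L144198) L153296
theorem L153300 : sm gb N13507 = N13507 := ded_22_1 (flp_h L153296) L144200 L153296
theorem L153301 : sm gc N13507 = N12567 := ded_28_1 (flp_h L144600) (flp_c L144201) L153296
theorem L153303 : sm ge N13507 = N13507 := ded_37_1 (flp_h L153296) L144205 L153296
theorem L153304 : sm gg N13507 = N12564 := ded_42_1 (flp_h L144582) (flp_g L144206) L153296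
theorem L153306 : sm gi N12523 = N13508 := rfl
theorem L153308 : sm ga N13508 = N12575 := ded_16_1 (flp_i L144665) (flp_a L144210) L153306
theorem L153310 : sm gb N13508 = N13508 := ded_23_1 (flp_i L153306) L144212 L153306
theorem L153311 : sm gc N13508 = N12527 := ded_29_1 (flp_i L144251) (flp_c L144213) L153306
theorem L153313 : sm ge N13508 = N12533 := ded_38_1 (flp_i L144315) (flp_e L144215) L153306
theorem L153315 : sm gf N13508 = N12565 := ded_41_1 (flp_i L153241) L153243 L153306
theorem L153317 : sm gg N13508 = N12524 := ded_43_1 (flp_i L144217) L144208 L153306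
theorem L153319 : sm gh N12524 = N13509 := rfl
theorem L153321 : sm ga N13509 = N12576 := ded_15_1 (flp_h L144675) (flp_a L144219) L153319
theorem L153323 : sm gb N13509 = N13509 := ded_22_1 (flp_h L153319) L144221 L153319
theorem L153324 : sm gc N13509 = N12528 := ded_28_1 (flp_h L144265) (flp_c L144222) L153319
theorem L153326 : sm ge N13509 = N12534 := ded_37_1 (flp_h L144325) (flp_e L144224) L153319
theorem L153328 : sm gf N13509 = N12525 := ded_40_1 (flp_h L144228) (flp_f L144226) L153319
theorem L153330 : sm gd N12525 = N13510 := rfl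
theorem L153332 : sm ga N13510 = N12577 := ded_11_1 (flp_d L144685) (flp_a L144230) L153330
theorem L153334 : sm gb N13510 = N13510 := ded_18_1 (flp_d L153330) L144232 L153330
theorem L153335 : sm gg N13510 = N12558 := ded_32_2 (flp_d L144543) (flp_g L144237) L153330
theorem L153337 : sm ge N12526 = N13511 := rfl
theorem L153339 : sm ga N13511 = N12578 := ded_12_1 (flp_e L144689) (flp_a L144241) L153337
theorem L153341 : sm gb N13511 = N13511 := ded_19_1 (flp_e L153337) L144243 L153337
theorem L153342 : sm gc N13511 = N12551 := ded_25_1 (flp_e L144494) (flp_c L144248) L153337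
theorem L153344 : sm gg N13511 = N12553 := ded_36_2 (flp_e L144511) (flp_g L144246) L153337
theorem L153346 : sm gh N13511 = N13511 := ded_37_2 (flp_e L153337) L144250 L153337
theorem L153347 : sm gf N13511 = N13488 := ded_35_2 (flp_e L153098) L144057 L135360 (flp_f L144244) L153337
theorem L153349 : sm gh N12527 = N13512 := rfl
theorem L153351 : sm ga N13512 = N12579 := ded_15_1 (flp_h L144696) (flp_a L144253) L153349
theorem L153353 : sm gb N13512 = N12538 := ded_22_1 (flp_h L144363) (flp_b L144255) L153349
theorem L153355 : sm ge N13512 = N12535 := ded_37_1 (flp_h L144334) (flp_e L144259) L153349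
theorem L153357 : sm gf N13512 = N12561 := ded_40_1 L144566 (flp_f L144261) L153349
theorem L153359 : sm gg N13512 = N12528 := ded_42_1 (flp_h L144265) (flp_g L144263) L153349
theorem L153361 : sm gi N12529 = N13513 := rfl
theorem L153363 : sm ga N13513 = N12582 := ded_16_1 (flp_i L144712) (flp_a L144277) L153361
theorem L153365 : sm gb N13513 = N13513 := ded_23_1 (flp_i L153361) L144279 L153361
theorem L153366 : sm gc N13513 = N13513 := ded_29_1 (flp_i L153361) L144280 L153361
theorem L153367 : sm ge N13513 = N12532 := ded_38_1 (flp_i L144305) L144275 L153361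
theorem L153369 : sm gf N13513 = N13513 := ded_41_1 (flp_i L153361) L144281 L153361
theorem L153370 : sm gg N13513 = N12545 := ded_43_1 (flp_i L144439) L144303 L153361
theorem L153372 : sm gh N12544 = N13513 := ded_15_0 L153363 (flp_h L149407) L149397
theorem L153374 : sm gi N12530 = N13514 := rfl
theorem L153376 : sm ga N13514 = N12583 := ded_16_1 (flp_i L144720) (flp_a L144284) L153374
theorem L153378 : sm gb N13514 = N13514 := ded_23_1 (flp_i L153374) L144286 L153374
theorem L153379 : sm gc N13514 = N13514 := ded_29_1 (flp_i L153374) L144287 L153374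
theorem L153380 : sm gd N13514 = N12533 := ded_34_1 (flp_i L144315) (flp_d L144288) L153374
theorem L153382 : sm ge N13514 = N12545 := ded_38_1 (flp_i L144439) L144299 L153374
theorem L153384 : sm gf N13514 = N13514 := ded_41_1 (flp_i L153374) L144290 L153374
theorem L153385 : sm gg N13514 = N12532 := ded_43_1 (flp_i L144305) L144282 L153374
theorem L153387 : sm gh N13514 = N12543 := ded_44_1 L144455 L153372 (flp_i L153361) L144291 L153374
theorem L153389 : sm gh N12533 = N13515 := rfl
theorem L153391 : sm ga N13515 = N12586 := ded_15_1 (flp_h L144758) (flp_a L144317) L153389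
theorem L153393 : sm gb N13515 = N13515 := ded_22_1 (flp_h L153389) L144319 L153389
theorem L153394 : sm gc N13515 = N12535 := ded_28_1 (flp_h L144334) (flp_c L144320) L153389
theorem L153396 : sm gf N13515 = N13515 := ded_40_1 (flp_h L153389) L144322 L153389
theorem L153397 : sm gg N13515 = N12534 := ded_42_1 (flp_h L144325) (flp_g L144323) L153389
theorem L153399 : sm gi N12539 = N13516 := rfl
theorem L153401 : sm ga N13516 = N12960 := ded_16_1 (flp_i L148195) (flp_a L144376) L153399
theorem L153403 : sm gb N13516 = N12594 := ded_23_1 (flp_i L144845) (flp_b L144378) L153399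
theorem L153405 : sm gc N13516 = N12826 := ded_29_1 (flp_i L146841) (flp_c L144380) L153399
theorem L153407 : sm ge N13516 = N12540 := ded_38_1 (flp_i L144385) L144374 L153399
theorem L153409 : sm gf N13516 = N13464 := ded_41_1 L152865 L145095 L153399
theorem L153411 : sm gg N13516 = N12830 := ded_43_1 (flp_i L146878) (flp_g L144382) L153399
theorem L153413 : sm gh N12540 = N13517 := rfl
theorem L153415 : sm ga N13517 = N12961 := ded_15_1 (flp_h L148204) (flp_a L144387) L153413
theorem L153417 : sm gb N13517 = N12595 := ded_22_1 (flp_h L144854) (flp_b L144389) L153413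
theorem L153419 : sm gc N13517 = N12827 := ded_28_1 (flp_h L146853) (flp_c L144391) L153413
theorem L153421 : sm gf N13517 = N13517 := ded_40_1 (flp_h L153413) L144395 L153413
theorem L153422 : sm gg N13517 = N12831 := ded_42_1 (flp_h L146886) (flp_g L144396) L153413
theorem L153424 : sm gd N13517 = N12557 := ded_33_1 (flp_h L144537) L135444 (flp_h L135286) (flp_d L144393) L153413
theorem L153426 : sm gi N13517 = N13517 := ded_44_2 (flp_h L153413) (flp_i L144385) L135278 L144385 L153413
theorem L153427 : sm gh N12541 = N13518 := rfl
theorem L153429 : sm ga N13518 = N12921 := ded_15_1 (flp_h L147882) (flp_a L144400) L153427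
theorem L153431 : sm gb N13518 = N13518 := ded_22_1 (flp_h L153427) L144402 L153427
theorem L153432 : sm gc N13518 = N12809 := ded_28_1 (flp_h L146680) (flp_c L144403) L153427
theorem L153434 : sm gf N13518 = N12542 := ded_40_1 (flp_h L144411) L144398 L153427
theorem L153436 : sm gg N13518 = N13127 := ded_42_1 (flp_h L149943) (flp_g L144409) L153427
theorem L153438 : sm gi N12542 = N13519 := rfl
theorem L153440 : sm ga N13519 = N12923 := ded_16_1 (flp_i L147898) (flp_a L144413) L153438
theorem L153442 : sm gb N13519 = N13519 := ded_23_1 (flp_i L153438) L144415 L153438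
theorem L153443 : sm gc N13519 = N12811 := ded_29_1 (flp_i L146702) (flp_c L144416) L153438
theorem L153445 : sm ge N13519 = N13519 := ded_38_1 (flp_i L153438) L144418 L153438
theorem L153446 : sm gg N13519 = N12808 := ded_43_1 (flp_i L146668) (flp_g L144419) L153438
theorem L153448 : sm gh N13519 = N13416 := ded_44_1 (flp_i L152415) L143381 (flp_i L135295) L144411 L153438
theorem L153450 : sm gh N12547 = N13520 := rfl
theorem L153452 : sm gb N13520 = N13520 := ded_22_1 (flp_h L153450) L144459 L153450
theorem L153453 : sm gc N13520 = N12549 := ded_28_1 (flp_h L144478) (flp_c L144460) L153450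
theorem L153455 : sm ge N13520 = N13518 := ded_37_1 (flp_h L153427) (flp_e L144464) L153450
theorem L153457 : sm gf N13520 = N13520 := ded_40_1 (flp_h L153450) L144466 L153450
theorem L153458 : sm gg N13520 = N12548 := ded_42_1 (flp_h L144469) (flp_g L144467) L153450
theorem L153460 : sm gd N13520 = N13515 := ded_33_1 (flp_h L153389) (flp_d L153380) L153387 (flp_d L144462) L153450
theorem L153462 : sm gi N12551 = N13521 := rfl
theorem L153464 : sm gb N13521 = N12596 := ded_23_1 (flp_i L144861) (flp_b L144496) L153462
theorem L153466 : sm ge N13521 = N12552 := ded_38_1 (flp_i L144501) L144494 L153462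
theorem L153468 : sm gf N13521 = N13350 := ded_41_1 L151847 L144694 L153462
theorem L153470 : sm gg N13521 = N12556 := ded_43_1 (flp_i L144531) (flp_g L144498) L153462
theorem L153472 : sm gh N12552 = N13522 := rfl
theorem L153474 : sm ga N13522 = N12971 := ded_15_1 (flp_h L151177) L151166 L153472
theorem L153476 : sm gb N13522 = N12597 := ded_22_1 (flp_h L144871) (flp_b L144503) L153472
theorem L153478 : sm gf N13522 = N12719 := ded_40_1 L145856 (flp_f L144507) L153472
theorem L153480 : sm gg N13522 = N12557 := ded_42_1 (flp_h L144537) (flp_g L144509) L153472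
theorem L153482 : sm gd N13522 = N12831 := ded_33_1 (flp_h L146886) (flp_d L140540) L140546 (flp_d L144505) L153472
theorem L153484 : sm gi N13522 = N13522 := ded_44_2 (flp_h L153472) (flp_i L144501) L135419 L144501 L153472
theorem L153485 : sm gd N12553 = N13523 := rfl
theorem L153487 : sm gb N13523 = N13523 := ded_18_1 (flp_d L153485) L144513 L153485
theorem L153488 : sm ge N13523 = N12558 := ded_30_2 (flp_d L144543) (flp_e L135447) (flp_d L135433) L144511 L153485
theorem L153490 : sm gf N12553 = N13524 := rfl
theorem L153492 : sm gb N13524 = N13524 := ded_20_1 (flp_f L153490) L144513 L153490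
theorem L153493 : sm gc N13524 = N12555 := ded_26_1 (flp_f L144525) (flp_c L144514) L153490
theorem L153495 : sm gh N13524 = N13524 := ded_40_2 (flp_f L153490) L144516 L153490
theorem L153496 : sm ge N13524 = N13524 := ded_35_1 (flp_f L153490) (flp_e L144511) L135430 L144511 L153490
theorem L153497 : sm gg N13524 = N13490 := ded_39_2 (flp_f L153119) (flp_g L153105) (flp_f L153347) L153344 L153490
theorem L153499 : sm gi N12553 = N13525 := rfl
theorem L153501 : sm gb N13525 = N13525 := ded_23_1 (flp_i L153499) L144513 L153499
theorem L153502 : sm gc N13525 = N12556 := ded_29_1 (flp_i L144531) (flp_c L144514) L153499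
theorem L153504 : sm ge N13525 = N12554 := ded_38_1 (flp_i L144517) L144511 L153499
theorem L153506 : sm gh N12554 = N13526 := rfl
theorem L153508 : sm ga N13526 = N13427 := ded_15_1 L152528 L151740 L153506
theorem L153510 : sm gb N13526 = N13526 := ded_22_1 (flp_h L153506) L144519 L153506
theorem L153511 : sm gc N13526 = N12557 := ded_28_1 (flp_h L144537) (flp_c L144520) L153506
theorem L153513 : sm gf N13526 = N13526 := ded_40_1 (flp_h L153506) L144524 L153506
theorem L153514 : sm gd N13526 = N13420 := ded_33_1 (flp_h L152454) L143419 L141089 (flp_d L144522) L153506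
theorem L153516 : sm gi N13526 = N13526 := ded_44_2 (flp_h L153506) (flp_i L144517) L135431 L144517 L153506
theorem L153517 : sm gg N12555 = N13527 := rfl
theorem L153519 : sm ga N13527 = N13524 := ded_14_1 L153497 L153121 L153517
theorem L153521 : sm gb N13527 = N12598 := ded_21_1 (flp_g L144880) (flp_b L144527) L153517
theorem L153523 : sm gc N13527 = N13490 := ded_27_1 (flp_g L153497) L153493 L153517
theorem L153525 : sm ge N13527 = N13527 := ded_36_1 (flp_g L153517) L144530 L153517
theorem L153526 : sm gh N13527 = N13527 := ded_42_2 (flp_g L153517) L144529 L153517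
theorem L153527 : sm gf N13527 = N13489 := ded_39_1 L153116 L144694 L144498 L144525 L153517
theorem L153529 : sm gi N12555 = N13528 := rfl
theorem L153531 : sm gb N13528 = N12599 := ded_23_1 (flp_i L144886) (flp_b L144527) L153529
theorem L153533 : sm ge N13528 = N13528 := ded_38_1 (flp_i L153529) L144530 L153529
theorem L153534 : sm gf N13528 = N12556 := ded_41_1 (flp_i L144531) L144525 L153529
theorem L153536 : sm gh N12556 = N13529 := rfl
theorem L153538 : sm gb N13529 = N12600 := ded_22_1 (flp_h L144893) (flp_b L144533) L153536
theorem L153540 : sm ge N13529 = N12557 := ded_37_1 (flp_h L144537) (flp_e L144535) L153536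
theorem L153542 : sm gi N13529 = N13529 := ded_44_2 (flp_h L153536) (flp_i L144531) L135439 L144531 L153536
theorem L153543 : sm gf N12558 = N13530 := rfl
theorem L153545 : sm gb N13530 = N13530 := ded_20_1 (flp_f L153543) L144545 L153543
theorem L153546 : sm gd N13530 = N12559 := ded_31_1 (flp_f L144546) L144543 L153543
theorem L153548 : sm gh N12558 = N13531 := rfl
theorem L153550 : sm gb N13531 = N13531 := ded_22_1 (flp_h L153548) L144545 L153548
theorem L153551 : sm gd N13531 = N12564 := ded_33_1 (flp_h L144582) (flp_d L135473) (flp_h L135452) L144543 L153548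
theorem L153553 : sm gi N12558 = N13532 := rfl
theorem L153555 : sm gb N13532 = N13532 := ded_23_1 (flp_i L153553) L144545 L153553
theorem L153556 : sm gd N13532 = N12560 := ded_34_1 (flp_i L144554) L144543 L153553
theorem L153558 : sm gg N12559 = N13533 := rfl
theorem L153560 : sm gb N13533 = N13533 := ded_21_1 (flp_g L153558) L144548 L153558
theorem L153561 : sm gc N13533 = N12561 := ded_27_1 (flp_g L144561) (flp_c L144549) L153558
theorem L153563 : sm ge N13533 = N13533 := ded_36_1 (flp_g L153558) L144553 L153558
theorem L153564 : sm gh N13533 = N12565 := ded_42_2 (flp_g L144588) (flp_h L144551) L153558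
theorem L153566 : sm gi N12559 = N13534 := rfl
theorem L153568 : sm gb N13534 = N13534 := ded_23_1 (flp_i L153566) L144548 L153566
theorem L153569 : sm gc N13534 = N12562 := ded_29_1 (flp_i L144568) (flp_c L144549) L153566
theorem L153571 : sm ge N13534 = N13534 := ded_38_1 (flp_i L153566) L144553 L153566
theorem L153572 : sm gf N13534 = N12560 := ded_41_1 (flp_i L144554) L144546 L153566
theorem L153574 : sm gi N12561 = N13535 := rfl
theorem L153576 : sm gb N13535 = N12589 := ded_23_1 (flp_i L144796) (flp_b L144563) L153574
theorem L153578 : sm ge N13535 = N13535 := ded_38_1 (flp_i L153574) L144565 L153574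
theorem L153579 : sm gg N13535 = N12562 := ded_43_1 (flp_i L144568) L144561 L153574
theorem L153581 : sm ge N12563 = N13536 := rfl
theorem L153583 : sm gb N13536 = N13536 := ded_19_1 (flp_e L153581) L144577 L153581
theorem L153584 : sm gc N13536 = N12569 := ded_25_1 (flp_e L144616) (flp_c L144578) L153581
theorem L153586 : sm gd N13536 = N13536 := ded_30_1 (flp_e L153581) L144580 L135484 (flp_d L144580) L153581
theorem L153587 : sm gf N13536 = N13536 := ded_35_2 (flp_e L153581) (flp_f L144575) L135478 L144575 L153581
theorem L153588 : sm gg N12977 = N13536 := ded_47_1 L153587 (flp_e L153581) L144580 L135482 L127277 (flp_h L127422) L135714 (flp_f L144370) L144368 (flp_d L137519) L137517 (flp_b L131510) L131509 (flp_g L138129) L138133 L135406 L127495 (flp_c L74503) (flp_b L74435) L74439 L54622 (flp_f L74667) L121056 L73781 (flp_c L73776) L53921 (flp_h L53985) (flp_g L119143) L66175 L48413 L66177 L66182 (flp_b L66429) L66432 L52294 (flp_f L71544) (flp_e L124851) L124849 L67273 L65022 L65109 L65117 L47651 L36358 L36369 L36375 (flp_b L37338) L37342 (flp_g L39811) L39810 L54307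 L54314 (flp_c L74275) (flp_b L127284) (flp_h L133369) L133367 L133412 L133420 (flp_d L133468) (flp_c L138990) L138989 L148325
theorem L153590 : sm gh N13536 = N12976 := ded_47_7 (flp_g L148317) (flp_f L138987) (flp_e L132972) (flp_d L132966) L124939 L67326 L49280 L38918 L53181 (flp_e L72796) (flp_d L123535) L123533 L103139 L122234 L122241 L66983 L48962 L35902 (flp_c L48914) (flp_b L66826) (flp_h L66822) (flp_g L48854) (flp_f L35829) (flp_e L34740) L34739 (flp_c L35636) (flp_b L35625) L35648 L35656 (flp_f L48623) (flp_e L66474) L123931 L131743 L140654 (flp_h L148048) L148046 L151274 L151279 L142447 (flp_c L142539) L142537 L134335 L135935 L135941 L127761 (flp_d L127823) L127821 L74586 (flp_h L127843) (flp_g L127841) L74594 L54551 L54553 (flp_c L74375) (flp_b L127353) (flp_h L127351) L73318 L127344 L135584 (flp_d L144620) (flp_c L153584) L153583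
theorem L153592 : sm gg N12563 = N13537 := rfl
theorem L153594 : sm gb N13537 = N13537 := ded_21_1 (flp_g L153592) L144577 L153592
theorem L153595 : sm gc N13537 = N12570 := ded_27_1 (flp_g L144627) (flp_c L144578) L153592
theorem L153597 : sm gd N13537 = N12565 := ded_32_1 (flp_g L144588) (flp_d L144580) L153592
theorem L153599 : sm ge N13537 = N12977 := ded_36_1 L153588 (flp_e L153581) L153592
theorem L153601 : sm gh N12975 = N13537 := ded_28_0 L153595 (flp_h L144635) (flp_c L148315)
theorem L153603 : sm gh N12563 = N13538 := rfl
theorem L153605 : sm gb N13538 = N13538 := ded_22_1 (flp_h L153603) L144577 L153603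
theorem L153606 : sm gc N13538 = N12571 := ded_28_1 (flp_h L144637) (flp_c L144578) L153603
theorem L153608 : sm ge N13538 = N12976 := ded_37_1 (flp_h L153590) (flp_e L153581) L153603
theorem L153610 : sm gf N13538 = N12564 := ded_40_1 (flp_h L144582) L144575 L153603
theorem L153612 : sm gg N13538 = N12975 := ded_42_1 L153601 (flp_g L153592) L153603
theorem L153614 : sm gi N12564 = N13539 := rfl
theorem L153616 : sm gb N13539 = N13539 := ded_23_1 (flp_i L153614) L144584 L153614
theorem L153617 : sm gc N13539 = N12573 := ded_29_1 (flp_i L144655) (flp_c L144585) L153614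
theorem L153619 : sm ge N13539 = N13539 := ded_38_1 (flp_i L153614) L144587 L153614
theorem L153620 : sm ge N12566 = N13540 := rfl
theorem L153622 : sm gb N13540 = N12601 := ded_19_1 (flp_e L144900) (flp_b L144596) L153620
theorem L153624 : sm gd N13540 = N13540 := ded_30_1 (flp_e L153620) L144598 L135505 (flp_d L144598) L153620
theorem L153625 : sm gf N13540 = N13540 := ded_35_2 (flp_e L153620) (flp_f L144594) L135498 L144594 L153620
theorem L153626 : sm gg N12712 = N13540 := ded_47_1 L153625 (flp_e L153620) L144598 L135503 L127292 (flp_h L125528) L133732 L133741 L125560 (flp_d L122826) L122825 (flp_b L130212) L130216 (flp_g L130210) (flp_f L122663) (flp_e L65063) (flp_d L47607) (flp_c L36055) L36053 (flp_h L26434) L19423 L26424 L36060 L49214 L49222 (flp_b L50010) L68469 (flp_g L125898) (flp_f L130951) L139960 L139969 (flp_c L149311) L149309 L140575 (flp_g L140065) L140067 (flp_e L140057) (flp_d L133230) L133228 L125226 L125406 (flp_g L130254) L130252 L122705 L130256 L139104 L148404 L148414 L139226 L130353 L133668 L133674 (flp_c L134242) L134240 L126098 L126096 L128672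 L128678 (flp_d L128724) L128723 (flp_b L136699) L145771
theorem L153628 : sm gh N12711 = N13540 := ded_22_0 L153622 L144908 (flp_b L145766)
theorem L153630 : sm gg N12566 = N13541 := rfl
theorem L153632 : sm gb N13541 = N12602 := ded_21_1 (flp_g L144910) (flp_b L144596) L153630
theorem L153634 : sm gd N13541 = N12568 := ded_32_1 (flp_g L144607) (flp_d L144598) L153630
theorem L153636 : sm ge N13541 = N12712 := ded_36_1 L153626 (flp_e L153620) L153630
theorem L153638 : sm gf N13541 = N12570 := ded_39_1 (flp_g L144627) (flp_f L135513) (flp_g L135496) L144594 L153630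
theorem L153640 : sm gh N12710 = N13541 := ded_22_0 L153632 (flp_h L144920) (flp_b L145760)
theorem L153642 : sm gh N12566 = N13542 := rfl
theorem L153644 : sm gb N13542 = N12603 := ded_22_1 (flp_h L144922) (flp_b L144596) L153642
theorem L153646 : sm ge N13542 = N12711 := ded_37_1 L153628 (flp_e L153620) L153642
theorem L153648 : sm gf N13542 = N12567 := ded_40_1 (flp_h L144600) L144594 L153642
theorem L153650 : sm gg N13542 = N12710 := ded_42_1 L153640 (flp_g L153630) L153642
theorem L153652 : sm gi N12567 = N13543 := rfl
theorem L153654 : sm gb N13543 = N12605 := ded_23_1 (flp_i L144940) (flp_b L144602) L153652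
theorem L153656 : sm ge N13543 = N13543 := ded_38_1 (flp_i L153652) L144604 L153652
theorem L153657 : sm gg N13543 = N12573 := ded_43_1 (flp_i L144655) (flp_g L144605) L153652
theorem L153659 : sm gi N12569 = N13544 := rfl
theorem L153661 : sm gb N13544 = N12614 := ded_23_1 (flp_i L145011) (flp_b L144618) L153659
theorem L153663 : sm gd N13544 = N12582 := ded_34_1 (flp_i L144712) (flp_d L144620) L153659
theorem L153665 : sm ge N13544 = N12572 := ded_38_1 (flp_i L144647) L144616 L153659
theorem L153667 : sm gf N13544 = N13544 := ded_41_1 (flp_i L153659) L144622 L153659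
theorem L153668 : sm gg N13544 = N13356 := ded_43_1 (flp_i L151886) L144623 L153659
theorem L153670 : sm gi N12570 = N13545 := rfl
theorem L153672 : sm gb N13545 = N12615 := ded_23_1 (flp_i L145022) (flp_b L144629) L153670
theorem L153674 : sm gd N13545 = N12575 := ded_34_1 (flp_i L144665) (flp_d L144631) L153670
theorem L153676 : sm ge N13545 = N13356 := ded_38_1 (flp_i L151886) (flp_e L144633) L153670
theorem L153678 : sm gg N13545 = N12572 := ded_43_1 (flp_i L144647) L144627 L153670
theorem L153680 : sm gi N12571 = N13546 := rfl
theorem L153682 : sm gb N13546 = N12616 := ded_23_1 (flp_i L145032) (flp_b L144639) L153680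
theorem L153684 : sm ge N13546 = N13355 := ded_38_1 (flp_i L151877) (flp_e L144641) L153680
theorem L153686 : sm gf N13546 = N12573 := ded_41_1 (flp_i L144655) (flp_f L144643) L153680
theorem L153688 : sm gg N13546 = N13354 := ded_43_1 (flp_i L151871) (flp_g L144645) L153680
theorem L153690 : sm gh N12572 = N13547 := rfl
theorem L153692 : sm gb N13547 = N12617 := ded_22_1 (flp_h L145042) (flp_b L144649) L153690
theorem L153694 : sm gf N13547 = N12574 := ded_40_1 (flp_h L144660) (flp_f L144653) L153690
theorem L153696 : sm gh N12573 = N13548 := rfl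
theorem L153698 : sm gb N13548 = N12618 := ded_22_1 (flp_h L145048) (flp_b L144657) L153696
theorem L153700 : sm ge N13548 = N13548 := ded_37_1 (flp_h L153696) L144659 L153696
theorem L153701 : sm gi N13548 = N12574 := ded_44_2 (flp_h L144660) (flp_i L135524) L135519 L144655 L153696
theorem L153703 : sm gd N12574 = N13549 := rfl
theorem L153705 : sm gb N13549 = N12619 := ded_18_1 (flp_d L145055) (flp_b L144662) L153703
theorem L153707 : sm gh N13549 = N12577 := ded_33_2 (flp_d L144685) (flp_h L135549) (flp_d L135528) L144660 L153703
theorem L153709 : sm gh N12575 = N13550 := rfl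
theorem L153711 : sm gb N13550 = N12620 := ded_22_1 (flp_h L145060) (flp_b L144667) L153709
theorem L153713 : sm gc N13550 = N12579 := ded_28_1 (flp_h L144696) (flp_c L144669) L153709
theorem L153715 : sm ge N13550 = N12586 := ded_37_1 (flp_h L144758) (flp_e L144671) L153709
theorem L153717 : sm gg N13550 = N12576 := ded_42_1 (flp_h L144675) (flp_g L144673) L153709
theorem L153719 : sm gd N12576 = N13551 := rfl
theorem L153721 : sm gb N13551 = N12621 := ded_18_1 (flp_d L145069) (flp_b L144677) L153719
theorem L153723 : sm gf N13551 = N12577 := ded_31_2 (flp_d L144685) (flp_f L144683) L153719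
theorem L153725 : sm ge N13551 = N13284 := ded_30_2 (flp_d L151332) L144779 (flp_d L144767) (flp_e L144681) L153719
theorem L153727 : sm gc N12577 = N13552 := rfl
theorem L153729 : sm gd N13552 = N12581 := ded_24_2 (flp_c L144710) (flp_d L135580) (flp_c L135553) L144685 L153727
theorem L153731 : sm ge N12577 = N13553 := rfl
theorem L153733 : sm gb N13553 = N12623 := ded_19_1 (flp_e L145085) (flp_b L144687) L153731
theorem L153735 : sm gd N13553 = N12578 := ded_30_1 (flp_e L144689) (flp_d L135557) (flp_e L135555) L144685 L153731
theorem L153737 : sm gf N13553 = N13287 := ded_35_2 (flp_e L151356) (flp_f L151336) (flp_e L153725) L153723 L153731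
theorem L153739 : sm gc N12580 = N13554 := rfl
theorem L153741 : sm gf N13554 = N12581 := ded_26_2 (flp_c L144710) (flp_f L144708) L153739
theorem L153743 : sm gb N12581 = N13555 := rfl
theorem L153745 : sm gc N13555 = N12590 := ded_17_2 (flp_b L144804) (flp_c L135746) (flp_b L135582) L144710 L153743
theorem L153747 : sm gd N12586 = N13556 := rfl
theorem L153749 : sm ga N13556 = N13520 := ded_11_1 L153460 L153391 L153747
theorem L153751 : sm gb N13556 = N12627 := ded_18_1 (flp_d L145129) (flp_b L144760) L153747
theorem L153753 : sm gf N13556 = N13556 := ded_31_2 (flp_d L153747) L144764 L153747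
theorem L153754 : sm gg N13556 = N12587 := ded_32_2 (flp_d L144767) (flp_g L144765) L153747
theorem L153756 : sm gc N13556 = N12927 := ded_24_1 (flp_d L147939) L140266 L137394 (flp_c L144762) L153747
theorem L153758 : sm gh N13556 = N12920 := ded_33_2 (flp_d L153095) L153091 L144725 L144758 L153747
theorem L153760 : sm ge N12921 = N13556 := ded_47_3 (flp_d L153747) L144762 L135690 (flp_h L127473) L73531 L53713 L39307 L28760 L21081 L15484 (flp_h L20928) L20927 L118839 L28275 L20744 (flp_c L19344) (flp_b L103178) L20458 (flp_g L103206) (flp_f L17797) (flp_e L13131) (flp_d L10433) L10431 L8224 (flp_h L11117) L11116 L11115 L15092 L20522 L27935 L38113 L52044 L52050 (flp_f L118583) L39469 (flp_d L36630) L36628 L35167 L35230 L35238 L25844 L19006 L14618 L14614 L111689 (flp_h L111549) L9803 (flp_f L111673) (flp_e L12190) L12192 (flp_c L16515) (flp_b L22456) (flp_h L22453) (flp_g L18986) L25800 L35155 L47938 L65504 (flp_b L122563) L130039 (flp_g L138741) (flp_f L147888)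
theorem L153762 : sm gf N12591 = N13557 := rfl
theorem L153764 : sm ga N13557 = N13557 := ded_13_1 (flp_f L153762) L144810 L153762
theorem L153765 : sm gb N13557 = N12829 := ded_20_1 (flp_f L146869) (flp_b L144811) L153762
theorem L153767 : sm gc N13557 = N12787 := ded_26_1 (flp_f L146414) (flp_c L144813) L153762
theorem L153769 : sm gh N13557 = N13557 := ded_40_2 (flp_f L153762) L144817 L153762
theorem L153770 : sm ge N13557 = N12790 := ded_35_1 (flp_f L146446) (flp_e L137259) (flp_f L135777) L144808 L153762
theorem L153772 : sm gi N12591 = N13558 := rfl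
theorem L153774 : sm ga N13558 = N13558 := ded_16_1 (flp_i L153772) L144810 L153772
theorem L153775 : sm gb N13558 = N12830 := ded_23_1 (flp_i L146878) (flp_b L144811) L153772
theorem L153777 : sm gc N13558 = N12788 := ded_29_1 (flp_i L146426) (flp_c L144813) L153772
theorem L153779 : sm ge N13558 = N12592 := ded_38_1 (flp_i L144818) L144808 L153772
theorem L153781 : sm gg N13558 = N12594 := ded_43_1 (flp_i L144845) (flp_g L144815) L153772
theorem L153783 : sm gh N12592 = N13559 := rfl
theorem L153785 : sm ga N13559 = N13559 := ded_15_1 (flp_h L153783) L144820 L153783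
theorem L153786 : sm gb N13559 = N12831 := ded_22_1 (flp_h L146886) (flp_b L144821) L153783
theorem L153788 : sm gc N13559 = N12789 := ded_28_1 (flp_h L146437) (flp_c L144823) L153783
theorem L153790 : sm gf N13559 = N12770 := ded_40_1 L146252 (flp_f L144827) L153783
theorem L153792 : sm gg N13559 = N12595 := ded_42_1 (flp_h L144854) (flp_g L144829) L153783
theorem L153794 : sm gd N13559 = N12597 := ded_33_1 (flp_h L144871) L135877 (flp_h L135791) (flp_d L144825) L153783
theorem L153796 : sm gi N13559 = N13559 := ded_44_2 (flp_h L153783) (flp_i L144818) L135783 L144818 L153783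
theorem L153797 : sm gh N12593 = N13560 := rfl
theorem L153799 : sm ga N13560 = N13560 := ded_15_1 (flp_h L153797) L144833 L153797
theorem L153800 : sm gb N13560 = N12793 := ded_22_1 (flp_h L146472) (flp_b L144834) L153797
theorem L153802 : sm gc N13560 = N12595 := ded_28_1 (flp_h L144854) (flp_c L144836) L153797
theorem L153804 : sm ge N13560 = N13439 := ded_37_1 L152634 (flp_e L144840) L153797
theorem L153806 : sm gf N13560 = N13560 := ded_40_1 (flp_h L153797) L144842 L153797
theorem L153807 : sm gg N13560 = N12789 := ded_42_1 (flp_h L146437) (flp_g L144843) L153797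
theorem L153809 : sm gd N13560 = N13560 := ded_33_1 (flp_h L153797) L144838 L135826 (flp_d L144838) L153797
theorem L153810 : sm gi N13560 = N13560 := ded_44_2 (flp_h L153797) (flp_i L144831) L135799 L144831 L153797
theorem L153811 : sm gh N12594 = N13561 := rfl
theorem L153813 : sm ga N13561 = N13561 := ded_15_1 (flp_h L153811) L144847 L153811
theorem L153814 : sm gc N13561 = N13439 := ded_28_1 L152634 (flp_c L144848) L153811
theorem L153816 : sm ge N13561 = N12595 := ded_37_1 (flp_h L144854) (flp_e L144850) L153811
theorem L153818 : sm gf N13561 = N13440 := ded_40_1 L152642 (flp_f L144852) L153811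
theorem L153820 : sm gi N13561 = N13561 := ded_44_2 (flp_h L153811) (flp_i L144845) L135807 L144845 L153811
theorem L153821 : sm gh N12596 = N13562 := rfl
theorem L153823 : sm ga N13562 = N13562 := ded_15_1 (flp_h L153821) L144863 L153821
theorem L153824 : sm gc N13562 = N13562 := ded_28_1 (flp_h L153821) L144864 L153821
theorem L153825 : sm ge N13562 = N12597 := ded_37_1 (flp_h L144871) (flp_e L144865) L153821
theorem L153827 : sm gf N13562 = N12757 := ded_40_1 L146133 (flp_f L144867) L153821
theorem L153829 : sm gg N13562 = N12600 := ded_42_1 (flp_h L144893) (flp_g L144869) L153821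
theorem L153831 : sm gi N13562 = N13562 := ded_44_2 (flp_h L153821) (flp_i L144861) L135872 L144861 L153821
theorem L153832 : sm gi N12598 = N13563 := rfl
theorem L153834 : sm ga N13563 = N13563 := ded_16_1 (flp_i L153832) L144882 L153832
theorem L153835 : sm gc N13563 = N13563 := ded_29_1 (flp_i L153832) L144883 L153832
theorem L153836 : sm ge N13563 = N13563 := ded_38_1 (flp_i L153832) L144884 L153832
theorem L153837 : sm gf N13563 = N13450 := ded_41_1 L152747 (flp_f L144984) L153832
theorem L153839 : sm gg N13563 = N12599 := ded_43_1 (flp_i L144886) L144880 L153832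
theorem L153841 : sm gh N12599 = N13564 := rfl
theorem L153843 : sm ga N13564 = N13564 := ded_15_1 (flp_h L153841) L144888 L153841
theorem L153844 : sm gc N13564 = N13564 := ded_28_1 (flp_h L153841) L144889 L153841
theorem L153845 : sm ge N13564 = N13564 := ded_37_1 (flp_h L153841) L144890 L153841
theorem L153846 : sm gf N13564 = N12600 := ded_40_1 (flp_h L144893) (flp_f L144891) L153841
theorem L153848 : sm gi N13564 = N13564 := ded_44_2 (flp_h L153841) (flp_i L144886) L135887 L144886 L153841
theorem L153849 : sm gd N12600 = N13565 := rfl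
theorem L153851 : sm ga N13565 = N13565 := ded_11_1 (flp_d L153849) L144895 L153849
theorem L153852 : sm gi N13565 = N13565 := ded_34_2 (flp_d L153849) L144899 L153849
theorem L153853 : sm gi N12601 = N13566 := rfl
theorem L153855 : sm ga N13566 = N13566 := ded_16_1 (flp_i L153853) L144902 L153853
theorem L153856 : sm gc N13566 = N13566 := ded_29_1 (flp_i L153853) L144903 L153853
theorem L153857 : sm gd N13566 = N13566 := ded_34_1 (flp_i L153853) L144904 L153853
theorem L153858 : sm ge N13566 = N12604 := ded_38_1 (flp_i L144932) L144900 L153853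
theorem L153860 : sm gf N13566 = N13566 := ded_41_1 (flp_i L153853) L144905 L153853
theorem L153861 : sm gg N13566 = N12763 := ded_43_1 (flp_i L146176) L144906 L153853
theorem L153863 : sm gi N12602 = N13567 := rfl
theorem L153865 : sm ga N13567 = N13567 := ded_16_1 (flp_i L153863) L144912 L153863
theorem L153866 : sm gc N13567 = N13567 := ded_29_1 (flp_i L153863) L144913 L153863
theorem L153867 : sm gd N13567 = N12607 := ded_34_1 (flp_i L144954) (flp_d L144914) L153863
theorem L153869 : sm ge N13567 = N12763 := ded_38_1 (flp_i L146176) (flp_e L144916) L153863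
theorem L153871 : sm gf N13567 = N12615 := ded_41_1 (flp_i L145022) (flp_f L144918) L153863
theorem L153873 : sm gg N13567 = N12604 := ded_43_1 (flp_i L144932) L144910 L153863
theorem L153875 : sm gi N12603 = N13568 := rfl
theorem L153877 : sm ga N13568 = N13568 := ded_16_1 (flp_i L153875) L144924 L153875
theorem L153878 : sm gc N13568 = N13568 := ded_29_1 (flp_i L153875) L144925 L153875
theorem L153879 : sm ge N13568 = N12762 := ded_38_1 (flp_i L146167) (flp_e L144926) L153875
theorem L153881 : sm gf N13568 = N12605 := ded_41_1 (flp_i L144940) (flp_f L144928) L153875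
theorem L153883 : sm gg N13568 = N12761 := ded_43_1 (flp_i L146159) (flp_g L144930) L153875
theorem L153885 : sm gh N12604 = N13569 := rfl
theorem L153887 : sm ga N13569 = N13569 := ded_15_1 (flp_h L153885) L144934 L153885
theorem L153888 : sm gc N13569 = N13569 := ded_28_1 (flp_h L153885) L144935 L153885
theorem L153889 : sm gf N13569 = N12606 := ded_40_1 (flp_h L144947) (flp_f L144938) L153885
theorem L153891 : sm gh N12605 = N13570 := rfl
theorem L153893 : sm ga N13570 = N13570 := ded_15_1 (flp_h L153891) L144942 L153891
theorem L153894 : sm gc N13570 = N13570 := ded_28_1 (flp_h L153891) L144943 L153891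
theorem L153895 : sm ge N13570 = N13570 := ded_37_1 (flp_h L153891) L144944 L153891
theorem L153896 : sm gg N13570 = N12618 := ded_42_1 (flp_h L145048) (flp_g L144945) L153891
theorem L153898 : sm gi N13570 = N12606 := ded_44_2 (flp_h L144947) (flp_i L135926) L135919 L144940 L153891
theorem L153900 : sm gd N12606 = N13571 := rfl
theorem L153902 : sm ga N13571 = N13571 := ded_11_1 (flp_d L153900) L144949 L153900
theorem L153903 : sm gg N13571 = N12619 := ded_32_2 (flp_d L145055) (flp_g L144952) L153900
theorem L153905 : sm gh N13571 = N12609 := ded_33_2 (flp_d L144972) (flp_h L135951) (flp_d L135930) L144947 L153900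
theorem L153907 : sm gh N12607 = N13572 := rfl
theorem L153909 : sm ga N13572 = N13572 := ded_15_1 (flp_h L153907) L144956 L153907
theorem L153910 : sm gc N13572 = N12611 := ded_28_1 (flp_h L144986) (flp_c L144957) L153907
theorem L153912 : sm ge N13572 = N13572 := ded_37_1 (flp_h L153907) L144959 L153907
theorem L153913 : sm gf N13572 = N12620 := ded_40_1 (flp_h L145060) (flp_f L144960) L153907
theorem L153915 : sm gg N13572 = N12608 := ded_42_1 (flp_h L144964) (flp_g L144962) L153907
theorem L153917 : sm gd N12608 = N13573 := rfl
theorem L153919 : sm ga N13573 = N13573 := ded_11_1 (flp_d L153917) L144966 L153917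
theorem L153920 : sm gf N13573 = N12609 := ded_31_2 (flp_d L144972) (flp_f L144970) L153917
theorem L153922 : sm gc N12609 = N13574 := rfl
theorem L153924 : sm ga N13574 = N13574 := ded_10_1 (flp_c L153922) L144974 L153922
theorem L153925 : sm gg N13574 = N12622 := ded_27_2 (flp_c L145078) (flp_g L144975) L153922
theorem L153927 : sm gd N13574 = N12613 := ded_24_2 (flp_c L145004) (flp_d L135987) (flp_c L135954) L144972 L153922
theorem L153929 : sm ge N12609 = N13575 := rfl
theorem L153931 : sm ga N13575 = N13575 := ded_12_1 (flp_e L153929) L144974 L153929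
theorem L153932 : sm gg N13575 = N12623 := ded_36_2 (flp_e L145085) (flp_g L144975) L153929
theorem L153934 : sm gd N13575 = N12610 := ded_30_1 (flp_e L144977) (flp_d L135960) (flp_e L135956) L144972 L153929
theorem L153936 : sm gf N13413 = N13575 := ded_39_5 L153932 L145090 L143319 L143359 L152398
theorem L153938 : sm gc N12612 = N13576 := rfl
theorem L153940 : sm ga N13576 = N13576 := ded_10_1 (flp_c L153938) L144998 L153938
theorem L153941 : sm gf N13576 = N12613 := ded_26_2 (flp_c L145004) (flp_f L145001) L153938
theorem L153943 : sm gg N13576 = N13557 := ded_27_2 L153767 L146424 L153938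
theorem L153945 : sm gh N13576 = N13576 := ded_28_2 (flp_c L153938) L145003 L153938
theorem L153946 : sm gb N12613 = N13577 := rfl
theorem L153948 : sm ge N13577 = N13577 := ded_19_2 (flp_b L153946) L145007 L153946
theorem L153949 : sm gg N13577 = N12624 := ded_21_2 (flp_b L145092) (flp_g L145008) L153946
theorem L153951 : sm gh N13577 = N13577 := ded_22_2 (flp_b L153946) L145010 L153946
theorem L153952 : sm gc N13577 = N12628 := ded_17_2 (flp_b L145141) (flp_c L136187) (flp_b L135990) L145004 L153946
theorem L153954 : sm gh N12615 = N13578 := rfl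
theorem L153956 : sm ga N13578 = N13578 := ded_15_1 (flp_h L153954) L145024 L153954
theorem L153957 : sm gc N13578 = N13578 := ded_28_1 (flp_h L153954) L145025 L153954
theorem L153958 : sm ge N13578 = N13467 := ded_37_1 (flp_h L152886) (flp_e L145028) L153954
theorem L153960 : sm gg N13578 = N12617 := ded_42_1 (flp_h L145042) (flp_g L145030) L153954
theorem L153962 : sm gi N13578 = N13465 := ded_44_2 (flp_h L152869) (flp_i L143749) L136015 L145022 L153954
theorem L153964 : sm gh N12616 = N13579 := rfl
theorem L153966 : sm ga N13579 = N13579 := ded_15_1 (flp_h L153964) L145034 L153964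
theorem L153967 : sm gc N13579 = N13579 := ded_28_1 (flp_h L153964) L145035 L153964
theorem L153968 : sm ge N13579 = N13466 := ded_37_1 (flp_h L152875) (flp_e L145036) L153964
theorem L153970 : sm gf N13579 = N12618 := ded_40_1 (flp_h L145048) (flp_f L145038) L153964
theorem L153972 : sm gg N13579 = N13465 := ded_42_1 (flp_h L152869) (flp_g L145040) L153964
theorem L153974 : sm gi N13579 = N12617 := ded_44_2 (flp_h L145042) (flp_i L136027) L136017 L145032 L153964
theorem L153976 : sm gd N12618 = N13580 := rfl
theorem L153978 : sm ga N13580 = N13580 := ded_11_1 (flp_d L153976) L145050 L153976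
theorem L153979 : sm gi N13580 = N12619 := ded_34_2 (flp_d L145055) (flp_i L145053) L153976
theorem L153981 : sm gd N12620 = N13581 := rfl
theorem L153983 : sm ga N13581 = N13581 := ded_11_1 (flp_d L153981) L145062 L153981
theorem L153984 : sm gg N13581 = N12621 := ded_32_2 (flp_d L145069) (flp_g L145067) L153981
theorem L153986 : sm gc N13581 = N13400 := ded_24_1 L152291 L144813 L137248 (flp_c L145063) L153981
theorem L153988 : sm ge N13581 = N13058 := ded_30_2 (flp_d L149185) L145139 (flp_d L145129) (flp_e L145065) L153981
theorem L153990 : sm gb N12622 = N13582 := rfl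
theorem L153992 : sm gd N13582 = N12624 := ded_18_2 (flp_b L145092) (flp_d L145083) L153990
theorem L153994 : sm gf N13582 = N13246 := ded_20_2 L151020 (flp_f L145081) L153990
theorem L153996 : sm gc N12629 = N13583 := rfl
theorem L153998 : sm ga N13583 = N12685 := ded_10_1 (flp_c L145589) (flp_a L145149) L153996
theorem L154000 : sm gh N13583 = N13130 := ded_28_2 (flp_c L149974) (flp_h L145152) L153996
theorem L154002 : sm gd N13583 = N12631 := ded_24_2 (flp_c L145162) (flp_d L136232) (flp_c L136229) L145147 L153996
theorem L154004 : sm ge N12629 = N13584 := rfl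
theorem L154006 : sm ga N13584 = N12686 := ded_12_1 (flp_e L145595) (flp_a L145149) L154004
theorem L154008 : sm gb N13584 = N13584 := ded_19_1 (flp_e L154004) L145151 L154004
theorem L154009 : sm gh N13584 = N13131 := ded_37_2 (flp_e L149980) (flp_h L145152) L154004
theorem L154011 : sm gd N13584 = N13584 := ded_30_1 (flp_e L154004) (flp_d L145147) L136231 L145147 L154004
theorem L154012 : sm gi N12629 = N13585 := rfl
theorem L154014 : sm ga N13585 = N12687 := ded_16_1 (flp_i L145602) (flp_a L145149) L154012
theorem L154016 : sm gb N13585 = N13585 := ded_23_1 (flp_i L154012) L145151 L154012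
theorem L154017 : sm gd N13585 = N12630 := ded_34_1 (flp_i L145154) L145147 L154012
theorem L154019 : sm gb N12631 = N13586 := rfl
theorem L154021 : sm gh N13586 = N12634 := ded_22_2 (flp_b L145185) (flp_h L145166) L154019
theorem L154023 : sm gc N13586 = N12657 := ded_17_2 (flp_b L145399) (flp_c L136375) (flp_b L136236) L145162 L154019
theorem L154025 : sm ge N12631 = N13587 := rfl
theorem L154027 : sm ga N13587 = N12688 := ded_12_1 (flp_e L145608) (flp_a L145164) L154025
theorem L154029 : sm gc N13587 = N12632 := ded_25_1 (flp_e L145168) L145162 L154025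
theorem L154031 : sm gh N13587 = N12635 := ded_37_2 (flp_e L145191) (flp_h L145166) L154025
theorem L154033 : sm gi N12631 = N13588 := rfl
theorem L154035 : sm ga N13588 = N12689 := ded_16_1 (flp_i L145614) (flp_a L145164) L154033
theorem L154037 : sm gc N13588 = N12633 := ded_29_1 (flp_i L145177) L145162 L154033
theorem L154039 : sm gi N12632 = N13589 := rfl
theorem L154041 : sm ga N13589 = N12691 := ded_16_1 (flp_i L145625) (flp_a L145170) L154039
theorem L154043 : sm gb N13589 = N12659 := ded_23_1 (flp_i L145411) (flp_b L145172) L154039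
theorem L154045 : sm gd N13589 = N13589 := ded_34_1 (flp_i L154039) L145176 L154039
theorem L154046 : sm ge N13589 = N12633 := ded_38_1 (flp_i L145177) L145168 L154039
theorem L154048 : sm gh N12633 = N13590 := rfl
theorem L154050 : sm ga N13590 = N12692 := ded_15_1 (flp_h L145632) (flp_a L145179) L154048
theorem L154052 : sm gb N13590 = N12660 := ded_22_1 (flp_h L145418) (flp_b L145181) L154048
theorem L154054 : sm gi N13590 = N12639 := ded_44_2 (flp_h L145223) (flp_i L136261) (flp_h L136238) L145177 L154048
theorem L154056 : sm ge N12634 = N13591 := rfl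
theorem L154058 : sm gb N13591 = N12635 := ded_19_1 (flp_e L145191) L145185 L154056
theorem L154060 : sm gc N13591 = N12661 := ded_25_1 (flp_e L145424) (flp_c L145189) L154056
theorem L154062 : sm gi N12634 = N13592 := rfl
theorem L154064 : sm gb N13592 = N12636 := ded_23_1 (flp_i L145197) L145185 L154062
theorem L154066 : sm gc N13592 = N12662 := ded_29_1 (flp_i L145429) (flp_c L145189) L154062
theorem L154068 : sm gd N13592 = N13154 := ded_34_1 (flp_i L150187) (flp_d L145187) L154062
theorem L154070 : sm gd N12635 = N13593 := rfl
theorem L154072 : sm ga N13593 = N12693 := ded_11_1 (flp_d L145638) (flp_a L145193) L154070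
theorem L154074 : sm gc N13593 = N12640 := ded_24_1 (flp_d L145229) L136274 (flp_d L136259) (flp_c L145195) L154070
theorem L154076 : sm ge N13593 = N13155 := ded_30_2 (flp_d L150193) (flp_e L141032) (flp_d L136251) L145191 L154070
theorem L154078 : sm gf N12635 = N13594 := rfl
theorem L154080 : sm ga N13594 = N12694 := ded_13_1 (flp_f L145644) (flp_a L145193) L154078
theorem L154082 : sm gc N13594 = N12637 := ded_26_1 (flp_f L145205) (flp_c L145195) L154078
theorem L154084 : sm gi N12635 = N13595 := rfl
theorem L154086 : sm ga N13595 = N12695 := ded_16_1 (flp_i L145648) (flp_a L145193) L154084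
theorem L154088 : sm gc N13595 = N12638 := ded_29_1 (flp_i L145213) (flp_c L145195) L154084
theorem L154090 : sm ge N13595 = N12636 := ded_38_1 (flp_i L145197) L145191 L154084
theorem L154092 : sm gh N12636 = N13596 := rfl
theorem L154094 : sm ga N13596 = N12696 := ded_15_1 (flp_h L145654) (flp_a L145199) L154092
theorem L154096 : sm gc N13596 = N12639 := ded_28_1 (flp_h L145223) (flp_c L145201) L154092
theorem L154098 : sm gi N12637 = N13597 := rfl
theorem L154100 : sm ga N13597 = N12698 := ded_16_1 (flp_i L145664) (flp_a L145207) L154098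
theorem L154102 : sm gb N13597 = N12665 := ded_23_1 (flp_i L145450) (flp_b L145209) L154098
theorem L154104 : sm gd N13597 = N12645 := ded_34_1 (flp_i L145274) (flp_d L145211) L154098
theorem L154106 : sm gf N13597 = N12638 := ded_41_1 (flp_i L145213) L145205 L154098
theorem L154108 : sm gh N12638 = N13598 := rfl
theorem L154110 : sm ga N13598 = N12699 := ded_15_1 (flp_h L145672) (flp_a L145215) L154108
theorem L154112 : sm gb N13598 = N12666 := ded_22_1 (flp_h L145458) (flp_b L145217) L154108
theorem L154114 : sm ge N13598 = N12639 := ded_37_1 (flp_h L145223) (flp_e L145221) L154108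
theorem L154116 : sm gf N12640 = N13599 := rfl
theorem L154118 : sm ga N13599 = N12700 := ded_13_1 (flp_f L145678) (flp_a L145231) L154116
theorem L154120 : sm gb N13599 = N13599 := ded_20_1 (flp_f L154116) L145233 L154116
theorem L154121 : sm gd N13599 = N12641 := ded_31_1 (flp_f L145236) L145229 L154116
theorem L154123 : sm gh N12640 = N13600 := rfl
theorem L154125 : sm ga N13600 = N12701 := ded_15_1 (flp_h L145684) (flp_a L145231) L154123
theorem L154127 : sm gb N13600 = N13600 := ded_22_1 (flp_h L154123) L145233 L154123
theorem L154128 : sm ge N13600 = N13168 := ded_37_1 (flp_h L150304) (flp_e L145234) L154123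
theorem L154130 : sm gd N13600 = N13600 := ded_33_1 (flp_h L154123) (flp_d L145229) L136276 L145229 L154123
theorem L154131 : sm gi N12640 = N13601 := rfl
theorem L154133 : sm ga N13601 = N12702 := ded_16_1 (flp_i L145691) (flp_a L145231) L154131
theorem L154135 : sm gb N13601 = N13601 := ded_23_1 (flp_i L154131) L145233 L154131
theorem L154136 : sm gd N13601 = N12642 := ded_34_1 (flp_i L145246) L145229 L154131
theorem L154138 : sm ge N13601 = N13169 := ded_38_1 (flp_i L150311) (flp_e L145234) L154131
theorem L154140 : sm gg N12641 = N13602 := rfl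
theorem L154142 : sm ga N13602 = N12703 := ded_14_1 (flp_g L145699) (flp_a L145238) L154140
theorem L154144 : sm gb N13602 = N13602 := ded_21_1 (flp_g L154140) L145240 L154140
theorem L154145 : sm gc N13602 = N12644 := ded_27_1 (flp_g L145265) (flp_c L145241) L154140
theorem L154147 : sm ge N13602 = N12650 := ded_36_1 (flp_g L145327) (flp_e L145244) L154140
theorem L154149 : sm gh N13602 = N13602 := ded_42_2 (flp_g L154140) L145243 L154140
theorem L154150 : sm gi N12641 = N13603 := rfl
theorem L154152 : sm ga N13603 = N12704 := ded_16_1 (flp_i L145708) (flp_a L145238) L154150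
theorem L154154 : sm gb N13603 = N13603 := ded_23_1 (flp_i L154150) L145240 L154150
theorem L154155 : sm gc N13603 = N12645 := ded_29_1 (flp_i L145274) (flp_c L145241) L154150
theorem L154157 : sm ge N13603 = N12651 := ded_38_1 (flp_i L145336) (flp_e L145244) L154150
theorem L154159 : sm gf N13603 = N12642 := ded_41_1 (flp_i L145246) L145236 L154150
theorem L154161 : sm gh N12642 = N13604 := rfl
theorem L154163 : sm ga N13604 = N12705 := ded_15_1 (flp_h L145718) (flp_a L145248) L154161
theorem L154165 : sm gb N13604 = N13604 := ded_22_1 (flp_h L154161) L145250 L154161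
theorem L154166 : sm gc N13604 = N12646 := ded_28_1 (flp_h L145284) (flp_c L145251) L154161
theorem L154168 : sm ge N13604 = N12643 := ded_37_1 (flp_h L145255) (flp_e L145253) L154161
theorem L154170 : sm gi N13604 = N13604 := ded_44_2 (flp_h L154161) (flp_i L145246) L136276 L145246 L154161
theorem L154171 : sm gd N12643 = N13605 := rfl
theorem L154173 : sm ga N13605 = N12706 := ded_11_1 (flp_d L145727) (flp_a L145257) L154171
theorem L154175 : sm gb N13605 = N13605 := ded_18_1 (flp_d L154171) L145259 L154171
theorem L154176 : sm gf N13605 = N12653 := ded_31_2 (flp_d L145358) (flp_f L145262) L154171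
theorem L154178 : sm gg N13605 = N13526 := ded_32_2 L153514 L152462 L154171
theorem L154180 : sm gi N13605 = N13605 := ded_34_2 (flp_d L154171) L145264 L154171
theorem L154181 : sm gc N13605 = N13522 := ded_24_1 L153482 L146890 L137818 (flp_c L145260) L154171
theorem L154183 : sm gh N13605 = N13173 := ded_33_2 (flp_d L150353) (flp_h L141137) (flp_d L136284) L145255 L154171
theorem L154185 : sm gi N12644 = N13606 := rfl
theorem L154187 : sm ga N13606 = N12707 := ded_16_1 (flp_i L145736) (flp_a L145267) L154185
theorem L154189 : sm gb N13606 = N12667 := ded_23_1 (flp_i L145464) (flp_b L145269) L154185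
theorem L154191 : sm ge N13606 = N12654 := ded_38_1 (flp_i L145369) (flp_e L145271) L154185
theorem L154193 : sm gg N13606 = N12645 := ded_43_1 (flp_i L145274) L145265 L154185
theorem L154195 : sm gh N12645 = N13607 := rfl
theorem L154197 : sm ga N13607 = N12708 := ded_15_1 (flp_h L145744) (flp_a L145276) L154195
theorem L154199 : sm gb N13607 = N12668 := ded_22_1 (flp_h L145473) (flp_b L145278) L154195
theorem L154201 : sm ge N13607 = N12655 := ded_37_1 (flp_h L145378) (flp_e L145280) L154195
theorem L154203 : sm gf N13607 = N12646 := ded_40_1 (flp_h L145284) (flp_f L145282) L154195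
theorem L154205 : sm gi N13607 = N13607 := ded_44_2 (flp_h L154195) (flp_i L145274) L136294 L145274 L154195
theorem L154206 : sm gd N12646 = N13608 := rfl
theorem L154208 : sm ga N13608 = N12709 := ded_11_1 (flp_d L145753) (flp_a L145286) L154206
theorem L154210 : sm gb N13608 = N12669 := ded_18_1 (flp_d L145483) (flp_b L145288) L154206
theorem L154212 : sm gi N13608 = N13608 := ded_34_2 (flp_d L154206) L145292 L154206
theorem L154213 : sm ge N12647 = N13609 := rfl
theorem L154215 : sm ga N13609 = N12710 := ded_12_1 (flp_e L145758) (flp_a L145295) L154213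
theorem L154217 : sm gb N13609 = N13609 := ded_19_1 (flp_e L154213) L145297 L154213
theorem L154218 : sm gf N13609 = N13177 := ded_35_2 (flp_e L150400) (flp_f L141182) (flp_e L136320) L145293 L154213
theorem L154220 : sm gg N12647 = N13610 := rfl
theorem L154222 : sm ga N13610 = N12711 := ded_14_1 (flp_g L145764) (flp_a L145295) L154220
theorem L154224 : sm gb N13610 = N13610 := ded_21_1 (flp_g L154220) L145297 L154220
theorem L154225 : sm gd N13610 = N12650 := ded_32_1 (flp_g L145327) (flp_d L145298) L154220
theorem L154227 : sm gf N13610 = N13610 := ded_39_1 (flp_g L154220) (flp_f L145293) L136319 L145293 L154220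
theorem L154228 : sm gh N12647 = N13611 := rfl
theorem L154230 : sm ga N13611 = N12712 := ded_15_1 (flp_h L145771) (flp_a L145295) L154228
theorem L154232 : sm gb N13611 = N13611 := ded_22_1 (flp_h L154228) L145297 L154228
theorem L154233 : sm gc N13611 = N13356 := ded_28_1 (flp_h L151896) L149706 L154228
theorem L154235 : sm gf N13611 = N12648 := ded_40_1 (flp_h L145300) L145293 L154228
theorem L154237 : sm gd N13611 = N13611 := ded_33_1 (flp_h L154228) L145298 L136329 (flp_d L145298) L154228
theorem L154238 : sm gi N12977 = N13611 := ded_29_0 L154233 (flp_i L151886) (flp_c L148328)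
theorem L154240 : sm gi N12647 = N13612 := rfl
theorem L154242 : sm ga N13612 = N12713 := ded_16_1 (flp_i L145778) (flp_a L145295) L154240
theorem L154244 : sm gb N13612 = N13612 := ded_23_1 (flp_i L154240) L145297 L154240
theorem L154245 : sm gc N13612 = N13357 := ded_29_1 L151906 L149706 L154240
theorem L154247 : sm gd N13612 = N12651 := ded_34_1 (flp_i L145336) (flp_d L145298) L154240
theorem L154249 : sm gf N13612 = N12649 := ded_41_1 (flp_i L145313) L145293 L154240
theorem L154251 : sm gh N13612 = N12978 := ded_44_1 (flp_i L148333) L148325 L154238 (flp_h L154228) L154240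
theorem L154253 : sm gi N12650 = N13613 := rfl
theorem L154255 : sm ga N13613 = N12716 := ded_16_1 (flp_i L145815) (flp_a L145329) L154253
theorem L154257 : sm gb N13613 = N13613 := ded_23_1 (flp_i L154253) L145331 L154253
theorem L154258 : sm gc N13613 = N12654 := ded_29_1 (flp_i L145369) (flp_c L145332) L154253
theorem L154260 : sm gf N13613 = N13613 := ded_41_1 (flp_i L154253) L145335 L154253
theorem L154261 : sm gg N13613 = N12651 := ded_43_1 (flp_i L145336) L145327 L154253
theorem L154263 : sm gh N12651 = N13614 := rfl
theorem L154265 : sm ga N13614 = N12717 := ded_15_1 (flp_h L145824) (flp_a L145338) L154263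
theorem L154267 : sm gb N13614 = N13614 := ded_22_1 (flp_h L154263) L145340 L154263
theorem L154268 : sm gc N13614 = N12655 := ded_28_1 (flp_h L145378) (flp_c L145341) L154263
theorem L154270 : sm gf N13614 = N12652 := ded_40_1 (flp_h L145345) (flp_f L145343) L154263
theorem L154272 : sm gd N13614 = N12980 := ded_33_1 (flp_h L148350) (flp_d L148338) (flp_h L154251) L154247 L154263
theorem L154274 : sm gi N13614 = N13614 := ded_44_2 (flp_h L154263) (flp_i L145336) L136329 L145336 L154263
theorem L154275 : sm gh N12654 = N13615 := rfl
theorem L154277 : sm ga N13615 = N12720 := ded_15_1 (flp_h L145861) (flp_a L145371) L154275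
theorem L154279 : sm gb N13615 = N12670 := ded_22_1 (flp_h L145488) (flp_b L145373) L154275
theorem L154281 : sm gf N13615 = N13615 := ded_40_1 (flp_h L154275) L145375 L154275
theorem L154282 : sm gg N13615 = N12655 := ded_42_1 (flp_h L145378) (flp_g L145376) L154275
theorem L154284 : sm gi N13615 = N13615 := ded_44_2 (flp_h L154275) (flp_i L145369) L136355 L145369 L154275
theorem L154285 : sm gd N12655 = N13616 := rfl
theorem L154287 : sm ga N13616 = N12721 := ded_11_1 (flp_d L145869) (flp_a L145380) L154285
theorem L154289 : sm gb N13616 = N12671 := ded_18_1 (flp_d L145497) (flp_b L145382) L154285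
theorem L154291 : sm gf N13616 = N12656 := ded_31_2 (flp_d L145387) (flp_f L145384) L154285
theorem L154293 : sm gi N13616 = N13616 := ded_34_2 (flp_d L154285) L145386 L154285
theorem L154294 : sm gc N13616 = N12982 := ded_24_1 (flp_d L148366) (flp_c L148353) (flp_d L154272) L154268 L154285
theorem L154296 : sm gh N13616 = N13360 := ded_33_2 L151951 (flp_h L149718) L140605 L145378 L154285
theorem L154298 : sm gi N12657 = N13617 := rfl
theorem L154300 : sm gb N13617 = N12658 := ded_23_1 (flp_i L145404) L145399 L154298
theorem L154302 : sm gd N13617 = N13617 := ded_34_1 (flp_i L154298) L145401 L154298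
theorem L154303 : sm gh N12658 = N13618 := rfl
theorem L154305 : sm ga N13618 = N12675 := ded_15_1 (flp_h L145528) (flp_a L145406) L154303
theorem L154307 : sm gc N13618 = N12660 := ded_28_1 (flp_h L145418) (flp_c L145408) L154303
theorem L154309 : sm gi N13618 = N12664 := ded_44_2 (flp_h L145444) (flp_i L136406) (flp_h L136379) L145404 L154303
theorem L154311 : sm gh N12659 = N13619 := rfl
theorem L154313 : sm ga N13619 = N12676 := ded_15_1 (flp_h L145534) (flp_a L145413) L154311
theorem L154315 : sm ge N13619 = N12660 := ded_37_1 (flp_h L145418) (flp_e L145416) L154311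
theorem L154317 : sm gi N13619 = N12666 := ded_44_2 (flp_h L145458) (flp_i L136420) (flp_h L136386) L145411 L154311
theorem L154319 : sm gi N12661 = N13620 := rfl
theorem L154321 : sm gb N13620 = N12663 := ded_23_1 (flp_i L145435) (flp_b L145426) L154319
theorem L154323 : sm gd N13620 = N13620 := ded_34_1 (flp_i L154319) L145428 L154319
theorem L154324 : sm ge N13620 = N12662 := ded_38_1 (flp_i L145429) L145424 L154319
theorem L154326 : sm gh N12662 = N13621 := rfl
theorem L154328 : sm gb N13621 = N12664 := ded_22_1 (flp_h L145444) (flp_b L145431) L154326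
theorem L154330 : sm gh N12663 = N13622 := rfl
theorem L154332 : sm ga N13622 = N12677 := ded_15_1 (flp_h L145542) (flp_a L145437) L154330
theorem L154334 : sm gc N13622 = N12666 := ded_28_1 (flp_h L145458) (flp_c L145439) L154330
theorem L154336 : sm ge N13622 = N12664 := ded_37_1 (flp_h L145444) (flp_e L145442) L154330
theorem L154338 : sm gd N12664 = N13623 := rfl
theorem L154340 : sm ga N13623 = N12678 := ded_11_1 (flp_d L145548) (flp_a L145446) L154338
theorem L154342 : sm gh N13623 = N12674 := ded_33_2 (flp_d L145523) (flp_h L136486) (flp_d L136412) L145444 L154338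
theorem L154344 : sm gh N12665 = N13624 := rfl
theorem L154346 : sm ga N13624 = N12679 := ded_15_1 (flp_h L145552) (flp_a L145452) L154344
theorem L154348 : sm gf N13624 = N12666 := ded_40_1 (flp_h L145458) (flp_f L145456) L154344
theorem L154350 : sm gd N12666 = N13625 := rfl
theorem L154352 : sm ga N13625 = N12680 := ded_11_1 (flp_d L145558) (flp_a L145460) L154350
theorem L154354 : sm gh N13625 = N12669 := ded_33_2 (flp_d L145483) (flp_h L136449) (flp_d L136424) L145458 L154350
theorem L154356 : sm gh N12667 = N13626 := rfl
theorem L154358 : sm ga N13626 = N12681 := ded_15_1 (flp_h L145564) (flp_a L145466) L154356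
theorem L154360 : sm gc N13626 = N13626 := ded_28_1 (flp_h L154356) L145468 L154356
theorem L154361 : sm ge N13626 = N12670 := ded_37_1 (flp_h L145488) (flp_e L145469) L154356
theorem L154363 : sm gg N13626 = N12668 := ded_42_1 (flp_h L145473) (flp_g L145471) L154356
theorem L154365 : sm gi N13626 = N13626 := ded_44_2 (flp_h L154356) (flp_i L145464) L136439 L145464 L154356
theorem L154366 : sm gd N12668 = N13627 := rfl
theorem L154368 : sm ga N13627 = N12682 := ded_11_1 (flp_d L145574) (flp_a L145475) L154366
theorem L154370 : sm gf N13627 = N12669 := ded_31_2 (flp_d L145483) (flp_f L145480) L154366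
theorem L154372 : sm gi N13627 = N13627 := ded_34_2 (flp_d L154366) L145482 L154366
theorem L154373 : sm gc N12669 = N13628 := rfl
theorem L154375 : sm ga N13628 = N12683 := ded_10_1 (flp_c L145581) (flp_a L145485) L154373
theorem L154377 : sm gi N13628 = N13628 := ded_29_2 (flp_c L154373) L145487 L154373
theorem L154378 : sm gd N13628 = N13628 := ded_24_2 (flp_c L154373) (flp_d L145483) L136453 L145483 L154373
theorem L154379 : sm gd N12673 = N13629 := rfl
theorem L154381 : sm gb N13629 = N12674 := ded_18_1 (flp_d L145523) (flp_b L145517) L154379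
theorem L154383 : sm gi N13629 = N13629 := ded_34_2 (flp_d L154379) L145522 L154379
theorem L154384 : sm ge N12674 = N13630 := rfl
theorem L154386 : sm ga N13630 = N12684 := ded_12_1 (flp_e L145585) (flp_a L145525) L154384
theorem L154388 : sm gi N13630 = N13630 := ded_38_2 (flp_e L154384) L145527 L154384
theorem L154389 : sm gd N13630 = N13630 := ded_30_1 (flp_e L154384) (flp_d L145523) L136492 L145523 L154384
theorem L154390 : sm gd N12675 = N13631 := rfl
theorem L154392 : sm gi N13631 = N12678 := ded_34_2 (flp_d L145548) (flp_i L145532) L154390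
theorem L154394 : sm gh N13631 = N13631 := ded_33_2 (flp_d L154390) (flp_h L145528) L136498 L145528 L154390
theorem L154395 : sm gd N12676 = N13632 := rfl
theorem L154397 : sm gb N13632 = N12736 := ded_18_1 (flp_d L145992) (flp_b L145536) L154395
theorem L154399 : sm gi N13632 = N12680 := ded_34_2 (flp_d L145558) (flp_i L145540) L154395
theorem L154401 : sm gh N13632 = N13632 := ded_33_2 (flp_d L154395) (flp_h L145534) L136503 L145534 L154395
theorem L154402 : sm gd N12677 = N13633 := rfl
theorem L154404 : sm gh N13633 = N13633 := ded_33_2 (flp_d L154402) (flp_h L145542) L136516 L145542 L154402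
theorem L154405 : sm ge N12678 = N13634 := rfl
theorem L154407 : sm gh N13634 = N12684 := ded_37_2 (flp_e L145585) (flp_h L145550) L154405
theorem L154409 : sm gd N12679 = N13635 := rfl
theorem L154411 : sm gb N13635 = N12738 := ded_18_1 (flp_d L146001) (flp_b L145554) L154409
theorem L154413 : sm gf N13635 = N12680 := ded_31_2 (flp_d L145558) (flp_f L145556) L154409
theorem L154415 : sm gh N13635 = N12682 := ded_33_2 (flp_d L145574) (flp_h L136546) (flp_d L136527) L145552 L154409
theorem L154417 : sm gc N12680 = N13636 := rfl
theorem L154419 : sm gh N13636 = N12683 := ded_28_2 (flp_c L145581) (flp_h L145562) L154417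
theorem L154421 : sm gb N12683 = N13637 := rfl
theorem L154423 : sm gd N13637 = N13637 := ded_18_2 (flp_b L154421) L145584 L154421
theorem L154424 : sm gf N13637 = N12684 := ded_20_2 (flp_b L150991) L150999 L154421
theorem L154426 : sm gi N13637 = N13637 := ded_23_2 (flp_b L154421) L145583 L154421
theorem L154427 : sm gc N13637 = N12743 := ded_17_2 (flp_b L146028) (flp_c L136904) (flp_b L136558) L145581 L154421
theorem L154429 : sm ge N12685 = N13638 := rfl
theorem L154431 : sm gc N13638 = N12686 := ded_25_1 (flp_e L145595) L145589 L154429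
theorem L154433 : sm gh N13638 = N13290 := ded_37_2 (flp_e L151382) (flp_h L145591) L154429
theorem L154435 : sm gi N12685 = N13639 := rfl
theorem L154437 : sm gc N13639 = N12687 := ded_29_1 (flp_i L145602) L145589 L154435
theorem L154439 : sm gd N13639 = N12689 := ded_34_1 (flp_i L145614) (flp_d L145593) L154435
theorem L154441 : sm gf N12686 = N13640 := rfl
theorem L154443 : sm gb N13640 = N12745 := ded_20_1 (flp_f L146049) (flp_b L145597) L154441
theorem L154445 : sm gd N13640 = N13640 := ded_31_1 (flp_f L154441) L145601 L154441
theorem L154446 : sm gh N13640 = N13292 := ded_40_2 (flp_f L151392) (flp_h L145599) L154441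
theorem L154448 : sm ge N13640 = N13582 := ded_35_1 L153994 (flp_e L151016) L141893 L145595 L154441
theorem L154450 : sm gi N12686 = N13641 := rfl
theorem L154452 : sm gb N13641 = N12746 := ded_23_1 (flp_i L146059) (flp_b L145597) L154450
theorem L154454 : sm gd N13641 = N13641 := ded_34_1 (flp_i L154450) L145601 L154450
theorem L154455 : sm ge N13641 = N12687 := ded_38_1 (flp_i L145602) L145595 L154450
theorem L154457 : sm gh N12687 = N13642 := rfl
theorem L154459 : sm gb N13642 = N12747 := ded_22_1 (flp_h L146065) (flp_b L145604) L154457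
theorem L154461 : sm gi N13642 = N13294 := ded_44_2 (flp_h L151406) (flp_i L142337) (flp_h L136589) L145602 L154457
theorem L154463 : sm gd N12688 = N13643 := rfl
theorem L154465 : sm gc N13643 = N13643 := ded_24_1 (flp_d L154463) L145610 L136608 (flp_c L145610) L154463
theorem L154466 : sm gf N12688 = N13644 := rfl
theorem L154468 : sm gc N13644 = N12690 := ded_26_1 (flp_f L145618) (flp_c L145610) L154466
theorem L154470 : sm gh N13644 = N12694 := ded_40_2 (flp_f L145644) (flp_h L145612) L154466
theorem L154472 : sm gi N12688 = N13645 := rfl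
theorem L154474 : sm gc N13645 = N12691 := ded_29_1 (flp_i L145625) (flp_c L145610) L154472
theorem L154476 : sm ge N13645 = N12689 := ded_38_1 (flp_i L145614) L145608 L154472
theorem L154478 : sm gh N12689 = N13646 := rfl
theorem L154480 : sm gc N13646 = N12692 := ded_28_1 (flp_h L145632) (flp_c L145616) L154478
theorem L154482 : sm gi N13646 = N12696 := ded_44_2 (flp_h L145654) (flp_i L136619) (flp_h L136600) L145614 L154478
theorem L154484 : sm gi N12690 = N13647 := rfl
theorem L154486 : sm gb N13647 = N12723 := ded_23_1 (flp_i L145890) (flp_b L145620) L154484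
theorem L154488 : sm gd N13647 = N13647 := ded_34_1 (flp_i L154484) L145622 L154484
theorem L154489 : sm gf N13647 = N12691 := ded_41_1 (flp_i L145625) L145618 L154484
theorem L154491 : sm gh N12691 = N13648 := rfl
theorem L154493 : sm gb N13648 = N12724 := ded_22_1 (flp_h L145897) (flp_b L145627) L154491
theorem L154495 : sm ge N13648 = N12692 := ded_37_1 (flp_h L145632) (flp_e L145630) L154491
theorem L154497 : sm gi N13648 = N12699 := ded_44_2 (flp_h L145672) (flp_i L136631) (flp_h L136606) L145625 L154491
theorem L154499 : sm gf N12693 = N13649 := rfl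
theorem L154501 : sm gc N13649 = N12700 := ded_26_1 (flp_f L145678) (flp_c L145640) L154499
theorem L154503 : sm gd N13649 = N12694 := ded_31_1 (flp_f L145644) L145638 L154499
theorem L154505 : sm gh N12693 = N13650 := rfl
theorem L154507 : sm gc N13650 = N12701 := ded_28_1 (flp_h L145684) (flp_c L145640) L154505
theorem L154509 : sm ge N13650 = N13323 := ded_37_1 (flp_h L151634) (flp_e L145642) L154505
theorem L154511 : sm gi N12693 = N13651 := rfl
theorem L154513 : sm gc N13651 = N12702 := ded_29_1 (flp_i L145691) (flp_c L145640) L154511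
theorem L154515 : sm gd N13651 = N12695 := ded_34_1 (flp_i L145648) L145638 L154511
theorem L154517 : sm ge N13651 = N13324 := ded_38_1 (flp_i L151638) (flp_e L145642) L154511
theorem L154519 : sm gg N12694 = N13652 := rfl
theorem L154521 : sm gc N13652 = N12697 := ded_27_1 (flp_g L145658) (flp_c L145646) L154519
theorem L154523 : sm gi N12694 = N13653 := rfl
theorem L154525 : sm gc N13653 = N12698 := ded_29_1 (flp_i L145664) (flp_c L145646) L154523
theorem L154527 : sm gf N13653 = N12695 := ded_41_1 (flp_i L145648) L145644 L154523
theorem L154529 : sm gh N12695 = N13654 := rfl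
theorem L154531 : sm gc N13654 = N12699 := ded_28_1 (flp_h L145672) (flp_c L145650) L154529
theorem L154533 : sm ge N13654 = N12696 := ded_37_1 (flp_h L145654) (flp_e L145652) L154529
theorem L154535 : sm gd N12696 = N13655 := rfl
theorem L154537 : sm gh N13655 = N13328 := ded_33_2 (flp_d L151660) (flp_h L142505) (flp_d L136623) L145654 L154535
theorem L154539 : sm gi N12697 = N13656 := rfl
theorem L154541 : sm gb N13656 = N12725 := ded_23_1 (flp_i L145905) (flp_b L145660) L154539
theorem L154543 : sm gd N13656 = N12707 := ded_34_1 (flp_i L145736) (flp_d L145662) L154539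
theorem L154545 : sm gg N13656 = N12698 := ded_43_1 (flp_i L145664) L145658 L154539
theorem L154547 : sm gh N12698 = N13657 := rfl
theorem L154549 : sm gb N13657 = N12726 := ded_22_1 (flp_h L145913) (flp_b L145666) L154547
theorem L154551 : sm gf N13657 = N12699 := ded_40_1 (flp_h L145672) (flp_f L145670) L154547
theorem L154553 : sm gd N12699 = N13658 := rfl
theorem L154555 : sm gb N13658 = N12727 := ded_18_1 (flp_d L145919) (flp_b L145674) L154553
theorem L154557 : sm gh N13658 = N12709 := ded_33_2 (flp_d L145753) (flp_h L136690) (flp_d L136635) L145672 L154553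
theorem L154559 : sm ge N12700 = N13659 := rfl
theorem L154561 : sm gb N13659 = N12748 := ded_19_1 (flp_e L146070) (flp_b L145680) L154559
theorem L154563 : sm gd N13659 = N12710 := ded_30_1 (flp_e L145758) L136701 (flp_e L136656) (flp_d L145682) L154559
theorem L154565 : sm gf N13659 = N13341 := ded_35_2 (flp_e L151771) (flp_f L142595) (flp_e L136647) L145678 L154559
theorem L154567 : sm gg N12700 = N13660 := rfl
theorem L154569 : sm gb N13660 = N12749 := ded_21_1 (flp_g L146077) (flp_b L145680) L154567
theorem L154571 : sm gd N13660 = N12703 := ded_32_1 (flp_g L145699) (flp_d L145682) L154567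
theorem L154573 : sm gh N12700 = N13661 := rfl
theorem L154575 : sm gb N13661 = N12750 := ded_22_1 (flp_h L146082) (flp_b L145680) L154573
theorem L154577 : sm gf N13661 = N12701 := ded_40_1 (flp_h L145684) L145678 L154573
theorem L154579 : sm gd N13661 = N13661 := ded_33_1 (flp_h L154573) L145682 L136655 (flp_d L145682) L154573
theorem L154580 : sm gi N12700 = N13662 := rfl
theorem L154582 : sm gb N13662 = N12751 := ded_23_1 (flp_i L146088) (flp_b L145680) L154580
theorem L154584 : sm gd N13662 = N12704 := ded_34_1 (flp_i L145708) (flp_d L145682) L154580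
theorem L154586 : sm gf N13662 = N12702 := ded_41_1 (flp_i L145691) L145678 L154580
theorem L154588 : sm gi N12701 = N13663 := rfl
theorem L154590 : sm gb N13663 = N12752 := ded_23_1 (flp_i L146095) (flp_b L145686) L154588
theorem L154592 : sm gd N13663 = N13663 := ded_34_1 (flp_i L154588) L145690 L154588
theorem L154593 : sm ge N13663 = N13345 := ded_38_1 (flp_i L151805) (flp_e L145688) L154588
theorem L154595 : sm gh N12702 = N13664 := rfl
theorem L154597 : sm gb N13664 = N12753 := ded_22_1 (flp_h L146101) (flp_b L145693) L154595
theorem L154599 : sm ge N13664 = N13346 := ded_37_1 (flp_h L151811) (flp_e L145697) L154595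
theorem L154601 : sm gi N12703 = N13665 := rfl
theorem L154603 : sm gb N13665 = N12754 := ded_23_1 (flp_i L146106) (flp_b L145701) L154601
theorem L154605 : sm gc N13665 = N12707 := ded_29_1 (flp_i L145736) (flp_c L145703) L154601
theorem L154607 : sm ge N13665 = N12716 := ded_38_1 (flp_i L145815) (flp_e L145705) L154601
theorem L154609 : sm gg N13665 = N12704 := ded_43_1 (flp_i L145708) L145699 L154601
theorem L154611 : sm gh N12704 = N13666 := rfl
theorem L154613 : sm gb N13666 = N12755 := ded_22_1 (flp_h L146115) (flp_b L145710) L154611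
theorem L154615 : sm gc N13666 = N12708 := ded_28_1 (flp_h L145744) (flp_c L145712) L154611
theorem L154617 : sm ge N13666 = N12717 := ded_37_1 (flp_h L145824) (flp_e L145714) L154611
theorem L154619 : sm gf N13666 = N12705 := ded_40_1 (flp_h L145718) (flp_f L145716) L154611
theorem L154621 : sm gi N13666 = N13666 := ded_44_2 (flp_h L154611) (flp_i L145708) L136655 L145708 L154611
theorem L154622 : sm gd N12705 = N13667 := rfl
theorem L154624 : sm gb N13667 = N12756 := ded_18_1 (flp_d L146125) (flp_b L145720) L154622
theorem L154626 : sm gi N13667 = N13667 := ded_34_2 (flp_d L154622) L145726 L154622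
theorem L154627 : sm ge N12706 = N13668 := rfl
theorem L154629 : sm gb N13668 = N12757 := ded_19_1 (flp_e L146129) (flp_b L145729) L154627
theorem L154631 : sm gh N13668 = N13350 := ded_37_2 (flp_e L151843) (flp_h L145734) L154627
theorem L154633 : sm gi N13668 = N13668 := ded_38_2 (flp_e L154627) L145733 L154627
theorem L154634 : sm gh N12707 = N13669 := rfl
theorem L154636 : sm gb N13669 = N12728 := ded_22_1 (flp_h L145925) (flp_b L145738) L154634
theorem L154638 : sm ge N13669 = N12720 := ded_37_1 (flp_h L145861) (flp_e L145740) L154634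
theorem L154640 : sm gg N13669 = N12708 := ded_42_1 (flp_h L145744) (flp_g L145742) L154634
theorem L154642 : sm gi N13669 = N13669 := ded_44_2 (flp_h L154634) (flp_i L145736) L136681 L145736 L154634
theorem L154643 : sm gd N12708 = N13670 := rfl
theorem L154645 : sm gb N13670 = N12729 := ded_18_1 (flp_d L145936) (flp_b L145746) L154643
theorem L154647 : sm gf N13670 = N12709 := ded_31_2 (flp_d L145753) (flp_f L145750) L154643
theorem L154649 : sm gi N13670 = N13670 := ded_34_2 (flp_d L154643) L145752 L154643
theorem L154650 : sm gc N12709 = N13671 := rfl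
theorem L154652 : sm gi N13671 = N13671 := ded_29_2 (flp_c L154650) L145757 L154650
theorem L154653 : sm gi N12710 = N13672 := rfl
theorem L154655 : sm gb N13672 = N12761 := ded_23_1 (flp_i L146159) (flp_b L145760) L154653
theorem L154657 : sm ge N13672 = N12713 := ded_38_1 (flp_i L145778) L145758 L154653
theorem L154659 : sm gf N13672 = N13354 := ded_41_1 (flp_i L151871) (flp_f L145762) L154653
theorem L154661 : sm gi N12711 = N13673 := rfl
theorem L154663 : sm gb N13673 = N12762 := ded_23_1 (flp_i L146167) (flp_b L145766) L154661
theorem L154665 : sm gd N13673 = N12716 := ded_34_1 (flp_i L145815) (flp_d L145768) L154661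
theorem L154667 : sm gf N13673 = N13673 := ded_41_1 (flp_i L154661) L145770 L154661
theorem L154668 : sm gg N13673 = N12713 := ded_43_1 (flp_i L145778) L145764 L154661
theorem L154670 : sm gi N12712 = N13674 := rfl
theorem L154672 : sm ga N13674 = N12977 := ded_16_1 L154238 L154230 L154670
theorem L154674 : sm gb N13674 = N12763 := ded_23_1 (flp_i L146176) (flp_b L145773) L154670
theorem L154676 : sm gc N13674 = N13179 := ded_29_1 L151203 L151197 L154670
theorem L154678 : sm gd N13674 = N13674 := ded_34_1 (flp_i L154670) L145777 L154670
theorem L154679 : sm gf N13674 = N12714 := ded_41_1 (flp_i L145786) (flp_f L145775) L154670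
theorem L154681 : sm gh N12835 = N13674 := ded_15_0 L154672 (flp_h L148325) (flp_a L146927)
theorem L154683 : sm gh N12713 = N13675 := rfl
theorem L154685 : sm ga N13675 = N12978 := ded_15_1 (flp_h L154251) L154242 L154683
theorem L154687 : sm gb N13675 = N12764 := ded_22_1 (flp_h L146183) (flp_b L145780) L154683
theorem L154689 : sm gc N13675 = N13180 := ded_28_1 (flp_h L151214) L151208 L154683
theorem L154691 : sm gf N13675 = N12715 := ded_40_1 (flp_h L145800) (flp_f L145784) L154683
theorem L154693 : sm gi N13675 = N12835 := ded_44_2 L154681 (flp_i L154670) (flp_h L145771) L145778 L154683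
theorem L154695 : sm gd N12837 = N13675 := ded_11_0 L154685 L148338 (flp_a L146943)
theorem L154697 : sm gh N12716 = N13676 := rfl
theorem L154699 : sm gb N13676 = N12767 := ded_22_1 (flp_h L146216) (flp_b L145817) L154697
theorem L154701 : sm gc N13676 = N12720 := ded_28_1 (flp_h L145861) (flp_c L145819) L154697
theorem L154703 : sm gf N13676 = N13676 := ded_40_1 (flp_h L154697) L145821 L154697
theorem L154704 : sm gg N13676 = N12717 := ded_42_1 (flp_h L145824) (flp_g L145822) L154697
theorem L154706 : sm gi N13676 = N13676 := ded_44_2 (flp_h L154697) (flp_i L145815) L136726 L145815 L154697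
theorem L154707 : sm gd N12717 = N13677 := rfl
theorem L154709 : sm ga N13677 = N12980 := ded_11_1 (flp_d L154272) L154265 L154707
theorem L154711 : sm gb N13677 = N12768 := ded_18_1 (flp_d L146225) (flp_b L145826) L154707
theorem L154713 : sm gf N13677 = N12718 := ded_31_2 (flp_d L145833) (flp_f L145830) L154707
theorem L154715 : sm gi N13677 = N13677 := ded_34_2 (flp_d L154707) L145832 L154707
theorem L154716 : sm gh N13677 = N12837 := ded_33_2 L154695 (flp_h L154683) L145782 L145824 L154707
theorem L154718 : sm gc N12839 = N13677 := ded_10_0 L154709 L148353 (flp_a L146962)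
theorem L154720 : sm gd N12720 = N13678 := rfl
theorem L154722 : sm gb N13678 = N12731 := ded_18_1 (flp_d L145950) (flp_b L145863) L154720
theorem L154724 : sm gf N13678 = N13678 := ded_31_2 (flp_d L154720) L145865 L154720
theorem L154725 : sm gg N13678 = N12721 := ded_32_2 (flp_d L145869) (flp_g L145866) L154720
theorem L154727 : sm gi N13678 = N13678 := ded_34_2 (flp_d L154720) L145868 L154720
theorem L154728 : sm gc N12721 = N13679 := rfl
theorem L154730 : sm ga N13679 = N12982 := ded_10_1 (flp_c L154294) L154287 L154728
theorem L154732 : sm gf N13679 = N12722 := ded_26_2 (flp_c L145876) (flp_f L145873) L154728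
theorem L154734 : sm gh N13679 = N13184 := ded_28_2 (flp_c L151252) L151254 L154728
theorem L154736 : sm gi N13679 = N13679 := ded_29_2 (flp_c L154728) L145875 L154728
theorem L154737 : sm gd N13679 = N12839 := ded_24_2 L154718 (flp_d L154707) L145828 L145869 L154728
theorem L154739 : sm gb N12872 = N13679 := ded_9_0 L154730 L148368 L139418 (flp_b L138554) (flp_a L147318)
theorem L154741 : sm ge N12721 = N13680 := rfl
theorem L154743 : sm gb N13680 = N12733 := ded_19_1 (flp_e L145967) (flp_b L145871) L154741
theorem L154745 : sm gi N13680 = N13680 := ded_38_2 (flp_e L154741) L145875 L154741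
theorem L154746 : sm gh N12723 = N13681 := rfl
theorem L154748 : sm ga N13681 = N12735 := ded_15_1 (flp_h L145986) (flp_a L145892) L154746
theorem L154750 : sm gf N13681 = N12724 := ded_40_1 (flp_h L145897) (flp_f L145895) L154746
theorem L154752 : sm gi N13681 = N12726 := ded_44_2 (flp_h L145913) (flp_i L136800) (flp_h L136779) L145890 L154746
theorem L154754 : sm gd N12724 = N13682 := rfl
theorem L154756 : sm ga N13682 = N12736 := ded_11_1 (flp_d L145992) (flp_a L145899) L154754
theorem L154758 : sm gi N13682 = N12727 := ded_34_2 (flp_d L145919) (flp_i L145903) L154754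
theorem L154760 : sm gh N13682 = N13682 := ded_33_2 (flp_d L154754) (flp_h L145897) L136785 L145897 L154754
theorem L154761 : sm gh N12725 = N13683 := rfl
theorem L154763 : sm ga N13683 = N12737 := ded_15_1 (flp_h L145997) (flp_a L145907) L154761
theorem L154765 : sm gg N13683 = N12726 := ded_42_1 (flp_h L145913) (flp_g L145911) L154761
theorem L154767 : sm gd N12726 = N13684 := rfl
theorem L154769 : sm ga N13684 = N12738 := ded_11_1 (flp_d L146001) (flp_a L145915) L154767
theorem L154771 : sm gf N13684 = N12727 := ded_31_2 (flp_d L145919) (flp_f L145917) L154767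
theorem L154773 : sm gh N13684 = N12729 := ded_33_2 (flp_d L145936) (flp_h L136824) (flp_d L136804) L145913 L154767
theorem L154775 : sm gc N12727 = N13685 := rfl
theorem L154777 : sm ga N13685 = N12739 := ded_10_1 (flp_c L146007) (flp_a L145921) L154775
theorem L154779 : sm gh N13685 = N12730 := ded_28_2 (flp_c L145943) (flp_h L145923) L154775
theorem L154781 : sm gd N12728 = N13686 := rfl
theorem L154783 : sm ga N13686 = N12740 := ded_11_1 (flp_d L146011) (flp_a L145927) L154781
theorem L154785 : sm gg N13686 = N12729 := ded_32_2 (flp_d L145936) (flp_g L145933) L154781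
theorem L154787 : sm gi N13686 = N13686 := ded_34_2 (flp_d L154781) L145935 L154781
theorem L154788 : sm gc N12729 = N13687 := rfl
theorem L154790 : sm ga N13687 = N12741 := ded_10_1 (flp_c L146016) (flp_a L145938) L154788
theorem L154792 : sm gf N13687 = N12730 := ded_26_2 (flp_c L145943) (flp_f L145940) L154788
theorem L154794 : sm gi N13687 = N13687 := ded_29_2 (flp_c L154788) L145942 L154788
theorem L154795 : sm gd N13687 = N12776 := ded_24_2 (flp_c L146301) (flp_d L137126) (flp_c L136828) L145936 L154788
theorem L154797 : sm ge N12729 = N13688 := rfl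
theorem L154799 : sm ga N13688 = N12742 := ded_12_1 (flp_e L146023) (flp_a L145938) L154797
theorem L154801 : sm gi N13688 = N13688 := ded_38_2 (flp_e L154797) L145942 L154797
theorem L154802 : sm gd N13688 = N12733 := ded_30_1 (flp_e L145967) (flp_d L136850) (flp_e L136830) L145936 L154797
theorem L154804 : sm gb N12730 = N13689 := rfl
theorem L154806 : sm gd N13689 = N12778 := ded_18_2 (flp_b L146316) (flp_d L145948) L154804
theorem L154808 : sm gi N13689 = N13689 := ded_23_2 (flp_b L154804) L145947 L154804
theorem L154809 : sm gb N12732 = N13690 := rfl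
theorem L154811 : sm gd N13690 = N12781 := ded_18_2 (flp_b L146347) (flp_d L145965) L154809
theorem L154813 : sm ge N13690 = N12919 := ded_19_2 L147860 L147373 L154809
theorem L154815 : sm gf N13690 = N12734 := ded_20_2 (flp_b L145972) (flp_f L145962) L154809
theorem L154817 : sm gg N13690 = N12806 := ded_21_2 (flp_b L149536) L149543 L154809
theorem L154819 : sm gh N13690 = N12804 := ded_22_2 (flp_b L147354) (flp_h L147365) L154809
theorem L154821 : sm gi N13690 = N13690 := ded_23_2 (flp_b L154809) L145964 L154809
theorem L154822 : sm ga N13690 = N12805 := ded_9_1 L146638 (flp_a L138679) L138681 (flp_a L145960) L154809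
theorem L154824 : sm gc N13690 = N12872 := ded_17_2 L154739 (flp_c L154728) L145871 L145958 L154809
theorem L154826 : sm gd N12735 = N13691 := rfl
theorem L154828 : sm gf N13691 = N12736 := ded_31_2 (flp_d L145992) (flp_f L145988) L154826
theorem L154830 : sm gi N13691 = N12738 := ded_34_2 (flp_d L146001) (flp_i L145990) L154826
theorem L154832 : sm gh N13691 = N13691 := ded_33_2 (flp_d L154826) (flp_h L145986) L136867 L145986 L154826
theorem L154833 : sm gd N12737 = N13692 := rfl
theorem L154835 : sm gg N13692 = N12738 := ded_32_2 (flp_d L146001) (flp_g L145999) L154833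
theorem L154837 : sm gh N13692 = N12740 := ded_33_2 (flp_d L146011) (flp_h L136890) (flp_d L136878) L145997 L154833
theorem L154839 : sm gc N12738 = N13693 := rfl
theorem L154841 : sm gf N13693 = N12739 := ded_26_2 (flp_c L146007) (flp_f L146003) L154839
theorem L154843 : sm gh N13693 = N12741 := ded_28_2 (flp_c L146016) (flp_h L146005) L154839
theorem L154845 : sm ge N12738 = N13694 := rfl
theorem L154847 : sm gh N13694 = N12742 := ded_37_2 (flp_e L146023) (flp_h L146005) L154845
theorem L154849 : sm gb N12739 = N13695 := rfl
theorem L154851 : sm gh N13695 = N12743 := ded_22_2 (flp_b L146028) (flp_h L146009) L154849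
theorem L154853 : sm ga N12743 = N13696 := rfl
theorem L154855 : sm gd N13696 = N12784 := ded_11_2 (flp_a L146382) (flp_d L146030) L154853
theorem L154857 : sm gi N13696 = N13696 := ded_16_2 (flp_a L154853) L146032 L154853
theorem L154858 : sm gg N12745 = N13697 := rfl
theorem L154860 : sm ga N13697 = N13697 := ded_14_1 (flp_g L154858) L146051 L154858
theorem L154861 : sm gc N13697 = N13575 := ded_27_1 L153932 (flp_c L146052) L154858
theorem L154863 : sm gd N13697 = N13697 := ded_32_1 (flp_g L154858) L146054 L154858
theorem L154864 : sm ge N13697 = N13574 := ded_36_1 L153925 (flp_e L146057) L154858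
theorem L154866 : sm gh N13697 = N13413 := ded_42_2 (flp_g L152398) (flp_h L146055) L154858
theorem L154868 : sm gi N12745 = N13698 := rfl
theorem L154870 : sm ga N13698 = N13698 := ded_16_1 (flp_i L154868) L146051 L154868
theorem L154871 : sm gc N13698 = N13463 := ded_29_1 L152856 (flp_c L146052) L154868
theorem L154873 : sm gd N13698 = N13698 := ded_34_1 (flp_i L154868) L146054 L154868
theorem L154874 : sm ge N13698 = N13462 := ded_38_1 L152849 (flp_e L146057) L154868
theorem L154876 : sm gf N13698 = N12746 := ded_41_1 (flp_i L146059) L146049 L154868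
theorem L154878 : sm gh N12746 = N13699 := rfl
theorem L154880 : sm ga N13699 = N13699 := ded_15_1 (flp_h L154878) L146061 L154878
theorem L154881 : sm ge N13699 = N12747 := ded_37_1 (flp_h L146065) (flp_e L146063) L154878
theorem L154883 : sm gi N13699 = N13415 := ded_44_2 (flp_h L152410) (flp_i L143364) (flp_h L136934) L146059 L154878
theorem L154885 : sm gi N12748 = N13700 := rfl
theorem L154887 : sm ga N13700 = N13700 := ded_16_1 (flp_i L154885) L146072 L154885
theorem L154888 : sm gd N13700 = N12761 := ded_34_1 (flp_i L146159) (flp_d L146073) L154885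
theorem L154890 : sm ge N13700 = N12751 := ded_38_1 (flp_i L146088) L146070 L154885
theorem L154892 : sm gf N13700 = N13454 := ded_41_1 (flp_i L152782) (flp_f L146075) L154885
theorem L154894 : sm gi N12749 = N13701 := rfl
theorem L154896 : sm ga N13701 = N13701 := ded_16_1 (flp_i L154894) L146079 L154894
theorem L154897 : sm gd N13701 = N12754 := ded_34_1 (flp_i L146106) (flp_d L146080) L154894
theorem L154899 : sm gg N13701 = N12751 := ded_43_1 (flp_i L146088) L146077 L154894
theorem L154901 : sm gi N12750 = N13702 := rfl
theorem L154903 : sm ga N13702 = N13702 := ded_16_1 (flp_i L154901) L146084 L154901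
theorem L154904 : sm gd N13702 = N13702 := ded_34_1 (flp_i L154901) L146087 L154901
theorem L154905 : sm gf N13702 = N12752 := ded_41_1 (flp_i L146095) (flp_f L146085) L154901
theorem L154907 : sm gh N12751 = N13703 := rfl
theorem L154909 : sm ga N13703 = N13703 := ded_15_1 (flp_h L154907) L146090 L154907
theorem L154910 : sm gf N13703 = N12753 := ded_40_1 (flp_h L146101) (flp_f L146093) L154907
theorem L154912 : sm gh N12752 = N13704 := rfl
theorem L154914 : sm ga N13704 = N13704 := ded_15_1 (flp_h L154912) L146097 L154912
theorem L154915 : sm ge N13704 = N13458 := ded_37_1 (flp_h L152812) (flp_e L146099) L154912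
theorem L154917 : sm gi N13704 = N12753 := ded_44_2 (flp_h L146101) (flp_i L136953) L136947 L146095 L154912
theorem L154919 : sm gd N12753 = N13705 := rfl
theorem L154921 : sm ga N13705 = N13705 := ded_11_1 (flp_d L154919) L146103 L154919
theorem L154922 : sm gh N13705 = N12756 := ded_33_2 (flp_d L146125) (flp_h L136977) (flp_d L136956) L146101 L154919
theorem L154924 : sm gh N12754 = N13706 := rfl
theorem L154926 : sm ga N13706 = N13706 := ded_15_1 (flp_h L154924) L146108 L154924
theorem L154927 : sm gc N13706 = N12758 := ded_28_1 (flp_h L146136) (flp_c L146109) L154924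
theorem L154929 : sm ge N13706 = N12767 := ded_37_1 (flp_h L146216) (flp_e L146111) L154924
theorem L154931 : sm gg N13706 = N12755 := ded_42_1 (flp_h L146115) (flp_g L146113) L154924
theorem L154933 : sm gi N13706 = N13706 := ded_44_2 (flp_h L154924) (flp_i L146106) L136967 L146106 L154924
theorem L154934 : sm gd N12755 = N13707 := rfl
theorem L154936 : sm ga N13707 = N13707 := ded_11_1 (flp_d L154934) L146117 L154934
theorem L154937 : sm gf N13707 = N12756 := ded_31_2 (flp_d L146125) (flp_f L146122) L154934
theorem L154939 : sm gi N13707 = N13707 := ded_34_2 (flp_d L154934) L146124 L154934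
theorem L154940 : sm gc N12756 = N13708 := rfl
theorem L154942 : sm ga N13708 = N13708 := ded_10_1 (flp_c L154940) L146127 L154940
theorem L154943 : sm gi N13708 = N13708 := ded_29_2 (flp_c L154940) L146128 L154940
theorem L154944 : sm gd N13708 = N12760 := ded_24_2 (flp_c L146154) (flp_d L137013) (flp_c L136980) L146125 L154940
theorem L154946 : sm ge N12756 = N13709 := rfl
theorem L154948 : sm ga N13709 = N13709 := ded_12_1 (flp_e L154946) L146127 L154946
theorem L154949 : sm gi N13709 = N13709 := ded_38_2 (flp_e L154946) L146128 L154946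
theorem L154950 : sm gd N13709 = N12757 := ded_30_1 (flp_e L146129) (flp_d L136985) (flp_e L136982) L146125 L154946
theorem L154952 : sm gd N12758 = N13710 := rfl
theorem L154954 : sm ga N13710 = N13710 := ded_11_1 (flp_d L154952) L146138 L154952
theorem L154955 : sm gb N13710 = N12775 := ded_18_1 (flp_d L146294) (flp_b L146139) L154952
theorem L154957 : sm gg N13710 = N12759 := ded_32_2 (flp_d L146146) (flp_g L146143) L154952
theorem L154959 : sm gi N13710 = N13710 := ded_34_2 (flp_d L154952) L146145 L154952
theorem L154960 : sm gc N12759 = N13711 := rfl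
theorem L154962 : sm ga N13711 = N13711 := ded_10_1 (flp_c L154960) L146148 L154960
theorem L154963 : sm gf N13711 = N12760 := ded_26_2 (flp_c L146154) (flp_f L146151) L154960
theorem L154965 : sm gi N13711 = N13711 := ded_29_2 (flp_c L154960) L146153 L154960
theorem L154966 : sm ge N12759 = N13712 := rfl
theorem L154968 : sm ga N13712 = N13712 := ded_12_1 (flp_e L154966) L146148 L154966
theorem L154969 : sm gb N13712 = N12777 := ded_19_1 (flp_e L146308) (flp_b L146149) L154966
theorem L154971 : sm gi N13712 = N13712 := ded_38_2 (flp_e L154966) L146153 L154966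
theorem L154972 : sm gd N13712 = N12773 := ded_30_1 (flp_e L146274) (flp_d L137101) (flp_e L137008) L146146 L154966
theorem L154974 : sm gf N13712 = N13712 := ded_35_2 (flp_e L154966) L146151 L137019 (flp_f L146151) L154966
theorem L154975 : sm gb N12760 = N13713 := rfl
theorem L154977 : sm ge N13713 = N13713 := ded_19_2 (flp_b L154975) L146157 L154975
theorem L154978 : sm gi N13713 = N13713 := ded_23_2 (flp_b L154975) L146158 L154975
theorem L154979 : sm gc N13713 = N12778 := ded_17_2 (flp_b L146316) (flp_c L137133) (flp_b L137016) L146154 L154975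
theorem L154981 : sm gh N12761 = N13714 := rfl
theorem L154983 : sm ga N13714 = N13714 := ded_15_1 (flp_h L154981) L146161 L154981
theorem L154984 : sm gc N13714 = N13714 := ded_28_1 (flp_h L154981) L146162 L154981
theorem L154985 : sm ge N13714 = N12764 := ded_37_1 (flp_h L146183) (flp_e L146163) L154981
theorem L154987 : sm gf N13714 = N13465 := ded_40_1 (flp_h L152869) (flp_f L146165) L154981
theorem L154989 : sm gh N12762 = N13715 := rfl
theorem L154991 : sm ga N13715 = N13715 := ded_15_1 (flp_h L154989) L146169 L154989
theorem L154992 : sm gc N13715 = N13715 := ded_28_1 (flp_h L154989) L146170 L154989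
theorem L154993 : sm gf N13715 = N13715 := ded_40_1 (flp_h L154989) L146173 L154989
theorem L154994 : sm gg N13715 = N12764 := ded_42_1 (flp_h L146183) (flp_g L146174) L154989
theorem L154996 : sm gh N12763 = N13716 := rfl
theorem L154998 : sm ga N13716 = N13716 := ded_15_1 (flp_h L154996) L146178 L154996
theorem L154999 : sm gb N13716 = N12835 := ded_22_1 L154681 L154674 L154996
theorem L155001 : sm gc N13716 = N13716 := ded_28_1 (flp_h L154996) L146179 L154996
theorem L155002 : sm gf N13716 = N12765 := ded_40_1 (flp_h L146189) (flp_f L146181) L154996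
theorem L155004 : sm gi N13716 = N12764 := ded_44_2 (flp_h L146183) (flp_i L137040) L137033 L146176 L154996
theorem L155006 : sm gd N12790 = N13716 := ded_18_0 L154999 L146931 (flp_b L146449)
theorem L155008 : sm gd N12764 = N13717 := rfl
theorem L155010 : sm ga N13717 = N13717 := ded_11_1 (flp_d L155008) L146185 L155008
theorem L155011 : sm gb N13717 = N12837 := ded_18_1 L154695 L154687 L155008
theorem L155013 : sm gf N13717 = N12766 := ded_31_2 (flp_d L146202) (flp_f L146187) L155008
theorem L155015 : sm gi N13717 = N12790 := ded_34_2 L155006 L155004 L155008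
theorem L155017 : sm gh N13717 = N12768 := ded_33_2 (flp_d L146225) (flp_h L137071) (flp_d L137044) L146183 L155008
theorem L155019 : sm gc N12792 = N13717 := ded_17_0 L155011 L146945 L137866 (flp_c L137363) (flp_b L146467)
theorem L155021 : sm gd N12767 = N13718 := rfl
theorem L155023 : sm ga N13718 = N13718 := ded_11_1 (flp_d L155021) L146218 L155021
theorem L155024 : sm gf N13718 = N13718 := ded_31_2 (flp_d L155021) L146221 L155021
theorem L155025 : sm gg N13718 = N12768 := ded_32_2 (flp_d L146225) (flp_g L146222) L155021
theorem L155027 : sm gi N13718 = N13718 := ded_34_2 (flp_d L155021) L146224 L155021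
theorem L155028 : sm gc N13718 = N13712 := ded_24_1 L154972 (flp_c L146345) (flp_d L146257) (flp_c L146219) L155021
theorem L155030 : sm ge N13711 = N13718 := ded_25_0 L155028 (flp_e L154966) L154960
theorem L155032 : sm gc N12768 = N13719 := rfl
theorem L155034 : sm ga N13719 = N13719 := ded_10_1 (flp_c L155032) L146227 L155032
theorem L155035 : sm gf N13719 = N12769 := ded_26_2 (flp_c L146231) (flp_f L146228) L155032
theorem L155037 : sm gg N13719 = N13712 := ded_27_2 (flp_c L155028) L155025 L155032
theorem L155039 : sm gh N13719 = N12792 := ded_28_2 L155019 L155017 L155032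
theorem L155041 : sm gi N13719 = N13719 := ded_29_2 (flp_c L155032) L146230 L155032
theorem L155042 : sm gb N13719 = N12797 := ded_17_1 L146534 (flp_b L146964) L154718 L154711 L155032
theorem L155044 : sm gd N13719 = N12772 := ded_24_2 (flp_c L146267) (flp_d L137101) (flp_c L137074) L146225 L155032
theorem L155046 : sm ge N13710 = N13719 := ded_36_3 L155037 (flp_e L154966) (flp_g L154957)
theorem L155048 : sm ge N12768 = N13720 := rfl
theorem L155050 : sm ga N13720 = N13720 := ded_12_1 (flp_e L155048) L146227 L155048
theorem L155051 : sm gc N13720 = N13710 := ded_25_1 L155046 (flp_c L155032) L155048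
theorem L155053 : sm gg N13720 = N13711 := ded_36_2 L155030 L155025 L155048
theorem L155055 : sm gi N13720 = N13720 := ded_38_2 (flp_e L155048) L146230 L155048
theorem L155056 : sm gb N12776 = N13721 := rfl
theorem L155058 : sm gf N13721 = N12778 := ded_20_2 (flp_b L146316) (flp_f L146305) L155056
theorem L155060 : sm gi N13721 = N13721 := ded_23_2 (flp_b L155056) L146307 L155056
theorem L155061 : sm ga N12778 = N13722 := rfl
theorem L155063 : sm ge N13722 = N13722 := ded_12_2 (flp_a L155061) L146318 L155061
theorem L155064 : sm gi N13722 = N13722 := ded_16_2 (flp_a L155061) L146319 L155061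
theorem L155065 : sm gb N13722 = N12784 := ded_9_2 (flp_a L146382) (flp_b L137187) (flp_a L137135) L146316 L155061
theorem L155067 : sm gi N12787 = N13723 := rfl
theorem L155069 : sm ga N13723 = N13723 := ded_16_1 (flp_i L155067) L146416 L155067
theorem L155070 : sm gb N13723 = N12794 := ded_23_1 (flp_i L146485) (flp_b L146417) L155067
theorem L155072 : sm gd N13723 = N13451 := ded_34_1 L152759 (flp_d L146419) L155067
theorem L155074 : sm ge N13723 = N12792 := ded_38_1 (flp_i L146464) (flp_e L146422) L155067
theorem L155076 : sm gf N13723 = N12788 := ded_41_1 (flp_i L146426) L146414 L155067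
theorem L155078 : sm gg N13723 = N13452 := ded_43_1 L152768 (flp_g L146424) L155067
theorem L155080 : sm gh N13710 = N13723 := ded_22_0 L155070 (flp_h L146499) (flp_b L154955)
theorem L155082 : sm gh N12788 = N13724 := rfl
theorem L155084 : sm ga N13724 = N13724 := ded_15_1 (flp_h L155082) L146428 L155082
theorem L155085 : sm gb N13724 = N12795 := ded_22_1 (flp_h L146501) (flp_b L146429) L155082
theorem L155087 : sm ge N13724 = N12789 := ded_37_1 (flp_h L146437) (flp_e L146433) L155082
theorem L155089 : sm gf N13724 = N13710 := ded_40_1 L155080 L155076 L155082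
theorem L155091 : sm gg N13724 = N13439 := ded_42_1 L152634 (flp_g L146435) L155082
theorem L155093 : sm gd N13724 = N13438 := ded_33_1 (flp_h L152615) L143524 L143723 (flp_d L146431) L155082
theorem L155095 : sm gi N13724 = N13724 := ded_44_2 (flp_h L155082) (flp_i L146426) L137247 L146426 L155082
theorem L155096 : sm gg N12790 = N13725 := rfl
theorem L155098 : sm ga N13725 = N13725 := ded_14_1 (flp_g L155096) L146448 L155096
theorem L155099 : sm gb N13725 = N12836 := ded_21_1 (flp_g L146933) (flp_b L146449) L155096
theorem L155101 : sm gc N13725 = N12791 := ded_27_1 (flp_g L146454) (flp_c L146451) L155096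
theorem L155103 : sm ge N13725 = N13576 := ded_36_1 L153943 L153770 L155096
theorem L155105 : sm gh N13725 = N13725 := ded_42_2 (flp_g L155096) L146453 L155096
theorem L155106 : sm gf N13725 = N13725 := ded_39_1 (flp_g L155096) (flp_f L146446) L137266 L146446 L155096
theorem L155107 : sm gi N12791 = N13726 := rfl
theorem L155109 : sm ga N13726 = N13726 := ded_16_1 (flp_i L155107) L146456 L155107
theorem L155110 : sm gb N13726 = N12796 := ded_23_1 (flp_i L146516) (flp_b L146457) L155107
theorem L155112 : sm gd N13726 = N13726 := ded_34_1 (flp_i L155107) L146459 L155107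
theorem L155113 : sm ge N13726 = N13452 := ded_38_1 L152768 (flp_e L146460) L155107
theorem L155115 : sm gf N13726 = N13726 := ded_41_1 (flp_i L155107) L146463 L155107
theorem L155116 : sm gg N13726 = N12792 := ded_43_1 (flp_i L146464) L146454 L155107
theorem L155118 : sm gh N13712 = N13726 := ded_22_0 L155110 (flp_h L146528) (flp_b L154969)
theorem L155120 : sm gi N12799 = N13727 := rfl
theorem L155122 : sm ga N13727 = N12800 := ded_16_1 (flp_i L146571) L146559 L155120
theorem L155124 : sm gb N13727 = N12802 := ded_23_1 (flp_i L146596) (flp_b L146569) L155120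
theorem L155126 : sm gd N13727 = N13183 := ded_34_1 L150461 (flp_d L146561) L155120
theorem L155128 : sm ge N13727 = N12880 := ded_38_1 (flp_i L147416) (flp_e L146563) L155120
theorem L155130 : sm gf N13727 = N13727 := ded_41_1 (flp_i L155120) L146565 L155120
theorem L155131 : sm gg N13727 = N13184 := ded_43_1 L150471 (flp_g L146566) L155120
theorem L155133 : sm gh N12800 = N13728 := rfl
theorem L155135 : sm gb N13728 = N12801 := ded_22_1 (flp_h L146582) (flp_b L146573) L155133
theorem L155137 : sm ge N13728 = N12881 := ded_37_1 (flp_h L147424) (flp_e L146577) L155133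
theorem L155139 : sm gf N13728 = N13728 := ded_40_1 (flp_h L155133) L146579 L155133
theorem L155140 : sm gg N13728 = N12982 := ded_42_1 L148373 (flp_g L146580) L155133
theorem L155142 : sm gd N13728 = N12981 := ded_33_1 (flp_h L148358) L139043 L142771 (flp_d L146575) L155133
theorem L155144 : sm gi N13728 = N13728 := ded_44_2 (flp_h L155133) (flp_i L146571) L137401 L146571 L155133
theorem L155145 : sm gh N12802 = N13729 := rfl
theorem L155147 : sm ga N13729 = N12803 := ded_15_1 (flp_h L146609) (flp_a L146598) L155145
theorem L155149 : sm gc N13729 = N12806 := ded_28_1 (flp_h L146651) (flp_c L146600) L155145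
theorem L155151 : sm ge N13729 = N12916 := ded_37_1 (flp_h L147823) (flp_e L146604) L155145
theorem L155153 : sm gf N13729 = N13729 := ded_40_1 (flp_h L155145) L146606 L155145
theorem L155154 : sm gg N13729 = N12872 := ded_42_1 L147323 (flp_g L146607) L155145
theorem L155156 : sm gd N13729 = N12871 := ded_33_1 (flp_h L147304) L138088 L141539 (flp_d L146602) L155145
theorem L155158 : sm gi N13729 = N13729 := ded_44_2 (flp_h L155145) (flp_i L146596) L137526 L146596 L155145
theorem L155159 : sm gc N12807 = N13730 := rfl
theorem L155161 : sm ga N13730 = N12924 := ded_10_1 (flp_c L147909) (flp_a L146663) L155159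
theorem L155163 : sm gf N13730 = N13130 := ded_26_2 (flp_c L149974) (flp_f L146666) L155159
theorem L155165 : sm gd N13730 = N12812 := ded_24_2 (flp_c L146713) (flp_d L137680) (flp_c L137652) L146661 L155159
theorem L155167 : sm ge N12807 = N13731 := rfl
theorem L155169 : sm ga N13731 = N12925 := ded_12_1 (flp_e L147915) (flp_a L146663) L155167
theorem L155171 : sm gb N13731 = N13731 := ded_19_1 (flp_e L155167) L146665 L155167
theorem L155172 : sm gg N13731 = N12966 := ded_36_2 (flp_e L151142) L151144 L155167
theorem L155174 : sm gh N13731 = N12958 := ded_37_2 (flp_e L149557) L149559 L155167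
theorem L155176 : sm gd N13731 = N13731 := ded_30_1 (flp_e L155167) (flp_d L146661) L137654 L146661 L155167
theorem L155177 : sm gi N12807 = N13732 := rfl
theorem L155179 : sm ga N13732 = N12926 := ded_16_1 (flp_i L147920) (flp_a L146663) L155177
theorem L155181 : sm gb N13732 = N13732 := ded_23_1 (flp_i L155177) L146665 L155177
theorem L155182 : sm gd N13732 = N12808 := ded_34_1 (flp_i L146668) L146661 L155177
theorem L155184 : sm gf N13732 = N13132 := ded_41_1 (flp_i L149987) (flp_f L146666) L155177
theorem L155186 : sm gd N12809 = N13733 := rfl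
theorem L155188 : sm ga N13733 = N12928 := ded_11_1 (flp_d L147941) (flp_a L146682) L155186
theorem L155190 : sm gb N13733 = N12840 := ded_18_1 (flp_d L146969) (flp_b L146684) L155186
theorem L155192 : sm gf N13733 = N12810 := ded_31_2 (flp_d L146692) (flp_f L146688) L155186
theorem L155194 : sm gg N13733 = N13133 := ded_32_2 (flp_d L149994) (flp_g L146690) L155186
theorem L155196 : sm ge N13733 = N13110 := ded_30_2 L149780 (flp_e L149486) L149484 (flp_e L146686) L155186
theorem L155198 : sm gh N13733 = N12815 := ded_33_2 (flp_d L146740) (flp_h L137701) (flp_d L137663) L146680 L155186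
theorem L155200 : sm gi N12809 = N13734 := rfl
theorem L155202 : sm ga N13734 = N12929 := ded_16_1 (flp_i L147953) (flp_a L146682) L155200
theorem L155204 : sm gb N13734 = N12841 := ded_23_1 (flp_i L146983) (flp_b L146684) L155200
theorem L155206 : sm ge N13734 = N13272 := ded_38_1 L151242 (flp_e L146686) L155200
theorem L155208 : sm gf N13734 = N12811 := ded_41_1 (flp_i L146702) (flp_f L146688) L155200
theorem L155210 : sm gg N13734 = N13134 := ded_43_1 (flp_i L150004) (flp_g L146690) L155200
theorem L155212 : sm gh N13734 = N13081 := ded_44_1 (flp_i L149423) L140138 (flp_i L137665) L146680 L155200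
theorem L155214 : sm gc N12810 = N13735 := rfl
theorem L155216 : sm ga N13735 = N12930 := ded_10_1 (flp_c L147963) (flp_a L146694) L155214
theorem L155218 : sm gg N13735 = N12812 := ded_27_2 (flp_c L146713) (flp_g L146698) L155214
theorem L155220 : sm gh N13735 = N12817 := ded_28_2 (flp_c L146763) (flp_h L146700) L155214
theorem L155222 : sm ge N12810 = N13736 := rfl
theorem L155224 : sm ga N13736 = N12931 := ded_12_1 (flp_e L147969) (flp_a L146694) L155222
theorem L155226 : sm gb N13736 = N12843 := ded_19_1 (flp_e L147009) (flp_b L146696) L155222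
theorem L155228 : sm gg N13736 = N12813 := ded_36_2 (flp_e L146721) (flp_g L146698) L155222
theorem L155230 : sm gh N13736 = N12818 := ded_37_2 (flp_e L146769) (flp_h L146700) L155222
theorem L155232 : sm gd N13736 = N13736 := ded_30_1 (flp_e L155222) (flp_d L146692) L137677 L146692 L155222
theorem L155233 : sm gf N13736 = N13198 := ded_35_2 (flp_e L150592) (flp_f L149782) (flp_e L155196) L155192 L155222
theorem L155235 : sm gi N12810 = N13737 := rfl
theorem L155237 : sm ga N13737 = N12932 := ded_16_1 (flp_i L147980) (flp_a L146694) L155235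
theorem L155239 : sm gb N13737 = N12844 := ded_23_1 (flp_i L147022) (flp_b L146696) L155235
theorem L155241 : sm gd N13737 = N12811 := ded_34_1 (flp_i L146702) L146692 L155235
theorem L155243 : sm gg N13737 = N12814 := ded_43_1 (flp_i L146730) (flp_g L146698) L155235
theorem L155245 : sm gb N12812 = N13738 := rfl
theorem L155247 : sm gf N13738 = N13137 := ded_20_2 (flp_b L150038) (flp_f L146717) L155245
theorem L155249 : sm gh N13738 = N12820 := ded_22_2 (flp_b L146791) (flp_h L146719) L155245
theorem L155251 : sm gc N13738 = N12845 := ded_17_2 (flp_b L147030) (flp_c L137911) (flp_b L137684) L146713 L155245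
theorem L155253 : sm ge N12812 = N13739 := rfl
theorem L155255 : sm ga N13739 = N12934 := ded_12_1 (flp_e L147996) (flp_a L146715) L155253
theorem L155257 : sm gc N13739 = N12813 := ded_25_1 (flp_e L146721) L146713 L155253
theorem L155259 : sm gh N13739 = N12821 := ded_37_2 (flp_e L146797) (flp_h L146719) L155253
theorem L155261 : sm gi N12812 = N13740 := rfl
theorem L155263 : sm ga N13740 = N12935 := ded_16_1 (flp_i L148002) (flp_a L146715) L155261
theorem L155265 : sm gc N13740 = N12814 := ded_29_1 (flp_i L146730) L146713 L155261
theorem L155267 : sm gf N13740 = N13139 := ded_41_1 (flp_i L150054) (flp_f L146717) L155261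
theorem L155269 : sm gf N12813 = N13741 := rfl
theorem L155271 : sm ga N13741 = N12936 := ded_13_1 (flp_f L148008) (flp_a L146723) L155269
theorem L155273 : sm gb N13741 = N12848 := ded_20_1 (flp_f L147060) (flp_b L146725) L155269
theorem L155275 : sm gd N13741 = N13741 := ded_31_1 (flp_f L155269) L146729 L155269
theorem L155276 : sm gh N13741 = N12823 := ded_40_2 (flp_f L146811) (flp_h L146727) L155269
theorem L155278 : sm ge N13741 = N13140 := ded_35_1 (flp_f L150060) (flp_e L140961) (flp_f L137686) L146721 L155269
theorem L155280 : sm gg N13741 = N13206 := ded_39_2 (flp_f L150671) (flp_g L150598) (flp_f L155233) L155228 L155269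
theorem L155282 : sm gi N12813 = N13742 := rfl
theorem L155284 : sm ga N13742 = N12937 := ded_16_1 (flp_i L148017) (flp_a L146723) L155282
theorem L155286 : sm gb N13742 = N12849 := ded_23_1 (flp_i L147073) (flp_b L146725) L155282
theorem L155288 : sm gd N13742 = N13742 := ded_34_1 (flp_i L155282) L146729 L155282
theorem L155289 : sm ge N13742 = N12814 := ded_38_1 (flp_i L146730) L146721 L155282
theorem L155291 : sm gh N12814 = N13743 := rfl
theorem L155293 : sm ga N13743 = N12938 := ded_15_1 (flp_h L148024) (flp_a L146732) L155291
theorem L155295 : sm gb N13743 = N12850 := ded_22_1 (flp_h L147080) (flp_b L146734) L155291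
theorem L155297 : sm gf N13743 = N13142 := ded_40_1 (flp_h L150082) (flp_f L146738) L155291
theorem L155299 : sm gd N13743 = N13590 := ded_33_1 (flp_h L154048) L145183 (flp_h L137699) (flp_d L146736) L155291
theorem L155301 : sm gi N13743 = N12825 := ded_44_2 (flp_h L146831) (flp_i L137746) (flp_h L137688) L146730 L155291
theorem L155303 : sm gc N12815 = N13744 := rfl
theorem L155305 : sm ga N13744 = N12939 := ded_10_1 (flp_c L148034) (flp_a L146742) L155303
theorem L155307 : sm gf N13744 = N12817 := ded_26_2 (flp_c L146763) (flp_f L146746) L155303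
theorem L155309 : sm gg N13744 = N13143 := ded_27_2 (flp_c L150090) (flp_g L146748) L155303
theorem L155311 : sm ge N12815 = N13745 := rfl
theorem L155313 : sm ga N13745 = N12940 := ded_12_1 (flp_e L148042) (flp_a L146742) L155311
theorem L155315 : sm gb N13745 = N12852 := ded_19_1 (flp_e L147104) (flp_b L146744) L155311
theorem L155317 : sm gg N13745 = N13144 := ded_36_2 (flp_e L150098) (flp_g L146748) L155311
theorem L155319 : sm gh N13745 = N13110 := ded_37_2 (flp_e L155196) L155198 L155311
theorem L155321 : sm gd N13745 = N13745 := ded_30_1 (flp_e L155311) (flp_d L146740) L137707 L146740 L155311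
theorem L155322 : sm gf N13745 = N13186 := ded_35_2 L150484 L146779 (flp_e L146769) (flp_f L146746) L155311
theorem L155324 : sm gi N12815 = N13746 := rfl
theorem L155326 : sm ga N13746 = N12941 := ded_16_1 (flp_i L148053) (flp_a L146742) L155324
theorem L155328 : sm gb N13746 = N12853 := ded_23_1 (flp_i L147117) (flp_b L146744) L155324
theorem L155330 : sm gd N13746 = N12816 := ded_34_1 (flp_i L146750) L146740 L155324
theorem L155332 : sm gf N13746 = N12819 := ded_41_1 (flp_i L146781) (flp_f L146746) L155324
theorem L155334 : sm gg N13746 = N13145 := ded_43_1 (flp_i L150105) (flp_g L146748) L155324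
theorem L155336 : sm gb N12817 = N13747 := rfl
theorem L155338 : sm gg N13747 = N12820 := ded_21_2 (flp_b L146791) (flp_g L146767) L155336
theorem L155340 : sm gc N13747 = N12854 := ded_17_2 (flp_b L147127) (flp_c L137956) (flp_b L137716) L146763 L155336
theorem L155342 : sm ge N13554 = N13747 := ded_25_0 L155340 L147131 L153739
theorem L155344 : sm ge N12817 = N13748 := rfl
theorem L155346 : sm ga N13748 = N12943 := ded_12_1 (flp_e L148073) (flp_a L146765) L155344
theorem L155348 : sm gb N13748 = N13554 := ded_19_1 L155342 (flp_b L155336) L155344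
theorem L155350 : sm gc N13748 = N12818 := ded_25_1 (flp_e L146769) L146763 L155344
theorem L155352 : sm gg N13748 = N12821 := ded_36_2 (flp_e L146797) (flp_g L146767) L155344
theorem L155354 : sm gf N13555 = N13748 := ded_20_0 L155348 L153741 L153743
theorem L155356 : sm gi N12817 = N13749 := rfl
theorem L155358 : sm ga N13749 = N12944 := ded_16_1 (flp_i L148079) (flp_a L146765) L155356
theorem L155360 : sm gc N13749 = N12819 := ded_29_1 (flp_i L146781) L146763 L155356
theorem L155362 : sm gg N13749 = N12822 := ded_43_1 (flp_i L146803) (flp_g L146767) L155356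
theorem L155364 : sm gi N12818 = N13750 := rfl
theorem L155366 : sm ga N13750 = N12946 := ded_16_1 (flp_i L148097) (flp_a L146771) L155364
theorem L155368 : sm gb N13750 = N12856 := ded_23_1 (flp_i L147147) (flp_b L146773) L155364
theorem L155370 : sm gd N13750 = N12826 := ded_34_1 (flp_i L146841) (flp_d L146777) L155364
theorem L155372 : sm ge N13750 = N12819 := ded_38_1 (flp_i L146781) L146769 L155364
theorem L155374 : sm gf N13750 = N13385 := ded_41_1 L152172 L146779 L155364
theorem L155376 : sm gg N13750 = N12824 := ded_43_1 (flp_i L146821) (flp_g L146775) L155364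
theorem L155378 : sm gh N12819 = N13751 := rfl
theorem L155380 : sm ga N13751 = N12947 := ded_15_1 (flp_h L148107) (flp_a L146783) L155378
theorem L155382 : sm gb N13751 = N12857 := ded_22_1 (flp_h L147161) (flp_b L146785) L155378
theorem L155384 : sm gg N13751 = N12825 := ded_42_1 (flp_h L146831) (flp_g L146789) L155378
theorem L155386 : sm gd N13751 = N13374 := ded_33_1 (flp_h L152075) L142948 (flp_h L137730) (flp_d L146787) L155378
theorem L155388 : sm ga N12820 = N13752 := rfl
theorem L155390 : sm gc N13752 = N12858 := ded_10_2 (flp_a L147169) (flp_c L146795) L155388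
theorem L155392 : sm gf N13752 = N13152 := ded_13_2 (flp_a L150171) (flp_f L146793) L155388
theorem L155394 : sm gb N13752 = N12948 := ded_9_2 (flp_a L148115) (flp_b L138857) (flp_a L137734) L146791 L155388
theorem L155396 : sm ge N12820 = N13753 := rfl
theorem L155398 : sm gb N13753 = N12821 := ded_19_1 (flp_e L146797) L146791 L155396
theorem L155400 : sm gc N13753 = N12859 := ded_25_1 (flp_e L147177) (flp_c L146795) L155396
theorem L155402 : sm gg N13753 = N13554 := ded_36_2 L155342 L155338 L155396
theorem L155404 : sm gi N12820 = N13754 := rfl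
theorem L155406 : sm gb N13754 = N12822 := ded_23_1 (flp_i L146803) L146791 L155404
theorem L155408 : sm gc N13754 = N12860 := ded_29_1 (flp_i L147185) (flp_c L146795) L155404
theorem L155410 : sm gf N13754 = N13154 := ded_41_1 (flp_i L150187) (flp_f L146793) L155404
theorem L155412 : sm gd N12821 = N13755 := rfl
theorem L155414 : sm ga N13755 = N12951 := ded_11_1 (flp_d L148135) (flp_a L146799) L155412
theorem L155416 : sm gc N13755 = N12828 := ded_24_1 (flp_d L146865) L137782 (flp_d L137744) (flp_c L146801) L155412
theorem L155418 : sm gf N12821 = N13756 := rfl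
theorem L155420 : sm ga N13756 = N12952 := ded_13_1 (flp_f L148139) (flp_a L146799) L155418
theorem L155422 : sm gc N13756 = N12823 := ded_26_1 (flp_f L146811) (flp_c L146801) L155418
theorem L155424 : sm ge N13756 = N13156 := ded_35_1 (flp_f L150199) (flp_e L141032) (flp_f L137736) L146797 L155418
theorem L155426 : sm gi N12821 = N13757 := rfl
theorem L155428 : sm ga N13757 = N12953 := ded_16_1 (flp_i L148145) (flp_a L146799) L155426
theorem L155430 : sm gc N13757 = N12824 := ded_29_1 (flp_i L146821) (flp_c L146801) L155426
theorem L155432 : sm ge N13757 = N12822 := ded_38_1 (flp_i L146803) L146797 L155426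
theorem L155434 : sm gh N12822 = N13758 := rfl
theorem L155436 : sm ga N13758 = N12954 := ded_15_1 (flp_h L148151) (flp_a L146805) L155434
theorem L155438 : sm gc N13758 = N12825 := ded_28_1 (flp_h L146831) (flp_c L146807) L155434
theorem L155440 : sm gf N13758 = N13158 := ded_40_1 (flp_h L150213) (flp_f L146809) L155434
theorem L155442 : sm gg N12823 = N13759 := rfl
theorem L155444 : sm ga N13759 = N12955 := ded_14_1 (flp_g L148157) (flp_a L146813) L155442
theorem L155446 : sm gb N13759 = N12864 := ded_21_1 (flp_g L147227) (flp_b L146815) L155442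
theorem L155448 : sm gd N13759 = N12832 := ded_32_1 (flp_g L146895) (flp_d L146817) L155442
theorem L155450 : sm ge N13759 = N13159 := ded_36_1 (flp_g L150219) (flp_e L146819) L155442
theorem L155452 : sm gh N13759 = N13206 := ded_42_2 (flp_g L155280) L155276 L155442
theorem L155454 : sm gf N13759 = N13190 := ded_39_1 L150528 L146779 L146775 L146811 L155442
theorem L155456 : sm gi N12823 = N13760 := rfl
theorem L155458 : sm ga N13760 = N12956 := ded_16_1 (flp_i L148165) (flp_a L146813) L155456
theorem L155460 : sm gb N13760 = N12865 := ded_23_1 (flp_i L147241) (flp_b L146815) L155456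
theorem L155462 : sm gd N13760 = N12833 := ded_34_1 (flp_i L146906) (flp_d L146817) L155456
theorem L155464 : sm ge N13760 = N13160 := ded_38_1 (flp_i L150227) (flp_e L146819) L155456
theorem L155466 : sm gf N13760 = N12824 := ded_41_1 (flp_i L146821) L146811 L155456
theorem L155468 : sm gh N12824 = N13761 := rfl
theorem L155470 : sm ga N13761 = N12957 := ded_15_1 (flp_h L148175) (flp_a L146823) L155468
theorem L155472 : sm gb N13761 = N12866 := ded_22_1 (flp_h L147251) (flp_b L146825) L155468
theorem L155474 : sm ge N13761 = N12825 := ded_37_1 (flp_h L146831) (flp_e L146829) L155468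
theorem L155476 : sm gh N12826 = N13762 := rfl
theorem L155478 : sm ga N13762 = N12964 := ded_15_1 (flp_h L148232) (flp_a L146843) L155476
theorem L155480 : sm gb N13762 = N12867 := ded_22_1 (flp_h L147257) (flp_b L146845) L155476
theorem L155482 : sm ge N13762 = N12827 := ded_37_1 (flp_h L146853) (flp_e L146847) L155476
theorem L155484 : sm gf N13762 = N13479 := ded_40_1 L153018 (flp_f L146849) L155476
theorem L155486 : sm gg N13762 = N12834 := ded_42_1 (flp_h L146916) (flp_g L146851) L155476
theorem L155488 : sm gi N13762 = N13762 := ded_44_2 (flp_h L155476) (flp_i L146841) L137764 L146841 L155476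
theorem L155489 : sm gf N12828 = N13763 := rfl
theorem L155491 : sm ga N13763 = N12965 := ded_13_1 (flp_f L148241) (flp_a L146867) L155489
theorem L155493 : sm gd N13763 = N12829 := ded_31_1 (flp_f L146869) L146865 L155489
theorem L155495 : sm gh N12828 = N13764 := rfl
theorem L155497 : sm ga N13764 = N12966 := ded_15_1 (flp_h L148246) (flp_a L146867) L155495
theorem L155499 : sm gb N13764 = N13061 := ded_22_1 (flp_h L152289) L152285 L155495
theorem L155501 : sm ge N13764 = N12922 := ded_37_1 (flp_h L149686) L149684 L155495
theorem L155503 : sm gg N13764 = N12925 := ded_42_1 (flp_h L151024) L151022 L155495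
theorem L155505 : sm gd N13764 = N13764 := ded_33_1 (flp_h L155495) (flp_d L146865) L137784 L146865 L155495
theorem L155506 : sm gi N12828 = N13765 := rfl
theorem L155508 : sm ga N13765 = N12967 := ded_16_1 (flp_i L148250) (flp_a L146867) L155506
theorem L155510 : sm gd N13765 = N12830 := ded_34_1 (flp_i L146878) L146865 L155506
theorem L155512 : sm gg N12829 = N13766 := rfl
theorem L155514 : sm ga N13766 = N12968 := ded_14_1 (flp_g L148255) (flp_a L146871) L155512
theorem L155516 : sm gb N13766 = N13576 := ded_21_1 L153943 L153765 L155512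
theorem L155518 : sm gc N13766 = N12832 := ded_27_1 (flp_g L146895) (flp_c L146873) L155512
theorem L155520 : sm ge N13766 = N12836 := ded_36_1 (flp_g L146933) (flp_e L146876) L155512
theorem L155522 : sm gh N13766 = N13766 := ded_42_2 (flp_g L155512) L146875 L155512
theorem L155523 : sm gf N13766 = N13577 := ded_39_1 L153949 L145095 L144382 L146869 L155512
theorem L155525 : sm gi N12829 = N13767 := rfl
theorem L155527 : sm ga N13767 = N12969 := ded_16_1 (flp_i L148263) (flp_a L146871) L155525
theorem L155529 : sm gc N13767 = N12833 := ded_29_1 (flp_i L146906) (flp_c L146873) L155525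
theorem L155531 : sm ge N13767 = N12837 := ded_38_1 (flp_i L146941) (flp_e L146876) L155525
theorem L155533 : sm gf N13767 = N12830 := ded_41_1 (flp_i L146878) L146869 L155525
theorem L155535 : sm gh N12830 = N13768 := rfl
theorem L155537 : sm ga N13768 = N12970 := ded_15_1 (flp_h L148272) (flp_a L146880) L155535
theorem L155539 : sm gc N13768 = N12834 := ded_28_1 (flp_h L146916) (flp_c L146882) L155535
theorem L155541 : sm ge N13768 = N12831 := ded_37_1 (flp_h L146886) (flp_e L146884) L155535
theorem L155543 : sm gi N13768 = N13768 := ded_44_2 (flp_h L155535) (flp_i L146878) L137784 L146878 L155535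
theorem L155544 : sm gi N12832 = N13769 := rfl
theorem L155546 : sm ga N13769 = N12972 := ded_16_1 (flp_i L148288) (flp_a L146897) L155544
theorem L155548 : sm gb N13769 = N12868 := ded_23_1 (flp_i L147270) (flp_b L146899) L155544
theorem L155550 : sm ge N13769 = N12838 := ded_38_1 (flp_i L146949) (flp_e L146901) L155544
theorem L155552 : sm gf N13769 = N13480 := ded_41_1 L153028 (flp_f L146904) L155544
theorem L155554 : sm gg N13769 = N12833 := ded_43_1 (flp_i L146906) L146895 L155544
theorem L155556 : sm gh N13721 = N13769 := ded_22_0 L155548 (flp_h L147282) L155056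
theorem L155558 : sm gh N12833 = N13770 := rfl
theorem L155560 : sm ga N13770 = N12973 := ded_15_1 (flp_h L148296) (flp_a L146908) L155558
theorem L155562 : sm gb N13770 = N12869 := ded_22_1 (flp_h L147284) (flp_b L146910) L155558
theorem L155564 : sm ge N13770 = N12839 := ded_37_1 (flp_h L146960) (flp_e L146912) L155558
theorem L155566 : sm gf N13770 = N12834 := ded_40_1 (flp_h L146916) (flp_f L146914) L155558
theorem L155568 : sm gg N13770 = N13721 := ded_42_1 L155556 L155554 L155558
theorem L155570 : sm gi N13770 = N13770 := ded_44_2 (flp_h L155558) (flp_i L146906) L137799 L146906 L155558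
theorem L155571 : sm gd N12834 = N13771 := rfl
theorem L155573 : sm ga N13771 = N12974 := ded_11_1 (flp_d L148305) (flp_a L146918) L155571
theorem L155575 : sm gb N13771 = N12870 := ded_18_1 (flp_d L147297) (flp_b L146920) L155571
theorem L155577 : sm gi N13771 = N13771 := ded_34_2 (flp_d L155571) L146924 L155571
theorem L155578 : sm ge N13771 = N13608 := ded_30_2 (flp_d L154206) L145290 (flp_d L137818) (flp_e L146922) L155571
theorem L155580 : sm ge N12835 = N13772 := rfl
theorem L155582 : sm ga N13772 = N12975 := ded_12_1 (flp_e L148312) (flp_a L146927) L155580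
theorem L155584 : sm gc N13772 = N13177 := ded_25_1 (flp_e L150400) (flp_c L146929) L155580
theorem L155586 : sm gg N12835 = N13773 := rfl
theorem L155588 : sm ga N13773 = N12976 := ded_14_1 (flp_g L148317) (flp_a L146927) L155586
theorem L155590 : sm gc N13773 = N13178 := ded_27_1 (flp_g L150405) (flp_c L146929) L155586
theorem L155592 : sm gd N13773 = N12836 := ded_32_1 (flp_g L146933) (flp_d L146931) L155586
theorem L155594 : sm gf N13773 = N13773 := ded_39_1 (flp_g L155586) (flp_f L146925) L137825 L146925 L155586
theorem L155595 : sm gi N12836 = N13774 := rfl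
theorem L155597 : sm ga N13774 = N12979 := ded_16_1 (flp_i L148342) (flp_a L146935) L155595
theorem L155599 : sm gc N13774 = N12838 := ded_29_1 (flp_i L146949) (flp_c L146937) L155595
theorem L155601 : sm gf N13774 = N13774 := ded_41_1 (flp_i L155595) L146940 L155595
theorem L155602 : sm gg N13774 = N12837 := ded_43_1 (flp_i L146941) L146933 L155595
theorem L155604 : sm gh N12838 = N13775 := rfl
theorem L155606 : sm ga N13775 = N12981 := ded_15_1 (flp_h L148358) (flp_a L146951) L155604
theorem L155608 : sm gb N13775 = N12871 := ded_22_1 (flp_h L147304) (flp_b L146953) L155604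
theorem L155610 : sm ge N13775 = N13721 := ded_37_1 L155556 L155550 L155604
theorem L155612 : sm gf N13775 = N13775 := ded_40_1 (flp_h L155604) L146957 L155604
theorem L155613 : sm gg N13775 = N12839 := ded_42_1 (flp_h L146960) (flp_g L146958) L155604
theorem L155615 : sm gi N13775 = N13775 := ded_44_2 (flp_h L155604) (flp_i L146949) L137860 L146949 L155604
theorem L155616 : sm gi N12840 = N13776 := rfl
theorem L155618 : sm ga N13776 = N12883 := ded_16_1 (flp_i L147440) (flp_a L146971) L155616
theorem L155620 : sm gc N13776 = N13196 := ded_29_1 (flp_i L150579) L146981 L155616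
theorem L155622 : sm gd N13776 = N12841 := ded_34_1 (flp_i L146983) L146969 L155616
theorem L155624 : sm ge N13776 = N13120 := ded_38_1 (flp_i L149871) (flp_e L146977) L155616
theorem L155626 : sm gf N13776 = N12844 := ded_41_1 (flp_i L147022) (flp_f L146973) L155616
theorem L155628 : sm gg N13776 = N13185 := ded_43_1 (flp_i L150473) (flp_g L146975) L155616
theorem L155630 : sm gb N12842 = N13777 := rfl
theorem L155632 : sm gd N13777 = N13777 := ded_18_2 (flp_b L155630) L147006 L155630
theorem L155633 : sm ge N13777 = N13149 := ded_19_2 L150145 L147007 L155630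
theorem L155635 : sm gf N13777 = N13144 := ded_20_2 L150102 (flp_f L147000) L155630
theorem L155637 : sm gg N13777 = N12845 := ded_21_2 (flp_b L147030) (flp_g L147002) L155630
theorem L155639 : sm gh N13777 = N12854 := ded_22_2 (flp_b L147127) (flp_h L147004) L155630
theorem L155641 : sm ga N13777 = N13276 := ded_9_1 L151276 L142188 (flp_b L138228) (flp_a L146998) L155630
theorem L155643 : sm gi N12842 = N13778 := rfl
theorem L155645 : sm ga N13778 = N12884 := ded_16_1 (flp_i L147454) (flp_a L146998) L155643
theorem L155647 : sm gc N13778 = N12844 := ded_29_1 (flp_i L147022) L146996 L155643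
theorem L155649 : sm gd N13778 = N13778 := ded_34_1 (flp_i L155643) L147006 L155643
theorem L155650 : sm ge N13778 = N13202 := ded_38_1 (flp_i L150632) L147007 L155643
theorem L155652 : sm gf N13778 = N13196 := ded_41_1 (flp_i L150579) (flp_f L147000) L155643
theorem L155654 : sm gg N13778 = N12847 := ded_43_1 (flp_i L147051) (flp_g L147002) L155643
theorem L155656 : sm gi N12843 = N13779 := rfl
theorem L155658 : sm ga N13779 = N12885 := ded_16_1 (flp_i L147467) (flp_a L147011) L155656
theorem L155660 : sm gc N13779 = N13202 := ded_29_1 (flp_i L150632) (flp_c L147013) L155656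
theorem L155662 : sm gd N13779 = N13779 := ded_34_1 (flp_i L155656) L147019 L155656
theorem L155663 : sm ge N13779 = N12844 := ded_38_1 (flp_i L147022) L147009 L155656
theorem L155665 : sm gf N13779 = N13200 := ded_41_1 (flp_i L150613) (flp_f L147020) L155656
theorem L155667 : sm gg N13779 = N12849 := ded_43_1 (flp_i L147073) (flp_g L147015) L155656
theorem L155669 : sm gh N12844 = N13780 := rfl
theorem L155671 : sm ga N13780 = N12886 := ded_15_1 (flp_h L147480) (flp_a L147024) L155669
theorem L155673 : sm gg N13780 = N12850 := ded_42_1 (flp_h L147080) (flp_g L147028) L155669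
theorem L155675 : sm gd N13780 = N13387 := ded_33_1 (flp_h L152183) L143102 (flp_h L137909) (flp_d L147026) L155669
theorem L155677 : sm gi N13780 = N12857 := ded_44_2 (flp_h L147161) (flp_i L137978) (flp_h L137899) L147022 L155669
theorem L155679 : sm ga N12845 = N13781 := rfl
theorem L155681 : sm gd N13781 = N13781 := ded_11_2 (flp_a L155679) L147032 L155679
theorem L155682 : sm gf N13781 = N13189 := ded_13_2 (flp_a L150515) (flp_f L147033) L155679
theorem L155684 : sm gg N13781 = N13276 := ded_14_2 (flp_a L155641) L155637 L155679
theorem L155686 : sm gh N13781 = N12858 := ded_15_2 (flp_a L147169) (flp_h L147035) L155679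
theorem L155688 : sm gb N13781 = N12887 := ded_9_2 (flp_a L147490) (flp_b L138254) (flp_a L137913) L147030 L155679
theorem L155690 : sm ge N13781 = N13313 := ded_46_2 L151556 (flp_c L151708) L151706 L143582 L143586 L135941 L127761 (flp_d L127823) L127821 L74586 L74585 (flp_h L127843) L74582 (flp_e L74577) L54545 L40010 L29351 L21617 L15917 (flp_f L15913) (flp_e L11751) (flp_d L8663) L6435 L4753 L3546 (flp_h L3544) L2637 (flp_e L3485) (flp_d L3479) L2574 (flp_b L2415) (flp_a L3018) (flp_h L4013) L5384 L5391 L4037 (flp_c L5422) (flp_b L7279) (flp_a L9807) L9812 (flp_f L7369) (flp_e L5480) L4068 L4067 L4072 (flp_a L3260) (flp_h L3218) (flp_f L4269) L5790 L7816 L10597 (flp_b L14217) (flp_a L19323) L26283 (flp_f L35865) (flp_e L48908) L66908 L124435 L132333 L141426 (flp_h L150520) (flp_f L155682)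
theorem L155692 : sm ge N12845 = N13782 := rfl
theorem L155694 : sm ga N13782 = N13313 := ded_12_1 (flp_e L155690) (flp_a L155679) L155692
theorem L155696 : sm gb N13782 = N12846 := ded_19_1 (flp_e L147037) L147030 L155692
theorem L155698 : sm gg N13782 = N13149 := ded_36_2 (flp_e L155633) L155637 L155692
theorem L155700 : sm gh N13782 = N12859 := ded_37_2 (flp_e L147177) (flp_h L147035) L155692
theorem L155702 : sm gf N13782 = N13159 := ded_35_2 (flp_e L155450) L155454 (flp_e L150524) (flp_f L147033) L155692
theorem L155704 : sm gd N13165 = N13782 := ded_11_0 L155694 L151556 (flp_a L150277)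
theorem L155706 : sm gi N12845 = N13783 := rfl
theorem L155708 : sm gb N13783 = N12847 := ded_23_1 (flp_i L147051) L147030 L155706
theorem L155710 : sm gd N13783 = N13783 := ded_34_1 (flp_i L155706) L147032 L155706
theorem L155711 : sm gf N13783 = N13191 := ded_41_1 (flp_i L150534) (flp_f L147033) L155706
theorem L155713 : sm gi N12846 = N13784 := rfl
theorem L155715 : sm ga N13784 = N12889 := ded_16_1 (flp_i L147516) (flp_a L147039) L155713
theorem L155717 : sm gc N13784 = N12849 := ded_29_1 (flp_i L147073) (flp_c L147041) L155713
theorem L155719 : sm gd N13784 = N13215 := ded_34_1 (flp_i L150738) L147047 L155713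
theorem L155721 : sm ge N13784 = N12847 := ded_38_1 (flp_i L147051) L147037 L155713
theorem L155723 : sm gf N13784 = N13212 := ded_41_1 (flp_i L150710) L147049 L155713
theorem L155725 : sm gg N13784 = N13202 := ded_43_1 (flp_i L150632) (flp_g L147043) L155713
theorem L155727 : sm gh N12847 = N13785 := rfl
theorem L155729 : sm ga N13785 = N12890 := ded_15_1 (flp_h L147530) (flp_a L147053) L155727
theorem L155731 : sm gc N13785 = N12850 := ded_28_1 (flp_h L147080) (flp_c L147055) L155727
theorem L155733 : sm gf N13785 = N13193 := ded_40_1 (flp_h L150551) (flp_f L147058) L155727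
theorem L155735 : sm gi N13785 = N12863 := ded_44_2 (flp_h L147219) (flp_i L138002) (flp_h L137917) L147051 L155727
theorem L155737 : sm gi N12848 = N13786 := rfl
theorem L155739 : sm ga N13786 = N12891 := ded_16_1 (flp_i L147538) (flp_a L147062) L155737
theorem L155741 : sm gc N13786 = N13212 := ded_29_1 (flp_i L150710) (flp_c L147064) L155737
theorem L155743 : sm gd N13786 = N13786 := ded_34_1 (flp_i L155737) L147066 L155737
theorem L155744 : sm ge N13786 = N13194 := ded_38_1 (flp_i L150559) (flp_e L147069) L155737
theorem L155746 : sm gf N13786 = N12849 := ded_41_1 (flp_i L147073) L147060 L155737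
theorem L155748 : sm gg N13786 = N13209 := ded_43_1 (flp_i L150687) (flp_g L147071) L155737
theorem L155750 : sm gh N12849 = N13787 := rfl
theorem L155752 : sm ga N13787 = N12892 := ded_15_1 (flp_h L147551) (flp_a L147075) L155750
theorem L155754 : sm ge N13787 = N12850 := ded_37_1 (flp_h L147080) (flp_e L147078) L155750
theorem L155756 : sm gi N13787 = N12866 := ded_44_2 (flp_h L147251) (flp_i L138020) (flp_h L137924) L147073 L155750
theorem L155758 : sm gb N12851 = N13788 := rfl
theorem L155760 : sm gd N13788 = N12873 := ded_18_2 (flp_b L147325) (flp_d L147100) L155758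
theorem L155762 : sm ge N13788 = N13133 := ded_19_2 L149998 L147102 L155758
theorem L155764 : sm gf N13788 = N12854 := ded_20_2 (flp_b L147127) (flp_f L147094) L155758
theorem L155766 : sm gg N13788 = N13110 := ded_21_2 L149784 (flp_g L147096) L155758
theorem L155768 : sm gh N13788 = N13144 := ded_22_2 L150102 (flp_h L147098) L155758
theorem L155770 : sm ga N13788 = N13107 := ded_9_1 (flp_b L149744) L140634 (flp_b L138326) (flp_a L147092) L155758
theorem L155772 : sm gi N12851 = N13789 := rfl
theorem L155774 : sm ga N13789 = N12893 := ded_16_1 (flp_i L147559) (flp_a L147092) L155772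
theorem L155776 : sm gc N13789 = N12853 := ded_29_1 (flp_i L147117) L147090 L155772
theorem L155778 : sm gd N13789 = N12874 := ded_34_1 (flp_i L147336) (flp_d L147100) L155772
theorem L155780 : sm ge N13789 = N13185 := ded_38_1 (flp_i L150473) L147102 L155772
theorem L155782 : sm gf N13789 = N12855 := ded_41_1 (flp_i L147135) (flp_f L147094) L155772
theorem L155784 : sm gg N13789 = N13120 := ded_43_1 (flp_i L149871) (flp_g L147096) L155772
theorem L155786 : sm gi N12852 = N13790 := rfl
theorem L155788 : sm ga N13790 = N12894 := ded_16_1 (flp_i L147573) (flp_a L147106) L155786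
theorem L155790 : sm gc N13790 = N13185 := ded_29_1 (flp_i L150473) (flp_c L147108) L155786
theorem L155792 : sm gd N13790 = N13790 := ded_34_1 (flp_i L155786) L147114 L155786
theorem L155793 : sm ge N13790 = N12853 := ded_38_1 (flp_i L147117) L147104 L155786
theorem L155795 : sm gf N13790 = N13187 := ded_41_1 (flp_i L150492) (flp_f L147115) L155786
theorem L155797 : sm gg N13790 = N13196 := ded_43_1 (flp_i L150579) (flp_g L147110) L155786
theorem L155799 : sm gh N12853 = N13791 := rfl
theorem L155801 : sm ga N13791 = N12895 := ded_15_1 (flp_h L147586) (flp_a L147119) L155799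
theorem L155803 : sm gf N13791 = N12857 := ded_40_1 (flp_h L147161) (flp_f L147123) L155799
theorem L155805 : sm gg N13791 = N13197 := ded_42_1 (flp_h L150586) (flp_g L147125) L155799
theorem L155807 : sm gd N13791 = N13045 := ded_33_1 (flp_h L149077) L139728 (flp_h L137954) (flp_d L147121) L155799
theorem L155809 : sm ga N12854 = N13792 := rfl
theorem L155811 : sm gd N13792 = N12877 := ded_11_2 (flp_a L147382) (flp_d L147129) L155809
theorem L155813 : sm ge N13792 = N13297 := ded_12_2 L151432 (flp_e L147131) L155809
theorem L155815 : sm gf N13792 = N13107 := ded_13_2 (flp_a L155770) L155764 L155809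
theorem L155817 : sm gg N13792 = N12858 := ded_14_2 (flp_a L147169) (flp_g L147133) L155809
theorem L155819 : sm gh N13792 = N13276 := ded_15_2 (flp_a L155641) L155639 L155809
theorem L155821 : sm gb N13792 = N12896 := ded_9_2 (flp_a L147596) (flp_b L138355) (flp_a L137958) L147127 L155809
theorem L155823 : sm gi N12854 = N13793 := rfl
theorem L155825 : sm gb N13793 = N12855 := ded_23_1 (flp_i L147135) L147127 L155823
theorem L155827 : sm gd N13793 = N12878 := ded_34_1 (flp_i L147395) (flp_d L147129) L155823
theorem L155829 : sm ge N13793 = N13352 := ded_38_1 L151865 (flp_e L147131) L155823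
theorem L155831 : sm gg N13793 = N12860 := ded_43_1 (flp_i L147185) (flp_g L147133) L155823
theorem L155833 : sm gh N12855 = N13794 := rfl
theorem L155835 : sm ga N13794 = N12898 := ded_15_1 (flp_h L147624) (flp_a L147137) L155833
theorem L155837 : sm gc N13794 = N12857 := ded_28_1 (flp_h L147161) (flp_c L147139) L155833
theorem L155839 : sm ge N13794 = N13382 := ded_37_1 L152147 (flp_e L147143) L155833
theorem L155841 : sm gg N13794 = N12863 := ded_42_1 (flp_h L147219) (flp_g L147145) L155833
theorem L155843 : sm gh N12856 = N13795 := rfl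
theorem L155845 : sm ga N13795 = N12899 := ded_15_1 (flp_h L147632) (flp_a L147149) L155843
theorem L155847 : sm gc N13795 = N13382 := ded_28_1 L152147 (flp_c L147151) L155843
theorem L155849 : sm ge N13795 = N12857 := ded_37_1 (flp_h L147161) (flp_e L147155) L155843
theorem L155851 : sm gf N13795 = N13383 := ded_40_1 L152153 (flp_f L147157) L155843
theorem L155853 : sm gg N13795 = N12866 := ded_42_1 (flp_h L147251) (flp_g L147159) L155843
theorem L155855 : sm ge N12858 = N13796 := rfl
theorem L155857 : sm ga N13796 = N12859 := ded_12_1 (flp_e L147177) L147169 L155855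
theorem L155859 : sm gb N13796 = N12900 := ded_19_1 (flp_e L147644) (flp_b L147175) L155855
theorem L155861 : sm gg N13796 = N13297 := ded_36_2 (flp_e L155813) L155817 L155855
theorem L155863 : sm gh N13796 = N13313 := ded_37_2 (flp_e L155690) L155686 L155855
theorem L155865 : sm gd N13796 = N13512 := ded_30_1 L153355 (flp_d L146561) L146563 (flp_d L147171) L155855
theorem L155867 : sm gf N13306 = N13796 := ded_46_1 (flp_e L155855) L147171 (flp_c L140739) L140744 (flp_a L131947) L124173 L124171 L67169 (flp_d L124643) (flp_c L124637) L67054 (flp_a L67961) (flp_h L125422) (flp_f L133027) (flp_e L140636) L140642 (flp_c L131800) L124020 L122245 L64934 (flp_f L122433) L129887 L129896 L129891 (flp_b L131442) (flp_a L140237) L140245 L140241 L134919 (flp_d L127030) L72249 (flp_b L126951) L126949 (flp_h L73356) (flp_f L73354) (flp_e L127334) (flp_d L135009) (flp_c L144165) L144164 L144162 (flp_h L142541) (flp_f L142535) (flp_e L133361) (flp_d L126083) L126089 (flp_b L69917) L51079 L37534 L37533 L51263 (flp_d L68207) L68205 (flp_b L67074) (flp_a L124443) (flp_h L132282) L141336 (flp_e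 L147069) L147066 L147064 (flp_b L150223) L150221 (flp_h L151502)
theorem L155869 : sm gi N12858 = N13797 := rfl
theorem L155871 : sm ga N13797 = N12860 := ded_16_1 (flp_i L147185) L147169 L155869
theorem L155873 : sm gb N13797 = N12901 := ded_23_1 (flp_i L147658) (flp_b L147175) L155869
theorem L155875 : sm gd N13797 = N12880 := ded_34_1 (flp_i L147416) (flp_d L147171) L155869
theorem L155877 : sm gf N13797 = N13205 := ded_41_1 (flp_i L150661) (flp_f L147173) L155869
theorem L155879 : sm gf N12859 = N13798 := rfl
theorem L155881 : sm ga N13798 = N13306 := ded_13_1 L155867 L155857 L155879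
theorem L155883 : sm gb N13798 = N12861 := ded_20_1 (flp_f L147193) (flp_b L147179) L155879
theorem L155885 : sm gd N13798 = N13495 := ded_31_1 L153174 (flp_d L147183) L155879
theorem L155887 : sm gh N13798 = N13159 := ded_40_2 (flp_f L155702) L155700 L155879
theorem L155889 : sm ge N13798 = N13206 := ded_35_1 (flp_f L150671) (flp_e L141434) (flp_f L137990) L147177 L155879
theorem L155891 : sm gg N13798 = N13140 := ded_39_2 (flp_f L150060) L140967 (flp_f L144708) (flp_g L147181) L155879
theorem L155893 : sm gi N12859 = N13799 := rfl
theorem L155895 : sm gb N13799 = N12862 := ded_23_1 (flp_i L147207) (flp_b L147179) L155893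
theorem L155897 : sm gd N13799 = N13351 := ded_34_1 L151857 (flp_d L147183) L155893
theorem L155899 : sm ge N13799 = N12860 := ded_38_1 (flp_i L147185) L147177 L155893
theorem L155901 : sm gg N13799 = N13352 := ded_43_1 L151865 (flp_g L147181) L155893
theorem L155903 : sm gh N12860 = N13800 := rfl
theorem L155905 : sm gb N13800 = N12863 := ded_22_1 (flp_h L147219) (flp_b L147187) L155903
theorem L155907 : sm gf N13800 = N13208 := ded_40_1 (flp_h L150683) (flp_f L147191) L155903
theorem L155909 : sm gi N12861 = N13801 := rfl
theorem L155911 : sm ga N13801 = N12904 := ded_16_1 (flp_i L147690) (flp_a L147195) L155909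
theorem L155913 : sm gc N13801 = N12865 := ded_29_1 (flp_i L147241) (flp_c L147197) L155909
theorem L155915 : sm gd N13801 = N13384 := ded_34_1 L152166 (flp_d L147199) L155909
theorem L155917 : sm ge N13801 = N13209 := ded_38_1 (flp_i L150687) (flp_e L147203) L155909
theorem L155919 : sm gf N13801 = N12862 := ded_41_1 (flp_i L147207) L147193 L155909
theorem L155921 : sm gg N13801 = N13194 := ded_43_1 (flp_i L150559) (flp_g L147205) L155909
theorem L155923 : sm gh N12862 = N13802 := rfl
theorem L155925 : sm ga N13802 = N12905 := ded_15_1 (flp_h L147704) (flp_a L147209) L155923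
theorem L155927 : sm gc N13802 = N12866 := ded_28_1 (flp_h L147251) (flp_c L147211) L155923
theorem L155929 : sm ge N13802 = N12863 := ded_37_1 (flp_h L147219) (flp_e L147215) L155923
theorem L155931 : sm gg N13802 = N13382 := ded_42_1 L152147 (flp_g L147217) L155923
theorem L155933 : sm gd N13802 = N13381 := ded_33_1 (flp_h L152135) L143008 L143046 (flp_d L147213) L155923
theorem L155935 : sm gd N12863 = N13803 := rfl
theorem L155937 : sm ga N13803 = N12906 := ded_11_1 (flp_d L147714) (flp_a L147221) L155935
theorem L155939 : sm gf N13803 = N13211 := ded_31_2 (flp_d L150704) (flp_f L147225) L155935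
theorem L155941 : sm gc N13803 = N13623 := ded_24_1 (flp_d L154338) L145448 (flp_d L138034) (flp_c L147223) L155935
theorem L155943 : sm gh N13803 = N12882 := ded_33_2 (flp_d L147431) (flp_h L138184) (flp_d L138008) L147219 L155935
theorem L155945 : sm gi N12864 = N13804 := rfl
theorem L155947 : sm ga N13804 = N12907 := ded_16_1 (flp_i L147722) (flp_a L147229) L155945
theorem L155949 : sm gc N13804 = N13194 := ded_29_1 (flp_i L150559) (flp_c L147231) L155945
theorem L155951 : sm gd N13804 = N12868 := ded_34_1 (flp_i L147270) (flp_d L147233) L155945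
theorem L155953 : sm ge N13804 = N13212 := ded_38_1 (flp_i L150710) (flp_e L147235) L155945
theorem L155955 : sm gf N13804 = N13192 := ded_41_1 (flp_i L150539) (flp_f L147239) L155945
theorem L155957 : sm gg N13804 = N12865 := ded_43_1 (flp_i L147241) L147227 L155945
theorem L155959 : sm gh N12865 = N13805 := rfl
theorem L155961 : sm ga N13805 = N12908 := ded_15_1 (flp_h L147736) (flp_a L147243) L155959
theorem L155963 : sm ge N13805 = N13213 := ded_37_1 (flp_h L150718) (flp_e L147247) L155959
theorem L155965 : sm gf N13805 = N12866 := ded_40_1 (flp_h L147251) (flp_f L147249) L155959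
theorem L155967 : sm gd N12866 = N13806 := rfl
theorem L155969 : sm ga N13806 = N12909 := ded_11_1 (flp_d L147744) (flp_a L147253) L155967
theorem L155971 : sm ge N13806 = N13625 := ded_30_2 (flp_d L154350) L145462 (flp_d L138034) (flp_e L147255) L155967
theorem L155973 : sm gh N13806 = N12870 := ded_33_2 (flp_d L147297) (flp_h L138077) (flp_d L138024) L147251 L155967
theorem L155975 : sm gd N12867 = N13807 := rfl
theorem L155977 : sm ga N13807 = N12910 := ded_11_1 (flp_d L147752) (flp_a L147259) L155975
theorem L155979 : sm gf N13807 = N13478 := ded_31_2 L153011 (flp_f L147265) L155975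
theorem L155981 : sm gg N13807 = N12870 := ded_32_2 (flp_d L147297) (flp_g L147267) L155975
theorem L155983 : sm gi N13807 = N13807 := ded_34_2 (flp_d L155975) L147269 L155975
theorem L155984 : sm gc N13807 = N13477 := ded_24_1 (flp_d L152997) L143891 L143914 (flp_c L147261) L155975
theorem L155986 : sm ge N13807 = N13483 := ded_30_2 (flp_d L153049) L143992 (flp_d L138055) (flp_e L147263) L155975
theorem L155988 : sm gd N12869 = N13808 := rfl
theorem L155990 : sm ga N13808 = N12911 := ded_11_1 (flp_d L147765) (flp_a L147286) L155988
theorem L155992 : sm gf N13808 = N12870 := ded_31_2 (flp_d L147297) (flp_f L147292) L155988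
theorem L155994 : sm gg N13808 = N13687 := ded_32_2 L154795 (flp_g L147294) L155988
theorem L155996 : sm gi N13808 = N13808 := ded_34_2 (flp_d L155988) L147296 L155988
theorem L155997 : sm gc N13808 = N13686 := ded_24_1 (flp_d L154781) L145929 L146294 (flp_c L147288) L155988
theorem L155999 : sm gc N12870 = N13809 := rfl
theorem L156001 : sm ga N13809 = N12912 := ded_10_1 (flp_c L147776) (flp_a L147299) L155999
theorem L156003 : sm ge N13809 = N13628 := ded_25_2 (flp_c L154373) (flp_e L147302) L155999
theorem L156005 : sm gf N13809 = N13686 := ded_26_2 (flp_c L155997) L155992 L155999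
theorem L156007 : sm gg N13809 = N13477 := ded_27_2 (flp_c L155984) L155981 L155999
theorem L156009 : sm gi N13809 = N13809 := ded_29_2 (flp_c L155999) L147301 L155999
theorem L156010 : sm gd N13809 = N13476 := ded_24_2 L152989 (flp_d L146513) L146505 L147297 L155999
theorem L156012 : sm ge N12872 = N13810 := rfl
theorem L156014 : sm ga N13810 = N12913 := ded_12_1 (flp_e L147787) (flp_a L147318) L156012
theorem L156016 : sm gc N13810 = N12919 := ded_25_1 (flp_e L154813) L154824 L156012
theorem L156018 : sm gg N13810 = N12916 := ded_36_2 (flp_e L155151) L155154 L156012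
theorem L156020 : sm gh N13810 = N12914 := ded_37_2 L147806 (flp_h L147323) L156012
theorem L156022 : sm gi N13810 = N13810 := ded_38_2 (flp_e L156012) L147322 L156012
theorem L156023 : sm gf N13810 = N13115 := ded_35_2 L149828 L145501 (flp_e L138106) (flp_f L147320) L156012
theorem L156025 : sm gi N12873 = N13811 := rfl
theorem L156027 : sm ga N13811 = N13114 := ded_16_1 (flp_i L149814) (flp_a L147334) L156025
theorem L156029 : sm gb N13811 = N12874 := ded_23_1 (flp_i L147336) L147325 L156025
theorem L156031 : sm ge N13811 = N13273 := ded_38_1 L151250 (flp_e L147327) L156025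
theorem L156033 : sm gf N13811 = N12878 := ded_41_1 (flp_i L147395) (flp_f L147329) L156025
theorem L156035 : sm gg N13811 = N13116 := ded_43_1 (flp_i L149833) (flp_g L147331) L156025
theorem L156037 : sm gh N13680 = N13811 := ded_22_0 L156029 (flp_h L147348) (flp_b L154743)
theorem L156039 : sm gi N12877 = N13812 := rfl
theorem L156041 : sm ga N13812 = N12878 := ded_16_1 (flp_i L147395) L147382 L156039
theorem L156043 : sm gb N13812 = N12914 := ded_23_1 (flp_i L147800) (flp_b L147393) L156039
theorem L156045 : sm gc N13812 = N13811 := ded_29_1 (flp_i L156025) (flp_c L147384) L156039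
theorem L156047 : sm ge N13812 = N13184 := ded_38_1 L150471 (flp_e L147386) L156039
theorem L156049 : sm gf N13812 = N13114 := ded_41_1 (flp_i L149814) (flp_f L147388) L156039
theorem L156051 : sm gg N13812 = N12880 := ded_43_1 (flp_i L147416) (flp_g L147390) L156039
theorem L156053 : sm gh N12878 = N13813 := rfl
theorem L156055 : sm gb N13813 = N12879 := ded_22_1 (flp_h L147403) (flp_b L147397) L156053
theorem L156057 : sm ge N13813 = N12982 := ded_37_1 L148373 (flp_e L147399) L156053
theorem L156059 : sm gf N13813 = N13680 := ded_40_1 L156037 L156033 L156053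
theorem L156061 : sm gg N13813 = N12881 := ded_42_1 (flp_h L147424) (flp_g L147401) L156053
theorem L156063 : sm gi N13813 = N13813 := ded_44_2 (flp_h L156053) (flp_i L147395) L138151 L147395 L156053
theorem L156064 : sm gd N12879 = N13814 := rfl
theorem L156066 : sm ga N13814 = N12915 := ded_11_1 (flp_d L147812) (flp_a L147405) L156064
theorem L156068 : sm gf N13814 = N13688 := ded_31_2 L154802 (flp_f L147411) L156064
theorem L156070 : sm gg N13814 = N12882 := ded_32_2 (flp_d L147431) (flp_g L147413) L156064
theorem L156072 : sm gi N13814 = N13814 := ded_34_2 (flp_d L156064) L147415 L156064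
theorem L156073 : sm gc N13814 = N13244 := ded_24_1 (flp_d L151001) L141872 (flp_d L138168) (flp_c L147407) L156064
theorem L156075 : sm ge N13814 = N13023 := ded_30_2 (flp_d L148819) L139395 L139416 (flp_e L147409) L156064
theorem L156077 : sm gh N12880 = N13815 := rfl
theorem L156079 : sm ga N13815 = N12881 := ded_15_1 (flp_h L147424) (flp_a L147418) L156077
theorem L156081 : sm gb N13815 = N12916 := ded_22_1 (flp_h L147823) (flp_b L147420) L156077
theorem L156083 : sm gf N13815 = N13220 := ded_40_1 (flp_h L150790) (flp_f L147422) L156077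
theorem L156085 : sm gi N13815 = N13815 := ded_44_2 (flp_h L156077) (flp_i L147416) L138175 L147416 L156077
theorem L156086 : sm gd N12881 = N13816 := rfl
theorem L156088 : sm gb N13816 = N12882 := ded_18_1 (flp_d L147431) (flp_b L147426) L156086
theorem L156090 : sm gf N13816 = N13221 := ded_31_2 (flp_d L150802) (flp_f L147428) L156086
theorem L156092 : sm gi N13816 = N13816 := ded_34_2 (flp_d L156086) L147430 L156086
theorem L156093 : sm ge N12882 = N13817 := rfl
theorem L156095 : sm ga N13817 = N12918 := ded_12_1 (flp_e L147843) (flp_a L147433) L156093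
theorem L156097 : sm gc N13817 = N13630 := ded_25_1 (flp_e L154384) (flp_c L147438) L156093
theorem L156099 : sm gg N13817 = N13023 := ded_36_2 (flp_e L156075) L156070 L156093
theorem L156101 : sm gi N13817 = N13817 := ded_38_2 (flp_e L156093) L147437 L156093
theorem L156102 : sm gd N13817 = N13022 := ded_30_1 L148812 (flp_d L146593) L146588 L147431 L156093
theorem L156104 : sm gf N13696 = N13817 := ded_13_0 L156095 (flp_f L147854) L154853
theorem L156106 : sm gh N12883 = N13818 := rfl
theorem L156108 : sm gb N13818 = N13026 := ded_22_1 (flp_h L148849) (flp_b L147442) L156106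
theorem L156110 : sm gc N13818 = N13230 := ded_28_1 (flp_h L150881) (flp_c L147444) L156106
theorem L156112 : sm ge N13818 = N13121 := ded_37_1 (flp_h L149881) (flp_e L147448) L156106
theorem L156114 : sm gf N13818 = N12886 := ded_40_1 (flp_h L147480) (flp_f L147450) L156106
theorem L156116 : sm gg N13818 = N13223 := ded_42_1 (flp_h L150813) (flp_g L147452) L156106
theorem L156118 : sm gd N13818 = N13030 := ded_33_1 (flp_h L148903) L139547 (flp_h L138218) (flp_d L147446) L156106
theorem L156120 : sm gi N13818 = N12895 := ded_44_2 (flp_h L147586) (flp_i L138345) (flp_h L138203) L147440 L156106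
theorem L156122 : sm gh N12884 = N13819 := rfl
theorem L156124 : sm gb N13819 = N13282 := ded_22_1 (flp_h L151321) (flp_b L147456) L156122
theorem L156126 : sm gc N13819 = N12886 := ded_28_1 (flp_h L147480) (flp_c L147458) L156122
theorem L156128 : sm ge N13819 = N13233 := ded_37_1 (flp_h L150907) (flp_e L147461) L156122
theorem L156130 : sm gf N13819 = N13230 := ded_40_1 (flp_h L150881) (flp_f L147463) L156122
theorem L156132 : sm gg N13819 = N12890 := ded_42_1 (flp_h L147530) (flp_g L147465) L156122
theorem L156134 : sm gi N13819 = N12898 := ded_44_2 (flp_h L147624) (flp_i L138369) (flp_h L138226) L147454 L156122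
theorem L156136 : sm gh N12885 = N13820 := rfl
theorem L156138 : sm gb N13820 = N13028 := ded_22_1 (flp_h L148879) (flp_b L147469) L156136
theorem L156140 : sm gc N13820 = N13233 := ded_28_1 (flp_h L150907) (flp_c L147471) L156136
theorem L156142 : sm ge N13820 = N12886 := ded_37_1 (flp_h L147480) (flp_e L147474) L156136
theorem L156144 : sm gf N13820 = N13231 := ded_40_1 (flp_h L150887) (flp_f L147476) L156136
theorem L156146 : sm gg N13820 = N12892 := ded_42_1 (flp_h L147551) (flp_g L147478) L156136
theorem L156148 : sm gi N13820 = N12899 := ded_44_2 (flp_h L147632) (flp_i L138379) (flp_h L138241) L147467 L156136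
theorem L156150 : sm gi N12887 = N13821 := rfl
theorem L156152 : sm ga N13821 = N12888 := ded_16_1 (flp_i L147503) L147490 L156150
theorem L156154 : sm gc N13821 = N13029 := ded_29_1 (flp_i L148891) (flp_c L147492) L156150
theorem L156156 : sm gd N13821 = N13821 := ded_34_1 (flp_i L156150) L147494 L156150
theorem L156157 : sm ge N13821 = N13370 := ded_38_1 (flp_i L152035) (flp_e L147495) L156150
theorem L156159 : sm gf N13821 = N13225 := ded_41_1 (flp_i L150835) (flp_f L147497) L156150
theorem L156161 : sm gg N13821 = N13279 := ded_43_1 (flp_i L151294) (flp_g L147499) L156150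
theorem L156163 : sm gh N12888 = N13822 := rfl
theorem L156165 : sm gb N13822 = N12890 := ded_22_1 (flp_h L147530) (flp_b L147505) L156163
theorem L156167 : sm gc N13822 = N13030 := ded_28_1 (flp_h L148903) (flp_c L147507) L156163
theorem L156169 : sm ge N13822 = N13392 := ded_37_1 (flp_h L152222) (flp_e L147510) L156163
theorem L156171 : sm gf N13822 = N13226 := ded_40_1 (flp_h L150844) (flp_f L147512) L156163
theorem L156173 : sm gg N13822 = N13282 := ded_42_1 (flp_h L151321) (flp_g L147514) L156163
theorem L156175 : sm gi N13822 = N12903 := ded_44_2 (flp_h L147682) (flp_i L138423) (flp_h L138261) L147503 L156163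
theorem L156177 : sm gh N12889 = N13823 := rfl
theorem L156179 : sm gb N13823 = N13392 := ded_22_1 (flp_h L152222) (flp_b L147518) L156177
theorem L156181 : sm gc N13823 = N12892 := ded_28_1 (flp_h L147551) (flp_c L147520) L156177
theorem L156183 : sm ge N13823 = N12890 := ded_37_1 (flp_h L147530) (flp_e L147524) L156177
theorem L156185 : sm gf N13823 = N13241 := ded_40_1 (flp_h L150971) (flp_f L147526) L156177
theorem L156187 : sm gg N13823 = N13233 := ded_42_1 (flp_h L150907) (flp_g L147528) L156177
theorem L156189 : sm gd N13823 = N13391 := ded_33_1 (flp_h L152216) L143142 (flp_h L141836) (flp_d L147522) L156177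
theorem L156191 : sm gi N13823 = N12905 := ded_44_2 (flp_h L147704) (flp_i L138447) (flp_h L138275) L147516 L156177
theorem L156193 : sm gd N12890 = N13824 := rfl
theorem L156195 : sm gf N13824 = N13228 := ded_31_2 (flp_d L150866) (flp_f L147534) L156193
theorem L156197 : sm gi N13824 = N12906 := ded_34_2 (flp_d L147714) (flp_i L147536) L156193
theorem L156199 : sm gc N13824 = N13631 := ded_24_1 (flp_d L154390) L145530 (flp_d L138314) (flp_c L147532) L156193
theorem L156201 : sm gh N13824 = N13824 := ded_33_2 (flp_d L156193) (flp_h L147530) L138285 L147530 L156193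
theorem L156202 : sm gh N12891 = N13825 := rfl
theorem L156204 : sm gb N13825 = N13034 := ded_22_1 (flp_h L148954) (flp_b L147540) L156202
theorem L156206 : sm gc N13825 = N13241 := ded_28_1 (flp_h L150971) (flp_c L147542) L156202
theorem L156208 : sm ge N13825 = N13229 := ded_37_1 (flp_h L150871) (flp_e L147545) L156202
theorem L156210 : sm gf N13825 = N12892 := ded_40_1 (flp_h L147551) (flp_f L147547) L156202
theorem L156212 : sm gg N13825 = N13238 := ded_42_1 (flp_h L150954) (flp_g L147549) L156202
theorem L156214 : sm gi N13825 = N12908 := ded_44_2 (flp_h L147736) (flp_i L138477) (flp_h L138295) L147538 L156202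
theorem L156216 : sm gd N12892 = N13826 := rfl
theorem L156218 : sm gb N13826 = N13035 := ded_18_1 (flp_d L148962) (flp_b L147553) L156216
theorem L156220 : sm gi N13826 = N12909 := ded_34_2 (flp_d L147744) (flp_i L147557) L156216
theorem L156222 : sm ge N13826 = N13632 := ded_30_2 (flp_d L154395) L145538 (flp_d L138314) (flp_e L147555) L156216
theorem L156224 : sm gh N13826 = N13826 := ded_33_2 (flp_d L156216) (flp_h L147551) L138305 L147551 L156216
theorem L156225 : sm gh N12893 = N13827 := rfl
theorem L156227 : sm gb N13827 = N13119 := ded_22_1 (flp_h L149861) (flp_b L147561) L156225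
theorem L156229 : sm gc N13827 = N12895 := ded_28_1 (flp_h L147586) (flp_c L147563) L156225
theorem L156231 : sm ge N13827 = N13223 := ded_37_1 (flp_h L150813) (flp_e L147567) L156225
theorem L156233 : sm gf N13827 = N12898 := ded_40_1 (flp_h L147624) (flp_f L147569) L156225
theorem L156235 : sm gg N13827 = N13121 := ded_42_1 (flp_h L149881) (flp_g L147571) L156225
theorem L156237 : sm gd N13827 = N13694 := ded_33_1 L154847 L146026 L138581 (flp_d L147565) L156225
theorem L156239 : sm gi N13827 = N13230 := ded_44_2 (flp_h L150881) (flp_i L141691) (flp_h L138324) L147559 L156225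
theorem L156241 : sm gh N12894 = N13828 := rfl
theorem L156243 : sm gb N13828 = N13036 := ded_22_1 (flp_h L148969) (flp_b L147575) L156241
theorem L156245 : sm gc N13828 = N13223 := ded_28_1 (flp_h L150813) (flp_c L147577) L156241
theorem L156247 : sm ge N13828 = N12895 := ded_37_1 (flp_h L147586) (flp_e L147580) L156241
theorem L156249 : sm gf N13828 = N13224 := ded_40_1 (flp_h L150823) (flp_f L147582) L156241
theorem L156251 : sm gg N13828 = N13230 := ded_42_1 (flp_h L150881) (flp_g L147584) L156241
theorem L156253 : sm gi N13828 = N13121 := ded_44_2 (flp_h L149881) (flp_i L140807) (flp_h L138340) L147573 L156241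
theorem L156255 : sm gi N12896 = N13829 := rfl
theorem L156257 : sm ga N13829 = N12897 := ded_16_1 (flp_i L147610) L147596 L156255
theorem L156259 : sm gc N13829 = N13037 := ded_29_1 (flp_i L148981) (flp_c L147598) L156255
theorem L156261 : sm gd N13829 = N12914 := ded_34_1 (flp_i L147800) (flp_d L147600) L156255
theorem L156263 : sm ge N13829 = N13217 := ded_38_1 L150769 (flp_e L147602) L156255
theorem L156265 : sm gf N13829 = N13108 := ded_41_1 (flp_i L149754) (flp_f L147604) L156255
theorem L156267 : sm gg N13829 = N12901 := ded_43_1 (flp_i L147658) (flp_g L147606) L156255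
theorem L156269 : sm gh N12897 = N13830 := rfl
theorem L156271 : sm gb N13830 = N12898 := ded_22_1 (flp_h L147624) (flp_b L147612) L156269
theorem L156273 : sm gc N13830 = N13038 := ded_28_1 (flp_h L148993) (flp_c L147614) L156269
theorem L156275 : sm ge N13830 = N13242 := ded_37_1 L150985 (flp_e L147618) L156269
theorem L156277 : sm gf N13830 = N13119 := ded_40_1 (flp_h L149861) (flp_f L147620) L156269
theorem L156279 : sm gg N13830 = N12903 := ded_42_1 (flp_h L147682) (flp_g L147622) L156269
theorem L156281 : sm gi N13830 = N13282 := ded_44_2 (flp_h L151321) (flp_i L142270) (flp_h L138365) L147610 L156269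
theorem L156283 : sm gd N12898 = N13831 := rfl
theorem L156285 : sm gf N13831 = N13694 := ded_31_2 (flp_d L156237) L156233 L156283
theorem L156287 : sm gg N13831 = N12906 := ded_32_2 (flp_d L147714) (flp_g L147630) L156283
theorem L156289 : sm gc N13831 = N13237 := ded_24_1 (flp_d L150946) L141777 (flp_d L138399) (flp_c L147626) L156283
theorem L156291 : sm ge N13831 = N13052 := ded_30_2 (flp_d L149136) L139798 L143232 (flp_e L147628) L156283
theorem L156293 : sm gh N13831 = N12915 := ded_33_2 (flp_d L147812) (flp_h L138642) (flp_d L138373) L147624 L156283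
theorem L156295 : sm gd N12899 = N13832 := rfl
theorem L156297 : sm gb N13832 = N13042 := ded_18_1 (flp_d L149047) (flp_b L147634) L156295
theorem L156299 : sm gf N13832 = N13399 := ded_31_2 L152280 (flp_f L147640) L156295
theorem L156301 : sm gg N13832 = N12909 := ded_32_2 (flp_d L147744) (flp_g L147642) L156295
theorem L156303 : sm gc N13832 = N13398 := ded_24_1 (flp_d L152268) L143218 L143232 (flp_c L147636) L156295
theorem L156305 : sm ge N13832 = N13396 := ded_30_2 (flp_d L152252) L143202 (flp_d L138399) (flp_e L147638) L156295
theorem L156307 : sm gh N13832 = N12910 := ded_33_2 (flp_d L147752) (flp_h L138493) (flp_d L138385) L147632 L156295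
theorem L156309 : sm gi N12900 = N13833 := rfl
theorem L156311 : sm ga N13833 = N12902 := ded_16_1 (flp_i L147668) (flp_a L147646) L156309
theorem L156313 : sm gc N13833 = N13044 := ded_29_1 (flp_i L149068) (flp_c L147648) L156309
theorem L156315 : sm gd N13833 = N13216 := ded_34_1 L150761 (flp_d L147654) L156309
theorem L156317 : sm ge N13833 = N12901 := ded_38_1 (flp_i L147658) L147644 L156309
theorem L156319 : sm gf N13833 = N13368 := ded_41_1 (flp_i L152019) L147656 L156309
theorem L156321 : sm gg N13833 = N13217 := ded_43_1 L150769 (flp_g L147650) L156309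
theorem L156323 : sm gh N12901 = N13834 := rfl
theorem L156325 : sm ga N13834 = N12903 := ded_15_1 (flp_h L147682) (flp_a L147660) L156323
theorem L156327 : sm gc N13834 = N13045 := ded_28_1 (flp_h L149077) (flp_c L147662) L156323
theorem L156329 : sm gf N13834 = N13235 := ded_40_1 (flp_h L150928) (flp_f L147666) L156323
theorem L156331 : sm gh N12902 = N13835 := rfl
theorem L156333 : sm gb N13835 = N12905 := ded_22_1 (flp_h L147704) (flp_b L147670) L156331
theorem L156335 : sm gc N13835 = N13047 := ded_28_1 (flp_h L149096) (flp_c L147672) L156331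
theorem L156337 : sm ge N13835 = N12903 := ded_37_1 (flp_h L147682) (flp_e L147676) L156331
theorem L156339 : sm gf N13835 = N13391 := ded_40_1 (flp_h L152216) (flp_f L147678) L156331
theorem L156341 : sm gg N13835 = N13242 := ded_42_1 L150985 (flp_g L147680) L156331
theorem L156343 : sm gd N13835 = N13241 := ded_33_1 (flp_h L150971) L141802 L141838 (flp_d L147674) L156331
theorem L156345 : sm gi N13835 = N13392 := ded_44_2 (flp_h L152222) (flp_i L143152) (flp_h L138417) L147668 L156331
theorem L156347 : sm gd N12903 = N13836 := rfl
theorem L156349 : sm gb N13836 = N12906 := ded_18_1 (flp_d L147714) (flp_b L147684) L156347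
theorem L156351 : sm gf N13836 = N13237 := ded_31_2 (flp_d L150946) (flp_f L147688) L156347
theorem L156353 : sm gc N13836 = N13694 := ded_24_1 (flp_d L156237) L156229 L147594 (flp_c L147686) L156347
theorem L156355 : sm gh N13836 = N12917 := ded_33_2 (flp_d L147832) (flp_h L138661) (flp_d L138429) L147682 L156347
theorem L156357 : sm ge N13693 = N13836 := ded_45_4 (flp_d L156347) L147684 L138459 L129800 (flp_i L136510) (flp_h L136506) L128300 (flp_f L124073) L124071 L67604 (flp_b L66645) L66647 (flp_d L66338) (flp_i L66334) (flp_h L48509) L35567 L26097 L26093 (flp_d L35567) L35565 L26110 L26111 L19220 L19218 (flp_d L19297) L19301 (flp_e L26235) L26234 (flp_b L35747) (flp_c L48698) (flp_d L119465) L119470 L67021 L124580 (flp_f L132494) L138330 L138328 L129883 (flp_c L124156) (flp_d L66703) L66710 L66718 (flp_d L67177) (flp_f L124215) (flp_e L131517) L131516 L131514 L123789 L66385 (flp_i L48553) (flp_h L35597) L26104 L26105 (flp_e L26098) L19199 (flp_b L19186) L19188 (flp_d L20547) L20549 (flp_h L119859) L119854 L20666 L15176 (flp_d L20555) L20552 L15125 L15127 L15212 L15219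 L11269 (flp_f L15322) L120477 L11444 (flp_b L11703) (flp_c L15839) L21546 L29286 L39954 L39960 L39957 (flp_e L54498) L74526 L74528 L128011 L132547 L141655 L150854 L150862 (flp_f L154841)
theorem L156359 : sm gh N12904 = N13837 := rfl
theorem L156361 : sm gb N13837 = N13391 := ded_22_1 (flp_h L152216) (flp_b L147692) L156359
theorem L156363 : sm gc N13837 = N12908 := ded_28_1 (flp_h L147736) (flp_c L147694) L156359
theorem L156365 : sm ge N13837 = N13238 := ded_37_1 (flp_h L150954) (flp_e L147698) L156359
theorem L156367 : sm gf N13837 = N12905 := ded_40_1 (flp_h L147704) (flp_f L147700) L156359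
theorem L156369 : sm gg N13837 = N13229 := ded_42_1 (flp_h L150871) (flp_g L147702) L156359
theorem L156371 : sm gd N13837 = N13392 := ded_33_1 (flp_h L152222) L143156 L143242 (flp_d L147696) L156359
theorem L156373 : sm gi N13837 = N13241 := ded_44_2 (flp_h L150971) (flp_i L141798) (flp_h L138441) L147690 L156359
theorem L156375 : sm ge N12906 = N13838 := rfl
theorem L156377 : sm gb N13838 = N13693 := ded_19_1 L156357 L156349 L156375
theorem L156379 : sm gc N13838 = N13634 := ded_25_1 (flp_e L154405) (flp_c L147718) L156375
theorem L156381 : sm gg N13838 = N13052 := ded_36_2 (flp_e L156291) L156287 L156375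
theorem L156383 : sm gh N13838 = N12918 := ded_37_2 (flp_e L147843) (flp_h L147720) L156375
theorem L156385 : sm gd N13838 = N13051 := ded_30_1 L149132 (flp_d L147712) L147708 L147714 L156375
theorem L156387 : sm gf N13695 = N13838 := ded_20_0 L156377 L154841 L154849
theorem L156389 : sm gh N12907 = N13839 := rfl
theorem L156391 : sm gb N13839 = N13051 := ded_22_1 (flp_h L149130) (flp_b L147724) L156389
theorem L156393 : sm gc N13839 = N13229 := ded_28_1 (flp_h L150871) (flp_c L147726) L156389
theorem L156395 : sm ge N13839 = N13241 := ded_37_1 (flp_h L150971) (flp_e L147730) L156389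
theorem L156397 : sm gf N13839 = N13227 := ded_40_1 (flp_h L150854) (flp_f L147732) L156389
theorem L156399 : sm gg N13839 = N12908 := ded_42_1 (flp_h L147736) (flp_g L147734) L156389
theorem L156401 : sm gd N13839 = N13693 := ded_33_1 L154843 L146021 L138518 (flp_d L147728) L156389
theorem L156403 : sm gi N13839 = N13238 := ded_44_2 (flp_h L150954) (flp_i L141781) (flp_h L138473) L147722 L156389
theorem L156405 : sm gd N12908 = N13840 := rfl
theorem L156407 : sm gb N13840 = N13052 := ded_18_1 (flp_d L149136) (flp_b L147738) L156405
theorem L156409 : sm gf N13840 = N12909 := ded_31_2 (flp_d L147744) (flp_f L147742) L156405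
theorem L156411 : sm gg N13840 = N13693 := ded_32_2 (flp_d L156401) L156399 L156405
theorem L156413 : sm gc N13840 = N13692 := ded_24_1 (flp_d L154833) (flp_c L152224) (flp_d L156371) L156363 L156405
theorem L156415 : sm gh N13840 = N12911 := ded_33_2 (flp_d L147765) (flp_h L138520) (flp_d L138481) L147736 L156405
theorem L156417 : sm gc N12909 = N13841 := rfl
theorem L156419 : sm ge N13841 = N13636 := ded_25_2 (flp_c L154417) (flp_e L147748) L156417
theorem L156421 : sm gf N13841 = N13692 := ded_26_2 (flp_c L156413) L156409 L156417
theorem L156423 : sm gg N13841 = N13398 := ded_27_2 (flp_c L156303) L156301 L156417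
theorem L156425 : sm gh N13841 = N12912 := ded_28_2 (flp_c L147776) (flp_h L147750) L156417
theorem L156427 : sm gd N13841 = N13397 := ded_24_2 L152262 (flp_d L147712) L147706 L147744 L156417
theorem L156429 : sm ge N12911 = N13842 := rfl
theorem L156431 : sm gb N13842 = N12915 := ded_19_1 L147821 (flp_b L147767) L156429
theorem L156433 : sm gc N13842 = N13125 := ded_25_1 L149930 (flp_c L147774) L156429
theorem L156435 : sm gg N13842 = N12917 := ded_36_2 L147841 (flp_g L147771) L156429
theorem L156437 : sm gi N13842 = N13842 := ded_38_2 (flp_e L156429) L147773 L156429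
theorem L156438 : sm gd N13842 = N12913 := ded_30_1 (flp_e L147787) (flp_d L138552) (flp_e L138526) L147765 L156429
theorem L156440 : sm gf N13842 = N13123 := ded_35_2 L149906 L145578 (flp_e L138538) (flp_f L147769) L156429
theorem L156442 : sm gb N12912 = N13843 := rfl
theorem L156444 : sm gd N13843 = N13484 := ded_18_2 L153058 (flp_d L147785) L156442
theorem L156446 : sm ge N13843 = N13637 := ded_19_2 (flp_b L154421) (flp_e L147778) L156442
theorem L156448 : sm gf N13843 = N13126 := ded_20_2 L149934 (flp_f L147780) L156442
theorem L156450 : sm gg N13843 = N13485 := ded_21_2 L153069 (flp_g L147782) L156442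
theorem L156452 : sm gi N13843 = N13843 := ded_23_2 (flp_b L156442) L147784 L156442
theorem L156453 : sm gc N13843 = N13057 := ded_17_2 (flp_b L149177) (flp_c L139855) (flp_b L138535) L147776 L156442
theorem L156455 : sm gd N12916 = N13844 := rfl
theorem L156457 : sm ga N13844 = N12917 := ded_11_1 (flp_d L147832) (flp_a L147825) L156455
theorem L156459 : sm gf N13844 = N13244 := ded_31_2 (flp_d L151001) (flp_f L147829) L156455
theorem L156461 : sm gi N13844 = N13844 := ded_34_2 (flp_d L156455) L147831 L156455
theorem L156462 : sm gc N13844 = N13688 := ded_24_1 L154802 (flp_c L147371) L147379 (flp_c L147827) L156455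
theorem L156464 : sm ge N13844 = N13687 := ded_30_2 L154795 (flp_e L147310) (flp_d L155156) L155151 L156455
theorem L156466 : sm gd N12921 = N13845 := rfl
theorem L156468 : sm gb N13845 = N13058 := ded_18_1 (flp_d L149185) (flp_b L147884) L156466
theorem L156470 : sm gf N13845 = N12922 := ded_31_2 (flp_d L147892) (flp_f L147888) L156466
theorem L156472 : sm gg N13845 = N13284 := ded_32_2 (flp_d L151332) (flp_g L147890) L156466
theorem L156474 : sm gi N12921 = N13846 := rfl
theorem L156476 : sm gb N13846 = N13059 := ded_23_1 (flp_i L149194) (flp_b L147884) L156474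
theorem L156478 : sm gc N13846 = N12929 := ded_29_1 (flp_i L147953) (flp_c L147886) L156474
theorem L156480 : sm gf N13846 = N12923 := ded_41_1 (flp_i L147898) (flp_f L147888) L156474
theorem L156482 : sm gg N13846 = N13285 := ded_43_1 (flp_i L151340) (flp_g L147890) L156474
theorem L156484 : sm gh N13846 = N13076 := ded_44_1 (flp_i L149370) L139989 (flp_i L138730) L147882 L156474
theorem L156486 : sm gc N12922 = N13847 := rfl
theorem L156488 : sm gg N13847 = N12924 := ded_27_2 (flp_c L147909) (flp_g L147896) L156486
theorem L156490 : sm gd N13847 = N12930 := ded_24_2 (flp_c L147963) (flp_d L138780) (flp_c L138738) L147892 L156486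
theorem L156492 : sm gi N12922 = N13848 := rfl
theorem L156494 : sm gb N13848 = N13062 := ded_23_1 (flp_i L149222) (flp_b L147894) L156492
theorem L156496 : sm gd N13848 = N12923 := ded_34_1 (flp_i L147898) L147892 L156492
theorem L156498 : sm gg N13848 = N12926 := ded_43_1 (flp_i L147920) (flp_g L147896) L156492
theorem L156500 : sm gb N12924 = N13849 := rfl
theorem L156502 : sm gd N13849 = N12933 := ded_18_2 (flp_b L147988) (flp_d L147913) L156500
theorem L156504 : sm gf N13849 = N13289 := ded_20_2 (flp_b L151372) (flp_f L147911) L156500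
theorem L156506 : sm gc N13849 = N13063 := ded_17_2 (flp_b L149229) (flp_c L139908) (flp_b L138745) L147909 L156500
theorem L156508 : sm ge N12924 = N13850 := rfl
theorem L156510 : sm gc N13850 = N12925 := ded_25_1 (flp_e L147915) L147909 L156508
theorem L156512 : sm gi N12924 = N13851 := rfl
theorem L156514 : sm gc N13851 = N12926 := ded_29_1 (flp_i L147920) L147909 L156512
theorem L156516 : sm gd N13851 = N12935 := ded_34_1 (flp_i L148002) (flp_d L147913) L156512
theorem L156518 : sm gf N13851 = N13291 := ded_41_1 (flp_i L151386) (flp_f L147911) L156512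
theorem L156520 : sm gf N12925 = N13852 := rfl
theorem L156522 : sm gb N13852 = N13066 := ded_20_1 (flp_f L149255) (flp_b L147917) L156520
theorem L156524 : sm gd N13852 = N13852 := ded_31_1 (flp_f L156520) L147919 L156520
theorem L156525 : sm gh N13852 = N13582 := ded_40_2 L153994 L151024 L156520
theorem L156527 : sm ge N13852 = N13292 := ded_35_1 (flp_f L151392) (flp_e L142331) (flp_f L138747) L147915 L156520
theorem L156529 : sm gi N12925 = N13853 := rfl
theorem L156531 : sm gb N13853 = N13067 := ded_23_1 (flp_i L149265) (flp_b L147917) L156529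
theorem L156533 : sm gd N13853 = N13853 := ded_34_1 (flp_i L156529) L147919 L156529
theorem L156534 : sm ge N13853 = N12926 := ded_38_1 (flp_i L147920) L147915 L156529
theorem L156536 : sm gh N12926 = N13854 := rfl
theorem L156538 : sm gb N13854 = N13068 := ded_22_1 (flp_h L149271) (flp_b L147922) L156536
theorem L156540 : sm gf N13854 = N13294 := ded_40_1 (flp_h L151406) (flp_f L147926) L156536
theorem L156542 : sm gd N13854 = N13642 := ded_33_1 (flp_h L154457) L145606 (flp_h L138758) (flp_d L147924) L156536
theorem L156544 : sm gi N12927 = N13855 := rfl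
theorem L156546 : sm ga N13855 = N13272 := ded_16_1 L151242 (flp_a L147930) L156544
theorem L156548 : sm gb N13855 = N12983 := ded_23_1 (flp_i L148375) (flp_b L147932) L156544
theorem L156550 : sm gd N13855 = N13086 := ded_34_1 (flp_i L149494) L147939 L156544
theorem L156552 : sm ge N13855 = N12929 := ded_38_1 (flp_i L147953) (flp_e L147934) L156544
theorem L156554 : sm gf N13855 = N13855 := ded_41_1 (flp_i L156544) L147936 L156544
theorem L156555 : sm gg N13855 = N13105 := ded_43_1 L149728 (flp_g L147937) L156544
theorem L156557 : sm gh N13855 = N13082 := ded_44_1 (flp_i L149435) L140152 (flp_i L138768) L147928 L156544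
theorem L156559 : sm gc N12928 = N13856 := rfl
theorem L156561 : sm ge N13856 = N13096 := ded_25_2 L149632 (flp_e L147949) L156559
theorem L156563 : sm gf N13856 = N12930 := ded_26_2 (flp_c L147963) (flp_f L147945) L156559
theorem L156565 : sm gg N13856 = N13248 := ded_27_2 L151042 (flp_g L147947) L156559
theorem L156567 : sm gh N13856 = N12939 := ded_28_2 (flp_c L148034) (flp_h L147951) L156559
theorem L156569 : sm gb N13856 = N13097 := ded_17_1 L149638 L140502 (flp_c L139086) (flp_b L147943) L156559
theorem L156571 : sm gi N12928 = N13857 := rfl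
theorem L156573 : sm gb N13857 = N12984 := ded_23_1 (flp_i L148390) (flp_b L147943) L156571
theorem L156575 : sm gd N13857 = N12929 := ded_34_1 (flp_i L147953) L147941 L156571
theorem L156577 : sm ge N13857 = N13111 := ded_38_1 (flp_i L149786) (flp_e L147949) L156571
theorem L156579 : sm gf N13857 = N12932 := ded_41_1 (flp_i L147980) (flp_f L147945) L156571
theorem L156581 : sm gg N13857 = N13274 := ded_43_1 (flp_i L151256) (flp_g L147947) L156571
theorem L156583 : sm gb N12930 = N13858 := rfl
theorem L156585 : sm gf N13858 = N13097 := ded_20_2 (flp_b L156569) L156563 L156583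
theorem L156587 : sm gg N13858 = N12933 := ded_21_2 (flp_b L147988) (flp_g L147965) L156583
theorem L156589 : sm gh N13858 = N12942 := ded_22_2 (flp_b L148063) (flp_h L147967) L156583
theorem L156591 : sm gc N13858 = N12985 := ded_17_2 (flp_b L148404) (flp_c L139104) (flp_b L138782) L147963 L156583
theorem L156593 : sm ga N13256 = N13858 := ded_13_3 L156585 L149636 L151098
theorem L156595 : sm ge N13594 = N13858 := ded_35_5 L156585 (flp_e L149634) L140494 L145191 L154078
theorem L156597 : sm ge N12930 = N13859 := rfl
theorem L156599 : sm gb N13859 = N13594 := ded_19_1 L156595 (flp_b L156583) L156597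
theorem L156601 : sm gc N13859 = N12931 := ded_25_1 (flp_e L147969) L147963 L156597
theorem L156603 : sm gg N13859 = N12934 := ded_36_2 (flp_e L147996) (flp_g L147965) L156597
theorem L156605 : sm gh N13859 = N12943 := ded_37_2 (flp_e L148073) (flp_h L147967) L156597
theorem L156607 : sm gf N13859 = N13591 := ded_35_2 (flp_e L154056) (flp_f L149630) (flp_e L156561) L156563 L156597
theorem L156609 : sm gi N12930 = N13860 := rfl
theorem L156611 : sm gc N13860 = N12932 := ded_29_1 (flp_i L147980) L147963 L156609
theorem L156613 : sm gg N13860 = N12935 := ded_43_1 (flp_i L148002) (flp_g L147965) L156609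
theorem L156615 : sm gi N12931 = N13861 := rfl
theorem L156617 : sm gb N13861 = N12987 := ded_23_1 (flp_i L148432) (flp_b L147971) L156615
theorem L156619 : sm gd N13861 = N13861 := ded_34_1 (flp_i L156615) L147977 L156615
theorem L156620 : sm ge N13861 = N12932 := ded_38_1 (flp_i L147980) L147969 L156615
theorem L156622 : sm gf N13861 = N13620 := ded_41_1 (flp_i L154319) (flp_f L147978) L156615
theorem L156624 : sm gg N13861 = N12937 := ded_43_1 (flp_i L148017) (flp_g L147973) L156615
theorem L156626 : sm gh N12932 = N13862 := rfl
theorem L156628 : sm gb N13862 = N12988 := ded_22_1 (flp_h L148445) (flp_b L147982) L156626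
theorem L156630 : sm gg N13862 = N12938 := ded_42_1 (flp_h L148024) (flp_g L147986) L156626
theorem L156632 : sm gd N13862 = N13365 := ded_33_1 (flp_h L151990) L142844 (flp_h L138795) (flp_d L147984) L156626
theorem L156634 : sm gi N13862 = N12947 := ded_44_2 (flp_h L148107) (flp_i L138849) (flp_h L138786) L147980 L156626
theorem L156636 : sm ga N12933 = N13863 := rfl
theorem L156638 : sm gc N13863 = N12989 := ded_10_2 (flp_a L148455) (flp_c L147994) L156636
theorem L156640 : sm gf N13863 = N13299 := ded_13_2 (flp_a L151448) (flp_f L147990) L156636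
theorem L156642 : sm gg N13863 = N13256 := ded_14_2 L156593 L156587 L156636
theorem L156644 : sm gh N13863 = N12948 := ded_15_2 (flp_a L148115) (flp_h L147992) L156636
theorem L156646 : sm ge N13652 = N13863 := ded_25_0 L156638 (flp_e L148467) (flp_c L154521)
theorem L156648 : sm ge N12933 = N13864 := rfl
theorem L156650 : sm ga N13864 = N13652 := ded_12_1 L156646 (flp_a L156636) L156648
theorem L156652 : sm gb N13864 = N12934 := ded_19_1 (flp_e L147996) L147988 L156648
theorem L156654 : sm gc N13864 = N12990 := ded_25_1 (flp_e L148469) (flp_c L147994) L156648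
theorem L156656 : sm gg N13864 = N13594 := ded_36_2 L156595 L156587 L156648
theorem L156658 : sm gh N13864 = N12949 := ded_37_2 (flp_e L148121) (flp_h L147992) L156648
theorem L156660 : sm gi N12933 = N13865 := rfl
theorem L156662 : sm gb N13865 = N12935 := ded_23_1 (flp_i L148002) L147988 L156660
theorem L156664 : sm gc N13865 = N12991 := ded_29_1 (flp_i L148481) (flp_c L147994) L156660
theorem L156666 : sm gf N13865 = N13301 := ded_41_1 (flp_i L151466) (flp_f L147990) L156660
theorem L156668 : sm gd N12934 = N13866 := rfl
theorem L156670 : sm gc N13866 = N13866 := ded_24_1 (flp_d L156668) L147998 L138809 (flp_c L147998) L156668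
theorem L156671 : sm gf N12934 = N13867 := rfl
theorem L156673 : sm gc N13867 = N12936 := ded_26_1 (flp_f L148008) (flp_c L147998) L156671
theorem L156675 : sm gh N13867 = N12952 := ded_40_2 (flp_f L148139) (flp_h L148000) L156671
theorem L156677 : sm ge N13867 = N13303 := ded_35_1 (flp_f L151478) (flp_e L142395) (flp_f L138799) L147996 L156671
theorem L156679 : sm gi N12934 = N13868 := rfl
theorem L156681 : sm gc N13868 = N12937 := ded_29_1 (flp_i L148017) (flp_c L147998) L156679
theorem L156683 : sm ge N13868 = N12935 := ded_38_1 (flp_i L148002) L147996 L156679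
theorem L156685 : sm gh N12935 = N13869 := rfl
theorem L156687 : sm gc N13869 = N12938 := ded_28_1 (flp_h L148024) (flp_c L148004) L156685
theorem L156689 : sm gf N13869 = N13305 := ded_40_1 (flp_h L151490) (flp_f L148006) L156685
theorem L156691 : sm gi N13869 = N12954 := ded_44_2 (flp_h L148151) (flp_i L138867) (flp_h L138801) L148002 L156685
theorem L156693 : sm gg N12936 = N13870 := rfl
theorem L156695 : sm ga N13870 = N13206 := ded_14_1 (flp_g L155280) L155271 L156693
theorem L156697 : sm gb N13870 = N12995 := ded_21_1 (flp_g L148525) (flp_b L148010) L156693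
theorem L156699 : sm gd N13870 = N13870 := ded_32_1 (flp_g L156693) L148012 L156693
theorem L156700 : sm ge N13870 = N13306 := ded_36_1 (flp_g L151496) (flp_e L148015) L156693
theorem L156702 : sm gh N13870 = N12955 := ded_42_2 (flp_g L148157) (flp_h L148013) L156693
theorem L156704 : sm gf N13870 = N13204 := ded_39_1 L150658 (flp_f L147978) L147973 L148008 L156693
theorem L156706 : sm gi N12936 = N13871 := rfl
theorem L156708 : sm gb N13871 = N12996 := ded_23_1 (flp_i L148538) (flp_b L148010) L156706
theorem L156710 : sm gd N13871 = N13871 := ded_34_1 (flp_i L156706) L148012 L156706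
theorem L156711 : sm ge N13871 = N13307 := ded_38_1 (flp_i L151504) (flp_e L148015) L156706
theorem L156713 : sm gf N13871 = N12937 := ded_41_1 (flp_i L148017) L148008 L156706
theorem L156715 : sm gh N12937 = N13872 := rfl
theorem L156717 : sm gb N13872 = N12997 := ded_22_1 (flp_h L148547) (flp_b L148019) L156715
theorem L156719 : sm ge N13872 = N12938 := ded_37_1 (flp_h L148024) (flp_e L148022) L156715
theorem L156721 : sm gi N13872 = N12957 := ded_44_2 (flp_h L148175) (flp_i L138881) (flp_h L138807) L148017 L156715
theorem L156723 : sm ge N12939 = N13873 := rfl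
theorem L156725 : sm gb N13873 = N13092 := ded_19_1 L149580 (flp_b L148040) L156723
theorem L156727 : sm gc N13873 = N12940 := ded_25_1 (flp_e L148042) L148034 L156723
theorem L156729 : sm gg N13873 = N13253 := ded_36_2 (flp_e L151076) (flp_g L148038) L156723
theorem L156731 : sm gh N13873 = N13096 := ded_37_2 (flp_e L156561) L156567 L156723
theorem L156733 : sm gf N13586 = N13873 := ded_46_1 (flp_e L156723) (flp_d L148065) L148071 (flp_b L139220) L130325 (flp_h L130557) L130553 (flp_e L124107) (flp_d L66616) L48708 L35756 L26241 (flp_h L25606) L18841 (flp_e L14242) L10507 L7738 L5742 L4523 L4526 (flp_f L4521) (flp_e L3353) (flp_d L2493) L1853 (flp_b L2352) (flp_a L2972) (flp_h L2970) L2218 L2216 L1656 L1227 L1226 L1224 L1318 L1324 L955 L960 L1335 L1342 L108009 L1640 L1642 (flp_e L2087) (flp_d L2797) (flp_c L3776) (flp_b L5069) (flp_a L6823) (flp_h L9161) (flp_f L10778) (flp_e L14390) (flp_d L19578) (flp_c L26629) (flp_b L36313) (flp_a L48856) L66822 L66828 (flp_e L124268) L132055 L141000 L150115 L150119 (flp_h L154021)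
theorem L156735 : sm gi N12939 = N13874 := rfl
theorem L156737 : sm gb N13874 = N13251 := ded_23_1 (flp_i L151060) (flp_b L148040) L156735
theorem L156739 : sm gc N13874 = N12941 := ded_29_1 (flp_i L148053) L148034 L156735
theorem L156741 : sm gf N13874 = N12944 := ded_41_1 (flp_i L148079) (flp_f L148036) L156735
theorem L156743 : sm gg N13874 = N13254 := ded_43_1 (flp_i L151082) (flp_g L148038) L156735
theorem L156745 : sm gi N12940 = N13875 := rfl
theorem L156747 : sm gb N13875 = N12998 := ded_23_1 (flp_i L148555) (flp_b L148044) L156745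
theorem L156749 : sm gd N13875 = N13875 := ded_34_1 (flp_i L156745) L148050 L156745
theorem L156750 : sm ge N13875 = N12941 := ded_38_1 (flp_i L148053) L148042 L156745
theorem L156752 : sm gf N13875 = N13617 := ded_41_1 (flp_i L154298) L148051 L156745
theorem L156754 : sm gg N13875 = N13277 := ded_43_1 (flp_i L151281) (flp_g L148046) L156745
theorem L156756 : sm gh N12941 = N13876 := rfl
theorem L156758 : sm gb N13876 = N12999 := ded_22_1 (flp_h L148568) (flp_b L148055) L156756
theorem L156760 : sm gf N13876 = N12947 := ded_40_1 (flp_h L148107) (flp_f L148059) L156756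
theorem L156762 : sm gg N13876 = N13278 := ded_42_1 (flp_h L151288) (flp_g L148061) L156756
theorem L156764 : sm gd N13876 = N13012 := ded_33_1 (flp_h L148711) L139300 (flp_h L138835) (flp_d L148057) L156756
theorem L156766 : sm ga N12942 = N13877 := rfl
theorem L156768 : sm gc N13877 = N13000 := ded_10_2 (flp_a L148580) (flp_c L148071) L156766
theorem L156770 : sm gd N13877 = N13744 := ded_11_2 L155305 (flp_d L148065) L156766
theorem L156772 : sm gf N13877 = N13094 := ded_13_2 L149604 (flp_f L148067) L156766
theorem L156774 : sm gg N13877 = N12948 := ded_14_2 (flp_a L148115) (flp_g L148069) L156766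
theorem L156776 : sm gh N13877 = N13256 := ded_15_2 L156593 L156589 L156766
theorem L156778 : sm ge N13644 = N13877 := ded_25_0 L156768 (flp_e L148592) (flp_c L154468)
theorem L156780 : sm ge N12942 = N13878 := rfl
theorem L156782 : sm ga N13878 = N13644 := ded_12_1 L156778 (flp_a L156766) L156780
theorem L156784 : sm gb N13878 = N12943 := ded_19_1 (flp_e L148073) L148063 L156780
theorem L156786 : sm gc N13878 = N13001 := ded_25_1 (flp_e L148594) (flp_c L148071) L156780
theorem L156788 : sm gg N13878 = N12949 := ded_36_2 (flp_e L148121) (flp_g L148069) L156780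
theorem L156790 : sm gh N13878 = N13594 := ded_37_2 L156595 L156589 L156780
theorem L156792 : sm gf N13878 = N13587 := ded_35_2 (flp_e L154025) (flp_f L149582) L149580 (flp_f L148067) L156780
theorem L156794 : sm gi N12942 = N13879 := rfl
theorem L156796 : sm gb N13879 = N12944 := ded_23_1 (flp_i L148079) L148063 L156794
theorem L156798 : sm gc N13879 = N13002 := ded_29_1 (flp_i L148607) (flp_c L148071) L156794
theorem L156800 : sm gd N13879 = N13874 := ded_34_1 (flp_i L156735) (flp_d L148065) L156794
theorem L156802 : sm gf N13879 = N13251 := ded_41_1 (flp_i L151060) (flp_f L148067) L156794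
theorem L156804 : sm gg N13879 = N12950 := ded_43_1 (flp_i L148127) (flp_g L148069) L156794
theorem L156806 : sm gd N12943 = N13880 := rfl
theorem L156808 : sm gg N13880 = N12951 := ded_32_2 (flp_d L148135) (flp_g L148077) L156806
theorem L156810 : sm gc N13880 = N12958 := ded_24_1 (flp_d L148181) L138900 (flp_d L138847) (flp_c L148075) L156806
theorem L156812 : sm gf N12943 = N13881 := rfl
theorem L156814 : sm ga N13881 = N13555 := ded_13_1 L155354 L155346 L156812
theorem L156816 : sm gb N13881 = N13587 := ded_20_1 (flp_f L156792) L156784 L156812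
theorem L156818 : sm gc N13881 = N12945 := ded_26_1 (flp_f L148085) (flp_c L148075) L156812
theorem L156820 : sm gh N13881 = N13591 := ded_40_2 (flp_f L156607) L156605 L156812
theorem L156822 : sm ge N13881 = N13586 := ded_35_1 L156733 (flp_e L156723) L148036 L148073 L156812
theorem L156824 : sm gi N12943 = N13882 := rfl
theorem L156826 : sm gc N13882 = N12946 := ded_29_1 (flp_i L148097) (flp_c L148075) L156824
theorem L156828 : sm ge N13882 = N12944 := ded_38_1 (flp_i L148079) L148073 L156824
theorem L156830 : sm gg N13882 = N12953 := ded_43_1 (flp_i L148145) (flp_g L148077) L156824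
theorem L156832 : sm gh N12944 = N13883 := rfl
theorem L156834 : sm gc N13883 = N12947 := ded_28_1 (flp_h L148107) (flp_c L148081) L156832
theorem L156836 : sm gg N13883 = N12954 := ded_42_1 (flp_h L148151) (flp_g L148083) L156832
theorem L156838 : sm gg N12945 = N13884 := rfl
theorem L156840 : sm ga N13884 = N13190 := ded_14_1 L150528 (flp_a L148087) L156838
theorem L156842 : sm gb N13884 = N13005 := ded_21_1 (flp_g L148642) (flp_b L148089) L156838
theorem L156844 : sm gd N13884 = N12962 := ded_32_1 (flp_g L148213) (flp_d L148091) L156838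
theorem L156846 : sm ge N13884 = N13189 := ded_36_1 L150518 (flp_e L148095) L156838
theorem L156848 : sm gh N13884 = N13204 := ded_42_2 L150658 (flp_h L148093) L156838
theorem L156850 : sm gf N13884 = N12955 := ded_39_1 (flp_g L148157) (flp_f L138873) (flp_g L138845) L148085 L156838
theorem L156852 : sm gi N12945 = N13885 := rfl
theorem L156854 : sm ga N13885 = N13385 := ded_16_1 L152172 (flp_a L148087) L156852
theorem L156856 : sm gb N13885 = N13006 := ded_23_1 (flp_i L148656) (flp_b L148089) L156852
theorem L156858 : sm gd N13885 = N12963 := ded_34_1 (flp_i L148223) (flp_d L148091) L156852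
theorem L156860 : sm ge N13885 = N13617 := ded_38_1 (flp_i L154298) (flp_e L148095) L156852
theorem L156862 : sm gf N13885 = N12946 := ded_41_1 (flp_i L148097) L148085 L156852
theorem L156864 : sm gh N12946 = N13886 := rfl
theorem L156866 : sm gb N13886 = N13007 := ded_22_1 (flp_h L148668) (flp_b L148099) L156864
theorem L156868 : sm ge N13886 = N12947 := ded_37_1 (flp_h L148107) (flp_e L148103) L156864
theorem L156870 : sm gg N13886 = N12957 := ded_42_1 (flp_h L148175) (flp_g L148105) L156864
theorem L156872 : sm ge N12948 = N13887 := rfl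
theorem L156874 : sm ga N13887 = N12949 := ded_12_1 (flp_e L148121) L148115 L156872
theorem L156876 : sm gc N13887 = N13008 := ded_25_1 (flp_e L148676) (flp_c L148117) L156872
theorem L156878 : sm gg N13887 = N13644 := ded_36_2 L156778 L156774 L156872
theorem L156880 : sm gh N13887 = N13652 := ded_37_2 L156646 L156644 L156872
theorem L156882 : sm gi N12948 = N13888 := rfl
theorem L156884 : sm ga N13888 = N12950 := ded_16_1 (flp_i L148127) L148115 L156882
theorem L156886 : sm gc N13888 = N13009 := ded_29_1 (flp_i L148687) (flp_c L148117) L156882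
theorem L156888 : sm gf N13888 = N13317 := ded_41_1 (flp_i L151584) (flp_f L148119) L156882
theorem L156890 : sm gd N12949 = N13889 := rfl
theorem L156892 : sm gb N13889 = N12951 := ded_18_1 (flp_d L148135) (flp_b L148123) L156890
theorem L156894 : sm gc N13889 = N13889 := ded_24_1 (flp_d L156890) L148125 L139295 (flp_c L148125) L156890
theorem L156895 : sm gf N12949 = N13890 := rfl
theorem L156897 : sm gb N13890 = N12952 := ded_20_1 (flp_f L148139) (flp_b L148123) L156895
theorem L156899 : sm gc N13890 = N13010 := ded_26_1 (flp_f L148697) (flp_c L148125) L156895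
theorem L156901 : sm ge N13890 = N13319 := ded_35_1 (flp_f L151604) (flp_e L142473) (flp_f L138859) L148121 L156895
theorem L156903 : sm gi N12949 = N13891 := rfl
theorem L156905 : sm gb N13891 = N12953 := ded_23_1 (flp_i L148145) (flp_b L148123) L156903
theorem L156907 : sm gc N13891 = N13011 := ded_29_1 (flp_i L148704) (flp_c L148125) L156903
theorem L156909 : sm ge N13891 = N12950 := ded_38_1 (flp_i L148127) L148121 L156903
theorem L156911 : sm gh N12950 = N13892 := rfl
theorem L156913 : sm gb N13892 = N12954 := ded_22_1 (flp_h L148151) (flp_b L148129) L156911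
theorem L156915 : sm gc N13892 = N13012 := ded_28_1 (flp_h L148711) (flp_c L148131) L156911
theorem L156917 : sm gf N13892 = N13321 := ded_40_1 (flp_h L151620) (flp_f L148133) L156911
theorem L156919 : sm gf N12951 = N13893 := rfl
theorem L156921 : sm gc N13893 = N12965 := ded_26_1 (flp_f L148241) (flp_c L148137) L156919
theorem L156923 : sm gd N13893 = N12952 := ded_31_1 (flp_f L148139) L148135 L156919
theorem L156925 : sm gh N12951 = N13894 := rfl
theorem L156927 : sm gc N13894 = N12966 := ded_28_1 (flp_h L148246) (flp_c L148137) L156925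
theorem L156929 : sm gi N12951 = N13895 := rfl
theorem L156931 : sm gc N13895 = N12967 := ded_29_1 (flp_i L148250) (flp_c L148137) L156929
theorem L156933 : sm gd N13895 = N12953 := ded_34_1 (flp_i L148145) L148135 L156929
theorem L156935 : sm gg N12952 = N13896 := rfl
theorem L156937 : sm gc N13896 = N12955 := ded_27_1 (flp_g L148157) (flp_c L148141) L156935
theorem L156939 : sm ge N13896 = N13325 := ded_36_1 (flp_g L151644) (flp_e L148143) L156935
theorem L156941 : sm gi N12952 = N13897 := rfl
theorem L156943 : sm gc N13897 = N12956 := ded_29_1 (flp_i L148165) (flp_c L148141) L156941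
theorem L156945 : sm ge N13897 = N13326 := ded_38_1 (flp_i L151648) (flp_e L148143) L156941
theorem L156947 : sm gf N13897 = N12953 := ded_41_1 (flp_i L148145) L148139 L156941
theorem L156949 : sm gh N12953 = N13898 := rfl
theorem L156951 : sm gc N13898 = N12957 := ded_28_1 (flp_h L148175) (flp_c L148147) L156949
theorem L156953 : sm ge N13898 = N12954 := ded_37_1 (flp_h L148151) (flp_e L148149) L156949
theorem L156955 : sm gd N12954 = N13899 := rfl
theorem L156957 : sm gf N13899 = N13328 := ded_31_2 (flp_d L151660) (flp_f L148155) L156955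
theorem L156959 : sm gc N13899 = N13655 := ded_24_1 (flp_d L154535) L145656 (flp_d L138895) (flp_c L148153) L156955
theorem L156961 : sm gi N12955 = N13900 := rfl
theorem L156963 : sm gb N13900 = N13016 := ded_23_1 (flp_i L148749) (flp_b L148159) L156961
theorem L156965 : sm gd N13900 = N12972 := ded_34_1 (flp_i L148288) (flp_d L148161) L156961
theorem L156967 : sm ge N13900 = N13329 := ded_38_1 (flp_i L151662) (flp_e L148163) L156961
theorem L156969 : sm gg N13900 = N12956 := ded_43_1 (flp_i L148165) L148157 L156961
theorem L156971 : sm gh N12956 = N13901 := rfl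
theorem L156973 : sm gb N13901 = N13017 := ded_22_1 (flp_h L148759) (flp_b L148167) L156971
theorem L156975 : sm ge N13901 = N13330 := ded_37_1 (flp_h L151670) (flp_e L148171) L156971
theorem L156977 : sm gf N13901 = N12957 := ded_40_1 (flp_h L148175) (flp_f L148173) L156971
theorem L156979 : sm gd N12957 = N13902 := rfl
theorem L156981 : sm gb N13902 = N13018 := ded_18_1 (flp_d L148767) (flp_b L148177) L156979
theorem L156983 : sm ge N13902 = N13658 := ded_30_2 (flp_d L154553) L145676 (flp_d L138895) (flp_e L148179) L156979
theorem L156985 : sm gh N13902 = N12974 := ded_33_2 (flp_d L148305) (flp_h L138980) (flp_d L138885) L148175 L156979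
theorem L156987 : sm gf N12958 = N13903 := rfl
theorem L156989 : sm ga N13903 = N13582 := ded_13_1 L153994 L151018 L156987
theorem L156991 : sm gb N13903 = N13903 := ded_20_1 (flp_f L156987) L148183 L156987
theorem L156992 : sm gd N13903 = N12959 := ded_31_1 (flp_f L148186) L148181 L156987
theorem L156994 : sm gi N12958 = N13904 := rfl
theorem L156996 : sm gb N13904 = N13904 := ded_23_1 (flp_i L156994) L148183 L156994
theorem L156997 : sm gd N13904 = N12960 := ded_34_1 (flp_i L148195) L148181 L156994
theorem L156999 : sm gg N13904 = N12967 := ded_43_1 (flp_i L148250) (flp_g L148184) L156994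
theorem L157001 : sm gg N12959 = N13905 := rfl
theorem L157003 : sm ga N13905 = N13577 := ded_14_1 L153949 (flp_a L148188) L157001
theorem L157005 : sm gb N13905 = N13905 := ded_21_1 (flp_g L157001) L148190 L157001
theorem L157006 : sm gc N13905 = N12962 := ded_27_1 (flp_g L148213) (flp_c L148191) L157001
theorem L157008 : sm ge N13905 = N13905 := ded_36_1 (flp_g L157001) L148194 L157001
theorem L157009 : sm gh N13905 = N13905 := ded_42_2 (flp_g L157001) L148193 L157001
theorem L157010 : sm gf N13905 = N12968 := ded_39_1 (flp_g L148255) (flp_f L138942) (flp_g L138902) L148186 L157001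
theorem L157012 : sm gi N12959 = N13906 := rfl
theorem L157014 : sm ga N13906 = N13464 := ded_16_1 L152865 (flp_a L148188) L157012
theorem L157016 : sm gb N13906 = N13906 := ded_23_1 (flp_i L157012) L148190 L157012
theorem L157017 : sm gc N13906 = N12963 := ded_29_1 (flp_i L148223) (flp_c L148191) L157012
theorem L157019 : sm ge N13906 = N13906 := ded_38_1 (flp_i L157012) L148194 L157012
theorem L157020 : sm gf N13906 = N12960 := ded_41_1 (flp_i L148195) L148186 L157012
theorem L157022 : sm gh N12960 = N13907 := rfl
theorem L157024 : sm gb N13907 = N13907 := ded_22_1 (flp_h L157022) L148197 L157022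
theorem L157025 : sm gc N13907 = N12964 := ded_28_1 (flp_h L148232) (flp_c L148198) L157022
theorem L157027 : sm ge N13907 = N12961 := ded_37_1 (flp_h L148204) (flp_e L148200) L157022
theorem L157029 : sm gg N13907 = N12970 := ded_42_1 (flp_h L148272) (flp_g L148202) L157022
theorem L157031 : sm gi N13907 = N13907 := ded_44_2 (flp_h L157022) (flp_i L148195) L138904 L148195 L157022
theorem L157032 : sm gi N12962 = N13908 := rfl
theorem L157034 : sm ga N13908 = N13480 := ded_16_1 L153028 (flp_a L148215) L157032
theorem L157036 : sm gb N13908 = N13019 := ded_23_1 (flp_i L148775) (flp_b L148217) L157032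
theorem L157038 : sm ge N13908 = N13908 := ded_38_1 (flp_i L157032) L148219 L157032
theorem L157039 : sm gf N13908 = N12972 := ded_41_1 (flp_i L148288) (flp_f L148221) L157032
theorem L157041 : sm gg N13908 = N12963 := ded_43_1 (flp_i L148223) L148213 L157032
theorem L157043 : sm gh N13722 = N13908 := ded_15_0 L157034 L153026 L155061
theorem L157045 : sm gh N12963 = N13909 := rfl
theorem L157047 : sm ga N13909 = N13479 := ded_15_1 L153018 (flp_a L148225) L157045
theorem L157049 : sm gb N13909 = N13020 := ded_22_1 (flp_h L148787) (flp_b L148227) L157045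
theorem L157051 : sm ge N13909 = N13909 := ded_37_1 (flp_h L157045) L148229 L157045
theorem L157052 : sm gf N13909 = N12964 := ded_40_1 (flp_h L148232) (flp_f L148230) L157045
theorem L157054 : sm gg N13909 = N13722 := ded_42_1 L157043 L157041 L157045
theorem L157056 : sm gi N13909 = N13909 := ded_44_2 (flp_h L157045) (flp_i L148223) L138919 L148223 L157045
theorem L157057 : sm gd N12964 = N13910 := rfl
theorem L157059 : sm gb N13910 = N13021 := ded_18_1 (flp_d L148798) (flp_b L148234) L157057
theorem L157061 : sm gg N13910 = N12974 := ded_32_2 (flp_d L148305) (flp_g L148238) L157057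
theorem L157063 : sm gi N13910 = N13910 := ded_34_2 (flp_d L157057) L148240 L157057
theorem L157064 : sm ge N13910 = N13475 := ded_30_2 (flp_d L152978) L143871 (flp_d L138936) (flp_e L148236) L157057
theorem L157066 : sm ge N12965 = N13911 := rfl
theorem L157068 : sm gb N13911 = N13911 := ded_19_1 (flp_e L157066) L148243 L157066
theorem L157069 : sm gd N13911 = N12975 := ded_30_1 (flp_e L148312) L138992 (flp_e L138948) (flp_d L148244) L157066
theorem L157071 : sm gg N12965 = N13912 := rfl
theorem L157073 : sm gb N13912 = N13912 := ded_21_1 (flp_g L157071) L148243 L157071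
theorem L157074 : sm gd N13912 = N12968 := ded_32_1 (flp_g L148255) (flp_d L148244) L157071
theorem L157076 : sm gh N12965 = N13913 := rfl
theorem L157078 : sm gb N13913 = N13913 := ded_22_1 (flp_h L157076) L148243 L157076
theorem L157079 : sm gf N13913 = N12966 := ded_40_1 (flp_h L148246) L148241 L157076
theorem L157081 : sm gd N13913 = N13913 := ded_33_1 (flp_h L157076) L148244 L138947 (flp_d L148244) L157076
theorem L157082 : sm gi N12965 = N13914 := rfl
theorem L157084 : sm gb N13914 = N13914 := ded_23_1 (flp_i L157082) L148243 L157082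
theorem L157085 : sm gd N13914 = N12969 := ded_34_1 (flp_i L148263) (flp_d L148244) L157082
theorem L157087 : sm gf N13914 = N12967 := ded_41_1 (flp_i L148250) L148241 L157082
theorem L157089 : sm gi N12966 = N13915 := rfl
theorem L157091 : sm gb N13915 = N13915 := ded_23_1 (flp_i L157089) L148248 L157089
theorem L157092 : sm gd N13915 = N13915 := ded_34_1 (flp_i L157089) L148249 L157089
theorem L157093 : sm gh N12967 = N13916 := rfl
theorem L157095 : sm gb N13916 = N13916 := ded_22_1 (flp_h L157093) L148252 L157093
theorem L157096 : sm gi N12968 = N13917 := rfl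
theorem L157098 : sm gb N13917 = N13917 := ded_23_1 (flp_i L157096) L148257 L157096
theorem L157099 : sm gc N13917 = N12972 := ded_29_1 (flp_i L148288) (flp_c L148258) L157096
theorem L157101 : sm ge N13917 = N12979 := ded_38_1 (flp_i L148342) (flp_e L148260) L157096
theorem L157103 : sm gg N13917 = N12969 := ded_43_1 (flp_i L148263) L148255 L157096
theorem L157105 : sm gh N12969 = N13918 := rfl
theorem L157107 : sm gb N13918 = N13918 := ded_22_1 (flp_h L157105) L148265 L157105
theorem L157108 : sm gc N13918 = N12973 := ded_28_1 (flp_h L148296) (flp_c L148266) L157105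
theorem L157110 : sm ge N13918 = N12980 := ded_37_1 (flp_h L148350) (flp_e L148268) L157105
theorem L157112 : sm gf N13918 = N12970 := ded_40_1 (flp_h L148272) (flp_f L148270) L157105
theorem L157114 : sm gi N13918 = N13918 := ded_44_2 (flp_h L157105) (flp_i L148263) L138947 L148263 L157105
theorem L157115 : sm gd N12970 = N13919 := rfl
theorem L157117 : sm gb N13919 = N13919 := ded_18_1 (flp_d L157115) L148274 L157115
theorem L157118 : sm gi N13919 = N13919 := ded_34_2 (flp_d L157115) L148279 L157115
theorem L157119 : sm ge N12971 = N13920 := rfl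
theorem L157121 : sm gb N13920 = N13920 := ded_19_1 (flp_e L157119) L148282 L157119
theorem L157122 : sm gc N13920 = N13668 := ded_25_1 (flp_e L154627) (flp_c L148286) L157119
theorem L157124 : sm gi N13920 = N13920 := ded_38_2 (flp_e L157119) L148285 L157119
theorem L157125 : sm gh N12972 = N13921 := rfl
theorem L157127 : sm ga N13921 = N13721 := ded_15_1 L155556 L155546 L157125
theorem L157129 : sm gb N13921 = N13022 := ded_22_1 (flp_h L148807) (flp_b L148290) L157125
theorem L157131 : sm ge N13921 = N12981 := ded_37_1 (flp_h L148358) (flp_e L148292) L157125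
theorem L157133 : sm gf N13921 = N13722 := ded_40_1 L157043 L157039 L157125
theorem L157135 : sm gg N13921 = N12973 := ded_42_1 (flp_h L148296) (flp_g L148294) L157125
theorem L157137 : sm gi N13921 = N13921 := ded_44_2 (flp_h L157125) (flp_i L148288) L138971 L148288 L157125
theorem L157138 : sm gd N12973 = N13922 := rfl
theorem L157140 : sm gb N13922 = N13023 := ded_18_1 (flp_d L148819) (flp_b L148298) L157138
theorem L157142 : sm gf N13922 = N12974 := ded_31_2 (flp_d L148305) (flp_f L148302) L157138
theorem L157144 : sm gi N13922 = N13922 := ded_34_2 (flp_d L157138) L148304 L157138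
theorem L157145 : sm gc N12974 = N13923 := rfl
theorem L157147 : sm ge N13923 = N13671 := ded_25_2 (flp_c L154650) (flp_e L148310) L157145
theorem L157149 : sm gi N13923 = N13923 := ded_29_2 (flp_c L157145) L148309 L157145
theorem L157150 : sm gi N12975 = N13924 := rfl
theorem L157152 : sm gb N13924 = N13924 := ded_23_1 (flp_i L157150) L148314 L157150
theorem L157153 : sm gc N13924 = N13354 := ded_29_1 (flp_i L151871) (flp_c L148315) L157150
theorem L157155 : sm ge N13924 = N12978 := ded_38_1 (flp_i L148333) L148312 L157150
theorem L157157 : sm gi N12976 = N13925 := rfl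
theorem L157159 : sm gb N13925 = N13925 := ded_23_1 (flp_i L157157) L148319 L157157
theorem L157160 : sm gc N13925 = N13355 := ded_29_1 (flp_i L151877) (flp_c L148320) L157157
theorem L157162 : sm gd N13925 = N12979 := ded_34_1 (flp_i L148342) (flp_d L148322) L157157
theorem L157164 : sm gf N13925 = N13925 := ded_41_1 (flp_i L157157) L148324 L157157
theorem L157165 : sm gg N13925 = N12978 := ded_43_1 (flp_i L148333) L148317 L157157
theorem L157167 : sm gh N12979 = N13926 := rfl
theorem L157169 : sm gb N13926 = N13926 := ded_22_1 (flp_h L157167) L148344 L157167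
theorem L157170 : sm gc N13926 = N12981 := ded_28_1 (flp_h L148358) (flp_c L148345) L157167
theorem L157172 : sm gf N13926 = N13926 := ded_40_1 (flp_h L157167) L148347 L157167
theorem L157173 : sm gg N13926 = N12980 := ded_42_1 (flp_h L148350) (flp_g L148348) L157167
theorem L157175 : sm gi N13926 = N13926 := ded_44_2 (flp_h L157167) (flp_i L148342) L139014 L148342 L157167
theorem L157176 : sm gh N12984 = N13927 := rfl
theorem L157178 : sm ga N13927 = N13026 := ded_15_1 (flp_h L148849) (flp_a L148392) L157176
theorem L157180 : sm gc N13927 = N13113 := ded_28_1 (flp_h L149802) (flp_c L148394) L157176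
theorem L157182 : sm ge N13927 = N13112 := ded_37_1 (flp_h L149794) (flp_e L148398) L157176
theorem L157184 : sm gf N13927 = N12988 := ded_40_1 (flp_h L148445) (flp_f L148400) L157176
theorem L157186 : sm gg N13927 = N13275 := ded_42_1 (flp_h L151264) (flp_g L148402) L157176
theorem L157188 : sm gd N13927 = N12994 := ded_33_1 (flp_h L148515) L139165 (flp_h L139102) (flp_d L148396) L157176
theorem L157190 : sm gi N13927 = N12999 := ded_44_2 (flp_h L148568) (flp_i L139208) (flp_h L139090) L148390 L157176
theorem L157192 : sm gi N12985 = N13928 := rfl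
theorem L157194 : sm ga N13928 = N13259 := ded_16_1 (flp_i L151116) (flp_a L148416) L157192
theorem L157196 : sm gb N13928 = N12986 := ded_23_1 (flp_i L148418) L148404 L157192
theorem L157198 : sm gd N13928 = N13080 := ded_34_1 (flp_i L149409) (flp_d L148406) L157192
theorem L157200 : sm ge N13928 = N13597 := ded_38_1 (flp_i L154098) (flp_e L148408) L157192
theorem L157202 : sm gf N13928 = N13099 := ded_41_1 (flp_i L149654) (flp_f L148410) L157192
theorem L157204 : sm gg N13928 = N12991 := ded_43_1 (flp_i L148481) (flp_g L148412) L157192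
theorem L157206 : sm gh N12986 = N13929 := rfl
theorem L157208 : sm ga N13929 = N13027 := ded_15_1 (flp_h L148863) (flp_a L148420) L157206
theorem L157210 : sm gc N13929 = N12988 := ded_28_1 (flp_h L148445) (flp_c L148422) L157206
theorem L157212 : sm ge N13929 = N13624 := ded_37_1 (flp_h L154344) (flp_e L148426) L157206
theorem L157214 : sm gf N13929 = N13113 := ded_40_1 (flp_h L149802) (flp_f L148428) L157206
theorem L157216 : sm gg N13929 = N12994 := ded_42_1 (flp_h L148515) (flp_g L148430) L157206
theorem L157218 : sm gd N13929 = N13275 := ded_33_1 (flp_h L151264) L142151 (flp_h L140115) (flp_d L148424) L157206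
theorem L157220 : sm gi N13929 = N13004 := ded_44_2 (flp_h L148630) (flp_i L139241) (flp_h L139112) L148418 L157206
theorem L157222 : sm gh N12987 = N13930 := rfl
theorem L157224 : sm ga N13930 = N13028 := ded_15_1 (flp_h L148879) (flp_a L148434) L157222
theorem L157226 : sm gc N13930 = N13624 := ded_28_1 (flp_h L154344) (flp_c L148436) L157222
theorem L157228 : sm ge N13930 = N12988 := ded_37_1 (flp_h L148445) (flp_e L148439) L157222
theorem L157230 : sm gf N13930 = N13622 := ded_40_1 (flp_h L154330) (flp_f L148441) L157222
theorem L157232 : sm gg N13930 = N12997 := ded_42_1 (flp_h L148547) (flp_g L148443) L157222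
theorem L157234 : sm gi N13930 = N13007 := ded_44_2 (flp_h L148668) (flp_i L139265) (flp_h L139126) L148432 L157222
theorem L157236 : sm gi N12989 = N13931 := rfl
theorem L157238 : sm ga N13931 = N12991 := ded_16_1 (flp_i L148481) L148455 L157236
theorem L157240 : sm gb N13931 = N13029 := ded_23_1 (flp_i L148891) (flp_b L148465) L157236
theorem L157242 : sm gd N13931 = N13081 := ded_34_1 (flp_i L149423) (flp_d L148457) L157236
theorem L157244 : sm ge N13931 = N13656 := ded_38_1 (flp_i L154539) L148467 L157236
theorem L157246 : sm gf N13931 = N13362 := ded_41_1 (flp_i L151964) (flp_f L148459) L157236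
theorem L157248 : sm gg N13931 = N13259 := ded_43_1 (flp_i L151116) (flp_g L148461) L157236
theorem L157250 : sm gf N12990 = N13932 := rfl
theorem L157252 : sm ga N13932 = N13375 := ded_13_1 L152089 (flp_a L148471) L157250
theorem L157254 : sm gb N13932 = N12992 := ded_20_1 (flp_f L148489) (flp_b L148473) L157250
theorem L157256 : sm gd N13932 = N13470 := ded_31_1 L152939 (flp_d L148479) L157250
theorem L157258 : sm gh N13932 = N13010 := ded_40_2 (flp_f L148697) (flp_h L148477) L157250
theorem L157260 : sm ge N13932 = N13363 := ded_35_1 (flp_f L151974) (flp_e L142831) (flp_f L139143) L148469 L157250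
theorem L157262 : sm gg N13932 = N13372 := ded_39_2 (flp_f L152055) L142938 L145205 (flp_g L148475) L157250
theorem L157264 : sm gi N12990 = N13933 := rfl
theorem L157266 : sm ga N13933 = N13656 := ded_16_1 (flp_i L154539) (flp_a L148471) L157264
theorem L157268 : sm gb N13933 = N12993 := ded_23_1 (flp_i L148503) (flp_b L148473) L157264
theorem L157270 : sm gd N13933 = N13606 := ded_34_1 (flp_i L154185) (flp_d L148479) L157264
theorem L157272 : sm ge N13933 = N12991 := ded_38_1 (flp_i L148481) L148469 L157264
theorem L157274 : sm gg N13933 = N13597 := ded_43_1 (flp_i L154098) (flp_g L148475) L157264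
theorem L157276 : sm gh N12991 = N13934 := rfl
theorem L157278 : sm gb N13934 = N12994 := ded_22_1 (flp_h L148515) (flp_b L148483) L157276
theorem L157280 : sm gf N13934 = N13365 := ded_40_1 (flp_h L151990) (flp_f L148487) L157276
theorem L157282 : sm gi N13934 = N13012 := ded_44_2 (flp_h L148711) (flp_i L139296) (flp_h L139145) L148481 L157276
theorem L157284 : sm gi N12992 = N13935 := rfl
theorem L157286 : sm ga N13935 = N13031 := ded_16_1 (flp_i L148915) (flp_a L148491) L157284
theorem L157288 : sm gc N13935 = N12996 := ded_29_1 (flp_i L148538) (flp_c L148493) L157284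
theorem L157290 : sm gd N13935 = N13481 := ded_34_1 (flp_i L153030) (flp_d L148495) L157284
theorem L157292 : sm ge N13935 = N13366 := ded_38_1 (flp_i L151998) (flp_e L148499) L157284
theorem L157294 : sm gf N13935 = N12993 := ded_41_1 (flp_i L148503) L148489 L157284
theorem L157296 : sm gg N13935 = N13393 := ded_43_1 (flp_i L152230) (flp_g L148501) L157284
theorem L157298 : sm gh N12993 = N13936 := rfl
theorem L157300 : sm ga N13936 = N13032 := ded_15_1 (flp_h L148929) (flp_a L148505) L157298
theorem L157302 : sm gc N13936 = N12997 := ded_28_1 (flp_h L148547) (flp_c L148507) L157298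
theorem L157304 : sm ge N13936 = N12994 := ded_37_1 (flp_h L148515) (flp_e L148511) L157298
theorem L157306 : sm gg N13936 = N13624 := ded_42_1 (flp_h L154344) (flp_g L148513) L157298
theorem L157308 : sm gi N13936 = N13015 := ded_44_2 (flp_h L148741) (flp_i L139313) (flp_h L139155) L148503 L157298
theorem L157310 : sm gi N12995 = N13937 := rfl
theorem L157312 : sm ga N13937 = N13033 := ded_16_1 (flp_i L148941) (flp_a L148527) L157310
theorem L157314 : sm gc N13937 = N13393 := ded_29_1 (flp_i L152230) (flp_c L148529) L157310
theorem L157316 : sm gd N13937 = N13937 := ded_34_1 (flp_i L157310) L148531 L157310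
theorem L157317 : sm ge N13937 = N13368 := ded_38_1 (flp_i L152019) (flp_e L148532) L157310
theorem L157319 : sm gf N13937 = N13234 := ded_41_1 (flp_i L150917) (flp_f L148536) L157310
theorem L157321 : sm gg N13937 = N12996 := ded_43_1 (flp_i L148538) L148525 L157310
theorem L157323 : sm gh N12996 = N13938 := rfl
theorem L157325 : sm ga N13938 = N13034 := ded_15_1 (flp_h L148954) (flp_a L148540) L157323
theorem L157327 : sm ge N13938 = N13369 := ded_37_1 (flp_h L152027) (flp_e L148543) L157323
theorem L157329 : sm gf N13938 = N12997 := ded_40_1 (flp_h L148547) (flp_f L148545) L157323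
theorem L157331 : sm gi N13938 = N13017 := ded_44_2 (flp_h L148759) (flp_i L139338) (flp_h L139174) L148538 L157323
theorem L157333 : sm gd N12997 = N13939 := rfl
theorem L157335 : sm ga N13939 = N13035 := ded_11_1 (flp_d L148962) (flp_a L148549) L157333
theorem L157337 : sm gi N13939 = N13018 := ded_34_2 (flp_d L148767) (flp_i L148553) L157333
theorem L157339 : sm ge N13939 = N13682 := ded_30_2 (flp_d L154754) L145901 (flp_d L139191) (flp_e L148551) L157333
theorem L157341 : sm gh N13939 = N13939 := ded_33_2 (flp_d L157333) (flp_h L148547) L139182 L148547 L157333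
theorem L157342 : sm gh N12998 = N13940 := rfl
theorem L157344 : sm ga N13940 = N13036 := ded_15_1 (flp_h L148969) (flp_a L148557) L157342
theorem L157346 : sm gc N13940 = N13106 := ded_28_1 (flp_h L149730) (flp_c L148559) L157342
theorem L157348 : sm ge N13940 = N12999 := ded_37_1 (flp_h L148568) (flp_e L148562) L157342
theorem L157350 : sm gf N13940 = N13618 := ded_40_1 (flp_h L154303) (flp_f L148564) L157342
theorem L157352 : sm gg N13940 = N13280 := ded_42_1 (flp_h L151305) (flp_g L148566) L157342
theorem L157354 : sm gi N13940 = N13112 := ded_44_2 (flp_h L149794) (flp_i L140660) (flp_h L139203) L148555 L157342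
theorem L157356 : sm gi N13000 = N13941 := rfl
theorem L157358 : sm ga N13941 = N13002 := ded_16_1 (flp_i L148607) L148580 L157356
theorem L157360 : sm gb N13941 = N13037 := ded_23_1 (flp_i L148981) (flp_b L148590) L157356
theorem L157362 : sm gd N13941 = N13025 := ded_34_1 (flp_i L148834) (flp_d L148582) L157356
theorem L157364 : sm ge N13941 = N13647 := ded_38_1 (flp_i L154484) L148592 L157356
theorem L157366 : sm gf N13941 = N13095 := ded_41_1 (flp_i L149614) (flp_f L148584) L157356
theorem L157368 : sm gg N13941 = N13009 := ded_43_1 (flp_i L148687) (flp_g L148586) L157356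
theorem L157370 : sm gi N13001 = N13942 := rfl
theorem L157372 : sm ga N13942 = N13647 := ded_16_1 (flp_i L154484) (flp_a L148596) L157370
theorem L157374 : sm gb N13942 = N13003 := ded_23_1 (flp_i L148617) (flp_b L148598) L157370
theorem L157376 : sm gd N13942 = N13942 := ded_34_1 (flp_i L157370) L148604 L157370
theorem L157377 : sm ge N13942 = N13002 := ded_38_1 (flp_i L148607) L148594 L157370
theorem L157379 : sm gf N13942 = N13589 := ded_41_1 (flp_i L154039) (flp_f L148605) L157370
theorem L157381 : sm gg N13942 = N13011 := ded_43_1 (flp_i L148704) (flp_g L148600) L157370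
theorem L157383 : sm gh N13002 = N13943 := rfl
theorem L157385 : sm gb N13943 = N13004 := ded_22_1 (flp_h L148630) (flp_b L148609) L157383
theorem L157387 : sm gf N13943 = N13252 := ded_40_1 (flp_h L151068) (flp_f L148613) L157383
theorem L157389 : sm gg N13943 = N13012 := ded_42_1 (flp_h L148711) (flp_g L148615) L157383
theorem L157391 : sm gd N13943 = N13278 := ded_33_1 (flp_h L151288) L142182 (flp_h L139460) (flp_d L148611) L157383
theorem L157393 : sm gh N13003 = N13944 := rfl
theorem L157395 : sm ga N13944 = N13039 := ded_15_1 (flp_h L149007) (flp_a L148619) L157393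
theorem L157397 : sm gc N13944 = N13007 := ded_28_1 (flp_h L148668) (flp_c L148621) L157393
theorem L157399 : sm ge N13944 = N13004 := ded_37_1 (flp_h L148630) (flp_e L148624) L157393
theorem L157401 : sm gf N13944 = N13619 := ded_40_1 (flp_h L154311) (flp_f L148626) L157393
theorem L157403 : sm gg N13944 = N13015 := ded_42_1 (flp_h L148741) (flp_g L148628) L157393
theorem L157405 : sm gi N13944 = N13624 := ded_44_2 (flp_h L154344) (flp_i L145450) (flp_h L139236) L148617 L157393
theorem L157407 : sm gi N13005 = N13945 := rfl
theorem L157409 : sm ga N13945 = N13040 := ded_16_1 (flp_i L149021) (flp_a L148644) L157407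
theorem L157411 : sm gc N13945 = N13386 := ded_29_1 (flp_i L152174) (flp_c L148646) L157407
theorem L157413 : sm gd N13945 = N13019 := ded_34_1 (flp_i L148775) (flp_d L148648) L157407
theorem L157415 : sm ge N13945 = N13225 := ded_38_1 (flp_i L150835) (flp_e L148650) L157407
theorem L157417 : sm gf N13945 = N13016 := ded_41_1 (flp_i L148749) (flp_f L148654) L157407
theorem L157419 : sm gg N13945 = N13006 := ded_43_1 (flp_i L148656) L148642 L157407
theorem L157421 : sm gh N13006 = N13946 := rfl
theorem L157423 : sm ga N13946 = N13041 := ded_15_1 (flp_h L149035) (flp_a L148658) L157421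
theorem L157425 : sm gc N13946 = N13619 := ded_28_1 (flp_h L154311) (flp_c L148660) L157421
theorem L157427 : sm ge N13946 = N13618 := ded_37_1 (flp_h L154303) (flp_e L148664) L157421
theorem L157429 : sm gf N13946 = N13007 := ded_40_1 (flp_h L148668) (flp_f L148666) L157421
theorem L157431 : sm gi N13946 = N13622 := ded_44_2 (flp_h L154330) (flp_i L145435) (flp_h L139261) L148656 L157421
theorem L157433 : sm gd N13007 = N13947 := rfl
theorem L157435 : sm ga N13947 = N13042 := ded_11_1 (flp_d L149047) (flp_a L148670) L157433
theorem L157437 : sm gg N13947 = N13018 := ded_32_2 (flp_d L148767) (flp_g L148674) L157433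
theorem L157439 : sm ge N13947 = N13380 := ded_30_2 (flp_d L152127) L143000 (flp_d L139281) (flp_e L148672) L157433
theorem L157441 : sm gh N13947 = N13021 := ded_33_2 (flp_d L148798) (flp_h L139371) (flp_d L139269) L148668 L157433
theorem L157443 : sm gf N13008 = N13948 := rfl
theorem L157445 : sm ga N13948 = N13010 := ded_13_1 (flp_f L148697) (flp_a L148678) L157443
theorem L157447 : sm gb N13948 = N13043 := ded_20_1 (flp_f L149055) (flp_b L148680) L157443
theorem L157449 : sm gd N13948 = N13948 := ded_31_1 (flp_f L157443) L148686 L157443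
theorem L157450 : sm gh N13948 = N13375 := ded_40_2 L152089 (flp_h L148684) L157443
theorem L157452 : sm ge N13948 = N13372 := ded_35_1 (flp_f L152055) (flp_e L142932) (flp_f L139287) L148676 L157443
theorem L157454 : sm gg N13948 = N13363 := ded_39_2 (flp_f L151974) L142835 L145618 (flp_g L148682) L157443
theorem L157456 : sm gi N13008 = N13949 := rfl
theorem L157458 : sm ga N13949 = N13011 := ded_16_1 (flp_i L148704) (flp_a L148678) L157456
theorem L157460 : sm gb N13949 = N13044 := ded_23_1 (flp_i L149068) (flp_b L148680) L157456
theorem L157462 : sm gd N13949 = N13949 := ded_34_1 (flp_i L157456) L148686 L157456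
theorem L157463 : sm ge N13949 = N13009 := ded_38_1 (flp_i L148687) L148676 L157456
theorem L157465 : sm gg N13949 = N13647 := ded_43_1 (flp_i L154484) (flp_g L148682) L157456
theorem L157467 : sm gh N13009 = N13950 := rfl
theorem L157469 : sm ga N13950 = N13012 := ded_15_1 (flp_h L148711) (flp_a L148689) L157467
theorem L157471 : sm gb N13950 = N13045 := ded_22_1 (flp_h L149077) (flp_b L148691) L157467
theorem L157473 : sm gf N13950 = N13374 := ded_40_1 (flp_h L152075) (flp_f L148695) L157467
theorem L157475 : sm gg N13010 = N13951 := rfl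
theorem L157477 : sm ga N13951 = N13363 := ded_14_1 (flp_g L157454) L157445 L157475
theorem L157479 : sm gb N13951 = N13013 := ded_21_1 (flp_g L148717) (flp_b L148699) L157475
theorem L157481 : sm gd N13951 = N13951 := ded_32_1 (flp_g L157475) L148701 L157475
theorem L157482 : sm ge N13951 = N13375 := ded_36_1 (flp_g L152083) (flp_e L148702) L157475
theorem L157484 : sm gh N13951 = N13372 := ded_42_2 (flp_g L157262) L157258 L157475
theorem L157486 : sm gf N13951 = N13361 := ded_39_1 L151959 (flp_f L148605) L148600 L148697 L157475
theorem L157488 : sm gi N13010 = N13952 := rfl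
theorem L157490 : sm gb N13952 = N13014 := ded_23_1 (flp_i L148730) (flp_b L148699) L157488
theorem L157492 : sm gd N13952 = N13952 := ded_34_1 (flp_i L157488) L148701 L157488
theorem L157493 : sm ge N13952 = N13376 := ded_38_1 (flp_i L152091) (flp_e L148702) L157488
theorem L157495 : sm gf N13952 = N13011 := ded_41_1 (flp_i L148704) L148697 L157488
theorem L157497 : sm gh N13011 = N13953 := rfl
theorem L157499 : sm gb N13953 = N13015 := ded_22_1 (flp_h L148741) (flp_b L148706) L157497
theorem L157501 : sm ge N13953 = N13012 := ded_37_1 (flp_h L148711) (flp_e L148709) L157497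
theorem L157503 : sm gi N13013 = N13954 := rfl
theorem L157505 : sm ga N13954 = N13048 := ded_16_1 (flp_i L149106) (flp_a L148719) L157503
theorem L157507 : sm gc N13954 = N13016 := ded_29_1 (flp_i L148749) (flp_c L148721) L157503
theorem L157509 : sm gd N13954 = N13954 := ded_34_1 (flp_i L157503) L148723 L157503
theorem L157510 : sm ge N13954 = N13378 := ded_38_1 (flp_i L152107) (flp_e L148724) L157503
theorem L157512 : sm gf N13954 = N13386 := ded_41_1 (flp_i L152174) (flp_f L148728) L157503
theorem L157514 : sm gg N13954 = N13014 := ded_43_1 (flp_i L148730) L148717 L157503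
theorem L157516 : sm gh N13014 = N13955 := rfl
theorem L157518 : sm ga N13955 = N13049 := ded_15_1 (flp_h L149119) (flp_a L148732) L157516
theorem L157520 : sm gc N13955 = N13017 := ded_28_1 (flp_h L148759) (flp_c L148734) L157516
theorem L157522 : sm ge N13955 = N13379 := ded_37_1 (flp_h L152119) (flp_e L148737) L157516
theorem L157524 : sm gf N13955 = N13015 := ded_40_1 (flp_h L148741) (flp_f L148739) L157516
theorem L157526 : sm gd N13015 = N13956 := rfl
theorem L157528 : sm ga N13956 = N13050 := ded_11_1 (flp_d L149127) (flp_a L148743) L157526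
theorem L157530 : sm gh N13956 = N13956 := ded_33_2 (flp_d L157526) (flp_h L148741) L139319 L148741 L157526
theorem L157531 : sm gh N13016 = N13957 := rfl
theorem L157533 : sm ga N13957 = N13051 := ded_15_1 (flp_h L149130) (flp_a L148751) L157531
theorem L157535 : sm ge N13957 = N13381 := ded_37_1 (flp_h L152135) (flp_e L148755) L157531
theorem L157537 : sm gg N13957 = N13017 := ded_42_1 (flp_h L148759) (flp_g L148757) L157531
theorem L157539 : sm gd N13017 = N13958 := rfl
theorem L157541 : sm ga N13958 = N13052 := ded_11_1 (flp_d L149136) (flp_a L148761) L157539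
theorem L157543 : sm gf N13958 = N13018 := ded_31_2 (flp_d L148767) (flp_f L148765) L157539
theorem L157545 : sm gh N13958 = N13023 := ded_33_2 (flp_d L148819) (flp_h L139390) (flp_d L139342) L148759 L157539
theorem L157547 : sm gc N13018 = N13959 := rfl
theorem L157549 : sm ga N13959 = N13053 := ded_10_1 (flp_c L149142) (flp_a L148769) L157547
theorem L157551 : sm ge N13959 = N13685 := ded_25_2 (flp_c L154775) (flp_e L148771) L157547
theorem L157553 : sm gh N13959 = N13024 := ded_28_2 (flp_c L148826) (flp_h L148773) L157547
theorem L157555 : sm gd N13020 = N13960 := rfl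
theorem L157557 : sm ga N13960 = N13054 := ded_11_1 (flp_d L149148) (flp_a L148789) L157555
theorem L157559 : sm gf N13960 = N13021 := ded_31_2 (flp_d L148798) (flp_f L148793) L157555
theorem L157561 : sm gg N13960 = N13696 := ded_32_2 L154855 (flp_g L148795) L157555
theorem L157563 : sm gi N13960 = N13960 := ded_34_2 (flp_d L157555) L148797 L157555
theorem L157564 : sm gc N13021 = N13961 := rfl
theorem L157566 : sm ga N13961 = N13055 := ded_10_1 (flp_c L149157) (flp_a L148800) L157564
theorem L157568 : sm ge N13961 = N13478 := ded_25_2 (flp_c L153004) (flp_e L148805) L157564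
theorem L157570 : sm gg N13961 = N13024 := ded_27_2 (flp_c L148826) (flp_g L148802) L157564
theorem L157572 : sm gi N13961 = N13961 := ded_29_2 (flp_c L157564) L148804 L157564
theorem L157573 : sm gd N13961 = N13961 := ded_24_2 (flp_c L157564) (flp_d L148798) L139375 L148798 L157564
theorem L157574 : sm gc N13023 = N13962 := rfl
theorem L157576 : sm ga N13962 = N13056 := ded_10_1 (flp_c L149165) (flp_a L148821) L157574
theorem L157578 : sm ge N13962 = N13244 := ded_25_2 (flp_c L156073) L156075 L157574
theorem L157580 : sm gf N13962 = N13024 := ded_26_2 (flp_c L148826) (flp_f L148823) L157574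
theorem L157582 : sm gg N13962 = N13630 := ded_27_2 (flp_c L156097) L156099 L157574
theorem L157584 : sm gi N13962 = N13962 := ded_29_2 (flp_c L157574) L148825 L157574
theorem L157585 : sm gd N13962 = N13962 := ded_24_2 (flp_c L157574) (flp_d L148819) L139394 L148819 L157574
theorem L157586 : sm gb N13024 = N13963 := rfl
theorem L157588 : sm gd N13963 = N13963 := ded_18_2 (flp_b L157586) L148833 L157586
theorem L157589 : sm ge N13963 = N13689 := ded_19_2 (flp_b L154804) (flp_e L148830) L157586
theorem L157591 : sm gi N13963 = N13963 := ded_23_2 (flp_b L157586) L148832 L157586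
theorem L157592 : sm gd N13028 = N13964 := rfl
theorem L157594 : sm gf N13964 = N13633 := ded_31_2 (flp_d L154402) (flp_f L148885) L157592
theorem L157596 : sm gg N13964 = N13035 := ded_32_2 (flp_d L148962) (flp_g L148887) L157592
theorem L157598 : sm gi N13964 = N13042 := ded_34_2 (flp_d L149047) (flp_i L148889) L157592
theorem L157600 : sm ge N13964 = N13390 := ded_30_2 (flp_d L152209) L143134 (flp_d L139527) (flp_e L148883) L157592
theorem L157602 : sm gh N13964 = N13964 := ded_33_2 (flp_d L157592) (flp_h L148879) L139516 L148879 L157592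
theorem L157603 : sm gh N13029 = N13965 := rfl
theorem L157605 : sm ga N13965 = N13030 := ded_15_1 (flp_h L148903) (flp_a L148893) L157603
theorem L157607 : sm ge N13965 = N13683 := ded_37_1 (flp_h L154761) (flp_e L148897) L157603
theorem L157609 : sm gf N13965 = N13387 := ded_40_1 (flp_h L152183) (flp_f L148899) L157603
theorem L157611 : sm gg N13965 = N13281 := ded_42_1 (flp_h L151313) (flp_g L148901) L157603
theorem L157613 : sm gi N13965 = N13045 := ded_44_2 (flp_h L149077) (flp_i L139724) (flp_h L139541) L148891 L157603
theorem L157615 : sm gh N13031 = N13966 := rfl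
theorem L157617 : sm gb N13966 = N13397 := ded_22_1 (flp_h L152260) (flp_b L148917) L157615
theorem L157619 : sm gc N13966 = N13034 := ded_28_1 (flp_h L148954) (flp_c L148919) L157615
theorem L157621 : sm ge N13966 = N13389 := ded_37_1 (flp_h L152201) (flp_e L148923) L157615
theorem L157623 : sm gf N13966 = N13032 := ded_40_1 (flp_h L148929) (flp_f L148925) L157615
theorem L157625 : sm gg N13966 = N13395 := ded_42_1 (flp_h L152246) (flp_g L148927) L157615
theorem L157627 : sm gi N13966 = N13049 := ded_44_2 (flp_h L149119) (flp_i L139773) (flp_h L139563) L148915 L157615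
theorem L157629 : sm gd N13032 = N13967 := rfl
theorem L157631 : sm gb N13967 = N13692 := ded_18_1 (flp_d L154833) (flp_b L148931) L157629
theorem L157633 : sm gg N13967 = N13635 := ded_32_2 (flp_d L154409) (flp_g L148937) L157629
theorem L157635 : sm gi N13967 = N13050 := ded_34_2 (flp_d L149127) (flp_i L148939) L157629
theorem L157637 : sm ge N13967 = N13122 := ded_30_2 (flp_d L149889) (flp_e L148853) L148859 (flp_e L148935) L157629
theorem L157639 : sm gh N13967 = N13126 := ded_33_2 L149941 (flp_h L145564) (flp_d L139575) L148929 L157629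
theorem L157641 : sm gc N13240 = N13967 := ded_25_3 L157637 L149893 L150967
theorem L157643 : sm gh N13033 = N13968 := rfl
theorem L157645 : sm gb N13968 = N13238 := ded_22_1 (flp_h L150954) (flp_b L148943) L157643
theorem L157647 : sm gc N13968 = N13395 := ded_28_1 (flp_h L152246) (flp_c L148945) L157643
theorem L157649 : sm ge N13968 = N13391 := ded_37_1 (flp_h L152216) (flp_e L148948) L157643
theorem L157651 : sm gf N13968 = N13236 := ded_40_1 (flp_h L150936) (flp_f L148950) L157643
theorem L157653 : sm gg N13968 = N13034 := ded_42_1 (flp_h L148954) (flp_g L148952) L157643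
theorem L157655 : sm gi N13968 = N13051 := ded_44_2 (flp_h L149130) (flp_i L139788) (flp_h L139598) L148941 L157643
theorem L157657 : sm gd N13034 = N13969 := rfl
theorem L157659 : sm gf N13969 = N13035 := ded_31_2 (flp_d L148962) (flp_f L148958) L157657
theorem L157661 : sm gi N13969 = N13052 := ded_34_2 (flp_d L149136) (flp_i L148960) L157657
theorem L157663 : sm gh N13969 = N13969 := ded_33_2 (flp_d L157657) (flp_h L148954) L139604 L148954 L157657
theorem L157664 : sm gc N13035 = N13970 := rfl
theorem L157666 : sm ge N13970 = N13239 := ded_25_2 L150964 (flp_e L148966) L157664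
theorem L157668 : sm gh N13970 = N13970 := ded_28_2 (flp_c L157664) L148968 L157664
theorem L157669 : sm gi N13970 = N13053 := ded_29_2 (flp_c L149142) (flp_i L148964) L157664
theorem L157671 : sm gd N13970 = N13240 := ded_24_2 L157641 (flp_d L157629) L148933 L148962 L157664
theorem L157673 : sm gd N13036 = N13971 := rfl
theorem L157675 : sm gf N13971 = N13631 := ded_31_2 (flp_d L154390) (flp_f L148975) L157673
theorem L157677 : sm gg N13971 = N13283 := ded_32_2 (flp_d L151329) (flp_g L148977) L157673
theorem L157679 : sm gi N13971 = N13122 := ded_34_2 (flp_d L149889) (flp_i L148979) L157673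
theorem L157681 : sm gc N13971 = N13228 := ded_24_1 (flp_d L150866) L141667 (flp_d L140773) (flp_c L148971) L157673
theorem L157683 : sm ge N13971 = N13050 := ded_30_2 (flp_d L149127) L139786 (flp_d L139634) (flp_e L148973) L157673
theorem L157685 : sm gh N13971 = N13971 := ded_33_2 (flp_d L157673) (flp_h L148969) L139619 L148969 L157673
theorem L157686 : sm gh N13037 = N13972 := rfl
theorem L157688 : sm ga N13972 = N13038 := ded_15_1 (flp_h L148993) (flp_a L148983) L157686
theorem L157690 : sm ge N13972 = N13681 := ded_37_1 (flp_h L154746) (flp_e L148987) L157686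
theorem L157692 : sm gf N13972 = N13109 := ded_40_1 (flp_h L149766) (flp_f L148989) L157686
theorem L157694 : sm gg N13972 = N13045 := ded_42_1 (flp_h L149077) (flp_g L148991) L157686
theorem L157696 : sm gd N13972 = N13197 := ded_33_1 (flp_h L150586) L141369 (flp_h L139872) (flp_d L148985) L157686
theorem L157698 : sm gi N13972 = N13281 := ded_44_2 (flp_h L151313) (flp_i L142212) (flp_h L139646) L148981 L157686
theorem L157700 : sm gd N13039 = N13973 := rfl
theorem L157702 : sm gb N13973 = N13691 := ded_18_1 (flp_d L154826) (flp_b L149009) L157700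
theorem L157704 : sm gf N13973 = N13632 := ded_31_2 (flp_d L154395) (flp_f L149015) L157700
theorem L157706 : sm gg N13973 = N13050 := ded_32_2 (flp_d L149127) (flp_g L149017) L157700
theorem L157708 : sm gi N13973 = N13635 := ded_34_2 (flp_d L154409) (flp_i L149019) L157700
theorem L157710 : sm ge N13973 = N13283 := ded_30_2 (flp_d L151329) L142283 (flp_d L139681) (flp_e L149013) L157700
theorem L157712 : sm gh N13973 = N13973 := ded_33_2 (flp_d L157700) (flp_h L149007) L139666 L149007 L157700
theorem L157713 : sm gh N13040 = N13974 := rfl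
theorem L157715 : sm gb N13974 = N13227 := ded_22_1 (flp_h L150854) (flp_b L149023) L157713
theorem L157717 : sm gc N13974 = N13388 := ded_28_1 (flp_h L152191) (flp_c L149025) L157713
theorem L157719 : sm ge N13974 = N13226 := ded_37_1 (flp_h L150844) (flp_e L149029) L157713
theorem L157721 : sm gf N13974 = N13051 := ded_40_1 (flp_h L149130) (flp_f L149031) L157713
theorem L157723 : sm gg N13974 = N13041 := ded_42_1 (flp_h L149035) (flp_g L149033) L157713
theorem L157725 : sm gd N13974 = N13695 := ded_33_1 L154851 L146030 L139818 (flp_d L149027) L157713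
theorem L157727 : sm gi N13974 = N13236 := ded_44_2 (flp_h L150936) (flp_i L141762) (flp_h L139693) L149021 L157713
theorem L157729 : sm gd N13041 = N13975 := rfl
theorem L157731 : sm gb N13975 = N13399 := ded_18_1 L152280 (flp_b L149037) L157729
theorem L157733 : sm gf N13975 = N13042 := ded_31_2 (flp_d L149047) (flp_f L149043) L157729
theorem L157735 : sm gg N13975 = N13695 := ded_32_2 (flp_d L157725) L157723 L157729
theorem L157737 : sm gi N13975 = N13633 := ded_34_2 (flp_d L154402) (flp_i L149045) L157729
theorem L157739 : sm gh N13975 = N13054 := ded_33_2 (flp_d L149148) (flp_h L139820) (flp_d L139703) L149035 L157729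
theorem L157741 : sm gc N13042 = N13976 := rfl
theorem L157743 : sm ge N13976 = N13399 := ded_25_2 (flp_c L152274) (flp_e L149051) L157741
theorem L157745 : sm gg N13976 = N13053 := ded_27_2 (flp_c L149142) (flp_g L149049) L157741
theorem L157747 : sm gh N13976 = N13055 := ded_28_2 (flp_c L149157) (flp_h L149053) L157741
theorem L157749 : sm gi N13043 = N13977 := rfl
theorem L157751 : sm ga N13977 = N13046 := ded_16_1 (flp_i L149083) (flp_a L149057) L157749
theorem L157753 : sm gc N13977 = N13368 := ded_29_1 (flp_i L152019) (flp_c L149059) L157749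
theorem L157755 : sm gd N13977 = N13977 := ded_34_1 (flp_i L157749) L149061 L157749
theorem L157756 : sm ge N13977 = N13393 := ded_38_1 (flp_i L152230) (flp_e L149064) L157749
theorem L157758 : sm gf N13977 = N13044 := ded_41_1 (flp_i L149068) L149055 L157749
theorem L157760 : sm gg N13977 = N13366 := ded_43_1 (flp_i L151998) (flp_g L149066) L157749
theorem L157762 : sm gh N13044 = N13978 := rfl
theorem L157764 : sm ga N13978 = N13047 := ded_15_1 (flp_h L149096) (flp_a L149070) L157762
theorem L157766 : sm ge N13978 = N13045 := ded_37_1 (flp_h L149077) (flp_e L149073) L157762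
theorem L157768 : sm gg N13978 = N13681 := ded_42_1 (flp_h L154746) (flp_g L149075) L157762
theorem L157770 : sm gi N13978 = N13683 := ded_44_2 (flp_h L154761) (flp_i L145905) (flp_h L139721) L149068 L157762
theorem L157772 : sm gh N13046 = N13979 := rfl
theorem L157774 : sm gb N13979 = N13049 := ded_22_1 (flp_h L149119) (flp_b L149085) L157772
theorem L157776 : sm gc N13979 = N13391 := ded_28_1 (flp_h L152216) (flp_c L149087) L157772
theorem L157778 : sm ge N13979 = N13395 := ded_37_1 (flp_h L152246) (flp_e L149090) L157772
theorem L157780 : sm gf N13979 = N13047 := ded_40_1 (flp_h L149096) (flp_f L149092) L157772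
theorem L157782 : sm gg N13979 = N13389 := ded_42_1 (flp_h L152201) (flp_g L149094) L157772
theorem L157784 : sm gi N13979 = N13397 := ded_44_2 (flp_h L152260) (flp_i L143206) (flp_h L139739) L149083 L157772
theorem L157786 : sm gd N13047 = N13980 := rfl
theorem L157788 : sm gb N13980 = N13050 := ded_18_1 (flp_d L149127) (flp_b L149098) L157786
theorem L157790 : sm gg N13980 = N13691 := ded_32_2 (flp_d L154826) (flp_g L149102) L157786
theorem L157792 : sm gi N13980 = N13692 := ded_34_2 (flp_d L154833) (flp_i L149104) L157786
theorem L157794 : sm gh N13980 = N13980 := ded_33_2 (flp_d L157786) (flp_h L149096) L139749 L149096 L157786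
theorem L157795 : sm gh N13048 = N13981 := rfl
theorem L157797 : sm gb N13981 = N13389 := ded_22_1 (flp_h L152201) (flp_b L149108) L157795
theorem L157799 : sm gc N13981 = N13051 := ded_28_1 (flp_h L149130) (flp_c L149110) L157795
theorem L157801 : sm ge N13981 = N13397 := ded_37_1 (flp_h L152260) (flp_e L149113) L157795
theorem L157803 : sm gf N13981 = N13388 := ded_40_1 (flp_h L152191) (flp_f L149115) L157795
theorem L157805 : sm gg N13981 = N13049 := ded_42_1 (flp_h L149119) (flp_g L149117) L157795
theorem L157807 : sm gi N13981 = N13395 := ded_44_2 (flp_h L152246) (flp_i L143190) (flp_h L139769) L149106 L157795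
theorem L157809 : sm gd N13049 = N13982 := rfl
theorem L157811 : sm gf N13982 = N13050 := ded_31_2 (flp_d L149127) (flp_f L149125) L157809
theorem L157813 : sm gh N13982 = N13982 := ded_33_2 (flp_d L157809) (flp_h L149119) L139777 L149119 L157809
theorem L157814 : sm gc N13050 = N13983 := rfl
theorem L157816 : sm ge N13983 = N13228 := ded_25_2 (flp_c L157681) L157683 L157814
theorem L157818 : sm gh N13983 = N13983 := ded_28_2 (flp_c L157814) L149129 L157814
theorem L157819 : sm gi N13983 = N13240 := ded_29_2 L157641 L157635 L157814
theorem L157821 : sm gd N13983 = N13053 := ded_24_2 (flp_c L149142) (flp_d L139802) (flp_c L139784) L149127 L157814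
theorem L157823 : sm gc N13052 = N13984 := rfl
theorem L157825 : sm ge N13984 = N13237 := ded_25_2 (flp_c L156289) L156291 L157823
theorem L157827 : sm gf N13984 = N13053 := ded_26_2 (flp_c L149142) (flp_f L149138) L157823
theorem L157829 : sm gg N13984 = N13634 := ded_27_2 (flp_c L156379) L156381 L157823
theorem L157831 : sm gh N13984 = N13056 := ded_28_2 (flp_c L149165) (flp_h L149140) L157823
theorem L157833 : sm gb N13984 = N13240 := ded_17_1 L157641 L157631 (flp_c L156413) L156407 L157823
theorem L157835 : sm gb N13053 = N13985 := rfl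
theorem L157837 : sm ge N13985 = N13695 := ded_19_2 (flp_b L154849) (flp_e L149144) L157835
theorem L157839 : sm gf N13985 = N13240 := ded_20_2 (flp_b L157833) L157827 L157835
theorem L157841 : sm gh N13985 = N13057 := ded_22_2 (flp_b L149177) (flp_h L149146) L157835
theorem L157843 : sm gc N13054 = N13986 := rfl
theorem L157845 : sm gf N13986 = N13055 := ded_26_2 (flp_c L149157) (flp_f L149152) L157843
theorem L157847 : sm gg N13986 = N13637 := ded_27_2 L154427 (flp_g L149154) L157843
theorem L157849 : sm gi N13986 = N13986 := ded_29_2 (flp_c L157843) L149156 L157843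
theorem L157850 : sm gb N13986 = N13486 := ded_17_1 (flp_c L153074) L144018 L144038 (flp_b L149150) L157843
theorem L157852 : sm gd N13986 = N13986 := ded_24_2 (flp_c L157843) (flp_d L149148) L139824 L149148 L157843
theorem L157853 : sm ge N13485 = N13986 := ded_47_3 L157852 (flp_c L157843) L149150 (flp_h L152278) L152276 (flp_f L154841) L156357 (flp_d L156347) L147686 L139756 (flp_h L130753) (flp_g L130688) L130686 (flp_e L131849) L131847 L124070 L124068 L67553 (flp_g L68152) (flp_f L125646) (flp_e L131915) (flp_d L140309) L140307 L131448 L131493 L131499 L123801 L123799 L66795 (flp_c L67255) (flp_b L124825) (flp_h L124823) (flp_g L120749) (flp_f L66731) (flp_e L123747) L123745 (flp_c L123686) L123685 L123693 L123691 (flp_f L127613) L127612 L127610 (flp_c L124149) L124147 (flp_h L67645) L49442 (flp_f L67643) (flp_e L125180) (flp_d L133188) (flp_c L142272) (flp_b L147456) L156122 L156132 L147534 (flp_e L150858) L150862 (flp_c L146007) (flp_b L145560) L145562 (flp_g L144020) (flp_f L153071)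
theorem L157855 : sm ge N13054 = N13987 := rfl
theorem L157857 : sm gb N13987 = N13055 := ded_19_1 L149159 (flp_b L149150) L157855
theorem L157859 : sm gc N13987 = N13485 := ded_25_1 L157853 (flp_c L157843) L157855
theorem L157861 : sm gg N13987 = N13057 := ded_36_2 L149180 (flp_g L149154) L157855
theorem L157863 : sm gi N13987 = N13987 := ded_38_2 (flp_e L157855) L149156 L157855
theorem L157864 : sm gd N13987 = N13987 := ded_30_1 (flp_e L157855) (flp_d L149148) L139825 L149148 L157855
theorem L157865 : sm gf N13987 = N13486 := ded_35_2 L153076 L144035 (flp_e L139836) (flp_f L149152) L157855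
theorem L157867 : sm ga N13057 = N13988 := rfl
theorem L157869 : sm gd N13988 = N13988 := ded_11_2 (flp_a L157867) L149179 L157867
theorem L157870 : sm ge N13988 = N13696 := ded_12_2 (flp_a L154853) (flp_e L149180) L157867
theorem L157872 : sm gf N13988 = N13222 := ded_13_2 L150809 (flp_f L149182) L157867
theorem L157874 : sm gi N13988 = N13988 := ded_16_2 (flp_a L157867) L149184 L157867
theorem L157875 : sm gi N13058 = N13989 := rfl
theorem L157877 : sm ga N13989 = N13989 := ded_16_1 (flp_i L157875) L149187 L157875
theorem L157878 : sm gc N13989 = N13401 := ded_29_1 (flp_i L152293) (flp_c L149192) L157875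
theorem L157880 : sm gd N13989 = N13059 := ded_34_1 (flp_i L149194) L149185 L157875
theorem L157882 : sm gf N13989 = N13062 := ded_41_1 (flp_i L149222) (flp_f L149188) L157875
theorem L157884 : sm gg N13989 = N13402 := ded_43_1 (flp_i L152300) (flp_g L149190) L157875
theorem L157886 : sm gb N13060 = N13990 := rfl
theorem L157888 : sm gd N13990 = N13070 := ded_18_2 (flp_b L149292) (flp_d L149214) L157886
theorem L157890 : sm gf N13990 = N13101 := ded_20_2 L149680 (flp_f L149208) L157886
theorem L157892 : sm gg N13990 = N13063 := ded_21_2 (flp_b L149229) (flp_g L149210) L157886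
theorem L157894 : sm gh N13990 = N13845 := ded_22_2 L156468 (flp_h L149212) L157886
theorem L157896 : sm ga N13261 = N13990 := ded_11_3 L157888 L149302 (flp_d L151135)
theorem L157898 : sm ge N13060 = N13991 := rfl
theorem L157900 : sm ga N13991 = N13991 := ded_12_1 (flp_e L157898) L149207 L157898
theorem L157901 : sm gc N13991 = N13061 := ded_25_1 (flp_e L149216) L149205 L157898
theorem L157903 : sm gg N13991 = N13064 := ded_36_2 (flp_e L149235) (flp_g L149210) L157898
theorem L157905 : sm gh N13991 = N13581 := ded_37_2 L153988 (flp_h L149212) L157898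
theorem L157907 : sm gd N13991 = N13578 := ded_30_1 L153958 L152896 (flp_e L149306) (flp_d L149214) L157898
theorem L157909 : sm gi N13060 = N13992 := rfl
theorem L157911 : sm ga N13992 = N13992 := ded_16_1 (flp_i L157909) L149207 L157909
theorem L157912 : sm gc N13992 = N13062 := ded_29_1 (flp_i L149222) L149205 L157909
theorem L157914 : sm gd N13992 = N13072 := ded_34_1 (flp_i L149319) (flp_d L149214) L157909
theorem L157916 : sm gf N13992 = N13401 := ded_41_1 (flp_i L152293) (flp_f L149208) L157909
theorem L157918 : sm gg N13992 = N13065 := ded_43_1 (flp_i L149246) (flp_g L149210) L157909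
theorem L157920 : sm gf N13061 = N13993 := rfl
theorem L157922 : sm ga N13993 = N13993 := ded_13_1 (flp_f L157920) L149218 L157920
theorem L157923 : sm gd N13993 = N13993 := ded_31_1 (flp_f L157920) L149221 L157920
theorem L157924 : sm gi N13061 = N13994 := rfl
theorem L157926 : sm ga N13994 = N13994 := ded_16_1 (flp_i L157924) L149218 L157924
theorem L157927 : sm gd N13994 = N13994 := ded_34_1 (flp_i L157924) L149221 L157924
theorem L157928 : sm ge N13994 = N13062 := ded_38_1 (flp_i L149222) L149216 L157924
theorem L157930 : sm gg N13994 = N13067 := ded_43_1 (flp_i L149265) (flp_g L149219) L157924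
theorem L157932 : sm gh N13062 = N13995 := rfl
theorem L157934 : sm ga N13995 = N13995 := ded_15_1 (flp_h L157932) L149224 L157932
theorem L157935 : sm gg N13995 = N13068 := ded_42_1 (flp_h L149271) (flp_g L149227) L157932
theorem L157937 : sm gd N13995 = N13412 := ded_33_1 (flp_h L152389) L143355 (flp_h L139906) (flp_d L149225) L157932
theorem L157939 : sm ga N13063 = N13996 := rfl
theorem L157941 : sm gd N13996 = N13074 := ded_11_2 (flp_a L149344) (flp_d L149231) L157939
theorem L157943 : sm gf N13996 = N13407 := ded_13_2 (flp_a L152343) (flp_f L149233) L157939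
theorem L157945 : sm gg N13996 = N13261 := ded_14_2 L157896 L157892 L157939
theorem L157947 : sm gb N13996 = N13996 := ded_9_2 (flp_a L157939) (flp_b L149229) L139910 L149229 L157939
theorem L157948 : sm ge N13063 = N13997 := rfl
theorem L157950 : sm gb N13997 = N13064 := ded_19_1 (flp_e L149235) L149229 L157948
theorem L157952 : sm gh N13997 = N13551 := ded_37_2 L153725 L151338 L157948
theorem L157954 : sm gd N13547 = N13997 := ded_18_0 L157950 (flp_d L149244) (flp_b L153692)
theorem L157956 : sm gf N13549 = N13997 := ded_20_0 L157950 (flp_f L149242) (flp_b L153705)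
theorem L157958 : sm gi N13063 = N13998 := rfl
theorem L157960 : sm gb N13998 = N13065 := ded_23_1 (flp_i L149246) L149229 L157958
theorem L157962 : sm gd N13998 = N13076 := ded_34_1 (flp_i L149370) (flp_d L149231) L157958
theorem L157964 : sm gf N13998 = N13409 := ded_41_1 (flp_i L152361) (flp_f L149233) L157958
theorem L157966 : sm gi N13064 = N13999 := rfl
theorem L157968 : sm ga N13999 = N13999 := ded_16_1 (flp_i L157966) L149237 L157966
theorem L157969 : sm gc N13999 = N13067 := ded_29_1 (flp_i L149265) (flp_c L149238) L157966
theorem L157971 : sm gd N13999 = N13579 := ded_34_1 L153974 L149244 L157966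
theorem L157973 : sm ge N13999 = N13065 := ded_38_1 (flp_i L149246) L149235 L157966
theorem L157975 : sm gf N13999 = N13580 := ded_41_1 L153979 L149242 L157966
theorem L157977 : sm gh N13065 = N14000 := rfl
theorem L157979 : sm ga N14000 = N14000 := ded_15_1 (flp_h L157977) L149248 L157977
theorem L157980 : sm gc N14000 = N13068 := ded_28_1 (flp_h L149271) (flp_c L149249) L157977
theorem L157982 : sm gf N14000 = N13412 := ded_40_1 (flp_h L152389) (flp_f L149253) L157977
theorem L157984 : sm gg N13066 = N14001 := rfl
theorem L157986 : sm ga N14001 = N14001 := ded_14_1 (flp_g L157984) L149257 L157984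
theorem L157987 : sm gc N14001 = N13571 := ded_27_1 L153903 (flp_c L149258) L157984
theorem L157989 : sm gd N14001 = N14001 := ded_32_1 (flp_g L157984) L149260 L157984
theorem L157990 : sm ge N14001 = N13413 := ded_36_1 (flp_g L152398) (flp_e L149263) L157984
theorem L157992 : sm gh N14001 = N13574 := ded_42_2 L153925 (flp_h L149261) L157984
theorem L157994 : sm gi N13066 = N14002 := rfl
theorem L157996 : sm ga N14002 = N14002 := ded_16_1 (flp_i L157994) L149257 L157994
theorem L157997 : sm gc N14002 = N13580 := ded_29_1 L153979 (flp_c L149258) L157994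
theorem L157999 : sm gd N14002 = N14002 := ded_34_1 (flp_i L157994) L149260 L157994
theorem L158000 : sm ge N14002 = N13414 := ded_38_1 (flp_i L152403) (flp_e L149263) L157994
theorem L158002 : sm gf N14002 = N13067 := ded_41_1 (flp_i L149265) L149255 L157994
theorem L158004 : sm gh N13067 = N14003 := rfl
theorem L158006 : sm ga N14003 = N14003 := ded_15_1 (flp_h L158004) L149267 L158004
theorem L158007 : sm ge N14003 = N13068 := ded_37_1 (flp_h L149271) (flp_e L149269) L158004
theorem L158009 : sm gi N13070 = N14004 := rfl
theorem L158011 : sm ga N14004 = N13264 := ded_16_1 (flp_i L151155) (flp_a L149302) L158009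
theorem L158013 : sm gb N14004 = N13072 := ded_23_1 (flp_i L149319) L149292 L158009
theorem L158015 : sm gc N14004 = N13080 := ded_29_1 (flp_i L149409) (flp_c L149300) L158009
theorem L158017 : sm ge N14004 = N13104 := ded_38_1 (flp_i L149710) L149304 L158009
theorem L158019 : sm gf N14004 = N13102 := ded_41_1 (flp_i L149688) (flp_f L149294) L158009
theorem L158021 : sm gg N14004 = N13076 := ded_43_1 (flp_i L149370) (flp_g L149296) L158009
theorem L158023 : sm gh N14004 = N13285 := ded_44_1 (flp_i L151340) (flp_h L142303) (flp_i L140025) (flp_h L149298) L158009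
theorem L158025 : sm gi N13074 = N14005 := rfl
theorem L158027 : sm ga N14005 = N13076 := ded_16_1 (flp_i L149370) L149344 L158025
theorem L158029 : sm gb N14005 = N14005 := ded_23_1 (flp_i L158025) L149354 L158025
theorem L158030 : sm gc N14005 = N13081 := ded_29_1 (flp_i L149423) (flp_c L149346) L158025
theorem L158032 : sm ge N14005 = N13270 := ded_38_1 (flp_i L151216) L149355 L158025
theorem L158034 : sm gf N14005 = N13416 := ded_41_1 (flp_i L152415) (flp_f L149348) L158025
theorem L158036 : sm gg N14005 = N13264 := ded_43_1 (flp_i L151155) (flp_g L149350) L158025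
theorem L158038 : sm gd N13075 = N14006 := rfl
theorem L158040 : sm ga N14006 = N13267 := ded_11_1 L151191 (flp_a L149359) L158038
theorem L158042 : sm gb N14006 = N13077 := ded_18_1 (flp_d L149378) (flp_b L149361) L158038
theorem L158044 : sm gf N14006 = N14006 := ded_31_2 (flp_d L158038) L149369 L158038
theorem L158045 : sm gg N14006 = N13103 := ded_32_2 L149708 (flp_g L149365) L158038
theorem L158047 : sm gc N14006 = N13610 := ded_24_1 L154225 L145332 L140155 (flp_c L149363) L158038
theorem L158049 : sm ge N14006 = N13547 := ded_30_2 L157954 (flp_e L157948) L149231 L149357 L158038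
theorem L158051 : sm gh N14006 = N13544 := ded_33_2 L153663 (flp_h L149407) (flp_d L149395) (flp_h L149367) L158038
theorem L158053 : sm gi N13075 = N14007 := rfl
theorem L158055 : sm ga N14007 = N13270 := ded_16_1 (flp_i L151216) (flp_a L149359) L158053
theorem L158057 : sm gb N14007 = N13078 := ded_23_1 (flp_i L149387) (flp_b L149361) L158053
theorem L158059 : sm gc N14007 = N13082 := ded_29_1 (flp_i L149435) (flp_c L149363) L158053
theorem L158061 : sm ge N14007 = N13076 := ded_38_1 (flp_i L149370) L149357 L158053
theorem L158063 : sm gf N14007 = N14007 := ded_41_1 (flp_i L158053) L149369 L158053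
theorem L158064 : sm gg N14007 = N13104 := ded_43_1 (flp_i L149710) (flp_g L149365) L158053
theorem L158066 : sm gi N13085 = N14008 := rfl
theorem L158068 : sm ga N14008 = N13086 := ded_16_1 (flp_i L149494) L149480 L158066
theorem L158070 : sm gb N14008 = N13088 := ded_23_1 (flp_i L149517) (flp_b L149492) L158066
theorem L158072 : sm gc N14008 = N13727 := ded_29_1 (flp_i L155120) (flp_c L149482) L158066
theorem L158074 : sm gd N14008 = N13272 := ded_34_1 L151242 (flp_d L149484) L158066
theorem L158076 : sm ge N14008 = N13116 := ded_38_1 (flp_i L149833) (flp_e L149486) L158066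
theorem L158078 : sm gf N14008 = N14008 := ded_41_1 (flp_i L158066) L149488 L158066
theorem L158079 : sm gg N14008 = N13273 := ded_43_1 L151250 (flp_g L149489) L158066
theorem L158081 : sm gh N13678 = N14008 := ded_22_0 L158070 (flp_h L149530) (flp_b L154722)
theorem L158083 : sm gh N13086 = N14009 := rfl
theorem L158085 : sm ga N14009 = N13678 := ded_15_1 L158081 L158068 L158083
theorem L158087 : sm gb N14009 = N13087 := ded_22_1 (flp_h L149503) (flp_b L149496) L158083
theorem L158089 : sm gc N14009 = N13728 := ded_28_1 (flp_h L155133) (flp_c L149498) L158083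
theorem L158091 : sm ge N14009 = N13117 := ded_37_1 (flp_h L149843) (flp_e L149500) L158083
theorem L158093 : sm gf N14009 = N14009 := ded_40_1 (flp_h L158083) L149502 L158083
theorem L158094 : sm gg N14009 = N13616 := ded_42_1 L154296 L151945 L158083
theorem L158096 : sm gd N14009 = N13615 := ded_33_1 (flp_h L154275) (flp_d L149441) (flp_h L156557) L156550 L158083
theorem L158098 : sm gi N14009 = N14009 := ded_44_2 (flp_h L158083) (flp_i L149494) L140265 L149494 L158083
theorem L158099 : sm gc N13090 = N14010 := rfl
theorem L158101 : sm ga N14010 = N13245 := ded_10_1 (flp_c L151008) (flp_a L149550) L158099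
theorem L158103 : sm ge N14010 = N13880 := ded_25_2 L156810 (flp_e L149557) L158099
theorem L158105 : sm gf N14010 = N13583 := ded_26_2 (flp_c L153996) (flp_f L149553) L158099
theorem L158107 : sm gg N14010 = N13255 := ded_27_2 L151094 (flp_g L149555) L158099
theorem L158109 : sm gh N14010 = N13730 := ded_28_2 (flp_c L155159) (flp_h L149559) L158099
theorem L158111 : sm gd N14010 = N13092 := ded_24_2 (flp_c L149576) (flp_d L140436) (flp_c L140428) L149548 L158099
theorem L158113 : sm gi N13090 = N14011 := rfl
theorem L158115 : sm ga N14011 = N13247 := ded_16_1 (flp_i L151028) (flp_a L149550) L158113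
theorem L158117 : sm gb N14011 = N14011 := ded_23_1 (flp_i L158113) L149552 L158113
theorem L158118 : sm gd N14011 = N13091 := ded_34_1 (flp_i L149561) L149548 L158113
theorem L158120 : sm ge N14011 = N13904 := ded_38_1 (flp_i L156994) (flp_e L149557) L158113
theorem L158122 : sm gf N14011 = N13585 := ded_41_1 (flp_i L154012) (flp_f L149553) L158113
theorem L158124 : sm gg N14011 = N13263 := ded_43_1 (flp_i L151148) (flp_g L149555) L158113
theorem L158126 : sm gi N13092 = N14012 := rfl
theorem L158128 : sm ga N14012 = N13249 := ded_16_1 (flp_i L151044) (flp_a L149578) L158126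
theorem L158130 : sm gc N14012 = N13093 := ded_29_1 (flp_i L149588) L149576 L158126
theorem L158132 : sm ge N14012 = N13251 := ded_38_1 (flp_i L151060) (flp_e L149580) L158126
theorem L158134 : sm gf N14012 = N13588 := ded_41_1 (flp_i L154033) (flp_f L149582) L158126
theorem L158136 : sm gg N14012 = N13257 := ded_43_1 (flp_i L151104) (flp_g L149584) L158126
theorem L158138 : sm gh N13093 = N14013 := rfl
theorem L158140 : sm ga N14013 = N13250 := ded_15_1 (flp_h L151050) (flp_a L149590) L158138
theorem L158142 : sm gb N14013 = N13106 := ded_22_1 (flp_h L149730) (flp_b L149592) L158138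
theorem L158144 : sm ge N14013 = N13252 := ded_37_1 (flp_h L151068) (flp_e L149596) L158138
theorem L158146 : sm gf N14013 = N13590 := ded_40_1 (flp_h L154048) (flp_f L149598) L158138
theorem L158148 : sm gg N14013 = N13260 := ded_42_1 (flp_h L151126) (flp_g L149600) L158138
theorem L158150 : sm gd N14013 = N13142 := ded_33_1 (flp_h L150082) L140979 (flp_h L140462) (flp_d L149594) L158138
theorem L158152 : sm gi N14013 = N13100 := ded_44_2 (flp_h L149666) (flp_i L140510) (flp_h L140448) L149588 L158138
theorem L158154 : sm gb N13094 = N14014 := rfl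
theorem L158156 : sm gd N14014 = N13747 := ded_18_2 (flp_b L155336) (flp_d L149612) L158154
theorem L158158 : sm ge N14014 = N13248 := ded_19_2 (flp_b L151036) (flp_e L149606) L158154
theorem L158160 : sm gg N14014 = N13096 := ded_21_2 (flp_b L149626) (flp_g L149608) L158154
theorem L158162 : sm gh N14014 = N13253 := ded_22_2 L151078 (flp_h L149610) L158154
theorem L158164 : sm gc N14014 = N13107 := ded_17_2 (flp_b L149744) (flp_c L140632) (flp_b L140468) L149602 L158154
theorem L158166 : sm gi N13094 = N14015 := rfl
theorem L158168 : sm ga N14015 = N13251 := ded_16_1 (flp_i L151060) (flp_a L149604) L158166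
theorem L158170 : sm gc N14015 = N13095 := ded_29_1 (flp_i L149614) L149602 L158166
theorem L158172 : sm gd N14015 = N13749 := ded_34_1 (flp_i L155356) (flp_d L149612) L158166
theorem L158174 : sm ge N14015 = N13249 := ded_38_1 (flp_i L151044) (flp_e L149606) L158166
theorem L158176 : sm gg N14015 = N13098 := ded_43_1 (flp_i L149644) (flp_g L149608) L158166
theorem L158178 : sm gh N13095 = N14016 := rfl
theorem L158180 : sm ga N14016 = N13252 := ded_15_1 (flp_h L151068) (flp_a L149616) L158178
theorem L158182 : sm gb N14016 = N13109 := ded_22_1 (flp_h L149766) (flp_b L149618) L158178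
theorem L158184 : sm ge N14016 = N13250 := ded_37_1 (flp_h L151050) (flp_e L149622) L158178
theorem L158186 : sm gg N14016 = N13100 := ded_42_1 (flp_h L149666) (flp_g L149624) L158178
theorem L158188 : sm gd N14016 = N13151 := ded_33_1 (flp_h L150163) L141024 (flp_h L140488) (flp_d L149620) L158178
theorem L158190 : sm gi N14016 = N13260 := ded_44_2 (flp_h L151126) (flp_i L141965) (flp_h L140474) L149614 L158178
theorem L158192 : sm ga N13096 = N14017 := rfl
theorem L158194 : sm gc N14017 = N13110 := ded_10_2 (flp_a L149778) (flp_c L149632) L158192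
theorem L158196 : sm gd N14017 = N13752 := ded_11_2 (flp_a L155388) (flp_d L149628) L158192
theorem L158198 : sm gf N14017 = N13146 := ded_13_2 L150119 (flp_f L149630) L158192
theorem L158200 : sm gb N14017 = N13143 := ded_9_2 L150092 (flp_b L141937) (flp_a L140492) L149626 L158192
theorem L158202 : sm gi N13096 = N14018 := rfl
theorem L158204 : sm gb N14018 = N13098 := ded_23_1 (flp_i L149644) L149626 L158202
theorem L158206 : sm gc N14018 = N13111 := ded_29_1 (flp_i L149786) (flp_c L149632) L158202
theorem L158208 : sm gd N14018 = N13754 := ded_34_1 (flp_i L155404) (flp_d L149628) L158202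
theorem L158210 : sm gf N14018 = N13592 := ded_41_1 (flp_i L154062) (flp_f L149630) L158202
theorem L158212 : sm gd N13097 = N14019 := rfl
theorem L158214 : sm ga N14019 = N13255 := ded_11_1 (flp_d L151092) (flp_a L149636) L158212
theorem L158216 : sm gg N14019 = N13245 := ded_32_2 L151014 (flp_g L149640) L158212
theorem L158218 : sm gc N14019 = N13101 := ded_24_1 (flp_d L149676) L140526 (flp_d L140508) (flp_c L149638) L158212
theorem L158220 : sm ge N14019 = N13755 := ded_30_2 (flp_d L155412) (flp_e L146797) (flp_d L140496) L149634 L158212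
theorem L158222 : sm gh N14019 = N13847 := ded_33_2 L156490 L147967 (flp_d L141927) (flp_h L149642) L158212
theorem L158224 : sm gi N13097 = N14020 := rfl
theorem L158226 : sm ga N14020 = N13257 := ded_16_1 (flp_i L151104) (flp_a L149636) L158224
theorem L158228 : sm gc N14020 = N13099 := ded_29_1 (flp_i L149654) (flp_c L149638) L158224
theorem L158230 : sm ge N14020 = N13098 := ded_38_1 (flp_i L149644) L149634 L158224
theorem L158232 : sm gg N14020 = N13249 := ded_43_1 (flp_i L151044) (flp_g L149640) L158224
theorem L158234 : sm gh N13098 = N14021 := rfl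
theorem L158236 : sm ga N14021 = N13258 := ded_15_1 (flp_h L151110) (flp_a L149646) L158234
theorem L158238 : sm gc N14021 = N13100 := ded_28_1 (flp_h L149666) (flp_c L149648) L158234
theorem L158240 : sm gf N14021 = N13596 := ded_40_1 (flp_h L154092) (flp_f L149652) L158234
theorem L158242 : sm gh N13099 = N14022 := rfl
theorem L158244 : sm ga N14022 = N13260 := ded_15_1 (flp_h L151126) (flp_a L149656) L158242
theorem L158246 : sm gb N14022 = N13113 := ded_22_1 (flp_h L149802) (flp_b L149658) L158242
theorem L158248 : sm ge N14022 = N13100 := ded_37_1 (flp_h L149666) (flp_e L149662) L158242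
theorem L158250 : sm gg N14022 = N13250 := ded_42_1 (flp_h L151050) (flp_g L149664) L158242
theorem L158252 : sm gd N14022 = N13298 := ded_33_1 (flp_h L151440) L142383 (flp_h L140558) (flp_d L149660) L158242
theorem L158254 : sm gi N14022 = N13252 := ded_44_2 (flp_h L151068) (flp_i L141929) (flp_h L140506) L149654 L158242
theorem L158256 : sm gi N13101 = N14023 := rfl
theorem L158258 : sm ga N14023 = N13263 := ded_16_1 (flp_i L151148) (flp_a L149678) L158256
theorem L158260 : sm gb N14023 = N13401 := ded_23_1 (flp_i L152293) (flp_b L149680) L158256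
theorem L158262 : sm gd N14023 = N13102 := ded_34_1 (flp_i L149688) L149676 L158256
theorem L158264 : sm ge N14023 = N13765 := ded_38_1 (flp_i L155506) (flp_e L149684) L158256
theorem L158266 : sm gg N14023 = N13247 := ded_43_1 (flp_i L151028) (flp_g L149682) L158256
theorem L158268 : sm ge N13103 = N14024 := rfl
theorem L158270 : sm ga N14024 = N13266 := ded_12_1 (flp_e L151179) (flp_a L149704) L158268
theorem L158272 : sm gb N14024 = N13578 := ded_19_1 L153958 L152889 L158268
theorem L158274 : sm gc N14024 = N13609 := ded_25_1 (flp_e L154213) (flp_c L149706) L158268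
theorem L158276 : sm gg N14024 = N13547 := ded_36_2 (flp_e L158049) L158045 L158268
theorem L158278 : sm gh N14024 = N13545 := ded_37_2 L153676 (flp_h L151896) L158268
theorem L158280 : sm gf N14024 = N13772 := ded_35_2 (flp_e L155580) (flp_f L146925) (flp_e L140567) L149702 L158268
theorem L158282 : sm gi N13107 = N14025 := rfl
theorem L158284 : sm gb N14025 = N13108 := ded_23_1 (flp_i L149754) L149744 L158282
theorem L158286 : sm gd N14025 = N13114 := ded_34_1 (flp_i L149814) (flp_d L149746) L158282
theorem L158288 : sm ge N14025 = N13274 := ded_38_1 (flp_i L151256) (flp_e L149748) L158282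
theorem L158290 : sm gg N14025 = N13111 := ded_43_1 (flp_i L149786) (flp_g L149750) L158282
theorem L158292 : sm gh N13108 = N14026 := rfl
theorem L158294 : sm ga N14026 = N13119 := ded_15_1 (flp_h L149861) (flp_a L149756) L158292
theorem L158296 : sm gc N14026 = N13109 := ded_28_1 (flp_h L149766) (flp_c L149758) L158292
theorem L158298 : sm ge N14026 = N13275 := ded_37_1 (flp_h L151264) (flp_e L149762) L158292
theorem L158300 : sm gg N14026 = N13112 := ded_42_1 (flp_h L149794) (flp_g L149764) L158292
theorem L158302 : sm gi N14026 = N13280 := ded_44_2 (flp_h L151305) (flp_i L142195) (flp_h L140640) L149754 L158292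
theorem L158304 : sm gi N13110 = N14027 := rfl
theorem L158306 : sm ga N14027 = N13111 := ded_16_1 (flp_i L149786) L149778 L158304
theorem L158308 : sm gb N14027 = N13120 := ded_23_1 (flp_i L149871) (flp_b L149784) L158304
theorem L158310 : sm gd N14027 = N13116 := ded_34_1 (flp_i L149833) (flp_d L149780) L158304
theorem L158312 : sm gf N14027 = N13199 := ded_41_1 (flp_i L150603) (flp_f L149782) L158304
theorem L158314 : sm gh N13111 = N14028 := rfl
theorem L158316 : sm gb N14028 = N13112 := ded_22_1 (flp_h L149794) (flp_b L149788) L158314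
theorem L158318 : sm gf N14028 = N13621 := ded_40_1 (flp_h L154326) (flp_f L149792) L158314
theorem L158320 : sm gd N13112 = N14029 := rfl
theorem L158322 : sm ga N14029 = N13122 := ded_11_1 (flp_d L149889) (flp_a L149796) L158320
theorem L158324 : sm gf N14029 = N13623 := ded_31_2 (flp_d L154338) (flp_f L149800) L158320
theorem L158326 : sm gc N14029 = N13211 := ded_24_1 (flp_d L150704) L141465 (flp_d L140686) (flp_c L149798) L158320
theorem L158328 : sm gh N14029 = N13118 := ded_33_2 (flp_d L149852) (flp_h L140754) (flp_d L140666) L149794 L158320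
theorem L158330 : sm gh N13114 = N14030 := rfl
theorem L158332 : sm ga N14030 = N13680 := ded_15_1 L156037 L156027 L158330
theorem L158334 : sm gb N14030 = N13115 := ded_22_1 (flp_h L149822) (flp_b L149816) L158330
theorem L158336 : sm gc N14030 = N13813 := ded_28_1 (flp_h L156053) (flp_c L149818) L158330
theorem L158338 : sm ge N14030 = N13616 := ded_37_1 L154296 L151941 L158330
theorem L158340 : sm gg N14030 = N13117 := ded_42_1 (flp_h L149843) (flp_g L149820) L158330
theorem L158342 : sm gi N14030 = N14030 := ded_44_2 (flp_h L158330) (flp_i L149814) L140715 L149814 L158330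
theorem L158343 : sm gd N13115 = N14031 := rfl
theorem L158345 : sm ga N14031 = N13123 := ded_11_1 (flp_d L149897) (flp_a L149824) L158343
theorem L158347 : sm gg N14031 = N13118 := ded_32_2 (flp_d L149852) (flp_g L149830) L158343
theorem L158349 : sm gi N14031 = N14031 := ded_34_2 (flp_d L158343) L149832 L158343
theorem L158350 : sm gc N14031 = N13219 := ded_24_1 (flp_d L150783) L141578 (flp_d L140734) (flp_c L149826) L158343
theorem L158352 : sm ge N14031 = N13627 := ded_30_2 (flp_d L154366) L145478 L145497 (flp_e L149828) L158343
theorem L158354 : sm gh N13116 = N14032 := rfl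
theorem L158356 : sm ga N14032 = N13117 := ded_15_1 (flp_h L149843) (flp_a L149835) L158354
theorem L158358 : sm gb N14032 = N13124 := ded_22_1 (flp_h L149908) (flp_b L149837) L158354
theorem L158360 : sm gc N14032 = N13815 := ded_28_1 (flp_h L156077) (flp_c L149839) L158354
theorem L158362 : sm ge N14032 = N13678 := ded_37_1 L158081 L158076 L158354
theorem L158364 : sm gf N14032 = N13218 := ded_40_1 (flp_h L150773) (flp_f L149841) L158354
theorem L158366 : sm gg N14032 = N13680 := ded_42_1 L156037 L156035 L158354
theorem L158368 : sm gi N14032 = N14032 := ded_44_2 (flp_h L158354) (flp_i L149833) L140743 L149833 L158354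
theorem L158369 : sm gd N13117 = N14033 := rfl
theorem L158371 : sm gb N14033 = N13118 := ded_18_1 (flp_d L149852) (flp_b L149845) L158369
theorem L158373 : sm gf N14033 = N13629 := ded_31_2 (flp_d L154379) (flp_f L149849) L158369
theorem L158375 : sm gi N14033 = N14033 := ded_34_2 (flp_d L158369) L149851 L158369
theorem L158376 : sm ge N13118 = N14034 := rfl
theorem L158378 : sm ga N14034 = N13126 := ded_12_1 (flp_e L149932) (flp_a L149854) L158376
theorem L158380 : sm gc N14034 = N13222 := ded_25_1 (flp_e L150807) (flp_c L149859) L158376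
theorem L158382 : sm gg N14034 = N13627 := ded_36_2 (flp_e L158352) L158347 L158376
theorem L158384 : sm gi N14034 = N14034 := ded_38_2 (flp_e L158376) L149858 L158376
theorem L158385 : sm gd N14034 = N13626 := ded_30_1 L154361 (flp_d L149514) L149509 L149852 L158376
theorem L158387 : sm gd N13119 = N14035 := rfl
theorem L158389 : sm gb N14035 = N13694 := ded_18_1 (flp_d L156237) L156227 L158387
theorem L158391 : sm gg N14035 = N13122 := ded_32_2 (flp_d L149889) (flp_g L149867) L158387

end Cfsg.Agent.Helper28.FibA
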