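import Cfsg.Agent.Helper28.FibB11

/-! # The Fi₂₂ presentation, cosets of the subgroup generated by b, …, i: the coset enumeration, part 12 (helper28; generated) -/

set_option autoImplicit false

noncomputable section

namespace Cfsg.Agent.Helper28.FibA

open Cfsg.Agent.Helper28.CosetTable

theorem L158393 : sm gi N14035 = N13283 := ded_34_2 (flp_d L151329) (flp_i L149869) L158387
theorem L158395 : sm gc N14035 = N13232 := ded_24_1 (flp_d L150899) L141719 (flp_d L140795) (flp_c L149863) L158387
theorem L158397 : sm ge N14035 = N13635 := ded_30_2 (flp_d L154409) (flp_e L148869) L148875 (flp_e L149865) L158387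
theorem L158399 : sm gh N14035 = N13123 := ded_33_2 (flp_d L149897) (flp_h L140835) (flp_d L140781) L149861 L158387
theorem L158401 : sm gh N13120 = N14036 := rfl
theorem L158403 : sm ga N14036 = N13121 := ded_15_1 (flp_h L149881) (flp_a L149873) L158401
theorem L158405 : sm gc N14036 = N13197 := ded_28_1 (flp_h L150586) (flp_c L149875) L158401
theorem L158407 : sm gf N14036 = N13201 := ded_40_1 (flp_h L150624) (flp_f L149879) L158401
theorem L158409 : sm gd N13121 = N14037 := rfl
theorem L158411 : sm gb N14037 = N13122 := ded_18_1 (flp_d L149889) (flp_b L149883) L158409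
theorem L158413 : sm gf N14037 = N13232 := ded_31_2 (flp_d L150899) (flp_f L149887) L158409
theorem L158415 : sm gg N14037 = N13694 := ded_32_2 (flp_d L156237) L156235 L158409
theorem L158417 : sm ge N14037 = N13692 := ded_30_2 (flp_d L154833) (flp_e L148907) (flp_d L156118) L156112 L158409
theorem L158419 : sm gh N14037 = N13125 := ded_33_2 (flp_d L149921) (flp_h L140854) (flp_d L140813) L149881 L158409
theorem L158421 : sm gd N13124 = N14038 := rfl
theorem L158423 : sm ga N14038 = N13125 := ded_11_1 (flp_d L149921) (flp_a L149910) L158421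
theorem L158425 : sm gf N14038 = N13219 := ded_31_2 (flp_d L150783) (flp_f L149916) L158421
theorem L158427 : sm gg N14038 = N13688 := ded_32_2 L154802 (flp_g L149918) L158421
theorem L158429 : sm gi N14038 = N14038 := ded_34_2 (flp_d L158421) L149920 L158421
theorem L158430 : sm ge N14038 = N13686 := ded_30_2 (flp_d L154781) L145931 L145950 (flp_e L149914) L158421
theorem L158432 : sm gd N13127 = N14039 := rfl
theorem L158434 : sm ga N14039 = N13284 := ded_11_1 (flp_d L151332) (flp_a L149945) L158432
theorem L158436 : sm gb N14039 = N14039 := ded_18_1 (flp_d L158432) L149947 L158432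
theorem L158437 : sm gf N14039 = N13128 := ded_31_2 (flp_d L149954) (flp_f L149952) L158432
theorem L158439 : sm gh N14039 = N13996 := ded_33_2 L157941 L149352 (flp_d L140890) L149943 L158432
theorem L158441 : sm gi N13127 = N14040 := rfl
theorem L158443 : sm ga N14040 = N13285 := ded_16_1 (flp_i L151340) (flp_a L149945) L158441
theorem L158445 : sm gb N14040 = N14040 := ded_23_1 (flp_i L158441) L149947 L158441
theorem L158446 : sm gc N14040 = N13134 := ded_29_1 (flp_i L150004) (flp_c L149948) L158441
theorem L158448 : sm ge N14040 = N13271 := ded_38_1 L151233 (flp_e L149950) L158441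
theorem L158450 : sm gf N14040 = N13129 := ded_41_1 (flp_i L149961) (flp_f L149952) L158441
theorem L158452 : sm gh N14040 = N13264 := ded_44_1 (flp_i L151155) L142005 (flp_i L140892) L149943 L158441
theorem L158454 : sm gc N13128 = N14041 := rfl
theorem L158456 : sm ga N14041 = N13286 := ded_10_1 (flp_c L151348) (flp_a L149956) L158454
theorem L158458 : sm gg N14041 = N13130 := ded_27_2 (flp_c L149974) (flp_g L149959) L158454
theorem L158460 : sm gd N14041 = N13135 := ded_24_2 (flp_c L150016) (flp_d L140931) (flp_c L140901) L149954 L158454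
theorem L158462 : sm ge N13128 = N14042 := rfl
theorem L158464 : sm ga N14042 = N13287 := ded_12_1 (flp_e L151356) (flp_a L149956) L158462
theorem L158466 : sm gb N14042 = N14042 := ded_19_1 (flp_e L158462) L149958 L158462
theorem L158467 : sm gg N14042 = N13131 := ded_36_2 (flp_e L149980) (flp_g L149959) L158462
theorem L158469 : sm gd N14042 = N13488 := ded_30_1 (flp_e L153098) (flp_d L144052) (flp_e L140903) L149954 L158462
theorem L158471 : sm gi N13128 = N14043 := rfl
theorem L158473 : sm ga N14043 = N13288 := ded_16_1 (flp_i L151364) (flp_a L149956) L158471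
theorem L158475 : sm gb N14043 = N14043 := ded_23_1 (flp_i L158471) L149958 L158471
theorem L158476 : sm gd N14043 = N13129 := ded_34_1 (flp_i L149961) L149954 L158471
theorem L158478 : sm gg N14043 = N13132 := ded_43_1 (flp_i L149987) (flp_g L149959) L158471
theorem L158480 : sm gb N13130 = N14044 := rfl
theorem L158482 : sm gd N14044 = N13137 := ded_18_2 (flp_b L150038) (flp_d L149978) L158480
theorem L158484 : sm gc N14044 = N14044 := ded_17_2 (flp_b L158480) (flp_c L149974) L140911 L149974 L158480
theorem L158485 : sm ge N13130 = N14045 := rfl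
theorem L158487 : sm ga N14045 = N13290 := ded_12_1 (flp_e L151382) (flp_a L149976) L158485
theorem L158489 : sm gc N14045 = N13131 := ded_25_1 (flp_e L149980) L149974 L158485
theorem L158491 : sm gi N13130 = N14046 := rfl
theorem L158493 : sm ga N14046 = N13291 := ded_16_1 (flp_i L151386) (flp_a L149976) L158491
theorem L158495 : sm gc N14046 = N13132 := ded_29_1 (flp_i L149987) L149974 L158491
theorem L158497 : sm gd N14046 = N13139 := ded_34_1 (flp_i L150054) (flp_d L149978) L158491
theorem L158499 : sm gf N13131 = N14047 := rfl
theorem L158501 : sm ga N14047 = N13292 := ded_13_1 (flp_f L151392) (flp_a L149982) L158499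
theorem L158503 : sm gb N14047 = N14047 := ded_20_1 (flp_f L158499) L149984 L158499
theorem L158504 : sm gd N14047 = N13490 := ded_31_1 (flp_f L153119) (flp_d L149985) L158499
theorem L158506 : sm gi N13131 = N14048 := rfl
theorem L158508 : sm ga N14048 = N13293 := ded_16_1 (flp_i L151398) (flp_a L149982) L158506
theorem L158510 : sm gb N14048 = N14048 := ded_23_1 (flp_i L158506) L149984 L158506
theorem L158511 : sm gd N14048 = N13491 := ded_34_1 (flp_i L153126) (flp_d L149985) L158506
theorem L158513 : sm ge N14048 = N13132 := ded_38_1 (flp_i L149987) L149980 L158506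
theorem L158515 : sm gh N13132 = N14049 := rfl
theorem L158517 : sm ga N14049 = N13294 := ded_15_1 (flp_h L151406) (flp_a L149989) L158515
theorem L158519 : sm gb N14049 = N14049 := ded_22_1 (flp_h L158515) L149991 L158515
theorem L158520 : sm gc N13133 = N14050 := rfl
theorem L158522 : sm ga N14050 = N13248 := ded_10_1 L151042 (flp_a L149996) L158520
theorem L158524 : sm gf N14050 = N13135 := ded_26_2 (flp_c L150016) (flp_f L150000) L158520
theorem L158526 : sm gh N14050 = N13143 := ded_28_2 (flp_c L150090) (flp_h L150002) L158520
theorem L158528 : sm gi N13133 = N14051 := rfl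
theorem L158530 : sm ga N14051 = N13274 := ded_16_1 (flp_i L151256) (flp_a L149996) L158528
theorem L158532 : sm gb N14051 = N13185 := ded_23_1 (flp_i L150473) (flp_b L149998) L158528
theorem L158534 : sm gd N14051 = N13134 := ded_34_1 (flp_i L150004) L149994 L158528
theorem L158536 : sm gf N14051 = N13136 := ded_41_1 (flp_i L150026) (flp_f L150000) L158528
theorem L158538 : sm gb N13135 = N14052 := rfl
theorem L158540 : sm ge N14052 = N13555 := ded_19_2 (flp_b L153743) (flp_e L150020) L158538
theorem L158542 : sm gg N14052 = N13137 := ded_21_2 (flp_b L150038) (flp_g L150022) L158538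
theorem L158544 : sm gh N14052 = N13146 := ded_22_2 (flp_b L150115) (flp_h L150024) L158538
theorem L158546 : sm ga N14052 = N13586 := ded_9_1 (flp_b L154019) L145164 (flp_b L142365) (flp_a L150018) L158538
theorem L158548 : sm gc N14052 = N13186 := ded_17_2 (flp_b L150481) (flp_c L141291) (flp_b L140935) L150016 L158538
theorem L158550 : sm gi N13135 = N14053 := rfl
theorem L158552 : sm ga N14053 = N13296 := ded_16_1 (flp_i L151422) (flp_a L150018) L158550
theorem L158554 : sm gc N14053 = N13136 := ded_29_1 (flp_i L150026) L150016 L158550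
theorem L158556 : sm ge N14053 = N13353 := ded_38_1 L151869 (flp_e L150020) L158550
theorem L158558 : sm gg N14053 = N13139 := ded_43_1 (flp_i L150054) (flp_g L150022) L158550
theorem L158560 : sm gh N13136 = N14054 := rfl
theorem L158562 : sm ga N14054 = N13298 := ded_15_1 (flp_h L151440) (flp_a L150028) L158560
theorem L158564 : sm gb N14054 = N13188 := ded_22_1 (flp_h L150503) (flp_b L150030) L158560
theorem L158566 : sm ge N14054 = N13331 := ded_37_1 L151680 (flp_e L150034) L158560
theorem L158568 : sm gg N14054 = N13142 := ded_42_1 (flp_h L150082) (flp_g L150036) L158560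
theorem L158570 : sm gd N14054 = N13260 := ded_33_1 (flp_h L151126) L141969 (flp_h L140953) (flp_d L150032) L158560
theorem L158572 : sm gi N14054 = N13151 := ded_44_2 (flp_h L150163) (flp_i L141018) (flp_h L140941) L150026 L158560
theorem L158574 : sm ga N13137 = N14055 := rfl
theorem L158576 : sm gc N14055 = N13189 := ded_10_2 (flp_a L150515) (flp_c L150042) L158574
theorem L158578 : sm gg N14055 = N13586 := ded_14_2 (flp_a L158546) L158542 L158574
theorem L158580 : sm gh N14055 = N13152 := ded_15_2 (flp_a L150171) (flp_h L150040) L158574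
theorem L158582 : sm gb N14055 = N13299 := ded_9_2 (flp_a L151448) (flp_b L142387) (flp_a L140957) L150038 L158574
theorem L158584 : sm ge N13137 = N14056 := rfl
theorem L158586 : sm gb N14056 = N13138 := ded_19_1 (flp_e L150044) L150038 L158584
theorem L158588 : sm gc N14056 = N13190 := ded_25_1 (flp_e L150524) (flp_c L150042) L158584
theorem L158590 : sm gg N14056 = N13555 := ded_36_2 (flp_e L158540) L158542 L158584
theorem L158592 : sm gh N14056 = N13153 := ded_37_2 (flp_e L150181) (flp_h L150040) L158584
theorem L158594 : sm gi N13137 = N14057 := rfl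
theorem L158596 : sm gb N14057 = N13139 := ded_23_1 (flp_i L150054) L150038 L158594
theorem L158598 : sm gc N14057 = N13191 := ded_29_1 (flp_i L150534) (flp_c L150042) L158594
theorem L158600 : sm gd N13138 = N14058 := rfl
theorem L158602 : sm ga N14058 = N13302 := ded_11_1 (flp_d L151474) (flp_a L150046) L158600
theorem L158604 : sm gg N14058 = N13552 := ded_32_2 L153729 (flp_g L150050) L158600
theorem L158606 : sm gc N14058 = N13493 := ded_24_1 (flp_d L153146) L144096 (flp_d L140971) (flp_c L150048) L158600
theorem L158608 : sm gf N13138 = N14059 := rfl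
theorem L158610 : sm ga N14059 = N13303 := ded_13_1 (flp_f L151478) (flp_a L150046) L158608
theorem L158612 : sm gc N14059 = N13140 := ded_26_1 (flp_f L150060) (flp_c L150048) L158608
theorem L158614 : sm gh N14059 = N13156 := ded_40_2 (flp_f L150199) (flp_h L150052) L158608
theorem L158616 : sm gi N13138 = N14060 := rfl
theorem L158618 : sm ga N14060 = N13304 := ded_16_1 (flp_i L151484) (flp_a L150046) L158616
theorem L158620 : sm gc N14060 = N13141 := ded_29_1 (flp_i L150070) (flp_c L150048) L158616
theorem L158622 : sm ge N14060 = N13139 := ded_38_1 (flp_i L150054) L150044 L158616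
theorem L158624 : sm gg N14060 = N13353 := ded_43_1 L151869 (flp_g L150050) L158616
theorem L158626 : sm gh N13139 = N14061 := rfl
theorem L158628 : sm ga N14061 = N13305 := ded_15_1 (flp_h L151490) (flp_a L150056) L158626
theorem L158630 : sm gc N14061 = N13142 := ded_28_1 (flp_h L150082) (flp_c L150058) L158626
theorem L158632 : sm gi N14061 = N13158 := ded_44_2 (flp_h L150213) (flp_i L141038) (flp_h L140959) L150054 L158626
theorem L158634 : sm gi N13140 = N14062 := rfl
theorem L158636 : sm ga N14062 = N13307 := ded_16_1 (flp_i L151504) (flp_a L150062) L158634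
theorem L158638 : sm gb N14062 = N13194 := ded_23_1 (flp_i L150559) (flp_b L150064) L158634
theorem L158640 : sm gd N14062 = N13340 := ded_34_1 L151769 (flp_d L150066) L158634
theorem L158642 : sm gf N14062 = N13141 := ded_41_1 (flp_i L150070) L150060 L158634
theorem L158644 : sm gh N13141 = N14063 := rfl
theorem L158646 : sm ga N14063 = N13308 := ded_15_1 (flp_h L151512) (flp_a L150072) L158644
theorem L158648 : sm gb N14063 = N13195 := ded_22_1 (flp_h L150567) (flp_b L150074) L158644
theorem L158650 : sm ge N14063 = N13142 := ded_37_1 (flp_h L150082) (flp_e L150078) L158644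
theorem L158652 : sm gg N14063 = N13331 := ded_42_1 L151680 (flp_g L150080) L158644
theorem L158654 : sm gd N14063 = N13315 := ded_33_1 (flp_h L151568) L142453 L142583 (flp_d L150076) L158644
theorem L158656 : sm gi N14063 = N13161 := ded_44_2 (flp_h L150237) (flp_i L141052) (flp_h L140969) L150070 L158644
theorem L158658 : sm ge N13143 = N14064 := rfl
theorem L158660 : sm ga N14064 = N13253 := ded_12_1 (flp_e L151076) (flp_a L150092) L158658
theorem L158662 : sm gc N14064 = N13144 := ded_25_1 (flp_e L150098) L150090 L158658
theorem L158664 : sm gi N13143 = N14065 := rfl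
theorem L158666 : sm ga N14065 = N13254 := ded_16_1 (flp_i L151082) (flp_a L150092) L158664
theorem L158668 : sm gc N14065 = N13145 := ded_29_1 (flp_i L150105) L150090 L158664
theorem L158670 : sm gd N14065 = N13888 := ded_34_1 (flp_i L156882) (flp_d L150096) L158664
theorem L158672 : sm gf N14065 = N13148 := ded_41_1 (flp_i L150133) (flp_f L150094) L158664
theorem L158674 : sm gi N13144 = N14066 := rfl
theorem L158676 : sm ga N14066 = N13277 := ded_16_1 (flp_i L151281) (flp_a L150100) L158674
theorem L158678 : sm gb N14066 = N13196 := ded_23_1 (flp_i L150579) (flp_b L150102) L158674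
theorem L158680 : sm gd N14066 = N14066 := ded_34_1 (flp_i L158674) L150104 L158674
theorem L158681 : sm ge N14066 = N13145 := ded_38_1 (flp_i L150105) L150098 L158674
theorem L158683 : sm gh N13145 = N14067 := rfl
theorem L158685 : sm ga N14067 = N13278 := ded_15_1 (flp_h L151288) (flp_a L150107) L158683
theorem L158687 : sm gb N14067 = N13197 := ded_22_1 (flp_h L150586) (flp_b L150109) L158683
theorem L158689 : sm gf N14067 = N13151 := ded_40_1 (flp_h L150163) (flp_f L150113) L158683
theorem L158691 : sm ge N13146 = N14068 := rfl
theorem L158693 : sm ga N14068 = N13591 := ded_12_1 (flp_e L154056) (flp_a L150119) L158691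
theorem L158695 : sm gb N14068 = N13147 := ded_19_1 (flp_e L150123) L150115 L158691
theorem L158697 : sm gc N14068 = N13198 := ded_25_1 (flp_e L150592) (flp_c L150121) L158691
theorem L158699 : sm gg N14068 = N13153 := ded_36_2 (flp_e L150181) (flp_g L150117) L158691
theorem L158701 : sm gh N14068 = N13555 := ded_37_2 (flp_e L158540) L158544 L158691
theorem L158703 : sm gi N13146 = N14069 := rfl
theorem L158705 : sm ga N14069 = N13592 := ded_16_1 (flp_i L154062) (flp_a L150119) L158703
theorem L158707 : sm gb N14069 = N13148 := ded_23_1 (flp_i L150133) L150115 L158703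
theorem L158709 : sm gc N14069 = N13199 := ded_29_1 (flp_i L150603) (flp_c L150121) L158703
theorem L158711 : sm gg N14069 = N13154 := ded_43_1 (flp_i L150187) (flp_g L150117) L158703
theorem L158713 : sm gd N13147 = N14070 := rfl
theorem L158715 : sm ga N14070 = N13309 := ded_11_1 (flp_d L151520) (flp_a L150125) L158713
theorem L158717 : sm gg N14070 = N13155 := ded_32_2 (flp_d L150193) (flp_g L150129) L158713
theorem L158719 : sm gc N14070 = N13162 := ded_24_1 (flp_d L150245) L141073 (flp_d L141016) (flp_c L150127) L158713
theorem L158721 : sm gf N13147 = N14071 := rfl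
theorem L158723 : sm ga N14071 = N13310 := ded_13_1 (flp_f L151528) (flp_a L150125) L158721
theorem L158725 : sm gc N14071 = N13149 := ded_26_1 (flp_f L150141) (flp_c L150127) L158721
theorem L158727 : sm gh N14071 = N13554 := ded_40_2 L153741 (flp_h L150131) L158721
theorem L158729 : sm gi N13147 = N14072 := rfl
theorem L158731 : sm ga N14072 = N13311 := ded_16_1 (flp_i L151534) (flp_a L150125) L158729
theorem L158733 : sm gc N14072 = N13150 := ded_29_1 (flp_i L150151) (flp_c L150127) L158729
theorem L158735 : sm ge N14072 = N13148 := ded_38_1 (flp_i L150133) L150123 L158729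
theorem L158737 : sm gg N14072 = N13157 := ded_43_1 (flp_i L150205) (flp_g L150129) L158729
theorem L158739 : sm gh N13148 = N14073 := rfl
theorem L158741 : sm ga N14073 = N13312 := ded_15_1 (flp_h L151544) (flp_a L150135) L158739
theorem L158743 : sm gc N14073 = N13151 := ded_28_1 (flp_h L150163) (flp_c L150137) L158739
theorem L158745 : sm gg N14073 = N13158 := ded_42_1 (flp_h L150213) (flp_g L150139) L158739
theorem L158747 : sm gi N13149 = N14074 := rfl
theorem L158749 : sm ga N14074 = N13314 := ded_16_1 (flp_i L151560) (flp_a L150143) L158747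
theorem L158751 : sm gb N14074 = N13202 := ded_23_1 (flp_i L150632) (flp_b L150145) L158747
theorem L158753 : sm gd N14074 = N13166 := ded_34_1 (flp_i L150286) (flp_d L150147) L158747
theorem L158755 : sm gf N14074 = N13150 := ded_41_1 (flp_i L150151) L150141 L158747
theorem L158757 : sm gh N13150 = N14075 := rfl
theorem L158759 : sm ga N14075 = N13315 := ded_15_1 (flp_h L151568) (flp_a L150153) L158757
theorem L158761 : sm gb N14075 = N13203 := ded_22_1 (flp_h L150640) (flp_b L150155) L158757
theorem L158763 : sm ge N14075 = N13151 := ded_37_1 (flp_h L150163) (flp_e L150159) L158757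
theorem L158765 : sm gg N14075 = N13161 := ded_42_1 (flp_h L150237) (flp_g L150161) L158757
theorem L158767 : sm gd N14075 = N13308 := ded_33_1 (flp_h L151512) L142417 (flp_h L141110) (flp_d L150157) L158757
theorem L158769 : sm gi N14075 = N13331 := ded_44_2 L151680 L142673 (flp_h L141014) L150151 L158757
theorem L158771 : sm ge N13152 = N14076 := rfl
theorem L158773 : sm ga N14076 = N13153 := ded_12_1 (flp_e L150181) L150171 L158771
theorem L158775 : sm gb N14076 = N13316 := ded_19_1 (flp_e L151576) (flp_b L150179) L158771
theorem L158777 : sm gc N14076 = N13204 := ded_25_1 (flp_e L150652) (flp_c L150173) L158771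
theorem L158779 : sm gg N14076 = N13591 := ded_36_2 (flp_e L154056) (flp_g L150177) L158771
theorem L158781 : sm gi N13152 = N14077 := rfl
theorem L158783 : sm ga N14077 = N13154 := ded_16_1 (flp_i L150187) L150171 L158781
theorem L158785 : sm gb N14077 = N13317 := ded_23_1 (flp_i L151584) (flp_b L150179) L158781
theorem L158787 : sm gc N14077 = N13205 := ded_29_1 (flp_i L150661) (flp_c L150173) L158781
theorem L158789 : sm gd N14077 = N14069 := ded_34_1 (flp_i L158703) (flp_d L150175) L158781
theorem L158791 : sm gg N14077 = N13592 := ded_43_1 (flp_i L154062) (flp_g L150177) L158781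
theorem L158793 : sm gd N13153 = N14078 := rfl
theorem L158795 : sm gb N14078 = N13155 := ded_18_1 (flp_d L150193) (flp_b L150183) L158793
theorem L158797 : sm gc N14078 = N14078 := ded_24_1 (flp_d L158793) L150185 L141438 (flp_c L150185) L158793
theorem L158798 : sm gf N13153 = N14079 := rfl
theorem L158800 : sm gb N14079 = N13156 := ded_20_1 (flp_f L150199) (flp_b L150183) L158798
theorem L158802 : sm gc N14079 = N13206 := ded_26_1 (flp_f L150671) (flp_c L150185) L158798
theorem L158804 : sm gi N13153 = N14080 := rfl
theorem L158806 : sm gb N14080 = N13157 := ded_23_1 (flp_i L150205) (flp_b L150183) L158804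
theorem L158808 : sm gc N14080 = N13207 := ded_29_1 (flp_i L150676) (flp_c L150185) L158804
theorem L158810 : sm ge N14080 = N13154 := ded_38_1 (flp_i L150187) L150181 L158804
theorem L158812 : sm gh N13154 = N14081 := rfl
theorem L158814 : sm gb N14081 = N13158 := ded_22_1 (flp_h L150213) (flp_b L150189) L158812
theorem L158816 : sm gc N14081 = N13208 := ded_28_1 (flp_h L150683) (flp_c L150191) L158812
theorem L158818 : sm gf N13155 = N14082 := rfl
theorem L158820 : sm ga N14082 = N13322 := ded_13_1 (flp_f L151628) (flp_a L150195) L158818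
theorem L158822 : sm gc N14082 = N13167 := ded_26_1 (flp_f L150297) (flp_c L150197) L158818
theorem L158824 : sm gd N14082 = N13156 := ded_31_1 (flp_f L150199) L150193 L158818
theorem L158826 : sm gh N13155 = N14083 := rfl
theorem L158828 : sm ga N14083 = N13323 := ded_15_1 (flp_h L151634) (flp_a L150195) L158826
theorem L158830 : sm gc N14083 = N13168 := ded_28_1 (flp_h L150304) (flp_c L150197) L158826
theorem L158832 : sm gi N13155 = N14084 := rfl
theorem L158834 : sm ga N14084 = N13324 := ded_16_1 (flp_i L151638) (flp_a L150195) L158832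
theorem L158836 : sm gc N14084 = N13169 := ded_29_1 (flp_i L150311) (flp_c L150197) L158832
theorem L158838 : sm gd N14084 = N13157 := ded_34_1 (flp_i L150205) L150193 L158832
theorem L158840 : sm gg N13156 = N14085 := rfl
theorem L158842 : sm ga N14085 = N13325 := ded_14_1 (flp_g L151644) (flp_a L150201) L158840
theorem L158844 : sm gc N14085 = N13159 := ded_27_1 (flp_g L150219) (flp_c L150203) L158840
theorem L158846 : sm gi N13156 = N14086 := rfl
theorem L158848 : sm ga N14086 = N13326 := ded_16_1 (flp_i L151648) (flp_a L150201) L158846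
theorem L158850 : sm gc N14086 = N13160 := ded_29_1 (flp_i L150227) (flp_c L150203) L158846
theorem L158852 : sm gf N14086 = N13157 := ded_41_1 (flp_i L150205) L150199 L158846
theorem L158854 : sm gh N13157 = N14087 := rfl
theorem L158856 : sm ga N14087 = N13327 := ded_15_1 (flp_h L151654) (flp_a L150207) L158854
theorem L158858 : sm gc N14087 = N13161 := ded_28_1 (flp_h L150237) (flp_c L150209) L158854
theorem L158860 : sm ge N14087 = N13158 := ded_37_1 (flp_h L150213) (flp_e L150211) L158854
theorem L158862 : sm gd N13158 = N14088 := rfl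
theorem L158864 : sm ga N14088 = N13328 := ded_11_1 (flp_d L151660) (flp_a L150215) L158862
theorem L158866 : sm gi N13159 = N14089 := rfl
theorem L158868 : sm ga N14089 = N13329 := ded_16_1 (flp_i L151662) (flp_a L150221) L158866
theorem L158870 : sm gb N14089 = N13212 := ded_23_1 (flp_i L150710) (flp_b L150223) L158866
theorem L158872 : sm gd N14089 = N13174 := ded_34_1 (flp_i L150366) (flp_d L150225) L158866
theorem L158874 : sm gg N14089 = N13160 := ded_43_1 (flp_i L150227) L150219 L158866
theorem L158876 : sm gh N13160 = N14090 := rfl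
theorem L158878 : sm ga N14090 = N13330 := ded_15_1 (flp_h L151670) (flp_a L150229) L158876
theorem L158880 : sm gb N14090 = N13213 := ded_22_1 (flp_h L150718) (flp_b L150231) L158876
theorem L158882 : sm gf N14090 = N13161 := ded_40_1 (flp_h L150237) (flp_f L150235) L158876
theorem L158884 : sm gd N13161 = N14091 := rfl
theorem L158886 : sm ga N14091 = N13331 := ded_11_1 (flp_d L151676) (flp_a L150239) L158884
theorem L158888 : sm gb N14091 = N13214 := ded_18_1 (flp_d L150724) (flp_b L150241) L158884
theorem L158890 : sm gg N14091 = N13308 := ded_32_2 (flp_d L158767) L158765 L158884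
theorem L158892 : sm gi N14091 = N13315 := ded_34_2 (flp_d L158654) L158656 L158884
theorem L158894 : sm ge N14091 = N13298 := ded_30_2 (flp_d L158252) L158248 L149674 (flp_e L150243) L158884
theorem L158896 : sm gh N14091 = N13176 := ded_33_2 (flp_d L150388) (flp_h L141170) (flp_d L141058) L150237 L158884
theorem L158898 : sm gf N13162 = N14092 := rfl
theorem L158900 : sm ga N14092 = N13332 := ded_13_1 (flp_f L151682) (flp_a L150247) L158898
theorem L158902 : sm gb N14092 = N14092 := ded_20_1 (flp_f L158898) L150249 L158898
theorem L158903 : sm gd N14092 = N13163 := ded_31_1 (flp_f L150252) L150245 L158898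
theorem L158905 : sm gh N13162 = N14093 := rfl
theorem L158907 : sm ga N14093 = N13333 := ded_15_1 (flp_h L151688) (flp_a L150247) L158905
theorem L158909 : sm gb N14093 = N14093 := ded_22_1 (flp_h L158905) L150249 L158905
theorem L158910 : sm gg N14093 = N13168 := ded_42_1 (flp_h L150304) (flp_g L150250) L158905
theorem L158912 : sm gd N14093 = N13500 := ded_33_1 (flp_h L153223) (flp_d L144148) (flp_h L141077) L150245 L158905
theorem L158914 : sm gi N13162 = N14094 := rfl
theorem L158916 : sm ga N14094 = N13334 := ded_16_1 (flp_i L151696) (flp_a L150247) L158914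
theorem L158918 : sm gb N14094 = N14094 := ded_23_1 (flp_i L158914) L150249 L158914
theorem L158919 : sm gd N14094 = N13164 := ded_34_1 (flp_i L150262) L150245 L158914
theorem L158921 : sm gg N14094 = N13169 := ded_43_1 (flp_i L150311) (flp_g L150250) L158914
theorem L158923 : sm gg N13163 = N14095 := rfl
theorem L158925 : sm ga N14095 = N13335 := ded_14_1 (flp_g L151704) (flp_a L150254) L158923
theorem L158927 : sm gb N14095 = N14095 := ded_21_1 (flp_g L158923) L150256 L158923
theorem L158928 : sm gc N14095 = N13165 := ded_27_1 (flp_g L150275) (flp_c L150257) L158923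
theorem L158930 : sm ge N14095 = N14095 := ded_36_1 (flp_g L158923) L150261 L158923
theorem L158931 : sm gh N14095 = N13501 := ded_42_2 (flp_g L153233) (flp_h L150259) L158923
theorem L158933 : sm gf N14095 = N13170 := ded_39_1 (flp_g L150318) (flp_f L141117) (flp_g L141075) L150252 L158923
theorem L158935 : sm gi N13163 = N14096 := rfl
theorem L158937 : sm ga N14096 = N13336 := ded_16_1 (flp_i L151715) (flp_a L150254) L158935
theorem L158939 : sm gb N14096 = N14096 := ded_23_1 (flp_i L158935) L150256 L158935
theorem L158940 : sm gc N14096 = N13166 := ded_29_1 (flp_i L150286) (flp_c L150257) L158935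
theorem L158942 : sm ge N14096 = N14096 := ded_38_1 (flp_i L158935) L150261 L158935
theorem L158943 : sm gf N14096 = N13164 := ded_41_1 (flp_i L150262) L150252 L158935
theorem L158945 : sm gh N14096 = N13534 := ded_44_1 (flp_i L153566) L144551 (flp_i L144167) (flp_h L150259) L158935
theorem L158947 : sm gi N13165 = N14097 := rfl
theorem L158949 : sm ga N14097 = N13339 := ded_16_1 (flp_i L151751) (flp_a L150277) L158947
theorem L158951 : sm gb N14097 = N13215 := ded_23_1 (flp_i L150738) (flp_b L150279) L158947
theorem L158953 : sm ge N14097 = N14097 := ded_38_1 (flp_i L158947) L150281 L158947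
theorem L158954 : sm gf N14097 = N13174 := ded_41_1 (flp_i L150366) (flp_f L150284) L158947
theorem L158956 : sm gg N14097 = N13166 := ded_43_1 (flp_i L150286) L150275 L158947
theorem L158958 : sm gh N14097 = N13535 := ded_44_1 (flp_i L153574) L144566 (flp_i L144179) (flp_h L150282) L158947
theorem L158960 : sm ge N13167 = N14098 := rfl
theorem L158962 : sm ga N14098 = N13341 := ded_12_1 (flp_e L151771) (flp_a L150299) L158960
theorem L158964 : sm gb N14098 = N14098 := ded_19_1 (flp_e L158960) L150301 L158960
theorem L158965 : sm gd N14098 = N13177 := ded_30_1 (flp_e L150400) L141187 (flp_e L141126) (flp_d L150302) L158960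
theorem L158967 : sm gg N13167 = N14099 := rfl
theorem L158969 : sm ga N14099 = N13342 := ded_14_1 (flp_g L151777) (flp_a L150299) L158967
theorem L158971 : sm gb N14099 = N14099 := ded_21_1 (flp_g L158967) L150301 L158967
theorem L158972 : sm gd N14099 = N13170 := ded_32_1 (flp_g L150318) (flp_d L150302) L158967
theorem L158974 : sm gh N14098 = N14099 := ded_15_0 L158969 (flp_h L151783) (flp_a L158962)
theorem L158976 : sm gh N13167 = N14100 := rfl
theorem L158978 : sm ga N14100 = N13343 := ded_15_1 (flp_h L151785) (flp_a L150299) L158976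
theorem L158980 : sm gb N14100 = N14100 := ded_22_1 (flp_h L158976) L150301 L158976
theorem L158981 : sm ge N14100 = N14099 := ded_37_1 (flp_h L158974) (flp_e L158960) L158976
theorem L158983 : sm gf N14100 = N13168 := ded_40_1 (flp_h L150304) L150297 L158976
theorem L158985 : sm gg N14100 = N14098 := ded_42_1 L158974 (flp_g L158967) L158976
theorem L158987 : sm gd N14100 = N13504 := ded_33_1 (flp_h L153268) L144188 (flp_h L141124) (flp_d L150302) L158976
theorem L158989 : sm gi N13167 = N14101 := rfl
theorem L158991 : sm ga N14101 = N13344 := ded_16_1 (flp_i L151797) (flp_a L150299) L158989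
theorem L158993 : sm gb N14101 = N14101 := ded_23_1 (flp_i L158989) L150301 L158989
theorem L158994 : sm gd N14101 = N13171 := ded_34_1 (flp_i L150329) (flp_d L150302) L158989
theorem L158996 : sm gf N14101 = N13169 := ded_41_1 (flp_i L150311) L150297 L158989
theorem L158998 : sm gi N13168 = N14102 := rfl
theorem L159000 : sm ga N14102 = N13345 := ded_16_1 (flp_i L151805) (flp_a L150306) L158998
theorem L159002 : sm gb N14102 = N14102 := ded_23_1 (flp_i L158998) L150308 L158998
theorem L159003 : sm gd N14102 = N13506 := ded_34_1 (flp_i L153290) (flp_d L150309) L158998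
theorem L159005 : sm gh N13169 = N14103 := rfl
theorem L159007 : sm ga N14103 = N13346 := ded_15_1 (flp_h L151811) (flp_a L150313) L159005
theorem L159009 : sm gb N14103 = N14103 := ded_22_1 (flp_h L159005) L150315 L159005
theorem L159010 : sm gi N13170 = N14104 := rfl
theorem L159012 : sm ga N14104 = N13347 := ded_16_1 (flp_i L151815) (flp_a L150320) L159010
theorem L159014 : sm gb N14104 = N14104 := ded_23_1 (flp_i L159010) L150322 L159010
theorem L159015 : sm gc N14104 = N13174 := ded_29_1 (flp_i L150366) (flp_c L150323) L159010
theorem L159017 : sm ge N14104 = N13181 := ded_38_1 (flp_i L150431) (flp_e L150325) L159010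
theorem L159019 : sm gg N14104 = N13171 := ded_43_1 (flp_i L150329) L150318 L159010
theorem L159021 : sm gh N13171 = N14105 := rfl
theorem L159023 : sm ga N14105 = N13348 := ded_15_1 (flp_h L151825) (flp_a L150331) L159021
theorem L159025 : sm gb N14105 = N14105 := ded_22_1 (flp_h L159021) L150333 L159021
theorem L159026 : sm gc N14105 = N13175 := ded_28_1 (flp_h L150376) (flp_c L150334) L159021
theorem L159028 : sm ge N14105 = N13182 := ded_37_1 (flp_h L150441) (flp_e L150336) L159021
theorem L159030 : sm gf N14105 = N13172 := ded_40_1 (flp_h L150340) (flp_f L150338) L159021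
theorem L159032 : sm gi N14105 = N13509 := ded_44_2 (flp_h L153319) (flp_i L144217) (flp_h L141124) L150329 L159021
theorem L159034 : sm gd N13172 = N14106 := rfl
theorem L159036 : sm ga N14106 = N13349 := ded_11_1 (flp_d L151837) (flp_a L150342) L159034
theorem L159038 : sm gb N14106 = N14106 := ded_18_1 (flp_d L159034) L150344 L159034
theorem L159039 : sm gg N14106 = N13532 := ded_32_2 L153556 (flp_g L150349) L159034
theorem L159041 : sm gi N14106 = N13510 := ded_34_2 (flp_d L153330) (flp_i L150351) L159034
theorem L159043 : sm ge N13173 = N14107 := rfl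
theorem L159045 : sm ga N14107 = N13350 := ded_12_1 (flp_e L151843) (flp_a L150355) L159043
theorem L159047 : sm gb N14107 = N14107 := ded_19_1 (flp_e L159043) L150357 L159043
theorem L159048 : sm gc N14107 = N13521 := ded_25_1 L153466 (flp_c L150364) L159043
theorem L159050 : sm gg N14107 = N13525 := ded_36_2 L153504 (flp_g L150360) L159043
theorem L159052 : sm gi N14107 = N13511 := ded_38_2 (flp_e L153337) (flp_i L150362) L159043
theorem L159054 : sm gh N13174 = N14108 := rfl
theorem L159056 : sm ga N14108 = N13351 := ded_15_1 (flp_h L151849) (flp_a L150368) L159054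
theorem L159058 : sm gb N14108 = N13216 := ded_22_1 (flp_h L150750) (flp_b L150370) L159054
theorem L159060 : sm ge N14108 = N13183 := ded_37_1 (flp_h L150452) (flp_e L150372) L159054
theorem L159062 : sm gf N14108 = N13535 := ded_40_1 (flp_h L158958) L158954 L159054
theorem L159064 : sm gg N14108 = N13175 := ded_42_1 (flp_h L150376) (flp_g L150374) L159054
theorem L159066 : sm gi N14108 = N13512 := ded_44_2 (flp_h L153349) (flp_i L144251) (flp_h L141158) L150366 L159054
theorem L159068 : sm gd N13175 = N14109 := rfl
theorem L159070 : sm ga N14109 = N13352 := ded_11_1 (flp_d L151859) (flp_a L150378) L159068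
theorem L159072 : sm gb N14109 = N13217 := ded_18_1 (flp_d L150763) (flp_b L150380) L159068
theorem L159074 : sm gf N14109 = N13176 := ded_31_2 (flp_d L150388) (flp_f L150384) L159068
theorem L159076 : sm gi N14109 = N13297 := ded_34_2 L151436 (flp_i L150386) L159068
theorem L159078 : sm gc N13176 = N14110 := rfl
theorem L159080 : sm ga N14110 = N13353 := ded_10_1 (flp_c L151867) (flp_a L150390) L159078
theorem L159082 : sm ge N14110 = N13296 := ded_25_2 L151426 (flp_e L150398) L159078
theorem L159084 : sm gg N14110 = N13304 := ded_27_2 L151486 (flp_g L150394) L159078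
theorem L159086 : sm gi N14110 = N13295 := ded_29_2 L151416 (flp_i L150396) L159078
theorem L159088 : sm gb N14110 = N13645 := ded_17_1 L154474 L145627 L141537 (flp_b L150392) L159078
theorem L159090 : sm gi N13177 = N14111 := rfl
theorem L159092 : sm ga N14111 = N13354 := ded_16_1 (flp_i L151871) (flp_a L150402) L159090
theorem L159094 : sm gb N14111 = N14111 := ded_23_1 (flp_i L159090) L150404 L159090
theorem L159095 : sm ge N14111 = N13180 := ded_38_1 (flp_i L150422) L150400 L159090
theorem L159097 : sm gi N13178 = N14112 := rfl
theorem L159099 : sm ga N14112 = N13355 := ded_16_1 (flp_i L151877) (flp_a L150407) L159097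
theorem L159101 : sm gb N14112 = N14112 := ded_23_1 (flp_i L159097) L150409 L159097
theorem L159102 : sm gd N14112 = N13181 := ded_34_1 (flp_i L150431) (flp_d L150410) L159097
theorem L159104 : sm gf N14112 = N14112 := ded_41_1 (flp_i L159097) L150412 L159097
theorem L159105 : sm gg N14112 = N13180 := ded_43_1 (flp_i L150422) L150405 L159097
theorem L159107 : sm gh N13181 = N14113 := rfl
theorem L159109 : sm ga N14113 = N13358 := ded_15_1 (flp_h L151910) (flp_a L150433) L159107
theorem L159111 : sm gb N14113 = N14113 := ded_22_1 (flp_h L159107) L150435 L159107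
theorem L159112 : sm gc N14113 = N13183 := ded_28_1 (flp_h L150452) (flp_c L150436) L159107
theorem L159114 : sm gf N14113 = N14113 := ded_40_1 (flp_h L159107) L150438 L159107
theorem L159115 : sm gg N14113 = N13182 := ded_42_1 (flp_h L150441) (flp_g L150439) L159107
theorem L159117 : sm gi N14113 = N13515 := ded_44_2 (flp_h L153389) (flp_i L144315) (flp_h L141212) L150431 L159107
theorem L159119 : sm gh N13185 = N14114 := rfl
theorem L159121 : sm ga N14114 = N13223 := ded_15_1 (flp_h L150813) (flp_a L150475) L159119
theorem L159123 : sm gf N14114 = N13188 := ded_40_1 (flp_h L150503) (flp_f L150479) L159119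
theorem L159125 : sm gd N14114 = N13281 := ded_33_1 (flp_h L151313) L142216 (flp_h L141289) (flp_d L150477) L159119
theorem L159127 : sm gi N14114 = N13197 := ded_44_2 (flp_h L150586) (flp_i L141365) (flp_h L141278) L150473 L159119
theorem L159129 : sm gi N13186 = N14115 := rfl
theorem L159131 : sm ga N14115 = N13617 := ded_16_1 (flp_i L154298) (flp_a L150490) L159129
theorem L159133 : sm gb N14115 = N13187 := ded_23_1 (flp_i L150492) L150481 L159129
theorem L159135 : sm gd N14115 = N14115 := ded_34_1 (flp_i L159129) L150483 L159129
theorem L159136 : sm ge N14115 = N13385 := ded_38_1 L152172 (flp_e L150484) L159129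
theorem L159138 : sm gg N14115 = N13191 := ded_43_1 (flp_i L150534) (flp_g L150486) L159129
theorem L159140 : sm gh N13187 = N14116 := rfl
theorem L159142 : sm ga N14116 = N13224 := ded_15_1 (flp_h L150823) (flp_a L150494) L159140
theorem L159144 : sm gc N14116 = N13188 := ded_28_1 (flp_h L150503) (flp_c L150496) L159140
theorem L159146 : sm ge N14116 = N13383 := ded_37_1 L152153 (flp_e L150499) L159140
theorem L159148 : sm gg N14116 = N13193 := ded_42_1 (flp_h L150551) (flp_g L150501) L159140
theorem L159150 : sm gi N14116 = N13201 := ded_44_2 (flp_h L150624) (flp_i L141392) (flp_h L141299) L150492 L159140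
theorem L159152 : sm gi N13189 = N14117 := rfl
theorem L159154 : sm ga N14117 = N13191 := ded_16_1 (flp_i L150534) L150515 L159152
theorem L159156 : sm gb N14117 = N13225 := ded_23_1 (flp_i L150835) (flp_b L150522) L159152
theorem L159158 : sm gd N14117 = N14117 := ded_34_1 (flp_i L159152) L150517 L159152
theorem L159159 : sm gg N14117 = N13617 := ded_43_1 (flp_i L154298) (flp_g L150518) L159152
theorem L159161 : sm gi N13190 = N14118 := rfl
theorem L159163 : sm gb N14118 = N13192 := ded_23_1 (flp_i L150539) (flp_b L150526) L159161
theorem L159165 : sm gd N14118 = N13480 := ded_34_1 L153028 L150532 L159161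
theorem L159167 : sm ge N14118 = N13191 := ded_38_1 (flp_i L150534) L150524 L159161
theorem L159169 : sm gg N14118 = N13385 := ded_43_1 L152172 (flp_g L150528) L159161
theorem L159171 : sm gh N13191 = N14119 := rfl
theorem L159173 : sm gb N14119 = N13193 := ded_22_1 (flp_h L150551) (flp_b L150536) L159171
theorem L159175 : sm gi N14119 = N13208 := ded_44_2 (flp_h L150683) (flp_i L141439) (flp_h L141315) L150534 L159171
theorem L159177 : sm gh N13192 = N14120 := rfl
theorem L159179 : sm ga N14120 = N13227 := ded_15_1 (flp_h L150854) (flp_a L150541) L159177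
theorem L159181 : sm gc N14120 = N13195 := ded_28_1 (flp_h L150567) (flp_c L150543) L159177
theorem L159183 : sm ge N14120 = N13193 := ded_37_1 (flp_h L150551) (flp_e L150547) L159177
theorem L159185 : sm gg N14120 = N13383 := ded_42_1 L152153 (flp_g L150549) L159177
theorem L159187 : sm gd N14120 = N13685 := ded_33_1 L154779 L145948 (flp_h L143961) (flp_d L150545) L159177
theorem L159189 : sm gi N14120 = N13210 := ded_44_2 (flp_h L150696) (flp_i L141452) (flp_h L141325) L150539 L159177
theorem L159191 : sm gd N13193 = N14121 := rfl
theorem L159193 : sm ga N14121 = N13228 := ded_11_1 (flp_d L150866) (flp_a L150553) L159191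
theorem L159195 : sm gi N14121 = N13211 := ded_34_2 (flp_d L150704) (flp_i L150557) L159191
theorem L159197 : sm gh N14121 = N14121 := ded_33_2 (flp_d L159191) (flp_h L150551) L141335 L150551 L159191
theorem L159198 : sm gh N13194 = N14122 := rfl
theorem L159200 : sm ga N14122 = N13229 := ded_15_1 (flp_h L150871) (flp_a L150561) L159198
theorem L159202 : sm gf N14122 = N13195 := ded_40_1 (flp_h L150567) (flp_f L150565) L159198
theorem L159204 : sm gd N14122 = N13371 := ded_33_1 (flp_h L152047) L142918 L143035 (flp_d L150563) L159198
theorem L159206 : sm gi N14122 = N13213 := ded_44_2 (flp_h L150718) (flp_i L141473) (flp_h L141342) L150559 L159198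
theorem L159208 : sm gh N13196 = N14123 := rfl
theorem L159210 : sm ga N14123 = N13230 := ded_15_1 (flp_h L150881) (flp_a L150581) L159208
theorem L159212 : sm ge N14123 = N13197 := ded_37_1 (flp_h L150586) (flp_e L150584) L159208
theorem L159214 : sm gi N13198 = N14124 := rfl
theorem L159216 : sm ga N14124 = N13620 := ded_16_1 (flp_i L154319) (flp_a L150594) L159214
theorem L159218 : sm gb N14124 = N13200 := ded_23_1 (flp_i L150613) (flp_b L150596) L159214
theorem L159220 : sm gd N14124 = N14124 := ded_34_1 (flp_i L159214) L150602 L159214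
theorem L159221 : sm ge N14124 = N13199 := ded_38_1 (flp_i L150603) L150592 L159214
theorem L159223 : sm gg N14124 = N13207 := ded_43_1 (flp_i L150676) (flp_g L150598) L159214
theorem L159225 : sm gh N13199 = N14125 := rfl
theorem L159227 : sm ga N14125 = N13621 := ded_15_1 (flp_h L154326) (flp_a L150605) L159225
theorem L159229 : sm gb N14125 = N13201 := ded_22_1 (flp_h L150624) (flp_b L150607) L159225
theorem L159231 : sm gg N14125 = N13208 := ded_42_1 (flp_h L150683) (flp_g L150611) L159225
theorem L159233 : sm gh N13200 = N14126 := rfl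
theorem L159235 : sm ga N14126 = N13231 := ded_15_1 (flp_h L150887) (flp_a L150615) L159233
theorem L159237 : sm gc N14126 = N13203 := ded_28_1 (flp_h L150640) (flp_c L150617) L159233
theorem L159239 : sm ge N14126 = N13201 := ded_37_1 (flp_h L150624) (flp_e L150620) L159233
theorem L159241 : sm gg N14126 = N13210 := ded_42_1 (flp_h L150696) (flp_g L150622) L159233
theorem L159243 : sm gi N14126 = N13383 := ded_44_2 L152153 L143070 (flp_h L141389) L150613 L159233
theorem L159245 : sm gd N13201 = N14127 := rfl
theorem L159247 : sm ga N14127 = N13232 := ded_11_1 (flp_d L150899) (flp_a L150626) L159245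
theorem L159249 : sm gg N14127 = N13211 := ded_32_2 (flp_d L150704) (flp_g L150630) L159245
theorem L159251 : sm gh N14127 = N13219 := ded_33_2 (flp_d L150783) (flp_h L141574) (flp_d L141398) L150624 L159245
theorem L159253 : sm gh N13202 = N14128 := rfl
theorem L159255 : sm ga N14128 = N13233 := ded_15_1 (flp_h L150907) (flp_a L150634) L159253
theorem L159257 : sm gf N14128 = N13203 := ded_40_1 (flp_h L150640) (flp_f L150638) L159253
theorem L159259 : sm gd N14128 = N13369 := ded_33_1 (flp_h L152027) L142890 (flp_h L141505) (flp_d L150636) L159253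
theorem L159261 : sm gi N14128 = N13382 := ded_44_2 L152147 L143064 (flp_h L141408) L150632 L159253
theorem L159263 : sm gi N13204 = N14129 := rfl
theorem L159265 : sm ga N14129 = N13207 := ded_16_1 (flp_i L150676) (flp_a L150654) L159263
theorem L159267 : sm gb N14129 = N13234 := ded_23_1 (flp_i L150917) (flp_b L150656) L159263
theorem L159269 : sm gd N14129 = N14129 := ded_34_1 (flp_i L159263) L150660 L159263
theorem L159270 : sm ge N14129 = N13205 := ded_38_1 (flp_i L150661) L150652 L159263
theorem L159272 : sm gg N14129 = N13620 := ded_43_1 (flp_i L154319) (flp_g L150658) L159263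
theorem L159274 : sm gh N13205 = N14130 := rfl
theorem L159276 : sm ga N14130 = N13208 := ded_15_1 (flp_h L150683) (flp_a L150663) L159274
theorem L159278 : sm gb N14130 = N13235 := ded_22_1 (flp_h L150928) (flp_b L150665) L159274
theorem L159280 : sm gg N14130 = N13621 := ded_42_1 (flp_h L154326) (flp_g L150669) L159274
theorem L159282 : sm gi N13206 = N14131 := rfl
theorem L159284 : sm gb N14131 = N13209 := ded_23_1 (flp_i L150687) (flp_b L150673) L159282
theorem L159286 : sm gd N14131 = N14131 := ded_34_1 (flp_i L159282) L150675 L159282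
theorem L159287 : sm gf N14131 = N13207 := ded_41_1 (flp_i L150676) L150671 L159282
theorem L159289 : sm gh N13207 = N14132 := rfl
theorem L159291 : sm gb N14132 = N13210 := ded_22_1 (flp_h L150696) (flp_b L150678) L159289
theorem L159293 : sm ge N14132 = N13208 := ded_37_1 (flp_h L150683) (flp_e L150681) L159289
theorem L159295 : sm gd N13208 = N14133 := rfl
theorem L159297 : sm gb N14133 = N13211 := ded_18_1 (flp_d L150704) (flp_b L150685) L159295
theorem L159299 : sm gh N14133 = N13221 := ded_33_2 (flp_d L150802) (flp_h L141595) (flp_d L141443) L150683 L159295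
theorem L159301 : sm gh N13209 = N14134 := rfl
theorem L159303 : sm ga N14134 = N13238 := ded_15_1 (flp_h L150954) (flp_a L150689) L159301
theorem L159305 : sm gc N14134 = N13213 := ded_28_1 (flp_h L150718) (flp_c L150691) L159301
theorem L159307 : sm gf N14134 = N13210 := ded_40_1 (flp_h L150696) (flp_f L150694) L159301
theorem L159309 : sm gd N13210 = N14135 := rfl
theorem L159311 : sm ga N14135 = N13239 := ded_11_1 (flp_d L150960) (flp_a L150698) L159309
theorem L159313 : sm gi N14135 = N13685 := ded_34_2 (flp_d L159187) L159189 L159309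
theorem L159315 : sm gc N14135 = N13682 := ded_24_1 (flp_d L154754) L150736 (flp_d L150724) (flp_c L150700) L159309
theorem L159317 : sm gh N14135 = N14135 := ded_33_2 (flp_d L159309) (flp_h L150696) L141458 L150696 L159309
theorem L159318 : sm ge N13211 = N14136 := rfl
theorem L159320 : sm ga N14136 = N13240 := ded_12_1 (flp_e L150967) (flp_a L150706) L159318
theorem L159322 : sm gh N14136 = N13222 := ded_37_2 (flp_e L150807) (flp_h L150708) L159318
theorem L159324 : sm gh N13212 = N14137 := rfl
theorem L159326 : sm ga N14137 = N13241 := ded_15_1 (flp_h L150971) (flp_a L150712) L159324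
theorem L159328 : sm gg N14137 = N13213 := ded_42_1 (flp_h L150718) (flp_g L150716) L159324
theorem L159330 : sm gd N13213 = N14138 := rfl
theorem L159332 : sm ga N14138 = N13242 := ded_11_1 (flp_d L150977) (flp_a L150720) L159330
theorem L159334 : sm gf N14138 = N13214 := ded_31_2 (flp_d L150724) (flp_f L150722) L159330
theorem L159336 : sm gi N14138 = N13371 := ded_34_2 (flp_d L159204) L159206 L159330
theorem L159338 : sm gh N14138 = N13217 := ded_33_2 (flp_d L150763) (flp_h L141516) (flp_d L141477) L150718 L159330
theorem L159340 : sm gc N13681 = N14138 := ded_10_0 L159332 (flp_c L150987) (flp_a L154748)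
theorem L159342 : sm gd N13218 = N14139 := rfl
theorem L159344 : sm ga N14139 = N13629 := ded_11_1 (flp_d L154379) (flp_a L150775) L159342
theorem L159346 : sm gb N14139 = N13219 := ded_18_1 (flp_d L150783) (flp_b L150777) L159342
theorem L159348 : sm gg N14139 = N13221 := ded_32_2 (flp_d L150802) (flp_g L150780) L159342
theorem L159350 : sm gi N14139 = N14139 := ded_34_2 (flp_d L159342) L150782 L159342
theorem L159351 : sm ge N13219 = N14140 := rfl
theorem L159353 : sm ga N14140 = N13243 := ded_12_1 (flp_e L150989) (flp_a L150785) L159351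
theorem L159355 : sm gc N14140 = N13627 := ded_25_1 (flp_e L158352) L158350 L159351
theorem L159357 : sm gg N14140 = N13222 := ded_36_2 (flp_e L150807) (flp_g L150787) L159351
theorem L159359 : sm gi N14140 = N14140 := ded_38_2 (flp_e L159351) L150789 L159351
theorem L159360 : sm gd N14140 = N14140 := ded_30_1 (flp_e L159351) (flp_d L150783) L141580 L150783 L159351
theorem L159361 : sm gf N14140 = N13628 := ded_35_2 (flp_e L156003) L156005 (flp_e L158430) L158425 L159351
theorem L159363 : sm gd N13220 = N14141 := rfl
theorem L159365 : sm ga N14141 = N13221 := ded_11_1 (flp_d L150802) (flp_a L150792) L159363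
theorem L159367 : sm gb N14141 = N13244 := ded_18_1 (flp_d L151001) (flp_b L150794) L159363
theorem L159369 : sm gg N14141 = N13629 := ded_32_2 (flp_d L154379) (flp_g L150799) L159363
theorem L159371 : sm gi N14141 = N14141 := ded_34_2 (flp_d L159363) L150801 L159363
theorem L159372 : sm gc N13221 = N14142 := rfl
theorem L159374 : sm gi N14142 = N14142 := ded_29_2 (flp_c L159372) L150806 L159372
theorem L159375 : sm ge N13221 = N14143 := rfl
theorem L159377 : sm gb N14143 = N13222 := ded_19_1 (flp_e L150807) (flp_b L150804) L159375
theorem L159379 : sm gi N14143 = N14143 := ded_38_2 (flp_e L159375) L150806 L159375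
theorem L159380 : sm gd N14143 = N14143 := ded_30_1 (flp_e L159375) (flp_d L150802) L141599 L150802 L159375
theorem L159381 : sm gd N13224 = N14144 := rfl
theorem L159383 : sm gb N14144 = N13631 := ded_18_1 (flp_d L154390) (flp_b L150825) L159381
theorem L159385 : sm gg N14144 = N13228 := ded_32_2 (flp_d L150866) (flp_g L150831) L159381
theorem L159387 : sm gi N14144 = N13232 := ded_34_2 (flp_d L150899) (flp_i L150833) L159381
theorem L159389 : sm gc N14144 = N13283 := ded_24_1 (flp_d L151329) L142281 (flp_d L141633) (flp_c L150827) L159381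
theorem L159391 : sm gh N14144 = N14144 := ded_33_2 (flp_d L159381) (flp_h L150823) L141620 L150823 L159381
theorem L159392 : sm gh N13225 = N14145 := rfl
theorem L159394 : sm ga N14145 = N13226 := ded_15_1 (flp_h L150844) (flp_a L150837) L159392
theorem L159396 : sm gc N14145 = N13387 := ded_28_1 (flp_h L152183) (flp_c L150839) L159392
theorem L159398 : sm gg N14145 = N13618 := ded_42_1 (flp_h L154303) (flp_g L150842) L159392
theorem L159400 : sm gi N14145 = N13235 := ded_44_2 (flp_h L150928) (flp_i L141752) (flp_h L141644) L150835 L159392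
theorem L159402 : sm gd N13226 = N14146 := rfl
theorem L159404 : sm gb N14146 = N13228 := ded_18_1 (flp_d L150866) (flp_b L150846) L159402
theorem L159406 : sm gg N14146 = N13631 := ded_32_2 (flp_d L154390) (flp_g L150850) L159402
theorem L159408 : sm gi N14146 = N13237 := ded_34_2 (flp_d L150946) (flp_i L150852) L159402
theorem L159410 : sm gh N14146 = N14146 := ded_33_2 (flp_d L159402) (flp_h L150844) L141652 L150844 L159402
theorem L159411 : sm gd N13230 = N14147 := rfl
theorem L159413 : sm gb N14147 = N13283 := ded_18_1 (flp_d L151329) (flp_b L150883) L159411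
theorem L159415 : sm gi N14147 = N13694 := ded_34_2 (flp_d L156237) L156239 L159411
theorem L159417 : sm ge N14147 = N13691 := ded_30_2 (flp_d L154826) (flp_e L148997) L149003 (flp_e L150885) L159411
theorem L159419 : sm gh N14147 = N14147 := ded_33_2 (flp_d L159411) (flp_h L150881) L141695 L150881 L159411
theorem L159420 : sm gd N13231 = N14148 := rfl
theorem L159422 : sm gb N14148 = N13633 := ded_18_1 (flp_d L154402) (flp_b L150889) L159420
theorem L159424 : sm gg N14148 = N13239 := ded_32_2 (flp_d L150960) (flp_g L150895) L159420
theorem L159426 : sm gi N14148 = N13399 := ded_34_2 L152280 (flp_i L150897) L159420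
theorem L159428 : sm gc N14148 = N13390 := ded_24_1 (flp_d L152209) L143132 (flp_d L141739) (flp_c L150891) L159420
theorem L159430 : sm gh N14148 = N14148 := ded_33_2 (flp_d L159420) (flp_h L150887) L141710 L150887 L159420
theorem L159431 : sm ge N13232 = N14149 := rfl
theorem L159433 : sm gb N14149 = N13634 := ded_19_1 (flp_e L154405) (flp_b L150901) L159431
theorem L159435 : sm gc N14149 = N13635 := ded_25_1 (flp_e L158397) L158395 L159431
theorem L159437 : sm gg N14149 = N13240 := ded_36_2 (flp_e L150967) (flp_g L150903) L159431
theorem L159439 : sm gh N14149 = N13243 := ded_37_2 (flp_e L150989) (flp_h L150905) L159431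
theorem L159441 : sm gf N14149 = N13636 := ded_35_2 (flp_e L156419) L156421 (flp_e L158417) L158413 L159431
theorem L159443 : sm gh N13234 = N14150 := rfl
theorem L159445 : sm ga N14150 = N13236 := ded_15_1 (flp_h L150936) (flp_a L150919) L159443
theorem L159447 : sm gc N14150 = N13394 := ded_28_1 (flp_h L152238) (flp_c L150921) L159443
theorem L159449 : sm ge N14150 = N13235 := ded_37_1 (flp_h L150928) (flp_e L150924) L159443
theorem L159451 : sm gg N14150 = N13622 := ded_42_1 (flp_h L154330) (flp_g L150926) L159443
theorem L159453 : sm gd N13235 = N14151 := rfl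
theorem L159455 : sm ga N14151 = N13237 := ded_11_1 (flp_d L150946) (flp_a L150930) L159453
theorem L159457 : sm gg N14151 = N13623 := ded_32_2 (flp_d L154338) (flp_g L150934) L159453
theorem L159459 : sm gh N14151 = N13244 := ded_33_2 (flp_d L151001) (flp_h L141868) (flp_d L141758) L150928 L159453
theorem L159461 : sm gd N13236 = N14152 := rfl
theorem L159463 : sm gb N14152 = N13239 := ded_18_1 (flp_d L150960) (flp_b L150938) L159461
theorem L159465 : sm gg N14152 = N13633 := ded_32_2 (flp_d L154402) (flp_g L150944) L159461
theorem L159467 : sm gi N14152 = N13695 := ded_34_2 (flp_d L157725) L157727 L159461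
theorem L159469 : sm gh N14152 = N14152 := ded_33_2 (flp_d L159461) (flp_h L150936) L141768 L150936 L159461
theorem L159470 : sm gd N13238 = N14153 := rfl
theorem L159472 : sm gf N14153 = N13239 := ded_31_2 (flp_d L150960) (flp_f L150958) L159470
theorem L159474 : sm gi N14153 = N13693 := ded_34_2 (flp_d L156401) L156403 L159470
theorem L159476 : sm gc N14153 = N13691 := ded_24_1 (flp_d L154826) L150987 (flp_d L150977) (flp_c L150956) L159470
theorem L159478 : sm gh N14153 = N14153 := ded_33_2 (flp_d L159470) (flp_h L150954) L141785 L150954 L159470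
theorem L159479 : sm gb N13245 = N14154 := rfl
theorem L159481 : sm gd N14154 = N13248 := ded_18_2 (flp_b L151036) (flp_d L151014) L159479
theorem L159483 : sm gf N14154 = N13286 := ded_20_2 L151352 (flp_f L151010) L159479
theorem L159485 : sm gh N14154 = N13849 := ded_22_2 (flp_b L156500) (flp_h L151012) L159479
theorem L159487 : sm gc N14154 = N13284 := ded_17_2 L151334 (flp_c L143273) (flp_b L141891) L151008 L159479
theorem L159489 : sm ge N13245 = N14155 := rfl
theorem L159491 : sm ga N14155 = N13880 := ded_12_1 (flp_e L158103) L158101 L159489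
theorem L159493 : sm gc N14155 = N13246 := ded_25_1 (flp_e L151016) L151008 L159489
theorem L159495 : sm gg N14155 = N13755 := ded_36_2 (flp_e L158220) L158216 L159489
theorem L159497 : sm gh N14155 = N13850 := ded_37_2 (flp_e L156508) (flp_h L151012) L159489
theorem L159499 : sm gd N14155 = N13748 := ded_30_1 (flp_e L155344) (flp_d L149612) L149606 (flp_d L151014) L159489
theorem L159501 : sm gi N13245 = N14156 := rfl
theorem L159503 : sm gc N14156 = N13247 := ded_29_1 (flp_i L151028) L151008 L159501
theorem L159505 : sm gd N14156 = N13249 := ded_34_1 (flp_i L151044) (flp_d L151014) L159501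
theorem L159507 : sm gf N14156 = N13639 := ded_41_1 (flp_i L154435) (flp_f L151010) L159501
theorem L159509 : sm gi N13246 = N14157 := rfl
theorem L159511 : sm ga N14157 = N13904 := ded_16_1 (flp_i L156994) (flp_a L151018) L159509
theorem L159513 : sm gb N14157 = N13403 := ded_23_1 (flp_i L152309) (flp_b L151020) L159509
theorem L159515 : sm gd N14157 = N13516 := ded_34_1 (flp_i L153399) (flp_d L151026) L159509
theorem L159517 : sm ge N14157 = N13247 := ded_38_1 (flp_i L151028) L151016 L159509
theorem L159519 : sm gg N14157 = N13765 := ded_43_1 (flp_i L155506) (flp_g L151022) L159509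
theorem L159521 : sm gh N13247 = N14158 := rfl
theorem L159523 : sm gb N14158 = N13404 := ded_22_1 (flp_h L152316) (flp_b L151030) L159521
theorem L159525 : sm gf N14158 = N13642 := ded_40_1 (flp_h L154457) (flp_f L151034) L159521
theorem L159527 : sm gd N14158 = N13294 := ded_33_1 (flp_h L151406) L142341 (flp_h L141907) (flp_d L151032) L159521
theorem L159529 : sm gi N14158 = N13854 := ded_44_2 (flp_h L156536) (flp_i L147920) (flp_h L141895) L151028 L159521
theorem L159531 : sm gi N13248 = N14159 := rfl
theorem L159533 : sm gb N14159 = N13249 := ded_23_1 (flp_i L151044) L151036 L159531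
theorem L159535 : sm gc N14159 = N13274 := ded_29_1 (flp_i L151256) (flp_c L151042) L159531
theorem L159537 : sm gf N14159 = N13296 := ded_41_1 (flp_i L151422) (flp_f L151038) L159531
theorem L159539 : sm gh N13249 = N14160 := rfl
theorem L159541 : sm gc N14160 = N13250 := ded_28_1 (flp_h L151050) (flp_c L151046) L159539
theorem L159543 : sm gf N14160 = N13646 := ded_40_1 (flp_h L154478) (flp_f L151048) L159539
theorem L159545 : sm gi N14160 = N13258 := ded_44_2 (flp_h L151110) (flp_i L141949) (flp_h L141913) L151044 L159539
theorem L159547 : sm gh N13251 = N14161 := rfl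
theorem L159549 : sm gc N14161 = N13252 := ded_28_1 (flp_h L151068) (flp_c L151062) L159547
theorem L159551 : sm gg N14161 = N13258 := ded_42_1 (flp_h L151110) (flp_g L151066) L159547
theorem L159553 : sm gd N13253 = N14162 := rfl
theorem L159555 : sm gb N14162 = N13255 := ded_18_1 (flp_d L151092) (flp_b L151078) L159553
theorem L159557 : sm gc N14162 = N14162 := ded_24_1 (flp_d L159553) L151080 L142177 (flp_c L151080) L159553
theorem L159558 : sm ge N14162 = N13889 := ded_30_2 (flp_d L156890) (flp_e L148121) (flp_d L141939) L151076 L159553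
theorem L159560 : sm gf N13253 = N14163 := rfl
theorem L159562 : sm gb N14163 = N13256 := ded_20_1 (flp_f L151098) (flp_b L151078) L159560
theorem L159564 : sm gc N14163 = N13276 := ded_26_1 (flp_f L151274) (flp_c L151080) L159560
theorem L159566 : sm ge N14163 = N13310 := ded_35_1 (flp_f L151528) (flp_e L142427) (flp_f L141941) L151076 L159560
theorem L159568 : sm gi N13253 = N14164 := rfl
theorem L159570 : sm gb N14164 = N13257 := ded_23_1 (flp_i L151104) (flp_b L151078) L159568
theorem L159572 : sm gc N14164 = N13277 := ded_29_1 (flp_i L151281) (flp_c L151080) L159568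
theorem L159574 : sm ge N14164 = N13254 := ded_38_1 (flp_i L151082) L151076 L159568
theorem L159576 : sm gh N13254 = N14165 := rfl
theorem L159578 : sm gb N14165 = N13258 := ded_22_1 (flp_h L151110) (flp_b L151084) L159576
theorem L159580 : sm gc N14165 = N13278 := ded_28_1 (flp_h L151288) (flp_c L151086) L159576
theorem L159582 : sm gf N14165 = N13312 := ded_40_1 (flp_h L151544) (flp_f L151090) L159576
theorem L159584 : sm gf N13255 = N14166 := rfl
theorem L159586 : sm gc N14166 = N13261 := ded_26_1 (flp_f L151132) (flp_c L151094) L159584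
theorem L159588 : sm gd N14166 = N13256 := ded_31_1 (flp_f L151098) L151092 L159584
theorem L159590 : sm gh N13255 = N14167 := rfl
theorem L159592 : sm ga N14167 = N13847 := ded_15_1 (flp_h L158222) L158214 L159590
theorem L159594 : sm gc N14167 = N13262 := ded_28_1 (flp_h L151137) (flp_c L151094) L159590
theorem L159596 : sm ge N14167 = N13894 := ded_37_1 (flp_h L156925) (flp_e L151096) L159590
theorem L159598 : sm gg N14167 = N13730 := ded_42_1 (flp_h L158109) L158107 L159590
theorem L159600 : sm gd N14167 = N13735 := ded_33_1 L155220 (flp_d L149612) L149610 L151092 L159590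
theorem L159602 : sm gi N13255 = N14168 := rfl
theorem L159604 : sm gc N14168 = N13263 := ded_29_1 (flp_i L151148) (flp_c L151094) L159602
theorem L159606 : sm gd N14168 = N13257 := ded_34_1 (flp_i L151104) L151092 L159602
theorem L159608 : sm ge N14168 = N13895 := ded_38_1 (flp_i L156929) (flp_e L151096) L159602
theorem L159610 : sm gi N13256 = N14169 := rfl
theorem L159612 : sm gc N14169 = N13259 := ded_29_1 (flp_i L151116) (flp_c L151100) L159610
theorem L159614 : sm ge N14169 = N13653 := ded_38_1 (flp_i L154523) (flp_e L151102) L159610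
theorem L159616 : sm gf N14169 = N13257 := ded_41_1 (flp_i L151104) L151098 L159610
theorem L159618 : sm gh N13257 = N14170 := rfl
theorem L159620 : sm gc N14170 = N13260 := ded_28_1 (flp_h L151126) (flp_c L151106) L159618
theorem L159622 : sm ge N14170 = N13258 := ded_37_1 (flp_h L151110) (flp_e L151108) L159618
theorem L159624 : sm gd N13258 = N14171 := rfl
theorem L159626 : sm gf N14171 = N13655 := ded_31_2 (flp_d L154535) (flp_f L151114) L159624
theorem L159628 : sm gc N14171 = N13328 := ded_24_1 (flp_d L151660) L142507 (flp_d L141979) (flp_c L151112) L159624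
theorem L159630 : sm gh N14171 = N13899 := ded_33_2 (flp_d L156955) (flp_h L148151) (flp_d L141953) L151110 L159624
theorem L159632 : sm gh N13259 = N14172 := rfl
theorem L159634 : sm gb N14172 = N13281 := ded_22_1 (flp_h L151313) (flp_b L151118) L159632
theorem L159636 : sm ge N14172 = N13657 := ded_37_1 (flp_h L154547) (flp_e L151122) L159632
theorem L159638 : sm gf N14172 = N13260 := ded_40_1 (flp_h L151126) (flp_f L151124) L159632
theorem L159640 : sm ge N13261 = N14173 := rfl
theorem L159642 : sm gb N14173 = N14173 := ded_19_1 (flp_e L159640) L151134 L159640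
theorem L159643 : sm gd N14173 = N13266 := ded_30_1 (flp_e L151179) L142042 (flp_e L142007) (flp_d L151135) L159640
theorem L159645 : sm gf N14173 = N13911 := ded_35_2 (flp_e L157066) (flp_f L148241) (flp_e L141998) L151132 L159640
theorem L159647 : sm gh N13261 = N14174 := rfl
theorem L159649 : sm ga N14174 = N13845 := ded_15_1 (flp_h L157894) (flp_a L157896) L159647
theorem L159651 : sm gb N14174 = N14174 := ded_22_1 (flp_h L159647) L151134 L159647
theorem L159652 : sm gf N14174 = N13262 := ded_40_1 (flp_h L151137) L151132 L159647
theorem L159654 : sm gg N14174 = N14039 := ded_42_1 L158439 L157945 L159647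
theorem L159656 : sm gd N14174 = N13518 := ded_33_1 (flp_h L153427) L144405 (flp_h L142005) (flp_d L151135) L159647
theorem L159658 : sm gi N13261 = N14175 := rfl
theorem L159660 : sm gb N14175 = N14175 := ded_23_1 (flp_i L159658) L151134 L159658
theorem L159661 : sm gd N14175 = N13264 := ded_34_1 (flp_i L151155) (flp_d L151135) L159658
theorem L159663 : sm gf N14175 = N13263 := ded_41_1 (flp_i L151148) L151132 L159658
theorem L159665 : sm gi N13262 = N14176 := rfl
theorem L159667 : sm ga N14176 = N13848 := ded_16_1 (flp_i L156492) (flp_a L151139) L159665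
theorem L159669 : sm gb N14176 = N14176 := ded_23_1 (flp_i L159665) L151141 L159665
theorem L159670 : sm gd N14176 = N13519 := ded_34_1 (flp_i L153438) (flp_d L151146) L159665
theorem L159672 : sm ge N14176 = N13915 := ded_38_1 (flp_i L157089) (flp_e L151142) L159665
theorem L159674 : sm gg N14176 = N13732 := ded_43_1 (flp_i L155177) (flp_g L151144) L159665
theorem L159676 : sm gh N13263 = N14177 := rfl
theorem L159678 : sm gb N14177 = N14177 := ded_22_1 (flp_h L159676) L151150 L159676
theorem L159679 : sm ge N14177 = N13916 := ded_37_1 (flp_h L157093) (flp_e L151153) L159676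
theorem L159681 : sm ge N13265 = N14178 := rfl
theorem L159683 : sm ga N14178 = N13521 := ded_12_1 L153466 (flp_a L151166) L159681
theorem L159685 : sm gb N14178 = N14178 := ded_19_1 (flp_e L159681) L151168 L159681
theorem L159686 : sm gc N14178 = N13350 := ded_25_1 (flp_e L151843) (flp_c L151175) L159681
theorem L159688 : sm gg N14178 = N13491 := ded_36_2 L153131 (flp_g L151171) L159681
theorem L159690 : sm gh N14178 = N13920 := ded_37_2 (flp_e L157119) (flp_h L151177) L159681
theorem L159692 : sm gi N14178 = N13488 := ded_38_2 (flp_e L153098) (flp_i L151173) L159681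
theorem L159694 : sm gf N14178 = N14107 := ded_35_2 (flp_e L159043) L150358 (flp_e L142103) (flp_f L151169) L159681
theorem L159696 : sm gg N13266 = N14179 := rfl
theorem L159698 : sm ga N14179 = N13547 := ded_14_1 (flp_g L158276) L158270 L159696
theorem L159700 : sm gb N14179 = N14179 := ded_21_1 (flp_g L159696) L151181 L159696
theorem L159701 : sm gc N14179 = N13542 := ded_27_1 L153650 (flp_c L151182) L159696
theorem L159703 : sm ge N14179 = N13267 := ded_36_1 (flp_g L151186) L151179 L159696
theorem L159705 : sm gf N14179 = N13507 := ded_39_1 L153304 (flp_f L153610) L153612 (flp_f L151184) L159696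
theorem L159707 : sm gh N13505 = N14179 := ded_47_0 (flp_g L159696) L151184 (flp_e L148312) L138992 L130192 L122665 L65179 L122821 L122829 (flp_e L130428) (flp_d L139334) (flp_c L148721) (flp_b L157479) L157484 (flp_g L157262) (flp_f L157250) (flp_e L148469) L139141 (flp_c L139991) (flp_b L139985) L130972 (flp_g L130997) L130995 L125878 L73714 L73712 L53884 L53974 L53978 L39531 (flp_e L50116) L68634 (flp_c L125410) (flp_b L133267) (flp_h L133265) (flp_g L130056) (flp_f L130048) L122571 L122569 (flp_c L67273) L67271 L67373 L67381 L49244 L44913 L44924 L44930 (flp_b L45691) L45695 L98981 L50956 L69734 L69740 (flp_c L69780) (flp_b L125306) L125310 (flp_g L127288) L135499 L135505 (flp_d L144598) (flp_c L153284) L153283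
theorem L159709 : sm gh N13266 = N14180 := rfl
theorem L159711 : sm ga N14180 = N13545 := ded_15_1 (flp_h L158278) L158270 L159709
theorem L159713 : sm gb N14180 = N14180 := ded_22_1 (flp_h L159709) L151181 L159709
theorem L159714 : sm gc N14180 = N13541 := ded_28_1 (flp_h L153640) (flp_c L151182) L159709
theorem L159716 : sm ge N14180 = N13268 := ded_37_1 (flp_h L151194) L151179 L159709
theorem L159718 : sm gf N14180 = N13537 := ded_40_1 (flp_h L153601) (flp_f L151184) L159709
theorem L159720 : sm gg N14180 = N13505 := ded_42_1 L159707 (flp_g L159696) L159709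
theorem L159722 : sm gd N13508 = N14180 := ded_11_0 L159711 L153674 (flp_a L153308)
theorem L159724 : sm gi N13503 = N14180 := ded_16_0 L159711 (flp_i L153670) (flp_a L153259)
theorem L159726 : sm gi N13266 = N14181 := rfl
theorem L159728 : sm gb N14181 = N14181 := ded_23_1 (flp_i L159726) L151181 L159726
theorem L159729 : sm gc N14181 = N13672 := ded_29_1 (flp_i L154653) (flp_c L151182) L159726
theorem L159731 : sm ge N14181 = N13269 := ded_38_1 (flp_i L151205) L151179 L159726
theorem L159733 : sm gf N14181 = N13924 := ded_41_1 (flp_i L157150) (flp_f L151184) L159726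
theorem L159735 : sm gh N14181 = N14111 := ded_44_1 (flp_i L159090) L153266 L159724 (flp_h L159709) L159726
theorem L159737 : sm gh N13267 = N14182 := rfl
theorem L159739 : sm ga N14182 = N13544 := ded_15_1 (flp_h L158051) L158040 L159737
theorem L159741 : sm gb N14182 = N14182 := ded_22_1 (flp_h L159737) L151188 L159737
theorem L159742 : sm gc N14182 = N13540 := ded_28_1 (flp_h L153628) (flp_c L151189) L159737
theorem L159744 : sm ge N14182 = N13505 := ded_37_1 L159707 L159703 L159737
theorem L159746 : sm gf N14182 = N14182 := ded_40_1 (flp_h L159737) L151193 L159737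
theorem L159747 : sm gg N14182 = N13268 := ded_42_1 (flp_h L151194) L151186 L159737
theorem L159749 : sm gd N14182 = N13513 := ded_33_1 (flp_h L153372) L144430 (flp_h L142073) (flp_d L151191) L159737
theorem L159751 : sm gi N13502 = N14182 := ded_16_0 L159739 (flp_i L153659) (flp_a L153247)
theorem L159753 : sm gi N13267 = N14183 := rfl
theorem L159755 : sm gb N14183 = N14183 := ded_23_1 (flp_i L159753) L151188 L159753
theorem L159756 : sm gc N14183 = N13673 := ded_29_1 (flp_i L154661) (flp_c L151189) L159753
theorem L159758 : sm gd N14183 = N13270 := ded_34_1 (flp_i L151216) (flp_d L151191) L159753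
theorem L159760 : sm gf N14183 = N14183 := ded_41_1 (flp_i L159753) L151193 L159753
theorem L159761 : sm gg N14183 = N13269 := ded_43_1 (flp_i L151205) L151186 L159753
theorem L159763 : sm gh N14183 = N14112 := ded_44_1 (flp_i L159097) L153253 L159751 (flp_h L159737) L159753
theorem L159765 : sm gh N13270 = N14184 := rfl
theorem L159767 : sm gb N14184 = N14184 := ded_22_1 (flp_h L159765) L151218 L159765
theorem L159768 : sm gc N14184 = N13272 := ded_28_1 (flp_h L151235) (flp_c L151219) L159765
theorem L159770 : sm gf N14184 = N14184 := ded_40_1 (flp_h L159765) L151221 L159765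
theorem L159771 : sm gg N14184 = N13271 := ded_42_1 (flp_h L151224) (flp_g L151222) L159765
theorem L159773 : sm gd N14184 = N14113 := ded_33_1 (flp_h L159107) (flp_d L159102) (flp_h L159763) L159758 L159765
theorem L159775 : sm gi N14184 = N13520 := ded_44_2 (flp_h L153450) (flp_i L144457) (flp_h L142073) L151216 L159765
theorem L159777 : sm gh N13274 = N14185 := rfl
theorem L159779 : sm gb N14185 = N13275 := ded_22_1 (flp_h L151264) (flp_b L151258) L159777
theorem L159781 : sm gf N14185 = N13298 := ded_40_1 (flp_h L151440) (flp_f L151262) L159777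
theorem L159783 : sm gi N14185 = N13278 := ded_44_2 (flp_h L151288) (flp_i L142178) (flp_h L142143) L151256 L159777
theorem L159785 : sm gi N13276 = N14186 := rfl
theorem L159787 : sm gb N14186 = N13279 := ded_23_1 (flp_i L151294) (flp_b L151276) L159785
theorem L159789 : sm gd N14186 = N14186 := ded_34_1 (flp_i L159785) L151278 L159785
theorem L159790 : sm ge N14186 = N13314 := ded_38_1 (flp_i L151560) (flp_e L151279) L159785
theorem L159792 : sm gf N14186 = N13277 := ded_41_1 (flp_i L151281) L151274 L159785
theorem L159794 : sm gh N13277 = N14187 := rfl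
theorem L159796 : sm gb N14187 = N13280 := ded_22_1 (flp_h L151305) (flp_b L151283) L159794
theorem L159798 : sm ge N14187 = N13278 := ded_37_1 (flp_h L151288) (flp_e L151286) L159794
theorem L159800 : sm gh N13279 = N14188 := rfl
theorem L159802 : sm ga N14188 = N13282 := ded_15_1 (flp_h L151321) (flp_a L151296) L159800
theorem L159804 : sm gc N14188 = N13281 := ded_28_1 (flp_h L151313) (flp_c L151298) L159800
theorem L159806 : sm ge N14188 = N13371 := ded_37_1 (flp_h L152047) (flp_e L151301) L159800
theorem L159808 : sm gf N14188 = N13280 := ded_40_1 (flp_h L151305) (flp_f L151303) L159800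
theorem L159810 : sm gd N13280 = N14189 := rfl
theorem L159812 : sm ga N14189 = N13283 := ded_11_1 (flp_d L151329) (flp_a L151307) L159810
theorem L159814 : sm gh N14189 = N14189 := ded_33_2 (flp_d L159810) (flp_h L151305) L142201 L151305 L159810
theorem L159815 : sm gd N13282 = N14190 := rfl
theorem L159817 : sm gf N14190 = N13283 := ded_31_2 (flp_d L151329) (flp_f L151327) L159815
theorem L159819 : sm gh N14190 = N14190 := ded_33_2 (flp_d L159815) (flp_h L151321) L142274 L151321 L159815
theorem L159820 : sm gi N13284 = N14191 := rfl
theorem L159822 : sm gb N14191 = N13402 := ded_23_1 (flp_i L152300) (flp_b L151334) L159820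
theorem L159824 : sm gd N14191 = N13285 := ded_34_1 (flp_i L151340) L151332 L159820
theorem L159826 : sm gf N14191 = N13288 := ded_41_1 (flp_i L151364) (flp_f L151336) L159820
theorem L159828 : sm ge N13286 = N14192 := rfl
theorem L159830 : sm gb N14192 = N13638 := ded_19_1 (flp_e L154429) (flp_b L151352) L159828
theorem L159832 : sm gc N14192 = N13287 := ded_25_1 (flp_e L151356) L151348 L159828
theorem L159834 : sm gg N14192 = N13290 := ded_36_2 (flp_e L151382) (flp_g L151350) L159828
theorem L159836 : sm gi N13286 = N14193 := rfl
theorem L159838 : sm gb N14193 = N13639 := ded_23_1 (flp_i L154435) (flp_b L151352) L159836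
theorem L159840 : sm gc N14193 = N13288 := ded_29_1 (flp_i L151364) L151348 L159836
theorem L159842 : sm gd N14193 = N13296 := ded_34_1 (flp_i L151422) (flp_d L151354) L159836
theorem L159844 : sm gg N14193 = N13291 := ded_43_1 (flp_i L151386) (flp_g L151350) L159836
theorem L159846 : sm gi N13287 = N14194 := rfl
theorem L159848 : sm gb N14194 = N13405 := ded_23_1 (flp_i L152325) (flp_b L151358) L159846
theorem L159850 : sm gd N14194 = N13521 := ded_34_1 (flp_i L153462) (flp_d L151362) L159846
theorem L159852 : sm ge N14194 = N13288 := ded_38_1 (flp_i L151364) L151356 L159846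
theorem L159854 : sm gg N14194 = N13293 := ded_43_1 (flp_i L151398) (flp_g L151360) L159846
theorem L159856 : sm gh N13288 = N14195 := rfl
theorem L159858 : sm gb N14195 = N13406 := ded_22_1 (flp_h L152336) (flp_b L151366) L159856
theorem L159860 : sm gg N14195 = N13294 := ded_42_1 (flp_h L151406) (flp_g L151370) L159856
theorem L159862 : sm ga N13289 = N14196 := rfl
theorem L159864 : sm gc N14196 = N13407 := ded_10_2 (flp_a L152343) (flp_c L151380) L159862
theorem L159866 : sm gd N14196 = N13299 := ded_11_2 (flp_a L151448) (flp_d L151374) L159862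
theorem L159868 : sm gg N14196 = N13583 := ded_14_2 L153998 (flp_g L151376) L159862
theorem L159870 : sm gh N14196 = N14041 := ded_15_2 L158456 (flp_h L151378) L159862
theorem L159872 : sm ge N13289 = N14197 := rfl
theorem L159874 : sm gb N14197 = N13290 := ded_19_1 (flp_e L151382) L151372 L159872
theorem L159876 : sm gc N14197 = N13408 := ded_25_1 (flp_e L152352) (flp_c L151380) L159872
theorem L159878 : sm gg N14197 = N13638 := ded_36_2 (flp_e L154429) (flp_g L151376) L159872
theorem L159880 : sm gh N14197 = N14192 := ded_37_2 (flp_e L159828) (flp_h L151378) L159872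
theorem L159882 : sm gi N13289 = N14198 := rfl
theorem L159884 : sm gb N14198 = N13291 := ded_23_1 (flp_i L151386) L151372 L159882
theorem L159886 : sm gc N14198 = N13409 := ded_29_1 (flp_i L152361) (flp_c L151380) L159882
theorem L159888 : sm gd N14198 = N13301 := ded_34_1 (flp_i L151466) (flp_d L151374) L159882
theorem L159890 : sm gg N14198 = N13639 := ded_43_1 (flp_i L154435) (flp_g L151376) L159882
theorem L159892 : sm gd N13290 = N14199 := rfl
theorem L159894 : sm gc N14199 = N13523 := ded_24_1 (flp_d L153485) L144514 (flp_d L142335) (flp_c L151384) L159892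
theorem L159896 : sm ge N14199 = N13302 := ded_30_2 (flp_d L151474) (flp_e L142395) (flp_d L142329) L151382 L159892
theorem L159898 : sm gf N13290 = N14200 := rfl
theorem L159900 : sm gc N14200 = N13292 := ded_26_1 (flp_f L151392) (flp_c L151384) L159898
theorem L159902 : sm gi N13290 = N14201 := rfl
theorem L159904 : sm gc N14201 = N13293 := ded_29_1 (flp_i L151398) (flp_c L151384) L159902
theorem L159906 : sm ge N14201 = N13291 := ded_38_1 (flp_i L151386) L151382 L159902
theorem L159908 : sm gh N13291 = N14202 := rfl
theorem L159910 : sm gc N14202 = N13294 := ded_28_1 (flp_h L151406) (flp_c L151388) L159908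
theorem L159912 : sm gg N13292 = N14203 := rfl
theorem L159914 : sm gb N14203 = N13413 := ded_21_1 (flp_g L152398) (flp_b L151394) L159912
theorem L159916 : sm gd N14203 = N13527 := ded_32_1 (flp_g L153517) (flp_d L151396) L159912
theorem L159918 : sm gi N13292 = N14204 := rfl
theorem L159920 : sm gb N14204 = N13414 := ded_23_1 (flp_i L152403) (flp_b L151394) L159918
theorem L159922 : sm gd N14204 = N13528 := ded_34_1 (flp_i L153529) (flp_d L151396) L159918
theorem L159924 : sm gf N14204 = N13293 := ded_41_1 (flp_i L151398) L151392 L159918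
theorem L159926 : sm gh N13293 = N14205 := rfl
theorem L159928 : sm gb N14205 = N13415 := ded_22_1 (flp_h L152410) (flp_b L151400) L159926
theorem L159930 : sm ge N14205 = N13294 := ded_37_1 (flp_h L151406) (flp_e L151404) L159926
theorem L159932 : sm gd N13295 = N14206 := rfl
theorem L159934 : sm ga N14206 = N13552 := ded_11_1 L153729 (flp_a L151412) L159932
theorem L159936 : sm gb N14206 = N13643 := ded_18_1 (flp_d L154463) (flp_b L151414) L159932
theorem L159938 : sm gg N14206 = N13302 := ded_32_2 (flp_d L151474) (flp_g L151418) L159932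
theorem L159940 : sm gc N14206 = N13510 := ded_24_1 (flp_d L153330) L144233 (flp_d L142377) (flp_c L151416) L159932
theorem L159942 : sm gf N13295 = N14207 := rfl
theorem L159944 : sm ga N14207 = N13554 := ded_13_1 L153741 (flp_a L151412) L159942
theorem L159946 : sm gb N14207 = N13644 := ded_20_1 (flp_f L154466) (flp_b L151414) L159942
theorem L159948 : sm gc N14207 = N13297 := ded_26_1 (flp_f L151430) (flp_c L151416) L159942
theorem L159950 : sm gh N14207 = N13310 := ded_40_2 (flp_f L151528) (flp_h L151420) L159942
theorem L159952 : sm gh N13296 = N14208 := rfl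
theorem L159954 : sm gb N14208 = N13646 := ded_22_1 (flp_h L154478) (flp_b L151424) L159952
theorem L159956 : sm gc N14208 = N13298 := ded_28_1 (flp_h L151440) (flp_c L151426) L159952
theorem L159958 : sm gg N14208 = N13305 := ded_42_1 (flp_h L151490) (flp_g L151428) L159952
theorem L159960 : sm gi N14208 = N13312 := ded_44_2 (flp_h L151544) (flp_i L142435) (flp_h L142363) L151422 L159952
theorem L159962 : sm ge N13299 = N14209 := rfl
theorem L159964 : sm ga N14209 = N13300 := ded_12_1 (flp_e L151456) L151448 L159962
theorem L159966 : sm gc N14209 = N13361 := ded_25_1 (flp_e L151953) (flp_c L151450) L159962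
theorem L159968 : sm gg N14209 = N13587 := ded_36_2 (flp_e L154025) (flp_g L151452) L159962
theorem L159970 : sm gh N14209 = N13316 := ded_37_2 (flp_e L151576) (flp_h L151454) L159962
theorem L159972 : sm gi N13299 = N14210 := rfl
theorem L159974 : sm ga N14210 = N13301 := ded_16_1 (flp_i L151466) L151448 L159972
theorem L159976 : sm gc N14210 = N13362 := ded_29_1 (flp_i L151964) (flp_c L151450) L159972
theorem L159978 : sm gg N14210 = N13588 := ded_43_1 (flp_i L154033) (flp_g L151452) L159972
theorem L159980 : sm gd N13300 = N14211 := rfl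
theorem L159982 : sm gb N14211 = N13302 := ded_18_1 (flp_d L151474) (flp_b L151458) L159980
theorem L159984 : sm gg N14211 = N13643 := ded_32_2 (flp_d L154463) (flp_g L151462) L159980
theorem L159986 : sm gc N14211 = N14211 := ded_24_1 (flp_d L159980) L151460 L142839 (flp_c L151460) L159980
theorem L159987 : sm gf N13300 = N14212 := rfl
theorem L159989 : sm gb N14212 = N13303 := ded_20_1 (flp_f L151478) (flp_b L151458) L159987
theorem L159991 : sm gc N14212 = N13363 := ded_26_1 (flp_f L151974) (flp_c L151460) L159987
theorem L159993 : sm gh N14212 = N13319 := ded_40_2 (flp_f L151604) (flp_h L151464) L159987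
theorem L159995 : sm gi N13300 = N14213 := rfl
theorem L159997 : sm gb N14213 = N13304 := ded_23_1 (flp_i L151484) (flp_b L151458) L159995
theorem L159999 : sm gc N14213 = N13364 := ded_29_1 (flp_i L151981) (flp_c L151460) L159995
theorem L160001 : sm ge N14213 = N13301 := ded_38_1 (flp_i L151466) L151456 L159995
theorem L160003 : sm gg N14213 = N13645 := ded_43_1 (flp_i L154472) (flp_g L151462) L159995
theorem L160005 : sm gh N13301 = N14214 := rfl
theorem L160007 : sm gb N14214 = N13305 := ded_22_1 (flp_h L151490) (flp_b L151468) L160005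
theorem L160009 : sm gc N14214 = N13365 := ded_28_1 (flp_h L151990) (flp_c L151470) L160005
theorem L160011 : sm gg N14214 = N13646 := ded_42_1 (flp_h L154478) (flp_g L151472) L160005
theorem L160013 : sm gi N14214 = N13321 := ded_44_2 (flp_h L151620) (flp_i L142481) (flp_h L142391) L151466 L160005
theorem L160015 : sm gf N13302 = N14215 := rfl
theorem L160017 : sm gc N14215 = N13530 := ded_26_1 (flp_f L153543) (flp_c L151476) L160015
theorem L160019 : sm gd N14215 = N13303 := ded_31_1 (flp_f L151478) L151474 L160015
theorem L160021 : sm gh N13302 = N14216 := rfl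
theorem L160023 : sm gc N14216 = N13531 := ded_28_1 (flp_h L153548) (flp_c L151476) L160021
theorem L160025 : sm gd N14216 = N13323 := ded_33_1 (flp_h L151634) (flp_d L142491) (flp_h L142399) L151474 L160021
theorem L160027 : sm gi N13302 = N14217 := rfl
theorem L160029 : sm gc N14217 = N13532 := ded_29_1 (flp_i L153553) (flp_c L151476) L160027
theorem L160031 : sm gd N14217 = N13304 := ded_34_1 (flp_i L151484) L151474 L160027
theorem L160033 : sm gg N13303 = N14218 := rfl
theorem L160035 : sm gc N14218 = N13306 := ded_27_1 (flp_g L151496) (flp_c L151480) L160033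
theorem L160037 : sm gh N14218 = N13325 := ded_42_2 (flp_g L151644) (flp_h L151482) L160033
theorem L160039 : sm gi N13303 = N14219 := rfl
theorem L160041 : sm gc N14219 = N13307 := ded_29_1 (flp_i L151504) (flp_c L151480) L160039
theorem L160043 : sm gf N14219 = N13304 := ded_41_1 (flp_i L151484) L151478 L160039
theorem L160045 : sm gh N13304 = N14220 := rfl
theorem L160047 : sm gc N14220 = N13308 := ded_28_1 (flp_h L151512) (flp_c L151486) L160045
theorem L160049 : sm ge N14220 = N13305 := ded_37_1 (flp_h L151490) (flp_e L151488) L160045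
theorem L160051 : sm gi N14220 = N13327 := ded_44_2 (flp_h L151654) (flp_i L142499) (flp_h L142399) L151484 L160045
theorem L160053 : sm gd N13305 = N14221 := rfl
theorem L160055 : sm gi N14221 = N13328 := ded_34_2 (flp_d L151660) (flp_i L151494) L160053
theorem L160057 : sm gi N13306 = N14222 := rfl
theorem L160059 : sm gb N14222 = N13368 := ded_23_1 (flp_i L152019) (flp_b L151498) L160057
theorem L160061 : sm gd N14222 = N13535 := ded_34_1 (flp_i L153574) (flp_d L151500) L160057
theorem L160063 : sm gg N14222 = N13307 := ded_43_1 (flp_i L151504) L151496 L160057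
theorem L160065 : sm gh N13307 = N14223 := rfl
theorem L160067 : sm gb N14223 = N13369 := ded_22_1 (flp_h L152027) (flp_b L151506) L160065
theorem L160069 : sm gf N14223 = N13308 := ded_40_1 (flp_h L151512) (flp_f L151510) L160065
theorem L160071 : sm gi N14223 = N13330 := ded_44_2 (flp_h L151670) (flp_i L142515) (flp_h L142411) L151504 L160065
theorem L160073 : sm gf N13309 = N14224 := rfl
theorem L160075 : sm gb N14224 = N13649 := ded_20_1 (flp_f L154499) (flp_b L151522) L160073
theorem L160077 : sm gc N14224 = N13332 := ded_26_1 (flp_f L151682) (flp_c L151526) L160073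
theorem L160079 : sm gd N14224 = N13310 := ded_31_1 (flp_f L151528) L151520 L160073
theorem L160081 : sm gh N13309 = N14225 := rfl
theorem L160083 : sm gb N14225 = N13650 := ded_22_1 (flp_h L154505) (flp_b L151522) L160081
theorem L160085 : sm gc N14225 = N13333 := ded_28_1 (flp_h L151688) (flp_c L151526) L160081
theorem L160087 : sm gg N14225 = N13323 := ded_42_1 (flp_h L151634) (flp_g L151524) L160081
theorem L160089 : sm gi N13309 = N14226 := rfl
theorem L160091 : sm gb N14226 = N13651 := ded_23_1 (flp_i L154511) (flp_b L151522) L160089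
theorem L160093 : sm gc N14226 = N13334 := ded_29_1 (flp_i L151696) (flp_c L151526) L160089
theorem L160095 : sm gd N14226 = N13311 := ded_34_1 (flp_i L151534) L151520 L160089
theorem L160097 : sm gg N14226 = N13324 := ded_43_1 (flp_i L151638) (flp_g L151524) L160089
theorem L160099 : sm gg N13310 = N14227 := rfl
theorem L160101 : sm gb N14227 = N13652 := ded_21_1 (flp_g L154519) (flp_b L151530) L160099
theorem L160103 : sm gc N14227 = N13313 := ded_27_1 (flp_g L151552) (flp_c L151532) L160099
theorem L160105 : sm gf N14227 = N13325 := ded_39_1 (flp_g L151644) (flp_f L142495) (flp_g L142433) L151528 L160099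
theorem L160107 : sm gi N13310 = N14228 := rfl
theorem L160109 : sm gb N14228 = N13653 := ded_23_1 (flp_i L154523) (flp_b L151530) L160107
theorem L160111 : sm gc N14228 = N13314 := ded_29_1 (flp_i L151560) (flp_c L151532) L160107
theorem L160113 : sm gf N14228 = N13311 := ded_41_1 (flp_i L151534) L151528 L160107
theorem L160115 : sm gh N13311 = N14229 := rfl
theorem L160117 : sm gb N14229 = N13654 := ded_22_1 (flp_h L154529) (flp_b L151536) L160115
theorem L160119 : sm gc N14229 = N13315 := ded_28_1 (flp_h L151568) (flp_c L151538) L160115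
theorem L160121 : sm ge N14229 = N13312 := ded_37_1 (flp_h L151544) (flp_e L151540) L160115
theorem L160123 : sm gg N14229 = N13327 := ded_42_1 (flp_h L151654) (flp_g L151542) L160115
theorem L160125 : sm gd N13312 = N14230 := rfl
theorem L160127 : sm gb N14230 = N13655 := ded_18_1 (flp_d L154535) (flp_b L151546) L160125
theorem L160129 : sm gg N14230 = N13328 := ded_32_2 (flp_d L151660) (flp_g L151550) L160125
theorem L160131 : sm gi N13313 = N14231 := rfl
theorem L160133 : sm gb N14231 = N13370 := ded_23_1 (flp_i L152035) (flp_b L151554) L160131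
theorem L160135 : sm gd N14231 = N13339 := ded_34_1 (flp_i L151751) (flp_d L151556) L160131
theorem L160137 : sm gf N14231 = N13329 := ded_41_1 (flp_i L151662) (flp_f L151558) L160131
theorem L160139 : sm gg N14231 = N13314 := ded_43_1 (flp_i L151560) L151552 L160131
theorem L160141 : sm gh N13314 = N14232 := rfl
theorem L160143 : sm gb N14232 = N13371 := ded_22_1 (flp_h L152047) (flp_b L151562) L160141
theorem L160145 : sm gf N14232 = N13315 := ded_40_1 (flp_h L151568) (flp_f L151566) L160141
theorem L160147 : sm gd N13316 = N14233 := rfl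
theorem L160149 : sm ga N14233 = N13318 := ded_11_1 (flp_d L151594) (flp_a L151578) L160147
theorem L160151 : sm gg N14233 = N13593 := ded_32_2 (flp_d L154070) (flp_g L151582) L160147
theorem L160153 : sm gc N14233 = N13417 := ded_24_1 (flp_d L152425) L143407 (flp_d L142940) (flp_c L151580) L160147
theorem L160155 : sm ge N14233 = N14070 := ded_30_2 (flp_d L158713) (flp_e L150123) (flp_d L142469) L151576 L160147
theorem L160157 : sm gf N13316 = N14234 := rfl
theorem L160159 : sm ga N14234 = N13319 := ded_13_1 (flp_f L151604) (flp_a L151578) L160157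
theorem L160161 : sm gc N14234 = N13372 := ded_26_1 (flp_f L152055) (flp_c L151580) L160157
theorem L160163 : sm gi N13316 = N14235 := rfl
theorem L160165 : sm ga N14235 = N13320 := ded_16_1 (flp_i L151610) (flp_a L151578) L160163
theorem L160167 : sm gc N14235 = N13373 := ded_29_1 (flp_i L152063) (flp_c L151580) L160163
theorem L160169 : sm ge N14235 = N13317 := ded_38_1 (flp_i L151584) L151576 L160163
theorem L160171 : sm gg N14235 = N13595 := ded_43_1 (flp_i L154084) (flp_g L151582) L160163
theorem L160173 : sm gh N13317 = N14236 := rfl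
theorem L160175 : sm ga N14236 = N13321 := ded_15_1 (flp_h L151620) (flp_a L151586) L160173
theorem L160177 : sm gc N14236 = N13374 := ded_28_1 (flp_h L152075) (flp_c L151588) L160173
theorem L160179 : sm gg N14236 = N13596 := ded_42_1 (flp_h L154092) (flp_g L151592) L160173
theorem L160181 : sm gf N13318 = N14237 := rfl
theorem L160183 : sm gb N14237 = N13322 := ded_20_1 (flp_f L151628) (flp_b L151596) L160181
theorem L160185 : sm gc N14237 = N13421 := ded_26_1 (flp_f L152465) (flp_c L151600) L160181
theorem L160187 : sm gd N14237 = N13319 := ded_31_1 (flp_f L151604) L151594 L160181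
theorem L160189 : sm gh N13318 = N14238 := rfl
theorem L160191 : sm gb N14238 = N13323 := ded_22_1 (flp_h L151634) (flp_b L151596) L160189
theorem L160193 : sm gc N14238 = N13422 := ded_28_1 (flp_h L152471) (flp_c L151600) L160189
theorem L160195 : sm ge N14238 = N14225 := ded_37_1 (flp_h L160081) (flp_e L151602) L160189
theorem L160197 : sm gg N14238 = N13650 := ded_42_1 (flp_h L154505) (flp_g L151598) L160189
theorem L160199 : sm gi N13318 = N14239 := rfl
theorem L160201 : sm gb N14239 = N13324 := ded_23_1 (flp_i L151638) (flp_b L151596) L160199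
theorem L160203 : sm gc N14239 = N13423 := ded_29_1 (flp_i L152480) (flp_c L151600) L160199
theorem L160205 : sm gd N14239 = N13320 := ded_34_1 (flp_i L151610) L151594 L160199
theorem L160207 : sm ge N14239 = N14226 := ded_38_1 (flp_i L160089) (flp_e L151602) L160199
theorem L160209 : sm gg N14239 = N13651 := ded_43_1 (flp_i L154511) (flp_g L151598) L160199
theorem L160211 : sm gg N13319 = N14240 := rfl
theorem L160213 : sm gb N14240 = N13325 := ded_21_1 (flp_g L151644) (flp_b L151606) L160211
theorem L160215 : sm gc N14240 = N13375 := ded_27_1 (flp_g L152083) (flp_c L151608) L160211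
theorem L160217 : sm gf N14240 = N13652 := ded_39_1 (flp_g L154519) (flp_f L145644) (flp_g L142479) L151604 L160211
theorem L160219 : sm gi N13319 = N14241 := rfl
theorem L160221 : sm gb N14241 = N13326 := ded_23_1 (flp_i L151648) (flp_b L151606) L160219
theorem L160223 : sm gc N14241 = N13376 := ded_29_1 (flp_i L152091) (flp_c L151608) L160219
theorem L160225 : sm gf N14241 = N13320 := ded_41_1 (flp_i L151610) L151604 L160219
theorem L160227 : sm gh N13320 = N14242 := rfl
theorem L160229 : sm gb N14242 = N13327 := ded_22_1 (flp_h L151654) (flp_b L151612) L160227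
theorem L160231 : sm gc N14242 = N13377 := ded_28_1 (flp_h L152099) (flp_c L151614) L160227
theorem L160233 : sm ge N14242 = N13321 := ded_37_1 (flp_h L151620) (flp_e L151616) L160227
theorem L160235 : sm gg N14242 = N13654 := ded_42_1 (flp_h L154529) (flp_g L151618) L160227
theorem L160237 : sm gd N13321 = N14243 := rfl
theorem L160239 : sm gb N14243 = N13328 := ded_18_1 (flp_d L151660) (flp_b L151622) L160237
theorem L160241 : sm gg N14243 = N13655 := ded_32_2 (flp_d L154535) (flp_g L151626) L160237
theorem L160243 : sm gh N14243 = N14230 := ded_33_2 (flp_d L160125) (flp_h L151544) (flp_d L142487) L151620 L160237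
theorem L160245 : sm ge N13322 = N14244 := rfl
theorem L160247 : sm gc N14244 = N13341 := ded_25_1 (flp_e L151771) (flp_c L151630) L160245
theorem L160249 : sm gg N13322 = N14245 := rfl
theorem L160251 : sm gc N14245 = N13342 := ded_27_1 (flp_g L151777) (flp_c L151630) L160249
theorem L160253 : sm gd N14245 = N13325 := ded_32_1 (flp_g L151644) (flp_d L151632) L160249
theorem L160255 : sm gh N14244 = N14245 := ded_28_0 L160251 (flp_h L151783) (flp_c L160247)
theorem L160257 : sm gh N13322 = N14246 := rfl
theorem L160259 : sm gc N14246 = N13343 := ded_28_1 (flp_h L151785) (flp_c L151630) L160257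
theorem L160261 : sm ge N14246 = N14245 := ded_37_1 (flp_h L160255) (flp_e L160245) L160257
theorem L160263 : sm gf N14246 = N13323 := ded_40_1 (flp_h L151634) L151628 L160257
theorem L160265 : sm gg N14246 = N14244 := ded_42_1 L160255 (flp_g L160249) L160257
theorem L160267 : sm gi N13322 = N14247 := rfl
theorem L160269 : sm gc N14247 = N13344 := ded_29_1 (flp_i L151797) (flp_c L151630) L160267
theorem L160271 : sm gd N14247 = N13326 := ded_34_1 (flp_i L151648) (flp_d L151632) L160267
theorem L160273 : sm gf N14247 = N13324 := ded_41_1 (flp_i L151638) L151628 L160267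
theorem L160275 : sm gi N13323 = N14248 := rfl
theorem L160277 : sm gc N14248 = N13345 := ded_29_1 (flp_i L151805) (flp_c L151636) L160275
theorem L160279 : sm gh N13324 = N14249 := rfl
theorem L160281 : sm gc N14249 = N13346 := ded_28_1 (flp_h L151811) (flp_c L151640) L160279
theorem L160283 : sm gi N13325 = N14250 := rfl
theorem L160285 : sm gc N14250 = N13329 := ded_29_1 (flp_i L151662) (flp_c L151646) L160283
theorem L160287 : sm gg N14250 = N13326 := ded_43_1 (flp_i L151648) L151644 L160283
theorem L160289 : sm gh N13326 = N14251 := rfl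
theorem L160291 : sm gc N14251 = N13330 := ded_28_1 (flp_h L151670) (flp_c L151650) L160289
theorem L160293 : sm gf N14251 = N13327 := ded_40_1 (flp_h L151654) (flp_f L151652) L160289
theorem L160295 : sm gd N13327 = N14252 := rfl
theorem L160297 : sm ge N13328 = N14253 := rfl
theorem L160299 : sm gh N13329 = N14254 := rfl
theorem L160301 : sm gb N14254 = N13381 := ded_22_1 (flp_h L152135) (flp_b L151664) L160299
theorem L160303 : sm gg N14254 = N13330 := ded_42_1 (flp_h L151670) (flp_g L151668) L160299
theorem L160305 : sm gd N13330 = N14255 := rfl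
theorem L160307 : sm gb N14255 = N13382 := ded_18_1 (flp_d L152141) (flp_b L151672) L160305
theorem L160309 : sm gf N14255 = N13331 := ded_31_2 (flp_d L151676) (flp_f L151674) L160305
theorem L160311 : sm gh N14255 = N13352 := ded_33_2 (flp_d L151859) (flp_h L142659) (flp_d L142519) L151670 L160305
theorem L160313 : sm gc N13331 = N14256 := rfl
theorem L160315 : sm gh N14256 = N13353 := ded_28_2 (flp_c L151867) (flp_h L151680) L160313
theorem L160317 : sm ge N13332 = N14257 := rfl
theorem L160319 : sm gb N14257 = N13441 := ded_19_1 (flp_e L152645) (flp_b L151684) L160317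
theorem L160321 : sm gd N14257 = N14257 := ded_30_1 (flp_e L160317) L151686 L142543 (flp_d L151686) L160317
theorem L160322 : sm gg N13661 = N14257 := ded_21_0 L160319 (flp_g L152655) (flp_b L154575)
theorem L160324 : sm gh N13660 = N14257 := ded_22_0 L160319 (flp_h L152653) (flp_b L154569)
theorem L160326 : sm gg N13332 = N14258 := rfl
theorem L160328 : sm gb N14258 = N13442 := ded_21_1 (flp_g L152657) (flp_b L151684) L160326
theorem L160330 : sm gd N14258 = N13335 := ded_32_1 (flp_g L151704) (flp_d L151686) L160326
theorem L160332 : sm ge N14258 = N13661 := ded_36_1 L160322 (flp_e L160317) L160326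
theorem L160334 : sm gf N14258 = N13342 := ded_39_1 (flp_g L151777) (flp_f L142595) (flp_g L142533) L151682 L160326
theorem L160336 : sm gh N13659 = N14258 := ded_22_0 L160328 (flp_h L152668) (flp_b L154561)
theorem L160338 : sm gh N13332 = N14259 := rfl
theorem L160340 : sm gb N14259 = N13443 := ded_22_1 (flp_h L152670) (flp_b L151684) L160338
theorem L160342 : sm ge N14259 = N13660 := ded_37_1 L160324 (flp_e L160317) L160338
theorem L160344 : sm gf N14259 = N13333 := ded_40_1 (flp_h L151688) L151682 L160338
theorem L160346 : sm gg N14259 = N13659 := ded_42_1 L160336 (flp_g L160326) L160338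
theorem L160348 : sm gd N14259 = N13542 := ded_33_1 (flp_h L153642) L144598 (flp_h L142541) (flp_d L151686) L160338
theorem L160350 : sm gi N13332 = N14260 := rfl
theorem L160352 : sm gb N14260 = N13444 := ded_23_1 (flp_i L152683) (flp_b L151684) L160350
theorem L160354 : sm gd N14260 = N13336 := ded_34_1 (flp_i L151715) (flp_d L151686) L160350
theorem L160356 : sm gf N14260 = N13334 := ded_41_1 (flp_i L151696) L151682 L160350
theorem L160358 : sm gi N13333 = N14261 := rfl
theorem L160360 : sm gb N14261 = N13445 := ded_23_1 (flp_i L152692) (flp_b L151690) L160358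
theorem L160362 : sm gd N14261 = N13543 := ded_34_1 (flp_i L153652) (flp_d L151694) L160358
theorem L160364 : sm gg N14261 = N13345 := ded_43_1 (flp_i L151805) (flp_g L151692) L160358
theorem L160366 : sm gh N13334 = N14262 := rfl
theorem L160368 : sm gb N14262 = N13446 := ded_22_1 (flp_h L152703) (flp_b L151698) L160366
theorem L160370 : sm gg N14262 = N13346 := ded_42_1 (flp_h L151811) (flp_g L151702) L160366
theorem L160372 : sm gi N13335 = N14263 := rfl
theorem L160374 : sm gb N14263 = N13447 := ded_23_1 (flp_i L152712) (flp_b L151706) L160372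
theorem L160376 : sm gc N14263 = N13339 := ded_29_1 (flp_i L151751) (flp_c L151708) L160372
theorem L160378 : sm ge N14263 = N14263 := ded_38_1 (flp_i L160372) L151710 L160372
theorem L160379 : sm gf N14263 = N13347 := ded_41_1 (flp_i L151815) (flp_f L151713) L160372
theorem L160381 : sm gg N14263 = N13336 := ded_43_1 (flp_i L151715) L151704 L160372
theorem L160383 : sm gh N13336 = N14264 := rfl
theorem L160385 : sm ga N14264 = N13534 := ded_15_1 (flp_h L158945) L158937 L160383
theorem L160387 : sm gb N14264 = N13448 := ded_22_1 (flp_h L152722) (flp_b L151717) L160383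
theorem L160389 : sm gc N14264 = N13340 := ded_28_1 (flp_h L151760) (flp_c L151719) L160383
theorem L160391 : sm ge N14264 = N14264 := ded_37_1 (flp_h L160383) L151721 L160383
theorem L160392 : sm gf N14264 = N13337 := ded_40_1 (flp_h L151724) (flp_f L151722) L160383
theorem L160394 : sm gi N14264 = N13494 := ded_44_2 L153162 L144132 (flp_h L142541) L151715 L160383
theorem L160396 : sm gd N13337 = N14265 := rfl
theorem L160398 : sm ga N14265 = N13532 := ded_11_1 L153556 (flp_a L151726) L160396
theorem L160400 : sm gb N14265 = N13449 := ded_18_1 (flp_d L152732) (flp_b L151728) L160396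
theorem L160402 : sm gg N14265 = N13349 := ded_32_2 (flp_d L151837) (flp_g L151734) L160396
theorem L160404 : sm gi N14265 = N13493 := ded_34_2 (flp_d L153146) (flp_i L151736) L160396
theorem L160406 : sm ge N13338 = N14266 := rfl
theorem L160408 : sm ga N14266 = N13525 := ded_12_1 L153504 (flp_a L151740) L160406
theorem L160410 : sm gb N14266 = N13450 := ded_19_1 (flp_e L152739) (flp_b L151742) L160406
theorem L160412 : sm gc N14266 = N13491 := ded_25_1 L153131 (flp_c L151749) L160406
theorem L160414 : sm gg N14266 = N13350 := ded_36_2 (flp_e L151843) (flp_g L151745) L160406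
theorem L160416 : sm gi N14266 = N13489 := ded_38_2 (flp_e L153108) (flp_i L151747) L160406
theorem L160418 : sm gh N13339 = N14267 := rfl
theorem L160420 : sm ga N14267 = N13535 := ded_15_1 (flp_h L158958) L158949 L160418
theorem L160422 : sm gb N14267 = N13384 := ded_22_1 (flp_h L152155) (flp_b L151753) L160418
theorem L160424 : sm ge N14267 = N14267 := ded_37_1 (flp_h L160418) L151755 L160418
theorem L160425 : sm gf N14267 = N13351 := ded_40_1 (flp_h L151849) (flp_f L151756) L160418
theorem L160427 : sm gg N14267 = N13340 := ded_42_1 (flp_h L151760) (flp_g L151758) L160418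
theorem L160429 : sm gi N14267 = N13495 := ded_44_2 L153172 L144144 (flp_h L142572) L151751 L160418
theorem L160431 : sm gi N13341 = N14268 := rfl
theorem L160433 : sm gb N14268 = N13454 := ded_23_1 (flp_i L152782) (flp_b L151773) L160431
theorem L160435 : sm gd N14268 = N13354 := ded_34_1 (flp_i L151871) (flp_d L151775) L160431
theorem L160437 : sm ge N14268 = N13344 := ded_38_1 (flp_i L151797) L151771 L160431
theorem L160439 : sm gi N13342 = N14269 := rfl
theorem L160441 : sm gb N14269 = N13455 := ded_23_1 (flp_i L152789) (flp_b L151779) L160439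
theorem L160443 : sm gd N14269 = N13347 := ded_34_1 (flp_i L151815) (flp_d L151781) L160439
theorem L160445 : sm gg N14269 = N13344 := ded_43_1 (flp_i L151797) L151777 L160439
theorem L160447 : sm gi N13343 = N14270 := rfl
theorem L160449 : sm gb N14270 = N13456 := ded_23_1 (flp_i L152796) (flp_b L151787) L160447
theorem L160451 : sm gd N14270 = N13546 := ded_34_1 (flp_i L153680) (flp_d L151795) L160447
theorem L160453 : sm ge N14270 = N14269 := ded_38_1 (flp_i L160439) (flp_e L151789) L160447
theorem L160455 : sm gf N14270 = N13345 := ded_41_1 (flp_i L151805) (flp_f L151791) L160447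
theorem L160457 : sm gg N14270 = N14268 := ded_43_1 (flp_i L160431) (flp_g L151793) L160447
theorem L160459 : sm gh N13344 = N14271 := rfl
theorem L160461 : sm gb N14271 = N13457 := ded_22_1 (flp_h L152807) (flp_b L151799) L160459
theorem L160463 : sm gf N14271 = N13346 := ded_40_1 (flp_h L151811) (flp_f L151803) L160459
theorem L160465 : sm gh N13345 = N14272 := rfl
theorem L160467 : sm gb N14272 = N13458 := ded_22_1 (flp_h L152812) (flp_b L151807) L160465
theorem L160469 : sm gi N14272 = N13346 := ded_44_2 (flp_h L151811) (flp_i L142607) L142601 L151805 L160465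
theorem L160471 : sm gd N13346 = N14273 := rfl
theorem L160473 : sm gb N14273 = N13459 := ded_18_1 (flp_d L152817) (flp_b L151813) L160471
theorem L160475 : sm gh N14273 = N13349 := ded_33_2 (flp_d L151837) (flp_h L142633) (flp_d L142611) L151811 L160471
theorem L160477 : sm gh N13347 = N14274 := rfl
theorem L160479 : sm gb N14274 = N13460 := ded_22_1 (flp_h L152822) (flp_b L151817) L160477
theorem L160481 : sm gc N14274 = N13351 := ded_28_1 (flp_h L151849) (flp_c L151819) L160477
theorem L160483 : sm ge N14274 = N13358 := ded_37_1 (flp_h L151910) (flp_e L151821) L160477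
theorem L160485 : sm gg N14274 = N13348 := ded_42_1 (flp_h L151825) (flp_g L151823) L160477
theorem L160487 : sm gi N14274 = N13550 := ded_44_2 (flp_h L153709) (flp_i L144665) (flp_h L142621) L151815 L160477
theorem L160489 : sm gd N13348 = N14275 := rfl
theorem L160491 : sm gb N14275 = N13461 := ded_18_1 (flp_d L152833) (flp_b L151827) L160489
theorem L160493 : sm gf N14275 = N13349 := ded_31_2 (flp_d L151837) (flp_f L151833) L160489
theorem L160495 : sm gi N14275 = N13551 := ded_34_2 (flp_d L153719) (flp_i L151835) L160489
theorem L160497 : sm ge N14275 = N14191 := ded_30_2 L159824 L151935 (flp_d L151921) (flp_e L151831) L160489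
theorem L160499 : sm gc N13349 = N14276 := rfl
theorem L160501 : sm gi N14276 = N13552 := ded_29_2 (flp_c L153727) (flp_i L151841) L160499
theorem L160503 : sm gd N14276 = N13353 := ded_24_2 (flp_c L151867) (flp_d L142669) (flp_c L142637) L151837 L160499
theorem L160505 : sm ge N13349 = N14277 := rfl
theorem L160507 : sm gb N14277 = N13463 := ded_19_1 (flp_e L152853) (flp_b L151839) L160505
theorem L160509 : sm gi N14277 = N13553 := ded_38_2 (flp_e L153731) (flp_i L151841) L160505
theorem L160511 : sm gd N14277 = N13350 := ded_30_1 (flp_e L151843) (flp_d L142643) (flp_e L142639) L151837 L160505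
theorem L160513 : sm gf N14277 = N14194 := ded_35_2 L159852 (flp_f L159826) (flp_e L160497) L160493 L160505
theorem L160515 : sm gc N13352 = N14278 := rfl
theorem L160517 : sm gf N14278 = N13353 := ded_26_2 (flp_c L151867) (flp_f L151863) L160515
theorem L160519 : sm gi N14278 = N13554 := ded_29_2 (flp_c L153739) (flp_i L151865) L160515
theorem L160521 : sm gb N13353 = N14279 := rfl
theorem L160523 : sm gi N14279 = N13555 := ded_23_2 (flp_b L153743) (flp_i L151869) L160521
theorem L160525 : sm gc N14279 = N13385 := ded_17_2 (flp_b L152168) (flp_c L143066) (flp_b L142671) L151867 L160521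
theorem L160527 : sm gh N13354 = N14280 := rfl
theorem L160529 : sm ga N14280 = N14181 := ded_15_1 L159735 L159092 L160527
theorem L160531 : sm gb N14280 = N13465 := ded_22_1 (flp_h L152869) (flp_b L151873) L160527
theorem L160533 : sm ge N14280 = N13357 := ded_37_1 (flp_h L151898) (flp_e L151875) L160527
theorem L160535 : sm gi N14280 = N14024 := ded_44_2 L158278 (flp_i L153670) (flp_h L144635) L151871 L160527
theorem L160537 : sm gh N13355 = N14281 := rfl
theorem L160539 : sm ga N14281 = N14183 := ded_15_1 L159763 L159099 L160537
theorem L160541 : sm gb N14281 = N13466 := ded_22_1 (flp_h L152875) (flp_b L151879) L160537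
theorem L160543 : sm gf N14281 = N14281 := ded_40_1 (flp_h L160537) L151883 L160537
theorem L160544 : sm gg N14281 = N13357 := ded_42_1 (flp_h L151898) (flp_g L151884) L160537
theorem L160546 : sm gi N14281 = N14006 := ded_44_2 L158051 (flp_i L153659) (flp_h L144625) L151877 L160537
theorem L160548 : sm gd N14007 = N14281 := ded_11_0 L160539 L159758 (flp_a L158055)
theorem L160550 : sm gd N13358 = N14282 := rfl
theorem L160552 : sm ga N14282 = N14184 := ded_11_1 L159773 L159109 L160550
theorem L160554 : sm gb N14282 = N13469 := ded_18_1 (flp_d L152917) (flp_b L151912) L160550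
theorem L160556 : sm gf N14282 = N14282 := ded_31_2 (flp_d L160550) L151916 L160550
theorem L160557 : sm gg N14282 = N13359 := ded_32_2 (flp_d L151921) (flp_g L151917) L160550
theorem L160559 : sm gi N14282 = N13556 := ded_34_2 (flp_d L153747) (flp_i L151919) L160550
theorem L160561 : sm gc N14282 = N13855 := ded_24_1 L156550 L149498 L146575 (flp_c L151914) L160550
theorem L160563 : sm gh N14282 = N14007 := ded_33_2 L160548 (flp_h L160537) L151881 L151910 L160550
theorem L160565 : sm ge N13846 = N14282 := ded_47_3 (flp_d L160550) L151914 L142773 (flp_h L133792) L125591 L68057 L49720 L36402 L26655 (flp_b L24287) (flp_h L25689) L25688 (flp_f L35008) (flp_e L47729) (flp_d L65240) (flp_c L122898) (flp_b L130511) (flp_h L138835) L138833 L133142 L125260 (flp_d L125299) (flp_c L133375) L133373 L134347 L134353 L126212 (flp_e L126283) L134524 (flp_c L135906) L135904 (flp_h L131365) L131364 (flp_f L140126) L140124 L131115 (flp_c L130268) (flp_b L138790) L138795 L134217 (flp_f L132855) L132853 (flp_d L131599) L131597 L129363 L122195 (flp_g L120837) L60933 (flp_e L48638) (flp_d L66518)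 (flp_c L123628) (flp_b L131334) L131341 L127673 L127671 (flp_e L126009) L126007 (flp_c L128664) (flp_b L136593) (flp_h L138758) (flp_g L147905) (flp_f L156480)
theorem L160567 : sm gi N13361 = N14283 := rfl
theorem L160569 : sm ga N14283 = N13364 := ded_16_1 (flp_i L151981) (flp_a L151955) L160567
theorem L160571 : sm gb N14283 = N13386 := ded_23_1 (flp_i L152174) (flp_b L151957) L160567
theorem L160573 : sm gd N14283 = N14283 := ded_34_1 (flp_i L160567) L151963 L160567
theorem L160574 : sm ge N14283 = N13362 := ded_38_1 (flp_i L151964) L151953 L160567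
theorem L160576 : sm gg N14283 = N13589 := ded_43_1 (flp_i L154039) (flp_g L151959) L160567
theorem L160578 : sm gh N13362 = N14284 := rfl
theorem L160580 : sm ga N14284 = N13365 := ded_15_1 (flp_h L151990) (flp_a L151966) L160578
theorem L160582 : sm gb N14284 = N13387 := ded_22_1 (flp_h L152183) (flp_b L151968) L160578
theorem L160584 : sm gg N14284 = N13590 := ded_42_1 (flp_h L154048) (flp_g L151972) L160578
theorem L160586 : sm gi N14284 = N13374 := ded_44_2 (flp_h L152075) (flp_i L142942) (flp_h L142827) L151964 L160578
theorem L160588 : sm gi N13363 = N14285 := rfl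
theorem L160590 : sm gb N14285 = N13366 := ded_23_1 (flp_i L151998) (flp_b L151976) L160588
theorem L160592 : sm gd N14285 = N14285 := ded_34_1 (flp_i L160588) L151978 L160588
theorem L160593 : sm gf N14285 = N13364 := ded_41_1 (flp_i L151981) L151974 L160588
theorem L160595 : sm gh N13364 = N14286 := rfl
theorem L160597 : sm gb N14286 = N13367 := ded_22_1 (flp_h L152007) (flp_b L151983) L160595
theorem L160599 : sm ge N14286 = N13365 := ded_37_1 (flp_h L151990) (flp_e L151986) L160595
theorem L160601 : sm gg N14286 = N13648 := ded_42_1 (flp_h L154491) (flp_g L151988) L160595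
theorem L160603 : sm gi N14286 = N13377 := ded_44_2 (flp_h L152099) (flp_i L142958) (flp_h L142837) L151981 L160595
theorem L160605 : sm gh N13366 = N14287 := rfl
theorem L160607 : sm ga N14287 = N13389 := ded_15_1 (flp_h L152201) (flp_a L152000) L160605
theorem L160609 : sm gc N14287 = N13369 := ded_28_1 (flp_h L152027) (flp_c L152002) L160605
theorem L160611 : sm gf N14287 = N13367 := ded_40_1 (flp_h L152007) (flp_f L152005) L160605
theorem L160613 : sm gi N14287 = N13379 := ded_44_2 (flp_h L152119) (flp_i L142984) (flp_h L142855) L151998 L160605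
theorem L160615 : sm gd N13367 = N14288 := rfl
theorem L160617 : sm ga N14288 = N13390 := ded_11_1 (flp_d L152209) (flp_a L152009) L160615
theorem L160619 : sm gg N14288 = N13682 := ded_32_2 (flp_d L154754) (flp_g L152015) L160615
theorem L160621 : sm gi N14288 = N13380 := ded_34_2 (flp_d L152127) (flp_i L152017) L160615
theorem L160623 : sm gh N14288 = N14288 := ded_33_2 (flp_d L160615) (flp_h L152007) L142863 L152007 L160615
theorem L160624 : sm gh N13368 = N14289 := rfl
theorem L160626 : sm ga N14289 = N13391 := ded_15_1 (flp_h L152216) (flp_a L152021) L160624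
theorem L160628 : sm gg N14289 = N13369 := ded_42_1 (flp_h L152027) (flp_g L152025) L160624
theorem L160630 : sm gi N14289 = N13381 := ded_44_2 (flp_h L152135) (flp_i L143004) (flp_h L142884) L152019 L160624
theorem L160632 : sm gh N13370 = N14290 := rfl
theorem L160634 : sm ga N14290 = N13392 := ded_15_1 (flp_h L152222) (flp_a L152037) L160632
theorem L160636 : sm gc N14290 = N13683 := ded_28_1 (flp_h L154761) (flp_c L152039) L160632
theorem L160638 : sm gf N14290 = N13381 := ded_40_1 (flp_h L152135) (flp_f L152043) L160632
theorem L160640 : sm gg N14290 = N13371 := ded_42_1 (flp_h L152047) (flp_g L152045) L160632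
theorem L160642 : sm gi N13372 = N14291 := rfl
theorem L160644 : sm ga N14291 = N13376 := ded_16_1 (flp_i L152091) (flp_a L152057) L160642
theorem L160646 : sm gb N14291 = N13393 := ded_23_1 (flp_i L152230) (flp_b L152059) L160642
theorem L160648 : sm gd N14291 = N13471 := ded_34_1 (flp_i L152941) (flp_d L152061) L160642
theorem L160650 : sm gf N14291 = N13373 := ded_41_1 (flp_i L152063) L152055 L160642
theorem L160652 : sm gh N13373 = N14292 := rfl
theorem L160654 : sm ga N14292 = N13377 := ded_15_1 (flp_h L152099) (flp_a L152065) L160652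
theorem L160656 : sm gb N14292 = N13394 := ded_22_1 (flp_h L152238) (flp_b L152067) L160652
theorem L160658 : sm ge N14292 = N13374 := ded_37_1 (flp_h L152075) (flp_e L152071) L160652
theorem L160660 : sm gg N14292 = N13598 := ded_42_1 (flp_h L154108) (flp_g L152073) L160652
theorem L160662 : sm gi N13375 = N14293 := rfl
theorem L160664 : sm gb N14293 = N13378 := ded_23_1 (flp_i L152107) (flp_b L152085) L160662
theorem L160666 : sm gd N14293 = N13473 := ded_34_1 (flp_i L152961) (flp_d L152087) L160662
theorem L160668 : sm gf N14293 = N13656 := ded_41_1 (flp_i L154539) (flp_f L152089) L160662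
theorem L160670 : sm gg N14293 = N13376 := ded_43_1 (flp_i L152091) L152083 L160662
theorem L160672 : sm gh N13376 = N14294 := rfl
theorem L160674 : sm gb N14294 = N13379 := ded_22_1 (flp_h L152119) (flp_b L152093) L160672
theorem L160676 : sm gf N14294 = N13377 := ded_40_1 (flp_h L152099) (flp_f L152097) L160672
theorem L160678 : sm gd N13377 = N14295 := rfl
theorem L160680 : sm gb N14295 = N13380 := ded_18_1 (flp_d L152127) (flp_b L152101) L160678
theorem L160682 : sm gg N14295 = N13658 := ded_32_2 (flp_d L154553) (flp_g L152105) L160678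
theorem L160684 : sm gh N14295 = N13475 := ded_33_2 (flp_d L152978) (flp_h L143867) (flp_d L142962) L152099 L160678
theorem L160686 : sm gh N13378 = N14296 := rfl
theorem L160688 : sm ga N14296 = N13397 := ded_15_1 (flp_h L152260) (flp_a L152109) L160686
theorem L160690 : sm gc N14296 = N13381 := ded_28_1 (flp_h L152135) (flp_c L152111) L160686
theorem L160692 : sm gf N14296 = N13683 := ded_40_1 (flp_h L154761) (flp_f L152115) L160686
theorem L160694 : sm gg N14296 = N13379 := ded_42_1 (flp_h L152119) (flp_g L152117) L160686
theorem L160696 : sm gd N13379 = N14297 := rfl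
theorem L160698 : sm ga N14297 = N13398 := ded_11_1 (flp_d L152268) (flp_a L152121) L160696
theorem L160700 : sm gf N14297 = N13380 := ded_31_2 (flp_d L152127) (flp_f L152125) L160696
theorem L160702 : sm gh N14297 = N13477 := ded_33_2 (flp_d L152997) (flp_h L143887) (flp_d L142990) L152119 L160696
theorem L160704 : sm gc N13380 = N14298 := rfl
theorem L160706 : sm ga N14298 = N13399 := ded_10_1 (flp_c L152274) (flp_a L152129) L160704
theorem L160708 : sm gg N14298 = N13685 := ded_27_2 (flp_c L154775) (flp_g L152131) L160704
theorem L160710 : sm gh N14298 = N13478 := ded_28_2 (flp_c L153004) (flp_h L152133) L160704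
theorem L160712 : sm gd N14298 = N13383 := ded_24_2 (flp_c L152149) (flp_d L143018) (flp_c L142998) L152127 L160704
theorem L160714 : sm gb N13383 = N14299 := rfl
theorem L160716 : sm gh N14299 = N13385 := ded_22_2 (flp_b L152168) (flp_h L152153) L160714
theorem L160718 : sm gh N13386 = N14300 := rfl
theorem L160720 : sm ga N14300 = N13388 := ded_15_1 (flp_h L152191) (flp_a L152176) L160718
theorem L160722 : sm ge N14300 = N13387 := ded_37_1 (flp_h L152183) (flp_e L152179) L160718
theorem L160724 : sm gg N14300 = N13619 := ded_42_1 (flp_h L154311) (flp_g L152181) L160718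
theorem L160726 : sm gi N14300 = N13394 := ded_44_2 (flp_h L152238) (flp_i L143174) (flp_h L143095) L152174 L160718
theorem L160728 : sm gd N13388 = N14301 := rfl
theorem L160730 : sm gb N14301 = N13390 := ded_18_1 (flp_d L152209) (flp_b L152193) L160728
theorem L160732 : sm gg N14301 = N13632 := ded_32_2 (flp_d L154395) (flp_g L152197) L160728
theorem L160734 : sm gi N14301 = N13396 := ded_34_2 (flp_d L152252) (flp_i L152199) L160728
theorem L160736 : sm gh N14301 = N14301 := ded_33_2 (flp_d L160728) (flp_h L152191) L143110 L152191 L160728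
theorem L160737 : sm gd N13389 = N14302 := rfl
theorem L160739 : sm gf N14302 = N13390 := ded_31_2 (flp_d L152209) (flp_f L152205) L160737
theorem L160741 : sm gi N14302 = N13398 := ded_34_2 (flp_d L152268) (flp_i L152207) L160737
theorem L160743 : sm gh N14302 = N14302 := ded_33_2 (flp_d L160737) (flp_h L152201) L143127 L152201 L160737
theorem L160744 : sm gh N13393 = N14303 := rfl
theorem L160746 : sm ga N14303 = N13395 := ded_15_1 (flp_h L152246) (flp_a L152232) L160744
theorem L160748 : sm gf N14303 = N13394 := ded_40_1 (flp_h L152238) (flp_f L152236) L160744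
theorem L160750 : sm gd N13394 = N14304 := rfl
theorem L160752 : sm ga N14304 = N13396 := ded_11_1 (flp_d L152252) (flp_a L152240) L160750
theorem L160754 : sm gg N14304 = N13625 := ded_32_2 (flp_d L154350) (flp_g L152244) L160750
theorem L160756 : sm gh N14304 = N13483 := ded_33_2 (flp_d L153049) (flp_h L143987) (flp_d L143178) L152238 L160750
theorem L160758 : sm gd N13395 = N14305 := rfl
theorem L160760 : sm gb N14305 = N13398 := ded_18_1 (flp_d L152268) (flp_b L152248) L160758
theorem L160762 : sm gf N14305 = N13396 := ded_31_2 (flp_d L152252) (flp_f L152250) L160758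
theorem L160764 : sm gh N14305 = N13485 := ded_33_2 (flp_d L153067) (flp_h L144007) (flp_d L143194) L152246 L160758
theorem L160766 : sm gc N13396 = N14306 := rfl
theorem L160768 : sm ge N14306 = N13398 := ded_25_2 (flp_c L156303) L156305 L160766
theorem L160770 : sm gg N14306 = N13636 := ded_27_2 (flp_c L154417) (flp_g L152256) L160766
theorem L160772 : sm gh N14306 = N13486 := ded_28_2 (flp_c L153074) (flp_h L152258) L160766
theorem L160774 : sm gf N13400 = N14307 := rfl
theorem L160776 : sm ga N14307 = N14307 := ded_13_1 (flp_f L160774) L152284 L160774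
theorem L160777 : sm gb N14307 = N13763 := ded_20_1 (flp_f L155489) (flp_b L152285) L160774
theorem L160779 : sm gd N14307 = N13557 := ded_31_1 (flp_f L153762) (flp_d L152291) L160774
theorem L160781 : sm gh N14307 = N13993 := ded_40_2 (flp_f L157920) (flp_h L152289) L160774
theorem L160783 : sm gi N13400 = N14308 := rfl
theorem L160785 : sm ga N14308 = N14308 := ded_16_1 (flp_i L160783) L152284 L160783
theorem L160786 : sm gb N14308 = N13765 := ded_23_1 (flp_i L155506) (flp_b L152285) L160783
theorem L160788 : sm gd N14308 = N13558 := ded_34_1 (flp_i L153772) (flp_d L152291) L160783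
theorem L160790 : sm ge N14308 = N13401 := ded_38_1 (flp_i L152293) L152282 L160783
theorem L160792 : sm gg N14308 = N13403 := ded_43_1 (flp_i L152309) (flp_g L152287) L160783
theorem L160794 : sm gh N13401 = N14309 := rfl
theorem L160796 : sm ga N14309 = N14309 := ded_15_1 (flp_h L160794) L152295 L160794
theorem L160797 : sm gg N14309 = N13404 := ded_42_1 (flp_h L152316) (flp_g L152298) L160794
theorem L160799 : sm gd N14309 = N13406 := ded_33_1 (flp_h L152336) L143328 (flp_h L143271) (flp_d L152296) L160794
theorem L160801 : sm gi N14309 = N13995 := ded_44_2 (flp_h L157932) (flp_i L149222) (flp_h L143260) L152293 L160794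
theorem L160803 : sm gh N13402 = N14310 := rfl
theorem L160805 : sm ga N14310 = N14310 := ded_15_1 (flp_h L160803) L152302 L160803
theorem L160806 : sm gc N14310 = N13404 := ded_28_1 (flp_h L152316) (flp_c L152303) L160803
theorem L160808 : sm gf N14310 = N13406 := ded_40_1 (flp_h L152336) (flp_f L152307) L160803
theorem L160810 : sm gi N14310 = N14000 := ded_44_2 (flp_h L157977) (flp_i L149246) (flp_h L143278) L152300 L160803
theorem L160812 : sm gh N13403 = N14311 := rfl
theorem L160814 : sm ga N14311 = N14311 := ded_15_1 (flp_h L160812) L152311 L160812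
theorem L160815 : sm ge N14311 = N13404 := ded_37_1 (flp_h L152316) (flp_e L152314) L160812
theorem L160817 : sm gi N14311 = N14003 := ded_44_2 (flp_h L158004) (flp_i L149265) (flp_h L143285) L152309 L160812
theorem L160819 : sm gh N13405 = N14312 := rfl
theorem L160821 : sm ga N14312 = N14312 := ded_15_1 (flp_h L160819) L152327 L160819
theorem L160822 : sm gc N14312 = N13699 := ded_28_1 (flp_h L154878) (flp_c L152328) L160819
theorem L160824 : sm ge N14312 = N13406 := ded_37_1 (flp_h L152336) (flp_e L152332) L160819
theorem L160826 : sm gg N14312 = N13415 := ded_42_1 (flp_h L152410) (flp_g L152334) L160819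
theorem L160828 : sm ge N13407 = N14313 := rfl
theorem L160830 : sm ga N14313 = N13408 := ded_12_1 (flp_e L152352) L152343 L160828
theorem L160832 : sm gb N14313 = N14313 := ded_19_1 (flp_e L160828) L152351 L160828
theorem L160833 : sm gg N14313 = N13584 := ded_36_2 (flp_e L154004) (flp_g L152347) L160828
theorem L160835 : sm gh N14313 = N14042 := ded_37_2 (flp_e L158462) (flp_h L152349) L160828
theorem L160837 : sm gd N14313 = N14313 := ded_30_1 (flp_e L160828) L152345 L143378 (flp_d L152345) L160828
theorem L160838 : sm gi N13407 = N14314 := rfl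
theorem L160840 : sm ga N14314 = N13409 := ded_16_1 (flp_i L152361) L152343 L160838
theorem L160842 : sm gb N14314 = N14314 := ded_23_1 (flp_i L160838) L152351 L160838
theorem L160843 : sm gd N14314 = N13416 := ded_34_1 (flp_i L152415) (flp_d L152345) L160838
theorem L160845 : sm gg N14314 = N13585 := ded_43_1 (flp_i L154012) (flp_g L152347) L160838
theorem L160847 : sm gf N13408 = N14315 := rfl
theorem L160849 : sm gb N14315 = N13410 := ded_20_1 (flp_f L152369) (flp_b L152354) L160847
theorem L160851 : sm gd N14315 = N14315 := ded_31_1 (flp_f L160847) L152360 L160847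
theorem L160852 : sm gh N14315 = N13553 := ded_40_2 L153737 (flp_h L152358) L160847
theorem L160854 : sm ge N14315 = N13549 := ded_35_1 L157956 (flp_e L157948) L149233 L152352 L160847
theorem L160856 : sm gi N13408 = N14316 := rfl
theorem L160858 : sm gb N14316 = N13411 := ded_23_1 (flp_i L152379) (flp_b L152354) L160856
theorem L160860 : sm gd N14316 = N14316 := ded_34_1 (flp_i L160856) L152360 L160856
theorem L160861 : sm ge N14316 = N13409 := ded_38_1 (flp_i L152361) L152352 L160856
theorem L160863 : sm gg N14316 = N13641 := ded_43_1 (flp_i L154450) (flp_g L152356) L160856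
theorem L160865 : sm gh N13409 = N14317 := rfl
theorem L160867 : sm gb N14317 = N13412 := ded_22_1 (flp_h L152389) (flp_b L152363) L160865
theorem L160869 : sm gg N14317 = N13642 := ded_42_1 (flp_h L154457) (flp_g L152367) L160865
theorem L160871 : sm gi N14317 = N14195 := ded_44_2 (flp_h L159856) (flp_i L151364) (flp_h L143338) L152361 L160865
theorem L160873 : sm gg N13410 = N14318 := rfl
theorem L160875 : sm ga N14318 = N14318 := ded_14_1 (flp_g L160873) L152371 L160873
theorem L160876 : sm gc N14318 = N13413 := ded_27_1 (flp_g L152398) (flp_c L152372) L160873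
theorem L160878 : sm gd N14318 = N14318 := ded_32_1 (flp_g L160873) L152374 L160873
theorem L160879 : sm ge N14318 = N13571 := ded_36_1 L153903 (flp_e L152377) L160873
theorem L160881 : sm gh N14318 = N13575 := ded_42_2 L153932 (flp_h L152375) L160873
theorem L160883 : sm gf N14318 = N13697 := ded_39_1 (flp_g L154858) (flp_f L146049) (flp_g L143345) L152369 L160873
theorem L160885 : sm gi N13410 = N14319 := rfl
theorem L160887 : sm ga N14319 = N14319 := ded_16_1 (flp_i L160885) L152371 L160885
theorem L160888 : sm gc N14319 = N13414 := ded_29_1 (flp_i L152403) (flp_c L152372) L160885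
theorem L160890 : sm gd N14319 = N14319 := ded_34_1 (flp_i L160885) L152374 L160885
theorem L160891 : sm ge N14319 = N13580 := ded_38_1 L153979 (flp_e L152377) L160885
theorem L160893 : sm gf N14319 = N13411 := ded_41_1 (flp_i L152379) L152369 L160885
theorem L160895 : sm gh N13411 = N14320 := rfl
theorem L160897 : sm ga N14320 = N14320 := ded_15_1 (flp_h L160895) L152381 L160895
theorem L160898 : sm gc N14320 = N13415 := ded_28_1 (flp_h L152410) (flp_c L152382) L160895
theorem L160900 : sm ge N14320 = N13412 := ded_37_1 (flp_h L152389) (flp_e L152385) L160895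
theorem L160902 : sm gg N14320 = N13699 := ded_42_1 (flp_h L154878) (flp_g L152387) L160895
theorem L160904 : sm gi N14320 = N14312 := ded_44_2 (flp_h L160819) (flp_i L152325) (flp_h L143347) L152379 L160895
theorem L160906 : sm gi N13413 = N14321 := rfl
theorem L160908 : sm ga N14321 = N14321 := ded_16_1 (flp_i L160906) L152400 L160906
theorem L160909 : sm gd N14321 = N13563 := ded_34_1 (flp_i L153832) (flp_d L152401) L160906
theorem L160911 : sm gg N14321 = N13414 := ded_43_1 (flp_i L152403) L152398 L160906
theorem L160913 : sm gh N13414 = N14322 := rfl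
theorem L160915 : sm ga N14322 = N14322 := ded_15_1 (flp_h L160913) L152405 L160913
theorem L160916 : sm gf N14322 = N13415 := ded_40_1 (flp_h L152410) (flp_f L152408) L160913
theorem L160918 : sm gd N13415 = N14323 := rfl
theorem L160920 : sm ga N14323 = N14323 := ded_11_1 (flp_d L160918) L152412 L160918
theorem L160921 : sm gh N14323 = N13565 := ded_33_2 (flp_d L153849) (flp_h L144893) (flp_d L143367) L152410 L160918
theorem L160923 : sm gf N13417 = N14324 := rfl
theorem L160925 : sm ga N14324 = N13421 := ded_13_1 (flp_f L152465) (flp_a L152427) L160923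
theorem L160927 : sm gb N14324 = N14324 := ded_20_1 (flp_f L160923) L152429 L160923
theorem L160928 : sm gd N14324 = N13418 := ded_31_1 (flp_f L152434) L152425 L160923
theorem L160930 : sm gh N13417 = N14325 := rfl
theorem L160932 : sm ga N14325 = N13422 := ded_15_1 (flp_h L152471) (flp_a L152427) L160930
theorem L160934 : sm gb N14325 = N14325 := ded_22_1 (flp_h L160930) L152429 L160930
theorem L160935 : sm ge N14325 = N14093 := ded_37_1 (flp_h L158905) (flp_e L152432) L160930
theorem L160937 : sm gg N14325 = N13600 := ded_42_1 (flp_h L154123) (flp_g L152430) L160930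
theorem L160939 : sm gd N14325 = N14325 := ded_33_1 (flp_h L160930) (flp_d L152425) L143411 L152425 L160930
theorem L160940 : sm gi N13417 = N14326 := rfl
theorem L160942 : sm ga N14326 = N13423 := ded_16_1 (flp_i L152480) (flp_a L152427) L160940
theorem L160944 : sm gb N14326 = N14326 := ded_23_1 (flp_i L160940) L152429 L160940
theorem L160945 : sm gd N14326 = N13419 := ded_34_1 (flp_i L152443) L152425 L160940
theorem L160947 : sm ge N14326 = N14094 := ded_38_1 (flp_i L158914) (flp_e L152432) L160940
theorem L160949 : sm gg N14326 = N13601 := ded_43_1 (flp_i L154131) (flp_g L152430) L160940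
theorem L160951 : sm gg N13418 = N14327 := rfl
theorem L160953 : sm ga N14327 = N13424 := ded_14_1 (flp_g L152490) (flp_a L152436) L160951
theorem L160955 : sm gb N14327 = N14327 := ded_21_1 (flp_g L160951) L152438 L160951
theorem L160956 : sm gc N14327 = N13470 := ded_27_1 (flp_g L152931) (flp_c L152439) L160951
theorem L160958 : sm ge N14327 = N14327 := ded_36_1 (flp_g L160951) L152442 L160951
theorem L160959 : sm gh N14327 = N14327 := ded_42_2 (flp_g L160951) L152441 L160951
theorem L160960 : sm gf N14327 = N13602 := ded_39_1 (flp_g L154140) (flp_f L145236) (flp_g L143409) L152434 L160951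
theorem L160962 : sm gi N13418 = N14328 := rfl
theorem L160964 : sm ga N14328 = N13425 := ded_16_1 (flp_i L152500) (flp_a L152436) L160962
theorem L160966 : sm gb N14328 = N14328 := ded_23_1 (flp_i L160962) L152438 L160962
theorem L160967 : sm gc N14328 = N13471 := ded_29_1 (flp_i L152941) (flp_c L152439) L160962
theorem L160969 : sm ge N14328 = N14328 := ded_38_1 (flp_i L160962) L152442 L160962
theorem L160970 : sm gf N14328 = N13419 := ded_41_1 (flp_i L152443) L152434 L160962
theorem L160972 : sm gh N13419 = N14329 := rfl
theorem L160974 : sm ga N14329 = N13426 := ded_15_1 (flp_h L152509) (flp_a L152445) L160972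
theorem L160976 : sm gb N14329 = N14329 := ded_22_1 (flp_h L160972) L152447 L160972
theorem L160977 : sm gc N14329 = N13472 := ded_28_1 (flp_h L152950) (flp_c L152448) L160972
theorem L160979 : sm ge N14329 = N13420 := ded_37_1 (flp_h L152454) (flp_e L152450) L160972
theorem L160981 : sm gg N14329 = N13604 := ded_42_1 (flp_h L154161) (flp_g L152452) L160972
theorem L160983 : sm gi N14329 = N14329 := ded_44_2 (flp_h L160972) (flp_i L152443) L143411 L152443 L160972
theorem L160984 : sm ge N13421 = N14330 := rfl
theorem L160986 : sm gb N14330 = N13428 := ded_19_1 (flp_e L152530) (flp_b L152467) L160984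
theorem L160988 : sm gd N14330 = N14330 := ded_30_1 (flp_e L160984) L152469 L143439 (flp_d L152469) L160984
theorem L160989 : sm gf N14330 = N14257 := ded_35_2 (flp_e L160317) (flp_f L151682) (flp_e L143430) L152465 L160984
theorem L160991 : sm gg N13421 = N14331 := rfl
theorem L160993 : sm gb N14331 = N13429 := ded_21_1 (flp_g L152536) (flp_b L152467) L160991
theorem L160995 : sm gd N14331 = N13424 := ded_32_1 (flp_g L152490) (flp_d L152469) L160991
theorem L160997 : sm gf N14331 = N13660 := ded_39_1 (flp_g L154567) (flp_f L145678) (flp_g L143428) L152465 L160991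
theorem L160999 : sm gh N14330 = N14331 := ded_47_0 (flp_g L160991) (flp_f L152465) L143430 (flp_d L142529) L133365 L125289 L68001 L53661 L53674 L53680 L39299 L39297 (flp_b L39861) (flp_h L51029) L69845 L69853 (flp_e L126221) (flp_d L134295) (flp_c L143487) (flp_b L152492) L152497 (flp_g L152490) (flp_f L143432) (flp_e L134238) L126083 (flp_c L125278) L67846 L49677 L39264 L28734 L28746 L28753 L28750 (flp_b L29215) (flp_h L37364) L37363 L51023 (flp_e L69798) (flp_d L126112) (flp_c L134268) (flp_b L143434) L143438 L152490 L152498 L145705 (flp_d L145768) (flp_c L151189) L151188 L159737 L159747 L151199 L142049 L139000 L138997 L133472 (flp_h L126249) L69820 L126243 L134468 (flp_d L143657) (flp_c L152533) (flp_b L160986)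
theorem L161001 : sm gh N13421 = N14332 := rfl
theorem L161003 : sm gb N14332 = N13430 := ded_22_1 (flp_h L152547) (flp_b L152467) L161001
theorem L161005 : sm ge N14332 = N14331 := ded_37_1 (flp_h L160999) (flp_e L160984) L161001
theorem L161007 : sm gf N14332 = N13422 := ded_40_1 (flp_h L152471) L152465 L161001
theorem L161009 : sm gg N14332 = N14330 := ded_42_1 L160999 (flp_g L160991) L161001
theorem L161011 : sm gd N14332 = N14332 := ded_33_1 (flp_h L161001) L152469 L143438 (flp_d L152469) L161001
theorem L161012 : sm gi N13421 = N14333 := rfl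
theorem L161014 : sm gb N14333 = N13431 := ded_23_1 (flp_i L152559) (flp_b L152467) L161012
theorem L161016 : sm gd N14333 = N13425 := ded_34_1 (flp_i L152500) (flp_d L152469) L161012
theorem L161018 : sm gf N14333 = N13423 := ded_41_1 (flp_i L152480) L152465 L161012
theorem L161020 : sm gi N13422 = N14334 := rfl
theorem L161022 : sm gb N14334 = N13432 := ded_23_1 (flp_i L152568) (flp_b L152473) L161020
theorem L161024 : sm gd N14334 = N14334 := ded_34_1 (flp_i L161020) L152479 L161020
theorem L161025 : sm ge N14334 = N14261 := ded_38_1 (flp_i L160358) (flp_e L152475) L161020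
theorem L161027 : sm gg N14334 = N13663 := ded_43_1 (flp_i L154588) (flp_g L152477) L161020
theorem L161029 : sm gh N13423 = N14335 := rfl
theorem L161031 : sm gb N14335 = N13433 := ded_22_1 (flp_h L152576) (flp_b L152482) L161029
theorem L161033 : sm ge N14335 = N14262 := ded_37_1 (flp_h L160366) (flp_e L152486) L161029
theorem L161035 : sm gg N14335 = N13664 := ded_42_1 (flp_h L154595) (flp_g L152488) L161029
theorem L161037 : sm gi N13424 = N14336 := rfl
theorem L161039 : sm gb N14336 = N13434 := ded_23_1 (flp_i L152583) (flp_b L152492) L161037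
theorem L161041 : sm gc N14336 = N13473 := ded_29_1 (flp_i L152961) (flp_c L152494) L161037
theorem L161043 : sm ge N14336 = N14336 := ded_38_1 (flp_i L161037) L152496 L161037
theorem L161044 : sm gf N14336 = N13665 := ded_41_1 (flp_i L154601) (flp_f L152498) L161037
theorem L161046 : sm gg N14336 = N13425 := ded_43_1 (flp_i L152500) L152490 L161037
theorem L161048 : sm gh N13425 = N14337 := rfl
theorem L161050 : sm gb N14337 = N13435 := ded_22_1 (flp_h L152593) (flp_b L152502) L161048
theorem L161052 : sm gc N14337 = N13474 := ded_28_1 (flp_h L152970) (flp_c L152504) L161048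
theorem L161054 : sm ge N14337 = N14337 := ded_37_1 (flp_h L161048) L152506 L161048
theorem L161055 : sm gf N14337 = N13426 := ded_40_1 (flp_h L152509) (flp_f L152507) L161048
theorem L161057 : sm gi N14337 = N14337 := ded_44_2 (flp_h L161048) (flp_i L152500) L143438 L152500 L161048
theorem L161058 : sm gd N13426 = N14338 := rfl
theorem L161060 : sm gb N14338 = N13436 := ded_18_1 (flp_d L152602) (flp_b L152511) L161058
theorem L161062 : sm gg N14338 = N13667 := ded_32_2 (flp_d L154622) (flp_g L152517) L161058
theorem L161064 : sm gi N14338 = N14338 := ded_34_2 (flp_d L161058) L152519 L161058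
theorem L161065 : sm ge N13427 = N14339 := rfl
theorem L161067 : sm gb N14339 = N13437 := ded_19_1 (flp_e L152608) (flp_b L152522) L161065
theorem L161069 : sm gg N14339 = N13668 := ded_36_2 (flp_e L154627) (flp_g L152525) L161065
theorem L161071 : sm gh N14339 = N14266 := ded_37_2 (flp_e L160406) (flp_h L152528) L161065
theorem L161073 : sm gi N14339 = N14339 := ded_38_2 (flp_e L161065) L152527 L161065
theorem L161074 : sm gi N13428 = N14340 := rfl
theorem L161076 : sm ga N14340 = N14340 := ded_16_1 (flp_i L161074) L152532 L161074
theorem L161077 : sm gc N14340 = N13454 := ded_29_1 (flp_i L152782) (flp_c L152533) L161074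
theorem L161079 : sm gd N14340 = N14340 := ded_34_1 (flp_i L161074) L152535 L161074
theorem L161080 : sm ge N14340 = N13431 := ded_38_1 (flp_i L152559) L152530 L161074
theorem L161082 : sm gi N13429 = N14341 := rfl
theorem L161084 : sm ga N14341 = N14341 := ded_16_1 (flp_i L161082) L152538 L161082
theorem L161085 : sm gc N14341 = N13455 := ded_29_1 (flp_i L152789) (flp_c L152539) L161082
theorem L161087 : sm gd N14341 = N13434 := ded_34_1 (flp_i L152583) (flp_d L152541) L161082
theorem L161089 : sm gf N14341 = N13701 := ded_41_1 (flp_i L154894) (flp_f L152543) L161082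
theorem L161091 : sm gg N14341 = N13431 := ded_43_1 (flp_i L152559) L152536 L161082
theorem L161093 : sm gi N13430 = N14342 := rfl
theorem L161095 : sm ga N14342 = N14342 := ded_16_1 (flp_i L161093) L152549 L161093
theorem L161096 : sm gc N14342 = N13456 := ded_29_1 (flp_i L152796) (flp_c L152550) L161093
theorem L161098 : sm gd N14342 = N14342 := ded_34_1 (flp_i L161093) L152558 L161093
theorem L161099 : sm ge N14342 = N14341 := ded_38_1 (flp_i L161082) (flp_e L152552) L161093
theorem L161101 : sm gf N14342 = N13432 := ded_41_1 (flp_i L152568) (flp_f L152554) L161093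
theorem L161103 : sm gg N14342 = N14340 := ded_43_1 (flp_i L161074) (flp_g L152556) L161093
theorem L161105 : sm gh N13431 = N14343 := rfl
theorem L161107 : sm ga N14343 = N14343 := ded_15_1 (flp_h L161105) L152561 L161105
theorem L161108 : sm gc N14343 = N13457 := ded_28_1 (flp_h L152807) (flp_c L152562) L161105
theorem L161110 : sm gf N14343 = N13433 := ded_40_1 (flp_h L152576) (flp_f L152566) L161105
theorem L161112 : sm gh N13432 = N14344 := rfl
theorem L161114 : sm ga N14344 = N14344 := ded_15_1 (flp_h L161112) L152570 L161112
theorem L161115 : sm gc N14344 = N13458 := ded_28_1 (flp_h L152812) (flp_c L152571) L161112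
theorem L161117 : sm gg N14344 = N13704 := ded_42_1 (flp_h L154912) (flp_g L152574) L161112
theorem L161119 : sm gi N14344 = N13433 := ded_44_2 (flp_h L152576) (flp_i L143475) L143467 L152568 L161112
theorem L161121 : sm gd N13433 = N14345 := rfl
theorem L161123 : sm ga N14345 = N14345 := ded_11_1 (flp_d L161121) L152578 L161121
theorem L161124 : sm gg N14345 = N13705 := ded_32_2 (flp_d L154919) (flp_g L152581) L161121
theorem L161126 : sm gh N14345 = N13436 := ded_33_2 (flp_d L152602) (flp_h L143501) (flp_d L143480) L152576 L161121
theorem L161128 : sm gh N13434 = N14346 := rfl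
theorem L161130 : sm ga N14346 = N14346 := ded_15_1 (flp_h L161128) L152585 L161128
theorem L161131 : sm gc N14346 = N13438 := ded_28_1 (flp_h L152615) (flp_c L152586) L161128
theorem L161133 : sm ge N14346 = N14346 := ded_37_1 (flp_h L161128) L152588 L161128
theorem L161134 : sm gf N14346 = N13706 := ded_40_1 (flp_h L154924) (flp_f L152589) L161128
theorem L161136 : sm gg N14346 = N13435 := ded_42_1 (flp_h L152593) (flp_g L152591) L161128
theorem L161138 : sm gi N14346 = N14346 := ded_44_2 (flp_h L161128) (flp_i L152583) L143490 L152583 L161128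
theorem L161139 : sm gd N13435 = N14347 := rfl
theorem L161141 : sm ga N14347 = N14347 := ded_11_1 (flp_d L161139) L152595 L161139
theorem L161142 : sm gf N14347 = N13436 := ded_31_2 (flp_d L152602) (flp_f L152599) L161139
theorem L161144 : sm gi N14347 = N14347 := ded_34_2 (flp_d L161139) L152601 L161139
theorem L161145 : sm gc N13436 = N14348 := rfl
theorem L161147 : sm ga N14348 = N14348 := ded_10_1 (flp_c L161145) L152604 L161145
theorem L161148 : sm gg N14348 = N13708 := ded_27_2 (flp_c L154940) (flp_g L152605) L161145
theorem L161150 : sm gi N14348 = N14348 := ded_29_2 (flp_c L161145) L152607 L161145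
theorem L161151 : sm gd N14348 = N13440 := ded_24_2 (flp_c L152636) (flp_d L143540) (flp_c L143504) L152602 L161145
theorem L161153 : sm ge N13436 = N14349 := rfl
theorem L161155 : sm ga N14349 = N14349 := ded_12_1 (flp_e L161153) L152604 L161153
theorem L161156 : sm gg N14349 = N13709 := ded_36_2 (flp_e L154946) (flp_g L152605) L161153
theorem L161158 : sm gi N14349 = N14349 := ded_38_2 (flp_e L161153) L152607 L161153
theorem L161159 : sm gd N14349 = N13437 := ded_30_1 (flp_e L152608) (flp_d L143511) (flp_e L143506) L152602 L161153
theorem L161161 : sm gf N13437 = N14350 := rfl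
theorem L161163 : sm ga N14350 = N14350 := ded_13_1 (flp_f L161161) L152610 L161161
theorem L161164 : sm gc N14350 = N14350 := ded_26_1 (flp_f L161161) L152611 L161161
theorem L161165 : sm gh N14350 = N13563 := ded_40_2 L153837 L152745 L161161
theorem L161167 : sm gi N14350 = N14350 := ded_41_2 (flp_f L161161) L152614 L161161
theorem L161168 : sm ge N14350 = N14350 := ded_35_1 (flp_f L161161) (flp_e L152608) L143514 L152608 L161161
theorem L161169 : sm gg N14350 = N13564 := ded_39_2 L153846 (flp_g L153829) L153827 (flp_g L152612) L161161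
theorem L161171 : sm gb N13440 = N14351 := rfl
theorem L161173 : sm ge N14351 = N14351 := ded_19_2 (flp_b L161171) L152639 L161171
theorem L161174 : sm gg N14351 = N13713 := ded_21_2 (flp_b L154975) (flp_g L152640) L161171
theorem L161176 : sm gh N14351 = N13464 := ded_22_2 (flp_b L152862) (flp_h L152642) L161171
theorem L161178 : sm gi N14351 = N14351 := ded_23_2 (flp_b L161171) L152644 L161171
theorem L161179 : sm gc N14351 = N13479 := ded_17_2 (flp_b L153013) (flp_c L143923) (flp_b L143543) L152636 L161171
theorem L161181 : sm gi N13441 = N14352 := rfl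
theorem L161183 : sm ga N14352 = N14352 := ded_16_1 (flp_i L161181) L152647 L161181
theorem L161184 : sm gc N14352 = N13700 := ded_29_1 (flp_i L154885) (flp_c L152648) L161181
theorem L161186 : sm gd N14352 = N14352 := ded_34_1 (flp_i L161181) L152650 L161181
theorem L161187 : sm ge N14352 = N13444 := ded_38_1 (flp_i L152683) L152645 L161181
theorem L161189 : sm gf N14352 = N14340 := ded_41_1 (flp_i L161074) (flp_f L152651) L161181
theorem L161191 : sm gg N14352 = N13702 := ded_43_1 (flp_i L154901) L152655 L161181
theorem L161193 : sm gi N13442 = N14353 := rfl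
theorem L161195 : sm ga N14353 = N14353 := ded_16_1 (flp_i L161193) L152659 L161193
theorem L161196 : sm gc N14353 = N13701 := ded_29_1 (flp_i L154894) (flp_c L152660) L161193
theorem L161198 : sm gd N14353 = N13447 := ded_34_1 (flp_i L152712) (flp_d L152662) L161193
theorem L161200 : sm ge N14353 = N13702 := ded_38_1 (flp_i L154901) (flp_e L152664) L161193
theorem L161202 : sm gf N14353 = N13455 := ded_41_1 (flp_i L152789) (flp_f L152666) L161193
theorem L161204 : sm gg N14353 = N13444 := ded_43_1 (flp_i L152683) L152657 L161193
theorem L161206 : sm gi N13443 = N14354 := rfl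
theorem L161208 : sm ga N14354 = N14354 := ded_16_1 (flp_i L161206) L152672 L161206
theorem L161209 : sm gc N14354 = N13702 := ded_29_1 (flp_i L154901) (flp_c L152673) L161206
theorem L161211 : sm gd N14354 = N13568 := ded_34_1 (flp_i L153875) (flp_d L152681) L161206
theorem L161213 : sm ge N14354 = N13701 := ded_38_1 (flp_i L154894) (flp_e L152675) L161206
theorem L161215 : sm gf N14354 = N13445 := ded_41_1 (flp_i L152692) (flp_f L152677) L161206
theorem L161217 : sm gg N14354 = N13700 := ded_43_1 (flp_i L154885) (flp_g L152679) L161206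
theorem L161219 : sm gh N13444 = N14355 := rfl
theorem L161221 : sm ga N14355 = N14355 := ded_15_1 (flp_h L161219) L152685 L161219
theorem L161222 : sm gc N14355 = N13703 := ded_28_1 (flp_h L154907) (flp_c L152686) L161219
theorem L161224 : sm gf N14355 = N13446 := ded_40_1 (flp_h L152703) (flp_f L152690) L161219
theorem L161226 : sm gh N13445 = N14356 := rfl
theorem L161228 : sm ga N14356 = N14356 := ded_15_1 (flp_h L161226) L152694 L161226
theorem L161229 : sm gc N14356 = N13704 := ded_28_1 (flp_h L154912) (flp_c L152695) L161226
theorem L161231 : sm ge N14356 = N14344 := ded_37_1 (flp_h L161112) (flp_e L152699) L161226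
theorem L161233 : sm gg N14356 = N13458 := ded_42_1 (flp_h L152812) (flp_g L152701) L161226
theorem L161235 : sm gi N14356 = N13446 := ded_44_2 (flp_h L152703) (flp_i L143569) L143558 L152692 L161226
theorem L161237 : sm gd N13446 = N14357 := rfl
theorem L161239 : sm ga N14357 = N14357 := ded_11_1 (flp_d L161237) L152705 L161237
theorem L161240 : sm gg N14357 = N13459 := ded_32_2 (flp_d L152817) (flp_g L152710) L161237
theorem L161242 : sm gh N14357 = N13449 := ded_33_2 (flp_d L152732) (flp_h L143598) (flp_d L143574) L152703 L161237
theorem L161244 : sm gh N13447 = N14358 := rfl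
theorem L161246 : sm ga N14358 = N14358 := ded_15_1 (flp_h L161244) L152714 L161244
theorem L161247 : sm gc N14358 = N13451 := ded_28_1 (flp_h L152749) (flp_c L152715) L161244
theorem L161249 : sm ge N14358 = N14358 := ded_37_1 (flp_h L161244) L152717 L161244
theorem L161250 : sm gf N14358 = N13460 := ded_40_1 (flp_h L152822) (flp_f L152718) L161244
theorem L161252 : sm gg N14358 = N13448 := ded_42_1 (flp_h L152722) (flp_g L152720) L161244
theorem L161254 : sm gi N14358 = N13572 := ded_44_2 (flp_h L153907) (flp_i L144954) (flp_h L143586) L152712 L161244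
theorem L161256 : sm gd N13448 = N14359 := rfl
theorem L161258 : sm ga N14359 = N14359 := ded_11_1 (flp_d L161256) L152724 L161256
theorem L161259 : sm gf N14359 = N13449 := ded_31_2 (flp_d L152732) (flp_f L152728) L161256
theorem L161261 : sm gi N14359 = N13573 := ded_34_2 (flp_d L153917) (flp_i L152730) L161256
theorem L161263 : sm gc N13449 = N14360 := rfl
theorem L161265 : sm ga N14360 = N14360 := ded_10_1 (flp_c L161263) L152734 L161263
theorem L161266 : sm gg N14360 = N13462 := ded_27_2 (flp_c L152844) (flp_g L152735) L161263
theorem L161268 : sm gi N14360 = N13574 := ded_29_2 (flp_c L153922) (flp_i L152737) L161263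
theorem L161270 : sm gd N14360 = N13453 := ded_24_2 (flp_c L152772) (flp_d L143642) (flp_c L143601) L152732 L161263
theorem L161272 : sm ge N13449 = N14361 := rfl
theorem L161274 : sm ga N14361 = N14361 := ded_12_1 (flp_e L161272) L152734 L161272
theorem L161275 : sm gg N14361 = N13463 := ded_36_2 (flp_e L152853) (flp_g L152735) L161272
theorem L161277 : sm gi N14361 = N13575 := ded_38_2 (flp_e L153929) (flp_i L152737) L161272
theorem L161279 : sm gd N14361 = N13450 := ded_30_1 (flp_e L152739) (flp_d L143609) (flp_e L143603) L152732 L161272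
theorem L161281 : sm gf N14321 = N14361 := ded_39_5 L161275 L152860 L152334 (flp_f L152408) (flp_g L160911)
theorem L161283 : sm gc N13452 = N14362 := rfl
theorem L161285 : sm ga N14362 = N14362 := ded_10_1 (flp_c L161283) L152763 L161283
theorem L161286 : sm gf N14362 = N13453 := ded_26_2 (flp_c L152772) (flp_f L152766) L161283
theorem L161288 : sm gh N14362 = N13711 := ded_28_2 (flp_c L154960) (flp_h L152770) L161283
theorem L161290 : sm gi N14362 = N13576 := ded_29_2 (flp_c L153938) (flp_i L152768) L161283
theorem L161292 : sm gb N13453 = N14363 := rfl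
theorem L161294 : sm ge N14363 = N14363 := ded_19_2 (flp_b L161292) L152775 L161292
theorem L161295 : sm gg N14363 = N13464 := ded_21_2 (flp_b L152862) (flp_g L152776) L161292
theorem L161297 : sm gh N14363 = N13713 := ded_22_2 (flp_b L154975) (flp_h L152778) L161292
theorem L161299 : sm gi N14363 = N13577 := ded_23_2 (flp_b L153946) (flp_i L152780) L161292
theorem L161301 : sm gc N14363 = N13480 := ded_17_2 (flp_b L153021) (flp_c L143954) (flp_b L143645) L152772 L161292
theorem L161303 : sm gh N13454 = N14364 := rfl
theorem L161305 : sm ga N14364 = N14364 := ded_15_1 (flp_h L161303) L152784 L161303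
theorem L161306 : sm ge N14364 = N13457 := ded_37_1 (flp_h L152807) (flp_e L152787) L161303
theorem L161308 : sm gh N13455 = N14365 := rfl
theorem L161310 : sm ga N14365 = N14365 := ded_15_1 (flp_h L161308) L152791 L161308
theorem L161311 : sm gg N14365 = N13457 := ded_42_1 (flp_h L152807) (flp_g L152794) L161308
theorem L161313 : sm gi N14365 = N14364 := ded_44_2 (flp_h L161303) (flp_i L152782) L143664 L152789 L161308
theorem L161315 : sm gh N13456 = N14366 := rfl
theorem L161317 : sm ga N14366 = N14366 := ded_15_1 (flp_h L161315) L152798 L161315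
theorem L161318 : sm ge N14366 = N14365 := ded_37_1 (flp_h L161308) (flp_e L152801) L161315
theorem L161320 : sm gf N14366 = N13458 := ded_40_1 (flp_h L152812) (flp_f L152803) L161315
theorem L161322 : sm gg N14366 = N14364 := ded_42_1 (flp_h L161303) (flp_g L152805) L161315
theorem L161324 : sm gi N14366 = N13457 := ded_44_2 (flp_h L152807) (flp_i L143677) L143666 L152796 L161315
theorem L161326 : sm gd N13457 = N14367 := rfl
theorem L161328 : sm ga N14367 = N14367 := ded_11_1 (flp_d L161326) L152809 L161326
theorem L161329 : sm gf N14367 = N13459 := ded_31_2 (flp_d L152817) (flp_f L152810) L161326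
theorem L161331 : sm gh N14367 = N13461 := ded_33_2 (flp_d L152833) (flp_h L143701) (flp_d L143680) L152807 L161326
theorem L161333 : sm gc N14311 = N14367 := ded_28_3 L161331 L152840 L160812
theorem L161335 : sm ge N14310 = N14367 := ded_37_3 L161331 L152842 L160803
theorem L161337 : sm gd N13458 = N14368 := rfl
theorem L161339 : sm ga N14368 = N14368 := ded_11_1 (flp_d L161337) L152814 L161337
theorem L161340 : sm gi N14368 = N13459 := ded_34_2 (flp_d L152817) (flp_i L152815) L161337
theorem L161342 : sm gh N14368 = N13580 := ded_33_2 (flp_d L153976) (flp_h L145048) (flp_d L143687) L152812 L161337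
theorem L161344 : sm gc N13459 = N14369 := rfl
theorem L161346 : sm ga N14369 = N14369 := ded_10_1 (flp_c L161344) L152819 L161344
theorem L161347 : sm gf N14369 = N14311 := ded_26_2 L161333 L161329 L161344
theorem L161349 : sm gh N14369 = N13462 := ded_28_2 (flp_c L152844) (flp_h L152820) L161344
theorem L161351 : sm ge N13459 = N14370 := rfl
theorem L161353 : sm ga N14370 = N14370 := ded_12_1 (flp_e L161351) L152819 L161351
theorem L161354 : sm gh N14370 = N13463 := ded_37_2 (flp_e L152853) (flp_h L152820) L161351
theorem L161356 : sm gf N14370 = N14312 := ded_35_2 L160824 (flp_f L160808) L161335 L161329 L161351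
theorem L161358 : sm gd N13460 = N14371 := rfl
theorem L161360 : sm ga N14371 = N14371 := ded_11_1 (flp_d L161358) L152824 L161358
theorem L161361 : sm gg N14371 = N13461 := ded_32_2 (flp_d L152833) (flp_g L152829) L161358
theorem L161363 : sm gi N14371 = N13581 := ded_34_2 (flp_d L153981) (flp_i L152831) L161358
theorem L161365 : sm gc N14371 = N14308 := ded_24_1 L160788 L153777 L146431 (flp_c L152825) L161358
theorem L161367 : sm ge N14371 = N13989 := ded_30_2 L157880 L152929 (flp_d L152917) (flp_e L152827) L161358
theorem L161369 : sm gb N13462 = N14372 := rfl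
theorem L161371 : sm gd N14372 = N13464 := ded_18_2 (flp_b L152862) (flp_d L152851) L161369
theorem L161373 : sm gf N14372 = N14157 := ded_20_2 L159513 (flp_f L152847) L161369
theorem L161375 : sm gi N14372 = N13582 := ded_23_2 (flp_b L153990) (flp_i L152849) L161369
theorem L161377 : sm gd N13465 = N14373 := rfl
theorem L161379 : sm ga N14373 = N14373 := ded_11_1 (flp_d L161377) L152871 L161377
theorem L161380 : sm gg N14373 = N13999 := ded_32_2 L157971 L153972 L161377
theorem L161382 : sm gi N14373 = N13991 := ded_34_2 L157907 L153962 L161377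
theorem L161384 : sm ge N14373 = N13992 := ded_30_2 L157914 L152915 (flp_d L152900) (flp_e L152873) L161377
theorem L161386 : sm gc N13994 = N14373 := ded_27_3 L161380 L157969 (flp_g L157930)
theorem L161388 : sm gi N13470 = N14374 := rfl
theorem L161390 : sm ga N14374 = N13473 := ded_16_1 (flp_i L152961) (flp_a L152933) L161388
theorem L161392 : sm gb N14374 = N13481 := ded_23_1 (flp_i L153030) (flp_b L152935) L161388
theorem L161394 : sm ge N14374 = N14374 := ded_38_1 (flp_i L161388) L152937 L161388
theorem L161395 : sm gf N14374 = N13606 := ded_41_1 (flp_i L154185) (flp_f L152939) L161388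
theorem L161397 : sm gg N14374 = N13471 := ded_43_1 (flp_i L152941) L152931 L161388
theorem L161399 : sm gh N13471 = N14375 := rfl
theorem L161401 : sm ga N14375 = N13474 := ded_15_1 (flp_h L152970) (flp_a L152943) L161399
theorem L161403 : sm gb N14375 = N13482 := ded_22_1 (flp_h L153040) (flp_b L152945) L161399
theorem L161405 : sm ge N14375 = N14375 := ded_37_1 (flp_h L161399) L152947 L161399
theorem L161406 : sm gf N14375 = N13472 := ded_40_1 (flp_h L152950) (flp_f L152948) L161399
theorem L161408 : sm gi N14375 = N14375 := ded_44_2 (flp_h L161399) (flp_i L152941) L143830 L152941 L161399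
theorem L161409 : sm gd N13472 = N14376 := rfl
theorem L161411 : sm ga N14376 = N13475 := ded_11_1 (flp_d L152978) (flp_a L152952) L161409
theorem L161413 : sm gb N14376 = N13483 := ded_18_1 (flp_d L153049) (flp_b L152954) L161409
theorem L161415 : sm gg N14376 = N13608 := ded_32_2 (flp_d L154206) (flp_g L152958) L161409
theorem L161417 : sm gi N14376 = N14376 := ded_34_2 (flp_d L161409) L152960 L161409
theorem L161418 : sm gh N13473 = N14377 := rfl
theorem L161420 : sm gb N14377 = N13476 := ded_22_1 (flp_h L152985) (flp_b L152963) L161418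
theorem L161422 : sm ge N14377 = N14377 := ded_37_1 (flp_h L161418) L152965 L161418
theorem L161423 : sm gf N14377 = N13669 := ded_40_1 (flp_h L154634) (flp_f L152966) L161418
theorem L161425 : sm gg N14377 = N13474 := ded_42_1 (flp_h L152970) (flp_g L152968) L161418
theorem L161427 : sm gi N14377 = N14377 := ded_44_2 (flp_h L161418) (flp_i L152961) L143857 L152961 L161418
theorem L161428 : sm gd N13474 = N14378 := rfl
theorem L161430 : sm gb N14378 = N13477 := ded_18_1 (flp_d L152997) (flp_b L152972) L161428
theorem L161432 : sm gf N14378 = N13475 := ded_31_2 (flp_d L152978) (flp_f L152975) L161428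
theorem L161434 : sm gi N14378 = N14378 := ded_34_2 (flp_d L161428) L152977 L161428
theorem L161435 : sm gc N13475 = N14379 := rfl
theorem L161437 : sm gg N14379 = N13671 := ded_27_2 (flp_c L154650) (flp_g L152982) L161435
theorem L161439 : sm gi N14379 = N14379 := ded_29_2 (flp_c L161435) L152984 L161435
theorem L161440 : sm ge N13477 = N14380 := rfl
theorem L161442 : sm ga N14380 = N13486 := ded_12_1 L153076 (flp_a L152999) L161440
theorem L161444 : sm gc N14380 = N13483 := ded_25_1 (flp_e L155986) L155984 L161440
theorem L161446 : sm gg N14380 = N13628 := ded_36_2 (flp_e L156003) L156007 L161440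
theorem L161448 : sm gi N14380 = N14380 := ded_38_2 (flp_e L161440) L153003 L161440
theorem L161449 : sm gd N14380 = N14380 := ded_30_1 (flp_e L161440) (flp_d L152997) L143893 L152997 L161440
theorem L161450 : sm gb N13478 = N14381 := rfl
theorem L161452 : sm gd N14381 = N13479 := ded_18_2 (flp_b L153013) (flp_d L153011) L161450
theorem L161454 : sm gg N14381 = N13689 := ded_21_2 (flp_b L154804) (flp_g L153008) L161450
theorem L161456 : sm gi N14381 = N14381 := ded_23_2 (flp_b L161450) L153010 L161450
theorem L161457 : sm gh N13481 = N14382 := rfl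
theorem L161459 : sm ga N14382 = N13484 := ded_15_1 (flp_h L153056) (flp_a L153032) L161457
theorem L161461 : sm gc N14382 = N14382 := ded_28_1 (flp_h L161457) L153034 L161457
theorem L161462 : sm ge N14382 = N14382 := ded_37_1 (flp_h L161457) L153035 L161457
theorem L161463 : sm gf N14382 = N13626 := ded_40_1 (flp_h L154356) (flp_f L153036) L161457
theorem L161465 : sm gg N14382 = N13482 := ded_42_1 (flp_h L153040) (flp_g L153038) L161457
theorem L161467 : sm gi N14382 = N14382 := ded_44_2 (flp_h L161457) (flp_i L153030) L143976 L153030 L161457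
theorem L161468 : sm gd N13482 = N14383 := rfl
theorem L161470 : sm ga N14383 = N13485 := ded_11_1 (flp_d L153067) (flp_a L153042) L161468
theorem L161472 : sm gf N14383 = N13483 := ded_31_2 (flp_d L153049) (flp_f L153046) L161468
theorem L161474 : sm gi N14383 = N14383 := ded_34_2 (flp_d L161468) L153048 L161468
theorem L161475 : sm gd N13489 = N14384 := rfl
theorem L161477 : sm ga N14384 = N13523 := ded_11_1 (flp_d L153485) (flp_a L153110) L161475
theorem L161479 : sm gb N14384 = N13575 := ded_18_1 L153934 (flp_b L153112) L161475
theorem L161481 : sm gf N14384 = N14203 := ded_31_2 L159916 L153527 L161475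
theorem L161483 : sm gg N14384 = N13553 := ded_32_2 L153735 (flp_g L153116) L161475
theorem L161485 : sm ge N14384 = N13493 := ded_30_2 (flp_d L153146) (flp_e L144090) (flp_d L144072) L153108 L161475
theorem L161487 : sm gi N13490 = N14385 := rfl
theorem L161489 : sm ga N14385 = N13528 := ded_16_1 (flp_i L153529) (flp_a L153121) L161487
theorem L161491 : sm gb N14385 = N14385 := ded_23_1 (flp_i L161487) L153123 L161487
theorem L161492 : sm ge N14385 = N14385 := ded_38_1 (flp_i L161487) L153125 L161487
theorem L161493 : sm gf N14385 = N13491 := ded_41_1 (flp_i L153126) L153119 L161487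
theorem L161495 : sm gh N13491 = N14386 := rfl
theorem L161497 : sm ga N14386 = N13529 := ded_15_1 (flp_h L153536) (flp_a L153128) L161495
theorem L161499 : sm gb N14386 = N14386 := ded_22_1 (flp_h L161495) L153130 L161495
theorem L161500 : sm gc N14386 = N14339 := ded_28_1 L161071 L160412 L161495
theorem L161502 : sm ge N14386 = N13492 := ded_37_1 (flp_h L153133) (flp_e L153131) L161495
theorem L161504 : sm gg N14386 = N13920 := ded_42_1 (flp_h L159690) L159688 L161495
theorem L161506 : sm gi N14386 = N14386 := ded_44_2 (flp_h L161495) (flp_i L153126) L144081 L153126 L161495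
theorem L161507 : sm gf N13493 = N14387 := rfl
theorem L161509 : sm ga N14387 = N13530 := ded_13_1 (flp_f L153543) (flp_a L153148) L161507
theorem L161511 : sm gb N14387 = N13573 := ded_20_1 L153920 (flp_b L153150) L161507
theorem L161513 : sm gd N14387 = N13494 := ded_31_1 (flp_f L153154) L153146 L161507
theorem L161515 : sm gh N13493 = N14388 := rfl
theorem L161517 : sm ga N14388 = N13531 := ded_15_1 (flp_h L153548) (flp_a L153148) L161515
theorem L161519 : sm gb N14388 = N13571 := ded_22_1 L153905 (flp_b L153150) L161515
theorem L161521 : sm gg N14388 = N13549 := ded_42_1 L153707 (flp_g L153152) L161515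
theorem L161523 : sm gd N14388 = N13497 := ded_33_1 (flp_h L153188) (flp_d L144111) (flp_h L144100) L153146 L161515
theorem L161525 : sm gg N13494 = N14389 := rfl
theorem L161527 : sm ga N14389 = N13533 := ded_14_1 (flp_g L153558) (flp_a L153156) L161525
theorem L161529 : sm gb N14389 = N13572 := ded_21_1 L153915 (flp_b L153158) L161525
theorem L161531 : sm gc N14389 = N13495 := ded_27_1 (flp_g L153165) (flp_c L153160) L161525
theorem L161533 : sm ge N14389 = N14389 := ded_36_1 (flp_g L161525) L153164 L161525
theorem L161534 : sm gh N14389 = N13498 := ded_42_2 (flp_g L153199) (flp_h L153162) L161525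
theorem L161536 : sm gf N14389 = N13550 := ded_39_1 L153717 L144683 (flp_g L144098) L153154 L161525
theorem L161538 : sm ge N13496 = N14390 := rfl
theorem L161540 : sm ga N14390 = N13536 := ded_12_1 (flp_e L153581) (flp_a L153178) L161538
theorem L161542 : sm gb N14390 = N13566 := ded_19_1 L153858 (flp_b L153180) L161538
theorem L161544 : sm gc N14390 = N13502 := ded_25_1 (flp_e L153245) (flp_c L153182) L161538
theorem L161546 : sm gi N14390 = N13540 := ded_38_2 (flp_e L153620) (flp_i L153186) L161538
theorem L161548 : sm gd N14390 = N14390 := ded_30_1 (flp_e L161538) L153184 L144134 (flp_d L153184) L161538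
theorem L161549 : sm gf N14390 = N14390 := ded_35_2 (flp_e L161538) (flp_f L153176) L144123 L153176 L161538
theorem L161550 : sm gh N13773 = N14390 := ded_46_0 L161549 (flp_e L161538) L153184 L144130 L134985 L126968 (flp_h L127042) (flp_f L127036) (flp_e L72349) (flp_d L52840) L38665 L38663 (flp_a L39221) (flp_h L39219) L28701 (flp_e L36342) (flp_d L36336) L26623 (flp_b L24260) L24258 L24327 (flp_f L26541) L26539 L19502 (flp_c L26506) (flp_b L35721) (flp_a L48619) (flp_h L48617) (flp_f L35638) L26138 L24134 (flp_c L24129) L17794 L14203 L14227 (flp_f L19380) (flp_e L26364) L35989 L49112 L67182 L124789 L124796 (flp_f L129941) (flp_e L137521) L137519 L135227 (flp_b L144338) L144336 (flp_h L135688) L127402 (flp_e L135568) (flp_d L144176) (flp_c L153238) L153237 L153235 (flp_h L151711) L151713 L142619 (flp_d L142683) (flp_c L148320) L148319 (flp_a L155588)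
theorem L161552 : sm gg N13674 = N14390 := ded_14_0 L161540 (flp_g L153588) (flp_a L154672)
theorem L161554 : sm gg N13496 = N14391 := rfl
theorem L161556 : sm ga N14391 = N13537 := ded_14_1 (flp_g L153592) (flp_a L153178) L161554
theorem L161558 : sm gb N14391 = N13567 := ded_21_1 L153873 (flp_b L153180) L161554
theorem L161560 : sm gc N14391 = N13503 := ded_27_1 (flp_g L153257) (flp_c L153182) L161554
theorem L161562 : sm gd N14391 = N13498 := ded_32_1 (flp_g L153199) (flp_d L153184) L161554
theorem L161564 : sm ge N14391 = N13674 := ded_36_1 L161552 (flp_e L161538) L161554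
theorem L161566 : sm gi N14391 = N13541 := ded_43_2 (flp_g L153630) (flp_i L153186) L161554
theorem L161568 : sm gf N14391 = N13545 := ded_39_1 L153678 L144653 (flp_g L144117) L153176 L161554
theorem L161570 : sm gh N13772 = N14391 := ded_15_0 L161556 (flp_h L153601) (flp_a L155582)
theorem L161572 : sm gh N13496 = N14392 := rfl
theorem L161574 : sm ga N14392 = N13538 := ded_15_1 (flp_h L153603) (flp_a L153178) L161572
theorem L161576 : sm gb N14392 = N13569 := ded_22_1 (flp_h L153885) (flp_b L153180) L161572
theorem L161578 : sm gc N14392 = N13504 := ded_28_1 (flp_h L153268) (flp_c L153182) L161572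
theorem L161580 : sm ge N14392 = N13773 := ded_37_1 L161550 (flp_e L161538) L161572
theorem L161582 : sm gf N14392 = N13497 := ded_40_1 (flp_h L153188) L153176 L161572
theorem L161584 : sm gg N14392 = N13772 := ded_42_1 L161570 (flp_g L161554) L161572
theorem L161586 : sm gi N13497 = N14393 := rfl
theorem L161588 : sm ga N14393 = N13539 := ded_16_1 (flp_i L153614) (flp_a L153190) L161586
theorem L161590 : sm gb N14393 = N13570 := ded_23_1 L153898 (flp_b L153192) L161586
theorem L161592 : sm gc N14393 = N13506 := ded_29_1 (flp_i L153290) (flp_c L153194) L161586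
theorem L161594 : sm ge N14393 = N14393 := ded_38_1 (flp_i L161586) L153196 L161586
theorem L161595 : sm gg N14393 = N13548 := ded_43_1 L153701 (flp_g L153197) L161586
theorem L161597 : sm gh N14393 = N13543 := ded_44_1 (flp_i L153652) (flp_h L144600) (flp_i L144119) L153188 L161586
theorem L161599 : sm ge N13499 = N14394 := rfl
theorem L161601 : sm ga N14394 = N13540 := ded_12_1 (flp_e L153620) (flp_a L153214) L161599
theorem L161603 : sm gb N14394 = N14394 := ded_19_1 (flp_e L161599) L153216 L161599
theorem L161604 : sm gc N14394 = N13544 := ded_25_1 L153665 (flp_c L153217) L161599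
theorem L161606 : sm gi N14394 = N13536 := ded_38_2 (flp_e L153581) (flp_i L153221) L161599
theorem L161608 : sm gd N14394 = N14394 := ded_30_1 (flp_e L161599) L153219 L144169 (flp_d L153219) L161599
theorem L161609 : sm gf N14394 = N14394 := ded_35_2 (flp_e L161599) (flp_f L153212) L144159 L153212 L161599
theorem L161610 : sm gg N13611 = N14394 := ded_47_1 L161609 (flp_e L161599) L153219 L144165 L135007 (flp_h L132375) L141487 L141495 L132394 (flp_d L129575) (flp_c L137352) (flp_b L146457) L146462 (flp_g L146454) (flp_f L137276) (flp_e L128927) (flp_d L121745) (flp_c L66147) L66145 (flp_h L48407) L35505 L48398 L66151 L119154 L54032 (flp_b L73803) L123299 L123297 L120880 (flp_e L59645) L43734 L32125 L32123 L23648 L23649 (flp_f L23642) L17414 (flp_d L16878) L16876 (flp_b L111689) (flp_h L10762) L7915 L9142 (flp_e L111575) L12307 (flp_c L16687) (flp_b L22688) (flp_h L22685) (flp_g L19690) L26811 L36612 L50007 L68447 (flp_b L124839) L132831 (flp_g L140528) (flp_f L149294) (flp_e L149304) (flp_d L149708) L149706 L145297 L154228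
theorem L161612 : sm gh N13610 = N14394 := ded_46_0 L161609 (flp_e L161599) L153219 L144165 L135007 L126979 (flp_h L124705) (flp_f L124700) (flp_e L67084) (flp_d L49031) L35937 L26368 (flp_a L109299) L20279 L14992 (flp_e L20065) L20067 (flp_c L20063) (flp_b L20023) (flp_a L27178) (flp_h L36426) (flp_f L47720) L47722 (flp_d L47716) (flp_c L47647) (flp_b L65030) (flp_a L122060) (flp_h L122058) L64652 (flp_e L48848) L35835 L28223 L28221 L20720 L20777 L20783 L15262 L20785 L20790 L20787 (flp_a L21072) (flp_h L26649) (flp_f L36373) L49688 (flp_d L67985) (flp_c L125488) (flp_b L133670) (flp_a L142934) (flp_h L151961) (flp_f L157486) L157482 L152087 (flp_c L152494) L152492 L143486 L143490 L143491 L136965 (flp_d L137030) L137029 (flp_b L145766) (flp_a L154222)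
theorem L161614 : sm gg N13499 = N14395 := rfl
theorem L161616 : sm ga N14395 = N13541 := ded_14_1 (flp_g L153630) (flp_a L153214) L161614
theorem L161618 : sm gb N14395 = N14395 := ded_21_1 (flp_g L161614) L153216 L161614
theorem L161619 : sm gc N14395 = N13545 := ded_27_1 L153678 (flp_c L153217) L161614
theorem L161621 : sm gd N14395 = N13501 := ded_32_1 (flp_g L153233) (flp_d L153219) L161614
theorem L161623 : sm ge N14395 = N13611 := ded_36_1 L161610 (flp_e L161599) L161614
theorem L161625 : sm gi N14395 = N13537 := ded_43_2 (flp_g L153592) (flp_i L153221) L161614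
theorem L161627 : sm gf N14395 = N13503 := ded_39_1 (flp_g L153257) (flp_f L144183) (flp_g L144153) L153212 L161614
theorem L161629 : sm gh N13609 = N14395 := ded_15_0 L161616 (flp_h L153640) (flp_a L154215)
theorem L161631 : sm gh N13499 = N14396 := rfl
theorem L161633 : sm ga N14396 = N13542 := ded_15_1 (flp_h L153642) (flp_a L153214) L161631
theorem L161635 : sm gb N14396 = N14396 := ded_22_1 (flp_h L161631) L153216 L161631
theorem L161636 : sm gc N14396 = N13547 := ded_28_1 (flp_h L153690) (flp_c L153217) L161631
theorem L161638 : sm ge N14396 = N13610 := ded_37_1 L161612 (flp_e L161599) L161631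
theorem L161640 : sm gf N14396 = N13500 := ded_40_1 (flp_h L153223) L153212 L161631
theorem L161642 : sm gg N14396 = N13609 := ded_42_1 L161629 (flp_g L161614) L161631
theorem L161644 : sm gi N13500 = N14397 := rfl
theorem L161646 : sm ga N14397 = N13543 := ded_16_1 (flp_i L153652) (flp_a L153225) L161644
theorem L161648 : sm gb N14397 = N14397 := ded_23_1 (flp_i L161644) L153227 L161644
theorem L161649 : sm gc N14397 = N13548 := ded_29_1 L153701 (flp_c L153228) L161644
theorem L161651 : sm ge N14397 = N14397 := ded_38_1 (flp_i L161644) L153230 L161644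
theorem L161652 : sm gg N14397 = N13506 := ded_43_1 (flp_i L153290) (flp_g L153231) L161644
theorem L161654 : sm gh N14397 = N13539 := ded_44_1 (flp_i L153614) (flp_h L144582) (flp_i L144155) L153223 L161644
theorem L161656 : sm gi N13504 = N14398 := rfl
theorem L161658 : sm ga N14398 = N13546 := ded_16_1 (flp_i L153680) (flp_a L153270) L161656
theorem L161660 : sm gb N14398 = N14398 := ded_23_1 (flp_i L161656) L153272 L161656
theorem L161661 : sm ge N14398 = N14112 := ded_38_1 (flp_i L159097) (flp_e L153273) L161656
theorem L161663 : sm gf N14398 = N13506 := ded_41_1 (flp_i L153290) (flp_f L153275) L161656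
theorem L161665 : sm gg N14398 = N14111 := ded_43_1 (flp_i L159090) (flp_g L153277) L161656
theorem L161667 : sm gh N13506 = N14399 := rfl
theorem L161669 : sm ga N14399 = N13548 := ded_15_1 (flp_h L153696) (flp_a L153292) L161667
theorem L161671 : sm gb N14399 = N14399 := ded_22_1 (flp_h L161667) L153294 L161667
theorem L161672 : sm gc N14399 = N13543 := ded_28_1 (flp_h L161597) L161592 L161667
theorem L161674 : sm ge N14399 = N14399 := ded_37_1 (flp_h L161667) L153295 L161667
theorem L161675 : sm gg N14399 = N13539 := ded_42_1 (flp_h L161654) L161652 L161667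
theorem L161677 : sm gi N14399 = N13507 := ded_44_2 (flp_h L153296) (flp_i L144196) L144190 L153290 L161667
theorem L161679 : sm gd N13507 = N14400 := rfl
theorem L161681 : sm ga N14400 = N13549 := ded_11_1 (flp_d L153703) (flp_a L153298) L161679
theorem L161683 : sm gb N14400 = N14400 := ded_18_1 (flp_d L161679) L153300 L161679
theorem L161684 : sm gg N14400 = N13531 := ded_32_2 L153551 (flp_g L153304) L161679
theorem L161686 : sm gh N14400 = N13510 := ded_33_2 (flp_d L153330) (flp_h L144228) (flp_d L144203) L153296 L161679
theorem L161688 : sm gh N13508 = N14401 := rfl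
theorem L161690 : sm ga N14401 = N13550 := ded_15_1 (flp_h L153709) (flp_a L153308) L161688
theorem L161692 : sm gb N14401 = N14401 := ded_22_1 (flp_h L161688) L153310 L161688
theorem L161693 : sm gc N14401 = N13512 := ded_28_1 (flp_h L153349) (flp_c L153311) L161688
theorem L161695 : sm ge N14401 = N13515 := ded_37_1 (flp_h L153389) (flp_e L153313) L161688
theorem L161697 : sm gf N14401 = N13533 := ded_40_1 L153564 (flp_f L153315) L161688
theorem L161699 : sm gg N14401 = N13509 := ded_42_1 (flp_h L153319) (flp_g L153317) L161688
theorem L161701 : sm gd N13509 = N14402 := rfl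
theorem L161703 : sm ga N14402 = N13551 := ded_11_1 (flp_d L153719) (flp_a L153321) L161701
theorem L161705 : sm gb N14402 = N14402 := ded_18_1 (flp_d L161701) L153323 L161701
theorem L161706 : sm gf N14402 = N13510 := ded_31_2 (flp_d L153330) (flp_f L153328) L161701
theorem L161708 : sm ge N14402 = N14039 := ded_30_2 (flp_d L158432) L149950 L144476 (flp_e L153326) L161701
theorem L161710 : sm ge N13510 = N14403 := rfl
theorem L161712 : sm ga N14403 = N13553 := ded_12_1 (flp_e L153731) (flp_a L153332) L161710
theorem L161714 : sm gb N14403 = N14403 := ded_19_1 (flp_e L161710) L153334 L161710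
theorem L161715 : sm gg N14403 = N13523 := ded_36_2 L153488 (flp_g L153335) L161710
theorem L161717 : sm gd N14403 = N13511 := ded_30_1 (flp_e L153337) (flp_d L144239) (flp_e L144235) L153330 L161710
theorem L161719 : sm gf N14403 = N14042 := ded_35_2 (flp_e L158462) (flp_f L158437) (flp_e L161708) L161706 L161710
theorem L161721 : sm gh N13516 = N14404 := rfl
theorem L161723 : sm ga N14404 = N13907 := ded_15_1 (flp_h L157022) (flp_a L153401) L161721
theorem L161725 : sm gb N14404 = N13561 := ded_22_1 (flp_h L153811) (flp_b L153403) L161721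
theorem L161727 : sm gc N14404 = N13762 := ded_28_1 (flp_h L155476) (flp_c L153405) L161721
theorem L161729 : sm ge N14404 = N13517 := ded_37_1 (flp_h L153413) (flp_e L153407) L161721
theorem L161731 : sm gf N14404 = N14351 := ded_40_1 L161176 (flp_f L153409) L161721
theorem L161733 : sm gg N14404 = N13768 := ded_42_1 (flp_h L155535) (flp_g L153411) L161721
theorem L161735 : sm gi N14404 = N14404 := ded_44_2 (flp_h L161721) (flp_i L153399) L144384 L153399 L161721
theorem L161736 : sm gi N13518 = N14405 := rfl
theorem L161738 : sm ga N14405 = N13846 := ded_16_1 (flp_i L156474) (flp_a L153429) L161736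
theorem L161740 : sm gb N14405 = N14405 := ded_23_1 (flp_i L161736) L153431 L161736
theorem L161741 : sm gc N14405 = N13734 := ded_29_1 (flp_i L155200) (flp_c L153432) L161736
theorem L161743 : sm ge N14405 = N14184 := ded_38_1 L159775 L153455 L161736
theorem L161745 : sm gf N14405 = N13519 := ded_41_1 (flp_i L153438) (flp_f L153434) L161736
theorem L161747 : sm gg N14405 = N14040 := ded_43_1 (flp_i L158441) (flp_g L153436) L161736
theorem L161749 : sm gh N14405 = N14005 := ded_44_1 (flp_i L158025) L149352 (flp_i L144407) L153427 L161736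
theorem L161751 : sm gh N13521 = N14406 := rfl
theorem L161753 : sm ga N14406 = N13920 := ded_15_1 (flp_h L159690) L159683 L161751
theorem L161755 : sm gb N14406 = N13562 := ded_22_1 (flp_h L153821) (flp_b L153464) L161751
theorem L161757 : sm ge N14406 = N13522 := ded_37_1 (flp_h L153472) (flp_e L153466) L161751
theorem L161759 : sm gf N14406 = N13668 := ded_40_1 L154631 (flp_f L153468) L161751
theorem L161761 : sm gg N14406 = N13529 := ded_42_1 (flp_h L153536) (flp_g L153470) L161751
theorem L161763 : sm gi N14406 = N14406 := ded_44_2 (flp_h L161751) (flp_i L153462) L144500 L153462 L161751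
theorem L161764 : sm gf N13523 = N14407 := rfl
theorem L161766 : sm ga N14407 = N14203 := ded_13_1 (flp_f L161481) L161477 L161764
theorem L161768 : sm gb N14407 = N14407 := ded_20_1 (flp_f L161764) L153487 L161764
theorem L161769 : sm gd N14407 = N13524 := ded_31_1 (flp_f L153490) L153485 L161764
theorem L161771 : sm gg N14407 = N14047 := ded_39_2 (flp_f L158499) (flp_g L158467) (flp_f L161719) L161715 L161764
theorem L161773 : sm gh N13523 = N14408 := rfl
theorem L161775 : sm gb N14408 = N14408 := ded_22_1 (flp_h L161773) L153487 L161773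
theorem L161776 : sm ge N14408 = N13531 := ded_37_1 (flp_h L153548) (flp_e L153488) L161773
theorem L161778 : sm gd N14408 = N14408 := ded_33_1 (flp_h L161773) (flp_d L153485) L144516 L153485 L161773
theorem L161779 : sm gi N13523 = N14409 := rfl
theorem L161781 : sm gb N14409 = N14409 := ded_23_1 (flp_i L161779) L153487 L161779
theorem L161782 : sm gd N14409 = N13525 := ded_34_1 (flp_i L153499) L153485 L161779
theorem L161784 : sm ge N14409 = N13532 := ded_38_1 (flp_i L153553) (flp_e L153488) L161779
theorem L161786 : sm gi N13524 = N14410 := rfl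
theorem L161788 : sm gb N14410 = N14410 := ded_23_1 (flp_i L161786) L153492 L161786
theorem L161789 : sm gc N14410 = N13528 := ded_29_1 (flp_i L153529) (flp_c L153493) L161786
theorem L161791 : sm ge N14410 = N14410 := ded_38_1 (flp_i L161786) L153496 L161786
theorem L161792 : sm gf N14410 = N13525 := ded_41_1 (flp_i L153499) L153490 L161786
theorem L161794 : sm gg N14410 = N14385 := ded_43_1 (flp_i L161487) (flp_g L153497) L161786
theorem L161796 : sm gh N13525 = N14411 := rfl
theorem L161798 : sm ga N14411 = N14339 := ded_15_1 L161071 L160408 L161796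
theorem L161800 : sm gb N14411 = N14411 := ded_22_1 (flp_h L161796) L153501 L161796
theorem L161801 : sm gc N14411 = N13529 := ded_28_1 (flp_h L153536) (flp_c L153502) L161796
theorem L161803 : sm ge N14411 = N13526 := ded_37_1 (flp_h L153506) (flp_e L153504) L161796
theorem L161805 : sm gi N14411 = N14411 := ded_44_2 (flp_h L161796) (flp_i L153499) L144516 L153499 L161796
theorem L161806 : sm gi N13527 = N14412 := rfl
theorem L161808 : sm ga N14412 = N14410 := ded_16_1 (flp_i L161786) (flp_a L153519) L161806
theorem L161810 : sm gb N14412 = N13563 := ded_23_1 (flp_i L153832) (flp_b L153521) L161806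
theorem L161812 : sm gc N14412 = N14385 := ded_29_1 (flp_i L161487) (flp_c L153523) L161806
theorem L161814 : sm ge N14412 = N14412 := ded_38_1 (flp_i L161806) L153525 L161806
theorem L161815 : sm gf N14412 = N14266 := ded_41_1 L160416 (flp_f L153527) L161806
theorem L161817 : sm gg N14412 = N13528 := ded_43_1 (flp_i L153529) L153517 L161806
theorem L161819 : sm gh N13528 = N14413 := rfl
theorem L161821 : sm gb N14413 = N13564 := ded_22_1 (flp_h L153841) (flp_b L153531) L161819
theorem L161823 : sm ge N14413 = N14413 := ded_37_1 (flp_h L161819) L153533 L161819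
theorem L161824 : sm gf N14413 = N13529 := ded_40_1 (flp_h L153536) (flp_f L153534) L161819
theorem L161826 : sm gi N14413 = N14413 := ded_44_2 (flp_h L161819) (flp_i L153529) L144529 L153529 L161819
theorem L161827 : sm gd N13529 = N14414 := rfl
theorem L161829 : sm gb N14414 = N13565 := ded_18_1 (flp_d L153849) (flp_b L153538) L161827
theorem L161831 : sm gi N14414 = N14414 := ded_34_2 (flp_d L161827) L153542 L161827
theorem L161832 : sm ge N13530 = N14415 := rfl
theorem L161834 : sm gb N14415 = N14415 := ded_19_1 (flp_e L161832) L153545 L161832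
theorem L161835 : sm gd N14415 = N14415 := ded_30_1 (flp_e L161832) L153546 L144553 (flp_d L153546) L161832
theorem L161836 : sm gg N13530 = N14416 := rfl
theorem L161838 : sm gb N14416 = N14416 := ded_21_1 (flp_g L161836) L153545 L161836
theorem L161839 : sm gd N14416 = N13533 := ded_32_1 (flp_g L153558) (flp_d L153546) L161836
theorem L161841 : sm gh N13911 = N14416 := ded_33_0 L161839 L153564 (flp_d L153597) (flp_h L153601) (flp_d L157069)
theorem L161843 : sm ge N13913 = N14416 := ded_46_2 L161839 L153561 L144563 L135716 L127501 (flp_f L127079) L127077 L72487 L72486 L72484 (flp_a L73525) L127473 L127479 (flp_e L135736) (flp_d L138000) L137996 (flp_b L137742) L137740 (flp_h L138807) L148008 L148015 L142409 (flp_c L144549) L144548 (flp_a L153156) L153162 (flp_f L144124) (flp_e L134969) L126810 (flp_c L126799) L72021 L52718 (flp_h L52845) L52844 L72349 (flp_d L124614) (flp_c L132541) (flp_b L139685) (flp_a L148644) L148652 (flp_f L148536) L148532 L142882 L135718 (flp_b L144563) (flp_a L153167) L153172 L144146 L135568 L127401 (flp_c L135648) L135646 L127872 L136152 L136157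 (flp_e L145065) L153981 L153986 L152285 L146867 L148246 (flp_f L157079)
theorem L161845 : sm gg N14415 = N13913 := ded_36_0 L161843 (flp_g L161836) L161832
theorem L161847 : sm gh N13912 = N14415 := ded_42_0 L161845 (flp_h L157076) L157071
theorem L161849 : sm gh N13530 = N14417 := rfl
theorem L161851 : sm gb N14417 = N14417 := ded_22_1 (flp_h L161849) L153545 L161849
theorem L161852 : sm ge N14417 = N13912 := ded_37_1 L161847 (flp_e L161832) L161849
theorem L161854 : sm gf N14417 = N13531 := ded_40_1 (flp_h L153548) L153543 L161849
theorem L161856 : sm gg N14417 = N13911 := ded_42_1 L161841 (flp_g L161836) L161849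
theorem L161858 : sm gd N14417 = N13538 := ded_33_1 (flp_h L153603) L144580 (flp_h L144551) (flp_d L153546) L161849
theorem L161860 : sm gi N13530 = N14418 := rfl
theorem L161862 : sm gb N14418 = N14418 := ded_23_1 (flp_i L161860) L153545 L161860
theorem L161863 : sm gd N14418 = N13534 := ded_34_1 (flp_i L153566) (flp_d L153546) L161860
theorem L161865 : sm gf N14418 = N13532 := ded_41_1 (flp_i L153553) L153543 L161860
theorem L161867 : sm gi N13531 = N14419 := rfl
theorem L161869 : sm gb N14419 = N14419 := ded_23_1 (flp_i L161867) L153550 L161867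
theorem L161870 : sm gd N14419 = N13539 := ded_34_1 (flp_i L153614) (flp_d L153551) L161867
theorem L161872 : sm gh N13532 = N14420 := rfl
theorem L161874 : sm gb N14420 = N14420 := ded_22_1 (flp_h L161872) L153555 L161872
theorem L161875 : sm gi N13533 = N14421 := rfl
theorem L161877 : sm gb N14421 = N14421 := ded_23_1 (flp_i L161875) L153560 L161875
theorem L161878 : sm gc N14421 = N13535 := ded_29_1 (flp_i L153574) (flp_c L153561) L161875
theorem L161880 : sm ge N14421 = N14421 := ded_38_1 (flp_i L161875) L153563 L161875
theorem L161881 : sm gg N14421 = N13534 := ded_43_1 (flp_i L153566) L153558 L161875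
theorem L161883 : sm gi N13538 = N14422 := rfl
theorem L161885 : sm gb N14422 = N14422 := ded_23_1 (flp_i L161883) L153605 L161883
theorem L161886 : sm gc N14422 = N13546 := ded_29_1 (flp_i L153680) (flp_c L153606) L161883
theorem L161888 : sm ge N14422 = N13925 := ded_38_1 (flp_i L157157) (flp_e L153608) L161883
theorem L161890 : sm gf N14422 = N13539 := ded_41_1 (flp_i L153614) (flp_f L153610) L161883
theorem L161892 : sm gg N14422 = N13924 := ded_43_1 (flp_i L157150) (flp_g L153612) L161883
theorem L161894 : sm gi N13542 = N14423 := rfl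
theorem L161896 : sm gb N14423 = N13568 := ded_23_1 (flp_i L153875) (flp_b L153644) L161894
theorem L161898 : sm ge N14423 = N13673 := ded_38_1 (flp_i L154661) (flp_e L153646) L161894
theorem L161900 : sm gf N14423 = N13543 := ded_41_1 (flp_i L153652) (flp_f L153648) L161894
theorem L161902 : sm gg N14423 = N13672 := ded_43_1 (flp_i L154653) (flp_g L153650) L161894
theorem L161904 : sm gh N13546 = N14424 := rfl
theorem L161906 : sm gb N14424 = N13579 := ded_22_1 (flp_h L153964) (flp_b L153682) L161904
theorem L161908 : sm ge N14424 = N14281 := ded_37_1 (flp_h L160537) (flp_e L153684) L161904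
theorem L161910 : sm gf N14424 = N13548 := ded_40_1 (flp_h L153696) (flp_f L153686) L161904
theorem L161912 : sm gg N14424 = N14280 := ded_42_1 (flp_h L160527) (flp_g L153688) L161904
theorem L161914 : sm gi N14424 = N13547 := ded_44_2 (flp_h L153690) (flp_i L144647) L144637 L153680 L161904
theorem L161916 : sm gd N13548 = N14425 := rfl
theorem L161918 : sm gb N14425 = N13580 := ded_18_1 (flp_d L153976) (flp_b L153698) L161916
theorem L161920 : sm gi N14425 = N13549 := ded_34_2 (flp_d L153703) (flp_i L153701) L161916
theorem L161922 : sm gc N13549 = N14426 := rfl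
theorem L161924 : sm gh N14426 = N13552 := ded_28_2 (flp_c L153727) (flp_h L153707) L161922
theorem L161926 : sm gd N13550 = N14427 := rfl
theorem L161928 : sm gb N14427 = N13581 := ded_18_1 (flp_d L153981) (flp_b L153711) L161926
theorem L161930 : sm gg N14427 = N13551 := ded_32_2 (flp_d L153719) (flp_g L153717) L161926
theorem L161932 : sm ge N14427 = N13845 := ded_30_2 (flp_d L156466) L153760 (flp_d L153747) (flp_e L153715) L161926
theorem L161934 : sm gc N13551 = N14428 := rfl
theorem L161936 : sm ge N14428 = N14154 := ded_25_2 L159487 (flp_e L153725) L161934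
theorem L161938 : sm gf N14428 = N13552 := ded_26_2 (flp_c L153727) (flp_f L153723) L161934
theorem L161940 : sm gb N14428 = N14155 := ded_17_1 L159493 L151020 (flp_c L145074) (flp_b L153721) L161934
theorem L161942 : sm gd N14428 = N13554 := ded_24_2 (flp_c L153739) (flp_d L144704) (flp_c L144679) L153719 L161934
theorem L161944 : sm gb N13552 = N14429 := rfl
theorem L161946 : sm gd N14429 = N13555 := ded_18_2 (flp_b L153743) (flp_d L153729) L161944
theorem L161948 : sm gf N14429 = N14155 := ded_20_2 (flp_b L161940) L161938 L161944
theorem L161950 : sm gc N14429 = N13582 := ded_17_2 (flp_b L153990) (flp_c L145078) (flp_b L144687) L153727 L161944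
theorem L161952 : sm ge N13552 = N14430 := rfl
theorem L161954 : sm gc N14430 = N13553 := ded_25_1 (flp_e L153731) L153727 L161952
theorem L161956 : sm gf N14430 = N14192 := ded_35_2 (flp_e L159828) (flp_f L159483) (flp_e L161936) L161938 L161952
theorem L161958 : sm gi N13557 = N14431 := rfl
theorem L161960 : sm ga N14431 = N14431 := ded_16_1 (flp_i L161958) L153764 L161958
theorem L161961 : sm gb N14431 = N13767 := ded_23_1 (flp_i L155525) (flp_b L153765) L161958
theorem L161963 : sm gc N14431 = N13723 := ded_29_1 (flp_i L155067) (flp_c L153767) L161958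
theorem L161965 : sm ge N14431 = N13717 := ded_38_1 L155015 (flp_e L153770) L161958
theorem L161967 : sm gf N14431 = N13558 := ded_41_1 (flp_i L153772) L153762 L161958
theorem L161969 : sm gg N14431 = N14362 := ded_43_1 L161290 L153943 L161958
theorem L161971 : sm gh N13720 = N14431 := ded_28_0 L161963 (flp_h L155080) (flp_c L155051)
theorem L161973 : sm gh N13558 = N14432 := rfl
theorem L161975 : sm ga N14432 = N14432 := ded_15_1 (flp_h L161973) L153774 L161973
theorem L161976 : sm gb N14432 = N13768 := ded_22_1 (flp_h L155535) (flp_b L153775) L161973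
theorem L161978 : sm gc N14432 = N13724 := ded_28_1 (flp_h L155082) (flp_c L153777) L161973
theorem L161980 : sm ge N14432 = N13559 := ded_37_1 (flp_h L153783) (flp_e L153779) L161973
theorem L161982 : sm gf N14432 = N13720 := ded_40_1 L161971 L161967 L161973
theorem L161984 : sm gg N14432 = N13561 := ded_42_1 (flp_h L153811) (flp_g L153781) L161973
theorem L161986 : sm gi N14432 = N14432 := ded_44_2 (flp_h L161973) (flp_i L153772) L144817 L153772 L161973
theorem L161987 : sm gd N13561 = N14433 := rfl
theorem L161989 : sm ga N14433 = N14433 := ded_11_1 (flp_d L161987) L153813 L161987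
theorem L161990 : sm gf N14433 = N14348 := ded_31_2 L161151 (flp_f L153818) L161987
theorem L161992 : sm gi N14433 = N14433 := ded_34_2 (flp_d L161987) L153820 L161987
theorem L161993 : sm gc N14433 = N14347 := ded_24_1 (flp_d L161139) L152596 L152626 (flp_c L153814) L161987
theorem L161995 : sm ge N14433 = N13565 := ded_30_2 (flp_d L153849) L144897 (flp_d L144858) (flp_e L153816) L161987
theorem L161997 : sm gd N13562 = N14434 := rfl
theorem L161999 : sm ga N14434 = N14434 := ded_11_1 (flp_d L161997) L153823 L161997
theorem L162000 : sm gf N14434 = N13709 := ded_31_2 L154950 (flp_f L153827) L161997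
theorem L162002 : sm gg N14434 = N13565 := ded_32_2 (flp_d L153849) (flp_g L153829) L161997
theorem L162004 : sm gi N14434 = N14434 := ded_34_2 (flp_d L161997) L153831 L161997
theorem L162005 : sm gd N13564 = N14435 := rfl
theorem L162007 : sm ga N14435 = N14435 := ded_11_1 (flp_d L162005) L153843 L162005
theorem L162008 : sm gf N14435 = N13565 := ded_31_2 (flp_d L153849) (flp_f L153846) L162005
theorem L162010 : sm gi N14435 = N14435 := ded_34_2 (flp_d L162005) L153848 L162005
theorem L162011 : sm gc N13565 = N14436 := rfl
theorem L162013 : sm ga N14436 = N14436 := ded_10_1 (flp_c L162011) L153851 L162011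
theorem L162014 : sm ge N14436 = N14347 := ded_25_2 (flp_c L161993) L161995 L162011
theorem L162016 : sm gi N14436 = N14436 := ded_29_2 (flp_c L162011) L153852 L162011
theorem L162017 : sm gd N14436 = N14436 := ded_24_2 (flp_c L162011) (flp_d L153849) L144896 L153849 L162011
theorem L162018 : sm gh N13566 = N14437 := rfl
theorem L162020 : sm ga N14437 = N14437 := ded_15_1 (flp_h L162018) L153855 L162018
theorem L162021 : sm gb N14437 = N13773 := ded_22_1 L161550 L161542 L162018
theorem L162023 : sm gc N14437 = N14437 := ded_28_1 (flp_h L162018) L153856 L162018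
theorem L162024 : sm ge N14437 = N13569 := ded_37_1 (flp_h L153885) (flp_e L153858) L162018
theorem L162026 : sm gf N14437 = N14437 := ded_40_1 (flp_h L162018) L153860 L162018
theorem L162027 : sm gg N14437 = N13716 := ded_42_1 (flp_h L154996) (flp_g L153861) L162018
theorem L162029 : sm gi N14437 = N13715 := ded_44_2 (flp_h L154989) (flp_i L146167) (flp_h L144908) L153853 L162018
theorem L162031 : sm gd N13725 = N14437 := ded_18_0 L162021 L155592 (flp_b L155099)
theorem L162033 : sm gh N13567 = N14438 := rfl
theorem L162035 : sm ga N14438 = N14438 := ded_15_1 (flp_h L162033) L153865 L162033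
theorem L162036 : sm gb N14438 = N13772 := ded_22_1 L161570 L161558 L162033
theorem L162038 : sm gc N14438 = N14438 := ded_28_1 (flp_h L162033) L153866 L162033
theorem L162039 : sm ge N14438 = N13716 := ded_37_1 (flp_h L154996) (flp_e L153869) L162033
theorem L162041 : sm gf N14438 = N13578 := ded_40_1 (flp_h L153954) (flp_f L153871) L162033
theorem L162043 : sm gg N14438 = N13569 := ded_42_1 (flp_h L153885) (flp_g L153873) L162033
theorem L162045 : sm gi N14438 = N13714 := ded_44_2 (flp_h L154981) (flp_i L146159) L144920 L153863 L162033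
theorem L162047 : sm gh N13568 = N14439 := rfl
theorem L162049 : sm ga N14439 = N14439 := ded_15_1 (flp_h L162047) L153877 L162047
theorem L162050 : sm gc N14439 = N14439 := ded_28_1 (flp_h L162047) L153878 L162047
theorem L162051 : sm ge N14439 = N13715 := ded_37_1 (flp_h L154989) (flp_e L153879) L162047
theorem L162053 : sm gf N14439 = N13570 := ded_40_1 (flp_h L153891) (flp_f L153881) L162047
theorem L162055 : sm gg N14439 = N13714 := ded_42_1 (flp_h L154981) (flp_g L153883) L162047
theorem L162057 : sm gi N14439 = N13569 := ded_44_2 (flp_h L153885) (flp_i L144932) L144922 L153875 L162047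
theorem L162059 : sm gd N13569 = N14440 := rfl
theorem L162061 : sm ga N14440 = N14440 := ded_11_1 (flp_d L162059) L153887 L162059
theorem L162062 : sm gf N14440 = N13571 := ded_31_2 (flp_d L153900) (flp_f L153889) L162059
theorem L162064 : sm gh N14440 = N13573 := ded_33_2 (flp_d L153917) (flp_h L144964) (flp_d L144936) L153885 L162059
theorem L162066 : sm gd N13570 = N14441 := rfl
theorem L162068 : sm ga N14441 = N14441 := ded_11_1 (flp_d L162066) L153893 L162066
theorem L162069 : sm gg N14441 = N13580 := ded_32_2 (flp_d L153976) (flp_g L153896) L162066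
theorem L162071 : sm gi N14441 = N13571 := ded_34_2 (flp_d L153900) (flp_i L153898) L162066
theorem L162073 : sm gd N13572 = N14442 := rfl
theorem L162075 : sm ga N14442 = N14442 := ded_11_1 (flp_d L162073) L153909 L162073
theorem L162076 : sm gf N14442 = N13581 := ded_31_2 (flp_d L153981) (flp_f L153913) L162073
theorem L162078 : sm gg N14442 = N13573 := ded_32_2 (flp_d L153917) (flp_g L153915) L162073
theorem L162080 : sm gc N14442 = N14307 := ded_24_1 L160779 L153767 L146419 (flp_c L153910) L162073
theorem L162082 : sm ge N13993 = N14442 := ded_46_2 (flp_d L162073) L153910 L144989 L136173 (flp_h L127997) L74516 L54506 L39983 L29400 L29399 (flp_a L40059) L54625 L54631 L54630 (flp_d L121038) L64432 (flp_b L48419) L48417 L48502 L48508 L48506 L35577 (flp_c L35723) L35721 (flp_a L36083) (flp_h L36081) (flp_f L26424) L19421 L17870 (flp_c L17865) L13181 L10584 L10608 (flp_f L14423) (flp_e L19637) L26757 L36553 L49922 L68346 L68352 (flp_f L66031) L66030 (flp_d L123523) L123522 (flp_b L131180) (flp_a L131172) (flp_h L131127) L131125 L126042 (flp_d L133583) (flp_c L142393) (flp_b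 L142387) (flp_a L140957) L140959 (flp_f L137736) L146797 L155412 L155416 (flp_b L152285) L152284 L152289 L157920
theorem L162084 : sm gc N13573 = N14443 := rfl
theorem L162086 : sm ga N14443 = N14443 := ded_10_1 (flp_c L162084) L153919 L162084
theorem L162087 : sm gf N14443 = N13574 := ded_26_2 (flp_c L153922) (flp_f L153920) L162084
theorem L162089 : sm gg N14443 = N14307 := ded_27_2 (flp_c L162080) L162078 L162084
theorem L162091 : sm gd N14443 = N13576 := ded_24_2 (flp_c L153938) (flp_d L144996) (flp_c L144967) L153917 L162084
theorem L162093 : sm ge N14440 = N14443 := ded_35_5 L162087 (flp_e L154864) (flp_f L160883) L160879 (flp_f L162062)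
theorem L162095 : sm ge N13573 = N14444 := rfl
theorem L162097 : sm ga N14444 = N14444 := ded_12_1 (flp_e L162095) L153919 L162095
theorem L162098 : sm gc N14444 = N14440 := ded_25_1 L162093 (flp_c L162084) L162095
theorem L162100 : sm gg N14444 = N13993 := ded_36_2 L162082 L162078 L162095
theorem L162102 : sm gh N14444 = N14443 := ded_37_2 (flp_e L162093) L162064 L162095
theorem L162104 : sm gd N14444 = N14444 := ded_30_1 (flp_e L162095) (flp_d L153917) L144969 L153917 L162095
theorem L162105 : sm gf N14444 = N14001 := ded_35_2 L157990 L153936 (flp_e L153929) (flp_f L153920) L162095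
theorem L162107 : sm gb N13574 = N14445 := rfl
theorem L162109 : sm gd N14445 = N13577 := ded_18_2 (flp_b L153946) (flp_d L153927) L162107
theorem L162111 : sm gg N14445 = N13582 := ded_21_2 (flp_b L153990) (flp_g L153925) L162107
theorem L162113 : sm gb N13583 = N14446 := rfl
theorem L162115 : sm gd N14446 = N13586 := ded_18_2 (flp_b L154019) (flp_d L154002) L162113
theorem L162117 : sm gh N14446 = N14044 := ded_22_2 (flp_b L158480) (flp_h L154000) L162113
theorem L162119 : sm gc N14446 = N14446 := ded_17_2 (flp_b L162113) (flp_c L153996) L145151 L153996 L162113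
theorem L162120 : sm ge N13583 = N14447 := rfl
theorem L162122 : sm ga N14447 = N13638 := ded_12_1 (flp_e L154429) (flp_a L153998) L162120
theorem L162124 : sm gc N14447 = N13584 := ded_25_1 (flp_e L154004) L153996 L162120
theorem L162126 : sm gh N14447 = N14045 := ded_37_2 (flp_e L158485) (flp_h L154000) L162120
theorem L162128 : sm gi N13583 = N14448 := rfl
theorem L162130 : sm ga N14448 = N13639 := ded_16_1 (flp_i L154435) (flp_a L153998) L162128
theorem L162132 : sm gc N14448 = N13585 := ded_29_1 (flp_i L154012) L153996 L162128
theorem L162134 : sm gd N14448 = N13588 := ded_34_1 (flp_i L154033) (flp_d L154002) L162128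
theorem L162136 : sm gf N13584 = N14449 := rfl
theorem L162138 : sm ga N14449 = N13640 := ded_13_1 (flp_f L154441) (flp_a L154006) L162136
theorem L162140 : sm gb N14449 = N14449 := ded_20_1 (flp_f L162136) L154008 L162136
theorem L162141 : sm gd N14449 = N14449 := ded_31_1 (flp_f L162136) L154011 L162136
theorem L162142 : sm gh N14449 = N14047 := ded_40_2 (flp_f L158499) (flp_h L154009) L162136
theorem L162144 : sm ge N14449 = N13903 := ded_35_1 (flp_f L156987) (flp_e L149557) L149553 L154004 L162136
theorem L162146 : sm gi N13584 = N14450 := rfl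
theorem L162148 : sm ga N14450 = N13641 := ded_16_1 (flp_i L154450) (flp_a L154006) L162146
theorem L162150 : sm gb N14450 = N14450 := ded_23_1 (flp_i L162146) L154008 L162146
theorem L162151 : sm gd N14450 = N14450 := ded_34_1 (flp_i L162146) L154011 L162146
theorem L162152 : sm ge N14450 = N13585 := ded_38_1 (flp_i L154012) L154004 L162146
theorem L162154 : sm gh N13585 = N14451 := rfl
theorem L162156 : sm ga N14451 = N13642 := ded_15_1 (flp_h L154457) (flp_a L154014) L162154
theorem L162158 : sm gb N14451 = N14451 := ded_22_1 (flp_h L162154) L154016 L162154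
theorem L162159 : sm gi N14451 = N14049 := ded_44_2 (flp_h L158515) (flp_i L149987) (flp_h L145152) L154012 L162154
theorem L162161 : sm gi N13586 = N14452 := rfl
theorem L162163 : sm gb N14452 = N13588 := ded_23_1 (flp_i L154033) L154019 L162161
theorem L162165 : sm gc N14452 = N13617 := ded_29_1 (flp_i L154298) (flp_c L154023) L162161
theorem L162167 : sm gd N13587 = N14453 := rfl
theorem L162169 : sm ga N14453 = N13643 := ded_11_1 (flp_d L154463) (flp_a L154027) L162167
theorem L162171 : sm gc N14453 = N14453 := ded_24_1 (flp_d L162167) L154029 L145176 (flp_c L154029) L162167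
theorem L162172 : sm gi N13587 = N14454 := rfl
theorem L162174 : sm ga N14454 = N13645 := ded_16_1 (flp_i L154472) (flp_a L154027) L162172
theorem L162176 : sm gc N14454 = N13589 := ded_29_1 (flp_i L154039) (flp_c L154029) L162172
theorem L162178 : sm ge N14454 = N13588 := ded_38_1 (flp_i L154033) L154025 L162172
theorem L162180 : sm gh N13588 = N14455 := rfl
theorem L162182 : sm ga N14455 = N13646 := ded_15_1 (flp_h L154478) (flp_a L154035) L162180
theorem L162184 : sm gc N14455 = N13590 := ded_28_1 (flp_h L154048) (flp_c L154037) L162180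
theorem L162186 : sm gi N14455 = N13596 := ded_44_2 (flp_h L154092) (flp_i L145197) (flp_h L145166) L154033 L162180
theorem L162188 : sm gh N13589 = N14456 := rfl
theorem L162190 : sm ga N14456 = N13648 := ded_15_1 (flp_h L154491) (flp_a L154041) L162188
theorem L162192 : sm gb N14456 = N13619 := ded_22_1 (flp_h L154311) (flp_b L154043) L162188
theorem L162194 : sm ge N14456 = N13590 := ded_37_1 (flp_h L154048) (flp_e L154046) L162188
theorem L162196 : sm gi N14456 = N13598 := ded_44_2 (flp_h L154108) (flp_i L145213) (flp_h L145174) L154039 L162188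
theorem L162198 : sm gd N13591 = N14457 := rfl
theorem L162200 : sm gb N14457 = N13593 := ded_18_1 (flp_d L154070) (flp_b L154058) L162198
theorem L162202 : sm gc N14457 = N14457 := ded_24_1 (flp_d L162198) L154060 L145428 (flp_c L154060) L162198
theorem L162203 : sm ge N14457 = N14078 := ded_30_2 (flp_d L158793) (flp_e L150181) (flp_d L145187) L154056 L162198
theorem L162205 : sm gi N13591 = N14458 := rfl
theorem L162207 : sm gb N14458 = N13595 := ded_23_1 (flp_i L154084) (flp_b L154058) L162205
theorem L162209 : sm gc N14458 = N13620 := ded_29_1 (flp_i L154319) (flp_c L154060) L162205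
theorem L162211 : sm ge N14458 = N13592 := ded_38_1 (flp_i L154062) L154056 L162205
theorem L162213 : sm gh N13592 = N14459 := rfl
theorem L162215 : sm gb N14459 = N13596 := ded_22_1 (flp_h L154092) (flp_b L154064) L162213
theorem L162217 : sm gc N14459 = N13621 := ded_28_1 (flp_h L154326) (flp_c L154066) L162213
theorem L162219 : sm gf N13593 = N14460 := rfl
theorem L162221 : sm ga N14460 = N13649 := ded_13_1 (flp_f L154499) (flp_a L154072) L162219
theorem L162223 : sm gc N14460 = N13599 := ded_26_1 (flp_f L154116) (flp_c L154074) L162219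
theorem L162225 : sm gd N14460 = N13594 := ded_31_1 (flp_f L154078) L154070 L162219
theorem L162227 : sm gh N13593 = N14461 := rfl
theorem L162229 : sm ga N14461 = N13650 := ded_15_1 (flp_h L154505) (flp_a L154072) L162227
theorem L162231 : sm gc N14461 = N13600 := ded_28_1 (flp_h L154123) (flp_c L154074) L162227
theorem L162233 : sm ge N14461 = N14083 := ded_37_1 (flp_h L158826) (flp_e L154076) L162227
theorem L162235 : sm gi N13593 = N14462 := rfl
theorem L162237 : sm ga N14462 = N13651 := ded_16_1 (flp_i L154511) (flp_a L154072) L162235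
theorem L162239 : sm gc N14462 = N13601 := ded_29_1 (flp_i L154131) (flp_c L154074) L162235
theorem L162241 : sm gd N14462 = N13595 := ded_34_1 (flp_i L154084) L154070 L162235
theorem L162243 : sm ge N14462 = N14084 := ded_38_1 (flp_i L158832) (flp_e L154076) L162235
theorem L162245 : sm gi N13594 = N14463 := rfl
theorem L162247 : sm ga N14463 = N13653 := ded_16_1 (flp_i L154523) (flp_a L154080) L162245
theorem L162249 : sm gc N14463 = N13597 := ded_29_1 (flp_i L154098) (flp_c L154082) L162245
theorem L162251 : sm gf N14463 = N13595 := ded_41_1 (flp_i L154084) L154078 L162245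
theorem L162253 : sm gh N13595 = N14464 := rfl
theorem L162255 : sm ga N14464 = N13654 := ded_15_1 (flp_h L154529) (flp_a L154086) L162253
theorem L162257 : sm gc N14464 = N13598 := ded_28_1 (flp_h L154108) (flp_c L154088) L162253
theorem L162259 : sm ge N14464 = N13596 := ded_37_1 (flp_h L154092) (flp_e L154090) L162253
theorem L162261 : sm gd N13596 = N14465 := rfl
theorem L162263 : sm ga N14465 = N13655 := ded_11_1 (flp_d L154535) (flp_a L154094) L162261
theorem L162265 : sm gh N14465 = N14088 := ded_33_2 (flp_d L158862) (flp_h L150213) (flp_d L145203) L154092 L162261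
theorem L162267 : sm gh N13597 = N14466 := rfl
theorem L162269 : sm ga N14466 = N13657 := ded_15_1 (flp_h L154547) (flp_a L154100) L162267
theorem L162271 : sm gb N14466 = N13624 := ded_22_1 (flp_h L154344) (flp_b L154102) L162267
theorem L162273 : sm gf N14466 = N13598 := ded_40_1 (flp_h L154108) (flp_f L154106) L162267
theorem L162275 : sm gd N13598 = N14467 := rfl
theorem L162277 : sm ga N14467 = N13658 := ded_11_1 (flp_d L154553) (flp_a L154110) L162275
theorem L162279 : sm gb N14467 = N13625 := ded_18_1 (flp_d L154350) (flp_b L154112) L162275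
theorem L162281 : sm gh N14467 = N13608 := ded_33_2 (flp_d L154206) (flp_h L145284) (flp_d L145219) L154108 L162275
theorem L162283 : sm ge N13599 = N14468 := rfl
theorem L162285 : sm ga N14468 = N13659 := ded_12_1 (flp_e L154559) (flp_a L154118) L162283
theorem L162287 : sm gb N14468 = N14468 := ded_19_1 (flp_e L162283) L154120 L162283
theorem L162288 : sm gd N14468 = N13609 := ded_30_1 (flp_e L154213) L145298 (flp_e L145244) (flp_d L154121) L162283
theorem L162290 : sm gf N14468 = N14098 := ded_35_2 (flp_e L158960) (flp_f L150297) (flp_e L145234) L154116 L162283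
theorem L162292 : sm gg N13599 = N14469 := rfl
theorem L162294 : sm ga N14469 = N13660 := ded_14_1 (flp_g L154567) (flp_a L154118) L162292
theorem L162296 : sm gb N14469 = N14469 := ded_21_1 (flp_g L162292) L154120 L162292
theorem L162297 : sm gd N14469 = N13602 := ded_32_1 (flp_g L154140) (flp_d L154121) L162292
theorem L162299 : sm gh N13599 = N14470 := rfl
theorem L162301 : sm ga N14470 = N13661 := ded_15_1 (flp_h L154573) (flp_a L154118) L162299
theorem L162303 : sm gb N14470 = N14470 := ded_22_1 (flp_h L162299) L154120 L162299
theorem L162304 : sm gf N14470 = N13600 := ded_40_1 (flp_h L154123) L154116 L162299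
theorem L162306 : sm gd N14470 = N14470 := ded_33_1 (flp_h L162299) L154121 L145243 (flp_d L154121) L162299
theorem L162307 : sm gi N13599 = N14471 := rfl
theorem L162309 : sm ga N14471 = N13662 := ded_16_1 (flp_i L154580) (flp_a L154118) L162307
theorem L162311 : sm gb N14471 = N14471 := ded_23_1 (flp_i L162307) L154120 L162307
theorem L162312 : sm gd N14471 = N13603 := ded_34_1 (flp_i L154150) (flp_d L154121) L162307
theorem L162314 : sm gf N14471 = N13601 := ded_41_1 (flp_i L154131) L154116 L162307
theorem L162316 : sm gi N13600 = N14472 := rfl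
theorem L162318 : sm ga N14472 = N13663 := ded_16_1 (flp_i L154588) (flp_a L154125) L162316
theorem L162320 : sm gb N14472 = N14472 := ded_23_1 (flp_i L162316) L154127 L162316
theorem L162321 : sm gd N14472 = N14472 := ded_34_1 (flp_i L162316) L154130 L162316
theorem L162322 : sm ge N14472 = N14102 := ded_38_1 (flp_i L158998) (flp_e L154128) L162316
theorem L162324 : sm gh N13601 = N14473 := rfl
theorem L162326 : sm ga N14473 = N13664 := ded_15_1 (flp_h L154595) (flp_a L154133) L162324
theorem L162328 : sm gb N14473 = N14473 := ded_22_1 (flp_h L162324) L154135 L162324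
theorem L162329 : sm ge N14473 = N14103 := ded_37_1 (flp_h L159005) (flp_e L154138) L162324
theorem L162331 : sm gi N13602 = N14474 := rfl
theorem L162333 : sm ga N14474 = N13665 := ded_16_1 (flp_i L154601) (flp_a L154142) L162331
theorem L162335 : sm gb N14474 = N14474 := ded_23_1 (flp_i L162331) L154144 L162331
theorem L162336 : sm gc N14474 = N13606 := ded_29_1 (flp_i L154185) (flp_c L154145) L162331
theorem L162338 : sm ge N14474 = N13613 := ded_38_1 (flp_i L154253) (flp_e L154147) L162331
theorem L162340 : sm gg N14474 = N13603 := ded_43_1 (flp_i L154150) L154140 L162331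
theorem L162342 : sm gh N13603 = N14475 := rfl
theorem L162344 : sm ga N14475 = N13666 := ded_15_1 (flp_h L154611) (flp_a L154152) L162342
theorem L162346 : sm gb N14475 = N14475 := ded_22_1 (flp_h L162342) L154154 L162342
theorem L162347 : sm gc N14475 = N13607 := ded_28_1 (flp_h L154195) (flp_c L154155) L162342
theorem L162349 : sm ge N14475 = N13614 := ded_37_1 (flp_h L154263) (flp_e L154157) L162342
theorem L162351 : sm gf N14475 = N13604 := ded_40_1 (flp_h L154161) (flp_f L154159) L162342
theorem L162353 : sm gi N14475 = N14475 := ded_44_2 (flp_h L162342) (flp_i L154150) L145243 L154150 L162342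
theorem L162354 : sm gd N13604 = N14476 := rfl
theorem L162356 : sm ga N14476 = N13667 := ded_11_1 (flp_d L154622) (flp_a L154163) L162354
theorem L162358 : sm gb N14476 = N14476 := ded_18_1 (flp_d L162354) L154165 L162354
theorem L162359 : sm gi N14476 = N14476 := ded_34_2 (flp_d L162354) L154170 L162354
theorem L162360 : sm ge N13605 = N14477 := rfl
theorem L162362 : sm ga N14477 = N13668 := ded_12_1 (flp_e L154627) (flp_a L154173) L162360
theorem L162364 : sm gb N14477 = N14477 := ded_19_1 (flp_e L162360) L154175 L162360
theorem L162365 : sm gc N14477 = N14406 := ded_25_1 L161757 (flp_c L154181) L162360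
theorem L162367 : sm gg N14477 = N14411 := ded_36_2 L161803 (flp_g L154178) L162360
theorem L162369 : sm gh N14477 = N14107 := ded_37_2 (flp_e L159043) (flp_h L154183) L162360
theorem L162371 : sm gi N14477 = N14477 := ded_38_2 (flp_e L162360) L154180 L162360
theorem L162372 : sm gf N14477 = N13920 := ded_35_2 (flp_e L157119) L148283 (flp_e L145365) (flp_f L154176) L162360
theorem L162374 : sm gh N13606 = N14478 := rfl
theorem L162376 : sm ga N14478 = N13669 := ded_15_1 (flp_h L154634) (flp_a L154187) L162374
theorem L162378 : sm gb N14478 = N13626 := ded_22_1 (flp_h L154356) (flp_b L154189) L162374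
theorem L162380 : sm ge N14478 = N13615 := ded_37_1 (flp_h L154275) (flp_e L154191) L162374
theorem L162382 : sm gg N14478 = N13607 := ded_42_1 (flp_h L154195) (flp_g L154193) L162374
theorem L162384 : sm gi N14478 = N14478 := ded_44_2 (flp_h L162374) (flp_i L154185) L145273 L154185 L162374
theorem L162385 : sm gd N13607 = N14479 := rfl
theorem L162387 : sm ga N14479 = N13670 := ded_11_1 (flp_d L154643) (flp_a L154197) L162385
theorem L162389 : sm gb N14479 = N13627 := ded_18_1 (flp_d L154366) (flp_b L154199) L162385
theorem L162391 : sm gf N14479 = N13608 := ded_31_2 (flp_d L154206) (flp_f L154203) L162385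
theorem L162393 : sm gi N14479 = N14479 := ded_34_2 (flp_d L162385) L154205 L162385
theorem L162394 : sm gc N13608 = N14480 := rfl
theorem L162396 : sm ga N14480 = N13671 := ded_10_1 (flp_c L154650) (flp_a L154208) L162394
theorem L162398 : sm gi N14480 = N14480 := ded_29_2 (flp_c L162394) L154212 L162394
theorem L162399 : sm gi N13609 = N14481 := rfl
theorem L162401 : sm ga N14481 = N13672 := ded_16_1 (flp_i L154653) (flp_a L154215) L162399
theorem L162403 : sm gb N14481 = N14481 := ded_23_1 (flp_i L162399) L154217 L162399
theorem L162404 : sm gc N14481 = N14280 := ded_29_1 L160535 L158274 L162399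
theorem L162406 : sm ge N14481 = N13612 := ded_38_1 (flp_i L154240) L154213 L162399
theorem L162408 : sm gf N14481 = N14111 := ded_41_1 (flp_i L159090) (flp_f L154218) L162399
theorem L162410 : sm gh N14481 = N13924 := ded_44_1 (flp_i L157150) L153601 (flp_i L161625) (flp_h L161629) L162399
theorem L162412 : sm gi N13610 = N14482 := rfl
theorem L162414 : sm ga N14482 = N13673 := ded_16_1 (flp_i L154661) (flp_a L154222) L162412
theorem L162416 : sm gb N14482 = N14482 := ded_23_1 (flp_i L162412) L154224 L162412
theorem L162417 : sm gc N14482 = N14281 := ded_29_1 L160546 L158047 L162412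
theorem L162419 : sm gd N14482 = N13613 := ded_34_1 (flp_i L154253) (flp_d L154225) L162412
theorem L162421 : sm gf N14482 = N14482 := ded_41_1 (flp_i L162412) L154227 L162412
theorem L162422 : sm gg N14482 = N13612 := ded_43_1 (flp_i L154240) L154220 L162412
theorem L162424 : sm gh N14482 = N13925 := ded_44_1 (flp_i L157157) (flp_h L153590) (flp_i L161606) (flp_h L161612) L162412
theorem L162426 : sm gh N13613 = N14483 := rfl
theorem L162428 : sm ga N14483 = N13676 := ded_15_1 (flp_h L154697) (flp_a L154255) L162426
theorem L162430 : sm gb N14483 = N14483 := ded_22_1 (flp_h L162426) L154257 L162426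
theorem L162431 : sm gc N14483 = N13615 := ded_28_1 (flp_h L154275) (flp_c L154258) L162426
theorem L162433 : sm gf N14483 = N14483 := ded_40_1 (flp_h L162426) L154260 L162426
theorem L162434 : sm gg N14483 = N13614 := ded_42_1 (flp_h L154263) (flp_g L154261) L162426
theorem L162436 : sm gd N14483 = N13926 := ded_33_1 (flp_h L157167) (flp_d L157162) (flp_h L162424) L162419 L162426
theorem L162438 : sm gi N14483 = N14483 := ded_44_2 (flp_h L162426) (flp_i L154253) L145334 L154253 L162426
theorem L162439 : sm gh N13617 = N14484 := rfl
theorem L162441 : sm gb N14484 = N13618 := ded_22_1 (flp_h L154303) (flp_b L154300) L162439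
theorem L162443 : sm gi N14484 = N13621 := ded_44_2 (flp_h L154326) (flp_i L145429) (flp_h L145402) L154298 L162439
theorem L162445 : sm gd N13618 = N14485 := rfl
theorem L162447 : sm ga N14485 = N13631 := ded_11_1 (flp_d L154390) (flp_a L154305) L162445
theorem L162449 : sm gi N14485 = N13623 := ded_34_2 (flp_d L154338) (flp_i L154309) L162445
theorem L162451 : sm gh N14485 = N14485 := ded_33_2 (flp_d L162445) (flp_h L154303) L145410 L154303 L162445
theorem L162452 : sm gd N13619 = N14486 := rfl
theorem L162454 : sm ga N14486 = N13632 := ded_11_1 (flp_d L154395) (flp_a L154313) L162452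
theorem L162456 : sm gi N14486 = N13625 := ded_34_2 (flp_d L154350) (flp_i L154317) L162452
theorem L162458 : sm gh N14486 = N14486 := ded_33_2 (flp_d L162452) (flp_h L154311) L145415 L154311 L162452
theorem L162459 : sm gh N13620 = N14487 := rfl
theorem L162461 : sm gb N14487 = N13622 := ded_22_1 (flp_h L154330) (flp_b L154321) L162459
theorem L162463 : sm ge N14487 = N13621 := ded_37_1 (flp_h L154326) (flp_e L154324) L162459
theorem L162465 : sm gd N13621 = N14488 := rfl
theorem L162467 : sm gb N14488 = N13623 := ded_18_1 (flp_d L154338) (flp_b L154328) L162465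
theorem L162469 : sm gh N14488 = N13629 := ded_33_2 (flp_d L154379) (flp_h L145515) (flp_d L145433) L154326 L162465
theorem L162471 : sm gd N13622 = N14489 := rfl
theorem L162473 : sm ga N14489 = N13633 := ded_11_1 (flp_d L154402) (flp_a L154332) L162471
theorem L162475 : sm gh N14489 = N14489 := ded_33_2 (flp_d L162471) (flp_h L154330) L145441 L154330 L162471
theorem L162476 : sm ge N13623 = N14490 := rfl
theorem L162478 : sm ga N14490 = N13634 := ded_12_1 (flp_e L154405) (flp_a L154340) L162476
theorem L162480 : sm gh N14490 = N13630 := ded_37_2 (flp_e L154384) (flp_h L154342) L162476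
theorem L162482 : sm gd N13624 = N14491 := rfl
theorem L162484 : sm ga N14491 = N13635 := ded_11_1 (flp_d L154409) (flp_a L154346) L162482
theorem L162486 : sm gf N14491 = N13625 := ded_31_2 (flp_d L154350) (flp_f L154348) L162482
theorem L162488 : sm gh N14491 = N13627 := ded_33_2 (flp_d L154366) (flp_h L145473) (flp_d L145454) L154344 L162482
theorem L162490 : sm gc N13625 = N14492 := rfl
theorem L162492 : sm ga N14492 = N13636 := ded_10_1 (flp_c L154417) (flp_a L154352) L162490
theorem L162494 : sm gh N14492 = N13628 := ded_28_2 (flp_c L154373) (flp_h L154354) L162490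
theorem L162496 : sm gb N13628 = N14493 := rfl
theorem L162498 : sm gd N14493 = N14493 := ded_18_2 (flp_b L162496) L154378 L162496
theorem L162499 : sm gi N14493 = N14493 := ded_23_2 (flp_b L162496) L154377 L162496
theorem L162500 : sm gc N13629 = N14494 := rfl
theorem L162502 : sm gi N14494 = N14494 := ded_29_2 (flp_c L162500) L154383 L162500
theorem L162503 : sm gd N14494 = N14142 := ded_24_2 (flp_c L159372) (flp_d L150802) (flp_c L145519) L154379 L162500
theorem L162505 : sm ge N13629 = N14495 := rfl
theorem L162507 : sm gb N14495 = N13630 := ded_19_1 (flp_e L154384) (flp_b L154381) L162505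
theorem L162509 : sm gi N14495 = N14495 := ded_38_2 (flp_e L162505) L154383 L162505
theorem L162510 : sm gd N14495 = N14495 := ded_30_1 (flp_e L162505) (flp_d L154379) L145521 L154379 L162505
theorem L162511 : sm gf N13630 = N14496 := rfl
theorem L162513 : sm ga N14496 = N13637 := ded_13_1 L154424 (flp_a L154386) L162511
theorem L162515 : sm gc N14496 = N13696 := ded_26_1 L156104 L156097 L162511
theorem L162517 : sm gd N14496 = N14496 := ded_31_1 (flp_f L162511) L154389 L162511
theorem L162518 : sm gi N14496 = N14496 := ded_41_2 (flp_f L162511) L154388 L162511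
theorem L162519 : sm ge N13631 = N14497 := rfl
theorem L162521 : sm gh N14497 = N14497 := ded_37_2 (flp_e L162519) L154394 L162519
theorem L162522 : sm gi N14497 = N13634 := ded_38_2 (flp_e L154405) (flp_i L154392) L162519
theorem L162524 : sm gc N13632 = N14498 := rfl
theorem L162526 : sm gh N14498 = N14498 := ded_28_2 (flp_c L162524) L154401 L162524
theorem L162527 : sm gi N14498 = N13636 := ded_29_2 (flp_c L154417) (flp_i L154399) L162524
theorem L162529 : sm gc N13633 = N14499 := rfl
theorem L162531 : sm gh N14499 = N14499 := ded_28_2 (flp_c L162529) L154404 L162529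
theorem L162532 : sm gd N14499 = N13636 := ded_24_2 (flp_c L154417) (flp_d L145558) (flp_c L145544) L154402 L162529
theorem L162534 : sm ge N13633 = N14500 := rfl
theorem L162536 : sm gh N14500 = N14500 := ded_37_2 (flp_e L162534) L154404 L162534
theorem L162537 : sm gd N14500 = N13634 := ded_30_1 (flp_e L154405) (flp_d L145548) (flp_e L145546) L154402 L162534
theorem L162539 : sm gf N13634 = N14501 := rfl
theorem L162541 : sm gb N14501 = N13636 := ded_20_1 (flp_f L159441) L159433 L162539
theorem L162543 : sm gc N14501 = N13695 := ded_26_1 L156387 L156379 L162539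
theorem L162545 : sm gh N14501 = N13637 := ded_40_2 L154424 (flp_h L154407) L162539
theorem L162547 : sm gd N13638 = N14502 := rfl
theorem L162549 : sm gc N14502 = N14502 := ded_24_1 (flp_d L162547) L154431 L145601 (flp_c L154431) L162547
theorem L162550 : sm ge N14502 = N13643 := ded_30_2 (flp_d L154463) (flp_e L145608) (flp_d L145593) L154429 L162547
theorem L162552 : sm gf N13638 = N14503 := rfl
theorem L162554 : sm gb N14503 = N14430 := ded_20_1 L161956 L159830 L162552
theorem L162556 : sm gc N14503 = N13640 := ded_26_1 (flp_f L154441) (flp_c L154431) L162552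
theorem L162558 : sm gh N14503 = N14200 := ded_40_2 (flp_f L159898) (flp_h L154433) L162552
theorem L162560 : sm ge N14503 = N14429 := ded_35_1 L161948 (flp_e L159489) L151010 L154429 L162552
theorem L162562 : sm gi N13638 = N14504 := rfl
theorem L162564 : sm gc N14504 = N13641 := ded_29_1 (flp_i L154450) (flp_c L154431) L162562
theorem L162566 : sm ge N14504 = N13639 := ded_38_1 (flp_i L154435) L154429 L162562
theorem L162568 : sm gh N13639 = N14505 := rfl
theorem L162570 : sm gc N14505 = N13642 := ded_28_1 (flp_h L154457) (flp_c L154437) L162568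
theorem L162572 : sm gi N14505 = N14202 := ded_44_2 (flp_h L159908) (flp_i L151386) (flp_h L145591) L154435 L162568
theorem L162574 : sm gg N13640 = N14506 := rfl
theorem L162576 : sm gb N14506 = N13697 := ded_21_1 (flp_g L154858) (flp_b L154443) L162574
theorem L162578 : sm gd N14506 = N14506 := ded_32_1 (flp_g L162574) L154445 L162574
theorem L162579 : sm ge N14506 = N14445 := ded_36_1 L162111 (flp_e L154448) L162574
theorem L162581 : sm gh N14506 = N14203 := ded_42_2 (flp_g L159912) (flp_h L154446) L162574
theorem L162583 : sm gi N13640 = N14507 := rfl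
theorem L162585 : sm gb N14507 = N13698 := ded_23_1 (flp_i L154868) (flp_b L154443) L162583
theorem L162587 : sm gd N14507 = N14507 := ded_34_1 (flp_i L162583) L154445 L162583
theorem L162588 : sm ge N14507 = N14372 := ded_38_1 L161375 (flp_e L154448) L162583
theorem L162590 : sm gf N14507 = N13641 := ded_41_1 (flp_i L154450) L154441 L162583
theorem L162592 : sm gh N13641 = N14508 := rfl
theorem L162594 : sm gb N14508 = N13699 := ded_22_1 (flp_h L154878) (flp_b L154452) L162592
theorem L162596 : sm ge N14508 = N13642 := ded_37_1 (flp_h L154457) (flp_e L154455) L162592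
theorem L162598 : sm gi N14508 = N14205 := ded_44_2 (flp_h L159926) (flp_i L151398) (flp_h L145599) L154450 L162592
theorem L162600 : sm gf N13643 = N14509 := rfl
theorem L162602 : sm gc N14509 = N14509 := ded_26_1 (flp_f L162600) L154465 L162600
theorem L162603 : sm gd N14509 = N13644 := ded_31_1 (flp_f L154466) L154463 L162600
theorem L162605 : sm gh N13643 = N14510 := rfl
theorem L162607 : sm gc N14510 = N14510 := ded_28_1 (flp_h L162605) L154465 L162605
theorem L162608 : sm gd N14510 = N13650 := ded_33_1 (flp_h L154505) (flp_d L145638) (flp_h L145612) L154463 L162605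
theorem L162610 : sm gi N13643 = N14511 := rfl
theorem L162612 : sm gc N14511 = N14511 := ded_29_1 (flp_i L162610) L154465 L162610
theorem L162613 : sm gd N14511 = N13645 := ded_34_1 (flp_i L154472) L154463 L162610
theorem L162615 : sm gi N13644 = N14512 := rfl
theorem L162617 : sm gc N14512 = N13647 := ded_29_1 (flp_i L154484) (flp_c L154468) L162615
theorem L162619 : sm gf N14512 = N13645 := ded_41_1 (flp_i L154472) L154466 L162615
theorem L162621 : sm gh N13645 = N14513 := rfl
theorem L162623 : sm gc N14513 = N13648 := ded_28_1 (flp_h L154491) (flp_c L154474) L162621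
theorem L162625 : sm ge N14513 = N13646 := ded_37_1 (flp_h L154478) (flp_e L154476) L162621
theorem L162627 : sm gi N14513 = N13654 := ded_44_2 (flp_h L154529) (flp_i L145648) (flp_h L145612) L154472 L162621
theorem L162629 : sm gd N13646 = N14514 := rfl
theorem L162631 : sm gi N14514 = N13655 := ded_34_2 (flp_d L154535) (flp_i L154482) L162629
theorem L162633 : sm gh N13647 = N14515 := rfl
theorem L162635 : sm gb N14515 = N13681 := ded_22_1 (flp_h L154746) (flp_b L154486) L162633
theorem L162637 : sm gf N14515 = N13648 := ded_40_1 (flp_h L154491) (flp_f L154489) L162633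
theorem L162639 : sm gi N14515 = N13657 := ded_44_2 (flp_h L154547) (flp_i L145664) (flp_h L145623) L154484 L162633
theorem L162641 : sm gd N13648 = N14516 := rfl
theorem L162643 : sm gb N14516 = N13682 := ded_18_1 (flp_d L154754) (flp_b L154493) L162641
theorem L162645 : sm gi N14516 = N13658 := ded_34_2 (flp_d L154553) (flp_i L154497) L162641
theorem L162647 : sm gh N14516 = N14516 := ded_33_2 (flp_d L162641) (flp_h L154491) L145629 L154491 L162641
theorem L162648 : sm ge N13649 = N14517 := rfl
theorem L162650 : sm gc N14517 = N13659 := ded_25_1 (flp_e L154559) (flp_c L154501) L162648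
theorem L162652 : sm gf N14517 = N14244 := ded_35_2 (flp_e L160245) (flp_f L151628) (flp_e L145642) L154499 L162648
theorem L162654 : sm gg N13649 = N14518 := rfl
theorem L162656 : sm gc N14518 = N13660 := ded_27_1 (flp_g L154567) (flp_c L154501) L162654
theorem L162658 : sm gd N14518 = N13652 := ded_32_1 (flp_g L154519) (flp_d L154503) L162654
theorem L162660 : sm gh N13649 = N14519 := rfl
theorem L162662 : sm gc N14519 = N13661 := ded_28_1 (flp_h L154573) (flp_c L154501) L162660
theorem L162664 : sm gf N14519 = N13650 := ded_40_1 (flp_h L154505) L154499 L162660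
theorem L162666 : sm gi N13649 = N14520 := rfl
theorem L162668 : sm gc N14520 = N13662 := ded_29_1 (flp_i L154580) (flp_c L154501) L162666
theorem L162670 : sm gd N14520 = N13653 := ded_34_1 (flp_i L154523) (flp_d L154503) L162666
theorem L162672 : sm gf N14520 = N13651 := ded_41_1 (flp_i L154511) L154499 L162666
theorem L162674 : sm gi N13650 = N14521 := rfl
theorem L162676 : sm gc N14521 = N13663 := ded_29_1 (flp_i L154588) (flp_c L154507) L162674
theorem L162678 : sm ge N14521 = N14248 := ded_38_1 (flp_i L160275) (flp_e L154509) L162674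
theorem L162680 : sm gh N13651 = N14522 := rfl
theorem L162682 : sm gc N14522 = N13664 := ded_28_1 (flp_h L154595) (flp_c L154513) L162680
theorem L162684 : sm ge N14522 = N14249 := ded_37_1 (flp_h L160279) (flp_e L154517) L162680
theorem L162686 : sm gi N13652 = N14523 := rfl
theorem L162688 : sm gc N14523 = N13656 := ded_29_1 (flp_i L154539) (flp_c L154521) L162686
theorem L162690 : sm gg N14523 = N13653 := ded_43_1 (flp_i L154523) L154519 L162686
theorem L162692 : sm gh N13653 = N14524 := rfl
theorem L162694 : sm gc N14524 = N13657 := ded_28_1 (flp_h L154547) (flp_c L154525) L162692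
theorem L162696 : sm gf N14524 = N13654 := ded_40_1 (flp_h L154529) (flp_f L154527) L162692
theorem L162698 : sm gd N13654 = N14525 := rfl
theorem L162700 : sm ge N13655 = N14526 := rfl
theorem L162702 : sm gh N14526 = N14253 := ded_37_2 (flp_e L160297) (flp_h L154537) L162700
theorem L162704 : sm gh N13656 = N14527 := rfl
theorem L162706 : sm gb N14527 = N13683 := ded_22_1 (flp_h L154761) (flp_b L154541) L162704
theorem L162708 : sm gg N14527 = N13657 := ded_42_1 (flp_h L154547) (flp_g L154545) L162704
theorem L162710 : sm gd N13657 = N14528 := rfl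
theorem L162712 : sm gb N14528 = N13684 := ded_18_1 (flp_d L154767) (flp_b L154549) L162710
theorem L162714 : sm gf N14528 = N13658 := ded_31_2 (flp_d L154553) (flp_f L154551) L162710
theorem L162716 : sm gh N14528 = N13670 := ded_33_2 (flp_d L154643) (flp_h L145744) (flp_d L145668) L154547 L162710
theorem L162718 : sm gc N13658 = N14529 := rfl
theorem L162720 : sm gh N14529 = N13671 := ded_28_2 (flp_c L154650) (flp_h L154557) L162718
theorem L162722 : sm gi N13659 = N14530 := rfl
theorem L162724 : sm gb N14530 = N13700 := ded_23_1 (flp_i L154885) (flp_b L154561) L162722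
theorem L162726 : sm gd N14530 = N13672 := ded_34_1 (flp_i L154653) (flp_d L154563) L162722
theorem L162728 : sm ge N14530 = N13662 := ded_38_1 (flp_i L154580) L154559 L162722
theorem L162730 : sm gf N14530 = N14268 := ded_41_1 (flp_i L160431) (flp_f L154565) L162722
theorem L162732 : sm gi N13660 = N14531 := rfl
theorem L162734 : sm gb N14531 = N13701 := ded_23_1 (flp_i L154894) (flp_b L154569) L162732
theorem L162736 : sm gd N14531 = N13665 := ded_34_1 (flp_i L154601) (flp_d L154571) L162732
theorem L162738 : sm gg N14531 = N13662 := ded_43_1 (flp_i L154580) L154567 L162732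
theorem L162740 : sm gi N13661 = N14532 := rfl
theorem L162742 : sm gb N14532 = N13702 := ded_23_1 (flp_i L154901) (flp_b L154575) L162740
theorem L162744 : sm gd N14532 = N14532 := ded_34_1 (flp_i L162740) L154579 L162740
theorem L162745 : sm gf N14532 = N13663 := ded_41_1 (flp_i L154588) (flp_f L154577) L162740
theorem L162747 : sm gh N13662 = N14533 := rfl
theorem L162749 : sm gb N14533 = N13703 := ded_22_1 (flp_h L154907) (flp_b L154582) L162747
theorem L162751 : sm gf N14533 = N13664 := ded_40_1 (flp_h L154595) (flp_f L154586) L162747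
theorem L162753 : sm gh N13663 = N14534 := rfl
theorem L162755 : sm gb N14534 = N13704 := ded_22_1 (flp_h L154912) (flp_b L154590) L162753
theorem L162757 : sm ge N14534 = N14272 := ded_37_1 (flp_h L160465) (flp_e L154593) L162753
theorem L162759 : sm gi N14534 = N13664 := ded_44_2 (flp_h L154595) (flp_i L145691) L145684 L154588 L162753
theorem L162761 : sm gd N13664 = N14535 := rfl
theorem L162763 : sm gb N14535 = N13705 := ded_18_1 (flp_d L154919) (flp_b L154597) L162761
theorem L162765 : sm gh N14535 = N13667 := ded_33_2 (flp_d L154622) (flp_h L145718) (flp_d L145695) L154595 L162761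
theorem L162767 : sm gh N13665 = N14536 := rfl
theorem L162769 : sm gb N14536 = N13706 := ded_22_1 (flp_h L154924) (flp_b L154603) L162767
theorem L162771 : sm gc N14536 = N13669 := ded_28_1 (flp_h L154634) (flp_c L154605) L162767
theorem L162773 : sm ge N14536 = N13676 := ded_37_1 (flp_h L154697) (flp_e L154607) L162767
theorem L162775 : sm gg N14536 = N13666 := ded_42_1 (flp_h L154611) (flp_g L154609) L162767
theorem L162777 : sm gi N14536 = N14536 := ded_44_2 (flp_h L162767) (flp_i L154601) L145707 L154601 L162767
theorem L162778 : sm gd N13666 = N14537 := rfl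
theorem L162780 : sm gb N14537 = N13707 := ded_18_1 (flp_d L154934) (flp_b L154613) L162778
theorem L162782 : sm gf N14537 = N13667 := ded_31_2 (flp_d L154622) (flp_f L154619) L162778
theorem L162784 : sm gi N14537 = N14537 := ded_34_2 (flp_d L162778) L154621 L162778
theorem L162785 : sm gc N13667 = N14538 := rfl
theorem L162787 : sm gi N14538 = N14538 := ded_29_2 (flp_c L162785) L154626 L162785
theorem L162788 : sm gd N14538 = N13671 := ded_24_2 (flp_c L154650) (flp_d L145753) (flp_c L145722) L154622 L162785
theorem L162790 : sm ge N13667 = N14539 := rfl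
theorem L162792 : sm gb N14539 = N13709 := ded_19_1 (flp_e L154946) (flp_b L154624) L162790
theorem L162794 : sm gi N14539 = N14539 := ded_38_2 (flp_e L162790) L154626 L162790
theorem L162795 : sm gd N14539 = N13668 := ded_30_1 (flp_e L154627) (flp_d L145727) (flp_e L145724) L154622 L162790
theorem L162797 : sm gd N13669 = N14540 := rfl
theorem L162799 : sm gb N14540 = N13686 := ded_18_1 (flp_d L154781) (flp_b L154636) L162797
theorem L162801 : sm gg N14540 = N13670 := ded_32_2 (flp_d L154643) (flp_g L154640) L162797
theorem L162803 : sm gi N14540 = N14540 := ded_34_2 (flp_d L162797) L154642 L162797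
theorem L162804 : sm gc N13670 = N14541 := rfl
theorem L162806 : sm gf N14541 = N13671 := ded_26_2 (flp_c L154650) (flp_f L154647) L162804
theorem L162808 : sm gi N14541 = N14541 := ded_29_2 (flp_c L162804) L154649 L162804
theorem L162809 : sm ge N13670 = N14542 := rfl
theorem L162811 : sm gb N14542 = N13688 := ded_19_1 (flp_e L154797) (flp_b L154645) L162809
theorem L162813 : sm gi N14542 = N14542 := ded_38_2 (flp_e L162809) L154649 L162809
theorem L162814 : sm gd N14542 = N13680 := ded_30_1 (flp_e L154741) (flp_d L145869) (flp_e L145748) L154643 L162809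
theorem L162816 : sm gb N13671 = N14543 := rfl
theorem L162818 : sm gi N14543 = N14543 := ded_23_2 (flp_b L162816) L154652 L162816
theorem L162819 : sm gc N14543 = N13689 := ded_17_2 (flp_b L154804) (flp_c L145943) (flp_b L145755) L154650 L162816
theorem L162821 : sm gh N13672 = N14544 := rfl
theorem L162823 : sm ga N14544 = N13924 := ded_15_1 (flp_h L162410) L162401 L162821
theorem L162825 : sm gb N14544 = N13714 := ded_22_1 (flp_h L154981) (flp_b L154655) L162821
theorem L162827 : sm gc N14544 = N14111 := ded_28_1 (flp_h L159735) L159729 L162821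
theorem L162829 : sm ge N14544 = N13675 := ded_37_1 (flp_h L154683) (flp_e L154657) L162821
theorem L162831 : sm gf N14544 = N14280 := ded_40_1 (flp_h L160527) (flp_f L154659) L162821
theorem L162833 : sm gi N14544 = N13772 := ded_44_2 L161570 L161566 (flp_h L153640) L154653 L162821
theorem L162835 : sm gh N13673 = N14545 := rfl
theorem L162837 : sm ga N14545 = N13925 := ded_15_1 (flp_h L162424) L162414 L162835
theorem L162839 : sm gb N14545 = N13715 := ded_22_1 (flp_h L154989) (flp_b L154663) L162835
theorem L162841 : sm gc N14545 = N14112 := ded_28_1 (flp_h L159763) L159756 L162835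
theorem L162843 : sm gf N14545 = N14545 := ded_40_1 (flp_h L162835) L154667 L162835
theorem L162844 : sm gg N14545 = N13675 := ded_42_1 (flp_h L154683) (flp_g L154668) L162835
theorem L162846 : sm gi N14545 = N13773 := ded_44_2 L161550 L161546 (flp_h L153628) L154661 L162835
theorem L162848 : sm gd N13774 = N14545 := ded_11_0 L162837 L157162 (flp_a L155597)
theorem L162850 : sm gd N13676 = N14546 := rfl
theorem L162852 : sm ga N14546 = N13926 := ded_11_1 (flp_d L162436) L162428 L162850
theorem L162854 : sm gb N14546 = N13718 := ded_18_1 (flp_d L155021) (flp_b L154699) L162850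
theorem L162856 : sm gf N14546 = N14546 := ded_31_2 (flp_d L162850) L154703 L162850
theorem L162857 : sm gg N14546 = N13677 := ded_32_2 (flp_d L154707) (flp_g L154704) L162850
theorem L162859 : sm gi N14546 = N14546 := ded_34_2 (flp_d L162850) L154706 L162850
theorem L162860 : sm gh N14546 = N13774 := ded_33_2 L162848 (flp_h L162835) L154665 L154697 L162850
theorem L162862 : sm gc N13775 = N14546 := ded_10_0 L162852 L157170 (flp_a L155606)
theorem L162864 : sm ge N13677 = N14547 := rfl
theorem L162866 : sm ga N14547 = N13918 := ded_12_1 L157110 (flp_a L154709) L162864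
theorem L162868 : sm gb N14547 = N13720 := ded_19_1 (flp_e L155048) (flp_b L154711) L162864
theorem L162870 : sm gc N14547 = N13770 := ded_25_1 L155564 L154718 L162864
theorem L162872 : sm gh N14547 = N13767 := ded_37_2 L155531 (flp_h L154716) L162864
theorem L162874 : sm gi N14547 = N14547 := ded_38_2 (flp_e L162864) L154715 L162864
theorem L162875 : sm gf N14547 = N13768 := ded_35_2 L155541 L146892 L145845 (flp_f L154713) L162864
theorem L162877 : sm gc N13678 = N14548 := rfl
theorem L162879 : sm ga N14548 = N13728 := ded_10_1 (flp_c L158089) L158085 L162877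
theorem L162881 : sm ge N14548 = N13815 := ded_25_2 (flp_c L158360) L158362 L162877
theorem L162883 : sm gf N14548 = N14548 := ded_26_2 (flp_c L162877) L154724 L162877
theorem L162884 : sm gg N14548 = N13679 := ded_27_2 (flp_c L154728) (flp_g L154725) L162877
theorem L162886 : sm gh N14548 = N13727 := ded_28_2 (flp_c L158072) (flp_h L158081) L162877
theorem L162888 : sm gi N14548 = N14548 := ded_29_2 (flp_c L162877) L154727 L162877
theorem L162889 : sm gb N14548 = N13729 := ded_17_1 L155149 (flp_b L149536) L149538 (flp_b L154722) L162877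
theorem L162891 : sm gd N14548 = N13775 := ded_24_2 L162862 (flp_d L162850) L154701 L154720 L162877
theorem L162893 : sm ge N13679 = N14549 := rfl
theorem L162895 : sm ga N14549 = N13813 := ded_12_1 L156057 (flp_a L154730) L162893
theorem L162897 : sm gb N14549 = N13810 := ded_19_1 (flp_e L156012) L154739 L162893
theorem L162899 : sm gc N14549 = N13680 := ded_25_1 (flp_e L154741) L154728 L162893
theorem L162901 : sm gg N14549 = N13815 := ded_36_2 (flp_e L162881) L162884 L162893
theorem L162903 : sm gh N14549 = N13812 := ded_37_2 L156047 (flp_h L154734) L162893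
theorem L162905 : sm gi N14549 = N14549 := ded_38_2 (flp_e L162893) L154736 L162893
theorem L162906 : sm gf N14549 = N14030 := ded_35_2 L158338 L154291 (flp_e L145880) (flp_f L154732) L162893
theorem L162908 : sm gd N13681 = N14550 := rfl
theorem L162910 : sm ga N14550 = N13691 := ded_11_1 (flp_d L154826) (flp_a L154748) L162908
theorem L162912 : sm gf N14550 = N13682 := ded_31_2 (flp_d L154754) (flp_f L154750) L162908
theorem L162914 : sm gi N14550 = N13684 := ded_34_2 (flp_d L154767) (flp_i L154752) L162908
theorem L162916 : sm gh N14550 = N14550 := ded_33_2 (flp_d L162908) (flp_h L154746) L145894 L154746 L162908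
theorem L162917 : sm gd N13683 = N14551 := rfl
theorem L162919 : sm ga N14551 = N13692 := ded_11_1 (flp_d L154833) (flp_a L154763) L162917
theorem L162921 : sm gg N14551 = N13684 := ded_32_2 (flp_d L154767) (flp_g L154765) L162917
theorem L162923 : sm gh N14551 = N13686 := ded_33_2 (flp_d L154781) (flp_h L145925) (flp_d L145909) L154761 L162917
theorem L162925 : sm gc N13684 = N14552 := rfl
theorem L162927 : sm ga N14552 = N13693 := ded_10_1 (flp_c L154839) (flp_a L154769) L162925
theorem L162929 : sm gf N14552 = N13685 := ded_26_2 (flp_c L154775) (flp_f L154771) L162925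
theorem L162931 : sm gh N14552 = N13687 := ded_28_2 (flp_c L154788) (flp_h L154773) L162925
theorem L162933 : sm ge N13684 = N14553 := rfl
theorem L162935 : sm ga N14553 = N13694 := ded_12_1 (flp_e L154845) (flp_a L154769) L162933
theorem L162937 : sm gh N14553 = N13688 := ded_37_2 (flp_e L154797) (flp_h L154773) L162933
theorem L162939 : sm gb N13685 = N14554 := rfl
theorem L162941 : sm gh N14554 = N13689 := ded_22_2 (flp_b L154804) (flp_h L154779) L162939
theorem L162943 : sm gb N13687 = N14555 := rfl
theorem L162945 : sm gd N14555 = N13721 := ded_18_2 (flp_b L155056) (flp_d L154795) L162943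
theorem L162947 : sm gf N14555 = N13689 := ded_20_2 (flp_b L154804) (flp_f L154792) L162943
theorem L162949 : sm gi N14555 = N14555 := ded_23_2 (flp_b L162943) L154794 L162943
theorem L162950 : sm ga N13689 = N14556 := rfl
theorem L162952 : sm gd N14556 = N13722 := ded_11_2 (flp_a L155061) (flp_d L154806) L162950
theorem L162954 : sm gi N14556 = N14556 := ded_16_2 (flp_a L162950) L154808 L162950
theorem L162955 : sm gb N14556 = N13696 := ded_9_2 (flp_a L154853) (flp_b L146028) (flp_a L145945) L154804 L162950
theorem L162957 : sm ga N13695 = N14557 := rfl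
theorem L162959 : sm gh N14557 = N13696 := ded_15_2 (flp_a L154853) (flp_h L154851) L162957
theorem L162961 : sm gi N13697 = N14558 := rfl
theorem L162963 : sm ga N14558 = N14558 := ded_16_1 (flp_i L162961) L154860 L162961
theorem L162964 : sm gc N14558 = N14361 := ded_29_1 L161277 (flp_c L154861) L162961
theorem L162966 : sm gd N14558 = N14558 := ded_34_1 (flp_i L162961) L154863 L162961
theorem L162967 : sm ge N14558 = N14360 := ded_38_1 L161268 (flp_e L154864) L162961
theorem L162969 : sm gg N14558 = N13698 := ded_43_1 (flp_i L154868) L154858 L162961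
theorem L162971 : sm gh N13698 = N14559 := rfl
theorem L162973 : sm ga N14559 = N14559 := ded_15_1 (flp_h L162971) L154870 L162971
theorem L162974 : sm gc N14559 = N14370 := ded_28_1 L161354 (flp_c L154871) L162971
theorem L162976 : sm ge N14559 = N14369 := ded_37_1 L161349 (flp_e L154874) L162971
theorem L162978 : sm gf N14559 = N13699 := ded_40_1 (flp_h L154878) (flp_f L154876) L162971
theorem L162980 : sm gi N14559 = N14322 := ded_44_2 (flp_h L160913) (flp_i L152403) (flp_h L146055) L154868 L162971
theorem L162982 : sm gd N13699 = N14560 := rfl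
theorem L162984 : sm ga N14560 = N14560 := ded_11_1 (flp_d L162982) L154880 L162982
theorem L162985 : sm gi N14560 = N14323 := ded_34_2 (flp_d L160918) (flp_i L154883) L162982
theorem L162987 : sm gh N14560 = N14560 := ded_33_2 (flp_d L162982) (flp_h L154878) L146062 L154878 L162982
theorem L162988 : sm gh N13700 = N14561 := rfl
theorem L162990 : sm ga N14561 = N14561 := ded_15_1 (flp_h L162988) L154887 L162988
theorem L162991 : sm ge N14561 = N13703 := ded_37_1 (flp_h L154907) (flp_e L154890) L162988
theorem L162993 : sm gf N14561 = N14364 := ded_40_1 (flp_h L161303) (flp_f L154892) L162988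
theorem L162995 : sm gh N13701 = N14562 := rfl
theorem L162997 : sm ga N14562 = N14562 := ded_15_1 (flp_h L162995) L154896 L162995
theorem L162998 : sm gg N14562 = N13703 := ded_42_1 (flp_h L154907) (flp_g L154899) L162995
theorem L163000 : sm gh N13702 = N14563 := rfl
theorem L163002 : sm ga N14563 = N14563 := ded_15_1 (flp_h L163000) L154903 L163000
theorem L163003 : sm gf N14563 = N13704 := ded_40_1 (flp_h L154912) (flp_f L154905) L163000
theorem L163005 : sm gi N14563 = N13703 := ded_44_2 (flp_h L154907) (flp_i L146088) L146082 L154901 L163000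
theorem L163007 : sm gd N13703 = N14564 := rfl
theorem L163009 : sm ga N14564 = N14564 := ded_11_1 (flp_d L163007) L154909 L163007
theorem L163010 : sm gf N14564 = N13705 := ded_31_2 (flp_d L154919) (flp_f L154910) L163007
theorem L163012 : sm gh N14564 = N13707 := ded_33_2 (flp_d L154934) (flp_h L146115) (flp_d L146091) L154907 L163007
theorem L163014 : sm gd N13704 = N14565 := rfl
theorem L163016 : sm ga N14565 = N14565 := ded_11_1 (flp_d L163014) L154914 L163014
theorem L163017 : sm gi N14565 = N13705 := ded_34_2 (flp_d L154919) (flp_i L154917) L163014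
theorem L163019 : sm gh N14565 = N14565 := ded_33_2 (flp_d L163014) (flp_h L154912) L146098 L154912 L163014
theorem L163020 : sm gc N13705 = N14566 := rfl
theorem L163022 : sm ga N14566 = N14566 := ded_10_1 (flp_c L163020) L154921 L163020
theorem L163023 : sm gh N14566 = N13708 := ded_28_2 (flp_c L154940) (flp_h L154922) L163020
theorem L163025 : sm ge N13705 = N14567 := rfl
theorem L163027 : sm ga N14567 = N14567 := ded_12_1 (flp_e L163025) L154921 L163025
theorem L163028 : sm gh N14567 = N13709 := ded_37_2 (flp_e L154946) (flp_h L154922) L163025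
theorem L163030 : sm gd N14567 = N14370 := ded_30_1 (flp_e L161351) (flp_d L152817) (flp_e L146104) L154919 L163025
theorem L163032 : sm gd N13706 = N14568 := rfl
theorem L163034 : sm ga N14568 = N14568 := ded_11_1 (flp_d L163032) L154926 L163032
theorem L163035 : sm gg N14568 = N13707 := ded_32_2 (flp_d L154934) (flp_g L154931) L163032
theorem L163037 : sm gi N14568 = N14568 := ded_34_2 (flp_d L163032) L154933 L163032
theorem L163038 : sm gc N13707 = N14569 := rfl
theorem L163040 : sm ga N14569 = N14569 := ded_10_1 (flp_c L163038) L154936 L163038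
theorem L163041 : sm gf N14569 = N13708 := ded_26_2 (flp_c L154940) (flp_f L154937) L163038
theorem L163043 : sm gi N14569 = N14569 := ded_29_2 (flp_c L163038) L154939 L163038
theorem L163044 : sm gd N14569 = N13711 := ded_24_2 (flp_c L154960) (flp_d L146146) (flp_c L146118) L154934 L163038
theorem L163046 : sm ge N14568 = N14569 := ded_30_0 L163044 L155030 (flp_d L155021) (flp_e L154929) L163032
theorem L163048 : sm ge N13707 = N14570 := rfl
theorem L163050 : sm ga N14570 = N14570 := ded_12_1 (flp_e L163048) L154936 L163048
theorem L163051 : sm gc N14570 = N14568 := ded_25_1 L163046 (flp_c L163038) L163048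
theorem L163053 : sm gg N14570 = N14569 := ded_36_2 (flp_e L163046) L163035 L163048
theorem L163055 : sm gi N14570 = N14570 := ded_38_2 (flp_e L163048) L154939 L163048
theorem L163056 : sm gd N14570 = N13720 := ded_30_1 (flp_e L155048) (flp_d L146225) (flp_e L146120) L154934 L163048
theorem L163058 : sm gb N13708 = N14571 := rfl
theorem L163060 : sm gd N14571 = N13713 := ded_18_2 (flp_b L154975) (flp_d L154944) L163058
theorem L163062 : sm gi N14571 = N14571 := ded_23_2 (flp_b L163058) L154943 L163058
theorem L163063 : sm ge N13708 = N14572 := rfl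
theorem L163065 : sm ga N14572 = N14572 := ded_12_1 (flp_e L163063) L154942 L163063
theorem L163066 : sm gc N14572 = N13709 := ded_25_1 (flp_e L154946) L154940 L163063
theorem L163068 : sm gi N14572 = N14572 := ded_38_2 (flp_e L163063) L154943 L163063
theorem L163069 : sm gd N14572 = N14572 := ded_30_1 (flp_e L163063) L154944 L146157 (flp_d L154944) L163063
theorem L163070 : sm gb N13711 = N14573 := rfl
theorem L163072 : sm ge N14573 = N14546 := ded_19_2 L162854 (flp_e L155030) L163070
theorem L163074 : sm gf N14573 = N13713 := ded_20_2 (flp_b L154975) (flp_f L154963) L163070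
theorem L163076 : sm gg N14573 = N14547 := ded_21_2 L162868 L155053 L163070
theorem L163078 : sm gi N14573 = N14573 := ded_23_2 (flp_b L163070) L154965 L163070
theorem L163079 : sm gc N14573 = N13721 := ded_17_2 (flp_b L155056) (flp_c L146301) (flp_b L146149) L154960 L163070
theorem L163081 : sm ga N13713 = N14574 := rfl
theorem L163083 : sm gc N14574 = N13722 := ded_10_2 (flp_a L155061) (flp_c L154979) L163081
theorem L163085 : sm ge N14574 = N14574 := ded_12_2 (flp_a L163081) L154977 L163081
theorem L163086 : sm gi N14574 = N14574 := ded_16_2 (flp_a L163081) L154978 L163081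
theorem L163087 : sm gb N14574 = N14574 := ded_9_2 (flp_a L163081) (flp_b L154975) L146156 L154975 L163081
theorem L163088 : sm gd N13714 = N14575 := rfl
theorem L163090 : sm ga N14575 = N14575 := ded_11_1 (flp_d L163088) L154983 L163088
theorem L163091 : sm gf N14575 = N14373 := ded_31_2 (flp_d L161377) (flp_f L154987) L163088
theorem L163093 : sm gd N13715 = N14576 := rfl
theorem L163095 : sm ga N14576 = N14576 := ded_11_1 (flp_d L163093) L154991 L163093
theorem L163096 : sm gb N14576 = N13774 := ded_18_1 L162848 L162839 L163093
theorem L163098 : sm gf N14576 = N14576 := ded_31_2 (flp_d L163093) L154993 L163093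
theorem L163099 : sm gg N14576 = N13717 := ded_32_2 (flp_d L155008) (flp_g L154994) L163093
theorem L163101 : sm gi N14576 = N13725 := ded_34_2 L162031 L162029 L163093
theorem L163103 : sm gh N14576 = N13718 := ded_33_2 (flp_d L155021) (flp_h L146216) (flp_d L146171) L154989 L163093
theorem L163105 : sm gc N13726 = N14576 := ded_45_7 (flp_d L163093) (flp_i L162029) (flp_h L162018) L153857 L153860 L153858 L144936 (flp_b L144128) L144130 L134987 L135059 L144265 (flp_d L151436) (flp_f L151430) (flp_e L142367) (flp_d L133271) L125232 L67930 (flp_d L110698) L61780 (flp_h L65664) (flp_d L123361) L123363 L69309 L69307 (flp_b L69223) (flp_c L125998) (flp_d L134174) (flp_i L134171) (flp_h L128659) (flp_d L128656) (flp_f L125889) L125887 L127532 (flp_b L135271) L135276 (flp_d L129349) L129359 L129368 (flp_d L134580) L134582 (flp_e L143838) (flp_d L152069) L152067 (flp_c L150921) L150923 (flp_i L150917) (flp_h L148652) L148648 L139361 L130428 L122826 (flp_b L125375) (flp_c L133488) (flp_d L142683) L151877 L160537 (flp_d L160548) L158063 L158061 (flp_d L157962) L157960 L149249 L139922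 (flp_i L130913) (flp_h L123174) (flp_d L68456) L68452 L61645 L61646 (flp_b L67805) (flp_c L67801) (flp_d L49561) (flp_i L49173) L67279 L124873 L124877 L128406 L128410 L121354 L61315 (flp_d L99035) L69969 L126425 L134686 (flp_f L143948) (flp_e L146523) L146522 (flp_b L155110)
theorem L163107 : sm ge N14362 = N14576 := ded_36_3 L163099 (flp_e L161965) L161969
theorem L163109 : sm gb N13730 = N14577 := rfl
theorem L163111 : sm gd N14577 = N13738 := ded_18_2 (flp_b L155245) (flp_d L155165) L163109
theorem L163113 : sm gf N14577 = N14044 := ded_20_2 (flp_b L158480) (flp_f L155163) L163109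
theorem L163115 : sm gc N14577 = N14577 := ded_17_2 (flp_b L163109) (flp_c L155159) L146665 L155159 L163109
theorem L163116 : sm ge N13730 = N14578 := rfl
theorem L163118 : sm ga N14578 = N13850 := ded_12_1 (flp_e L156508) (flp_a L155161) L163116
theorem L163120 : sm gc N14578 = N13731 := ded_25_1 (flp_e L155167) L155159 L163116
theorem L163122 : sm gg N14578 = N13894 := ded_36_2 (flp_e L159596) L159598 L163116
theorem L163124 : sm gh N14578 = N13880 := ded_37_2 (flp_e L158103) L158109 L163116
theorem L163126 : sm gi N13730 = N14579 := rfl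
theorem L163128 : sm ga N14579 = N13851 := ded_16_1 (flp_i L156512) (flp_a L155161) L163126
theorem L163130 : sm gc N14579 = N13732 := ded_29_1 (flp_i L155177) L155159 L163126
theorem L163132 : sm gd N14579 = N13740 := ded_34_1 (flp_i L155261) (flp_d L155165) L163126
theorem L163134 : sm gf N14579 = N14046 := ded_41_1 (flp_i L158491) (flp_f L155163) L163126
theorem L163136 : sm gf N13731 = N14580 := rfl
theorem L163138 : sm ga N14580 = N13852 := ded_13_1 (flp_f L156520) (flp_a L155169) L163136
theorem L163140 : sm gb N14580 = N14580 := ded_20_1 (flp_f L163136) L155171 L163136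
theorem L163141 : sm gd N14580 = N14580 := ded_31_1 (flp_f L163136) L155176 L163136
theorem L163142 : sm gh N14580 = N13903 := ded_40_2 (flp_f L156987) (flp_h L155174) L163136
theorem L163144 : sm ge N14580 = N14047 := ded_35_1 (flp_f L158499) (flp_e L149980) (flp_f L146666) L155167 L163136
theorem L163146 : sm gi N13731 = N14581 := rfl
theorem L163148 : sm ga N14581 = N13853 := ded_16_1 (flp_i L156529) (flp_a L155169) L163146
theorem L163150 : sm gb N14581 = N14581 := ded_23_1 (flp_i L163146) L155171 L163146
theorem L163151 : sm gd N14581 = N14581 := ded_34_1 (flp_i L163146) L155176 L163146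
theorem L163152 : sm ge N14581 = N13732 := ded_38_1 (flp_i L155177) L155167 L163146
theorem L163154 : sm gg N14581 = N13915 := ded_43_1 (flp_i L157089) (flp_g L155172) L163146
theorem L163156 : sm gh N13732 = N14582 := rfl
theorem L163158 : sm ga N14582 = N13854 := ded_15_1 (flp_h L156536) (flp_a L155179) L163156
theorem L163160 : sm gb N14582 = N14582 := ded_22_1 (flp_h L163156) L155181 L163156
theorem L163161 : sm gf N14582 = N14049 := ded_40_1 (flp_h L158515) (flp_f L155184) L163156
theorem L163163 : sm gd N14582 = N14451 := ded_33_1 (flp_h L162154) L154017 (flp_h L146678) (flp_d L155182) L163156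
theorem L163165 : sm gc N13733 = N14583 := rfl
theorem L163167 : sm ga N14583 = N13856 := ded_10_1 (flp_c L156559) (flp_a L155188) L163165
theorem L163169 : sm ge N14583 = N14017 := ded_25_2 L158194 (flp_e L155196) L163165
theorem L163171 : sm gf N14583 = N13735 := ded_26_2 (flp_c L155214) (flp_f L155192) L163165
theorem L163173 : sm gg N14583 = N14050 := ded_27_2 (flp_c L158520) (flp_g L155194) L163165
theorem L163175 : sm gh N14583 = N13744 := ded_28_2 (flp_c L155303) (flp_h L155198) L163165
theorem L163177 : sm gb N14583 = N14064 := ded_17_1 L158662 L150102 L146981 (flp_b L155190) L163165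
theorem L163179 : sm gi N13733 = N14584 := rfl
theorem L163181 : sm ga N14584 = N13857 := ded_16_1 (flp_i L156571) (flp_a L155188) L163179
theorem L163183 : sm gb N14584 = N13776 := ded_23_1 (flp_i L155616) (flp_b L155190) L163179
theorem L163185 : sm gd N14584 = N13734 := ded_34_1 (flp_i L155200) L155186 L163179
theorem L163187 : sm ge N14584 = N14027 := ded_38_1 (flp_i L158304) (flp_e L155196) L163179
theorem L163189 : sm gf N14584 = N13737 := ded_41_1 (flp_i L155235) (flp_f L155192) L163179
theorem L163191 : sm gg N14584 = N14051 := ded_43_1 (flp_i L158528) (flp_g L155194) L163179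
theorem L163193 : sm gb N13735 = N14585 := rfl
theorem L163195 : sm gf N14585 = N14064 := ded_20_2 (flp_b L163177) L163171 L163193
theorem L163197 : sm gg N14585 = N13738 := ded_21_2 (flp_b L155245) (flp_g L155218) L163193
theorem L163199 : sm gh N14585 = N13747 := ded_22_2 (flp_b L155336) (flp_h L155220) L163193
theorem L163201 : sm ga N14585 = N14163 := ded_9_1 L159562 L156593 (flp_b L156583) (flp_a L155216) L163193
theorem L163203 : sm gc N14585 = N13777 := ded_17_2 (flp_b L155630) (flp_c L146996) (flp_b L146696) L155214 L163193
theorem L163205 : sm ge N14071 = N14585 := ded_35_5 L163195 (flp_e L158658) L150094 L150123 L158721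
theorem L163207 : sm ge N13735 = N14586 := rfl
theorem L163209 : sm ga N14586 = N13859 := ded_12_1 (flp_e L156597) (flp_a L155216) L163207
theorem L163211 : sm gb N14586 = N14071 := ded_19_1 L163205 (flp_b L163193) L163207
theorem L163213 : sm gc N14586 = N13736 := ded_25_1 (flp_e L155222) L155214 L163207
theorem L163215 : sm gg N14586 = N13739 := ded_36_2 (flp_e L155253) (flp_g L155218) L163207
theorem L163217 : sm gh N14586 = N13748 := ded_37_2 (flp_e L155344) (flp_h L155220) L163207
theorem L163219 : sm gf N14586 = N14068 := ded_35_2 (flp_e L158691) (flp_f L158198) (flp_e L163169) L163171 L163207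
theorem L163221 : sm gi N13735 = N14587 := rfl
theorem L163223 : sm ga N14587 = N13860 := ded_16_1 (flp_i L156609) (flp_a L155216) L163221
theorem L163225 : sm gc N14587 = N13737 := ded_29_1 (flp_i L155235) L155214 L163221
theorem L163227 : sm gg N14587 = N13740 := ded_43_1 (flp_i L155261) (flp_g L155218) L163221
theorem L163229 : sm gi N13736 = N14588 := rfl
theorem L163231 : sm ga N14588 = N13861 := ded_16_1 (flp_i L156615) (flp_a L155224) L163229
theorem L163233 : sm gb N14588 = N13779 := ded_23_1 (flp_i L155656) (flp_b L155226) L163229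
theorem L163235 : sm gd N14588 = N14588 := ded_34_1 (flp_i L163229) L155232 L163229
theorem L163236 : sm ge N14588 = N13737 := ded_38_1 (flp_i L155235) L155222 L163229
theorem L163238 : sm gf N14588 = N14124 := ded_41_1 (flp_i L159214) (flp_f L155233) L163229
theorem L163240 : sm gg N14588 = N13742 := ded_43_1 (flp_i L155282) (flp_g L155228) L163229
theorem L163242 : sm gh N13737 = N14589 := rfl
theorem L163244 : sm ga N14589 = N13862 := ded_15_1 (flp_h L156626) (flp_a L155237) L163242
theorem L163246 : sm gb N14589 = N13780 := ded_22_1 (flp_h L155669) (flp_b L155239) L163242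
theorem L163248 : sm gg N14589 = N13743 := ded_42_1 (flp_h L155291) (flp_g L155243) L163242
theorem L163250 : sm gd N14589 = N14284 := ded_33_1 (flp_h L160578) L151970 (flp_h L146711) (flp_d L155241) L163242
theorem L163252 : sm gi N14589 = N13751 := ded_44_2 (flp_h L155378) (flp_i L146781) (flp_h L146700) L155235 L163242
theorem L163254 : sm ga N13738 = N14590 := rfl
theorem L163256 : sm gc N14590 = N13781 := ded_10_2 (flp_a L155679) (flp_c L155251) L163254
theorem L163258 : sm gf N14590 = N14055 := ded_13_2 (flp_a L158574) (flp_f L155247) L163254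
theorem L163260 : sm gg N14590 = N14163 := ded_14_2 (flp_a L163201) L163197 L163254
theorem L163262 : sm gh N14590 = N13752 := ded_15_2 (flp_a L155388) (flp_h L155249) L163254
theorem L163264 : sm gb N14590 = N13863 := ded_9_2 (flp_a L156636) (flp_b L147988) (flp_a L146715) L155245 L163254
theorem L163266 : sm ge N14227 = N14590 := ded_25_0 L163256 L155690 (flp_c L160103)
theorem L163268 : sm ge N13738 = N14591 := rfl
theorem L163270 : sm ga N14591 = N14227 := ded_12_1 L163266 (flp_a L163254) L163268
theorem L163272 : sm gb N14591 = N13739 := ded_19_1 (flp_e L155253) L155245 L163268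
theorem L163274 : sm gc N14591 = N13782 := ded_25_1 (flp_e L155692) (flp_c L155251) L163268
theorem L163276 : sm gg N14591 = N14071 := ded_36_2 L163205 L163197 L163268
theorem L163278 : sm gh N14591 = N13753 := ded_37_2 (flp_e L155396) (flp_h L155249) L163268
theorem L163280 : sm gf N14085 = N14591 := ded_13_0 L163270 L160105 (flp_a L158842)
theorem L163282 : sm gi N13738 = N14592 := rfl
theorem L163284 : sm gb N14592 = N13740 := ded_23_1 (flp_i L155261) L155245 L163282
theorem L163286 : sm gc N14592 = N13783 := ded_29_1 (flp_i L155706) (flp_c L155251) L163282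
theorem L163288 : sm gf N14592 = N14057 := ded_41_1 (flp_i L158594) (flp_f L155247) L163282
theorem L163290 : sm gd N13739 = N14593 := rfl
theorem L163292 : sm ga N14593 = N13866 := ded_11_1 (flp_d L156668) (flp_a L155255) L163290
theorem L163294 : sm gc N14593 = N14593 := ded_24_1 (flp_d L163290) L155257 L146729 (flp_c L155257) L163290
theorem L163295 : sm gf N13739 = N14594 := rfl
theorem L163297 : sm ga N14594 = N13867 := ded_13_1 (flp_f L156671) (flp_a L155255) L163295
theorem L163299 : sm gb N14594 = N14085 := ded_20_1 L163280 L163272 L163295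
theorem L163301 : sm gc N14594 = N13741 := ded_26_1 (flp_f L155269) (flp_c L155257) L163295
theorem L163303 : sm gh N14594 = N13756 := ded_40_2 (flp_f L155418) (flp_h L155259) L163295
theorem L163305 : sm ge N14594 = N14059 := ded_35_1 (flp_f L158608) (flp_e L150044) (flp_f L146717) L155253 L163295
theorem L163307 : sm gg N14594 = N14079 := ded_39_2 (flp_f L158798) (flp_g L158699) (flp_f L163219) L163215 L163295
theorem L163309 : sm gi N13739 = N14595 := rfl
theorem L163311 : sm ga N14595 = N13868 := ded_16_1 (flp_i L156679) (flp_a L155255) L163309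
theorem L163313 : sm gc N14595 = N13742 := ded_29_1 (flp_i L155282) (flp_c L155257) L163309
theorem L163315 : sm ge N14595 = N13740 := ded_38_1 (flp_i L155261) L155253 L163309
theorem L163317 : sm gh N13740 = N14596 := rfl
theorem L163319 : sm ga N14596 = N13869 := ded_15_1 (flp_h L156685) (flp_a L155263) L163317
theorem L163321 : sm gc N14596 = N13743 := ded_28_1 (flp_h L155291) (flp_c L155265) L163317
theorem L163323 : sm gf N14596 = N14061 := ded_40_1 (flp_h L158626) (flp_f L155267) L163317
theorem L163325 : sm gi N14596 = N13758 := ded_44_2 (flp_h L155434) (flp_i L146803) (flp_h L146719) L155261 L163317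
theorem L163327 : sm gi N13741 = N14597 := rfl
theorem L163329 : sm ga N14597 = N13871 := ded_16_1 (flp_i L156706) (flp_a L155271) L163327
theorem L163331 : sm gb N14597 = N13786 := ded_23_1 (flp_i L155737) (flp_b L155273) L163327
theorem L163333 : sm gd N14597 = N14597 := ded_34_1 (flp_i L163327) L155275 L163327
theorem L163334 : sm ge N14597 = N14062 := ded_38_1 (flp_i L158634) (flp_e L155278) L163327
theorem L163336 : sm gf N14597 = N13742 := ded_41_1 (flp_i L155282) L155269 L163327
theorem L163338 : sm gg N14597 = N14131 := ded_43_1 (flp_i L159282) (flp_g L155280) L163327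
theorem L163340 : sm gh N13742 = N14598 := rfl
theorem L163342 : sm ga N14598 = N13872 := ded_15_1 (flp_h L156715) (flp_a L155284) L163340
theorem L163344 : sm gb N14598 = N13787 := ded_22_1 (flp_h L155750) (flp_b L155286) L163340
theorem L163346 : sm ge N14598 = N13743 := ded_37_1 (flp_h L155291) (flp_e L155289) L163340
theorem L163348 : sm gi N14598 = N13761 := ded_44_2 (flp_h L155468) (flp_i L146821) (flp_h L146727) L155282 L163340
theorem L163350 : sm gb N13744 = N14599 := rfl
theorem L163352 : sm gf N14599 = N13747 := ded_20_2 (flp_b L155336) (flp_f L155307) L163350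
theorem L163354 : sm gg N14599 = N14017 := ded_21_2 L158200 (flp_g L155309) L163350
theorem L163356 : sm gh N14599 = N14064 := ded_22_2 (flp_b L163177) L163175 L163350
theorem L163358 : sm ga N14599 = N14014 := ded_9_1 (flp_b L158154) L149604 (flp_b L148040) (flp_a L155305) L163350
theorem L163360 : sm gc N14599 = N13788 := ded_17_2 (flp_b L155758) (flp_c L147090) (flp_b L146744) L155303 L163350
theorem L163362 : sm ge N14050 = N14599 := ded_35_5 L163352 (flp_e L155342) L153741 (flp_e L150020) (flp_f L158524)
theorem L163364 : sm ge N13744 = N14600 := rfl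
theorem L163366 : sm ga N14600 = N13873 := ded_12_1 (flp_e L156723) (flp_a L155305) L163364
theorem L163368 : sm gb N14600 = N14050 := ded_19_1 L163362 (flp_b L163350) L163364
theorem L163370 : sm gc N14600 = N13745 := ded_25_1 (flp_e L155311) L155303 L163364
theorem L163372 : sm gg N14600 = N14064 := ded_36_2 (flp_e L158658) (flp_g L155309) L163364
theorem L163374 : sm gh N14600 = N14017 := ded_37_2 (flp_e L163169) L163175 L163364
theorem L163376 : sm gf N14600 = N14052 := ded_35_2 L158540 L155354 (flp_e L155344) (flp_f L155307) L163364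
theorem L163378 : sm gi N13744 = N14601 := rfl
theorem L163380 : sm ga N14601 = N13874 := ded_16_1 (flp_i L156735) (flp_a L155305) L163378
theorem L163382 : sm gc N14601 = N13746 := ded_29_1 (flp_i L155324) L155303 L163378
theorem L163384 : sm gf N14601 = N13749 := ded_41_1 (flp_i L155356) (flp_f L155307) L163378
theorem L163386 : sm gg N14601 = N14065 := ded_43_1 (flp_i L158664) (flp_g L155309) L163378
theorem L163388 : sm gi N13745 = N14602 := rfl
theorem L163390 : sm ga N14602 = N13875 := ded_16_1 (flp_i L156745) (flp_a L155313) L163388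
theorem L163392 : sm gb N14602 = N13790 := ded_23_1 (flp_i L155786) (flp_b L155315) L163388
theorem L163394 : sm gd N14602 = N14602 := ded_34_1 (flp_i L163388) L155321 L163388
theorem L163395 : sm ge N14602 = N13746 := ded_38_1 (flp_i L155324) L155311 L163388
theorem L163397 : sm gf N14602 = N14115 := ded_41_1 (flp_i L159129) (flp_f L155322) L163388
theorem L163399 : sm gg N14602 = N14066 := ded_43_1 (flp_i L158674) (flp_g L155317) L163388
theorem L163401 : sm gh N13746 = N14603 := rfl
theorem L163403 : sm ga N14603 = N13876 := ded_15_1 (flp_h L156756) (flp_a L155326) L163401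
theorem L163405 : sm gb N14603 = N13791 := ded_22_1 (flp_h L155799) (flp_b L155328) L163401
theorem L163407 : sm gf N14603 = N13751 := ded_40_1 (flp_h L155378) (flp_f L155332) L163401
theorem L163409 : sm gg N14603 = N14067 := ded_42_1 (flp_h L158683) (flp_g L155334) L163401
theorem L163411 : sm gd N14603 = N13950 := ded_33_1 (flp_h L157467) L148693 (flp_h L146761) (flp_d L155330) L163401
theorem L163413 : sm ga N13747 = N14604 := rfl
theorem L163415 : sm gc N14604 = N13792 := ded_10_2 (flp_a L155809) (flp_c L155340) L163413
theorem L163417 : sm gd N14604 = N14599 := ded_11_2 L163358 L158156 L163413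
theorem L163419 : sm ge N14604 = N14207 := ded_12_2 L159944 L155342 L163413
theorem L163421 : sm gf N14604 = N14014 := ded_13_2 (flp_a L163358) L163352 L163413
theorem L163423 : sm gg N14604 = N13752 := ded_14_2 (flp_a L155388) (flp_g L155338) L163413
theorem L163425 : sm gh N14604 = N14163 := ded_15_2 (flp_a L163201) L163199 L163413
theorem L163427 : sm gb N14604 = N13877 := ded_9_2 (flp_a L156766) (flp_b L148063) (flp_a L146765) L155336 L163413
theorem L163429 : sm gi N13747 = N14605 := rfl
theorem L163431 : sm gb N14605 = N13749 := ded_23_1 (flp_i L155356) L155336 L163429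
theorem L163433 : sm gc N14605 = N13793 := ded_29_1 (flp_i L155823) (flp_c L155340) L163429
theorem L163435 : sm ge N14605 = N14278 := ded_38_1 L160519 L155342 L163429
theorem L163437 : sm gg N14605 = N13754 := ded_43_1 (flp_i L155404) (flp_g L155338) L163429
theorem L163439 : sm gi N13748 = N14606 := rfl
theorem L163441 : sm ga N14606 = N13882 := ded_16_1 (flp_i L156824) (flp_a L155346) L163439
theorem L163443 : sm gb N14606 = N14278 := ded_23_1 L160519 (flp_b L155348) L163439
theorem L163445 : sm gc N14606 = N13750 := ded_29_1 (flp_i L155364) (flp_c L155350) L163439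
theorem L163447 : sm ge N14606 = N13749 := ded_38_1 (flp_i L155356) L155344 L163439
theorem L163449 : sm gf N14606 = N14279 := ded_41_1 L160523 L155354 L163439
theorem L163451 : sm gg N14606 = N13757 := ded_43_1 (flp_i L155426) (flp_g L155352) L163439
theorem L163453 : sm gh N13749 = N14607 := rfl
theorem L163455 : sm ga N14607 = N13883 := ded_15_1 (flp_h L156832) (flp_a L155358) L163453
theorem L163457 : sm gc N14607 = N13751 := ded_28_1 (flp_h L155378) (flp_c L155360) L163453
theorem L163459 : sm gg N14607 = N13758 := ded_42_1 (flp_h L155434) (flp_g L155362) L163453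
theorem L163461 : sm gh N13750 = N14608 := rfl
theorem L163463 : sm ga N14608 = N13886 := ded_15_1 (flp_h L156864) (flp_a L155366) L163461
theorem L163465 : sm gb N14608 = N13795 := ded_22_1 (flp_h L155843) (flp_b L155368) L163461
theorem L163467 : sm ge N14608 = N13751 := ded_37_1 (flp_h L155378) (flp_e L155372) L163461
theorem L163469 : sm gf N14608 = N14299 := ded_40_1 L160716 (flp_f L155374) L163461
theorem L163471 : sm gg N14608 = N13761 := ded_42_1 (flp_h L155468) (flp_g L155376) L163461
theorem L163473 : sm ge N13752 = N14609 := rfl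
theorem L163475 : sm ga N14609 = N13753 := ded_12_1 (flp_e L155396) L155388 L163473
theorem L163477 : sm gb N14609 = N13887 := ded_19_1 (flp_e L156872) (flp_b L155394) L163473
theorem L163479 : sm gc N14609 = N13796 := ded_25_1 (flp_e L155855) (flp_c L155390) L163473
theorem L163481 : sm gg N14609 = N14207 := ded_36_2 (flp_e L163419) L163423 L163473
theorem L163483 : sm gh N14609 = N14227 := ded_37_2 L163266 L163262 L163473
theorem L163485 : sm gf N14218 = N14609 := ded_47_2 (flp_e L163473) (flp_d L158196) L158194 L149784 (flp_h L147112) L147110 (flp_f L147000) (flp_e L147007) L141406 L132374 (flp_b L141095) L141097 L144170 L144181 L135057 L126936 (flp_c L135112) L135111 (flp_h L141212) (flp_g L141205) (flp_f L132182) (flp_e L124333) (flp_d L121146) (flp_c L121139) L60875 L44675 L44673 (flp_f L60923) L121183 (flp_d L128209) (flp_c L136403) (flp_b L145426) (flp_h L148093) L156838 L156850 L148163 L142513 (flp_c L142617) L142615 L134412 (flp_g L127756) (flp_f L74319) (flp_e L54325) L39829 (flp_c L39824) L29193 (flp_h L27399) (flp_g L37416) L37415 L51099 L99035 (flp_c L61315)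 (flp_b L121354) L121356 (flp_g L126337) L134585 L134590 (flp_d L142956) (flp_c L151608) L151606 (flp_h L151482) L160033
theorem L163487 : sm gi N13752 = N14610 := rfl
theorem L163489 : sm ga N14610 = N13754 := ded_16_1 (flp_i L155404) L155388 L163487
theorem L163491 : sm gb N14610 = N13888 := ded_23_1 (flp_i L156882) (flp_b L155394) L163487
theorem L163493 : sm gc N14610 = N13797 := ded_29_1 (flp_i L155869) (flp_c L155390) L163487
theorem L163495 : sm gf N14610 = N14077 := ded_41_1 (flp_i L158781) (flp_f L155392) L163487
theorem L163497 : sm gd N13753 = N14611 := rfl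
theorem L163499 : sm gb N14611 = N13755 := ded_18_1 (flp_d L155412) (flp_b L155398) L163497
theorem L163501 : sm gg N14611 = N14428 := ded_32_2 L161942 (flp_g L155402) L163497
theorem L163503 : sm gc N14611 = N14427 := ded_24_1 (flp_d L161926) L153713 (flp_d L147183) (flp_c L155400) L163497
theorem L163505 : sm gf N13753 = N14612 := rfl
theorem L163507 : sm ga N14612 = N14218 := ded_13_1 L163485 L163475 L163505
theorem L163509 : sm gb N14612 = N13756 := ded_20_1 (flp_f L155418) (flp_b L155398) L163505
theorem L163511 : sm gc N14612 = N13798 := ded_26_1 (flp_f L155879) (flp_c L155400) L163505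
theorem L163513 : sm gh N14612 = N14085 := ded_40_2 L163280 L163278 L163505
theorem L163515 : sm ge N14612 = N14079 := ded_35_1 (flp_f L158798) (flp_e L150181) (flp_f L146793) L155396 L163505
theorem L163517 : sm gg N14612 = N14059 := ded_39_2 (flp_f L158608) L150050 (flp_f L153741) (flp_g L155402) L163505
theorem L163519 : sm gi N13753 = N14613 := rfl
theorem L163521 : sm gb N14613 = N13757 := ded_23_1 (flp_i L155426) (flp_b L155398) L163519
theorem L163523 : sm gc N14613 = N13799 := ded_29_1 (flp_i L155893) (flp_c L155400) L163519
theorem L163525 : sm ge N14613 = N13754 := ded_38_1 (flp_i L155404) L155396 L163519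
theorem L163527 : sm gg N14613 = N14278 := ded_43_1 L160519 (flp_g L155402) L163519
theorem L163529 : sm gh N13754 = N14614 := rfl
theorem L163531 : sm gb N14614 = N13758 := ded_22_1 (flp_h L155434) (flp_b L155406) L163529
theorem L163533 : sm gc N14614 = N13800 := ded_28_1 (flp_h L155903) (flp_c L155408) L163529
theorem L163535 : sm gf N14614 = N14081 := ded_40_1 (flp_h L158812) (flp_f L155410) L163529
theorem L163537 : sm gf N13755 = N14615 := rfl
theorem L163539 : sm ga N14615 = N13893 := ded_13_1 (flp_f L156919) (flp_a L155414) L163537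
theorem L163541 : sm gc N14615 = N13763 := ded_26_1 (flp_f L155489) (flp_c L155416) L163537
theorem L163543 : sm gd N14615 = N13756 := ded_31_1 (flp_f L155418) L155412 L163537
theorem L163545 : sm gh N13755 = N14616 := rfl
theorem L163547 : sm ga N14616 = N13894 := ded_15_1 (flp_h L156925) (flp_a L155414) L163545
theorem L163549 : sm gc N14616 = N13764 := ded_28_1 (flp_h L155495) (flp_c L155416) L163545
theorem L163551 : sm ge N14616 = N13847 := ded_37_1 (flp_h L158222) L158220 L163545
theorem L163553 : sm gg N14616 = N13850 := ded_42_1 (flp_h L159497) L159495 L163545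
theorem L163555 : sm gi N13755 = N14617 := rfl
theorem L163557 : sm ga N14617 = N13895 := ded_16_1 (flp_i L156929) (flp_a L155414) L163555
theorem L163559 : sm gc N14617 = N13765 := ded_29_1 (flp_i L155506) (flp_c L155416) L163555
theorem L163561 : sm gd N14617 = N13757 := ded_34_1 (flp_i L155426) L155412 L163555
theorem L163563 : sm gg N13756 = N14618 := rfl
theorem L163565 : sm ga N14618 = N13896 := ded_14_1 (flp_g L156935) (flp_a L155420) L163563
theorem L163567 : sm gb N14618 = N14059 := ded_21_1 (flp_g L163517) L163509 L163563
theorem L163569 : sm gc N14618 = N13759 := ded_27_1 (flp_g L155442) (flp_c L155422) L163563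
theorem L163571 : sm ge N14618 = N14085 := ded_36_1 (flp_g L158840) (flp_e L155424) L163563
theorem L163573 : sm gh N14618 = N14079 := ded_42_2 (flp_g L163307) L163303 L163563
theorem L163575 : sm gf N14618 = N14056 := ded_39_1 L158590 L155354 L155352 L155418 L163563
theorem L163577 : sm gi N13756 = N14619 := rfl
theorem L163579 : sm ga N14619 = N13897 := ded_16_1 (flp_i L156941) (flp_a L155420) L163577
theorem L163581 : sm gc N14619 = N13760 := ded_29_1 (flp_i L155456) (flp_c L155422) L163577
theorem L163583 : sm ge N14619 = N14086 := ded_38_1 (flp_i L158846) (flp_e L155424) L163577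
theorem L163585 : sm gf N14619 = N13757 := ded_41_1 (flp_i L155426) L155418 L163577
theorem L163587 : sm gh N13757 = N14620 := rfl
theorem L163589 : sm ga N14620 = N13898 := ded_15_1 (flp_h L156949) (flp_a L155428) L163587
theorem L163591 : sm gc N14620 = N13761 := ded_28_1 (flp_h L155468) (flp_c L155430) L163587
theorem L163593 : sm ge N14620 = N13758 := ded_37_1 (flp_h L155434) (flp_e L155432) L163587
theorem L163595 : sm gd N13758 = N14621 := rfl
theorem L163597 : sm ga N14621 = N13899 := ded_11_1 (flp_d L156955) (flp_a L155436) L163595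
theorem L163599 : sm gf N14621 = N14088 := ded_31_2 (flp_d L158862) (flp_f L155440) L163595
theorem L163601 : sm gc N14621 = N14465 := ded_24_1 (flp_d L162261) L154096 (flp_d L146839) (flp_c L155438) L163595
theorem L163603 : sm gi N13759 = N14622 := rfl
theorem L163605 : sm ga N14622 = N13900 := ded_16_1 (flp_i L156961) (flp_a L155444) L163603
theorem L163607 : sm gb N14622 = N13804 := ded_23_1 (flp_i L155945) (flp_b L155446) L163603
theorem L163609 : sm gd N14622 = N13769 := ded_34_1 (flp_i L155544) (flp_d L155448) L163603
theorem L163611 : sm ge N14622 = N14089 := ded_38_1 (flp_i L158866) (flp_e L155450) L163603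
theorem L163613 : sm gf N14622 = N14118 := ded_41_1 (flp_i L159161) (flp_f L155454) L163603
theorem L163615 : sm gg N14622 = N13760 := ded_43_1 (flp_i L155456) L155442 L163603
theorem L163617 : sm gh N13760 = N14623 := rfl
theorem L163619 : sm ga N14623 = N13901 := ded_15_1 (flp_h L156971) (flp_a L155458) L163617
theorem L163621 : sm gb N14623 = N13805 := ded_22_1 (flp_h L155959) (flp_b L155460) L163617
theorem L163623 : sm ge N14623 = N14090 := ded_37_1 (flp_h L158876) (flp_e L155464) L163617
theorem L163625 : sm gf N14623 = N13761 := ded_40_1 (flp_h L155468) (flp_f L155466) L163617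
theorem L163627 : sm gd N13761 = N14624 := rfl
theorem L163629 : sm ga N14624 = N13902 := ded_11_1 (flp_d L156979) (flp_a L155470) L163627
theorem L163631 : sm gb N14624 = N13806 := ded_18_1 (flp_d L155967) (flp_b L155472) L163627
theorem L163633 : sm ge N14624 = N14467 := ded_30_2 (flp_d L162275) L154114 (flp_d L146839) (flp_e L155474) L163627
theorem L163635 : sm gh N14624 = N13771 := ded_33_2 (flp_d L155571) (flp_h L146916) (flp_d L146827) L155468 L163627
theorem L163637 : sm gd N13762 = N14625 := rfl
theorem L163639 : sm ga N14625 = N13910 := ded_11_1 (flp_d L157057) (flp_a L155478) L163637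
theorem L163641 : sm gb N14625 = N13807 := ded_18_1 (flp_d L155975) (flp_b L155480) L163637
theorem L163643 : sm gf N14625 = N14381 := ded_31_2 L161452 (flp_f L155484) L163637
theorem L163645 : sm gg N14625 = N13771 := ded_32_2 (flp_d L155571) (flp_g L155486) L163637
theorem L163647 : sm gi N14625 = N14625 := ded_34_2 (flp_d L163637) L155488 L163637
theorem L163648 : sm ge N14625 = N14376 := ded_30_2 (flp_d L161409) L152956 (flp_d L146862) (flp_e L155482) L163637
theorem L163650 : sm ge N13763 = N14626 := rfl
theorem L163652 : sm ga N14626 = N13911 := ded_12_1 (flp_e L157066) (flp_a L155491) L163650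
theorem L163654 : sm gd N14626 = N13772 := ded_30_1 (flp_e L155580) L146931 (flp_e L146876) (flp_d L155493) L163650
theorem L163656 : sm gg N13763 = N14627 := rfl
theorem L163658 : sm ga N14627 = N13912 := ded_14_1 (flp_g L157071) (flp_a L155491) L163656
theorem L163660 : sm gb N14627 = N14443 := ded_21_1 L162089 L160777 L163656
theorem L163662 : sm gd N14627 = N13766 := ded_32_1 (flp_g L155512) (flp_d L155493) L163656
theorem L163664 : sm gf N14627 = N14445 := ded_39_1 L162111 L153994 L151022 L155489 L163656
theorem L163666 : sm gh N13763 = N14628 := rfl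
theorem L163668 : sm ga N14628 = N13913 := ded_15_1 (flp_h L157076) (flp_a L155491) L163666
theorem L163670 : sm gb N14628 = N13993 := ded_22_1 (flp_h L160781) L160777 L163666
theorem L163672 : sm gf N14628 = N13764 := ded_40_1 (flp_h L155495) L155489 L163666
theorem L163674 : sm gd N14628 = N14628 := ded_33_1 (flp_h L163666) L155493 L146875 (flp_d L155493) L163666
theorem L163675 : sm gi N13763 = N14629 := rfl
theorem L163677 : sm ga N14629 = N13914 := ded_16_1 (flp_i L157082) (flp_a L155491) L163675
theorem L163679 : sm gd N14629 = N13767 := ded_34_1 (flp_i L155525) (flp_d L155493) L163675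
theorem L163681 : sm gf N14629 = N13765 := ded_41_1 (flp_i L155506) L155489 L163675
theorem L163683 : sm gi N13764 = N14630 := rfl
theorem L163685 : sm ga N14630 = N13915 := ded_16_1 (flp_i L157089) (flp_a L155497) L163683
theorem L163687 : sm gb N14630 = N13994 := ded_23_1 (flp_i L157924) (flp_b L155499) L163683
theorem L163689 : sm gd N14630 = N14630 := ded_34_1 (flp_i L163683) L155505 L163683
theorem L163690 : sm ge N14630 = N13848 := ded_38_1 (flp_i L156492) (flp_e L155501) L163683
theorem L163692 : sm gg N14630 = N13853 := ded_43_1 (flp_i L156529) (flp_g L155503) L163683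
theorem L163694 : sm gh N13765 = N14631 := rfl
theorem L163696 : sm ga N14631 = N13916 := ded_15_1 (flp_h L157093) (flp_a L155508) L163694
theorem L163698 : sm gi N13766 = N14632 := rfl
theorem L163700 : sm ga N14632 = N13917 := ded_16_1 (flp_i L157096) (flp_a L155514) L163698
theorem L163702 : sm gb N14632 = N14362 := ded_23_1 L161290 (flp_b L155516) L163698
theorem L163704 : sm gc N14632 = N13769 := ded_29_1 (flp_i L155544) (flp_c L155518) L163698
theorem L163706 : sm ge N14632 = N13774 := ded_38_1 (flp_i L155595) (flp_e L155520) L163698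
theorem L163708 : sm gf N14632 = N14363 := ded_41_1 L161299 (flp_f L155523) L163698
theorem L163710 : sm gg N14632 = N13767 := ded_43_1 (flp_i L155525) L155512 L163698
theorem L163712 : sm gh N14573 = N14632 := ded_22_0 L163702 L161288 L163070
theorem L163714 : sm gd N13768 = N14633 := rfl
theorem L163716 : sm ga N14633 = N13919 := ded_11_1 (flp_d L157115) (flp_a L155537) L163714
theorem L163718 : sm gi N14633 = N14633 := ded_34_2 (flp_d L163714) L155543 L163714
theorem L163719 : sm gd N13770 = N14634 := rfl
theorem L163721 : sm ga N14634 = N13922 := ded_11_1 (flp_d L157138) (flp_a L155560) L163719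
theorem L163723 : sm gb N14634 = N13808 := ded_18_1 (flp_d L155988) (flp_b L155562) L163719
theorem L163725 : sm gf N14634 = N13771 := ded_31_2 (flp_d L155571) (flp_f L155566) L163719
theorem L163727 : sm gg N14634 = N14555 := ded_32_2 L162945 (flp_g L155568) L163719
theorem L163729 : sm gi N14634 = N14634 := ded_34_2 (flp_d L163719) L155570 L163719
theorem L163730 : sm gc N13771 = N14635 := rfl
theorem L163732 : sm ga N14635 = N13923 := ded_10_1 (flp_c L157145) (flp_a L155573) L163730
theorem L163734 : sm ge N14635 = N14480 := ded_25_2 (flp_c L162394) (flp_e L155578) L163730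
theorem L163736 : sm gi N14635 = N14635 := ded_29_2 (flp_c L163730) L155577 L163730
theorem L163737 : sm gh N13776 = N14636 := rfl
theorem L163739 : sm ga N14636 = N13818 := ded_15_1 (flp_h L156106) (flp_a L155618) L163737
theorem L163741 : sm gc N14636 = N14123 := ded_28_1 (flp_h L159208) (flp_c L155620) L163737
theorem L163743 : sm ge N14636 = N14036 := ded_37_1 (flp_h L158401) (flp_e L155624) L163737
theorem L163745 : sm gf N14636 = N13780 := ded_40_1 (flp_h L155669) (flp_f L155626) L163737
theorem L163747 : sm gg N14636 = N14114 := ded_42_1 (flp_h L159119) (flp_g L155628) L163737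
theorem L163749 : sm gd N14636 = N13965 := ded_33_1 (flp_h L157603) L148895 (flp_h L146994) (flp_d L155622) L163737
theorem L163751 : sm gi N14636 = N13791 := ded_44_2 (flp_h L155799) (flp_i L147117) (flp_h L146979) L155616 L163737
theorem L163753 : sm gi N13777 = N14637 := rfl
theorem L163755 : sm ga N14637 = N14186 := ded_16_1 (flp_i L159785) (flp_a L155641) L163753
theorem L163757 : sm gb N14637 = N13778 := ded_23_1 (flp_i L155643) L155630 L163753
theorem L163759 : sm gd N14637 = N14637 := ded_34_1 (flp_i L163753) L155632 L163753
theorem L163760 : sm ge N14637 = N14074 := ded_38_1 (flp_i L158747) (flp_e L155633) L163753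
theorem L163762 : sm gf N14637 = N14066 := ded_41_1 (flp_i L158674) (flp_f L155635) L163753
theorem L163764 : sm gg N14637 = N13783 := ded_43_1 (flp_i L155706) (flp_g L155637) L163753
theorem L163766 : sm gh N13778 = N14638 := rfl
theorem L163768 : sm ga N14638 = N13819 := ded_15_1 (flp_h L156122) (flp_a L155645) L163766
theorem L163770 : sm gc N14638 = N13780 := ded_28_1 (flp_h L155669) (flp_c L155647) L163766
theorem L163772 : sm ge N14638 = N14128 := ded_37_1 (flp_h L159253) (flp_e L155650) L163766
theorem L163774 : sm gf N14638 = N14123 := ded_40_1 (flp_h L159208) (flp_f L155652) L163766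
theorem L163776 : sm gg N14638 = N13785 := ded_42_1 (flp_h L155727) (flp_g L155654) L163766
theorem L163778 : sm gi N14638 = N13794 := ded_44_2 (flp_h L155833) (flp_i L147135) (flp_h L147004) L155643 L163766
theorem L163780 : sm gh N13779 = N14639 := rfl
theorem L163782 : sm ga N14639 = N13820 := ded_15_1 (flp_h L156136) (flp_a L155658) L163780
theorem L163784 : sm gc N14639 = N14128 := ded_28_1 (flp_h L159253) (flp_c L155660) L163780
theorem L163786 : sm ge N14639 = N13780 := ded_37_1 (flp_h L155669) (flp_e L155663) L163780
theorem L163788 : sm gf N14639 = N14126 := ded_40_1 (flp_h L159233) (flp_f L155665) L163780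
theorem L163790 : sm gg N14639 = N13787 := ded_42_1 (flp_h L155750) (flp_g L155667) L163780
theorem L163792 : sm gi N14639 = N13795 := ded_44_2 (flp_h L155843) (flp_i L147147) (flp_h L147017) L155656 L163780
theorem L163794 : sm gi N13781 = N14640 := rfl
theorem L163796 : sm ga N14640 = N13783 := ded_16_1 (flp_i L155706) L155679 L163794
theorem L163798 : sm gb N14640 = N13821 := ded_23_1 (flp_i L156150) (flp_b L155688) L163794
theorem L163800 : sm gd N14640 = N14640 := ded_34_1 (flp_i L163794) L155681 L163794
theorem L163801 : sm ge N14640 = N14231 := ded_38_1 (flp_i L160131) (flp_e L155690) L163794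
theorem L163803 : sm gf N14640 = N14117 := ded_41_1 (flp_i L159152) (flp_f L155682) L163794
theorem L163805 : sm gg N14640 = N14186 := ded_43_1 (flp_i L159785) (flp_g L155684) L163794
theorem L163807 : sm gi N13782 = N14641 := rfl
theorem L163809 : sm ga N14641 = N14231 := ded_16_1 (flp_i L160131) (flp_a L155694) L163807
theorem L163811 : sm gb N14641 = N13784 := ded_23_1 (flp_i L155713) (flp_b L155696) L163807
theorem L163813 : sm gd N14641 = N14097 := ded_34_1 (flp_i L158947) L155704 L163807
theorem L163815 : sm ge N14641 = N13783 := ded_38_1 (flp_i L155706) L155692 L163807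
theorem L163817 : sm gf N14641 = N14089 := ded_41_1 (flp_i L158866) (flp_f L155702) L163807
theorem L163819 : sm gg N14641 = N14074 := ded_43_1 (flp_i L158747) (flp_g L155698) L163807
theorem L163821 : sm gh N13783 = N14642 := rfl
theorem L163823 : sm gb N14642 = N13785 := ded_22_1 (flp_h L155727) (flp_b L155708) L163821
theorem L163825 : sm gf N14642 = N14119 := ded_40_1 (flp_h L159171) (flp_f L155711) L163821
theorem L163827 : sm gi N14642 = N13800 := ded_44_2 (flp_h L155903) (flp_i L147185) (flp_h L147035) L155706 L163821
theorem L163829 : sm gh N13784 = N14643 := rfl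
theorem L163831 : sm ga N14643 = N13823 := ded_15_1 (flp_h L156177) (flp_a L155715) L163829
theorem L163833 : sm gc N14643 = N13787 := ded_28_1 (flp_h L155750) (flp_c L155717) L163829
theorem L163835 : sm ge N14643 = N13785 := ded_37_1 (flp_h L155727) (flp_e L155721) L163829
theorem L163837 : sm gf N14643 = N14137 := ded_40_1 (flp_h L159324) (flp_f L155723) L163829
theorem L163839 : sm gg N14643 = N14128 := ded_42_1 (flp_h L159253) (flp_g L155725) L163829
theorem L163841 : sm gd N14643 = N14289 := ded_33_1 (flp_h L160624) L152023 (flp_h L150748) (flp_d L155719) L163829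
theorem L163843 : sm gi N14643 = N13802 := ded_44_2 (flp_h L155923) (flp_i L147207) (flp_h L147045) L155713 L163829
theorem L163845 : sm gd N13785 = N14644 := rfl
theorem L163847 : sm ga N14644 = N13824 := ded_11_1 (flp_d L156193) (flp_a L155729) L163845
theorem L163849 : sm gf N14644 = N14121 := ded_31_2 (flp_d L159191) (flp_f L155733) L163845
theorem L163851 : sm gi N14644 = N13803 := ded_34_2 (flp_d L155935) (flp_i L155735) L163845
theorem L163853 : sm gc N14644 = N14485 := ded_24_1 (flp_d L162445) L154307 (flp_d L147086) (flp_c L155731) L163845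
theorem L163855 : sm gh N14644 = N14644 := ded_33_2 (flp_d L163845) (flp_h L155727) L147057 L155727 L163845
theorem L163856 : sm gh N13786 = N14645 := rfl
theorem L163858 : sm ga N14645 = N13825 := ded_15_1 (flp_h L156202) (flp_a L155739) L163856
theorem L163860 : sm gc N14645 = N14137 := ded_28_1 (flp_h L159324) (flp_c L155741) L163856
theorem L163862 : sm ge N14645 = N14122 := ded_37_1 (flp_h L159198) (flp_e L155744) L163856
theorem L163864 : sm gf N14645 = N13787 := ded_40_1 (flp_h L155750) (flp_f L155746) L163856
theorem L163866 : sm gg N14645 = N14134 := ded_42_1 (flp_h L159301) (flp_g L155748) L163856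
theorem L163868 : sm gi N14645 = N13805 := ded_44_2 (flp_h L155959) (flp_i L147241) (flp_h L147067) L155737 L163856
theorem L163870 : sm gd N13787 = N14646 := rfl
theorem L163872 : sm ga N14646 = N13826 := ded_11_1 (flp_d L156216) (flp_a L155752) L163870
theorem L163874 : sm gi N14646 = N13806 := ded_34_2 (flp_d L155967) (flp_i L155756) L163870
theorem L163876 : sm ge N14646 = N14486 := ded_30_2 (flp_d L162452) L154315 (flp_d L147086) (flp_e L155754) L163870
theorem L163878 : sm gh N14646 = N14646 := ded_33_2 (flp_d L163870) (flp_h L155750) L147077 L155750 L163870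
theorem L163879 : sm gi N13788 = N14647 := rfl
theorem L163881 : sm ga N14647 = N14025 := ded_16_1 (flp_i L158282) (flp_a L155770) L163879
theorem L163883 : sm gb N14647 = N13789 := ded_23_1 (flp_i L155772) L155758 L163879
theorem L163885 : sm gd N14647 = N13811 := ded_34_1 (flp_i L156025) (flp_d L155760) L163879
theorem L163887 : sm ge N14647 = N14051 := ded_38_1 (flp_i L158528) (flp_e L155762) L163879
theorem L163889 : sm gf N14647 = N13793 := ded_41_1 (flp_i L155823) (flp_f L155764) L163879
theorem L163891 : sm gg N14647 = N14027 := ded_43_1 (flp_i L158304) (flp_g L155766) L163879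
theorem L163893 : sm gh N13789 = N14648 := rfl
theorem L163895 : sm ga N14648 = N13827 := ded_15_1 (flp_h L156225) (flp_a L155774) L163893
theorem L163897 : sm gc N14648 = N13791 := ded_28_1 (flp_h L155799) (flp_c L155776) L163893
theorem L163899 : sm ge N14648 = N14114 := ded_37_1 (flp_h L159119) (flp_e L155780) L163893
theorem L163901 : sm gf N14648 = N13794 := ded_40_1 (flp_h L155833) (flp_f L155782) L163893
theorem L163903 : sm gg N14648 = N14036 := ded_42_1 (flp_h L158401) (flp_g L155784) L163893
theorem L163905 : sm gd N14648 = N14553 := ded_33_1 L162937 L154802 L147348 (flp_d L155778) L163893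
theorem L163907 : sm gi N14648 = N14123 := ded_44_2 (flp_h L159208) (flp_i L150579) (flp_h L147098) L155772 L163893
theorem L163909 : sm gh N13790 = N14649 := rfl
theorem L163911 : sm ga N14649 = N13828 := ded_15_1 (flp_h L156241) (flp_a L155788) L163909
theorem L163913 : sm gc N14649 = N14114 := ded_28_1 (flp_h L159119) (flp_c L155790) L163909
theorem L163915 : sm ge N14649 = N13791 := ded_37_1 (flp_h L155799) (flp_e L155793) L163909
theorem L163917 : sm gf N14649 = N14116 := ded_40_1 (flp_h L159140) (flp_f L155795) L163909
theorem L163919 : sm gg N14649 = N14123 := ded_42_1 (flp_h L159208) (flp_g L155797) L163909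
theorem L163921 : sm gi N14649 = N14036 := ded_44_2 (flp_h L158401) (flp_i L149871) (flp_h L147112) L155786 L163909
theorem L163923 : sm gi N13792 = N14650 := rfl
theorem L163925 : sm ga N14650 = N13793 := ded_16_1 (flp_i L155823) L155809 L163923
theorem L163927 : sm gb N14650 = N13829 := ded_23_1 (flp_i L156255) (flp_b L155821) L163923
theorem L163929 : sm gd N14650 = N13812 := ded_34_1 (flp_i L156039) (flp_d L155811) L163923
theorem L163931 : sm ge N14650 = N14109 := ded_38_1 L159076 (flp_e L155813) L163923
theorem L163933 : sm gf N14650 = N14025 := ded_41_1 (flp_i L158282) (flp_f L155815) L163923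
theorem L163935 : sm gg N14650 = N13797 := ded_43_1 (flp_i L155869) (flp_g L155817) L163923
theorem L163937 : sm gh N13793 = N14651 := rfl
theorem L163939 : sm gb N14651 = N13794 := ded_22_1 (flp_h L155833) (flp_b L155825) L163937
theorem L163941 : sm ge N14651 = N14255 := ded_37_1 L160311 (flp_e L155829) L163937
theorem L163943 : sm gg N14651 = N13800 := ded_42_1 (flp_h L155903) (flp_g L155831) L163937
theorem L163945 : sm gd N13794 = N14652 := rfl
theorem L163947 : sm ga N14652 = N13831 := ded_11_1 (flp_d L156283) (flp_a L155835) L163945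
theorem L163949 : sm gf N14652 = N14553 := ded_31_2 (flp_d L163905) L163901 L163945
theorem L163951 : sm gg N14652 = N13803 := ded_32_2 (flp_d L155935) (flp_g L155841) L163945
theorem L163953 : sm gc N14652 = N14151 := ded_24_1 (flp_d L159453) L150932 (flp_d L147167) (flp_c L155837) L163945
theorem L163955 : sm ge N14652 = N13958 := ded_30_2 (flp_d L157539) L148763 L152141 (flp_e L155839) L163945
theorem L163957 : sm gh N14652 = N13814 := ded_33_2 (flp_d L156064) (flp_h L147403) (flp_d L147141) L155833 L163945
theorem L163959 : sm gd N13795 = N14653 := rfl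
theorem L163961 : sm ga N14653 = N13832 := ded_11_1 (flp_d L156295) (flp_a L155845) L163959
theorem L163963 : sm gf N14653 = N14298 := ded_31_2 L160712 (flp_f L155851) L163959
theorem L163965 : sm gg N14653 = N13806 := ded_32_2 (flp_d L155967) (flp_g L155853) L163959
theorem L163967 : sm gc N14653 = N14297 := ded_24_1 (flp_d L160696) L152123 L152141 (flp_c L155847) L163959
theorem L163969 : sm ge N14653 = N14304 := ded_30_2 (flp_d L160750) L152242 (flp_d L147167) (flp_e L155849) L163959
theorem L163971 : sm gh N14653 = N13807 := ded_33_2 (flp_d L155975) (flp_h L147257) (flp_d L147153) L155843 L163959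
theorem L163973 : sm gi N13796 = N14654 := rfl
theorem L163975 : sm ga N14654 = N13799 := ded_16_1 (flp_i L155893) (flp_a L155857) L163973
theorem L163977 : sm gb N14654 = N13833 := ded_23_1 (flp_i L156309) (flp_b L155859) L163973
theorem L163979 : sm gd N14654 = N14108 := ded_34_1 L159066 (flp_d L155865) L163973
theorem L163981 : sm ge N14654 = N13797 := ded_38_1 (flp_i L155869) L155855 L163973
theorem L163983 : sm gf N14654 = N14222 := ded_41_1 (flp_i L160057) L155867 L163973
theorem L163985 : sm gg N14654 = N14109 := ded_43_1 L159076 (flp_g L155861) L163973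
theorem L163987 : sm gh N13797 = N14655 := rfl
theorem L163989 : sm ga N14655 = N13800 := ded_15_1 (flp_h L155903) (flp_a L155871) L163987
theorem L163991 : sm gb N14655 = N13834 := ded_22_1 (flp_h L156323) (flp_b L155873) L163987
theorem L163993 : sm gf N14655 = N14130 := ded_40_1 (flp_h L159274) (flp_f L155877) L163987
theorem L163995 : sm gi N13798 = N14656 := rfl
theorem L163997 : sm ga N14656 = N14222 := ded_16_1 (flp_i L160057) (flp_a L155881) L163995
theorem L163999 : sm gb N14656 = N13801 := ded_23_1 (flp_i L155909) (flp_b L155883) L163995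
theorem L164001 : sm gd N14656 = N14267 := ded_34_1 L160429 (flp_d L155885) L163995
theorem L164003 : sm ge N14656 = N14131 := ded_38_1 (flp_i L159282) (flp_e L155889) L163995
theorem L164005 : sm gf N14656 = N13799 := ded_41_1 (flp_i L155893) L155879 L163995
theorem L164007 : sm gg N14656 = N14062 := ded_43_1 (flp_i L158634) (flp_g L155891) L163995
theorem L164009 : sm gh N13799 = N14657 := rfl
theorem L164011 : sm gb N14657 = N13802 := ded_22_1 (flp_h L155923) (flp_b L155895) L164009
theorem L164013 : sm ge N14657 = N13800 := ded_37_1 (flp_h L155903) (flp_e L155899) L164009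
theorem L164015 : sm gg N14657 = N14255 := ded_42_1 L160311 (flp_g L155901) L164009
theorem L164017 : sm gd N14657 = N14254 := ded_33_1 (flp_h L160299) L151666 L151849 (flp_d L155897) L164009
theorem L164019 : sm gd N13800 = N14658 := rfl
theorem L164021 : sm gb N14658 = N13803 := ded_18_1 (flp_d L155935) (flp_b L155905) L164019
theorem L164023 : sm gf N14658 = N14133 := ded_31_2 (flp_d L159295) (flp_f L155907) L164019
theorem L164025 : sm gh N14658 = N13816 := ded_33_2 (flp_d L156086) (flp_h L147424) (flp_d L147189) L155903 L164019
theorem L164027 : sm gh N13801 = N14659 := rfl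
theorem L164029 : sm ga N14659 = N13837 := ded_15_1 (flp_h L156359) (flp_a L155911) L164027
theorem L164031 : sm gc N14659 = N13805 := ded_28_1 (flp_h L155959) (flp_c L155913) L164027
theorem L164033 : sm ge N14659 = N14134 := ded_37_1 (flp_h L159301) (flp_e L155917) L164027
theorem L164035 : sm gf N14659 = N13802 := ded_40_1 (flp_h L155923) (flp_f L155919) L164027
theorem L164037 : sm gg N14659 = N14122 := ded_42_1 (flp_h L159198) (flp_g L155921) L164027
theorem L164039 : sm gd N14659 = N14290 := ded_33_1 (flp_h L160632) L152041 L152155 (flp_d L155915) L164027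
theorem L164041 : sm gi N14659 = N14137 := ded_44_2 (flp_h L159324) (flp_i L150710) (flp_h L147201) L155909 L164027
theorem L164043 : sm ge N13803 = N14660 := rfl
theorem L164045 : sm ga N14660 = N13838 := ded_12_1 (flp_e L156375) (flp_a L155937) L164043
theorem L164047 : sm gc N14660 = N14490 := ded_25_1 (flp_e L162476) (flp_c L155941) L164043
theorem L164049 : sm gg N14660 = N13958 := ded_36_2 (flp_e L163955) L163951 L164043
theorem L164051 : sm gh N14660 = N13817 := ded_37_2 (flp_e L156093) (flp_h L155943) L164043
theorem L164053 : sm gd N14660 = N13957 := ded_30_1 L157535 (flp_d L155933) L155929 L155935 L164043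
theorem L164055 : sm gf N14557 = N14660 := ded_46_1 (flp_e L164043) (flp_d L155935) L147223 (flp_b L146835) L146833 (flp_h L138889) L130123 (flp_e L133355) L133353 (flp_c L133426) L133424 L126202 L134423 (flp_f L143708) L143706 L143813 L143820 L143306 L134133 (flp_h L131247) L131243 L123700 L66299 L48489 L35581 L26126 L25511 (flp_f L34734) (flp_e L47325) (flp_d L64639) (flp_c L122024) (flp_b L129264) (flp_a L137627) L146651 L146657 L146655 (flp_d L147379) L147371 (flp_b L154743) (flp_a L158332) (flp_h L158330) (flp_f L156049) L156047 (flp_d L150463) (flp_c L150446) L150445 L150443 (flp_h L142733) L133499 L125361 (flp_d L121379) L121377 L61242 L44951 L45079 (flp_f L61487) (flp_e L121517) L128634 L136904 L146028 L154853 (flp_h L162959)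
theorem L164057 : sm gh N13804 = N14661 := rfl
theorem L164059 : sm ga N14661 = N13839 := ded_15_1 (flp_h L156389) (flp_a L155947) L164057
theorem L164061 : sm gc N14661 = N14122 := ded_28_1 (flp_h L159198) (flp_c L155949) L164057
theorem L164063 : sm ge N14661 = N14137 := ded_37_1 (flp_h L159324) (flp_e L155953) L164057
theorem L164065 : sm gf N14661 = N14120 := ded_40_1 (flp_h L159177) (flp_f L155955) L164057
theorem L164067 : sm gg N14661 = N13805 := ded_42_1 (flp_h L155959) (flp_g L155957) L164057
theorem L164069 : sm gd N14661 = N14552 := ded_33_1 L162931 L154795 L147282 (flp_d L155951) L164057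
theorem L164071 : sm gi N14661 = N14134 := ded_44_2 (flp_h L159301) (flp_i L150687) (flp_h L147237) L155945 L164057
theorem L164073 : sm gd N13805 = N14662 := rfl
theorem L164075 : sm ga N14662 = N13840 := ded_11_1 (flp_d L156405) (flp_a L155961) L164073
theorem L164077 : sm gf N14662 = N13806 := ded_31_2 (flp_d L155967) (flp_f L155965) L164073
theorem L164079 : sm gg N14662 = N14552 := ded_32_2 (flp_d L164069) L164067 L164073
theorem L164081 : sm gc N14662 = N14551 := ded_24_1 (flp_d L162917) (flp_c L160636) (flp_d L164039) L164031 L164073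
theorem L164083 : sm gh N14662 = N13808 := ded_33_2 (flp_d L155988) (flp_h L147284) (flp_d L147245) L155959 L164073
theorem L164085 : sm gc N13806 = N14663 := rfl
theorem L164087 : sm ga N14663 = N13841 := ded_10_1 (flp_c L156417) (flp_a L155969) L164085
theorem L164089 : sm ge N14663 = N14492 := ded_25_2 (flp_c L162490) (flp_e L155971) L164085
theorem L164091 : sm gf N14663 = N14551 := ded_26_2 (flp_c L164081) L164077 L164085
theorem L164093 : sm gg N14663 = N14297 := ded_27_2 (flp_c L163967) L163965 L164085
theorem L164095 : sm gh N14663 = N13809 := ded_28_2 (flp_c L155999) (flp_h L155973) L164085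
theorem L164097 : sm gd N14663 = N14296 := ded_24_2 L160690 (flp_d L155933) L155927 L155967 L164085
theorem L164099 : sm ge N13808 = N14664 := rfl
theorem L164101 : sm ga N14664 = N13842 := ded_12_1 (flp_e L156429) (flp_a L155990) L164099
theorem L164103 : sm gc N14664 = N14038 := ded_25_1 L158430 (flp_c L155997) L164099
theorem L164105 : sm gg N14664 = N13844 := ded_36_2 L156464 (flp_g L155994) L164099
theorem L164107 : sm gi N14664 = N14664 := ded_38_2 (flp_e L164099) L155996 L164099
theorem L164108 : sm gd N14664 = N13810 := ded_30_1 (flp_e L156012) (flp_d L147316) (flp_e L147290) L155988 L164099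
theorem L164110 : sm gf N14664 = N14031 := ded_35_2 L158352 L154370 (flp_e L147302) (flp_f L155992) L164099
theorem L164112 : sm gb N13809 = N14665 := rfl
theorem L164114 : sm gd N14665 = N14377 := ded_18_2 L161420 (flp_d L156010) L164112
theorem L164116 : sm ge N14665 = N14493 := ded_19_2 (flp_b L162496) (flp_e L156003) L164112
theorem L164118 : sm gf N14665 = N14540 := ded_20_2 L162799 (flp_f L156005) L164112
theorem L164120 : sm gg N14665 = N14378 := ded_21_2 L161430 (flp_g L156007) L164112
theorem L164122 : sm gi N14665 = N14665 := ded_23_2 (flp_b L164112) L156009 L164112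
theorem L164123 : sm gd N13813 = N14666 := rfl
theorem L164125 : sm gb N14666 = N13814 := ded_18_1 (flp_d L156064) (flp_b L156055) L164123
theorem L164127 : sm gf N14666 = N14542 := ded_31_2 L162814 (flp_f L156059) L164123
theorem L164129 : sm gg N14666 = N13816 := ded_32_2 (flp_d L156086) (flp_g L156061) L164123
theorem L164131 : sm gi N14666 = N14666 := ded_34_2 (flp_d L164123) L156063 L164123
theorem L164132 : sm ge N14666 = N13922 := ded_30_2 (flp_d L157138) L148300 L148366 (flp_e L156057) L164123
theorem L164134 : sm gd N13815 = N14667 := rfl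
theorem L164136 : sm ga N14667 = N13816 := ded_11_1 (flp_d L156086) (flp_a L156079) L164134
theorem L164138 : sm gb N14667 = N13844 := ded_18_1 (flp_d L156455) (flp_b L156081) L164134
theorem L164140 : sm gf N14667 = N14141 := ded_31_2 (flp_d L159363) (flp_f L156083) L164134
theorem L164142 : sm gi N14667 = N14667 := ded_34_2 (flp_d L164134) L156085 L164134
theorem L164143 : sm ge N14667 = N14555 := ded_30_2 L162945 (flp_e L155610) (flp_d L162891) L162881 L164134
theorem L164145 : sm gc N13816 = N14668 := rfl
theorem L164147 : sm gf N14668 = N14142 := ded_26_2 (flp_c L159372) (flp_f L156090) L164145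
theorem L164149 : sm gi N14668 = N14668 := ded_29_2 (flp_c L164145) L156092 L164145
theorem L164150 : sm gb N14668 = N14494 := ded_17_1 (flp_c L162500) L154381 (flp_c L147438) (flp_b L156088) L164145
theorem L164152 : sm ge N13816 = N14669 := rfl
theorem L164154 : sm ga N14669 = N14555 := ded_12_1 (flp_e L164143) L164136 L164152
theorem L164156 : sm gb N14669 = N13817 := ded_19_1 (flp_e L156093) (flp_b L156088) L164152
theorem L164158 : sm gg N14669 = N13922 := ded_36_2 (flp_e L164132) L164129 L164152
theorem L164160 : sm gi N14669 = N14669 := ded_38_2 (flp_e L164152) L156092 L164152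
theorem L164161 : sm gd N14669 = N13921 := ded_30_1 L157131 (flp_d L155142) L155137 L156086 L164152
theorem L164163 : sm gf N14556 = N14669 := ded_13_0 L164154 L162947 L162950
theorem L164165 : sm gd N13819 = N14670 := rfl
theorem L164167 : sm gb N14670 = N14190 := ded_18_1 (flp_d L159815) (flp_b L156124) L164165
theorem L164169 : sm gf N14670 = N14147 := ded_31_2 (flp_d L159411) (flp_f L156130) L164165
theorem L164171 : sm gg N14670 = N13824 := ded_32_2 (flp_d L156193) (flp_g L156132) L164165
theorem L164173 : sm gi N14670 = N13831 := ded_34_2 (flp_d L156283) (flp_i L156134) L164165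
theorem L164175 : sm gc N14670 = N14146 := ded_24_1 (flp_d L159402) L150848 (flp_d L147486) (flp_c L156126) L164165
theorem L164177 : sm ge N14670 = N13969 := ded_30_2 (flp_d L157657) L148956 (flp_d L150913) (flp_e L156128) L164165
theorem L164179 : sm gh N14670 = N14670 := ded_33_2 (flp_d L164165) (flp_h L156122) L147460 L156122 L164165
theorem L164180 : sm gd N13820 = N14671 := rfl
theorem L164182 : sm gb N14671 = N13964 := ded_18_1 (flp_d L157592) (flp_b L156138) L164180
theorem L164184 : sm gf N14671 = N14148 := ded_31_2 (flp_d L159420) (flp_f L156144) L164180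
theorem L164186 : sm gg N14671 = N13826 := ded_32_2 (flp_d L156216) (flp_g L156146) L164180
theorem L164188 : sm gi N14671 = N13832 := ded_34_2 (flp_d L156295) (flp_i L156148) L164180
theorem L164190 : sm gc N14671 = N14302 := ded_24_1 (flp_d L160737) L152203 (flp_d L150913) (flp_c L156140) L164180
theorem L164192 : sm ge N14671 = N14301 := ded_30_2 (flp_d L160728) L152195 (flp_d L147486) (flp_e L156142) L164180
theorem L164194 : sm gh N14671 = N14671 := ded_33_2 (flp_d L164180) (flp_h L156136) L147473 L156136 L164180
theorem L164195 : sm gh N13821 = N14672 := rfl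
theorem L164197 : sm ga N14672 = N13822 := ded_15_1 (flp_h L156163) (flp_a L156152) L164195
theorem L164199 : sm gc N14672 = N13965 := ded_28_1 (flp_h L157603) (flp_c L156154) L164195
theorem L164201 : sm ge N14672 = N14290 := ded_37_1 (flp_h L160632) (flp_e L156157) L164195
theorem L164203 : sm gf N14672 = N14145 := ded_40_1 (flp_h L159392) (flp_f L156159) L164195
theorem L164205 : sm gg N14672 = N14188 := ded_42_1 (flp_h L159800) (flp_g L156161) L164195
theorem L164207 : sm gi N14672 = N13834 := ded_44_2 (flp_h L156323) (flp_i L147658) (flp_h L147501) L156150 L164195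
theorem L164209 : sm gd N13822 = N14673 := rfl
theorem L164211 : sm gb N14673 = N13824 := ded_18_1 (flp_d L156193) (flp_b L156165) L164209
theorem L164213 : sm gf N14673 = N14146 := ded_31_2 (flp_d L159402) (flp_f L156171) L164209
theorem L164215 : sm gg N14673 = N14190 := ded_32_2 (flp_d L159815) (flp_g L156173) L164209
theorem L164217 : sm gi N14673 = N13836 := ded_34_2 (flp_d L156347) (flp_i L156175) L164209
theorem L164219 : sm gc N14673 = N14147 := ded_24_1 (flp_d L159411) (flp_c L156110) L156118 (flp_c L156167) L164209
theorem L164221 : sm ge N14673 = N14153 := ded_30_2 (flp_d L159470) (flp_e L156365) L156371 (flp_e L156169) L164209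
theorem L164223 : sm gh N14673 = N14673 := ded_33_2 (flp_d L164209) (flp_h L156163) L147509 L156163 L164209
theorem L164224 : sm ge N13824 = N14674 := rfl
theorem L164226 : sm gb N14674 = N14153 := ded_19_1 (flp_e L164221) L164211 L164224
theorem L164228 : sm gc N14674 = N14497 := ded_25_1 (flp_e L162519) (flp_c L156199) L164224
theorem L164230 : sm gg N14674 = N13969 := ded_36_2 (flp_e L164177) L164171 L164224
theorem L164232 : sm gh N14674 = N14674 := ded_37_2 (flp_e L164224) L156201 L164224
theorem L164233 : sm gi N14674 = N13838 := ded_38_2 (flp_e L156375) (flp_i L156197) L164224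
theorem L164235 : sm gd N14674 = N13968 := ded_30_1 L157649 (flp_d L156189) L156183 L156193 L164224
theorem L164237 : sm gf N14152 = N14674 := ded_45_3 (flp_e L164224) (flp_d L156193) (flp_b L156165) L156167 (flp_d L156118) L156120 (flp_h L147586) L138349 L129720 L122337 (flp_d L122378) L122376 L65324 L65325 (flp_i L47799) (flp_h L35037) L25703 L25706 (flp_e L35025) (flp_d L47749) (flp_b L64808) L64810 L64811 L104371 (flp_h L49926) (flp_d L68201) (flp_f L123000) L130722 L130730 L130724 L123004 L65308 L65336 L123069 L130817 (flp_f L139852) (flp_e L147821) (flp_d L147812) (flp_b L147789) L147791 L138714 L131985 (flp_h L131979) L124213 L67165 L49108 L36005 L36003 L26407 L19679 (flp_i L14886) (flp_h L10939) L8037 L5961 L5958 (flp_d L109530) (flp_b L5500) L5502 (flp_d L110117) L6000 (flp_h L7952) (flp_d L10803) L10805 L111569 L10696 L10690 L7894 L7899 L10736 L10746 L7976 (flp_f L109730) (flp_e L10305) (flp_d L13952) (flp_b L18930) (flp_c L25701) L25703 L104443 (flp_h L27574) (flp_d L37535) L37533 L51263 (flp_d L68207) (flp_b L125739) (flp_c L132648) L132652 L141762 L150936 L159461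
theorem L164239 : sm gd N13825 = N14675 := rfl
theorem L164241 : sm gb N14675 = N13969 := ded_18_1 (flp_d L157657) (flp_b L156204) L164239
theorem L164243 : sm gf N14675 = N13826 := ded_31_2 (flp_d L156216) (flp_f L156210) L164239
theorem L164245 : sm gg N14675 = N14153 := ded_32_2 (flp_d L159470) (flp_g L156212) L164239
theorem L164247 : sm gi N14675 = N13840 := ded_34_2 (flp_d L156405) (flp_i L156214) L164239
theorem L164249 : sm gc N14675 = N13980 := ded_24_1 (flp_d L157786) (flp_c L156335) L156343 (flp_c L156206) L164239
theorem L164251 : sm ge N14675 = N14190 := ded_30_2 (flp_d L159815) L151325 (flp_d L150877) (flp_e L156208) L164239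
theorem L164253 : sm gh N14675 = N14675 := ded_33_2 (flp_d L164239) (flp_h L156202) L147544 L156202 L164239
theorem L164254 : sm gc N13826 = N14676 := rfl
theorem L164256 : sm ge N14676 = N14498 := ded_25_2 (flp_c L162524) (flp_e L156222) L164254
theorem L164258 : sm gf N14676 = N13980 := ded_26_2 (flp_c L164249) L164243 L164254
theorem L164260 : sm gg N14676 = N14302 := ded_27_2 (flp_c L164190) L164186 L164254
theorem L164262 : sm gh N14676 = N14676 := ded_28_2 (flp_c L164254) L156224 L164254
theorem L164263 : sm gi N14676 = N13841 := ded_29_2 (flp_c L156417) (flp_i L156220) L164254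
theorem L164265 : sm gd N14676 = N13979 := ded_24_2 L157776 (flp_d L156189) L156181 L156216 L164254
theorem L164267 : sm gb N13982 = N14676 := ded_45_6 (flp_c L164254) (flp_d L156216) L147557 (flp_h L138487) L129790 (flp_f L129841) L129839 L122417 L67138 L49876 L37594 (flp_i L37591) L27530 L21576 (flp_f L15913) (flp_e L11751) (flp_d L8663) L6434 L6435 L4757 L6439 L6446 L6443 L6444 (flp_e L8618) (flp_d L11420) L11418 (flp_c L11267) L11269 (flp_i L11264) (flp_h L8284) (flp_d L6120) L6127 L6133 (flp_d L8282) (flp_b L11223) (flp_c L15254) (flp_d L19355) (flp_i L26184) L35719 L48723 L48727 L48741 L48748 L44768 L33076 L24766 L33745 L45995 L62808 (flp_f L121717) L128879 (flp_d L137184) L137182 (flp_c L138544) (flp_d L146620) L146622 (flp_h L146609) L137533 L132756 (flp_e L141843) (flp_d L147674) L147670 L138449 L129790 (flp_i L122390) L64886 (flp_d L122353) L129778 L129784 L124686 L67105 L49847 (flp_d L51278) L70219 L126575 L134816 L134819 L126588 (flp_d L126582) L70229 (flp_c L126558) L134802 L134806 (flp_h L143226) (flp_d L143222) (flp_f L143220) (flp_e L149123) L157809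
theorem L164269 : sm gd N13828 = N14677 := rfl
theorem L164271 : sm gb N14677 = N13971 := ded_18_1 (flp_d L157673) (flp_b L156243) L164269
theorem L164273 : sm gf N14677 = N14144 := ded_31_2 (flp_d L159381) (flp_f L156249) L164269
theorem L164275 : sm gg N14677 = N14147 := ded_32_2 (flp_d L159411) (flp_g L156251) L164269
theorem L164277 : sm gi N14677 = N14037 := ded_34_2 (flp_d L158409) (flp_i L156253) L164269
theorem L164279 : sm gc N14677 = N14190 := ded_24_1 (flp_d L159815) L151323 (flp_d L150819) (flp_c L156245) L164269
theorem L164281 : sm ge N14677 = N13980 := ded_30_2 (flp_d L157786) L149100 (flp_d L147594) (flp_e L156247) L164269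
theorem L164283 : sm gh N14677 = N14677 := ded_33_2 (flp_d L164269) (flp_h L156241) L147579 L156241 L164269
theorem L164284 : sm gh N13829 = N14678 := rfl
theorem L164286 : sm ga N14678 = N13830 := ded_15_1 (flp_h L156269) (flp_a L156257) L164284
theorem L164288 : sm gc N14678 = N13972 := ded_28_1 (flp_h L157686) (flp_c L156259) L164284
theorem L164290 : sm ge N14678 = N14138 := ded_37_1 L159338 (flp_e L156263) L164284
theorem L164292 : sm gf N14678 = N14026 := ded_40_1 (flp_h L158292) (flp_f L156265) L164284
theorem L164294 : sm gg N14678 = N13834 := ded_42_1 (flp_h L156323) (flp_g L156267) L164284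
theorem L164296 : sm gi N14678 = N14188 := ded_44_2 (flp_h L159800) (flp_i L151294) (flp_h L147608) L156255 L164284
theorem L164298 : sm gd N13830 = N14679 := rfl
theorem L164300 : sm gb N14679 = N13831 := ded_18_1 (flp_d L156283) (flp_b L156271) L164298
theorem L164302 : sm gf N14679 = N14035 := ded_31_2 (flp_d L158387) (flp_f L156277) L164298
theorem L164304 : sm gg N14679 = N13836 := ded_32_2 (flp_d L156347) (flp_g L156279) L164298
theorem L164306 : sm gi N14679 = N14190 := ded_34_2 (flp_d L159815) (flp_i L156281) L164298
theorem L164308 : sm gc N14679 = N14037 := ded_24_1 (flp_d L158409) L149885 (flp_d L149003) (flp_c L156273) L164298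
theorem L164310 : sm ge N14679 = N13840 := ded_30_2 (flp_d L156405) L147740 L150977 (flp_e L156275) L164298
theorem L164312 : sm gh N14679 = N13842 := ded_33_2 L156438 L147795 (flp_d L147616) L156269 L164298
theorem L164314 : sm gh N13833 = N14680 := rfl
theorem L164316 : sm ga N14680 = N13835 := ded_15_1 (flp_h L156331) (flp_a L156311) L164314
theorem L164318 : sm gc N14680 = N13978 := ded_28_1 (flp_h L157762) (flp_c L156313) L164314
theorem L164320 : sm ge N14680 = N13834 := ded_37_1 (flp_h L156323) (flp_e L156317) L164314
theorem L164322 : sm gf N14680 = N14289 := ded_40_1 (flp_h L160624) (flp_f L156319) L164314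
theorem L164324 : sm gg N14680 = N14138 := ded_42_1 L159338 (flp_g L156321) L164314
theorem L164326 : sm gd N14680 = N14137 := ded_33_1 (flp_h L159324) L150714 L150750 (flp_d L156315) L164314
theorem L164328 : sm gi N14680 = N14290 := ded_44_2 (flp_h L160632) (flp_i L152035) (flp_h L147652) L156309 L164314
theorem L164330 : sm gd N13834 = N14681 := rfl
theorem L164332 : sm ga N14681 = N13836 := ded_11_1 (flp_d L156347) (flp_a L156325) L164330
theorem L164334 : sm gf N14681 = N14151 := ded_31_2 (flp_d L159453) (flp_f L156329) L164330
theorem L164336 : sm gc N14681 = N14553 := ded_24_1 (flp_d L163905) L163897 L155807 (flp_c L156327) L164330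
theorem L164338 : sm ge N14681 = N14552 := ded_30_2 (flp_d L164069) L164063 (flp_d L164326) L164320 L164330
theorem L164340 : sm gh N14681 = N13844 := ded_33_2 (flp_d L156455) (flp_h L147823) (flp_d L147664) L156323 L164330
theorem L164342 : sm gb N13841 = N14682 := rfl
theorem L164344 : sm gd N14682 = N13966 := ded_18_2 L157617 (flp_d L156427) L164342
theorem L164346 : sm ge N14682 = N14501 := ded_19_2 L162541 (flp_e L156419) L164342
theorem L164348 : sm gf N14682 = N13967 := ded_20_2 L157631 (flp_f L156421) L164342
theorem L164350 : sm gg N14682 = N14305 := ded_21_2 L160760 (flp_g L156423) L164342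
theorem L164352 : sm gh N14682 = N13843 := ded_22_2 (flp_b L156442) (flp_h L156425) L164342
theorem L164354 : sm gi N14682 = N13982 := ded_23_2 L164267 L164263 L164342
theorem L164356 : sm gc N14682 = N13985 := ded_17_2 (flp_b L157835) (flp_c L149142) (flp_b L147746) L156417 L164342
theorem L164358 : sm ga N13843 = N14683 := rfl
theorem L164360 : sm gc N14683 = N13988 := ded_10_2 (flp_a L157867) (flp_c L156453) L164358
theorem L164362 : sm gd N14683 = N14382 := ded_11_2 L161459 (flp_d L156444) L164358
theorem L164364 : sm ge N14683 = N14496 := ded_12_2 L162513 (flp_e L156446) L164358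
theorem L164366 : sm gf N14683 = N14034 := ded_13_2 L158378 (flp_f L156448) L164358
theorem L164368 : sm gg N14683 = N14383 := ded_14_2 L161470 (flp_g L156450) L164358
theorem L164370 : sm gi N14683 = N14683 := ded_16_2 (flp_a L164358) L156452 L164358
theorem L164371 : sm gc N13845 = N14684 := rfl
theorem L164373 : sm ge N14684 = N14611 := ded_25_2 L163503 L161932 L164371
theorem L164375 : sm gf N14684 = N13847 := ded_26_2 (flp_c L156486) (flp_f L156470) L164371
theorem L164377 : sm gg N14684 = N14154 := ded_27_2 L159487 (flp_g L156472) L164371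
theorem L164379 : sm gb N14684 = N14019 := ded_17_1 L158218 L149680 (flp_c L149192) (flp_b L156468) L164371
theorem L164381 : sm gd N14684 = N13856 := ded_24_2 (flp_c L156559) (flp_d L147941) (flp_c L147886) L156466 L164371
theorem L164383 : sm gi N13845 = N14685 := rfl
theorem L164385 : sm gb N14685 = N13989 := ded_23_1 (flp_i L157875) (flp_b L156468) L164383
theorem L164387 : sm gd N14685 = N13846 := ded_34_1 (flp_i L156474) L156466 L164383
theorem L164389 : sm gf N14685 = N13848 := ded_41_1 (flp_i L156492) (flp_f L156470) L164383
theorem L164391 : sm gg N14685 = N14191 := ded_43_1 (flp_i L159820) (flp_g L156472) L164383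
theorem L164393 : sm gb N13847 = N14686 := rfl
theorem L164395 : sm gd N14686 = N13858 := ded_18_2 (flp_b L156583) (flp_d L156490) L164393
theorem L164397 : sm gf N14686 = N14019 := ded_20_2 (flp_b L164379) L164375 L164393
theorem L164399 : sm gg N14686 = N13849 := ded_21_2 (flp_b L156500) (flp_g L156488) L164393
theorem L164401 : sm gh N14686 = N14684 := ded_22_2 L164379 L158222 L164393
theorem L164403 : sm gc N14686 = N13990 := ded_17_2 (flp_b L157886) (flp_c L149205) (flp_b L147894) L156486 L164393
theorem L164405 : sm ga N14166 = N14686 := ded_11_3 L164395 (flp_a L156593) (flp_d L159588)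
theorem L164407 : sm gi N13847 = N14687 := rfl
theorem L164409 : sm gc N14687 = N13848 := ded_29_1 (flp_i L156492) L156486 L164407
theorem L164411 : sm gd N14687 = N13860 := ded_34_1 (flp_i L156609) (flp_d L156490) L164407
theorem L164413 : sm gg N14687 = N13851 := ded_43_1 (flp_i L156512) (flp_g L156488) L164407
theorem L164415 : sm gh N13848 = N14688 := rfl
theorem L164417 : sm gb N14688 = N13995 := ded_22_1 (flp_h L157932) (flp_b L156494) L164415
theorem L164419 : sm gg N14688 = N13854 := ded_42_1 (flp_h L156536) (flp_g L156498) L164415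
theorem L164421 : sm gd N14688 = N14317 := ded_33_1 (flp_h L160865) L152365 (flp_h L147907) (flp_d L156496) L164415
theorem L164423 : sm ga N13849 = N14689 := rfl
theorem L164425 : sm gc N14689 = N13996 := ded_10_2 (flp_a L157939) (flp_c L156506) L164423
theorem L164427 : sm gd N14689 = N13863 := ded_11_2 (flp_a L156636) (flp_d L156502) L164423
theorem L164429 : sm gf N14689 = N14196 := ded_13_2 (flp_a L159862) (flp_f L156504) L164423
theorem L164431 : sm gg N14689 = N14166 := ded_14_2 L164405 L164399 L164423
theorem L164433 : sm ge N13849 = N14690 := rfl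
theorem L164435 : sm gb N14690 = N13850 := ded_19_1 (flp_e L156508) L156500 L164433
theorem L164437 : sm gc N14690 = N13997 := ded_25_1 (flp_e L157948) (flp_c L156506) L164433
theorem L164439 : sm gh N14690 = N14428 := ded_37_2 L161936 L159485 L164433
theorem L164441 : sm gf N14426 = N14690 := ded_46_1 (flp_e L164433) L156502 L147994 (flp_b L139139) L130277 L122942 L65302 L68203 L68207 L51265 L37539 (flp_a L51087) L51089 L69939 L69946 L69943 (flp_c L68018) (flp_b L125322) (flp_a L132146) L132150 (flp_f L126865) (flp_e L72061) (flp_d L52644) L38531 L38529 L28249 (flp_h L20777) (flp_f L15250) L11217 (flp_d L14219) (flp_c L14214) L10492 (flp_a L9726) L13160 (flp_f L17854) (flp_e L24215) L32923 L93065 (flp_b L49098) (flp_a L66987) L66992 (flp_f L124204) (flp_e L131506) L131505 (flp_c L140335) (flp_b L149492) (flp_a L149480) L140265 L140264 L140262 (flp_d L140656) (flp_c L149632) (flp_b L149626) L140492 (flp_h L141913) L141911 L145608 L154463 L154465 (flp_b L159936) L159934 (flp_h L161924)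
theorem L164443 : sm gi N13849 = N14691 := rfl
theorem L164445 : sm gb N14691 = N13851 := ded_23_1 (flp_i L156512) L156500 L164443
theorem L164447 : sm gc N14691 = N13998 := ded_29_1 (flp_i L157958) (flp_c L156506) L164443
theorem L164449 : sm gd N14691 = N13865 := ded_34_1 (flp_i L156660) (flp_d L156502) L164443
theorem L164451 : sm gf N14691 = N14198 := ded_41_1 (flp_i L159882) (flp_f L156504) L164443
theorem L164453 : sm gd N13850 = N14692 := rfl
theorem L164455 : sm gc N14692 = N14692 := ded_24_1 (flp_d L164453) L156510 L147919 (flp_c L156510) L164453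
theorem L164456 : sm ge N14692 = N13866 := ded_30_2 (flp_d L156668) (flp_e L147996) (flp_d L147913) L156508 L164453
theorem L164458 : sm gf N13850 = N14693 := rfl
theorem L164460 : sm gb N14693 = N14426 := ded_20_1 L164441 L164435 L164458
theorem L164462 : sm gc N14693 = N13852 := ded_26_1 (flp_f L156520) (flp_c L156510) L164458
theorem L164464 : sm gh N14693 = N14429 := ded_40_2 L161948 L159497 L164458
theorem L164466 : sm ge N14693 = N14200 := ded_35_1 (flp_f L159898) (flp_e L151382) (flp_f L147911) L156508 L164458
theorem L164468 : sm gi N13850 = N14694 := rfl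
theorem L164470 : sm gc N14694 = N13853 := ded_29_1 (flp_i L156529) (flp_c L156510) L164468
theorem L164472 : sm ge N14694 = N13851 := ded_38_1 (flp_i L156512) L156508 L164468
theorem L164474 : sm gh N13851 = N14695 := rfl
theorem L164476 : sm gc N14695 = N13854 := ded_28_1 (flp_h L156536) (flp_c L156514) L164474
theorem L164478 : sm gf N14695 = N14202 := ded_40_1 (flp_h L159908) (flp_f L156518) L164474
theorem L164480 : sm gg N13852 = N14696 := rfl
theorem L164482 : sm gb N14696 = N14001 := ded_21_1 (flp_g L157984) (flp_b L156522) L164480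
theorem L164484 : sm gd N14696 = N14696 := ded_32_1 (flp_g L164480) L156524 L164480
theorem L164485 : sm ge N14696 = N14203 := ded_36_1 (flp_g L159912) (flp_e L156527) L164480
theorem L164487 : sm gh N14696 = N14445 := ded_42_2 L162111 (flp_h L156525) L164480
theorem L164489 : sm gi N13852 = N14697 := rfl
theorem L164491 : sm gb N14697 = N14002 := ded_23_1 (flp_i L157994) (flp_b L156522) L164489
theorem L164493 : sm gd N14697 = N14697 := ded_34_1 (flp_i L164489) L156524 L164489
theorem L164494 : sm ge N14697 = N14204 := ded_38_1 (flp_i L159918) (flp_e L156527) L164489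
theorem L164496 : sm gf N14697 = N13853 := ded_41_1 (flp_i L156529) L156520 L164489
theorem L164498 : sm gh N13853 = N14698 := rfl
theorem L164500 : sm gb N14698 = N14003 := ded_22_1 (flp_h L158004) (flp_b L156531) L164498
theorem L164502 : sm ge N14698 = N13854 := ded_37_1 (flp_h L156536) (flp_e L156534) L164498
theorem L164504 : sm gi N13856 = N14699 := rfl
theorem L164506 : sm gb N14699 = N14020 := ded_23_1 (flp_i L158224) (flp_b L156569) L164504
theorem L164508 : sm gc N14699 = N13857 := ded_29_1 (flp_i L156571) L156559 L164504
theorem L164510 : sm ge N14699 = N14018 := ded_38_1 (flp_i L158202) (flp_e L156561) L164504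
theorem L164512 : sm gf N14699 = N13860 := ded_41_1 (flp_i L156609) (flp_f L156563) L164504
theorem L164514 : sm gg N14699 = N14159 := ded_43_1 (flp_i L159531) (flp_g L156565) L164504
theorem L164516 : sm gh N13857 = N14700 := rfl
theorem L164518 : sm gb N14700 = N13927 := ded_22_1 (flp_h L157176) (flp_b L156573) L164516
theorem L164520 : sm ge N14700 = N14028 := ded_37_1 (flp_h L158314) (flp_e L156577) L164516
theorem L164522 : sm gf N14700 = N13862 := ded_40_1 (flp_h L156626) (flp_f L156579) L164516
theorem L164524 : sm gg N14700 = N14185 := ded_42_1 (flp_h L159777) (flp_g L156581) L164516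
theorem L164526 : sm gd N14700 = N13934 := ded_33_1 (flp_h L157276) L148485 (flp_h L147961) (flp_d L156575) L164516
theorem L164528 : sm gi N14700 = N13876 := ded_44_2 (flp_h L156756) (flp_i L148053) (flp_h L147951) L156571 L164516
theorem L164530 : sm gi N13858 = N14701 := rfl
theorem L164532 : sm ga N14701 = N14169 := ded_16_1 (flp_i L159610) L156593 L164530
theorem L164534 : sm gb N14701 = N13860 := ded_23_1 (flp_i L156609) L156583 L164530
theorem L164536 : sm gc N14701 = N13928 := ded_29_1 (flp_i L157192) (flp_c L156591) L164530
theorem L164538 : sm ge N14701 = N14463 := ded_38_1 (flp_i L162245) L156595 L164530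
theorem L164540 : sm gf N14701 = N14020 := ded_41_1 (flp_i L158224) (flp_f L156585) L164530
theorem L164542 : sm gg N14701 = N13865 := ded_43_1 (flp_i L156660) (flp_g L156587) L164530
theorem L164544 : sm gd N13859 = N14702 := rfl
theorem L164546 : sm gb N14702 = N14460 := ded_18_1 L162225 (flp_b L156599) L164544
theorem L164548 : sm gf N14702 = N14457 := ded_31_2 (flp_d L162198) (flp_f L156607) L164544
theorem L164550 : sm gg N14702 = N13866 := ded_32_2 (flp_d L156668) (flp_g L156603) L164544
theorem L164552 : sm gc N14702 = N14702 := ded_24_1 (flp_d L164544) L156601 L147977 (flp_c L156601) L164544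
theorem L164553 : sm gi N13859 = N14703 := rfl
theorem L164555 : sm gb N14703 = N14463 := ded_23_1 (flp_i L162245) (flp_b L156599) L164553
theorem L164557 : sm gc N14703 = N13861 := ded_29_1 (flp_i L156615) (flp_c L156601) L164553
theorem L164559 : sm ge N14703 = N13860 := ded_38_1 (flp_i L156609) L156597 L164553
theorem L164561 : sm gf N14703 = N14458 := ded_41_1 (flp_i L162205) (flp_f L156607) L164553
theorem L164563 : sm gg N14703 = N13868 := ded_43_1 (flp_i L156679) (flp_g L156603) L164553
theorem L164565 : sm gh N13860 = N14704 := rfl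
theorem L164567 : sm gc N14704 = N13862 := ded_28_1 (flp_h L156626) (flp_c L156611) L164565
theorem L164569 : sm gg N14704 = N13869 := ded_42_1 (flp_h L156685) (flp_g L156613) L164565
theorem L164571 : sm gi N14704 = N13883 := ded_44_2 (flp_h L156832) (flp_i L148079) (flp_h L147967) L156609 L164565
theorem L164573 : sm gh N13861 = N14705 := rfl
theorem L164575 : sm gb N14705 = N13930 := ded_22_1 (flp_h L157222) (flp_b L156617) L164573
theorem L164577 : sm ge N14705 = N13862 := ded_37_1 (flp_h L156626) (flp_e L156620) L164573
theorem L164579 : sm gf N14705 = N14487 := ded_40_1 (flp_h L162459) (flp_f L156622) L164573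
theorem L164581 : sm gg N14705 = N13872 := ded_42_1 (flp_h L156715) (flp_g L156624) L164573
theorem L164583 : sm gi N14705 = N13886 := ded_44_2 (flp_h L156864) (flp_i L148097) (flp_h L147975) L156615 L164573
theorem L164585 : sm gi N13863 = N14706 := rfl
theorem L164587 : sm ga N14706 = N13865 := ded_16_1 (flp_i L156660) L156636 L164585
theorem L164589 : sm gc N14706 = N13931 := ded_29_1 (flp_i L157236) (flp_c L156638) L164585
theorem L164591 : sm ge N14706 = N14523 := ded_38_1 (flp_i L162686) L156646 L164585
theorem L164593 : sm gf N14706 = N14210 := ded_41_1 (flp_i L159972) (flp_f L156640) L164585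
theorem L164595 : sm gg N14706 = N14169 := ded_43_1 (flp_i L159610) (flp_g L156642) L164585
theorem L164597 : sm gd N13864 = N14707 := rfl
theorem L164599 : sm ga N14707 = N14518 := ded_11_1 L162658 (flp_a L156650) L164597
theorem L164601 : sm gb N14707 = N13866 := ded_18_1 (flp_d L156668) (flp_b L156652) L164597
theorem L164603 : sm gg N14707 = N14460 := ded_32_2 L162225 (flp_g L156656) L164597
theorem L164605 : sm gc N14707 = N14469 := ded_24_1 L162297 L154145 (flp_d L148479) (flp_c L156654) L164597
theorem L164607 : sm gf N13864 = N14708 := rfl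
theorem L164609 : sm ga N14708 = N14240 := ded_13_1 L160217 (flp_a L156650) L164607
theorem L164611 : sm gb N14708 = N13867 := ded_20_1 (flp_f L156671) (flp_b L156652) L164607
theorem L164613 : sm gc N14708 = N13932 := ded_26_1 (flp_f L157250) (flp_c L156654) L164607
theorem L164615 : sm gh N14708 = N13890 := ded_40_2 (flp_f L156895) (flp_h L156658) L164607
theorem L164617 : sm ge N14708 = N14212 := ded_35_1 (flp_f L159987) (flp_e L151456) (flp_f L147990) L156648 L164607
theorem L164619 : sm gg N14708 = N14234 := ded_39_2 (flp_f L160157) L151582 L154078 (flp_g L156656) L164607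
theorem L164621 : sm gi N13864 = N14709 := rfl
theorem L164623 : sm ga N14709 = N14523 := ded_16_1 (flp_i L162686) (flp_a L156650) L164621
theorem L164625 : sm gb N14709 = N13868 := ded_23_1 (flp_i L156679) (flp_b L156652) L164621
theorem L164627 : sm gc N14709 = N13933 := ded_29_1 (flp_i L157264) (flp_c L156654) L164621
theorem L164629 : sm ge N14709 = N13865 := ded_38_1 (flp_i L156660) L156648 L164621
theorem L164631 : sm gg N14709 = N14463 := ded_43_1 (flp_i L162245) (flp_g L156656) L164621
theorem L164633 : sm gh N13865 = N14710 := rfl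
theorem L164635 : sm gb N14710 = N13869 := ded_22_1 (flp_h L156685) (flp_b L156662) L164633
theorem L164637 : sm gc N14710 = N13934 := ded_28_1 (flp_h L157276) (flp_c L156664) L164633
theorem L164639 : sm gf N14710 = N14214 := ded_40_1 (flp_h L160005) (flp_f L156666) L164633
theorem L164641 : sm gi N14710 = N13892 := ded_44_2 (flp_h L156911) (flp_i L148127) (flp_h L147992) L156660 L164633
theorem L164643 : sm gf N13866 = N14711 := rfl
theorem L164645 : sm gc N14711 = N14711 := ded_26_1 (flp_f L164643) L156670 L164643
theorem L164646 : sm gd N14711 = N13867 := ded_31_1 (flp_f L156671) L156668 L164643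
theorem L164648 : sm gh N13866 = N14712 := rfl
theorem L164650 : sm gc N14712 = N14712 := ded_28_1 (flp_h L164648) L156670 L164648
theorem L164651 : sm gd N14712 = N13894 := ded_33_1 (flp_h L156925) (flp_d L148135) (flp_h L148000) L156668 L164648
theorem L164653 : sm gi N13866 = N14713 := rfl
theorem L164655 : sm gc N14713 = N14713 := ded_29_1 (flp_i L164653) L156670 L164653
theorem L164656 : sm gd N14713 = N13868 := ded_34_1 (flp_i L156679) L156668 L164653
theorem L164658 : sm gg N13867 = N14714 := rfl
theorem L164660 : sm ga N14714 = N14079 := ded_14_1 (flp_g L163307) L163297 L164658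
theorem L164662 : sm gb N14714 = N14234 := ded_21_1 (flp_g L164619) L164611 L164658
theorem L164664 : sm gc N14714 = N13870 := ded_27_1 (flp_g L156693) (flp_c L156673) L164658
theorem L164666 : sm ge N14714 = N14218 := ded_36_1 (flp_g L160033) (flp_e L156677) L164658
theorem L164668 : sm gh N14714 = N13896 := ded_42_2 (flp_g L156935) (flp_h L156675) L164658
theorem L164670 : sm gf N14714 = N14076 := ded_39_1 L158779 (flp_f L156607) L156603 L156671 L164658
theorem L164672 : sm gi N13867 = N14715 := rfl
theorem L164674 : sm gc N14715 = N13871 := ded_29_1 (flp_i L156706) (flp_c L156673) L164672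
theorem L164676 : sm ge N14715 = N14219 := ded_38_1 (flp_i L160039) (flp_e L156677) L164672
theorem L164678 : sm gf N14715 = N13868 := ded_41_1 (flp_i L156679) L156671 L164672
theorem L164680 : sm gh N13868 = N14716 := rfl
theorem L164682 : sm gc N14716 = N13872 := ded_28_1 (flp_h L156715) (flp_c L156681) L164680
theorem L164684 : sm ge N14716 = N13869 := ded_37_1 (flp_h L156685) (flp_e L156683) L164680
theorem L164686 : sm gi N14716 = N13898 := ded_44_2 (flp_h L156949) (flp_i L148145) (flp_h L148000) L156679 L164680
theorem L164688 : sm gd N13869 = N14717 := rfl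
theorem L164690 : sm gf N14717 = N14221 := ded_31_2 (flp_d L160053) (flp_f L156689) L164688
theorem L164692 : sm gi N14717 = N13899 := ded_34_2 (flp_d L156955) (flp_i L156691) L164688
theorem L164694 : sm gc N14717 = N14514 := ded_24_1 (flp_d L162629) L154480 (flp_d L148030) (flp_c L156687) L164688
theorem L164696 : sm gi N13870 = N14718 := rfl
theorem L164698 : sm ga N14718 = N14131 := ded_16_1 (flp_i L159282) (flp_a L156695) L164696
theorem L164700 : sm gb N14718 = N13937 := ded_23_1 (flp_i L157310) (flp_b L156697) L164696
theorem L164702 : sm gd N14718 = N14718 := ded_34_1 (flp_i L164696) L156699 L164696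
theorem L164703 : sm ge N14718 = N14222 := ded_38_1 (flp_i L160057) (flp_e L156700) L164696
theorem L164705 : sm gf N14718 = N14129 := ded_41_1 (flp_i L159263) (flp_f L156704) L164696
theorem L164707 : sm gg N14718 = N13871 := ded_43_1 (flp_i L156706) L156693 L164696
theorem L164709 : sm gh N13871 = N14719 := rfl
theorem L164711 : sm gb N14719 = N13938 := ded_22_1 (flp_h L157323) (flp_b L156708) L164709
theorem L164713 : sm ge N14719 = N14223 := ded_37_1 (flp_h L160065) (flp_e L156711) L164709
theorem L164715 : sm gf N14719 = N13872 := ded_40_1 (flp_h L156715) (flp_f L156713) L164709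
theorem L164717 : sm gi N14719 = N13901 := ded_44_2 (flp_h L156971) (flp_i L148165) (flp_h L148013) L156706 L164709
theorem L164719 : sm gd N13872 = N14720 := rfl
theorem L164721 : sm gb N14720 = N13939 := ded_18_1 (flp_d L157333) (flp_b L156717) L164719
theorem L164723 : sm gi N14720 = N13902 := ded_34_2 (flp_d L156979) (flp_i L156721) L164719
theorem L164725 : sm ge N14720 = N14516 := ded_30_2 (flp_d L162641) L154495 (flp_d L148030) (flp_e L156719) L164719
theorem L164727 : sm gh N14720 = N14720 := ded_33_2 (flp_d L164719) (flp_h L156715) L148021 L156715 L164719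
theorem L164728 : sm gd N13873 = N14721 := rfl
theorem L164730 : sm gb N14721 = N14010 := ded_18_1 L158111 (flp_b L156725) L164728
theorem L164732 : sm gf N14721 = N14446 := ded_31_2 L162115 L156733 L164728
theorem L164734 : sm gg N14721 = N14162 := ded_32_2 (flp_d L159553) (flp_g L156729) L164728
theorem L164736 : sm gc N14721 = N14721 := ded_24_1 (flp_d L164728) L156727 L148050 (flp_c L156727) L164728
theorem L164737 : sm gh N14721 = N14577 := ded_33_2 L163111 L155249 (flp_d L149628) (flp_h L156731) L164728
theorem L164739 : sm gi N13873 = N14722 := rfl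
theorem L164741 : sm gb N14722 = N14012 := ded_23_1 (flp_i L158126) (flp_b L156725) L164739
theorem L164743 : sm gc N14722 = N13875 := ded_29_1 (flp_i L156745) (flp_c L156727) L164739
theorem L164745 : sm ge N14722 = N13874 := ded_38_1 (flp_i L156735) L156723 L164739
theorem L164747 : sm gf N14722 = N14452 := ded_41_1 (flp_i L162161) L156733 L164739
theorem L164749 : sm gg N14722 = N14164 := ded_43_1 (flp_i L159568) (flp_g L156729) L164739
theorem L164751 : sm gh N13874 = N14723 := rfl
theorem L164753 : sm gb N14723 = N14161 := ded_22_1 (flp_h L159547) (flp_b L156737) L164751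
theorem L164755 : sm gc N14723 = N13876 := ded_28_1 (flp_h L156756) (flp_c L156739) L164751
theorem L164757 : sm gf N14723 = N13883 := ded_40_1 (flp_h L156832) (flp_f L156741) L164751
theorem L164759 : sm gg N14723 = N14165 := ded_42_1 (flp_h L159576) (flp_g L156743) L164751
theorem L164761 : sm gh N13875 = N14724 := rfl
theorem L164763 : sm gb N14724 = N13940 := ded_22_1 (flp_h L157342) (flp_b L156747) L164761
theorem L164765 : sm ge N14724 = N13876 := ded_37_1 (flp_h L156756) (flp_e L156750) L164761
theorem L164767 : sm gf N14724 = N14484 := ded_40_1 (flp_h L162439) (flp_f L156752) L164761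
theorem L164769 : sm gg N14724 = N14187 := ded_42_1 (flp_h L159794) (flp_g L156754) L164761
theorem L164771 : sm gi N14724 = N14028 := ded_44_2 (flp_h L158314) (flp_i L149786) (flp_h L148048) L156745 L164761
theorem L164773 : sm gi N13877 = N14725 := rfl
theorem L164775 : sm ga N14725 = N13879 := ded_16_1 (flp_i L156794) L156766 L164773
theorem L164777 : sm gc N14725 = N13941 := ded_29_1 (flp_i L157356) (flp_c L156768) L164773
theorem L164779 : sm gd N14725 = N14601 := ded_34_1 (flp_i L163378) (flp_d L156770) L164773
theorem L164781 : sm ge N14725 = N14512 := ded_38_1 (flp_i L162615) L156778 L164773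
theorem L164783 : sm gf N14725 = N14015 := ded_41_1 (flp_i L158166) (flp_f L156772) L164773
theorem L164785 : sm gg N14725 = N13888 := ded_43_1 (flp_i L156882) (flp_g L156774) L164773
theorem L164787 : sm gd N13878 = N14726 := rfl
theorem L164789 : sm ga N14726 = N14509 := ded_11_1 L162603 (flp_a L156782) L164787
theorem L164791 : sm gb N14726 = N13880 := ded_18_1 (flp_d L156806) (flp_b L156784) L164787
theorem L164793 : sm gf N14726 = N14453 := ded_31_2 (flp_d L162167) (flp_f L156792) L164787
theorem L164795 : sm gg N14726 = N13889 := ded_32_2 (flp_d L156890) (flp_g L156788) L164787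
theorem L164797 : sm gc N14726 = N14726 := ded_24_1 (flp_d L164787) L156786 L148604 (flp_c L156786) L164787
theorem L164798 : sm ge N14726 = N14721 := ded_30_2 (flp_d L164728) (flp_e L156723) (flp_d L148065) L156780 L164787
theorem L164800 : sm gi N13878 = N14727 := rfl
theorem L164802 : sm ga N14727 = N14512 := ded_16_1 (flp_i L162615) (flp_a L156782) L164800
theorem L164804 : sm gb N14727 = N13882 := ded_23_1 (flp_i L156824) (flp_b L156784) L164800
theorem L164806 : sm gc N14727 = N13942 := ded_29_1 (flp_i L157370) (flp_c L156786) L164800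
theorem L164808 : sm ge N14727 = N13879 := ded_38_1 (flp_i L156794) L156780 L164800
theorem L164810 : sm gf N14727 = N14454 := ded_41_1 (flp_i L162172) (flp_f L156792) L164800
theorem L164812 : sm gg N14727 = N13891 := ded_43_1 (flp_i L156903) (flp_g L156788) L164800
theorem L164814 : sm gh N13879 = N14728 := rfl
theorem L164816 : sm gb N14728 = N13883 := ded_22_1 (flp_h L156832) (flp_b L156796) L164814
theorem L164818 : sm gc N14728 = N13943 := ded_28_1 (flp_h L157383) (flp_c L156798) L164814
theorem L164820 : sm gf N14728 = N14161 := ded_40_1 (flp_h L159547) (flp_f L156802) L164814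
theorem L164822 : sm gg N14728 = N13892 := ded_42_1 (flp_h L156911) (flp_g L156804) L164814
theorem L164824 : sm gf N13880 = N14729 := rfl
theorem L164826 : sm ga N14729 = N14429 := ded_13_1 L161948 L159491 L164824
theorem L164828 : sm gb N14729 = N14453 := ded_20_1 (flp_f L164793) L164791 L164824
theorem L164830 : sm gc N14729 = N13903 := ded_26_1 (flp_f L156987) (flp_c L156810) L164824
theorem L164832 : sm gd N14729 = N13881 := ded_31_1 (flp_f L156812) L156806 L164824
theorem L164834 : sm gi N13880 = N14730 := rfl
theorem L164836 : sm gc N14730 = N13904 := ded_29_1 (flp_i L156994) (flp_c L156810) L164834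
theorem L164838 : sm gd N14730 = N13882 := ded_34_1 (flp_i L156824) L156806 L164834
theorem L164840 : sm gg N14730 = N13895 := ded_43_1 (flp_i L156929) (flp_g L156808) L164834
theorem L164842 : sm gg N13881 = N14731 := rfl
theorem L164844 : sm ga N14731 = N14056 := ded_14_1 L158590 (flp_a L156814) L164842
theorem L164846 : sm gb N14731 = N14209 := ded_21_1 L159968 (flp_b L156816) L164842
theorem L164848 : sm gc N14731 = N13884 := ded_27_1 (flp_g L156838) (flp_c L156818) L164842
theorem L164850 : sm ge N14731 = N14055 := ded_36_1 L158578 (flp_e L156822) L164842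
theorem L164852 : sm gh N14731 = N14076 := ded_42_2 L158779 (flp_h L156820) L164842
theorem L164854 : sm gf N14731 = N13896 := ded_39_1 (flp_g L156935) (flp_f L148139) (flp_g L148077) L156812 L164842
theorem L164856 : sm gi N13881 = N14732 := rfl
theorem L164858 : sm ga N14732 = N14279 := ded_16_1 L160523 (flp_a L156814) L164856
theorem L164860 : sm gb N14732 = N14454 := ded_23_1 (flp_i L162172) (flp_b L156816) L164856
theorem L164862 : sm gc N14732 = N13885 := ded_29_1 (flp_i L156852) (flp_c L156818) L164856
theorem L164864 : sm ge N14732 = N14452 := ded_38_1 (flp_i L162161) (flp_e L156822) L164856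
theorem L164866 : sm gf N14732 = N13882 := ded_41_1 (flp_i L156824) L156812 L164856
theorem L164868 : sm gh N13882 = N14733 := rfl
theorem L164870 : sm gc N14733 = N13886 := ded_28_1 (flp_h L156864) (flp_c L156826) L164868
theorem L164872 : sm ge N14733 = N13883 := ded_37_1 (flp_h L156832) (flp_e L156828) L164868
theorem L164874 : sm gg N14733 = N13898 := ded_42_1 (flp_h L156949) (flp_g L156830) L164868
theorem L164876 : sm gd N13883 = N14734 := rfl
theorem L164878 : sm gg N14734 = N13899 := ded_32_2 (flp_d L156955) (flp_g L156836) L164876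
theorem L164880 : sm gc N14734 = N14243 := ded_24_1 (flp_d L160237) L151624 (flp_d L148113) (flp_c L156834) L164876
theorem L164882 : sm gi N13884 = N14735 := rfl
theorem L164884 : sm ga N14735 = N14118 := ded_16_1 (flp_i L159161) (flp_a L156840) L164882
theorem L164886 : sm gb N14735 = N13945 := ded_23_1 (flp_i L157407) (flp_b L156842) L164882
theorem L164888 : sm gd N14735 = N13908 := ded_34_1 (flp_i L157032) (flp_d L156844) L164882
theorem L164890 : sm ge N14735 = N14117 := ded_38_1 (flp_i L159152) (flp_e L156846) L164882
theorem L164892 : sm gf N14735 = N13900 := ded_41_1 (flp_i L156961) (flp_f L156850) L164882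
theorem L164894 : sm gg N14735 = N13885 := ded_43_1 (flp_i L156852) L156838 L164882
theorem L164896 : sm gh N13885 = N14736 := rfl
theorem L164898 : sm ga N14736 = N14299 := ded_15_1 L160716 (flp_a L156854) L164896
theorem L164900 : sm gb N14736 = N13946 := ded_22_1 (flp_h L157421) (flp_b L156856) L164896
theorem L164902 : sm ge N14736 = N14484 := ded_37_1 (flp_h L162439) (flp_e L156860) L164896
theorem L164904 : sm gf N14736 = N13886 := ded_40_1 (flp_h L156864) (flp_f L156862) L164896
theorem L164906 : sm gi N14736 = N14487 := ded_44_2 (flp_h L162459) (flp_i L154319) (flp_h L148093) L156852 L164896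
theorem L164908 : sm gd N13886 = N14737 := rfl
theorem L164910 : sm gb N14737 = N13947 := ded_18_1 (flp_d L157433) (flp_b L156866) L164908
theorem L164912 : sm gg N14737 = N13902 := ded_32_2 (flp_d L156979) (flp_g L156870) L164908
theorem L164914 : sm ge N14737 = N14295 := ded_30_2 (flp_d L160678) L152103 (flp_d L148113) (flp_e L156868) L164908
theorem L164916 : sm gh N14737 = N13910 := ded_33_2 (flp_d L157057) (flp_h L148232) (flp_d L148101) L156864 L164908
theorem L164918 : sm gd N13887 = N14738 := rfl
theorem L164920 : sm ga N14738 = N13889 := ded_11_1 (flp_d L156890) (flp_a L156874) L164918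
theorem L164922 : sm gg N14738 = N14509 := ded_32_2 L162603 (flp_g L156878) L164918
theorem L164924 : sm gc N14738 = N14738 := ded_24_1 (flp_d L164918) L156876 L148686 (flp_c L156876) L164918
theorem L164925 : sm gf N13887 = N14739 := rfl
theorem L164927 : sm ga N14739 = N13890 := ded_13_1 (flp_f L156895) (flp_a L156874) L164925
theorem L164929 : sm gb N14739 = N14218 := ded_20_1 L163485 L163477 L164925
theorem L164931 : sm gc N14739 = N13948 := ded_26_1 (flp_f L157443) (flp_c L156876) L164925
theorem L164933 : sm gh N14739 = N14240 := ded_40_2 L160217 (flp_h L156880) L164925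
theorem L164935 : sm ge N14739 = N14234 := ded_35_1 (flp_f L160157) (flp_e L151576) (flp_f L148119) L156872 L164925
theorem L164937 : sm gg N14739 = N14212 := ded_39_2 (flp_f L159987) L151462 L154466 (flp_g L156878) L164925
theorem L164939 : sm gi N13887 = N14740 := rfl
theorem L164941 : sm ga N14740 = N13891 := ded_16_1 (flp_i L156903) (flp_a L156874) L164939
theorem L164943 : sm gc N14740 = N13949 := ded_29_1 (flp_i L157456) (flp_c L156876) L164939
theorem L164945 : sm ge N14740 = N13888 := ded_38_1 (flp_i L156882) L156872 L164939
theorem L164947 : sm gg N14740 = N14512 := ded_43_1 (flp_i L162615) (flp_g L156878) L164939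
theorem L164949 : sm gh N13888 = N14741 := rfl
theorem L164951 : sm ga N14741 = N13892 := ded_15_1 (flp_h L156911) (flp_a L156884) L164949
theorem L164953 : sm gc N14741 = N13950 := ded_28_1 (flp_h L157467) (flp_c L156886) L164949
theorem L164955 : sm gf N14741 = N14236 := ded_40_1 (flp_h L160173) (flp_f L156888) L164949
theorem L164957 : sm gf N13889 = N14742 := rfl
theorem L164959 : sm gb N14742 = N13893 := ded_20_1 (flp_f L156919) (flp_b L156892) L164957
theorem L164961 : sm gc N14742 = N14742 := ded_26_1 (flp_f L164957) L156894 L164957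
theorem L164962 : sm gd N14742 = N13890 := ded_31_1 (flp_f L156895) L156890 L164957
theorem L164964 : sm gh N13889 = N14743 := rfl
theorem L164966 : sm gb N14743 = N13894 := ded_22_1 (flp_h L156925) (flp_b L156892) L164964
theorem L164968 : sm gc N14743 = N14743 := ded_28_1 (flp_h L164964) L156894 L164964
theorem L164969 : sm gi N13889 = N14744 := rfl
theorem L164971 : sm gb N14744 = N13895 := ded_23_1 (flp_i L156929) (flp_b L156892) L164969
theorem L164973 : sm gc N14744 = N14744 := ded_29_1 (flp_i L164969) L156894 L164969
theorem L164974 : sm gd N14744 = N13891 := ded_34_1 (flp_i L156903) L156890 L164969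
theorem L164976 : sm gg N13890 = N14745 := rfl
theorem L164978 : sm ga N14745 = N14212 := ded_14_1 (flp_g L164937) L164927 L164976
theorem L164980 : sm gb N14745 = N13896 := ded_21_1 (flp_g L156935) (flp_b L156897) L164976
theorem L164982 : sm gc N14745 = N13951 := ded_27_1 (flp_g L157475) (flp_c L156899) L164976
theorem L164984 : sm ge N14745 = N14240 := ded_36_1 (flp_g L160211) (flp_e L156901) L164976
theorem L164986 : sm gh N14745 = N14234 := ded_42_2 (flp_g L164619) L164615 L164976
theorem L164988 : sm gf N14745 = N14209 := ded_39_1 L159968 (flp_f L156792) L156788 L156895 L164976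
theorem L164990 : sm gi N13890 = N14746 := rfl
theorem L164992 : sm gb N14746 = N13897 := ded_23_1 (flp_i L156941) (flp_b L156897) L164990
theorem L164994 : sm gc N14746 = N13952 := ded_29_1 (flp_i L157488) (flp_c L156899) L164990
theorem L164996 : sm ge N14746 = N14241 := ded_38_1 (flp_i L160219) (flp_e L156901) L164990
theorem L164998 : sm gf N14746 = N13891 := ded_41_1 (flp_i L156903) L156895 L164990
theorem L165000 : sm gh N13891 = N14747 := rfl
theorem L165002 : sm gb N14747 = N13898 := ded_22_1 (flp_h L156949) (flp_b L156905) L165000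
theorem L165004 : sm gc N14747 = N13953 := ded_28_1 (flp_h L157497) (flp_c L156907) L165000
theorem L165006 : sm ge N14747 = N13892 := ded_37_1 (flp_h L156911) (flp_e L156909) L165000
theorem L165008 : sm gd N13892 = N14748 := rfl
theorem L165010 : sm gb N14748 = N13899 := ded_18_1 (flp_d L156955) (flp_b L156913) L165008
theorem L165012 : sm gf N14748 = N14243 := ded_31_2 (flp_d L160237) (flp_f L156917) L165008
theorem L165014 : sm ge N13893 = N14749 := rfl
theorem L165016 : sm gc N14749 = N13911 := ded_25_1 (flp_e L157066) (flp_c L156921) L165014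
theorem L165018 : sm gd N14749 = N14244 := ded_30_1 (flp_e L160245) L151632 (flp_e L148143) (flp_d L156923) L165014
theorem L165020 : sm gg N13893 = N14750 := rfl
theorem L165022 : sm gc N14750 = N13912 := ded_27_1 (flp_g L157071) (flp_c L156921) L165020
theorem L165024 : sm gd N14750 = N13896 := ded_32_1 (flp_g L156935) (flp_d L156923) L165020
theorem L165026 : sm gh N13893 = N14751 := rfl
theorem L165028 : sm gc N14751 = N13913 := ded_28_1 (flp_h L157076) (flp_c L156921) L165026
theorem L165030 : sm gf N14751 = N13894 := ded_40_1 (flp_h L156925) L156919 L165026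
theorem L165032 : sm gi N13893 = N14752 := rfl
theorem L165034 : sm gc N14752 = N13914 := ded_29_1 (flp_i L157082) (flp_c L156921) L165032
theorem L165036 : sm gd N14752 = N13897 := ded_34_1 (flp_i L156941) (flp_d L156923) L165032
theorem L165038 : sm gf N14752 = N13895 := ded_41_1 (flp_i L156929) L156919 L165032
theorem L165040 : sm gi N13894 = N14753 := rfl
theorem L165042 : sm gc N14753 = N13915 := ded_29_1 (flp_i L157089) (flp_c L156927) L165040
theorem L165044 : sm gh N13895 = N14754 := rfl
theorem L165046 : sm gc N14754 = N13916 := ded_28_1 (flp_h L157093) (flp_c L156931) L165044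
theorem L165048 : sm gi N13896 = N14755 := rfl
theorem L165050 : sm gc N14755 = N13900 := ded_29_1 (flp_i L156961) (flp_c L156937) L165048
theorem L165052 : sm ge N14755 = N14250 := ded_38_1 (flp_i L160283) (flp_e L156939) L165048
theorem L165054 : sm gg N14755 = N13897 := ded_43_1 (flp_i L156941) L156935 L165048
theorem L165056 : sm gh N13897 = N14756 := rfl
theorem L165058 : sm gc N14756 = N13901 := ded_28_1 (flp_h L156971) (flp_c L156943) L165056
theorem L165060 : sm ge N14756 = N14251 := ded_37_1 (flp_h L160289) (flp_e L156945) L165056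
theorem L165062 : sm gf N14756 = N13898 := ded_40_1 (flp_h L156949) (flp_f L156947) L165056
theorem L165064 : sm gd N13898 = N14757 := rfl
theorem L165066 : sm ge N13899 = N14758 := rfl
theorem L165068 : sm gc N14758 = N14526 := ded_25_1 (flp_e L162700) (flp_c L156959) L165066
theorem L165070 : sm gh N13900 = N14759 := rfl
theorem L165072 : sm gb N14759 = N13957 := ded_22_1 (flp_h L157531) (flp_b L156963) L165070
theorem L165074 : sm ge N14759 = N14254 := ded_37_1 (flp_h L160299) (flp_e L156967) L165070
theorem L165076 : sm gg N14759 = N13901 := ded_42_1 (flp_h L156971) (flp_g L156969) L165070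
theorem L165078 : sm gd N13901 = N14760 := rfl
theorem L165080 : sm gb N14760 = N13958 := ded_18_1 (flp_d L157539) (flp_b L156973) L165078
theorem L165082 : sm gf N14760 = N13902 := ded_31_2 (flp_d L156979) (flp_f L156977) L165078
theorem L165084 : sm gh N14760 = N13922 := ded_33_2 (flp_d L157138) (flp_h L148296) (flp_d L148169) L156971 L165078
theorem L165086 : sm gc N13902 = N14761 := rfl
theorem L165088 : sm ge N14761 = N14529 := ded_25_2 (flp_c L162718) (flp_e L156983) L165086
theorem L165090 : sm gh N14761 = N13923 := ded_28_2 (flp_c L157145) (flp_h L156985) L165086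
theorem L165092 : sm gg N13903 = N14762 := rfl
theorem L165094 : sm ga N14762 = N14445 := ded_14_1 L162111 (flp_a L156989) L165092
theorem L165096 : sm gb N14762 = N14762 := ded_21_1 (flp_g L165092) L156991 L165092
theorem L165097 : sm gd N14762 = N13905 := ded_32_1 (flp_g L157001) (flp_d L156992) L165092
theorem L165099 : sm gf N14762 = N13912 := ded_39_1 (flp_g L157071) (flp_f L148241) (flp_g L148184) L156987 L165092
theorem L165101 : sm gi N13903 = N14763 := rfl
theorem L165103 : sm ga N14763 = N14372 := ded_16_1 L161375 (flp_a L156989) L165101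
theorem L165105 : sm gb N14763 = N14763 := ded_23_1 (flp_i L165101) L156991 L165101
theorem L165106 : sm gd N14763 = N13906 := ded_34_1 (flp_i L157012) (flp_d L156992) L165101
theorem L165108 : sm gf N14763 = N13904 := ded_41_1 (flp_i L156994) L156987 L165101
theorem L165110 : sm gh N13904 = N14764 := rfl
theorem L165112 : sm gb N14764 = N14764 := ded_22_1 (flp_h L165110) L156996 L165110
theorem L165113 : sm gg N14764 = N13916 := ded_42_1 (flp_h L157093) (flp_g L156999) L165110
theorem L165115 : sm gi N13905 = N14765 := rfl
theorem L165117 : sm ga N14765 = N14363 := ded_16_1 L161299 (flp_a L157003) L165115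
theorem L165119 : sm gb N14765 = N14765 := ded_23_1 (flp_i L165115) L157005 L165115
theorem L165120 : sm gc N14765 = N13908 := ded_29_1 (flp_i L157032) (flp_c L157006) L165115
theorem L165122 : sm ge N14765 = N14765 := ded_38_1 (flp_i L165115) L157008 L165115
theorem L165123 : sm gf N14765 = N13917 := ded_41_1 (flp_i L157096) (flp_f L157010) L165115
theorem L165125 : sm gg N14765 = N13906 := ded_43_1 (flp_i L157012) L157001 L165115
theorem L165127 : sm gh N14574 = N14765 := ded_15_0 L165117 L161297 L163081
theorem L165129 : sm gh N13906 = N14766 := rfl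
theorem L165131 : sm ga N14766 = N14351 := ded_15_1 L161176 (flp_a L157014) L165129
theorem L165133 : sm gb N14766 = N14766 := ded_22_1 (flp_h L165129) L157016 L165129
theorem L165134 : sm gc N14766 = N13909 := ded_28_1 (flp_h L157045) (flp_c L157017) L165129
theorem L165136 : sm ge N14766 = N14766 := ded_37_1 (flp_h L165129) L157019 L165129
theorem L165137 : sm gf N14766 = N13907 := ded_40_1 (flp_h L157022) (flp_f L157020) L165129
theorem L165139 : sm gg N14766 = N14574 := ded_42_1 L165127 L165125 L165129
theorem L165141 : sm gi N14766 = N14766 := ded_44_2 (flp_h L165129) (flp_i L157012) L148193 L157012 L165129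
theorem L165142 : sm gd N13907 = N14767 := rfl
theorem L165144 : sm gb N14767 = N14767 := ded_18_1 (flp_d L165142) L157024 L165142
theorem L165145 : sm gg N14767 = N13919 := ded_32_2 (flp_d L157115) (flp_g L157029) L165142
theorem L165147 : sm gi N14767 = N14767 := ded_34_2 (flp_d L165142) L157031 L165142
theorem L165148 : sm gd N13909 = N14768 := rfl
theorem L165150 : sm ga N14768 = N14381 := ded_11_1 L161452 (flp_a L157047) L165148
theorem L165152 : sm gb N14768 = N13960 := ded_18_1 (flp_d L157555) (flp_b L157049) L165148
theorem L165154 : sm gf N14768 = N13910 := ded_31_2 (flp_d L157057) (flp_f L157052) L165148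
theorem L165156 : sm gg N14768 = N14556 := ded_32_2 L162952 (flp_g L157054) L165148
theorem L165158 : sm gi N14768 = N14768 := ded_34_2 (flp_d L165148) L157056 L165148
theorem L165159 : sm gc N13910 = N14769 := rfl
theorem L165161 : sm ge N14769 = N14379 := ded_25_2 (flp_c L161435) (flp_e L157064) L165159
theorem L165163 : sm gg N14769 = N13923 := ded_27_2 (flp_c L157145) (flp_g L157061) L165159
theorem L165165 : sm gi N14769 = N14769 := ded_29_2 (flp_c L165159) L157063 L165159
theorem L165166 : sm gi N13911 = N14770 := rfl
theorem L165168 : sm gb N14770 = N14770 := ded_23_1 (flp_i L165166) L157068 L165166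
theorem L165169 : sm gd N14770 = N13924 := ded_34_1 (flp_i L157150) (flp_d L157069) L165166
theorem L165171 : sm ge N14770 = N13914 := ded_38_1 (flp_i L157082) L157066 L165166
theorem L165173 : sm gi N13912 = N14771 := rfl
theorem L165175 : sm gb N14771 = N14771 := ded_23_1 (flp_i L165173) L157073 L165173
theorem L165176 : sm gd N14771 = N13917 := ded_34_1 (flp_i L157096) (flp_d L157074) L165173
theorem L165178 : sm gg N14771 = N13914 := ded_43_1 (flp_i L157082) L157071 L165173
theorem L165180 : sm gi N13913 = N14772 := rfl
theorem L165182 : sm gb N14772 = N14772 := ded_23_1 (flp_i L165180) L157078 L165180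
theorem L165183 : sm gd N14772 = N14772 := ded_34_1 (flp_i L165180) L157081 L165180
theorem L165184 : sm gf N14772 = N13915 := ded_41_1 (flp_i L157089) (flp_f L157079) L165180
theorem L165186 : sm gh N13914 = N14773 := rfl
theorem L165188 : sm gb N14773 = N14773 := ded_22_1 (flp_h L165186) L157084 L165186
theorem L165189 : sm gf N14773 = N13916 := ded_40_1 (flp_h L157093) (flp_f L157087) L165186
theorem L165191 : sm gh N13915 = N14774 := rfl
theorem L165193 : sm gb N14774 = N14774 := ded_22_1 (flp_h L165191) L157091 L165191
theorem L165194 : sm gi N14774 = N13916 := ded_44_2 (flp_h L157093) (flp_i L148250) L148246 L157089 L165191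
theorem L165196 : sm gd N13916 = N14775 := rfl
theorem L165198 : sm gb N14775 = N14775 := ded_18_1 (flp_d L165196) L157095 L165196
theorem L165199 : sm gh N14775 = N13919 := ded_33_2 (flp_d L157115) (flp_h L148272) (flp_d L148253) L157093 L165196
theorem L165201 : sm gh N13917 = N14776 := rfl
theorem L165203 : sm ga N14776 = N14573 := ded_15_1 L163712 L163700 L165201
theorem L165205 : sm gb N14776 = N14776 := ded_22_1 (flp_h L165201) L157098 L165201
theorem L165206 : sm gc N14776 = N13921 := ded_28_1 (flp_h L157125) (flp_c L157099) L165201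
theorem L165208 : sm ge N14776 = N13926 := ded_37_1 (flp_h L157167) (flp_e L157101) L165201
theorem L165210 : sm gf N14776 = N14574 := ded_40_1 L165127 L165123 L165201
theorem L165212 : sm gg N14776 = N13918 := ded_42_1 (flp_h L157105) (flp_g L157103) L165201
theorem L165214 : sm gi N14776 = N14776 := ded_44_2 (flp_h L165201) (flp_i L157096) L148262 L157096 L165201
theorem L165215 : sm gd N13918 = N14777 := rfl
theorem L165217 : sm gb N14777 = N14777 := ded_18_1 (flp_d L165215) L157107 L165215
theorem L165218 : sm gf N14777 = N13919 := ded_31_2 (flp_d L157115) (flp_f L157112) L165215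
theorem L165220 : sm gi N14777 = N14777 := ded_34_2 (flp_d L165215) L157114 L165215
theorem L165221 : sm gc N13919 = N14778 := rfl
theorem L165223 : sm gi N14778 = N14778 := ded_29_2 (flp_c L165221) L157118 L165221
theorem L165224 : sm gd N14778 = N13923 := ded_24_2 (flp_c L157145) (flp_d L148305) (flp_c L148275) L157115 L165221
theorem L165226 : sm ge N13919 = N14779 := rfl
theorem L165228 : sm gb N14779 = N14779 := ded_19_1 (flp_e L165226) L157117 L165226
theorem L165229 : sm gi N14779 = N14779 := ded_38_2 (flp_e L165226) L157118 L165226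
theorem L165230 : sm gd N14779 = N13920 := ded_30_1 (flp_e L157119) (flp_d L148280) (flp_e L148277) L157115 L165226
theorem L165232 : sm gc N13922 = N14780 := rfl
theorem L165234 : sm gf N14780 = N13923 := ded_26_2 (flp_c L157145) (flp_f L157142) L165232
theorem L165236 : sm gi N14780 = N14780 := ded_29_2 (flp_c L165232) L157144 L165232
theorem L165237 : sm gb N13923 = N14781 := rfl
theorem L165239 : sm ge N14781 = N14543 := ded_19_2 (flp_b L162816) (flp_e L157147) L165237
theorem L165241 : sm gi N14781 = N14781 := ded_23_2 (flp_b L165237) L157149 L165237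
theorem L165242 : sm gc N14781 = N13963 := ded_17_2 (flp_b L157586) (flp_c L148826) (flp_b L148307) L157145 L165237
theorem L165244 : sm gh N13928 = N14782 := rfl
theorem L165246 : sm ga N14782 = N14172 := ded_15_1 (flp_h L159632) (flp_a L157194) L165244
theorem L165248 : sm gb N14782 = N13929 := ded_22_1 (flp_h L157206) (flp_b L157196) L165244
theorem L165250 : sm ge N14782 = N14466 := ded_37_1 (flp_h L162267) (flp_e L157200) L165244
theorem L165252 : sm gf N14782 = N14022 := ded_40_1 (flp_h L158242) (flp_f L157202) L165244
theorem L165254 : sm gg N14782 = N13934 := ded_42_1 (flp_h L157276) (flp_g L157204) L165244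
theorem L165256 : sm gd N14782 = N14185 := ded_33_1 (flp_h L159777) L151260 (flp_h L149421) (flp_d L157198) L165244
theorem L165258 : sm gi N14782 = N13943 := ded_44_2 (flp_h L157383) (flp_i L148607) (flp_h L148414) L157192 L165244
theorem L165260 : sm gd N13930 = N14783 := rfl
theorem L165262 : sm ga N14783 = N13964 := ded_11_1 (flp_d L157592) (flp_a L157224) L165260
theorem L165264 : sm gf N14783 = N14489 := ded_31_2 (flp_d L162471) (flp_f L157230) L165260
theorem L165266 : sm gg N14783 = N13939 := ded_32_2 (flp_d L157333) (flp_g L157232) L165260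
theorem L165268 : sm gi N14783 = N13947 := ded_34_2 (flp_d L157433) (flp_i L157234) L165260
theorem L165270 : sm ge N14783 = N14288 := ded_30_2 (flp_d L160615) L152013 (flp_d L148451) (flp_e L157228) L165260
theorem L165272 : sm gh N14783 = N14783 := ded_33_2 (flp_d L165260) (flp_h L157222) L148438 L157222 L165260
theorem L165273 : sm gh N13931 = N14784 := rfl
theorem L165275 : sm ga N14784 = N13934 := ded_15_1 (flp_h L157276) (flp_a L157238) L165273
theorem L165277 : sm gb N14784 = N13965 := ded_22_1 (flp_h L157603) (flp_b L157240) L165273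
theorem L165279 : sm ge N14784 = N14527 := ded_37_1 (flp_h L162704) (flp_e L157244) L165273
theorem L165281 : sm gf N14784 = N14284 := ded_40_1 (flp_h L160578) (flp_f L157246) L165273
theorem L165283 : sm gg N14784 = N14172 := ded_42_1 (flp_h L159632) (flp_g L157248) L165273
theorem L165285 : sm gi N14784 = N13950 := ded_44_2 (flp_h L157467) (flp_i L148687) (flp_h L148463) L157236 L165273
theorem L165287 : sm gi N13932 = N14785 := rfl
theorem L165289 : sm ga N14785 = N14293 := ded_16_1 (flp_i L160662) (flp_a L157252) L165287
theorem L165291 : sm gb N14785 = N13935 := ded_23_1 (flp_i L157284) (flp_b L157254) L165287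
theorem L165293 : sm gd N14785 = N14374 := ded_34_1 (flp_i L161388) (flp_d L157256) L165287
theorem L165295 : sm ge N14785 = N14285 := ded_38_1 (flp_i L160588) (flp_e L157260) L165287
theorem L165297 : sm gf N14785 = N13933 := ded_41_1 (flp_i L157264) L157250 L165287
theorem L165299 : sm gg N14785 = N14291 := ded_43_1 (flp_i L160642) (flp_g L157262) L165287
theorem L165301 : sm gh N13933 = N14786 := rfl
theorem L165303 : sm ga N14786 = N14527 := ded_15_1 (flp_h L162704) (flp_a L157266) L165301
theorem L165305 : sm gb N14786 = N13936 := ded_22_1 (flp_h L157298) (flp_b L157268) L165301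
theorem L165307 : sm ge N14786 = N13934 := ded_37_1 (flp_h L157276) (flp_e L157272) L165301
theorem L165309 : sm gg N14786 = N14466 := ded_42_1 (flp_h L162267) (flp_g L157274) L165301
theorem L165311 : sm gi N14786 = N13953 := ded_44_2 (flp_h L157497) (flp_i L148704) (flp_h L148477) L157264 L165301
theorem L165313 : sm gh N13935 = N14787 := rfl
theorem L165315 : sm ga N14787 = N13966 := ded_15_1 (flp_h L157615) (flp_a L157286) L165313
theorem L165317 : sm gc N14787 = N13938 := ded_28_1 (flp_h L157323) (flp_c L157288) L165313
theorem L165319 : sm ge N14787 = N14287 := ded_37_1 (flp_h L160605) (flp_e L157292) L165313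
theorem L165321 : sm gf N14787 = N13936 := ded_40_1 (flp_h L157298) (flp_f L157294) L165313
theorem L165323 : sm gg N14787 = N14303 := ded_42_1 (flp_h L160744) (flp_g L157296) L165313
theorem L165325 : sm gi N14787 = N13955 := ded_44_2 (flp_h L157516) (flp_i L148730) (flp_h L148497) L157284 L165313
theorem L165327 : sm gd N13936 = N14788 := rfl
theorem L165329 : sm ga N14788 = N13967 := ded_11_1 (flp_d L157629) (flp_a L157300) L165327
theorem L165331 : sm gg N14788 = N14491 := ded_32_2 (flp_d L162482) (flp_g L157306) L165327
theorem L165333 : sm gi N14788 = N13956 := ded_34_2 (flp_d L157526) (flp_i L157308) L165327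
theorem L165335 : sm ge N14788 = N14029 := ded_30_2 (flp_d L158320) (flp_e L157182) L157188 (flp_e L157304) L165327
theorem L165337 : sm gh N14788 = N14034 := ded_33_2 L158385 (flp_h L154356) (flp_d L148509) L157298 L165327
theorem L165339 : sm gc N14136 = N14788 := ded_10_0 L165329 (flp_c L157641) (flp_a L159320)
theorem L165341 : sm gh N13937 = N14789 := rfl
theorem L165343 : sm ga N14789 = N13968 := ded_15_1 (flp_h L157643) (flp_a L157312) L165341
theorem L165345 : sm gc N14789 = N14303 := ded_28_1 (flp_h L160744) (flp_c L157314) L165341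
theorem L165347 : sm ge N14789 = N14289 := ded_37_1 (flp_h L160624) (flp_e L157317) L165341
theorem L165349 : sm gf N14789 = N14150 := ded_40_1 (flp_h L159443) (flp_f L157319) L165341
theorem L165351 : sm gg N14789 = N13938 := ded_42_1 (flp_h L157323) (flp_g L157321) L165341
theorem L165353 : sm gi N14789 = N13957 := ded_44_2 (flp_h L157531) (flp_i L148749) (flp_h L148534) L157310 L165341
theorem L165355 : sm gd N13938 = N14790 := rfl
theorem L165357 : sm ga N14790 = N13969 := ded_11_1 (flp_d L157657) (flp_a L157325) L165355
theorem L165359 : sm gf N14790 = N13939 := ded_31_2 (flp_d L157333) (flp_f L157329) L165355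
theorem L165361 : sm gi N14790 = N13958 := ded_34_2 (flp_d L157539) (flp_i L157331) L165355
theorem L165363 : sm gh N14790 = N14790 := ded_33_2 (flp_d L165355) (flp_h L157323) L148542 L157323 L165355
theorem L165364 : sm gc N13939 = N14791 := rfl
theorem L165366 : sm ga N14791 = N13970 := ded_10_1 (flp_c L157664) (flp_a L157335) L165364
theorem L165368 : sm ge N14791 = N14135 := ded_25_2 L159315 (flp_e L157339) L165364
theorem L165370 : sm gh N14791 = N14791 := ded_28_2 (flp_c L165364) L157341 L165364
theorem L165371 : sm gi N14791 = N13959 := ded_29_2 (flp_c L157547) (flp_i L157337) L165364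
theorem L165373 : sm gd N14791 = N14136 := ded_24_2 L165339 (flp_d L165327) L157302 L157333 L165364
theorem L165375 : sm gd N13940 = N14792 := rfl
theorem L165377 : sm ga N14792 = N13971 := ded_11_1 (flp_d L157673) (flp_a L157344) L165375
theorem L165379 : sm gf N14792 = N14485 := ded_31_2 (flp_d L162445) (flp_f L157350) L165375
theorem L165381 : sm gg N14792 = N14189 := ded_32_2 (flp_d L159810) (flp_g L157352) L165375
theorem L165383 : sm gi N14792 = N14029 := ded_34_2 (flp_d L158320) (flp_i L157354) L165375
theorem L165385 : sm gc N14792 = N14121 := ded_24_1 (flp_d L159191) L150555 (flp_d L149740) (flp_c L157346) L165375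
theorem L165387 : sm ge N14792 = N13956 := ded_30_2 (flp_d L157526) L148747 (flp_d L148578) (flp_e L157348) L165375
theorem L165389 : sm gh N14792 = N14792 := ded_33_2 (flp_d L165375) (flp_h L157342) L148561 L157342 L165375
theorem L165390 : sm gh N13941 = N14793 := rfl
theorem L165392 : sm ga N14793 = N13943 := ded_15_1 (flp_h L157383) (flp_a L157358) L165390
theorem L165394 : sm gb N14793 = N13972 := ded_22_1 (flp_h L157686) (flp_b L157360) L165390
theorem L165396 : sm ge N14793 = N14515 := ded_37_1 (flp_h L162633) (flp_e L157364) L165390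
theorem L165398 : sm gf N14793 = N14016 := ded_40_1 (flp_h L158178) (flp_f L157366) L165390
theorem L165400 : sm gg N14793 = N13950 := ded_42_1 (flp_h L157467) (flp_g L157368) L165390
theorem L165402 : sm gd N14793 = N14067 := ded_33_1 (flp_h L158683) L150111 (flp_h L148847) (flp_d L157362) L165390
theorem L165404 : sm gi N14793 = N14172 := ded_44_2 (flp_h L159632) (flp_i L151116) (flp_h L148588) L157356 L165390
theorem L165406 : sm gh N13942 = N14794 := rfl
theorem L165408 : sm ga N14794 = N14515 := ded_15_1 (flp_h L162633) (flp_a L157372) L165406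
theorem L165410 : sm gb N14794 = N13944 := ded_22_1 (flp_h L157393) (flp_b L157374) L165406
theorem L165412 : sm ge N14794 = N13943 := ded_37_1 (flp_h L157383) (flp_e L157377) L165406
theorem L165414 : sm gf N14794 = N14456 := ded_40_1 (flp_h L162188) (flp_f L157379) L165406
theorem L165416 : sm gg N14794 = N13953 := ded_42_1 (flp_h L157497) (flp_g L157381) L165406
theorem L165418 : sm gi N14794 = N14466 := ded_44_2 (flp_h L162267) (flp_i L154098) (flp_h L148602) L157370 L165406
theorem L165420 : sm gd N13944 = N14795 := rfl
theorem L165422 : sm ga N14795 = N13973 := ded_11_1 (flp_d L157700) (flp_a L157395) L165420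
theorem L165424 : sm gf N14795 = N14486 := ded_31_2 (flp_d L162452) (flp_f L157401) L165420
theorem L165426 : sm gg N14795 = N13956 := ded_32_2 (flp_d L157526) (flp_g L157403) L165420
theorem L165428 : sm gi N14795 = N14491 := ded_34_2 (flp_d L162482) (flp_i L157405) L165420
theorem L165430 : sm ge N14795 = N14189 := ded_30_2 (flp_d L159810) L151311 (flp_d L148640) (flp_e L157399) L165420
theorem L165432 : sm gh N14795 = N14795 := ded_33_2 (flp_d L165420) (flp_h L157393) L148623 L157393 L165420
theorem L165433 : sm gh N13945 = N14796 := rfl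
theorem L165435 : sm ga N14796 = N13974 := ded_15_1 (flp_h L157713) (flp_a L157409) L165433
theorem L165437 : sm gc N14796 = N14300 := ded_28_1 (flp_h L160718) (flp_c L157411) L165433
theorem L165439 : sm ge N14796 = N14145 := ded_37_1 (flp_h L159392) (flp_e L157415) L165433
theorem L165441 : sm gf N14796 = N13957 := ded_40_1 (flp_h L157531) (flp_f L157417) L165433
theorem L165443 : sm gg N14796 = N13946 := ded_42_1 (flp_h L157421) (flp_g L157419) L165433
theorem L165445 : sm gd N14796 = N14557 := ded_33_1 L162959 L154855 L148785 (flp_d L157413) L165433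
theorem L165447 : sm gi N14796 = N14150 := ded_44_2 (flp_h L159443) (flp_i L150917) (flp_h L148652) L157407 L165433
theorem L165449 : sm gd N13946 = N14797 := rfl
theorem L165451 : sm ga N14797 = N13975 := ded_11_1 (flp_d L157729) (flp_a L157423) L165449
theorem L165453 : sm gf N14797 = N13947 := ded_31_2 (flp_d L157433) (flp_f L157429) L165449
theorem L165455 : sm gg N14797 = N14557 := ded_32_2 (flp_d L165445) L165443 L165449
theorem L165457 : sm gi N14797 = N14489 := ded_34_2 (flp_d L162471) (flp_i L157431) L165449
theorem L165459 : sm gh N14797 = N13960 := ded_33_2 (flp_d L157555) (flp_h L148787) (flp_d L148662) L157421 L165449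
theorem L165461 : sm gc N13947 = N14798 := rfl
theorem L165463 : sm ga N14798 = N13976 := ded_10_1 (flp_c L157741) (flp_a L157435) L165461
theorem L165465 : sm ge N14798 = N14298 := ded_25_2 (flp_c L160704) (flp_e L157439) L165461
theorem L165467 : sm gg N14798 = N13959 := ded_27_2 (flp_c L157547) (flp_g L157437) L165461
theorem L165469 : sm gh N14798 = N13961 := ded_28_2 (flp_c L157564) (flp_h L157441) L165461
theorem L165471 : sm gi N13948 = N14799 := rfl
theorem L165473 : sm ga N14799 = N13952 := ded_16_1 (flp_i L157488) (flp_a L157445) L165471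
theorem L165475 : sm gb N14799 = N13977 := ded_23_1 (flp_i L157749) (flp_b L157447) L165471
theorem L165477 : sm gd N14799 = N14799 := ded_34_1 (flp_i L165471) L157449 L165471
theorem L165478 : sm ge N14799 = N14291 := ded_38_1 (flp_i L160642) (flp_e L157452) L165471
theorem L165480 : sm gf N14799 = N13949 := ded_41_1 (flp_i L157456) L157443 L165471
theorem L165482 : sm gg N14799 = N14285 := ded_43_1 (flp_i L160588) (flp_g L157454) L165471
theorem L165484 : sm gh N13949 = N14800 := rfl
theorem L165486 : sm ga N14800 = N13953 := ded_15_1 (flp_h L157497) (flp_a L157458) L165484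
theorem L165488 : sm gb N14800 = N13978 := ded_22_1 (flp_h L157762) (flp_b L157460) L165484
theorem L165490 : sm ge N14800 = N13950 := ded_37_1 (flp_h L157467) (flp_e L157463) L165484
theorem L165492 : sm gg N14800 = N14515 := ded_42_1 (flp_h L162633) (flp_g L157465) L165484
theorem L165494 : sm gi N14800 = N14527 := ded_44_2 (flp_h L162704) (flp_i L154539) (flp_h L148684) L157456 L165484
theorem L165496 : sm gi N13951 = N14801 := rfl
theorem L165498 : sm ga N14801 = N14285 := ded_16_1 (flp_i L160588) (flp_a L157477) L165496
theorem L165500 : sm gb N14801 = N13954 := ded_23_1 (flp_i L157503) (flp_b L157479) L165496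
theorem L165502 : sm gd N14801 = N14801 := ded_34_1 (flp_i L165496) L157481 L165496
theorem L165503 : sm ge N14801 = N14293 := ded_38_1 (flp_i L160662) (flp_e L157482) L165496
theorem L165505 : sm gf N14801 = N14283 := ded_41_1 (flp_i L160567) (flp_f L157486) L165496
theorem L165507 : sm gg N14801 = N13952 := ded_43_1 (flp_i L157488) L157475 L165496
theorem L165509 : sm gh N13952 = N14802 := rfl
theorem L165511 : sm gb N14802 = N13955 := ded_22_1 (flp_h L157516) (flp_b L157490) L165509
theorem L165513 : sm ge N14802 = N14294 := ded_37_1 (flp_h L160672) (flp_e L157493) L165509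
theorem L165515 : sm gf N14802 = N13953 := ded_40_1 (flp_h L157497) (flp_f L157495) L165509
theorem L165517 : sm gd N13953 = N14803 := rfl
theorem L165519 : sm gb N14803 = N13956 := ded_18_1 (flp_d L157526) (flp_b L157499) L165517
theorem L165521 : sm gh N14803 = N14803 := ded_33_2 (flp_d L165517) (flp_h L157497) L148708 L157497 L165517
theorem L165522 : sm gh N13954 = N14804 := rfl
theorem L165524 : sm ga N14804 = N13981 := ded_15_1 (flp_h L157795) (flp_a L157505) L165522
theorem L165526 : sm gc N14804 = N13957 := ded_28_1 (flp_h L157531) (flp_c L157507) L165522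
theorem L165528 : sm ge N14804 = N14296 := ded_37_1 (flp_h L160686) (flp_e L157510) L165522
theorem L165530 : sm gf N14804 = N14300 := ded_40_1 (flp_h L160718) (flp_f L157512) L165522
theorem L165532 : sm gg N14804 = N13955 := ded_42_1 (flp_h L157516) (flp_g L157514) L165522
theorem L165534 : sm gi N14804 = N14303 := ded_44_2 (flp_h L160744) (flp_i L152230) (flp_h L148726) L157503 L165522
theorem L165536 : sm gd N13955 = N14805 := rfl
theorem L165538 : sm ga N14805 = N13982 := ded_11_1 (flp_d L157809) (flp_a L157518) L165536
theorem L165540 : sm gf N14805 = N13956 := ded_31_2 (flp_d L157526) (flp_f L157524) L165536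
theorem L165542 : sm gh N14805 = N14805 := ded_33_2 (flp_d L165536) (flp_h L157516) L148736 L157516 L165536
theorem L165543 : sm gc N13956 = N14806 := rfl
theorem L165545 : sm ga N14806 = N13983 := ded_10_1 (flp_c L157814) (flp_a L157528) L165543
theorem L165547 : sm ge N14806 = N14121 := ded_25_2 (flp_c L165385) L165387 L165543
theorem L165549 : sm gh N14806 = N14806 := ded_28_2 (flp_c L165543) L157530 L165543
theorem L165550 : sm gi N14806 = N14136 := ded_29_2 L165339 L165333 L165543
theorem L165552 : sm gd N14806 = N13959 := ded_24_2 (flp_c L157547) (flp_d L148767) (flp_c L148745) L157526 L165543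
theorem L165554 : sm gc N13958 = N14807 := rfl
theorem L165556 : sm ga N14807 = N13984 := ded_10_1 (flp_c L157823) (flp_a L157541) L165554
theorem L165558 : sm ge N14807 = N14151 := ded_25_2 (flp_c L163953) L163955 L165554
theorem L165560 : sm gf N14807 = N13959 := ded_26_2 (flp_c L157547) (flp_f L157543) L165554
theorem L165562 : sm gg N14807 = N14490 := ded_27_2 (flp_c L164047) L164049 L165554
theorem L165564 : sm gh N14807 = N13962 := ded_28_2 (flp_c L157574) (flp_h L157545) L165554
theorem L165566 : sm gb N13959 = N14808 := rfl
theorem L165568 : sm ge N14808 = N14554 := ded_19_2 (flp_b L162939) (flp_e L157551) L165566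
theorem L165570 : sm gh N14808 = N13963 := ded_22_2 (flp_b L157586) (flp_h L157553) L165566
theorem L165572 : sm gc N13960 = N14809 := rfl
theorem L165574 : sm ga N14809 = N13986 := ded_10_1 (flp_c L157843) (flp_a L157557) L165572
theorem L165576 : sm gf N14809 = N13961 := ded_26_2 (flp_c L157564) (flp_f L157559) L165572
theorem L165578 : sm gg N14809 = N14496 := ded_27_2 L162515 (flp_g L157561) L165572
theorem L165580 : sm gi N14809 = N14809 := ded_29_2 (flp_c L165572) L157563 L165572
theorem L165581 : sm gd N14809 = N14809 := ded_24_2 (flp_c L165572) (flp_d L157555) L148791 L157555 L165572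
theorem L165582 : sm ge N14383 = N14809 := ded_12_0 L165574 (flp_e L157853) (flp_a L161470)
theorem L165584 : sm ge N13960 = N14810 := rfl
theorem L165586 : sm ga N14810 = N13987 := ded_12_1 (flp_e L157855) (flp_a L157557) L165584
theorem L165588 : sm gc N14810 = N14383 := ded_25_1 L165582 (flp_c L165572) L165584
theorem L165590 : sm gg N14810 = N13988 := ded_36_2 L157870 (flp_g L157561) L165584
theorem L165592 : sm gi N14810 = N14810 := ded_38_2 (flp_e L165584) L157563 L165584
theorem L165593 : sm gd N14810 = N14810 := ded_30_1 (flp_e L165584) (flp_d L157555) L148792 L157555 L165584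
theorem L165594 : sm gf N14810 = N14380 := ded_35_2 (flp_e L161440) L153001 (flp_e L148805) (flp_f L157559) L165584
theorem L165596 : sm gb N13961 = N14811 := rfl
theorem L165598 : sm gd N14811 = N14811 := ded_18_2 (flp_b L165596) L157573 L165596
theorem L165599 : sm ge N14811 = N14381 := ded_19_2 (flp_b L161450) (flp_e L157568) L165596
theorem L165601 : sm gg N14811 = N13963 := ded_21_2 (flp_b L157586) (flp_g L157570) L165596
theorem L165603 : sm gi N14811 = N14811 := ded_23_2 (flp_b L165596) L157572 L165596
theorem L165604 : sm gb N13962 = N14812 := rfl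
theorem L165606 : sm gd N14812 = N14812 := ded_18_2 (flp_b L165604) L157585 L165604
theorem L165607 : sm ge N14812 = N14141 := ded_19_2 L159367 (flp_e L157578) L165604
theorem L165609 : sm gf N14812 = N13963 := ded_20_2 (flp_b L157586) (flp_f L157580) L165604
theorem L165611 : sm gg N14812 = N14495 := ded_21_2 L162507 (flp_g L157582) L165604
theorem L165613 : sm gi N14812 = N14812 := ded_23_2 (flp_b L165604) L157584 L165604
theorem L165614 : sm ga N14812 = N14143 := ded_9_1 L159377 L150809 L149175 (flp_a L157576) L165604
theorem L165616 : sm ga N13963 = N14813 := rfl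
theorem L165618 : sm gd N14813 = N14813 := ded_11_2 (flp_a L165616) L157588 L165616
theorem L165619 : sm ge N14813 = N14556 := ded_12_2 (flp_a L162950) (flp_e L157589) L165616
theorem L165621 : sm gf N14813 = N14143 := ded_13_2 (flp_a L165614) L165609 L165616
theorem L165623 : sm gi N14813 = N14813 := ded_16_2 (flp_a L165616) L157591 L165616
theorem L165624 : sm gb N14813 = N13988 := ded_9_2 (flp_a L157867) (flp_b L149177) (flp_a L148828) L157586 L165616
theorem L165626 : sm gc N13964 = N14814 := rfl
theorem L165628 : sm ge N14814 = N14148 := ded_25_2 L159428 (flp_e L157600) L165626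
theorem L165630 : sm gf N14814 = N14499 := ded_26_2 (flp_c L162529) (flp_f L157594) L165626
theorem L165632 : sm gg N14814 = N13970 := ded_27_2 (flp_c L157664) (flp_g L157596) L165626
theorem L165634 : sm gh N14814 = N14814 := ded_28_2 (flp_c L165626) L157602 L165626
theorem L165635 : sm gi N14814 = N13976 := ded_29_2 (flp_c L157741) (flp_i L157598) L165626
theorem L165637 : sm gd N14814 = N14149 := ded_24_2 L159435 (flp_d L154409) (flp_c L148881) L157592 L165626
theorem L165639 : sm gb N14500 = N14814 := ded_45_6 (flp_c L165626) (flp_d L157592) L148889 (flp_h L139709) L130704 (flp_f L130792) L130791 (flp_d L139703) L139699 (flp_c L134053) (flp_d L125835) L68273 (flp_h L53850) L118163 L72436 L72441 L118158 (flp_b L72468) L72470 L117897 (flp_i L118153) (flp_h L127042) (flp_d L132558) (flp_f L132554) (flp_e L124606) (flp_d L67030) L48997 L36453 L37159 L50747 (flp_h L84637) (flp_d L123475) L123477 L68860 (flp_d L117214) L66279 L66280 L48522 (flp_i L35769) (flp_h L26213) L19259 (flp_f L14163) (flp_e L10441) L7688 (flp_b L7194) (flp_c L5351) (flp_d L3990) (flp_i L3103) (flp_h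 L3094) (flp_d L3089) L3092 L3091 L3089 L2302 L2303 L1751 (flp_i L1747) L1735 L2327 L2333 L2336 (flp_d L2327) L1739 L1355 L1835 L2475 L3332 L4484 L4487 L6076 L6083 (flp_b L7679) (flp_c L10412) L14113 L14118 L19202 L19209 (flp_f L19308) (flp_e L26245) L35799 (flp_b L48777) L66720 (flp_d L124105) L131883 L140817 L149889 L149891 L154405 (flp_d L162537)
theorem L165641 : sm gc N13969 = N14815 := rfl
theorem L165643 : sm ge N14815 = N14146 := ded_25_2 (flp_c L164175) L164177 L165641
theorem L165645 : sm gf N14815 = N13970 := ded_26_2 (flp_c L157664) (flp_f L157659) L165641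
theorem L165647 : sm gg N14815 = N14497 := ded_27_2 (flp_c L164228) L164230 L165641
theorem L165649 : sm gh N14815 = N14815 := ded_28_2 (flp_c L165641) L157663 L165641
theorem L165650 : sm gi N14815 = N13984 := ded_29_2 (flp_c L157823) (flp_i L157661) L165641
theorem L165652 : sm gb N14815 = N13983 := ded_17_1 (flp_c L157814) (flp_b L157788) (flp_c L164249) L164241 L165641
theorem L165654 : sm gd N14815 = N13985 := ded_24_2 (flp_c L164356) L164344 L157619 L157657 L165641
theorem L165656 : sm gb N13970 = N14816 := rfl
theorem L165658 : sm gd N14816 = N13984 := ded_18_2 L157833 (flp_d L157671) L165656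
theorem L165660 : sm ge N14816 = N14152 := ded_19_2 L159463 (flp_e L157666) L165656
theorem L165662 : sm gf N14816 = N13983 := ded_20_2 (flp_b L165652) L165645 L165656
theorem L165664 : sm gg N14816 = N14500 := ded_21_2 L165639 L165632 L165656
theorem L165666 : sm gh N14816 = N14816 := ded_22_2 (flp_b L165656) L157668 L165656
theorem L165667 : sm gi N14816 = N13985 := ded_23_2 (flp_b L157835) (flp_i L157669) L165656
theorem L165669 : sm gc N14816 = N13982 := ded_17_2 L164267 (flp_c L164254) L156218 L157664 L165656
theorem L165671 : sm gc N13973 = N14817 := rfl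
theorem L165673 : sm ge N14817 = N14144 := ded_25_2 L159389 (flp_e L157710) L165671
theorem L165675 : sm gf N14817 = N14498 := ded_26_2 (flp_c L162524) (flp_f L157704) L165671
theorem L165677 : sm gg N14817 = N13983 := ded_27_2 (flp_c L157814) (flp_g L157706) L165671
theorem L165679 : sm gh N14817 = N14817 := ded_28_2 (flp_c L165671) L157712 L165671
theorem L165680 : sm gi N14817 = N14149 := ded_29_2 L159435 (flp_i L157708) L165671
theorem L165682 : sm gb N14817 = N14497 := ded_17_1 (flp_c L164228) L164226 L159476 (flp_b L157702) L165671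
theorem L165684 : sm gd N14817 = N13976 := ded_24_2 (flp_c L157741) (flp_d L149047) (flp_c L149011) L157700 L165671
theorem L165686 : sm gc N13975 = N14818 := rfl
theorem L165688 : sm gf N14818 = N13976 := ded_26_2 (flp_c L157741) (flp_f L157733) L165686
theorem L165690 : sm gg N14818 = N14501 := ded_27_2 L162543 (flp_g L157735) L165686
theorem L165692 : sm gh N14818 = N13986 := ded_28_2 (flp_c L157843) (flp_h L157739) L165686
theorem L165694 : sm gi N14818 = N14499 := ded_29_2 (flp_c L162529) (flp_i L157737) L165686
theorem L165696 : sm gb N14818 = N14306 := ded_17_1 (flp_c L160766) L152254 L152274 (flp_b L157731) L165686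
theorem L165698 : sm gd N14818 = N14498 := ded_24_2 (flp_c L162524) (flp_d L154395) (flp_c L149039) L157729 L165686
theorem L165700 : sm ge N14305 = N14818 := ded_35_5 L165688 L157743 (flp_f L156299) L156305 (flp_f L160762)
theorem L165702 : sm ge N13975 = N14819 := rfl
theorem L165704 : sm gb N14819 = N13976 := ded_19_1 L157743 (flp_b L157731) L165702
theorem L165706 : sm gc N14819 = N14305 := ded_25_1 L165700 (flp_c L165686) L165702
theorem L165708 : sm gg N14819 = N13985 := ded_36_2 L157837 (flp_g L157735) L165702
theorem L165710 : sm gh N14819 = N13987 := ded_37_2 (flp_e L157855) (flp_h L157739) L165702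
theorem L165712 : sm gi N14819 = N14500 := ded_38_2 (flp_e L162534) (flp_i L157737) L165702
theorem L165714 : sm gd N14819 = N14497 := ded_30_1 (flp_e L162519) (flp_d L154390) (flp_e L149041) L157729 L165702
theorem L165716 : sm gf N14819 = N14306 := ded_35_2 L160768 L152270 (flp_e L149051) (flp_f L157733) L165702
theorem L165718 : sm gh N13977 = N14820 := rfl
theorem L165720 : sm ga N14820 = N13979 := ded_15_1 (flp_h L157772) (flp_a L157751) L165718
theorem L165722 : sm gc N14820 = N14289 := ded_28_1 (flp_h L160624) (flp_c L157753) L165718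
theorem L165724 : sm ge N14820 = N14303 := ded_37_1 (flp_h L160744) (flp_e L157756) L165718
theorem L165726 : sm gf N14820 = N13978 := ded_40_1 (flp_h L157762) (flp_f L157758) L165718
theorem L165728 : sm gg N14820 = N14287 := ded_42_1 (flp_h L160605) (flp_g L157760) L165718
theorem L165730 : sm gi N14820 = N14296 := ded_44_2 (flp_h L160686) (flp_i L152107) (flp_h L149062) L157749 L165718
theorem L165732 : sm gd N13978 = N14821 := rfl
theorem L165734 : sm ga N14821 = N13980 := ded_11_1 (flp_d L157786) (flp_a L157764) L165732
theorem L165736 : sm gg N14821 = N14550 := ded_32_2 (flp_d L162908) (flp_g L157768) L165732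
theorem L165738 : sm gi N14821 = N14551 := ded_34_2 (flp_d L162917) (flp_i L157770) L165732
theorem L165740 : sm gh N14821 = N14821 := ded_33_2 (flp_d L165732) (flp_h L157762) L149072 L157762 L165732
theorem L165741 : sm gd N13981 = N14822 := rfl
theorem L165743 : sm gb N14822 = N14302 := ded_18_1 (flp_d L160737) (flp_b L157797) L165741
theorem L165745 : sm gf N14822 = N14301 := ded_31_2 (flp_d L160728) (flp_f L157803) L165741
theorem L165747 : sm gg N14822 = N13982 := ded_32_2 (flp_d L157809) (flp_g L157805) L165741
theorem L165749 : sm gi N14822 = N14305 := ded_34_2 (flp_d L160758) (flp_i L157807) L165741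
theorem L165751 : sm gc N14822 = N14500 := ded_24_1 L162537 (flp_c L156379) L156385 (flp_c L157799) L165741
theorem L165753 : sm ge N14822 = N14499 := ded_30_2 L162532 (flp_e L156419) L156427 (flp_e L157801) L165741
theorem L165755 : sm gh N14822 = N14822 := ded_33_2 (flp_d L165741) (flp_h L157795) L149112 L157795 L165741
theorem L165756 : sm ge N13982 = N14823 := rfl
theorem L165758 : sm gb N14823 = N14498 := ded_19_1 (flp_e L164256) (flp_b L164267) L165756
theorem L165760 : sm gc N14823 = N14152 := ded_25_1 (flp_e L165660) L165669 L165756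
theorem L165762 : sm gg N14823 = N14499 := ded_36_2 (flp_e L165753) L165747 L165756
theorem L165764 : sm gh N14823 = N14823 := ded_37_2 (flp_e L165756) L157813 L165756
theorem L165765 : sm gi N14823 = N14501 := ded_38_2 (flp_e L164346) L164354 L165756
theorem L165767 : sm gd N14823 = N14306 := ded_30_1 L160768 (flp_d L152268) (flp_e L149123) L157809 L165756
theorem L165769 : sm gf N14823 = N14497 := ded_35_2 (flp_e L162519) (flp_f L157675) L157683 (flp_f L157811) L165756
theorem L165771 : sm ga N13985 = N14824 := rfl
theorem L165773 : sm ge N14824 = N14557 := ded_12_2 (flp_a L162957) (flp_e L157837) L165771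
theorem L165775 : sm gf N14824 = N14136 := ded_13_2 L159320 (flp_f L157839) L165771
theorem L165777 : sm gh N14824 = N13988 := ded_15_2 (flp_a L157867) (flp_h L157841) L165771
theorem L165779 : sm gh N13989 = N14825 := rfl
theorem L165781 : sm ga N14825 = N14825 := ded_15_1 (flp_h L165779) L157877 L165779
theorem L165782 : sm gc N14825 = N14309 := ded_28_1 (flp_h L160794) (flp_c L157878) L165779
theorem L165784 : sm gf N14825 = N13995 := ded_40_1 (flp_h L157932) (flp_f L157882) L165779
theorem L165786 : sm gg N14825 = N14310 := ded_42_1 (flp_h L160803) (flp_g L157884) L165779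
theorem L165788 : sm gd N14825 = N14000 := ded_33_1 (flp_h L157977) L149251 (flp_h L149203) (flp_d L157880) L165779
theorem L165790 : sm ge N13990 = N14826 := rfl
theorem L165792 : sm ga N14826 = N14173 := ded_12_1 (flp_e L159640) L157896 L165790
theorem L165794 : sm gb N14826 = N13991 := ded_19_1 (flp_e L157898) L157886 L165790
theorem L165796 : sm gg N14826 = N13997 := ded_36_2 (flp_e L157948) (flp_g L157892) L165790
theorem L165798 : sm gh N14826 = N14427 := ded_37_2 L161932 (flp_h L157894) L165790
theorem L165800 : sm gd N14826 = N14024 := ded_30_1 (flp_e L158268) L149708 L149304 (flp_d L157888) L165790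
theorem L165802 : sm gf N14826 = N14626 := ded_35_2 (flp_e L163650) (flp_f L155489) (flp_e L149684) (flp_f L157890) L165790
theorem L165804 : sm gi N13990 = N14827 := rfl
theorem L165806 : sm ga N14827 = N14175 := ded_16_1 (flp_i L159658) L157896 L165804
theorem L165808 : sm gb N14827 = N13992 := ded_23_1 (flp_i L157909) L157886 L165804
theorem L165810 : sm gd N14827 = N14004 := ded_34_1 (flp_i L158009) (flp_d L157888) L165804
theorem L165812 : sm gf N14827 = N14023 := ded_41_1 (flp_i L158256) (flp_f L157890) L165804
theorem L165814 : sm gg N14827 = N13998 := ded_43_1 (flp_i L157958) (flp_g L157892) L165804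
theorem L165816 : sm gf N13991 = N14828 := rfl
theorem L165818 : sm ga N14828 = N14828 := ded_13_1 (flp_f L165816) L157900 L165816
theorem L165819 : sm gb N14828 = N14626 := ded_20_1 (flp_f L165802) L165794 L165816
theorem L165821 : sm gc N14828 = N13993 := ded_26_1 (flp_f L157920) (flp_c L157901) L165816
theorem L165823 : sm gd N14828 = N14438 := ded_31_1 L162041 (flp_d L157907) L165816
theorem L165825 : sm gh N14828 = N14442 := ded_40_2 L162076 (flp_h L157905) L165816
theorem L165827 : sm gi N14828 = N14575 := ded_41_2 L163091 L161382 L165816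
theorem L165829 : sm ge N14828 = N14307 := ded_35_1 (flp_f L160774) (flp_e L152282) (flp_f L149208) L157898 L165816
theorem L165831 : sm gg N14828 = N14440 := ded_39_2 L162062 L153903 L149242 (flp_g L157903) L165816
theorem L165833 : sm gh N13992 = N14829 := rfl
theorem L165835 : sm ga N14829 = N14829 := ded_15_1 (flp_h L165833) L157911 L165833
theorem L165836 : sm gc N14829 = N13995 := ded_28_1 (flp_h L157932) (flp_c L157912) L165833
theorem L165838 : sm gf N14829 = N14309 := ded_40_1 (flp_h L160794) (flp_f L157916) L165833
theorem L165840 : sm gg N14829 = N14000 := ded_42_1 (flp_h L157977) (flp_g L157918) L165833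
theorem L165842 : sm gd N14829 = N14310 := ded_33_1 (flp_h L160803) L152305 (flp_h L149328) (flp_d L157914) L165833
theorem L165844 : sm gi N14829 = N14825 := ded_44_2 (flp_h L165779) (flp_i L157875) (flp_h L149212) L157909 L165833
theorem L165846 : sm gi N13993 = N14830 := rfl
theorem L165848 : sm ga N14830 = N14830 := ded_16_1 (flp_i L165846) L157922 L165846
theorem L165849 : sm gc N14830 = N14575 := ded_29_1 (flp_i L165827) L165821 L165846
theorem L165851 : sm gd N14830 = N14830 := ded_34_1 (flp_i L165846) L157923 L165846
theorem L165852 : sm gf N14830 = N13994 := ded_41_1 (flp_i L157924) L157920 L165846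
theorem L165854 : sm gh N13994 = N14831 := rfl
theorem L165856 : sm ga N14831 = N14831 := ded_15_1 (flp_h L165854) L157926 L165854
theorem L165857 : sm ge N14831 = N13995 := ded_37_1 (flp_h L157932) (flp_e L157928) L165854
theorem L165859 : sm gg N14831 = N14003 := ded_42_1 (flp_h L158004) (flp_g L157930) L165854
theorem L165861 : sm ge N13996 = N14832 := rfl
theorem L165863 : sm ga N14832 = N13997 := ded_12_1 (flp_e L157948) L157939 L165861
theorem L165865 : sm gb N14832 = N14832 := ded_19_1 (flp_e L165861) L157947 L165861
theorem L165866 : sm gg N14832 = N14173 := ded_36_2 (flp_e L159640) (flp_g L157945) L165861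
theorem L165868 : sm gh N14832 = N14402 := ded_37_2 L161708 L158439 L165861
theorem L165870 : sm gd N14832 = N14179 := ded_30_1 L159703 L151191 L149355 (flp_d L157941) L165861
theorem L165872 : sm gf N14400 = N14832 := ded_47_2 (flp_e L165861) L157941 L149346 L140140 L131258 L123529 (flp_f L72791) (flp_e L53167) (flp_d L38896) L28471 L20916 (flp_h L20912) L20902 L20911 (flp_e L119872) L119870 (flp_c L28954) (flp_b L39466) (flp_h L118639) (flp_g L118646) L39481 L39479 L39494 L53935 L53941 (flp_h L68551) (flp_g L123285) L123283 L65618 (flp_d L68590) L68588 L50095 L36746 (flp_g L112233) L30592 L22492 (flp_d L22487) L16515 (flp_b L12303) (flp_h L12299) (flp_g L10652) L14469 L19717 (flp_d L26451) (flp_c L36064) (flp_b L49169) L67279 (flp_g L124871) (flp_f L130479) L130478 (flp_d L139222) (flp_c L148071) (flp_b L148063) (flp_h L147967) L147965 L138799 L142395 L151474 L151476 L144545 L153548 (flp_g L161684)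
theorem L165874 : sm gi N13996 = N14833 := rfl
theorem L165876 : sm ga N14833 = N13998 := ded_16_1 (flp_i L157958) L157939 L165874
theorem L165878 : sm gb N14833 = N14833 := ded_23_1 (flp_i L165874) L157947 L165874
theorem L165879 : sm gd N14833 = N14005 := ded_34_1 (flp_i L158025) (flp_d L157941) L165874
theorem L165881 : sm gf N14833 = N14314 := ded_41_1 (flp_i L160838) (flp_f L157943) L165874
theorem L165883 : sm gg N14833 = N14175 := ded_43_1 (flp_i L159658) (flp_g L157945) L165874
theorem L165885 : sm gi N13997 = N14834 := rfl
theorem L165887 : sm gb N14834 = N13999 := ded_23_1 (flp_i L157966) (flp_b L157950) L165885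
theorem L165889 : sm gd N14834 = N14424 := ded_34_1 L161914 L157954 L165885
theorem L165891 : sm ge N14834 = N13998 := ded_38_1 (flp_i L157958) L157948 L165885
theorem L165893 : sm gf N14834 = N14425 := ded_41_1 L161920 L157956 L165885
theorem L165895 : sm gh N13998 = N14835 := rfl
theorem L165897 : sm gb N14835 = N14000 := ded_22_1 (flp_h L157977) (flp_b L157960) L165895
theorem L165899 : sm gf N14835 = N14317 := ded_40_1 (flp_h L160865) (flp_f L157964) L165895
theorem L165901 : sm gh N13999 = N14836 := rfl
theorem L165903 : sm ga N14836 = N14836 := ded_15_1 (flp_h L165901) L157968 L165901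
theorem L165904 : sm gc N14836 = N14003 := ded_28_1 (flp_h L158004) (flp_c L157969) L165901
theorem L165906 : sm ge N14836 = N14000 := ded_37_1 (flp_h L157977) (flp_e L157973) L165901
theorem L165908 : sm gf N14836 = N14368 := ded_40_1 L161342 (flp_f L157975) L165901
theorem L165910 : sm gd N14836 = N14366 := ded_33_1 (flp_h L161315) L152799 L153964 (flp_d L157971) L165901
theorem L165912 : sm gi N14836 = N14367 := ded_44_2 L161331 L152838 (flp_h L149240) L157966 L165901
theorem L165914 : sm gi N14001 = N14837 := rfl
theorem L165916 : sm ga N14837 = N14837 := ded_16_1 (flp_i L165914) L157986 L165914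
theorem L165917 : sm gc N14837 = N14441 := ded_29_1 L162071 (flp_c L157987) L165914
theorem L165919 : sm gd N14837 = N14837 := ded_34_1 (flp_i L165914) L157989 L165914
theorem L165920 : sm ge N14837 = N14321 := ded_38_1 (flp_i L160906) (flp_e L157990) L165914
theorem L165922 : sm gg N14837 = N14002 := ded_43_1 (flp_i L157994) L157984 L165914
theorem L165924 : sm gh N14002 = N14838 := rfl
theorem L165926 : sm ga N14838 = N14838 := ded_15_1 (flp_h L165924) L157996 L165924
theorem L165927 : sm gc N14838 = N14368 := ded_28_1 L161342 (flp_c L157997) L165924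
theorem L165929 : sm ge N14838 = N14322 := ded_37_1 (flp_h L160913) (flp_e L158000) L165924
theorem L165931 : sm gf N14838 = N14003 := ded_40_1 (flp_h L158004) (flp_f L158002) L165924
theorem L165933 : sm gi N14838 = N14369 := ded_44_2 L161349 L152849 (flp_h L149261) L157994 L165924
theorem L165935 : sm gd N14003 = N14839 := rfl
theorem L165937 : sm ga N14839 = N14839 := ded_11_1 (flp_d L165935) L158006 L165935
theorem L165938 : sm ge N14839 = N14560 := ded_30_2 (flp_d L162982) L154881 (flp_d L149276) (flp_e L158007) L165935
theorem L165940 : sm gh N14839 = N14839 := ded_33_2 (flp_d L165935) (flp_h L158004) L149268 L158004 L165935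
theorem L165941 : sm gi N14010 = N14840 := rfl
theorem L165943 : sm ga N14840 = N14156 := ded_16_1 (flp_i L159501) (flp_a L158101) L165941
theorem L165945 : sm gc N14840 = N14011 := ded_29_1 (flp_i L158113) L158099 L165941
theorem L165947 : sm gd N14840 = N14012 := ded_34_1 (flp_i L158126) (flp_d L158111) L165941
theorem L165949 : sm ge N14840 = N14730 := ded_38_1 (flp_i L164834) (flp_e L158103) L165941
theorem L165951 : sm gf N14840 = N14448 := ded_41_1 (flp_i L162128) (flp_f L158105) L165941
theorem L165953 : sm gg N14840 = N14168 := ded_43_1 (flp_i L159602) (flp_g L158107) L165941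
theorem L165955 : sm gh N14011 = N14841 := rfl
theorem L165957 : sm ga N14841 = N14158 := ded_15_1 (flp_h L159521) (flp_a L158115) L165955
theorem L165959 : sm gb N14841 = N14841 := ded_22_1 (flp_h L165955) L158117 L165955
theorem L165960 : sm ge N14841 = N14764 := ded_37_1 (flp_h L165110) (flp_e L158120) L165955
theorem L165962 : sm gf N14841 = N14451 := ded_40_1 (flp_h L162154) (flp_f L158122) L165955
theorem L165964 : sm gg N14841 = N14177 := ded_42_1 (flp_h L159676) (flp_g L158124) L165955
theorem L165966 : sm gd N14841 = N14049 := ded_33_1 (flp_h L158515) L149992 (flp_h L149574) (flp_d L158118) L165955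
theorem L165968 : sm gi N14841 = N14582 := ded_44_2 (flp_h L163156) (flp_i L155177) (flp_h L149559) L158113 L165955
theorem L165970 : sm gh N14012 = N14842 := rfl
theorem L165972 : sm ga N14842 = N14160 := ded_15_1 (flp_h L159539) (flp_a L158128) L165970
theorem L165974 : sm gc N14842 = N14013 := ded_28_1 (flp_h L158138) (flp_c L158130) L165970
theorem L165976 : sm ge N14842 = N14161 := ded_37_1 (flp_h L159547) (flp_e L158132) L165970
theorem L165978 : sm gf N14842 = N14455 := ded_40_1 (flp_h L162180) (flp_f L158134) L165970
theorem L165980 : sm gg N14842 = N14170 := ded_42_1 (flp_h L159618) (flp_g L158136) L165970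
theorem L165982 : sm gi N14842 = N14021 := ded_44_2 (flp_h L158234) (flp_i L149644) (flp_h L149586) L158126 L165970
theorem L165984 : sm gi N14014 = N14843 := rfl
theorem L165986 : sm gb N14843 = N14015 := ded_23_1 (flp_i L158166) L158154 L165984
theorem L165988 : sm gc N14843 = N14025 := ded_29_1 (flp_i L158282) (flp_c L158164) L165984
theorem L165990 : sm gd N14843 = N14605 := ded_34_1 (flp_i L163429) (flp_d L158156) L165984
theorem L165992 : sm ge N14843 = N14159 := ded_38_1 (flp_i L159531) (flp_e L158158) L165984
theorem L165994 : sm gg N14843 = N14018 := ded_43_1 (flp_i L158202) (flp_g L158160) L165984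
theorem L165996 : sm gh N14015 = N14844 := rfl
theorem L165998 : sm ga N14844 = N14161 := ded_15_1 (flp_h L159547) (flp_a L158168) L165996
theorem L166000 : sm gc N14844 = N14016 := ded_28_1 (flp_h L158178) (flp_c L158170) L165996
theorem L166002 : sm ge N14844 = N14160 := ded_37_1 (flp_h L159539) (flp_e L158174) L165996
theorem L166004 : sm gg N14844 = N14021 := ded_42_1 (flp_h L158234) (flp_g L158176) L165996
theorem L166006 : sm gi N14844 = N14170 := ded_44_2 (flp_h L159618) (flp_i L151104) (flp_h L149610) L158166 L165996
theorem L166008 : sm gi N14017 = N14845 := rfl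
theorem L166010 : sm ga N14845 = N14018 := ded_16_1 (flp_i L158202) L158192 L166008
theorem L166012 : sm gb N14845 = N14065 := ded_23_1 (flp_i L158664) (flp_b L158200) L166008
theorem L166014 : sm gc N14845 = N14027 := ded_29_1 (flp_i L158304) (flp_c L158194) L166008
theorem L166016 : sm gd N14845 = N14610 := ded_34_1 (flp_i L163487) (flp_d L158196) L166008
theorem L166018 : sm gf N14845 = N14069 := ded_41_1 (flp_i L158703) (flp_f L158198) L166008
theorem L166020 : sm gh N14018 = N14846 := rfl
theorem L166022 : sm gb N14846 = N14021 := ded_22_1 (flp_h L158234) (flp_b L158204) L166020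
theorem L166024 : sm gc N14846 = N14028 := ded_28_1 (flp_h L158314) (flp_c L158206) L166020
theorem L166026 : sm gf N14846 = N14459 := ded_40_1 (flp_h L162213) (flp_f L158210) L166020
theorem L166028 : sm gi N14019 = N14847 := rfl
theorem L166030 : sm ga N14847 = N14168 := ded_16_1 (flp_i L159602) (flp_a L158214) L166028
theorem L166032 : sm gc N14847 = N14023 := ded_29_1 (flp_i L158256) (flp_c L158218) L166028
theorem L166034 : sm gd N14847 = N14020 := ded_34_1 (flp_i L158224) L158212 L166028
theorem L166036 : sm ge N14847 = N14617 := ded_38_1 (flp_i L163555) (flp_e L158220) L166028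
theorem L166038 : sm gg N14847 = N14156 := ded_43_1 (flp_i L159501) (flp_g L158216) L166028
theorem L166040 : sm gh N14020 = N14848 := rfl
theorem L166042 : sm ga N14848 = N14170 := ded_15_1 (flp_h L159618) (flp_a L158226) L166040
theorem L166044 : sm gc N14848 = N14022 := ded_28_1 (flp_h L158242) (flp_c L158228) L166040
theorem L166046 : sm ge N14848 = N14021 := ded_37_1 (flp_h L158234) (flp_e L158230) L166040
theorem L166048 : sm gg N14848 = N14160 := ded_42_1 (flp_h L159539) (flp_g L158232) L166040
theorem L166050 : sm gi N14848 = N14161 := ded_44_2 (flp_h L159547) (flp_i L151060) (flp_h L149642) L158224 L166040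
theorem L166052 : sm gd N14021 = N14849 := rfl
theorem L166054 : sm ga N14849 = N14171 := ded_11_1 (flp_d L159624) (flp_a L158236) L166052
theorem L166056 : sm gf N14849 = N14465 := ded_31_2 (flp_d L162261) (flp_f L158240) L166052
theorem L166058 : sm gc N14849 = N14088 := ded_24_1 (flp_d L158862) L150217 (flp_d L149674) (flp_c L158238) L166052
theorem L166060 : sm gh N14849 = N14621 := ded_33_2 (flp_d L163595) (flp_h L155434) (flp_d L149650) L158234 L166052
theorem L166062 : sm gh N14023 = N14850 := rfl
theorem L166064 : sm ga N14850 = N14177 := ded_15_1 (flp_h L159676) (flp_a L158258) L166062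
theorem L166066 : sm gb N14850 = N14309 := ded_22_1 (flp_h L160794) (flp_b L158260) L166062
theorem L166068 : sm ge N14850 = N14631 := ded_37_1 (flp_h L163694) (flp_e L158264) L166062
theorem L166070 : sm gg N14850 = N14158 := ded_42_1 (flp_h L159521) (flp_g L158266) L166062
theorem L166072 : sm gd N14850 = N14195 := ded_33_1 (flp_h L159856) L151368 (flp_h L149700) (flp_d L158262) L166062
theorem L166074 : sm gi N14850 = N14688 := ded_44_2 (flp_h L164415) (flp_i L156492) (flp_h L149686) L158256 L166062
theorem L166076 : sm gh N14025 = N14851 := rfl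
theorem L166078 : sm gb N14851 = N14026 := ded_22_1 (flp_h L158292) (flp_b L158284) L166076
theorem L166080 : sm ge N14851 = N14185 := ded_37_1 (flp_h L159777) (flp_e L158288) L166076
theorem L166082 : sm gg N14851 = N14028 := ded_42_1 (flp_h L158314) (flp_g L158290) L166076
theorem L166084 : sm gi N14851 = N14187 := ded_44_2 (flp_h L159794) (flp_i L151281) (flp_h L149752) L158282 L166076
theorem L166086 : sm gd N14026 = N14852 := rfl
theorem L166088 : sm ga N14852 = N14035 := ded_11_1 (flp_d L158387) (flp_a L158294) L166086
theorem L166090 : sm gg N14852 = N14029 := ded_32_2 (flp_d L158320) (flp_g L158300) L166086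
theorem L166092 : sm gi N14852 = N14189 := ded_34_2 (flp_d L159810) (flp_i L158302) L166086
theorem L166094 : sm gc N14852 = N14127 := ded_24_1 (flp_d L159245) L150628 (flp_d L149774) (flp_c L158296) L166086
theorem L166096 : sm ge N14852 = N14491 := ded_30_2 (flp_d L162482) (flp_e L157212) L157218 (flp_e L158298) L166086
theorem L166098 : sm gh N14852 = N14031 := ded_33_2 (flp_d L158343) (flp_h L149822) (flp_d L149760) L158292 L166086
theorem L166100 : sm gh N14027 = N14853 := rfl
theorem L166102 : sm ga N14853 = N14028 := ded_15_1 (flp_h L158314) (flp_a L158306) L166100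
theorem L166104 : sm gb N14853 = N14036 := ded_22_1 (flp_h L158401) (flp_b L158308) L166100
theorem L166106 : sm gf N14853 = N14125 := ded_40_1 (flp_h L159225) (flp_f L158312) L166100
theorem L166108 : sm gd N14028 = N14854 := rfl
theorem L166110 : sm gb N14854 = N14029 := ded_18_1 (flp_d L158320) (flp_b L158316) L166108
theorem L166112 : sm gf N14854 = N14488 := ded_31_2 (flp_d L162465) (flp_f L158318) L166108
theorem L166114 : sm gh N14854 = N14033 := ded_33_2 (flp_d L158369) (flp_h L149843) (flp_d L149790) L158314 L166108
theorem L166116 : sm gd N14030 = N14855 := rfl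
theorem L166118 : sm ga N14855 = N14542 := ded_11_1 L162814 (flp_a L158332) L166116
theorem L166120 : sm gb N14855 = N14031 := ded_18_1 (flp_d L158343) (flp_b L158334) L166116
theorem L166122 : sm gg N14855 = N14033 := ded_32_2 (flp_d L158369) (flp_g L158340) L166116
theorem L166124 : sm gi N14855 = N14855 := ded_34_2 (flp_d L166116) L158342 L166116
theorem L166125 : sm ge N14855 = N14479 := ded_30_2 (flp_d L162385) L154201 L154285 (flp_e L158338) L166116
theorem L166127 : sm gd N14032 = N14856 := rfl
theorem L166129 : sm ga N14856 = N14033 := ded_11_1 (flp_d L158369) (flp_a L158356) L166127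
theorem L166131 : sm gb N14856 = N14038 := ded_18_1 (flp_d L158421) (flp_b L158358) L166127
theorem L166133 : sm gf N14856 = N14139 := ded_31_2 (flp_d L159342) (flp_f L158364) L166127
theorem L166135 : sm gg N14856 = N14542 := ded_32_2 L162814 (flp_g L158366) L166127
theorem L166137 : sm gi N14856 = N14856 := ded_34_2 (flp_d L166127) L158368 L166127
theorem L166138 : sm ge N14856 = N14540 := ded_30_2 (flp_d L162797) L154638 L154720 (flp_e L158362) L166127
theorem L166140 : sm gc N14033 = N14857 := rfl
theorem L166142 : sm gf N14857 = N14494 := ded_26_2 (flp_c L162500) (flp_f L158373) L166140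
theorem L166144 : sm gi N14857 = N14857 := ded_29_2 (flp_c L166140) L158375 L166140
theorem L166145 : sm gb N14857 = N14142 := ded_17_1 (flp_c L159372) L150804 (flp_c L149859) (flp_b L158371) L166140
theorem L166147 : sm gd N14857 = N14668 := ded_24_2 (flp_c L164145) (flp_d L156086) (flp_c L149847) L158369 L166140
theorem L166149 : sm ge N14033 = N14858 := rfl
theorem L166151 : sm ga N14858 = N14540 := ded_12_1 (flp_e L166138) L166129 L166149
theorem L166153 : sm gb N14858 = N14034 := ded_19_1 (flp_e L158376) (flp_b L158371) L166149
theorem L166155 : sm gg N14858 = N14479 := ded_36_2 (flp_e L166125) L166122 L166149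
theorem L166157 : sm gi N14858 = N14858 := ded_38_2 (flp_e L166149) L158375 L166149
theorem L166158 : sm gd N14858 = N14478 := ded_30_1 L162380 (flp_d L158096) L158091 L158369 L166149
theorem L166160 : sm gd N14036 = N14859 := rfl
theorem L166162 : sm ga N14859 = N14037 := ded_11_1 (flp_d L158409) (flp_a L158403) L166160
theorem L166164 : sm gf N14859 = N14127 := ded_31_2 (flp_d L159245) (flp_f L158407) L166160
theorem L166166 : sm gg N14859 = N14553 := ded_32_2 (flp_d L163905) L163903 L166160
theorem L166168 : sm ge N14859 = N14551 := ded_30_2 (flp_d L162917) (flp_e L157607) (flp_d L163749) L163743 L166160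
theorem L166170 : sm gh N14859 = N14038 := ded_33_2 (flp_d L158421) (flp_h L149908) (flp_d L149877) L158401 L166160
theorem L166172 : sm gc N14039 = N14860 := rfl
theorem L166174 : sm ga N14860 = N14154 := ded_10_1 L159487 (flp_a L158434) L166172
theorem L166176 : sm gf N14860 = N14041 := ded_26_2 (flp_c L158454) (flp_f L158437) L166172
theorem L166178 : sm gh N14860 = N14689 := ded_28_2 L164425 (flp_h L158439) L166172
theorem L166180 : sm gd N14860 = N14050 := ded_24_2 (flp_c L158520) (flp_d L149994) (flp_c L149948) L158432 L166172
theorem L166182 : sm gi N14039 = N14861 := rfl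
theorem L166184 : sm ga N14861 = N14191 := ded_16_1 (flp_i L159820) (flp_a L158434) L166182
theorem L166186 : sm gb N14861 = N14861 := ded_23_1 (flp_i L166182) L158436 L166182
theorem L166187 : sm gd N14861 = N14040 := ded_34_1 (flp_i L158441) L158432 L166182
theorem L166189 : sm gf N14861 = N14043 := ded_41_1 (flp_i L158471) (flp_f L158437) L166182
theorem L166191 : sm gb N14041 = N14862 := rfl
theorem L166193 : sm gd N14862 = N14052 := ded_18_2 (flp_b L158538) (flp_d L158460) L166191
theorem L166195 : sm gg N14862 = N14044 := ded_21_2 (flp_b L158480) (flp_g L158458) L166191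
theorem L166197 : sm ga N14862 = N14446 := ded_9_1 (flp_b L162113) L153998 (flp_b L151352) (flp_a L158456) L166191
theorem L166199 : sm gc N14862 = N14862 := ded_17_2 (flp_b L166191) (flp_c L158454) L149958 L158454 L166191
theorem L166200 : sm ge N14041 = N14863 := rfl
theorem L166202 : sm ga N14863 = N14192 := ded_12_1 (flp_e L159828) (flp_a L158456) L166200
theorem L166204 : sm gc N14863 = N14042 := ded_25_1 (flp_e L158462) L158454 L166200
theorem L166206 : sm gg N14863 = N14045 := ded_36_2 (flp_e L158485) (flp_g L158458) L166200
theorem L166208 : sm gd N14863 = N14430 := ded_30_1 (flp_e L161952) L153729 (flp_e L150020) (flp_d L158460) L166200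
theorem L166210 : sm gi N14041 = N14864 := rfl
theorem L166212 : sm ga N14864 = N14193 := ded_16_1 (flp_i L159836) (flp_a L158456) L166210
theorem L166214 : sm gc N14864 = N14043 := ded_29_1 (flp_i L158471) L158454 L166210
theorem L166216 : sm gd N14864 = N14053 := ded_34_1 (flp_i L158550) (flp_d L158460) L166210
theorem L166218 : sm gg N14864 = N14046 := ded_43_1 (flp_i L158491) (flp_g L158458) L166210
theorem L166220 : sm gi N14042 = N14865 := rfl
theorem L166222 : sm ga N14865 = N14194 := ded_16_1 (flp_i L159846) (flp_a L158464) L166220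
theorem L166224 : sm gb N14865 = N14865 := ded_23_1 (flp_i L166220) L158466 L166220
theorem L166225 : sm gd N14865 = N14178 := ded_34_1 L159692 (flp_d L158469) L166220
theorem L166227 : sm ge N14865 = N14043 := ded_38_1 (flp_i L158471) L158462 L166220
theorem L166229 : sm gg N14865 = N14048 := ded_43_1 (flp_i L158506) (flp_g L158467) L166220
theorem L166231 : sm gh N14043 = N14866 := rfl
theorem L166233 : sm ga N14866 = N14195 := ded_15_1 (flp_h L159856) (flp_a L158473) L166231
theorem L166235 : sm gb N14866 = N14866 := ded_22_1 (flp_h L166231) L158475 L166231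
theorem L166236 : sm gg N14866 = N14049 := ded_42_1 (flp_h L158515) (flp_g L158478) L166231
theorem L166238 : sm gd N14866 = N14177 := ded_33_1 (flp_h L159676) L151151 (flp_h L149972) (flp_d L158476) L166231
theorem L166240 : sm ga N14044 = N14867 := rfl
theorem L166242 : sm gc N14867 = N14867 := ded_10_2 (flp_a L166240) L158484 L166240
theorem L166243 : sm gd N14867 = N14055 := ded_11_2 (flp_a L158574) (flp_d L158482) L166240
theorem L166245 : sm gg N14867 = N14446 := ded_14_2 (flp_a L166197) L166195 L166240
theorem L166247 : sm gh N14867 = N14862 := ded_15_2 L166197 L162117 L166240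
theorem L166249 : sm gb N14867 = N14196 := ded_9_2 (flp_a L159862) (flp_b L151372) (flp_a L149976) L158480 L166240
theorem L166251 : sm ge N14044 = N14868 := rfl
theorem L166253 : sm gb N14868 = N14045 := ded_19_1 (flp_e L158485) L158480 L166251
theorem L166255 : sm gc N14868 = N14868 := ded_25_1 (flp_e L166251) L158484 L166251
theorem L166256 : sm gi N14044 = N14869 := rfl
theorem L166258 : sm gb N14869 = N14046 := ded_23_1 (flp_i L158491) L158480 L166256
theorem L166260 : sm gc N14869 = N14869 := ded_29_1 (flp_i L166256) L158484 L166256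
theorem L166261 : sm gd N14869 = N14057 := ded_34_1 (flp_i L158594) (flp_d L158482) L166256
theorem L166263 : sm gd N14045 = N14870 := rfl
theorem L166265 : sm ga N14870 = N14199 := ded_11_1 (flp_d L159892) (flp_a L158487) L166263
theorem L166267 : sm gg N14870 = N14430 := ded_32_2 (flp_d L166208) L166206 L166263
theorem L166269 : sm gc N14870 = N14384 := ded_24_1 (flp_d L161475) L153114 (flp_d L149985) (flp_c L158489) L166263
theorem L166271 : sm ge N14870 = N14058 := ded_30_2 (flp_d L158600) (flp_e L150044) (flp_d L149978) L158485 L166263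
theorem L166273 : sm gf N14045 = N14871 := rfl
theorem L166275 : sm ga N14871 = N14200 := ded_13_1 (flp_f L159898) (flp_a L158487) L166273
theorem L166277 : sm gc N14871 = N14047 := ded_26_1 (flp_f L158499) (flp_c L158489) L166273
theorem L166279 : sm gi N14045 = N14872 := rfl
theorem L166281 : sm ga N14872 = N14201 := ded_16_1 (flp_i L159902) (flp_a L158487) L166279
theorem L166283 : sm gc N14872 = N14048 := ded_29_1 (flp_i L158506) (flp_c L158489) L166279
theorem L166285 : sm ge N14872 = N14046 := ded_38_1 (flp_i L158491) L158485 L166279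
theorem L166287 : sm gh N14046 = N14873 := rfl
theorem L166289 : sm ga N14873 = N14202 := ded_15_1 (flp_h L159908) (flp_a L158493) L166287
theorem L166291 : sm gc N14873 = N14049 := ded_28_1 (flp_h L158515) (flp_c L158495) L166287
theorem L166293 : sm gi N14047 = N14874 := rfl
theorem L166295 : sm ga N14874 = N14204 := ded_16_1 (flp_i L159918) (flp_a L158501) L166293
theorem L166297 : sm gb N14874 = N14874 := ded_23_1 (flp_i L166293) L158503 L166293
theorem L166298 : sm gd N14874 = N14385 := ded_34_1 (flp_i L161487) (flp_d L158504) L166293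
theorem L166300 : sm gf N14874 = N14048 := ded_41_1 (flp_i L158506) L158499 L166293
theorem L166302 : sm gh N14048 = N14875 := rfl
theorem L166304 : sm ga N14875 = N14205 := ded_15_1 (flp_h L159926) (flp_a L158508) L166302
theorem L166306 : sm gb N14875 = N14875 := ded_22_1 (flp_h L166302) L158510 L166302
theorem L166307 : sm ge N14875 = N14049 := ded_37_1 (flp_h L158515) (flp_e L158513) L166302
theorem L166309 : sm gi N14050 = N14876 := rfl
theorem L166311 : sm ga N14876 = N14159 := ded_16_1 (flp_i L159531) (flp_a L158522) L166309
theorem L166313 : sm gc N14876 = N14051 := ded_29_1 (flp_i L158528) L158520 L166309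
theorem L166315 : sm gf N14876 = N14053 := ded_41_1 (flp_i L158550) (flp_f L158524) L166309
theorem L166317 : sm gh N14051 = N14877 := rfl
theorem L166319 : sm ga N14877 = N14185 := ded_15_1 (flp_h L159777) (flp_a L158530) L166317
theorem L166321 : sm gb N14877 = N14114 := ded_22_1 (flp_h L159119) (flp_b L158532) L166317
theorem L166323 : sm gf N14877 = N14054 := ded_40_1 (flp_h L158560) (flp_f L158536) L166317
theorem L166325 : sm gd N14877 = N14172 := ded_33_1 (flp_h L159632) L151120 (flp_h L150014) (flp_d L158534) L166317
theorem L166327 : sm gi N14877 = N14067 := ded_44_2 (flp_h L158683) (flp_i L150105) (flp_h L150002) L158528 L166317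
theorem L166329 : sm gi N14052 = N14878 := rfl
theorem L166331 : sm ga N14878 = N14452 := ded_16_1 (flp_i L162161) (flp_a L158546) L166329
theorem L166333 : sm gb N14878 = N14053 := ded_23_1 (flp_i L158550) L158538 L166329
theorem L166335 : sm gc N14878 = N14115 := ded_29_1 (flp_i L159129) (flp_c L158548) L166329
theorem L166337 : sm ge N14878 = N14279 := ded_38_1 L160523 (flp_e L158540) L166329
theorem L166339 : sm gg N14878 = N14057 := ded_43_1 (flp_i L158594) (flp_g L158542) L166329
theorem L166341 : sm gh N14053 = N14879 := rfl
theorem L166343 : sm ga N14879 = N14208 := ded_15_1 (flp_h L159952) (flp_a L158552) L166341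
theorem L166345 : sm gc N14879 = N14054 := ded_28_1 (flp_h L158560) (flp_c L158554) L166341
theorem L166347 : sm ge N14879 = N14256 := ded_37_1 L160315 (flp_e L158556) L166341
theorem L166349 : sm gg N14879 = N14061 := ded_42_1 (flp_h L158626) (flp_g L158558) L166341
theorem L166351 : sm gi N14879 = N14073 := ded_44_2 (flp_h L158739) (flp_i L150133) (flp_h L150024) L158550 L166341
theorem L166353 : sm gi N14055 = N14880 := rfl
theorem L166355 : sm ga N14880 = N14057 := ded_16_1 (flp_i L158594) L158574 L166353
theorem L166357 : sm gb N14880 = N14210 := ded_23_1 (flp_i L159972) (flp_b L158582) L166353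
theorem L166359 : sm gc N14880 = N14117 := ded_29_1 (flp_i L159152) (flp_c L158576) L166353
theorem L166361 : sm gg N14880 = N14452 := ded_43_1 (flp_i L162161) (flp_g L158578) L166353
theorem L166363 : sm gd N14056 = N14881 := rfl
theorem L166365 : sm gb N14881 = N14058 := ded_18_1 (flp_d L158600) (flp_b L158586) L166363
theorem L166367 : sm gg N14881 = N14429 := ded_32_2 L161946 (flp_g L158590) L166363
theorem L166369 : sm gc N14881 = N14445 := ded_24_1 L162109 L153952 L150532 (flp_c L158588) L166363
theorem L166371 : sm gi N14056 = N14882 := rfl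
theorem L166373 : sm gb N14882 = N14060 := ded_23_1 (flp_i L158616) (flp_b L158586) L166371
theorem L166375 : sm gc N14882 = N14118 := ded_29_1 (flp_i L159161) (flp_c L158588) L166371
theorem L166377 : sm ge N14882 = N14057 := ded_38_1 (flp_i L158594) L158584 L166371
theorem L166379 : sm gg N14882 = N14279 := ded_43_1 L160523 (flp_g L158590) L166371
theorem L166381 : sm gh N14057 = N14883 := rfl
theorem L166383 : sm gb N14883 = N14061 := ded_22_1 (flp_h L158626) (flp_b L158596) L166381
theorem L166385 : sm gc N14883 = N14119 := ded_28_1 (flp_h L159171) (flp_c L158598) L166381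
theorem L166387 : sm gi N14883 = N14081 := ded_44_2 (flp_h L158812) (flp_i L150187) (flp_h L150040) L158594 L166381
theorem L166389 : sm gf N14058 = N14884 := rfl
theorem L166391 : sm ga N14884 = N14215 := ded_13_1 (flp_f L160015) (flp_a L158602) L166389
theorem L166393 : sm gc N14884 = N14387 := ded_26_1 (flp_f L161507) (flp_c L158606) L166389
theorem L166395 : sm gd N14884 = N14059 := ded_31_1 (flp_f L158608) L158600 L166389
theorem L166397 : sm gh N14058 = N14885 := rfl
theorem L166399 : sm ga N14885 = N14216 := ded_15_1 (flp_h L160021) (flp_a L158602) L166397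
theorem L166401 : sm gc N14885 = N14388 := ded_28_1 (flp_h L161515) (flp_c L158606) L166397
theorem L166403 : sm gg N14885 = N14426 := ded_42_1 L161924 (flp_g L158604) L166397
theorem L166405 : sm gd N14885 = N14083 := ded_33_1 (flp_h L158826) (flp_d L150193) (flp_h L150052) L158600 L166397
theorem L166407 : sm gi N14058 = N14886 := rfl
theorem L166409 : sm ga N14886 = N14217 := ded_16_1 (flp_i L160027) (flp_a L158602) L166407
theorem L166411 : sm gc N14886 = N14265 := ded_29_1 L160404 (flp_c L158606) L166407
theorem L166413 : sm gd N14886 = N14060 := ded_34_1 (flp_i L158616) L158600 L166407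
theorem L166415 : sm gg N14886 = N14276 := ded_43_1 L160501 (flp_g L158604) L166407
theorem L166417 : sm gi N14059 = N14887 := rfl
theorem L166419 : sm ga N14887 = N14219 := ded_16_1 (flp_i L160039) (flp_a L158610) L166417
theorem L166421 : sm gc N14887 = N14062 := ded_29_1 (flp_i L158634) (flp_c L158612) L166417
theorem L166423 : sm gf N14887 = N14060 := ded_41_1 (flp_i L158616) L158608 L166417
theorem L166425 : sm gh N14060 = N14888 := rfl
theorem L166427 : sm ga N14888 = N14220 := ded_15_1 (flp_h L160045) (flp_a L158618) L166425
theorem L166429 : sm gc N14888 = N14063 := ded_28_1 (flp_h L158644) (flp_c L158620) L166425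
theorem L166431 : sm ge N14888 = N14061 := ded_37_1 (flp_h L158626) (flp_e L158622) L166425
theorem L166433 : sm gg N14888 = N14256 := ded_42_1 L160315 (flp_g L158624) L166425
theorem L166435 : sm gi N14888 = N14087 := ded_44_2 (flp_h L158854) (flp_i L150205) (flp_h L150052) L158616 L166425
theorem L166437 : sm gd N14061 = N14889 := rfl
theorem L166439 : sm ga N14889 = N14221 := ded_11_1 (flp_d L160053) (flp_a L158628) L166437
theorem L166441 : sm gi N14889 = N14088 := ded_34_2 (flp_d L158862) (flp_i L158632) L166437
theorem L166443 : sm gh N14062 = N14890 := rfl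
theorem L166445 : sm ga N14890 = N14223 := ded_15_1 (flp_h L160065) (flp_a L158636) L166443
theorem L166447 : sm gb N14890 = N14122 := ded_22_1 (flp_h L159198) (flp_b L158638) L166443
theorem L166449 : sm gf N14890 = N14063 := ded_40_1 (flp_h L158644) (flp_f L158642) L166443
theorem L166451 : sm gd N14890 = N14232 := ded_33_1 (flp_h L160141) L151564 L151760 (flp_d L158640) L166443
theorem L166453 : sm gi N14890 = N14090 := ded_44_2 (flp_h L158876) (flp_i L150227) (flp_h L150068) L158634 L166443
theorem L166455 : sm gd N14064 = N14891 := rfl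
theorem L166457 : sm ga N14891 = N14162 := ded_11_1 (flp_d L159553) (flp_a L158660) L166455
theorem L166459 : sm gc N14891 = N14891 := ded_24_1 (flp_d L166455) L158662 L150104 (flp_c L158662) L166455
theorem L166460 : sm ge N14891 = N14738 := ded_30_2 (flp_d L164918) (flp_e L156872) (flp_d L150096) L158658 L166455
theorem L166462 : sm gi N14064 = N14892 := rfl
theorem L166464 : sm ga N14892 = N14164 := ded_16_1 (flp_i L159568) (flp_a L158660) L166462
theorem L166466 : sm gc N14892 = N14066 := ded_29_1 (flp_i L158674) (flp_c L158662) L166462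
theorem L166468 : sm ge N14892 = N14065 := ded_38_1 (flp_i L158664) L158658 L166462
theorem L166470 : sm gh N14065 = N14893 := rfl
theorem L166472 : sm ga N14893 = N14165 := ded_15_1 (flp_h L159576) (flp_a L158666) L166470
theorem L166474 : sm gc N14893 = N14067 := ded_28_1 (flp_h L158683) (flp_c L158668) L166470
theorem L166476 : sm gf N14893 = N14073 := ded_40_1 (flp_h L158739) (flp_f L158672) L166470
theorem L166478 : sm gh N14066 = N14894 := rfl
theorem L166480 : sm ga N14894 = N14187 := ded_15_1 (flp_h L159794) (flp_a L158676) L166478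
theorem L166482 : sm gb N14894 = N14123 := ded_22_1 (flp_h L159208) (flp_b L158678) L166478
theorem L166484 : sm ge N14894 = N14067 := ded_37_1 (flp_h L158683) (flp_e L158681) L166478
theorem L166486 : sm gd N14068 = N14895 := rfl
theorem L166488 : sm ga N14895 = N14457 := ded_11_1 (flp_d L162198) (flp_a L158693) L166486
theorem L166490 : sm gb N14895 = N14070 := ded_18_1 (flp_d L158713) (flp_b L158695) L166486
theorem L166492 : sm gg N14895 = N14078 := ded_32_2 (flp_d L158793) (flp_g L158699) L166486
theorem L166494 : sm gc N14895 = N14895 := ded_24_1 (flp_d L166486) L158697 L150602 (flp_c L158697) L166486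
theorem L166495 : sm gi N14068 = N14896 := rfl
theorem L166497 : sm ga N14896 = N14458 := ded_16_1 (flp_i L162205) (flp_a L158693) L166495
theorem L166499 : sm gb N14896 = N14072 := ded_23_1 (flp_i L158729) (flp_b L158695) L166495
theorem L166501 : sm gc N14896 = N14124 := ded_29_1 (flp_i L159214) (flp_c L158697) L166495
theorem L166503 : sm ge N14896 = N14069 := ded_38_1 (flp_i L158703) L158691 L166495
theorem L166505 : sm gg N14896 = N14080 := ded_43_1 (flp_i L158804) (flp_g L158699) L166495
theorem L166507 : sm gh N14069 = N14897 := rfl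
theorem L166509 : sm ga N14897 = N14459 := ded_15_1 (flp_h L162213) (flp_a L158705) L166507
theorem L166511 : sm gb N14897 = N14073 := ded_22_1 (flp_h L158739) (flp_b L158707) L166507
theorem L166513 : sm gc N14897 = N14125 := ded_28_1 (flp_h L159225) (flp_c L158709) L166507
theorem L166515 : sm gg N14897 = N14081 := ded_42_1 (flp_h L158812) (flp_g L158711) L166507
theorem L166517 : sm gf N14070 = N14898 := rfl
theorem L166519 : sm ga N14898 = N14224 := ded_13_1 (flp_f L160073) (flp_a L158715) L166517
theorem L166521 : sm gc N14898 = N14092 := ded_26_1 (flp_f L158898) (flp_c L158719) L166517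
theorem L166523 : sm gd N14898 = N14071 := ded_31_1 (flp_f L158721) L158713 L166517
theorem L166525 : sm gh N14070 = N14899 := rfl
theorem L166527 : sm ga N14899 = N14225 := ded_15_1 (flp_h L160081) (flp_a L158715) L166525
theorem L166529 : sm gc N14899 = N14093 := ded_28_1 (flp_h L158905) (flp_c L158719) L166525
theorem L166531 : sm gg N14899 = N14083 := ded_42_1 (flp_h L158826) (flp_g L158717) L166525
theorem L166533 : sm gd N14899 = N14426 := ded_33_1 L161924 L153729 (flp_h L150131) L158713 L166525
theorem L166535 : sm gi N14070 = N14900 := rfl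
theorem L166537 : sm ga N14900 = N14226 := ded_16_1 (flp_i L160089) (flp_a L158715) L166535
theorem L166539 : sm gc N14900 = N14094 := ded_29_1 (flp_i L158914) (flp_c L158719) L166535
theorem L166541 : sm gd N14900 = N14072 := ded_34_1 (flp_i L158729) L158713 L166535
theorem L166543 : sm gg N14900 = N14084 := ded_43_1 (flp_i L158832) (flp_g L158717) L166535
theorem L166545 : sm gi N14071 = N14901 := rfl
theorem L166547 : sm ga N14901 = N14228 := ded_16_1 (flp_i L160107) (flp_a L158723) L166545
theorem L166549 : sm gc N14901 = N14074 := ded_29_1 (flp_i L158747) (flp_c L158725) L166545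
theorem L166551 : sm gf N14901 = N14072 := ded_41_1 (flp_i L158729) L158721 L166545
theorem L166553 : sm gh N14072 = N14902 := rfl
theorem L166555 : sm ga N14902 = N14229 := ded_15_1 (flp_h L160115) (flp_a L158731) L166553
theorem L166557 : sm gc N14902 = N14075 := ded_28_1 (flp_h L158757) (flp_c L158733) L166553
theorem L166559 : sm ge N14902 = N14073 := ded_37_1 (flp_h L158739) (flp_e L158735) L166553
theorem L166561 : sm gg N14902 = N14087 := ded_42_1 (flp_h L158854) (flp_g L158737) L166553
theorem L166563 : sm gi N14902 = N14256 := ded_44_2 L160315 L151869 (flp_h L150131) L158729 L166553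
theorem L166565 : sm gd N14073 = N14903 := rfl
theorem L166567 : sm ga N14903 = N14230 := ded_11_1 (flp_d L160125) (flp_a L158741) L166565
theorem L166569 : sm gg N14903 = N14088 := ded_32_2 (flp_d L158862) (flp_g L158745) L166565
theorem L166571 : sm gh N14074 = N14904 := rfl
theorem L166573 : sm ga N14904 = N14232 := ded_15_1 (flp_h L160141) (flp_a L158749) L166571
theorem L166575 : sm gb N14904 = N14128 := ded_22_1 (flp_h L159253) (flp_b L158751) L166571
theorem L166577 : sm gf N14904 = N14075 := ded_40_1 (flp_h L158757) (flp_f L158755) L166571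
theorem L166579 : sm gd N14904 = N14223 := ded_33_1 (flp_h L160065) L151508 (flp_h L150295) (flp_d L158753) L166571
theorem L166581 : sm gi N14904 = N14255 := ded_44_2 L160311 L151865 (flp_h L150149) L158747 L166571
theorem L166583 : sm gd N14076 = N14905 := rfl
theorem L166585 : sm ga N14905 = N14078 := ded_11_1 (flp_d L158793) (flp_a L158773) L166583
theorem L166587 : sm gb N14905 = N14233 := ded_18_1 (flp_d L160147) (flp_b L158775) L166583
theorem L166589 : sm gg N14905 = N14457 := ded_32_2 (flp_d L162198) (flp_g L158779) L166583
theorem L166591 : sm gc N14905 = N14905 := ded_24_1 (flp_d L166583) L158777 L150660 (flp_c L158777) L166583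
theorem L166592 : sm ge N14905 = N14895 := ded_30_2 (flp_d L166486) (flp_e L158691) (flp_d L150175) L158771 L166583
theorem L166594 : sm gi N14076 = N14906 := rfl
theorem L166596 : sm ga N14906 = N14080 := ded_16_1 (flp_i L158804) (flp_a L158773) L166594
theorem L166598 : sm gb N14906 = N14235 := ded_23_1 (flp_i L160163) (flp_b L158775) L166594
theorem L166600 : sm gc N14906 = N14129 := ded_29_1 (flp_i L159263) (flp_c L158777) L166594
theorem L166602 : sm ge N14906 = N14077 := ded_38_1 (flp_i L158781) L158771 L166594
theorem L166604 : sm gg N14906 = N14458 := ded_43_1 (flp_i L162205) (flp_g L158779) L166594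
theorem L166606 : sm gh N14077 = N14907 := rfl
theorem L166608 : sm ga N14907 = N14081 := ded_15_1 (flp_h L158812) (flp_a L158783) L166606
theorem L166610 : sm gb N14907 = N14236 := ded_22_1 (flp_h L160173) (flp_b L158785) L166606
theorem L166612 : sm gc N14907 = N14130 := ded_28_1 (flp_h L159274) (flp_c L158787) L166606
theorem L166614 : sm gg N14907 = N14459 := ded_42_1 (flp_h L162213) (flp_g L158791) L166606
theorem L166616 : sm gf N14078 = N14908 := rfl
theorem L166618 : sm gb N14908 = N14082 := ded_20_1 (flp_f L158818) (flp_b L158795) L166616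
theorem L166620 : sm gc N14908 = N14908 := ded_26_1 (flp_f L166616) L158797 L166616
theorem L166621 : sm gd N14908 = N14079 := ded_31_1 (flp_f L158798) L158793 L166616
theorem L166623 : sm gh N14078 = N14909 := rfl
theorem L166625 : sm gb N14909 = N14083 := ded_22_1 (flp_h L158826) (flp_b L158795) L166623
theorem L166627 : sm gc N14909 = N14909 := ded_28_1 (flp_h L166623) L158797 L166623
theorem L166628 : sm gi N14078 = N14910 := rfl
theorem L166630 : sm gb N14910 = N14084 := ded_23_1 (flp_i L158832) (flp_b L158795) L166628
theorem L166632 : sm gc N14910 = N14910 := ded_29_1 (flp_i L166628) L158797 L166628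
theorem L166633 : sm gd N14910 = N14080 := ded_34_1 (flp_i L158804) L158793 L166628
theorem L166635 : sm gi N14079 = N14911 := rfl
theorem L166637 : sm gb N14911 = N14086 := ded_23_1 (flp_i L158846) (flp_b L158800) L166635
theorem L166639 : sm gc N14911 = N14131 := ded_29_1 (flp_i L159282) (flp_c L158802) L166635
theorem L166641 : sm gf N14911 = N14080 := ded_41_1 (flp_i L158804) L158798 L166635
theorem L166643 : sm gh N14080 = N14912 := rfl
theorem L166645 : sm gb N14912 = N14087 := ded_22_1 (flp_h L158854) (flp_b L158806) L166643
theorem L166647 : sm gc N14912 = N14132 := ded_28_1 (flp_h L159289) (flp_c L158808) L166643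
theorem L166649 : sm ge N14912 = N14081 := ded_37_1 (flp_h L158812) (flp_e L158810) L166643
theorem L166651 : sm gd N14081 = N14913 := rfl
theorem L166653 : sm gb N14913 = N14088 := ded_18_1 (flp_d L158862) (flp_b L158814) L166651
theorem L166655 : sm ge N14082 = N14914 := rfl
theorem L166657 : sm ga N14914 = N14244 := ded_12_1 (flp_e L160245) (flp_a L158820) L166655
theorem L166659 : sm gc N14914 = N14098 := ded_25_1 (flp_e L158960) (flp_c L158822) L166655
theorem L166661 : sm gg N14082 = N14915 := rfl
theorem L166663 : sm ga N14915 = N14245 := ded_14_1 (flp_g L160249) (flp_a L158820) L166661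
theorem L166665 : sm gc N14915 = N14099 := ded_27_1 (flp_g L158967) (flp_c L158822) L166661
theorem L166667 : sm gd N14915 = N14085 := ded_32_1 (flp_g L158840) (flp_d L158824) L166661
theorem L166669 : sm gh N14914 = N14915 := ded_15_0 L166663 (flp_h L160255) (flp_a L166657)
theorem L166671 : sm gh N14082 = N14916 := rfl
theorem L166673 : sm ga N14916 = N14246 := ded_15_1 (flp_h L160257) (flp_a L158820) L166671
theorem L166675 : sm gc N14916 = N14100 := ded_28_1 (flp_h L158976) (flp_c L158822) L166671
theorem L166677 : sm ge N14916 = N14915 := ded_37_1 (flp_h L166669) (flp_e L166655) L166671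
theorem L166679 : sm gf N14916 = N14083 := ded_40_1 (flp_h L158826) L158818 L166671
theorem L166681 : sm gg N14916 = N14914 := ded_42_1 L166669 (flp_g L166661) L166671
theorem L166683 : sm gi N14082 = N14917 := rfl
theorem L166685 : sm ga N14917 = N14247 := ded_16_1 (flp_i L160267) (flp_a L158820) L166683
theorem L166687 : sm gc N14917 = N14101 := ded_29_1 (flp_i L158989) (flp_c L158822) L166683
theorem L166689 : sm gd N14917 = N14086 := ded_34_1 (flp_i L158846) (flp_d L158824) L166683
theorem L166691 : sm gf N14917 = N14084 := ded_41_1 (flp_i L158832) L158818 L166683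
theorem L166693 : sm gi N14083 = N14918 := rfl
theorem L166695 : sm ga N14918 = N14248 := ded_16_1 (flp_i L160275) (flp_a L158828) L166693
theorem L166697 : sm gc N14918 = N14102 := ded_29_1 (flp_i L158998) (flp_c L158830) L166693
theorem L166699 : sm gh N14084 = N14919 := rfl
theorem L166701 : sm ga N14919 = N14249 := ded_15_1 (flp_h L160279) (flp_a L158834) L166699
theorem L166703 : sm gc N14919 = N14103 := ded_28_1 (flp_h L159005) (flp_c L158836) L166699
theorem L166705 : sm gi N14085 = N14920 := rfl
theorem L166707 : sm ga N14920 = N14250 := ded_16_1 (flp_i L160283) (flp_a L158842) L166705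
theorem L166709 : sm gc N14920 = N14089 := ded_29_1 (flp_i L158866) (flp_c L158844) L166705
theorem L166711 : sm gg N14920 = N14086 := ded_43_1 (flp_i L158846) L158840 L166705
theorem L166713 : sm gh N14086 = N14921 := rfl
theorem L166715 : sm ga N14921 = N14251 := ded_15_1 (flp_h L160289) (flp_a L158848) L166713
theorem L166717 : sm gc N14921 = N14090 := ded_28_1 (flp_h L158876) (flp_c L158850) L166713
theorem L166719 : sm gf N14921 = N14087 := ded_40_1 (flp_h L158854) (flp_f L158852) L166713
theorem L166721 : sm gd N14087 = N14922 := rfl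
theorem L166723 : sm ga N14922 = N14252 := ded_11_1 (flp_d L160295) (flp_a L158856) L166721
theorem L166725 : sm ge N14088 = N14923 := rfl
theorem L166727 : sm ga N14923 = N14253 := ded_12_1 (flp_e L160297) (flp_a L158864) L166725
theorem L166729 : sm gh N14089 = N14924 := rfl
theorem L166731 : sm ga N14924 = N14254 := ded_15_1 (flp_h L160299) (flp_a L158868) L166729
theorem L166733 : sm gb N14924 = N14137 := ded_22_1 (flp_h L159324) (flp_b L158870) L166729
theorem L166735 : sm gg N14924 = N14090 := ded_42_1 (flp_h L158876) (flp_g L158874) L166729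
theorem L166737 : sm gd N14090 = N14925 := rfl
theorem L166739 : sm ga N14925 = N14255 := ded_11_1 (flp_d L160305) (flp_a L158878) L166737
theorem L166741 : sm gb N14925 = N14138 := ded_18_1 (flp_d L159330) (flp_b L158880) L166737
theorem L166743 : sm gf N14925 = N14091 := ded_31_2 (flp_d L158884) (flp_f L158882) L166737
theorem L166745 : sm gi N14925 = N14232 := ded_34_2 (flp_d L166451) L166453 L166737
theorem L166747 : sm gh N14925 = N14109 := ded_33_2 (flp_d L159068) (flp_h L150376) (flp_d L150233) L158876 L166737
theorem L166749 : sm gc N14091 = N14926 := rfl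
theorem L166751 : sm ga N14926 = N14256 := ded_10_1 (flp_c L160313) (flp_a L158886) L166749
theorem L166753 : sm ge N14926 = N14208 := ded_25_2 L159956 (flp_e L158894) L166749
theorem L166755 : sm gg N14926 = N14220 := ded_27_2 L160047 (flp_g L158890) L166749
theorem L166757 : sm gh N14926 = N14110 := ded_28_2 (flp_c L159078) (flp_h L158896) L166749
theorem L166759 : sm gi N14926 = N14229 := ded_29_2 L160119 (flp_i L158892) L166749
theorem L166761 : sm gb N14926 = N14513 := ded_17_1 L162623 L154493 L150736 (flp_b L158888) L166749
theorem L166763 : sm ge N14092 = N14927 := rfl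
theorem L166765 : sm ga N14927 = N14257 := ded_12_1 (flp_e L160317) (flp_a L158900) L166763
theorem L166767 : sm gb N14927 = N14927 := ded_19_1 (flp_e L166763) L158902 L166763
theorem L166768 : sm gd N14927 = N14927 := ded_30_1 (flp_e L166763) L158903 L150261 (flp_d L158903) L166763
theorem L166769 : sm gg N14470 = N14927 := ded_14_0 L166765 (flp_g L160322) (flp_a L162301)
theorem L166771 : sm gh N14469 = N14927 := ded_15_0 L166765 (flp_h L160324) (flp_a L162294)
theorem L166773 : sm gg N14092 = N14928 := rfl
theorem L166775 : sm ga N14928 = N14258 := ded_14_1 (flp_g L160326) (flp_a L158900) L166773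
theorem L166777 : sm gb N14928 = N14928 := ded_21_1 (flp_g L166773) L158902 L166773
theorem L166778 : sm gd N14928 = N14095 := ded_32_1 (flp_g L158923) (flp_d L158903) L166773
theorem L166780 : sm ge N14928 = N14470 := ded_36_1 L166769 (flp_e L166763) L166773
theorem L166782 : sm gf N14928 = N14099 := ded_39_1 (flp_g L158967) (flp_f L150297) (flp_g L150250) L158898 L166773
theorem L166784 : sm gh N14468 = N14928 := ded_15_0 L166775 (flp_h L160336) (flp_a L162285)
theorem L166786 : sm gh N14092 = N14929 := rfl
theorem L166788 : sm ga N14929 = N14259 := ded_15_1 (flp_h L160338) (flp_a L158900) L166786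
theorem L166790 : sm gb N14929 = N14929 := ded_22_1 (flp_h L166786) L158902 L166786
theorem L166791 : sm ge N14929 = N14469 := ded_37_1 L166771 (flp_e L166763) L166786
theorem L166793 : sm gf N14929 = N14093 := ded_40_1 (flp_h L158905) L158898 L166786
theorem L166795 : sm gg N14929 = N14468 := ded_42_1 L166784 (flp_g L166773) L166786
theorem L166797 : sm gd N14929 = N14396 := ded_33_1 (flp_h L161631) L153219 (flp_h L150259) (flp_d L158903) L166786
theorem L166799 : sm gi N14092 = N14930 := rfl
theorem L166801 : sm ga N14930 = N14260 := ded_16_1 (flp_i L160350) (flp_a L158900) L166799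
theorem L166803 : sm gb N14930 = N14930 := ded_23_1 (flp_i L166799) L158902 L166799
theorem L166804 : sm gd N14930 = N14096 := ded_34_1 (flp_i L158935) (flp_d L158903) L166799
theorem L166806 : sm gf N14930 = N14094 := ded_41_1 (flp_i L158914) L158898 L166799
theorem L166808 : sm gi N14093 = N14931 := rfl
theorem L166810 : sm ga N14931 = N14261 := ded_16_1 (flp_i L160358) (flp_a L158907) L166808
theorem L166812 : sm gb N14931 = N14931 := ded_23_1 (flp_i L166808) L158909 L166808
theorem L166813 : sm gd N14931 = N14397 := ded_34_1 (flp_i L161644) (flp_d L158912) L166808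
theorem L166815 : sm gg N14931 = N14102 := ded_43_1 (flp_i L158998) (flp_g L158910) L166808
theorem L166817 : sm gh N14094 = N14932 := rfl
theorem L166819 : sm ga N14932 = N14262 := ded_15_1 (flp_h L160366) (flp_a L158916) L166817
theorem L166821 : sm gb N14932 = N14932 := ded_22_1 (flp_h L166817) L158918 L166817
theorem L166822 : sm gg N14932 = N14103 := ded_42_1 (flp_h L159005) (flp_g L158921) L166817
theorem L166824 : sm gd N14932 = N14420 := ded_33_1 (flp_h L161872) L153556 (flp_h L150273) (flp_d L158919) L166817
theorem L166826 : sm gi N14095 = N14933 := rfl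
theorem L166828 : sm ga N14933 = N14263 := ded_16_1 (flp_i L160372) (flp_a L158925) L166826
theorem L166830 : sm gb N14933 = N14933 := ded_23_1 (flp_i L166826) L158927 L166826
theorem L166831 : sm gc N14933 = N14097 := ded_29_1 (flp_i L158947) (flp_c L158928) L166826
theorem L166833 : sm ge N14933 = N14933 := ded_38_1 (flp_i L166826) L158930 L166826
theorem L166834 : sm gf N14933 = N14104 := ded_41_1 (flp_i L159010) (flp_f L158933) L166826
theorem L166836 : sm gg N14933 = N14096 := ded_43_1 (flp_i L158935) L158923 L166826
theorem L166838 : sm gh N14933 = N14421 := ded_44_1 (flp_i L161875) L153564 (flp_i L153241) (flp_h L158931) L166826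
theorem L166840 : sm gi N14098 = N14934 := rfl
theorem L166842 : sm ga N14934 = N14268 := ded_16_1 (flp_i L160431) (flp_a L158962) L166840
theorem L166844 : sm gb N14934 = N14934 := ded_23_1 (flp_i L166840) L158964 L166840
theorem L166845 : sm gd N14934 = N14111 := ded_34_1 (flp_i L159090) (flp_d L158965) L166840
theorem L166847 : sm ge N14934 = N14101 := ded_38_1 (flp_i L158989) L158960 L166840
theorem L166849 : sm gi N14099 = N14935 := rfl
theorem L166851 : sm ga N14935 = N14269 := ded_16_1 (flp_i L160439) (flp_a L158969) L166849
theorem L166853 : sm gb N14935 = N14935 := ded_23_1 (flp_i L166849) L158971 L166849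
theorem L166854 : sm gd N14935 = N14104 := ded_34_1 (flp_i L159010) (flp_d L158972) L166849
theorem L166856 : sm gg N14935 = N14101 := ded_43_1 (flp_i L158989) L158967 L166849
theorem L166858 : sm gi N14100 = N14936 := rfl
theorem L166860 : sm ga N14936 = N14270 := ded_16_1 (flp_i L160447) (flp_a L158978) L166858
theorem L166862 : sm gb N14936 = N14936 := ded_23_1 (flp_i L166858) L158980 L166858
theorem L166863 : sm gd N14936 = N14398 := ded_34_1 (flp_i L161656) (flp_d L158987) L166858
theorem L166865 : sm ge N14936 = N14935 := ded_38_1 (flp_i L166849) (flp_e L158981) L166858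
theorem L166867 : sm gf N14936 = N14102 := ded_41_1 (flp_i L158998) (flp_f L158983) L166858
theorem L166869 : sm gg N14936 = N14934 := ded_43_1 (flp_i L166840) (flp_g L158985) L166858
theorem L166871 : sm gh N14101 = N14937 := rfl
theorem L166873 : sm ga N14937 = N14271 := ded_15_1 (flp_h L160459) (flp_a L158991) L166871
theorem L166875 : sm gb N14937 = N14937 := ded_22_1 (flp_h L166871) L158993 L166871
theorem L166876 : sm gf N14937 = N14103 := ded_40_1 (flp_h L159005) (flp_f L158996) L166871
theorem L166878 : sm gh N14102 = N14938 := rfl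
theorem L166880 : sm ga N14938 = N14272 := ded_15_1 (flp_h L160465) (flp_a L159000) L166878
theorem L166882 : sm gb N14938 = N14938 := ded_22_1 (flp_h L166878) L159002 L166878
theorem L166883 : sm gi N14938 = N14103 := ded_44_2 (flp_h L159005) (flp_i L150311) L150304 L158998 L166878
theorem L166885 : sm gd N14103 = N14939 := rfl
theorem L166887 : sm ga N14939 = N14273 := ded_11_1 (flp_d L160471) (flp_a L159007) L166885
theorem L166889 : sm gb N14939 = N14939 := ded_18_1 (flp_d L166885) L159009 L166885
theorem L166890 : sm gg N14939 = N14420 := ded_32_2 (flp_d L166824) L166822 L166885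
theorem L166892 : sm gh N14939 = N14106 := ded_33_2 (flp_d L159034) (flp_h L150340) (flp_d L150316) L159005 L166885
theorem L166894 : sm gh N14104 = N14940 := rfl
theorem L166896 : sm ga N14940 = N14274 := ded_15_1 (flp_h L160477) (flp_a L159012) L166894
theorem L166898 : sm gb N14940 = N14940 := ded_22_1 (flp_h L166894) L159014 L166894
theorem L166899 : sm gc N14940 = N14108 := ded_28_1 (flp_h L159054) (flp_c L159015) L166894
theorem L166901 : sm ge N14940 = N14113 := ded_37_1 (flp_h L159107) (flp_e L159017) L166894
theorem L166903 : sm gf N14940 = N14421 := ded_40_1 (flp_h L166838) L166834 L166894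
theorem L166905 : sm gg N14940 = N14105 := ded_42_1 (flp_h L159021) (flp_g L159019) L166894
theorem L166907 : sm gi N14940 = N14401 := ded_44_2 (flp_h L161688) (flp_i L153306) (flp_h L150327) L159010 L166894
theorem L166909 : sm gd N14105 = N14941 := rfl
theorem L166911 : sm ga N14941 = N14275 := ded_11_1 (flp_d L160489) (flp_a L159023) L166909
theorem L166913 : sm gb N14941 = N14941 := ded_18_1 (flp_d L166909) L159025 L166909
theorem L166914 : sm gf N14941 = N14106 := ded_31_2 (flp_d L159034) (flp_f L159030) L166909
theorem L166916 : sm gi N14941 = N14402 := ded_34_2 (flp_d L161701) (flp_i L159032) L166909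
theorem L166918 : sm ge N14941 = N14861 := ded_30_2 L166187 L158448 L151231 (flp_e L159028) L166909
theorem L166920 : sm gc N14106 = N14942 := rfl
theorem L166922 : sm ga N14942 = N14276 := ded_10_1 (flp_c L160499) (flp_a L159036) L166920
theorem L166924 : sm gg N14942 = N14217 := ded_27_2 L160029 (flp_g L159039) L166920
theorem L166926 : sm gi N14942 = N14206 := ded_29_2 L159940 (flp_i L159041) L166920
theorem L166928 : sm gd N14942 = N14110 := ded_24_2 (flp_c L159078) (flp_d L150388) (flp_c L150345) L159034 L166920
theorem L166930 : sm gb N14511 = N14942 := ded_23_3 L166926 L159936 L162610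
theorem L166932 : sm ge N14106 = N14943 := rfl
theorem L166934 : sm ga N14943 = N14277 := ded_12_1 (flp_e L160505) (flp_a L159036) L166932
theorem L166936 : sm gb N14943 = N14943 := ded_19_1 (flp_e L166932) L159038 L166932
theorem L166937 : sm gg N14943 = N14409 := ded_36_2 L161784 (flp_g L159039) L166932
theorem L166939 : sm gi N14943 = N14403 := ded_38_2 (flp_e L161710) (flp_i L159041) L166932
theorem L166941 : sm gd N14943 = N14107 := ded_30_1 (flp_e L159043) (flp_d L150353) (flp_e L150347) L159034 L166932
theorem L166943 : sm gf N14943 = N14865 := ded_35_2 L166227 (flp_f L166189) (flp_e L166918) L166914 L166932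
theorem L166945 : sm gc N14109 = N14944 := rfl
theorem L166947 : sm ga N14944 = N14278 := ded_10_1 (flp_c L160515) (flp_a L159070) L166945
theorem L166949 : sm gf N14944 = N14110 := ded_26_2 (flp_c L159078) (flp_f L159074) L166945
theorem L166951 : sm gi N14944 = N14207 := ded_29_2 L159948 (flp_i L159076) L166945
theorem L166953 : sm gb N14944 = N14512 := ded_17_1 L162617 L154486 L150771 (flp_b L159072) L166945
theorem L166955 : sm gh N14115 = N14945 := rfl
theorem L166957 : sm ga N14945 = N14484 := ded_15_1 (flp_h L162439) (flp_a L159131) L166955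
theorem L166959 : sm gb N14945 = N14116 := ded_22_1 (flp_h L159140) (flp_b L159133) L166955
theorem L166961 : sm ge N14945 = N14299 := ded_37_1 L160716 (flp_e L159136) L166955
theorem L166963 : sm gg N14945 = N14119 := ded_42_1 (flp_h L159171) (flp_g L159138) L166955
theorem L166965 : sm gi N14945 = N14125 := ded_44_2 (flp_h L159225) (flp_i L150603) (flp_h L150488) L159129 L166955
theorem L166967 : sm gd N14116 = N14946 := rfl
theorem L166969 : sm ga N14946 = N14144 := ded_11_1 (flp_d L159381) (flp_a L159142) L166967
theorem L166971 : sm gg N14946 = N14121 := ded_32_2 (flp_d L159191) (flp_g L159148) L166967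
theorem L166973 : sm gi N14946 = N14127 := ded_34_2 (flp_d L159245) (flp_i L159150) L166967
theorem L166975 : sm gc N14946 = N14189 := ded_24_1 (flp_d L159810) L151309 (flp_d L150511) (flp_c L159144) L166967
theorem L166977 : sm gh N14946 = N14946 := ded_33_2 (flp_d L166967) (flp_h L159140) L150498 L159140 L166967
theorem L166978 : sm gh N14117 = N14947 := rfl
theorem L166980 : sm ga N14947 = N14119 := ded_15_1 (flp_h L159171) (flp_a L159154) L166978
theorem L166982 : sm gb N14947 = N14145 := ded_22_1 (flp_h L159392) (flp_b L159156) L166978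
theorem L166984 : sm gg N14947 = N14484 := ded_42_1 (flp_h L162439) (flp_g L159159) L166978
theorem L166986 : sm gi N14947 = N14130 := ded_44_2 (flp_h L159274) (flp_i L150661) (flp_h L150520) L159152 L166978
theorem L166988 : sm gh N14118 = N14948 := rfl
theorem L166990 : sm gb N14948 = N14120 := ded_22_1 (flp_h L159177) (flp_b L159163) L166988
theorem L166992 : sm ge N14948 = N14119 := ded_37_1 (flp_h L159171) (flp_e L159167) L166988
theorem L166994 : sm gg N14948 = N14299 := ded_42_1 L160716 (flp_g L159169) L166988
theorem L166996 : sm gd N14948 = N14554 := ded_33_1 L162941 L154806 (flp_h L153026) (flp_d L159165) L166988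
theorem L166998 : sm gi N14948 = N14132 := ded_44_2 (flp_h L159289) (flp_i L150676) (flp_h L150530) L159161 L166988
theorem L167000 : sm gd N14119 = N14949 := rfl
theorem L167002 : sm gb N14949 = N14121 := ded_18_1 (flp_d L159191) (flp_b L159173) L167000
theorem L167004 : sm gi N14949 = N14133 := ded_34_2 (flp_d L159295) (flp_i L159175) L167000
theorem L167006 : sm gh N14949 = N14949 := ded_33_2 (flp_d L167000) (flp_h L159171) L150538 L159171 L167000
theorem L167007 : sm gd N14123 = N14950 := rfl
theorem L167009 : sm ga N14950 = N14147 := ded_11_1 (flp_d L159411) (flp_a L159210) L167007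
theorem L167011 : sm gi N14950 = N14553 := ded_34_2 (flp_d L163905) L163907 L167007
theorem L167013 : sm ge N14950 = N14550 := ded_30_2 (flp_d L162908) (flp_e L157690) L157696 (flp_e L159212) L167007
theorem L167015 : sm gh N14950 = N14950 := ded_33_2 (flp_d L167007) (flp_h L159208) L150583 L159208 L167007
theorem L167016 : sm gh N14124 = N14951 := rfl
theorem L167018 : sm ga N14951 = N14487 := ded_15_1 (flp_h L162459) (flp_a L159216) L167016
theorem L167020 : sm gb N14951 = N14126 := ded_22_1 (flp_h L159233) (flp_b L159218) L167016
theorem L167022 : sm ge N14951 = N14125 := ded_37_1 (flp_h L159225) (flp_e L159221) L167016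
theorem L167024 : sm gg N14951 = N14132 := ded_42_1 (flp_h L159289) (flp_g L159223) L167016
theorem L167026 : sm gi N14951 = N14299 := ded_44_2 L160716 L152172 (flp_h L150600) L159214 L167016
theorem L167028 : sm gd N14125 = N14952 := rfl
theorem L167030 : sm ga N14952 = N14488 := ded_11_1 (flp_d L162465) (flp_a L159227) L167028
theorem L167032 : sm gb N14952 = N14127 := ded_18_1 (flp_d L159245) (flp_b L159229) L167028
theorem L167034 : sm gg N14952 = N14133 := ded_32_2 (flp_d L159295) (flp_g L159231) L167028
theorem L167036 : sm gh N14952 = N14139 := ded_33_2 (flp_d L159342) (flp_h L150773) (flp_d L150609) L159225 L167028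
theorem L167038 : sm gd N14126 = N14953 := rfl
theorem L167040 : sm ga N14953 = N14148 := ded_11_1 (flp_d L159420) (flp_a L159235) L167038
theorem L167042 : sm gg N14953 = N14135 := ded_32_2 (flp_d L159309) (flp_g L159241) L167038
theorem L167044 : sm gi N14953 = N14298 := ded_34_2 L160712 (flp_i L159243) L167038
theorem L167046 : sm gc N14953 = N14288 := ded_24_1 (flp_d L160615) L152011 (flp_d L150648) (flp_c L159237) L167038
theorem L167048 : sm gh N14953 = N14953 := ded_33_2 (flp_d L167038) (flp_h L159233) L150619 L159233 L167038
theorem L167049 : sm ge N14127 = N14954 := rfl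
theorem L167051 : sm ga N14954 = N14149 := ded_12_1 (flp_e L159431) (flp_a L159247) L167049
theorem L167053 : sm gc N14954 = N14491 := ded_25_1 (flp_e L166096) L166094 L167049
theorem L167055 : sm gg N14954 = N14136 := ded_36_2 (flp_e L159318) (flp_g L159249) L167049
theorem L167057 : sm gh N14954 = N14140 := ded_37_2 (flp_e L159351) (flp_h L159251) L167049
theorem L167059 : sm gf N14954 = N14492 := ded_35_2 (flp_e L164089) L164091 (flp_e L166168) L166164 L167049
theorem L167061 : sm gh N14129 = N14955 := rfl
theorem L167063 : sm ga N14955 = N14132 := ded_15_1 (flp_h L159289) (flp_a L159265) L167061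
theorem L167065 : sm gb N14955 = N14150 := ded_22_1 (flp_h L159443) (flp_b L159267) L167061
theorem L167067 : sm ge N14955 = N14130 := ded_37_1 (flp_h L159274) (flp_e L159270) L167061
theorem L167069 : sm gg N14955 = N14487 := ded_42_1 (flp_h L162459) (flp_g L159272) L167061
theorem L167071 : sm gd N14130 = N14956 := rfl
theorem L167073 : sm ga N14956 = N14133 := ded_11_1 (flp_d L159295) (flp_a L159276) L167071
theorem L167075 : sm gb N14956 = N14151 := ded_18_1 (flp_d L159453) (flp_b L159278) L167071
theorem L167077 : sm gg N14956 = N14488 := ded_32_2 (flp_d L162465) (flp_g L159280) L167071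
theorem L167079 : sm gh N14956 = N14141 := ded_33_2 (flp_d L159363) (flp_h L150790) (flp_d L150667) L159274 L167071
theorem L167081 : sm gh N14131 = N14957 := rfl
theorem L167083 : sm gb N14957 = N14134 := ded_22_1 (flp_h L159301) (flp_b L159284) L167081
theorem L167085 : sm gf N14957 = N14132 := ded_40_1 (flp_h L159289) (flp_f L159287) L167081
theorem L167087 : sm gd N14132 = N14958 := rfl
theorem L167089 : sm gb N14958 = N14135 := ded_18_1 (flp_d L159309) (flp_b L159291) L167087
theorem L167091 : sm gi N14958 = N14554 := ded_34_2 (flp_d L166996) L166998 L167087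
theorem L167093 : sm gh N14958 = N14958 := ded_33_2 (flp_d L167087) (flp_h L159289) L150680 L159289 L167087
theorem L167094 : sm gc N14133 = N14959 := rfl
theorem L167096 : sm gh N14959 = N14142 := ded_28_2 (flp_c L159372) (flp_h L159299) L167094
theorem L167098 : sm ge N14133 = N14960 := rfl
theorem L167100 : sm gb N14960 = N14136 := ded_19_1 (flp_e L159318) (flp_b L159297) L167098
theorem L167102 : sm gh N14960 = N14143 := ded_37_2 (flp_e L159375) (flp_h L159299) L167098
theorem L167104 : sm gd N14134 = N14961 := rfl
theorem L167106 : sm ga N14961 = N14153 := ded_11_1 (flp_d L159470) (flp_a L159303) L167104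
theorem L167108 : sm gf N14961 = N14135 := ded_31_2 (flp_d L159309) (flp_f L159307) L167104
theorem L167110 : sm gi N14961 = N14552 := ded_34_2 (flp_d L164069) L164071 L167104
theorem L167112 : sm gc N14961 = N14550 := ded_24_1 (flp_d L162908) L159340 (flp_d L159330) (flp_c L159305) L167104
theorem L167114 : sm gh N14961 = N14961 := ded_33_2 (flp_d L167104) (flp_h L159301) L150693 L159301 L167104
theorem L167115 : sm gc N14139 = N14962 := rfl
theorem L167117 : sm ga N14962 = N14494 := ded_10_1 (flp_c L162500) (flp_a L159344) L167115
theorem L167119 : sm gg N14962 = N14142 := ded_27_2 (flp_c L159372) (flp_g L159348) L167115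
theorem L167121 : sm gi N14962 = N14962 := ded_29_2 (flp_c L167115) L159350 L167115
theorem L167122 : sm ge N14139 = N14963 := rfl
theorem L167124 : sm ga N14963 = N14495 := ded_12_1 (flp_e L162505) (flp_a L159344) L167122
theorem L167126 : sm gb N14963 = N14140 := ded_19_1 (flp_e L159351) (flp_b L159346) L167122
theorem L167128 : sm gg N14963 = N14143 := ded_36_2 (flp_e L159375) (flp_g L159348) L167122
theorem L167130 : sm gi N14963 = N14963 := ded_38_2 (flp_e L167122) L159350 L167122
theorem L167131 : sm gd N14963 = N14963 := ded_30_1 (flp_e L167122) (flp_d L159342) L150779 L159342 L167122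
theorem L167132 : sm gf N14963 = N14493 := ded_35_2 (flp_e L164116) L164118 (flp_e L166138) L166133 L167122
theorem L167134 : sm gc N14141 = N14964 := rfl
theorem L167136 : sm ga N14964 = N14142 := ded_10_1 (flp_c L159372) (flp_a L159365) L167134
theorem L167138 : sm gg N14964 = N14494 := ded_27_2 (flp_c L162500) (flp_g L159369) L167134
theorem L167140 : sm gi N14964 = N14964 := ded_29_2 (flp_c L167134) L159371 L167134
theorem L167141 : sm gd N14964 = N14962 := ded_24_2 (flp_c L167115) (flp_d L159342) (flp_c L150796) L159363 L167134
theorem L167143 : sm ge N14142 = N14965 := rfl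
theorem L167145 : sm gc N14965 = N14143 := ded_25_1 (flp_e L159375) L159372 L167143
theorem L167147 : sm gi N14965 = N14965 := ded_38_2 (flp_e L167143) L159374 L167143
theorem L167148 : sm gd N14145 = N14966 := rfl
theorem L167150 : sm ga N14966 = N14146 := ded_11_1 (flp_d L159402) (flp_a L159394) L167148
theorem L167152 : sm gg N14966 = N14485 := ded_32_2 (flp_d L162445) (flp_g L159398) L167148
theorem L167154 : sm gi N14966 = N14151 := ded_34_2 (flp_d L159453) (flp_i L159400) L167148
theorem L167156 : sm gh N14966 = N14966 := ded_33_2 (flp_d L167148) (flp_h L159392) L150841 L159392 L167148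
theorem L167157 : sm gd N14150 = N14967 := rfl
theorem L167159 : sm ga N14967 = N14152 := ded_11_1 (flp_d L159461) (flp_a L159445) L167157
theorem L167161 : sm gg N14967 = N14489 := ded_32_2 (flp_d L162471) (flp_g L159451) L167157
theorem L167163 : sm gi N14967 = N14557 := ded_34_2 (flp_d L165445) L165447 L167157
theorem L167165 : sm gh N14967 = N14967 := ded_33_2 (flp_d L167157) (flp_h L159443) L150923 L159443 L167157
theorem L167166 : sm gi N14154 = N14968 := rfl
theorem L167168 : sm gb N14968 = N14156 := ded_23_1 (flp_i L159501) L159479 L167166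
theorem L167170 : sm gc N14968 = N14191 := ded_29_1 (flp_i L159820) (flp_c L159487) L167166
theorem L167172 : sm gd N14968 = N14159 := ded_34_1 (flp_i L159531) (flp_d L159481) L167166
theorem L167174 : sm gf N14968 = N14193 := ded_41_1 (flp_i L159836) (flp_f L159483) L167166
theorem L167176 : sm gi N14155 = N14969 := rfl
theorem L167178 : sm ga N14969 = N14730 := ded_16_1 (flp_i L164834) (flp_a L159491) L167176
theorem L167180 : sm gc N14969 = N14157 := ded_29_1 (flp_i L159509) (flp_c L159493) L167176
theorem L167182 : sm gd N14969 = N14606 := ded_34_1 (flp_i L163439) (flp_d L159499) L167176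
theorem L167184 : sm ge N14969 = N14156 := ded_38_1 (flp_i L159501) L159489 L167176
theorem L167186 : sm gg N14969 = N14617 := ded_43_1 (flp_i L163555) (flp_g L159495) L167176
theorem L167188 : sm gh N14156 = N14970 := rfl
theorem L167190 : sm gc N14970 = N14158 := ded_28_1 (flp_h L159521) (flp_c L159503) L167188
theorem L167192 : sm gf N14970 = N14505 := ded_40_1 (flp_h L162568) (flp_f L159507) L167188
theorem L167194 : sm gi N14970 = N14695 := ded_44_2 (flp_h L164474) (flp_i L156512) (flp_h L151012) L159501 L167188
theorem L167196 : sm gh N14157 = N14971 := rfl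
theorem L167198 : sm ga N14971 = N14764 := ded_15_1 (flp_h L165110) (flp_a L159511) L167196
theorem L167200 : sm gb N14971 = N14311 := ded_22_1 (flp_h L160812) (flp_b L159513) L167196
theorem L167202 : sm ge N14971 = N14158 := ded_37_1 (flp_h L159521) (flp_e L159517) L167196
theorem L167204 : sm gg N14971 = N14631 := ded_42_1 (flp_h L163694) (flp_g L159519) L167196
theorem L167206 : sm gi N14971 = N14698 := ded_44_2 (flp_h L164498) (flp_i L156529) (flp_h L151024) L159509 L167196
theorem L167208 : sm gh N14159 = N14972 := rfl
theorem L167210 : sm gb N14972 = N14160 := ded_22_1 (flp_h L159539) (flp_b L159533) L167208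
theorem L167212 : sm gc N14972 = N14185 := ded_28_1 (flp_h L159777) (flp_c L159535) L167208
theorem L167214 : sm gf N14972 = N14208 := ded_40_1 (flp_h L159952) (flp_f L159537) L167208
theorem L167216 : sm gi N14972 = N14165 := ded_44_2 (flp_h L159576) (flp_i L151082) (flp_h L151040) L159531 L167208
theorem L167218 : sm gd N14160 = N14973 := rfl
theorem L167220 : sm gf N14973 = N14514 := ded_31_2 (flp_d L162629) (flp_f L159543) L167218
theorem L167222 : sm gi N14973 = N14171 := ded_34_2 (flp_d L159624) (flp_i L159545) L167218
theorem L167224 : sm gc N14973 = N14221 := ded_24_1 (flp_d L160053) L151492 (flp_d L151056) (flp_c L159541) L167218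
theorem L167226 : sm gd N14161 = N14974 := rfl
theorem L167228 : sm gg N14974 = N14171 := ded_32_2 (flp_d L159624) (flp_g L159551) L167226
theorem L167230 : sm gc N14974 = N14230 := ded_24_1 (flp_d L160125) L151548 (flp_d L151074) (flp_c L159549) L167226
theorem L167232 : sm gh N14974 = N14734 := ded_33_2 (flp_d L164876) (flp_h L156832) (flp_d L151064) L159547 L167226
theorem L167234 : sm gf N14162 = N14975 := rfl
theorem L167236 : sm gb N14975 = N14166 := ded_20_1 (flp_f L159584) (flp_b L159555) L167234
theorem L167238 : sm gc N14975 = N14975 := ded_26_1 (flp_f L167234) L159557 L167234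
theorem L167239 : sm gd N14975 = N14163 := ded_31_1 (flp_f L159560) L159553 L167234
theorem L167241 : sm gh N14891 = N14975 := ded_46_0 (flp_f L167234) L159558 (flp_d L156890) L148125 L139293 L130357 (flp_h L130602) L139555 L139565 L133879 L133877 (flp_b L132556) (flp_a L141338) L141342 (flp_f L132352) (flp_e L124441) (flp_d L66908) L48906 (flp_b L44696) L44694 (flp_h L32884) (flp_f L26202) (flp_e L26195) L19259 L14167 L11171 L8243 (flp_h L11140) (flp_f L11135) (flp_e L8200) (flp_d L8183) (flp_c L8176) L6063 L6062 L6067 L6064 L8185 L8192 (flp_c L11100) (flp_b L15061) (flp_a L20475) L20480 L27862 L27870 L119984 (flp_c L31908) (flp_b L43392) L43391 (flp_h L43389) L43380 L118682 L71195 L126640 L126648 L71559 (flp_h L67319) (flp_f L124915) L132922 L141995 (flp_c L151094) (flp_b L159555) (flp_a L166457)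
theorem L167243 : sm gh N14162 = N14976 := rfl
theorem L167245 : sm ga N14976 = N14975 := ded_15_1 (flp_h L167241) L166457 L167243
theorem L167247 : sm gb N14976 = N14167 := ded_22_1 (flp_h L159590) (flp_b L159555) L167243
theorem L167249 : sm gc N14976 = N14976 := ded_28_1 (flp_h L167243) L159557 L167243
theorem L167250 : sm ge N14976 = N14743 := ded_37_1 (flp_h L164964) (flp_e L159558) L167243
theorem L167252 : sm gf N14976 = N14891 := ded_40_1 L167241 (flp_f L167234) L167243
theorem L167254 : sm gg N14976 = N14577 := ded_42_1 (flp_h L164737) L164734 L167243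
theorem L167256 : sm gd N14976 = N14585 := ded_33_1 L163199 (flp_d L158156) L158162 L159553 L167243
theorem L167258 : sm gi N14162 = N14977 := rfl
theorem L167260 : sm gb N14977 = N14168 := ded_23_1 (flp_i L159602) (flp_b L159555) L167258
theorem L167262 : sm gc N14977 = N14977 := ded_29_1 (flp_i L167258) L159557 L167258
theorem L167263 : sm gd N14977 = N14164 := ded_34_1 (flp_i L159568) L159553 L167258
theorem L167265 : sm ge N14977 = N14744 := ded_38_1 (flp_i L164969) (flp_e L159558) L167258
theorem L167267 : sm gi N14163 = N14978 := rfl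
theorem L167269 : sm gb N14978 = N14169 := ded_23_1 (flp_i L159610) (flp_b L159562) L167267
theorem L167271 : sm gc N14978 = N14186 := ded_29_1 (flp_i L159785) (flp_c L159564) L167267
theorem L167273 : sm ge N14978 = N14228 := ded_38_1 (flp_i L160107) (flp_e L159566) L167267
theorem L167275 : sm gf N14978 = N14164 := ded_41_1 (flp_i L159568) L159560 L167267
theorem L167277 : sm gh N14164 = N14979 := rfl
theorem L167279 : sm gb N14979 = N14170 := ded_22_1 (flp_h L159618) (flp_b L159570) L167277
theorem L167281 : sm gc N14979 = N14187 := ded_28_1 (flp_h L159794) (flp_c L159572) L167277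
theorem L167283 : sm ge N14979 = N14165 := ded_37_1 (flp_h L159576) (flp_e L159574) L167277
theorem L167285 : sm gd N14165 = N14980 := rfl
theorem L167287 : sm gb N14980 = N14171 := ded_18_1 (flp_d L159624) (flp_b L159578) L167285
theorem L167289 : sm gf N14980 = N14230 := ded_31_2 (flp_d L160125) (flp_f L159582) L167285
theorem L167291 : sm gh N14980 = N14748 := ded_33_2 (flp_d L165008) (flp_h L156911) (flp_d L151088) L159576 L167285
theorem L167293 : sm ge N14166 = N14981 := rfl
theorem L167295 : sm gc N14981 = N14173 := ded_25_1 (flp_e L159640) (flp_c L159586) L167293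
theorem L167297 : sm gd N14981 = N14517 := ded_30_1 (flp_e L162648) L154503 (flp_e L151102) (flp_d L159588) L167293
theorem L167299 : sm gf N14981 = N14749 := ded_35_2 (flp_e L165014) (flp_f L156919) (flp_e L151096) L159584 L167293
theorem L167301 : sm gh N14166 = N14982 := rfl
theorem L167303 : sm ga N14982 = N14684 := ded_15_1 (flp_h L164401) (flp_a L164405) L167301
theorem L167305 : sm gb N14982 = N14891 := ded_22_1 L167241 L167236 L167301
theorem L167307 : sm gc N14982 = N14174 := ded_28_1 (flp_h L159647) (flp_c L159586) L167301
theorem L167309 : sm gf N14982 = N14167 := ded_40_1 (flp_h L159590) L159584 L167301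
theorem L167311 : sm gg N14982 = N14860 := ded_42_1 L166178 L164431 L167301
theorem L167313 : sm gd N14982 = N14583 := ded_33_1 L163175 (flp_d L156770) L156776 (flp_d L159588) L167301
theorem L167315 : sm gi N14166 = N14983 := rfl
theorem L167317 : sm gc N14983 = N14175 := ded_29_1 (flp_i L159658) (flp_c L159586) L167315
theorem L167319 : sm gd N14983 = N14169 := ded_34_1 (flp_i L159610) (flp_d L159588) L167315
theorem L167321 : sm gf N14983 = N14168 := ded_41_1 (flp_i L159602) L159584 L167315
theorem L167323 : sm gi N14167 = N14984 := rfl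
theorem L167325 : sm ga N14984 = N14687 := ded_16_1 (flp_i L164407) (flp_a L159592) L167323
theorem L167327 : sm gc N14984 = N14176 := ded_29_1 (flp_i L159665) (flp_c L159594) L167323
theorem L167329 : sm gd N14984 = N14587 := ded_34_1 (flp_i L163221) (flp_d L159600) L167323
theorem L167331 : sm ge N14984 = N14753 := ded_38_1 (flp_i L165040) (flp_e L159596) L167323
theorem L167333 : sm gg N14984 = N14579 := ded_43_1 (flp_i L163126) (flp_g L159598) L167323
theorem L167335 : sm gh N14168 = N14985 := rfl
theorem L167337 : sm gc N14985 = N14177 := ded_28_1 (flp_h L159676) (flp_c L159604) L167335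
theorem L167339 : sm ge N14985 = N14754 := ded_37_1 (flp_h L165044) (flp_e L159608) L167335
theorem L167341 : sm gh N14169 = N14986 := rfl
theorem L167343 : sm gc N14986 = N14172 := ded_28_1 (flp_h L159632) (flp_c L159612) L167341
theorem L167345 : sm ge N14986 = N14524 := ded_37_1 (flp_h L162692) (flp_e L159614) L167341
theorem L167347 : sm gf N14986 = N14170 := ded_40_1 (flp_h L159618) (flp_f L159616) L167341
theorem L167349 : sm gd N14170 = N14987 := rfl
theorem L167351 : sm ge N14171 = N14988 := rfl
theorem L167353 : sm gc N14988 = N14253 := ded_25_1 (flp_e L160297) (flp_c L159628) L167351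
theorem L167355 : sm gh N14988 = N14758 := ded_37_2 (flp_e L165066) (flp_h L159630) L167351
theorem L167357 : sm gh N14173 = N14989 := rfl
theorem L167359 : sm ga N14989 = N14427 := ded_15_1 (flp_h L165798) L165792 L167357
theorem L167361 : sm gb N14989 = N14989 := ded_22_1 (flp_h L167357) L159642 L167357
theorem L167362 : sm ge N14989 = N14174 := ded_37_1 (flp_h L159647) L159640 L167357
theorem L167364 : sm gf N14989 = N14416 := ded_40_1 (flp_h L161841) (flp_f L159645) L167357
theorem L167366 : sm gg N14989 = N14402 := ded_42_1 (flp_h L165868) L165866 L167357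
theorem L167368 : sm gd N14989 = N14401 := ded_33_1 (flp_h L161688) L159722 (flp_h L159709) (flp_d L159643) L167357
theorem L167370 : sm gi N14173 = N14990 := rfl
theorem L167372 : sm gb N14990 = N14990 := ded_23_1 (flp_i L167370) L159642 L167370
theorem L167373 : sm gd N14990 = N14181 := ded_34_1 (flp_i L159726) (flp_d L159643) L167370
theorem L167375 : sm ge N14990 = N14175 := ded_38_1 (flp_i L159658) L159640 L167370
theorem L167377 : sm gf N14990 = N14770 := ded_41_1 (flp_i L165166) (flp_f L159645) L167370
theorem L167379 : sm gi N14174 = N14991 := rfl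
theorem L167381 : sm ga N14991 = N14685 := ded_16_1 (flp_i L164383) (flp_a L159649) L167379
theorem L167383 : sm gb N14991 = N14991 := ded_23_1 (flp_i L167379) L159651 L167379
theorem L167384 : sm gd N14991 = N14405 := ded_34_1 (flp_i L161736) (flp_d L159656) L167379
theorem L167386 : sm gf N14991 = N14176 := ded_41_1 (flp_i L159665) (flp_f L159652) L167379
theorem L167388 : sm gg N14991 = N14861 := ded_43_1 (flp_i L166182) (flp_g L159654) L167379
theorem L167390 : sm gh N14175 = N14992 := rfl
theorem L167392 : sm gb N14992 = N14992 := ded_22_1 (flp_h L167390) L159660 L167390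
theorem L167393 : sm gf N14992 = N14177 := ded_40_1 (flp_h L159676) (flp_f L159663) L167390
theorem L167395 : sm gh N14176 = N14993 := rfl
theorem L167397 : sm ga N14993 = N14688 := ded_15_1 (flp_h L164415) (flp_a L159667) L167395
theorem L167399 : sm gb N14993 = N14993 := ded_22_1 (flp_h L167395) L159669 L167395
theorem L167400 : sm ge N14993 = N14774 := ded_37_1 (flp_h L165191) (flp_e L159672) L167395
theorem L167402 : sm gg N14993 = N14582 := ded_42_1 (flp_h L163156) (flp_g L159674) L167395
theorem L167404 : sm gi N14993 = N14177 := ded_44_2 (flp_h L159676) (flp_i L151148) L151137 L159665 L167395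
theorem L167406 : sm gi N14179 = N14994 := rfl
theorem L167408 : sm ga N14994 = N14424 := ded_16_1 L161914 (flp_a L159698) L167406
theorem L167410 : sm gb N14994 = N14994 := ded_23_1 (flp_i L167406) L159700 L167406
theorem L167411 : sm gc N14994 = N14423 := ded_29_1 (flp_i L161894) (flp_c L159701) L167406
theorem L167413 : sm ge N14994 = N14183 := ded_38_1 (flp_i L159753) (flp_e L159703) L167406
theorem L167415 : sm gf N14994 = N14399 := ded_41_1 L161677 (flp_f L159705) L167406
theorem L167417 : sm gg N14994 = N14181 := ded_43_1 (flp_i L159726) L159696 L167406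
theorem L167419 : sm gh N14994 = N14398 := ded_44_1 (flp_i L161656) (flp_h L153268) L153279 L159707 L167406
theorem L167421 : sm gh N14186 = N14995 := rfl
theorem L167423 : sm gb N14995 = N14188 := ded_22_1 (flp_h L159800) (flp_b L159787) L167421
theorem L167425 : sm ge N14995 = N14232 := ded_37_1 (flp_h L160141) (flp_e L159790) L167421
theorem L167427 : sm gf N14995 = N14187 := ded_40_1 (flp_h L159794) (flp_f L159792) L167421
theorem L167429 : sm gd N14187 = N14996 := rfl
theorem L167431 : sm gb N14996 = N14189 := ded_18_1 (flp_d L159810) (flp_b L159796) L167429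
theorem L167433 : sm gh N14996 = N14996 := ded_33_2 (flp_d L167429) (flp_h L159794) L151285 L159794 L167429
theorem L167434 : sm gd N14188 = N14997 := rfl
theorem L167436 : sm ga N14997 = N14190 := ded_11_1 (flp_d L159815) (flp_a L159802) L167434
theorem L167438 : sm gf N14997 = N14189 := ded_31_2 (flp_d L159810) (flp_f L159808) L167434
theorem L167440 : sm gh N14997 = N14997 := ded_33_2 (flp_d L167434) (flp_h L159800) L151300 L159800 L167434
theorem L167441 : sm gh N14191 = N14998 := rfl
theorem L167443 : sm gb N14998 = N14310 := ded_22_1 (flp_h L160803) (flp_b L159822) L167441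
theorem L167445 : sm gf N14998 = N14195 := ded_40_1 (flp_h L159856) (flp_f L159826) L167441
theorem L167447 : sm gi N14998 = N14835 := ded_44_2 (flp_h L165895) (flp_i L157958) (flp_h L151338) L159820 L167441
theorem L167449 : sm gd N14192 = N14999 := rfl
theorem L167451 : sm ga N14999 = N14430 := ded_11_1 (flp_d L166208) L166202 L167449
theorem L167453 : sm gb N14999 = N14502 := ded_18_1 (flp_d L162547) (flp_b L159830) L167449
theorem L167455 : sm gf N14999 = N14863 := ded_31_2 L166208 L161956 L167449
theorem L167457 : sm gg N14999 = N14199 := ded_32_2 (flp_d L159892) (flp_g L159834) L167449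
theorem L167459 : sm gc N14999 = N14403 := ded_24_1 L161717 L153342 (flp_d L151362) (flp_c L159832) L167449
theorem L167461 : sm ge N14999 = N14206 := ded_30_2 (flp_d L159932) (flp_e L151410) (flp_d L151354) L159828 L167449
theorem L167463 : sm gi N14192 = N15000 := rfl
theorem L167465 : sm gb N15000 = N14504 := ded_23_1 (flp_i L162562) (flp_b L159830) L167463
theorem L167467 : sm gc N15000 = N14194 := ded_29_1 (flp_i L159846) (flp_c L159832) L167463
theorem L167469 : sm ge N15000 = N14193 := ded_38_1 (flp_i L159836) L159828 L167463
theorem L167471 : sm gg N15000 = N14201 := ded_43_1 (flp_i L159902) (flp_g L159834) L167463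
theorem L167473 : sm gh N14193 = N15001 := rfl
theorem L167475 : sm gb N15001 = N14505 := ded_22_1 (flp_h L162568) (flp_b L159838) L167473
theorem L167477 : sm gc N15001 = N14195 := ded_28_1 (flp_h L159856) (flp_c L159840) L167473
theorem L167479 : sm gg N15001 = N14202 := ded_42_1 (flp_h L159908) (flp_g L159844) L167473
theorem L167481 : sm gh N14194 = N15002 := rfl
theorem L167483 : sm gb N15002 = N14312 := ded_22_1 (flp_h L160819) (flp_b L159848) L167481
theorem L167485 : sm ge N15002 = N14195 := ded_37_1 (flp_h L159856) (flp_e L159852) L167481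
theorem L167487 : sm gg N15002 = N14205 := ded_42_1 (flp_h L159926) (flp_g L159854) L167481
theorem L167489 : sm ge N14196 = N15003 := rfl
theorem L167491 : sm ga N15003 = N14197 := ded_12_1 (flp_e L159872) L159862 L167489
theorem L167493 : sm gc N15003 = N14313 := ded_25_1 (flp_e L160828) (flp_c L159864) L167489
theorem L167495 : sm gg N15003 = N14447 := ded_36_2 (flp_e L162120) (flp_g L159868) L167489
theorem L167497 : sm gh N15003 = N14863 := ded_37_2 (flp_e L166200) (flp_h L159870) L167489
theorem L167499 : sm gi N14196 = N15004 := rfl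
theorem L167501 : sm ga N15004 = N14198 := ded_16_1 (flp_i L159882) L159862 L167499
theorem L167503 : sm gc N15004 = N14314 := ded_29_1 (flp_i L160838) (flp_c L159864) L167499
theorem L167505 : sm gd N15004 = N14210 := ded_34_1 (flp_i L159972) (flp_d L159866) L167499
theorem L167507 : sm gg N15004 = N14448 := ded_43_1 (flp_i L162128) (flp_g L159868) L167499
theorem L167509 : sm gd N14197 = N15005 := rfl
theorem L167511 : sm gb N15005 = N14199 := ded_18_1 (flp_d L159892) (flp_b L159874) L167509
theorem L167513 : sm gg N15005 = N14502 := ded_32_2 (flp_d L162547) (flp_g L159878) L167509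
theorem L167515 : sm gc N15005 = N15005 := ded_24_1 (flp_d L167509) L159876 L152360 (flp_c L159876) L167509
theorem L167516 : sm ge N15005 = N14211 := ded_30_2 (flp_d L159980) (flp_e L151456) (flp_d L151374) L159872 L167509
theorem L167518 : sm gf N14197 = N15006 := rfl
theorem L167520 : sm gb N15006 = N14200 := ded_20_1 (flp_f L159898) (flp_b L159874) L167518
theorem L167522 : sm gc N15006 = N14315 := ded_26_1 (flp_f L160847) (flp_c L159876) L167518
theorem L167524 : sm gh N15006 = N14430 := ded_40_2 L161956 (flp_h L159880) L167518
theorem L167526 : sm ge N15006 = N14426 := ded_35_1 L164441 (flp_e L164433) L156504 L159872 L167518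
theorem L167528 : sm gi N14197 = N15007 := rfl
theorem L167530 : sm gb N15007 = N14201 := ded_23_1 (flp_i L159902) (flp_b L159874) L167528
theorem L167532 : sm gc N15007 = N14316 := ded_29_1 (flp_i L160856) (flp_c L159876) L167528
theorem L167534 : sm ge N15007 = N14198 := ded_38_1 (flp_i L159882) L159872 L167528
theorem L167536 : sm gg N15007 = N14504 := ded_43_1 (flp_i L162562) (flp_g L159878) L167528
theorem L167538 : sm gh N14198 = N15008 := rfl
theorem L167540 : sm gb N15008 = N14202 := ded_22_1 (flp_h L159908) (flp_b L159884) L167538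
theorem L167542 : sm gc N15008 = N14317 := ded_28_1 (flp_h L160865) (flp_c L159886) L167538
theorem L167544 : sm gg N15008 = N14505 := ded_42_1 (flp_h L162568) (flp_g L159890) L167538
theorem L167546 : sm gi N15008 = N15001 := ded_44_2 (flp_h L167473) (flp_i L159836) (flp_h L151378) L159882 L167538
theorem L167548 : sm gf N14199 = N15009 := rfl
theorem L167550 : sm gc N15009 = N14407 := ded_26_1 (flp_f L161764) (flp_c L159894) L167548
theorem L167552 : sm gd N15009 = N14200 := ded_31_1 (flp_f L159898) L159892 L167548
theorem L167554 : sm gg N15009 = N14871 := ded_39_2 (flp_f L166273) (flp_g L166206) (flp_f L167455) L167457 L167548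
theorem L167556 : sm gh N14199 = N15010 := rfl
theorem L167558 : sm gc N15010 = N14408 := ded_28_1 (flp_h L161773) (flp_c L159894) L167556
theorem L167560 : sm ge N15010 = N14216 := ded_37_1 (flp_h L160021) (flp_e L159896) L167556
theorem L167562 : sm gi N14199 = N15011 := rfl
theorem L167564 : sm gc N15011 = N14409 := ded_29_1 (flp_i L161779) (flp_c L159894) L167562
theorem L167566 : sm gd N15011 = N14201 := ded_34_1 (flp_i L159902) L159892 L167562
theorem L167568 : sm ge N15011 = N14217 := ded_38_1 (flp_i L160027) (flp_e L159896) L167562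
theorem L167570 : sm gg N14200 = N15012 := rfl
theorem L167572 : sm ga N15012 = N15009 := ded_14_1 L167554 L166275 L167570
theorem L167574 : sm gc N15012 = N14203 := ded_27_1 (flp_g L159912) (flp_c L159900) L167570
theorem L167576 : sm gd N15012 = N14871 := ded_32_1 (flp_g L167554) L167552 L167570
theorem L167578 : sm gf N15012 = N14870 := ded_39_1 L166267 L161956 L159834 L159898 L167570
theorem L167580 : sm gi N14200 = N15013 := rfl
theorem L167582 : sm gc N15013 = N14204 := ded_29_1 (flp_i L159918) (flp_c L159900) L167580
theorem L167584 : sm gf N15013 = N14201 := ded_41_1 (flp_i L159902) L159898 L167580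
theorem L167586 : sm gh N14201 = N15014 := rfl
theorem L167588 : sm gc N15014 = N14205 := ded_28_1 (flp_h L159926) (flp_c L159904) L167586
theorem L167590 : sm ge N15014 = N14202 := ded_37_1 (flp_h L159908) (flp_e L159906) L167586
theorem L167592 : sm gd N14202 = N15015 := rfl
theorem L167594 : sm gh N15015 = N14221 := ded_33_2 (flp_d L160053) (flp_h L151490) (flp_d L151390) L159908 L167592
theorem L167596 : sm gi N14203 = N15016 := rfl
theorem L167598 : sm gb N15016 = N14321 := ded_23_1 (flp_i L160906) (flp_b L159914) L167596
theorem L167600 : sm gd N15016 = N14412 := ded_34_1 (flp_i L161806) (flp_d L159916) L167596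
theorem L167602 : sm gg N15016 = N14204 := ded_43_1 (flp_i L159918) L159912 L167596
theorem L167604 : sm gh N14204 = N15017 := rfl
theorem L167606 : sm gb N15017 = N14322 := ded_22_1 (flp_h L160913) (flp_b L159920) L167604
theorem L167608 : sm gf N15017 = N14205 := ded_40_1 (flp_h L159926) (flp_f L159924) L167604
theorem L167610 : sm gd N14205 = N15018 := rfl
theorem L167612 : sm gb N15018 = N14323 := ded_18_1 (flp_d L160918) (flp_b L159928) L167610
theorem L167614 : sm gh N15018 = N14414 := ded_33_2 (flp_d L161827) (flp_h L153536) (flp_d L151402) L159926 L167610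
theorem L167616 : sm gf N14206 = N15019 := rfl
theorem L167618 : sm ga N15019 = N14428 := ded_13_1 L161938 (flp_a L159934) L167616
theorem L167620 : sm gb N15019 = N14509 := ded_20_1 (flp_f L162600) (flp_b L159936) L167616
theorem L167622 : sm gc N15019 = N14402 := ded_26_1 L161706 (flp_c L159940) L167616
theorem L167624 : sm gd N15019 = N14207 := ded_31_1 (flp_f L159942) L159932 L167616
theorem L167626 : sm ge N15019 = N14860 := ded_35_1 L166176 L166200 (flp_f L167455) L167461 L167616
theorem L167628 : sm gh N14206 = N15020 := rfl
theorem L167630 : sm ga N15020 = N14426 := ded_15_1 L161924 (flp_a L159934) L167628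
theorem L167632 : sm gb N15020 = N14510 := ded_22_1 (flp_h L162605) (flp_b L159936) L167628
theorem L167634 : sm gc N15020 = N14400 := ded_28_1 L161686 (flp_c L159940) L167628
theorem L167636 : sm gg N15020 = N14216 := ded_42_1 (flp_h L160021) (flp_g L159938) L167628
theorem L167638 : sm gd N15020 = N14225 := ded_33_1 (flp_h L160081) (flp_d L151520) (flp_h L151420) L159932 L167628
theorem L167640 : sm gd N14208 = N15021 := rfl
theorem L167642 : sm gb N15021 = N14514 := ded_18_1 (flp_d L162629) (flp_b L159954) L167640
theorem L167644 : sm gg N15021 = N14221 := ded_32_2 (flp_d L160053) (flp_g L159958) L167640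
theorem L167646 : sm gi N15021 = N14230 := ded_34_2 (flp_d L160125) (flp_i L159960) L167640
theorem L167648 : sm gd N14209 = N15022 := rfl
theorem L167650 : sm ga N15022 = N14211 := ded_11_1 (flp_d L159980) (flp_a L159964) L167648
theorem L167652 : sm gg N15022 = N14453 := ded_32_2 (flp_d L162167) (flp_g L159968) L167648
theorem L167654 : sm gc N15022 = N15022 := ded_24_1 (flp_d L167648) L159966 L151963 (flp_c L159966) L167648
theorem L167655 : sm gi N14209 = N15023 := rfl
theorem L167657 : sm ga N15023 = N14213 := ded_16_1 (flp_i L159995) (flp_a L159964) L167655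
theorem L167659 : sm gc N15023 = N14283 := ded_29_1 (flp_i L160567) (flp_c L159966) L167655
theorem L167661 : sm ge N15023 = N14210 := ded_38_1 (flp_i L159972) L159962 L167655
theorem L167663 : sm gg N15023 = N14454 := ded_43_1 (flp_i L162172) (flp_g L159968) L167655
theorem L167665 : sm gh N14210 = N15024 := rfl
theorem L167667 : sm ga N15024 = N14214 := ded_15_1 (flp_h L160005) (flp_a L159974) L167665
theorem L167669 : sm gc N15024 = N14284 := ded_28_1 (flp_h L160578) (flp_c L159976) L167665
theorem L167671 : sm gg N15024 = N14455 := ded_42_1 (flp_h L162180) (flp_g L159978) L167665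
theorem L167673 : sm gi N15024 = N14236 := ded_44_2 (flp_h L160173) (flp_i L151584) (flp_h L151454) L159972 L167665
theorem L167675 : sm gf N14211 = N15025 := rfl
theorem L167677 : sm gb N15025 = N14215 := ded_20_1 (flp_f L160015) (flp_b L159982) L167675
theorem L167679 : sm gc N15025 = N15025 := ded_26_1 (flp_f L167675) L159986 L167675
theorem L167680 : sm gd N15025 = N14212 := ded_31_1 (flp_f L159987) L159980 L167675
theorem L167682 : sm gh N14211 = N15026 := rfl
theorem L167684 : sm gb N15026 = N14216 := ded_22_1 (flp_h L160021) (flp_b L159982) L167682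
theorem L167686 : sm gc N15026 = N15026 := ded_28_1 (flp_h L167682) L159986 L167682
theorem L167687 : sm gg N15026 = N14510 := ded_42_1 (flp_h L162605) (flp_g L159984) L167682
theorem L167689 : sm gd N15026 = N14238 := ded_33_1 (flp_h L160189) (flp_d L151594) (flp_h L151464) L159980 L167682
theorem L167691 : sm gi N14211 = N15027 := rfl
theorem L167693 : sm gb N15027 = N14217 := ded_23_1 (flp_i L160027) (flp_b L159982) L167691
theorem L167695 : sm gc N15027 = N15027 := ded_29_1 (flp_i L167691) L159986 L167691
theorem L167696 : sm gd N15027 = N14213 := ded_34_1 (flp_i L159995) L159980 L167691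
theorem L167698 : sm gg N15027 = N14511 := ded_43_1 (flp_i L162610) (flp_g L159984) L167691
theorem L167700 : sm gi N14212 = N15028 := rfl
theorem L167702 : sm gb N15028 = N14219 := ded_23_1 (flp_i L160039) (flp_b L159989) L167700
theorem L167704 : sm gc N15028 = N14285 := ded_29_1 (flp_i L160588) (flp_c L159991) L167700
theorem L167706 : sm gf N15028 = N14213 := ded_41_1 (flp_i L159995) L159987 L167700
theorem L167708 : sm gh N14213 = N15029 := rfl
theorem L167710 : sm gb N15029 = N14220 := ded_22_1 (flp_h L160045) (flp_b L159997) L167708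
theorem L167712 : sm gc N15029 = N14286 := ded_28_1 (flp_h L160595) (flp_c L159999) L167708
theorem L167714 : sm ge N15029 = N14214 := ded_37_1 (flp_h L160005) (flp_e L160001) L167708
theorem L167716 : sm gg N15029 = N14513 := ded_42_1 (flp_h L162621) (flp_g L160003) L167708
theorem L167718 : sm gi N15029 = N14242 := ded_44_2 (flp_h L160227) (flp_i L151610) (flp_h L151464) L159995 L167708
theorem L167720 : sm gd N14214 = N15030 := rfl
theorem L167722 : sm gb N15030 = N14221 := ded_18_1 (flp_d L160053) (flp_b L160007) L167720
theorem L167724 : sm gg N15030 = N14514 := ded_32_2 (flp_d L162629) (flp_g L160011) L167720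
theorem L167726 : sm gi N15030 = N14243 := ded_34_2 (flp_d L160237) (flp_i L160013) L167720
theorem L167728 : sm ge N14215 = N15031 := rfl
theorem L167730 : sm gc N15031 = N14415 := ded_25_1 (flp_e L161832) (flp_c L160017) L167728
theorem L167732 : sm gg N14751 = N15031 := ded_27_0 L167730 L161845 (flp_c L165028)
theorem L167734 : sm gh N14750 = N15031 := ded_28_0 L167730 (flp_h L161847) (flp_c L165022)
theorem L167736 : sm gg N14215 = N15032 := rfl
theorem L167738 : sm gc N15032 = N14416 := ded_27_1 (flp_g L161836) (flp_c L160017) L167736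
theorem L167740 : sm gd N15032 = N14218 := ded_32_1 (flp_g L160033) (flp_d L160019) L167736
theorem L167742 : sm ge N15032 = N14751 := ded_36_1 L167732 (flp_e L167728) L167736
theorem L167744 : sm gh N14749 = N15032 := ded_28_0 L167738 (flp_h L161841) (flp_c L165016)
theorem L167746 : sm gh N14215 = N15033 := rfl
theorem L167748 : sm gc N15033 = N14417 := ded_28_1 (flp_h L161849) (flp_c L160017) L167746
theorem L167750 : sm ge N15033 = N14750 := ded_37_1 L167734 (flp_e L167728) L167746
theorem L167752 : sm gf N15033 = N14216 := ded_40_1 (flp_h L160021) L160015 L167746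
theorem L167754 : sm gg N15033 = N14749 := ded_42_1 L167744 (flp_g L167736) L167746
theorem L167756 : sm gd N15033 = N14246 := ded_33_1 (flp_h L160257) L151632 (flp_h L151482) (flp_d L160019) L167746
theorem L167758 : sm gi N14215 = N15034 := rfl
theorem L167760 : sm gc N15034 = N14418 := ded_29_1 (flp_i L161860) (flp_c L160017) L167758
theorem L167762 : sm gd N15034 = N14219 := ded_34_1 (flp_i L160039) (flp_d L160019) L167758
theorem L167764 : sm gf N15034 = N14217 := ded_41_1 (flp_i L160027) L160015 L167758
theorem L167766 : sm gi N14216 = N15035 := rfl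
theorem L167768 : sm gc N15035 = N14419 := ded_29_1 (flp_i L161867) (flp_c L160023) L167766
theorem L167770 : sm gd N15035 = N14248 := ded_34_1 (flp_i L160275) (flp_d L160025) L167766
theorem L167772 : sm gh N14217 = N15036 := rfl
theorem L167774 : sm gc N15036 = N14420 := ded_28_1 (flp_h L161872) (flp_c L160029) L167772
theorem L167776 : sm gi N14218 = N15037 := rfl
theorem L167778 : sm gc N15037 = N14222 := ded_29_1 (flp_i L160057) (flp_c L160035) L167776
theorem L167780 : sm gg N15037 = N14219 := ded_43_1 (flp_i L160039) L160033 L167776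
theorem L167782 : sm gh N14219 = N15038 := rfl
theorem L167784 : sm gc N15038 = N14223 := ded_28_1 (flp_h L160065) (flp_c L160041) L167782
theorem L167786 : sm gf N15038 = N14220 := ded_40_1 (flp_h L160045) (flp_f L160043) L167782
theorem L167788 : sm gi N15038 = N14251 := ded_44_2 (flp_h L160289) (flp_i L151648) (flp_h L151482) L160039 L167782
theorem L167790 : sm gd N14220 = N15039 := rfl
theorem L167792 : sm gi N15039 = N14252 := ded_34_2 (flp_d L160295) (flp_i L160051) L167790
theorem L167794 : sm ge N14221 = N15040 := rfl
theorem L167796 : sm gi N15040 = N14253 := ded_38_2 (flp_e L160297) (flp_i L160055) L167794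
theorem L167798 : sm gh N14222 = N15041 := rfl
theorem L167800 : sm gb N15041 = N14289 := ded_22_1 (flp_h L160624) (flp_b L160059) L167798
theorem L167802 : sm gg N15041 = N14223 := ded_42_1 (flp_h L160065) (flp_g L160063) L167798
theorem L167804 : sm gi N15041 = N14254 := ded_44_2 (flp_h L160299) (flp_i L151662) (flp_h L151502) L160057 L167798
theorem L167806 : sm ge N14224 = N15042 := rfl
theorem L167808 : sm gb N15042 = N14517 := ded_19_1 (flp_e L162648) (flp_b L160075) L167806
theorem L167810 : sm gc N15042 = N14257 := ded_25_1 (flp_e L160317) (flp_c L160077) L167806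
theorem L167812 : sm gh N15042 = N14518 := ded_47_7 (flp_g L162654) (flp_f L154499) L145642 (flp_d L142491) L133337 L125268 (flp_h L125448) (flp_g L133565) L142801 (flp_e L147602) L147600 L138621 L129990 L129603 L129601 L124204 L66991 (flp_d L66985) (flp_c L66902) (flp_b L124266) (flp_h L124262) (flp_g L66806) (flp_f L64652) (flp_e L64644) L47344 (flp_c L48579) L48577 L48617 (flp_g L66485) L66484 (flp_e L123927) L131721 L140632 L149744 L149752 (flp_g L148046) (flp_f L148051) (flp_e L148095) L148091 (flp_c L148191) L148190 L148193 L157001 L157010 L148260 (flp_d L148322) L148320 L142681 L136005 (flp_g L136003) L134483 (flp_e L128730) L128733 L128729 (flp_b L136705) (flp_h L136703) L128459 L136697 L145758 (flp_d L154563) (flp_c L162650) (flp_b L167808)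
theorem L167814 : sm gg N14519 = N15042 := ded_27_0 L167810 (flp_g L160322) (flp_c L162662)
theorem L167816 : sm gg N14224 = N15043 := rfl
theorem L167818 : sm gb N15043 = N14518 := ded_21_1 (flp_g L162654) (flp_b L160075) L167816
theorem L167820 : sm gc N15043 = N14258 := ded_27_1 (flp_g L160326) (flp_c L160077) L167816
theorem L167822 : sm gd N15043 = N14227 := ded_32_1 (flp_g L160099) (flp_d L160079) L167816
theorem L167824 : sm ge N15043 = N14519 := ded_36_1 L167814 (flp_e L167806) L167816
theorem L167826 : sm gf N15043 = N14245 := ded_39_1 (flp_g L160249) (flp_f L151628) (flp_g L151524) L160073 L167816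
theorem L167828 : sm gh N14517 = N15043 := ded_47_0 (flp_g L167816) (flp_f L160073) (flp_e L151602) (flp_d L151594) L142477 L133670 (flp_h L133597) L133595 L136774 (flp_e L139640) L139638 L130847 L123146 (flp_h L122234) L64770 (flp_f L48952) L35887 L26299 L19344 L15246 L15248 (flp_g L15242) (flp_f L11208) (flp_e L8258) L6109 (flp_c L7718) (flp_b L9715) L9714 L9713 L9712 L13131 L17790 L24129 L32786 L44638 L44646 (flp_f L60869) (flp_e L121118) L128101 L136247 L145185 (flp_h L154021) (flp_g L158578) (flp_f L163258) (flp_e L163266) (flp_d L167822) L167820 L160328 (flp_h L152668) (flp_g L152679) L152677 L143563 L143474 L143470 (flp_b L142603) (flp_h L142601) (flp_g L142533) L151682 L160317 L160321 (flp_c L167810) L167808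
theorem L167830 : sm gh N14224 = N15044 := rfl
theorem L167832 : sm gb N15044 = N14519 := ded_22_1 (flp_h L162660) (flp_b L160075) L167830
theorem L167834 : sm gc N15044 = N14259 := ded_28_1 (flp_h L160338) (flp_c L160077) L167830
theorem L167836 : sm ge N15044 = N14518 := ded_37_1 (flp_h L167812) (flp_e L167806) L167830
theorem L167838 : sm gf N15044 = N14225 := ded_40_1 (flp_h L160081) L160073 L167830
theorem L167840 : sm gg N15044 = N14517 := ded_42_1 L167828 (flp_g L167816) L167830
theorem L167842 : sm gi N14224 = N15045 := rfl
theorem L167844 : sm gb N15045 = N14520 := ded_23_1 (flp_i L162666) (flp_b L160075) L167842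
theorem L167846 : sm gc N15045 = N14260 := ded_29_1 (flp_i L160350) (flp_c L160077) L167842
theorem L167848 : sm gd N15045 = N14228 := ded_34_1 (flp_i L160107) (flp_d L160079) L167842
theorem L167850 : sm gf N15045 = N14226 := ded_41_1 (flp_i L160089) L160073 L167842
theorem L167852 : sm gi N14225 = N15046 := rfl
theorem L167854 : sm gb N15046 = N14521 := ded_23_1 (flp_i L162674) (flp_b L160083) L167852
theorem L167856 : sm gc N15046 = N14261 := ded_29_1 (flp_i L160358) (flp_c L160085) L167852
theorem L167858 : sm gg N15046 = N14248 := ded_43_1 (flp_i L160275) (flp_g L160087) L167852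
theorem L167860 : sm gh N14226 = N15047 := rfl
theorem L167862 : sm gb N15047 = N14522 := ded_22_1 (flp_h L162680) (flp_b L160091) L167860
theorem L167864 : sm gc N15047 = N14262 := ded_28_1 (flp_h L160366) (flp_c L160093) L167860
theorem L167866 : sm gg N15047 = N14249 := ded_42_1 (flp_h L160279) (flp_g L160097) L167860
theorem L167868 : sm gi N14227 = N15048 := rfl
theorem L167870 : sm gb N15048 = N14523 := ded_23_1 (flp_i L162686) (flp_b L160101) L167868
theorem L167872 : sm gc N15048 = N14231 := ded_29_1 (flp_i L160131) (flp_c L160103) L167868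
theorem L167874 : sm gf N15048 = N14250 := ded_41_1 (flp_i L160283) (flp_f L160105) L167868
theorem L167876 : sm gg N15048 = N14228 := ded_43_1 (flp_i L160107) L160099 L167868
theorem L167878 : sm gh N14228 = N15049 := rfl
theorem L167880 : sm gb N15049 = N14524 := ded_22_1 (flp_h L162692) (flp_b L160109) L167878
theorem L167882 : sm gc N15049 = N14232 := ded_28_1 (flp_h L160141) (flp_c L160111) L167878
theorem L167884 : sm gf N15049 = N14229 := ded_40_1 (flp_h L160115) (flp_f L160113) L167878
theorem L167886 : sm gd N14229 = N15050 := rfl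
theorem L167888 : sm gb N15050 = N14525 := ded_18_1 (flp_d L162698) (flp_b L160117) L167886
theorem L167890 : sm gg N15050 = N14252 := ded_32_2 (flp_d L160295) (flp_g L160123) L167886
theorem L167892 : sm ge N14230 = N15051 := rfl
theorem L167894 : sm gb N15051 = N14526 := ded_19_1 (flp_e L162700) (flp_b L160127) L167892
theorem L167896 : sm gg N15051 = N14253 := ded_36_2 (flp_e L160297) (flp_g L160129) L167892
theorem L167898 : sm gh N14231 = N15052 := rfl
theorem L167900 : sm gb N15052 = N14290 := ded_22_1 (flp_h L160632) (flp_b L160133) L167898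
theorem L167902 : sm gf N15052 = N14254 := ded_40_1 (flp_h L160299) (flp_f L160137) L167898
theorem L167904 : sm gg N15052 = N14232 := ded_42_1 (flp_h L160141) (flp_g L160139) L167898
theorem L167906 : sm gf N14233 = N15053 := rfl
theorem L167908 : sm ga N15053 = N14237 := ded_13_1 (flp_f L160181) (flp_a L160149) L167906
theorem L167910 : sm gc N15053 = N14324 := ded_26_1 (flp_f L160923) (flp_c L160153) L167906
theorem L167912 : sm gd N15053 = N14234 := ded_31_1 (flp_f L160157) L160147 L167906
theorem L167914 : sm gh N14233 = N15054 := rfl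
theorem L167916 : sm ga N15054 = N14238 := ded_15_1 (flp_h L160189) (flp_a L160149) L167914
theorem L167918 : sm gc N15054 = N14325 := ded_28_1 (flp_h L160930) (flp_c L160153) L167914
theorem L167920 : sm ge N15054 = N14899 := ded_37_1 (flp_h L166525) (flp_e L160155) L167914
theorem L167922 : sm gg N15054 = N14461 := ded_42_1 (flp_h L162227) (flp_g L160151) L167914
theorem L167924 : sm gi N14233 = N15055 := rfl
theorem L167926 : sm ga N15055 = N14239 := ded_16_1 (flp_i L160199) (flp_a L160149) L167924
theorem L167928 : sm gc N15055 = N14326 := ded_29_1 (flp_i L160940) (flp_c L160153) L167924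
theorem L167930 : sm gd N15055 = N14235 := ded_34_1 (flp_i L160163) L160147 L167924
theorem L167932 : sm ge N15055 = N14900 := ded_38_1 (flp_i L166535) (flp_e L160155) L167924
theorem L167934 : sm gg N15055 = N14462 := ded_43_1 (flp_i L162235) (flp_g L160151) L167924
theorem L167936 : sm gi N14234 = N15056 := rfl
theorem L167938 : sm ga N15056 = N14241 := ded_16_1 (flp_i L160219) (flp_a L160159) L167936
theorem L167940 : sm gc N15056 = N14291 := ded_29_1 (flp_i L160642) (flp_c L160161) L167936
theorem L167942 : sm gf N15056 = N14235 := ded_41_1 (flp_i L160163) L160157 L167936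
theorem L167944 : sm gh N14235 = N15057 := rfl
theorem L167946 : sm ga N15057 = N14242 := ded_15_1 (flp_h L160227) (flp_a L160165) L167944
theorem L167948 : sm gc N15057 = N14292 := ded_28_1 (flp_h L160652) (flp_c L160167) L167944
theorem L167950 : sm ge N15057 = N14236 := ded_37_1 (flp_h L160173) (flp_e L160169) L167944
theorem L167952 : sm gg N15057 = N14464 := ded_42_1 (flp_h L162253) (flp_g L160171) L167944
theorem L167954 : sm gd N14236 = N15058 := rfl
theorem L167956 : sm ga N15058 = N14243 := ded_11_1 (flp_d L160237) (flp_a L160175) L167954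
theorem L167958 : sm gg N15058 = N14465 := ded_32_2 (flp_d L162261) (flp_g L160179) L167954
theorem L167960 : sm gh N15058 = N14903 := ded_33_2 (flp_d L166565) (flp_h L158739) (flp_d L151590) L160173 L167954
theorem L167962 : sm ge N14237 = N15059 := rfl
theorem L167964 : sm gb N15059 = N14244 := ded_19_1 (flp_e L160245) (flp_b L160183) L167962
theorem L167966 : sm gc N15059 = N14330 := ded_25_1 (flp_e L160984) (flp_c L160185) L167962
theorem L167968 : sm gf N15059 = N15042 := ded_35_2 (flp_e L167806) (flp_f L160073) (flp_e L151602) L160181 L167962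
theorem L167970 : sm gg N14237 = N15060 := rfl
theorem L167972 : sm gb N15060 = N14245 := ded_21_1 (flp_g L160249) (flp_b L160183) L167970
theorem L167974 : sm gc N15060 = N14331 := ded_27_1 (flp_g L160991) (flp_c L160185) L167970
theorem L167976 : sm gd N15060 = N14240 := ded_32_1 (flp_g L160211) (flp_d L160187) L167970
theorem L167978 : sm gf N15060 = N14518 := ded_39_1 (flp_g L162654) (flp_f L154499) (flp_g L151598) L160181 L167970
theorem L167980 : sm gh N15059 = N15060 := ded_47_0 (flp_g L167970) (flp_f L160181) L151602 (flp_d L151520) L142431 L133313 (flp_h L133567) L133565 L133610 (flp_e L139176) L139173 (flp_c L148493) (flp_b L157254) L157258 L157475 L157486 (flp_e L151953) L142823 (flp_c L143376) L143383 L143381 L134200 (flp_f L131536) L131534 L126671 (flp_c L126661) L71502 (flp_h L119620) L67406 L49259 L49274 L49282 L44945 (flp_b L45716) L45719 L45718 L62404 (flp_e L121571) (flp_d L126161) (flp_c L134333) (flp_b L142537) L142541 L144607 L144614 L135537 (flp_d L135595) L135594 L135592 L127839 L127837 L127831 L74377 (flp_d L126254) L126252 (flp_b L133472) (flp_h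 L133470) L125346 L133464 L142675 (flp_d L151775) (flp_c L160247) (flp_b L167964)
theorem L167982 : sm gh N14237 = N15061 := rfl
theorem L167984 : sm gb N15061 = N14246 := ded_22_1 (flp_h L160257) (flp_b L160183) L167982
theorem L167986 : sm gc N15061 = N14332 := ded_28_1 (flp_h L161001) (flp_c L160185) L167982
theorem L167988 : sm ge N15061 = N15060 := ded_37_1 (flp_h L167980) (flp_e L167962) L167982
theorem L167990 : sm gf N15061 = N14238 := ded_40_1 (flp_h L160189) L160181 L167982
theorem L167992 : sm gg N15061 = N15059 := ded_42_1 L167980 (flp_g L167970) L167982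
theorem L167994 : sm gi N14237 = N15062 := rfl
theorem L167996 : sm gb N15062 = N14247 := ded_23_1 (flp_i L160267) (flp_b L160183) L167994
theorem L167998 : sm gc N15062 = N14333 := ded_29_1 (flp_i L161012) (flp_c L160185) L167994
theorem L168000 : sm gd N15062 = N14241 := ded_34_1 (flp_i L160219) (flp_d L160187) L167994
theorem L168002 : sm gf N15062 = N14239 := ded_41_1 (flp_i L160199) L160181 L167994
theorem L168004 : sm gi N14238 = N15063 := rfl
theorem L168006 : sm gb N15063 = N14248 := ded_23_1 (flp_i L160275) (flp_b L160191) L168004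
theorem L168008 : sm gc N15063 = N14334 := ded_29_1 (flp_i L161020) (flp_c L160193) L168004
theorem L168010 : sm ge N15063 = N15046 := ded_38_1 (flp_i L167852) (flp_e L160195) L168004
theorem L168012 : sm gg N15063 = N14521 := ded_43_1 (flp_i L162674) (flp_g L160197) L168004
theorem L168014 : sm gh N14239 = N15064 := rfl
theorem L168016 : sm gb N15064 = N14249 := ded_22_1 (flp_h L160279) (flp_b L160201) L168014
theorem L168018 : sm gc N15064 = N14335 := ded_28_1 (flp_h L161029) (flp_c L160203) L168014
theorem L168020 : sm ge N15064 = N15047 := ded_37_1 (flp_h L167860) (flp_e L160207) L168014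
theorem L168022 : sm gg N15064 = N14522 := ded_42_1 (flp_h L162680) (flp_g L160209) L168014
theorem L168024 : sm gi N14240 = N15065 := rfl
theorem L168026 : sm gb N15065 = N14250 := ded_23_1 (flp_i L160283) (flp_b L160213) L168024
theorem L168028 : sm gc N15065 = N14293 := ded_29_1 (flp_i L160662) (flp_c L160215) L168024
theorem L168030 : sm gf N15065 = N14523 := ded_41_1 (flp_i L162686) (flp_f L160217) L168024
theorem L168032 : sm gg N15065 = N14241 := ded_43_1 (flp_i L160219) L160211 L168024
theorem L168034 : sm gh N14241 = N15066 := rfl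
theorem L168036 : sm gb N15066 = N14251 := ded_22_1 (flp_h L160289) (flp_b L160221) L168034
theorem L168038 : sm gc N15066 = N14294 := ded_28_1 (flp_h L160672) (flp_c L160223) L168034
theorem L168040 : sm gf N15066 = N14242 := ded_40_1 (flp_h L160227) (flp_f L160225) L168034
theorem L168042 : sm gd N14242 = N15067 := rfl
theorem L168044 : sm gb N15067 = N14252 := ded_18_1 (flp_d L160295) (flp_b L160229) L168042
theorem L168046 : sm gg N15067 = N14525 := ded_32_2 (flp_d L162698) (flp_g L160235) L168042
theorem L168048 : sm ge N14243 = N15068 := rfl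
theorem L168050 : sm gb N15068 = N14253 := ded_19_1 (flp_e L160297) (flp_b L160239) L168048
theorem L168052 : sm gg N15068 = N14526 := ded_36_2 (flp_e L162700) (flp_g L160241) L168048
theorem L168054 : sm gh N15068 = N15051 := ded_37_2 (flp_e L167892) (flp_h L160243) L168048
theorem L168056 : sm gi N14244 = N15069 := rfl
theorem L168058 : sm gc N15069 = N14268 := ded_29_1 (flp_i L160431) (flp_c L160247) L168056
theorem L168060 : sm ge N15069 = N14247 := ded_38_1 (flp_i L160267) L160245 L168056
theorem L168062 : sm gi N14245 = N15070 := rfl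
theorem L168064 : sm gc N15070 = N14269 := ded_29_1 (flp_i L160439) (flp_c L160251) L168062
theorem L168066 : sm gd N15070 = N14250 := ded_34_1 (flp_i L160283) (flp_d L160253) L168062
theorem L168068 : sm gg N15070 = N14247 := ded_43_1 (flp_i L160267) L160249 L168062
theorem L168070 : sm gi N14246 = N15071 := rfl
theorem L168072 : sm gc N15071 = N14270 := ded_29_1 (flp_i L160447) (flp_c L160259) L168070
theorem L168074 : sm ge N15071 = N15070 := ded_38_1 (flp_i L168062) (flp_e L160261) L168070
theorem L168076 : sm gf N15071 = N14248 := ded_41_1 (flp_i L160275) (flp_f L160263) L168070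
theorem L168078 : sm gg N15071 = N15069 := ded_43_1 (flp_i L168056) (flp_g L160265) L168070
theorem L168080 : sm gh N14247 = N15072 := rfl
theorem L168082 : sm gc N15072 = N14271 := ded_28_1 (flp_h L160459) (flp_c L160269) L168080
theorem L168084 : sm gf N15072 = N14249 := ded_40_1 (flp_h L160279) (flp_f L160273) L168080
theorem L168086 : sm gh N14248 = N15073 := rfl
theorem L168088 : sm gc N15073 = N14272 := ded_28_1 (flp_h L160465) (flp_c L160277) L168086
theorem L168090 : sm gi N15073 = N14249 := ded_44_2 (flp_h L160279) (flp_i L151638) L151634 L160275 L168086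
theorem L168092 : sm gd N14249 = N15074 := rfl
theorem L168094 : sm gh N15074 = N14252 := ded_33_2 (flp_d L160295) (flp_h L151654) (flp_d L151642) L160279 L168092
theorem L168096 : sm gh N14250 = N15075 := rfl
theorem L168098 : sm gc N15075 = N14254 := ded_28_1 (flp_h L160299) (flp_c L160285) L168096
theorem L168100 : sm gg N15075 = N14251 := ded_42_1 (flp_h L160289) (flp_g L160287) L168096
theorem L168102 : sm gd N14251 = N15076 := rfl
theorem L168104 : sm gf N15076 = N14252 := ded_31_2 (flp_d L160295) (flp_f L160293) L168102
theorem L168106 : sm gc N14252 = N15077 := rfl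
theorem L168108 : sm gd N15077 = N14256 := ded_24_2 (flp_c L160313) (flp_d L151676) (flp_c L151656) L160295 L168106
theorem L168110 : sm ge N14252 = N15078 := rfl
theorem L168112 : sm gd N15078 = N14253 := ded_30_1 (flp_e L160297) (flp_d L151660) (flp_e L151658) L160295 L168110
theorem L168114 : sm gf N14253 = N15079 := rfl
theorem L168116 : sm gc N14255 = N15080 := rfl
theorem L168118 : sm gf N15080 = N14256 := ded_26_2 (flp_c L160313) (flp_f L160309) L168116
theorem L168120 : sm gh N15080 = N14278 := ded_28_2 (flp_c L160515) (flp_h L160311) L168116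
theorem L168122 : sm gb N14256 = N15081 := rfl
theorem L168124 : sm gh N15081 = N14279 := ded_22_2 (flp_b L160521) (flp_h L160315) L168122
theorem L168126 : sm gc N15081 = N14299 := ded_17_2 (flp_b L160714) (flp_c L152149) (flp_b L151678) L160313 L168122
theorem L168128 : sm gi N14257 = N15082 := rfl
theorem L168130 : sm gb N15082 = N14352 := ded_23_1 (flp_i L161181) (flp_b L160319) L168128
theorem L168132 : sm gd N15082 = N15082 := ded_34_1 (flp_i L168128) L160321 L168128
theorem L168133 : sm ge N15082 = N14260 := ded_38_1 (flp_i L160350) L160317 L168128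
theorem L168135 : sm gg N15082 = N14532 := ded_43_1 (flp_i L162740) L160322 L168128
theorem L168137 : sm gi N14258 = N15083 := rfl
theorem L168139 : sm gb N15083 = N14353 := ded_23_1 (flp_i L161193) (flp_b L160328) L168137
theorem L168141 : sm gd N15083 = N14263 := ded_34_1 (flp_i L160372) (flp_d L160330) L168137
theorem L168143 : sm ge N15083 = N14532 := ded_38_1 (flp_i L162740) (flp_e L160332) L168137
theorem L168145 : sm gf N15083 = N14269 := ded_41_1 (flp_i L160439) (flp_f L160334) L168137
theorem L168147 : sm gg N15083 = N14260 := ded_43_1 (flp_i L160350) L160326 L168137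
theorem L168149 : sm gi N14259 = N15084 := rfl
theorem L168151 : sm gb N15084 = N14354 := ded_23_1 (flp_i L161206) (flp_b L160340) L168149
theorem L168153 : sm gd N15084 = N14423 := ded_34_1 (flp_i L161894) (flp_d L160348) L168149
theorem L168155 : sm ge N15084 = N14531 := ded_38_1 (flp_i L162732) (flp_e L160342) L168149
theorem L168157 : sm gf N15084 = N14261 := ded_41_1 (flp_i L160358) (flp_f L160344) L168149
theorem L168159 : sm gg N15084 = N14530 := ded_43_1 (flp_i L162722) (flp_g L160346) L168149
theorem L168161 : sm gh N14260 = N15085 := rfl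
theorem L168163 : sm gb N15085 = N14355 := ded_22_1 (flp_h L161219) (flp_b L160352) L168161
theorem L168165 : sm gf N15085 = N14262 := ded_40_1 (flp_h L160366) (flp_f L160356) L168161
theorem L168167 : sm gh N14261 = N15086 := rfl
theorem L168169 : sm gb N15086 = N14356 := ded_22_1 (flp_h L161226) (flp_b L160360) L168167
theorem L168171 : sm gg N15086 = N14272 := ded_42_1 (flp_h L160465) (flp_g L160364) L168167
theorem L168173 : sm gi N15086 = N14262 := ded_44_2 (flp_h L160366) (flp_i L151696) L151688 L160358 L168167
theorem L168175 : sm gd N14262 = N15087 := rfl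
theorem L168177 : sm ga N15087 = N14420 := ded_11_1 (flp_d L166824) L166819 L168175
theorem L168179 : sm gb N15087 = N14357 := ded_18_1 (flp_d L161237) (flp_b L160368) L168175
theorem L168181 : sm gg N15087 = N14273 := ded_32_2 (flp_d L160471) (flp_g L160370) L168175
theorem L168183 : sm gh N15087 = N14265 := ded_33_2 (flp_d L160396) (flp_h L151724) (flp_d L151700) L160366 L168175
theorem L168185 : sm gh N14263 = N15088 := rfl
theorem L168187 : sm ga N15088 = N14421 := ded_15_1 (flp_h L166838) L166828 L168185
theorem L168189 : sm gb N15088 = N14358 := ded_22_1 (flp_h L161244) (flp_b L160374) L168185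
theorem L168191 : sm gc N15088 = N14267 := ded_28_1 (flp_h L160418) (flp_c L160376) L168185
theorem L168193 : sm ge N15088 = N15088 := ded_37_1 (flp_h L168185) L160378 L168185
theorem L168194 : sm gf N15088 = N14274 := ded_40_1 (flp_h L160477) (flp_f L160379) L168185
theorem L168196 : sm gg N15088 = N14264 := ded_42_1 (flp_h L160383) (flp_g L160381) L168185
theorem L168198 : sm gi N15088 = N14389 := ded_44_2 L161534 L153208 (flp_h L151711) L160372 L168185
theorem L168200 : sm gd N14264 = N15089 := rfl
theorem L168202 : sm ga N15089 = N14418 := ded_11_1 L161863 (flp_a L160385) L168200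
theorem L168204 : sm gb N15089 = N14359 := ded_18_1 (flp_d L161256) (flp_b L160387) L168200
theorem L168206 : sm gf N15089 = N14265 := ded_31_2 (flp_d L160396) (flp_f L160392) L168200
theorem L168208 : sm gi N15089 = N14387 := ded_34_2 L161513 (flp_i L160394) L168200
theorem L168210 : sm ge N14265 = N15090 := rfl
theorem L168212 : sm ga N15090 = N14409 := ded_12_1 L161784 (flp_a L160398) L168210
theorem L168214 : sm gb N15090 = N14361 := ded_19_1 (flp_e L161272) (flp_b L160400) L168210
theorem L168216 : sm gg N15090 = N14277 := ded_36_2 (flp_e L160505) (flp_g L160402) L168210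
theorem L168218 : sm gi N15090 = N14384 := ded_38_2 L161485 (flp_i L160404) L168210
theorem L168220 : sm gd N15090 = N14266 := ded_30_1 (flp_e L160406) (flp_d L151738) (flp_e L151732) L160396 L168210
theorem L168222 : sm gf N15016 = N15090 := ded_20_0 L168214 (flp_f L161281) (flp_b L167598)
theorem L168224 : sm gh N14268 = N15091 := rfl
theorem L168226 : sm gb N15091 = N14364 := ded_22_1 (flp_h L161303) (flp_b L160433) L168224
theorem L168228 : sm ge N15091 = N14271 := ded_37_1 (flp_h L160459) (flp_e L160437) L168224
theorem L168230 : sm gh N14269 = N15092 := rfl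
theorem L168232 : sm gb N15092 = N14365 := ded_22_1 (flp_h L161308) (flp_b L160441) L168230
theorem L168234 : sm gg N15092 = N14271 := ded_42_1 (flp_h L160459) (flp_g L160445) L168230
theorem L168236 : sm gi N15092 = N15091 := ded_44_2 (flp_h L168224) (flp_i L160431) L151783 L160439 L168230
theorem L168238 : sm gh N14270 = N15093 := rfl
theorem L168240 : sm gb N15093 = N14366 := ded_22_1 (flp_h L161315) (flp_b L160449) L168238
theorem L168242 : sm ge N15093 = N15092 := ded_37_1 (flp_h L168230) (flp_e L160453) L168238
theorem L168244 : sm gf N15093 = N14272 := ded_40_1 (flp_h L160465) (flp_f L160455) L168238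
theorem L168246 : sm gg N15093 = N15091 := ded_42_1 (flp_h L168224) (flp_g L160457) L168238
theorem L168248 : sm gi N15093 = N14271 := ded_44_2 (flp_h L160459) (flp_i L151797) L151785 L160447 L168238
theorem L168250 : sm gd N14271 = N15094 := rfl
theorem L168252 : sm gb N15094 = N14367 := ded_18_1 (flp_d L161326) (flp_b L160461) L168250
theorem L168254 : sm gf N15094 = N14273 := ded_31_2 (flp_d L160471) (flp_f L160463) L168250
theorem L168256 : sm gh N15094 = N14275 := ded_33_2 (flp_d L160489) (flp_h L151825) (flp_d L151801) L160459 L168250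
theorem L168258 : sm ge N14998 = N15094 := ded_19_0 L168252 (flp_e L161335) (flp_b L167443)
theorem L168260 : sm gd N14272 = N15095 := rfl
theorem L168262 : sm gb N15095 = N14368 := ded_18_1 (flp_d L161337) (flp_b L160467) L168260
theorem L168264 : sm gi N15095 = N14273 := ded_34_2 (flp_d L160471) (flp_i L160469) L168260
theorem L168266 : sm gh N15095 = N14425 := ded_33_2 (flp_d L161916) (flp_h L153696) (flp_d L151809) L160465 L168260
theorem L168268 : sm gc N14273 = N15096 := rfl
theorem L168270 : sm gh N15096 = N14276 := ded_28_2 (flp_c L160499) (flp_h L160475) L168268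
theorem L168272 : sm ge N14273 = N15097 := rfl
theorem L168274 : sm gb N15097 = N14370 := ded_19_1 (flp_e L161351) (flp_b L160473) L168272
theorem L168276 : sm gh N15097 = N14277 := ded_37_2 (flp_e L160505) (flp_h L160475) L168272
theorem L168278 : sm gf N15097 = N15002 := ded_35_2 L167485 (flp_f L167445) L168258 L168254 L168272
theorem L168280 : sm gd N14274 = N15098 := rfl
theorem L168282 : sm gb N15098 = N14371 := ded_18_1 (flp_d L161358) (flp_b L160479) L168280
theorem L168284 : sm gg N15098 = N14275 := ded_32_2 (flp_d L160489) (flp_g L160485) L168280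
theorem L168286 : sm gi N15098 = N14427 := ded_34_2 (flp_d L161926) (flp_i L160487) L168280
theorem L168288 : sm ge N15098 = N14685 := ded_30_2 L164387 L160565 (flp_d L160550) (flp_e L160483) L168280
theorem L168290 : sm gc N14275 = N15099 := rfl
theorem L168292 : sm ge N15099 = N14968 := ded_25_2 L167170 (flp_e L160497) L168290
theorem L168294 : sm gf N15099 = N14276 := ded_26_2 (flp_c L160499) (flp_f L160493) L168290
theorem L168296 : sm gi N15099 = N14428 := ded_29_2 (flp_c L161934) (flp_i L160495) L168290
theorem L168298 : sm gb N15099 = N14969 := ded_17_1 L167180 L159513 (flp_c L152840) (flp_b L160491) L168290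
theorem L168300 : sm gd N15099 = N14278 := ded_24_2 (flp_c L160515) (flp_d L151859) (flp_c L151829) L160489 L168290
theorem L168302 : sm gb N14276 = N15100 := rfl
theorem L168304 : sm gd N15100 = N14279 := ded_18_2 (flp_b L160521) (flp_d L160503) L168302
theorem L168306 : sm gf N15100 = N14969 := ded_20_2 (flp_b L168298) L168294 L168302
theorem L168308 : sm gi N15100 = N14429 := ded_23_2 (flp_b L161944) (flp_i L160501) L168302
theorem L168310 : sm gc N15100 = N14372 := ded_17_2 (flp_b L161369) (flp_c L152844) (flp_b L151839) L160499 L168302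
theorem L168312 : sm ge N14276 = N15101 := rfl
theorem L168314 : sm gc N15101 = N14277 := ded_25_1 (flp_e L160505) L160499 L168312
theorem L168316 : sm gi N15101 = N14430 := ded_38_2 (flp_e L161952) (flp_i L160501) L168312
theorem L168318 : sm gf N15101 = N15000 := ded_35_2 L167469 (flp_f L167174) (flp_e L168292) L168294 L168312
theorem L168320 : sm gd N14280 = N15102 := rfl
theorem L168322 : sm ga N15102 = N14990 := ded_11_1 L167373 (flp_a L160529) L168320
theorem L168324 : sm gb N15102 = N14373 := ded_18_1 (flp_d L161377) (flp_b L160531) L168320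
theorem L168326 : sm gg N15102 = N14834 := ded_32_2 L165889 L161912 L168320
theorem L168328 : sm gi N15102 = N14826 := ded_34_2 L165800 (flp_i L160535) L168320
theorem L168330 : sm ge N15102 = N14827 := ded_30_2 L165810 L158017 L151908 (flp_e L160533) L168320
theorem L168332 : sm gh N14283 = N15103 := rfl
theorem L168334 : sm ga N15103 = N14286 := ded_15_1 (flp_h L160595) (flp_a L160569) L168332
theorem L168336 : sm gb N15103 = N14300 := ded_22_1 (flp_h L160718) (flp_b L160571) L168332
theorem L168338 : sm ge N15103 = N14284 := ded_37_1 (flp_h L160578) (flp_e L160574) L168332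
theorem L168340 : sm gg N15103 = N14456 := ded_42_1 (flp_h L162188) (flp_g L160576) L168332
theorem L168342 : sm gi N15103 = N14292 := ded_44_2 (flp_h L160652) (flp_i L152063) (flp_h L151961) L160567 L168332
theorem L168344 : sm gh N14285 = N15104 := rfl
theorem L168346 : sm gb N15104 = N14287 := ded_22_1 (flp_h L160605) (flp_b L160590) L168344
theorem L168348 : sm gf N15104 = N14286 := ded_40_1 (flp_h L160595) (flp_f L160593) L168344
theorem L168350 : sm gi N15104 = N14294 := ded_44_2 (flp_h L160672) (flp_i L152091) (flp_h L151979) L160588 L168344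
theorem L168352 : sm gd N14286 = N15105 := rfl
theorem L168354 : sm gb N15105 = N14288 := ded_18_1 (flp_d L160615) (flp_b L160597) L168352
theorem L168356 : sm gg N15105 = N14516 := ded_32_2 (flp_d L162641) (flp_g L160601) L168352
theorem L168358 : sm gi N15105 = N14295 := ded_34_2 (flp_d L160678) (flp_i L160603) L168352
theorem L168360 : sm gh N15105 = N15105 := ded_33_2 (flp_d L168352) (flp_h L160595) L151985 L160595 L168352
theorem L168361 : sm gd N14287 = N15106 := rfl
theorem L168363 : sm ga N15106 = N14302 := ded_11_1 (flp_d L160737) (flp_a L160607) L168361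
theorem L168365 : sm gf N15106 = N14288 := ded_31_2 (flp_d L160615) (flp_f L160611) L168361
theorem L168367 : sm gi N15106 = N14297 := ded_34_2 (flp_d L160696) (flp_i L160613) L168361
theorem L168369 : sm gh N15106 = N15106 := ded_33_2 (flp_d L168361) (flp_h L160605) L152004 L160605 L168361
theorem L168370 : sm gh N14291 = N15107 := rfl
theorem L168372 : sm ga N15107 = N14294 := ded_15_1 (flp_h L160672) (flp_a L160644) L168370
theorem L168374 : sm gb N15107 = N14303 := ded_22_1 (flp_h L160744) (flp_b L160646) L168370
theorem L168376 : sm gf N15107 = N14292 := ded_40_1 (flp_h L160652) (flp_f L160650) L168370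
theorem L168378 : sm gd N14292 = N15108 := rfl
theorem L168380 : sm ga N15108 = N14295 := ded_11_1 (flp_d L160678) (flp_a L160654) L168378
theorem L168382 : sm gb N15108 = N14304 := ded_18_1 (flp_d L160750) (flp_b L160656) L168378
theorem L168384 : sm gg N15108 = N14467 := ded_32_2 (flp_d L162275) (flp_g L160660) L168378
theorem L168386 : sm gh N15108 = N14376 := ded_33_2 (flp_d L161409) (flp_h L152950) (flp_d L152069) L160652 L168378
theorem L168388 : sm gh N14293 = N15109 := rfl
theorem L168390 : sm gb N15109 = N14296 := ded_22_1 (flp_h L160686) (flp_b L160664) L168388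
theorem L168392 : sm gf N15109 = N14527 := ded_40_1 (flp_h L162704) (flp_f L160668) L168388
theorem L168394 : sm gg N15109 = N14294 := ded_42_1 (flp_h L160672) (flp_g L160670) L168388
theorem L168396 : sm gd N14294 = N15110 := rfl
theorem L168398 : sm gb N15110 = N14297 := ded_18_1 (flp_d L160696) (flp_b L160674) L168396
theorem L168400 : sm gf N15110 = N14295 := ded_31_2 (flp_d L160678) (flp_f L160676) L168396
theorem L168402 : sm gh N15110 = N14378 := ded_33_2 (flp_d L161428) (flp_h L152970) (flp_d L152095) L160672 L168396
theorem L168404 : sm gc N14295 = N15111 := rfl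
theorem L168406 : sm gg N15111 = N14529 := ded_27_2 (flp_c L162718) (flp_g L160682) L168404
theorem L168408 : sm gh N15111 = N14379 := ded_28_2 (flp_c L161435) (flp_h L160684) L168404
theorem L168410 : sm ge N14297 = N15112 := rfl
theorem L168412 : sm ga N15112 = N14306 := ded_12_1 L160768 (flp_a L160698) L168410
theorem L168414 : sm gc N15112 = N14304 := ded_25_1 (flp_e L163969) L163967 L168410
theorem L168416 : sm gg N15112 = N14492 := ded_36_2 (flp_e L164089) L164093 L168410
theorem L168418 : sm gh N15112 = N14380 := ded_37_2 (flp_e L161440) (flp_h L160702) L168410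
theorem L168420 : sm gb N14298 = N15113 := rfl
theorem L168422 : sm gd N15113 = N14299 := ded_18_2 (flp_b L160714) (flp_d L160712) L168420
theorem L168424 : sm gg N15113 = N14554 := ded_21_2 (flp_b L162939) (flp_g L160708) L168420
theorem L168426 : sm gh N15113 = N14381 := ded_22_2 (flp_b L161450) (flp_h L160710) L168420
theorem L168428 : sm gd N14300 = N15114 := rfl
theorem L168430 : sm ga N15114 = N14301 := ded_11_1 (flp_d L160728) (flp_a L160720) L168428
theorem L168432 : sm gg N15114 = N14486 := ded_32_2 (flp_d L162452) (flp_g L160724) L168428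
theorem L168434 : sm gi N15114 = N14304 := ded_34_2 (flp_d L160750) (flp_i L160726) L168428
theorem L168436 : sm gh N15114 = N15114 := ded_33_2 (flp_d L168428) (flp_h L160718) L152178 L160718 L168428
theorem L168437 : sm gc N14301 = N15115 := rfl
theorem L168439 : sm ge N15115 = N14302 := ded_25_2 (flp_c L164190) L164192 L168437
theorem L168441 : sm gf N15115 = N14500 := ded_26_2 (flp_c L165751) L165745 L168437
theorem L168443 : sm gg N15115 = N14498 := ded_27_2 (flp_c L162524) (flp_g L160732) L168437
theorem L168445 : sm gh N15115 = N15115 := ded_28_2 (flp_c L168437) L160736 L168437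
theorem L168446 : sm gi N15115 = N14306 := ded_29_2 (flp_c L160766) (flp_i L160734) L168437
theorem L168448 : sm gb N15115 = N14499 := ded_17_1 (flp_c L162529) (flp_b L159422) L159428 (flp_b L160730) L168437
theorem L168450 : sm gd N15115 = N14501 := ded_24_2 L162543 (flp_d L157725) L157717 L160728 L168437
theorem L168452 : sm gd N14303 = N15116 := rfl
theorem L168454 : sm ga N15116 = N14305 := ded_11_1 (flp_d L160758) (flp_a L160746) L168452
theorem L168456 : sm gf N15116 = N14304 := ded_31_2 (flp_d L160750) (flp_f L160748) L168452
theorem L168458 : sm gh N15116 = N14383 := ded_33_2 (flp_d L161468) (flp_h L153040) (flp_d L152234) L160744 L168452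
theorem L168460 : sm gi N14307 = N15117 := rfl
theorem L168462 : sm ga N15117 = N15117 := ded_16_1 (flp_i L168460) L160776 L168460
theorem L168463 : sm gb N15117 = N14629 := ded_23_1 (flp_i L163675) (flp_b L160777) L168460
theorem L168465 : sm gd N15117 = N14431 := ded_34_1 (flp_i L161958) (flp_d L160779) L168460
theorem L168467 : sm ge N15117 = N14575 := ded_38_1 (flp_i L165827) L165829 L168460
theorem L168469 : sm gf N15117 = N14308 := ded_41_1 (flp_i L160783) L160774 L168460
theorem L168471 : sm gh N14308 = N15118 := rfl
theorem L168473 : sm ga N15118 = N15118 := ded_15_1 (flp_h L168471) L160785 L168471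
theorem L168474 : sm gb N15118 = N14631 := ded_22_1 (flp_h L163694) (flp_b L160786) L168471
theorem L168476 : sm ge N15118 = N14309 := ded_37_1 (flp_h L160794) (flp_e L160790) L168471
theorem L168478 : sm gg N15118 = N14311 := ded_42_1 (flp_h L160812) (flp_g L160792) L168471
theorem L168480 : sm gi N15118 = N14831 := ded_44_2 (flp_h L165854) (flp_i L157924) (flp_h L152289) L160783 L168471
theorem L168482 : sm gd N14311 = N15119 := rfl
theorem L168484 : sm ga N15119 = N15119 := ded_11_1 (flp_d L168482) L160814 L168482
theorem L168485 : sm gi N15119 = N14839 := ded_34_2 (flp_d L165935) (flp_i L160817) L168482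
theorem L168487 : sm ge N15119 = N14323 := ded_30_2 (flp_d L160918) L152413 (flp_d L152321) (flp_e L160815) L168482
theorem L168489 : sm gh N15119 = N14433 := ded_33_2 (flp_d L161987) (flp_h L153811) (flp_d L152312) L160812 L168482
theorem L168491 : sm gd N14312 = N15120 := rfl
theorem L168493 : sm ga N15120 = N15120 := ded_11_1 (flp_d L168491) L160821 L168491
theorem L168494 : sm gf N15120 = N14567 := ded_31_2 L163030 L161356 L168491
theorem L168496 : sm gg N15120 = N14323 := ded_32_2 (flp_d L160918) (flp_g L160826) L168491
theorem L168498 : sm gh N15120 = N14434 := ded_33_2 (flp_d L161997) (flp_h L153821) (flp_d L152330) L160819 L168491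
theorem L168500 : sm gf N14313 = N15121 := rfl
theorem L168502 : sm ga N15121 = N14315 := ded_13_1 (flp_f L160847) (flp_a L160830) L168500
theorem L168504 : sm gb N15121 = N15121 := ded_20_1 (flp_f L168500) L160832 L168500
theorem L168505 : sm gd N15121 = N15121 := ded_31_1 (flp_f L168500) L160837 L168500
theorem L168506 : sm gh N15121 = N14403 := ded_40_2 L161719 (flp_h L160835) L168500
theorem L168508 : sm ge N15121 = N14400 := ded_35_1 L165872 (flp_e L165861) L157943 L160828 L168500
theorem L168510 : sm gg N14408 = N15121 := ded_47_1 (flp_f L168500) (flp_e L160828) L152345 L143376 L134210 L126071 L120857 (flp_f L66451) L66456 (flp_d L52306) L38292 L28070 L117478 (flp_g L20902) (flp_f L15332) L11280 (flp_d L11272) (flp_c L10528) L10526 L10267 L10266 L13897 L13905 (flp_d L13985) (flp_c L18995) (flp_b L25803) L35174 (flp_g L47973) L112128 (flp_e L112030) L30858 L23414 L23412 L23460 L23466 L17255 L12710 L17258 L17263 (flp_b L23429) (flp_h L30876) (flp_g L36650) (flp_f L50056) L68556 (flp_d L125932) (flp_c L134127) (flp_b L142295) (flp_h L144775) (flp_g L153754) L153753 (flp_e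 L153760) L156466 L164371 L164379 L158222 L156488 L147911 L151382 L159892 L159894 L153487 L161773
theorem L168512 : sm gi N14313 = N15122 := rfl
theorem L168514 : sm ga N15122 = N14316 := ded_16_1 (flp_i L160856) (flp_a L160830) L168512
theorem L168516 : sm gb N15122 = N15122 := ded_23_1 (flp_i L168512) L160832 L168512
theorem L168517 : sm gd N15122 = N15122 := ded_34_1 (flp_i L168512) L160837 L168512
theorem L168518 : sm ge N15122 = N14314 := ded_38_1 (flp_i L160838) L160828 L168512
theorem L168520 : sm gg N15122 = N14450 := ded_43_1 (flp_i L162146) (flp_g L160833) L168512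
theorem L168522 : sm gh N14314 = N15123 := rfl
theorem L168524 : sm ga N15123 = N14317 := ded_15_1 (flp_h L160865) (flp_a L160840) L168522
theorem L168526 : sm gb N15123 = N15123 := ded_22_1 (flp_h L168522) L160842 L168522
theorem L168527 : sm gg N15123 = N14451 := ded_42_1 (flp_h L162154) (flp_g L160845) L168522
theorem L168529 : sm gd N15123 = N14993 := ded_33_1 (flp_h L167395) L159670 L153448 (flp_d L160843) L168522
theorem L168531 : sm gi N15123 = N14866 := ded_44_2 (flp_h L166231) (flp_i L158471) (flp_h L152349) L160838 L168522
theorem L168533 : sm gg N14315 = N15124 := rfl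
theorem L168535 : sm ga N15124 = N14408 := ded_14_1 L168510 L168502 L168533
theorem L168537 : sm gb N15124 = N14318 := ded_21_1 (flp_g L160873) (flp_b L160849) L168533
theorem L168539 : sm gd N15124 = N15124 := ded_32_1 (flp_g L168533) L160851 L168533
theorem L168540 : sm ge N15124 = N14388 := ded_36_1 L161521 (flp_e L160854) L168533
theorem L168542 : sm gh N15124 = N14384 := ded_42_2 L161483 (flp_h L160852) L168533
theorem L168544 : sm gf N15124 = N14506 := ded_39_1 (flp_g L162574) (flp_f L154441) (flp_g L152356) L160847 L168533
theorem L168546 : sm gi N14315 = N15125 := rfl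
theorem L168548 : sm gb N15125 = N14319 := ded_23_1 (flp_i L160885) (flp_b L160849) L168546
theorem L168550 : sm gd N15125 = N15125 := ded_34_1 (flp_i L168546) L160851 L168546
theorem L168551 : sm ge N15125 = N14425 := ded_38_1 L161920 (flp_e L160854) L168546
theorem L168553 : sm gf N15125 = N14316 := ded_41_1 (flp_i L160856) L160847 L168546
theorem L168555 : sm gh N14316 = N15126 := rfl
theorem L168557 : sm gb N15126 = N14320 := ded_22_1 (flp_h L160895) (flp_b L160858) L168555
theorem L168559 : sm ge N15126 = N14317 := ded_37_1 (flp_h L160865) (flp_e L160861) L168555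
theorem L168561 : sm gg N15126 = N14508 := ded_42_1 (flp_h L162592) (flp_g L160863) L168555
theorem L168563 : sm gi N15126 = N15002 := ded_44_2 (flp_h L167481) (flp_i L159846) (flp_h L152358) L160856 L168555
theorem L168565 : sm gi N14318 = N15127 := rfl
theorem L168567 : sm ga N15127 = N15127 := ded_16_1 (flp_i L168565) L160875 L168565
theorem L168568 : sm gc N15127 = N14321 := ded_29_1 (flp_i L160906) (flp_c L160876) L168565
theorem L168570 : sm gd N15127 = N15127 := ded_34_1 (flp_i L168565) L160878 L168565
theorem L168571 : sm ge N15127 = N14441 := ded_38_1 L162071 (flp_e L160879) L168565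
theorem L168573 : sm gf N15127 = N14558 := ded_41_1 (flp_i L162961) (flp_f L160883) L168565
theorem L168575 : sm gg N15127 = N14319 := ded_43_1 (flp_i L160885) L160873 L168565
theorem L168577 : sm gh N14319 = N15128 := rfl
theorem L168579 : sm ga N15128 = N15128 := ded_15_1 (flp_h L168577) L160887 L168577
theorem L168580 : sm gc N15128 = N14322 := ded_28_1 (flp_h L160913) (flp_c L160888) L168577
theorem L168582 : sm ge N15128 = N14368 := ded_37_1 L161342 (flp_e L160891) L168577
theorem L168584 : sm gf N15128 = N14320 := ded_40_1 (flp_h L160895) (flp_f L160893) L168577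
theorem L168586 : sm gi N15128 = N14370 := ded_44_2 L161354 L152856 (flp_h L152375) L160885 L168577
theorem L168588 : sm gd N14320 = N15129 := rfl
theorem L168590 : sm ga N15129 = N15129 := ded_11_1 (flp_d L168588) L160897 L168588
theorem L168591 : sm gg N15129 = N14560 := ded_32_2 (flp_d L162982) (flp_g L160902) L168588
theorem L168593 : sm gi N15129 = N15120 := ded_34_2 (flp_d L168491) (flp_i L160904) L168588
theorem L168595 : sm gh N15129 = N15129 := ded_33_2 (flp_d L168588) (flp_h L160895) L152384 L160895 L168588
theorem L168596 : sm gh N14321 = N15130 := rfl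
theorem L168598 : sm ga N15130 = N15130 := ded_15_1 (flp_h L168596) L160908 L168596
theorem L168599 : sm gg N15130 = N14322 := ded_42_1 (flp_h L160913) (flp_g L160911) L168596
theorem L168601 : sm gd N14322 = N15131 := rfl
theorem L168603 : sm ga N15131 = N15131 := ded_11_1 (flp_d L168601) L160915 L168601
theorem L168604 : sm gf N15131 = N14323 := ded_31_2 (flp_d L160918) (flp_f L160916) L168601
theorem L168606 : sm gh N15131 = N14435 := ded_33_2 (flp_d L162005) (flp_h L153841) (flp_d L152406) L160913 L168601
theorem L168608 : sm gc N14323 = N15132 := rfl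
theorem L168610 : sm ga N15132 = N15132 := ded_10_1 (flp_c L168608) L160920 L168608
theorem L168611 : sm gh N15132 = N14436 := ded_28_2 (flp_c L162011) (flp_h L160921) L168608
theorem L168613 : sm ge N14324 = N15133 := rfl
theorem L168615 : sm ga N15133 = N14330 := ded_12_1 (flp_e L160984) (flp_a L160925) L168613
theorem L168617 : sm gb N15133 = N15133 := ded_19_1 (flp_e L168613) L160927 L168613
theorem L168618 : sm gd N15133 = N15133 := ded_30_1 (flp_e L168613) L160928 L152442 (flp_d L160928) L168613
theorem L168619 : sm gf N15133 = N14927 := ded_35_2 (flp_e L166763) (flp_f L158898) (flp_e L152432) L160923 L168613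
theorem L168621 : sm gg N14324 = N15134 := rfl
theorem L168623 : sm ga N15134 = N14331 := ded_14_1 (flp_g L160991) (flp_a L160925) L168621
theorem L168625 : sm gb N15134 = N15134 := ded_21_1 (flp_g L168621) L160927 L168621
theorem L168626 : sm gd N15134 = N14327 := ded_32_1 (flp_g L160951) (flp_d L160928) L168621
theorem L168628 : sm gf N15134 = N14469 := ded_39_1 (flp_g L162292) (flp_f L154116) (flp_g L152430) L160923 L168621
theorem L168630 : sm gh N15133 = N15134 := ded_15_0 L168623 (flp_h L160999) (flp_a L168615)
theorem L168632 : sm gh N14324 = N15135 := rfl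
theorem L168634 : sm ga N15135 = N14332 := ded_15_1 (flp_h L161001) (flp_a L160925) L168632
theorem L168636 : sm gb N15135 = N15135 := ded_22_1 (flp_h L168632) L160927 L168632
theorem L168637 : sm ge N15135 = N15134 := ded_37_1 (flp_h L168630) (flp_e L168613) L168632
theorem L168639 : sm gf N15135 = N14325 := ded_40_1 (flp_h L160930) L160923 L168632
theorem L168641 : sm gg N15135 = N15133 := ded_42_1 L168630 (flp_g L168621) L168632
theorem L168643 : sm gd N15135 = N15135 := ded_33_1 (flp_h L168632) L160928 L152441 (flp_d L160928) L168632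
theorem L168644 : sm gi N14324 = N15136 := rfl
theorem L168646 : sm ga N15136 = N14333 := ded_16_1 (flp_i L161012) (flp_a L160925) L168644
theorem L168648 : sm gb N15136 = N15136 := ded_23_1 (flp_i L168644) L160927 L168644
theorem L168649 : sm gd N15136 = N14328 := ded_34_1 (flp_i L160962) (flp_d L160928) L168644
theorem L168651 : sm gf N15136 = N14326 := ded_41_1 (flp_i L160940) L160923 L168644
theorem L168653 : sm gi N14325 = N15137 := rfl
theorem L168655 : sm ga N15137 = N14334 := ded_16_1 (flp_i L161020) (flp_a L160932) L168653
theorem L168657 : sm gb N15137 = N15137 := ded_23_1 (flp_i L168653) L160934 L168653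
theorem L168658 : sm gd N15137 = N15137 := ded_34_1 (flp_i L168653) L160939 L168653
theorem L168659 : sm ge N15137 = N14931 := ded_38_1 (flp_i L166808) (flp_e L160935) L168653
theorem L168661 : sm gg N15137 = N14472 := ded_43_1 (flp_i L162316) (flp_g L160937) L168653
theorem L168663 : sm gh N14326 = N15138 := rfl
theorem L168665 : sm ga N15138 = N14335 := ded_15_1 (flp_h L161029) (flp_a L160942) L168663
theorem L168667 : sm gb N15138 = N15138 := ded_22_1 (flp_h L168663) L160944 L168663
theorem L168668 : sm ge N15138 = N14932 := ded_37_1 (flp_h L166817) (flp_e L160947) L168663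
theorem L168670 : sm gg N15138 = N14473 := ded_42_1 (flp_h L162324) (flp_g L160949) L168663
theorem L168672 : sm gi N14327 = N15139 := rfl
theorem L168674 : sm ga N15139 = N14336 := ded_16_1 (flp_i L161037) (flp_a L160953) L168672
theorem L168676 : sm gb N15139 = N15139 := ded_23_1 (flp_i L168672) L160955 L168672
theorem L168677 : sm gc N15139 = N14374 := ded_29_1 (flp_i L161388) (flp_c L160956) L168672
theorem L168679 : sm ge N15139 = N15139 := ded_38_1 (flp_i L168672) L160958 L168672
theorem L168680 : sm gf N15139 = N14474 := ded_41_1 (flp_i L162331) (flp_f L160960) L168672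
theorem L168682 : sm gg N15139 = N14328 := ded_43_1 (flp_i L160962) L160951 L168672
theorem L168684 : sm gh N14328 = N15140 := rfl
theorem L168686 : sm ga N15140 = N14337 := ded_15_1 (flp_h L161048) (flp_a L160964) L168684
theorem L168688 : sm gb N15140 = N15140 := ded_22_1 (flp_h L168684) L160966 L168684
theorem L168689 : sm gc N15140 = N14375 := ded_28_1 (flp_h L161399) (flp_c L160967) L168684
theorem L168691 : sm ge N15140 = N15140 := ded_37_1 (flp_h L168684) L160969 L168684
theorem L168692 : sm gf N15140 = N14329 := ded_40_1 (flp_h L160972) (flp_f L160970) L168684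
theorem L168694 : sm gi N15140 = N15140 := ded_44_2 (flp_h L168684) (flp_i L160962) L152441 L160962 L168684
theorem L168695 : sm gd N14329 = N15141 := rfl
theorem L168697 : sm ga N15141 = N14338 := ded_11_1 (flp_d L161058) (flp_a L160974) L168695
theorem L168699 : sm gb N15141 = N15141 := ded_18_1 (flp_d L168695) L160976 L168695
theorem L168700 : sm gg N15141 = N14476 := ded_32_2 (flp_d L162354) (flp_g L160981) L168695
theorem L168702 : sm gi N15141 = N15141 := ded_34_2 (flp_d L168695) L160983 L168695
theorem L168703 : sm gi N14330 = N15142 := rfl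
theorem L168705 : sm gb N15142 = N14340 := ded_23_1 (flp_i L161074) (flp_b L160986) L168703
theorem L168707 : sm gd N15142 = N15142 := ded_34_1 (flp_i L168703) L160988 L168703
theorem L168708 : sm ge N15142 = N14333 := ded_38_1 (flp_i L161012) L160984 L168703
theorem L168710 : sm gf N15142 = N15082 := ded_41_1 (flp_i L168128) (flp_f L160989) L168703
theorem L168712 : sm gi N14331 = N15143 := rfl
theorem L168714 : sm gb N15143 = N14341 := ded_23_1 (flp_i L161082) (flp_b L160993) L168712
theorem L168716 : sm gd N15143 = N14336 := ded_34_1 (flp_i L161037) (flp_d L160995) L168712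
theorem L168718 : sm gf N15143 = N14531 := ded_41_1 (flp_i L162732) (flp_f L160997) L168712
theorem L168720 : sm gg N15143 = N14333 := ded_43_1 (flp_i L161012) L160991 L168712
theorem L168722 : sm gi N14332 = N15144 := rfl
theorem L168724 : sm gb N15144 = N14342 := ded_23_1 (flp_i L161093) (flp_b L161003) L168722
theorem L168726 : sm gd N15144 = N15144 := ded_34_1 (flp_i L168722) L161011 L168722
theorem L168727 : sm ge N15144 = N15143 := ded_38_1 (flp_i L168712) (flp_e L161005) L168722
theorem L168729 : sm gf N15144 = N14334 := ded_41_1 (flp_i L161020) (flp_f L161007) L168722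
theorem L168731 : sm gg N15144 = N15142 := ded_43_1 (flp_i L168703) (flp_g L161009) L168722
theorem L168733 : sm gh N14333 = N15145 := rfl
theorem L168735 : sm gb N15145 = N14343 := ded_22_1 (flp_h L161105) (flp_b L161014) L168733
theorem L168737 : sm gf N15145 = N14335 := ded_40_1 (flp_h L161029) (flp_f L161018) L168733
theorem L168739 : sm gh N14334 = N15146 := rfl
theorem L168741 : sm gb N15146 = N14344 := ded_22_1 (flp_h L161112) (flp_b L161022) L168739
theorem L168743 : sm ge N15146 = N15086 := ded_37_1 (flp_h L168167) (flp_e L161025) L168739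
theorem L168745 : sm gg N15146 = N14534 := ded_42_1 (flp_h L162753) (flp_g L161027) L168739
theorem L168747 : sm gi N15146 = N14335 := ded_44_2 (flp_h L161029) (flp_i L152480) L152471 L161020 L168739
theorem L168749 : sm gd N14335 = N15147 := rfl
theorem L168751 : sm gb N15147 = N14345 := ded_18_1 (flp_d L161121) (flp_b L161031) L168749
theorem L168753 : sm gg N15147 = N14535 := ded_32_2 (flp_d L162761) (flp_g L161035) L168749
theorem L168755 : sm gh N15147 = N14338 := ded_33_2 (flp_d L161058) (flp_h L152509) (flp_d L152484) L161029 L168749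
theorem L168757 : sm gh N14336 = N15148 := rfl
theorem L168759 : sm gb N15148 = N14346 := ded_22_1 (flp_h L161128) (flp_b L161039) L168757
theorem L168761 : sm gc N15148 = N14377 := ded_28_1 (flp_h L161418) (flp_c L161041) L168757
theorem L168763 : sm ge N15148 = N15148 := ded_37_1 (flp_h L168757) L161043 L168757
theorem L168764 : sm gf N15148 = N14536 := ded_40_1 (flp_h L162767) (flp_f L161044) L168757
theorem L168766 : sm gg N15148 = N14337 := ded_42_1 (flp_h L161048) (flp_g L161046) L168757
theorem L168768 : sm gi N15148 = N15148 := ded_44_2 (flp_h L168757) (flp_i L161037) L152497 L161037 L168757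
theorem L168769 : sm gd N14337 = N15149 := rfl
theorem L168771 : sm gb N15149 = N14347 := ded_18_1 (flp_d L161139) (flp_b L161050) L168769
theorem L168773 : sm gf N15149 = N14338 := ded_31_2 (flp_d L161058) (flp_f L161055) L168769
theorem L168775 : sm gi N15149 = N15149 := ded_34_2 (flp_d L168769) L161057 L168769
theorem L168776 : sm gc N14338 = N15150 := rfl
theorem L168778 : sm gg N15150 = N14538 := ded_27_2 (flp_c L162785) (flp_g L161062) L168776
theorem L168780 : sm gi N15150 = N15150 := ded_29_2 (flp_c L168776) L161064 L168776
theorem L168781 : sm gd N15150 = N14379 := ded_24_2 (flp_c L161435) (flp_d L152978) (flp_c L152513) L161058 L168776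
theorem L168783 : sm ge N14338 = N15151 := rfl
theorem L168785 : sm gb N15151 = N14349 := ded_19_1 (flp_e L161153) (flp_b L161060) L168783
theorem L168787 : sm gg N15151 = N14539 := ded_36_2 (flp_e L162790) (flp_g L161062) L168783
theorem L168789 : sm gi N15151 = N15151 := ded_38_2 (flp_e L168783) L161064 L168783
theorem L168790 : sm gd N15151 = N14339 := ded_30_1 (flp_e L161065) (flp_d L152520) (flp_e L152515) L161058 L168783
theorem L168792 : sm gf N14339 = N15152 := rfl
theorem L168794 : sm gb N15152 = N14350 := ded_20_1 (flp_f L161161) (flp_b L161067) L168792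
theorem L168796 : sm gh N15152 = N14412 := ded_40_2 L161815 (flp_h L161071) L168792
theorem L168798 : sm gi N15152 = N15152 := ded_41_2 (flp_f L168792) L161073 L168792
theorem L168799 : sm ge N15152 = N15152 := ded_35_1 (flp_f L168792) (flp_e L161065) L152524 L161065 L168792
theorem L168800 : sm gg N15152 = N14413 := ded_39_2 L161824 (flp_g L161761) L161759 (flp_g L161069) L168792
theorem L168802 : sm gh N14340 = N15153 := rfl
theorem L168804 : sm ga N15153 = N15153 := ded_15_1 (flp_h L168802) L161076 L168802
theorem L168805 : sm gc N15153 = N14364 := ded_28_1 (flp_h L161303) (flp_c L161077) L168802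
theorem L168807 : sm ge N15153 = N14343 := ded_37_1 (flp_h L161105) (flp_e L161080) L168802
theorem L168809 : sm gh N14341 = N15154 := rfl
theorem L168811 : sm ga N15154 = N15154 := ded_15_1 (flp_h L168809) L161084 L168809
theorem L168812 : sm gc N15154 = N14365 := ded_28_1 (flp_h L161308) (flp_c L161085) L168809
theorem L168814 : sm gf N15154 = N14562 := ded_40_1 (flp_h L162995) (flp_f L161089) L168809
theorem L168816 : sm gg N15154 = N14343 := ded_42_1 (flp_h L161105) (flp_g L161091) L168809
theorem L168818 : sm gi N15154 = N15153 := ded_44_2 (flp_h L168802) (flp_i L161074) L152545 L161082 L168809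
theorem L168820 : sm gh N14342 = N15155 := rfl
theorem L168822 : sm ga N15155 = N15155 := ded_15_1 (flp_h L168820) L161095 L168820
theorem L168823 : sm gc N15155 = N14366 := ded_28_1 (flp_h L161315) (flp_c L161096) L168820
theorem L168825 : sm ge N15155 = N15154 := ded_37_1 (flp_h L168809) (flp_e L161099) L168820
theorem L168827 : sm gf N15155 = N14344 := ded_40_1 (flp_h L161112) (flp_f L161101) L168820
theorem L168829 : sm gg N15155 = N15153 := ded_42_1 (flp_h L168802) (flp_g L161103) L168820
theorem L168831 : sm gi N15155 = N14343 := ded_44_2 (flp_h L161105) (flp_i L152559) L152547 L161093 L168820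
theorem L168833 : sm gd N14343 = N15156 := rfl
theorem L168835 : sm ga N15156 = N15156 := ded_11_1 (flp_d L168833) L161107 L168833
theorem L168836 : sm gf N15156 = N14345 := ded_31_2 (flp_d L161121) (flp_f L161110) L168833
theorem L168838 : sm gc N15156 = N15119 := ded_24_1 (flp_d L168482) L161333 (flp_d L161326) (flp_c L161108) L168833
theorem L168840 : sm gh N15156 = N14347 := ded_33_2 (flp_d L161139) (flp_h L152593) (flp_d L152564) L161105 L168833
theorem L168842 : sm ge N15132 = N15156 := ded_25_0 L168838 L168487 L168608
theorem L168844 : sm gd N14344 = N15157 := rfl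
theorem L168846 : sm ga N15157 = N15157 := ded_11_1 (flp_d L168844) L161114 L168844
theorem L168847 : sm gg N15157 = N14565 := ded_32_2 (flp_d L163014) (flp_g L161117) L168844
theorem L168849 : sm gi N15157 = N14345 := ded_34_2 (flp_d L161121) (flp_i L161119) L168844
theorem L168851 : sm gh N15157 = N15157 := ded_33_2 (flp_d L168844) (flp_h L161112) L152573 L161112 L168844
theorem L168852 : sm gc N14345 = N15158 := rfl
theorem L168854 : sm ga N15158 = N15158 := ded_10_1 (flp_c L168852) L161123 L168852
theorem L168855 : sm gf N15158 = N15119 := ded_26_2 (flp_c L168838) L168836 L168852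
theorem L168857 : sm gg N15158 = N14566 := ded_27_2 (flp_c L163020) (flp_g L161124) L168852
theorem L168859 : sm gh N15158 = N14348 := ded_28_2 (flp_c L161145) (flp_h L161126) L168852
theorem L168861 : sm gd N15158 = N14369 := ded_24_2 (flp_c L161344) (flp_d L152817) (flp_c L152579) L161121 L168852
theorem L168863 : sm ge N14345 = N15159 := rfl
theorem L168865 : sm ga N15159 = N15159 := ded_12_1 (flp_e L168863) L161123 L168863
theorem L168866 : sm gg N15159 = N14567 := ded_36_2 (flp_e L163025) (flp_g L161124) L168863
theorem L168868 : sm gh N15159 = N14349 := ded_37_2 (flp_e L161153) (flp_h L161126) L168863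
theorem L168870 : sm gd N14346 = N15160 := rfl
theorem L168872 : sm ga N15160 = N15160 := ded_11_1 (flp_d L168870) L161130 L168870
theorem L168873 : sm gf N15160 = N14568 := ded_31_2 (flp_d L163032) (flp_f L161134) L168870
theorem L168875 : sm gg N15160 = N14347 := ded_32_2 (flp_d L161139) (flp_g L161136) L168870
theorem L168877 : sm gi N15160 = N15160 := ded_34_2 (flp_d L168870) L161138 L168870
theorem L168878 : sm gb N14348 = N15161 := rfl
theorem L168880 : sm gd N15161 = N14351 := ded_18_2 (flp_b L161171) (flp_d L161151) L168878
theorem L168882 : sm gg N15161 = N14571 := ded_21_2 (flp_b L163058) (flp_g L161148) L168878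
theorem L168884 : sm gi N15161 = N15161 := ded_23_2 (flp_b L168878) L161150 L168878
theorem L168885 : sm ge N14348 = N15162 := rfl
theorem L168887 : sm ga N15162 = N15162 := ded_12_1 (flp_e L168885) L161147 L168885
theorem L168888 : sm gc N15162 = N14349 := ded_25_1 (flp_e L161153) L161145 L168885
theorem L168890 : sm gg N15162 = N14572 := ded_36_2 (flp_e L163063) (flp_g L161148) L168885
theorem L168892 : sm gi N15162 = N15162 := ded_38_2 (flp_e L168885) L161150 L168885
theorem L168893 : sm gd N15162 = N15162 := ded_30_1 (flp_e L168885) L161151 L152639 (flp_d L161151) L168885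
theorem L168894 : sm gf N14349 = N15163 := rfl
theorem L168896 : sm ga N15163 = N15163 := ded_13_1 (flp_f L168894) L161155 L168894
theorem L168897 : sm gd N15163 = N14350 := ded_31_1 (flp_f L161161) (flp_d L161159) L168894
theorem L168899 : sm gi N15163 = N15163 := ded_41_2 (flp_f L168894) L161158 L168894
theorem L168900 : sm gg N15163 = N14435 := ded_39_2 L162008 (flp_g L162002) L162000 (flp_g L161156) L168894
theorem L168902 : sm gh N14352 = N15164 := rfl
theorem L168904 : sm ga N15164 = N15164 := ded_15_1 (flp_h L168902) L161183 L168902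
theorem L168905 : sm gc N15164 = N14561 := ded_28_1 (flp_h L162988) (flp_c L161184) L168902
theorem L168907 : sm ge N15164 = N14355 := ded_37_1 (flp_h L161219) (flp_e L161187) L168902
theorem L168909 : sm gf N15164 = N15153 := ded_40_1 (flp_h L168802) (flp_f L161189) L168902
theorem L168911 : sm gg N15164 = N14563 := ded_42_1 (flp_h L163000) (flp_g L161191) L168902
theorem L168913 : sm gi N15164 = N14562 := ded_44_2 (flp_h L162995) (flp_i L154894) L152653 L161181 L168902
theorem L168915 : sm gh N14353 = N15165 := rfl
theorem L168917 : sm ga N15165 = N15165 := ded_15_1 (flp_h L168915) L161195 L168915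
theorem L168918 : sm gc N15165 = N14562 := ded_28_1 (flp_h L162995) (flp_c L161196) L168915
theorem L168920 : sm ge N15165 = N14563 := ded_37_1 (flp_h L163000) (flp_e L161200) L168915
theorem L168922 : sm gf N15165 = N14365 := ded_40_1 (flp_h L161308) (flp_f L161202) L168915
theorem L168924 : sm gg N15165 = N14355 := ded_42_1 (flp_h L161219) (flp_g L161204) L168915
theorem L168926 : sm gi N15165 = N14561 := ded_44_2 (flp_h L162988) (flp_i L154885) L152668 L161193 L168915
theorem L168928 : sm gh N14354 = N15166 := rfl
theorem L168930 : sm ga N15166 = N15166 := ded_15_1 (flp_h L168928) L161208 L168928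
theorem L168931 : sm gc N15166 = N14563 := ded_28_1 (flp_h L163000) (flp_c L161209) L168928
theorem L168933 : sm ge N15166 = N14562 := ded_37_1 (flp_h L162995) (flp_e L161213) L168928
theorem L168935 : sm gf N15166 = N14356 := ded_40_1 (flp_h L161226) (flp_f L161215) L168928
theorem L168937 : sm gg N15166 = N14561 := ded_42_1 (flp_h L162988) (flp_g L161217) L168928
theorem L168939 : sm gi N15166 = N14355 := ded_44_2 (flp_h L161219) (flp_i L152683) L152670 L161206 L168928
theorem L168941 : sm gd N14355 = N15167 := rfl
theorem L168943 : sm ga N15167 = N15167 := ded_11_1 (flp_d L168941) L161221 L168941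
theorem L168944 : sm gf N15167 = N14357 := ded_31_2 (flp_d L161237) (flp_f L161224) L168941
theorem L168946 : sm gh N15167 = N14359 := ded_33_2 (flp_d L161256) (flp_h L152722) (flp_d L152688) L161219 L168941
theorem L168948 : sm gd N14356 = N15168 := rfl
theorem L168950 : sm ga N15168 = N15168 := ded_11_1 (flp_d L168948) L161228 L168948
theorem L168951 : sm gg N15168 = N14368 := ded_32_2 (flp_d L161337) (flp_g L161233) L168948
theorem L168953 : sm gi N15168 = N14357 := ded_34_2 (flp_d L161237) (flp_i L161235) L168948
theorem L168955 : sm gh N15168 = N14441 := ded_33_2 (flp_d L162066) (flp_h L153891) (flp_d L152697) L161226 L168948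
theorem L168957 : sm gc N14357 = N15169 := rfl
theorem L168959 : sm ga N15169 = N15169 := ded_10_1 (flp_c L168957) L161239 L168957
theorem L168960 : sm gg N15169 = N14369 := ded_27_2 (flp_c L161344) (flp_g L161240) L168957
theorem L168962 : sm gh N15169 = N14360 := ded_28_2 (flp_c L161263) (flp_h L161242) L168957
theorem L168964 : sm gd N15169 = N14566 := ded_24_2 (flp_c L163020) (flp_d L154919) (flp_c L152706) L161237 L168957
theorem L168966 : sm ge N14357 = N15170 := rfl
theorem L168968 : sm ga N15170 = N15170 := ded_12_1 (flp_e L168966) L161239 L168966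
theorem L168969 : sm gg N15170 = N14370 := ded_36_2 (flp_e L161351) (flp_g L161240) L168966
theorem L168971 : sm gh N15170 = N14361 := ded_37_2 (flp_e L161272) (flp_h L161242) L168966
theorem L168973 : sm gd N15170 = N15159 := ded_30_1 (flp_e L168863) (flp_d L161121) (flp_e L152708) L161237 L168966
theorem L168975 : sm gf N15130 = N15170 := ded_39_5 L168969 L161356 L160826 (flp_f L160916) (flp_g L168599)
theorem L168977 : sm gd N14358 = N15171 := rfl
theorem L168979 : sm ga N15171 = N15171 := ded_11_1 (flp_d L168977) L161246 L168977
theorem L168980 : sm gf N15171 = N14371 := ded_31_2 (flp_d L161358) (flp_f L161250) L168977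
theorem L168982 : sm gg N15171 = N14359 := ded_32_2 (flp_d L161256) (flp_g L161252) L168977
theorem L168984 : sm gi N15171 = N14442 := ded_34_2 (flp_d L162073) (flp_i L161254) L168977
theorem L168986 : sm gc N15171 = N15117 := ded_24_1 L168465 L161963 L155072 (flp_c L161247) L168977
theorem L168988 : sm ge N14830 = N15171 := ded_35_5 L168980 L161367 L157882 (flp_e L157928) (flp_f L165852)
theorem L168990 : sm gc N14359 = N15172 := rfl
theorem L168992 : sm ga N15172 = N15172 := ded_10_1 (flp_c L168990) L161258 L168990
theorem L168993 : sm gf N15172 = N14360 := ded_26_2 (flp_c L161263) (flp_f L161259) L168990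
theorem L168995 : sm gg N15172 = N15117 := ded_27_2 (flp_c L168986) L168982 L168990
theorem L168997 : sm gi N15172 = N14443 := ded_29_2 (flp_c L162084) (flp_i L161261) L168990
theorem L168999 : sm gd N15172 = N14362 := ded_24_2 (flp_c L161283) (flp_d L152761) (flp_c L152725) L161256 L168990
theorem L169001 : sm ge N14359 = N15173 := rfl
theorem L169003 : sm ga N15173 = N15173 := ded_12_1 (flp_e L169001) L161258 L169001
theorem L169004 : sm gg N15173 = N14830 := ded_36_2 L168988 L168982 L169001
theorem L169006 : sm gi N15173 = N14444 := ded_38_2 (flp_e L162095) (flp_i L161261) L169001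
theorem L169008 : sm gd N15173 = N15173 := ded_30_1 (flp_e L169001) (flp_d L161256) L152727 L161256 L169001
theorem L169009 : sm gf N15173 = N14837 := ded_35_2 L165920 L161281 (flp_e L161272) (flp_f L161259) L169001
theorem L169011 : sm gb N14360 = N15174 := rfl
theorem L169013 : sm gd N15174 = N14363 := ded_18_2 (flp_b L161292) (flp_d L161270) L169011
theorem L169015 : sm gg N15174 = N14372 := ded_21_2 (flp_b L161369) (flp_g L161266) L169011
theorem L169017 : sm gi N15174 = N14445 := ded_23_2 (flp_b L162107) (flp_i L161268) L169011
theorem L169019 : sm gd N14364 = N15175 := rfl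
theorem L169021 : sm ga N15175 = N15175 := ded_11_1 (flp_d L169019) L161305 L169019
theorem L169022 : sm gg N15175 = N14836 := ded_32_2 L165910 L161322 L169019
theorem L169024 : sm ge N15175 = N14829 := ded_30_2 L165842 L161335 (flp_d L161326) (flp_e L161306) L169019
theorem L169026 : sm gh N15175 = N14373 := ded_33_2 (flp_d L161377) (flp_h L152869) (flp_d L152785) L161303 L169019
theorem L169028 : sm gc N14831 = N15175 := ded_27_3 L169022 L165904 (flp_g L165859)
theorem L169030 : sm gd N14365 = N15176 := rfl
theorem L169032 : sm ga N15176 = N15176 := ded_11_1 (flp_d L169030) L161310 L169030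
theorem L169033 : sm gg N15176 = N14367 := ded_32_2 (flp_d L161326) (flp_g L161311) L169030
theorem L169035 : sm gi N15176 = N15175 := ded_34_2 (flp_d L169019) (flp_i L161313) L169030
theorem L169037 : sm ge N15176 = N14825 := ded_30_2 L165788 (flp_e L165906) L165910 L161318 L169030
theorem L169039 : sm gh N15176 = N14371 := ded_33_2 (flp_d L161358) (flp_h L152822) (flp_d L152792) L161308 L169030
theorem L169041 : sm gc N15118 = N15176 := ded_27_3 L169033 (flp_c L161333) (flp_g L168478)
theorem L169043 : sm gb N14369 = N15177 := rfl
theorem L169045 : sm gf N15177 = N14971 := ded_20_2 L167200 (flp_f L161347) L169043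
theorem L169047 : sm gh N15177 = N14372 := ded_22_2 (flp_b L161369) (flp_h L161349) L169043
theorem L169049 : sm gh N14374 = N15178 := rfl
theorem L169051 : sm ga N15178 = N14377 := ded_15_1 (flp_h L161418) (flp_a L161390) L169049
theorem L169053 : sm gb N15178 = N14382 := ded_22_1 (flp_h L161457) (flp_b L161392) L169049
theorem L169055 : sm ge N15178 = N15178 := ded_37_1 (flp_h L169049) L161394 L169049
theorem L169056 : sm gf N15178 = N14478 := ded_40_1 (flp_h L162374) (flp_f L161395) L169049
theorem L169058 : sm gg N15178 = N14375 := ded_42_1 (flp_h L161399) (flp_g L161397) L169049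
theorem L169060 : sm gi N15178 = N15178 := ded_44_2 (flp_h L169049) (flp_i L161388) L152938 L161388 L169049
theorem L169061 : sm gd N14375 = N15179 := rfl
theorem L169063 : sm ga N15179 = N14378 := ded_11_1 (flp_d L161428) (flp_a L161401) L169061
theorem L169065 : sm gb N15179 = N14383 := ded_18_1 (flp_d L161468) (flp_b L161403) L169061
theorem L169067 : sm gf N15179 = N14376 := ded_31_2 (flp_d L161409) (flp_f L161406) L169061
theorem L169069 : sm gi N15179 = N15179 := ded_34_2 (flp_d L169061) L161408 L169061
theorem L169070 : sm gc N14376 = N15180 := rfl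
theorem L169072 : sm ga N15180 = N14379 := ded_10_1 (flp_c L161435) (flp_a L161411) L169070
theorem L169074 : sm gg N15180 = N14480 := ded_27_2 (flp_c L162394) (flp_g L161415) L169070
theorem L169076 : sm gi N15180 = N15180 := ded_29_2 (flp_c L169070) L161417 L169070
theorem L169077 : sm gc N14378 = N15181 := rfl
theorem L169079 : sm gf N15181 = N14379 := ded_26_2 (flp_c L161435) (flp_f L161432) L169077
theorem L169081 : sm gi N15181 = N15181 := ded_29_2 (flp_c L169077) L161434 L169077
theorem L169082 : sm ge N14378 = N15182 := rfl
theorem L169084 : sm gb N15182 = N14380 := ded_19_1 (flp_e L161440) (flp_b L161430) L169082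
theorem L169086 : sm gg N15182 = N14493 := ded_36_2 (flp_e L164116) L164120 L169082
theorem L169088 : sm gi N15182 = N15182 := ded_38_2 (flp_e L169082) L161434 L169082
theorem L169089 : sm gd N15182 = N15182 := ded_30_1 (flp_e L169082) (flp_d L161428) L152974 L161428 L169082
theorem L169090 : sm gb N14379 = N15183 := rfl
theorem L169092 : sm gg N15183 = N14543 := ded_21_2 (flp_b L162816) (flp_g L161437) L169090
theorem L169094 : sm gi N15183 = N15183 := ded_23_2 (flp_b L169090) L161439 L169090
theorem L169095 : sm gc N15183 = N14381 := ded_17_2 (flp_b L161450) (flp_c L153004) (flp_b L152980) L161435 L169090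
theorem L169097 : sm gh N14385 = N15184 := rfl
theorem L169099 : sm ga N15184 = N14413 := ded_15_1 (flp_h L161819) (flp_a L161489) L169097
theorem L169101 : sm gb N15184 = N15184 := ded_22_1 (flp_h L169097) L161491 L169097
theorem L169102 : sm gc N15184 = N15152 := ded_28_1 L168796 L161812 L169097
theorem L169104 : sm ge N15184 = N15184 := ded_37_1 (flp_h L169097) L161492 L169097
theorem L169105 : sm gf N15184 = N14386 := ded_40_1 (flp_h L161495) (flp_f L161493) L169097
theorem L169107 : sm gi N15184 = N15184 := ded_44_2 (flp_h L169097) (flp_i L161487) L153124 L161487 L169097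
theorem L169108 : sm gd N14386 = N15185 := rfl
theorem L169110 : sm ga N15185 = N14414 := ded_11_1 (flp_d L161827) (flp_a L161497) L169108
theorem L169112 : sm gb N15185 = N15185 := ded_18_1 (flp_d L169108) L161499 L169108
theorem L169113 : sm gg N15185 = N14779 := ded_32_2 L165230 (flp_g L161504) L169108
theorem L169115 : sm gi N15185 = N15185 := ded_34_2 (flp_d L169108) L161506 L169108
theorem L169116 : sm ge N15185 = N14767 := ded_30_2 (flp_d L165142) L157027 (flp_d L153143) (flp_e L161502) L169108
theorem L169118 : sm ge N14387 = N15186 := rfl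
theorem L169120 : sm ga N15186 = N14415 := ded_12_1 (flp_e L161832) (flp_a L161509) L169118
theorem L169122 : sm gb N15186 = N14444 := ded_19_1 (flp_e L162095) (flp_b L161511) L169118
theorem L169124 : sm gd N15186 = N15186 := ded_30_1 (flp_e L169118) L161513 L153164 (flp_d L161513) L169118
theorem L169125 : sm gf N15186 = N14696 := ded_35_2 L164485 (flp_f L161481) L161485 L161507 L169118
theorem L169127 : sm gg N14628 = N15186 := ded_14_0 L169120 L161845 (flp_a L163668)
theorem L169129 : sm gh N14627 = N15186 := ded_15_0 L169120 (flp_h L161847) (flp_a L163658)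
theorem L169131 : sm gg N14387 = N15187 := rfl
theorem L169133 : sm ga N15187 = N14416 := ded_14_1 (flp_g L161836) (flp_a L161509) L169131
theorem L169135 : sm gb N15187 = N14442 := ded_21_1 L162078 (flp_b L161511) L169131
theorem L169137 : sm gd N15187 = N14389 := ded_32_1 (flp_g L161525) (flp_d L161513) L169131
theorem L169139 : sm ge N15187 = N14628 := ded_36_1 L169127 (flp_e L169118) L169131
theorem L169141 : sm gf N15187 = N14427 := ded_39_1 L161930 L153723 (flp_g L153152) L161507 L169131
theorem L169143 : sm gh N14626 = N15187 := ded_15_0 L169133 (flp_h L161841) (flp_a L163652)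
theorem L169145 : sm gh N14387 = N15188 := rfl
theorem L169147 : sm ga N15188 = N14417 := ded_15_1 (flp_h L161849) (flp_a L161509) L169145
theorem L169149 : sm gb N15188 = N14440 := ded_22_1 L162064 (flp_b L161511) L169145
theorem L169151 : sm ge N15188 = N14627 := ded_37_1 L169129 (flp_e L169118) L169145
theorem L169153 : sm gf N15188 = N14388 := ded_40_1 (flp_h L161515) L161507 L169145
theorem L169155 : sm gg N15188 = N14626 := ded_42_1 L169143 (flp_g L169131) L169145
theorem L169157 : sm gd N15188 = N14392 := ded_33_1 (flp_h L161572) L153184 (flp_h L153162) (flp_d L161513) L169145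
theorem L169159 : sm gi N14388 = N15189 := rfl
theorem L169161 : sm ga N15189 = N14419 := ded_16_1 (flp_i L161867) (flp_a L161517) L169159
theorem L169163 : sm gb N15189 = N14441 := ded_23_1 L162071 (flp_b L161519) L169159
theorem L169165 : sm gd N15189 = N14393 := ded_34_1 (flp_i L161586) (flp_d L161523) L169159
theorem L169167 : sm gg N15189 = N14425 := ded_43_1 L161920 (flp_g L161521) L169159
theorem L169169 : sm gi N14392 = N15190 := rfl
theorem L169171 : sm ga N15190 = N14422 := ded_16_1 (flp_i L161883) (flp_a L161574) L169169
theorem L169173 : sm gb N15190 = N14439 := ded_23_1 L162057 (flp_b L161576) L169169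
theorem L169175 : sm gc N15190 = N14398 := ded_29_1 (flp_i L161656) (flp_c L161578) L169169
theorem L169177 : sm ge N15190 = N14545 := ded_38_1 L162846 (flp_e L161580) L169169
theorem L169179 : sm gf N15190 = N14393 := ded_41_1 (flp_i L161586) (flp_f L161582) L169169
theorem L169181 : sm gg N15190 = N14544 := ded_43_1 L162833 (flp_g L161584) L169169
theorem L169183 : sm gh N15190 = N14423 := ded_44_1 (flp_i L161894) (flp_h L153642) (flp_i L153186) L161572 L169169
theorem L169185 : sm gi N14396 = N15191 := rfl
theorem L169187 : sm ga N15191 = N14423 := ded_16_1 (flp_i L161894) (flp_a L161633) L169185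
theorem L169189 : sm gb N15191 = N15191 := ded_23_1 (flp_i L169185) L161635 L169185
theorem L169190 : sm gc N15191 = N14424 := ded_29_1 L161914 (flp_c L161636) L169185
theorem L169192 : sm ge N15191 = N14482 := ded_38_1 (flp_i L162412) (flp_e L161638) L169185
theorem L169194 : sm gf N15191 = N14397 := ded_41_1 (flp_i L161644) (flp_f L161640) L169185
theorem L169196 : sm gg N15191 = N14481 := ded_43_1 (flp_i L162399) (flp_g L161642) L169185
theorem L169198 : sm gh N15191 = N14422 := ded_44_1 (flp_i L161883) (flp_h L153603) (flp_i L153221) L161631 L169185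
theorem L169200 : sm gd N14399 = N15192 := rfl
theorem L169202 : sm ga N15192 = N14425 := ded_11_1 (flp_d L161916) (flp_a L161669) L169200
theorem L169204 : sm gb N15192 = N15192 := ded_18_1 (flp_d L169200) L161671 L169200
theorem L169205 : sm gg N15192 = N14419 := ded_32_2 L161870 (flp_g L161675) L169200
theorem L169207 : sm gi N15192 = N14400 := ded_34_2 (flp_d L161679) (flp_i L161677) L169200
theorem L169209 : sm gd N14404 = N15193 := rfl
theorem L169211 : sm ga N15193 = N14767 := ded_11_1 (flp_d L165142) (flp_a L161723) L169209
theorem L169213 : sm gb N15193 = N14433 := ded_18_1 (flp_d L161987) (flp_b L161725) L169209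
theorem L169215 : sm gf N15193 = N15161 := ded_31_2 L168880 (flp_f L161731) L169209
theorem L169217 : sm gg N15193 = N14633 := ded_32_2 (flp_d L163714) (flp_g L161733) L169209
theorem L169219 : sm gi N15193 = N15193 := ded_34_2 (flp_d L169209) L161735 L169209
theorem L169220 : sm ge N15193 = N14414 := ded_30_2 (flp_d L161827) L153540 (flp_d L153424) (flp_e L161729) L169209
theorem L169222 : sm gd N14406 = N15194 := rfl
theorem L169224 : sm ga N15194 = N14779 := ded_11_1 L165230 (flp_a L161753) L169222
theorem L169226 : sm gb N15194 = N14434 := ded_18_1 (flp_d L161997) (flp_b L161755) L169222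
theorem L169228 : sm gf N15194 = N14539 := ded_31_2 L162795 (flp_f L161759) L169222
theorem L169230 : sm gg N15194 = N14414 := ded_32_2 (flp_d L161827) (flp_g L161761) L169222
theorem L169232 : sm gi N15194 = N15194 := ded_34_2 (flp_d L169222) L161763 L169222
theorem L169233 : sm ge N15194 = N14633 := ded_30_2 (flp_d L163714) L155541 (flp_d L153482) (flp_e L161757) L169222
theorem L169235 : sm ge N14407 = N15195 := rfl
theorem L169237 : sm ga N15195 = N14696 := ded_12_1 L164485 (flp_a L161766) L169235
theorem L169239 : sm gb N15195 = N15195 := ded_19_1 (flp_e L169235) L161768 L169235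
theorem L169240 : sm gg N15195 = N14580 := ded_36_2 L163144 (flp_g L161771) L169235
theorem L169242 : sm gd N15195 = N15195 := ded_30_1 (flp_e L169235) L161769 L153496 (flp_d L161769) L169235
theorem L169243 : sm gf N15195 = N14415 := ded_35_2 (flp_e L161832) (flp_f L153543) (flp_e L153488) L161764 L169235
theorem L169245 : sm gh N14762 = N15195 := ded_15_0 L169237 L164487 (flp_a L165094)
theorem L169247 : sm gh N14407 = N15196 := rfl
theorem L169249 : sm ga N15196 = N14506 := ded_15_1 L162581 (flp_a L161766) L169247
theorem L169251 : sm gb N15196 = N15196 := ded_22_1 (flp_h L169247) L161768 L169247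
theorem L169252 : sm ge N15196 = N14762 := ded_37_1 L169245 (flp_e L169235) L169247
theorem L169254 : sm gf N15196 = N14408 := ded_40_1 (flp_h L161773) L161764 L169247
theorem L169256 : sm gg N15196 = N14449 := ded_42_1 L162142 (flp_g L161771) L169247
theorem L169258 : sm gd N15196 = N15196 := ded_33_1 (flp_h L169247) L161769 L153495 (flp_d L161769) L169247
theorem L169259 : sm gi N14407 = N15197 := rfl
theorem L169261 : sm ga N15197 = N15016 := ded_16_1 (flp_i L167596) (flp_a L161766) L169259
theorem L169263 : sm gb N15197 = N15197 := ded_23_1 (flp_i L169259) L161768 L169259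
theorem L169264 : sm gd N15197 = N14410 := ded_34_1 (flp_i L161786) (flp_d L161769) L169259
theorem L169266 : sm gf N15197 = N14409 := ded_41_1 (flp_i L161779) L161764 L169259
theorem L169268 : sm gg N15197 = N14874 := ded_43_1 (flp_i L166293) (flp_g L161771) L169259
theorem L169270 : sm gi N14408 = N15198 := rfl
theorem L169272 : sm gb N15198 = N15198 := ded_23_1 (flp_i L169270) L161775 L169270
theorem L169273 : sm gd N15198 = N15198 := ded_34_1 (flp_i L169270) L161778 L169270
theorem L169274 : sm ge N15198 = N14419 := ded_38_1 (flp_i L161867) (flp_e L161776) L169270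
theorem L169276 : sm gh N14409 = N15199 := rfl
theorem L169278 : sm gb N15199 = N15199 := ded_22_1 (flp_h L169276) L161781 L169276
theorem L169279 : sm ge N15199 = N14420 := ded_37_1 (flp_h L161872) (flp_e L161784) L169276
theorem L169281 : sm gh N14410 = N15200 := rfl
theorem L169283 : sm ga N15200 = N15152 := ded_15_1 L168796 L161808 L169281
theorem L169285 : sm gb N15200 = N15200 := ded_22_1 (flp_h L169281) L161788 L169281
theorem L169286 : sm gc N15200 = N14413 := ded_28_1 (flp_h L161819) (flp_c L161789) L169281
theorem L169288 : sm ge N15200 = N15200 := ded_37_1 (flp_h L169281) L161791 L169281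
theorem L169289 : sm gf N15200 = N14411 := ded_40_1 (flp_h L161796) (flp_f L161792) L169281
theorem L169291 : sm gg N15200 = N15184 := ded_42_1 (flp_h L169097) (flp_g L161794) L169281
theorem L169293 : sm gi N15200 = N15200 := ded_44_2 (flp_h L169281) (flp_i L161786) L153495 L161786 L169281
theorem L169294 : sm gd N14411 = N15201 := rfl
theorem L169296 : sm ga N15201 = N15151 := ded_11_1 L168790 (flp_a L161798) L169294
theorem L169298 : sm gb N15201 = N15201 := ded_18_1 (flp_d L169294) L161800 L169294
theorem L169299 : sm gi N15201 = N15201 := ded_34_2 (flp_d L169294) L161805 L169294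
theorem L169300 : sm ge N15201 = N15141 := ded_30_2 (flp_d L168695) L160979 (flp_d L153514) (flp_e L161803) L169294
theorem L169302 : sm gd N14413 = N15202 := rfl
theorem L169304 : sm gb N15202 = N14435 := ded_18_1 (flp_d L162005) (flp_b L161821) L169302
theorem L169306 : sm gf N15202 = N14414 := ded_31_2 (flp_d L161827) (flp_f L161824) L169302
theorem L169308 : sm gi N15202 = N15202 := ded_34_2 (flp_d L169302) L161826 L169302
theorem L169309 : sm gc N14414 = N15203 := rfl
theorem L169311 : sm gi N15203 = N15203 := ded_29_2 (flp_c L169309) L161831 L169309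
theorem L169312 : sm gi N14415 = N15204 := rfl
theorem L169314 : sm gb N15204 = N15204 := ded_23_1 (flp_i L169312) L161834 L169312
theorem L169315 : sm gd N15204 = N15204 := ded_34_1 (flp_i L169312) L161835 L169312
theorem L169316 : sm ge N15204 = N14418 := ded_38_1 (flp_i L161860) L161832 L169312
theorem L169318 : sm gg N15204 = N14772 := ded_43_1 (flp_i L165180) (flp_g L161845) L169312
theorem L169320 : sm gi N14416 = N15205 := rfl
theorem L169322 : sm gb N15205 = N15205 := ded_23_1 (flp_i L169320) L161838 L169320
theorem L169323 : sm gd N15205 = N14421 := ded_34_1 (flp_i L161875) (flp_d L161839) L169320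
theorem L169325 : sm ge N15205 = N14772 := ded_38_1 (flp_i L165180) L161843 L169320
theorem L169327 : sm gg N15205 = N14418 := ded_43_1 (flp_i L161860) L161836 L169320
theorem L169329 : sm gi N14417 = N15206 := rfl
theorem L169331 : sm gb N15206 = N15206 := ded_23_1 (flp_i L169329) L161851 L169329
theorem L169332 : sm gd N15206 = N14422 := ded_34_1 (flp_i L161883) (flp_d L161858) L169329
theorem L169334 : sm ge N15206 = N14771 := ded_38_1 (flp_i L165173) (flp_e L161852) L169329
theorem L169336 : sm gf N15206 = N14419 := ded_41_1 (flp_i L161867) (flp_f L161854) L169329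
theorem L169338 : sm gg N15206 = N14770 := ded_43_1 (flp_i L165166) (flp_g L161856) L169329
theorem L169340 : sm gh N14418 = N15207 := rfl
theorem L169342 : sm gb N15207 = N15207 := ded_22_1 (flp_h L169340) L161862 L169340
theorem L169343 : sm gf N15207 = N14420 := ded_40_1 (flp_h L161872) (flp_f L161865) L169340
theorem L169345 : sm gh N14419 = N15208 := rfl
theorem L169347 : sm gb N15208 = N15208 := ded_22_1 (flp_h L169345) L161869 L169345
theorem L169348 : sm gi N15208 = N14420 := ded_44_2 (flp_h L161872) (flp_i L153553) L153548 L161867 L169345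
theorem L169350 : sm gc N14425 = N15209 := rfl
theorem L169352 : sm gi N15209 = N14426 := ded_29_2 (flp_c L161922) (flp_i L161920) L169350
theorem L169354 : sm gd N14432 = N15210 := rfl
theorem L169356 : sm ga N15210 = N15210 := ded_11_1 (flp_d L169354) L161975 L169354
theorem L169357 : sm gb N15210 = N14633 := ded_18_1 (flp_d L163714) (flp_b L161976) L169354
theorem L169359 : sm gf N15210 = N14570 := ded_31_2 L163056 (flp_f L161982) L169354
theorem L169361 : sm gg N15210 = N14433 := ded_32_2 (flp_d L161987) (flp_g L161984) L169354
theorem L169363 : sm gi N15210 = N15210 := ded_34_2 (flp_d L169354) L161986 L169354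
theorem L169364 : sm gc N15210 = N15160 := ded_24_1 (flp_d L168870) L161131 (flp_d L155093) (flp_c L161978) L169354
theorem L169366 : sm ge N15210 = N14434 := ded_30_2 (flp_d L161997) L153825 (flp_d L153794) (flp_e L161980) L169354
theorem L169368 : sm gc N14434 = N15211 := rfl
theorem L169370 : sm ga N15211 = N15211 := ded_10_1 (flp_c L169368) L161999 L169368
theorem L169371 : sm ge N15211 = N15160 := ded_25_2 (flp_c L169364) L169366 L169368
theorem L169373 : sm gf N15211 = N14572 := ded_26_2 L163066 (flp_f L162000) L169368
theorem L169375 : sm gg N15211 = N14436 := ded_27_2 (flp_c L162011) (flp_g L162002) L169368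
theorem L169377 : sm gi N15211 = N15211 := ded_29_2 (flp_c L169368) L162004 L169368
theorem L169378 : sm gd N15211 = N15211 := ded_24_2 (flp_c L169368) (flp_d L161997) L153824 L161997 L169368
theorem L169379 : sm gc N14435 = N15212 := rfl
theorem L169381 : sm ga N15212 = N15212 := ded_10_1 (flp_c L169379) L162007 L169379
theorem L169382 : sm gf N15212 = N14436 := ded_26_2 (flp_c L162011) (flp_f L162008) L169379
theorem L169384 : sm gi N15212 = N15212 := ded_29_2 (flp_c L169379) L162010 L169379
theorem L169385 : sm gd N15212 = N15212 := ded_24_2 (flp_c L169379) (flp_d L162005) L153844 L162005 L169379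
theorem L169386 : sm ge N15163 = N15212 := ded_35_5 L169382 L162014 L161142 L161153 L168894
theorem L169388 : sm ge N14435 = N15213 := rfl
theorem L169390 : sm ga N15213 = N15213 := ded_12_1 (flp_e L169388) L162007 L169388
theorem L169391 : sm gc N15213 = N15163 := ded_25_1 L169386 (flp_c L169379) L169388
theorem L169393 : sm gg N15213 = N15212 := ded_36_2 (flp_e L169386) L168900 L169388
theorem L169395 : sm gi N15213 = N15213 := ded_38_2 (flp_e L169388) L162010 L169388
theorem L169396 : sm gd N15213 = N15213 := ded_30_1 (flp_e L169388) (flp_d L162005) L153845 L162005 L169388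
theorem L169397 : sm gf N15213 = N15162 := ded_35_2 (flp_e L168885) (flp_f L161990) L161995 (flp_f L162008) L169388
theorem L169399 : sm gb N14436 = N15214 := rfl
theorem L169401 : sm gd N15214 = N15214 := ded_18_2 (flp_b L169399) L162017 L169399
theorem L169402 : sm ge N15214 = N15149 := ded_19_2 L168771 (flp_e L162014) L169399
theorem L169404 : sm gi N15214 = N15214 := ded_23_2 (flp_b L169399) L162016 L169399
theorem L169405 : sm gd N14439 = N15215 := rfl
theorem L169407 : sm ga N15215 = N15215 := ded_11_1 (flp_d L169405) L162049 L169405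
theorem L169408 : sm gf N15215 = N14441 := ded_31_2 (flp_d L162066) (flp_f L162053) L169405
theorem L169410 : sm gg N15215 = N14575 := ded_32_2 (flp_d L163088) (flp_g L162055) L169405
theorem L169412 : sm gi N15215 = N14440 := ded_34_2 (flp_d L162059) (flp_i L162057) L169405
theorem L169414 : sm ge N15215 = N15172 := ded_30_2 L168999 L163107 (flp_d L163093) (flp_e L162051) L169405
theorem L169416 : sm gc N15173 = N15215 := ded_26_3 L169408 (flp_c L165917) (flp_f L169009)
theorem L169418 : sm ge N14446 = N15216 := rfl
theorem L169420 : sm gb N15216 = N14447 := ded_19_1 (flp_e L162120) L162113 L169418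
theorem L169422 : sm gc N15216 = N15216 := ded_25_1 (flp_e L169418) L162119 L169418
theorem L169423 : sm gh N15216 = N14868 := ded_37_2 (flp_e L166251) (flp_h L162117) L169418
theorem L169425 : sm gi N14446 = N15217 := rfl
theorem L169427 : sm gb N15217 = N14448 := ded_23_1 (flp_i L162128) L162113 L169425
theorem L169429 : sm gc N15217 = N15217 := ded_29_1 (flp_i L169425) L162119 L169425
theorem L169430 : sm gd N15217 = N14452 := ded_34_1 (flp_i L162161) (flp_d L162115) L169425
theorem L169432 : sm gd N14447 = N15218 := rfl
theorem L169434 : sm ga N15218 = N14502 := ded_11_1 (flp_d L162547) (flp_a L162122) L169432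
theorem L169436 : sm gc N15218 = N15218 := ded_24_1 (flp_d L169432) L162124 L154011 (flp_c L162124) L169432
theorem L169437 : sm ge N15218 = N14453 := ded_30_2 (flp_d L162167) (flp_e L154025) (flp_d L154002) L162120 L169432
theorem L169439 : sm gf N15216 = N15218 := ded_35_0 L169437 (flp_f L164793) L164798 L164732 L169418
theorem L169441 : sm gf N14447 = N15219 := rfl
theorem L169443 : sm ga N15219 = N14503 := ded_13_1 (flp_f L162552) (flp_a L162122) L169441
theorem L169445 : sm gb N15219 = N15218 := ded_20_1 (flp_f L169439) L169420 L169441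
theorem L169447 : sm gc N15219 = N14449 := ded_26_1 (flp_f L162136) (flp_c L162124) L169441
theorem L169449 : sm gd N15219 = N15216 := ded_31_1 L169439 (flp_d L169432) L169441
theorem L169451 : sm gh N15219 = N14871 := ded_40_2 (flp_f L166273) (flp_h L162126) L169441
theorem L169453 : sm ge N15219 = N14729 := ded_35_1 (flp_f L164824) (flp_e L158103) L158105 L162120 L169441
theorem L169455 : sm gi N14447 = N15220 := rfl
theorem L169457 : sm ga N15220 = N14504 := ded_16_1 (flp_i L162562) (flp_a L162122) L169455
theorem L169459 : sm gc N15220 = N14450 := ded_29_1 (flp_i L162146) (flp_c L162124) L169455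
theorem L169461 : sm ge N15220 = N14448 := ded_38_1 (flp_i L162128) L162120 L169455
theorem L169463 : sm gh N14448 = N15221 := rfl
theorem L169465 : sm ga N15221 = N14505 := ded_15_1 (flp_h L162568) (flp_a L162130) L169463
theorem L169467 : sm gc N15221 = N14451 := ded_28_1 (flp_h L162154) (flp_c L162132) L169463
theorem L169469 : sm gi N15221 = N14873 := ded_44_2 (flp_h L166287) (flp_i L158491) (flp_h L154000) L162128 L169463
theorem L169471 : sm gi N14449 = N15222 := rfl
theorem L169473 : sm ga N15222 = N14507 := ded_16_1 (flp_i L162583) (flp_a L162138) L169471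
theorem L169475 : sm gb N15222 = N15222 := ded_23_1 (flp_i L169471) L162140 L169471
theorem L169476 : sm gd N15222 = N15222 := ded_34_1 (flp_i L169471) L162141 L169471
theorem L169477 : sm ge N15222 = N14763 := ded_38_1 (flp_i L165101) (flp_e L162144) L169471
theorem L169479 : sm gf N15222 = N14450 := ded_41_1 (flp_i L162146) L162136 L169471
theorem L169481 : sm gh N14450 = N15223 := rfl
theorem L169483 : sm ga N15223 = N14508 := ded_15_1 (flp_h L162592) (flp_a L162148) L169481
theorem L169485 : sm gb N15223 = N15223 := ded_22_1 (flp_h L169481) L162150 L169481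
theorem L169486 : sm ge N15223 = N14451 := ded_37_1 (flp_h L162154) (flp_e L162152) L169481
theorem L169488 : sm gi N15223 = N14875 := ded_44_2 (flp_h L166302) (flp_i L158506) (flp_h L154009) L162146 L169481
theorem L169490 : sm gh N14452 = N15224 := rfl
theorem L169492 : sm gb N15224 = N14455 := ded_22_1 (flp_h L162180) (flp_b L162163) L169490
theorem L169494 : sm gc N15224 = N14484 := ded_28_1 (flp_h L162439) (flp_c L162165) L169490
theorem L169496 : sm gi N15224 = N14459 := ded_44_2 (flp_h L162213) (flp_i L154062) (flp_h L154021) L162161 L169490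
theorem L169498 : sm gh N14453 = N15225 := rfl
theorem L169500 : sm ga N15225 = N14510 := ded_15_1 (flp_h L162605) (flp_a L162169) L169498
theorem L169502 : sm gc N15225 = N15225 := ded_28_1 (flp_h L169498) L162171 L169498
theorem L169503 : sm gd N15225 = N14461 := ded_33_1 (flp_h L162227) (flp_d L154070) (flp_h L154031) L162167 L169498
theorem L169505 : sm gi N14453 = N15226 := rfl
theorem L169507 : sm ga N15226 = N14511 := ded_16_1 (flp_i L162610) (flp_a L162169) L169505
theorem L169509 : sm gc N15226 = N15226 := ded_29_1 (flp_i L169505) L162171 L169505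
theorem L169510 : sm gd N15226 = N14454 := ded_34_1 (flp_i L162172) L162167 L169505
theorem L169512 : sm gh N14454 = N15227 := rfl
theorem L169514 : sm ga N15227 = N14513 := ded_15_1 (flp_h L162621) (flp_a L162174) L169512
theorem L169516 : sm gc N15227 = N14456 := ded_28_1 (flp_h L162188) (flp_c L162176) L169512
theorem L169518 : sm ge N15227 = N14455 := ded_37_1 (flp_h L162180) (flp_e L162178) L169512
theorem L169520 : sm gi N15227 = N14464 := ded_44_2 (flp_h L162253) (flp_i L154084) (flp_h L154031) L162172 L169512
theorem L169522 : sm gd N14455 = N15228 := rfl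
theorem L169524 : sm ga N15228 = N14514 := ded_11_1 (flp_d L162629) (flp_a L162182) L169522
theorem L169526 : sm gi N15228 = N14465 := ded_34_2 (flp_d L162261) (flp_i L162186) L169522
theorem L169528 : sm gd N14456 = N15229 := rfl
theorem L169530 : sm ga N15229 = N14516 := ded_11_1 (flp_d L162641) (flp_a L162190) L169528
theorem L169532 : sm gb N15229 = N14486 := ded_18_1 (flp_d L162452) (flp_b L162192) L169528
theorem L169534 : sm gi N15229 = N14467 := ded_34_2 (flp_d L162275) (flp_i L162196) L169528
theorem L169536 : sm gh N15229 = N15229 := ded_33_2 (flp_d L169528) (flp_h L162188) L154045 L162188 L169528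
theorem L169537 : sm gh N14457 = N15230 := rfl
theorem L169539 : sm gb N15230 = N14461 := ded_22_1 (flp_h L162227) (flp_b L162200) L169537
theorem L169541 : sm gc N15230 = N15230 := ded_28_1 (flp_h L169537) L162202 L169537
theorem L169542 : sm ge N15230 = N14909 := ded_37_1 (flp_h L166623) (flp_e L162203) L169537
theorem L169544 : sm gi N14457 = N15231 := rfl
theorem L169546 : sm gb N15231 = N14462 := ded_23_1 (flp_i L162235) (flp_b L162200) L169544
theorem L169548 : sm gc N15231 = N15231 := ded_29_1 (flp_i L169544) L162202 L169544
theorem L169549 : sm gd N15231 = N14458 := ded_34_1 (flp_i L162205) L162198 L169544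
theorem L169551 : sm ge N15231 = N14910 := ded_38_1 (flp_i L166628) (flp_e L162203) L169544
theorem L169553 : sm gh N14458 = N15232 := rfl
theorem L169555 : sm gb N15232 = N14464 := ded_22_1 (flp_h L162253) (flp_b L162207) L169553
theorem L169557 : sm gc N15232 = N14487 := ded_28_1 (flp_h L162459) (flp_c L162209) L169553
theorem L169559 : sm ge N15232 = N14459 := ded_37_1 (flp_h L162213) (flp_e L162211) L169553
theorem L169561 : sm gd N14459 = N15233 := rfl
theorem L169563 : sm gb N15233 = N14465 := ded_18_1 (flp_d L162261) (flp_b L162215) L169561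
theorem L169565 : sm gh N15233 = N14913 := ded_33_2 (flp_d L166651) (flp_h L158812) (flp_d L154068) L162213 L169561
theorem L169567 : sm ge N14460 = N15234 := rfl
theorem L169569 : sm ga N15234 = N14517 := ded_12_1 (flp_e L162648) (flp_a L162221) L169567
theorem L169571 : sm gc N15234 = N14468 := ded_25_1 (flp_e L162283) (flp_c L162223) L169567
theorem L169573 : sm gf N15234 = N14914 := ded_35_2 (flp_e L166655) (flp_f L158818) (flp_e L154076) L162219 L169567
theorem L169575 : sm gh N14460 = N15235 := rfl
theorem L169577 : sm ga N15235 = N14519 := ded_15_1 (flp_h L162660) (flp_a L162221) L169575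
theorem L169579 : sm gc N15235 = N14470 := ded_28_1 (flp_h L162299) (flp_c L162223) L169575
theorem L169581 : sm gf N15235 = N14461 := ded_40_1 (flp_h L162227) L162219 L169575
theorem L169583 : sm gi N14460 = N15236 := rfl
theorem L169585 : sm ga N15236 = N14520 := ded_16_1 (flp_i L162666) (flp_a L162221) L169583
theorem L169587 : sm gc N15236 = N14471 := ded_29_1 (flp_i L162307) (flp_c L162223) L169583
theorem L169589 : sm gd N15236 = N14463 := ded_34_1 (flp_i L162245) (flp_d L162225) L169583
theorem L169591 : sm gf N15236 = N14462 := ded_41_1 (flp_i L162235) L162219 L169583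
theorem L169593 : sm gi N14461 = N15237 := rfl
theorem L169595 : sm ga N15237 = N14521 := ded_16_1 (flp_i L162674) (flp_a L162229) L169593
theorem L169597 : sm gc N15237 = N14472 := ded_29_1 (flp_i L162316) (flp_c L162231) L169593
theorem L169599 : sm ge N15237 = N14918 := ded_38_1 (flp_i L166693) (flp_e L162233) L169593
theorem L169601 : sm gh N14462 = N15238 := rfl
theorem L169603 : sm ga N15238 = N14522 := ded_15_1 (flp_h L162680) (flp_a L162237) L169601
theorem L169605 : sm gc N15238 = N14473 := ded_28_1 (flp_h L162324) (flp_c L162239) L169601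
theorem L169607 : sm ge N15238 = N14919 := ded_37_1 (flp_h L166699) (flp_e L162243) L169601
theorem L169609 : sm gh N14463 = N15239 := rfl
theorem L169611 : sm ga N15239 = N14524 := ded_15_1 (flp_h L162692) (flp_a L162247) L169609
theorem L169613 : sm gc N15239 = N14466 := ded_28_1 (flp_h L162267) (flp_c L162249) L169609
theorem L169615 : sm gf N15239 = N14464 := ded_40_1 (flp_h L162253) (flp_f L162251) L169609
theorem L169617 : sm gd N14464 = N15240 := rfl
theorem L169619 : sm ga N15240 = N14525 := ded_11_1 (flp_d L162698) (flp_a L162255) L169617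
theorem L169621 : sm ge N14465 = N15241 := rfl
theorem L169623 : sm ga N15241 = N14526 := ded_12_1 (flp_e L162700) (flp_a L162263) L169621
theorem L169625 : sm gh N15241 = N14923 := ded_37_2 (flp_e L166725) (flp_h L162265) L169621
theorem L169627 : sm gd N14466 = N15242 := rfl
theorem L169629 : sm ga N15242 = N14528 := ded_11_1 (flp_d L162710) (flp_a L162269) L169627
theorem L169631 : sm gb N15242 = N14491 := ded_18_1 (flp_d L162482) (flp_b L162271) L169627
theorem L169633 : sm gf N15242 = N14467 := ded_31_2 (flp_d L162275) (flp_f L162273) L169627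
theorem L169635 : sm gh N15242 = N14479 := ded_33_2 (flp_d L162385) (flp_h L154195) (flp_d L154104) L162267 L169627
theorem L169637 : sm gc N14467 = N15243 := rfl
theorem L169639 : sm ga N15243 = N14529 := ded_10_1 (flp_c L162718) (flp_a L162277) L169637
theorem L169641 : sm gh N15243 = N14480 := ded_28_2 (flp_c L162394) (flp_h L162281) L169637
theorem L169643 : sm gi N14468 = N15244 := rfl
theorem L169645 : sm ga N15244 = N14530 := ded_16_1 (flp_i L162722) (flp_a L162285) L169643
theorem L169647 : sm gb N15244 = N15244 := ded_23_1 (flp_i L169643) L162287 L169643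
theorem L169648 : sm gd N15244 = N14481 := ded_34_1 (flp_i L162399) (flp_d L162288) L169643
theorem L169650 : sm ge N15244 = N14471 := ded_38_1 (flp_i L162307) L162283 L169643
theorem L169652 : sm gf N15244 = N14934 := ded_41_1 (flp_i L166840) (flp_f L162290) L169643
theorem L169654 : sm gi N14469 = N15245 := rfl
theorem L169656 : sm ga N15245 = N14531 := ded_16_1 (flp_i L162732) (flp_a L162294) L169654
theorem L169658 : sm gb N15245 = N15245 := ded_23_1 (flp_i L169654) L162296 L169654
theorem L169659 : sm gd N15245 = N14474 := ded_34_1 (flp_i L162331) (flp_d L162297) L169654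
theorem L169661 : sm gg N15245 = N14471 := ded_43_1 (flp_i L162307) L162292 L169654
theorem L169663 : sm gi N14470 = N15246 := rfl
theorem L169665 : sm ga N15246 = N14532 := ded_16_1 (flp_i L162740) (flp_a L162301) L169663
theorem L169667 : sm gb N15246 = N15246 := ded_23_1 (flp_i L169663) L162303 L169663
theorem L169668 : sm gd N15246 = N15246 := ded_34_1 (flp_i L169663) L162306 L169663
theorem L169669 : sm gf N15246 = N14472 := ded_41_1 (flp_i L162316) (flp_f L162304) L169663
theorem L169671 : sm gh N14471 = N15247 := rfl
theorem L169673 : sm ga N15247 = N14533 := ded_15_1 (flp_h L162747) (flp_a L162309) L169671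
theorem L169675 : sm gb N15247 = N15247 := ded_22_1 (flp_h L169671) L162311 L169671
theorem L169676 : sm gf N15247 = N14473 := ded_40_1 (flp_h L162324) (flp_f L162314) L169671
theorem L169678 : sm gh N14472 = N15248 := rfl
theorem L169680 : sm ga N15248 = N14534 := ded_15_1 (flp_h L162753) (flp_a L162318) L169678
theorem L169682 : sm gb N15248 = N15248 := ded_22_1 (flp_h L169678) L162320 L169678
theorem L169683 : sm ge N15248 = N14938 := ded_37_1 (flp_h L166878) (flp_e L162322) L169678
theorem L169685 : sm gi N15248 = N14473 := ded_44_2 (flp_h L162324) (flp_i L154131) L154123 L162316 L169678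
theorem L169687 : sm gd N14473 = N15249 := rfl
theorem L169689 : sm ga N15249 = N14535 := ded_11_1 (flp_d L162761) (flp_a L162326) L169687
theorem L169691 : sm gb N15249 = N15249 := ded_18_1 (flp_d L169687) L162328 L169687
theorem L169692 : sm gh N15249 = N14476 := ded_33_2 (flp_d L162354) (flp_h L154161) (flp_d L154136) L162324 L169687
theorem L169694 : sm gh N14474 = N15250 := rfl
theorem L169696 : sm ga N15250 = N14536 := ded_15_1 (flp_h L162767) (flp_a L162333) L169694
theorem L169698 : sm gb N15250 = N15250 := ded_22_1 (flp_h L169694) L162335 L169694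

end Cfsg.Agent.Helper28.FibA
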