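import Cfsg.Agent.Helper28.FibB12

/-! # The Fi₂₂ presentation, cosets of the subgroup generated by b, …, i: the coset enumeration, part 13 (helper28; generated) -/

set_option autoImplicit false

noncomputable section

namespace Cfsg.Agent.Helper28.FibA

open Cfsg.Agent.Helper28.CosetTable

theorem L169699 : sm gc N15250 = N14478 := ded_28_1 (flp_h L162374) (flp_c L162336) L169694
theorem L169701 : sm ge N15250 = N14483 := ded_37_1 (flp_h L162426) (flp_e L162338) L169694
theorem L169703 : sm gg N15250 = N14475 := ded_42_1 (flp_h L162342) (flp_g L162340) L169694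
theorem L169705 : sm gi N15250 = N15250 := ded_44_2 (flp_h L169694) (flp_i L162331) L154149 L162331 L169694
theorem L169706 : sm gd N14475 = N15251 := rfl
theorem L169708 : sm ga N15251 = N14537 := ded_11_1 (flp_d L162778) (flp_a L162344) L169706
theorem L169710 : sm gb N15251 = N15251 := ded_18_1 (flp_d L169706) L162346 L169706
theorem L169711 : sm gf N15251 = N14476 := ded_31_2 (flp_d L162354) (flp_f L162351) L169706
theorem L169713 : sm gi N15251 = N15251 := ded_34_2 (flp_d L169706) L162353 L169706
theorem L169714 : sm ge N15251 = N14777 := ded_30_2 (flp_d L165215) L157110 (flp_d L154272) (flp_e L162349) L169706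
theorem L169716 : sm gc N14476 = N15252 := rfl
theorem L169718 : sm ga N15252 = N14538 := ded_10_1 (flp_c L162785) (flp_a L162356) L169716
theorem L169720 : sm gi N15252 = N15252 := ded_29_2 (flp_c L169716) L162359 L169716
theorem L169721 : sm gd N15252 = N14480 := ded_24_2 (flp_c L162394) (flp_d L154206) (flp_c L154166) L162354 L169716
theorem L169723 : sm ge N14476 = N15253 := rfl
theorem L169725 : sm ga N15253 = N14539 := ded_12_1 (flp_e L162790) (flp_a L162356) L169723
theorem L169727 : sm gb N15253 = N15253 := ded_19_1 (flp_e L169723) L162358 L169723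
theorem L169728 : sm gg N15253 = N15201 := ded_36_2 L169300 L168700 L169723
theorem L169730 : sm gi N15253 = N15253 := ded_38_2 (flp_e L169723) L162359 L169723
theorem L169731 : sm gd N15253 = N14477 := ded_30_1 (flp_e L162360) (flp_d L154171) (flp_e L154168) L162354 L169723
theorem L169733 : sm gf N15253 = N14779 := ded_35_2 (flp_e L165226) (flp_f L165218) (flp_e L169714) L169711 L169723
theorem L169735 : sm gc N14479 = N15254 := rfl
theorem L169737 : sm ga N15254 = N14541 := ded_10_1 (flp_c L162804) (flp_a L162387) L169735
theorem L169739 : sm gf N15254 = N14480 := ded_26_2 (flp_c L162394) (flp_f L162391) L169735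
theorem L169741 : sm gi N15254 = N15254 := ded_29_2 (flp_c L169735) L162393 L169735
theorem L169742 : sm gb N14480 = N15255 := rfl
theorem L169744 : sm gi N15255 = N15255 := ded_23_2 (flp_b L169742) L162398 L169742
theorem L169745 : sm gc N15255 = N14493 := ded_17_2 (flp_b L162496) (flp_c L154373) (flp_b L154210) L162394 L169742
theorem L169747 : sm gd N14484 = N15256 := rfl
theorem L169749 : sm gb N15256 = N14485 := ded_18_1 (flp_d L162445) (flp_b L162441) L169747
theorem L169751 : sm gi N15256 = N14488 := ded_34_2 (flp_d L162465) (flp_i L162443) L169747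
theorem L169753 : sm gh N15256 = N15256 := ded_33_2 (flp_d L169747) (flp_h L162439) L154302 L162439 L169747
theorem L169754 : sm ge N14485 = N15257 := rfl
theorem L169756 : sm ga N15257 = N14497 := ded_12_1 (flp_e L162519) (flp_a L162447) L169754
theorem L169758 : sm gh N15257 = N15257 := ded_37_2 (flp_e L169754) L162451 L169754
theorem L169759 : sm gi N15257 = N14490 := ded_38_2 (flp_e L162476) (flp_i L162449) L169754
theorem L169761 : sm gc N14486 = N15258 := rfl
theorem L169763 : sm ga N15258 = N14498 := ded_10_1 (flp_c L162524) (flp_a L162454) L169761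
theorem L169765 : sm gh N15258 = N15258 := ded_28_2 (flp_c L169761) L162458 L169761
theorem L169766 : sm gi N15258 = N14492 := ded_29_2 (flp_c L162490) (flp_i L162456) L169761
theorem L169768 : sm gd N14487 = N15259 := rfl
theorem L169770 : sm gb N15259 = N14489 := ded_18_1 (flp_d L162471) (flp_b L162461) L169768
theorem L169772 : sm gh N15259 = N15259 := ded_33_2 (flp_d L169768) (flp_h L162459) L154323 L162459 L169768
theorem L169773 : sm gc N14488 = N15260 := rfl
theorem L169775 : sm gh N15260 = N14494 := ded_28_2 (flp_c L162500) (flp_h L162469) L169773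
theorem L169777 : sm ge N14488 = N15261 := rfl
theorem L169779 : sm gb N15261 = N14490 := ded_19_1 (flp_e L162476) (flp_b L162467) L169777
theorem L169781 : sm gh N15261 = N14495 := ded_37_2 (flp_e L162505) (flp_h L162469) L169777
theorem L169783 : sm gc N14489 = N15262 := rfl
theorem L169785 : sm ga N15262 = N14499 := ded_10_1 (flp_c L162529) (flp_a L162473) L169783
theorem L169787 : sm gh N15262 = N15262 := ded_28_2 (flp_c L169783) L162475 L169783
theorem L169788 : sm gd N15262 = N14492 := ded_24_2 (flp_c L162490) (flp_d L154350) (flp_c L154334) L162471 L169783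
theorem L169790 : sm ge N14489 = N15263 := rfl
theorem L169792 : sm ga N15263 = N14500 := ded_12_1 (flp_e L162534) (flp_a L162473) L169790
theorem L169794 : sm gh N15263 = N15263 := ded_37_2 (flp_e L169790) L162475 L169790
theorem L169795 : sm gd N15263 = N14490 := ded_30_1 (flp_e L162476) (flp_d L154338) (flp_e L154336) L162471 L169790
theorem L169797 : sm gf N14490 = N15264 := rfl
theorem L169799 : sm ga N15264 = N14501 := ded_13_1 (flp_f L162539) (flp_a L162478) L169797
theorem L169801 : sm gc N15264 = N14557 := ded_26_1 L164055 L164047 L169797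
theorem L169803 : sm gh N15264 = N14496 := ded_40_2 (flp_f L162511) (flp_h L162480) L169797
theorem L169805 : sm gb N14492 = N15265 := rfl
theorem L169807 : sm gh N15265 = N14493 := ded_22_2 (flp_b L162496) (flp_h L162494) L169805
theorem L169809 : sm ga N14493 = N15266 := rfl
theorem L169811 : sm gd N15266 = N15266 := ded_11_2 (flp_a L169809) L162498 L169809
theorem L169812 : sm gf N15266 = N14495 := ded_13_2 (flp_a L167124) L167132 L169809
theorem L169814 : sm gi N15266 = N15266 := ded_16_2 (flp_a L169809) L162499 L169809
theorem L169815 : sm gb N15266 = N14496 := ded_9_2 L162513 (flp_b L154421) (flp_a L154375) L162496 L169809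
theorem L169817 : sm ge N14494 = N15267 := rfl
theorem L169819 : sm gc N15267 = N14495 := ded_25_1 (flp_e L162505) L162500 L169817
theorem L169821 : sm gi N15267 = N15267 := ded_38_2 (flp_e L169817) L162502 L169817
theorem L169822 : sm gf N14502 = N15268 := rfl
theorem L169824 : sm ga N15268 = N15216 := ded_13_1 L169439 L169434 L169822
theorem L169826 : sm gb N15268 = N14863 := ded_20_1 (flp_f L167455) L167453 L169822
theorem L169828 : sm gc N15268 = N15268 := ded_26_1 (flp_f L169822) L162549 L169822
theorem L169829 : sm gd N15268 = N14503 := ded_31_1 (flp_f L162552) L162547 L169822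
theorem L169831 : sm gg N14868 = N15268 := ded_47_1 (flp_f L169822) L162550 (flp_d L154463) L145610 L136604 L128510 (flp_g L125490) L133684 (flp_e L139311) L139310 L139308 (flp_b L138875) (flp_h L148013) L156693 L156704 (flp_e L150652) L141428 L132469 (flp_b L132442) L124544 L124542 (flp_f L122264) (flp_e L129059) L129065 L127477 (flp_b L127908) (flp_h L127905) L74423 L54403 L39872 L29225 L21491 L21489 L15817 L15816 (flp_f L21519) L21518 (flp_d L29255) (flp_c L39287) (flp_b L53542) L73308 (flp_g L126788) L126787 L134959 (flp_d L140971) (flp_c L150048) (flp_b L158586) L158592 (flp_g L158699) (flp_f L163219) (flp_e L163207) (flp_d L159600) L159594 L151141 (flp_h L151137) (flp_g L149555) L149553 L154004 L154011 (flp_c L162124) (flp_b L169420) L169423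
theorem L169833 : sm ge N14862 = N15268 := ded_12_0 L169824 (flp_e L169418) (flp_a L166197)
theorem L169835 : sm gh N14502 = N15269 := rfl
theorem L169837 : sm gc N15269 = N15269 := ded_28_1 (flp_h L169835) L162549 L169835
theorem L169838 : sm ge N15269 = N14510 := ded_37_1 (flp_h L162605) (flp_e L162550) L169835
theorem L169840 : sm gd N15269 = N15010 := ded_33_1 (flp_h L167556) (flp_d L159892) (flp_h L154433) L162547 L169835
theorem L169842 : sm gi N14502 = N15270 := rfl
theorem L169844 : sm gc N15270 = N15270 := ded_29_1 (flp_i L169842) L162549 L169842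
theorem L169845 : sm gd N15270 = N14504 := ded_34_1 (flp_i L162562) L162547 L169842
theorem L169847 : sm ge N15270 = N14511 := ded_38_1 (flp_i L162610) (flp_e L162550) L169842
theorem L169849 : sm gg N14503 = N15271 := rfl
theorem L169851 : sm gb N15271 = N14870 := ded_21_1 L166267 (flp_b L162554) L169849
theorem L169853 : sm gc N15271 = N14506 := ded_27_1 (flp_g L162574) (flp_c L162556) L169849
theorem L169855 : sm gd N15271 = N14868 := ded_32_1 L169831 L169829 L169849
theorem L169857 : sm ge N15271 = N14881 := ded_36_1 L166367 (flp_e L162560) L169849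
theorem L169859 : sm gh N15271 = N15012 := ded_42_2 (flp_g L167570) (flp_h L162558) L169849
theorem L169861 : sm gi N14503 = N15272 := rfl
theorem L169863 : sm gb N15272 = N15101 := ded_23_1 L168316 (flp_b L162554) L169861
theorem L169865 : sm gc N15272 = N14507 := ded_29_1 (flp_i L162583) (flp_c L162556) L169861
theorem L169867 : sm ge N15272 = N15100 := ded_38_1 L168308 (flp_e L162560) L169861
theorem L169869 : sm gf N15272 = N14504 := ded_41_1 (flp_i L162562) L162552 L169861
theorem L169871 : sm gh N14504 = N15273 := rfl
theorem L169873 : sm gc N15273 = N14508 := ded_28_1 (flp_h L162592) (flp_c L162564) L169871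
theorem L169875 : sm ge N15273 = N14505 := ded_37_1 (flp_h L162568) (flp_e L162566) L169871
theorem L169877 : sm gi N15273 = N15014 := ded_44_2 (flp_h L167586) (flp_i L159902) (flp_h L154433) L162562 L169871
theorem L169879 : sm gd N14505 = N15274 := rfl
theorem L169881 : sm gi N15274 = N15015 := ded_34_2 (flp_d L167592) (flp_i L162572) L169879
theorem L169883 : sm gh N15274 = N14514 := ded_33_2 (flp_d L162629) (flp_h L154478) (flp_d L154439) L162568 L169879
theorem L169885 : sm gi N14506 = N15275 := rfl
theorem L169887 : sm gb N15275 = N14558 := ded_23_1 (flp_i L162961) (flp_b L162576) L169885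
theorem L169889 : sm gd N15275 = N15275 := ded_34_1 (flp_i L169885) L162578 L169885
theorem L169890 : sm ge N15275 = N15174 := ded_38_1 L169017 (flp_e L162579) L169885
theorem L169892 : sm gg N15275 = N14507 := ded_43_1 (flp_i L162583) L162574 L169885
theorem L169894 : sm gh N14507 = N15276 := rfl
theorem L169896 : sm gb N15276 = N14559 := ded_22_1 (flp_h L162971) (flp_b L162585) L169894
theorem L169898 : sm ge N15276 = N15177 := ded_37_1 L169047 (flp_e L162588) L169894
theorem L169900 : sm gf N15276 = N14508 := ded_40_1 (flp_h L162592) (flp_f L162590) L169894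
theorem L169902 : sm gi N15276 = N15017 := ded_44_2 (flp_h L167604) (flp_i L159918) (flp_h L154446) L162583 L169894
theorem L169904 : sm gd N14508 = N15277 := rfl
theorem L169906 : sm gb N15277 = N14560 := ded_18_1 (flp_d L162982) (flp_b L162594) L169904
theorem L169908 : sm gi N15277 = N15018 := ded_34_2 (flp_d L167610) (flp_i L162598) L169904
theorem L169910 : sm gh N15277 = N15277 := ded_33_2 (flp_d L169904) (flp_h L162592) L154454 L162592 L169904
theorem L169911 : sm ge N14509 = N15278 := rfl
theorem L169913 : sm ga N15278 = N14721 := ded_12_1 (flp_e L164798) L164789 L169911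
theorem L169915 : sm gb N15278 = N14860 := ded_19_1 (flp_e L167626) L167620 L169911
theorem L169917 : sm gc N15278 = N15278 := ded_25_1 (flp_e L169911) L162602 L169911
theorem L169918 : sm gg N15278 = N14891 := ded_36_2 L166460 L164922 L169911
theorem L169920 : sm gd N15278 = N14600 := ded_30_1 (flp_e L163364) (flp_d L156770) (flp_e L156778) (flp_d L162603) L169911
theorem L169922 : sm gf N15278 = N14862 := ded_35_2 L169833 (flp_f L169822) L162550 L162600 L169911
theorem L169924 : sm gh N14509 = N15279 := rfl
theorem L169926 : sm gc N15279 = N15279 := ded_28_1 (flp_h L169924) L162602 L169924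
theorem L169927 : sm gf N15279 = N14510 := ded_40_1 (flp_h L162605) L162600 L169924
theorem L169929 : sm gd N15279 = N14519 := ded_33_1 (flp_h L162660) L154503 (flp_h L154470) (flp_d L162603) L169924
theorem L169931 : sm gi N14509 = N15280 := rfl
theorem L169933 : sm gc N15280 = N15280 := ded_29_1 (flp_i L169931) L162602 L169931
theorem L169934 : sm gd N15280 = N14512 := ded_34_1 (flp_i L162615) (flp_d L162603) L169931
theorem L169936 : sm gf N15280 = N14511 := ded_41_1 (flp_i L162610) L162600 L169931
theorem L169938 : sm gi N14510 = N15281 := rfl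
theorem L169940 : sm gc N15281 = N15281 := ded_29_1 (flp_i L169938) L162607 L169938
theorem L169941 : sm gd N15281 = N14521 := ded_34_1 (flp_i L162674) (flp_d L162608) L169938
theorem L169943 : sm gh N14511 = N15282 := rfl
theorem L169945 : sm gc N15282 = N15282 := ded_28_1 (flp_h L169943) L162612 L169943
theorem L169946 : sm gh N14512 = N15283 := rfl
theorem L169948 : sm gc N15283 = N14515 := ded_28_1 (flp_h L162633) (flp_c L162617) L169946
theorem L169950 : sm gf N15283 = N14513 := ded_40_1 (flp_h L162621) (flp_f L162619) L169946
theorem L169952 : sm gi N15283 = N14524 := ded_44_2 (flp_h L162692) (flp_i L154523) (flp_h L154470) L162615 L169946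
theorem L169954 : sm gd N14513 = N15284 := rfl
theorem L169956 : sm gi N15284 = N14525 := ded_34_2 (flp_d L162698) (flp_i L162627) L169954
theorem L169958 : sm ge N14514 = N15285 := rfl
theorem L169960 : sm gi N15285 = N14526 := ded_38_2 (flp_e L162700) (flp_i L162631) L169958
theorem L169962 : sm gd N14515 = N15286 := rfl
theorem L169964 : sm gb N15286 = N14550 := ded_18_1 (flp_d L162908) (flp_b L162635) L169962
theorem L169966 : sm gf N15286 = N14516 := ded_31_2 (flp_d L162641) (flp_f L162637) L169962
theorem L169968 : sm gi N15286 = N14528 := ded_34_2 (flp_d L162710) (flp_i L162639) L169962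
theorem L169970 : sm gh N15286 = N15286 := ded_33_2 (flp_d L169962) (flp_h L162633) L154488 L162633 L169962
theorem L169971 : sm gc N14516 = N15287 := rfl
theorem L169973 : sm gh N15287 = N15287 := ded_28_2 (flp_c L169971) L162647 L169971
theorem L169974 : sm gi N15287 = N14529 := ded_29_2 (flp_c L162718) (flp_i L162645) L169971
theorem L169976 : sm gi N14517 = N15288 := rfl
theorem L169978 : sm gc N15288 = N14530 := ded_29_1 (flp_i L162722) (flp_c L162650) L169976
theorem L169980 : sm ge N15288 = N14520 := ded_38_1 (flp_i L162666) L162648 L169976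
theorem L169982 : sm gf N15288 = N15069 := ded_41_1 (flp_i L168056) (flp_f L162652) L169976
theorem L169984 : sm gi N14518 = N15289 := rfl
theorem L169986 : sm gc N15289 = N14531 := ded_29_1 (flp_i L162732) (flp_c L162656) L169984
theorem L169988 : sm gd N15289 = N14523 := ded_34_1 (flp_i L162686) (flp_d L162658) L169984
theorem L169990 : sm gg N15289 = N14520 := ded_43_1 (flp_i L162666) L162654 L169984
theorem L169992 : sm gi N14519 = N15290 := rfl
theorem L169994 : sm gc N15290 = N14532 := ded_29_1 (flp_i L162740) (flp_c L162662) L169992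
theorem L169996 : sm gf N15290 = N14521 := ded_41_1 (flp_i L162674) (flp_f L162664) L169992
theorem L169998 : sm gh N14520 = N15291 := rfl
theorem L170000 : sm gc N15291 = N14533 := ded_28_1 (flp_h L162747) (flp_c L162668) L169998
theorem L170002 : sm gf N15291 = N14522 := ded_40_1 (flp_h L162680) (flp_f L162672) L169998
theorem L170004 : sm gh N14521 = N15292 := rfl
theorem L170006 : sm gc N15292 = N14534 := ded_28_1 (flp_h L162753) (flp_c L162676) L170004
theorem L170008 : sm ge N15292 = N15073 := ded_37_1 (flp_h L168086) (flp_e L162678) L170004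
theorem L170010 : sm gi N15292 = N14522 := ded_44_2 (flp_h L162680) (flp_i L154511) L154505 L162674 L170004
theorem L170012 : sm gd N14522 = N15293 := rfl
theorem L170014 : sm gh N15293 = N14525 := ded_33_2 (flp_d L162698) (flp_h L154529) (flp_d L154515) L162680 L170012
theorem L170016 : sm gh N14523 = N15294 := rfl
theorem L170018 : sm gc N15294 = N14527 := ded_28_1 (flp_h L162704) (flp_c L162688) L170016
theorem L170020 : sm gg N15294 = N14524 := ded_42_1 (flp_h L162692) (flp_g L162690) L170016
theorem L170022 : sm gd N14524 = N15295 := rfl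
theorem L170024 : sm gf N15295 = N14525 := ded_31_2 (flp_d L162698) (flp_f L162696) L170022
theorem L170026 : sm gc N14525 = N15296 := rfl
theorem L170028 : sm gd N15296 = N14529 := ded_24_2 (flp_c L162718) (flp_d L154553) (flp_c L154531) L162698 L170026
theorem L170030 : sm ge N14525 = N15297 := rfl
theorem L170032 : sm gd N15297 = N14526 := ded_30_1 (flp_e L162700) (flp_d L154535) (flp_e L154533) L162698 L170030
theorem L170034 : sm gf N14526 = N15298 := rfl
theorem L170036 : sm gh N15298 = N15079 := ded_40_2 (flp_f L168114) (flp_h L162702) L170034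
theorem L170038 : sm gd N14527 = N15299 := rfl
theorem L170040 : sm gb N15299 = N14551 := ded_18_1 (flp_d L162917) (flp_b L162706) L170038
theorem L170042 : sm gg N15299 = N14528 := ded_32_2 (flp_d L162710) (flp_g L162708) L170038
theorem L170044 : sm gh N15299 = N14540 := ded_33_2 (flp_d L162797) (flp_h L154634) (flp_d L154543) L162704 L170038
theorem L170046 : sm gc N14528 = N15300 := rfl
theorem L170048 : sm gf N15300 = N14529 := ded_26_2 (flp_c L162718) (flp_f L162714) L170046
theorem L170050 : sm gh N15300 = N14541 := ded_28_2 (flp_c L162804) (flp_h L162716) L170046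
theorem L170052 : sm ge N14528 = N15301 := rfl
theorem L170054 : sm gb N15301 = N14553 := ded_19_1 (flp_e L162933) (flp_b L162712) L170052
theorem L170056 : sm gh N15301 = N14542 := ded_37_2 (flp_e L162809) (flp_h L162716) L170052
theorem L170058 : sm gb N14529 = N15302 := rfl
theorem L170060 : sm gh N15302 = N14543 := ded_22_2 (flp_b L162816) (flp_h L162720) L170058
theorem L170062 : sm gc N15302 = N14554 := ded_17_2 (flp_b L162939) (flp_c L154775) (flp_b L154555) L162718 L170058
theorem L170064 : sm gh N14530 = N15303 := rfl
theorem L170066 : sm gb N15303 = N14561 := ded_22_1 (flp_h L162988) (flp_b L162724) L170064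
theorem L170068 : sm ge N15303 = N14533 := ded_37_1 (flp_h L162747) (flp_e L162728) L170064
theorem L170070 : sm gf N15303 = N15091 := ded_40_1 (flp_h L168224) (flp_f L162730) L170064
theorem L170072 : sm gh N14531 = N15304 := rfl
theorem L170074 : sm gb N15304 = N14562 := ded_22_1 (flp_h L162995) (flp_b L162734) L170072
theorem L170076 : sm gg N15304 = N14533 := ded_42_1 (flp_h L162747) (flp_g L162738) L170072
theorem L170078 : sm gh N14532 = N15305 := rfl
theorem L170080 : sm gb N15305 = N14563 := ded_22_1 (flp_h L163000) (flp_b L162742) L170078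
theorem L170082 : sm gf N15305 = N14534 := ded_40_1 (flp_h L162753) (flp_f L162745) L170078
theorem L170084 : sm gi N15305 = N14533 := ded_44_2 (flp_h L162747) (flp_i L154580) L154573 L162740 L170078
theorem L170086 : sm gd N14533 = N15306 := rfl
theorem L170088 : sm gb N15306 = N14564 := ded_18_1 (flp_d L163007) (flp_b L162749) L170086
theorem L170090 : sm gf N15306 = N14535 := ded_31_2 (flp_d L162761) (flp_f L162751) L170086
theorem L170092 : sm gh N15306 = N14537 := ded_33_2 (flp_d L162778) (flp_h L154611) (flp_d L154584) L162747 L170086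
theorem L170094 : sm gd N14534 = N15307 := rfl
theorem L170096 : sm gb N15307 = N14565 := ded_18_1 (flp_d L163014) (flp_b L162755) L170094
theorem L170098 : sm gi N15307 = N14535 := ded_34_2 (flp_d L162761) (flp_i L162759) L170094
theorem L170100 : sm gh N15307 = N15307 := ded_33_2 (flp_d L170094) (flp_h L162753) L154592 L162753 L170094
theorem L170101 : sm gc N14535 = N15308 := rfl
theorem L170103 : sm gh N15308 = N14538 := ded_28_2 (flp_c L162785) (flp_h L162765) L170101
theorem L170105 : sm ge N14535 = N15309 := rfl
theorem L170107 : sm gb N15309 = N14567 := ded_19_1 (flp_e L163025) (flp_b L162763) L170105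
theorem L170109 : sm gh N15309 = N14539 := ded_37_2 (flp_e L162790) (flp_h L162765) L170105
theorem L170111 : sm gd N15309 = N15097 := ded_30_1 (flp_e L168272) (flp_d L160471) (flp_e L154599) L162761 L170105
theorem L170113 : sm gd N14536 = N15310 := rfl
theorem L170115 : sm gb N15310 = N14568 := ded_18_1 (flp_d L163032) (flp_b L162769) L170113
theorem L170117 : sm gg N15310 = N14537 := ded_32_2 (flp_d L162778) (flp_g L162775) L170113
theorem L170119 : sm gi N15310 = N15310 := ded_34_2 (flp_d L170113) L162777 L170113
theorem L170120 : sm gc N14537 = N15311 := rfl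
theorem L170122 : sm gf N15311 = N14538 := ded_26_2 (flp_c L162785) (flp_f L162782) L170120
theorem L170124 : sm gi N15311 = N15311 := ded_29_2 (flp_c L170120) L162784 L170120
theorem L170125 : sm gd N15311 = N14541 := ded_24_2 (flp_c L162804) (flp_d L154643) (flp_c L154615) L162778 L170120
theorem L170127 : sm ge N14537 = N15312 := rfl
theorem L170129 : sm ga N15312 = N14777 := ded_12_1 (flp_e L169714) L169708 L170127
theorem L170131 : sm gb N15312 = N14570 := ded_19_1 (flp_e L163048) (flp_b L162780) L170127
theorem L170133 : sm gi N15312 = N15312 := ded_38_2 (flp_e L170127) L162784 L170127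
theorem L170134 : sm gd N15312 = N14547 := ded_30_1 (flp_e L162864) (flp_d L154707) (flp_e L154617) L162778 L170127
theorem L170136 : sm gf N15312 = N14633 := ded_35_2 (flp_e L169233) L169228 (flp_e L162790) (flp_f L162782) L170127
theorem L170138 : sm gb N14538 = N15313 := rfl
theorem L170140 : sm gd N15313 = N14543 := ded_18_2 (flp_b L162816) (flp_d L162788) L170138
theorem L170142 : sm gi N15313 = N15313 := ded_23_2 (flp_b L170138) L162787 L170138
theorem L170143 : sm gc N15313 = N14571 := ded_17_2 (flp_b L163058) (flp_c L154940) (flp_b L154624) L162785 L170138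
theorem L170145 : sm ge N14538 = N15314 := rfl
theorem L170147 : sm gc N15314 = N14539 := ded_25_1 (flp_e L162790) L162785 L170145
theorem L170149 : sm gi N15314 = N15314 := ded_38_2 (flp_e L170145) L162787 L170145
theorem L170150 : sm gc N14540 = N15315 := rfl
theorem L170152 : sm gg N15315 = N14541 := ded_27_2 (flp_c L162804) (flp_g L162801) L170150
theorem L170154 : sm gi N15315 = N15315 := ded_29_2 (flp_c L170150) L162803 L170150
theorem L170155 : sm gb N14541 = N15316 := rfl
theorem L170157 : sm gf N15316 = N14543 := ded_20_2 (flp_b L162816) (flp_f L162806) L170155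
theorem L170159 : sm gi N15316 = N15316 := ded_23_2 (flp_b L170155) L162808 L170155
theorem L170160 : sm gc N15316 = N14555 := ded_17_2 (flp_b L162943) (flp_c L154788) (flp_b L154645) L162804 L170155
theorem L170162 : sm ge N14541 = N15317 := rfl
theorem L170164 : sm gc N15317 = N14542 := ded_25_1 (flp_e L162809) L162804 L170162
theorem L170166 : sm gi N15317 = N15317 := ded_38_2 (flp_e L170162) L162808 L170162
theorem L170167 : sm ga N14543 = N15318 := rfl
theorem L170169 : sm gc N15318 = N14556 := ded_10_2 (flp_a L162950) (flp_c L162819) L170167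
theorem L170171 : sm gi N15318 = N15318 := ded_16_2 (flp_a L170167) L162818 L170167
theorem L170172 : sm gd N14544 = N15319 := rfl
theorem L170174 : sm ga N15319 = N14770 := ded_11_1 L165169 (flp_a L162823) L170172
theorem L170176 : sm gb N15319 = N14575 := ded_18_1 (flp_d L163088) (flp_b L162825) L170172
theorem L170178 : sm gf N15319 = N15102 := ded_31_2 (flp_d L168320) (flp_f L162831) L170172
theorem L170180 : sm gi N15319 = N14626 := ded_34_2 L163654 (flp_i L162833) L170172
theorem L170182 : sm ge N15319 = N14629 := ded_30_2 L163679 L155531 L154695 (flp_e L162829) L170172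
theorem L170184 : sm gd N14549 = N15320 := rfl
theorem L170186 : sm ga N15320 = N14666 := ded_11_1 (flp_d L164123) (flp_a L162895) L170184
theorem L170188 : sm gb N15320 = N14664 := ded_18_1 L164108 (flp_b L162897) L170184
theorem L170190 : sm gf N15320 = N14855 := ded_31_2 (flp_d L166116) (flp_f L162906) L170184
theorem L170192 : sm gg N15320 = N14667 := ded_32_2 (flp_d L164134) (flp_g L162901) L170184
theorem L170194 : sm gi N15320 = N15320 := ded_34_2 (flp_d L170184) L162905 L170184
theorem L170195 : sm ge N15320 = N14634 := ded_30_2 (flp_d L163719) L155564 (flp_d L154737) L162893 L170184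
theorem L170197 : sm gb N14552 = N15321 := rfl
theorem L170199 : sm gf N15321 = N14554 := ded_20_2 (flp_b L162939) (flp_f L162929) L170197
theorem L170201 : sm gh N15321 = N14555 := ded_22_2 (flp_b L162943) (flp_h L162931) L170197
theorem L170203 : sm ga N14554 = N15322 := rfl
theorem L170205 : sm gh N15322 = N14556 := ded_15_2 (flp_a L162950) (flp_h L162941) L170203
theorem L170207 : sm gb N15322 = N14557 := ded_9_2 (flp_a L162957) (flp_b L154849) (flp_a L154777) L162939 L170203
theorem L170209 : sm gh N14558 = N15323 := rfl
theorem L170211 : sm ga N15323 = N15323 := ded_15_1 (flp_h L170209) L162963 L170209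
theorem L170212 : sm gc N15323 = N15170 := ded_28_1 L168971 (flp_c L162964) L170209
theorem L170214 : sm ge N15323 = N15169 := ded_37_1 L168962 (flp_e L162967) L170209
theorem L170216 : sm gg N15323 = N14559 := ded_42_1 (flp_h L162971) (flp_g L162969) L170209
theorem L170218 : sm gi N15323 = N15130 := ded_44_2 (flp_h L168596) (flp_i L160906) (flp_h L154866) L162961 L170209
theorem L170220 : sm gd N14559 = N15324 := rfl
theorem L170222 : sm ga N15324 = N15324 := ded_11_1 (flp_d L170220) L162973 L170220
theorem L170223 : sm gf N15324 = N14560 := ded_31_2 (flp_d L162982) (flp_f L162978) L170220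
theorem L170225 : sm gi N15324 = N15131 := ded_34_2 (flp_d L168601) (flp_i L162980) L170220
theorem L170227 : sm gh N15324 = N15324 := ded_33_2 (flp_d L170220) (flp_h L162971) L154873 L162971 L170220
theorem L170228 : sm gc N14560 = N15325 := rfl
theorem L170230 : sm ga N15325 = N15325 := ded_10_1 (flp_c L170228) L162984 L170228
theorem L170231 : sm gh N15325 = N15325 := ded_28_2 (flp_c L170228) L162987 L170228
theorem L170232 : sm gi N15325 = N15132 := ded_29_2 (flp_c L168608) (flp_i L162985) L170228
theorem L170234 : sm gd N14561 = N15326 := rfl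
theorem L170236 : sm ga N15326 = N15326 := ded_11_1 (flp_d L170234) L162990 L170234
theorem L170237 : sm gf N15326 = N15175 := ded_31_2 (flp_d L169019) (flp_f L162993) L170234
theorem L170239 : sm gh N15326 = N14575 := ded_33_2 (flp_d L163088) (flp_h L154981) (flp_d L154888) L162988 L170234
theorem L170241 : sm gd N14562 = N15327 := rfl
theorem L170243 : sm ga N15327 = N15327 := ded_11_1 (flp_d L170241) L162997 L170241
theorem L170244 : sm gg N15327 = N14564 := ded_32_2 (flp_d L163007) (flp_g L162998) L170241
theorem L170246 : sm gh N15327 = N14568 := ded_33_2 (flp_d L163032) (flp_h L154924) (flp_d L154897) L162995 L170241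
theorem L170248 : sm gd N14563 = N15328 := rfl
theorem L170250 : sm ga N15328 = N15328 := ded_11_1 (flp_d L170248) L163002 L170248
theorem L170251 : sm gf N15328 = N14565 := ded_31_2 (flp_d L163014) (flp_f L163003) L170248
theorem L170253 : sm gi N15328 = N14564 := ded_34_2 (flp_d L163007) (flp_i L163005) L170248
theorem L170255 : sm gh N15328 = N15328 := ded_33_2 (flp_d L170248) (flp_h L163000) L154904 L163000 L170248
theorem L170256 : sm gc N14564 = N15329 := rfl
theorem L170258 : sm ga N15329 = N15329 := ded_10_1 (flp_c L170256) L163009 L170256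
theorem L170259 : sm gf N15329 = N14566 := ded_26_2 (flp_c L163020) (flp_f L163010) L170256
theorem L170261 : sm gh N15329 = N14569 := ded_28_2 (flp_c L163038) (flp_h L163012) L170256
theorem L170263 : sm ge N15327 = N15329 := ded_37_3 L170261 (flp_e L163046) (flp_h L170246)
theorem L170265 : sm ge N14564 = N15330 := rfl
theorem L170267 : sm ga N15330 = N15330 := ded_12_1 (flp_e L170265) L163009 L170265
theorem L170268 : sm gc N15330 = N15327 := ded_25_1 L170263 (flp_c L170256) L170265
theorem L170270 : sm gg N15330 = N15329 := ded_36_2 (flp_e L170263) L170244 L170265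
theorem L170272 : sm gh N15330 = N14570 := ded_37_2 (flp_e L163048) (flp_h L163012) L170265
theorem L170274 : sm gc N14565 = N15331 := rfl
theorem L170276 : sm ga N15331 = N15331 := ded_10_1 (flp_c L170274) L163016 L170274
theorem L170277 : sm gh N15331 = N15331 := ded_28_2 (flp_c L170274) L163019 L170274
theorem L170278 : sm gi N15331 = N14566 := ded_29_2 (flp_c L163020) (flp_i L163017) L170274
theorem L170280 : sm ge N14565 = N15332 := rfl
theorem L170282 : sm ga N15332 = N15332 := ded_12_1 (flp_e L170280) L163016 L170280
theorem L170283 : sm gh N15332 = N15332 := ded_37_2 (flp_e L170280) L163019 L170280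
theorem L170284 : sm gi N15332 = N14567 := ded_38_2 (flp_e L163025) (flp_i L163017) L170280
theorem L170286 : sm gd N15332 = N15128 := ded_30_1 L168582 (flp_d L161337) (flp_e L154915) L163014 L170280
theorem L170288 : sm gf N15129 = N15332 := ded_41_3 L170284 (flp_f L168494) (flp_i L168593)
theorem L170290 : sm gb N14566 = N15333 := rfl
theorem L170292 : sm gh N15333 = N14571 := ded_22_2 (flp_b L163058) (flp_h L163023) L170290
theorem L170294 : sm ge N14566 = N15334 := rfl
theorem L170296 : sm ga N15334 = N15334 := ded_12_1 (flp_e L170294) L163022 L170294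
theorem L170297 : sm gc N15334 = N14567 := ded_25_1 (flp_e L163025) L163020 L170294
theorem L170299 : sm gh N15334 = N14572 := ded_37_2 (flp_e L163063) (flp_h L163023) L170294
theorem L170301 : sm gb N14569 = N15335 := rfl
theorem L170303 : sm gd N15335 = N14573 := ded_18_2 (flp_b L163070) (flp_d L163044) L170301
theorem L170305 : sm ge N15335 = N15310 := ded_19_2 L170115 L163046 L170301
theorem L170307 : sm gf N15335 = N14571 := ded_20_2 (flp_b L163058) (flp_f L163041) L170301
theorem L170309 : sm gg N15335 = N15312 := ded_21_2 L170131 L163053 L170301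
theorem L170311 : sm gi N15335 = N15335 := ded_23_2 (flp_b L170301) L163043 L170301
theorem L170312 : sm ga N14571 = N15336 := rfl
theorem L170314 : sm gd N15336 = N14574 := ded_11_2 (flp_a L163081) (flp_d L163060) L170312
theorem L170316 : sm gi N15336 = N15336 := ded_16_2 (flp_a L170312) L163062 L170312
theorem L170317 : sm gb N15336 = N15336 := ded_9_2 (flp_a L170312) (flp_b L163058) L154942 L163058 L170312
theorem L170318 : sm ge N14571 = N15337 := rfl
theorem L170320 : sm gb N15337 = N14572 := ded_19_1 (flp_e L163063) L163058 L170318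
theorem L170322 : sm gi N15337 = N15337 := ded_38_2 (flp_e L170318) L163062 L170318
theorem L170323 : sm gd N15337 = N15337 := ded_30_1 (flp_e L170318) L163060 L154977 (flp_d L163060) L170318
theorem L170324 : sm ga N14577 = N15338 := rfl
theorem L170326 : sm gc N15338 = N15338 := ded_10_2 (flp_a L170324) L163115 L170324
theorem L170327 : sm gd N15338 = N14590 := ded_11_2 (flp_a L163254) (flp_d L163111) L170324
theorem L170329 : sm gf N15338 = N14867 := ded_13_2 (flp_a L166240) (flp_f L163113) L170324
theorem L170331 : sm gg N15338 = N14975 := ded_14_2 (flp_a L167245) L167254 L170324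
theorem L170333 : sm gh N15338 = N15278 := ded_15_2 L169913 L164737 L170324
theorem L170335 : sm gb N15338 = N14689 := ded_9_2 (flp_a L164423) (flp_b L156500) (flp_a L155161) L163109 L170324
theorem L170337 : sm ge N15279 = N15338 := ded_30_0 L170327 (flp_e L163266) (flp_d L167822) L167824 (flp_d L169929)
theorem L170339 : sm ge N14577 = N15339 := rfl
theorem L170341 : sm ga N15339 = N15279 := ded_12_1 L170337 (flp_a L170324) L170339
theorem L170343 : sm gb N15339 = N14578 := ded_19_1 (flp_e L163116) L163109 L170339
theorem L170345 : sm gc N15339 = N15339 := ded_25_1 (flp_e L170339) L163115 L170339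
theorem L170346 : sm gg N15339 = N14743 := ded_36_2 (flp_e L167250) L167254 L170339
theorem L170348 : sm gh N15339 = N14726 := ded_37_2 L164798 L164737 L170339
theorem L170350 : sm gd N15339 = N15235 := ded_46_3 L169579 L162303 L162301 (flp_h L154573) (flp_f L145678) L136647 (flp_d L133408) L125308 L67870 L49690 L36498 L39408 L39412 L28867 L28865 L21575 (flp_a L29261) (flp_h L37449) (flp_f L37444) (flp_e L27410) (flp_d L20116) L14758 (flp_b L13382) L13380 (flp_h L9908) L9901 L109678 L10908 L8021 L6377 L4714 (flp_h L6227) L6229 L6225 (flp_d L6331) L6330 (flp_b L8535) (flp_a L11582) L11587 L11588 (flp_e L12844) L12843 (flp_c L17412) (flp_b L23622) L23621 L23627 L32120 (flp_e L39763) (flp_d L54247) (flp_c L74196) (flp_b L126696) L126694 L127156 (flp_f L134929) (flp_e L140903) L149954 L158454 L166191 L166197 L162117 (flp_f L163113) L170339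
theorem L170352 : sm gf N15225 = N15339 := ded_46_1 (flp_e L170339) L163111 L155251 (flp_b L147030) L137913 L129687 L122345 L124671 L124675 L124673 L67074 (flp_a L67983) (flp_h L125448) L133610 (flp_e L139176) L139173 (flp_c L148493) (flp_b L157254) L157252 (flp_h L157450) (flp_f L157443) (flp_e L148676) L139285 (flp_c L132050) L132048 L124412 (flp_h L67043) (flp_f L49002) L35923 L26327 L20774 L15272 L11250 L15307 L15312 L120470 L11449 L8633 (flp_b L11711) (flp_a L15829) L15835 L15833 L11668 L8659 (flp_c L11746) (flp_b L15891) L15890 L15896 L15894 (flp_e L21492) (flp_d L29225) (flp_c L39854) (flp_b L53557) (flp_a L72087) L126922 (flp_f L135047) (flp_e L144235) L153330 (flp_c L159940) L159936 (flp_a L162169) L169498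
theorem L170354 : sm gi N14577 = N15340 := rfl
theorem L170356 : sm gb N15340 = N14579 := ded_23_1 (flp_i L163126) L163109 L170354
theorem L170358 : sm gc N15340 = N15340 := ded_29_1 (flp_i L170354) L163115 L170354
theorem L170359 : sm gd N15340 = N14592 := ded_34_1 (flp_i L163282) (flp_d L163111) L170354
theorem L170361 : sm gf N15340 = N14869 := ded_41_1 (flp_i L166256) (flp_f L163113) L170354
theorem L170363 : sm gd N14578 = N15341 := rfl
theorem L170365 : sm ga N15341 = N14692 := ded_11_1 (flp_d L164453) (flp_a L163118) L170363
theorem L170367 : sm gb N15341 = N15235 := ded_18_1 (flp_d L170350) L170343 L170363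
theorem L170369 : sm gg N15341 = N14712 := ded_32_2 L164651 (flp_g L163122) L170363
theorem L170371 : sm gc N15341 = N15341 := ded_24_1 (flp_d L170363) L163120 L155176 (flp_c L163120) L170363
theorem L170372 : sm ge N15341 = N14593 := ded_30_2 (flp_d L163290) (flp_e L155253) (flp_d L155165) L163116 L170363
theorem L170374 : sm gh N15341 = N14702 := ded_33_2 (flp_d L164544) L156605 L156806 (flp_h L163124) L170363
theorem L170376 : sm gf N15230 = N15341 := ded_20_0 L170367 L169581 (flp_b L169539)
theorem L170378 : sm gf N14578 = N15342 := rfl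
theorem L170380 : sm ga N15342 = N14693 := ded_13_1 (flp_f L164458) (flp_a L163118) L170378
theorem L170382 : sm gb N15342 = N15225 := ded_20_1 L170352 L170343 L170378
theorem L170384 : sm gc N15342 = N14580 := ded_26_1 (flp_f L163136) (flp_c L163120) L170378
theorem L170386 : sm gd N15342 = N15230 := ded_31_1 L170376 (flp_d L170363) L170378
theorem L170388 : sm gh N15342 = N14729 := ded_40_2 (flp_f L164824) (flp_h L163124) L170378
theorem L170390 : sm ge N15342 = N14871 := ded_35_1 (flp_f L166273) (flp_e L158485) (flp_f L155163) L163116 L170378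
theorem L170392 : sm gi N14578 = N15343 := rfl
theorem L170394 : sm ga N15343 = N14694 := ded_16_1 (flp_i L164468) (flp_a L163118) L170392
theorem L170396 : sm gc N15343 = N14581 := ded_29_1 (flp_i L163146) (flp_c L163120) L170392
theorem L170398 : sm ge N15343 = N14579 := ded_38_1 (flp_i L163126) L163116 L170392
theorem L170400 : sm gg N15343 = N14753 := ded_43_1 (flp_i L165040) (flp_g L163122) L170392
theorem L170402 : sm gh N14579 = N15344 := rfl
theorem L170404 : sm ga N15344 = N14695 := ded_15_1 (flp_h L164474) (flp_a L163128) L170402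
theorem L170406 : sm gc N15344 = N14582 := ded_28_1 (flp_h L163156) (flp_c L163130) L170402
theorem L170408 : sm gf N15344 = N14873 := ded_40_1 (flp_h L166287) (flp_f L163134) L170402
theorem L170410 : sm gi N14580 = N15345 := rfl
theorem L170412 : sm ga N15345 = N14697 := ded_16_1 (flp_i L164489) (flp_a L163138) L170410
theorem L170414 : sm gb N15345 = N15345 := ded_23_1 (flp_i L170410) L163140 L170410
theorem L170415 : sm gd N15345 = N15345 := ded_34_1 (flp_i L170410) L163141 L170410
theorem L170416 : sm ge N15345 = N14874 := ded_38_1 (flp_i L166293) (flp_e L163144) L170410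
theorem L170418 : sm gf N15345 = N14581 := ded_41_1 (flp_i L163146) L163136 L170410
theorem L170420 : sm gh N14581 = N15346 := rfl
theorem L170422 : sm ga N15346 = N14698 := ded_15_1 (flp_h L164498) (flp_a L163148) L170420
theorem L170424 : sm gb N15346 = N15346 := ded_22_1 (flp_h L170420) L163150 L170420
theorem L170425 : sm ge N15346 = N14582 := ded_37_1 (flp_h L163156) (flp_e L163152) L170420
theorem L170427 : sm gg N15346 = N14774 := ded_42_1 (flp_h L165191) (flp_g L163154) L170420
theorem L170429 : sm gi N15346 = N14764 := ded_44_2 (flp_h L165110) (flp_i L156994) (flp_h L155174) L163146 L170420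
theorem L170431 : sm gi N14583 = N15347 := rfl
theorem L170433 : sm ga N15347 = N14699 := ded_16_1 (flp_i L164504) (flp_a L163167) L170431
theorem L170435 : sm gb N15347 = N14892 := ded_23_1 (flp_i L166462) (flp_b L163177) L170431
theorem L170437 : sm gc N15347 = N14584 := ded_29_1 (flp_i L163179) L163165 L170431
theorem L170439 : sm ge N15347 = N14845 := ded_38_1 (flp_i L166008) (flp_e L163169) L170431
theorem L170441 : sm gf N15347 = N14587 := ded_41_1 (flp_i L163221) (flp_f L163171) L170431
theorem L170443 : sm gg N15347 = N14876 := ded_43_1 (flp_i L166309) (flp_g L163173) L170431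
theorem L170445 : sm gh N14584 = N15348 := rfl
theorem L170447 : sm ga N15348 = N14700 := ded_15_1 (flp_h L164516) (flp_a L163181) L170445
theorem L170449 : sm gb N15348 = N14636 := ded_22_1 (flp_h L163737) (flp_b L163183) L170445
theorem L170451 : sm ge N15348 = N14853 := ded_37_1 (flp_h L166100) (flp_e L163187) L170445
theorem L170453 : sm gf N15348 = N14589 := ded_40_1 (flp_h L163242) (flp_f L163189) L170445
theorem L170455 : sm gg N15348 = N14877 := ded_42_1 (flp_h L166317) (flp_g L163191) L170445
theorem L170457 : sm gd N15348 = N14784 := ded_33_1 (flp_h L165273) L157242 (flp_h L155212) (flp_d L163185) L170445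
theorem L170459 : sm gi N15348 = N14603 := ded_44_2 (flp_h L163401) (flp_i L155324) (flp_h L155198) L163179 L170445
theorem L170461 : sm gi N14585 = N15349 := rfl
theorem L170463 : sm ga N15349 = N14978 := ded_16_1 (flp_i L167267) (flp_a L163201) L170461
theorem L170465 : sm gb N15349 = N14587 := ded_23_1 (flp_i L163221) L163193 L170461
theorem L170467 : sm gc N15349 = N14637 := ded_29_1 (flp_i L163753) (flp_c L163203) L170461
theorem L170469 : sm ge N15349 = N14901 := ded_38_1 (flp_i L166545) L163205 L170461
theorem L170471 : sm gf N15349 = N14892 := ded_41_1 (flp_i L166462) (flp_f L163195) L170461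
theorem L170473 : sm gg N15349 = N14592 := ded_43_1 (flp_i L163282) (flp_g L163197) L170461
theorem L170475 : sm gd N14586 = N15350 := rfl
theorem L170477 : sm ga N15350 = N14702 := ded_11_1 (flp_d L164544) (flp_a L163209) L170475
theorem L170479 : sm gb N15350 = N14898 := ded_18_1 L166523 (flp_b L163211) L170475
theorem L170481 : sm gf N15350 = N14895 := ded_31_2 (flp_d L166486) (flp_f L163219) L170475
theorem L170483 : sm gg N15350 = N14593 := ded_32_2 (flp_d L163290) (flp_g L163215) L170475
theorem L170485 : sm gc N15350 = N15350 := ded_24_1 (flp_d L170475) L163213 L155232 (flp_c L163213) L170475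
theorem L170486 : sm ge N15350 = N14712 := ded_30_2 L164651 (flp_e L159596) L159600 L163207 L170475
theorem L170488 : sm gh N15350 = N14692 := ded_33_2 (flp_d L164453) (flp_h L159497) L159499 (flp_h L163217) L170475
theorem L170490 : sm gi N14586 = N15351 := rfl
theorem L170492 : sm ga N15351 = N14703 := ded_16_1 (flp_i L164553) (flp_a L163209) L170490
theorem L170494 : sm gb N15351 = N14901 := ded_23_1 (flp_i L166545) (flp_b L163211) L170490
theorem L170496 : sm gc N15351 = N14588 := ded_29_1 (flp_i L163229) (flp_c L163213) L170490
theorem L170498 : sm ge N15351 = N14587 := ded_38_1 (flp_i L163221) L163207 L170490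
theorem L170500 : sm gf N15351 = N14896 := ded_41_1 (flp_i L166495) (flp_f L163219) L170490
theorem L170502 : sm gg N15351 = N14595 := ded_43_1 (flp_i L163309) (flp_g L163215) L170490
theorem L170504 : sm gh N14587 = N15352 := rfl
theorem L170506 : sm ga N15352 = N14704 := ded_15_1 (flp_h L164565) (flp_a L163223) L170504
theorem L170508 : sm gc N15352 = N14589 := ded_28_1 (flp_h L163242) (flp_c L163225) L170504
theorem L170510 : sm gg N15352 = N14596 := ded_42_1 (flp_h L163317) (flp_g L163227) L170504
theorem L170512 : sm gi N15352 = N14607 := ded_44_2 (flp_h L163453) (flp_i L155356) (flp_h L155220) L163221 L170504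
theorem L170514 : sm gh N14588 = N15353 := rfl
theorem L170516 : sm ga N15353 = N14705 := ded_15_1 (flp_h L164573) (flp_a L163231) L170514
theorem L170518 : sm gb N15353 = N14639 := ded_22_1 (flp_h L163780) (flp_b L163233) L170514
theorem L170520 : sm ge N15353 = N14589 := ded_37_1 (flp_h L163242) (flp_e L163236) L170514
theorem L170522 : sm gf N15353 = N14951 := ded_40_1 (flp_h L167016) (flp_f L163238) L170514
theorem L170524 : sm gg N15353 = N14598 := ded_42_1 (flp_h L163340) (flp_g L163240) L170514
theorem L170526 : sm gi N15353 = N14608 := ded_44_2 (flp_h L163461) (flp_i L155364) (flp_h L155230) L163229 L170514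
theorem L170528 : sm gi N14590 = N15354 := rfl
theorem L170530 : sm ga N15354 = N14592 := ded_16_1 (flp_i L163282) L163254 L170528
theorem L170532 : sm gb N15354 = N14706 := ded_23_1 (flp_i L164585) (flp_b L163264) L170528
theorem L170534 : sm gc N15354 = N14640 := ded_29_1 (flp_i L163794) (flp_c L163256) L170528
theorem L170536 : sm ge N15354 = N15048 := ded_38_1 (flp_i L167868) L163266 L170528
theorem L170538 : sm gf N15354 = N14880 := ded_41_1 (flp_i L166353) (flp_f L163258) L170528
theorem L170540 : sm gg N15354 = N14978 := ded_43_1 (flp_i L167267) (flp_g L163260) L170528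
theorem L170542 : sm gd N14591 = N15355 := rfl
theorem L170544 : sm ga N15355 = N15043 := ded_11_1 L167822 (flp_a L163270) L170542
theorem L170546 : sm gb N15355 = N14593 := ded_18_1 (flp_d L163290) (flp_b L163272) L170542
theorem L170548 : sm gf N15355 = N14915 := ded_31_2 L166667 L163280 L170542
theorem L170550 : sm gg N15355 = N14898 := ded_32_2 L166523 (flp_g L163276) L170542
theorem L170552 : sm gc N15355 = N14928 := ded_24_1 L166778 L158928 L155704 (flp_c L163274) L170542
theorem L170554 : sm ge N15355 = N15235 := ded_30_2 (flp_d L170350) (flp_e L170339) L163111 L163268 L170542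
theorem L170556 : sm gh N15234 = N15355 := ded_15_0 L170544 (flp_h L167828) (flp_a L169569)
theorem L170558 : sm gi N14591 = N15356 := rfl
theorem L170560 : sm ga N15356 = N15048 := ded_16_1 (flp_i L167868) (flp_a L163270) L170558
theorem L170562 : sm gb N15356 = N14595 := ded_23_1 (flp_i L163309) (flp_b L163272) L170558
theorem L170564 : sm gc N15356 = N14641 := ded_29_1 (flp_i L163807) (flp_c L163274) L170558
theorem L170566 : sm ge N15356 = N14592 := ded_38_1 (flp_i L163282) L163268 L170558
theorem L170568 : sm gf N15356 = N14920 := ded_41_1 (flp_i L166705) L163280 L170558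
theorem L170570 : sm gg N15356 = N14901 := ded_43_1 (flp_i L166545) (flp_g L163276) L170558
theorem L170572 : sm gh N14592 = N15357 := rfl
theorem L170574 : sm gb N15357 = N14596 := ded_22_1 (flp_h L163317) (flp_b L163284) L170572
theorem L170576 : sm gc N15357 = N14642 := ded_28_1 (flp_h L163821) (flp_c L163286) L170572
theorem L170578 : sm gf N15357 = N14883 := ded_40_1 (flp_h L166381) (flp_f L163288) L170572
theorem L170580 : sm gi N15357 = N14614 := ded_44_2 (flp_h L163529) (flp_i L155404) (flp_h L155249) L163282 L170572
theorem L170582 : sm gf N14593 = N15358 := rfl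
theorem L170584 : sm ga N15358 = N14711 := ded_13_1 (flp_f L164643) (flp_a L163292) L170582
theorem L170586 : sm gb N15358 = N14915 := ded_20_1 (flp_f L170548) L170546 L170582
theorem L170588 : sm gc N15358 = N15358 := ded_26_1 (flp_f L170582) L163294 L170582
theorem L170589 : sm gd N15358 = N14594 := ded_31_1 (flp_f L163295) L163290 L170582
theorem L170591 : sm gg N15358 = N14908 := ded_39_2 (flp_f L166616) (flp_g L166492) (flp_f L170481) L170483 L170582
theorem L170593 : sm gh N14593 = N15359 := rfl
theorem L170595 : sm ga N15359 = N14712 := ded_15_1 (flp_h L164648) (flp_a L163292) L170593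
theorem L170597 : sm gb N15359 = N15234 := ded_22_1 L170556 L170546 L170593
theorem L170599 : sm gc N15359 = N15359 := ded_28_1 (flp_h L170593) L163294 L170593
theorem L170600 : sm ge N15359 = N14702 := ded_37_1 (flp_h L170374) L170372 L170593
theorem L170602 : sm gg N15359 = N14692 := ded_42_1 (flp_h L170488) L170483 L170593
theorem L170604 : sm gd N15359 = N14616 := ded_33_1 (flp_h L163545) (flp_d L155412) (flp_h L155259) L163290 L170593
theorem L170606 : sm gi N14593 = N15360 := rfl
theorem L170608 : sm ga N15360 = N14713 := ded_16_1 (flp_i L164653) (flp_a L163292) L170606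
theorem L170610 : sm gc N15360 = N15360 := ded_29_1 (flp_i L170606) L163294 L170606
theorem L170611 : sm gd N15360 = N14595 := ded_34_1 (flp_i L163309) L163290 L170606
theorem L170613 : sm gi N14594 = N15361 := rfl
theorem L170615 : sm ga N15361 = N14715 := ded_16_1 (flp_i L164672) (flp_a L163297) L170613
theorem L170617 : sm gb N15361 = N14920 := ded_23_1 (flp_i L166705) (flp_b L163299) L170613
theorem L170619 : sm gc N15361 = N14597 := ded_29_1 (flp_i L163327) (flp_c L163301) L170613
theorem L170621 : sm ge N15361 = N14887 := ded_38_1 (flp_i L166417) (flp_e L163305) L170613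
theorem L170623 : sm gf N15361 = N14595 := ded_41_1 (flp_i L163309) L163295 L170613
theorem L170625 : sm gg N15361 = N14911 := ded_43_1 (flp_i L166635) (flp_g L163307) L170613
theorem L170627 : sm gh N14595 = N15362 := rfl
theorem L170629 : sm ga N15362 = N14716 := ded_15_1 (flp_h L164680) (flp_a L163311) L170627
theorem L170631 : sm gc N15362 = N14598 := ded_28_1 (flp_h L163340) (flp_c L163313) L170627
theorem L170633 : sm ge N15362 = N14596 := ded_37_1 (flp_h L163317) (flp_e L163315) L170627
theorem L170635 : sm gi N15362 = N14620 := ded_44_2 (flp_h L163587) (flp_i L155426) (flp_h L155259) L163309 L170627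
theorem L170637 : sm gd N14596 = N15363 := rfl
theorem L170639 : sm ga N15363 = N14717 := ded_11_1 (flp_d L164688) (flp_a L163319) L170637
theorem L170641 : sm gf N15363 = N14889 := ded_31_2 (flp_d L166437) (flp_f L163323) L170637
theorem L170643 : sm gi N15363 = N14621 := ded_34_2 (flp_d L163595) (flp_i L163325) L170637
theorem L170645 : sm gc N15363 = N15228 := ded_24_1 (flp_d L169522) L162184 (flp_d L155299) (flp_c L163321) L170637
theorem L170647 : sm gh N14597 = N15364 := rfl
theorem L170649 : sm ga N15364 = N14719 := ded_15_1 (flp_h L164709) (flp_a L163329) L170647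
theorem L170651 : sm gb N15364 = N14645 := ded_22_1 (flp_h L163856) (flp_b L163331) L170647
theorem L170653 : sm ge N15364 = N14890 := ded_37_1 (flp_h L166443) (flp_e L163334) L170647
theorem L170655 : sm gf N15364 = N14598 := ded_40_1 (flp_h L163340) (flp_f L163336) L170647
theorem L170657 : sm gg N15364 = N14957 := ded_42_1 (flp_h L167081) (flp_g L163338) L170647
theorem L170659 : sm gi N15364 = N14623 := ded_44_2 (flp_h L163617) (flp_i L155456) (flp_h L155276) L163327 L170647
theorem L170661 : sm gd N14598 = N15365 := rfl
theorem L170663 : sm ga N15365 = N14720 := ded_11_1 (flp_d L164719) (flp_a L163342) L170661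
theorem L170665 : sm gb N15365 = N14646 := ded_18_1 (flp_d L163870) (flp_b L163344) L170661
theorem L170667 : sm gi N15365 = N14624 := ded_34_2 (flp_d L163627) (flp_i L163348) L170661
theorem L170669 : sm ge N15365 = N15229 := ded_30_2 (flp_d L169528) L162194 (flp_d L155299) (flp_e L163346) L170661
theorem L170671 : sm gh N15365 = N15365 := ded_33_2 (flp_d L170661) (flp_h L163340) L155288 L163340 L170661
theorem L170672 : sm gi N14599 = N15366 := rfl
theorem L170674 : sm ga N15366 = N14843 := ded_16_1 (flp_i L165984) (flp_a L163358) L170672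
theorem L170676 : sm gb N15366 = N14601 := ded_23_1 (flp_i L163378) L163350 L170672
theorem L170678 : sm gc N15366 = N14647 := ded_29_1 (flp_i L163879) (flp_c L163360) L170672
theorem L170680 : sm ge N15366 = N14876 := ded_38_1 (flp_i L166309) L163362 L170672
theorem L170682 : sm gf N15366 = N14605 := ded_41_1 (flp_i L163429) (flp_f L163352) L170672
theorem L170684 : sm gg N15366 = N14845 := ded_43_1 (flp_i L166008) (flp_g L163354) L170672
theorem L170686 : sm gi N14600 = N15367 := rfl
theorem L170688 : sm ga N15367 = N14722 := ded_16_1 (flp_i L164739) (flp_a L163366) L170686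
theorem L170690 : sm gb N15367 = N14876 := ded_23_1 (flp_i L166309) (flp_b L163368) L170686
theorem L170692 : sm gc N15367 = N14602 := ded_29_1 (flp_i L163388) (flp_c L163370) L170686
theorem L170694 : sm ge N15367 = N14601 := ded_38_1 (flp_i L163378) L163364 L170686
theorem L170696 : sm gf N15367 = N14878 := ded_41_1 (flp_i L166329) (flp_f L163376) L170686
theorem L170698 : sm gg N15367 = N14892 := ded_43_1 (flp_i L166462) (flp_g L163372) L170686
theorem L170700 : sm gh N14601 = N15368 := rfl
theorem L170702 : sm ga N15368 = N14723 := ded_15_1 (flp_h L164751) (flp_a L163380) L170700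
theorem L170704 : sm gc N15368 = N14603 := ded_28_1 (flp_h L163401) (flp_c L163382) L170700
theorem L170706 : sm gf N15368 = N14607 := ded_40_1 (flp_h L163453) (flp_f L163384) L170700
theorem L170708 : sm gg N15368 = N14893 := ded_42_1 (flp_h L166470) (flp_g L163386) L170700
theorem L170710 : sm gh N14602 = N15369 := rfl
theorem L170712 : sm ga N15369 = N14724 := ded_15_1 (flp_h L164761) (flp_a L163390) L170710
theorem L170714 : sm gb N15369 = N14649 := ded_22_1 (flp_h L163909) (flp_b L163392) L170710
theorem L170716 : sm ge N15369 = N14603 := ded_37_1 (flp_h L163401) (flp_e L163395) L170710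
theorem L170718 : sm gf N15369 = N14945 := ded_40_1 (flp_h L166955) (flp_f L163397) L170710
theorem L170720 : sm gg N15369 = N14894 := ded_42_1 (flp_h L166478) (flp_g L163399) L170710
theorem L170722 : sm gi N15369 = N14853 := ded_44_2 (flp_h L166100) (flp_i L158304) (flp_h L155319) L163388 L170710
theorem L170724 : sm gi N14604 = N15370 := rfl
theorem L170726 : sm ga N15370 = N14605 := ded_16_1 (flp_i L163429) L163413 L170724
theorem L170728 : sm gb N15370 = N14725 := ded_23_1 (flp_i L164773) (flp_b L163427) L170724
theorem L170730 : sm gc N15370 = N14650 := ded_29_1 (flp_i L163923) (flp_c L163415) L170724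
theorem L170732 : sm gd N15370 = N15366 := ded_34_1 (flp_i L170672) (flp_d L163417) L170724
theorem L170734 : sm ge N15370 = N14944 := ded_38_1 L166951 (flp_e L163419) L170724
theorem L170736 : sm gf N15370 = N14843 := ded_41_1 (flp_i L165984) (flp_f L163421) L170724
theorem L170738 : sm gg N15370 = N14610 := ded_43_1 (flp_i L163487) (flp_g L163423) L170724
theorem L170740 : sm gh N14605 = N15371 := rfl
theorem L170742 : sm gb N15371 = N14607 := ded_22_1 (flp_h L163453) (flp_b L163431) L170740
theorem L170744 : sm gc N15371 = N14651 := ded_28_1 (flp_h L163937) (flp_c L163433) L170740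
theorem L170746 : sm ge N15371 = N15080 := ded_37_1 L168120 (flp_e L163435) L170740
theorem L170748 : sm gg N15371 = N14614 := ded_42_1 (flp_h L163529) (flp_g L163437) L170740
theorem L170750 : sm gh N14606 = N15372 := rfl
theorem L170752 : sm ga N15372 = N14733 := ded_15_1 (flp_h L164868) (flp_a L163441) L170750
theorem L170754 : sm gb N15372 = N15080 := ded_22_1 L168120 (flp_b L163443) L170750
theorem L170756 : sm gc N15372 = N14608 := ded_28_1 (flp_h L163461) (flp_c L163445) L170750
theorem L170758 : sm ge N15372 = N14607 := ded_37_1 (flp_h L163453) (flp_e L163447) L170750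
theorem L170760 : sm gf N15372 = N15081 := ded_40_1 L168124 (flp_f L163449) L170750
theorem L170762 : sm gg N15372 = N14620 := ded_42_1 (flp_h L163587) (flp_g L163451) L170750
theorem L170764 : sm gd N14607 = N15373 := rfl
theorem L170766 : sm ga N15373 = N14734 := ded_11_1 (flp_d L164876) (flp_a L163455) L170764
theorem L170768 : sm gg N15373 = N14621 := ded_32_2 (flp_d L163595) (flp_g L163459) L170764
theorem L170770 : sm gc N15373 = N15058 := ded_24_1 (flp_d L167954) L160177 (flp_d L155386) (flp_c L163457) L170764
theorem L170772 : sm gd N14608 = N15374 := rfl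
theorem L170774 : sm ga N15374 = N14737 := ded_11_1 (flp_d L164908) (flp_a L163463) L170772
theorem L170776 : sm gb N15374 = N14653 := ded_18_1 (flp_d L163959) (flp_b L163465) L170772
theorem L170778 : sm gf N15374 = N15113 := ded_31_2 L168422 (flp_f L163469) L170772
theorem L170780 : sm gg N15374 = N14624 := ded_32_2 (flp_d L163627) (flp_g L163471) L170772
theorem L170782 : sm ge N15374 = N15108 := ded_30_2 (flp_d L168378) L160658 (flp_d L155386) (flp_e L163467) L170772
theorem L170784 : sm gh N15374 = N14625 := ded_33_2 (flp_d L163637) (flp_h L155476) (flp_d L155370) L163461 L170772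
theorem L170786 : sm gd N14609 = N15375 := rfl
theorem L170788 : sm ga N15375 = N14611 := ded_11_1 (flp_d L163497) (flp_a L163475) L170786
theorem L170790 : sm gb N15375 = N14738 := ded_18_1 (flp_d L164918) (flp_b L163477) L170786
theorem L170792 : sm gf N15375 = N15032 := ded_31_2 L167740 L163485 L170786
theorem L170794 : sm gg N15375 = N15019 := ded_32_2 L167624 (flp_g L163481) L170786
theorem L170796 : sm gc N15375 = N14989 := ded_24_1 L167368 L161693 (flp_d L155865) (flp_c L163479) L170786
theorem L170798 : sm ge N15375 = N14982 := ded_30_2 L167313 L163169 L158196 L163473 L170786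
theorem L170800 : sm gh N15375 = N14981 := ded_33_2 L167297 L167828 L167822 (flp_h L163483) L170786
theorem L170802 : sm gi N14609 = N15376 := rfl
theorem L170804 : sm ga N15376 = N14613 := ded_16_1 (flp_i L163519) (flp_a L163475) L170802
theorem L170806 : sm gb N15376 = N14740 := ded_23_1 (flp_i L164939) (flp_b L163477) L170802
theorem L170808 : sm gc N15376 = N14654 := ded_29_1 (flp_i L163973) (flp_c L163479) L170802
theorem L170810 : sm ge N15376 = N14610 := ded_38_1 (flp_i L163487) L163473 L170802
theorem L170812 : sm gf N15376 = N15037 := ded_41_1 (flp_i L167776) L163485 L170802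
theorem L170814 : sm gg N15376 = N14944 := ded_43_1 L166951 (flp_g L163481) L170802
theorem L170816 : sm gh N14610 = N15377 := rfl
theorem L170818 : sm ga N15377 = N14614 := ded_15_1 (flp_h L163529) (flp_a L163489) L170816
theorem L170820 : sm gb N15377 = N14741 := ded_22_1 (flp_h L164949) (flp_b L163491) L170816
theorem L170822 : sm gc N15377 = N14655 := ded_28_1 (flp_h L163987) (flp_c L163493) L170816
theorem L170824 : sm gf N15377 = N14907 := ded_40_1 (flp_h L166606) (flp_f L163495) L170816
theorem L170826 : sm gf N14611 = N15378 := rfl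
theorem L170828 : sm ga N15378 = N15032 := ded_13_1 (flp_f L170792) L170788 L170826
theorem L170830 : sm gb N15378 = N14615 := ded_20_1 (flp_f L163537) (flp_b L163499) L170826
theorem L170832 : sm gc N15378 = N15187 := ded_26_1 L169141 (flp_c L163503) L170826
theorem L170834 : sm gd N15378 = N14612 := ded_31_1 (flp_f L163505) L163497 L170826
theorem L170836 : sm gg N15378 = N14884 := ded_39_2 (flp_f L166389) L158604 (flp_f L161938) (flp_g L163501) L170826
theorem L170838 : sm gh N14611 = N15379 := rfl
theorem L170840 : sm ga N15379 = N14981 := ded_15_1 (flp_h L170800) L170788 L170838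
theorem L170842 : sm gb N15379 = N14616 := ded_22_1 (flp_h L163545) (flp_b L163499) L170838
theorem L170844 : sm gc N15379 = N14826 := ded_28_1 L165798 (flp_c L163503) L170838
theorem L170846 : sm ge N15379 = N14686 := ded_37_1 L164401 L164373 L170838
theorem L170848 : sm gg N15379 = N14690 := ded_42_1 L164439 (flp_g L163501) L170838
theorem L170850 : sm gd N15379 = N15234 := ded_33_1 L170556 (flp_d L170542) L163278 L163497 L170838
theorem L170852 : sm gi N14611 = N15380 := rfl
theorem L170854 : sm gb N15380 = N14617 := ded_23_1 (flp_i L163555) (flp_b L163499) L170852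
theorem L170856 : sm gc N15380 = N15098 := ded_29_1 L168286 (flp_c L163503) L170852
theorem L170858 : sm gd N15380 = N14613 := ded_34_1 (flp_i L163519) L163497 L170852
theorem L170860 : sm gg N15380 = N15099 := ded_43_1 L168296 (flp_g L163501) L170852
theorem L170862 : sm gi N14612 = N15381 := rfl
theorem L170864 : sm ga N15381 = N15037 := ded_16_1 (flp_i L167776) (flp_a L163507) L170862
theorem L170866 : sm gb N15381 = N14619 := ded_23_1 (flp_i L163577) (flp_b L163509) L170862
theorem L170868 : sm gc N15381 = N14656 := ded_29_1 (flp_i L163995) (flp_c L163511) L170862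
theorem L170870 : sm ge N15381 = N14911 := ded_38_1 (flp_i L166635) (flp_e L163515) L170862
theorem L170872 : sm gf N15381 = N14613 := ded_41_1 (flp_i L163519) L163505 L170862
theorem L170874 : sm gg N15381 = N14887 := ded_43_1 (flp_i L166417) (flp_g L163517) L170862
theorem L170876 : sm gh N14613 = N15382 := rfl
theorem L170878 : sm gb N15382 = N14620 := ded_22_1 (flp_h L163587) (flp_b L163521) L170876
theorem L170880 : sm gc N15382 = N14657 := ded_28_1 (flp_h L164009) (flp_c L163523) L170876
theorem L170882 : sm ge N15382 = N14614 := ded_37_1 (flp_h L163529) (flp_e L163525) L170876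
theorem L170884 : sm gg N15382 = N15080 := ded_42_1 L168120 (flp_g L163527) L170876
theorem L170886 : sm gd N14614 = N15383 := rfl
theorem L170888 : sm gb N15383 = N14621 := ded_18_1 (flp_d L163595) (flp_b L163531) L170886
theorem L170890 : sm gf N15383 = N14913 := ded_31_2 (flp_d L166651) (flp_f L163535) L170886
theorem L170892 : sm ge N14615 = N15384 := rfl
theorem L170894 : sm ga N15384 = N14749 := ded_12_1 (flp_e L165014) (flp_a L163539) L170892
theorem L170896 : sm gc N15384 = N14626 := ded_25_1 (flp_e L163650) (flp_c L163541) L170892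
theorem L170898 : sm gd N15384 = N14914 := ded_30_1 (flp_e L166655) L158824 (flp_e L155424) (flp_d L163543) L170892
theorem L170900 : sm gf N15384 = N15379 := ded_35_2 L170846 L164397 L158220 L163537 L170892
theorem L170902 : sm gh N15378 = N15384 := ded_15_0 L170894 L167744 (flp_a L170828)
theorem L170904 : sm gg N14615 = N15385 := rfl
theorem L170906 : sm ga N15385 = N14750 := ded_14_1 (flp_g L165020) (flp_a L163539) L170904
theorem L170908 : sm gb N15385 = N14884 := ded_21_1 (flp_g L170836) L170830 L170904
theorem L170910 : sm gc N15385 = N14627 := ded_27_1 (flp_g L163656) (flp_c L163541) L170904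
theorem L170912 : sm gd N15385 = N14618 := ded_32_1 (flp_g L163563) (flp_d L163543) L170904
theorem L170914 : sm gf N15385 = N14881 := ded_39_1 L166367 L161948 L159495 L163537 L170904
theorem L170916 : sm gh N14615 = N15386 := rfl
theorem L170918 : sm ga N15386 = N14751 := ded_15_1 (flp_h L165026) (flp_a L163539) L170916
theorem L170920 : sm gb N15386 = N15384 := ded_22_1 (flp_h L170902) L170830 L170916
theorem L170922 : sm gc N15386 = N14628 := ded_28_1 (flp_h L163666) (flp_c L163541) L170916
theorem L170924 : sm ge N15386 = N15378 := ded_37_1 L170902 (flp_e L170892) L170916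
theorem L170926 : sm gf N15386 = N14616 := ded_40_1 (flp_h L163545) L163537 L170916
theorem L170928 : sm gi N14615 = N15387 := rfl
theorem L170930 : sm ga N15387 = N14752 := ded_16_1 (flp_i L165032) (flp_a L163539) L170928
theorem L170932 : sm gc N15387 = N14629 := ded_29_1 (flp_i L163675) (flp_c L163541) L170928
theorem L170934 : sm gd N15387 = N14619 := ded_34_1 (flp_i L163577) (flp_d L163543) L170928
theorem L170936 : sm gf N15387 = N14617 := ded_41_1 (flp_i L163555) L163537 L170928
theorem L170938 : sm gi N14616 = N15388 := rfl
theorem L170940 : sm ga N15388 = N14753 := ded_16_1 (flp_i L165040) (flp_a L163547) L170938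
theorem L170942 : sm gc N15388 = N14630 := ded_29_1 (flp_i L163683) (flp_c L163549) L170938
theorem L170944 : sm ge N15388 = N14687 := ded_38_1 (flp_i L164407) (flp_e L163551) L170938
theorem L170946 : sm gg N15388 = N14694 := ded_43_1 (flp_i L164468) (flp_g L163553) L170938
theorem L170948 : sm gh N14617 = N15389 := rfl
theorem L170950 : sm ga N15389 = N14754 := ded_15_1 (flp_h L165044) (flp_a L163557) L170948
theorem L170952 : sm gc N15389 = N14631 := ded_28_1 (flp_h L163694) (flp_c L163559) L170948
theorem L170954 : sm gi N14618 = N15390 := rfl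
theorem L170956 : sm ga N15390 = N14755 := ded_16_1 (flp_i L165048) (flp_a L163565) L170954
theorem L170958 : sm gb N15390 = N14887 := ded_23_1 (flp_i L166417) (flp_b L163567) L170954
theorem L170960 : sm gc N15390 = N14622 := ded_29_1 (flp_i L163603) (flp_c L163569) L170954
theorem L170962 : sm ge N15390 = N14920 := ded_38_1 (flp_i L166705) (flp_e L163571) L170954
theorem L170964 : sm gf N15390 = N14882 := ded_41_1 (flp_i L166371) (flp_f L163575) L170954
theorem L170966 : sm gg N15390 = N14619 := ded_43_1 (flp_i L163577) L163563 L170954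
theorem L170968 : sm gh N14619 = N15391 := rfl
theorem L170970 : sm ga N15391 = N14756 := ded_15_1 (flp_h L165056) (flp_a L163579) L170968
theorem L170972 : sm gc N15391 = N14623 := ded_28_1 (flp_h L163617) (flp_c L163581) L170968
theorem L170974 : sm ge N15391 = N14921 := ded_37_1 (flp_h L166713) (flp_e L163583) L170968
theorem L170976 : sm gf N15391 = N14620 := ded_40_1 (flp_h L163587) (flp_f L163585) L170968
theorem L170978 : sm gd N14620 = N15392 := rfl
theorem L170980 : sm ga N15392 = N14757 := ded_11_1 (flp_d L165064) (flp_a L163589) L170978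
theorem L170982 : sm ge N14621 = N15393 := rfl
theorem L170984 : sm ga N15393 = N14758 := ded_12_1 (flp_e L165066) (flp_a L163597) L170982
theorem L170986 : sm gc N15393 = N15241 := ded_25_1 (flp_e L169621) (flp_c L163601) L170982
theorem L170988 : sm gh N14622 = N15394 := rfl
theorem L170990 : sm ga N15394 = N14759 := ded_15_1 (flp_h L165070) (flp_a L163605) L170988
theorem L170992 : sm gb N15394 = N14661 := ded_22_1 (flp_h L164057) (flp_b L163607) L170988
theorem L170994 : sm ge N15394 = N14924 := ded_37_1 (flp_h L166729) (flp_e L163611) L170988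
theorem L170996 : sm gf N15394 = N14948 := ded_40_1 (flp_h L166988) (flp_f L163613) L170988
theorem L170998 : sm gg N15394 = N14623 := ded_42_1 (flp_h L163617) (flp_g L163615) L170988
theorem L171000 : sm gd N15394 = N15321 := ded_33_1 L170201 L162945 L155556 (flp_d L163609) L170988
theorem L171002 : sm gi N15394 = N14957 := ded_44_2 (flp_h L167081) (flp_i L159282) (flp_h L155452) L163603 L170988
theorem L171004 : sm gd N14623 = N15395 := rfl
theorem L171006 : sm ga N15395 = N14760 := ded_11_1 (flp_d L165078) (flp_a L163619) L171004
theorem L171008 : sm gb N15395 = N14662 := ded_18_1 (flp_d L164073) (flp_b L163621) L171004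
theorem L171010 : sm gf N15395 = N14624 := ded_31_2 (flp_d L163627) (flp_f L163625) L171004
theorem L171012 : sm gg N15395 = N15321 := ded_32_2 (flp_d L171000) L170998 L171004
theorem L171014 : sm gh N15395 = N14634 := ded_33_2 (flp_d L163719) (flp_h L155558) (flp_d L155462) L163617 L171004
theorem L171016 : sm gc N14624 = N15396 := rfl
theorem L171018 : sm ga N15396 = N14761 := ded_10_1 (flp_c L165086) (flp_a L163629) L171016
theorem L171020 : sm ge N15396 = N15243 := ded_25_2 (flp_c L169637) (flp_e L163633) L171016
theorem L171022 : sm gh N15396 = N14635 := ded_28_2 (flp_c L163730) (flp_h L163635) L171016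
theorem L171024 : sm gc N14625 = N15397 := rfl
theorem L171026 : sm ga N15397 = N14769 := ded_10_1 (flp_c L165159) (flp_a L163639) L171024
theorem L171028 : sm ge N15397 = N15180 := ded_25_2 (flp_c L169070) (flp_e L163648) L171024
theorem L171030 : sm gf N15397 = N15183 := ded_26_2 L169095 (flp_f L163643) L171024
theorem L171032 : sm gg N15397 = N14635 := ded_27_2 (flp_c L163730) (flp_g L163645) L171024
theorem L171034 : sm gi N15397 = N15397 := ded_29_2 (flp_c L171024) L163647 L171024
theorem L171035 : sm gb N15397 = N15181 := ded_17_1 (flp_c L169077) L161430 (flp_c L155984) (flp_b L163641) L171024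
theorem L171037 : sm gi N14627 = N15398 := rfl
theorem L171039 : sm ga N15398 = N14771 := ded_16_1 (flp_i L165173) (flp_a L163658) L171037
theorem L171041 : sm gb N15398 = N15172 := ded_23_1 L168997 (flp_b L163660) L171037
theorem L171043 : sm gd N15398 = N14632 := ded_34_1 (flp_i L163698) (flp_d L163662) L171037
theorem L171045 : sm gf N15398 = N15174 := ded_41_1 L169017 (flp_f L163664) L171037
theorem L171047 : sm gg N15398 = N14629 := ded_43_1 (flp_i L163675) L163656 L171037
theorem L171049 : sm gi N14628 = N15399 := rfl
theorem L171051 : sm ga N15399 = N14772 := ded_16_1 (flp_i L165180) (flp_a L163668) L171049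
theorem L171053 : sm gb N15399 = N14830 := ded_23_1 (flp_i L165846) (flp_b L163670) L171049
theorem L171055 : sm gd N15399 = N15399 := ded_34_1 (flp_i L171049) L163674 L171049
theorem L171056 : sm gf N15399 = N14630 := ded_41_1 (flp_i L163683) (flp_f L163672) L171049
theorem L171058 : sm gh N14629 = N15400 := rfl
theorem L171060 : sm ga N15400 = N14773 := ded_15_1 (flp_h L165186) (flp_a L163677) L171058
theorem L171062 : sm gf N15400 = N14631 := ded_40_1 (flp_h L163694) (flp_f L163681) L171058
theorem L171064 : sm gh N14630 = N15401 := rfl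
theorem L171066 : sm ga N15401 = N14774 := ded_15_1 (flp_h L165191) (flp_a L163685) L171064
theorem L171068 : sm gb N15401 = N14831 := ded_22_1 (flp_h L165854) (flp_b L163687) L171064
theorem L171070 : sm ge N15401 = N14688 := ded_37_1 (flp_h L164415) (flp_e L163690) L171064
theorem L171072 : sm gg N15401 = N14698 := ded_42_1 (flp_h L164498) (flp_g L163692) L171064
theorem L171074 : sm gi N15401 = N14631 := ded_44_2 (flp_h L163694) (flp_i L155506) L155495 L163683 L171064
theorem L171076 : sm gd N14631 = N15402 := rfl
theorem L171078 : sm ga N15402 = N14775 := ded_11_1 (flp_d L165196) (flp_a L163696) L171076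
theorem L171080 : sm gh N15402 = N14633 := ded_33_2 (flp_d L163714) (flp_h L155535) (flp_d L155510) L163694 L171076
theorem L171082 : sm gc N14633 = N15403 := rfl
theorem L171084 : sm ga N15403 = N14778 := ded_10_1 (flp_c L165221) (flp_a L163716) L171082
theorem L171086 : sm gi N15403 = N15403 := ded_29_2 (flp_c L171082) L163718 L171082
theorem L171087 : sm gd N15403 = N14635 := ded_24_2 (flp_c L163730) (flp_d L155571) (flp_c L155539) L163714 L171082
theorem L171089 : sm gc N14634 = N15404 := rfl
theorem L171091 : sm ga N15404 = N14780 := ded_10_1 (flp_c L165232) (flp_a L163721) L171089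
theorem L171093 : sm gf N15404 = N14635 := ded_26_2 (flp_c L163730) (flp_f L163725) L171089
theorem L171095 : sm gg N15404 = N15316 := ded_27_2 L170160 (flp_g L163727) L171089
theorem L171097 : sm gi N15404 = N15404 := ded_29_2 (flp_c L171089) L163729 L171089
theorem L171098 : sm gb N15404 = N15315 := ded_17_1 (flp_c L170150) L162799 (flp_c L155997) (flp_b L163723) L171089
theorem L171100 : sm gb N14635 = N15405 := rfl
theorem L171102 : sm ge N15405 = N15255 := ded_19_2 (flp_b L169742) (flp_e L163734) L171100
theorem L171104 : sm gf N15405 = N15315 := ded_20_2 (flp_b L171098) L171093 L171100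
theorem L171106 : sm gg N15405 = N15181 := ded_21_2 (flp_b L171035) L171032 L171100
theorem L171108 : sm gi N15405 = N15405 := ded_23_2 (flp_b L171100) L163736 L171100
theorem L171109 : sm gc N15405 = N14665 := ded_17_2 (flp_b L164112) (flp_c L155999) (flp_b L155575) L163730 L171100
theorem L171111 : sm gh N14637 = N15406 := rfl
theorem L171113 : sm ga N15406 = N14995 := ded_15_1 (flp_h L167421) (flp_a L163755) L171111
theorem L171115 : sm gb N15406 = N14638 := ded_22_1 (flp_h L163766) (flp_b L163757) L171111
theorem L171117 : sm ge N15406 = N14904 := ded_37_1 (flp_h L166571) (flp_e L163760) L171111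
theorem L171119 : sm gf N15406 = N14894 := ded_40_1 (flp_h L166478) (flp_f L163762) L171111
theorem L171121 : sm gg N15406 = N14642 := ded_42_1 (flp_h L163821) (flp_g L163764) L171111
theorem L171123 : sm gi N15406 = N14651 := ded_44_2 (flp_h L163937) (flp_i L155823) (flp_h L155639) L163753 L171111
theorem L171125 : sm gd N14638 = N15407 := rfl
theorem L171127 : sm ga N15407 = N14670 := ded_11_1 (flp_d L164165) (flp_a L163768) L171125
theorem L171129 : sm gf N15407 = N14950 := ded_31_2 (flp_d L167007) (flp_f L163774) L171125
theorem L171131 : sm gg N15407 = N14644 := ded_32_2 (flp_d L163845) (flp_g L163776) L171125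
theorem L171133 : sm gi N15407 = N14652 := ded_34_2 (flp_d L163945) (flp_i L163778) L171125
theorem L171135 : sm gc N15407 = N14966 := ded_24_1 (flp_d L167148) L159396 (flp_d L155675) (flp_c L163770) L171125
theorem L171137 : sm ge N15407 = N14790 := ded_30_2 (flp_d L165355) L157327 (flp_d L159259) (flp_e L163772) L171125
theorem L171139 : sm gh N15407 = N15407 := ded_33_2 (flp_d L171125) (flp_h L163766) L155649 L163766 L171125
theorem L171140 : sm gd N14639 = N15408 := rfl
theorem L171142 : sm ga N15408 = N14671 := ded_11_1 (flp_d L164180) (flp_a L163782) L171140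
theorem L171144 : sm gf N15408 = N14953 := ded_31_2 (flp_d L167038) (flp_f L163788) L171140
theorem L171146 : sm gg N15408 = N14646 := ded_32_2 (flp_d L163870) (flp_g L163790) L171140
theorem L171148 : sm gi N15408 = N14653 := ded_34_2 (flp_d L163959) (flp_i L163792) L171140
theorem L171150 : sm gc N15408 = N15106 := ded_24_1 (flp_d L168361) L160609 (flp_d L159259) (flp_c L163784) L171140
theorem L171152 : sm ge N15408 = N15114 := ded_30_2 (flp_d L168428) L160722 (flp_d L155675) (flp_e L163786) L171140
theorem L171154 : sm gh N15408 = N15408 := ded_33_2 (flp_d L171140) (flp_h L163780) L155662 L163780 L171140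
theorem L171155 : sm gh N14640 = N15409 := rfl
theorem L171157 : sm ga N15409 = N14642 := ded_15_1 (flp_h L163821) (flp_a L163796) L171155
theorem L171159 : sm gb N15409 = N14672 := ded_22_1 (flp_h L164195) (flp_b L163798) L171155
theorem L171161 : sm ge N15409 = N15052 := ded_37_1 (flp_h L167898) (flp_e L163801) L171155
theorem L171163 : sm gf N15409 = N14947 := ded_40_1 (flp_h L166978) (flp_f L163803) L171155
theorem L171165 : sm gg N15409 = N14995 := ded_42_1 (flp_h L167421) (flp_g L163805) L171155
theorem L171167 : sm gi N15409 = N14655 := ded_44_2 (flp_h L163987) (flp_i L155869) (flp_h L155686) L163794 L171155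
theorem L171169 : sm gh N14641 = N15410 := rfl
theorem L171171 : sm ga N15410 = N15052 := ded_15_1 (flp_h L167898) (flp_a L163809) L171169
theorem L171173 : sm gb N15410 = N14643 := ded_22_1 (flp_h L163829) (flp_b L163811) L171169
theorem L171175 : sm ge N15410 = N14642 := ded_37_1 (flp_h L163821) (flp_e L163815) L171169
theorem L171177 : sm gf N15410 = N14924 := ded_40_1 (flp_h L166729) (flp_f L163817) L171169
theorem L171179 : sm gg N15410 = N14904 := ded_42_1 (flp_h L166571) (flp_g L163819) L171169
theorem L171181 : sm gd N15410 = N15041 := ded_33_1 (flp_h L167798) L160061 (flp_h L158958) (flp_d L163813) L171169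
theorem L171183 : sm gi N15410 = N14657 := ded_44_2 (flp_h L164009) (flp_i L155893) (flp_h L155700) L163807 L171169
theorem L171185 : sm gd N14642 = N15411 := rfl
theorem L171187 : sm gb N15411 = N14644 := ded_18_1 (flp_d L163845) (flp_b L163823) L171185
theorem L171189 : sm gf N15411 = N14949 := ded_31_2 (flp_d L167000) (flp_f L163825) L171185
theorem L171191 : sm gi N15411 = N14658 := ded_34_2 (flp_d L164019) (flp_i L163827) L171185
theorem L171193 : sm gh N15411 = N15411 := ded_33_2 (flp_d L171185) (flp_h L163821) L155710 L163821 L171185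
theorem L171194 : sm ge N14644 = N15412 := rfl
theorem L171196 : sm ga N15412 = N14674 := ded_12_1 (flp_e L164224) (flp_a L163847) L171194
theorem L171198 : sm gc N15412 = N15257 := ded_25_1 (flp_e L169754) (flp_c L163853) L171194
theorem L171200 : sm gg N15412 = N14790 := ded_36_2 (flp_e L171137) L171131 L171194
theorem L171202 : sm gh N15412 = N15412 := ded_37_2 (flp_e L171194) L163855 L171194
theorem L171203 : sm gi N15412 = N14660 := ded_38_2 (flp_e L164043) (flp_i L163851) L171194
theorem L171205 : sm gd N15412 = N14789 := ded_30_1 L165347 (flp_d L163841) L163835 L163845 L171194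
theorem L171207 : sm gf N14967 = N15412 := ded_13_0 L171196 (flp_f L164237) (flp_a L167159)
theorem L171209 : sm gd N14645 = N15413 := rfl
theorem L171211 : sm ga N15413 = N14675 := ded_11_1 (flp_d L164239) (flp_a L163858) L171209
theorem L171213 : sm gf N15413 = N14646 := ded_31_2 (flp_d L163870) (flp_f L163864) L171209
theorem L171215 : sm gg N15413 = N14961 := ded_32_2 (flp_d L167104) (flp_g L163866) L171209
theorem L171217 : sm gi N15413 = N14662 := ded_34_2 (flp_d L164073) (flp_i L163868) L171209
theorem L171219 : sm gc N15413 = N14821 := ded_24_1 (flp_d L165732) (flp_c L164318) L164326 (flp_c L163860) L171209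
theorem L171221 : sm ge N15413 = N14997 := ded_30_2 (flp_d L167434) L159806 (flp_d L159204) (flp_e L163862) L171209
theorem L171223 : sm gh N15413 = N15413 := ded_33_2 (flp_d L171209) (flp_h L163856) L155743 L163856 L171209
theorem L171224 : sm gc N14646 = N15414 := rfl
theorem L171226 : sm ga N15414 = N14676 := ded_10_1 (flp_c L164254) (flp_a L163872) L171224
theorem L171228 : sm ge N15414 = N15258 := ded_25_2 (flp_c L169761) (flp_e L163876) L171224
theorem L171230 : sm gf N15414 = N14821 := ded_26_2 (flp_c L171219) L171213 L171224
theorem L171232 : sm gg N15414 = N15106 := ded_27_2 (flp_c L171150) L171146 L171224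
theorem L171234 : sm gh N15414 = N15414 := ded_28_2 (flp_c L171224) L163878 L171224
theorem L171235 : sm gi N15414 = N14663 := ded_29_2 (flp_c L164085) (flp_i L163874) L171224
theorem L171237 : sm gd N15414 = N14820 := ded_24_2 L165722 (flp_d L163841) L163833 L163870 L171224
theorem L171239 : sm gh N14647 = N15415 := rfl
theorem L171241 : sm ga N15415 = N14851 := ded_15_1 (flp_h L166076) (flp_a L163881) L171239
theorem L171243 : sm gb N15415 = N14648 := ded_22_1 (flp_h L163893) (flp_b L163883) L171239
theorem L171245 : sm ge N15415 = N14877 := ded_37_1 (flp_h L166317) (flp_e L163887) L171239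
theorem L171247 : sm gf N15415 = N14651 := ded_40_1 (flp_h L163937) (flp_f L163889) L171239
theorem L171249 : sm gg N15415 = N14853 := ded_42_1 (flp_h L166100) (flp_g L163891) L171239
theorem L171251 : sm gd N15415 = N15301 := ded_33_1 L170056 L162814 L156037 (flp_d L163885) L171239
theorem L171253 : sm gi N15415 = N14894 := ded_44_2 (flp_h L166478) (flp_i L158674) (flp_h L155768) L163879 L171239
theorem L171255 : sm gd N14649 = N15416 := rfl
theorem L171257 : sm ga N15416 = N14677 := ded_11_1 (flp_d L164269) (flp_a L163911) L171255
theorem L171259 : sm gf N15416 = N14946 := ded_31_2 (flp_d L166967) (flp_f L163917) L171255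
theorem L171261 : sm gg N15416 = N14950 := ded_32_2 (flp_d L167007) (flp_g L163919) L171255
theorem L171263 : sm gi N15416 = N14859 := ded_34_2 (flp_d L166160) (flp_i L163921) L171255
theorem L171265 : sm gc N15416 = N14997 := ded_24_1 (flp_d L167434) L159804 (flp_d L159125) (flp_c L163913) L171255
theorem L171267 : sm ge N15416 = N14821 := ded_30_2 (flp_d L165732) L157766 (flp_d L155807) (flp_e L163915) L171255
theorem L171269 : sm gh N15416 = N15416 := ded_33_2 (flp_d L171255) (flp_h L163909) L155792 L163909 L171255
theorem L171270 : sm gh N14650 = N15417 := rfl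
theorem L171272 : sm ga N15417 = N14651 := ded_15_1 (flp_h L163937) (flp_a L163925) L171270
theorem L171274 : sm gb N15417 = N14678 := ded_22_1 (flp_h L164284) (flp_b L163927) L171270
theorem L171276 : sm ge N15417 = N14925 := ded_37_1 L166747 (flp_e L163931) L171270
theorem L171278 : sm gf N15417 = N14851 := ded_40_1 (flp_h L166076) (flp_f L163933) L171270
theorem L171280 : sm gg N15417 = N14655 := ded_42_1 (flp_h L163987) (flp_g L163935) L171270
theorem L171282 : sm gi N15417 = N14995 := ded_44_2 (flp_h L167421) (flp_i L159785) (flp_h L155819) L163923 L171270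
theorem L171284 : sm gd N14651 = N15418 := rfl
theorem L171286 : sm gb N15418 = N14652 := ded_18_1 (flp_d L163945) (flp_b L163939) L171284
theorem L171288 : sm gf N15418 = N15301 := ded_31_2 (flp_d L171251) L171247 L171284
theorem L171290 : sm gg N15418 = N14658 := ded_32_2 (flp_d L164019) (flp_g L163943) L171284
theorem L171292 : sm ge N15418 = N14760 := ded_30_2 (flp_d L165078) L156975 L160305 (flp_e L163941) L171284
theorem L171294 : sm gh N15418 = N14666 := ded_33_2 (flp_d L164123) (flp_h L156053) (flp_d L155827) L163937 L171284
theorem L171296 : sm gh N14654 = N15419 := rfl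
theorem L171298 : sm ga N15419 = N14657 := ded_15_1 (flp_h L164009) (flp_a L163975) L171296
theorem L171300 : sm gb N15419 = N14680 := ded_22_1 (flp_h L164314) (flp_b L163977) L171296
theorem L171302 : sm ge N15419 = N14655 := ded_37_1 (flp_h L163987) (flp_e L163981) L171296
theorem L171304 : sm gf N15419 = N15041 := ded_40_1 (flp_h L167798) (flp_f L163983) L171296
theorem L171306 : sm gg N15419 = N14925 := ded_42_1 L166747 (flp_g L163985) L171296
theorem L171308 : sm gd N15419 = N14924 := ded_33_1 (flp_h L166729) L158872 L159054 (flp_d L163979) L171296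
theorem L171310 : sm gi N15419 = N15052 := ded_44_2 (flp_h L167898) (flp_i L160131) (flp_h L155863) L163973 L171296
theorem L171312 : sm gd N14655 = N15420 := rfl
theorem L171314 : sm ga N15420 = N14658 := ded_11_1 (flp_d L164019) (flp_a L163989) L171312
theorem L171316 : sm gb N15420 = N14681 := ded_18_1 (flp_d L164330) (flp_b L163991) L171312
theorem L171318 : sm gf N15420 = N14956 := ded_31_2 (flp_d L167071) (flp_f L163993) L171312
theorem L171320 : sm ge N15420 = N15321 := ded_30_2 (flp_d L171000) L170994 (flp_d L171308) L171302 L171312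
theorem L171322 : sm gh N15420 = N14667 := ded_33_2 (flp_d L164134) (flp_h L156077) (flp_d L155875) L163987 L171312
theorem L171324 : sm gh N14656 = N15421 := rfl
theorem L171326 : sm ga N15421 = N15041 := ded_15_1 (flp_h L167798) (flp_a L163997) L171324
theorem L171328 : sm gb N15421 = N14659 := ded_22_1 (flp_h L164027) (flp_b L163999) L171324
theorem L171330 : sm ge N15421 = N14957 := ded_37_1 (flp_h L167081) (flp_e L164003) L171324
theorem L171332 : sm gf N15421 = N14657 := ded_40_1 (flp_h L164009) (flp_f L164005) L171324
theorem L171334 : sm gg N15421 = N14890 := ded_42_1 (flp_h L166443) (flp_g L164007) L171324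
theorem L171336 : sm gd N15421 = N15052 := ded_33_1 (flp_h L167898) L160135 L160418 (flp_d L164001) L171324
theorem L171338 : sm gi N15421 = N14924 := ded_44_2 (flp_h L166729) (flp_i L158866) (flp_h L155887) L163995 L171324
theorem L171340 : sm gc N14658 = N15422 := rfl
theorem L171342 : sm gf N15422 = N14959 := ded_26_2 (flp_c L167094) (flp_f L164023) L171340
theorem L171344 : sm gh N15422 = N14668 := ded_28_2 (flp_c L164145) (flp_h L164025) L171340
theorem L171346 : sm gb N15422 = N15260 := ded_17_1 (flp_c L169773) L162467 (flp_c L155941) (flp_b L164021) L171340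
theorem L171348 : sm ge N14658 = N15423 := rfl
theorem L171350 : sm ga N15423 = N15321 := ded_12_1 (flp_e L171320) L171314 L171348
theorem L171352 : sm gb N15423 = N14660 := ded_19_1 (flp_e L164043) (flp_b L164021) L171348
theorem L171354 : sm gg N15423 = N14760 := ded_36_2 (flp_e L171292) L171290 L171348
theorem L171356 : sm gh N15423 = N14669 := ded_37_2 (flp_e L164152) (flp_h L164025) L171348
theorem L171358 : sm gd N15423 = N14759 := ded_30_1 L165074 (flp_d L164017) L164013 L164019 L171348
theorem L171360 : sm gf N15322 = N15423 := ded_46_1 (flp_e L171348) (flp_d L164019) (flp_c L163533) L163531 L155436 (flp_h L148151) L138871 (flp_e L142503) (flp_d L151642) L151640 L142609 L134402 L143689 (flp_f L152810) (flp_e L161306) L169019 (flp_c L169028) (flp_b L171068) L171066 (flp_h L165191) (flp_f L165184) (flp_e L169325) L169323 L161878 L153576 L144798 (flp_h L141836) L141832 L132724 (flp_d L129854) (flp_c L137468) L137467 (flp_a L146518) (flp_h L146528) L146315 (flp_e L146308) (flp_d L137126) (flp_c L136828) (flp_b L145746) (flp_a L154197) (flp_h L154195) L145282 L136303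 L128140 L121135 L66845 L48930 (flp_h L48739) L48737 L35740 (flp_d L44778) L44777 L44775 (flp_a L44951) L61344 (flp_f L121448) (flp_e L128562) L136835 L145943 L154804 L162950 (flp_h L170205)
theorem L171362 : sm ge N14662 = N15424 := rfl
theorem L171364 : sm ga N15424 = N14679 := ded_12_1 L164310 (flp_a L164075) L171362
theorem L171366 : sm gc N15424 = N14859 := ded_25_1 L166168 (flp_c L164081) L171362
theorem L171368 : sm gg N15424 = N14681 := ded_36_2 L164338 (flp_g L164079) L171362
theorem L171370 : sm gh N15424 = N14664 := ded_37_2 (flp_e L164099) (flp_h L164083) L171362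
theorem L171372 : sm gi N15424 = N14997 := ded_38_2 (flp_e L171221) L171217 L171362
theorem L171374 : sm gd N15424 = N14678 := ded_30_1 L164290 (flp_d L159330) (flp_e L155963) L164073 L171362
theorem L171376 : sm gf N15424 = N14852 := ded_35_2 L166096 L162486 (flp_e L155971) (flp_f L164077) L171362
theorem L171378 : sm gb N14663 = N15425 := rfl
theorem L171380 : sm gd N15425 = N15109 := ded_18_2 L168390 (flp_d L164097) L171378
theorem L171382 : sm ge N15425 = N15265 := ded_19_2 (flp_b L169805) (flp_e L164089) L171378
theorem L171384 : sm gf N15425 = N15299 := ded_20_2 L170040 (flp_f L164091) L171378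
theorem L171386 : sm gg N15425 = N15110 := ded_21_2 L168398 (flp_g L164093) L171378
theorem L171388 : sm gh N15425 = N14665 := ded_22_2 (flp_b L164112) (flp_h L164095) L171378
theorem L171390 : sm ga N14665 = N15426 := rfl
theorem L171392 : sm gd N15426 = N15178 := ded_11_2 L169051 (flp_d L164114) L171390
theorem L171394 : sm ge N15426 = N15266 := ded_12_2 (flp_a L169809) (flp_e L164116) L171390
theorem L171396 : sm gf N15426 = N14858 := ded_13_2 L166151 (flp_f L164118) L171390
theorem L171398 : sm gg N15426 = N15179 := ded_14_2 L169063 (flp_g L164120) L171390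
theorem L171400 : sm gi N15426 = N15426 := ded_16_2 (flp_a L171390) L164122 L171390
theorem L171401 : sm gb N15426 = N14683 := ded_9_2 (flp_a L164358) (flp_b L156442) (flp_a L156001) L164112 L171390
theorem L171403 : sm gc N14666 = N15427 := rfl
theorem L171405 : sm ge N15427 = N14780 := ded_25_2 (flp_c L165232) (flp_e L164132) L171403
theorem L171407 : sm gf N15427 = N15317 := ded_26_2 L170164 (flp_f L164127) L171403
theorem L171409 : sm gg N15427 = N14668 := ded_27_2 (flp_c L164145) (flp_g L164129) L171403
theorem L171411 : sm gi N15427 = N15427 := ded_29_2 (flp_c L171403) L164131 L171403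
theorem L171412 : sm gb N15427 = N14964 := ded_17_1 (flp_c L167134) L159367 (flp_c L156073) (flp_b L164125) L171403
theorem L171414 : sm gc N14667 = N15428 := rfl
theorem L171416 : sm ga N15428 = N14668 := ded_10_1 (flp_c L164145) (flp_a L164136) L171414
theorem L171418 : sm ge N15428 = N15316 := ded_25_2 L170160 (flp_e L164143) L171414
theorem L171420 : sm gf N15428 = N14964 := ded_26_2 (flp_c L167134) (flp_f L164140) L171414
theorem L171422 : sm gi N15428 = N15428 := ded_29_2 (flp_c L171414) L164142 L171414
theorem L171423 : sm gb N15428 = N15317 := ded_17_1 L170164 L162811 (flp_c L156462) (flp_b L164138) L171414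
theorem L171425 : sm ge N14668 = N15429 := rfl
theorem L171427 : sm ga N15429 = N15316 := ded_12_1 (flp_e L171418) L171416 L171425
theorem L171429 : sm gb N15429 = N15267 := ded_19_1 (flp_e L169817) (flp_b L164150) L171425
theorem L171431 : sm gc N15429 = N14669 := ded_25_1 (flp_e L164152) L164145 L171425
theorem L171433 : sm gg N15429 = N14780 := ded_36_2 (flp_e L171405) L171409 L171425
theorem L171435 : sm gi N15429 = N15429 := ded_38_2 (flp_e L171425) L164149 L171425
theorem L171436 : sm gf N15318 = N15429 := ded_13_0 L171427 L170157 L170167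
theorem L171438 : sm gd N14672 = N15430 := rfl
theorem L171440 : sm ga N15430 = N14673 := ded_11_1 (flp_d L164209) (flp_a L164197) L171438
theorem L171442 : sm gf N15430 = N14966 := ded_31_2 (flp_d L167148) (flp_f L164203) L171438
theorem L171444 : sm gg N15430 = N14997 := ded_32_2 (flp_d L167434) (flp_g L164205) L171438
theorem L171446 : sm gi N15430 = N14681 := ded_34_2 (flp_d L164330) (flp_i L164207) L171438
theorem L171448 : sm gc N15430 = N14950 := ded_24_1 (flp_d L167007) (flp_c L163741) L163749 (flp_c L164199) L171438
theorem L171450 : sm ge N15430 = N14961 := ded_30_2 (flp_d L167104) (flp_e L164033) L164039 (flp_e L164201) L171438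
theorem L171452 : sm gh N15430 = N15430 := ded_33_2 (flp_d L171438) (flp_h L164195) L156156 L164195 L171438
theorem L171453 : sm ga N14682 = N15431 := rfl
theorem L171455 : sm gc N15431 = N14824 := ded_10_2 (flp_a L165771) (flp_c L164356) L171453
theorem L171457 : sm gd N15431 = N14787 := ded_11_2 L165315 (flp_d L164344) L171453
theorem L171459 : sm ge N15431 = N15264 := ded_12_2 L169799 (flp_e L164346) L171453
theorem L171461 : sm gf N15431 = N14788 := ded_13_2 L165329 (flp_f L164348) L171453
theorem L171463 : sm gg N15431 = N15116 := ded_14_2 L168454 (flp_g L164350) L171453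
theorem L171465 : sm gh N15431 = N14683 := ded_15_2 (flp_a L164358) (flp_h L164352) L171453
theorem L171467 : sm gi N15431 = N14805 := ded_16_2 L165538 (flp_i L164354) L171453
theorem L171469 : sm gi N14684 = N15432 := rfl
theorem L171471 : sm gb N15432 = N14847 := ded_23_1 (flp_i L166028) (flp_b L164379) L171469
theorem L171473 : sm gc N15432 = N14685 := ded_29_1 (flp_i L164383) L164371 L171469
theorem L171475 : sm gd N15432 = N14699 := ded_34_1 (flp_i L164504) (flp_d L164381) L171469
theorem L171477 : sm ge N15432 = N15380 := ded_38_1 (flp_i L170852) (flp_e L164373) L171469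
theorem L171479 : sm gf N15432 = N14687 := ded_41_1 (flp_i L164407) (flp_f L164375) L171469
theorem L171481 : sm gg N15432 = N14968 := ded_43_1 (flp_i L167166) (flp_g L164377) L171469
theorem L171483 : sm gh N14685 = N15433 := rfl
theorem L171485 : sm gb N15433 = N14825 := ded_22_1 (flp_h L165779) (flp_b L164385) L171483
theorem L171487 : sm gf N15433 = N14688 := ded_40_1 (flp_h L164415) (flp_f L164389) L171483
theorem L171489 : sm gg N15433 = N14998 := ded_42_1 (flp_h L167441) (flp_g L164391) L171483
theorem L171491 : sm gd N15433 = N14835 := ded_33_1 (flp_h L165895) L157962 (flp_h L156484) (flp_d L164387) L171483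
theorem L171493 : sm gi N14686 = N15434 := rfl
theorem L171495 : sm ga N15434 = N14983 := ded_16_1 (flp_i L167315) L164405 L171493
theorem L171497 : sm gb N15434 = N14687 := ded_23_1 (flp_i L164407) L164393 L171493
theorem L171499 : sm gc N15434 = N14827 := ded_29_1 (flp_i L165804) (flp_c L164403) L171493
theorem L171501 : sm gd N15434 = N14701 := ded_34_1 (flp_i L164530) (flp_d L164395) L171493
theorem L171503 : sm gf N15434 = N14847 := ded_41_1 (flp_i L166028) (flp_f L164397) L171493
theorem L171505 : sm gg N15434 = N14691 := ded_43_1 (flp_i L164443) (flp_g L164399) L171493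
theorem L171507 : sm gh N14687 = N15435 := rfl
theorem L171509 : sm gc N15435 = N14688 := ded_28_1 (flp_h L164415) (flp_c L164409) L171507
theorem L171511 : sm gg N15435 = N14695 := ded_42_1 (flp_h L164474) (flp_g L164413) L171507
theorem L171513 : sm ge N14689 = N15436 := rfl
theorem L171515 : sm ga N15436 = N14690 := ded_12_1 (flp_e L164433) L164423 L171513
theorem L171517 : sm gb N15436 = N15279 := ded_19_1 L170337 L170335 L171513
theorem L171519 : sm gc N15436 = N14832 := ded_25_1 (flp_e L165861) (flp_c L164425) L171513
theorem L171521 : sm gg N15436 = N14981 := ded_36_2 (flp_e L167293) (flp_g L164431) L171513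
theorem L171523 : sm gh N15436 = N15019 := ded_37_2 L167626 L166178 L171513
theorem L171525 : sm gd N15436 = N15044 := ded_30_1 L167836 L162658 L156646 (flp_d L164427) L171513
theorem L171527 : sm gf N15020 = N15436 := ded_47_2 (flp_e L171513) L164427 L156638 L148465 L139541 (flp_g L139644) L139642 L131727 (flp_d L124978) L67356 (flp_b L68472) (flp_h L68469) L68458 (flp_f L123225) L131003 L131012 (flp_c L131032) L131031 L131036 L131034 L123274 (flp_e L123267) (flp_d L68554) (flp_c L68546) L50054 L36714 (flp_g L39566) L39564 L82594 (flp_d L31921) L23464 L17287 (flp_h L17283) (flp_g L12721) (flp_f L9364) L6929 (flp_d L6922) (flp_c L6697) L6695 L6650 (flp_g L7618) L10321 (flp_e L13905) (flp_d L18881) (flp_c L25641) (flp_b L34919) L47601 (flp_g L65041) L65040 (flp_e L122594) L130091 L138837 L148063 (flp_h L156589) L156587 L147990 L151456 L159980 L159986 L159982 L160021 (flp_g L167636)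
theorem L171529 : sm gi N14689 = N15437 := rfl
theorem L171531 : sm ga N15437 = N14691 := ded_16_1 (flp_i L164443) L164423 L171529
theorem L171533 : sm gc N15437 = N14833 := ded_29_1 (flp_i L165874) (flp_c L164425) L171529
theorem L171535 : sm gd N15437 = N14706 := ded_34_1 (flp_i L164585) (flp_d L164427) L171529
theorem L171537 : sm gf N15437 = N15004 := ded_41_1 (flp_i L167499) (flp_f L164429) L171529
theorem L171539 : sm gg N15437 = N14983 := ded_43_1 (flp_i L167315) (flp_g L164431) L171529
theorem L171541 : sm gd N14690 = N15438 := rfl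
theorem L171543 : sm ga N15438 = N15044 := ded_11_1 (flp_d L171525) L171515 L171541
theorem L171545 : sm gb N15438 = N14692 := ded_18_1 (flp_d L164453) (flp_b L164435) L171541
theorem L171547 : sm gf N15438 = N14899 := ded_31_2 L166533 L164441 L171541
theorem L171549 : sm gg N15438 = N15234 := ded_32_2 (flp_d L170850) L170848 L171541
theorem L171551 : sm gc N15438 = N14929 := ded_24_1 L166797 L161636 L157954 (flp_c L164437) L171541
theorem L171553 : sm ge N15438 = N14707 := ded_30_2 (flp_d L164597) (flp_e L156648) (flp_d L156502) L164433 L171541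
theorem L171555 : sm gh N15438 = N14898 := ded_33_2 L166523 L158727 (flp_d L161942) (flp_h L164439) L171541
theorem L171557 : sm gi N14690 = N15439 := rfl
theorem L171559 : sm gb N15439 = N14694 := ded_23_1 (flp_i L164468) (flp_b L164435) L171557
theorem L171561 : sm gc N15439 = N14834 := ded_29_1 (flp_i L165885) (flp_c L164437) L171557
theorem L171563 : sm ge N15439 = N14691 := ded_38_1 (flp_i L164443) L164433 L171557
theorem L171565 : sm gf N15439 = N15209 := ded_41_1 L169352 L164441 L171557
theorem L171567 : sm gh N14691 = N15440 := rfl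
theorem L171569 : sm gb N15440 = N14695 := ded_22_1 (flp_h L164474) (flp_b L164445) L171567
theorem L171571 : sm gc N15440 = N14835 := ded_28_1 (flp_h L165895) (flp_c L164447) L171567
theorem L171573 : sm gf N15440 = N15008 := ded_40_1 (flp_h L167538) (flp_f L164451) L171567
theorem L171575 : sm gf N14692 = N15441 := rfl
theorem L171577 : sm ga N15441 = N15230 := ded_13_1 L170376 L170365 L171575
theorem L171579 : sm gb N15441 = N14899 := ded_20_1 (flp_f L171547) L171545 L171575
theorem L171581 : sm gc N15441 = N15441 := ded_26_1 (flp_f L171575) L164455 L171575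
theorem L171582 : sm gd N15441 = N14693 := ded_31_1 (flp_f L164458) L164453 L171575
theorem L171584 : sm gh N15441 = N14895 := ded_40_2 (flp_f L170481) L170488 L171575
theorem L171586 : sm gg N14909 = N15441 := ded_47_1 (flp_f L171575) L164456 (flp_d L156668) L147998 L138805 L130289 (flp_g L130337) L139253 L139263 L136381 (flp_c L136375) (flp_b L136236) L136238 (flp_g L133664) (flp_f L139287) L148676 L148686 (flp_c L156876) (flp_b L163477) L163483 (flp_g L160099) (flp_f L151528) (flp_e L142427) (flp_d L133329) L133333 (flp_b L125478) (flp_h L125440) L125438 (flp_f L124982) (flp_e L131727) (flp_d L131721) L123925 L66537 (flp_h L64772) (flp_g L47401) L34772 (flp_e L26290) L19332 L14210 L11212 L11213 L15242 L15249 L15247 (flp_d L20744) (flp_c L28244) (flp_b L38521) L52634 L52642 L38532 L28231 L38534 L52661 L52666 (flp_h L66854) L66853 (flp_f L124310) L132126 L141112 (flp_c L150197) (flp_b L158795) L166623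
theorem L171588 : sm gi N14692 = N15442 := rfl
theorem L171590 : sm gc N15442 = N15442 := ded_29_1 (flp_i L171588) L164455 L171588
theorem L171591 : sm gd N15442 = N14694 := ded_34_1 (flp_i L164468) L164453 L171588
theorem L171593 : sm ge N15442 = N14713 := ded_38_1 (flp_i L164653) (flp_e L164456) L171588
theorem L171595 : sm gg N14693 = N15443 := rfl
theorem L171597 : sm gb N15443 = N14885 := ded_21_1 L166403 (flp_b L164460) L171595
theorem L171599 : sm gc N15443 = N14696 := ded_27_1 (flp_g L164480) (flp_c L164462) L171595
theorem L171601 : sm gd N15443 = N14909 := ded_32_1 L171586 L171582 L171595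
theorem L171603 : sm ge N15443 = N15012 := ded_36_1 (flp_g L167570) (flp_e L164466) L171595
theorem L171605 : sm gh N15443 = N14881 := ded_42_2 L166367 (flp_h L164464) L171595
theorem L171607 : sm gi N14693 = N15444 := rfl
theorem L171609 : sm gb N15444 = N15209 := ded_23_1 L169352 (flp_b L164460) L171607
theorem L171611 : sm gc N15444 = N14697 := ded_29_1 (flp_i L164489) (flp_c L164462) L171607
theorem L171613 : sm ge N15444 = N15013 := ded_38_1 (flp_i L167580) (flp_e L164466) L171607
theorem L171615 : sm gf N15444 = N14694 := ded_41_1 (flp_i L164468) L164458 L171607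
theorem L171617 : sm gh N14694 = N15445 := rfl
theorem L171619 : sm gc N15445 = N14698 := ded_28_1 (flp_h L164498) (flp_c L164470) L171617
theorem L171621 : sm ge N15445 = N14695 := ded_37_1 (flp_h L164474) (flp_e L164472) L171617
theorem L171623 : sm gd N14695 = N15446 := rfl
theorem L171625 : sm gf N15446 = N15015 := ded_31_2 (flp_d L167592) (flp_f L164478) L171623
theorem L171627 : sm gc N15446 = N15274 := ded_24_1 (flp_d L169879) L162570 (flp_d L156542) (flp_c L164476) L171623
theorem L171629 : sm gh N15446 = N14717 := ded_33_2 (flp_d L164688) (flp_h L156685) (flp_d L156516) L164474 L171623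
theorem L171631 : sm gi N14696 = N15447 := rfl
theorem L171633 : sm gb N15447 = N14837 := ded_23_1 (flp_i L165914) (flp_b L164482) L171631
theorem L171635 : sm gd N15447 = N15447 := ded_34_1 (flp_i L171631) L164484 L171631
theorem L171636 : sm ge N15447 = N15016 := ded_38_1 (flp_i L167596) (flp_e L164485) L171631
theorem L171638 : sm gg N15447 = N14697 := ded_43_1 (flp_i L164489) L164480 L171631
theorem L171640 : sm gh N14697 = N15448 := rfl
theorem L171642 : sm gb N15448 = N14838 := ded_22_1 (flp_h L165924) (flp_b L164491) L171640
theorem L171644 : sm ge N15448 = N15017 := ded_37_1 (flp_h L167604) (flp_e L164494) L171640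
theorem L171646 : sm gf N15448 = N14698 := ded_40_1 (flp_h L164498) (flp_f L164496) L171640
theorem L171648 : sm gi N15448 = N15177 := ded_44_2 L169047 L161375 (flp_h L156525) L164489 L171640
theorem L171650 : sm gd N14698 = N15449 := rfl
theorem L171652 : sm gb N15449 = N14839 := ded_18_1 (flp_d L165935) (flp_b L164500) L171650
theorem L171654 : sm ge N15449 = N15277 := ded_30_2 (flp_d L169904) L162596 (flp_d L156542) (flp_e L164502) L171650
theorem L171656 : sm gh N15449 = N15449 := ded_33_2 (flp_d L171650) (flp_h L164498) L156533 L164498 L171650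
theorem L171657 : sm gh N14699 = N15450 := rfl
theorem L171659 : sm gb N15450 = N14848 := ded_22_1 (flp_h L166040) (flp_b L164506) L171657
theorem L171661 : sm gc N15450 = N14700 := ded_28_1 (flp_h L164516) (flp_c L164508) L171657
theorem L171663 : sm ge N15450 = N14846 := ded_37_1 (flp_h L166020) (flp_e L164510) L171657
theorem L171665 : sm gf N15450 = N14704 := ded_40_1 (flp_h L164565) (flp_f L164512) L171657
theorem L171667 : sm gg N15450 = N14972 := ded_42_1 (flp_h L167208) (flp_g L164514) L171657
theorem L171669 : sm gi N15450 = N14723 := ded_44_2 (flp_h L164751) (flp_i L156735) (flp_h L156567) L164504 L171657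
theorem L171671 : sm gh N14701 = N15451 := rfl
theorem L171673 : sm ga N15451 = N14986 := ded_15_1 (flp_h L167341) (flp_a L164532) L171671
theorem L171675 : sm gb N15451 = N14704 := ded_22_1 (flp_h L164565) (flp_b L164534) L171671
theorem L171677 : sm gc N15451 = N14782 := ded_28_1 (flp_h L165244) (flp_c L164536) L171671
theorem L171679 : sm ge N15451 = N15239 := ded_37_1 (flp_h L169609) (flp_e L164538) L171671
theorem L171681 : sm gf N15451 = N14848 := ded_40_1 (flp_h L166040) (flp_f L164540) L171671
theorem L171683 : sm gg N15451 = N14710 := ded_42_1 (flp_h L164633) (flp_g L164542) L171671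
theorem L171685 : sm gi N15451 = N14728 := ded_44_2 (flp_h L164814) (flp_i L156794) (flp_h L156589) L164530 L171671
theorem L171687 : sm gi N14702 = N15452 := rfl
theorem L171689 : sm gb N15452 = N15236 := ded_23_1 (flp_i L169583) (flp_b L164546) L171687
theorem L171691 : sm gc N15452 = N15452 := ded_29_1 (flp_i L171687) L164552 L171687
theorem L171692 : sm gd N15452 = N14703 := ded_34_1 (flp_i L164553) L164544 L171687
theorem L171694 : sm gf N15452 = N15231 := ded_41_1 (flp_i L169544) (flp_f L164548) L171687
theorem L171696 : sm gg N15452 = N14713 := ded_43_1 (flp_i L164653) (flp_g L164550) L171687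
theorem L171698 : sm gh N14703 = N15453 := rfl
theorem L171700 : sm gb N15453 = N15239 := ded_22_1 (flp_h L169609) (flp_b L164555) L171698
theorem L171702 : sm gc N15453 = N14705 := ded_28_1 (flp_h L164573) (flp_c L164557) L171698
theorem L171704 : sm ge N15453 = N14704 := ded_37_1 (flp_h L164565) (flp_e L164559) L171698
theorem L171706 : sm gf N15453 = N15232 := ded_40_1 (flp_h L169553) (flp_f L164561) L171698
theorem L171708 : sm gg N15453 = N14716 := ded_42_1 (flp_h L164680) (flp_g L164563) L171698
theorem L171710 : sm gi N15453 = N14733 := ded_44_2 (flp_h L164868) (flp_i L156824) (flp_h L156605) L164553 L171698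
theorem L171712 : sm gd N14704 = N15454 := rfl
theorem L171714 : sm gg N15454 = N14717 := ded_32_2 (flp_d L164688) (flp_g L164569) L171712
theorem L171716 : sm gi N15454 = N14734 := ded_34_2 (flp_d L164876) (flp_i L164571) L171712
theorem L171718 : sm gc N15454 = N15030 := ded_24_1 (flp_d L167720) L160009 (flp_d L156632) (flp_c L164567) L171712
theorem L171720 : sm gd N14705 = N15455 := rfl
theorem L171722 : sm gb N15455 = N14783 := ded_18_1 (flp_d L165260) (flp_b L164575) L171720
theorem L171724 : sm gf N15455 = N15259 := ded_31_2 (flp_d L169768) (flp_f L164579) L171720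
theorem L171726 : sm gg N15455 = N14720 := ded_32_2 (flp_d L164719) (flp_g L164581) L171720
theorem L171728 : sm gi N15455 = N14737 := ded_34_2 (flp_d L164908) (flp_i L164583) L171720
theorem L171730 : sm ge N15455 = N15105 := ded_30_2 (flp_d L168352) L160599 (flp_d L156632) (flp_e L164577) L171720
theorem L171732 : sm gh N15455 = N15455 := ded_33_2 (flp_d L171720) (flp_h L164573) L156619 L164573 L171720
theorem L171733 : sm gh N14706 = N15456 := rfl
theorem L171735 : sm ga N15456 = N14710 := ded_15_1 (flp_h L164633) (flp_a L164587) L171733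
theorem L171737 : sm gc N15456 = N14784 := ded_28_1 (flp_h L165273) (flp_c L164589) L171733
theorem L171739 : sm ge N15456 = N15294 := ded_37_1 (flp_h L170016) (flp_e L164591) L171733
theorem L171741 : sm gf N15456 = N15024 := ded_40_1 (flp_h L167665) (flp_f L164593) L171733
theorem L171743 : sm gg N15456 = N14986 := ded_42_1 (flp_h L167341) (flp_g L164595) L171733
theorem L171745 : sm gi N15456 = N14741 := ded_44_2 (flp_h L164949) (flp_i L156882) (flp_h L156644) L164585 L171733
theorem L171747 : sm gf N14707 = N15457 := rfl
theorem L171749 : sm ga N15457 = N15060 := ded_13_1 L167978 (flp_a L164599) L171747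
theorem L171751 : sm gb N15457 = N14711 := ded_20_1 (flp_f L164643) (flp_b L164601) L171747
theorem L171753 : sm gc N15457 = N15134 := ded_26_1 L168628 (flp_c L164605) L171747
theorem L171755 : sm gd N15457 = N14708 := ded_31_1 (flp_f L164607) L164597 L171747
theorem L171757 : sm gg N15457 = N15053 := ded_39_2 (flp_f L167906) L160151 L162219 (flp_g L164603) L171747
theorem L171759 : sm gh N14707 = N15458 := rfl
theorem L171761 : sm ga N15458 = N15042 := ded_15_1 L167812 (flp_a L164599) L171759
theorem L171763 : sm gb N15458 = N14712 := ded_22_1 (flp_h L164648) (flp_b L164601) L171759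
theorem L171765 : sm gc N15458 = N14927 := ded_28_1 (flp_h L166771) (flp_c L164605) L171759
theorem L171767 : sm ge N15458 = N14898 := ded_37_1 (flp_h L171555) L171553 L171759
theorem L171769 : sm gg N15458 = N15235 := ded_42_1 (flp_h L169575) (flp_g L164603) L171759
theorem L171771 : sm gd N15458 = N14743 := ded_33_1 (flp_h L164964) (flp_d L156890) (flp_h L156658) L164597 L171759
theorem L171773 : sm gi N14707 = N15459 := rfl
theorem L171775 : sm ga N15459 = N15289 := ded_16_1 (flp_i L169984) (flp_a L164599) L171773
theorem L171777 : sm gb N15459 = N14713 := ded_23_1 (flp_i L164653) (flp_b L164601) L171773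
theorem L171779 : sm gc N15459 = N15245 := ded_29_1 (flp_i L169654) (flp_c L164605) L171773
theorem L171781 : sm gd N15459 = N14709 := ded_34_1 (flp_i L164621) L164597 L171773
theorem L171783 : sm gg N15459 = N15236 := ded_43_1 (flp_i L169583) (flp_g L164603) L171773
theorem L171785 : sm gi N14708 = N15460 := rfl
theorem L171787 : sm ga N15460 = N15065 := ded_16_1 (flp_i L168024) (flp_a L164609) L171785
theorem L171789 : sm gb N15460 = N14715 := ded_23_1 (flp_i L164672) (flp_b L164611) L171785
theorem L171791 : sm gc N15460 = N14785 := ded_29_1 (flp_i L165287) (flp_c L164613) L171785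
theorem L171793 : sm ge N15460 = N15028 := ded_38_1 (flp_i L167700) (flp_e L164617) L171785
theorem L171795 : sm gf N15460 = N14709 := ded_41_1 (flp_i L164621) L164607 L171785
theorem L171797 : sm gg N15460 = N15056 := ded_43_1 (flp_i L167936) (flp_g L164619) L171785
theorem L171799 : sm gh N14709 = N15461 := rfl
theorem L171801 : sm ga N15461 = N15294 := ded_15_1 (flp_h L170016) (flp_a L164623) L171799
theorem L171803 : sm gb N15461 = N14716 := ded_22_1 (flp_h L164680) (flp_b L164625) L171799
theorem L171805 : sm gc N15461 = N14786 := ded_28_1 (flp_h L165301) (flp_c L164627) L171799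
theorem L171807 : sm ge N15461 = N14710 := ded_37_1 (flp_h L164633) (flp_e L164629) L171799
theorem L171809 : sm gg N15461 = N15239 := ded_42_1 (flp_h L169609) (flp_g L164631) L171799
theorem L171811 : sm gi N15461 = N14747 := ded_44_2 (flp_h L165000) (flp_i L156903) (flp_h L156658) L164621 L171799
theorem L171813 : sm gd N14710 = N15462 := rfl
theorem L171815 : sm gb N15462 = N14717 := ded_18_1 (flp_d L164688) (flp_b L164635) L171813
theorem L171817 : sm gf N15462 = N15030 := ded_31_2 (flp_d L167720) (flp_f L164639) L171813
theorem L171819 : sm gi N15462 = N14748 := ded_34_2 (flp_d L165008) (flp_i L164641) L171813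
theorem L171821 : sm ge N14711 = N15463 := rfl
theorem L171823 : sm gc N15463 = N15463 := ded_25_1 (flp_e L171821) L164645 L171821
theorem L171824 : sm gd N15463 = N15031 := ded_30_1 (flp_e L167728) L160019 (flp_e L156677) (flp_d L164646) L171821
theorem L171826 : sm gg N14711 = N15464 := rfl
theorem L171828 : sm ga N15464 = N14908 := ded_14_1 (flp_g L170591) L170584 L171826
theorem L171830 : sm gb N15464 = N15053 := ded_21_1 (flp_g L171757) L171751 L171826
theorem L171832 : sm gc N15464 = N15464 := ded_27_1 (flp_g L171826) L164645 L171826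
theorem L171833 : sm gd N15464 = N14714 := ded_32_1 (flp_g L164658) (flp_d L164646) L171826
theorem L171835 : sm gf N15464 = N14905 := ded_39_1 L166589 (flp_f L164548) L164550 L164643 L171826
theorem L171837 : sm gh N15463 = N15464 := ded_33_0 L171833 L164668 (flp_d L165024) L167734 (flp_d L171824)
theorem L171839 : sm gh N14711 = N15465 := rfl
theorem L171841 : sm gc N15465 = N15465 := ded_28_1 (flp_h L171839) L164645 L171839
theorem L171842 : sm ge N15465 = N15464 := ded_37_1 (flp_h L171837) (flp_e L171821) L171839
theorem L171844 : sm gf N15465 = N14712 := ded_40_1 (flp_h L164648) L164643 L171839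
theorem L171846 : sm gg N15465 = N15463 := ded_42_1 L171837 (flp_g L171826) L171839
theorem L171848 : sm gd N15465 = N14751 := ded_33_1 (flp_h L165026) L156923 (flp_h L156675) (flp_d L164646) L171839
theorem L171850 : sm gi N14711 = N15466 := rfl
theorem L171852 : sm gc N15466 = N15466 := ded_29_1 (flp_i L171850) L164645 L171850
theorem L171853 : sm gd N15466 = N14715 := ded_34_1 (flp_i L164672) (flp_d L164646) L171850
theorem L171855 : sm gf N15466 = N14713 := ded_41_1 (flp_i L164653) L164643 L171850
theorem L171857 : sm gi N14712 = N15467 := rfl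
theorem L171859 : sm gc N15467 = N15467 := ded_29_1 (flp_i L171857) L164650 L171857
theorem L171860 : sm gd N15467 = N14753 := ded_34_1 (flp_i L165040) (flp_d L164651) L171857
theorem L171862 : sm gh N14713 = N15468 := rfl
theorem L171864 : sm gc N15468 = N15468 := ded_28_1 (flp_h L171862) L164655 L171862
theorem L171865 : sm gi N14714 = N15469 := rfl
theorem L171867 : sm ga N15469 = N14911 := ded_16_1 (flp_i L166635) (flp_a L164660) L171865
theorem L171869 : sm gb N15469 = N15056 := ded_23_1 (flp_i L167936) (flp_b L164662) L171865
theorem L171871 : sm gc N15469 = N14718 := ded_29_1 (flp_i L164696) (flp_c L164664) L171865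
theorem L171873 : sm ge N15469 = N15037 := ded_38_1 (flp_i L167776) (flp_e L164666) L171865
theorem L171875 : sm gf N15469 = N14906 := ded_41_1 (flp_i L166594) (flp_f L164670) L171865
theorem L171877 : sm gg N15469 = N14715 := ded_43_1 (flp_i L164672) L164658 L171865
theorem L171879 : sm gh N14715 = N15470 := rfl
theorem L171881 : sm gc N15470 = N14719 := ded_28_1 (flp_h L164709) (flp_c L164674) L171879
theorem L171883 : sm ge N15470 = N15038 := ded_37_1 (flp_h L167782) (flp_e L164676) L171879
theorem L171885 : sm gf N15470 = N14716 := ded_40_1 (flp_h L164680) (flp_f L164678) L171879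
theorem L171887 : sm gi N15470 = N14756 := ded_44_2 (flp_h L165056) (flp_i L156941) (flp_h L156675) L164672 L171879
theorem L171889 : sm gd N14716 = N15471 := rfl
theorem L171891 : sm gi N15471 = N14757 := ded_34_2 (flp_d L165064) (flp_i L164686) L171889
theorem L171893 : sm ge N14717 = N15472 := rfl
theorem L171895 : sm gc N15472 = N15285 := ded_25_1 (flp_e L169958) (flp_c L164694) L171893
theorem L171897 : sm gi N15472 = N14758 := ded_38_2 (flp_e L165066) (flp_i L164692) L171893
theorem L171899 : sm gh N14718 = N15473 := rfl
theorem L171901 : sm ga N15473 = N14957 := ded_15_1 (flp_h L167081) (flp_a L164698) L171899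
theorem L171903 : sm gb N15473 = N14789 := ded_22_1 (flp_h L165341) (flp_b L164700) L171899
theorem L171905 : sm ge N15473 = N15041 := ded_37_1 (flp_h L167798) (flp_e L164703) L171899
theorem L171907 : sm gf N15473 = N14955 := ded_40_1 (flp_h L167061) (flp_f L164705) L171899
theorem L171909 : sm gg N15473 = N14719 := ded_42_1 (flp_h L164709) (flp_g L164707) L171899
theorem L171911 : sm gi N15473 = N14759 := ded_44_2 (flp_h L165070) (flp_i L156961) (flp_h L156702) L164696 L171899
theorem L171913 : sm gd N14719 = N15474 := rfl
theorem L171915 : sm gb N15474 = N14790 := ded_18_1 (flp_d L165355) (flp_b L164711) L171913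
theorem L171917 : sm gf N15474 = N14720 := ded_31_2 (flp_d L164719) (flp_f L164715) L171913
theorem L171919 : sm gi N15474 = N14760 := ded_34_2 (flp_d L165078) (flp_i L164717) L171913
theorem L171921 : sm gh N15474 = N15474 := ded_33_2 (flp_d L171913) (flp_h L164709) L156710 L164709 L171913
theorem L171922 : sm gc N14720 = N15475 := rfl
theorem L171924 : sm ge N15475 = N15287 := ded_25_2 (flp_c L169971) (flp_e L164725) L171922
theorem L171926 : sm gh N15475 = N15475 := ded_28_2 (flp_c L171922) L164727 L171922
theorem L171927 : sm gi N15475 = N14761 := ded_29_2 (flp_c L165086) (flp_i L164723) L171922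
theorem L171929 : sm gi N14721 = N15476 := rfl
theorem L171931 : sm gb N15476 = N14840 := ded_23_1 (flp_i L165941) (flp_b L164730) L171929
theorem L171933 : sm gc N15476 = N15476 := ded_29_1 (flp_i L171929) L164736 L171929
theorem L171934 : sm gd N15476 = N14722 := ded_34_1 (flp_i L164739) L164728 L171929
theorem L171936 : sm gf N15476 = N15217 := ded_41_1 (flp_i L169425) (flp_f L164732) L171929
theorem L171938 : sm gg N15476 = N14977 := ded_43_1 (flp_i L167258) (flp_g L164734) L171929
theorem L171940 : sm gh N14722 = N15477 := rfl
theorem L171942 : sm gb N15477 = N14842 := ded_22_1 (flp_h L165970) (flp_b L164741) L171940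
theorem L171944 : sm gc N15477 = N14724 := ded_28_1 (flp_h L164761) (flp_c L164743) L171940
theorem L171946 : sm ge N15477 = N14723 := ded_37_1 (flp_h L164751) (flp_e L164745) L171940
theorem L171948 : sm gf N15477 = N15224 := ded_40_1 (flp_h L169490) (flp_f L164747) L171940
theorem L171950 : sm gg N15477 = N14979 := ded_42_1 (flp_h L167277) (flp_g L164749) L171940
theorem L171952 : sm gi N15477 = N14846 := ded_44_2 (flp_h L166020) (flp_i L158202) (flp_h L156731) L164739 L171940
theorem L171954 : sm gd N14723 = N15478 := rfl
theorem L171956 : sm gb N15478 = N14974 := ded_18_1 (flp_d L167226) (flp_b L164753) L171954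
theorem L171958 : sm gf N15478 = N14734 := ded_31_2 (flp_d L164876) (flp_f L164757) L171954
theorem L171960 : sm gg N15478 = N14980 := ded_32_2 (flp_d L167285) (flp_g L164759) L171954
theorem L171962 : sm gc N15478 = N14748 := ded_24_1 (flp_d L165008) L156915 (flp_d L156764) (flp_c L164755) L171954
theorem L171964 : sm gd N14724 = N15479 := rfl
theorem L171966 : sm gb N15479 = N14792 := ded_18_1 (flp_d L165375) (flp_b L164763) L171964
theorem L171968 : sm gf N15479 = N15256 := ded_31_2 (flp_d L169747) (flp_f L164767) L171964
theorem L171970 : sm gg N15479 = N14996 := ded_32_2 (flp_d L167429) (flp_g L164769) L171964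
theorem L171972 : sm gi N15479 = N14854 := ded_34_2 (flp_d L166108) (flp_i L164771) L171964
theorem L171974 : sm ge N15479 = N14803 := ded_30_2 (flp_d L165517) L157501 (flp_d L156764) (flp_e L164765) L171964
theorem L171976 : sm gh N15479 = N15479 := ded_33_2 (flp_d L171964) (flp_h L164761) L156749 L164761 L171964
theorem L171977 : sm gh N14725 = N15480 := rfl
theorem L171979 : sm ga N15480 = N14728 := ded_15_1 (flp_h L164814) (flp_a L164775) L171977
theorem L171981 : sm gc N15480 = N14793 := ded_28_1 (flp_h L165390) (flp_c L164777) L171977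
theorem L171983 : sm ge N15480 = N15283 := ded_37_1 (flp_h L169946) (flp_e L164781) L171977
theorem L171985 : sm gf N15480 = N14844 := ded_40_1 (flp_h L165996) (flp_f L164783) L171977
theorem L171987 : sm gg N15480 = N14741 := ded_42_1 (flp_h L164949) (flp_g L164785) L171977
theorem L171989 : sm gi N15480 = N14986 := ded_44_2 (flp_h L167341) (flp_i L159610) (flp_h L156776) L164773 L171977
theorem L171991 : sm gi N14726 = N15481 := rfl
theorem L171993 : sm ga N15481 = N15280 := ded_16_1 (flp_i L169931) (flp_a L164789) L171991
theorem L171995 : sm gb N15481 = N14730 := ded_23_1 (flp_i L164834) (flp_b L164791) L171991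
theorem L171997 : sm gc N15481 = N15481 := ded_29_1 (flp_i L171991) L164797 L171991
theorem L171998 : sm gd N15481 = N14727 := ded_34_1 (flp_i L164800) L164787 L171991
theorem L172000 : sm ge N15481 = N15476 := ded_38_1 (flp_i L171929) (flp_e L164798) L171991
theorem L172002 : sm gf N15481 = N15226 := ded_41_1 (flp_i L169505) (flp_f L164793) L171991
theorem L172004 : sm gg N15481 = N14744 := ded_43_1 (flp_i L164969) (flp_g L164795) L171991
theorem L172006 : sm gh N14727 = N15482 := rfl
theorem L172008 : sm ga N15482 = N15283 := ded_15_1 (flp_h L169946) (flp_a L164802) L172006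
theorem L172010 : sm gb N15482 = N14733 := ded_22_1 (flp_h L164868) (flp_b L164804) L172006
theorem L172012 : sm gc N15482 = N14794 := ded_28_1 (flp_h L165406) (flp_c L164806) L172006
theorem L172014 : sm ge N15482 = N14728 := ded_37_1 (flp_h L164814) (flp_e L164808) L172006
theorem L172016 : sm gf N15482 = N15227 := ded_40_1 (flp_h L169512) (flp_f L164810) L172006
theorem L172018 : sm gg N15482 = N14747 := ded_42_1 (flp_h L165000) (flp_g L164812) L172006
theorem L172020 : sm gi N15482 = N15239 := ded_44_2 (flp_h L169609) (flp_i L162245) (flp_h L156790) L164800 L172006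
theorem L172022 : sm gd N14728 = N15483 := rfl
theorem L172024 : sm gb N15483 = N14734 := ded_18_1 (flp_d L164876) (flp_b L164816) L172022
theorem L172026 : sm gf N15483 = N14974 := ded_31_2 (flp_d L167226) (flp_f L164820) L172022
theorem L172028 : sm gg N15483 = N14748 := ded_32_2 (flp_d L165008) (flp_g L164822) L172022
theorem L172030 : sm gc N15483 = N14980 := ded_24_1 (flp_d L167285) L159580 (flp_d L157391) (flp_c L164818) L172022
theorem L172032 : sm gh N15483 = N15478 := ded_33_2 (flp_d L171954) (flp_h L164751) (flp_d L156800) L164814 L172022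
theorem L172034 : sm gg N14729 = N15484 := rfl
theorem L172036 : sm ga N15484 = N14881 := ded_14_1 L166367 (flp_a L164826) L172034
theorem L172038 : sm gb N15484 = N15022 := ded_21_1 L167652 (flp_b L164828) L172034
theorem L172040 : sm gc N15484 = N14762 := ded_27_1 (flp_g L165092) (flp_c L164830) L172034
theorem L172042 : sm gd N15484 = N14731 := ded_32_1 (flp_g L164842) (flp_d L164832) L172034
theorem L172044 : sm gf N15484 = N14750 := ded_39_1 (flp_g L165020) (flp_f L156919) (flp_g L156808) L164824 L172034
theorem L172046 : sm gi N14729 = N15485 := rfl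
theorem L172048 : sm ga N15485 = N15100 := ded_16_1 L168308 (flp_a L164826) L172046
theorem L172050 : sm gb N15485 = N15226 := ded_23_1 (flp_i L169505) (flp_b L164828) L172046
theorem L172052 : sm gc N15485 = N14763 := ded_29_1 (flp_i L165101) (flp_c L164830) L172046
theorem L172054 : sm gd N15485 = N14732 := ded_34_1 (flp_i L164856) (flp_d L164832) L172046
theorem L172056 : sm gf N15485 = N14730 := ded_41_1 (flp_i L164834) L164824 L172046
theorem L172058 : sm gh N14730 = N15486 := rfl
theorem L172060 : sm gc N15486 = N14764 := ded_28_1 (flp_h L165110) (flp_c L164836) L172058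
theorem L172062 : sm gg N15486 = N14754 := ded_42_1 (flp_h L165044) (flp_g L164840) L172058
theorem L172064 : sm gi N14731 = N15487 := rfl
theorem L172066 : sm ga N15487 = N14882 := ded_16_1 (flp_i L166371) (flp_a L164844) L172064
theorem L172068 : sm gb N15487 = N15023 := ded_23_1 (flp_i L167655) (flp_b L164846) L172064
theorem L172070 : sm gc N15487 = N14735 := ded_29_1 (flp_i L164882) (flp_c L164848) L172064
theorem L172072 : sm ge N15487 = N14880 := ded_38_1 (flp_i L166353) (flp_e L164850) L172064
theorem L172074 : sm gf N15487 = N14755 := ded_41_1 (flp_i L165048) (flp_f L164854) L172064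
theorem L172076 : sm gg N15487 = N14732 := ded_43_1 (flp_i L164856) L164842 L172064
theorem L172078 : sm gh N14732 = N15488 := rfl
theorem L172080 : sm ga N15488 = N15081 := ded_15_1 L168124 (flp_a L164858) L172078
theorem L172082 : sm gb N15488 = N15227 := ded_22_1 (flp_h L169512) (flp_b L164860) L172078
theorem L172084 : sm gc N15488 = N14736 := ded_28_1 (flp_h L164896) (flp_c L164862) L172078
theorem L172086 : sm ge N15488 = N15224 := ded_37_1 (flp_h L169490) (flp_e L164864) L172078
theorem L172088 : sm gf N15488 = N14733 := ded_40_1 (flp_h L164868) (flp_f L164866) L172078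
theorem L172090 : sm gi N15488 = N15232 := ded_44_2 (flp_h L169553) (flp_i L162205) (flp_h L156820) L164856 L172078
theorem L172092 : sm gd N14733 = N15489 := rfl
theorem L172094 : sm gg N15489 = N14757 := ded_32_2 (flp_d L165064) (flp_g L164874) L172092
theorem L172096 : sm ge N14734 = N15490 := rfl
theorem L172098 : sm gc N15490 = N15068 := ded_25_1 (flp_e L168048) (flp_c L164880) L172096
theorem L172100 : sm gg N15490 = N14758 := ded_36_2 (flp_e L165066) (flp_g L164878) L172096
theorem L172102 : sm gh N14735 = N15491 := rfl
theorem L172104 : sm ga N15491 = N14948 := ded_15_1 (flp_h L166988) (flp_a L164884) L172102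
theorem L172106 : sm gb N15491 = N14796 := ded_22_1 (flp_h L165433) (flp_b L164886) L172102
theorem L172108 : sm ge N15491 = N14947 := ded_37_1 (flp_h L166978) (flp_e L164890) L172102
theorem L172110 : sm gf N15491 = N14759 := ded_40_1 (flp_h L165070) (flp_f L164892) L172102
theorem L172112 : sm gg N15491 = N14736 := ded_42_1 (flp_h L164896) (flp_g L164894) L172102
theorem L172114 : sm gd N15491 = N15322 := ded_33_1 L170205 L162952 L157043 (flp_d L164888) L172102
theorem L172116 : sm gi N15491 = N14955 := ded_44_2 (flp_h L167061) (flp_i L159263) (flp_h L156848) L164882 L172102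
theorem L172118 : sm gd N14736 = N15492 := rfl
theorem L172120 : sm ga N15492 = N15113 := ded_11_1 L168422 (flp_a L164898) L172118
theorem L172122 : sm gb N15492 = N14797 := ded_18_1 (flp_d L165449) (flp_b L164900) L172118
theorem L172124 : sm gf N15492 = N14737 := ded_31_2 (flp_d L164908) (flp_f L164904) L172118
theorem L172126 : sm gg N15492 = N15322 := ded_32_2 (flp_d L172114) L172112 L172118
theorem L172128 : sm gi N15492 = N15259 := ded_34_2 (flp_d L169768) (flp_i L164906) L172118
theorem L172130 : sm gh N15492 = N14768 := ded_33_2 (flp_d L165148) (flp_h L157045) (flp_d L156858) L164896 L172118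
theorem L172132 : sm gc N14737 = N15493 := rfl
theorem L172134 : sm ge N15493 = N15111 := ded_25_2 (flp_c L168404) (flp_e L164914) L172132
theorem L172136 : sm gg N15493 = N14761 := ded_27_2 (flp_c L165086) (flp_g L164912) L172132
theorem L172138 : sm gh N15493 = N14769 := ded_28_2 (flp_c L165159) (flp_h L164916) L172132
theorem L172140 : sm gf N14738 = N15494 := rfl
theorem L172142 : sm ga N15494 = N14742 := ded_13_1 (flp_f L164957) (flp_a L164920) L172140
theorem L172144 : sm gb N15494 = N15032 := ded_20_1 (flp_f L170792) L170790 L172140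
theorem L172146 : sm gc N15494 = N15494 := ded_26_1 (flp_f L172140) L164924 L172140
theorem L172147 : sm gd N15494 = N14739 := ded_31_1 (flp_f L164925) L164918 L172140
theorem L172149 : sm gg N15494 = N15025 := ded_39_2 (flp_f L167675) L159984 L162600 (flp_g L164922) L172140
theorem L172151 : sm gh N14738 = N15495 := rfl
theorem L172153 : sm ga N15495 = N14743 := ded_15_1 (flp_h L164964) (flp_a L164920) L172151
theorem L172155 : sm gb N15495 = N14981 := ded_22_1 (flp_h L170800) L170790 L172151
theorem L172157 : sm gc N15495 = N15495 := ded_28_1 (flp_h L172151) L164924 L172151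
theorem L172158 : sm ge N15495 = N14975 := ded_37_1 (flp_h L167241) L166460 L172151
theorem L172160 : sm gg N15495 = N15279 := ded_42_1 (flp_h L169924) (flp_g L164922) L172151
theorem L172162 : sm gd N15495 = N15042 := ded_33_1 L167812 L162658 (flp_h L156880) L164918 L172151
theorem L172164 : sm gi N14738 = N15496 := rfl
theorem L172166 : sm ga N15496 = N14744 := ded_16_1 (flp_i L164969) (flp_a L164920) L172164
theorem L172168 : sm gc N15496 = N15496 := ded_29_1 (flp_i L172164) L164924 L172164
theorem L172169 : sm gd N15496 = N14740 := ded_34_1 (flp_i L164939) L164918 L172164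
theorem L172171 : sm gg N15496 = N15280 := ded_43_1 (flp_i L169931) (flp_g L164922) L172164
theorem L172173 : sm gi N14739 = N15497 := rfl
theorem L172175 : sm ga N15497 = N14746 := ded_16_1 (flp_i L164990) (flp_a L164927) L172173
theorem L172177 : sm gb N15497 = N15037 := ded_23_1 (flp_i L167776) (flp_b L164929) L172173
theorem L172179 : sm gc N15497 = N14799 := ded_29_1 (flp_i L165471) (flp_c L164931) L172173
theorem L172181 : sm ge N15497 = N15056 := ded_38_1 (flp_i L167936) (flp_e L164935) L172173
theorem L172183 : sm gf N15497 = N14740 := ded_41_1 (flp_i L164939) L164925 L172173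
theorem L172185 : sm gg N15497 = N15028 := ded_43_1 (flp_i L167700) (flp_g L164937) L172173
theorem L172187 : sm gh N14740 = N15498 := rfl
theorem L172189 : sm ga N15498 = N14747 := ded_15_1 (flp_h L165000) (flp_a L164941) L172187
theorem L172191 : sm gc N15498 = N14800 := ded_28_1 (flp_h L165484) (flp_c L164943) L172187
theorem L172193 : sm ge N15498 = N14741 := ded_37_1 (flp_h L164949) (flp_e L164945) L172187
theorem L172195 : sm gg N15498 = N15283 := ded_42_1 (flp_h L169946) (flp_g L164947) L172187
theorem L172197 : sm gi N15498 = N15294 := ded_44_2 (flp_h L170016) (flp_i L162686) (flp_h L156880) L164939 L172187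
theorem L172199 : sm gd N14741 = N15499 := rfl
theorem L172201 : sm ga N15499 = N14748 := ded_11_1 (flp_d L165008) (flp_a L164951) L172199
theorem L172203 : sm gf N15499 = N15058 := ded_31_2 (flp_d L167954) (flp_f L164955) L172199
theorem L172205 : sm ge N14742 = N15500 := rfl
theorem L172207 : sm gb N15500 = N14749 := ded_19_1 (flp_e L165014) (flp_b L164959) L172205
theorem L172209 : sm gc N15500 = N15500 := ded_25_1 (flp_e L172205) L164961 L172205
theorem L172210 : sm gd N15500 = N15059 := ded_30_1 (flp_e L167962) L160187 (flp_e L156901) (flp_d L164962) L172205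
theorem L172212 : sm gf N15500 = N15495 := ded_35_2 L172158 (flp_f L167234) L159558 L164957 L172205
theorem L172214 : sm gh N15494 = N15500 := ded_22_0 L172207 L167744 (flp_b L172144)
theorem L172216 : sm gg N14742 = N15501 := rfl
theorem L172218 : sm ga N15501 = N15025 := ded_14_1 (flp_g L172149) L172142 L172216
theorem L172220 : sm gb N15501 = N14750 := ded_21_1 (flp_g L165020) (flp_b L164959) L172216
theorem L172222 : sm gc N15501 = N15501 := ded_27_1 (flp_g L172216) L164961 L172216
theorem L172223 : sm gd N15501 = N14745 := ded_32_1 (flp_g L164976) (flp_d L164962) L172216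
theorem L172225 : sm gf N15501 = N15022 := ded_39_1 L167652 (flp_f L164793) L164795 L164957 L172216
theorem L172227 : sm gh N14742 = N15502 := rfl
theorem L172229 : sm ga N15502 = N15500 := ded_15_1 (flp_h L172214) L172142 L172227
theorem L172231 : sm gb N15502 = N14751 := ded_22_1 (flp_h L165026) (flp_b L164959) L172227
theorem L172233 : sm gc N15502 = N15502 := ded_28_1 (flp_h L172227) L164961 L172227
theorem L172234 : sm ge N15502 = N15494 := ded_37_1 L172214 (flp_e L172205) L172227
theorem L172236 : sm gf N15502 = N14743 := ded_40_1 (flp_h L164964) L164957 L172227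
theorem L172238 : sm gi N14742 = N15503 := rfl
theorem L172240 : sm gb N15503 = N14752 := ded_23_1 (flp_i L165032) (flp_b L164959) L172238
theorem L172242 : sm gc N15503 = N15503 := ded_29_1 (flp_i L172238) L164961 L172238
theorem L172243 : sm gd N15503 = N14746 := ded_34_1 (flp_i L164990) (flp_d L164962) L172238
theorem L172245 : sm gf N15503 = N14744 := ded_41_1 (flp_i L164969) L164957 L172238
theorem L172247 : sm gi N14743 = N15504 := rfl
theorem L172249 : sm gb N15504 = N14753 := ded_23_1 (flp_i L165040) (flp_b L164966) L172247
theorem L172251 : sm gc N15504 = N15504 := ded_29_1 (flp_i L172247) L164968 L172247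
theorem L172252 : sm gh N14744 = N15505 := rfl
theorem L172254 : sm gb N15505 = N14754 := ded_22_1 (flp_h L165044) (flp_b L164971) L172252
theorem L172256 : sm gc N15505 = N15505 := ded_28_1 (flp_h L172252) L164973 L172252
theorem L172257 : sm gi N14745 = N15506 := rfl
theorem L172259 : sm ga N15506 = N15028 := ded_16_1 (flp_i L167700) (flp_a L164978) L172257
theorem L172261 : sm gb N15506 = N14755 := ded_23_1 (flp_i L165048) (flp_b L164980) L172257
theorem L172263 : sm gc N15506 = N14801 := ded_29_1 (flp_i L165496) (flp_c L164982) L172257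
theorem L172265 : sm ge N15506 = N15065 := ded_38_1 (flp_i L168024) (flp_e L164984) L172257
theorem L172267 : sm gf N15506 = N15023 := ded_41_1 (flp_i L167655) (flp_f L164988) L172257
theorem L172269 : sm gg N15506 = N14746 := ded_43_1 (flp_i L164990) L164976 L172257
theorem L172271 : sm gh N14746 = N15507 := rfl
theorem L172273 : sm gb N15507 = N14756 := ded_22_1 (flp_h L165056) (flp_b L164992) L172271
theorem L172275 : sm gc N15507 = N14802 := ded_28_1 (flp_h L165509) (flp_c L164994) L172271
theorem L172277 : sm ge N15507 = N15066 := ded_37_1 (flp_h L168034) (flp_e L164996) L172271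
theorem L172279 : sm gf N15507 = N14747 := ded_40_1 (flp_h L165000) (flp_f L164998) L172271
theorem L172281 : sm gd N14747 = N15508 := rfl
theorem L172283 : sm gb N15508 = N14757 := ded_18_1 (flp_d L165064) (flp_b L165002) L172281
theorem L172285 : sm ge N14748 = N15509 := rfl
theorem L172287 : sm gb N15509 = N14758 := ded_19_1 (flp_e L165066) (flp_b L165010) L172285
theorem L172289 : sm gi N14749 = N15510 := rfl
theorem L172291 : sm gc N15510 = N14770 := ded_29_1 (flp_i L165166) (flp_c L165016) L172289
theorem L172293 : sm gd N15510 = N15069 := ded_34_1 (flp_i L168056) (flp_d L165018) L172289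
theorem L172295 : sm ge N15510 = N14752 := ded_38_1 (flp_i L165032) L165014 L172289
theorem L172297 : sm gi N14750 = N15511 := rfl
theorem L172299 : sm gc N15511 = N14771 := ded_29_1 (flp_i L165173) (flp_c L165022) L172297
theorem L172301 : sm gd N15511 = N14755 := ded_34_1 (flp_i L165048) (flp_d L165024) L172297
theorem L172303 : sm gg N15511 = N14752 := ded_43_1 (flp_i L165032) L165020 L172297
theorem L172305 : sm gi N14751 = N15512 := rfl
theorem L172307 : sm gc N15512 = N14772 := ded_29_1 (flp_i L165180) (flp_c L165028) L172305
theorem L172309 : sm gf N15512 = N14753 := ded_41_1 (flp_i L165040) (flp_f L165030) L172305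
theorem L172311 : sm gh N14752 = N15513 := rfl
theorem L172313 : sm gc N15513 = N14773 := ded_28_1 (flp_h L165186) (flp_c L165034) L172311
theorem L172315 : sm gf N15513 = N14754 := ded_40_1 (flp_h L165044) (flp_f L165038) L172311
theorem L172317 : sm gh N14753 = N15514 := rfl
theorem L172319 : sm gc N15514 = N14774 := ded_28_1 (flp_h L165191) (flp_c L165042) L172317
theorem L172321 : sm gi N15514 = N14754 := ded_44_2 (flp_h L165044) (flp_i L156929) L156925 L165040 L172317
theorem L172323 : sm gd N14754 = N15515 := rfl
theorem L172325 : sm gh N15515 = N14757 := ded_33_2 (flp_d L165064) (flp_h L156949) (flp_d L156933) L165044 L172323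
theorem L172327 : sm gh N14755 = N15516 := rfl
theorem L172329 : sm gc N15516 = N14759 := ded_28_1 (flp_h L165070) (flp_c L165050) L172327
theorem L172331 : sm ge N15516 = N15075 := ded_37_1 (flp_h L168096) (flp_e L165052) L172327
theorem L172333 : sm gg N15516 = N14756 := ded_42_1 (flp_h L165056) (flp_g L165054) L172327
theorem L172335 : sm gd N14756 = N15517 := rfl
theorem L172337 : sm gf N15517 = N14757 := ded_31_2 (flp_d L165064) (flp_f L165062) L172335
theorem L172339 : sm gc N14757 = N15518 := rfl
theorem L172341 : sm gd N15518 = N14761 := ded_24_2 (flp_c L165086) (flp_d L156979) (flp_c L156951) L165064 L172339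
theorem L172343 : sm ge N14757 = N15519 := rfl
theorem L172345 : sm gd N15519 = N14758 := ded_30_1 (flp_e L165066) (flp_d L156955) (flp_e L156953) L165064 L172343
theorem L172347 : sm gf N14758 = N15520 := rfl
theorem L172349 : sm gc N15520 = N15298 := ded_26_1 (flp_f L170034) (flp_c L165068) L172347
theorem L172351 : sm ge N15520 = N15079 := ded_35_1 (flp_f L168114) (flp_e L160297) (flp_f L156957) L165066 L172347
theorem L172353 : sm gc N14760 = N15521 := rfl
theorem L172355 : sm gf N15521 = N14761 := ded_26_2 (flp_c L165086) (flp_f L165082) L172353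
theorem L172357 : sm gh N15521 = N14780 := ded_28_2 (flp_c L165232) (flp_h L165084) L172353
theorem L172359 : sm gb N14761 = N15522 := rfl
theorem L172361 : sm ge N15522 = N15302 := ded_19_2 (flp_b L170058) (flp_e L165088) L172359
theorem L172363 : sm gh N15522 = N14781 := ded_22_2 (flp_b L165237) (flp_h L165090) L172359
theorem L172365 : sm gc N15522 = N14808 := ded_17_2 (flp_b L165566) (flp_c L157547) (flp_b L156981) L165086 L172359
theorem L172367 : sm gi N14762 = N15523 := rfl
theorem L172369 : sm ga N15523 = N15174 := ded_16_1 L169017 (flp_a L165094) L172367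
theorem L172371 : sm gb N15523 = N15523 := ded_23_1 (flp_i L172367) L165096 L172367
theorem L172372 : sm gd N15523 = N14765 := ded_34_1 (flp_i L165115) (flp_d L165097) L172367
theorem L172374 : sm gf N15523 = N14771 := ded_41_1 (flp_i L165173) (flp_f L165099) L172367
theorem L172376 : sm gg N15523 = N14763 := ded_43_1 (flp_i L165101) L165092 L172367
theorem L172378 : sm gh N14763 = N15524 := rfl
theorem L172380 : sm ga N15524 = N15177 := ded_15_1 L169047 (flp_a L165103) L172378
theorem L172382 : sm gb N15524 = N15524 := ded_22_1 (flp_h L172378) L165105 L172378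
theorem L172383 : sm gf N15524 = N14764 := ded_40_1 (flp_h L165110) (flp_f L165108) L172378
theorem L172385 : sm gd N14764 = N15525 := rfl
theorem L172387 : sm gb N15525 = N15525 := ded_18_1 (flp_d L172385) L165112 L172385
theorem L172388 : sm gg N15525 = N14775 := ded_32_2 (flp_d L165196) (flp_g L165113) L172385
theorem L172390 : sm gh N15525 = N14767 := ded_33_2 (flp_d L165142) (flp_h L157022) (flp_d L156997) L165110 L172385
theorem L172392 : sm gd N14766 = N15526 := rfl
theorem L172394 : sm ga N15526 = N15161 := ded_11_1 L168880 (flp_a L165131) L172392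
theorem L172396 : sm gb N15526 = N15526 := ded_18_1 (flp_d L172392) L165133 L172392
theorem L172397 : sm gf N15526 = N14767 := ded_31_2 (flp_d L165142) (flp_f L165137) L172392
theorem L172399 : sm gg N15526 = N15336 := ded_32_2 L170314 (flp_g L165139) L172392
theorem L172401 : sm gi N15526 = N15526 := ded_34_2 (flp_d L172392) L165141 L172392
theorem L172402 : sm gc N14767 = N15527 := rfl
theorem L172404 : sm gg N15527 = N14778 := ded_27_2 (flp_c L165221) (flp_g L165145) L172402
theorem L172406 : sm gi N15527 = N15527 := ded_29_2 (flp_c L172402) L165147 L172402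
theorem L172407 : sm gd N15527 = N14769 := ded_24_2 (flp_c L165159) (flp_d L157057) (flp_c L157025) L165142 L172402
theorem L172409 : sm gc N14768 = N15528 := rfl
theorem L172411 : sm ga N15528 = N15183 := ded_10_1 L169095 (flp_a L165150) L172409
theorem L172413 : sm gf N15528 = N14769 := ded_26_2 (flp_c L165159) (flp_f L165154) L172409
theorem L172415 : sm gg N15528 = N15318 := ded_27_2 L170169 (flp_g L165156) L172409
theorem L172417 : sm gi N15528 = N15528 := ded_29_2 (flp_c L172409) L165158 L172409
theorem L172418 : sm ge N14768 = N15529 := rfl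
theorem L172420 : sm ga N15529 = N14811 := ded_12_1 L165599 (flp_a L165150) L172418
theorem L172422 : sm gb N15529 = N14810 := ded_19_1 (flp_e L165584) (flp_b L165152) L172418
theorem L172424 : sm gg N15529 = N14813 := ded_36_2 L165619 (flp_g L165156) L172418
theorem L172426 : sm gi N15529 = N15529 := ded_38_2 (flp_e L172418) L165158 L172418
theorem L172427 : sm gd N15529 = N15529 := ded_30_1 (flp_e L172418) (flp_d L165148) L157051 L165148 L172418
theorem L172428 : sm gf N15529 = N15182 := ded_35_2 (flp_e L169082) L161432 (flp_e L157064) (flp_f L165154) L172418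
theorem L172430 : sm gb N14769 = N15530 := rfl
theorem L172432 : sm ge N15530 = N15183 := ded_19_2 (flp_b L169090) (flp_e L165161) L172430
theorem L172434 : sm gg N15530 = N14781 := ded_21_2 (flp_b L165237) (flp_g L165163) L172430
theorem L172436 : sm gi N15530 = N15530 := ded_23_2 (flp_b L172430) L165165 L172430
theorem L172437 : sm gc N15530 = N14811 := ded_17_2 (flp_b L165596) (flp_c L157564) (flp_b L157059) L165159 L172430
theorem L172439 : sm gh N14770 = N15531 := rfl
theorem L172441 : sm gb N15531 = N15531 := ded_22_1 (flp_h L172439) L165168 L172439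
theorem L172442 : sm ge N15531 = N14773 := ded_37_1 (flp_h L165186) (flp_e L165171) L172439
theorem L172444 : sm gh N14771 = N15532 := rfl
theorem L172446 : sm gb N15532 = N15532 := ded_22_1 (flp_h L172444) L165175 L172444
theorem L172447 : sm gg N15532 = N14773 := ded_42_1 (flp_h L165186) (flp_g L165178) L172444
theorem L172449 : sm gh N14772 = N15533 := rfl
theorem L172451 : sm gb N15533 = N15533 := ded_22_1 (flp_h L172449) L165182 L172449
theorem L172452 : sm gf N15533 = N14774 := ded_40_1 (flp_h L165191) (flp_f L165184) L172449
theorem L172454 : sm gi N15533 = N14773 := ded_44_2 (flp_h L165186) (flp_i L157082) L157076 L165180 L172449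
theorem L172456 : sm gd N14773 = N15534 := rfl
theorem L172458 : sm gb N15534 = N15534 := ded_18_1 (flp_d L172456) L165188 L172456
theorem L172459 : sm gf N15534 = N14775 := ded_31_2 (flp_d L165196) (flp_f L165189) L172456
theorem L172461 : sm gh N15534 = N14777 := ded_33_2 (flp_d L165215) (flp_h L157105) (flp_d L157085) L165186 L172456
theorem L172463 : sm gd N14774 = N15535 := rfl
theorem L172465 : sm gb N15535 = N15535 := ded_18_1 (flp_d L172463) L165193 L172463
theorem L172466 : sm gi N15535 = N14775 := ded_34_2 (flp_d L165196) (flp_i L165194) L172463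
theorem L172468 : sm gh N15535 = N15535 := ded_33_2 (flp_d L172463) (flp_h L165191) L157092 L165191 L172463
theorem L172469 : sm gc N14775 = N15536 := rfl
theorem L172471 : sm gh N15536 = N14778 := ded_28_2 (flp_c L165221) (flp_h L165199) L172469
theorem L172473 : sm ge N14775 = N15537 := rfl
theorem L172475 : sm gb N15537 = N15537 := ded_19_1 (flp_e L172473) L165198 L172473
theorem L172476 : sm gh N15537 = N14779 := ded_37_2 (flp_e L165226) (flp_h L165199) L172473
theorem L172478 : sm gd N14776 = N15538 := rfl
theorem L172480 : sm ga N15538 = N15335 := ded_11_1 L170303 (flp_a L165203) L172478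
theorem L172482 : sm gb N15538 = N15538 := ded_18_1 (flp_d L172478) L165205 L172478
theorem L172483 : sm gf N15538 = N15336 := ded_31_2 L170314 (flp_f L165210) L172478
theorem L172485 : sm gg N15538 = N14777 := ded_32_2 (flp_d L165215) (flp_g L165212) L172478
theorem L172487 : sm gi N15538 = N15538 := ded_34_2 (flp_d L172478) L165214 L172478
theorem L172488 : sm gc N14777 = N15539 := rfl
theorem L172490 : sm gf N15539 = N14778 := ded_26_2 (flp_c L165221) (flp_f L165218) L172488
theorem L172492 : sm gi N15539 = N15539 := ded_29_2 (flp_c L172488) L165220 L172488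
theorem L172493 : sm gd N15539 = N14780 := ded_24_2 (flp_c L165232) (flp_d L157138) (flp_c L157108) L165215 L172488
theorem L172495 : sm gb N14778 = N15540 := rfl
theorem L172497 : sm gd N15540 = N14781 := ded_18_2 (flp_b L165237) (flp_d L165224) L172495
theorem L172499 : sm gi N15540 = N15540 := ded_23_2 (flp_b L172495) L165223 L172495
theorem L172500 : sm gc N15540 = N15540 := ded_17_2 (flp_b L172495) (flp_c L165221) L157117 L165221 L172495
theorem L172501 : sm ge N14778 = N15541 := rfl
theorem L172503 : sm gc N15541 = N14779 := ded_25_1 (flp_e L165226) L165221 L172501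
theorem L172505 : sm gi N15541 = N15541 := ded_38_2 (flp_e L172501) L165223 L172501
theorem L172506 : sm gd N15541 = N15314 := ded_30_1 (flp_e L170145) L162788 (flp_e L157147) (flp_d L165224) L172501
theorem L172508 : sm gb N14780 = N15542 := rfl
theorem L172510 : sm ge N15542 = N14964 := ded_19_2 (flp_b L171412) L171405 L172508
theorem L172512 : sm gf N15542 = N14781 := ded_20_2 (flp_b L165237) (flp_f L165234) L172508
theorem L172514 : sm gg N15542 = N15267 := ded_21_2 (flp_b L171429) L171433 L172508
theorem L172516 : sm gi N15542 = N15542 := ded_23_2 (flp_b L172508) L165236 L172508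
theorem L172517 : sm gc N15542 = N14812 := ded_17_2 (flp_b L165604) (flp_c L157574) (flp_b L157140) L165232 L172508
theorem L172519 : sm ga N14965 = N15542 := ded_12_3 L172510 L167136 L167143
theorem L172521 : sm ga N14781 = N15543 := rfl
theorem L172523 : sm gc N15543 = N14813 := ded_10_2 (flp_a L165616) (flp_c L165242) L172521
theorem L172525 : sm ge N15543 = N15318 := ded_12_2 (flp_a L170167) (flp_e L165239) L172521
theorem L172527 : sm gf N15543 = N14965 := ded_13_2 L172519 L172512 L172521
theorem L172529 : sm gi N15543 = N15543 := ded_16_2 (flp_a L172521) L165241 L172521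
theorem L172530 : sm gc N14783 = N15544 := rfl
theorem L172532 : sm ga N15544 = N14814 := ded_10_1 (flp_c L165626) (flp_a L165262) L172530
theorem L172534 : sm ge N15544 = N14953 := ded_25_2 L167046 (flp_e L165270) L172530
theorem L172536 : sm gf N15544 = N15262 := ded_26_2 (flp_c L169783) (flp_f L165264) L172530
theorem L172538 : sm gg N15544 = N14791 := ded_27_2 (flp_c L165364) (flp_g L165266) L172530
theorem L172540 : sm gh N15544 = N15544 := ded_28_2 (flp_c L172530) L165272 L172530
theorem L172541 : sm gi N15544 = N14798 := ded_29_2 (flp_c L165461) (flp_i L165268) L172530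
theorem L172543 : sm gd N15544 = N14954 := ded_24_2 L167053 (flp_d L162482) (flp_c L157226) L165260 L172530
theorem L172545 : sm gh N14785 = N15545 := rfl
theorem L172547 : sm ga N15545 = N15109 := ded_15_1 (flp_h L168388) (flp_a L165289) L172545
theorem L172549 : sm gb N15545 = N14787 := ded_22_1 (flp_h L165313) (flp_b L165291) L172545
theorem L172551 : sm ge N15545 = N15104 := ded_37_1 (flp_h L168344) (flp_e L165295) L172545
theorem L172553 : sm gf N15545 = N14786 := ded_40_1 (flp_h L165301) (flp_f L165297) L172545
theorem L172555 : sm gg N15545 = N15107 := ded_42_1 (flp_h L168370) (flp_g L165299) L172545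
theorem L172557 : sm gi N15545 = N14802 := ded_44_2 (flp_h L165509) (flp_i L157488) (flp_h L157258) L165287 L172545
theorem L172559 : sm gd N14786 = N15546 := rfl
theorem L172561 : sm ga N15546 = N15299 := ded_11_1 (flp_d L170038) (flp_a L165303) L172559
theorem L172563 : sm gb N15546 = N14788 := ded_18_1 (flp_d L165327) (flp_b L165305) L172559
theorem L172565 : sm gg N15546 = N15242 := ded_32_2 (flp_d L169627) (flp_g L165309) L172559
theorem L172567 : sm gi N15546 = N14803 := ded_34_2 (flp_d L165517) (flp_i L165311) L172559
theorem L172569 : sm ge N15546 = N14854 := ded_30_2 (flp_d L166108) (flp_e L164520) L164526 (flp_e L165307) L172559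
theorem L172571 : sm gh N15546 = N14858 := ded_33_2 L166158 (flp_h L162374) (flp_d L157270) L165301 L172559
theorem L172573 : sm gc N14790 = N15547 := rfl
theorem L172575 : sm ga N15547 = N14815 := ded_10_1 (flp_c L165641) (flp_a L165357) L172573
theorem L172577 : sm ge N15547 = N14966 := ded_25_2 (flp_c L171135) L171137 L172573
theorem L172579 : sm gf N15547 = N14791 := ded_26_2 (flp_c L165364) (flp_f L165359) L172573
theorem L172581 : sm gg N15547 = N15257 := ded_27_2 (flp_c L171198) L171200 L172573
theorem L172583 : sm gh N15547 = N15547 := ded_28_2 (flp_c L172573) L165363 L172573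
theorem L172584 : sm gi N15547 = N14807 := ded_29_2 (flp_c L165554) (flp_i L165361) L172573
theorem L172586 : sm gd N15547 = N14824 := ded_24_2 (flp_c L171455) L171457 L165317 L165355 L172573
theorem L172588 : sm gb N14791 = N15548 := rfl
theorem L172590 : sm gd N15548 = N14960 := ded_18_2 L167100 (flp_d L165373) L172588
theorem L172592 : sm ge N15548 = N14958 := ded_19_2 L167089 (flp_e L165368) L172588
theorem L172594 : sm gh N15548 = N15548 := ded_22_2 (flp_b L172588) L165370 L172588
theorem L172595 : sm gi N15548 = N14808 := ded_23_2 (flp_b L165566) (flp_i L165371) L172588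
theorem L172597 : sm gd N14794 = N15549 := rfl
theorem L172599 : sm ga N15549 = N15286 := ded_11_1 (flp_d L169962) (flp_a L165408) L172597
theorem L172601 : sm gb N15549 = N14795 := ded_18_1 (flp_d L165420) (flp_b L165410) L172597
theorem L172603 : sm gf N15549 = N15229 := ded_31_2 (flp_d L169528) (flp_f L165414) L172597
theorem L172605 : sm gg N15549 = N14803 := ded_32_2 (flp_d L165517) (flp_g L165416) L172597
theorem L172607 : sm gi N15549 = N15242 := ded_34_2 (flp_d L169627) (flp_i L165418) L172597
theorem L172609 : sm ge N15549 = N14996 := ded_30_2 (flp_d L167429) L159798 (flp_d L157391) (flp_e L165412) L172597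
theorem L172611 : sm gh N15549 = N15549 := ded_33_2 (flp_d L172597) (flp_h L165406) L157376 L165406 L172597
theorem L172612 : sm gc N14795 = N15550 := rfl
theorem L172614 : sm ga N15550 = N14817 := ded_10_1 (flp_c L165671) (flp_a L165422) L172612
theorem L172616 : sm ge N15550 = N14946 := ded_25_2 L166975 (flp_e L165430) L172612
theorem L172618 : sm gf N15550 = N15258 := ded_26_2 (flp_c L169761) (flp_f L165424) L172612
theorem L172620 : sm gg N15550 = N14806 := ded_27_2 (flp_c L165543) (flp_g L165426) L172612
theorem L172622 : sm gh N15550 = N15550 := ded_28_2 (flp_c L172612) L165432 L172612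
theorem L172623 : sm gi N15550 = N14954 := ded_29_2 L167053 (flp_i L165428) L172612
theorem L172625 : sm gd N15550 = N14798 := ded_24_2 (flp_c L165461) (flp_d L157433) (flp_c L157397) L165420 L172612
theorem L172627 : sm gc N14797 = N15551 := rfl
theorem L172629 : sm ga N15551 = N14818 := ded_10_1 (flp_c L165686) (flp_a L165451) L172627
theorem L172631 : sm gf N15551 = N14798 := ded_26_2 (flp_c L165461) (flp_f L165453) L172627
theorem L172633 : sm gg N15551 = N15264 := ded_27_2 L169801 (flp_g L165455) L172627
theorem L172635 : sm gh N15551 = N14809 := ded_28_2 (flp_c L165572) (flp_h L165459) L172627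
theorem L172637 : sm gi N15551 = N15262 := ded_29_2 (flp_c L169783) (flp_i L165457) L172627
theorem L172639 : sm gd N15551 = N15258 := ded_24_2 (flp_c L169761) (flp_d L162452) (flp_c L157425) L165449 L172627
theorem L172641 : sm ge N15116 = N15551 := ded_12_0 L172629 (flp_e L165700) (flp_a L168454)
theorem L172643 : sm ge N14797 = N15552 := rfl
theorem L172645 : sm ga N15552 = N14819 := ded_12_1 (flp_e L165702) (flp_a L165451) L172643
theorem L172647 : sm gc N15552 = N15116 := ded_25_1 L172641 (flp_c L172627) L172643
theorem L172649 : sm gg N15552 = N14824 := ded_36_2 L165773 (flp_g L165455) L172643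
theorem L172651 : sm gh N15552 = N14810 := ded_37_2 (flp_e L165584) (flp_h L165459) L172643
theorem L172653 : sm gi N15552 = N15263 := ded_38_2 (flp_e L169790) (flp_i L165457) L172643
theorem L172655 : sm gd N15552 = N15257 := ded_30_1 (flp_e L169754) (flp_d L162445) (flp_e L157427) L165449 L172643
theorem L172657 : sm gf N15552 = N15112 := ded_35_2 (flp_e L168410) L160700 (flp_e L157439) (flp_f L165453) L172643
theorem L172659 : sm gb N14798 = N15553 := rfl
theorem L172661 : sm ge N15553 = N15113 := ded_19_2 (flp_b L168420) (flp_e L165465) L172659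
theorem L172663 : sm gg N15553 = N14808 := ded_21_2 (flp_b L165566) (flp_g L165467) L172659
theorem L172665 : sm gh N15553 = N14811 := ded_22_2 (flp_b L165596) (flp_h L165469) L172659
theorem L172667 : sm gh N14799 = N15554 := rfl
theorem L172669 : sm ga N15554 = N14802 := ded_15_1 (flp_h L165509) (flp_a L165473) L172667
theorem L172671 : sm gb N15554 = N14820 := ded_22_1 (flp_h L165718) (flp_b L165475) L172667
theorem L172673 : sm ge N15554 = N15107 := ded_37_1 (flp_h L168370) (flp_e L165478) L172667
theorem L172675 : sm gf N15554 = N14800 := ded_40_1 (flp_h L165484) (flp_f L165480) L172667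
theorem L172677 : sm gg N15554 = N15104 := ded_42_1 (flp_h L168344) (flp_g L165482) L172667
theorem L172679 : sm gi N15554 = N15109 := ded_44_2 (flp_h L168388) (flp_i L160662) (flp_h L157450) L165471 L172667
theorem L172681 : sm gd N14800 = N15555 := rfl
theorem L172683 : sm ga N15555 = N14803 := ded_11_1 (flp_d L165517) (flp_a L165486) L172681
theorem L172685 : sm gb N15555 = N14821 := ded_18_1 (flp_d L165732) (flp_b L165488) L172681
theorem L172687 : sm gg N15555 = N15286 := ded_32_2 (flp_d L169962) (flp_g L165492) L172681
theorem L172689 : sm gi N15555 = N15299 := ded_34_2 (flp_d L170038) (flp_i L165494) L172681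
theorem L172691 : sm gh N15555 = N15555 := ded_33_2 (flp_d L172681) (flp_h L165484) L157462 L165484 L172681
theorem L172692 : sm gh N14801 = N15556 := rfl
theorem L172694 : sm ga N15556 = N15104 := ded_15_1 (flp_h L168344) (flp_a L165498) L172692
theorem L172696 : sm gb N15556 = N14804 := ded_22_1 (flp_h L165522) (flp_b L165500) L172692
theorem L172698 : sm ge N15556 = N15109 := ded_37_1 (flp_h L168388) (flp_e L165503) L172692
theorem L172700 : sm gf N15556 = N15103 := ded_40_1 (flp_h L168332) (flp_f L165505) L172692
theorem L172702 : sm gg N15556 = N14802 := ded_42_1 (flp_h L165509) (flp_g L165507) L172692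
theorem L172704 : sm gi N15556 = N15107 := ded_44_2 (flp_h L168370) (flp_i L160642) (flp_h L157484) L165496 L172692
theorem L172706 : sm gd N14802 = N15557 := rfl
theorem L172708 : sm gb N15557 = N14805 := ded_18_1 (flp_d L165536) (flp_b L165511) L172706
theorem L172710 : sm gf N15557 = N14803 := ded_31_2 (flp_d L165517) (flp_f L165515) L172706
theorem L172712 : sm gh N15557 = N15557 := ded_33_2 (flp_d L172706) (flp_h L165509) L157492 L165509 L172706
theorem L172713 : sm gc N14803 = N15558 := rfl
theorem L172715 : sm gh N15558 = N15558 := ded_28_2 (flp_c L172713) L165521 L172713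
theorem L172716 : sm gd N14804 = N15559 := rfl
theorem L172718 : sm ga N15559 = N14822 := ded_11_1 (flp_d L165741) (flp_a L165524) L172716
theorem L172720 : sm gf N15559 = N15114 := ded_31_2 (flp_d L168428) (flp_f L165530) L172716
theorem L172722 : sm gg N15559 = N14805 := ded_32_2 (flp_d L165536) (flp_g L165532) L172716
theorem L172724 : sm gi N15559 = N15116 := ded_34_2 (flp_d L168452) (flp_i L165534) L172716
theorem L172726 : sm gc N15559 = N15263 := ded_24_1 L169795 (flp_c L164047) L164053 (flp_c L165526) L172716
theorem L172728 : sm ge N15559 = N15262 := ded_30_2 L169788 (flp_e L164089) L164097 (flp_e L165528) L172716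
theorem L172730 : sm gh N15559 = N15559 := ded_33_2 (flp_d L172716) (flp_h L165522) L157509 L165522 L172716
theorem L172731 : sm gc N14805 = N15560 := rfl
theorem L172733 : sm ga N15560 = N14816 := ded_10_1 L165669 (flp_a L165538) L172731
theorem L172735 : sm gf N15560 = N14806 := ded_26_2 (flp_c L165543) (flp_f L165540) L172731
theorem L172737 : sm gg N15560 = N15263 := ded_27_2 (flp_c L172726) L172722 L172731
theorem L172739 : sm gh N15560 = N15560 := ded_28_2 (flp_c L172731) L165542 L172731
theorem L172740 : sm gi N15560 = N14824 := ded_29_2 (flp_c L171455) L171467 L172731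
theorem L172742 : sm gd N15560 = N14807 := ded_24_2 (flp_c L165554) (flp_d L157539) (flp_c L157520) L165536 L172731
theorem L172744 : sm ge N14967 = N15560 := ded_12_0 L172733 L165660 (flp_a L167159)
theorem L172746 : sm ge N14805 = N15561 := rfl
theorem L172748 : sm ga N15561 = N14823 := ded_12_1 (flp_e L165756) (flp_a L165538) L172746
theorem L172750 : sm gc N15561 = N14967 := ded_25_1 L172744 (flp_c L172731) L172746
theorem L172752 : sm gg N15561 = N15262 := ded_36_2 (flp_e L172728) L172722 L172746
theorem L172754 : sm gh N15561 = N15561 := ded_37_2 (flp_e L172746) L165542 L172746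
theorem L172755 : sm gi N15561 = N15264 := ded_38_2 (flp_e L171459) L171467 L172746
theorem L172757 : sm gd N15561 = N15112 := ded_30_1 (flp_e L168410) (flp_d L160696) (flp_e L157522) L165536 L172746
theorem L172759 : sm gf N15561 = N15257 := ded_35_2 (flp_e L169754) (flp_f L165379) L165387 (flp_f L165540) L172746
theorem L172761 : sm gb N14806 = N15562 := rfl
theorem L172763 : sm gd N15562 = N14808 := ded_18_2 (flp_b L165566) (flp_d L165552) L172761
theorem L172765 : sm ge N15562 = N14949 := ded_19_2 L167002 (flp_e L165547) L172761
theorem L172767 : sm gh N15562 = N15562 := ded_22_2 (flp_b L172761) L165549 L172761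
theorem L172768 : sm gi N15562 = N14960 := ded_23_2 L167100 (flp_i L165550) L172761
theorem L172770 : sm gb N14807 = N15563 := rfl
theorem L172772 : sm ge N15563 = N14956 := ded_19_2 L167075 (flp_e L165558) L172770
theorem L172774 : sm gf N15563 = N14808 := ded_20_2 (flp_b L165566) (flp_f L165560) L172770
theorem L172776 : sm gg N15563 = N15261 := ded_21_2 L169779 (flp_g L165562) L172770
theorem L172778 : sm gh N15563 = N14812 := ded_22_2 (flp_b L165604) (flp_h L165564) L172770
theorem L172780 : sm ga N15563 = N14960 := ded_9_1 L167100 L159320 (flp_b L157833) (flp_a L165556) L172770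
theorem L172782 : sm ga N14808 = N15564 := rfl
theorem L172784 : sm ge N15564 = N15322 := ded_12_2 (flp_a L170203) (flp_e L165568) L172782
theorem L172786 : sm gf N15564 = N14960 := ded_13_2 (flp_a L172780) L172774 L172782
theorem L172788 : sm gh N15564 = N14813 := ded_15_2 (flp_a L165616) (flp_h L165570) L172782
theorem L172790 : sm gb N15564 = N14824 := ded_9_2 (flp_a L165771) (flp_b L157835) (flp_a L157549) L165566 L172782
theorem L172792 : sm gb N14809 = N15565 := rfl
theorem L172794 : sm gd N15565 = N15565 := ded_18_2 (flp_b L172792) L165581 L172792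
theorem L172795 : sm ge N15565 = N15179 := ded_19_2 L169065 L165582 L172792
theorem L172797 : sm gf N15565 = N14811 := ded_20_2 (flp_b L165596) (flp_f L165576) L172792
theorem L172799 : sm gg N15565 = N15266 := ded_21_2 L169815 (flp_g L165578) L172792
theorem L172801 : sm gi N15565 = N15565 := ded_23_2 (flp_b L172792) L165580 L172792
theorem L172802 : sm ga N15565 = N15182 := ded_9_1 L169084 L161442 (flp_b L157850) (flp_a L165574) L172792
theorem L172804 : sm gh N14827 = N15566 := rfl
theorem L172806 : sm ga N15566 = N14992 := ded_15_1 (flp_h L167390) (flp_a L165806) L172804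
theorem L172808 : sm gb N15566 = N14829 := ded_22_1 (flp_h L165833) (flp_b L165808) L172804
theorem L172810 : sm gf N15566 = N14850 := ded_40_1 (flp_h L166062) (flp_f L165812) L172804
theorem L172812 : sm gg N15566 = N14835 := ded_42_1 (flp_h L165895) (flp_g L165814) L172804
theorem L172814 : sm gd N15566 = N14998 := ded_33_1 (flp_h L167441) L159824 (flp_h L158023) (flp_d L165810) L172804
theorem L172816 : sm gi N15566 = N15433 := ded_44_2 (flp_h L171483) (flp_i L164383) (flp_h L157894) L165804 L172804
theorem L172818 : sm gh N14830 = N15567 := rfl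
theorem L172820 : sm ga N15567 = N15567 := ded_15_1 (flp_h L172818) L165848 L172818
theorem L172821 : sm gc N15567 = N15326 := ded_28_1 L170239 (flp_c L165849) L172818
theorem L172823 : sm gf N15567 = N14831 := ded_40_1 (flp_h L165854) (flp_f L165852) L172818
theorem L172825 : sm gd N14831 = N15568 := rfl
theorem L172827 : sm ga N15568 = N15568 := ded_11_1 (flp_d L172825) L165856 L172825
theorem L172828 : sm gg N15568 = N14839 := ded_32_2 (flp_d L165935) (flp_g L165859) L172825
theorem L172830 : sm ge N15568 = N15129 := ded_30_2 (flp_d L168588) L160900 (flp_d L157937) (flp_e L165857) L172825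
theorem L172832 : sm gh N15568 = N15568 := ded_33_2 (flp_d L172825) (flp_h L165854) L157927 L165854 L172825
theorem L172833 : sm gi N14832 = N15569 := rfl
theorem L172835 : sm ga N15569 = N14834 := ded_16_1 (flp_i L165885) (flp_a L165863) L172833
theorem L172837 : sm gb N15569 = N15569 := ded_23_1 (flp_i L172833) L165865 L172833
theorem L172838 : sm gd N15569 = N14994 := ded_34_1 (flp_i L167406) (flp_d L165870) L172833
theorem L172840 : sm ge N15569 = N14833 := ded_38_1 (flp_i L165874) L165861 L172833
theorem L172842 : sm gf N15569 = N15192 := ded_41_1 L169207 L165872 L172833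
theorem L172844 : sm gg N15569 = N14990 := ded_43_1 (flp_i L167370) (flp_g L165866) L172833
theorem L172846 : sm gh N14833 = N15570 := rfl
theorem L172848 : sm ga N15570 = N14835 := ded_15_1 (flp_h L165895) (flp_a L165876) L172846
theorem L172850 : sm gb N15570 = N15570 := ded_22_1 (flp_h L172846) L165878 L172846
theorem L172851 : sm gf N15570 = N15123 := ded_40_1 (flp_h L168522) (flp_f L165881) L172846
theorem L172853 : sm gg N15570 = N14992 := ded_42_1 (flp_h L167390) (flp_g L165883) L172846
theorem L172855 : sm gh N14834 = N15571 := rfl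
theorem L172857 : sm gb N15571 = N14836 := ded_22_1 (flp_h L165901) (flp_b L165887) L172855
theorem L172859 : sm ge N15571 = N14835 := ded_37_1 (flp_h L165895) (flp_e L165891) L172855
theorem L172861 : sm gf N15571 = N15095 := ded_40_1 L168266 (flp_f L165893) L172855
theorem L172863 : sm gd N15571 = N15093 := ded_33_1 (flp_h L168238) L160451 L161904 (flp_d L165889) L172855
theorem L172865 : sm gi N15571 = N15094 := ded_44_2 L168256 L160495 (flp_h L157952) L165885 L172855
theorem L172867 : sm gh N14837 = N15572 := rfl
theorem L172869 : sm ga N15572 = N15572 := ded_15_1 (flp_h L172867) L165916 L172867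
theorem L172870 : sm gc N15572 = N15168 := ded_28_1 L168955 (flp_c L165917) L172867
theorem L172872 : sm ge N15572 = N15130 := ded_37_1 (flp_h L168596) (flp_e L165920) L172867
theorem L172874 : sm gg N15572 = N14838 := ded_42_1 (flp_h L165924) (flp_g L165922) L172867
theorem L172876 : sm gi N15572 = N15169 := ded_44_2 L168962 L161268 (flp_h L157992) L165914 L172867
theorem L172878 : sm gd N15331 = N15572 := ded_24_0 L172870 (flp_d L168948) L161229 L163014 L170274
theorem L172880 : sm gd N14838 = N15573 := rfl
theorem L172882 : sm ga N15573 = N15573 := ded_11_1 (flp_d L172880) L165926 L172880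
theorem L172883 : sm gf N15573 = N14839 := ded_31_2 (flp_d L165935) (flp_f L165931) L172880
theorem L172885 : sm gg N15573 = N15331 := ded_32_2 L172878 L172874 L172880
theorem L172887 : sm gi N15573 = N15158 := ded_34_2 L168861 (flp_i L165933) L172880
theorem L172889 : sm gc N15573 = N15157 := ded_24_1 (flp_d L168844) L161115 L161337 (flp_c L165927) L172880
theorem L172891 : sm gh N15573 = N15573 := ded_33_2 (flp_d L172880) (flp_h L165924) L157999 L165924 L172880
theorem L172892 : sm gc N14839 = N15574 := rfl
theorem L172894 : sm ga N15574 = N15574 := ded_10_1 (flp_c L172892) L165937 L172892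
theorem L172895 : sm ge N15574 = N15325 := ded_25_2 (flp_c L170228) (flp_e L165938) L172892
theorem L172897 : sm gf N15574 = N15157 := ded_26_2 (flp_c L172889) L172883 L172892
theorem L172899 : sm gh N15574 = N15574 := ded_28_2 (flp_c L172892) L165940 L172892
theorem L172900 : sm gi N15574 = N15156 := ded_29_2 L168838 L168485 L172892
theorem L172902 : sm gd N15574 = N15155 := ded_24_2 L168823 (flp_d L165910) L165904 L165935 L172892
theorem L172904 : sm gh N14840 = N15575 := rfl
theorem L172906 : sm ga N15575 = N14970 := ded_15_1 (flp_h L167188) (flp_a L165943) L172904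
theorem L172908 : sm gc N15575 = N14841 := ded_28_1 (flp_h L165955) (flp_c L165945) L172904
theorem L172910 : sm ge N15575 = N15486 := ded_37_1 (flp_h L172058) (flp_e L165949) L172904
theorem L172912 : sm gf N15575 = N15221 := ded_40_1 (flp_h L169463) (flp_f L165951) L172904
theorem L172914 : sm gg N15575 = N14985 := ded_42_1 (flp_h L167335) (flp_g L165953) L172904
theorem L172916 : sm gi N15575 = N15344 := ded_44_2 (flp_h L170402) (flp_i L163126) (flp_h L158109) L165941 L172904
theorem L172918 : sm gd N14842 = N15576 := rfl
theorem L172920 : sm ga N15576 = N14973 := ded_11_1 (flp_d L167218) (flp_a L165972) L172918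
theorem L172922 : sm gf N15576 = N15228 := ded_31_2 (flp_d L169522) (flp_f L165978) L172918
theorem L172924 : sm gg N15576 = N14987 := ded_32_2 (flp_d L167349) (flp_g L165980) L172918
theorem L172926 : sm gi N15576 = N14849 := ded_34_2 (flp_d L166052) (flp_i L165982) L172918
theorem L172928 : sm gc N15576 = N14889 := ded_24_1 (flp_d L166437) L158630 (flp_d L158150) (flp_c L165974) L172918
theorem L172930 : sm gh N14843 = N15577 := rfl
theorem L172932 : sm gb N15577 = N14844 := ded_22_1 (flp_h L165996) (flp_b L165986) L172930
theorem L172934 : sm gc N15577 = N14851 := ded_28_1 (flp_h L166076) (flp_c L165988) L172930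
theorem L172936 : sm ge N15577 = N14972 := ded_37_1 (flp_h L167208) (flp_e L165992) L172930
theorem L172938 : sm gg N15577 = N14846 := ded_42_1 (flp_h L166020) (flp_g L165994) L172930
theorem L172940 : sm gi N15577 = N14979 := ded_44_2 (flp_h L167277) (flp_i L159568) (flp_h L158162) L165984 L172930
theorem L172942 : sm gd N14844 = N15578 := rfl
theorem L172944 : sm ga N15578 = N14974 := ded_11_1 (flp_d L167226) (flp_a L165998) L172942
theorem L172946 : sm gg N15578 = N14849 := ded_32_2 (flp_d L166052) (flp_g L166004) L172942
theorem L172948 : sm gi N15578 = N14987 := ded_34_2 (flp_d L167349) (flp_i L166006) L172942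
theorem L172950 : sm gc N15578 = N14903 := ded_24_1 (flp_d L166565) L158743 (flp_d L158188) (flp_c L166000) L172942
theorem L172952 : sm gh N15578 = N15373 := ded_33_2 (flp_d L170764) (flp_h L163453) (flp_d L158172) L165996 L172942
theorem L172954 : sm gh N14845 = N15579 := rfl
theorem L172956 : sm ga N15579 = N14846 := ded_15_1 (flp_h L166020) (flp_a L166010) L172954
theorem L172958 : sm gb N15579 = N14893 := ded_22_1 (flp_h L166470) (flp_b L166012) L172954
theorem L172960 : sm gc N15579 = N14853 := ded_28_1 (flp_h L166100) (flp_c L166014) L172954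
theorem L172962 : sm gf N15579 = N14897 := ded_40_1 (flp_h L166507) (flp_f L166018) L172954
theorem L172964 : sm gd N14846 = N15580 := rfl
theorem L172966 : sm gb N15580 = N14849 := ded_18_1 (flp_d L166052) (flp_b L166022) L172964
theorem L172968 : sm gf N15580 = N15233 := ded_31_2 (flp_d L169561) (flp_f L166026) L172964
theorem L172970 : sm gh N15580 = N15383 := ded_33_2 (flp_d L170886) (flp_h L163529) (flp_d L158208) L166020 L172964
theorem L172972 : sm gh N14847 = N15581 := rfl
theorem L172974 : sm ga N15581 = N14985 := ded_15_1 (flp_h L167335) (flp_a L166030) L172972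
theorem L172976 : sm gc N15581 = N14850 := ded_28_1 (flp_h L166062) (flp_c L166032) L172972
theorem L172978 : sm ge N15581 = N15389 := ded_37_1 (flp_h L170948) (flp_e L166036) L172972
theorem L172980 : sm gg N15581 = N14970 := ded_42_1 (flp_h L167188) (flp_g L166038) L172972
theorem L172982 : sm gi N15581 = N15435 := ded_44_2 (flp_h L171507) (flp_i L164407) (flp_h L158222) L166028 L172972
theorem L172984 : sm gd N14848 = N15582 := rfl
theorem L172986 : sm ga N15582 = N14987 := ded_11_1 (flp_d L167349) (flp_a L166042) L172984
theorem L172988 : sm gg N15582 = N14973 := ded_32_2 (flp_d L167218) (flp_g L166048) L172984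
theorem L172990 : sm gi N15582 = N14974 := ded_34_2 (flp_d L167226) (flp_i L166050) L172984
theorem L172992 : sm gc N15582 = N15021 := ded_24_1 (flp_d L167640) L159956 (flp_d L158252) (flp_c L166044) L172984
theorem L172994 : sm ge N14849 = N15583 := rfl
theorem L172996 : sm ga N15583 = N14988 := ded_12_1 (flp_e L167351) (flp_a L166054) L172994
theorem L172998 : sm gc N15583 = N14923 := ded_25_1 (flp_e L166725) (flp_c L166058) L172994
theorem L173000 : sm gh N15583 = N15393 := ded_37_2 (flp_e L170982) (flp_h L166060) L172994
theorem L173002 : sm gd N14851 = N15584 := rfl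
theorem L173004 : sm ga N15584 = N15301 := ded_11_1 (flp_d L171251) L171241 L173002
theorem L173006 : sm gb N15584 = N14852 := ded_18_1 (flp_d L166086) (flp_b L166078) L173002
theorem L173008 : sm gg N15584 = N14854 := ded_32_2 (flp_d L166108) (flp_g L166082) L173002
theorem L173010 : sm gi N15584 = N14996 := ded_34_2 (flp_d L167429) (flp_i L166084) L173002
theorem L173012 : sm ge N15584 = N15242 := ded_30_2 (flp_d L169627) (flp_e L165250) L165256 (flp_e L166080) L173002
theorem L173014 : sm gh N15584 = N14855 := ded_33_2 (flp_d L166116) (flp_h L158330) (flp_d L158286) L166076 L173002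
theorem L173016 : sm gd N14853 = N15585 := rfl
theorem L173018 : sm ga N15585 = N14854 := ded_11_1 (flp_d L166108) (flp_a L166102) L173016
theorem L173020 : sm gb N15585 = N14859 := ded_18_1 (flp_d L166160) (flp_b L166104) L173016
theorem L173022 : sm gf N15585 = N14952 := ded_31_2 (flp_d L167028) (flp_f L166106) L173016
theorem L173024 : sm gg N15585 = N15301 := ded_32_2 (flp_d L171251) L171249 L173016
theorem L173026 : sm ge N15585 = N15299 := ded_30_2 (flp_d L170038) (flp_e L165279) (flp_d L170457) L170451 L173016
theorem L173028 : sm gh N15585 = N14856 := ded_33_2 (flp_d L166127) (flp_h L158354) (flp_d L158310) L166100 L173016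
theorem L173030 : sm gc N14854 = N15586 := rfl
theorem L173032 : sm gf N15586 = N15260 := ded_26_2 (flp_c L169773) (flp_f L166112) L173030
theorem L173034 : sm gh N15586 = N14857 := ded_28_2 (flp_c L166140) (flp_h L166114) L173030
theorem L173036 : sm gb N15586 = N14959 := ded_17_1 (flp_c L167094) L159297 (flp_c L158326) (flp_b L166110) L173030
theorem L173038 : sm gc N14855 = N15587 := rfl
theorem L173040 : sm ga N15587 = N15317 := ded_10_1 L170164 (flp_a L166118) L173038
theorem L173042 : sm ge N15587 = N15254 := ded_25_2 (flp_c L169735) (flp_e L166125) L173038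
theorem L173044 : sm gg N15587 = N14857 := ded_27_2 (flp_c L166140) (flp_g L166122) L173038
theorem L173046 : sm gi N15587 = N15587 := ded_29_2 (flp_c L173038) L166124 L173038
theorem L173047 : sm gb N15587 = N14962 := ded_17_1 (flp_c L167115) L159346 (flp_c L158350) (flp_b L166120) L173038
theorem L173049 : sm gd N15587 = N15427 := ded_24_2 (flp_c L171403) (flp_d L164123) (flp_c L158336) L166116 L173038
theorem L173051 : sm gc N14856 = N15588 := rfl
theorem L173053 : sm ga N15588 = N14857 := ded_10_1 (flp_c L166140) (flp_a L166129) L173051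
theorem L173055 : sm ge N15588 = N15315 := ded_25_2 (flp_c L170150) (flp_e L166138) L173051
theorem L173057 : sm gf N15588 = N14962 := ded_26_2 (flp_c L167115) (flp_f L166133) L173051
theorem L173059 : sm gg N15588 = N15317 := ded_27_2 L170164 (flp_g L166135) L173051
theorem L173061 : sm gi N15588 = N15588 := ded_29_2 (flp_c L173051) L166137 L173051
theorem L173062 : sm gd N15588 = N15428 := ded_24_2 (flp_c L171414) (flp_d L164134) (flp_c L158360) L166127 L173051
theorem L173064 : sm ge N14857 = N15589 := rfl
theorem L173066 : sm ga N15589 = N15315 := ded_12_1 (flp_e L173055) L173053 L173064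
theorem L173068 : sm gb N15589 = N14965 := ded_19_1 (flp_e L167143) (flp_b L166145) L173064
theorem L173070 : sm gc N15589 = N14858 := ded_25_1 (flp_e L166149) L166140 L173064
theorem L173072 : sm gg N15589 = N15254 := ded_36_2 (flp_e L173042) L173044 L173064
theorem L173074 : sm gi N15589 = N15589 := ded_38_2 (flp_e L173064) L166144 L173064
theorem L173075 : sm gi N14860 = N15590 := rfl
theorem L173077 : sm ga N15590 = N14968 := ded_16_1 (flp_i L167166) (flp_a L166174) L173075
theorem L173079 : sm gc N15590 = N14861 := ded_29_1 (flp_i L166182) L166172 L173075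
theorem L173081 : sm gd N15590 = N14876 := ded_34_1 (flp_i L166309) (flp_d L166180) L173075
theorem L173083 : sm gf N15590 = N14864 := ded_41_1 (flp_i L166210) (flp_f L166176) L173075
theorem L173085 : sm gh N14861 = N15591 := rfl
theorem L173087 : sm ga N15591 = N14998 := ded_15_1 (flp_h L167441) (flp_a L166184) L173085
theorem L173089 : sm gb N15591 = N15591 := ded_22_1 (flp_h L173085) L166186 L173085
theorem L173090 : sm gf N15591 = N14866 := ded_40_1 (flp_h L166231) (flp_f L166189) L173085
theorem L173092 : sm gd N15591 = N14992 := ded_33_1 (flp_h L167390) L159661 (flp_h L158452) (flp_d L166187) L173085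
theorem L173094 : sm gi N15591 = N15570 := ded_44_2 (flp_h L172846) (flp_i L165874) (flp_h L158439) L166182 L173085
theorem L173096 : sm gi N14862 = N15592 := rfl
theorem L173098 : sm ga N15592 = N15217 := ded_16_1 (flp_i L169425) (flp_a L166197) L173096
theorem L173100 : sm gb N15592 = N14864 := ded_23_1 (flp_i L166210) L166191 L173096
theorem L173102 : sm gc N15592 = N15592 := ded_29_1 (flp_i L173096) L166199 L173096
theorem L173103 : sm gd N15592 = N14878 := ded_34_1 (flp_i L166329) (flp_d L166193) L173096
theorem L173105 : sm gg N15592 = N14869 := ded_43_1 (flp_i L166256) (flp_g L166195) L173096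
theorem L173107 : sm gi N14863 = N15593 := rfl
theorem L173109 : sm ga N15593 = N15000 := ded_16_1 (flp_i L167463) (flp_a L166202) L173107
theorem L173111 : sm gc N15593 = N14865 := ded_29_1 (flp_i L166220) (flp_c L166204) L173107
theorem L173113 : sm gd N15593 = N15101 := ded_34_1 L168316 (flp_d L166208) L173107
theorem L173115 : sm ge N15593 = N14864 := ded_38_1 (flp_i L166210) L166200 L173107
theorem L173117 : sm gg N15593 = N14872 := ded_43_1 (flp_i L166279) (flp_g L166206) L173107
theorem L173119 : sm gh N14864 = N15594 := rfl
theorem L173121 : sm ga N15594 = N15001 := ded_15_1 (flp_h L167473) (flp_a L166212) L173119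
theorem L173123 : sm gc N15594 = N14866 := ded_28_1 (flp_h L166231) (flp_c L166214) L173119
theorem L173125 : sm gg N15594 = N14873 := ded_42_1 (flp_h L166287) (flp_g L166218) L173119
theorem L173127 : sm gh N14865 = N15595 := rfl
theorem L173129 : sm ga N15595 = N15002 := ded_15_1 (flp_h L167481) (flp_a L166222) L173127
theorem L173131 : sm gb N15595 = N15595 := ded_22_1 (flp_h L173127) L166224 L173127
theorem L173132 : sm ge N15595 = N14866 := ded_37_1 (flp_h L166231) (flp_e L166227) L173127
theorem L173134 : sm gg N15595 = N14875 := ded_42_1 (flp_h L166302) (flp_g L166229) L173127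
theorem L173136 : sm gd N15595 = N15537 := ded_33_1 L172476 L165230 (flp_h L159690) (flp_d L166225) L173127
theorem L173138 : sm ge N14867 = N15596 := rfl
theorem L173140 : sm ga N15596 = N14868 := ded_12_1 (flp_e L166251) L166240 L173138
theorem L173142 : sm gb N15596 = N15003 := ded_19_1 (flp_e L167489) (flp_b L166249) L173138
theorem L173144 : sm gc N15596 = N15596 := ded_25_1 (flp_e L173138) L166242 L173138
theorem L173145 : sm gg N15596 = N15216 := ded_36_2 (flp_e L169418) (flp_g L166245) L173138
theorem L173147 : sm gh N15596 = N15268 := ded_37_2 (flp_e L169833) (flp_h L166247) L173138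
theorem L173149 : sm gf N15596 = N15269 := ded_35_2 L169838 (flp_f L169927) L170337 L170329 L173138
theorem L173151 : sm gi N14867 = N15597 := rfl
theorem L173153 : sm ga N15597 = N14869 := ded_16_1 (flp_i L166256) L166240 L173151
theorem L173155 : sm gb N15597 = N15004 := ded_23_1 (flp_i L167499) (flp_b L166249) L173151
theorem L173157 : sm gc N15597 = N15597 := ded_29_1 (flp_i L173151) L166242 L173151
theorem L173158 : sm gd N15597 = N14880 := ded_34_1 (flp_i L166353) (flp_d L166243) L173151
theorem L173160 : sm gg N15597 = N15217 := ded_43_1 (flp_i L169425) (flp_g L166245) L173151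
theorem L173162 : sm gf N14868 = N15598 := rfl
theorem L173164 : sm ga N15598 = N15269 := ded_13_1 (flp_f L173149) L173140 L173162
theorem L173166 : sm gb N15598 = N14871 := ded_20_1 (flp_f L166273) (flp_b L166253) L173162
theorem L173168 : sm gc N15598 = N15598 := ded_26_1 (flp_f L173162) L166255 L173162
theorem L173169 : sm gh N15598 = N15218 := ded_40_2 (flp_f L169439) L169423 L173162
theorem L173171 : sm ge N15598 = N15225 := ded_35_1 L170352 (flp_e L170339) L163113 L166251 L173162
theorem L173173 : sm gi N14868 = N15599 := rfl
theorem L173175 : sm gb N15599 = N14872 := ded_23_1 (flp_i L166279) (flp_b L166253) L173173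
theorem L173177 : sm gc N15599 = N15599 := ded_29_1 (flp_i L173173) L166255 L173173
theorem L173178 : sm ge N15599 = N14869 := ded_38_1 (flp_i L166256) L166251 L173173
theorem L173180 : sm gh N14869 = N15600 := rfl
theorem L173182 : sm gb N15600 = N14873 := ded_22_1 (flp_h L166287) (flp_b L166258) L173180
theorem L173184 : sm gc N15600 = N15600 := ded_28_1 (flp_h L173180) L166260 L173180
theorem L173185 : sm gh N14870 = N15601 := rfl
theorem L173187 : sm ga N15601 = N15010 := ded_15_1 (flp_h L167556) (flp_a L166265) L173185
theorem L173189 : sm gb N15601 = N15012 := ded_22_1 (flp_h L169859) L169851 L173185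
theorem L173191 : sm gc N15601 = N15124 := ded_28_1 L168542 (flp_c L166269) L173185
theorem L173193 : sm ge N15601 = N14885 := ded_37_1 (flp_h L166397) (flp_e L166271) L173185
theorem L173195 : sm gf N15601 = N15271 := ded_40_1 L169859 L167578 L173185
theorem L173197 : sm gg N15601 = N15006 := ded_42_1 L167524 (flp_g L166267) L173185
theorem L173199 : sm gd N15601 = N15598 := ded_33_1 L173169 (flp_d L169432) L162126 L166263 L173185
theorem L173201 : sm gi N14870 = N15602 := rfl
theorem L173203 : sm ga N15602 = N15011 := ded_16_1 (flp_i L167562) (flp_a L166265) L173201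
theorem L173205 : sm gc N15602 = N15090 := ded_29_1 L168218 (flp_c L166269) L173201
theorem L173207 : sm gd N15602 = N14872 := ded_34_1 (flp_i L166279) L166263 L173201
theorem L173209 : sm ge N15602 = N14886 := ded_38_1 (flp_i L166407) (flp_e L166271) L173201
theorem L173211 : sm gg N15602 = N15101 := ded_43_1 L168316 (flp_g L166267) L173201
theorem L173213 : sm gi N14871 = N15603 := rfl
theorem L173215 : sm ga N15603 = N15013 := ded_16_1 (flp_i L167580) (flp_a L166275) L173213
theorem L173217 : sm gc N15603 = N14874 := ded_29_1 (flp_i L166293) (flp_c L166277) L173213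
theorem L173219 : sm gf N15603 = N14872 := ded_41_1 (flp_i L166279) L166273 L173213
theorem L173221 : sm gh N14872 = N15604 := rfl
theorem L173223 : sm ga N15604 = N15014 := ded_15_1 (flp_h L167586) (flp_a L166281) L173221
theorem L173225 : sm gc N15604 = N14875 := ded_28_1 (flp_h L166302) (flp_c L166283) L173221
theorem L173227 : sm ge N15604 = N14873 := ded_37_1 (flp_h L166287) (flp_e L166285) L173221
theorem L173229 : sm gd N14873 = N15605 := rfl
theorem L173231 : sm ga N15605 = N15015 := ded_11_1 (flp_d L167592) (flp_a L166289) L173229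
theorem L173233 : sm gh N15605 = N14889 := ded_33_2 (flp_d L166437) (flp_h L158626) (flp_d L158497) L166287 L173229
theorem L173235 : sm gh N14874 = N15606 := rfl
theorem L173237 : sm ga N15606 = N15017 := ded_15_1 (flp_h L167604) (flp_a L166295) L173235
theorem L173239 : sm gb N15606 = N15606 := ded_22_1 (flp_h L173235) L166297 L173235
theorem L173240 : sm gf N15606 = N14875 := ded_40_1 (flp_h L166302) (flp_f L166300) L173235
theorem L173242 : sm gd N14875 = N15607 := rfl
theorem L173244 : sm ga N15607 = N15018 := ded_11_1 (flp_d L167610) (flp_a L166304) L173242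
theorem L173246 : sm gb N15607 = N15607 := ded_18_1 (flp_d L173242) L166306 L173242
theorem L173247 : sm gg N15607 = N15537 := ded_32_2 (flp_d L173136) L173134 L173242
theorem L173249 : sm ge N15607 = N15525 := ded_30_2 (flp_d L172385) (flp_e L165960) L165966 (flp_e L166307) L173242
theorem L173251 : sm gh N15607 = N15185 := ded_33_2 (flp_d L169108) (flp_h L161495) (flp_d L158511) L166302 L173242
theorem L173253 : sm gh N14876 = N15608 := rfl
theorem L173255 : sm ga N15608 = N14972 := ded_15_1 (flp_h L167208) (flp_a L166311) L173253
theorem L173257 : sm gc N15608 = N14877 := ded_28_1 (flp_h L166317) (flp_c L166313) L173253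
theorem L173259 : sm gf N15608 = N14879 := ded_40_1 (flp_h L166341) (flp_f L166315) L173253
theorem L173261 : sm gi N15608 = N14893 := ded_44_2 (flp_h L166470) (flp_i L158664) (flp_h L158526) L166309 L173253
theorem L173263 : sm gh N14878 = N15609 := rfl
theorem L173265 : sm ga N15609 = N15224 := ded_15_1 (flp_h L169490) (flp_a L166331) L173263
theorem L173267 : sm gb N15609 = N14879 := ded_22_1 (flp_h L166341) (flp_b L166333) L173263
theorem L173269 : sm gc N15609 = N14945 := ded_28_1 (flp_h L166955) (flp_c L166335) L173263
theorem L173271 : sm ge N15609 = N15081 := ded_37_1 L168124 (flp_e L166337) L173263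
theorem L173273 : sm gg N15609 = N14883 := ded_42_1 (flp_h L166381) (flp_g L166339) L173263
theorem L173275 : sm gi N15609 = N14897 := ded_44_2 (flp_h L166507) (flp_i L158703) (flp_h L158544) L166329 L173263
theorem L173277 : sm gd N14879 = N15610 := rfl
theorem L173279 : sm ga N15610 = N15021 := ded_11_1 (flp_d L167640) (flp_a L166343) L173277
theorem L173281 : sm gg N15610 = N14889 := ded_32_2 (flp_d L166437) (flp_g L166349) L173277
theorem L173283 : sm gi N15610 = N14903 := ded_34_2 (flp_d L166565) (flp_i L166351) L173277
theorem L173285 : sm gc N15610 = N14987 := ded_24_1 (flp_d L167349) L159620 (flp_d L158570) (flp_c L166345) L173277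
theorem L173287 : sm gh N14880 = N15611 := rfl
theorem L173289 : sm ga N15611 = N14883 := ded_15_1 (flp_h L166381) (flp_a L166355) L173287
theorem L173291 : sm gb N15611 = N15024 := ded_22_1 (flp_h L167665) (flp_b L166357) L173287
theorem L173293 : sm gc N15611 = N14947 := ded_28_1 (flp_h L166978) (flp_c L166359) L173287
theorem L173295 : sm gg N15611 = N15224 := ded_42_1 (flp_h L169490) (flp_g L166361) L173287
theorem L173297 : sm gi N15611 = N14907 := ded_44_2 (flp_h L166606) (flp_i L158781) (flp_h L158580) L166353 L173287
theorem L173299 : sm gi N14881 = N15612 := rfl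
theorem L173301 : sm gb N15612 = N14886 := ded_23_1 (flp_i L166407) (flp_b L166365) L173299
theorem L173303 : sm gc N15612 = N15174 := ded_29_1 L169017 (flp_c L166369) L173299
theorem L173305 : sm gd N15612 = N14882 := ded_34_1 (flp_i L166371) L166363 L173299
theorem L173307 : sm gg N15612 = N15100 := ded_43_1 L168308 (flp_g L166367) L173299
theorem L173309 : sm gh N14882 = N15613 := rfl
theorem L173311 : sm gb N15613 = N14888 := ded_22_1 (flp_h L166425) (flp_b L166373) L173309
theorem L173313 : sm gc N15613 = N14948 := ded_28_1 (flp_h L166988) (flp_c L166375) L173309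
theorem L173315 : sm ge N15613 = N14883 := ded_37_1 (flp_h L166381) (flp_e L166377) L173309
theorem L173317 : sm gg N15613 = N15081 := ded_42_1 L168124 (flp_g L166379) L173309
theorem L173319 : sm gi N15613 = N14912 := ded_44_2 (flp_h L166643) (flp_i L158804) (flp_h L158592) L166371 L173309
theorem L173321 : sm gd N14883 = N15614 := rfl
theorem L173323 : sm gb N15614 = N14889 := ded_18_1 (flp_d L166437) (flp_b L166383) L173321
theorem L173325 : sm gi N15614 = N14913 := ded_34_2 (flp_d L166651) (flp_i L166387) L173321
theorem L173327 : sm ge N14884 = N15615 := rfl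
theorem L173329 : sm ga N15615 = N15031 := ded_12_1 (flp_e L167728) (flp_a L166391) L173327
theorem L173331 : sm gc N15615 = N15186 := ded_25_1 (flp_e L169118) (flp_c L166393) L173327
theorem L173333 : sm gg N15615 = N15386 := ded_36_2 L170924 L170836 L173327
theorem L173335 : sm gf N15615 = N15443 := ded_35_2 L171603 L167578 L166271 L166389 L173327
theorem L173337 : sm gh N15385 = N15615 := ded_15_0 L173329 (flp_h L167734) (flp_a L170906)
theorem L173339 : sm gh N14884 = N15616 := rfl
theorem L173341 : sm ga N15616 = N15033 := ded_15_1 (flp_h L167746) (flp_a L166391) L173339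
theorem L173343 : sm gb N15616 = N15615 := ded_22_1 (flp_h L173337) L170908 L173339
theorem L173345 : sm gc N15616 = N15188 := ded_28_1 (flp_h L169145) (flp_c L166393) L173339
theorem L173347 : sm ge N15616 = N15385 := ded_37_1 L173337 (flp_e L173327) L173339
theorem L173349 : sm gf N15616 = N14885 := ded_40_1 (flp_h L166397) L166389 L173339
theorem L173351 : sm gg N15616 = N15384 := ded_42_1 (flp_h L170902) L170836 L173339
theorem L173353 : sm gd N15616 = N14916 := ded_33_1 (flp_h L166671) L158824 (flp_h L158614) (flp_d L166395) L173339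
theorem L173355 : sm gi N14884 = N15617 := rfl
theorem L173357 : sm ga N15617 = N15034 := ded_16_1 (flp_i L167758) (flp_a L166391) L173355
theorem L173359 : sm gc N15617 = N15089 := ded_29_1 L168208 (flp_c L166393) L173355
theorem L173361 : sm gd N15617 = N14887 := ded_34_1 (flp_i L166417) (flp_d L166395) L173355
theorem L173363 : sm gf N15617 = N14886 := ded_41_1 (flp_i L166407) L166389 L173355
theorem L173365 : sm gi N14885 = N15618 := rfl
theorem L173367 : sm ga N15618 = N15035 := ded_16_1 (flp_i L167766) (flp_a L166399) L173365
theorem L173369 : sm gc N15618 = N15189 := ded_29_1 (flp_i L169159) (flp_c L166401) L173365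
theorem L173371 : sm gd N15618 = N14918 := ded_34_1 (flp_i L166693) (flp_d L166405) L173365
theorem L173373 : sm gg N15618 = N15209 := ded_43_1 L169352 (flp_g L166403) L173365
theorem L173375 : sm gh N14886 = N15619 := rfl
theorem L173377 : sm ga N15619 = N15036 := ded_15_1 (flp_h L167772) (flp_a L166409) L173375
theorem L173379 : sm gc N15619 = N15087 := ded_28_1 L168183 (flp_c L166411) L173375
theorem L173381 : sm gg N15619 = N15096 := ded_42_1 L168270 (flp_g L166415) L173375
theorem L173383 : sm gh N14887 = N15620 := rfl
theorem L173385 : sm ga N15620 = N15038 := ded_15_1 (flp_h L167782) (flp_a L166419) L173383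
theorem L173387 : sm gc N15620 = N14890 := ded_28_1 (flp_h L166443) (flp_c L166421) L173383
theorem L173389 : sm gf N15620 = N14888 := ded_40_1 (flp_h L166425) (flp_f L166423) L173383
theorem L173391 : sm gi N15620 = N14921 := ded_44_2 (flp_h L166713) (flp_i L158846) (flp_h L158614) L166417 L173383
theorem L173393 : sm gd N14888 = N15621 := rfl
theorem L173395 : sm ga N15621 = N15039 := ded_11_1 (flp_d L167790) (flp_a L166427) L173393
theorem L173397 : sm gg N15621 = N15077 := ded_32_2 L168108 (flp_g L166433) L173393
theorem L173399 : sm gi N15621 = N14922 := ded_34_2 (flp_d L166721) (flp_i L166435) L173393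
theorem L173401 : sm gc N15621 = N15050 := ded_24_1 (flp_d L167886) L160119 (flp_d L158654) (flp_c L166429) L173393
theorem L173403 : sm ge N14889 = N15622 := rfl
theorem L173405 : sm ga N15622 = N15040 := ded_12_1 (flp_e L167794) (flp_a L166439) L173403
theorem L173407 : sm gi N15622 = N14923 := ded_38_2 (flp_e L166725) (flp_i L166441) L173403
theorem L173409 : sm gi N14891 = N15623 := rfl
theorem L173411 : sm ga N15623 = N14977 := ded_16_1 (flp_i L167258) (flp_a L166457) L173409
theorem L173413 : sm gc N15623 = N15623 := ded_29_1 (flp_i L173409) L166459 L173409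
theorem L173414 : sm gd N15623 = N14892 := ded_34_1 (flp_i L166462) L166455 L173409
theorem L173416 : sm ge N15623 = N15496 := ded_38_1 (flp_i L172164) (flp_e L166460) L173409
theorem L173418 : sm gh N14892 = N15624 := rfl
theorem L173420 : sm ga N15624 = N14979 := ded_15_1 (flp_h L167277) (flp_a L166464) L173418
theorem L173422 : sm gc N15624 = N14894 := ded_28_1 (flp_h L166478) (flp_c L166466) L173418
theorem L173424 : sm ge N15624 = N14893 := ded_37_1 (flp_h L166470) (flp_e L166468) L173418
theorem L173426 : sm gd N14893 = N15625 := rfl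
theorem L173428 : sm ga N15625 = N14980 := ded_11_1 (flp_d L167285) (flp_a L166472) L173426
theorem L173430 : sm gf N15625 = N14903 := ded_31_2 (flp_d L166565) (flp_f L166476) L173426
theorem L173432 : sm gh N15625 = N15499 := ded_33_2 (flp_d L172199) (flp_h L164949) (flp_d L158670) L166470 L173426
theorem L173434 : sm gd N14894 = N15626 := rfl
theorem L173436 : sm ga N15626 = N14996 := ded_11_1 (flp_d L167429) (flp_a L166480) L173434
theorem L173438 : sm gb N15626 = N14950 := ded_18_1 (flp_d L167007) (flp_b L166482) L173434
theorem L173440 : sm gi N15626 = N15301 := ded_34_2 (flp_d L171251) L171253 L173434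
theorem L173442 : sm ge N15626 = N15286 := ded_30_2 (flp_d L169962) (flp_e L165396) L165402 (flp_e L166484) L173434
theorem L173444 : sm gh N15626 = N15626 := ded_33_2 (flp_d L173434) (flp_h L166478) L158680 L166478 L173434
theorem L173445 : sm gi N14895 = N15627 := rfl
theorem L173447 : sm ga N15627 = N15231 := ded_16_1 (flp_i L169544) (flp_a L166488) L173445
theorem L173449 : sm gb N15627 = N14900 := ded_23_1 (flp_i L166535) (flp_b L166490) L173445
theorem L173451 : sm gc N15627 = N15627 := ded_29_1 (flp_i L173445) L166494 L173445
theorem L173452 : sm gd N15627 = N14896 := ded_34_1 (flp_i L166495) L166486 L173445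
theorem L173454 : sm gg N15627 = N14910 := ded_43_1 (flp_i L166628) (flp_g L166492) L173445
theorem L173456 : sm gh N14896 = N15628 := rfl
theorem L173458 : sm ga N15628 = N15232 := ded_15_1 (flp_h L169553) (flp_a L166497) L173456
theorem L173460 : sm gb N15628 = N14902 := ded_22_1 (flp_h L166553) (flp_b L166499) L173456
theorem L173462 : sm gc N15628 = N14951 := ded_28_1 (flp_h L167016) (flp_c L166501) L173456
theorem L173464 : sm ge N15628 = N14897 := ded_37_1 (flp_h L166507) (flp_e L166503) L173456
theorem L173466 : sm gg N15628 = N14912 := ded_42_1 (flp_h L166643) (flp_g L166505) L173456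
theorem L173468 : sm gi N15628 = N15081 := ded_44_2 L168124 L160523 (flp_h L158701) L166495 L173456
theorem L173470 : sm gd N14897 = N15629 := rfl
theorem L173472 : sm ga N15629 = N15233 := ded_11_1 (flp_d L169561) (flp_a L166509) L173470
theorem L173474 : sm gb N15629 = N14903 := ded_18_1 (flp_d L166565) (flp_b L166511) L173470
theorem L173476 : sm gg N15629 = N14913 := ded_32_2 (flp_d L166651) (flp_g L166515) L173470
theorem L173478 : sm gi N14898 = N15630 := rfl
theorem L173480 : sm ga N15630 = N15045 := ded_16_1 (flp_i L167842) (flp_a L166519) L173478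
theorem L173482 : sm gc N15630 = N14930 := ded_29_1 (flp_i L166799) (flp_c L166521) L173478
theorem L173484 : sm gd N15630 = N14901 := ded_34_1 (flp_i L166545) (flp_d L166523) L173478
theorem L173486 : sm gf N15630 = N14900 := ded_41_1 (flp_i L166535) L166517 L173478
theorem L173488 : sm gi N14899 = N15631 := rfl
theorem L173490 : sm ga N15631 = N15046 := ded_16_1 (flp_i L167852) (flp_a L166527) L173488
theorem L173492 : sm gc N15631 = N14931 := ded_29_1 (flp_i L166808) (flp_c L166529) L173488
theorem L173494 : sm gd N15631 = N15209 := ded_34_1 L169352 (flp_d L166533) L173488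
theorem L173496 : sm gg N15631 = N14918 := ded_43_1 (flp_i L166693) (flp_g L166531) L173488
theorem L173498 : sm gh N14900 = N15632 := rfl
theorem L173500 : sm ga N15632 = N15047 := ded_15_1 (flp_h L167860) (flp_a L166537) L173498
theorem L173502 : sm gc N15632 = N14932 := ded_28_1 (flp_h L166817) (flp_c L166539) L173498
theorem L173504 : sm gg N15632 = N14919 := ded_42_1 (flp_h L166699) (flp_g L166543) L173498
theorem L173506 : sm gh N14901 = N15633 := rfl
theorem L173508 : sm ga N15633 = N15049 := ded_15_1 (flp_h L167878) (flp_a L166547) L173506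
theorem L173510 : sm gc N15633 = N14904 := ded_28_1 (flp_h L166571) (flp_c L166549) L173506
theorem L173512 : sm gf N15633 = N14902 := ded_40_1 (flp_h L166553) (flp_f L166551) L173506
theorem L173514 : sm gi N15633 = N15080 := ded_44_2 L168120 L160519 (flp_h L158727) L166545 L173506
theorem L173516 : sm gd N14902 = N15634 := rfl
theorem L173518 : sm ga N15634 = N15050 := ded_11_1 (flp_d L167886) (flp_a L166555) L173516
theorem L173520 : sm gg N15634 = N14922 := ded_32_2 (flp_d L166721) (flp_g L166561) L173516
theorem L173522 : sm gi N15634 = N15077 := ded_34_2 L168108 (flp_i L166563) L173516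
theorem L173524 : sm gc N15634 = N15039 := ded_24_1 (flp_d L167790) L160047 (flp_d L158767) (flp_c L166557) L173516
theorem L173526 : sm ge N14903 = N15635 := rfl
theorem L173528 : sm ga N15635 = N15051 := ded_12_1 (flp_e L167892) (flp_a L166567) L173526
theorem L173530 : sm gg N15635 = N14923 := ded_36_2 (flp_e L166725) (flp_g L166569) L173526
theorem L173532 : sm gh N14905 = N15636 := rfl
theorem L173534 : sm ga N15636 = N14909 := ded_15_1 (flp_h L166623) (flp_a L166585) L173532
theorem L173536 : sm gb N15636 = N15054 := ded_22_1 (flp_h L167914) (flp_b L166587) L173532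
theorem L173538 : sm gc N15636 = N15636 := ded_28_1 (flp_h L173532) L166591 L173532
theorem L173539 : sm ge N15636 = N15441 := ded_37_1 L171584 (flp_e L166592) L173532
theorem L173541 : sm gf N15636 = N15463 := ded_40_1 L171837 L171835 L173532
theorem L173543 : sm gg N15636 = N15230 := ded_42_1 (flp_h L169537) (flp_g L166589) L173532
theorem L173545 : sm gi N14905 = N15637 := rfl
theorem L173547 : sm ga N15637 = N14910 := ded_16_1 (flp_i L166628) (flp_a L166585) L173545
theorem L173549 : sm gb N15637 = N15055 := ded_23_1 (flp_i L167924) (flp_b L166587) L173545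
theorem L173551 : sm gc N15637 = N15637 := ded_29_1 (flp_i L173545) L166591 L173545
theorem L173552 : sm gd N15637 = N14906 := ded_34_1 (flp_i L166594) L166583 L173545
theorem L173554 : sm ge N15637 = N15627 := ded_38_1 (flp_i L173445) (flp_e L166592) L173545
theorem L173556 : sm gg N15637 = N15231 := ded_43_1 (flp_i L169544) (flp_g L166589) L173545
theorem L173558 : sm gh N14906 = N15638 := rfl
theorem L173560 : sm ga N15638 = N14912 := ded_15_1 (flp_h L166643) (flp_a L166596) L173558
theorem L173562 : sm gb N15638 = N15057 := ded_22_1 (flp_h L167944) (flp_b L166598) L173558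
theorem L173564 : sm gc N15638 = N14955 := ded_28_1 (flp_h L167061) (flp_c L166600) L173558
theorem L173566 : sm ge N15638 = N14907 := ded_37_1 (flp_h L166606) (flp_e L166602) L173558
theorem L173568 : sm gg N15638 = N15232 := ded_42_1 (flp_h L169553) (flp_g L166604) L173558
theorem L173570 : sm gd N14907 = N15639 := rfl
theorem L173572 : sm ga N15639 = N14913 := ded_11_1 (flp_d L166651) (flp_a L166608) L173570
theorem L173574 : sm gb N15639 = N15058 := ded_18_1 (flp_d L167954) (flp_b L166610) L173570
theorem L173576 : sm gg N15639 = N15233 := ded_32_2 (flp_d L169561) (flp_g L166614) L173570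
theorem L173578 : sm gh N15639 = N15629 := ded_33_2 (flp_d L173470) (flp_h L166507) (flp_d L158789) L166606 L173570
theorem L173580 : sm ge N14908 = N15640 := rfl
theorem L173582 : sm ga N15640 = N15465 := ded_12_1 L171842 L171828 L173580
theorem L173584 : sm gb N15640 = N14914 := ded_19_1 (flp_e L166655) (flp_b L166618) L173580
theorem L173586 : sm gc N15640 = N15640 := ded_25_1 (flp_e L173580) L166620 L173580
theorem L173587 : sm gd N15640 = N15386 := ded_30_1 L170924 L170834 L163515 (flp_d L166621) L173580
theorem L173589 : sm gf N15640 = N15359 := ded_35_2 L170600 L164548 L162203 L166616 L173580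
theorem L173591 : sm gh N15358 = N15640 := ded_15_0 L173582 (flp_h L171839) (flp_a L170584)
theorem L173593 : sm gh N14908 = N15641 := rfl
theorem L173595 : sm ga N15641 = N15463 := ded_15_1 L171837 L171828 L173593
theorem L173597 : sm gb N15641 = N14916 := ded_22_1 (flp_h L166671) (flp_b L166618) L173593
theorem L173599 : sm gc N15641 = N15641 := ded_28_1 (flp_h L173593) L166620 L173593
theorem L173600 : sm ge N15641 = N15358 := ded_37_1 L173591 (flp_e L173580) L173593
theorem L173602 : sm gf N15641 = N14909 := ded_40_1 (flp_h L166623) L166616 L173593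
theorem L173604 : sm gg N15641 = N15640 := ded_42_1 (flp_h L173591) L170591 L173593
theorem L173606 : sm gd N15641 = N15615 := ded_33_1 (flp_h L173337) L170912 L163573 (flp_d L166621) L173593
theorem L173608 : sm gi N14908 = N15642 := rfl
theorem L173610 : sm gb N15642 = N14917 := ded_23_1 (flp_i L166683) (flp_b L166618) L173608
theorem L173612 : sm gc N15642 = N15642 := ded_29_1 (flp_i L173608) L166620 L173608
theorem L173613 : sm gd N15642 = N14911 := ded_34_1 (flp_i L166635) (flp_d L166621) L173608
theorem L173615 : sm gf N15642 = N14910 := ded_41_1 (flp_i L166628) L166616 L173608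
theorem L173617 : sm gi N14909 = N15643 := rfl
theorem L173619 : sm gb N15643 = N14918 := ded_23_1 (flp_i L166693) (flp_b L166625) L173617
theorem L173621 : sm gc N15643 = N15643 := ded_29_1 (flp_i L173617) L166627 L173617
theorem L173622 : sm gh N14910 = N15644 := rfl
theorem L173624 : sm gb N15644 = N14919 := ded_22_1 (flp_h L166699) (flp_b L166630) L173622
theorem L173626 : sm gc N15644 = N15644 := ded_28_1 (flp_h L173622) L166632 L173622
theorem L173627 : sm gh N14911 = N15645 := rfl
theorem L173629 : sm gb N15645 = N14921 := ded_22_1 (flp_h L166713) (flp_b L166637) L173627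
theorem L173631 : sm gc N15645 = N14957 := ded_28_1 (flp_h L167081) (flp_c L166639) L173627
theorem L173633 : sm gf N15645 = N14912 := ded_40_1 (flp_h L166643) (flp_f L166641) L173627
theorem L173635 : sm gd N14912 = N15646 := rfl
theorem L173637 : sm gb N15646 = N14922 := ded_18_1 (flp_d L166721) (flp_b L166645) L173635
theorem L173639 : sm gc N14913 = N15647 := rfl
theorem L173641 : sm gd N15647 = N14959 := ded_24_2 (flp_c L167094) (flp_d L159295) (flp_c L158816) L166651 L173639
theorem L173643 : sm ge N14913 = N15648 := rfl
theorem L173645 : sm gb N15648 = N14923 := ded_19_1 (flp_e L166725) (flp_b L166653) L173643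
theorem L173647 : sm gi N14914 = N15649 := rfl
theorem L173649 : sm ga N15649 = N15069 := ded_16_1 (flp_i L168056) (flp_a L166657) L173647
theorem L173651 : sm gc N15649 = N14934 := ded_29_1 (flp_i L166840) (flp_c L166659) L173647
theorem L173653 : sm ge N15649 = N14917 := ded_38_1 (flp_i L166683) L166655 L173647
theorem L173655 : sm gi N14915 = N15650 := rfl
theorem L173657 : sm ga N15650 = N15070 := ded_16_1 (flp_i L168062) (flp_a L166663) L173655
theorem L173659 : sm gc N15650 = N14935 := ded_29_1 (flp_i L166849) (flp_c L166665) L173655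
theorem L173661 : sm gd N15650 = N14920 := ded_34_1 (flp_i L166705) (flp_d L166667) L173655
theorem L173663 : sm gg N15650 = N14917 := ded_43_1 (flp_i L166683) L166661 L173655
theorem L173665 : sm gi N14916 = N15651 := rfl
theorem L173667 : sm ga N15651 = N15071 := ded_16_1 (flp_i L168070) (flp_a L166673) L173665
theorem L173669 : sm gc N15651 = N14936 := ded_29_1 (flp_i L166858) (flp_c L166675) L173665
theorem L173671 : sm ge N15651 = N15650 := ded_38_1 (flp_i L173655) (flp_e L166677) L173665
theorem L173673 : sm gf N15651 = N14918 := ded_41_1 (flp_i L166693) (flp_f L166679) L173665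
theorem L173675 : sm gg N15651 = N15649 := ded_43_1 (flp_i L173647) (flp_g L166681) L173665
theorem L173677 : sm gh N14917 = N15652 := rfl
theorem L173679 : sm ga N15652 = N15072 := ded_15_1 (flp_h L168080) (flp_a L166685) L173677
theorem L173681 : sm gc N15652 = N14937 := ded_28_1 (flp_h L166871) (flp_c L166687) L173677
theorem L173683 : sm gf N15652 = N14919 := ded_40_1 (flp_h L166699) (flp_f L166691) L173677
theorem L173685 : sm gh N14918 = N15653 := rfl
theorem L173687 : sm ga N15653 = N15073 := ded_15_1 (flp_h L168086) (flp_a L166695) L173685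
theorem L173689 : sm gc N15653 = N14938 := ded_28_1 (flp_h L166878) (flp_c L166697) L173685
theorem L173691 : sm gi N15653 = N14919 := ded_44_2 (flp_h L166699) (flp_i L158832) L158826 L166693 L173685
theorem L173693 : sm gd N14919 = N15654 := rfl
theorem L173695 : sm ga N15654 = N15074 := ded_11_1 (flp_d L168092) (flp_a L166701) L173693
theorem L173697 : sm gh N15654 = N14922 := ded_33_2 (flp_d L166721) (flp_h L158854) (flp_d L158838) L166699 L173693
theorem L173699 : sm gh N14920 = N15655 := rfl
theorem L173701 : sm ga N15655 = N15075 := ded_15_1 (flp_h L168096) (flp_a L166707) L173699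
theorem L173703 : sm gc N15655 = N14924 := ded_28_1 (flp_h L166729) (flp_c L166709) L173699
theorem L173705 : sm gg N15655 = N14921 := ded_42_1 (flp_h L166713) (flp_g L166711) L173699
theorem L173707 : sm gd N14921 = N15656 := rfl
theorem L173709 : sm ga N15656 = N15076 := ded_11_1 (flp_d L168102) (flp_a L166715) L173707
theorem L173711 : sm gf N15656 = N14922 := ded_31_2 (flp_d L166721) (flp_f L166719) L173707
theorem L173713 : sm gc N14922 = N15657 := rfl
theorem L173715 : sm ga N15657 = N15077 := ded_10_1 (flp_c L168106) (flp_a L166723) L173713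
theorem L173717 : sm gg N15657 = N15039 := ded_27_2 (flp_c L173524) L173520 L173713
theorem L173719 : sm gi N15657 = N15050 := ded_29_2 (flp_c L173401) L173399 L173713
theorem L173721 : sm gd N15657 = N14926 := ded_24_2 (flp_c L166749) (flp_d L158884) (flp_c L158858) L166721 L173713
theorem L173723 : sm gb N15284 = N15657 := ded_23_3 L173719 L167888 (flp_i L169956)
theorem L173725 : sm ge N14922 = N15658 := rfl
theorem L173727 : sm ga N15658 = N15078 := ded_12_1 (flp_e L168110) (flp_a L166723) L173725
theorem L173729 : sm gd N15658 = N14923 := ded_30_1 (flp_e L166725) (flp_d L158862) (flp_e L158860) L166721 L173725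
theorem L173731 : sm gf N14923 = N15659 := rfl
theorem L173733 : sm ga N15659 = N15079 := ded_13_1 (flp_f L168114) (flp_a L166727) L173731
theorem L173735 : sm gc N14925 = N15660 := rfl
theorem L173737 : sm ga N15660 = N15080 := ded_10_1 (flp_c L168116) (flp_a L166739) L173735
theorem L173739 : sm gf N15660 = N14926 := ded_26_2 (flp_c L166749) (flp_f L166743) L173735
theorem L173741 : sm gh N15660 = N14944 := ded_28_2 (flp_c L166945) (flp_h L166747) L173735
theorem L173743 : sm gi N15660 = N15049 := ded_29_2 L167882 (flp_i L166745) L173735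
theorem L173745 : sm gb N15660 = N15283 := ded_17_1 L169948 L162635 L159340 (flp_b L166741) L173735
theorem L173747 : sm gi N14927 = N15661 := rfl
theorem L173749 : sm ga N15661 = N15082 := ded_16_1 (flp_i L168128) (flp_a L166765) L173747
theorem L173751 : sm gb N15661 = N15661 := ded_23_1 (flp_i L173747) L166767 L173747
theorem L173752 : sm gd N15661 = N15661 := ded_34_1 (flp_i L173747) L166768 L173747
theorem L173753 : sm ge N15661 = N14930 := ded_38_1 (flp_i L166799) L166763 L173747
theorem L173755 : sm gg N15661 = N15246 := ded_43_1 (flp_i L169663) L166769 L173747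
theorem L173757 : sm gi N14928 = N15662 := rfl
theorem L173759 : sm ga N15662 = N15083 := ded_16_1 (flp_i L168137) (flp_a L166775) L173757
theorem L173761 : sm gb N15662 = N15662 := ded_23_1 (flp_i L173757) L166777 L173757
theorem L173762 : sm gd N15662 = N14933 := ded_34_1 (flp_i L166826) (flp_d L166778) L173757
theorem L173764 : sm ge N15662 = N15246 := ded_38_1 (flp_i L169663) (flp_e L166780) L173757
theorem L173766 : sm gf N15662 = N14935 := ded_41_1 (flp_i L166849) (flp_f L166782) L173757
theorem L173768 : sm gg N15662 = N14930 := ded_43_1 (flp_i L166799) L166773 L173757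
theorem L173770 : sm gi N14929 = N15663 := rfl
theorem L173772 : sm ga N15663 = N15084 := ded_16_1 (flp_i L168149) (flp_a L166788) L173770
theorem L173774 : sm gb N15663 = N15663 := ded_23_1 (flp_i L173770) L166790 L173770
theorem L173775 : sm gd N15663 = N15191 := ded_34_1 (flp_i L169185) (flp_d L166797) L173770
theorem L173777 : sm ge N15663 = N15245 := ded_38_1 (flp_i L169654) (flp_e L166791) L173770
theorem L173779 : sm gf N15663 = N14931 := ded_41_1 (flp_i L166808) (flp_f L166793) L173770
theorem L173781 : sm gg N15663 = N15244 := ded_43_1 (flp_i L169643) (flp_g L166795) L173770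
theorem L173783 : sm gh N14930 = N15664 := rfl
theorem L173785 : sm ga N15664 = N15085 := ded_15_1 (flp_h L168161) (flp_a L166801) L173783
theorem L173787 : sm gb N15664 = N15664 := ded_22_1 (flp_h L173783) L166803 L173783
theorem L173788 : sm gf N15664 = N14932 := ded_40_1 (flp_h L166817) (flp_f L166806) L173783
theorem L173790 : sm gd N15664 = N15207 := ded_33_1 (flp_h L169340) L161863 (flp_h L158945) (flp_d L166804) L173783
theorem L173792 : sm gh N14931 = N15665 := rfl
theorem L173794 : sm ga N15665 = N15086 := ded_15_1 (flp_h L168167) (flp_a L166810) L173792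
theorem L173796 : sm gb N15665 = N15665 := ded_22_1 (flp_h L173792) L166812 L173792
theorem L173797 : sm gg N15665 = N14938 := ded_42_1 (flp_h L166878) (flp_g L166815) L173792
theorem L173799 : sm gd N15665 = N15208 := ded_33_1 (flp_h L169345) L161870 (flp_h L161654) (flp_d L166813) L173792
theorem L173801 : sm gi N15665 = N14932 := ded_44_2 (flp_h L166817) (flp_i L158914) L158905 L166808 L173792
theorem L173803 : sm gh N14934 = N15666 := rfl
theorem L173805 : sm ga N15666 = N15091 := ded_15_1 (flp_h L168224) (flp_a L166842) L173803
theorem L173807 : sm gb N15666 = N15666 := ded_22_1 (flp_h L173803) L166844 L173803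
theorem L173808 : sm ge N15666 = N14937 := ded_37_1 (flp_h L166871) (flp_e L166847) L173803
theorem L173810 : sm gh N14935 = N15667 := rfl
theorem L173812 : sm ga N15667 = N15092 := ded_15_1 (flp_h L168230) (flp_a L166851) L173810
theorem L173814 : sm gb N15667 = N15667 := ded_22_1 (flp_h L173810) L166853 L173810
theorem L173815 : sm gg N15667 = N14937 := ded_42_1 (flp_h L166871) (flp_g L166856) L173810
theorem L173817 : sm gi N15667 = N15666 := ded_44_2 (flp_h L173803) (flp_i L166840) L158974 L166849 L173810
theorem L173819 : sm gh N14936 = N15668 := rfl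
theorem L173821 : sm ga N15668 = N15093 := ded_15_1 (flp_h L168238) (flp_a L166860) L173819
theorem L173823 : sm gb N15668 = N15668 := ded_22_1 (flp_h L173819) L166862 L173819
theorem L173824 : sm ge N15668 = N15667 := ded_37_1 (flp_h L173810) (flp_e L166865) L173819
theorem L173826 : sm gf N15668 = N14938 := ded_40_1 (flp_h L166878) (flp_f L166867) L173819
theorem L173828 : sm gg N15668 = N15666 := ded_42_1 (flp_h L173803) (flp_g L166869) L173819
theorem L173830 : sm gi N15668 = N14937 := ded_44_2 (flp_h L166871) (flp_i L158989) L158976 L166858 L173819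
theorem L173832 : sm gd N14937 = N15669 := rfl
theorem L173834 : sm ga N15669 = N15094 := ded_11_1 (flp_d L168250) (flp_a L166873) L173832
theorem L173836 : sm gb N15669 = N15669 := ded_18_1 (flp_d L173832) L166875 L173832
theorem L173837 : sm gf N15669 = N14939 := ded_31_2 (flp_d L166885) (flp_f L166876) L173832
theorem L173839 : sm gh N15669 = N14941 := ded_33_2 (flp_d L166909) (flp_h L159021) (flp_d L158994) L166871 L173832
theorem L173841 : sm ge N15591 = N15669 := ded_12_0 L173834 (flp_e L168258) (flp_a L173087)
theorem L173843 : sm gd N14938 = N15670 := rfl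
theorem L173845 : sm ga N15670 = N15095 := ded_11_1 (flp_d L168260) (flp_a L166880) L173843
theorem L173847 : sm gb N15670 = N15670 := ded_18_1 (flp_d L173843) L166882 L173843
theorem L173848 : sm gg N15670 = N15208 := ded_32_2 (flp_d L173799) L173797 L173843
theorem L173850 : sm gi N15670 = N14939 := ded_34_2 (flp_d L166885) (flp_i L166883) L173843
theorem L173852 : sm gh N15670 = N15192 := ded_33_2 (flp_d L169200) (flp_h L161667) (flp_d L159003) L166878 L173843
theorem L173854 : sm gc N14939 = N15671 := rfl
theorem L173856 : sm ga N15671 = N15096 := ded_10_1 (flp_c L168268) (flp_a L166887) L173854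
theorem L173858 : sm gg N15671 = N15036 := ded_27_2 L167774 (flp_g L166890) L173854
theorem L173860 : sm gh N15671 = N14942 := ded_28_2 (flp_c L166920) (flp_h L166892) L173854
theorem L173862 : sm gb N15282 = N15671 := ded_22_3 L173860 (flp_b L166930) L169943
theorem L173864 : sm ge N14939 = N15672 := rfl
theorem L173866 : sm ga N15672 = N15097 := ded_12_1 (flp_e L168272) (flp_a L166887) L173864
theorem L173868 : sm gb N15672 = N15672 := ded_19_1 (flp_e L173864) L166889 L173864
theorem L173869 : sm gg N15672 = N15199 := ded_36_2 L169279 (flp_g L166890) L173864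
theorem L173871 : sm gh N15672 = N14943 := ded_37_2 (flp_e L166932) (flp_h L166892) L173864
theorem L173873 : sm gf N15672 = N15595 := ded_35_2 L173132 (flp_f L173090) L173841 L173837 L173864
theorem L173875 : sm gd N14940 = N15673 := rfl
theorem L173877 : sm ga N15673 = N15098 := ded_11_1 (flp_d L168280) (flp_a L166896) L173875
theorem L173879 : sm gb N15673 = N15673 := ded_18_1 (flp_d L173875) L166898 L173875
theorem L173880 : sm gf N15673 = N15205 := ded_31_2 L169323 (flp_f L166903) L173875
theorem L173882 : sm gg N15673 = N14941 := ded_32_2 (flp_d L166909) (flp_g L166905) L173875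
theorem L173884 : sm gi N15673 = N14989 := ded_34_2 L167368 (flp_i L166907) L173875
theorem L173886 : sm ge N15673 = N14991 := ded_30_2 L167384 L161743 L159773 (flp_e L166901) L173875
theorem L173888 : sm gc N14941 = N15674 := rfl
theorem L173890 : sm ga N15674 = N15099 := ded_10_1 (flp_c L168290) (flp_a L166911) L173888
theorem L173892 : sm ge N15674 = N15590 := ded_25_2 L173079 (flp_e L166918) L173888
theorem L173894 : sm gf N15674 = N14942 := ded_26_2 (flp_c L166920) (flp_f L166914) L173888
theorem L173896 : sm gi N15674 = N15019 := ded_29_2 L167622 (flp_i L166916) L173888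
theorem L173898 : sm gd N15674 = N14944 := ded_24_2 (flp_c L166945) (flp_d L159068) (flp_c L159026) L166909 L173888
theorem L173900 : sm gb N15280 = N15674 := ded_9_0 L173890 L168298 L167178 (flp_b L171995) L171993
theorem L173902 : sm ge N14942 = N15675 := rfl
theorem L173904 : sm ga N15675 = N15101 := ded_12_1 (flp_e L168312) (flp_a L166922) L173902
theorem L173906 : sm gb N15675 = N15270 := ded_19_1 L169847 L166930 L173902
theorem L173908 : sm gc N15675 = N14943 := ded_25_1 (flp_e L166932) L166920 L173902
theorem L173910 : sm gg N15675 = N15011 := ded_36_2 L167568 (flp_g L166924) L173902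
theorem L173912 : sm gi N15675 = N14999 := ded_38_2 L167461 (flp_i L166926) L173902
theorem L173914 : sm gd N15675 = N15000 := ded_30_1 L167469 L159842 (flp_e L159082) (flp_d L166928) L173902
theorem L173916 : sm gf N15675 = N15593 := ded_35_2 L173115 (flp_f L173083) (flp_e L173892) L173894 L173902
theorem L173918 : sm gd N14945 = N15676 := rfl
theorem L173920 : sm ga N15676 = N15256 := ded_11_1 (flp_d L169747) (flp_a L166957) L173918
theorem L173922 : sm gb N15676 = N14946 := ded_18_1 (flp_d L166967) (flp_b L166959) L173918
theorem L173924 : sm gg N15676 = N14949 := ded_32_2 (flp_d L167000) (flp_g L166963) L173918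
theorem L173926 : sm gi N15676 = N14952 := ded_34_2 (flp_d L167028) (flp_i L166965) L173918
theorem L173928 : sm gh N15676 = N15676 := ded_33_2 (flp_d L173918) (flp_h L166955) L159135 L166955 L173918
theorem L173929 : sm gd N14947 = N15677 := rfl
theorem L173931 : sm ga N15677 = N14949 := ded_11_1 (flp_d L167000) (flp_a L166980) L173929
theorem L173933 : sm gb N15677 = N14966 := ded_18_1 (flp_d L167148) (flp_b L166982) L173929
theorem L173935 : sm gg N15677 = N15256 := ded_32_2 (flp_d L169747) (flp_g L166984) L173929
theorem L173937 : sm gi N15677 = N14956 := ded_34_2 (flp_d L167071) (flp_i L166986) L173929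
theorem L173939 : sm gh N15677 = N15677 := ded_33_2 (flp_d L173929) (flp_h L166978) L159158 L166978 L173929
theorem L173940 : sm gc N14949 = N15678 := rfl
theorem L173942 : sm gh N15678 = N15678 := ded_28_2 (flp_c L173940) L167006 L173940
theorem L173943 : sm gi N15678 = N14959 := ded_29_2 (flp_c L167094) (flp_i L167004) L173940
theorem L173945 : sm gd N14951 = N15679 := rfl
theorem L173947 : sm ga N15679 = N15259 := ded_11_1 (flp_d L169768) (flp_a L167018) L173945
theorem L173949 : sm gb N15679 = N14953 := ded_18_1 (flp_d L167038) (flp_b L167020) L173945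
theorem L173951 : sm gg N15679 = N14958 := ded_32_2 (flp_d L167087) (flp_g L167024) L173945
theorem L173953 : sm gi N15679 = N15113 := ded_34_2 L168422 (flp_i L167026) L173945
theorem L173955 : sm gh N15679 = N15679 := ded_33_2 (flp_d L173945) (flp_h L167016) L159220 L167016 L173945
theorem L173956 : sm gc N14952 = N15680 := rfl
theorem L173958 : sm ga N15680 = N15260 := ded_10_1 (flp_c L169773) (flp_a L167030) L173956
theorem L173960 : sm gg N15680 = N14959 := ded_27_2 (flp_c L167094) (flp_g L167034) L173956
theorem L173962 : sm gh N15680 = N14962 := ded_28_2 (flp_c L167115) (flp_h L167036) L173956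
theorem L173964 : sm ge N14952 = N15681 := rfl
theorem L173966 : sm ga N15681 = N15261 := ded_12_1 (flp_e L169777) (flp_a L167030) L173964
theorem L173968 : sm gb N15681 = N14954 := ded_19_1 (flp_e L167049) (flp_b L167032) L173964
theorem L173970 : sm gg N15681 = N14960 := ded_36_2 (flp_e L167098) (flp_g L167034) L173964
theorem L173972 : sm gh N15681 = N14963 := ded_37_2 (flp_e L167122) (flp_h L167036) L173964
theorem L173974 : sm gf N15681 = N15265 := ded_35_2 (flp_e L171382) L171384 (flp_e L173026) L173022 L173964
theorem L173976 : sm gd N14955 = N15682 := rfl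
theorem L173978 : sm ga N15682 = N14958 := ded_11_1 (flp_d L167087) (flp_a L167063) L173976
theorem L173980 : sm gb N15682 = N14967 := ded_18_1 (flp_d L167157) (flp_b L167065) L173976
theorem L173982 : sm gg N15682 = N15259 := ded_32_2 (flp_d L169768) (flp_g L167069) L173976
theorem L173984 : sm gi N15682 = N15322 := ded_34_2 (flp_d L172114) L172116 L173976
theorem L173986 : sm gh N15682 = N15682 := ded_33_2 (flp_d L173976) (flp_h L167061) L159269 L167061 L173976
theorem L173987 : sm gc N14956 = N15683 := rfl
theorem L173989 : sm ga N15683 = N14959 := ded_10_1 (flp_c L167094) (flp_a L167073) L173987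
theorem L173991 : sm gg N15683 = N15260 := ded_27_2 (flp_c L169773) (flp_g L167077) L173987
theorem L173993 : sm gh N15683 = N14964 := ded_28_2 (flp_c L167134) (flp_h L167079) L173987
theorem L173995 : sm gd N14957 = N15684 := rfl
theorem L173997 : sm gb N15684 = N14961 := ded_18_1 (flp_d L167104) (flp_b L167083) L173995
theorem L173999 : sm gf N15684 = N14958 := ded_31_2 (flp_d L167087) (flp_f L167085) L173995
theorem L174001 : sm gi N15684 = N15321 := ded_34_2 (flp_d L171000) L171002 L173995
theorem L174003 : sm gh N15684 = N15684 := ded_33_2 (flp_d L173995) (flp_h L167081) L159286 L167081 L173995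
theorem L174004 : sm gc N14958 = N15685 := rfl
theorem L174006 : sm gh N15685 = N15685 := ded_28_2 (flp_c L174004) L167093 L174004
theorem L174007 : sm gi N15685 = N15302 := ded_29_2 L170062 (flp_i L167091) L174004
theorem L174009 : sm gb N15685 = N15287 := ded_17_1 (flp_c L169971) L162643 (flp_c L159315) (flp_b L167089) L174004
theorem L174011 : sm ge N14959 = N15686 := rfl
theorem L174013 : sm gc N15686 = N14960 := ded_25_1 (flp_e L167098) L167094 L174011
theorem L174015 : sm gh N15686 = N14965 := ded_37_2 (flp_e L167143) (flp_h L167096) L174011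
theorem L174017 : sm ge N14962 = N15687 := rfl
theorem L174019 : sm ga N15687 = N15267 := ded_12_1 (flp_e L169817) (flp_a L167117) L174017
theorem L174021 : sm gb N15687 = N15254 := ded_19_1 (flp_e L173042) L173047 L174017
theorem L174023 : sm gc N15687 = N14963 := ded_25_1 (flp_e L167122) L167115 L174017
theorem L174025 : sm gg N15687 = N14965 := ded_36_2 (flp_e L167143) (flp_g L167119) L174017
theorem L174027 : sm gi N15687 = N15687 := ded_38_2 (flp_e L174017) L167121 L174017
theorem L174028 : sm gf N15687 = N15255 := ded_35_2 (flp_e L171102) L171104 (flp_e L173055) L173057 L174017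
theorem L174030 : sm gd N14965 = N15688 := rfl
theorem L174032 : sm gi N15688 = N15688 := ded_34_2 (flp_d L174030) L167147 L174030
theorem L174033 : sm gc N15688 = N15688 := ded_24_1 (flp_d L174030) L167145 L159380 (flp_c L167145) L174030
theorem L174034 : sm gh N14968 = N15689 := rfl
theorem L174036 : sm gb N15689 = N14970 := ded_22_1 (flp_h L167188) (flp_b L167168) L174034
theorem L174038 : sm gc N15689 = N14998 := ded_28_1 (flp_h L167441) (flp_c L167170) L174034
theorem L174040 : sm gf N15689 = N15001 := ded_40_1 (flp_h L167473) (flp_f L167174) L174034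
theorem L174042 : sm gi N15689 = N15440 := ded_44_2 (flp_h L171567) (flp_i L164443) (flp_h L159485) L167166 L174034
theorem L174044 : sm gh N14969 = N15690 := rfl
theorem L174046 : sm ga N15690 = N15486 := ded_15_1 (flp_h L172058) (flp_a L167178) L174044
theorem L174048 : sm gc N15690 = N14971 := ded_28_1 (flp_h L167196) (flp_c L167180) L174044
theorem L174050 : sm ge N15690 = N14970 := ded_37_1 (flp_h L167188) (flp_e L167184) L174044
theorem L174052 : sm gg N15690 = N15389 := ded_42_1 (flp_h L170948) (flp_g L167186) L174044
theorem L174054 : sm gi N15690 = N15445 := ded_44_2 (flp_h L171617) (flp_i L164468) (flp_h L159497) L167176 L174044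
theorem L174056 : sm gd N14970 = N15691 := rfl
theorem L174058 : sm gf N15691 = N15274 := ded_31_2 (flp_d L169879) (flp_f L167192) L174056
theorem L174060 : sm gi N15691 = N15446 := ded_34_2 (flp_d L171623) (flp_i L167194) L174056
theorem L174062 : sm gc N15691 = N15015 := ded_24_1 (flp_d L167592) L159910 (flp_d L159527) (flp_c L167190) L174056
theorem L174064 : sm gh N15691 = N14973 := ded_33_2 (flp_d L167218) (flp_h L159539) (flp_d L159505) L167188 L174056
theorem L174066 : sm gd N14971 = N15692 := rfl
theorem L174068 : sm ga N15692 = N15525 := ded_11_1 (flp_d L172385) (flp_a L167198) L174066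
theorem L174070 : sm gb N15692 = N15119 := ded_18_1 (flp_d L168482) (flp_b L167200) L174066
theorem L174072 : sm gg N15692 = N15402 := ded_32_2 (flp_d L171076) (flp_g L167204) L174066
theorem L174074 : sm gi N15692 = N15449 := ded_34_2 (flp_d L171650) (flp_i L167206) L174066
theorem L174076 : sm ge N15692 = N15018 := ded_30_2 (flp_d L167610) L159930 (flp_d L159527) (flp_e L167202) L174066
theorem L174078 : sm gh N15692 = N15193 := ded_33_2 (flp_d L169209) (flp_h L161721) (flp_d L159515) L167196 L174066
theorem L174080 : sm gd N14972 = N15693 := rfl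
theorem L174082 : sm gb N15693 = N14973 := ded_18_1 (flp_d L167218) (flp_b L167210) L174080
theorem L174084 : sm gf N15693 = N15021 := ded_31_2 (flp_d L167640) (flp_f L167214) L174080
theorem L174086 : sm gi N15693 = N14980 := ded_34_2 (flp_d L167285) (flp_i L167216) L174080
theorem L174088 : sm ge N14973 = N15694 := rfl
theorem L174090 : sm gc N15694 = N15040 := ded_25_1 (flp_e L167794) (flp_c L167224) L174088
theorem L174092 : sm gi N15694 = N14988 := ded_38_2 (flp_e L167351) (flp_i L167222) L174088
theorem L174094 : sm ge N14974 = N15695 := rfl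
theorem L174096 : sm gc N15695 = N15051 := ded_25_1 (flp_e L167892) (flp_c L167230) L174094
theorem L174098 : sm gg N15695 = N14988 := ded_36_2 (flp_e L167351) (flp_g L167228) L174094
theorem L174100 : sm gh N15695 = N15490 := ded_37_2 (flp_e L172096) (flp_h L167232) L174094
theorem L174102 : sm gi N14975 = N15696 := rfl
theorem L174104 : sm gb N15696 = N14983 := ded_23_1 (flp_i L167315) (flp_b L167236) L174102
theorem L174106 : sm gc N15696 = N15696 := ded_29_1 (flp_i L174102) L167238 L174102
theorem L174107 : sm gd N15696 = N14978 := ded_34_1 (flp_i L167267) (flp_d L167239) L174102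
theorem L174109 : sm gf N15696 = N14977 := ded_41_1 (flp_i L167258) L167234 L174102
theorem L174111 : sm gi N14976 = N15697 := rfl
theorem L174113 : sm ga N15697 = N15696 := ded_16_1 (flp_i L174102) (flp_a L167245) L174111
theorem L174115 : sm gb N15697 = N14984 := ded_23_1 (flp_i L167323) (flp_b L167247) L174111
theorem L174117 : sm gc N15697 = N15697 := ded_29_1 (flp_i L174111) L167249 L174111
theorem L174118 : sm gd N15697 = N15349 := ded_34_1 (flp_i L170461) (flp_d L167256) L174111
theorem L174120 : sm ge N15697 = N15504 := ded_38_1 (flp_i L172247) (flp_e L167250) L174111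
theorem L174122 : sm gf N15697 = N15623 := ded_41_1 (flp_i L173409) (flp_f L167252) L174111
theorem L174124 : sm gg N15697 = N15340 := ded_43_1 (flp_i L170354) (flp_g L167254) L174111
theorem L174126 : sm gh N14977 = N15698 := rfl
theorem L174128 : sm gb N15698 = N14985 := ded_22_1 (flp_h L167335) (flp_b L167260) L174126
theorem L174130 : sm gc N15698 = N15698 := ded_28_1 (flp_h L174126) L167262 L174126
theorem L174131 : sm ge N15698 = N15505 := ded_37_1 (flp_h L172252) (flp_e L167265) L174126
theorem L174133 : sm gh N14978 = N15699 := rfl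
theorem L174135 : sm gb N15699 = N14986 := ded_22_1 (flp_h L167341) (flp_b L167269) L174133
theorem L174137 : sm gc N15699 = N14995 := ded_28_1 (flp_h L167421) (flp_c L167271) L174133
theorem L174139 : sm ge N15699 = N15049 := ded_37_1 (flp_h L167878) (flp_e L167273) L174133
theorem L174141 : sm gf N15699 = N14979 := ded_40_1 (flp_h L167277) (flp_f L167275) L174133
theorem L174143 : sm gd N14979 = N15700 := rfl
theorem L174145 : sm gb N15700 = N14987 := ded_18_1 (flp_d L167349) (flp_b L167279) L174143
theorem L174147 : sm ge N14980 = N15701 := rfl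
theorem L174149 : sm gb N15701 = N14988 := ded_19_1 (flp_e L167351) (flp_b L167287) L174147
theorem L174151 : sm gh N15701 = N15509 := ded_37_2 (flp_e L172285) (flp_h L167291) L174147
theorem L174153 : sm gi N14981 = N15702 := rfl
theorem L174155 : sm gc N15702 = N14990 := ded_29_1 (flp_i L167370) (flp_c L167295) L174153
theorem L174157 : sm gd N15702 = N15288 := ded_34_1 (flp_i L169976) (flp_d L167297) L174153
theorem L174159 : sm ge N15702 = N14983 := ded_38_1 (flp_i L167315) L167293 L174153
theorem L174161 : sm gf N15702 = N15510 := ded_41_1 (flp_i L172289) (flp_f L167299) L174153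
theorem L174163 : sm gi N14982 = N15703 := rfl
theorem L174165 : sm ga N15703 = N15432 := ded_16_1 (flp_i L171469) (flp_a L167303) L174163
theorem L174167 : sm gb N15703 = N15623 := ded_23_1 (flp_i L173409) (flp_b L167305) L174163
theorem L174169 : sm gc N15703 = N14991 := ded_29_1 (flp_i L167379) (flp_c L167307) L174163
theorem L174171 : sm gd N15703 = N15347 := ded_34_1 (flp_i L170431) (flp_d L167313) L174163
theorem L174173 : sm gf N15703 = N14984 := ded_41_1 (flp_i L167323) (flp_f L167309) L174163
theorem L174175 : sm gg N15703 = N15590 := ded_43_1 (flp_i L173075) (flp_g L167311) L174163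
theorem L174177 : sm gh N14983 = N15704 := rfl
theorem L174179 : sm gc N15704 = N14992 := ded_28_1 (flp_h L167390) (flp_c L167317) L174177
theorem L174181 : sm gf N15704 = N14985 := ded_40_1 (flp_h L167335) (flp_f L167321) L174177
theorem L174183 : sm gh N14984 = N15705 := rfl
theorem L174185 : sm ga N15705 = N15435 := ded_15_1 (flp_h L171507) (flp_a L167325) L174183
theorem L174187 : sm gc N15705 = N14993 := ded_28_1 (flp_h L167395) (flp_c L167327) L174183
theorem L174189 : sm ge N15705 = N15514 := ded_37_1 (flp_h L172317) (flp_e L167331) L174183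
theorem L174191 : sm gg N15705 = N15344 := ded_42_1 (flp_h L170402) (flp_g L167333) L174183
theorem L174193 : sm gi N15705 = N14985 := ded_44_2 (flp_h L167335) (flp_i L159602) L159590 L167323 L174183
theorem L174195 : sm gd N14985 = N15706 := rfl
theorem L174197 : sm gh N15706 = N14987 := ded_33_2 (flp_d L167349) (flp_h L159618) (flp_d L159606) L167335 L174195
theorem L174199 : sm gd N14986 = N15707 := rfl
theorem L174201 : sm gf N15707 = N14987 := ded_31_2 (flp_d L167349) (flp_f L167347) L174199
theorem L174203 : sm ge N14987 = N15708 := rfl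
theorem L174205 : sm gd N15708 = N14988 := ded_30_1 (flp_e L167351) (flp_d L159624) (flp_e L159622) L167349 L174203
theorem L174207 : sm gf N14988 = N15709 := rfl
theorem L174209 : sm gc N15709 = N15079 := ded_26_1 (flp_f L168114) (flp_c L167353) L174207
theorem L174211 : sm gh N15709 = N15520 := ded_40_2 (flp_f L172347) (flp_h L167355) L174207
theorem L174213 : sm ge N15709 = N15298 := ded_35_1 (flp_f L170034) (flp_e L162700) (flp_f L159626) L167351 L174207
theorem L174215 : sm gh N14990 = N15710 := rfl
theorem L174217 : sm gb N15710 = N15710 := ded_22_1 (flp_h L174215) L167372 L174215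
theorem L174218 : sm ge N15710 = N14992 := ded_37_1 (flp_h L167390) (flp_e L167375) L174215
theorem L174220 : sm gf N15710 = N15531 := ded_40_1 (flp_h L172439) (flp_f L167377) L174215
theorem L174222 : sm gd N15710 = N15666 := ded_33_1 (flp_h L173803) L166845 (flp_h L159735) (flp_d L167373) L174215
theorem L174224 : sm gh N14991 = N15711 := rfl
theorem L174226 : sm ga N15711 = N15433 := ded_15_1 (flp_h L171483) (flp_a L167381) L174224
theorem L174228 : sm gb N15711 = N15711 := ded_22_1 (flp_h L174224) L167383 L174224
theorem L174229 : sm gf N15711 = N14993 := ded_40_1 (flp_h L167395) (flp_f L167386) L174224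
theorem L174231 : sm gg N15711 = N15591 := ded_42_1 (flp_h L173085) (flp_g L167388) L174224
theorem L174233 : sm gd N15711 = N15570 := ded_33_1 (flp_h L172846) L165879 (flp_h L161749) (flp_d L167384) L174224
theorem L174235 : sm gi N15711 = N14992 := ded_44_2 (flp_h L167390) (flp_i L159658) L159647 L167379 L174224
theorem L174237 : sm gd N14995 = N15712 := rfl
theorem L174239 : sm gb N15712 = N14997 := ded_18_1 (flp_d L167434) (flp_b L167423) L174237
theorem L174241 : sm gf N15712 = N14996 := ded_31_2 (flp_d L167429) (flp_f L167427) L174237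
theorem L174243 : sm gh N15712 = N15712 := ded_33_2 (flp_d L174237) (flp_h L167421) L159789 L167421 L174237
theorem L174244 : sm gc N14996 = N15713 := rfl
theorem L174246 : sm gh N15713 = N15713 := ded_28_2 (flp_c L174244) L167433 L174244
theorem L174247 : sm gh N14999 = N15714 := rfl
theorem L174249 : sm ga N15714 = N15006 := ded_15_1 L167524 (flp_a L167451) L174247
theorem L174251 : sm gb N15714 = N15269 := ded_22_1 (flp_h L169835) (flp_b L167453) L174247
theorem L174253 : sm gc N15714 = N15121 := ded_28_1 L168506 (flp_c L167459) L174247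
theorem L174255 : sm ge N15714 = N15020 := ded_37_1 (flp_h L167628) (flp_e L167461) L174247
theorem L174257 : sm gf N15714 = N15003 := ded_40_1 L167497 (flp_f L167455) L174247
theorem L174259 : sm gg N15714 = N15010 := ded_42_1 (flp_h L167556) (flp_g L167457) L174247
theorem L174261 : sm gh N15000 = N15715 := rfl
theorem L174263 : sm gb N15715 = N15273 := ded_22_1 (flp_h L169871) (flp_b L167465) L174261
theorem L174265 : sm gc N15715 = N15002 := ded_28_1 (flp_h L167481) (flp_c L167467) L174261
theorem L174267 : sm ge N15715 = N15001 := ded_37_1 (flp_h L167473) (flp_e L167469) L174261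
theorem L174269 : sm gg N15715 = N15014 := ded_42_1 (flp_h L167586) (flp_g L167471) L174261
theorem L174271 : sm gd N15001 = N15716 := rfl
theorem L174273 : sm gb N15716 = N15274 := ded_18_1 (flp_d L169879) (flp_b L167475) L174271
theorem L174275 : sm gg N15716 = N15015 := ded_32_2 (flp_d L167592) (flp_g L167479) L174271
theorem L174277 : sm gh N15716 = N15021 := ded_33_2 (flp_d L167640) (flp_h L159952) (flp_d L159842) L167473 L174271
theorem L174279 : sm gd N15002 = N15717 := rfl
theorem L174281 : sm ga N15717 = N15537 := ded_11_1 (flp_d L173136) L173129 L174279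
theorem L174283 : sm gb N15717 = N15120 := ded_18_1 (flp_d L168491) (flp_b L167483) L174279
theorem L174285 : sm gf N15717 = N15309 := ded_31_2 L170111 L168278 L174279
theorem L174287 : sm gg N15717 = N15018 := ded_32_2 (flp_d L167610) (flp_g L167487) L174279
theorem L174289 : sm ge N15717 = N15402 := ded_30_2 (flp_d L171076) (flp_e L166068) L166072 (flp_e L167485) L174279
theorem L174291 : sm gh N15717 = N15194 := ded_33_2 (flp_d L169222) (flp_h L161751) (flp_d L159850) L167481 L174279
theorem L174293 : sm gd N15003 = N15718 := rfl
theorem L174295 : sm ga N15718 = N15005 := ded_11_1 (flp_d L167509) (flp_a L167491) L174293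
theorem L174297 : sm gg N15718 = N15218 := ded_32_2 (flp_d L169432) (flp_g L167495) L174293
theorem L174299 : sm gc N15718 = N15718 := ded_24_1 (flp_d L174293) L167493 L160837 (flp_c L167493) L174293
theorem L174300 : sm ge N15718 = N15022 := ded_30_2 (flp_d L167648) (flp_e L159962) (flp_d L159866) L167489 L174293
theorem L174302 : sm gi N15003 = N15719 := rfl
theorem L174304 : sm ga N15719 = N15007 := ded_16_1 (flp_i L167528) (flp_a L167491) L174302
theorem L174306 : sm gc N15719 = N15122 := ded_29_1 (flp_i L168512) (flp_c L167493) L174302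
theorem L174308 : sm ge N15719 = N15004 := ded_38_1 (flp_i L167499) L167489 L174302
theorem L174310 : sm gg N15719 = N15220 := ded_43_1 (flp_i L169455) (flp_g L167495) L174302
theorem L174312 : sm gh N15004 = N15720 := rfl
theorem L174314 : sm ga N15720 = N15008 := ded_15_1 (flp_h L167538) (flp_a L167501) L174312
theorem L174316 : sm gc N15720 = N15123 := ded_28_1 (flp_h L168522) (flp_c L167503) L174312
theorem L174318 : sm gg N15720 = N15221 := ded_42_1 (flp_h L169463) (flp_g L167507) L174312
theorem L174320 : sm gi N15720 = N15594 := ded_44_2 (flp_h L173119) (flp_i L166210) (flp_h L159870) L167499 L174312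
theorem L174322 : sm gf N15005 = N15721 := rfl
theorem L174324 : sm gb N15721 = N15009 := ded_20_1 (flp_f L167548) (flp_b L167511) L174322
theorem L174326 : sm gc N15721 = N15721 := ded_26_1 (flp_f L174322) L167515 L174322
theorem L174327 : sm gd N15721 = N15006 := ded_31_1 (flp_f L167518) L167509 L174322
theorem L174329 : sm gg N15721 = N15598 := ded_39_2 (flp_f L173162) L169831 (flp_f L169822) (flp_g L167513) L174322
theorem L174331 : sm gh N15718 = N15721 := ded_46_0 (flp_f L174322) L167516 (flp_d L159980) L151460 L142833 L133591 L125682 L125753 (flp_e L130744) L130743 L130741 (flp_b L129780) (flp_a L138014) (flp_h L147067) (flp_f L147060) (flp_e L137920) (flp_d L129460) L122135 (flp_b L129303) L129301 (flp_h L122574) L65015 L49565 (flp_d L39151) L28670 L28668 L21050 L21133 L21139 L21137 L21147 L21151 L15847 (flp_a L21508) (flp_h L27399) L27397 L27410 L27417 (flp_c L36391) (flp_b L49609) (flp_a L66859) L66864 L72094 (flp_e L126871) (flp_d L134987) (flp_c L144130) L144128 L135945 L144964 L144970 L135956 L135960 L135966 L144074 L144066 L135431 L135430 L144511 L153485 (flp_c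 L159894) (flp_b L167511) (flp_a L174295)
theorem L174333 : sm gh N15005 = N15722 := rfl
theorem L174335 : sm ga N15722 = N15721 := ded_15_1 (flp_h L174331) L174295 L174333
theorem L174337 : sm gb N15722 = N15010 := ded_22_1 (flp_h L167556) (flp_b L167511) L174333
theorem L174339 : sm gc N15722 = N15722 := ded_28_1 (flp_h L174333) L167515 L174333
theorem L174340 : sm ge N15722 = N15026 := ded_37_1 (flp_h L167682) (flp_e L167516) L174333
theorem L174342 : sm gf N15722 = N15718 := ded_40_1 L174331 (flp_f L174322) L174333
theorem L174344 : sm gg N15722 = N15269 := ded_42_1 (flp_h L169835) (flp_g L167513) L174333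
theorem L174346 : sm gd N15722 = N15714 := ded_33_1 (flp_h L174247) (flp_d L167449) (flp_h L159880) L167509 L174333
theorem L174348 : sm gi N15005 = N15723 := rfl
theorem L174350 : sm gb N15723 = N15011 := ded_23_1 (flp_i L167562) (flp_b L167511) L174348
theorem L174352 : sm gc N15723 = N15723 := ded_29_1 (flp_i L174348) L167515 L174348
theorem L174353 : sm gd N15723 = N15007 := ded_34_1 (flp_i L167528) L167509 L174348
theorem L174355 : sm ge N15723 = N15027 := ded_38_1 (flp_i L167691) (flp_e L167516) L174348
theorem L174357 : sm gg N15723 = N15270 := ded_43_1 (flp_i L169842) (flp_g L167513) L174348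
theorem L174359 : sm gi N15006 = N15724 := rfl
theorem L174361 : sm gb N15724 = N15013 := ded_23_1 (flp_i L167580) (flp_b L167520) L174359
theorem L174363 : sm gc N15724 = N15125 := ded_29_1 (flp_i L168546) (flp_c L167522) L174359
theorem L174365 : sm ge N15724 = N15209 := ded_38_1 L169352 (flp_e L167526) L174359
theorem L174367 : sm gf N15724 = N15007 := ded_41_1 (flp_i L167528) L167518 L174359
theorem L174369 : sm gh N15007 = N15725 := rfl
theorem L174371 : sm gb N15725 = N15014 := ded_22_1 (flp_h L167586) (flp_b L167530) L174369
theorem L174373 : sm gc N15725 = N15126 := ded_28_1 (flp_h L168555) (flp_c L167532) L174369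
theorem L174375 : sm ge N15725 = N15008 := ded_37_1 (flp_h L167538) (flp_e L167534) L174369
theorem L174377 : sm gg N15725 = N15273 := ded_42_1 (flp_h L169871) (flp_g L167536) L174369
theorem L174379 : sm gi N15725 = N15715 := ded_44_2 (flp_h L174261) (flp_i L167463) (flp_h L159880) L167528 L174369
theorem L174381 : sm gd N15008 = N15726 := rfl
theorem L174383 : sm gb N15726 = N15015 := ded_18_1 (flp_d L167592) (flp_b L167540) L174381
theorem L174385 : sm gg N15726 = N15274 := ded_32_2 (flp_d L169879) (flp_g L167544) L174381
theorem L174387 : sm gi N15726 = N15716 := ded_34_2 (flp_d L174271) (flp_i L167546) L174381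
theorem L174389 : sm gh N15726 = N15030 := ded_33_2 (flp_d L167720) (flp_h L160005) (flp_d L159888) L167538 L174381
theorem L174391 : sm ge N15009 = N15727 := rfl
theorem L174393 : sm ga N15727 = N15443 := ded_12_1 L171603 L167572 L174391
theorem L174395 : sm gc N15727 = N15195 := ded_25_1 (flp_e L169235) (flp_c L167550) L174391
theorem L174397 : sm gg N15727 = N15342 := ded_36_2 L170390 (flp_g L167554) L174391
theorem L174399 : sm gd N15727 = N15636 := ded_30_1 L173539 L171582 L164466 (flp_d L167552) L174391
theorem L174401 : sm gf N15727 = N15031 := ded_35_2 (flp_e L167728) (flp_f L160015) (flp_e L159896) L167548 L174391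
theorem L174403 : sm gh N15484 = N15727 := ded_15_0 L174393 L171605 (flp_a L172036)
theorem L174405 : sm gh N15009 = N15728 := rfl
theorem L174407 : sm ga N15728 = N15271 := ded_15_1 L169859 L167572 L174405
theorem L174409 : sm gb N15728 = N15718 := ded_22_1 L174331 L174324 L174405
theorem L174411 : sm gc N15728 = N15196 := ded_28_1 (flp_h L169247) (flp_c L167550) L174405
theorem L174413 : sm ge N15728 = N15484 := ded_37_1 L174403 (flp_e L174391) L174405
theorem L174415 : sm gf N15728 = N15010 := ded_40_1 (flp_h L167556) L167548 L174405
theorem L174417 : sm gg N15728 = N15219 := ded_42_1 L169451 (flp_g L167554) L174405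
theorem L174419 : sm gd N15728 = N15596 := ded_33_1 L173147 L169829 L162558 (flp_d L167552) L174405
theorem L174421 : sm gi N15009 = N15729 := rfl
theorem L174423 : sm gc N15729 = N15197 := ded_29_1 (flp_i L169259) (flp_c L167550) L174421
theorem L174425 : sm gd N15729 = N15013 := ded_34_1 (flp_i L167580) (flp_d L167552) L174421
theorem L174427 : sm gf N15729 = N15011 := ded_41_1 (flp_i L167562) L167548 L174421
theorem L174429 : sm gg N15729 = N15603 := ded_43_1 (flp_i L173213) (flp_g L167554) L174421
theorem L174431 : sm gi N15010 = N15730 := rfl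
theorem L174433 : sm gc N15730 = N15198 := ded_29_1 (flp_i L169270) (flp_c L167558) L174431
theorem L174435 : sm ge N15730 = N15035 := ded_38_1 (flp_i L167766) (flp_e L167560) L174431
theorem L174437 : sm gh N15011 = N15731 := rfl
theorem L174439 : sm gc N15731 = N15199 := ded_28_1 (flp_h L169276) (flp_c L167564) L174437
theorem L174441 : sm ge N15731 = N15036 := ded_37_1 (flp_h L167772) (flp_e L167568) L174437
theorem L174443 : sm gi N15012 = N15732 := rfl
theorem L174445 : sm ga N15732 = N15729 := ded_16_1 (flp_i L174421) (flp_a L167572) L174443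
theorem L174447 : sm gc N15732 = N15016 := ded_29_1 (flp_i L167596) (flp_c L167574) L174443
theorem L174449 : sm gd N15732 = N15603 := ded_34_1 (flp_i L173213) (flp_d L167576) L174443
theorem L174451 : sm gf N15732 = N15602 := ded_41_1 (flp_i L173201) (flp_f L167578) L174443
theorem L174453 : sm gg N15732 = N15013 := ded_43_1 (flp_i L167580) L167570 L174443
theorem L174455 : sm gh N15013 = N15733 := rfl
theorem L174457 : sm gc N15733 = N15017 := ded_28_1 (flp_h L167604) (flp_c L167582) L174455
theorem L174459 : sm gf N15733 = N15014 := ded_40_1 (flp_h L167586) (flp_f L167584) L174455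
theorem L174461 : sm gd N15014 = N15734 := rfl
theorem L174463 : sm ge N15015 = N15735 := rfl
theorem L174465 : sm gh N15735 = N15040 := ded_37_2 (flp_e L167794) (flp_h L167594) L174463
theorem L174467 : sm gh N15016 = N15736 := rfl
theorem L174469 : sm gb N15736 = N15130 := ded_22_1 (flp_h L168596) (flp_b L167598) L174467
theorem L174471 : sm gg N15736 = N15017 := ded_42_1 (flp_h L167604) (flp_g L167602) L174467
theorem L174473 : sm gd N15017 = N15737 := rfl
theorem L174475 : sm gb N15737 = N15131 := ded_18_1 (flp_d L168601) (flp_b L167606) L174473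
theorem L174477 : sm gf N15737 = N15018 := ded_31_2 (flp_d L167610) (flp_f L167608) L174473
theorem L174479 : sm gh N15737 = N15202 := ded_33_2 (flp_d L169302) (flp_h L161819) (flp_d L159922) L167604 L174473
theorem L174481 : sm gc N15018 = N15738 := rfl
theorem L174483 : sm gh N15738 = N15203 := ded_28_2 (flp_c L169309) (flp_h L167614) L174481
theorem L174485 : sm gi N15020 = N15739 := rfl
theorem L174487 : sm ga N15739 = N15209 := ded_16_1 L169352 (flp_a L167630) L174485
theorem L174489 : sm gb N15739 = N15281 := ded_23_1 (flp_i L169938) (flp_b L167632) L174485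
theorem L174491 : sm gc N15739 = N15192 := ded_29_1 L169207 (flp_c L167634) L174485
theorem L174493 : sm gd N15739 = N15046 := ded_34_1 (flp_i L167852) (flp_d L167638) L174485
theorem L174495 : sm gg N15739 = N15035 := ded_43_1 (flp_i L167766) (flp_g L167636) L174485
theorem L174497 : sm ge N15021 = N15740 := rfl
theorem L174499 : sm gb N15740 = N15285 := ded_19_1 (flp_e L169958) (flp_b L167642) L174497
theorem L174501 : sm gg N15740 = N15040 := ded_36_2 (flp_e L167794) (flp_g L167644) L174497
theorem L174503 : sm gi N15740 = N15051 := ded_38_2 (flp_e L167892) (flp_i L167646) L174497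
theorem L174505 : sm gh N15022 = N15741 := rfl
theorem L174507 : sm ga N15741 = N15026 := ded_15_1 (flp_h L167682) (flp_a L167650) L174505
theorem L174509 : sm gb N15741 = N15727 := ded_22_1 (flp_h L174403) L172038 L174505
theorem L174511 : sm gc N15741 = N15741 := ded_28_1 (flp_h L174505) L167654 L174505
theorem L174512 : sm ge N15741 = N15721 := ded_37_1 (flp_h L174331) L174300 L174505
theorem L174514 : sm gg N15741 = N15225 := ded_42_1 (flp_h L169498) (flp_g L167652) L174505
theorem L174516 : sm gd N15741 = N15054 := ded_33_1 (flp_h L167914) (flp_d L160147) (flp_h L159970) L167648 L174505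
theorem L174518 : sm gi N15022 = N15742 := rfl
theorem L174520 : sm ga N15742 = N15027 := ded_16_1 (flp_i L167691) (flp_a L167650) L174518
theorem L174522 : sm gc N15742 = N15742 := ded_29_1 (flp_i L174518) L167654 L174518
theorem L174523 : sm gd N15742 = N15023 := ded_34_1 (flp_i L167655) L167648 L174518
theorem L174525 : sm gg N15742 = N15226 := ded_43_1 (flp_i L169505) (flp_g L167652) L174518
theorem L174527 : sm gh N15023 = N15743 := rfl
theorem L174529 : sm ga N15743 = N15029 := ded_15_1 (flp_h L167708) (flp_a L167657) L174527
theorem L174531 : sm gc N15743 = N15103 := ded_28_1 (flp_h L168332) (flp_c L167659) L174527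
theorem L174533 : sm ge N15743 = N15024 := ded_37_1 (flp_h L167665) (flp_e L167661) L174527
theorem L174535 : sm gg N15743 = N15227 := ded_42_1 (flp_h L169512) (flp_g L167663) L174527
theorem L174537 : sm gi N15743 = N15057 := ded_44_2 (flp_h L167944) (flp_i L160163) (flp_h L159970) L167655 L174527
theorem L174539 : sm gd N15024 = N15744 := rfl
theorem L174541 : sm ga N15744 = N15030 := ded_11_1 (flp_d L167720) (flp_a L167667) L174539
theorem L174543 : sm gg N15744 = N15228 := ded_32_2 (flp_d L169522) (flp_g L167671) L174539
theorem L174545 : sm gi N15744 = N15058 := ded_34_2 (flp_d L167954) (flp_i L167673) L174539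
theorem L174547 : sm ge N15025 = N15745 := rfl
theorem L174549 : sm gb N15745 = N15031 := ded_19_1 (flp_e L167728) (flp_b L167677) L174547
theorem L174551 : sm gc N15745 = N15745 := ded_25_1 (flp_e L174547) L167679 L174547
theorem L174552 : sm gg N15745 = N15502 := ded_36_2 L172234 L172149 L174547
theorem L174554 : sm gf N15745 = N15741 := ded_35_2 L174512 (flp_f L174322) L167516 L167675 L174547
theorem L174556 : sm gh N15501 = N15745 := ded_22_0 L174549 (flp_h L167734) (flp_b L172220)
theorem L174558 : sm gh N15025 = N15746 := rfl
theorem L174560 : sm ga N15746 = N15745 := ded_15_1 (flp_h L174556) L172218 L174558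
theorem L174562 : sm gb N15746 = N15033 := ded_22_1 (flp_h L167746) (flp_b L167677) L174558
theorem L174564 : sm gc N15746 = N15746 := ded_28_1 (flp_h L174558) L167679 L174558
theorem L174565 : sm ge N15746 = N15501 := ded_37_1 L174556 (flp_e L174547) L174558
theorem L174567 : sm gf N15746 = N15026 := ded_40_1 (flp_h L167682) L167675 L174558
theorem L174569 : sm gg N15746 = N15500 := ded_42_1 (flp_h L172214) L172149 L174558
theorem L174571 : sm gd N15746 = N15061 := ded_33_1 (flp_h L167982) L160187 (flp_h L159993) (flp_d L167680) L174558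
theorem L174573 : sm gi N15025 = N15747 := rfl
theorem L174575 : sm gb N15747 = N15034 := ded_23_1 (flp_i L167758) (flp_b L167677) L174573
theorem L174577 : sm gc N15747 = N15747 := ded_29_1 (flp_i L174573) L167679 L174573
theorem L174578 : sm gd N15747 = N15028 := ded_34_1 (flp_i L167700) (flp_d L167680) L174573
theorem L174580 : sm gf N15747 = N15027 := ded_41_1 (flp_i L167691) L167675 L174573
theorem L174582 : sm gi N15026 = N15748 := rfl
theorem L174584 : sm gb N15748 = N15035 := ded_23_1 (flp_i L167766) (flp_b L167684) L174582
theorem L174586 : sm gc N15748 = N15748 := ded_29_1 (flp_i L174582) L167686 L174582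
theorem L174587 : sm gd N15748 = N15063 := ded_34_1 (flp_i L168004) (flp_d L167689) L174582
theorem L174589 : sm gg N15748 = N15281 := ded_43_1 (flp_i L169938) (flp_g L167687) L174582
theorem L174591 : sm gh N15027 = N15749 := rfl
theorem L174593 : sm gb N15749 = N15036 := ded_22_1 (flp_h L167772) (flp_b L167693) L174591
theorem L174595 : sm gc N15749 = N15749 := ded_28_1 (flp_h L174591) L167695 L174591
theorem L174596 : sm gg N15749 = N15282 := ded_42_1 (flp_h L169943) (flp_g L167698) L174591
theorem L174598 : sm gh N15028 = N15750 := rfl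
theorem L174600 : sm gb N15750 = N15038 := ded_22_1 (flp_h L167782) (flp_b L167702) L174598
theorem L174602 : sm gc N15750 = N15104 := ded_28_1 (flp_h L168344) (flp_c L167704) L174598
theorem L174604 : sm gf N15750 = N15029 := ded_40_1 (flp_h L167708) (flp_f L167706) L174598
theorem L174606 : sm gi N15750 = N15066 := ded_44_2 (flp_h L168034) (flp_i L160219) (flp_h L159993) L167700 L174598
theorem L174608 : sm gd N15029 = N15751 := rfl
theorem L174610 : sm gb N15751 = N15039 := ded_18_1 (flp_d L167790) (flp_b L167710) L174608
theorem L174612 : sm gg N15751 = N15284 := ded_32_2 (flp_d L169954) (flp_g L167716) L174608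
theorem L174614 : sm gi N15751 = N15067 := ded_34_2 (flp_d L168042) (flp_i L167718) L174608
theorem L174616 : sm ge N15030 = N15752 := rfl
theorem L174618 : sm gb N15752 = N15040 := ded_19_1 (flp_e L167794) (flp_b L167722) L174616
theorem L174620 : sm gg N15752 = N15285 := ded_36_2 (flp_e L169958) (flp_g L167724) L174616
theorem L174622 : sm gi N15752 = N15068 := ded_38_2 (flp_e L168048) (flp_i L167726) L174616
theorem L174624 : sm gi N15031 = N15753 := rfl
theorem L174626 : sm gc N15753 = N15204 := ded_29_1 (flp_i L169312) (flp_c L167730) L174624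
theorem L174628 : sm ge N15753 = N15034 := ded_38_1 (flp_i L167758) L167728 L174624
theorem L174630 : sm gg N15753 = N15512 := ded_43_1 (flp_i L172305) L167732 L174624
theorem L174632 : sm gi N15032 = N15754 := rfl
theorem L174634 : sm gc N15754 = N15205 := ded_29_1 (flp_i L169320) (flp_c L167738) L174632
theorem L174636 : sm gd N15754 = N15037 := ded_34_1 (flp_i L167776) (flp_d L167740) L174632
theorem L174638 : sm ge N15754 = N15512 := ded_38_1 (flp_i L172305) (flp_e L167742) L174632
theorem L174640 : sm gg N15754 = N15034 := ded_43_1 (flp_i L167758) L167736 L174632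
theorem L174642 : sm gi N15033 = N15755 := rfl
theorem L174644 : sm gc N15755 = N15206 := ded_29_1 (flp_i L169329) (flp_c L167748) L174642
theorem L174646 : sm gd N15755 = N15071 := ded_34_1 (flp_i L168070) (flp_d L167756) L174642
theorem L174648 : sm ge N15755 = N15511 := ded_38_1 (flp_i L172297) (flp_e L167750) L174642
theorem L174650 : sm gf N15755 = N15035 := ded_41_1 (flp_i L167766) (flp_f L167752) L174642
theorem L174652 : sm gg N15755 = N15510 := ded_43_1 (flp_i L172289) (flp_g L167754) L174642
theorem L174654 : sm gh N15034 = N15756 := rfl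
theorem L174656 : sm gc N15756 = N15207 := ded_28_1 (flp_h L169340) (flp_c L167760) L174654
theorem L174658 : sm gf N15756 = N15036 := ded_40_1 (flp_h L167772) (flp_f L167764) L174654
theorem L174660 : sm gh N15035 = N15757 := rfl
theorem L174662 : sm gc N15757 = N15208 := ded_28_1 (flp_h L169345) (flp_c L167768) L174660
theorem L174664 : sm gi N15757 = N15036 := ded_44_2 (flp_h L167772) (flp_i L160027) L160021 L167766 L174660
theorem L174666 : sm gd N15036 = N15758 := rfl
theorem L174668 : sm gh N15758 = N15039 := ded_33_2 (flp_d L167790) (flp_h L160045) (flp_d L160031) L167772 L174666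
theorem L174670 : sm gh N15037 = N15759 := rfl
theorem L174672 : sm gc N15759 = N15041 := ded_28_1 (flp_h L167798) (flp_c L167778) L174670
theorem L174674 : sm gg N15759 = N15038 := ded_42_1 (flp_h L167782) (flp_g L167780) L174670
theorem L174676 : sm gi N15759 = N15075 := ded_44_2 (flp_h L168096) (flp_i L160283) (flp_h L160037) L167776 L174670
theorem L174678 : sm gd N15038 = N15760 := rfl
theorem L174680 : sm gf N15760 = N15039 := ded_31_2 (flp_d L167790) (flp_f L167786) L174678
theorem L174682 : sm gi N15760 = N15076 := ded_34_2 (flp_d L168102) (flp_i L167788) L174678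
theorem L174684 : sm ge N15039 = N15761 := rfl
theorem L174686 : sm gi N15761 = N15078 := ded_38_2 (flp_e L168110) (flp_i L167792) L174684
theorem L174688 : sm gd N15761 = N15040 := ded_30_1 (flp_e L167794) (flp_d L160053) (flp_e L160049) L167790 L174684
theorem L174690 : sm gf N15040 = N15762 := rfl
theorem L174692 : sm gi N15762 = N15079 := ded_41_2 (flp_f L168114) (flp_i L167796) L174690
theorem L174694 : sm gi N15042 = N15763 := rfl
theorem L174696 : sm gb N15763 = N15288 := ded_23_1 (flp_i L169976) (flp_b L167808) L174694
theorem L174698 : sm gc N15763 = N15082 := ded_29_1 (flp_i L168128) (flp_c L167810) L174694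
theorem L174700 : sm ge N15763 = N15045 := ded_38_1 (flp_i L167842) L167806 L174694
theorem L174702 : sm gg N15763 = N15290 := ded_43_1 (flp_i L169992) L167814 L174694
theorem L174704 : sm gi N15043 = N15764 := rfl
theorem L174706 : sm gb N15764 = N15289 := ded_23_1 (flp_i L169984) (flp_b L167818) L174704
theorem L174708 : sm gc N15764 = N15083 := ded_29_1 (flp_i L168137) (flp_c L167820) L174704
theorem L174710 : sm gd N15764 = N15048 := ded_34_1 (flp_i L167868) (flp_d L167822) L174704
theorem L174712 : sm ge N15764 = N15290 := ded_38_1 (flp_i L169992) (flp_e L167824) L174704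
theorem L174714 : sm gf N15764 = N15070 := ded_41_1 (flp_i L168062) (flp_f L167826) L174704
theorem L174716 : sm gg N15764 = N15045 := ded_43_1 (flp_i L167842) L167816 L174704
theorem L174718 : sm gi N15044 = N15765 := rfl
theorem L174720 : sm gb N15765 = N15290 := ded_23_1 (flp_i L169992) (flp_b L167832) L174718
theorem L174722 : sm gc N15765 = N15084 := ded_29_1 (flp_i L168149) (flp_c L167834) L174718
theorem L174724 : sm ge N15765 = N15289 := ded_38_1 (flp_i L169984) (flp_e L167836) L174718
theorem L174726 : sm gf N15765 = N15046 := ded_41_1 (flp_i L167852) (flp_f L167838) L174718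
theorem L174728 : sm gg N15765 = N15288 := ded_43_1 (flp_i L169976) (flp_g L167840) L174718
theorem L174730 : sm gh N15045 = N15766 := rfl
theorem L174732 : sm gb N15766 = N15291 := ded_22_1 (flp_h L169998) (flp_b L167844) L174730
theorem L174734 : sm gc N15766 = N15085 := ded_28_1 (flp_h L168161) (flp_c L167846) L174730
theorem L174736 : sm gf N15766 = N15047 := ded_40_1 (flp_h L167860) (flp_f L167850) L174730
theorem L174738 : sm gh N15046 = N15767 := rfl
theorem L174740 : sm gb N15767 = N15292 := ded_22_1 (flp_h L170004) (flp_b L167854) L174738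
theorem L174742 : sm gc N15767 = N15086 := ded_28_1 (flp_h L168167) (flp_c L167856) L174738
theorem L174744 : sm gg N15767 = N15073 := ded_42_1 (flp_h L168086) (flp_g L167858) L174738
theorem L174746 : sm gi N15767 = N15047 := ded_44_2 (flp_h L167860) (flp_i L160089) L160081 L167852 L174738
theorem L174748 : sm gd N15047 = N15768 := rfl
theorem L174750 : sm gb N15768 = N15293 := ded_18_1 (flp_d L170012) (flp_b L167862) L174748
theorem L174752 : sm gg N15768 = N15074 := ded_32_2 (flp_d L168092) (flp_g L167866) L174748
theorem L174754 : sm gh N15768 = N15050 := ded_33_2 (flp_d L167886) (flp_h L160115) (flp_d L160095) L167860 L174748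
theorem L174756 : sm gh N15048 = N15769 := rfl
theorem L174758 : sm gb N15769 = N15294 := ded_22_1 (flp_h L170016) (flp_b L167870) L174756
theorem L174760 : sm gc N15769 = N15052 := ded_28_1 (flp_h L167898) (flp_c L167872) L174756
theorem L174762 : sm gf N15769 = N15075 := ded_40_1 (flp_h L168096) (flp_f L167874) L174756
theorem L174764 : sm gg N15769 = N15049 := ded_42_1 (flp_h L167878) (flp_g L167876) L174756
theorem L174766 : sm gd N15049 = N15770 := rfl
theorem L174768 : sm gb N15770 = N15295 := ded_18_1 (flp_d L170022) (flp_b L167880) L174766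
theorem L174770 : sm gf N15770 = N15050 := ded_31_2 (flp_d L167886) (flp_f L167884) L174766
theorem L174772 : sm ge N15050 = N15771 := rfl
theorem L174774 : sm gb N15771 = N15297 := ded_19_1 (flp_e L170030) (flp_b L167888) L174772
theorem L174776 : sm gg N15771 = N15078 := ded_36_2 (flp_e L168110) (flp_g L167890) L174772
theorem L174778 : sm gd N15771 = N15051 := ded_30_1 (flp_e L167892) (flp_d L160125) (flp_e L160121) L167886 L174772
theorem L174780 : sm gf N15051 = N15772 := rfl
theorem L174782 : sm gb N15772 = N15298 := ded_20_1 (flp_f L170034) (flp_b L167894) L174780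
theorem L174784 : sm ge N15053 = N15773 := rfl
theorem L174786 : sm ga N15773 = N15059 := ded_12_1 (flp_e L167962) (flp_a L167908) L174784
theorem L174788 : sm gb N15773 = N15465 := ded_19_1 L171842 L171830 L174784
theorem L174790 : sm gc N15773 = N15133 := ded_25_1 (flp_e L168613) (flp_c L167910) L174784
theorem L174792 : sm gd N15773 = N15502 := ded_30_1 L172234 L172147 L164935 (flp_d L167912) L174784
theorem L174794 : sm gf N15773 = N15458 := ded_35_2 L171767 (flp_f L166517) (flp_e L160155) L167906 L174784
theorem L174796 : sm gh N15457 = N15773 := ded_15_0 L174786 L167980 (flp_a L171749)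
theorem L174798 : sm gh N15053 = N15774 := rfl
theorem L174800 : sm ga N15774 = N15061 := ded_15_1 (flp_h L167982) (flp_a L167908) L174798
theorem L174802 : sm gb N15774 = N15463 := ded_22_1 L171837 L171830 L174798
theorem L174804 : sm gc N15774 = N15135 := ded_28_1 (flp_h L168632) (flp_c L167910) L174798
theorem L174806 : sm ge N15774 = N15457 := ded_37_1 L174796 (flp_e L174784) L174798
theorem L174808 : sm gf N15774 = N15054 := ded_40_1 (flp_h L167914) L167906 L174798
theorem L174810 : sm gg N15774 = N15773 := ded_42_1 (flp_h L174796) L171757 L174798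
theorem L174812 : sm gd N15774 = N15745 := ded_33_1 (flp_h L174556) L172223 L164986 (flp_d L167912) L174798
theorem L174814 : sm gi N15053 = N15775 := rfl
theorem L174816 : sm ga N15775 = N15062 := ded_16_1 (flp_i L167994) (flp_a L167908) L174814
theorem L174818 : sm gc N15775 = N15136 := ded_29_1 (flp_i L168644) (flp_c L167910) L174814
theorem L174820 : sm gd N15775 = N15056 := ded_34_1 (flp_i L167936) (flp_d L167912) L174814
theorem L174822 : sm gf N15775 = N15055 := ded_41_1 (flp_i L167924) L167906 L174814
theorem L174824 : sm gi N15054 = N15776 := rfl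
theorem L174826 : sm ga N15776 = N15063 := ded_16_1 (flp_i L168004) (flp_a L167916) L174824
theorem L174828 : sm gc N15776 = N15137 := ded_29_1 (flp_i L168653) (flp_c L167918) L174824
theorem L174830 : sm ge N15776 = N15631 := ded_38_1 (flp_i L173488) (flp_e L167920) L174824
theorem L174832 : sm gg N15776 = N15237 := ded_43_1 (flp_i L169593) (flp_g L167922) L174824
theorem L174834 : sm gh N15055 = N15777 := rfl
theorem L174836 : sm ga N15777 = N15064 := ded_15_1 (flp_h L168014) (flp_a L167926) L174834
theorem L174838 : sm gc N15777 = N15138 := ded_28_1 (flp_h L168663) (flp_c L167928) L174834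
theorem L174840 : sm ge N15777 = N15632 := ded_37_1 (flp_h L173498) (flp_e L167932) L174834
theorem L174842 : sm gg N15777 = N15238 := ded_42_1 (flp_h L169601) (flp_g L167934) L174834
theorem L174844 : sm gh N15056 = N15778 := rfl
theorem L174846 : sm ga N15778 = N15066 := ded_15_1 (flp_h L168034) (flp_a L167938) L174844
theorem L174848 : sm gc N15778 = N15107 := ded_28_1 (flp_h L168370) (flp_c L167940) L174844
theorem L174850 : sm gf N15778 = N15057 := ded_40_1 (flp_h L167944) (flp_f L167942) L174844
theorem L174852 : sm gd N15057 = N15779 := rfl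
theorem L174854 : sm ga N15779 = N15067 := ded_11_1 (flp_d L168042) (flp_a L167946) L174852
theorem L174856 : sm gg N15779 = N15240 := ded_32_2 (flp_d L169617) (flp_g L167952) L174852
theorem L174858 : sm ge N15058 = N15780 := rfl
theorem L174860 : sm ga N15780 = N15068 := ded_12_1 (flp_e L168048) (flp_a L167956) L174858
theorem L174862 : sm gg N15780 = N15241 := ded_36_2 (flp_e L169621) (flp_g L167958) L174858
theorem L174864 : sm gh N15780 = N15635 := ded_37_2 (flp_e L173526) (flp_h L167960) L174858
theorem L174866 : sm gi N15059 = N15781 := rfl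
theorem L174868 : sm gb N15781 = N15069 := ded_23_1 (flp_i L168056) (flp_b L167964) L174866
theorem L174870 : sm gc N15781 = N15142 := ded_29_1 (flp_i L168703) (flp_c L167966) L174866
theorem L174872 : sm ge N15781 = N15062 := ded_38_1 (flp_i L167994) L167962 L174866
theorem L174874 : sm gf N15781 = N15763 := ded_41_1 (flp_i L174694) (flp_f L167968) L174866
theorem L174876 : sm gi N15060 = N15782 := rfl
theorem L174878 : sm gb N15782 = N15070 := ded_23_1 (flp_i L168062) (flp_b L167972) L174876
theorem L174880 : sm gc N15782 = N15143 := ded_29_1 (flp_i L168712) (flp_c L167974) L174876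
theorem L174882 : sm gd N15782 = N15065 := ded_34_1 (flp_i L168024) (flp_d L167976) L174876
theorem L174884 : sm gf N15782 = N15289 := ded_41_1 (flp_i L169984) (flp_f L167978) L174876
theorem L174886 : sm gg N15782 = N15062 := ded_43_1 (flp_i L167994) L167970 L174876
theorem L174888 : sm gi N15061 = N15783 := rfl
theorem L174890 : sm gb N15783 = N15071 := ded_23_1 (flp_i L168070) (flp_b L167984) L174888
theorem L174892 : sm gc N15783 = N15144 := ded_29_1 (flp_i L168722) (flp_c L167986) L174888
theorem L174894 : sm ge N15783 = N15782 := ded_38_1 (flp_i L174876) (flp_e L167988) L174888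
theorem L174896 : sm gf N15783 = N15063 := ded_41_1 (flp_i L168004) (flp_f L167990) L174888
theorem L174898 : sm gg N15783 = N15781 := ded_43_1 (flp_i L174866) (flp_g L167992) L174888
theorem L174900 : sm gh N15062 = N15784 := rfl
theorem L174902 : sm gb N15784 = N15072 := ded_22_1 (flp_h L168080) (flp_b L167996) L174900
theorem L174904 : sm gc N15784 = N15145 := ded_28_1 (flp_h L168733) (flp_c L167998) L174900
theorem L174906 : sm gf N15784 = N15064 := ded_40_1 (flp_h L168014) (flp_f L168002) L174900
theorem L174908 : sm gh N15063 = N15785 := rfl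
theorem L174910 : sm gb N15785 = N15073 := ded_22_1 (flp_h L168086) (flp_b L168006) L174908
theorem L174912 : sm gc N15785 = N15146 := ded_28_1 (flp_h L168739) (flp_c L168008) L174908
theorem L174914 : sm ge N15785 = N15767 := ded_37_1 (flp_h L174738) (flp_e L168010) L174908
theorem L174916 : sm gg N15785 = N15292 := ded_42_1 (flp_h L170004) (flp_g L168012) L174908
theorem L174918 : sm gi N15785 = N15064 := ded_44_2 (flp_h L168014) (flp_i L160199) L160189 L168004 L174908
theorem L174920 : sm gd N15064 = N15786 := rfl
theorem L174922 : sm gb N15786 = N15074 := ded_18_1 (flp_d L168092) (flp_b L168016) L174920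
theorem L174924 : sm gg N15786 = N15293 := ded_32_2 (flp_d L170012) (flp_g L168022) L174920
theorem L174926 : sm gh N15786 = N15067 := ded_33_2 (flp_d L168042) (flp_h L160227) (flp_d L160205) L168014 L174920
theorem L174928 : sm gh N15065 = N15787 := rfl
theorem L174930 : sm gb N15787 = N15075 := ded_22_1 (flp_h L168096) (flp_b L168026) L174928
theorem L174932 : sm gc N15787 = N15109 := ded_28_1 (flp_h L168388) (flp_c L168028) L174928
theorem L174934 : sm gf N15787 = N15294 := ded_40_1 (flp_h L170016) (flp_f L168030) L174928
theorem L174936 : sm gg N15787 = N15066 := ded_42_1 (flp_h L168034) (flp_g L168032) L174928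
theorem L174938 : sm gd N15066 = N15788 := rfl
theorem L174940 : sm gb N15788 = N15076 := ded_18_1 (flp_d L168102) (flp_b L168036) L174938
theorem L174942 : sm gf N15788 = N15067 := ded_31_2 (flp_d L168042) (flp_f L168040) L174938
theorem L174944 : sm gc N15067 = N15789 := rfl
theorem L174946 : sm gg N15789 = N15296 := ded_27_2 (flp_c L170026) (flp_g L168046) L174944
theorem L174948 : sm gd N15789 = N15111 := ded_24_2 (flp_c L168404) (flp_d L160678) (flp_c L160231) L168042 L174944
theorem L174950 : sm ge N15067 = N15790 := rfl
theorem L174952 : sm gb N15790 = N15078 := ded_19_1 (flp_e L168110) (flp_b L168044) L174950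
theorem L174954 : sm gg N15790 = N15297 := ded_36_2 (flp_e L170030) (flp_g L168046) L174950
theorem L174956 : sm gd N15790 = N15068 := ded_30_1 (flp_e L168048) (flp_d L160237) (flp_e L160233) L168042 L174950
theorem L174958 : sm gf N15068 = N15791 := rfl
theorem L174960 : sm gb N15791 = N15079 := ded_20_1 (flp_f L168114) (flp_b L168050) L174958
theorem L174962 : sm gh N15791 = N15772 := ded_40_2 (flp_f L174780) (flp_h L168054) L174958
theorem L174964 : sm gh N15069 = N15792 := rfl
theorem L174966 : sm gc N15792 = N15091 := ded_28_1 (flp_h L168224) (flp_c L168058) L174964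
theorem L174968 : sm ge N15792 = N15072 := ded_37_1 (flp_h L168080) (flp_e L168060) L174964
theorem L174970 : sm gh N15070 = N15793 := rfl
theorem L174972 : sm gc N15793 = N15092 := ded_28_1 (flp_h L168230) (flp_c L168064) L174970
theorem L174974 : sm gg N15793 = N15072 := ded_42_1 (flp_h L168080) (flp_g L168068) L174970
theorem L174976 : sm gi N15793 = N15792 := ded_44_2 (flp_h L174964) (flp_i L168056) L160255 L168062 L174970
theorem L174978 : sm gh N15071 = N15794 := rfl
theorem L174980 : sm gc N15794 = N15093 := ded_28_1 (flp_h L168238) (flp_c L168072) L174978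
theorem L174982 : sm ge N15794 = N15793 := ded_37_1 (flp_h L174970) (flp_e L168074) L174978
theorem L174984 : sm gf N15794 = N15073 := ded_40_1 (flp_h L168086) (flp_f L168076) L174978
theorem L174986 : sm gg N15794 = N15792 := ded_42_1 (flp_h L174964) (flp_g L168078) L174978
theorem L174988 : sm gi N15794 = N15072 := ded_44_2 (flp_h L168080) (flp_i L160267) L160257 L168070 L174978
theorem L174990 : sm gd N15072 = N15795 := rfl
theorem L174992 : sm gf N15795 = N15074 := ded_31_2 (flp_d L168092) (flp_f L168084) L174990
theorem L174994 : sm gh N15795 = N15076 := ded_33_2 (flp_d L168102) (flp_h L160289) (flp_d L160271) L168080 L174990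
theorem L174996 : sm gd N15073 = N15796 := rfl
theorem L174998 : sm gi N15796 = N15074 := ded_34_2 (flp_d L168092) (flp_i L168090) L174996
theorem L175000 : sm gc N15074 = N15797 := rfl
theorem L175002 : sm gh N15797 = N15077 := ded_28_2 (flp_c L168106) (flp_h L168094) L175000
theorem L175004 : sm gd N15797 = N15096 := ded_24_2 (flp_c L168268) (flp_d L160471) (flp_c L160281) L168092 L175000
theorem L175006 : sm ge N15074 = N15798 := rfl
theorem L175008 : sm gh N15798 = N15078 := ded_37_2 (flp_e L168110) (flp_h L168094) L175006
theorem L175010 : sm gd N15075 = N15799 := rfl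
theorem L175012 : sm gg N15799 = N15076 := ded_32_2 (flp_d L168102) (flp_g L168100) L175010
theorem L175014 : sm gc N15076 = N15800 := rfl
theorem L175016 : sm gf N15800 = N15077 := ded_26_2 (flp_c L168106) (flp_f L168104) L175014
theorem L175018 : sm gd N15800 = N15080 := ded_24_2 (flp_c L168116) (flp_d L160305) (flp_c L160291) L168102 L175014
theorem L175020 : sm ge N15076 = N15801 := rfl
theorem L175022 : sm gb N15077 = N15802 := rfl
theorem L175024 : sm gd N15802 = N15081 := ded_18_2 (flp_b L168122) (flp_d L168108) L175022
theorem L175026 : sm ge N15077 = N15803 := rfl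
theorem L175028 : sm gc N15803 = N15078 := ded_25_1 (flp_e L168110) L168106 L175026
theorem L175030 : sm gf N15078 = N15804 := rfl
theorem L175032 : sm gd N15804 = N15079 := ded_31_1 (flp_f L168114) (flp_d L168112) L175030
theorem L175034 : sm gg N15079 = N15805 := rfl
theorem L175036 : sm gh N15082 = N15806 := rfl
theorem L175038 : sm gb N15806 = N15164 := ded_22_1 (flp_h L168902) (flp_b L168130) L175036
theorem L175040 : sm ge N15806 = N15085 := ded_37_1 (flp_h L168161) (flp_e L168133) L175036
theorem L175042 : sm gg N15806 = N15305 := ded_42_1 (flp_h L170078) (flp_g L168135) L175036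
theorem L175044 : sm gi N15806 = N15304 := ded_44_2 (flp_h L170072) (flp_i L162732) L160324 L168128 L175036
theorem L175046 : sm gh N15083 = N15807 := rfl
theorem L175048 : sm gb N15807 = N15165 := ded_22_1 (flp_h L168915) (flp_b L168139) L175046
theorem L175050 : sm ge N15807 = N15305 := ded_37_1 (flp_h L170078) (flp_e L168143) L175046
theorem L175052 : sm gf N15807 = N15092 := ded_40_1 (flp_h L168230) (flp_f L168145) L175046
theorem L175054 : sm gg N15807 = N15085 := ded_42_1 (flp_h L168161) (flp_g L168147) L175046
theorem L175056 : sm gi N15807 = N15303 := ded_44_2 (flp_h L170064) (flp_i L162722) L160336 L168137 L175046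
theorem L175058 : sm gh N15084 = N15808 := rfl
theorem L175060 : sm gb N15808 = N15166 := ded_22_1 (flp_h L168928) (flp_b L168151) L175058
theorem L175062 : sm ge N15808 = N15304 := ded_37_1 (flp_h L170072) (flp_e L168155) L175058
theorem L175064 : sm gf N15808 = N15086 := ded_40_1 (flp_h L168167) (flp_f L168157) L175058
theorem L175066 : sm gg N15808 = N15303 := ded_42_1 (flp_h L170064) (flp_g L168159) L175058
theorem L175068 : sm gi N15808 = N15085 := ded_44_2 (flp_h L168161) (flp_i L160350) L160338 L168149 L175058
theorem L175070 : sm gd N15085 = N15809 := rfl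
theorem L175072 : sm ga N15809 = N15207 := ded_11_1 (flp_d L173790) L173785 L175070
theorem L175074 : sm gb N15809 = N15167 := ded_18_1 (flp_d L168941) (flp_b L168163) L175070
theorem L175076 : sm gf N15809 = N15087 := ded_31_2 (flp_d L168175) (flp_f L168165) L175070
theorem L175078 : sm gh N15809 = N15089 := ded_33_2 (flp_d L168200) (flp_h L160383) (flp_d L160354) L168161 L175070
theorem L175080 : sm gd N15086 = N15810 := rfl
theorem L175082 : sm ga N15810 = N15208 := ded_11_1 (flp_d L173799) L173794 L175080
theorem L175084 : sm gb N15810 = N15168 := ded_18_1 (flp_d L168948) (flp_b L168169) L175080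
theorem L175086 : sm gg N15810 = N15095 := ded_32_2 (flp_d L168260) (flp_g L168171) L175080
theorem L175088 : sm gi N15810 = N15087 := ded_34_2 (flp_d L168175) (flp_i L168173) L175080
theorem L175090 : sm gh N15810 = N15189 := ded_33_2 L169165 L161597 (flp_d L160362) L168167 L175080
theorem L175092 : sm ge N15087 = N15811 := rfl
theorem L175094 : sm ga N15811 = N15199 := ded_12_1 L169279 (flp_a L168177) L175092
theorem L175096 : sm gb N15811 = N15170 := ded_19_1 (flp_e L168966) (flp_b L168179) L175092
theorem L175098 : sm gg N15811 = N15097 := ded_36_2 (flp_e L168272) (flp_g L168181) L175092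
theorem L175100 : sm gh N15811 = N15090 := ded_37_2 (flp_e L168210) (flp_h L168183) L175092
theorem L175102 : sm gf N15736 = N15811 := ded_20_0 L175096 (flp_f L168975) (flp_b L174469)
theorem L175104 : sm gd N15088 = N15812 := rfl
theorem L175106 : sm ga N15812 = N15205 := ded_11_1 L169323 (flp_a L168187) L175104
theorem L175108 : sm gb N15812 = N15171 := ded_18_1 (flp_d L168977) (flp_b L168189) L175104
theorem L175110 : sm gf N15812 = N15098 := ded_31_2 (flp_d L168280) (flp_f L168194) L175104
theorem L175112 : sm gg N15812 = N15089 := ded_32_2 (flp_d L168200) (flp_g L168196) L175104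
theorem L175114 : sm gi N15812 = N15187 := ded_34_2 L169137 (flp_i L168198) L175104
theorem L175116 : sm ge N15399 = N15812 := ded_47_3 (flp_d L175104) L168191 L160422 (flp_h L152155) L143033 L133750 L125537 L68009 L49683 (flp_b L104731) (flp_h L104742) L47741 L35008 L25686 L19593 (flp_c L20127) (flp_b L27360) L27364 L27363 (flp_f L37349) (flp_e L50963) (flp_d L69747) (flp_c L126102) (flp_b L134249) L143450 L143457 L136672 (flp_e L136742) L145833 (flp_c L145843) L137876 (flp_h L129587) L122225 (flp_f L129585) (flp_e L138073) (flp_d L147245) (flp_c L155913) (flp_b L163999) L171324 L171334 L166449 L158650 (flp_d L158150) (flp_c L165974) (flp_b L171942) (flp_h L171940) L164749 (flp_f L167275) L167273 (flp_d L167848) L167846 L160352 L161219 (flp_g L168924) L168922 (flp_e L161318) (flp_d L165910) L165904 (flp_b L164500) (flp_h L164498) (flp_g L163692) (flp_f L171056)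
theorem L175118 : sm ge N15089 = N15813 := rfl
theorem L175120 : sm ga N15813 = N15204 := ded_12_1 L169316 (flp_a L168202) L175118
theorem L175122 : sm gb N15813 = N15173 := ded_19_1 (flp_e L169001) (flp_b L168204) L175118
theorem L175124 : sm gg N15813 = N15399 := ded_36_2 L175116 L175112 L175118
theorem L175126 : sm gi N15813 = N15186 := ded_38_2 (flp_e L169118) (flp_i L168208) L175118
theorem L175128 : sm gd N15813 = N15813 := ded_30_1 (flp_e L175118) (flp_d L168200) L160391 L168200 L175118
theorem L175129 : sm gf N15813 = N15447 := ded_35_2 L171636 L168222 (flp_e L168210) (flp_f L168206) L175118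
theorem L175131 : sm gd N15091 = N15814 := rfl
theorem L175133 : sm ga N15814 = N15710 := ded_11_1 L174222 L173805 L175131
theorem L175135 : sm gb N15814 = N15175 := ded_18_1 (flp_d L169019) (flp_b L168226) L175131
theorem L175137 : sm gg N15814 = N15571 := ded_32_2 L172863 L168246 L175131
theorem L175139 : sm ge N15814 = N15566 := ded_30_2 L172814 L168258 (flp_d L168250) (flp_e L168228) L175131
theorem L175141 : sm gh N15814 = N15102 := ded_33_2 (flp_d L168320) (flp_h L160527) (flp_d L160435) L168224 L175131
theorem L175143 : sm gd N15092 = N15815 := rfl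
theorem L175145 : sm gb N15815 = N15176 := ded_18_1 (flp_d L169030) (flp_b L168232) L175143
theorem L175147 : sm gg N15815 = N15094 := ded_32_2 (flp_d L168250) (flp_g L168234) L175143
theorem L175149 : sm gi N15815 = N15814 := ded_34_2 (flp_d L175131) (flp_i L168236) L175143
theorem L175151 : sm ge N15815 = N15433 := ded_30_2 L171491 (flp_e L172859) L172863 L168242 L175143
theorem L175153 : sm gh N15815 = N15098 := ded_33_2 (flp_d L168280) (flp_h L160477) (flp_d L160443) L168230 L175143
theorem L175155 : sm gc N15094 = N15816 := rfl
theorem L175157 : sm ge N15816 = N15689 := ded_25_2 L174038 L168258 L175155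
theorem L175159 : sm gf N15816 = N15096 := ded_26_2 (flp_c L168268) (flp_f L168254) L175155
theorem L175161 : sm gh N15816 = N15099 := ded_28_2 (flp_c L168290) (flp_h L168256) L175155
theorem L175163 : sm gb N15816 = N15690 := ded_17_1 L174048 L167200 L161333 (flp_b L168252) L175155
theorem L175165 : sm gc N15095 = N15817 := rfl
theorem L175167 : sm gh N15817 = N15209 := ded_28_2 (flp_c L169350) (flp_h L168266) L175165
theorem L175169 : sm gi N15817 = N15096 := ded_29_2 (flp_c L168268) (flp_i L168264) L175165
theorem L175171 : sm ge N15095 = N15818 := rfl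
theorem L175173 : sm gb N15818 = N15128 := ded_19_1 L168582 (flp_b L168262) L175171
theorem L175175 : sm gh N15818 = N15125 := ded_37_2 L168551 (flp_h L168266) L175171
theorem L175177 : sm gi N15818 = N15097 := ded_38_2 (flp_e L168272) (flp_i L168264) L175171
theorem L175179 : sm gf N15818 = N15126 := ded_35_2 L168559 (flp_f L165899) (flp_e L172859) L172861 L175171
theorem L175181 : sm gb N15096 = N15819 := rfl
theorem L175183 : sm gf N15819 = N15690 := ded_20_2 (flp_b L175163) L175159 L175181
theorem L175185 : sm gh N15819 = N15100 := ded_22_2 (flp_b L168302) (flp_h L168270) L175181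
theorem L175187 : sm gc N15819 = N15177 := ded_17_2 (flp_b L169043) (flp_c L161344) (flp_b L160473) L168268 L175181
theorem L175189 : sm ge N15096 = N15820 := rfl
theorem L175191 : sm gc N15820 = N15097 := ded_25_1 (flp_e L168272) L168268 L175189
theorem L175193 : sm gh N15820 = N15101 := ded_37_2 (flp_e L168312) (flp_h L168270) L175189
theorem L175195 : sm gf N15820 = N15715 := ded_35_2 L174267 (flp_f L174040) (flp_e L175157) L175159 L175189
theorem L175197 : sm gc N15102 = N15821 := rfl
theorem L175199 : sm ga N15821 = N15702 := ded_10_1 L174155 (flp_a L168322) L175197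
theorem L175201 : sm ge N15821 = N15434 := ded_25_2 L171499 (flp_e L168330) L175197
theorem L175203 : sm gg N15821 = N15439 := ded_27_2 L171561 (flp_g L168326) L175197
theorem L175205 : sm gi N15821 = N15379 := ded_29_2 L170844 (flp_i L168328) L175197
theorem L175207 : sm gb N15821 = N15388 := ded_17_1 L170942 L163687 L161386 (flp_b L168324) L175197
theorem L175209 : sm gd N15103 = N15822 := rfl
theorem L175211 : sm ga N15822 = N15105 := ded_11_1 (flp_d L168352) (flp_a L168334) L175209
theorem L175213 : sm gb N15822 = N15114 := ded_18_1 (flp_d L168428) (flp_b L168336) L175209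
theorem L175215 : sm gg N15822 = N15229 := ded_32_2 (flp_d L169528) (flp_g L168340) L175209
theorem L175217 : sm gi N15822 = N15108 := ded_34_2 (flp_d L168378) (flp_i L168342) L175209
theorem L175219 : sm gh N15822 = N15822 := ded_33_2 (flp_d L175209) (flp_h L168332) L160573 L168332 L175209
theorem L175220 : sm gd N15104 = N15823 := rfl
theorem L175222 : sm gb N15823 = N15106 := ded_18_1 (flp_d L168361) (flp_b L168346) L175220
theorem L175224 : sm gf N15823 = N15105 := ded_31_2 (flp_d L168352) (flp_f L168348) L175220
theorem L175226 : sm gi N15823 = N15110 := ded_34_2 (flp_d L168396) (flp_i L168350) L175220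
theorem L175228 : sm gh N15823 = N15823 := ded_33_2 (flp_d L175220) (flp_h L168344) L160592 L168344 L175220
theorem L175229 : sm gc N15105 = N15824 := rfl
theorem L175231 : sm gg N15824 = N15287 := ded_27_2 (flp_c L169971) (flp_g L168356) L175229
theorem L175233 : sm gh N15824 = N15824 := ded_28_2 (flp_c L175229) L168360 L175229
theorem L175234 : sm gi N15824 = N15111 := ded_29_2 (flp_c L168404) (flp_i L168358) L175229
theorem L175236 : sm ge N15106 = N15825 := rfl
theorem L175238 : sm ga N15825 = N15115 := ded_12_1 L168439 (flp_a L168363) L175236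
theorem L175240 : sm gc N15825 = N15114 := ded_25_1 (flp_e L171152) L171150 L175236
theorem L175242 : sm gg N15825 = N15258 := ded_36_2 (flp_e L171228) L171232 L175236
theorem L175244 : sm gh N15825 = N15825 := ded_37_2 (flp_e L175236) L168369 L175236
theorem L175245 : sm gi N15825 = N15112 := ded_38_2 (flp_e L168410) (flp_i L168367) L175236
theorem L175247 : sm gd N15825 = N15264 := ded_30_1 (flp_e L171459) L171457 L165319 L168361 L175236
theorem L175249 : sm gf N15825 = N15263 := ded_35_2 (flp_e L169790) (flp_f L165264) L165270 (flp_f L168365) L175236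
theorem L175251 : sm gd N15107 = N15826 := rfl
theorem L175253 : sm ga N15826 = N15110 := ded_11_1 (flp_d L168396) (flp_a L168372) L175251
theorem L175255 : sm gb N15826 = N15116 := ded_18_1 (flp_d L168452) (flp_b L168374) L175251
theorem L175257 : sm gf N15826 = N15108 := ded_31_2 (flp_d L168378) (flp_f L168376) L175251
theorem L175259 : sm gh N15826 = N15179 := ded_33_2 (flp_d L169061) (flp_h L161399) (flp_d L160648) L168370 L175251
theorem L175261 : sm gc N15108 = N15827 := rfl
theorem L175263 : sm ga N15827 = N15111 := ded_10_1 (flp_c L168404) (flp_a L168380) L175261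
theorem L175265 : sm gg N15827 = N15243 := ded_27_2 (flp_c L169637) (flp_g L168384) L175261
theorem L175267 : sm gh N15827 = N15180 := ded_28_2 (flp_c L169070) (flp_h L168386) L175261
theorem L175269 : sm gc N15110 = N15828 := rfl
theorem L175271 : sm gf N15828 = N15111 := ded_26_2 (flp_c L168404) (flp_f L168400) L175269
theorem L175273 : sm gh N15828 = N15181 := ded_28_2 (flp_c L169077) (flp_h L168402) L175269
theorem L175275 : sm ge N15110 = N15829 := rfl
theorem L175277 : sm gb N15829 = N15112 := ded_19_1 (flp_e L168410) (flp_b L168398) L175275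
theorem L175279 : sm gg N15829 = N15265 := ded_36_2 (flp_e L171382) L171386 L175275
theorem L175281 : sm gh N15829 = N15182 := ded_37_2 (flp_e L169082) (flp_h L168402) L175275
theorem L175283 : sm gb N15111 = N15830 := rfl
theorem L175285 : sm gg N15830 = N15302 := ded_21_2 (flp_b L170058) (flp_g L168406) L175283
theorem L175287 : sm gh N15830 = N15183 := ded_22_2 (flp_b L169090) (flp_h L168408) L175283
theorem L175289 : sm gc N15830 = N15113 := ded_17_2 (flp_b L168420) (flp_c L160704) (flp_b L160680) L168404 L175283
theorem L175291 : sm gh N15117 = N15831 := rfl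
theorem L175293 : sm ga N15831 = N15831 := ded_15_1 (flp_h L175291) L168462 L175291
theorem L175294 : sm gb N15831 = N15400 := ded_22_1 (flp_h L171058) (flp_b L168463) L175291
theorem L175296 : sm ge N15831 = N15326 := ded_37_1 L170239 (flp_e L168467) L175291
theorem L175298 : sm gf N15831 = N15118 := ded_40_1 (flp_h L168471) (flp_f L168469) L175291
theorem L175300 : sm gd N15831 = N15330 := ded_33_1 L170272 L163056 L161971 (flp_d L168465) L175291
theorem L175302 : sm gi N15831 = N15567 := ded_44_2 (flp_h L172818) (flp_i L165846) (flp_h L160781) L168460 L175291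
theorem L175304 : sm gd N15118 = N15832 := rfl
theorem L175306 : sm ga N15832 = N15832 := ded_11_1 (flp_d L175304) L168473 L175304
theorem L175307 : sm gb N15832 = N15402 := ded_18_1 (flp_d L171076) (flp_b L168474) L175304
theorem L175309 : sm gf N15832 = N15330 := ded_31_2 (flp_d L175300) L175298 L175304
theorem L175311 : sm gg N15832 = N15119 := ded_32_2 (flp_d L168482) (flp_g L168478) L175304
theorem L175313 : sm gi N15832 = N15568 := ded_34_2 (flp_d L172825) (flp_i L168480) L175304
theorem L175315 : sm ge N15832 = N15120 := ded_30_2 (flp_d L168491) L160824 (flp_d L160799) (flp_e L168476) L175304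
theorem L175317 : sm gh N15832 = N15210 := ded_33_2 (flp_d L169354) (flp_h L161973) (flp_d L160788) L168471 L175304
theorem L175319 : sm gc N15120 = N15833 := rfl
theorem L175321 : sm ga N15833 = N15833 := ded_10_1 (flp_c L175319) L168493 L175319
theorem L175322 : sm gf N15833 = N15334 := ded_26_2 L170297 (flp_f L168494) L175319
theorem L175324 : sm gg N15833 = N15132 := ded_27_2 (flp_c L168608) (flp_g L168496) L175319
theorem L175326 : sm gh N15833 = N15211 := ded_28_2 (flp_c L169368) (flp_h L168498) L175319
theorem L175328 : sm gd N15833 = N15325 := ded_24_2 (flp_c L170228) (flp_d L162982) (flp_c L160822) L168491 L175319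
theorem L175330 : sm gi N15121 = N15834 := rfl
theorem L175332 : sm ga N15834 = N15125 := ded_16_1 (flp_i L168546) (flp_a L168502) L175330
theorem L175334 : sm gb N15834 = N15834 := ded_23_1 (flp_i L175330) L168504 L175330
theorem L175335 : sm gd N15834 = N15834 := ded_34_1 (flp_i L175330) L168505 L175330
theorem L175336 : sm ge N15834 = N15192 := ded_38_1 L169207 (flp_e L168508) L175330
theorem L175338 : sm gf N15834 = N15122 := ded_41_1 (flp_i L168512) L168500 L175330
theorem L175340 : sm gg N15834 = N15198 := ded_43_1 (flp_i L169270) L168510 L175330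
theorem L175342 : sm gh N15122 = N15835 := rfl
theorem L175344 : sm ga N15835 = N15126 := ded_15_1 (flp_h L168555) (flp_a L168514) L175342
theorem L175346 : sm gb N15835 = N15835 := ded_22_1 (flp_h L175342) L168516 L175342
theorem L175347 : sm ge N15835 = N15123 := ded_37_1 (flp_h L168522) (flp_e L168518) L175342
theorem L175349 : sm gg N15835 = N15223 := ded_42_1 (flp_h L169481) (flp_g L168520) L175342
theorem L175351 : sm gi N15835 = N15595 := ded_44_2 (flp_h L173127) (flp_i L166220) (flp_h L160835) L168512 L175342
theorem L175353 : sm gi N15124 = N15836 := rfl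
theorem L175355 : sm ga N15836 = N15198 := ded_16_1 (flp_i L169270) (flp_a L168535) L175353
theorem L175357 : sm gb N15836 = N15127 := ded_23_1 (flp_i L168565) (flp_b L168537) L175353
theorem L175359 : sm gd N15836 = N15836 := ded_34_1 (flp_i L175353) L168539 L175353
theorem L175360 : sm ge N15836 = N15189 := ded_38_1 (flp_i L169159) (flp_e L168540) L175353
theorem L175362 : sm gf N15836 = N15275 := ded_41_1 (flp_i L169885) (flp_f L168544) L175353
theorem L175364 : sm gg N15836 = N15125 := ded_43_1 (flp_i L168546) L168533 L175353
theorem L175366 : sm gd N15126 = N15837 := rfl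
theorem L175368 : sm gb N15837 = N15129 := ded_18_1 (flp_d L168588) (flp_b L168557) L175366
theorem L175370 : sm gg N15837 = N15277 := ded_32_2 (flp_d L169904) (flp_g L168561) L175366
theorem L175372 : sm gi N15837 = N15717 := ded_34_2 (flp_d L174279) (flp_i L168563) L175366
theorem L175374 : sm gh N15837 = N15837 := ded_33_2 (flp_d L175366) (flp_h L168555) L160860 L168555 L175366
theorem L175375 : sm gh N15127 = N15838 := rfl
theorem L175377 : sm ga N15838 = N15838 := ded_15_1 (flp_h L175375) L168567 L175375
theorem L175378 : sm gc N15838 = N15130 := ded_28_1 (flp_h L168596) (flp_c L168568) L175375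
theorem L175380 : sm ge N15838 = N15168 := ded_37_1 L168955 (flp_e L168571) L175375
theorem L175382 : sm gf N15838 = N15323 := ded_40_1 (flp_h L170209) (flp_f L168573) L175375
theorem L175384 : sm gg N15838 = N15128 := ded_42_1 (flp_h L168577) (flp_g L168575) L175375
theorem L175386 : sm gi N15838 = N15170 := ded_44_2 L168971 L161277 (flp_h L160881) L168565 L175375
theorem L175388 : sm gc N15129 = N15839 := rfl
theorem L175390 : sm ga N15839 = N15839 := ded_10_1 (flp_c L175388) L168590 L175388
theorem L175391 : sm gg N15839 = N15325 := ded_27_2 (flp_c L170228) (flp_g L168591) L175388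
theorem L175393 : sm gh N15839 = N15839 := ded_28_2 (flp_c L175388) L168595 L175388
theorem L175394 : sm gi N15839 = N15833 := ded_29_2 (flp_c L175319) (flp_i L168593) L175388
theorem L175396 : sm gd N15839 = N15132 := ded_24_2 (flp_c L168608) (flp_d L160918) (flp_c L160898) L168588 L175388
theorem L175398 : sm gd N15130 = N15840 := rfl
theorem L175400 : sm ga N15840 = N15840 := ded_11_1 (flp_d L175398) L168598 L175398
theorem L175401 : sm gf N15840 = N15159 := ded_31_2 (flp_d L168973) (flp_f L168975) L175398
theorem L175403 : sm gg N15840 = N15131 := ded_32_2 (flp_d L168601) (flp_g L168599) L175398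
theorem L175405 : sm gh N15840 = N15163 := ded_33_2 L168897 L161165 (flp_d L160909) L168596 L175398
theorem L175407 : sm gc N15131 = N15841 := rfl
theorem L175409 : sm ga N15841 = N15841 := ded_10_1 (flp_c L175407) L168603 L175407
theorem L175410 : sm gf N15841 = N15132 := ded_26_2 (flp_c L168608) (flp_f L168604) L175407
theorem L175412 : sm gh N15841 = N15212 := ded_28_2 (flp_c L169379) (flp_h L168606) L175407
theorem L175414 : sm ge N15840 = N15841 := ded_35_5 L175410 L168842 L168836 L168863 (flp_f L175401)
theorem L175416 : sm ge N15131 = N15842 := rfl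
theorem L175418 : sm ga N15842 = N15842 := ded_12_1 (flp_e L175416) L168603 L175416
theorem L175419 : sm gc N15842 = N15840 := ded_25_1 L175414 (flp_c L175407) L175416
theorem L175421 : sm gg N15842 = N15841 := ded_36_2 (flp_e L175414) L175403 L175416
theorem L175423 : sm gh N15842 = N15213 := ded_37_2 (flp_e L169388) (flp_h L168606) L175416
theorem L175425 : sm gb N15132 = N15843 := rfl
theorem L175427 : sm gh N15843 = N15214 := ded_22_2 (flp_b L169399) (flp_h L168611) L175425
theorem L175429 : sm gi N15133 = N15844 := rfl
theorem L175431 : sm ga N15844 = N15142 := ded_16_1 (flp_i L168703) (flp_a L168615) L175429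
theorem L175433 : sm gb N15844 = N15844 := ded_23_1 (flp_i L175429) L168617 L175429
theorem L175434 : sm gd N15844 = N15844 := ded_34_1 (flp_i L175429) L168618 L175429
theorem L175435 : sm ge N15844 = N15136 := ded_38_1 (flp_i L168644) L168613 L175429
theorem L175437 : sm gf N15844 = N15661 := ded_41_1 (flp_i L173747) (flp_f L168619) L175429
theorem L175439 : sm gi N15134 = N15845 := rfl
theorem L175441 : sm ga N15845 = N15143 := ded_16_1 (flp_i L168712) (flp_a L168623) L175439
theorem L175443 : sm gb N15845 = N15845 := ded_23_1 (flp_i L175439) L168625 L175439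
theorem L175444 : sm gd N15845 = N15139 := ded_34_1 (flp_i L168672) (flp_d L168626) L175439
theorem L175446 : sm gf N15845 = N15245 := ded_41_1 (flp_i L169654) (flp_f L168628) L175439
theorem L175448 : sm gg N15845 = N15136 := ded_43_1 (flp_i L168644) L168621 L175439
theorem L175450 : sm gi N15135 = N15846 := rfl
theorem L175452 : sm ga N15846 = N15144 := ded_16_1 (flp_i L168722) (flp_a L168634) L175450
theorem L175454 : sm gb N15846 = N15846 := ded_23_1 (flp_i L175450) L168636 L175450
theorem L175455 : sm gd N15846 = N15846 := ded_34_1 (flp_i L175450) L168643 L175450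
theorem L175456 : sm ge N15846 = N15845 := ded_38_1 (flp_i L175439) (flp_e L168637) L175450
theorem L175458 : sm gf N15846 = N15137 := ded_41_1 (flp_i L168653) (flp_f L168639) L175450
theorem L175460 : sm gg N15846 = N15844 := ded_43_1 (flp_i L175429) (flp_g L168641) L175450
theorem L175462 : sm gh N15136 = N15847 := rfl
theorem L175464 : sm ga N15847 = N15145 := ded_15_1 (flp_h L168733) (flp_a L168646) L175462
theorem L175466 : sm gb N15847 = N15847 := ded_22_1 (flp_h L175462) L168648 L175462
theorem L175467 : sm gf N15847 = N15138 := ded_40_1 (flp_h L168663) (flp_f L168651) L175462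
theorem L175469 : sm gh N15137 = N15848 := rfl
theorem L175471 : sm ga N15848 = N15146 := ded_15_1 (flp_h L168739) (flp_a L168655) L175469
theorem L175473 : sm gb N15848 = N15848 := ded_22_1 (flp_h L175469) L168657 L175469
theorem L175474 : sm ge N15848 = N15665 := ded_37_1 (flp_h L173792) (flp_e L168659) L175469
theorem L175476 : sm gg N15848 = N15248 := ded_42_1 (flp_h L169678) (flp_g L168661) L175469
theorem L175478 : sm gi N15848 = N15138 := ded_44_2 (flp_h L168663) (flp_i L160940) L160930 L168653 L175469
theorem L175480 : sm gd N15138 = N15849 := rfl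
theorem L175482 : sm ga N15849 = N15147 := ded_11_1 (flp_d L168749) (flp_a L168665) L175480
theorem L175484 : sm gb N15849 = N15849 := ded_18_1 (flp_d L175480) L168667 L175480
theorem L175485 : sm gg N15849 = N15249 := ded_32_2 (flp_d L169687) (flp_g L168670) L175480
theorem L175487 : sm gh N15849 = N15141 := ded_33_2 (flp_d L168695) (flp_h L160972) (flp_d L160945) L168663 L175480
theorem L175489 : sm gh N15139 = N15850 := rfl
theorem L175491 : sm ga N15850 = N15148 := ded_15_1 (flp_h L168757) (flp_a L168674) L175489
theorem L175493 : sm gb N15850 = N15850 := ded_22_1 (flp_h L175489) L168676 L175489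
theorem L175494 : sm gc N15850 = N15178 := ded_28_1 (flp_h L169049) (flp_c L168677) L175489
theorem L175496 : sm ge N15850 = N15850 := ded_37_1 (flp_h L175489) L168679 L175489
theorem L175497 : sm gf N15850 = N15250 := ded_40_1 (flp_h L169694) (flp_f L168680) L175489
theorem L175499 : sm gg N15850 = N15140 := ded_42_1 (flp_h L168684) (flp_g L168682) L175489
theorem L175501 : sm gi N15850 = N15850 := ded_44_2 (flp_h L175489) (flp_i L168672) L160959 L168672 L175489
theorem L175502 : sm gd N15140 = N15851 := rfl
theorem L175504 : sm ga N15851 = N15149 := ded_11_1 (flp_d L168769) (flp_a L168686) L175502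
theorem L175506 : sm gb N15851 = N15851 := ded_18_1 (flp_d L175502) L168688 L175502
theorem L175507 : sm gf N15851 = N15141 := ded_31_2 (flp_d L168695) (flp_f L168692) L175502
theorem L175509 : sm gi N15851 = N15851 := ded_34_2 (flp_d L175502) L168694 L175502
theorem L175510 : sm gc N15141 = N15852 := rfl
theorem L175512 : sm ga N15852 = N15150 := ded_10_1 (flp_c L168776) (flp_a L168697) L175510
theorem L175514 : sm gg N15852 = N15252 := ded_27_2 (flp_c L169716) (flp_g L168700) L175510
theorem L175516 : sm gi N15852 = N15852 := ded_29_2 (flp_c L175510) L168702 L175510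
theorem L175517 : sm gd N15852 = N15180 := ded_24_2 (flp_c L169070) (flp_d L161409) (flp_c L160977) L168695 L175510
theorem L175519 : sm gh N15142 = N15853 := rfl
theorem L175521 : sm gb N15853 = N15153 := ded_22_1 (flp_h L168802) (flp_b L168705) L175519
theorem L175523 : sm ge N15853 = N15145 := ded_37_1 (flp_h L168733) (flp_e L168708) L175519
theorem L175525 : sm gf N15853 = N15806 := ded_40_1 (flp_h L175036) (flp_f L168710) L175519
theorem L175527 : sm gh N15143 = N15854 := rfl
theorem L175529 : sm gb N15854 = N15154 := ded_22_1 (flp_h L168809) (flp_b L168714) L175527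
theorem L175531 : sm gf N15854 = N15304 := ded_40_1 (flp_h L170072) (flp_f L168718) L175527
theorem L175533 : sm gg N15854 = N15145 := ded_42_1 (flp_h L168733) (flp_g L168720) L175527
theorem L175535 : sm gi N15854 = N15853 := ded_44_2 (flp_h L175519) (flp_i L168703) L160999 L168712 L175527
theorem L175537 : sm gh N15144 = N15855 := rfl
theorem L175539 : sm gb N15855 = N15155 := ded_22_1 (flp_h L168820) (flp_b L168724) L175537
theorem L175541 : sm ge N15855 = N15854 := ded_37_1 (flp_h L175527) (flp_e L168727) L175537
theorem L175543 : sm gf N15855 = N15146 := ded_40_1 (flp_h L168739) (flp_f L168729) L175537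
theorem L175545 : sm gg N15855 = N15853 := ded_42_1 (flp_h L175519) (flp_g L168731) L175537
theorem L175547 : sm gi N15855 = N15145 := ded_44_2 (flp_h L168733) (flp_i L161012) L161001 L168722 L175537
theorem L175549 : sm gd N15145 = N15856 := rfl
theorem L175551 : sm gb N15856 = N15156 := ded_18_1 (flp_d L168833) (flp_b L168735) L175549
theorem L175553 : sm gf N15856 = N15147 := ded_31_2 (flp_d L168749) (flp_f L168737) L175549
theorem L175555 : sm gh N15856 = N15149 := ded_33_2 (flp_d L168769) (flp_h L161048) (flp_d L161016) L168733 L175549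
theorem L175557 : sm ge N15843 = N15856 := ded_19_0 L175551 (flp_e L168842) L175425
theorem L175559 : sm gd N15146 = N15857 := rfl
theorem L175561 : sm gb N15857 = N15157 := ded_18_1 (flp_d L168844) (flp_b L168741) L175559
theorem L175563 : sm gg N15857 = N15307 := ded_32_2 (flp_d L170094) (flp_g L168745) L175559
theorem L175565 : sm gi N15857 = N15147 := ded_34_2 (flp_d L168749) (flp_i L168747) L175559
theorem L175567 : sm gh N15857 = N15857 := ded_33_2 (flp_d L175559) (flp_h L168739) L161024 L168739 L175559
theorem L175568 : sm gc N15147 = N15858 := rfl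
theorem L175570 : sm gg N15858 = N15308 := ded_27_2 (flp_c L170101) (flp_g L168753) L175568
theorem L175572 : sm gh N15858 = N15150 := ded_28_2 (flp_c L168776) (flp_h L168755) L175568
theorem L175574 : sm ge N15147 = N15859 := rfl
theorem L175576 : sm gb N15859 = N15159 := ded_19_1 (flp_e L168863) (flp_b L168751) L175574
theorem L175578 : sm gg N15859 = N15309 := ded_36_2 (flp_e L170105) (flp_g L168753) L175574
theorem L175580 : sm gh N15859 = N15151 := ded_37_2 (flp_e L168783) (flp_h L168755) L175574
theorem L175582 : sm gd N15859 = N15811 := ded_30_1 (flp_e L175092) (flp_d L168175) (flp_e L161033) L168749 L175574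
theorem L175584 : sm gd N15148 = N15860 := rfl
theorem L175586 : sm gb N15860 = N15160 := ded_18_1 (flp_d L168870) (flp_b L168759) L175584
theorem L175588 : sm gf N15860 = N15310 := ded_31_2 (flp_d L170113) (flp_f L168764) L175584
theorem L175590 : sm gg N15860 = N15149 := ded_32_2 (flp_d L168769) (flp_g L168766) L175584
theorem L175592 : sm gi N15860 = N15860 := ded_34_2 (flp_d L175584) L168768 L175584
theorem L175593 : sm gc N15149 = N15861 := rfl
theorem L175595 : sm gf N15861 = N15150 := ded_26_2 (flp_c L168776) (flp_f L168773) L175593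
theorem L175597 : sm gi N15861 = N15861 := ded_29_2 (flp_c L175593) L168775 L175593
theorem L175598 : sm gd N15861 = N15181 := ded_24_2 (flp_c L169077) (flp_d L161428) (flp_c L161052) L168769 L175593
theorem L175600 : sm gb N15150 = N15862 := rfl
theorem L175602 : sm gd N15862 = N15183 := ded_18_2 (flp_b L169090) (flp_d L168781) L175600
theorem L175604 : sm gg N15862 = N15313 := ded_21_2 (flp_b L170138) (flp_g L168778) L175600
theorem L175606 : sm gi N15862 = N15862 := ded_23_2 (flp_b L175600) L168780 L175600
theorem L175607 : sm gc N15862 = N15161 := ded_17_2 (flp_b L168878) (flp_c L161145) (flp_b L161060) L168776 L175600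
theorem L175609 : sm ge N15150 = N15863 := rfl
theorem L175611 : sm gc N15863 = N15151 := ded_25_1 (flp_e L168783) L168776 L175609
theorem L175613 : sm gg N15863 = N15314 := ded_36_2 (flp_e L170145) (flp_g L168778) L175609
theorem L175615 : sm gi N15863 = N15863 := ded_38_2 (flp_e L175609) L168780 L175609
theorem L175616 : sm gf N15151 = N15864 := rfl
theorem L175618 : sm gb N15864 = N15163 := ded_20_1 (flp_f L168894) (flp_b L168785) L175616
theorem L175620 : sm gd N15864 = N15152 := ded_31_1 (flp_f L168792) (flp_d L168790) L175616
theorem L175622 : sm gi N15864 = N15864 := ded_41_2 (flp_f L175616) L168789 L175616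
theorem L175623 : sm gg N15864 = N15202 := ded_39_2 L169306 (flp_g L169230) L169228 (flp_g L168787) L175616
theorem L175625 : sm gd N15153 = N15865 := rfl
theorem L175627 : sm ga N15865 = N15865 := ded_11_1 (flp_d L175625) L168804 L175625
theorem L175628 : sm gg N15865 = N15574 := ded_32_2 L172902 L168829 L175625
theorem L175630 : sm gc N15865 = N15568 := ded_24_1 (flp_d L172825) L169028 (flp_d L169019) (flp_c L168805) L175625
theorem L175632 : sm ge N15865 = N15839 := ded_30_2 L175396 L168842 (flp_d L168833) (flp_e L168807) L175625
theorem L175634 : sm gh N15865 = N15865 := ded_33_2 (flp_d L175625) (flp_h L168802) L161079 L168802 L175625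
theorem L175635 : sm gd N15154 = N15866 := rfl
theorem L175637 : sm ga N15866 = N15866 := ded_11_1 (flp_d L175635) L168811 L175635
theorem L175638 : sm gf N15866 = N15327 := ded_31_2 (flp_d L170241) (flp_f L168814) L175635
theorem L175640 : sm gg N15866 = N15156 := ded_32_2 (flp_d L168833) (flp_g L168816) L175635
theorem L175642 : sm gi N15866 = N15865 := ded_34_2 (flp_d L175625) (flp_i L168818) L175635
theorem L175644 : sm gc N15866 = N15832 := ded_24_1 (flp_d L175304) L169041 (flp_d L169030) (flp_c L168812) L175635
theorem L175646 : sm ge N15866 = N15833 := ded_30_2 L175328 (flp_e L172895) L172902 L168825 L175635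
theorem L175648 : sm gh N15866 = N15160 := ded_33_2 (flp_d L168870) (flp_h L161128) (flp_d L161087) L168809 L175635
theorem L175650 : sm ge N15157 = N15867 := rfl
theorem L175652 : sm ga N15867 = N15867 := ded_12_1 (flp_e L175650) L168846 L175650
theorem L175653 : sm gg N15867 = N15332 := ded_36_2 (flp_e L170280) (flp_g L168847) L175650
theorem L175655 : sm gh N15867 = N15867 := ded_37_2 (flp_e L175650) L168851 L175650
theorem L175656 : sm gi N15867 = N15159 := ded_38_2 (flp_e L168863) (flp_i L168849) L175650
theorem L175658 : sm gd N15867 = N15838 := ded_30_1 L175380 (flp_d L168948) L161231 L168844 L175650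
theorem L175660 : sm gb N15158 = N15868 := rfl
theorem L175662 : sm gd N15868 = N15177 := ded_18_2 (flp_b L169043) (flp_d L168861) L175660
theorem L175664 : sm gf N15868 = N15692 := ded_20_2 L174070 (flp_f L168855) L175660
theorem L175666 : sm gg N15868 = N15333 := ded_21_2 (flp_b L170290) (flp_g L168857) L175660
theorem L175668 : sm gh N15868 = N15161 := ded_22_2 (flp_b L168878) (flp_h L168859) L175660
theorem L175670 : sm ge N15158 = N15869 := rfl
theorem L175672 : sm ga N15869 = N15869 := ded_12_1 (flp_e L175670) L168854 L175670
theorem L175673 : sm gc N15869 = N15159 := ded_25_1 (flp_e L168863) L168852 L175670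
theorem L175675 : sm gg N15869 = N15334 := ded_36_2 (flp_e L170294) (flp_g L168857) L175670
theorem L175677 : sm gh N15869 = N15162 := ded_37_2 (flp_e L168885) (flp_h L168859) L175670
theorem L175679 : sm gf N15869 = N15842 := ded_35_2 (flp_e L175416) L168604 (flp_e L168487) (flp_f L168855) L175670
theorem L175681 : sm ge N15161 = N15870 := rfl
theorem L175683 : sm gb N15870 = N15162 := ded_19_1 (flp_e L168885) L168878 L175681
theorem L175685 : sm gg N15870 = N15337 := ded_36_2 (flp_e L170318) (flp_g L168882) L175681
theorem L175687 : sm gi N15870 = N15870 := ded_38_2 (flp_e L175681) L168884 L175681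
theorem L175688 : sm gd N15870 = N15870 := ded_30_1 (flp_e L175681) L168880 L161173 (flp_d L168880) L175681
theorem L175689 : sm gd N15164 = N15871 := rfl
theorem L175691 : sm ga N15871 = N15871 := ded_11_1 (flp_d L175689) L168904 L175689
theorem L175692 : sm gf N15871 = N15865 := ded_31_2 (flp_d L175625) (flp_f L168909) L175689
theorem L175694 : sm gg N15871 = N15328 := ded_32_2 (flp_d L170248) (flp_g L168911) L175689
theorem L175696 : sm gi N15871 = N15327 := ded_34_2 (flp_d L170241) (flp_i L168913) L175689
theorem L175698 : sm gh N15871 = N15871 := ded_33_2 (flp_d L175689) (flp_h L168902) L161186 L168902 L175689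
theorem L175699 : sm gd N15165 = N15872 := rfl
theorem L175701 : sm ga N15872 = N15872 := ded_11_1 (flp_d L175699) L168917 L175699
theorem L175702 : sm gf N15872 = N15176 := ded_31_2 (flp_d L169030) (flp_f L168922) L175699
theorem L175704 : sm gg N15872 = N15167 := ded_32_2 (flp_d L168941) (flp_g L168924) L175699
theorem L175706 : sm gi N15872 = N15326 := ded_34_2 (flp_d L170234) (flp_i L168926) L175699
theorem L175708 : sm gc N15872 = N15831 := ded_24_1 L175300 L170268 (flp_d L170241) (flp_c L168918) L175699
theorem L175710 : sm gh N15872 = N15171 := ded_33_2 (flp_d L168977) (flp_h L161244) (flp_d L161198) L168915 L175699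
theorem L175712 : sm ge N15567 = N15872 := ded_35_5 L175702 L169037 L165784 (flp_e L165857) (flp_f L172823)
theorem L175714 : sm gd N15166 = N15873 := rfl
theorem L175716 : sm ga N15873 = N15873 := ded_11_1 (flp_d L175714) L168930 L175714
theorem L175717 : sm gf N15873 = N15168 := ded_31_2 (flp_d L168948) (flp_f L168935) L175714
theorem L175719 : sm gg N15873 = N15326 := ded_32_2 (flp_d L170234) (flp_g L168937) L175714
theorem L175721 : sm gi N15873 = N15167 := ded_34_2 (flp_d L168941) (flp_i L168939) L175714
theorem L175723 : sm gh N15873 = N15215 := ded_33_2 (flp_d L169405) (flp_h L162047) (flp_d L161211) L168928 L175714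
theorem L175725 : sm gc N15167 = N15874 := rfl
theorem L175727 : sm ga N15874 = N15874 := ded_10_1 (flp_c L175725) L168943 L175725
theorem L175728 : sm gf N15874 = N15169 := ded_26_2 (flp_c L168957) (flp_f L168944) L175725
theorem L175730 : sm gg N15874 = N15831 := ded_27_2 (flp_c L175708) L175704 L175725
theorem L175732 : sm gh N15874 = N15172 := ded_28_2 (flp_c L168990) (flp_h L168946) L175725
theorem L175734 : sm gd N15874 = N15329 := ded_24_2 (flp_c L170256) (flp_d L163007) (flp_c L161222) L168941 L175725
theorem L175736 : sm ge N15873 = N15874 := ded_35_5 L175728 (flp_e L170214) (flp_f L175382) L175380 (flp_f L175717)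
theorem L175738 : sm ge N15167 = N15875 := rfl
theorem L175740 : sm ga N15875 = N15875 := ded_12_1 (flp_e L175738) L168943 L175738
theorem L175741 : sm gc N15875 = N15873 := ded_25_1 L175736 (flp_c L175725) L175738
theorem L175743 : sm gg N15875 = N15567 := ded_36_2 L175712 L175704 L175738
theorem L175745 : sm gh N15875 = N15173 := ded_37_2 (flp_e L169001) (flp_h L168946) L175738
theorem L175747 : sm gi N15875 = N15874 := ded_38_2 (flp_e L175736) L175721 L175738
theorem L175749 : sm gf N15875 = N15572 := ded_35_2 L172872 L168975 (flp_e L168966) (flp_f L168944) L175738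
theorem L175751 : sm gb N15169 = N15876 := rfl
theorem L175753 : sm gd N15876 = N15333 := ded_18_2 (flp_b L170290) (flp_d L168964) L175751
theorem L175755 : sm gg N15876 = N15177 := ded_21_2 (flp_b L169043) (flp_g L168960) L175751
theorem L175757 : sm gh N15876 = N15174 := ded_22_2 (flp_b L169011) (flp_h L168962) L175751
theorem L175759 : sm gc N15179 = N15877 := rfl
theorem L175761 : sm ga N15877 = N15181 := ded_10_1 (flp_c L169077) (flp_a L169063) L175759
theorem L175763 : sm gf N15877 = N15180 := ded_26_2 (flp_c L169070) (flp_f L169067) L175759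
theorem L175765 : sm gi N15877 = N15877 := ded_29_2 (flp_c L175759) L169069 L175759
theorem L175766 : sm gb N15180 = N15878 := rfl
theorem L175768 : sm ge N15878 = N15181 := ded_19_2 (flp_b L171035) L171028 L175766
theorem L175770 : sm gg N15878 = N15255 := ded_21_2 (flp_b L169742) (flp_g L169074) L175766
theorem L175772 : sm gi N15878 = N15878 := ded_23_2 (flp_b L175766) L169076 L175766
theorem L175773 : sm gc N15878 = N15182 := ded_17_2 L169084 L161444 (flp_b L161413) L169070 L175766
theorem L175775 : sm gd N15184 = N15879 := rfl
theorem L175777 : sm ga N15879 = N15202 := ded_11_1 (flp_d L169302) (flp_a L169099) L175775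
theorem L175779 : sm gb N15879 = N15879 := ded_18_1 (flp_d L175775) L169101 L175775
theorem L175780 : sm gf N15879 = N15185 := ded_31_2 (flp_d L169108) (flp_f L169105) L175775
theorem L175782 : sm gi N15879 = N15879 := ded_34_2 (flp_d L175775) L169107 L175775
theorem L175783 : sm gc N15185 = N15880 := rfl
theorem L175785 : sm ga N15880 = N15203 := ded_10_1 (flp_c L169309) (flp_a L169110) L175783
theorem L175787 : sm ge N15880 = N15527 := ded_25_2 (flp_c L172402) (flp_e L169116) L175783
theorem L175789 : sm gg N15880 = N15541 := ded_27_2 L172503 (flp_g L169113) L175783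
theorem L175791 : sm gi N15880 = N15880 := ded_29_2 (flp_c L175783) L169115 L175783
theorem L175792 : sm gd N15880 = N15863 := ded_24_2 L175611 L168790 (flp_c L161500) L169108 L175783
theorem L175794 : sm gi N15188 = N15881 := rfl
theorem L175796 : sm ga N15881 = N15206 := ded_16_1 (flp_i L169329) (flp_a L169147) L175794
theorem L175798 : sm gb N15881 = N15215 := ded_23_1 L169412 (flp_b L169149) L175794
theorem L175800 : sm gd N15881 = N15190 := ded_34_1 (flp_i L169169) (flp_d L169157) L175794
theorem L175802 : sm ge N15881 = N15398 := ded_38_1 (flp_i L171037) (flp_e L169151) L175794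
theorem L175804 : sm gf N15881 = N15189 := ded_41_1 (flp_i L169159) (flp_f L169153) L175794
theorem L175806 : sm gg N15881 = N15319 := ded_43_1 L170180 (flp_g L169155) L175794
theorem L175808 : sm gc N15193 = N15882 := rfl
theorem L175810 : sm ga N15882 = N15527 := ded_10_1 (flp_c L172402) (flp_a L169211) L175808
theorem L175812 : sm ge N15882 = N15203 := ded_25_2 (flp_c L169309) (flp_e L169220) L175808
theorem L175814 : sm gf N15882 = N15862 := ded_26_2 L175607 (flp_f L169215) L175808
theorem L175816 : sm gg N15882 = N15403 := ded_27_2 (flp_c L171082) (flp_g L169217) L175808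
theorem L175818 : sm gi N15882 = N15882 := ded_29_2 (flp_c L175808) L169219 L175808
theorem L175819 : sm gb N15882 = N15861 := ded_17_1 (flp_c L175593) L168771 (flp_c L161993) (flp_b L169213) L175808
theorem L175821 : sm gd N15882 = N15397 := ded_24_2 (flp_c L171024) (flp_d L163637) (flp_c L161727) L169209 L175808
theorem L175823 : sm gc N15194 = N15883 := rfl
theorem L175825 : sm ga N15883 = N15541 := ded_10_1 L172503 (flp_a L169224) L175823
theorem L175827 : sm ge N15883 = N15403 := ded_25_2 (flp_c L171082) (flp_e L169233) L175823
theorem L175829 : sm gf N15883 = N15314 := ded_26_2 L170147 (flp_f L169228) L175823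
theorem L175831 : sm gg N15883 = N15203 := ded_27_2 (flp_c L169309) (flp_g L169230) L175823
theorem L175833 : sm gi N15883 = N15883 := ded_29_2 (flp_c L175823) L169232 L175823
theorem L175834 : sm gi N15195 = N15884 := rfl
theorem L175836 : sm ga N15884 = N15447 := ded_16_1 (flp_i L171631) (flp_a L169237) L175834
theorem L175838 : sm gb N15884 = N15884 := ded_23_1 (flp_i L175834) L169239 L175834
theorem L175839 : sm gd N15884 = N15884 := ded_34_1 (flp_i L175834) L169242 L175834
theorem L175840 : sm ge N15884 = N15197 := ded_38_1 (flp_i L169259) L169235 L175834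
theorem L175842 : sm gf N15884 = N15204 := ded_41_1 (flp_i L169312) (flp_f L169243) L175834
theorem L175844 : sm gg N15884 = N15345 := ded_43_1 (flp_i L170410) (flp_g L169240) L175834
theorem L175846 : sm gi N15196 = N15885 := rfl
theorem L175848 : sm ga N15885 = N15275 := ded_16_1 (flp_i L169885) (flp_a L169249) L175846
theorem L175850 : sm gb N15885 = N15885 := ded_23_1 (flp_i L175846) L169251 L175846
theorem L175851 : sm gd N15885 = N15885 := ded_34_1 (flp_i L175846) L169258 L175846
theorem L175852 : sm ge N15885 = N15523 := ded_38_1 (flp_i L172367) (flp_e L169252) L175846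
theorem L175854 : sm gf N15885 = N15198 := ded_41_1 (flp_i L169270) (flp_f L169254) L175846
theorem L175856 : sm gg N15885 = N15222 := ded_43_1 (flp_i L169471) (flp_g L169256) L175846
theorem L175858 : sm gh N15197 = N15886 := rfl
theorem L175860 : sm ga N15886 = N15736 := ded_15_1 (flp_h L174467) (flp_a L169261) L175858
theorem L175862 : sm gb N15886 = N15886 := ded_22_1 (flp_h L175858) L169263 L175858
theorem L175863 : sm gf N15886 = N15199 := ded_40_1 (flp_h L169276) (flp_f L169266) L175858
theorem L175865 : sm gg N15886 = N15606 := ded_42_1 (flp_h L173235) (flp_g L169268) L175858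
theorem L175867 : sm gh N15198 = N15887 := rfl
theorem L175869 : sm gb N15887 = N15887 := ded_22_1 (flp_h L175867) L169272 L175867
theorem L175870 : sm ge N15887 = N15208 := ded_37_1 (flp_h L169345) (flp_e L169274) L175867
theorem L175872 : sm gi N15887 = N15199 := ded_44_2 (flp_h L169276) (flp_i L161779) L161773 L169270 L175867
theorem L175874 : sm gd N15199 = N15888 := rfl
theorem L175876 : sm ga N15888 = N15859 := ded_11_1 L175582 L175094 L175874
theorem L175878 : sm gb N15888 = N15888 := ded_18_1 (flp_d L175874) L169278 L175874
theorem L175879 : sm ge N15888 = N15849 := ded_30_2 (flp_d L175480) L168668 L166824 (flp_e L169279) L175874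
theorem L175881 : sm gh N15888 = N15201 := ded_33_2 (flp_d L169294) (flp_h L161796) (flp_d L161782) L169276 L175874
theorem L175883 : sm gd N15200 = N15889 := rfl
theorem L175885 : sm ga N15889 = N15864 := ded_11_1 L175620 (flp_a L169283) L175883
theorem L175887 : sm gb N15889 = N15889 := ded_18_1 (flp_d L175883) L169285 L175883
theorem L175888 : sm gf N15889 = N15201 := ded_31_2 (flp_d L169294) (flp_f L169289) L175883
theorem L175890 : sm gg N15889 = N15879 := ded_32_2 (flp_d L175775) (flp_g L169291) L175883
theorem L175892 : sm gi N15889 = N15889 := ded_34_2 (flp_d L175883) L169293 L175883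
theorem L175893 : sm gc N15201 = N15890 := rfl
theorem L175895 : sm ga N15890 = N15863 := ded_10_1 L175611 (flp_a L169296) L175893
theorem L175897 : sm ge N15890 = N15852 := ded_25_2 (flp_c L175510) (flp_e L169300) L175893
theorem L175899 : sm gi N15890 = N15890 := ded_29_2 (flp_c L175893) L169299 L175893
theorem L175900 : sm gd N15890 = N15203 := ded_24_2 (flp_c L169309) (flp_d L161827) (flp_c L161801) L169294 L175893
theorem L175902 : sm gc N15202 = N15891 := rfl
theorem L175904 : sm gf N15891 = N15203 := ded_26_2 (flp_c L169309) (flp_f L169306) L175902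
theorem L175906 : sm gi N15891 = N15891 := ded_29_2 (flp_c L175902) L169308 L175902
theorem L175907 : sm ge N15202 = N15892 := rfl
theorem L175909 : sm gb N15892 = N15213 := ded_19_1 (flp_e L169388) (flp_b L169304) L175907
theorem L175911 : sm gi N15892 = N15892 := ded_38_2 (flp_e L175907) L169308 L175907
theorem L175912 : sm gd N15892 = N15892 := ded_30_1 (flp_e L175907) (flp_d L169302) L161823 L169302 L175907
theorem L175913 : sm gf N15892 = N15870 := ded_35_2 (flp_e L175681) (flp_f L169215) L169220 (flp_f L169306) L175907
theorem L175915 : sm gb N15203 = N15893 := rfl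
theorem L175917 : sm ge N15893 = N15861 := ded_19_2 (flp_b L175819) L175812 L175915
theorem L175919 : sm gi N15893 = N15893 := ded_23_2 (flp_b L175915) L169311 L175915
theorem L175920 : sm gc N15893 = N15214 := ded_17_2 (flp_b L169399) (flp_c L162011) (flp_b L161829) L169309 L175915
theorem L175922 : sm gh N15204 = N15894 := rfl
theorem L175924 : sm gb N15894 = N15894 := ded_22_1 (flp_h L175922) L169314 L175922
theorem L175925 : sm ge N15894 = N15207 := ded_37_1 (flp_h L169340) (flp_e L169316) L175922
theorem L175927 : sm gg N15894 = N15533 := ded_42_1 (flp_h L172449) (flp_g L169318) L175922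
theorem L175929 : sm gi N15894 = N15532 := ded_44_2 (flp_h L172444) (flp_i L165173) L161847 L169312 L175922
theorem L175931 : sm gh N15205 = N15895 := rfl
theorem L175933 : sm gb N15895 = N15895 := ded_22_1 (flp_h L175931) L169322 L175931
theorem L175934 : sm ge N15895 = N15533 := ded_37_1 (flp_h L172449) (flp_e L169325) L175931
theorem L175936 : sm gg N15895 = N15207 := ded_42_1 (flp_h L169340) (flp_g L169327) L175931
theorem L175938 : sm gi N15895 = N15531 := ded_44_2 (flp_h L172439) (flp_i L165166) L161841 L169320 L175931
theorem L175940 : sm gh N15206 = N15896 := rfl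
theorem L175942 : sm gb N15896 = N15896 := ded_22_1 (flp_h L175940) L169331 L175940
theorem L175943 : sm ge N15896 = N15532 := ded_37_1 (flp_h L172444) (flp_e L169334) L175940
theorem L175945 : sm gf N15896 = N15208 := ded_40_1 (flp_h L169345) (flp_f L169336) L175940
theorem L175947 : sm gg N15896 = N15531 := ded_42_1 (flp_h L172439) (flp_g L169338) L175940
theorem L175949 : sm gi N15896 = N15207 := ded_44_2 (flp_h L169340) (flp_i L161860) L161849 L169329 L175940
theorem L175951 : sm gb N15211 = N15897 := rfl
theorem L175953 : sm gd N15897 = N15897 := ded_18_2 (flp_b L175951) L169378 L175951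
theorem L175954 : sm ge N15897 = N15860 := ded_19_2 L175586 (flp_e L169371) L175951
theorem L175956 : sm gf N15897 = N15337 := ded_20_2 L170320 (flp_f L169373) L175951
theorem L175958 : sm gg N15897 = N15214 := ded_21_2 (flp_b L169399) (flp_g L169375) L175951
theorem L175960 : sm gi N15897 = N15897 := ded_23_2 (flp_b L175951) L169377 L175951
theorem L175961 : sm gb N15212 = N15898 := rfl
theorem L175963 : sm gd N15898 = N15898 := ded_18_2 (flp_b L175961) L169385 L175961
theorem L175964 : sm ge N15898 = N15864 := ded_19_2 L175618 L169386 L175961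
theorem L175966 : sm gf N15898 = N15214 := ded_20_2 (flp_b L169399) (flp_f L169382) L175961
theorem L175968 : sm gg N15898 = N15892 := ded_21_2 L175909 L169393 L175961
theorem L175970 : sm gi N15898 = N15898 := ded_23_2 (flp_b L175961) L169384 L175961
theorem L175971 : sm ga N15214 = N15899 := rfl
theorem L175973 : sm gd N15899 = N15899 := ded_11_2 (flp_a L175971) L169401 L175971
theorem L175974 : sm ge N15899 = N15851 := ded_12_2 L175504 (flp_e L169402) L175971
theorem L175976 : sm gi N15899 = N15899 := ded_16_2 (flp_a L175971) L169404 L175971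
theorem L175977 : sm gb N15899 = N15899 := ded_9_2 (flp_a L175971) (flp_b L169399) L162013 L169399 L175971
theorem L175978 : sm gi N15216 = N15900 := rfl
theorem L175980 : sm gb N15900 = N15220 := ded_23_1 (flp_i L169455) (flp_b L169420) L175978
theorem L175982 : sm gc N15900 = N15900 := ded_29_1 (flp_i L175978) L169422 L175978
theorem L175983 : sm ge N15900 = N15217 := ded_38_1 (flp_i L169425) L169418 L175978
theorem L175985 : sm gh N15217 = N15901 := rfl
theorem L175987 : sm gb N15901 = N15221 := ded_22_1 (flp_h L169463) (flp_b L169427) L175985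
theorem L175989 : sm gc N15901 = N15901 := ded_28_1 (flp_h L175985) L169429 L175985
theorem L175990 : sm gi N15901 = N15600 := ded_44_2 (flp_h L173180) (flp_i L166256) (flp_h L162117) L169425 L175985
theorem L175992 : sm gi N15218 = N15902 := rfl
theorem L175994 : sm ga N15902 = N15270 := ded_16_1 (flp_i L169842) (flp_a L169434) L175992
theorem L175996 : sm gc N15902 = N15902 := ded_29_1 (flp_i L175992) L169436 L175992
theorem L175997 : sm gd N15902 = N15220 := ded_34_1 (flp_i L169455) L169432 L175992
theorem L175999 : sm ge N15902 = N15226 := ded_38_1 (flp_i L169505) (flp_e L169437) L175992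
theorem L176001 : sm gf N15902 = N15900 := ded_41_1 (flp_i L175978) L169439 L175992
theorem L176003 : sm gi N15219 = N15903 := rfl
theorem L176005 : sm ga N15903 = N15272 := ded_16_1 (flp_i L169861) (flp_a L169443) L176003
theorem L176007 : sm gb N15903 = N15902 := ded_23_1 (flp_i L175992) (flp_b L169445) L176003
theorem L176009 : sm gc N15903 = N15222 := ded_29_1 (flp_i L169471) (flp_c L169447) L176003
theorem L176011 : sm gd N15903 = N15900 := ded_34_1 (flp_i L175978) (flp_d L169449) L176003
theorem L176013 : sm ge N15903 = N15485 := ded_38_1 (flp_i L172046) (flp_e L169453) L176003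
theorem L176015 : sm gf N15903 = N15220 := ded_41_1 (flp_i L169455) L169441 L176003
theorem L176017 : sm gh N15220 = N15904 := rfl
theorem L176019 : sm ga N15904 = N15273 := ded_15_1 (flp_h L169871) (flp_a L169457) L176017
theorem L176021 : sm gc N15904 = N15223 := ded_28_1 (flp_h L169481) (flp_c L169459) L176017
theorem L176023 : sm ge N15904 = N15221 := ded_37_1 (flp_h L169463) (flp_e L169461) L176017
theorem L176025 : sm gi N15904 = N15604 := ded_44_2 (flp_h L173221) (flp_i L166279) (flp_h L162126) L169455 L176017
theorem L176027 : sm gd N15221 = N15905 := rfl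
theorem L176029 : sm ga N15905 = N15274 := ded_11_1 (flp_d L169879) (flp_a L169465) L176027
theorem L176031 : sm gi N15905 = N15605 := ded_34_2 (flp_d L173229) (flp_i L169469) L176027
theorem L176033 : sm gh N15905 = N15228 := ded_33_2 (flp_d L169522) (flp_h L162180) (flp_d L162134) L169463 L176027
theorem L176035 : sm gh N15222 = N15906 := rfl
theorem L176037 : sm ga N15906 = N15276 := ded_15_1 (flp_h L169894) (flp_a L169473) L176035
theorem L176039 : sm gb N15906 = N15906 := ded_22_1 (flp_h L176035) L169475 L176035
theorem L176040 : sm ge N15906 = N15524 := ded_37_1 (flp_h L172378) (flp_e L169477) L176035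
theorem L176042 : sm gf N15906 = N15223 := ded_40_1 (flp_h L169481) (flp_f L169479) L176035
theorem L176044 : sm gi N15906 = N15606 := ded_44_2 (flp_h L173235) (flp_i L166293) (flp_h L162142) L169471 L176035
theorem L176046 : sm gd N15223 = N15907 := rfl
theorem L176048 : sm ga N15907 = N15277 := ded_11_1 (flp_d L169904) (flp_a L169483) L176046
theorem L176050 : sm gb N15907 = N15907 := ded_18_1 (flp_d L176046) L169485 L176046
theorem L176051 : sm gi N15907 = N15607 := ded_34_2 (flp_d L173242) (flp_i L169488) L176046
theorem L176053 : sm gh N15907 = N15907 := ded_33_2 (flp_d L176046) (flp_h L169481) L162151 L169481 L176046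
theorem L176054 : sm gd N15224 = N15908 := rfl
theorem L176056 : sm gb N15908 = N15228 := ded_18_1 (flp_d L169522) (flp_b L169492) L176054
theorem L176058 : sm gi N15908 = N15233 := ded_34_2 (flp_d L169561) (flp_i L169496) L176054
theorem L176060 : sm gi N15225 = N15909 := rfl
theorem L176062 : sm ga N15909 = N15281 := ded_16_1 (flp_i L169938) (flp_a L169500) L176060
theorem L176064 : sm gc N15909 = N15909 := ded_29_1 (flp_i L176060) L169502 L176060
theorem L176065 : sm gd N15909 = N15237 := ded_34_1 (flp_i L169593) (flp_d L169503) L176060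
theorem L176067 : sm gh N15226 = N15910 := rfl
theorem L176069 : sm ga N15910 = N15282 := ded_15_1 (flp_h L169943) (flp_a L169507) L176067
theorem L176071 : sm gc N15910 = N15910 := ded_28_1 (flp_h L176067) L169509 L176067
theorem L176072 : sm gd N15227 = N15911 := rfl
theorem L176074 : sm ga N15911 = N15284 := ded_11_1 (flp_d L169954) (flp_a L169514) L176072
theorem L176076 : sm gi N15911 = N15240 := ded_34_2 (flp_d L169617) (flp_i L169520) L176072
theorem L176078 : sm ge N15228 = N15912 := rfl
theorem L176080 : sm ga N15912 = N15285 := ded_12_1 (flp_e L169958) (flp_a L169524) L176078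
theorem L176082 : sm gi N15912 = N15241 := ded_38_2 (flp_e L169621) (flp_i L169526) L176078
theorem L176084 : sm gc N15229 = N15913 := rfl
theorem L176086 : sm ga N15913 = N15287 := ded_10_1 (flp_c L169971) (flp_a L169530) L176084
theorem L176088 : sm gh N15913 = N15913 := ded_28_2 (flp_c L176084) L169536 L176084
theorem L176089 : sm gi N15913 = N15243 := ded_29_2 (flp_c L169637) (flp_i L169534) L176084
theorem L176091 : sm gi N15230 = N15914 := rfl
theorem L176093 : sm gb N15914 = N15237 := ded_23_1 (flp_i L169593) (flp_b L169539) L176091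
theorem L176095 : sm gc N15914 = N15914 := ded_29_1 (flp_i L176091) L169541 L176091
theorem L176096 : sm ge N15914 = N15643 := ded_38_1 (flp_i L173617) (flp_e L169542) L176091
theorem L176098 : sm gh N15231 = N15915 := rfl
theorem L176100 : sm gb N15915 = N15238 := ded_22_1 (flp_h L169601) (flp_b L169546) L176098
theorem L176102 : sm gc N15915 = N15915 := ded_28_1 (flp_h L176098) L169548 L176098
theorem L176103 : sm ge N15915 = N15644 := ded_37_1 (flp_h L173622) (flp_e L169551) L176098
theorem L176105 : sm gd N15232 = N15916 := rfl
theorem L176107 : sm gb N15916 = N15240 := ded_18_1 (flp_d L169617) (flp_b L169555) L176105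
theorem L176109 : sm gc N15233 = N15917 := rfl
theorem L176111 : sm gh N15917 = N15647 := ded_28_2 (flp_c L173639) (flp_h L169565) L176109
theorem L176113 : sm gd N15917 = N15260 := ded_24_2 (flp_c L169773) (flp_d L162465) (flp_c L162217) L169561 L176109
theorem L176115 : sm ge N15233 = N15918 := rfl
theorem L176117 : sm gb N15918 = N15241 := ded_19_1 (flp_e L169621) (flp_b L169563) L176115
theorem L176119 : sm gh N15918 = N15648 := ded_37_2 (flp_e L173643) (flp_h L169565) L176115
theorem L176121 : sm gi N15234 = N15919 := rfl
theorem L176123 : sm ga N15919 = N15288 := ded_16_1 (flp_i L169976) (flp_a L169569) L176121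
theorem L176125 : sm gc N15919 = N15244 := ded_29_1 (flp_i L169643) (flp_c L169571) L176121
theorem L176127 : sm gd N15919 = N15821 := ded_34_1 L175205 L170850 L176121
theorem L176129 : sm ge N15919 = N15236 := ded_38_1 (flp_i L169583) L169567 L176121
theorem L176131 : sm gf N15919 = N15649 := ded_41_1 (flp_i L173647) (flp_f L169573) L176121
theorem L176133 : sm gi N15235 = N15920 := rfl
theorem L176135 : sm ga N15920 = N15290 := ded_16_1 (flp_i L169992) (flp_a L169577) L176133
theorem L176137 : sm gc N15920 = N15246 := ded_29_1 (flp_i L169663) (flp_c L169579) L176133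
theorem L176139 : sm gf N15920 = N15237 := ded_41_1 (flp_i L169593) (flp_f L169581) L176133
theorem L176141 : sm gh N15236 = N15921 := rfl
theorem L176143 : sm ga N15921 = N15291 := ded_15_1 (flp_h L169998) (flp_a L169585) L176141
theorem L176145 : sm gc N15921 = N15247 := ded_28_1 (flp_h L169671) (flp_c L169587) L176141
theorem L176147 : sm gf N15921 = N15238 := ded_40_1 (flp_h L169601) (flp_f L169591) L176141
theorem L176149 : sm gh N15237 = N15922 := rfl
theorem L176151 : sm ga N15922 = N15292 := ded_15_1 (flp_h L170004) (flp_a L169595) L176149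
theorem L176153 : sm gc N15922 = N15248 := ded_28_1 (flp_h L169678) (flp_c L169597) L176149
theorem L176155 : sm ge N15922 = N15653 := ded_37_1 (flp_h L173685) (flp_e L169599) L176149
theorem L176157 : sm gi N15922 = N15238 := ded_44_2 (flp_h L169601) (flp_i L162235) L162227 L169593 L176149
theorem L176159 : sm gd N15238 = N15923 := rfl
theorem L176161 : sm ga N15923 = N15293 := ded_11_1 (flp_d L170012) (flp_a L169603) L176159
theorem L176163 : sm gh N15923 = N15240 := ded_33_2 (flp_d L169617) (flp_h L162253) (flp_d L162241) L169601 L176159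
theorem L176165 : sm gd N15239 = N15924 := rfl
theorem L176167 : sm ga N15924 = N15295 := ded_11_1 (flp_d L170022) (flp_a L169611) L176165
theorem L176169 : sm gf N15924 = N15240 := ded_31_2 (flp_d L169617) (flp_f L169615) L176165
theorem L176171 : sm gc N15240 = N15925 := rfl
theorem L176173 : sm ga N15925 = N15296 := ded_10_1 (flp_c L170026) (flp_a L169619) L176171
theorem L176175 : sm gd N15925 = N15243 := ded_24_2 (flp_c L169637) (flp_d L162275) (flp_c L162257) L169617 L176171
theorem L176177 : sm ge N15240 = N15926 := rfl
theorem L176179 : sm ga N15926 = N15297 := ded_12_1 (flp_e L170030) (flp_a L169619) L176177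
theorem L176181 : sm gd N15926 = N15241 := ded_30_1 (flp_e L169621) (flp_d L162261) (flp_e L162259) L169617 L176177
theorem L176183 : sm gf N15241 = N15927 := rfl
theorem L176185 : sm ga N15927 = N15298 := ded_13_1 (flp_f L170034) (flp_a L169623) L176183
theorem L176187 : sm gh N15927 = N15659 := ded_40_2 (flp_f L173731) (flp_h L169625) L176183
theorem L176189 : sm gc N15242 = N15928 := rfl
theorem L176191 : sm ga N15928 = N15300 := ded_10_1 (flp_c L170046) (flp_a L169629) L176189
theorem L176193 : sm gf N15928 = N15243 := ded_26_2 (flp_c L169637) (flp_f L169633) L176189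
theorem L176195 : sm gh N15928 = N15254 := ded_28_2 (flp_c L169735) (flp_h L169635) L176189
theorem L176197 : sm gb N15243 = N15929 := rfl
theorem L176199 : sm gh N15929 = N15255 := ded_22_2 (flp_b L169742) (flp_h L169641) L176197
theorem L176201 : sm gc N15929 = N15265 := ded_17_2 (flp_b L169805) (flp_c L162490) (flp_b L162279) L169637 L176197
theorem L176203 : sm gh N15244 = N15930 := rfl
theorem L176205 : sm ga N15930 = N15303 := ded_15_1 (flp_h L170064) (flp_a L169645) L176203
theorem L176207 : sm gb N15930 = N15930 := ded_22_1 (flp_h L176203) L169647 L176203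
theorem L176208 : sm ge N15930 = N15247 := ded_37_1 (flp_h L169671) (flp_e L169650) L176203
theorem L176210 : sm gf N15930 = N15666 := ded_40_1 (flp_h L173803) (flp_f L169652) L176203
theorem L176212 : sm gd N15930 = N15531 := ded_33_1 (flp_h L172439) L165169 (flp_h L162410) (flp_d L169648) L176203
theorem L176214 : sm gh N15245 = N15931 := rfl
theorem L176216 : sm ga N15931 = N15304 := ded_15_1 (flp_h L170072) (flp_a L169656) L176214
theorem L176218 : sm gb N15931 = N15931 := ded_22_1 (flp_h L176214) L169658 L176214
theorem L176219 : sm gg N15931 = N15247 := ded_42_1 (flp_h L169671) (flp_g L169661) L176214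
theorem L176221 : sm gh N15246 = N15932 := rfl
theorem L176223 : sm ga N15932 = N15305 := ded_15_1 (flp_h L170078) (flp_a L169665) L176221
theorem L176225 : sm gb N15932 = N15932 := ded_22_1 (flp_h L176221) L169667 L176221
theorem L176226 : sm gf N15932 = N15248 := ded_40_1 (flp_h L169678) (flp_f L169669) L176221
theorem L176228 : sm gi N15932 = N15247 := ded_44_2 (flp_h L169671) (flp_i L162307) L162299 L169663 L176221
theorem L176230 : sm gd N15247 = N15933 := rfl
theorem L176232 : sm ga N15933 = N15306 := ded_11_1 (flp_d L170086) (flp_a L169673) L176230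
theorem L176234 : sm gb N15933 = N15933 := ded_18_1 (flp_d L176230) L169675 L176230
theorem L176235 : sm gf N15933 = N15249 := ded_31_2 (flp_d L169687) (flp_f L169676) L176230
theorem L176237 : sm ge N15933 = N15534 := ded_30_2 (flp_d L172456) (flp_e L172442) (flp_d L176212) L176208 L176230
theorem L176239 : sm gh N15933 = N15251 := ded_33_2 (flp_d L169706) (flp_h L162342) (flp_d L162312) L169671 L176230
theorem L176241 : sm gd N15248 = N15934 := rfl
theorem L176243 : sm ga N15934 = N15307 := ded_11_1 (flp_d L170094) (flp_a L169680) L176241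
theorem L176245 : sm gb N15934 = N15934 := ded_18_1 (flp_d L176241) L169682 L176241
theorem L176246 : sm gi N15934 = N15249 := ded_34_2 (flp_d L169687) (flp_i L169685) L176241
theorem L176248 : sm gh N15934 = N15934 := ded_33_2 (flp_d L176241) (flp_h L169678) L162321 L169678 L176241
theorem L176249 : sm gc N15249 = N15935 := rfl
theorem L176251 : sm ga N15935 = N15308 := ded_10_1 (flp_c L170101) (flp_a L169689) L176249
theorem L176253 : sm gh N15935 = N15252 := ded_28_2 (flp_c L169716) (flp_h L169692) L176249
theorem L176255 : sm ge N15249 = N15936 := rfl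
theorem L176257 : sm ga N15936 = N15309 := ded_12_1 (flp_e L170105) (flp_a L169689) L176255
theorem L176259 : sm gb N15936 = N15936 := ded_19_1 (flp_e L176255) L169691 L176255
theorem L176260 : sm gg N15936 = N15888 := ded_36_2 L175879 L175485 L176255
theorem L176262 : sm gh N15936 = N15253 := ded_37_2 (flp_e L169723) (flp_h L169692) L176255
theorem L176264 : sm gd N15936 = N15672 := ded_30_1 (flp_e L173864) (flp_d L166885) (flp_e L162329) L169687 L176255
theorem L176266 : sm gf N15936 = N15537 := ded_35_2 (flp_e L172473) (flp_f L172459) (flp_e L176237) L176235 L176255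
theorem L176268 : sm gd N15250 = N15937 := rfl
theorem L176270 : sm ga N15937 = N15310 := ded_11_1 (flp_d L170113) (flp_a L169696) L176268
theorem L176272 : sm gb N15937 = N15937 := ded_18_1 (flp_d L176268) L169698 L176268
theorem L176273 : sm gg N15937 = N15251 := ded_32_2 (flp_d L169706) (flp_g L169703) L176268
theorem L176275 : sm gi N15937 = N15937 := ded_34_2 (flp_d L176268) L169705 L176268
theorem L176276 : sm ge N15937 = N15538 := ded_30_2 (flp_d L172478) L165208 (flp_d L162436) (flp_e L169701) L176268
theorem L176278 : sm gc N15251 = N15938 := rfl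
theorem L176280 : sm ga N15938 = N15311 := ded_10_1 (flp_c L170120) (flp_a L169708) L176278
theorem L176282 : sm ge N15938 = N15539 := ded_25_2 (flp_c L172488) (flp_e L169714) L176278
theorem L176284 : sm gf N15938 = N15252 := ded_26_2 (flp_c L169716) (flp_f L169711) L176278
theorem L176286 : sm gi N15938 = N15938 := ded_29_2 (flp_c L176278) L169713 L176278
theorem L176287 : sm gd N15938 = N15254 := ded_24_2 (flp_c L169735) (flp_d L162385) (flp_c L162347) L169706 L176278
theorem L176289 : sm gb N15252 = N15939 := rfl
theorem L176291 : sm gd N15939 = N15255 := ded_18_2 (flp_b L169742) (flp_d L169721) L176289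
theorem L176293 : sm gi N15939 = N15939 := ded_23_2 (flp_b L176289) L169720 L176289
theorem L176294 : sm gc N15939 = N15939 := ded_17_2 (flp_b L176289) (flp_c L169716) L162358 L169716 L176289
theorem L176295 : sm ge N15252 = N15940 := rfl
theorem L176297 : sm ga N15940 = N15314 := ded_12_1 (flp_e L170145) (flp_a L169718) L176295
theorem L176299 : sm gc N15940 = N15253 := ded_25_1 (flp_e L169723) L169716 L176295
theorem L176301 : sm gg N15940 = N15890 := ded_36_2 L175897 L175514 L176295
theorem L176303 : sm gi N15940 = N15940 := ded_38_2 (flp_e L176295) L169720 L176295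
theorem L176304 : sm gd N15940 = N15883 := ded_30_1 L175827 L171087 L163734 (flp_d L169721) L176295
theorem L176306 : sm gf N15940 = N15541 := ded_35_2 (flp_e L172501) (flp_f L172490) (flp_e L176282) L176284 L176295
theorem L176308 : sm ga N15255 = N15941 := rfl
theorem L176310 : sm gc N15941 = N15266 := ded_10_2 (flp_a L169809) (flp_c L169745) L176308
theorem L176312 : sm gf N15941 = N15267 := ded_13_2 (flp_a L174019) L174028 L176308
theorem L176314 : sm gi N15941 = N15941 := ded_16_2 (flp_a L176308) L169744 L176308
theorem L176315 : sm gb N15941 = N15318 := ded_9_2 (flp_a L170167) (flp_b L162816) (flp_a L162396) L169742 L176308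
theorem L176317 : sm gc N15256 = N15942 := rfl
theorem L176319 : sm gh N15942 = N15942 := ded_28_2 (flp_c L176317) L169753 L176317
theorem L176320 : sm gi N15942 = N15260 := ded_29_2 (flp_c L169773) (flp_i L169751) L176317
theorem L176322 : sm ge N15256 = N15943 := rfl
theorem L176324 : sm gb N15943 = N15257 := ded_19_1 (flp_e L169754) (flp_b L169749) L176322
theorem L176326 : sm gh N15943 = N15943 := ded_37_2 (flp_e L176322) L169753 L176322
theorem L176327 : sm gi N15943 = N15261 := ded_38_2 (flp_e L169777) (flp_i L169751) L176322
theorem L176329 : sm gb N15258 = N15944 := rfl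
theorem L176331 : sm gh N15944 = N15944 := ded_22_2 (flp_b L176329) L169765 L176329
theorem L176332 : sm gi N15944 = N15265 := ded_23_2 (flp_b L169805) (flp_i L169766) L176329
theorem L176334 : sm gc N15259 = N15945 := rfl
theorem L176336 : sm gh N15945 = N15945 := ded_28_2 (flp_c L176334) L169772 L176334
theorem L176337 : sm ge N15259 = N15946 := rfl
theorem L176339 : sm gb N15946 = N15263 := ded_19_1 (flp_e L169790) (flp_b L169770) L176337
theorem L176341 : sm gh N15946 = N15946 := ded_37_2 (flp_e L176337) L169772 L176337
theorem L176342 : sm gd N15946 = N15261 := ded_30_1 (flp_e L169777) (flp_d L162465) (flp_e L162463) L169768 L176337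
theorem L176344 : sm ge N15260 = N15947 := rfl
theorem L176346 : sm gc N15947 = N15261 := ded_25_1 (flp_e L169777) L169773 L176344
theorem L176348 : sm gh N15947 = N15267 := ded_37_2 (flp_e L169817) (flp_h L169775) L176344
theorem L176350 : sm gf N15261 = N15948 := rfl
theorem L176352 : sm ga N15948 = N15265 := ded_13_1 (flp_f L173974) L173966 L176350
theorem L176354 : sm gb N15948 = N15264 := ded_20_1 (flp_f L169797) (flp_b L169779) L176350
theorem L176356 : sm gh N15948 = N15266 := ded_40_2 L169812 (flp_h L169781) L176350
theorem L176358 : sm gb N15262 = N15949 := rfl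
theorem L176360 : sm gd N15949 = N15265 := ded_18_2 (flp_b L169805) (flp_d L169788) L176358
theorem L176362 : sm gh N15949 = N15949 := ded_22_2 (flp_b L176358) L169787 L176358
theorem L176363 : sm gd N15267 = N15950 := rfl
theorem L176365 : sm gi N15950 = N15950 := ded_34_2 (flp_d L176363) L169821 L176363
theorem L176366 : sm gc N15950 = N15950 := ded_24_1 (flp_d L176363) L169819 L162510 (flp_c L169819) L176363
theorem L176367 : sm ge N15950 = N15688 := ded_30_2 (flp_d L174030) (flp_e L167143) (flp_d L162503) L169817 L176363
theorem L176369 : sm gi N15268 = N15951 := rfl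
theorem L176371 : sm ga N15951 = N15900 := ded_16_1 (flp_i L175978) (flp_a L169824) L176369
theorem L176373 : sm gb N15951 = N15593 := ded_23_1 (flp_i L173107) (flp_b L169826) L176369
theorem L176375 : sm gc N15951 = N15951 := ded_29_1 (flp_i L176369) L169828 L176369
theorem L176376 : sm gd N15951 = N15272 := ded_34_1 (flp_i L169861) (flp_d L169829) L176369
theorem L176378 : sm ge N15951 = N15592 := ded_38_1 (flp_i L173096) L169833 L176369
theorem L176380 : sm gf N15951 = N15270 := ded_41_1 (flp_i L169842) L169822 L176369
theorem L176382 : sm gg N15951 = N15599 := ded_43_1 (flp_i L173173) L169831 L176369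
theorem L176384 : sm gi N15269 = N15952 := rfl
theorem L176386 : sm gc N15952 = N15952 := ded_29_1 (flp_i L176384) L169837 L176384
theorem L176387 : sm gd N15952 = N15730 := ded_34_1 (flp_i L174431) (flp_d L169840) L176384
theorem L176389 : sm ge N15952 = N15281 := ded_38_1 (flp_i L169938) (flp_e L169838) L176384
theorem L176391 : sm gh N15270 = N15953 := rfl
theorem L176393 : sm gc N15953 = N15953 := ded_28_1 (flp_h L176391) L169844 L176391
theorem L176394 : sm ge N15953 = N15282 := ded_37_1 (flp_h L169943) (flp_e L169847) L176391
theorem L176396 : sm gi N15271 = N15954 := rfl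
theorem L176398 : sm gb N15954 = N15602 := ded_23_1 (flp_i L173201) (flp_b L169851) L176396
theorem L176400 : sm gc N15954 = N15275 := ded_29_1 (flp_i L169885) (flp_c L169853) L176396
theorem L176402 : sm gd N15954 = N15599 := ded_34_1 (flp_i L173173) (flp_d L169855) L176396
theorem L176404 : sm ge N15954 = N15612 := ded_38_1 (flp_i L173299) (flp_e L169857) L176396
theorem L176406 : sm gg N15954 = N15272 := ded_43_1 (flp_i L169861) L169849 L176396
theorem L176408 : sm gh N15272 = N15955 := rfl
theorem L176410 : sm gb N15955 = N15820 := ded_22_1 L175193 (flp_b L169863) L176408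
theorem L176412 : sm gc N15955 = N15276 := ded_28_1 (flp_h L169894) (flp_c L169865) L176408
theorem L176414 : sm ge N15955 = N15819 := ded_37_1 L175185 (flp_e L169867) L176408
theorem L176416 : sm gf N15955 = N15273 := ded_40_1 (flp_h L169871) (flp_f L169869) L176408
theorem L176418 : sm gi N15955 = N15733 := ded_44_2 (flp_h L174455) (flp_i L167580) (flp_h L162558) L169861 L176408
theorem L176420 : sm gd N15273 = N15956 := rfl
theorem L176422 : sm gi N15956 = N15734 := ded_34_2 (flp_d L174461) (flp_i L169877) L176420
theorem L176424 : sm ge N15274 = N15957 := rfl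
theorem L176426 : sm gh N15957 = N15285 := ded_37_2 (flp_e L169958) (flp_h L169883) L176424
theorem L176428 : sm gi N15957 = N15735 := ded_38_2 (flp_e L174463) (flp_i L169881) L176424
theorem L176430 : sm gh N15275 = N15958 := rfl
theorem L176432 : sm gb N15958 = N15323 := ded_22_1 (flp_h L170209) (flp_b L169887) L176430
theorem L176434 : sm ge N15958 = N15876 := ded_37_1 L175757 (flp_e L169890) L176430
theorem L176436 : sm gg N15958 = N15276 := ded_42_1 (flp_h L169894) (flp_g L169892) L176430
theorem L176438 : sm gi N15958 = N15736 := ded_44_2 (flp_h L174467) (flp_i L167596) (flp_h L162581) L169885 L176430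
theorem L176440 : sm gd N15276 = N15959 := rfl
theorem L176442 : sm gb N15959 = N15324 := ded_18_1 (flp_d L170220) (flp_b L169896) L176440
theorem L176444 : sm gf N15959 = N15277 := ded_31_2 (flp_d L169904) (flp_f L169900) L176440
theorem L176446 : sm gi N15959 = N15737 := ded_34_2 (flp_d L174473) (flp_i L169902) L176440
theorem L176448 : sm gh N15959 = N15959 := ded_33_2 (flp_d L176440) (flp_h L169894) L162587 L169894 L176440
theorem L176449 : sm gc N15277 = N15960 := rfl
theorem L176451 : sm gh N15960 = N15960 := ded_28_2 (flp_c L176449) L169910 L176449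
theorem L176452 : sm gi N15960 = N15738 := ded_29_2 (flp_c L174481) (flp_i L169908) L176449
theorem L176454 : sm gi N15278 = N15961 := rfl
theorem L176456 : sm ga N15961 = N15476 := ded_16_1 (flp_i L171929) (flp_a L169913) L176454
theorem L176458 : sm gb N15961 = N15590 := ded_23_1 (flp_i L173075) (flp_b L169915) L176454
theorem L176460 : sm gc N15961 = N15961 := ded_29_1 (flp_i L176454) L169917 L176454
theorem L176461 : sm gd N15961 = N15367 := ded_34_1 (flp_i L170686) (flp_d L169920) L176454
theorem L176463 : sm ge N15961 = N15280 := ded_38_1 (flp_i L169931) L169911 L176454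
theorem L176465 : sm gf N15961 = N15592 := ded_41_1 (flp_i L173096) (flp_f L169922) L176454
theorem L176467 : sm gg N15961 = N15623 := ded_43_1 (flp_i L173409) (flp_g L169918) L176454
theorem L176469 : sm gi N15279 = N15962 := rfl
theorem L176471 : sm gc N15962 = N15962 := ded_29_1 (flp_i L176469) L169926 L176469
theorem L176472 : sm gd N15962 = N15290 := ded_34_1 (flp_i L169992) (flp_d L169929) L176469
theorem L176474 : sm gf N15962 = N15281 := ded_41_1 (flp_i L169938) (flp_f L169927) L176469
theorem L176476 : sm gh N15280 = N15963 := rfl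
theorem L176478 : sm gc N15963 = N15963 := ded_28_1 (flp_h L176476) L169933 L176476
theorem L176479 : sm gf N15963 = N15282 := ded_40_1 (flp_h L169943) (flp_f L169936) L176476
theorem L176481 : sm gh N15281 = N15964 := rfl
theorem L176483 : sm gc N15964 = N15964 := ded_28_1 (flp_h L176481) L169940 L176481
theorem L176484 : sm gi N15964 = N15282 := ded_44_2 (flp_h L169943) (flp_i L162610) L162605 L169938 L176481
theorem L176486 : sm gd N15282 = N15965 := rfl
theorem L176488 : sm gh N15965 = N15284 := ded_33_2 (flp_d L169954) (flp_h L162621) (flp_d L162613) L169943 L176486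
theorem L176490 : sm gd N15283 = N15966 := rfl
theorem L176492 : sm gf N15966 = N15284 := ded_31_2 (flp_d L169954) (flp_f L169950) L176490
theorem L176494 : sm gi N15966 = N15295 := ded_34_2 (flp_d L170022) (flp_i L169952) L176490
theorem L176496 : sm gc N15284 = N15967 := rfl
theorem L176498 : sm gi N15967 = N15296 := ded_29_2 (flp_c L170026) (flp_i L169956) L176496
theorem L176500 : sm gd N15967 = N15287 := ded_24_2 (flp_c L169971) (flp_d L162641) (flp_c L162623) L169954 L176496
theorem L176502 : sm ge N15284 = N15968 := rfl
theorem L176504 : sm gi N15968 = N15297 := ded_38_2 (flp_e L170030) (flp_i L169956) L176502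
theorem L176506 : sm gd N15968 = N15285 := ded_30_1 (flp_e L169958) (flp_d L162629) (flp_e L162625) L169954 L176502
theorem L176508 : sm gf N15285 = N15969 := rfl
theorem L176510 : sm gi N15969 = N15298 := ded_41_2 (flp_f L170034) (flp_i L169960) L176508
theorem L176512 : sm gc N15286 = N15970 := rfl
theorem L176514 : sm gf N15970 = N15287 := ded_26_2 (flp_c L169971) (flp_f L169966) L176512
theorem L176516 : sm gh N15970 = N15970 := ded_28_2 (flp_c L176512) L169970 L176512
theorem L176517 : sm gi N15970 = N15300 := ded_29_2 (flp_c L170046) (flp_i L169968) L176512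
theorem L176519 : sm gh N15288 = N15971 := rfl
theorem L176521 : sm gc N15971 = N15303 := ded_28_1 (flp_h L170064) (flp_c L169978) L176519
theorem L176523 : sm ge N15971 = N15291 := ded_37_1 (flp_h L169998) (flp_e L169980) L176519
theorem L176525 : sm gf N15971 = N15792 := ded_40_1 (flp_h L174964) (flp_f L169982) L176519
theorem L176527 : sm gh N15289 = N15972 := rfl
theorem L176529 : sm gc N15972 = N15304 := ded_28_1 (flp_h L170072) (flp_c L169986) L176527
theorem L176531 : sm gg N15972 = N15291 := ded_42_1 (flp_h L169998) (flp_g L169990) L176527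
theorem L176533 : sm gh N15290 = N15973 := rfl
theorem L176535 : sm gc N15973 = N15305 := ded_28_1 (flp_h L170078) (flp_c L169994) L176533
theorem L176537 : sm gf N15973 = N15292 := ded_40_1 (flp_h L170004) (flp_f L169996) L176533
theorem L176539 : sm gi N15973 = N15291 := ded_44_2 (flp_h L169998) (flp_i L162666) L162660 L169992 L176533
theorem L176541 : sm gd N15291 = N15974 := rfl
theorem L176543 : sm gf N15974 = N15293 := ded_31_2 (flp_d L170012) (flp_f L170002) L176541
theorem L176545 : sm gh N15974 = N15295 := ded_33_2 (flp_d L170022) (flp_h L162692) (flp_d L162670) L169998 L176541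
theorem L176547 : sm gd N15292 = N15975 := rfl
theorem L176549 : sm gi N15975 = N15293 := ded_34_2 (flp_d L170012) (flp_i L170010) L176547
theorem L176551 : sm gc N15293 = N15976 := rfl
theorem L176553 : sm gh N15976 = N15296 := ded_28_2 (flp_c L170026) (flp_h L170014) L176551
theorem L176555 : sm gd N15976 = N15308 := ded_24_2 (flp_c L170101) (flp_d L162761) (flp_c L162682) L170012 L176551
theorem L176557 : sm ge N15293 = N15977 := rfl
theorem L176559 : sm gh N15977 = N15297 := ded_37_2 (flp_e L170030) (flp_h L170014) L176557
theorem L176561 : sm gd N15977 = N15798 := ded_30_1 (flp_e L175006) (flp_d L168092) (flp_e L162684) L170012 L176557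
theorem L176563 : sm gd N15294 = N15978 := rfl
theorem L176565 : sm gg N15978 = N15295 := ded_32_2 (flp_d L170022) (flp_g L170020) L176563
theorem L176567 : sm gc N15295 = N15979 := rfl
theorem L176569 : sm gf N15979 = N15296 := ded_26_2 (flp_c L170026) (flp_f L170024) L176567
theorem L176571 : sm gd N15979 = N15300 := ded_24_2 (flp_c L170046) (flp_d L162710) (flp_c L162694) L170022 L176567
theorem L176573 : sm ge N15295 = N15980 := rfl
theorem L176575 : sm gb N15296 = N15981 := rfl
theorem L176577 : sm gd N15981 = N15302 := ded_18_2 (flp_b L170058) (flp_d L170028) L176575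
theorem L176579 : sm ge N15296 = N15982 := rfl
theorem L176581 : sm gc N15982 = N15297 := ded_25_1 (flp_e L170030) L170026 L176579
theorem L176583 : sm gf N15297 = N15983 := rfl
theorem L176585 : sm gd N15983 = N15298 := ded_31_1 (flp_f L170034) (flp_d L170032) L176583
theorem L176587 : sm gg N15298 = N15984 := rfl
theorem L176589 : sm gh N15984 = N15805 := ded_42_2 (flp_g L175034) (flp_h L170036) L176587
theorem L176591 : sm gc N15299 = N15985 := rfl
theorem L176593 : sm gg N15985 = N15300 := ded_27_2 (flp_c L170046) (flp_g L170042) L176591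
theorem L176595 : sm gh N15985 = N15315 := ded_28_2 (flp_c L170150) (flp_h L170044) L176591
theorem L176597 : sm gb N15300 = N15986 := rfl
theorem L176599 : sm gf N15986 = N15302 := ded_20_2 (flp_b L170058) (flp_f L170048) L176597
theorem L176601 : sm gh N15986 = N15316 := ded_22_2 (flp_b L170155) (flp_h L170050) L176597
theorem L176603 : sm gc N15986 = N15321 := ded_17_2 (flp_b L170197) (flp_c L162925) (flp_b L162712) L170046 L176597
theorem L176605 : sm ge N15300 = N15987 := rfl
theorem L176607 : sm gc N15987 = N15301 := ded_25_1 (flp_e L170052) L170046 L176605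
theorem L176609 : sm gh N15987 = N15317 := ded_37_2 (flp_e L170162) (flp_h L170050) L176605
theorem L176611 : sm ga N15302 = N15988 := rfl
theorem L176613 : sm gc N15988 = N15322 := ded_10_2 (flp_a L170203) (flp_c L170062) L176611
theorem L176615 : sm gh N15988 = N15318 := ded_15_2 (flp_a L170167) (flp_h L170060) L176611
theorem L176617 : sm gd N15303 = N15989 := rfl
theorem L176619 : sm ga N15989 = N15531 := ded_11_1 (flp_d L176212) L176205 L176617
theorem L176621 : sm gb N15989 = N15326 := ded_18_1 (flp_d L170234) (flp_b L170066) L176617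
theorem L176623 : sm gf N15989 = N15814 := ded_31_2 (flp_d L175131) (flp_f L170070) L176617
theorem L176625 : sm gh N15989 = N15319 := ded_33_2 (flp_d L170172) (flp_h L162821) (flp_d L162726) L170064 L176617
theorem L176627 : sm ge N15400 = N15989 := ded_12_0 L176619 L172442 (flp_a L171060)
theorem L176629 : sm gd N15304 = N15990 := rfl
theorem L176631 : sm gb N15990 = N15327 := ded_18_1 (flp_d L170241) (flp_b L170074) L176629
theorem L176633 : sm gg N15990 = N15306 := ded_32_2 (flp_d L170086) (flp_g L170076) L176629
theorem L176635 : sm gh N15990 = N15310 := ded_33_2 (flp_d L170113) (flp_h L162767) (flp_d L162736) L170072 L176629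
theorem L176637 : sm gd N15305 = N15991 := rfl
theorem L176639 : sm gb N15991 = N15328 := ded_18_1 (flp_d L170248) (flp_b L170080) L176637
theorem L176641 : sm gf N15991 = N15307 := ded_31_2 (flp_d L170094) (flp_f L170082) L176637
theorem L176643 : sm gi N15991 = N15306 := ded_34_2 (flp_d L170086) (flp_i L170084) L176637
theorem L176645 : sm gh N15991 = N15991 := ded_33_2 (flp_d L176637) (flp_h L170078) L162744 L170078 L176637
theorem L176646 : sm gc N15306 = N15992 := rfl
theorem L176648 : sm gf N15992 = N15308 := ded_26_2 (flp_c L170101) (flp_f L170090) L176646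
theorem L176650 : sm gh N15992 = N15311 := ded_28_2 (flp_c L170120) (flp_h L170092) L176646
theorem L176652 : sm ge N15306 = N15993 := rfl
theorem L176654 : sm ga N15993 = N15534 := ded_12_1 (flp_e L176237) L176232 L176652
theorem L176656 : sm gb N15993 = N15330 := ded_19_1 (flp_e L170265) (flp_b L170088) L176652
theorem L176658 : sm gh N15993 = N15312 := ded_37_2 (flp_e L170127) (flp_h L170092) L176652
theorem L176660 : sm gd N15993 = N15400 := ded_30_1 L176627 (flp_d L176617) L170068 L170086 L176652
theorem L176662 : sm gf N15993 = N15402 := ded_35_2 (flp_e L174289) L174285 (flp_e L170105) (flp_f L170090) L176652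
theorem L176664 : sm gc N15307 = N15994 := rfl
theorem L176666 : sm gh N15994 = N15994 := ded_28_2 (flp_c L176664) L170100 L176664
theorem L176667 : sm gi N15994 = N15308 := ded_29_2 (flp_c L170101) (flp_i L170098) L176664
theorem L176669 : sm ge N15307 = N15995 := rfl
theorem L176671 : sm gb N15995 = N15332 := ded_19_1 (flp_e L170280) (flp_b L170096) L176669
theorem L176673 : sm gh N15995 = N15995 := ded_37_2 (flp_e L176669) L170100 L176669
theorem L176674 : sm gi N15995 = N15309 := ded_38_2 (flp_e L170105) (flp_i L170098) L176669
theorem L176676 : sm gd N15995 = N15818 := ded_30_1 (flp_e L175171) (flp_d L168260) (flp_e L162757) L170094 L176669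
theorem L176678 : sm gf N15837 = N15995 := ded_47_2 (flp_e L176669) (flp_d L170094) (flp_c L170006) (flp_b L174740) (flp_h L174738) L167858 (flp_f L168076) L168074 L168066 L160285 L151664 L152135 L152139 L143016 L133730 (flp_d L133094) (flp_c L142208) (flp_b L151290) (flp_h L151288) (flp_g L148061) L148059 (flp_e L148103) L148101 (flp_c L148198) L148197 L157022 L157029 (flp_f L157112) L157110 (flp_d L154272) L154268 L145382 (flp_h L136465) (flp_g L136463) L136462 (flp_e L145469) (flp_d L148509) L148507 (flp_b L148019) L156715 (flp_g L164581) L164579 L162463 L162465 L169773 (flp_b L171346) L171344 (flp_g L171409) L171407 (flp_e L170162) (flp_d L170125) (flp_c L170120) L162780 (flp_h L163012) (flp_g L170244) (flp_f L175638) L175646 L175328 (flp_c L170228) (flp_b L169906) L169910 (flp_g L175370)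
theorem L176680 : sm gb N15308 = N15996 := rfl
theorem L176682 : sm gh N15996 = N15313 := ded_22_2 (flp_b L170138) (flp_h L170103) L176680
theorem L176684 : sm gc N15996 = N15333 := ded_17_2 (flp_b L170290) (flp_c L163020) (flp_b L162763) L170101 L176680
theorem L176686 : sm ge N15308 = N15997 := rfl
theorem L176688 : sm gc N15997 = N15309 := ded_25_1 (flp_e L170105) L170101 L176686
theorem L176690 : sm gh N15997 = N15314 := ded_37_2 (flp_e L170145) (flp_h L170103) L176686
theorem L176692 : sm gc N15310 = N15998 := rfl
theorem L176694 : sm gg N15998 = N15311 := ded_27_2 (flp_c L170120) (flp_g L170117) L176692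
theorem L176696 : sm gi N15998 = N15998 := ded_29_2 (flp_c L176692) L170119 L176692
theorem L176697 : sm gd N15998 = N15315 := ded_24_2 (flp_c L170150) (flp_d L162797) (flp_c L162771) L170113 L176692
theorem L176699 : sm gb N15311 = N15999 := rfl
theorem L176701 : sm gd N15999 = N15316 := ded_18_2 (flp_b L170155) (flp_d L170125) L176699
theorem L176703 : sm gf N15999 = N15313 := ded_20_2 (flp_b L170138) (flp_f L170122) L176699
theorem L176705 : sm gi N15999 = N15999 := ded_23_2 (flp_b L176699) L170124 L176699
theorem L176706 : sm gc N15999 = N15335 := ded_17_2 (flp_b L170301) (flp_c L163038) (flp_b L162780) L170120 L176699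
theorem L176708 : sm ge N15998 = N15999 := ded_30_0 L176701 (flp_e L171418) (flp_d L173062) L173055 (flp_d L176697)
theorem L176710 : sm ge N15311 = N16000 := rfl
theorem L176712 : sm ga N16000 = N15539 := ded_12_1 (flp_e L176282) L176280 L176710
theorem L176714 : sm gb N16000 = N15998 := ded_19_1 L176708 (flp_b L176699) L176710
theorem L176716 : sm gc N16000 = N15312 := ded_25_1 (flp_e L170127) L170120 L176710
theorem L176718 : sm gg N16000 = N15999 := ded_36_2 (flp_e L176708) L176694 L176710
theorem L176720 : sm gi N16000 = N16000 := ded_38_2 (flp_e L176710) L170124 L176710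
theorem L176721 : sm gf N16000 = N15403 := ded_35_2 (flp_e L175827) L175829 (flp_e L170145) (flp_f L170122) L176710
theorem L176723 : sm gd N15404 = N16000 := ded_11_0 L176712 L172493 (flp_a L171091)
theorem L176725 : sm ga N15313 = N16001 := rfl
theorem L176727 : sm gc N16001 = N15336 := ded_10_2 (flp_a L170312) (flp_c L170143) L176725
theorem L176729 : sm gd N16001 = N15318 := ded_11_2 (flp_a L170167) (flp_d L170140) L176725
theorem L176731 : sm gi N16001 = N16001 := ded_16_2 (flp_a L176725) L170142 L176725
theorem L176732 : sm ge N15313 = N16002 := rfl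
theorem L176734 : sm gb N16002 = N15314 := ded_19_1 (flp_e L170145) L170138 L176732
theorem L176736 : sm gc N16002 = N15337 := ded_25_1 (flp_e L170318) (flp_c L170143) L176732
theorem L176738 : sm gi N16002 = N16002 := ded_38_2 (flp_e L176732) L170142 L176732
theorem L176739 : sm gd N15317 = N16003 := rfl
theorem L176741 : sm ga N16003 = N15427 := ded_11_1 (flp_d L173049) L173040 L176739
theorem L176743 : sm gb N16003 = N15588 := ded_18_1 L173062 L171423 L176739
theorem L176745 : sm gf N16003 = N15587 := ded_31_2 L173049 L171407 L176739
theorem L176747 : sm gg N16003 = N15428 := ded_32_2 (flp_d L173062) L173059 L176739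
theorem L176749 : sm gi N16003 = N16003 := ded_34_2 (flp_d L176739) L170166 L176739
theorem L176750 : sm gc N16003 = N15320 := ded_24_1 (flp_d L170184) L162899 (flp_d L162814) (flp_c L170164) L176739
theorem L176752 : sm ge N16003 = N15404 := ded_30_2 L176723 (flp_e L176710) L170125 L170162 L176739
theorem L176754 : sm gc N15319 = N16004 := rfl
theorem L176756 : sm ga N16004 = N15510 := ded_10_1 L172291 (flp_a L170174) L176754
theorem L176758 : sm ge N16004 = N15387 := ded_25_2 L170932 (flp_e L170182) L176754
theorem L176760 : sm gf N16004 = N15821 := ded_26_2 (flp_c L175197) (flp_f L170178) L176754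
theorem L176762 : sm gi N16004 = N15384 := ded_29_2 L170896 (flp_i L170180) L176754
theorem L176764 : sm gd N16004 = N15649 := ded_24_2 L173651 L166845 (flp_c L162827) L170172 L176754
theorem L176766 : sm gh N15320 = N16005 := rfl
theorem L176768 : sm ga N16005 = N15418 := ded_15_1 L171294 (flp_a L170186) L176766
theorem L176770 : sm gb N16005 = N15424 := ded_22_1 L171370 (flp_b L170188) L176766
theorem L176772 : sm ge N16005 = N15395 := ded_37_1 L171014 (flp_e L170195) L176766
theorem L176774 : sm gf N16005 = N15584 := ded_40_1 L173014 (flp_f L170190) L176766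
theorem L176776 : sm gg N16005 = N15420 := ded_42_1 L171322 (flp_g L170192) L176766
theorem L176778 : sm gd N16005 = N15417 := ded_33_1 (flp_h L171270) L163929 (flp_h L162903) L170184 L176766
theorem L176780 : sm gi N15712 = N16005 := ded_23_0 L176770 L171372 (flp_b L174239)
theorem L176782 : sm gd N15323 = N16006 := rfl
theorem L176784 : sm ga N16006 = N16006 := ded_11_1 (flp_d L176782) L170211 L176782
theorem L176785 : sm gf N16006 = N15867 := ded_31_2 L175658 L175382 L176782
theorem L176787 : sm gg N16006 = N15324 := ded_32_2 (flp_d L170220) (flp_g L170216) L176782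
theorem L176789 : sm gi N16006 = N15840 := ded_34_2 (flp_d L175398) (flp_i L170218) L176782
theorem L176791 : sm gh N16006 = N16006 := ded_33_2 (flp_d L176782) (flp_h L170209) L162966 L170209 L176782
theorem L176792 : sm gc N15324 = N16007 := rfl
theorem L176794 : sm ga N16007 = N16007 := ded_10_1 (flp_c L176792) L170222 L176792
theorem L176795 : sm gf N16007 = N15325 := ded_26_2 (flp_c L170228) (flp_f L170223) L176792
theorem L176797 : sm gh N16007 = N16007 := ded_28_2 (flp_c L176792) L170227 L176792
theorem L176798 : sm gi N16007 = N15841 := ded_29_2 (flp_c L175407) (flp_i L170225) L176792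
theorem L176800 : sm gd N16007 = N15334 := ded_24_2 L170297 L163030 (flp_c L162974) L170220 L176792
theorem L176802 : sm ge N16006 = N16007 := ded_35_5 L176795 (flp_e L172895) L172897 L175650 (flp_f L176785)
theorem L176804 : sm ge N15324 = N16008 := rfl
theorem L176806 : sm ga N16008 = N16008 := ded_12_1 (flp_e L176804) L170222 L176804
theorem L176807 : sm gc N16008 = N16006 := ded_25_1 L176802 (flp_c L176792) L176804
theorem L176809 : sm gg N16008 = N16007 := ded_36_2 (flp_e L176802) L176787 L176804
theorem L176811 : sm gh N16008 = N16008 := ded_37_2 (flp_e L176804) L170227 L176804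
theorem L176812 : sm gi N16008 = N15842 := ded_38_2 (flp_e L175416) (flp_i L170225) L176804
theorem L176814 : sm gd N16008 = N15869 := ded_30_1 (flp_e L175670) L168861 (flp_e L162976) L170220 L176804
theorem L176816 : sm gb N15325 = N16009 := rfl
theorem L176818 : sm gh N16009 = N16009 := ded_22_2 (flp_b L176816) L170231 L176816
theorem L176819 : sm gi N16009 = N15843 := ded_23_2 (flp_b L175425) (flp_i L170232) L176816
theorem L176821 : sm gc N15328 = N16010 := rfl
theorem L176823 : sm ga N16010 = N16010 := ded_10_1 (flp_c L176821) L170250 L176821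
theorem L176824 : sm gf N16010 = N15331 := ded_26_2 (flp_c L170274) (flp_f L170251) L176821
theorem L176826 : sm gh N16010 = N16010 := ded_28_2 (flp_c L176821) L170255 L176821
theorem L176827 : sm gi N16010 = N15329 := ded_29_2 (flp_c L170256) (flp_i L170253) L176821
theorem L176829 : sm gd N16010 = N15875 := ded_24_2 L175741 (flp_d L175714) L168931 L170248 L176821
theorem L176831 : sm ge N15871 = N16010 := ded_38_3 L176827 (flp_e L170263) (flp_i L175696)
theorem L176833 : sm ge N15328 = N16011 := rfl
theorem L176835 : sm ga N16011 = N16011 := ded_12_1 (flp_e L176833) L170250 L176833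
theorem L176836 : sm gc N16011 = N15871 := ded_25_1 L176831 (flp_c L176821) L176833
theorem L176838 : sm gg N16011 = N16010 := ded_36_2 (flp_e L176831) L175694 L176833
theorem L176840 : sm gh N16011 = N16011 := ded_37_2 (flp_e L176833) L170255 L176833
theorem L176841 : sm gi N16011 = N15330 := ded_38_2 (flp_e L170265) (flp_i L170253) L176833
theorem L176843 : sm gd N16011 = N15567 := ded_30_1 L175712 (flp_d L175699) L168920 L170248 L176833
theorem L176845 : sm gf N16011 = N15568 := ded_35_2 L172830 L170288 (flp_e L170280) (flp_f L170251) L176833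
theorem L176847 : sm gb N15329 = N16012 := rfl
theorem L176849 : sm ge N16012 = N15990 := ded_19_2 L176631 L170263 L176847
theorem L176851 : sm gf N16012 = N15333 := ded_20_2 (flp_b L170290) (flp_f L170259) L176847
theorem L176853 : sm gg N16012 = N15993 := ded_21_2 L176656 L170270 L176847
theorem L176855 : sm gh N16012 = N15335 := ded_22_2 (flp_b L170301) (flp_h L170261) L176847
theorem L176857 : sm gb N15331 = N16013 := rfl
theorem L176859 : sm gh N16013 = N16013 := ded_22_2 (flp_b L176857) L170277 L176857
theorem L176860 : sm gi N16013 = N15333 := ded_23_2 (flp_b L170290) (flp_i L170278) L176857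
theorem L176862 : sm ge N15331 = N16014 := rfl
theorem L176864 : sm ga N16014 = N16014 := ded_12_1 (flp_e L176862) L170276 L176862
theorem L176865 : sm gc N16014 = N15332 := ded_25_1 (flp_e L170280) L170274 L176862
theorem L176867 : sm gh N16014 = N16014 := ded_37_2 (flp_e L176862) L170277 L176862
theorem L176868 : sm gi N16014 = N15334 := ded_38_2 (flp_e L170294) (flp_i L170278) L176862
theorem L176870 : sm gd N16014 = N15841 := ded_30_1 (flp_e L175414) (flp_d L175398) (flp_e L172872) (flp_d L172878) L176862
theorem L176872 : sm gf N16014 = N15839 := ded_35_2 (flp_e L175632) (flp_f L175692) L176831 L176824 L176862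
theorem L176874 : sm ga N15333 = N16015 := rfl
theorem L176876 : sm gh N16015 = N15336 := ded_15_2 (flp_a L170312) (flp_h L170292) L176874
theorem L176878 : sm gb N16015 = N16015 := ded_9_2 (flp_a L176874) (flp_b L170290) L163022 L170290 L176874
theorem L176879 : sm ge N15333 = N16016 := rfl
theorem L176881 : sm gb N16016 = N15334 := ded_19_1 (flp_e L170294) L170290 L176879
theorem L176883 : sm gh N16016 = N15337 := ded_37_2 (flp_e L170318) (flp_h L170292) L176879
theorem L176885 : sm ge N15336 = N16017 := rfl
theorem L176887 : sm ga N16017 = N15337 := ded_12_1 (flp_e L170318) L170312 L176885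
theorem L176889 : sm gb N16017 = N16017 := ded_19_1 (flp_e L176885) L170317 L176885
theorem L176890 : sm gi N16017 = N16017 := ded_38_2 (flp_e L176885) L170316 L176885
theorem L176891 : sm gd N16017 = N16017 := ded_30_1 (flp_e L176885) L170314 L163085 (flp_d L170314) L176885
theorem L176892 : sm gi N15338 = N16018 := rfl
theorem L176894 : sm ga N16018 = N15340 := ded_16_1 (flp_i L170354) L170324 L176892
theorem L176896 : sm gb N16018 = N15437 := ded_23_1 (flp_i L171529) (flp_b L170335) L176892
theorem L176898 : sm gc N16018 = N16018 := ded_29_1 (flp_i L176892) L170326 L176892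
theorem L176899 : sm gd N16018 = N15354 := ded_34_1 (flp_i L170528) (flp_d L170327) L176892
theorem L176901 : sm ge N16018 = N15962 := ded_38_1 (flp_i L176469) L170337 L176892
theorem L176903 : sm gf N16018 = N15597 := ded_41_1 (flp_i L173151) (flp_f L170329) L176892
theorem L176905 : sm gg N16018 = N15696 := ded_43_1 (flp_i L174102) (flp_g L170331) L176892
theorem L176907 : sm gi N15339 = N16019 := rfl
theorem L176909 : sm ga N16019 = N15962 := ded_16_1 (flp_i L176469) (flp_a L170341) L176907
theorem L176911 : sm gb N16019 = N15343 := ded_23_1 (flp_i L170392) (flp_b L170343) L176907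
theorem L176913 : sm gc N16019 = N16019 := ded_29_1 (flp_i L176907) L170345 L176907
theorem L176914 : sm gd N16019 = N15920 := ded_34_1 (flp_i L176133) (flp_d L170350) L176907
theorem L176916 : sm ge N16019 = N15340 := ded_38_1 (flp_i L170354) L170339 L176907
theorem L176918 : sm gf N16019 = N15909 := ded_41_1 (flp_i L176060) L170352 L176907
theorem L176920 : sm gg N16019 = N15504 := ded_43_1 (flp_i L172247) (flp_g L170346) L176907
theorem L176922 : sm gh N15340 = N16020 := rfl
theorem L176924 : sm gb N16020 = N15344 := ded_22_1 (flp_h L170402) (flp_b L170356) L176922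
theorem L176926 : sm gc N16020 = N16020 := ded_28_1 (flp_h L176922) L170358 L176922
theorem L176927 : sm gf N16020 = N15600 := ded_40_1 (flp_h L173180) (flp_f L170361) L176922
theorem L176929 : sm gi N15341 = N16021 := rfl
theorem L176931 : sm ga N16021 = N15442 := ded_16_1 (flp_i L171588) (flp_a L170365) L176929
theorem L176933 : sm gb N16021 = N15920 := ded_23_1 (flp_i L176133) (flp_b L170367) L176929
theorem L176935 : sm gc N16021 = N16021 := ded_29_1 (flp_i L176929) L170371 L176929
theorem L176936 : sm gd N16021 = N15343 := ded_34_1 (flp_i L170392) L170363 L176929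
theorem L176938 : sm ge N16021 = N15360 := ded_38_1 (flp_i L170606) (flp_e L170372) L176929
theorem L176940 : sm gf N16021 = N15914 := ded_41_1 (flp_i L176091) L170376 L176929
theorem L176942 : sm gg N16021 = N15467 := ded_43_1 (flp_i L171857) (flp_g L170369) L176929
theorem L176944 : sm gi N15342 = N16022 := rfl
theorem L176946 : sm ga N16022 = N15444 := ded_16_1 (flp_i L171607) (flp_a L170380) L176944
theorem L176948 : sm gb N16022 = N15909 := ded_23_1 (flp_i L176060) (flp_b L170382) L176944
theorem L176950 : sm gc N16022 = N15345 := ded_29_1 (flp_i L170410) (flp_c L170384) L176944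
theorem L176952 : sm gd N16022 = N15914 := ded_34_1 (flp_i L176091) (flp_d L170386) L176944
theorem L176954 : sm ge N16022 = N15603 := ded_38_1 (flp_i L173213) (flp_e L170390) L176944
theorem L176956 : sm gf N16022 = N15343 := ded_41_1 (flp_i L170392) L170378 L176944
theorem L176958 : sm gh N15343 = N16023 := rfl
theorem L176960 : sm ga N16023 = N15445 := ded_15_1 (flp_h L171617) (flp_a L170394) L176958
theorem L176962 : sm gc N16023 = N15346 := ded_28_1 (flp_h L170420) (flp_c L170396) L176958
theorem L176964 : sm ge N16023 = N15344 := ded_37_1 (flp_h L170402) (flp_e L170398) L176958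
theorem L176966 : sm gg N16023 = N15514 := ded_42_1 (flp_h L172317) (flp_g L170400) L176958
theorem L176968 : sm gi N16023 = N15486 := ded_44_2 (flp_h L172058) (flp_i L164834) (flp_h L163124) L170392 L176958
theorem L176970 : sm gd N15344 = N16024 := rfl
theorem L176972 : sm ga N16024 = N15446 := ded_11_1 (flp_d L171623) (flp_a L170404) L176970
theorem L176974 : sm gf N16024 = N15605 := ded_31_2 (flp_d L173229) (flp_f L170408) L176970
theorem L176976 : sm gc N16024 = N15905 := ded_24_1 (flp_d L176027) L169467 (flp_d L163163) (flp_c L170406) L176970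
theorem L176978 : sm gh N16024 = N15363 := ded_33_2 (flp_d L170637) (flp_h L163317) (flp_d L163132) L170402 L176970
theorem L176980 : sm gh N15345 = N16025 := rfl
theorem L176982 : sm ga N16025 = N15448 := ded_15_1 (flp_h L171640) (flp_a L170412) L176980
theorem L176984 : sm gb N16025 = N16025 := ded_22_1 (flp_h L176980) L170414 L176980
theorem L176985 : sm ge N16025 = N15606 := ded_37_1 (flp_h L173235) (flp_e L170416) L176980
theorem L176987 : sm gf N16025 = N15346 := ded_40_1 (flp_h L170420) (flp_f L170418) L176980
theorem L176989 : sm gi N16025 = N15524 := ded_44_2 (flp_h L172378) (flp_i L165101) (flp_h L163142) L170410 L176980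
theorem L176991 : sm gd N15346 = N16026 := rfl
theorem L176993 : sm ga N16026 = N15449 := ded_11_1 (flp_d L171650) (flp_a L170422) L176991
theorem L176995 : sm gb N16026 = N16026 := ded_18_1 (flp_d L176991) L170424 L176991
theorem L176996 : sm gg N16026 = N15535 := ded_32_2 (flp_d L172463) (flp_g L170427) L176991
theorem L176998 : sm gi N16026 = N15525 := ded_34_2 (flp_d L172385) (flp_i L170429) L176991
theorem L177000 : sm ge N16026 = N15907 := ded_30_2 (flp_d L176046) L169486 (flp_d L163163) (flp_e L170425) L176991
theorem L177002 : sm gh N16026 = N16026 := ded_33_2 (flp_d L176991) (flp_h L170420) L163151 L170420 L176991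
theorem L177003 : sm gh N15347 = N16027 := rfl
theorem L177005 : sm ga N16027 = N15450 := ded_15_1 (flp_h L171657) (flp_a L170433) L177003
theorem L177007 : sm gb N16027 = N15624 := ded_22_1 (flp_h L173418) (flp_b L170435) L177003
theorem L177009 : sm gc N16027 = N15348 := ded_28_1 (flp_h L170445) (flp_c L170437) L177003
theorem L177011 : sm ge N16027 = N15579 := ded_37_1 (flp_h L172954) (flp_e L170439) L177003
theorem L177013 : sm gf N16027 = N15352 := ded_40_1 (flp_h L170504) (flp_f L170441) L177003
theorem L177015 : sm gg N16027 = N15608 := ded_42_1 (flp_h L173253) (flp_g L170443) L177003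
theorem L177017 : sm gi N16027 = N15368 := ded_44_2 (flp_h L170700) (flp_i L163378) (flp_h L163175) L170431 L177003
theorem L177019 : sm gh N15349 = N16028 := rfl
theorem L177021 : sm ga N16028 = N15699 := ded_15_1 (flp_h L174133) (flp_a L170463) L177019
theorem L177023 : sm gb N16028 = N15352 := ded_22_1 (flp_h L170504) (flp_b L170465) L177019
theorem L177025 : sm gc N16028 = N15406 := ded_28_1 (flp_h L171111) (flp_c L170467) L177019
theorem L177027 : sm ge N16028 = N15633 := ded_37_1 (flp_h L173506) (flp_e L170469) L177019
theorem L177029 : sm gf N16028 = N15624 := ded_40_1 (flp_h L173418) (flp_f L170471) L177019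
theorem L177031 : sm gg N16028 = N15357 := ded_42_1 (flp_h L170572) (flp_g L170473) L177019
theorem L177033 : sm gi N16028 = N15371 := ded_44_2 (flp_h L170740) (flp_i L163429) (flp_h L163199) L170461 L177019
theorem L177035 : sm gi N15350 = N16029 := rfl
theorem L177037 : sm ga N16029 = N15452 := ded_16_1 (flp_i L171687) (flp_a L170477) L177035
theorem L177039 : sm gb N16029 = N15630 := ded_23_1 (flp_i L173478) (flp_b L170479) L177035
theorem L177041 : sm gc N16029 = N16029 := ded_29_1 (flp_i L177035) L170485 L177035
theorem L177042 : sm gd N16029 = N15351 := ded_34_1 (flp_i L170490) L170475 L177035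
theorem L177044 : sm ge N16029 = N15467 := ded_38_1 (flp_i L171857) (flp_e L170486) L177035
theorem L177046 : sm gf N16029 = N15627 := ded_41_1 (flp_i L173445) (flp_f L170481) L177035
theorem L177048 : sm gg N16029 = N15360 := ded_43_1 (flp_i L170606) (flp_g L170483) L177035
theorem L177050 : sm gh N15351 = N16030 := rfl
theorem L177052 : sm ga N16030 = N15453 := ded_15_1 (flp_h L171698) (flp_a L170492) L177050
theorem L177054 : sm gb N16030 = N15633 := ded_22_1 (flp_h L173506) (flp_b L170494) L177050
theorem L177056 : sm gc N16030 = N15353 := ded_28_1 (flp_h L170514) (flp_c L170496) L177050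
theorem L177058 : sm ge N16030 = N15352 := ded_37_1 (flp_h L170504) (flp_e L170498) L177050
theorem L177060 : sm gf N16030 = N15628 := ded_40_1 (flp_h L173456) (flp_f L170500) L177050
theorem L177062 : sm gg N16030 = N15362 := ded_42_1 (flp_h L170627) (flp_g L170502) L177050
theorem L177064 : sm gi N16030 = N15372 := ded_44_2 (flp_h L170750) (flp_i L163439) (flp_h L163217) L170490 L177050
theorem L177066 : sm gd N15352 = N16031 := rfl
theorem L177068 : sm ga N16031 = N15454 := ded_11_1 (flp_d L171712) (flp_a L170506) L177066
theorem L177070 : sm gg N16031 = N15363 := ded_32_2 (flp_d L170637) (flp_g L170510) L177066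
theorem L177072 : sm gi N16031 = N15373 := ded_34_2 (flp_d L170764) (flp_i L170512) L177066
theorem L177074 : sm gc N16031 = N15744 := ded_24_1 (flp_d L174539) L167669 (flp_d L163250) (flp_c L170508) L177066
theorem L177076 : sm gd N15353 = N16032 := rfl
theorem L177078 : sm ga N16032 = N15455 := ded_11_1 (flp_d L171720) (flp_a L170516) L177076
theorem L177080 : sm gb N16032 = N15408 := ded_18_1 (flp_d L171140) (flp_b L170518) L177076
theorem L177082 : sm gf N16032 = N15679 := ded_31_2 (flp_d L173945) (flp_f L170522) L177076
theorem L177084 : sm gg N16032 = N15365 := ded_32_2 (flp_d L170661) (flp_g L170524) L177076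
theorem L177086 : sm gi N16032 = N15374 := ded_34_2 (flp_d L170772) (flp_i L170526) L177076
theorem L177088 : sm ge N16032 = N15822 := ded_30_2 (flp_d L175209) L168338 (flp_d L163250) (flp_e L170520) L177076
theorem L177090 : sm gh N16032 = N16032 := ded_33_2 (flp_d L177076) (flp_h L170514) L163235 L170514 L177076
theorem L177091 : sm gh N15354 = N16033 := rfl
theorem L177093 : sm ga N16033 = N15357 := ded_15_1 (flp_h L170572) (flp_a L170530) L177091
theorem L177095 : sm gb N16033 = N15456 := ded_22_1 (flp_h L171733) (flp_b L170532) L177091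
theorem L177097 : sm gc N16033 = N15409 := ded_28_1 (flp_h L171155) (flp_c L170534) L177091
theorem L177099 : sm ge N16033 = N15769 := ded_37_1 (flp_h L174756) (flp_e L170536) L177091
theorem L177101 : sm gf N16033 = N15611 := ded_40_1 (flp_h L173287) (flp_f L170538) L177091
theorem L177103 : sm gg N16033 = N15699 := ded_42_1 (flp_h L174133) (flp_g L170540) L177091
theorem L177105 : sm gi N16033 = N15377 := ded_44_2 (flp_h L170816) (flp_i L163487) (flp_h L163262) L170528 L177091
theorem L177107 : sm gi N15355 = N16034 := rfl
theorem L177109 : sm ga N16034 = N15764 := ded_16_1 (flp_i L174704) (flp_a L170544) L177107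
theorem L177111 : sm gb N16034 = N15360 := ded_23_1 (flp_i L170606) (flp_b L170546) L177107
theorem L177113 : sm gc N16034 = N15662 := ded_29_1 (flp_i L173757) (flp_c L170552) L177107
theorem L177115 : sm gd N16034 = N15356 := ded_34_1 (flp_i L170558) L170542 L177107
theorem L177117 : sm ge N16034 = N15920 := ded_38_1 (flp_i L176133) (flp_e L170554) L177107
theorem L177119 : sm gf N16034 = N15650 := ded_41_1 (flp_i L173655) (flp_f L170548) L177107
theorem L177121 : sm gg N16034 = N15630 := ded_43_1 (flp_i L173478) (flp_g L170550) L177107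
theorem L177123 : sm gh N15356 = N16035 := rfl
theorem L177125 : sm ga N16035 = N15769 := ded_15_1 (flp_h L174756) (flp_a L170560) L177123
theorem L177127 : sm gb N16035 = N15362 := ded_22_1 (flp_h L170627) (flp_b L170562) L177123
theorem L177129 : sm gc N16035 = N15410 := ded_28_1 (flp_h L171169) (flp_c L170564) L177123
theorem L177131 : sm ge N16035 = N15357 := ded_37_1 (flp_h L170572) (flp_e L170566) L177123
theorem L177133 : sm gf N16035 = N15655 := ded_40_1 (flp_h L173699) (flp_f L170568) L177123
theorem L177135 : sm gg N16035 = N15633 := ded_42_1 (flp_h L173506) (flp_g L170570) L177123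
theorem L177137 : sm gi N16035 = N15382 := ded_44_2 (flp_h L170876) (flp_i L163519) (flp_h L163278) L170558 L177123
theorem L177139 : sm gd N15357 = N16036 := rfl
theorem L177141 : sm gb N16036 = N15363 := ded_18_1 (flp_d L170637) (flp_b L170574) L177139
theorem L177143 : sm gf N16036 = N15614 := ded_31_2 (flp_d L173321) (flp_f L170578) L177139
theorem L177145 : sm gi N16036 = N15383 := ded_34_2 (flp_d L170886) (flp_i L170580) L177139
theorem L177147 : sm gi N15358 = N16037 := rfl
theorem L177149 : sm ga N16037 = N15466 := ded_16_1 (flp_i L171850) (flp_a L170584) L177147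
theorem L177151 : sm gb N16037 = N15650 := ded_23_1 (flp_i L173655) (flp_b L170586) L177147
theorem L177153 : sm gc N16037 = N16037 := ded_29_1 (flp_i L177147) L170588 L177147
theorem L177154 : sm gd N16037 = N15361 := ded_34_1 (flp_i L170613) (flp_d L170589) L177147
theorem L177156 : sm gf N16037 = N15360 := ded_41_1 (flp_i L170606) L170582 L177147
theorem L177158 : sm gg N16037 = N15642 := ded_43_1 (flp_i L173608) (flp_g L170591) L177147
theorem L177160 : sm gi N15359 = N16038 := rfl
theorem L177162 : sm ga N16038 = N15467 := ded_16_1 (flp_i L171857) (flp_a L170595) L177160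
theorem L177164 : sm gb N16038 = N15919 := ded_23_1 (flp_i L176121) (flp_b L170597) L177160
theorem L177166 : sm gc N16038 = N16038 := ded_29_1 (flp_i L177160) L170599 L177160
theorem L177167 : sm gd N16038 = N15388 := ded_34_1 (flp_i L170938) (flp_d L170604) L177160
theorem L177169 : sm ge N16038 = N15452 := ded_38_1 (flp_i L171687) (flp_e L170600) L177160
theorem L177171 : sm gg N16038 = N15442 := ded_43_1 (flp_i L171588) (flp_g L170602) L177160
theorem L177173 : sm gh N15360 = N16039 := rfl
theorem L177175 : sm ga N16039 = N15468 := ded_15_1 (flp_h L171862) (flp_a L170608) L177173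
theorem L177177 : sm gc N16039 = N16039 := ded_28_1 (flp_h L177173) L170610 L177173
theorem L177178 : sm gh N15361 = N16040 := rfl
theorem L177180 : sm ga N16040 = N15470 := ded_15_1 (flp_h L171879) (flp_a L170615) L177178
theorem L177182 : sm gb N16040 = N15655 := ded_22_1 (flp_h L173699) (flp_b L170617) L177178
theorem L177184 : sm gc N16040 = N15364 := ded_28_1 (flp_h L170647) (flp_c L170619) L177178
theorem L177186 : sm ge N16040 = N15620 := ded_37_1 (flp_h L173383) (flp_e L170621) L177178
theorem L177188 : sm gf N16040 = N15362 := ded_40_1 (flp_h L170627) (flp_f L170623) L177178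
theorem L177190 : sm gg N16040 = N15645 := ded_42_1 (flp_h L173627) (flp_g L170625) L177178
theorem L177192 : sm gi N16040 = N15391 := ded_44_2 (flp_h L170968) (flp_i L163577) (flp_h L163303) L170613 L177178
theorem L177194 : sm gd N15362 = N16041 := rfl
theorem L177196 : sm ga N16041 = N15471 := ded_11_1 (flp_d L171889) (flp_a L170629) L177194
theorem L177198 : sm gi N16041 = N15392 := ded_34_2 (flp_d L170978) (flp_i L170635) L177194
theorem L177200 : sm ge N15363 = N16042 := rfl
theorem L177202 : sm ga N16042 = N15472 := ded_12_1 (flp_e L171893) (flp_a L170639) L177200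
theorem L177204 : sm gc N16042 = N15912 := ded_25_1 (flp_e L176078) (flp_c L170645) L177200
theorem L177206 : sm gi N16042 = N15393 := ded_38_2 (flp_e L170982) (flp_i L170643) L177200
theorem L177208 : sm gd N15364 = N16043 := rfl
theorem L177210 : sm ga N16043 = N15474 := ded_11_1 (flp_d L171913) (flp_a L170649) L177208
theorem L177212 : sm gb N16043 = N15413 := ded_18_1 (flp_d L171209) (flp_b L170651) L177208
theorem L177214 : sm gf N16043 = N15365 := ded_31_2 (flp_d L170661) (flp_f L170655) L177208
theorem L177216 : sm gg N16043 = N15684 := ded_32_2 (flp_d L173995) (flp_g L170657) L177208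
theorem L177218 : sm gi N16043 = N15395 := ded_34_2 (flp_d L171004) (flp_i L170659) L177208
theorem L177220 : sm ge N16043 = N15712 := ded_30_2 (flp_d L174237) L167425 (flp_d L166451) (flp_e L170653) L177208
theorem L177222 : sm gh N16043 = N16043 := ded_33_2 (flp_d L177208) (flp_h L170647) L163333 L170647 L177208
theorem L177223 : sm gc N15365 = N16044 := rfl
theorem L177225 : sm ga N16044 = N15475 := ded_10_1 (flp_c L171922) (flp_a L170663) L177223
theorem L177227 : sm ge N16044 = N15913 := ded_25_2 (flp_c L176084) (flp_e L170669) L177223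
theorem L177229 : sm gh N16044 = N16044 := ded_28_2 (flp_c L177223) L170671 L177223
theorem L177230 : sm gi N16044 = N15396 := ded_29_2 (flp_c L171016) (flp_i L170667) L177223
theorem L177232 : sm gh N15366 = N16045 := rfl
theorem L177234 : sm ga N16045 = N15577 := ded_15_1 (flp_h L172930) (flp_a L170674) L177232
theorem L177236 : sm gb N16045 = N15368 := ded_22_1 (flp_h L170700) (flp_b L170676) L177232
theorem L177238 : sm gc N16045 = N15415 := ded_28_1 (flp_h L171239) (flp_c L170678) L177232
theorem L177240 : sm ge N16045 = N15608 := ded_37_1 (flp_h L173253) (flp_e L170680) L177232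
theorem L177242 : sm gf N16045 = N15371 := ded_40_1 (flp_h L170740) (flp_f L170682) L177232
theorem L177244 : sm gg N16045 = N15579 := ded_42_1 (flp_h L172954) (flp_g L170684) L177232
theorem L177246 : sm gi N16045 = N15624 := ded_44_2 (flp_h L173418) (flp_i L166462) (flp_h L163356) L170672 L177232
theorem L177248 : sm gh N15367 = N16046 := rfl
theorem L177250 : sm ga N16046 = N15477 := ded_15_1 (flp_h L171940) (flp_a L170688) L177248
theorem L177252 : sm gb N16046 = N15608 := ded_22_1 (flp_h L173253) (flp_b L170690) L177248
theorem L177254 : sm gc N16046 = N15369 := ded_28_1 (flp_h L170710) (flp_c L170692) L177248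
theorem L177256 : sm ge N16046 = N15368 := ded_37_1 (flp_h L170700) (flp_e L170694) L177248
theorem L177258 : sm gf N16046 = N15609 := ded_40_1 (flp_h L173263) (flp_f L170696) L177248
theorem L177260 : sm gg N16046 = N15624 := ded_42_1 (flp_h L173418) (flp_g L170698) L177248
theorem L177262 : sm gi N16046 = N15579 := ded_44_2 (flp_h L172954) (flp_i L166008) (flp_h L163374) L170686 L177248
theorem L177264 : sm gd N15368 = N16047 := rfl
theorem L177266 : sm ga N16047 = N15478 := ded_11_1 (flp_d L171954) (flp_a L170702) L177264
theorem L177268 : sm gf N16047 = N15373 := ded_31_2 (flp_d L170764) (flp_f L170706) L177264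
theorem L177270 : sm gg N16047 = N15625 := ded_32_2 (flp_d L173426) (flp_g L170708) L177264
theorem L177272 : sm gc N16047 = N15499 := ded_24_1 (flp_d L172199) L164953 (flp_d L163411) (flp_c L170704) L177264
theorem L177274 : sm gd N15369 = N16048 := rfl
theorem L177276 : sm ga N16048 = N15479 := ded_11_1 (flp_d L171964) (flp_a L170712) L177274
theorem L177278 : sm gb N16048 = N15416 := ded_18_1 (flp_d L171255) (flp_b L170714) L177274
theorem L177280 : sm gf N16048 = N15676 := ded_31_2 (flp_d L173918) (flp_f L170718) L177274
theorem L177282 : sm gg N16048 = N15626 := ded_32_2 (flp_d L173434) (flp_g L170720) L177274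
theorem L177284 : sm gi N16048 = N15585 := ded_34_2 (flp_d L173016) (flp_i L170722) L177274
theorem L177286 : sm ge N16048 = N15555 := ded_30_2 (flp_d L172681) L165490 (flp_d L163411) (flp_e L170716) L177274
theorem L177288 : sm gh N16048 = N16048 := ded_33_2 (flp_d L177274) (flp_h L170710) L163394 L170710 L177274
theorem L177289 : sm gh N15370 = N16049 := rfl
theorem L177291 : sm ga N16049 = N15371 := ded_15_1 (flp_h L170740) (flp_a L170726) L177289
theorem L177293 : sm gb N16049 = N15480 := ded_22_1 (flp_h L171977) (flp_b L170728) L177289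
theorem L177295 : sm gc N16049 = N15417 := ded_28_1 (flp_h L171270) (flp_c L170730) L177289
theorem L177297 : sm ge N16049 = N15660 := ded_37_1 L173741 (flp_e L170734) L177289
theorem L177299 : sm gf N16049 = N15577 := ded_40_1 (flp_h L172930) (flp_f L170736) L177289
theorem L177301 : sm gg N16049 = N15377 := ded_42_1 (flp_h L170816) (flp_g L170738) L177289
theorem L177303 : sm gi N16049 = N15699 := ded_44_2 (flp_h L174133) (flp_i L167267) (flp_h L163425) L170724 L177289
theorem L177305 : sm gd N15371 = N16050 := rfl
theorem L177307 : sm gb N16050 = N15373 := ded_18_1 (flp_d L170764) (flp_b L170742) L177305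
theorem L177309 : sm gg N16050 = N15383 := ded_32_2 (flp_d L170886) (flp_g L170748) L177305
theorem L177311 : sm gd N15372 = N16051 := rfl
theorem L177313 : sm ga N16051 = N15489 := ded_11_1 (flp_d L172092) (flp_a L170752) L177311
theorem L177315 : sm gb N16051 = N15800 := ded_18_1 L175018 (flp_b L170754) L177311
theorem L177317 : sm gf N16051 = N15802 := ded_31_2 L175024 (flp_f L170760) L177311
theorem L177319 : sm gg N16051 = N15392 := ded_32_2 (flp_d L170978) (flp_g L170762) L177311
theorem L177321 : sm ge N15373 = N16052 := rfl
theorem L177323 : sm ga N16052 = N15490 := ded_12_1 (flp_e L172096) (flp_a L170766) L177321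
theorem L177325 : sm gc N16052 = N15780 := ded_25_1 (flp_e L174858) (flp_c L170770) L177321
theorem L177327 : sm gg N16052 = N15393 := ded_36_2 (flp_e L170982) (flp_g L170768) L177321
theorem L177329 : sm gc N15374 = N16053 := rfl
theorem L177331 : sm ga N16053 = N15493 := ded_10_1 (flp_c L172132) (flp_a L170774) L177329
theorem L177333 : sm ge N16053 = N15827 := ded_25_2 (flp_c L175261) (flp_e L170782) L177329
theorem L177335 : sm gf N16053 = N15830 := ded_26_2 L175289 (flp_f L170778) L177329
theorem L177337 : sm gg N16053 = N15396 := ded_27_2 (flp_c L171016) (flp_g L170780) L177329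
theorem L177339 : sm gh N16053 = N15397 := ded_28_2 (flp_c L171024) (flp_h L170784) L177329
theorem L177341 : sm gb N16053 = N15828 := ded_17_1 (flp_c L175269) L168398 (flp_c L163967) (flp_b L170776) L177329
theorem L177343 : sm gi N15375 = N16054 := rfl
theorem L177345 : sm ga N16054 = N15380 := ded_16_1 (flp_i L170852) (flp_a L170788) L177343
theorem L177347 : sm gb N16054 = N15496 := ded_23_1 (flp_i L172164) (flp_b L170790) L177343
theorem L177349 : sm gc N16054 = N15673 := ded_29_1 L173884 (flp_c L170796) L177343
theorem L177351 : sm gd N16054 = N15376 := ded_34_1 (flp_i L170802) L170786 L177343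
theorem L177353 : sm ge N16054 = N15703 := ded_38_1 (flp_i L174163) (flp_e L170798) L177343
theorem L177355 : sm gf N16054 = N15754 := ded_41_1 (flp_i L174632) (flp_f L170792) L177343
theorem L177357 : sm gg N16054 = N15674 := ded_43_1 L173896 (flp_g L170794) L177343
theorem L177359 : sm gh N15376 = N16055 := rfl
theorem L177361 : sm ga N16055 = N15382 := ded_15_1 (flp_h L170876) (flp_a L170804) L177359
theorem L177363 : sm gb N16055 = N15498 := ded_22_1 (flp_h L172187) (flp_b L170806) L177359
theorem L177365 : sm gc N16055 = N15419 := ded_28_1 (flp_h L171296) (flp_c L170808) L177359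
theorem L177367 : sm ge N16055 = N15377 := ded_37_1 (flp_h L170816) (flp_e L170810) L177359
theorem L177369 : sm gf N16055 = N15759 := ded_40_1 (flp_h L174670) (flp_f L170812) L177359
theorem L177371 : sm gg N16055 = N15660 := ded_42_1 L173741 (flp_g L170814) L177359
theorem L177373 : sm gi N16055 = N15769 := ded_44_2 (flp_h L174756) (flp_i L167868) (flp_h L163483) L170802 L177359
theorem L177375 : sm gd N15377 = N16056 := rfl
theorem L177377 : sm ga N16056 = N15383 := ded_11_1 (flp_d L170886) (flp_a L170818) L177375
theorem L177379 : sm gb N16056 = N15499 := ded_18_1 (flp_d L172199) (flp_b L170820) L177375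
theorem L177381 : sm gf N16056 = N15639 := ded_31_2 (flp_d L173570) (flp_f L170824) L177375
theorem L177383 : sm gi N15378 = N16057 := rfl
theorem L177385 : sm ga N16057 = N15754 := ded_16_1 (flp_i L174632) (flp_a L170828) L177383
theorem L177387 : sm gb N16057 = N15387 := ded_23_1 (flp_i L170928) (flp_b L170830) L177383
theorem L177389 : sm gc N16057 = N15812 := ded_29_1 L175114 (flp_c L170832) L177383
theorem L177391 : sm gd N16057 = N15381 := ded_34_1 (flp_i L170862) (flp_d L170834) L177383
theorem L177393 : sm gf N16057 = N15380 := ded_41_1 (flp_i L170852) L170826 L177383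
theorem L177395 : sm gg N16057 = N15617 := ded_43_1 (flp_i L173355) (flp_g L170836) L177383
theorem L177397 : sm gh N15380 = N16058 := rfl
theorem L177399 : sm gb N16058 = N15389 := ded_22_1 (flp_h L170948) (flp_b L170854) L177397
theorem L177401 : sm gc N16058 = N15815 := ded_28_1 L175153 (flp_c L170856) L177397
theorem L177403 : sm gg N16058 = N15816 := ded_42_1 L175161 (flp_g L170860) L177397
theorem L177405 : sm gh N15381 = N16059 := rfl
theorem L177407 : sm ga N16059 = N15759 := ded_15_1 (flp_h L174670) (flp_a L170864) L177405
theorem L177409 : sm gb N16059 = N15391 := ded_22_1 (flp_h L170968) (flp_b L170866) L177405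
theorem L177411 : sm gc N16059 = N15421 := ded_28_1 (flp_h L171324) (flp_c L170868) L177405
theorem L177413 : sm ge N16059 = N15645 := ded_37_1 (flp_h L173627) (flp_e L170870) L177405
theorem L177415 : sm gf N16059 = N15382 := ded_40_1 (flp_h L170876) (flp_f L170872) L177405
theorem L177417 : sm gg N16059 = N15620 := ded_42_1 (flp_h L173383) (flp_g L170874) L177405
theorem L177419 : sm gi N16059 = N15655 := ded_44_2 (flp_h L173699) (flp_i L166705) (flp_h L163513) L170862 L177405
theorem L177421 : sm gd N15382 = N16060 := rfl
theorem L177423 : sm gb N16060 = N15392 := ded_18_1 (flp_d L170978) (flp_b L170878) L177421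
theorem L177425 : sm gg N16060 = N15800 := ded_32_2 L175018 (flp_g L170884) L177421
theorem L177427 : sm gc N16060 = N15799 := ded_24_1 (flp_d L175010) L168098 (flp_d L164017) (flp_c L170880) L177421
theorem L177429 : sm gc N15383 = N16061 := rfl
theorem L177431 : sm gf N16061 = N15647 := ded_26_2 (flp_c L173639) (flp_f L170890) L177429
theorem L177433 : sm gb N16061 = N15917 := ded_17_1 (flp_c L176109) L169563 (flp_c L163601) (flp_b L170888) L177429
theorem L177435 : sm gd N16061 = N15422 := ded_24_2 (flp_c L171340) (flp_d L164019) (flp_c L163533) L170886 L177429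
theorem L177437 : sm ge N15383 = N16062 := rfl
theorem L177439 : sm gb N16062 = N15393 := ded_19_1 (flp_e L170982) (flp_b L170888) L177437
theorem L177441 : sm gi N15385 = N16063 := rfl
theorem L177443 : sm ga N16063 = N15511 := ded_16_1 (flp_i L172297) (flp_a L170906) L177441
theorem L177445 : sm gb N16063 = N15617 := ded_23_1 (flp_i L173355) (flp_b L170908) L177441
theorem L177447 : sm gc N16063 = N15398 := ded_29_1 (flp_i L171037) (flp_c L170910) L177441
theorem L177449 : sm gd N16063 = N15390 := ded_34_1 (flp_i L170954) (flp_d L170912) L177441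
theorem L177451 : sm gf N16063 = N15612 := ded_41_1 (flp_i L173299) (flp_f L170914) L177441
theorem L177453 : sm gg N16063 = N15387 := ded_43_1 (flp_i L170928) L170904 L177441
theorem L177455 : sm gi N15386 = N16064 := rfl
theorem L177457 : sm ga N16064 = N15512 := ded_16_1 (flp_i L172305) (flp_a L170918) L177455
theorem L177459 : sm gb N16064 = N16004 := ded_23_1 L176762 (flp_b L170920) L177455
theorem L177461 : sm gc N16064 = N15399 := ded_29_1 (flp_i L171049) (flp_c L170922) L177455
theorem L177463 : sm ge N16064 = N16057 := ded_38_1 (flp_i L177383) (flp_e L170924) L177455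
theorem L177465 : sm gf N16064 = N15388 := ded_41_1 (flp_i L170938) (flp_f L170926) L177455
theorem L177467 : sm gh N15387 = N16065 := rfl
theorem L177469 : sm ga N16065 = N15513 := ded_15_1 (flp_h L172311) (flp_a L170930) L177467
theorem L177471 : sm gc N16065 = N15400 := ded_28_1 (flp_h L171058) (flp_c L170932) L177467
theorem L177473 : sm gf N16065 = N15389 := ded_40_1 (flp_h L170948) (flp_f L170936) L177467
theorem L177475 : sm gh N15388 = N16066 := rfl
theorem L177477 : sm ga N16066 = N15514 := ded_15_1 (flp_h L172317) (flp_a L170940) L177475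
theorem L177479 : sm gc N16066 = N15401 := ded_28_1 (flp_h L171064) (flp_c L170942) L177475
theorem L177481 : sm ge N16066 = N15435 := ded_37_1 (flp_h L171507) (flp_e L170944) L177475
theorem L177483 : sm gg N16066 = N15445 := ded_42_1 (flp_h L171617) (flp_g L170946) L177475
theorem L177485 : sm gi N16066 = N15389 := ded_44_2 (flp_h L170948) (flp_i L163555) L163545 L170938 L177475
theorem L177487 : sm gd N15389 = N16067 := rfl
theorem L177489 : sm ga N16067 = N15515 := ded_11_1 (flp_d L172323) (flp_a L170950) L177487
theorem L177491 : sm gh N16067 = N15392 := ded_33_2 (flp_d L170978) (flp_h L163587) (flp_d L163561) L170948 L177487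
theorem L177493 : sm gh N15390 = N16068 := rfl
theorem L177495 : sm ga N16068 = N15516 := ded_15_1 (flp_h L172327) (flp_a L170956) L177493
theorem L177497 : sm gb N16068 = N15620 := ded_22_1 (flp_h L173383) (flp_b L170958) L177493
theorem L177499 : sm gc N16068 = N15394 := ded_28_1 (flp_h L170988) (flp_c L170960) L177493
theorem L177501 : sm ge N16068 = N15655 := ded_37_1 (flp_h L173699) (flp_e L170962) L177493
theorem L177503 : sm gf N16068 = N15613 := ded_40_1 (flp_h L173309) (flp_f L170964) L177493
theorem L177505 : sm gg N16068 = N15391 := ded_42_1 (flp_h L170968) (flp_g L170966) L177493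
theorem L177507 : sm gi N16068 = N15645 := ded_44_2 (flp_h L173627) (flp_i L166635) (flp_h L163573) L170954 L177493
theorem L177509 : sm gd N15391 = N16069 := rfl
theorem L177511 : sm ga N16069 = N15517 := ded_11_1 (flp_d L172335) (flp_a L170970) L177509
theorem L177513 : sm gf N16069 = N15392 := ded_31_2 (flp_d L170978) (flp_f L170976) L177509
theorem L177515 : sm gc N15392 = N16070 := rfl
theorem L177517 : sm ga N16070 = N15518 := ded_10_1 (flp_c L172339) (flp_a L170980) L177515
theorem L177519 : sm gd N16070 = N15396 := ded_24_2 (flp_c L171016) (flp_d L163627) (flp_c L163591) L170978 L177515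
theorem L177521 : sm ge N15392 = N16071 := rfl
theorem L177523 : sm ga N16071 = N15519 := ded_12_1 (flp_e L172343) (flp_a L170980) L177521
theorem L177525 : sm gd N16071 = N15393 := ded_30_1 (flp_e L170982) (flp_d L163595) (flp_e L163593) L170978 L177521
theorem L177527 : sm gf N15393 = N16072 := rfl
theorem L177529 : sm ga N16072 = N15520 := ded_13_1 (flp_f L172347) (flp_a L170984) L177527
theorem L177531 : sm gc N16072 = N15927 := ded_26_1 (flp_f L176183) (flp_c L170986) L177527
theorem L177533 : sm ge N16072 = N15659 := ded_35_1 (flp_f L173731) (flp_e L166725) (flp_f L163599) L170982 L177527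
theorem L177535 : sm gc N15395 = N16073 := rfl
theorem L177537 : sm ga N16073 = N15521 := ded_10_1 (flp_c L172353) (flp_a L171006) L177535
theorem L177539 : sm gf N16073 = N15396 := ded_26_2 (flp_c L171016) (flp_f L171010) L177535
theorem L177541 : sm gg N16073 = N15986 := ded_27_2 L176603 (flp_g L171012) L177535
theorem L177543 : sm gh N16073 = N15404 := ded_28_2 (flp_c L171089) (flp_h L171014) L177535
theorem L177545 : sm gb N16073 = N15985 := ded_17_1 (flp_c L176591) L170040 (flp_c L164081) (flp_b L171008) L177535
theorem L177547 : sm gb N15396 = N16074 := rfl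
theorem L177549 : sm ge N16074 = N15929 := ded_19_2 (flp_b L176197) (flp_e L171020) L177547
theorem L177551 : sm gf N16074 = N15985 := ded_20_2 (flp_b L177545) L177539 L177547
theorem L177553 : sm gg N16074 = N15828 := ded_21_2 (flp_b L177341) L177337 L177547
theorem L177555 : sm gh N16074 = N15405 := ded_22_2 (flp_b L171100) (flp_h L171022) L177547
theorem L177557 : sm gc N16074 = N15425 := ded_17_2 (flp_b L171378) (flp_c L164085) (flp_b L163631) L171016 L177547
theorem L177559 : sm gh N15398 = N16075 := rfl
theorem L177561 : sm ga N16075 = N15532 := ded_15_1 (flp_h L172444) (flp_a L171039) L177559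
theorem L177563 : sm gb N16075 = N15874 := ded_22_1 L175732 (flp_b L171041) L177559
theorem L177565 : sm gf N16075 = N15876 := ded_40_1 L175757 (flp_f L171045) L177559
theorem L177567 : sm gg N16075 = N15400 := ded_42_1 (flp_h L171058) (flp_g L171047) L177559
theorem L177569 : sm gd N16075 = N16012 := ded_33_1 L176855 L170303 L163712 (flp_d L171043) L177559
theorem L177571 : sm gh N15399 = N16076 := rfl
theorem L177573 : sm ga N16076 = N15533 := ded_15_1 (flp_h L172449) (flp_a L171051) L177571
theorem L177575 : sm gb N16076 = N15567 := ded_22_1 (flp_h L172818) (flp_b L171053) L177571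
theorem L177577 : sm gf N16076 = N15401 := ded_40_1 (flp_h L171064) (flp_f L171056) L177571
theorem L177579 : sm gi N16076 = N15400 := ded_44_2 (flp_h L171058) (flp_i L163675) L163666 L171049 L177571
theorem L177581 : sm gd N15401 = N16077 := rfl
theorem L177583 : sm ga N16077 = N15535 := ded_11_1 (flp_d L172463) (flp_a L171066) L177581
theorem L177585 : sm gb N16077 = N15568 := ded_18_1 (flp_d L172825) (flp_b L171068) L177581
theorem L177587 : sm gg N16077 = N15449 := ded_32_2 (flp_d L171650) (flp_g L171072) L177581
theorem L177589 : sm gi N16077 = N15402 := ded_34_2 (flp_d L171076) (flp_i L171074) L177581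
theorem L177591 : sm ge N16077 = N15837 := ded_30_2 (flp_d L175366) L168559 (flp_d L164421) (flp_e L171070) L177581
theorem L177593 : sm gh N16077 = N16077 := ded_33_2 (flp_d L177581) (flp_h L171064) L163689 L171064 L177581
theorem L177594 : sm gc N15402 = N16078 := rfl
theorem L177596 : sm ga N16078 = N15536 := ded_10_1 (flp_c L172469) (flp_a L171078) L177594
theorem L177598 : sm gh N16078 = N15403 := ded_28_2 (flp_c L171082) (flp_h L171080) L177594
theorem L177600 : sm gb N15403 = N16079 := rfl
theorem L177602 : sm gd N16079 = N15405 := ded_18_2 (flp_b L171100) (flp_d L171087) L177600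
theorem L177604 : sm gf N16079 = N15998 := ded_20_2 (flp_b L176714) L176721 L177600
theorem L177606 : sm gg N16079 = N15861 := ded_21_2 (flp_b L175819) L175816 L177600
theorem L177608 : sm gi N16079 = N16079 := ded_23_2 (flp_b L177600) L171086 L177600
theorem L177609 : sm gc N16079 = N15860 := ded_17_2 L175586 (flp_c L169364) L169357 L171082 L177600
theorem L177611 : sm ga N15405 = N16080 := rfl
theorem L177613 : sm gc N16080 = N15426 := ded_10_2 (flp_a L171390) (flp_c L171109) L177611
theorem L177615 : sm ge N16080 = N15941 := ded_12_2 (flp_a L176308) (flp_e L171102) L177611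
theorem L177617 : sm gf N16080 = N15589 := ded_13_2 L173066 (flp_f L171104) L177611
theorem L177619 : sm gg N16080 = N15877 := ded_14_2 L175761 (flp_g L171106) L177611
theorem L177621 : sm gi N16080 = N16080 := ded_16_2 (flp_a L177611) L171108 L177611
theorem L177622 : sm gb N16080 = N15543 := ded_9_2 (flp_a L172521) (flp_b L165237) (flp_a L163732) L171100 L177611
theorem L177624 : sm gd N15406 = N16081 := rfl
theorem L177626 : sm ga N16081 = N15712 := ded_11_1 (flp_d L174237) (flp_a L171113) L177624
theorem L177628 : sm gb N16081 = N15407 := ded_18_1 (flp_d L171125) (flp_b L171115) L177624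
theorem L177630 : sm gf N16081 = N15626 := ded_31_2 (flp_d L173434) (flp_f L171119) L177624
theorem L177632 : sm gg N16081 = N15411 := ded_32_2 (flp_d L171185) (flp_g L171121) L177624
theorem L177634 : sm gi N16081 = N15418 := ded_34_2 (flp_d L171284) (flp_i L171123) L177624
theorem L177636 : sm ge N16081 = N15474 := ded_30_2 (flp_d L171913) L164713 (flp_d L166579) (flp_e L171117) L177624
theorem L177638 : sm gh N16081 = N16081 := ded_33_2 (flp_d L177624) (flp_h L171111) L163759 L171111 L177624
theorem L177639 : sm gd N15409 = N16082 := rfl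
theorem L177641 : sm ga N16082 = N15411 := ded_11_1 (flp_d L171185) (flp_a L171157) L177639
theorem L177643 : sm gb N16082 = N15430 := ded_18_1 (flp_d L171438) (flp_b L171159) L177639
theorem L177645 : sm gf N16082 = N15677 := ded_31_2 (flp_d L173929) (flp_f L171163) L177639
theorem L177647 : sm gg N16082 = N15712 := ded_32_2 (flp_d L174237) (flp_g L171165) L177639
theorem L177649 : sm gi N16082 = N15420 := ded_34_2 (flp_d L171312) (flp_i L171167) L177639
theorem L177651 : sm ge N16082 = N15684 := ded_30_2 (flp_d L173995) (flp_e L171330) L171336 (flp_e L171161) L177639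
theorem L177653 : sm gh N16082 = N16082 := ded_33_2 (flp_d L177639) (flp_h L171155) L163800 L171155 L177639
theorem L177654 : sm gc N15411 = N16083 := rfl
theorem L177656 : sm gf N16083 = N15678 := ded_26_2 (flp_c L173940) (flp_f L171189) L177654
theorem L177658 : sm gh N16083 = N16083 := ded_28_2 (flp_c L177654) L171193 L177654
theorem L177659 : sm gi N16083 = N15422 := ded_29_2 (flp_c L171340) (flp_i L171191) L177654
theorem L177661 : sm gb N16083 = N15942 := ded_17_1 (flp_c L176317) L169749 (flp_c L163853) (flp_b L171187) L177654
theorem L177663 : sm ge N15411 = N16084 := rfl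
theorem L177665 : sm ga N16084 = N15684 := ded_12_1 (flp_e L177651) L177641 L177663
theorem L177667 : sm gb N16084 = N15412 := ded_19_1 (flp_e L171194) (flp_b L171187) L177663
theorem L177669 : sm gg N16084 = N15474 := ded_36_2 (flp_e L177636) L177632 L177663
theorem L177671 : sm gh N16084 = N16084 := ded_37_2 (flp_e L177663) L171193 L177663
theorem L177672 : sm gi N16084 = N15423 := ded_38_2 (flp_e L171348) (flp_i L171191) L177663
theorem L177674 : sm gd N16084 = N15473 := ded_30_1 L171905 (flp_d L171181) L171175 L171185 L177663
theorem L177676 : sm gf N15682 = N16084 := ded_13_0 L177665 L173999 (flp_a L173978)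
theorem L177678 : sm gb N15414 = N16085 := rfl
theorem L177680 : sm gd N16085 = N15554 := ded_18_2 L172671 (flp_d L171237) L177678
theorem L177682 : sm ge N16085 = N15944 := ded_19_2 (flp_b L176329) (flp_e L171228) L177678
theorem L177684 : sm gf N16085 = N15555 := ded_20_2 L172685 (flp_f L171230) L177678
theorem L177686 : sm gg N16085 = N15823 := ded_21_2 L175222 (flp_g L171232) L177678
theorem L177688 : sm gh N16085 = N16085 := ded_22_2 (flp_b L177678) L171234 L177678
theorem L177689 : sm gi N16085 = N15425 := ded_23_2 (flp_b L171378) (flp_i L171235) L177678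
theorem L177691 : sm ga N16085 = N15557 := ded_9_1 L172708 L165538 L164267 (flp_a L171226) L177678
theorem L177693 : sm gc N15418 = N16086 := rfl
theorem L177695 : sm ge N16086 = N15521 := ded_25_2 (flp_c L172353) (flp_e L171292) L177693
theorem L177697 : sm gf N16086 = N15987 := ded_26_2 L176607 (flp_f L171288) L177693
theorem L177699 : sm gg N16086 = N15422 := ded_27_2 (flp_c L171340) (flp_g L171290) L177693
theorem L177701 : sm gh N16086 = N15427 := ded_28_2 (flp_c L171403) (flp_h L171294) L177693
theorem L177703 : sm gb N16086 = N15683 := ded_17_1 (flp_c L173987) L167075 (flp_c L163953) (flp_b L171286) L177693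
theorem L177705 : sm gc N15420 = N16087 := rfl
theorem L177707 : sm ga N16087 = N15422 := ded_10_1 (flp_c L171340) (flp_a L171314) L177705
theorem L177709 : sm ge N16087 = N15986 := ded_25_2 L176603 (flp_e L171320) L177705
theorem L177711 : sm gf N16087 = N15683 := ded_26_2 (flp_c L173987) (flp_f L171318) L177705
theorem L177713 : sm gh N16087 = N15428 := ded_28_2 (flp_c L171414) (flp_h L171322) L177705
theorem L177715 : sm gb N16087 = N15987 := ded_17_1 L176607 L170054 (flp_c L164336) (flp_b L171316) L177705
theorem L177717 : sm ge N15422 = N16088 := rfl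
theorem L177719 : sm ga N16088 = N15986 := ded_12_1 (flp_e L177709) L177707 L177717
theorem L177721 : sm gb N16088 = N15947 := ded_19_1 (flp_e L176344) (flp_b L171346) L177717
theorem L177723 : sm gc N16088 = N15423 := ded_25_1 (flp_e L171348) L171340 L177717
theorem L177725 : sm gg N16088 = N15521 := ded_36_2 (flp_e L177695) L177699 L177717
theorem L177727 : sm gh N16088 = N15429 := ded_37_2 (flp_e L171425) (flp_h L171344) L177717
theorem L177729 : sm gf N15988 = N16088 := ded_13_0 L177719 L176599 L176611
theorem L177731 : sm ga N15425 = N16089 := rfl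
theorem L177733 : sm gd N16089 = N15545 := ded_11_2 L172547 (flp_d L171380) L177731
theorem L177735 : sm ge N16089 = N15948 := ded_12_2 L176352 (flp_e L171382) L177731
theorem L177737 : sm gf N16089 = N15546 := ded_13_2 L172561 (flp_f L171384) L177731
theorem L177739 : sm gg N16089 = N15826 := ded_14_2 L175253 (flp_g L171386) L177731
theorem L177741 : sm gh N16089 = N15426 := ded_15_2 (flp_a L171390) (flp_h L171388) L177731
theorem L177743 : sm gi N16089 = N15557 := ded_16_2 (flp_a L177691) L177689 L177731
theorem L177745 : sm gb N16089 = N15431 := ded_9_2 (flp_a L171453) (flp_b L164342) (flp_a L164087) L171378 L177731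
theorem L177747 : sm gd N15429 = N16090 := rfl
theorem L177749 : sm ga N16090 = N15999 := ded_11_1 L176701 (flp_a L171427) L177747
theorem L177751 : sm gb N16090 = N15950 := ded_18_1 (flp_d L176363) (flp_b L171429) L177747
theorem L177753 : sm gf N16090 = N16001 := ded_31_2 L176729 L171436 L177747
theorem L177755 : sm gg N16090 = N15539 := ded_32_2 L172493 (flp_g L171433) L177747
theorem L177757 : sm gi N16090 = N16090 := ded_34_2 (flp_d L177747) L171435 L177747
theorem L177758 : sm gc N16090 = N15538 := ded_24_1 (flp_d L172478) L165206 (flp_d L164161) (flp_c L171431) L177747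
theorem L177760 : sm gh N15432 = N16091 := rfl
theorem L177762 : sm gb N16091 = N15581 := ded_22_1 (flp_h L172972) (flp_b L171471) L177760
theorem L177764 : sm gc N16091 = N15433 := ded_28_1 (flp_h L171483) (flp_c L171473) L177760
theorem L177766 : sm ge N16091 = N16058 := ded_37_1 (flp_h L177397) (flp_e L171477) L177760
theorem L177768 : sm gf N16091 = N15435 := ded_40_1 (flp_h L171507) (flp_f L171479) L177760
theorem L177770 : sm gg N16091 = N15689 := ded_42_1 (flp_h L174034) (flp_g L171481) L177760
theorem L177772 : sm gh N15434 = N16092 := rfl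
theorem L177774 : sm ga N16092 = N15704 := ded_15_1 (flp_h L174177) (flp_a L171495) L177772
theorem L177776 : sm gb N16092 = N15435 := ded_22_1 (flp_h L171507) (flp_b L171497) L177772
theorem L177778 : sm gc N16092 = N15566 := ded_28_1 (flp_h L172804) (flp_c L171499) L177772
theorem L177780 : sm gf N16092 = N15581 := ded_40_1 (flp_h L172972) (flp_f L171503) L177772
theorem L177782 : sm gg N16092 = N15440 := ded_42_1 (flp_h L171567) (flp_g L171505) L177772
theorem L177784 : sm gi N16092 = N16091 := ded_44_2 (flp_h L177760) (flp_i L171469) (flp_h L164401) L171493 L177772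
theorem L177786 : sm gd N15435 = N16093 := rfl
theorem L177788 : sm gg N16093 = N15446 := ded_32_2 (flp_d L171623) (flp_g L171511) L177786
theorem L177790 : sm gc N16093 = N15726 := ded_24_1 (flp_d L174381) L167542 (flp_d L164421) (flp_c L171509) L177786
theorem L177792 : sm gh N16093 = N15454 := ded_33_2 (flp_d L171712) (flp_h L164565) (flp_d L164411) L171507 L177786
theorem L177794 : sm gi N15436 = N16094 := rfl
theorem L177796 : sm ga N16094 = N15439 := ded_16_1 (flp_i L171557) (flp_a L171515) L177794
theorem L177798 : sm gb N16094 = N15962 := ded_23_1 (flp_i L176469) (flp_b L171517) L177794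
theorem L177800 : sm gc N16094 = N15569 := ded_29_1 (flp_i L172833) (flp_c L171519) L177794
theorem L177802 : sm gd N16094 = N15765 := ded_34_1 (flp_i L174718) (flp_d L171525) L177794
theorem L177804 : sm ge N16094 = N15437 := ded_38_1 (flp_i L171529) L171513 L177794
theorem L177806 : sm gf N16094 = N15739 := ded_41_1 (flp_i L174485) L171527 L177794
theorem L177808 : sm gg N16094 = N15702 := ded_43_1 (flp_i L174153) (flp_g L171521) L177794
theorem L177810 : sm gh N15437 = N16095 := rfl
theorem L177812 : sm ga N16095 = N15440 := ded_15_1 (flp_h L171567) (flp_a L171531) L177810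
theorem L177814 : sm gc N16095 = N15570 := ded_28_1 (flp_h L172846) (flp_c L171533) L177810
theorem L177816 : sm gf N16095 = N15720 := ded_40_1 (flp_h L174312) (flp_f L171537) L177810
theorem L177818 : sm gg N16095 = N15704 := ded_42_1 (flp_h L174177) (flp_g L171539) L177810
theorem L177820 : sm gi N15438 = N16096 := rfl
theorem L177822 : sm ga N16096 = N15765 := ded_16_1 (flp_i L174718) (flp_a L171543) L177820
theorem L177824 : sm gb N16096 = N15442 := ded_23_1 (flp_i L171588) (flp_b L171545) L177820
theorem L177826 : sm gc N16096 = N15663 := ded_29_1 (flp_i L173770) (flp_c L171551) L177820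
theorem L177828 : sm gd N16096 = N15439 := ded_34_1 (flp_i L171557) L171541 L177820
theorem L177830 : sm ge N16096 = N15459 := ded_38_1 (flp_i L171773) (flp_e L171553) L177820
theorem L177832 : sm gf N16096 = N15631 := ded_41_1 (flp_i L173488) (flp_f L171547) L177820
theorem L177834 : sm gg N16096 = N15919 := ded_43_1 (flp_i L176121) (flp_g L171549) L177820
theorem L177836 : sm gh N15439 = N16097 := rfl
theorem L177838 : sm gb N16097 = N15445 := ded_22_1 (flp_h L171617) (flp_b L171559) L177836
theorem L177840 : sm gc N16097 = N15571 := ded_28_1 (flp_h L172855) (flp_c L171561) L177836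
theorem L177842 : sm ge N16097 = N15440 := ded_37_1 (flp_h L171567) (flp_e L171563) L177836
theorem L177844 : sm gf N16097 = N15817 := ded_40_1 L175167 (flp_f L171565) L177836
theorem L177846 : sm gi N16097 = N15816 := ded_44_2 L175161 L168296 (flp_h L164439) L171557 L177836
theorem L177848 : sm gd N15440 = N16098 := rfl
theorem L177850 : sm gb N16098 = N15446 := ded_18_1 (flp_d L171623) (flp_b L171569) L177848
theorem L177852 : sm gf N16098 = N15726 := ded_31_2 (flp_d L174381) (flp_f L171573) L177848
theorem L177854 : sm gh N16098 = N15462 := ded_33_2 (flp_d L171813) (flp_h L164633) (flp_d L164449) L171567 L177848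
theorem L177856 : sm gi N15441 = N16099 := rfl
theorem L177858 : sm ga N16099 = N15914 := ded_16_1 (flp_i L176091) (flp_a L171577) L177856
theorem L177860 : sm gb N16099 = N15631 := ded_23_1 (flp_i L173488) (flp_b L171579) L177856
theorem L177862 : sm gc N16099 = N16099 := ded_29_1 (flp_i L177856) L171581 L177856
theorem L177863 : sm gd N16099 = N15444 := ded_34_1 (flp_i L171607) (flp_d L171582) L177856
theorem L177865 : sm gf N16099 = N15442 := ded_41_1 (flp_i L171588) L171575 L177856
theorem L177867 : sm gg N16099 = N15643 := ded_43_1 (flp_i L173617) L171586 L177856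
theorem L177869 : sm gh N15442 = N16100 := rfl
theorem L177871 : sm gc N16100 = N16100 := ded_28_1 (flp_h L177869) L171590 L177869
theorem L177872 : sm ge N16100 = N15468 := ded_37_1 (flp_h L171862) (flp_e L171593) L177869
theorem L177874 : sm gi N15443 = N16101 := rfl
theorem L177876 : sm gb N16101 = N15618 := ded_23_1 (flp_i L173365) (flp_b L171597) L177874
theorem L177878 : sm gc N16101 = N15447 := ded_29_1 (flp_i L171631) (flp_c L171599) L177874
theorem L177880 : sm gd N16101 = N15643 := ded_34_1 (flp_i L173617) (flp_d L171601) L177874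
theorem L177882 : sm ge N16101 = N15732 := ded_38_1 (flp_i L174443) (flp_e L171603) L177874
theorem L177884 : sm gg N16101 = N15444 := ded_43_1 (flp_i L171607) L171595 L177874
theorem L177886 : sm gh N15444 = N16102 := rfl
theorem L177888 : sm gb N16102 = N15817 := ded_22_1 L175167 (flp_b L171609) L177886
theorem L177890 : sm gc N16102 = N15448 := ded_28_1 (flp_h L171640) (flp_c L171611) L177886
theorem L177892 : sm ge N16102 = N15733 := ded_37_1 (flp_h L174455) (flp_e L171613) L177886
theorem L177894 : sm gf N16102 = N15445 := ded_40_1 (flp_h L171617) (flp_f L171615) L177886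
theorem L177896 : sm gi N16102 = N15819 := ded_44_2 L175185 L168308 (flp_h L164464) L171607 L177886
theorem L177898 : sm gd N15445 = N16103 := rfl
theorem L177900 : sm ge N15446 = N16104 := rfl
theorem L177902 : sm gc N16104 = N15957 := ded_25_1 (flp_e L176424) (flp_c L171627) L177900
theorem L177904 : sm gh N16104 = N15472 := ded_37_2 (flp_e L171893) (flp_h L171629) L177900
theorem L177906 : sm gh N15447 = N16105 := rfl
theorem L177908 : sm gb N16105 = N15572 := ded_22_1 (flp_h L172867) (flp_b L171633) L177906
theorem L177910 : sm ge N16105 = N15736 := ded_37_1 (flp_h L174467) (flp_e L171636) L177906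
theorem L177912 : sm gg N16105 = N15448 := ded_42_1 (flp_h L171640) (flp_g L171638) L177906
theorem L177914 : sm gi N16105 = N15876 := ded_44_2 L175757 L169017 (flp_h L164487) L171631 L177906
theorem L177916 : sm gd N16013 = N16105 := ded_18_0 L177908 (flp_d L172878) L176857
theorem L177918 : sm gd N15448 = N16106 := rfl
theorem L177920 : sm gb N16106 = N15573 := ded_18_1 (flp_d L172880) (flp_b L171642) L177918
theorem L177922 : sm gf N16106 = N15449 := ded_31_2 (flp_d L171650) (flp_f L171646) L177918
theorem L177924 : sm gg N16106 = N16013 := ded_32_2 L177916 L177912 L177918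
theorem L177926 : sm gi N16106 = N15868 := ded_34_2 L175662 (flp_i L171648) L177918
theorem L177928 : sm gh N16106 = N16106 := ded_33_2 (flp_d L177918) (flp_h L171640) L164493 L171640 L177918
theorem L177929 : sm gc N15449 = N16107 := rfl
theorem L177931 : sm ge N16107 = N15960 := ded_25_2 (flp_c L176449) (flp_e L171654) L177929
theorem L177933 : sm gh N16107 = N16107 := ded_28_2 (flp_c L177929) L171656 L177929
theorem L177934 : sm gd N15450 = N16108 := rfl
theorem L177936 : sm gb N16108 = N15582 := ded_18_1 (flp_d L172984) (flp_b L171659) L177934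
theorem L177938 : sm gf N16108 = N15454 := ded_31_2 (flp_d L171712) (flp_f L171665) L177934
theorem L177940 : sm gg N16108 = N15693 := ded_32_2 (flp_d L174080) (flp_g L171667) L177934
theorem L177942 : sm gi N16108 = N15478 := ded_34_2 (flp_d L171954) (flp_i L171669) L177934
theorem L177944 : sm gc N16108 = N15462 := ded_24_1 (flp_d L171813) L164637 (flp_d L164526) (flp_c L171661) L177934
theorem L177946 : sm gd N15451 = N16109 := rfl
theorem L177948 : sm ga N16109 = N15707 := ded_11_1 (flp_d L174199) (flp_a L171673) L177946
theorem L177950 : sm gb N16109 = N15454 := ded_18_1 (flp_d L171712) (flp_b L171675) L177946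
theorem L177952 : sm gf N16109 = N15582 := ded_31_2 (flp_d L172984) (flp_f L171681) L177946
theorem L177954 : sm gg N16109 = N15462 := ded_32_2 (flp_d L171813) (flp_g L171683) L177946
theorem L177956 : sm gi N16109 = N15483 := ded_34_2 (flp_d L172022) (flp_i L171685) L177946
theorem L177958 : sm gc N16109 = N15693 := ded_24_1 (flp_d L174080) L167212 (flp_d L165256) (flp_c L171677) L177946
theorem L177960 : sm gh N15452 = N16110 := rfl
theorem L177962 : sm gb N16110 = N15921 := ded_22_1 (flp_h L176141) (flp_b L171689) L177960
theorem L177964 : sm gc N16110 = N16110 := ded_28_1 (flp_h L177960) L171691 L177960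
theorem L177965 : sm gf N16110 = N15915 := ded_40_1 (flp_h L176098) (flp_f L171694) L177960
theorem L177967 : sm gg N16110 = N15468 := ded_42_1 (flp_h L171862) (flp_g L171696) L177960
theorem L177969 : sm gd N15453 = N16111 := rfl
theorem L177971 : sm gb N16111 = N15924 := ded_18_1 (flp_d L176165) (flp_b L171700) L177969
theorem L177973 : sm gf N16111 = N15916 := ded_31_2 (flp_d L176105) (flp_f L171706) L177969
theorem L177975 : sm gg N16111 = N15471 := ded_32_2 (flp_d L171889) (flp_g L171708) L177969
theorem L177977 : sm gi N16111 = N15489 := ded_34_2 (flp_d L172092) (flp_i L171710) L177969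
theorem L177979 : sm ge N15454 = N16112 := rfl
theorem L177981 : sm gc N16112 = N15752 := ded_25_1 (flp_e L174616) (flp_c L171718) L177979
theorem L177983 : sm gg N16112 = N15472 := ded_36_2 (flp_e L171893) (flp_g L171714) L177979
theorem L177985 : sm gi N16112 = N15490 := ded_38_2 (flp_e L172096) (flp_i L171716) L177979
theorem L177987 : sm gc N15455 = N16113 := rfl
theorem L177989 : sm ge N16113 = N15824 := ded_25_2 (flp_c L175229) (flp_e L171730) L177987
theorem L177991 : sm gf N16113 = N15945 := ded_26_2 (flp_c L176334) (flp_f L171724) L177987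
theorem L177993 : sm gg N16113 = N15475 := ded_27_2 (flp_c L171922) (flp_g L171726) L177987
theorem L177995 : sm gh N16113 = N16113 := ded_28_2 (flp_c L177987) L171732 L177987
theorem L177996 : sm gi N16113 = N15493 := ded_29_2 (flp_c L172132) (flp_i L171728) L177987
theorem L177998 : sm gd N15456 = N16114 := rfl
theorem L178000 : sm ga N16114 = N15462 := ded_11_1 (flp_d L171813) (flp_a L171735) L177998
theorem L178002 : sm gf N16114 = N15744 := ded_31_2 (flp_d L174539) (flp_f L171741) L177998
theorem L178004 : sm gg N16114 = N15707 := ded_32_2 (flp_d L174199) (flp_g L171743) L177998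
theorem L178006 : sm gi N16114 = N15499 := ded_34_2 (flp_d L172199) (flp_i L171745) L177998
theorem L178008 : sm gi N15457 = N16115 := rfl
theorem L178010 : sm ga N16115 = N15782 := ded_16_1 (flp_i L174876) (flp_a L171749) L178008
theorem L178012 : sm gb N16115 = N15466 := ded_23_1 (flp_i L171850) (flp_b L171751) L178008
theorem L178014 : sm gc N16115 = N15845 := ded_29_1 (flp_i L175439) (flp_c L171753) L178008
theorem L178016 : sm gd N16115 = N15460 := ded_34_1 (flp_i L171785) (flp_d L171755) L178008
theorem L178018 : sm gf N16115 = N15459 := ded_41_1 (flp_i L171773) L171747 L178008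
theorem L178020 : sm gg N16115 = N15775 := ded_43_1 (flp_i L174814) (flp_g L171757) L178008
theorem L178022 : sm gi N15458 = N16116 := rfl
theorem L178024 : sm ga N16116 = N15763 := ded_16_1 (flp_i L174694) (flp_a L171761) L178022
theorem L178026 : sm gb N16116 = N15467 := ded_23_1 (flp_i L171857) (flp_b L171763) L178022
theorem L178028 : sm gc N16116 = N15661 := ded_29_1 (flp_i L173747) (flp_c L171765) L178022
theorem L178030 : sm gd N16116 = N15504 := ded_34_1 (flp_i L172247) (flp_d L171771) L178022
theorem L178032 : sm ge N16116 = N15630 := ded_38_1 (flp_i L173478) (flp_e L171767) L178022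
theorem L178034 : sm gg N16116 = N15920 := ded_43_1 (flp_i L176133) (flp_g L171769) L178022
theorem L178036 : sm gh N15459 = N16117 := rfl
theorem L178038 : sm ga N16117 = N15972 := ded_15_1 (flp_h L176527) (flp_a L171775) L178036
theorem L178040 : sm gb N16117 = N15468 := ded_22_1 (flp_h L171862) (flp_b L171777) L178036
theorem L178042 : sm gc N16117 = N15931 := ded_28_1 (flp_h L176214) (flp_c L171779) L178036
theorem L178044 : sm gg N16117 = N15921 := ded_42_1 (flp_h L176141) (flp_g L171783) L178036
theorem L178046 : sm gh N15460 = N16118 := rfl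
theorem L178048 : sm ga N16118 = N15787 := ded_15_1 (flp_h L174928) (flp_a L171787) L178046
theorem L178050 : sm gb N16118 = N15470 := ded_22_1 (flp_h L171879) (flp_b L171789) L178046
theorem L178052 : sm gc N16118 = N15545 := ded_28_1 (flp_h L172545) (flp_c L171791) L178046
theorem L178054 : sm ge N16118 = N15750 := ded_37_1 (flp_h L174598) (flp_e L171793) L178046
theorem L178056 : sm gf N16118 = N15461 := ded_40_1 (flp_h L171799) (flp_f L171795) L178046
theorem L178058 : sm gg N16118 = N15778 := ded_42_1 (flp_h L174844) (flp_g L171797) L178046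
theorem L178060 : sm gi N16118 = N15507 := ded_44_2 (flp_h L172271) (flp_i L164990) (flp_h L164615) L171785 L178046
theorem L178062 : sm gd N15461 = N16119 := rfl
theorem L178064 : sm ga N16119 = N15978 := ded_11_1 (flp_d L176563) (flp_a L171801) L178062
theorem L178066 : sm gb N16119 = N15471 := ded_18_1 (flp_d L171889) (flp_b L171803) L178062
theorem L178068 : sm gg N16119 = N15924 := ded_32_2 (flp_d L176165) (flp_g L171809) L178062
theorem L178070 : sm gi N16119 = N15508 := ded_34_2 (flp_d L172281) (flp_i L171811) L178062
theorem L178072 : sm ge N15462 = N16120 := rfl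
theorem L178074 : sm gb N16120 = N15472 := ded_19_1 (flp_e L171893) (flp_b L171815) L178072
theorem L178076 : sm gi N16120 = N15509 := ded_38_2 (flp_e L172285) (flp_i L171819) L178072
theorem L178078 : sm gi N15463 = N16121 := rfl
theorem L178080 : sm gc N16121 = N16121 := ded_29_1 (flp_i L178078) L171823 L178078
theorem L178081 : sm gd N16121 = N15753 := ded_34_1 (flp_i L174624) (flp_d L171824) L178078
theorem L178083 : sm ge N16121 = N15466 := ded_38_1 (flp_i L171850) L171821 L178078
theorem L178085 : sm gi N15464 = N16122 := rfl
theorem L178087 : sm ga N16122 = N15642 := ded_16_1 (flp_i L173608) (flp_a L171828) L178085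
theorem L178089 : sm gb N16122 = N15775 := ded_23_1 (flp_i L174814) (flp_b L171830) L178085
theorem L178091 : sm gc N16122 = N16122 := ded_29_1 (flp_i L178085) L171832 L178085
theorem L178092 : sm gd N16122 = N15469 := ded_34_1 (flp_i L171865) (flp_d L171833) L178085
theorem L178094 : sm gf N16122 = N15637 := ded_41_1 (flp_i L173545) (flp_f L171835) L178085
theorem L178096 : sm gg N16122 = N15466 := ded_43_1 (flp_i L171850) L171826 L178085
theorem L178098 : sm gi N15465 = N16123 := rfl
theorem L178100 : sm gc N16123 = N16123 := ded_29_1 (flp_i L178098) L171841 L178098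
theorem L178101 : sm gd N16123 = N15512 := ded_34_1 (flp_i L172305) (flp_d L171848) L178098
theorem L178103 : sm ge N16123 = N16122 := ded_38_1 (flp_i L178085) (flp_e L171842) L178098
theorem L178105 : sm gf N16123 = N15467 := ded_41_1 (flp_i L171857) (flp_f L171844) L178098
theorem L178107 : sm gg N16123 = N16121 := ded_43_1 (flp_i L178078) (flp_g L171846) L178098
theorem L178109 : sm gh N15466 = N16124 := rfl
theorem L178111 : sm gc N16124 = N16124 := ded_28_1 (flp_h L178109) L171852 L178109
theorem L178112 : sm gf N16124 = N15468 := ded_40_1 (flp_h L171862) (flp_f L171855) L178109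
theorem L178114 : sm gh N15467 = N16125 := rfl
theorem L178116 : sm gc N16125 = N16125 := ded_28_1 (flp_h L178114) L171859 L178114
theorem L178117 : sm gi N16125 = N15468 := ded_44_2 (flp_h L171862) (flp_i L164653) L164648 L171857 L178114
theorem L178119 : sm gd N15468 = N16126 := rfl
theorem L178121 : sm gh N16126 = N15471 := ded_33_2 (flp_d L171889) (flp_h L164680) (flp_d L164656) L171862 L178119
theorem L178123 : sm gh N15469 = N16127 := rfl
theorem L178125 : sm ga N16127 = N15645 := ded_15_1 (flp_h L173627) (flp_a L171867) L178123
theorem L178127 : sm gb N16127 = N15778 := ded_22_1 (flp_h L174844) (flp_b L171869) L178123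
theorem L178129 : sm gc N16127 = N15473 := ded_28_1 (flp_h L171899) (flp_c L171871) L178123
theorem L178131 : sm ge N16127 = N15759 := ded_37_1 (flp_h L174670) (flp_e L171873) L178123
theorem L178133 : sm gf N16127 = N15638 := ded_40_1 (flp_h L173558) (flp_f L171875) L178123
theorem L178135 : sm gg N16127 = N15470 := ded_42_1 (flp_h L171879) (flp_g L171877) L178123
theorem L178137 : sm gi N16127 = N15516 := ded_44_2 (flp_h L172327) (flp_i L165048) (flp_h L164668) L171865 L178123
theorem L178139 : sm gd N15470 = N16128 := rfl
theorem L178141 : sm gf N16128 = N15471 := ded_31_2 (flp_d L171889) (flp_f L171885) L178139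
theorem L178143 : sm gi N16128 = N15517 := ded_34_2 (flp_d L172335) (flp_i L171887) L178139
theorem L178145 : sm gc N15471 = N16129 := rfl
theorem L178147 : sm gi N16129 = N15518 := ded_29_2 (flp_c L172339) (flp_i L171891) L178145
theorem L178149 : sm gd N16129 = N15475 := ded_24_2 (flp_c L171922) (flp_d L164719) (flp_c L164682) L171889 L178145
theorem L178151 : sm ge N15471 = N16130 := rfl
theorem L178153 : sm gi N16130 = N15519 := ded_38_2 (flp_e L172343) (flp_i L171891) L178151
theorem L178155 : sm gd N16130 = N15472 := ded_30_1 (flp_e L171893) (flp_d L164688) (flp_e L164684) L171889 L178151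
theorem L178157 : sm gf N15472 = N16131 := rfl
theorem L178159 : sm gc N16131 = N15969 := ded_26_1 (flp_f L176508) (flp_c L171895) L178157
theorem L178161 : sm gi N16131 = N15520 := ded_41_2 (flp_f L172347) (flp_i L171897) L178157
theorem L178163 : sm ge N16131 = N15762 := ded_35_1 (flp_f L174690) (flp_e L167794) (flp_f L164690) L171893 L178157
theorem L178165 : sm gc N15474 = N16132 := rfl
theorem L178167 : sm gf N16132 = N15475 := ded_26_2 (flp_c L171922) (flp_f L171917) L178165
theorem L178169 : sm gh N16132 = N16132 := ded_28_2 (flp_c L178165) L171921 L178165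
theorem L178170 : sm gi N16132 = N15521 := ded_29_2 (flp_c L172353) (flp_i L171919) L178165
theorem L178172 : sm gb N15475 = N16133 := rfl
theorem L178174 : sm ge N16133 = N15685 := ded_19_2 L174009 (flp_e L171924) L178172
theorem L178176 : sm gh N16133 = N16133 := ded_22_2 (flp_b L178172) L171926 L178172
theorem L178177 : sm gi N16133 = N15522 := ded_23_2 (flp_b L172359) (flp_i L171927) L178172
theorem L178179 : sm gc N16133 = N15548 := ded_17_2 (flp_b L172588) (flp_c L165364) (flp_b L164721) L171922 L178172
theorem L178181 : sm gh N15476 = N16134 := rfl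
theorem L178183 : sm gb N16134 = N15575 := ded_22_1 (flp_h L172904) (flp_b L171931) L178181
theorem L178185 : sm gc N16134 = N16134 := ded_28_1 (flp_h L178181) L171933 L178181
theorem L178186 : sm gf N16134 = N15901 := ded_40_1 (flp_h L175985) (flp_f L171936) L178181
theorem L178188 : sm gg N16134 = N15698 := ded_42_1 (flp_h L174126) (flp_g L171938) L178181
theorem L178190 : sm gi N16134 = N16020 := ded_44_2 (flp_h L176922) (flp_i L170354) (flp_h L164737) L171929 L178181
theorem L178192 : sm gd N15477 = N16135 := rfl
theorem L178194 : sm gb N16135 = N15576 := ded_18_1 (flp_d L172918) (flp_b L171942) L178192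
theorem L178196 : sm gf N16135 = N15908 := ded_31_2 (flp_d L176054) (flp_f L171948) L178192
theorem L178198 : sm gg N16135 = N15700 := ded_32_2 (flp_d L174143) (flp_g L171950) L178192
theorem L178200 : sm gi N16135 = N15580 := ded_34_2 (flp_d L172964) (flp_i L171952) L178192
theorem L178202 : sm ge N15478 = N16136 := rfl
theorem L178204 : sm gb N16136 = N15695 := ded_19_1 (flp_e L174094) (flp_b L171956) L178202
theorem L178206 : sm gc N16136 = N15509 := ded_25_1 (flp_e L172285) (flp_c L171962) L178202
theorem L178208 : sm gg N16136 = N15701 := ded_36_2 (flp_e L174147) (flp_g L171960) L178202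
theorem L178210 : sm gc N15479 = N16137 := rfl
theorem L178212 : sm ge N16137 = N15558 := ded_25_2 (flp_c L172713) (flp_e L171974) L178210
theorem L178214 : sm gf N16137 = N15942 := ded_26_2 (flp_c L176317) (flp_f L171968) L178210
theorem L178216 : sm gg N16137 = N15713 := ded_27_2 (flp_c L174244) (flp_g L171970) L178210
theorem L178218 : sm gh N16137 = N16137 := ded_28_2 (flp_c L178210) L171976 L178210
theorem L178219 : sm gi N16137 = N15586 := ded_29_2 (flp_c L173030) (flp_i L171972) L178210
theorem L178221 : sm gb N16137 = N15678 := ded_17_1 (flp_c L173940) L167002 (flp_c L165385) (flp_b L171966) L178210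
theorem L178223 : sm gd N15480 = N16138 := rfl
theorem L178225 : sm ga N16138 = N15483 := ded_11_1 (flp_d L172022) (flp_a L171979) L178223
theorem L178227 : sm gf N16138 = N15578 := ded_31_2 (flp_d L172942) (flp_f L171985) L178223
theorem L178229 : sm gg N16138 = N15499 := ded_32_2 (flp_d L172199) (flp_g L171987) L178223
theorem L178231 : sm gi N16138 = N15707 := ded_34_2 (flp_d L174199) (flp_i L171989) L178223
theorem L178233 : sm gc N16138 = N15625 := ded_24_1 (flp_d L173426) L166474 (flp_d L165402) (flp_c L171981) L178223
theorem L178235 : sm gh N16138 = N16047 := ded_33_2 (flp_d L177264) (flp_h L170700) (flp_d L164779) L171977 L178223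
theorem L178237 : sm gh N15481 = N16139 := rfl
theorem L178239 : sm ga N16139 = N15963 := ded_15_1 (flp_h L176476) (flp_a L171993) L178237
theorem L178241 : sm gb N16139 = N15486 := ded_22_1 (flp_h L172058) (flp_b L171995) L178237
theorem L178243 : sm gc N16139 = N16139 := ded_28_1 (flp_h L178237) L171997 L178237
theorem L178244 : sm ge N16139 = N16134 := ded_37_1 (flp_h L178181) (flp_e L172000) L178237
theorem L178246 : sm gf N16139 = N15910 := ded_40_1 (flp_h L176067) (flp_f L172002) L178237
theorem L178248 : sm gg N16139 = N15505 := ded_42_1 (flp_h L172252) (flp_g L172004) L178237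
theorem L178250 : sm gd N15482 = N16140 := rfl
theorem L178252 : sm ga N16140 = N15966 := ded_11_1 (flp_d L176490) (flp_a L172008) L178250
theorem L178254 : sm gb N16140 = N15489 := ded_18_1 (flp_d L172092) (flp_b L172010) L178250
theorem L178256 : sm gf N16140 = N15911 := ded_31_2 (flp_d L176072) (flp_f L172016) L178250
theorem L178258 : sm gg N16140 = N15508 := ded_32_2 (flp_d L172281) (flp_g L172018) L178250
theorem L178260 : sm gi N16140 = N15924 := ded_34_2 (flp_d L176165) (flp_i L172020) L178250
theorem L178262 : sm ge N15483 = N16141 := rfl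
theorem L178264 : sm gb N16141 = N15490 := ded_19_1 (flp_e L172096) (flp_b L172024) L178262
theorem L178266 : sm gc N16141 = N15701 := ded_25_1 (flp_e L174147) (flp_c L172030) L178262
theorem L178268 : sm gg N16141 = N15509 := ded_36_2 (flp_e L172285) (flp_g L172028) L178262
theorem L178270 : sm gh N16141 = N16136 := ded_37_2 (flp_e L178202) (flp_h L172032) L178262
theorem L178272 : sm gi N15484 = N16142 := rfl
theorem L178274 : sm ga N16142 = N15612 := ded_16_1 (flp_i L173299) (flp_a L172036) L178272
theorem L178276 : sm gb N16142 = N15742 := ded_23_1 (flp_i L174518) (flp_b L172038) L178272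
theorem L178278 : sm gc N16142 = N15523 := ded_29_1 (flp_i L172367) (flp_c L172040) L178272
theorem L178280 : sm gd N16142 = N15487 := ded_34_1 (flp_i L172064) (flp_d L172042) L178272
theorem L178282 : sm gf N16142 = N15511 := ded_41_1 (flp_i L172297) (flp_f L172044) L178272
theorem L178284 : sm gg N16142 = N15485 := ded_43_1 (flp_i L172046) L172034 L178272
theorem L178286 : sm gh N15485 = N16143 := rfl
theorem L178288 : sm ga N16143 = N15819 := ded_15_1 L175185 (flp_a L172048) L178286
theorem L178290 : sm gb N16143 = N15910 := ded_22_1 (flp_h L176067) (flp_b L172050) L178286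
theorem L178292 : sm gc N16143 = N15524 := ded_28_1 (flp_h L172378) (flp_c L172052) L178286
theorem L178294 : sm gf N16143 = N15486 := ded_40_1 (flp_h L172058) (flp_f L172056) L178286
theorem L178296 : sm gd N15486 = N16144 := rfl
theorem L178298 : sm gg N16144 = N15515 := ded_32_2 (flp_d L172323) (flp_g L172062) L178296
theorem L178300 : sm gh N16144 = N15489 := ded_33_2 (flp_d L172092) (flp_h L164868) (flp_d L164838) L172058 L178296
theorem L178302 : sm gh N15487 = N16145 := rfl
theorem L178304 : sm ga N16145 = N15613 := ded_15_1 (flp_h L173309) (flp_a L172066) L178302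
theorem L178306 : sm gb N16145 = N15743 := ded_22_1 (flp_h L174527) (flp_b L172068) L178302
theorem L178308 : sm gc N16145 = N15491 := ded_28_1 (flp_h L172102) (flp_c L172070) L178302
theorem L178310 : sm ge N16145 = N15611 := ded_37_1 (flp_h L173287) (flp_e L172072) L178302
theorem L178312 : sm gf N16145 = N15516 := ded_40_1 (flp_h L172327) (flp_f L172074) L178302
theorem L178314 : sm gg N16145 = N15488 := ded_42_1 (flp_h L172078) (flp_g L172076) L178302
theorem L178316 : sm gi N16145 = N15638 := ded_44_2 (flp_h L173558) (flp_i L166594) (flp_h L164852) L172064 L178302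
theorem L178318 : sm gd N15488 = N16146 := rfl
theorem L178320 : sm ga N16146 = N15802 := ded_11_1 L175024 (flp_a L172080) L178318
theorem L178322 : sm gb N16146 = N15911 := ded_18_1 (flp_d L176072) (flp_b L172082) L178318
theorem L178324 : sm gf N16146 = N15489 := ded_31_2 (flp_d L172092) (flp_f L172088) L178318
theorem L178326 : sm gi N16146 = N15916 := ded_34_2 (flp_d L176105) (flp_i L172090) L178318
theorem L178328 : sm gc N15489 = N16147 := rfl
theorem L178330 : sm gg N16147 = N15518 := ded_27_2 (flp_c L172339) (flp_g L172094) L178328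
theorem L178332 : sm gd N16147 = N15493 := ded_24_2 (flp_c L172132) (flp_d L164908) (flp_c L164870) L172092 L178328
theorem L178334 : sm ge N15489 = N16148 := rfl
theorem L178336 : sm gg N16148 = N15519 := ded_36_2 (flp_e L172343) (flp_g L172094) L178334
theorem L178338 : sm gd N16148 = N15490 := ded_30_1 (flp_e L172096) (flp_d L164876) (flp_e L164872) L172092 L178334
theorem L178340 : sm gf N15490 = N16149 := rfl
theorem L178342 : sm gc N16149 = N15791 := ded_26_1 (flp_f L174958) (flp_c L172098) L178340
theorem L178344 : sm gc N15492 = N16150 := rfl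
theorem L178346 : sm ga N16150 = N15830 := ded_10_1 L175289 (flp_a L172120) L178344
theorem L178348 : sm gf N16150 = N15493 := ded_26_2 (flp_c L172132) (flp_f L172124) L178344
theorem L178350 : sm gg N16150 = N15988 := ded_27_2 L176613 (flp_g L172126) L178344
theorem L178352 : sm gh N16150 = N15528 := ded_28_2 (flp_c L172409) (flp_h L172130) L178344
theorem L178354 : sm gi N16150 = N15945 := ded_29_2 (flp_c L176334) (flp_i L172128) L178344
theorem L178356 : sm ge N15492 = N16151 := rfl
theorem L178358 : sm ga N16151 = N15553 := ded_12_1 L172661 (flp_a L172120) L178356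
theorem L178360 : sm gb N16151 = N15552 := ded_19_1 (flp_e L172643) (flp_b L172122) L178356
theorem L178362 : sm gg N16151 = N15564 := ded_36_2 L172784 (flp_g L172126) L178356
theorem L178364 : sm gh N16151 = N15529 := ded_37_2 (flp_e L172418) (flp_h L172130) L178356
theorem L178366 : sm gi N16151 = N15946 := ded_38_2 (flp_e L176337) (flp_i L172128) L178356
theorem L178368 : sm gd N16151 = N15943 := ded_30_1 (flp_e L176322) (flp_d L169747) (flp_e L164902) L172118 L178356
theorem L178370 : sm gf N16151 = N15829 := ded_35_2 (flp_e L175275) L168400 (flp_e L164914) (flp_f L172124) L178356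
theorem L178372 : sm gb N15493 = N16152 := rfl
theorem L178374 : sm ge N16152 = N15830 := ded_19_2 (flp_b L175283) (flp_e L172134) L178372
theorem L178376 : sm gg N16152 = N15522 := ded_21_2 (flp_b L172359) (flp_g L172136) L178372
theorem L178378 : sm gh N16152 = N15530 := ded_22_2 (flp_b L172430) (flp_h L172138) L178372
theorem L178380 : sm gc N16152 = N15553 := ded_17_2 (flp_b L172659) (flp_c L165461) (flp_b L164910) L172132 L178372
theorem L178382 : sm gi N15494 = N16153 := rfl
theorem L178384 : sm ga N16153 = N15503 := ded_16_1 (flp_i L172238) (flp_a L172142) L178382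
theorem L178386 : sm gb N16153 = N15754 := ded_23_1 (flp_i L174632) (flp_b L172144) L178382
theorem L178388 : sm gc N16153 = N16153 := ded_29_1 (flp_i L178382) L172146 L178382
theorem L178389 : sm gd N16153 = N15497 := ded_34_1 (flp_i L172173) (flp_d L172147) L178382
theorem L178391 : sm gf N16153 = N15496 := ded_41_1 (flp_i L172164) L172140 L178382
theorem L178393 : sm gg N16153 = N15747 := ded_43_1 (flp_i L174573) (flp_g L172149) L178382
theorem L178395 : sm gi N15495 = N16154 := rfl
theorem L178397 : sm ga N16154 = N15504 := ded_16_1 (flp_i L172247) (flp_a L172153) L178395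
theorem L178399 : sm gb N16154 = N15702 := ded_23_1 (flp_i L174153) (flp_b L172155) L178395
theorem L178401 : sm gc N16154 = N16154 := ded_29_1 (flp_i L178395) L172157 L178395
theorem L178402 : sm gd N16154 = N15763 := ded_34_1 (flp_i L174694) (flp_d L172162) L178395
theorem L178404 : sm ge N16154 = N15696 := ded_38_1 (flp_i L174102) (flp_e L172158) L178395
theorem L178406 : sm gg N16154 = N15962 := ded_43_1 (flp_i L176469) (flp_g L172160) L178395
theorem L178408 : sm gh N15496 = N16155 := rfl
theorem L178410 : sm ga N16155 = N15505 := ded_15_1 (flp_h L172252) (flp_a L172166) L178408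
theorem L178412 : sm gc N16155 = N16155 := ded_28_1 (flp_h L178408) L172168 L178408
theorem L178413 : sm gg N16155 = N15963 := ded_42_1 (flp_h L176476) (flp_g L172171) L178408
theorem L178415 : sm gh N15497 = N16156 := rfl
theorem L178417 : sm ga N16156 = N15507 := ded_15_1 (flp_h L172271) (flp_a L172175) L178415
theorem L178419 : sm gb N16156 = N15759 := ded_22_1 (flp_h L174670) (flp_b L172177) L178415
theorem L178421 : sm gc N16156 = N15554 := ded_28_1 (flp_h L172667) (flp_c L172179) L178415
theorem L178423 : sm ge N16156 = N15778 := ded_37_1 (flp_h L174844) (flp_e L172181) L178415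
theorem L178425 : sm gf N16156 = N15498 := ded_40_1 (flp_h L172187) (flp_f L172183) L178415
theorem L178427 : sm gg N16156 = N15750 := ded_42_1 (flp_h L174598) (flp_g L172185) L178415
theorem L178429 : sm gi N16156 = N15787 := ded_44_2 (flp_h L174928) (flp_i L168024) (flp_h L164933) L172173 L178415
theorem L178431 : sm gd N15498 = N16157 := rfl
theorem L178433 : sm ga N16157 = N15508 := ded_11_1 (flp_d L172281) (flp_a L172189) L178431
theorem L178435 : sm gg N16157 = N15966 := ded_32_2 (flp_d L176490) (flp_g L172195) L178431
theorem L178437 : sm gi N16157 = N15978 := ded_34_2 (flp_d L176563) (flp_i L172197) L178431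
theorem L178439 : sm ge N15499 = N16158 := rfl
theorem L178441 : sm ga N16158 = N15509 := ded_12_1 (flp_e L172285) (flp_a L172201) L178439
theorem L178443 : sm gi N15500 = N16159 := rfl
theorem L178445 : sm gb N16159 = N15510 := ded_23_1 (flp_i L172289) (flp_b L172207) L178443
theorem L178447 : sm gc N16159 = N16159 := ded_29_1 (flp_i L178443) L172209 L178443
theorem L178448 : sm gd N16159 = N15781 := ded_34_1 (flp_i L174866) (flp_d L172210) L178443
theorem L178450 : sm ge N16159 = N15503 := ded_38_1 (flp_i L172238) L172205 L178443
theorem L178452 : sm gf N16159 = N16154 := ded_41_1 (flp_i L178395) (flp_f L172212) L178443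
theorem L178454 : sm gi N15501 = N16160 := rfl
theorem L178456 : sm ga N16160 = N15747 := ded_16_1 (flp_i L174573) (flp_a L172218) L178454
theorem L178458 : sm gb N16160 = N15511 := ded_23_1 (flp_i L172297) (flp_b L172220) L178454
theorem L178460 : sm gc N16160 = N16160 := ded_29_1 (flp_i L178454) L172222 L178454
theorem L178461 : sm gd N16160 = N15506 := ded_34_1 (flp_i L172257) (flp_d L172223) L178454
theorem L178463 : sm gf N16160 = N15742 := ded_41_1 (flp_i L174518) (flp_f L172225) L178454
theorem L178465 : sm gg N16160 = N15503 := ded_43_1 (flp_i L172238) L172216 L178454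
theorem L178467 : sm gi N15502 = N16161 := rfl
theorem L178469 : sm ga N16161 = N16159 := ded_16_1 (flp_i L178443) (flp_a L172229) L178467
theorem L178471 : sm gb N16161 = N15512 := ded_23_1 (flp_i L172305) (flp_b L172231) L178467
theorem L178473 : sm gc N16161 = N16161 := ded_29_1 (flp_i L178467) L172233 L178467
theorem L178474 : sm ge N16161 = N16153 := ded_38_1 (flp_i L178382) (flp_e L172234) L178467
theorem L178476 : sm gf N16161 = N15504 := ded_41_1 (flp_i L172247) (flp_f L172236) L178467
theorem L178478 : sm gh N15503 = N16162 := rfl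
theorem L178480 : sm gb N16162 = N15513 := ded_22_1 (flp_h L172311) (flp_b L172240) L178478
theorem L178482 : sm gc N16162 = N16162 := ded_28_1 (flp_h L178478) L172242 L178478
theorem L178483 : sm gf N16162 = N15505 := ded_40_1 (flp_h L172252) (flp_f L172245) L178478
theorem L178485 : sm gh N15504 = N16163 := rfl
theorem L178487 : sm gb N16163 = N15514 := ded_22_1 (flp_h L172317) (flp_b L172249) L178485
theorem L178489 : sm gc N16163 = N16163 := ded_28_1 (flp_h L178485) L172251 L178485
theorem L178490 : sm gi N16163 = N15505 := ded_44_2 (flp_h L172252) (flp_i L164969) L164964 L172247 L178485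
theorem L178492 : sm gd N15505 = N16164 := rfl
theorem L178494 : sm gb N16164 = N15515 := ded_18_1 (flp_d L172323) (flp_b L172254) L178492
theorem L178496 : sm gh N16164 = N15508 := ded_33_2 (flp_d L172281) (flp_h L165000) (flp_d L164974) L172252 L178492
theorem L178498 : sm gh N15506 = N16165 := rfl
theorem L178500 : sm ga N16165 = N15750 := ded_15_1 (flp_h L174598) (flp_a L172259) L178498
theorem L178502 : sm gb N16165 = N15516 := ded_22_1 (flp_h L172327) (flp_b L172261) L178498
theorem L178504 : sm gc N16165 = N15556 := ded_28_1 (flp_h L172692) (flp_c L172263) L178498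
theorem L178506 : sm ge N16165 = N15787 := ded_37_1 (flp_h L174928) (flp_e L172265) L178498
theorem L178508 : sm gf N16165 = N15743 := ded_40_1 (flp_h L174527) (flp_f L172267) L178498
theorem L178510 : sm gg N16165 = N15507 := ded_42_1 (flp_h L172271) (flp_g L172269) L178498
theorem L178512 : sm gi N16165 = N15778 := ded_44_2 (flp_h L174844) (flp_i L167936) (flp_h L164986) L172257 L178498
theorem L178514 : sm gd N15507 = N16166 := rfl
theorem L178516 : sm gb N16166 = N15517 := ded_18_1 (flp_d L172335) (flp_b L172273) L178514
theorem L178518 : sm gf N16166 = N15508 := ded_31_2 (flp_d L172281) (flp_f L172279) L178514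
theorem L178520 : sm gc N15508 = N16167 := rfl
theorem L178522 : sm gd N16167 = N15558 := ded_24_2 (flp_c L172713) (flp_d L165517) (flp_c L165004) L172281 L178520
theorem L178524 : sm ge N15508 = N16168 := rfl
theorem L178526 : sm gb N16168 = N15519 := ded_19_1 (flp_e L172343) (flp_b L172283) L178524
theorem L178528 : sm gd N16168 = N15509 := ded_30_1 (flp_e L172285) (flp_d L165008) (flp_e L165006) L172281 L178524
theorem L178530 : sm gf N15509 = N16169 := rfl
theorem L178532 : sm gb N16169 = N15520 := ded_20_1 (flp_f L172347) (flp_b L172287) L178530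
theorem L178534 : sm ge N16169 = N15791 := ded_35_1 (flp_f L174958) (flp_e L168048) (flp_f L165012) L172285 L178530
theorem L178536 : sm gh N15510 = N16170 := rfl
theorem L178538 : sm gc N16170 = N15531 := ded_28_1 (flp_h L172439) (flp_c L172291) L178536
theorem L178540 : sm ge N16170 = N15513 := ded_37_1 (flp_h L172311) (flp_e L172295) L178536
theorem L178542 : sm gh N15511 = N16171 := rfl
theorem L178544 : sm gc N16171 = N15532 := ded_28_1 (flp_h L172444) (flp_c L172299) L178542
theorem L178546 : sm gg N16171 = N15513 := ded_42_1 (flp_h L172311) (flp_g L172303) L178542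
theorem L178548 : sm gh N15512 = N16172 := rfl
theorem L178550 : sm gc N16172 = N15533 := ded_28_1 (flp_h L172449) (flp_c L172307) L178548
theorem L178552 : sm gf N16172 = N15514 := ded_40_1 (flp_h L172317) (flp_f L172309) L178548
theorem L178554 : sm gi N16172 = N15513 := ded_44_2 (flp_h L172311) (flp_i L165032) L165026 L172305 L178548
theorem L178556 : sm gd N15513 = N16173 := rfl
theorem L178558 : sm gf N16173 = N15515 := ded_31_2 (flp_d L172323) (flp_f L172315) L178556
theorem L178560 : sm gh N16173 = N15517 := ded_33_2 (flp_d L172335) (flp_h L165056) (flp_d L165036) L172311 L178556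
theorem L178562 : sm gd N15514 = N16174 := rfl
theorem L178564 : sm gi N16174 = N15515 := ded_34_2 (flp_d L172323) (flp_i L172321) L178562
theorem L178566 : sm gc N15515 = N16175 := rfl
theorem L178568 : sm gh N16175 = N15518 := ded_28_2 (flp_c L172339) (flp_h L172325) L178566
theorem L178570 : sm gd N16175 = N15536 := ded_24_2 (flp_c L172469) (flp_d L165196) (flp_c L165046) L172323 L178566
theorem L178572 : sm ge N15515 = N16176 := rfl
theorem L178574 : sm gh N16176 = N15519 := ded_37_2 (flp_e L172343) (flp_h L172325) L178572
theorem L178576 : sm gd N15516 = N16177 := rfl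
theorem L178578 : sm gg N16177 = N15517 := ded_32_2 (flp_d L172335) (flp_g L172333) L178576
theorem L178580 : sm gc N15517 = N16178 := rfl
theorem L178582 : sm gf N16178 = N15518 := ded_26_2 (flp_c L172339) (flp_f L172337) L178580
theorem L178584 : sm gd N16178 = N15521 := ded_24_2 (flp_c L172353) (flp_d L165078) (flp_c L165058) L172335 L178580
theorem L178586 : sm ge N15517 = N16179 := rfl
theorem L178588 : sm gd N16179 = N15801 := ded_30_1 (flp_e L175020) (flp_d L168102) (flp_e L165060) L172335 L178586
theorem L178590 : sm gb N15518 = N16180 := rfl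
theorem L178592 : sm gd N16180 = N15522 := ded_18_2 (flp_b L172359) (flp_d L172341) L178590
theorem L178594 : sm ge N15518 = N16181 := rfl
theorem L178596 : sm gc N16181 = N15519 := ded_25_1 (flp_e L172343) L172339 L178594
theorem L178598 : sm gd N16181 = N15982 := ded_30_1 (flp_e L176579) L170028 (flp_e L165088) (flp_d L172341) L178594
theorem L178600 : sm gf N15519 = N16182 := rfl
theorem L178602 : sm gd N16182 = N15520 := ded_31_1 (flp_f L172347) (flp_d L172345) L178600
theorem L178604 : sm gg N15520 = N16183 := rfl
theorem L178606 : sm gc N16183 = N15984 := ded_27_1 (flp_g L176587) (flp_c L172349) L178604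
theorem L178608 : sm ge N16183 = N15805 := ded_36_1 (flp_g L175034) (flp_e L172351) L178604
theorem L178610 : sm gb N15521 = N16184 := rfl
theorem L178612 : sm ge N16184 = N15683 := ded_19_2 (flp_b L177703) L177695 L178610
theorem L178614 : sm gf N16184 = N15522 := ded_20_2 (flp_b L172359) (flp_f L172355) L178610
theorem L178616 : sm gg N16184 = N15947 := ded_21_2 (flp_b L177721) L177725 L178610
theorem L178618 : sm gh N16184 = N15542 := ded_22_2 (flp_b L172508) (flp_h L172357) L178610
theorem L178620 : sm gc N16184 = N15563 := ded_17_2 (flp_b L172770) (flp_c L165554) (flp_b L165080) L172353 L178610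
theorem L178622 : sm ga N15686 = N16184 := ded_12_3 L178612 L173989 L174011
theorem L178624 : sm ga N15522 = N16185 := rfl
theorem L178626 : sm gc N16185 = N15564 := ded_10_2 (flp_a L172782) (flp_c L172365) L178624
theorem L178628 : sm ge N16185 = N15988 := ded_12_2 (flp_a L176611) (flp_e L172361) L178624
theorem L178630 : sm gf N16185 = N15686 := ded_13_2 L178622 L178614 L178624
theorem L178632 : sm gh N16185 = N15543 := ded_15_2 (flp_a L172521) (flp_h L172363) L178624
theorem L178634 : sm gh N15523 = N16186 := rfl
theorem L178636 : sm ga N16186 = N15876 := ded_15_1 L175757 (flp_a L172369) L178634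
theorem L178638 : sm gb N16186 = N16186 := ded_22_1 (flp_h L178634) L172371 L178634
theorem L178639 : sm gf N16186 = N15532 := ded_40_1 (flp_h L172444) (flp_f L172374) L178634
theorem L178641 : sm gg N16186 = N15524 := ded_42_1 (flp_h L172378) (flp_g L172376) L178634
theorem L178643 : sm gd N16186 = N16015 := ded_33_1 L176876 L170314 L165127 (flp_d L172372) L178634
theorem L178645 : sm gd N15524 = N16187 := rfl
theorem L178647 : sm ga N16187 = N15868 := ded_11_1 L175662 (flp_a L172380) L178645
theorem L178649 : sm gb N16187 = N16187 := ded_18_1 (flp_d L178645) L172382 L178645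
theorem L178650 : sm gf N16187 = N15525 := ded_31_2 (flp_d L172385) (flp_f L172383) L178645
theorem L178652 : sm gg N16187 = N16015 := ded_32_2 (flp_d L178643) L178641 L178645
theorem L178654 : sm gh N16187 = N15526 := ded_33_2 (flp_d L172392) (flp_h L165129) (flp_d L165106) L172378 L178645
theorem L178656 : sm gc N15525 = N16188 := rfl
theorem L178658 : sm gg N16188 = N15536 := ded_27_2 (flp_c L172469) (flp_g L172388) L178656
theorem L178660 : sm gh N16188 = N15527 := ded_28_2 (flp_c L172402) (flp_h L172390) L178656
theorem L178662 : sm gc N15526 = N16189 := rfl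
theorem L178664 : sm ga N16189 = N15862 := ded_10_1 L175607 (flp_a L172394) L178662
theorem L178666 : sm gf N16189 = N15527 := ded_26_2 (flp_c L172402) (flp_f L172397) L178662
theorem L178668 : sm gg N16189 = N16001 := ded_27_2 L176727 (flp_g L172399) L178662
theorem L178670 : sm gi N16189 = N16189 := ded_29_2 (flp_c L178662) L172401 L178662
theorem L178671 : sm gd N16189 = N15528 := ded_24_2 (flp_c L172409) (flp_d L165148) (flp_c L165134) L172392 L178662
theorem L178673 : sm ge N15526 = N16190 := rfl
theorem L178675 : sm ga N16190 = N15870 := ded_12_1 (flp_e L175681) (flp_a L172394) L178673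
theorem L178677 : sm gb N16190 = N16190 := ded_19_1 (flp_e L178673) L172396 L178673
theorem L178678 : sm gg N16190 = N16017 := ded_36_2 (flp_e L176885) (flp_g L172399) L178673
theorem L178680 : sm gi N16190 = N16190 := ded_38_2 (flp_e L178673) L172401 L178673
theorem L178681 : sm gd N16190 = N16190 := ded_30_1 (flp_e L178673) (flp_d L172392) L165136 L172392 L178673
theorem L178682 : sm gb N15527 = N16191 := rfl
theorem L178684 : sm gd N16191 = N15530 := ded_18_2 (flp_b L172430) (flp_d L172407) L178682
theorem L178686 : sm gg N16191 = N15540 := ded_21_2 (flp_b L172495) (flp_g L172404) L178682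
theorem L178688 : sm gi N16191 = N16191 := ded_23_2 (flp_b L178682) L172406 L178682
theorem L178689 : sm gc N16191 = N16191 := ded_17_2 (flp_b L178682) (flp_c L172402) L165144 L172402 L178682
theorem L178690 : sm gb N15528 = N16192 := rfl
theorem L178692 : sm gf N16192 = N15530 := ded_20_2 (flp_b L172430) (flp_f L172413) L178690
theorem L178694 : sm gg N16192 = N15941 := ded_21_2 L176315 (flp_g L172415) L178690
theorem L178696 : sm gi N16192 = N16192 := ded_23_2 (flp_b L178690) L172417 L178690
theorem L178697 : sm ga N16192 = N15878 := ded_9_1 (flp_b L175766) L169072 L169090 (flp_a L172411) L178690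
theorem L178699 : sm gc N16192 = N15565 := ded_17_2 (flp_b L172792) (flp_c L165572) (flp_b L165152) L172409 L178690
theorem L178701 : sm ge N15877 = N16192 := ded_35_5 L178692 L172432 (flp_f L171030) L171028 (flp_f L175763)
theorem L178703 : sm ge N15528 = N16193 := rfl
theorem L178705 : sm ga N16193 = N15530 := ded_12_1 L172432 (flp_a L172411) L178703
theorem L178707 : sm gb N16193 = N15877 := ded_19_1 L178701 (flp_b L178690) L178703
theorem L178709 : sm gc N16193 = N15529 := ded_25_1 (flp_e L172418) L172409 L178703
theorem L178711 : sm gg N16193 = N15543 := ded_36_2 L172525 (flp_g L172415) L178703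
theorem L178713 : sm gi N16193 = N16193 := ded_38_2 (flp_e L178703) L172417 L178703
theorem L178714 : sm gf N16193 = N15878 := ded_35_2 L175768 L169079 (flp_e L165161) (flp_f L172413) L178703
theorem L178716 : sm gd N15532 = N16194 := rfl
theorem L178718 : sm ga N16194 = N16012 := ded_11_1 (flp_d L177569) L177561 L178716
theorem L178720 : sm gb N16194 = N16194 := ded_18_1 (flp_d L178716) L172446 L178716
theorem L178721 : sm gf N16194 = N16015 := ded_31_2 (flp_d L178643) L178639 L178716
theorem L178723 : sm gg N16194 = N15534 := ded_32_2 (flp_d L172456) (flp_g L172447) L178716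
theorem L178725 : sm gh N16194 = N15538 := ded_33_2 (flp_d L172478) (flp_h L165201) (flp_d L165176) L172444 L178716
theorem L178727 : sm gd N15533 = N16195 := rfl
theorem L178729 : sm gb N16195 = N16195 := ded_18_1 (flp_d L178727) L172451 L178727
theorem L178730 : sm gf N16195 = N15535 := ded_31_2 (flp_d L172463) (flp_f L172452) L178727
theorem L178732 : sm gi N16195 = N15534 := ded_34_2 (flp_d L172456) (flp_i L172454) L178727
theorem L178734 : sm gh N16195 = N16195 := ded_33_2 (flp_d L178727) (flp_h L172449) L165183 L172449 L178727
theorem L178735 : sm gc N15534 = N16196 := rfl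
theorem L178737 : sm gf N16196 = N15536 := ded_26_2 (flp_c L172469) (flp_f L172459) L178735
theorem L178739 : sm gh N16196 = N15539 := ded_28_2 (flp_c L172488) (flp_h L172461) L178735
theorem L178741 : sm gc N15535 = N16197 := rfl
theorem L178743 : sm gh N16197 = N16197 := ded_28_2 (flp_c L178741) L172468 L178741
theorem L178744 : sm gi N16197 = N15536 := ded_29_2 (flp_c L172469) (flp_i L172466) L178741
theorem L178746 : sm ge N15535 = N16198 := rfl
theorem L178748 : sm ga N16198 = N15837 := ded_12_1 (flp_e L177591) L177583 L178746
theorem L178750 : sm gb N16198 = N16198 := ded_19_1 (flp_e L178746) L172465 L178746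
theorem L178751 : sm gg N16198 = N15907 := ded_36_2 (flp_e L177000) L176996 L178746
theorem L178753 : sm gh N16198 = N16198 := ded_37_2 (flp_e L178746) L172468 L178746
theorem L178754 : sm gi N16198 = N15537 := ded_38_2 (flp_e L172473) (flp_i L172466) L178746
theorem L178756 : sm gd N16198 = N15835 := ded_30_1 L175347 L168529 L167400 L172463 L178746
theorem L178758 : sm gb N15536 = N16199 := rfl
theorem L178760 : sm gh N16199 = N15540 := ded_22_2 (flp_b L172495) (flp_h L172471) L178758
theorem L178762 : sm gc N16199 = N16199 := ded_17_2 (flp_b L178758) (flp_c L172469) L165198 L172469 L178758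
theorem L178763 : sm ge N15536 = N16200 := rfl
theorem L178765 : sm gc N16200 = N15537 := ded_25_1 (flp_e L172473) L172469 L178763
theorem L178767 : sm gh N16200 = N15541 := ded_37_2 (flp_e L172501) (flp_h L172471) L178763
theorem L178769 : sm gb N15539 = N16201 := rfl
theorem L178771 : sm gd N16201 = N15542 := ded_18_2 (flp_b L172508) (flp_d L172493) L178769
theorem L178773 : sm gf N16201 = N15540 := ded_20_2 (flp_b L172495) (flp_f L172490) L178769
theorem L178775 : sm gg N16201 = N15950 := ded_21_2 (flp_b L177751) L177755 L178769
theorem L178777 : sm gi N16201 = N16201 := ded_23_2 (flp_b L178769) L172492 L178769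
theorem L178778 : sm gc N16201 = N16201 := ded_17_2 (flp_b L178769) (flp_c L172488) L165217 L172488 L178769
theorem L178779 : sm ga N15688 = N16201 := ded_11_3 L178771 (flp_a L172519) L174030
theorem L178781 : sm ga N15540 = N16202 := rfl
theorem L178783 : sm gc N16202 = N16202 := ded_10_2 (flp_a L178781) L172500 L178781
theorem L178784 : sm gd N16202 = N15543 := ded_11_2 (flp_a L172521) (flp_d L172497) L178781
theorem L178786 : sm gf N16202 = N15688 := ded_13_2 L178779 L178773 L178781
theorem L178788 : sm gi N16202 = N16202 := ded_16_2 (flp_a L178781) L172499 L178781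
theorem L178789 : sm ge N15540 = N16203 := rfl
theorem L178791 : sm gb N16203 = N15541 := ded_19_1 (flp_e L172501) L172495 L178789
theorem L178793 : sm gc N16203 = N16203 := ded_25_1 (flp_e L178789) L172500 L178789
theorem L178794 : sm gi N16203 = N16203 := ded_38_2 (flp_e L178789) L172499 L178789
theorem L178795 : sm gd N16203 = N16002 := ded_30_1 (flp_e L176732) L170140 (flp_e L165239) (flp_d L172497) L178789
theorem L178797 : sm gb N15544 = N16204 := rfl
theorem L178799 : sm gd N16204 = N15681 := ded_18_2 L173968 (flp_d L172543) L178797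
theorem L178801 : sm ge N16204 = N15679 := ded_19_2 L173949 (flp_e L172534) L178797
theorem L178803 : sm gf N16204 = N15949 := ded_20_2 (flp_b L176358) (flp_f L172536) L178797
theorem L178805 : sm gg N16204 = N15548 := ded_21_2 (flp_b L172588) (flp_g L172538) L178797
theorem L178807 : sm gh N16204 = N16204 := ded_22_2 (flp_b L178797) L172540 L178797
theorem L178808 : sm gi N16204 = N15553 := ded_23_2 (flp_b L172659) (flp_i L172541) L178797
theorem L178810 : sm ga N16204 = N15946 := ded_9_1 L176339 L169792 L165639 (flp_a L172532) L178797
theorem L178812 : sm gc N15546 = N16205 := rfl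
theorem L178814 : sm ga N16205 = N15985 := ded_10_1 (flp_c L176591) (flp_a L172561) L178812
theorem L178816 : sm ge N16205 = N15586 := ded_25_2 (flp_c L173030) (flp_e L172569) L178812
theorem L178818 : sm gg N16205 = N15928 := ded_27_2 (flp_c L176189) (flp_g L172565) L178812
theorem L178820 : sm gh N16205 = N15589 := ded_28_2 L173070 (flp_h L172571) L178812
theorem L178822 : sm gi N16205 = N15558 := ded_29_2 (flp_c L172713) (flp_i L172567) L178812
theorem L178824 : sm gb N16205 = N15686 := ded_17_1 L174013 L167100 L165339 (flp_b L172563) L178812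
theorem L178826 : sm gb N15547 = N16206 := rfl
theorem L178828 : sm gd N16206 = N15564 := ded_18_2 L172790 (flp_d L172586) L178826
theorem L178830 : sm ge N16206 = N15677 := ded_19_2 L173933 (flp_e L172577) L178826
theorem L178832 : sm gf N16206 = N15548 := ded_20_2 (flp_b L172588) (flp_f L172579) L178826
theorem L178834 : sm gg N16206 = N15943 := ded_21_2 L176324 (flp_g L172581) L178826
theorem L178836 : sm gh N16206 = N16206 := ded_22_2 (flp_b L178826) L172583 L178826
theorem L178837 : sm gi N16206 = N15563 := ded_23_2 (flp_b L172770) (flp_i L172584) L178826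
theorem L178839 : sm ga N16206 = N15562 := ded_9_1 (flp_b L172761) L165545 (flp_b L165652) (flp_a L172575) L178826
theorem L178841 : sm ga N15548 = N16207 := rfl
theorem L178843 : sm gd N16207 = N15563 := ded_11_2 L172780 (flp_d L172590) L178841
theorem L178845 : sm ge N16207 = N15682 := ded_12_2 L173978 (flp_e L172592) L178841
theorem L178847 : sm gf N16207 = N15562 := ded_13_2 (flp_a L178839) L178832 L178841
theorem L178849 : sm gg N16207 = N15946 := ded_14_2 (flp_a L178810) L178805 L178841
theorem L178851 : sm gh N16207 = N16207 := ded_15_2 (flp_a L178841) L172594 L178841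
theorem L178852 : sm gi N16207 = N15564 := ded_16_2 (flp_a L172782) (flp_i L172595) L178841
theorem L178854 : sm gb N16207 = N15560 := ded_9_2 L172733 (flp_b L165656) (flp_a L165366) L172588 L178841
theorem L178856 : sm gc N15549 = N16208 := rfl
theorem L178858 : sm ga N16208 = N15970 := ded_10_1 (flp_c L176512) (flp_a L172599) L178856
theorem L178860 : sm ge N16208 = N15713 := ded_25_2 (flp_c L174244) (flp_e L172609) L178856
theorem L178862 : sm gf N16208 = N15913 := ded_26_2 (flp_c L176084) (flp_f L172603) L178856
theorem L178864 : sm gg N16208 = N15558 := ded_27_2 (flp_c L172713) (flp_g L172605) L178856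
theorem L178866 : sm gh N16208 = N16208 := ded_28_2 (flp_c L178856) L172611 L178856
theorem L178867 : sm gi N16208 = N15928 := ded_29_2 (flp_c L176189) (flp_i L172607) L178856
theorem L178869 : sm gb N15550 = N16209 := rfl
theorem L178871 : sm gd N16209 = N15553 := ded_18_2 (flp_b L172659) (flp_d L172625) L178869
theorem L178873 : sm ge N16209 = N15676 := ded_19_2 L173922 (flp_e L172616) L178869
theorem L178875 : sm gf N16209 = N15944 := ded_20_2 (flp_b L176329) (flp_f L172618) L178869
theorem L178877 : sm gg N16209 = N15562 := ded_21_2 (flp_b L172761) (flp_g L172620) L178869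
theorem L178879 : sm gh N16209 = N16209 := ded_22_2 (flp_b L178869) L172622 L178869
theorem L178880 : sm gi N16209 = N15681 := ded_23_2 L173968 (flp_i L172623) L178869
theorem L178882 : sm ga N16209 = N15943 := ded_9_1 L176324 L169756 (flp_b L165682) (flp_a L172614) L178869
theorem L178884 : sm gb N15551 = N16210 := rfl
theorem L178886 : sm gd N16210 = N15944 := ded_18_2 (flp_b L176329) (flp_d L172639) L178884
theorem L178888 : sm ge N16210 = N15826 := ded_19_2 L175255 L172641 L178884
theorem L178890 : sm gf N16210 = N15553 := ded_20_2 (flp_b L172659) (flp_f L172631) L178884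
theorem L178892 : sm gg N16210 = N15948 := ded_21_2 L176354 (flp_g L172633) L178884
theorem L178894 : sm gh N16210 = N15565 := ded_22_2 (flp_b L172792) (flp_h L172635) L178884
theorem L178896 : sm gi N16210 = N15949 := ded_23_2 (flp_b L176358) (flp_i L172637) L178884
theorem L178898 : sm ga N16210 = N15829 := ded_9_1 L175277 L168412 (flp_b L165696) (flp_a L172629) L178884
theorem L178900 : sm gc N15555 = N16211 := rfl
theorem L178902 : sm ga N16211 = N15558 := ded_10_1 (flp_c L172713) (flp_a L172683) L178900
theorem L178904 : sm gg N16211 = N15970 := ded_27_2 (flp_c L176512) (flp_g L172687) L178900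
theorem L178906 : sm gh N16211 = N16211 := ded_28_2 (flp_c L178900) L172691 L178900
theorem L178907 : sm gi N16211 = N15985 := ded_29_2 (flp_c L176591) (flp_i L172689) L178900
theorem L178909 : sm gd N15556 = N16212 := rfl
theorem L178911 : sm ga N16212 = N15823 := ded_11_1 (flp_d L175220) (flp_a L172694) L178909
theorem L178913 : sm gb N16212 = N15559 := ded_18_1 (flp_d L172716) (flp_b L172696) L178909
theorem L178915 : sm gf N16212 = N15822 := ded_31_2 (flp_d L175209) (flp_f L172700) L178909
theorem L178917 : sm gg N16212 = N15557 := ded_32_2 (flp_d L172706) (flp_g L172702) L178909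
theorem L178919 : sm gi N16212 = N15826 := ded_34_2 (flp_d L175251) (flp_i L172704) L178909
theorem L178921 : sm ge N16212 = N15949 := ded_30_2 L176360 (flp_e L171382) L171380 (flp_e L172698) L178909
theorem L178923 : sm gh N16212 = N16212 := ded_33_2 (flp_d L178909) (flp_h L172692) L165502 L172692 L178909
theorem L178924 : sm gc N15557 = N16213 := rfl
theorem L178926 : sm gf N16213 = N15558 := ded_26_2 (flp_c L172713) (flp_f L172710) L178924
theorem L178928 : sm gh N16213 = N16213 := ded_28_2 (flp_c L178924) L172712 L178924
theorem L178929 : sm ge N15557 = N16214 := rfl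
theorem L178931 : sm ga N16214 = N15944 := ded_12_1 (flp_e L177682) L177691 L178929
theorem L178933 : sm gb N16214 = N15561 := ded_19_1 (flp_e L172746) (flp_b L172708) L178929
theorem L178935 : sm gg N16214 = N15949 := ded_36_2 (flp_e L178921) L178917 L178929
theorem L178937 : sm gh N16214 = N16214 := ded_37_2 (flp_e L178929) L172712 L178929
theorem L178938 : sm gi N16214 = N15948 := ded_38_2 (flp_e L177735) L177743 L178929
theorem L178940 : sm gd N16214 = N15829 := ded_30_1 (flp_e L175275) (flp_d L168396) (flp_e L165513) L172706 L178929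
theorem L178942 : sm gf N16214 = N15943 := ded_35_2 (flp_e L176322) (flp_f L171968) L171974 (flp_f L172710) L178929
theorem L178944 : sm gb N15558 = N16215 := rfl
theorem L178946 : sm ge N16215 = N15678 := ded_19_2 (flp_b L178221) L178212 L178944
theorem L178948 : sm gh N16215 = N16215 := ded_22_2 (flp_b L178944) L172715 L178944
theorem L178949 : sm gi N16215 = N15686 := ded_23_2 (flp_b L178824) L178822 L178944
theorem L178951 : sm gc N16215 = N15562 := ded_17_2 (flp_b L172761) (flp_c L165543) (flp_b L165519) L172713 L178944
theorem L178953 : sm gh N15569 = N16216 := rfl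
theorem L178955 : sm ga N16216 = N15571 := ded_15_1 (flp_h L172855) (flp_a L172835) L178953
theorem L178957 : sm gb N16216 = N16216 := ded_22_1 (flp_h L178953) L172837 L178953
theorem L178958 : sm ge N16216 = N15570 := ded_37_1 (flp_h L172846) (flp_e L172840) L178953
theorem L178960 : sm gf N16216 = N15670 := ded_40_1 L173852 (flp_f L172842) L178953
theorem L178962 : sm gg N16216 = N15710 := ded_42_1 (flp_h L174215) (flp_g L172844) L178953
theorem L178964 : sm gd N16216 = N15668 := ded_33_1 (flp_h L173819) L166863 (flp_h L167419) (flp_d L172838) L178953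
theorem L178966 : sm gi N16216 = N15669 := ded_44_2 L173839 L166916 (flp_h L165868) L172833 L178953
theorem L178968 : sm ge N15573 = N16217 := rfl
theorem L178970 : sm ga N16217 = N16217 := ded_12_1 (flp_e L178968) L172882 L178968
theorem L178971 : sm gc N16217 = N15867 := ded_25_1 (flp_e L175650) (flp_c L172889) L178968
theorem L178973 : sm gg N16217 = N16014 := ded_36_2 (flp_e L176862) (flp_g L172885) L178968
theorem L178975 : sm gh N16217 = N16217 := ded_37_2 (flp_e L178968) L172891 L178968
theorem L178976 : sm gi N16217 = N15869 := ded_38_2 (flp_e L175670) (flp_i L172887) L178968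
theorem L178978 : sm gd N16217 = N15842 := ded_30_1 (flp_e L175416) (flp_d L168601) (flp_e L165929) L172880 L178968
theorem L178980 : sm gf N16217 = N16008 := ded_35_2 (flp_e L176804) L170223 (flp_e L165938) (flp_f L172883) L178968
theorem L178982 : sm gb N15574 = N16218 := rfl
theorem L178984 : sm gd N16218 = N15855 := ded_18_2 L175539 (flp_d L172902) L178982
theorem L178986 : sm ge N16218 = N16009 := ded_19_2 (flp_b L176816) (flp_e L172895) L178982
theorem L178988 : sm gf N16218 = N15857 := ded_20_2 L175561 (flp_f L172897) L178982
theorem L178990 : sm gh N16218 = N16218 := ded_22_2 (flp_b L178982) L172899 L178982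
theorem L178991 : sm gi N16218 = N15856 := ded_23_2 L175551 (flp_i L172900) L178982
theorem L178993 : sm gd N15575 = N16219 := rfl
theorem L178995 : sm ga N16219 = N15691 := ded_11_1 (flp_d L174056) (flp_a L172906) L178993
theorem L178997 : sm gf N16219 = N15905 := ded_31_2 (flp_d L176027) (flp_f L172912) L178993
theorem L178999 : sm gg N16219 = N15706 := ded_32_2 (flp_d L174195) (flp_g L172914) L178993
theorem L179001 : sm gi N16219 = N16024 := ded_34_2 (flp_d L176970) (flp_i L172916) L178993
theorem L179003 : sm gc N16219 = N15605 := ded_24_1 (flp_d L173229) L166291 (flp_d L165966) (flp_c L172908) L178993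
theorem L179005 : sm gh N16219 = N15576 := ded_33_2 (flp_d L172918) (flp_h L165970) (flp_d L165947) L172904 L178993
theorem L179007 : sm ge N15576 = N16220 := rfl
theorem L179009 : sm ga N16220 = N15694 := ded_12_1 (flp_e L174088) (flp_a L172920) L179007
theorem L179011 : sm gc N16220 = N15622 := ded_25_1 (flp_e L173403) (flp_c L172928) L179007
theorem L179013 : sm gg N16220 = N15708 := ded_36_2 (flp_e L174203) (flp_g L172924) L179007
theorem L179015 : sm gi N16220 = N15583 := ded_38_2 (flp_e L172994) (flp_i L172926) L179007
theorem L179017 : sm gd N16220 = N15695 := ded_30_1 (flp_e L174094) (flp_d L167226) (flp_e L165976) L172918 L179007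
theorem L179019 : sm gd N15577 = N16221 := rfl
theorem L179021 : sm gb N16221 = N15578 := ded_18_1 (flp_d L172942) (flp_b L172932) L179019
theorem L179023 : sm gg N16221 = N15580 := ded_32_2 (flp_d L172964) (flp_g L172938) L179019
theorem L179025 : sm gi N16221 = N15700 := ded_34_2 (flp_d L174143) (flp_i L172940) L179019
theorem L179027 : sm gh N16221 = N16050 := ded_33_2 (flp_d L177305) (flp_h L170740) (flp_d L165990) L172930 L179019
theorem L179029 : sm ge N15578 = N16222 := rfl
theorem L179031 : sm ga N16222 = N15695 := ded_12_1 (flp_e L174094) (flp_a L172944) L179029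
theorem L179033 : sm gc N16222 = N15635 := ded_25_1 (flp_e L173526) (flp_c L172950) L179029
theorem L179035 : sm gg N16222 = N15583 := ded_36_2 (flp_e L172994) (flp_g L172946) L179029
theorem L179037 : sm gh N16222 = N16052 := ded_37_2 (flp_e L177321) (flp_h L172952) L179029
theorem L179039 : sm gi N16222 = N15708 := ded_38_2 (flp_e L174203) (flp_i L172948) L179029
theorem L179041 : sm gd N16222 = N15694 := ded_30_1 (flp_e L174088) (flp_d L167218) (flp_e L166002) L172942 L179029
theorem L179043 : sm gd N15579 = N16223 := rfl
theorem L179045 : sm ga N16223 = N15580 := ded_11_1 (flp_d L172964) (flp_a L172956) L179043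
theorem L179047 : sm gb N16223 = N15625 := ded_18_1 (flp_d L173426) (flp_b L172958) L179043
theorem L179049 : sm gf N16223 = N15629 := ded_31_2 (flp_d L173470) (flp_f L172962) L179043
theorem L179051 : sm gh N16223 = N16056 := ded_33_2 (flp_d L177375) (flp_h L170816) (flp_d L166016) L172954 L179043
theorem L179053 : sm gc N15580 = N16224 := rfl
theorem L179055 : sm gf N16224 = N15917 := ded_26_2 (flp_c L176109) (flp_f L172968) L179053
theorem L179057 : sm gh N16224 = N16061 := ded_28_2 (flp_c L177429) (flp_h L172970) L179053
theorem L179059 : sm gb N16224 = N15647 := ded_17_1 (flp_c L173639) L166653 (flp_c L166058) (flp_b L172966) L179053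
theorem L179061 : sm gd N16224 = N15586 := ded_24_2 (flp_c L173030) (flp_d L166108) (flp_c L166024) L172964 L179053
theorem L179063 : sm ge N15580 = N16225 := rfl
theorem L179065 : sm gb N16225 = N15583 := ded_19_1 (flp_e L172994) (flp_b L172966) L179063
theorem L179067 : sm gh N16225 = N16062 := ded_37_2 (flp_e L177437) (flp_h L172970) L179063
theorem L179069 : sm gd N15581 = N16226 := rfl
theorem L179071 : sm ga N16226 = N15706 := ded_11_1 (flp_d L174195) (flp_a L172974) L179069
theorem L179073 : sm gg N16226 = N15691 := ded_32_2 (flp_d L174056) (flp_g L172980) L179069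
theorem L179075 : sm gi N16226 = N16093 := ded_34_2 (flp_d L177786) (flp_i L172982) L179069
theorem L179077 : sm gc N16226 = N15716 := ded_24_1 (flp_d L174271) L167477 (flp_d L166072) (flp_c L172976) L179069
theorem L179079 : sm gh N16226 = N15582 := ded_33_2 (flp_d L172984) (flp_h L166040) (flp_d L166034) L172972 L179069
theorem L179081 : sm ge N15582 = N16227 := rfl
theorem L179083 : sm ga N16227 = N15708 := ded_12_1 (flp_e L174203) (flp_a L172986) L179081
theorem L179085 : sm gc N16227 = N15740 := ded_25_1 (flp_e L174497) (flp_c L172992) L179081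
theorem L179087 : sm gg N16227 = N15694 := ded_36_2 (flp_e L174088) (flp_g L172988) L179081
theorem L179089 : sm gi N16227 = N15695 := ded_38_2 (flp_e L174094) (flp_i L172990) L179081
theorem L179091 : sm gd N16227 = N15583 := ded_30_1 (flp_e L172994) (flp_d L166052) (flp_e L166046) L172984 L179081
theorem L179093 : sm gf N15583 = N16228 := rfl
theorem L179095 : sm ga N16228 = N15709 := ded_13_1 (flp_f L174207) (flp_a L172996) L179093
theorem L179097 : sm gc N16228 = N15659 := ded_26_1 (flp_f L173731) (flp_c L172998) L179093
theorem L179099 : sm gh N16228 = N16072 := ded_40_2 (flp_f L177527) (flp_h L173000) L179093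
theorem L179101 : sm ge N16228 = N15927 := ded_35_1 (flp_f L176183) (flp_e L169621) (flp_f L166056) L172994 L179093
theorem L179103 : sm gc N15584 = N16229 := rfl
theorem L179105 : sm ga N16229 = N15987 := ded_10_1 L176607 (flp_a L173004) L179103
theorem L179107 : sm ge N16229 = N15928 := ded_25_2 (flp_c L176189) (flp_e L173012) L179103
theorem L179109 : sm gg N16229 = N15586 := ded_27_2 (flp_c L173030) (flp_g L173008) L179103
theorem L179111 : sm gh N16229 = N15587 := ded_28_2 (flp_c L173038) (flp_h L173014) L179103
theorem L179113 : sm gi N16229 = N15713 := ded_29_2 (flp_c L174244) (flp_i L173010) L179103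
theorem L179115 : sm gb N16229 = N15680 := ded_17_1 (flp_c L173956) L167032 (flp_c L166094) (flp_b L173006) L179103
theorem L179117 : sm gc N15585 = N16230 := rfl
theorem L179119 : sm ga N16230 = N15586 := ded_10_1 (flp_c L173030) (flp_a L173018) L179117
theorem L179121 : sm ge N16230 = N15985 := ded_25_2 (flp_c L176591) (flp_e L173026) L179117
theorem L179123 : sm gf N16230 = N15680 := ded_26_2 (flp_c L173956) (flp_f L173022) L179117
theorem L179125 : sm gg N16230 = N15987 := ded_27_2 L176607 (flp_g L173024) L179117
theorem L179127 : sm gh N16230 = N15588 := ded_28_2 (flp_c L173051) (flp_h L173028) L179117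
theorem L179129 : sm gd N15589 = N16231 := rfl
theorem L179131 : sm ga N16231 = N15998 := ded_11_1 L176697 (flp_a L173066) L179129
theorem L179133 : sm gb N16231 = N15688 := ded_18_1 (flp_d L174030) (flp_b L173068) L179129
theorem L179135 : sm gg N16231 = N15938 := ded_32_2 L176287 (flp_g L173072) L179129
theorem L179137 : sm gi N16231 = N16231 := ded_34_2 (flp_d L179129) L173074 L179129
theorem L179138 : sm gc N16231 = N15937 := ded_24_1 (flp_d L176268) L169699 (flp_d L166158) (flp_c L173070) L179129
theorem L179140 : sm ge N16231 = N16090 := ded_30_2 (flp_d L177747) (flp_e L171425) (flp_d L166147) L173064 L179129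
theorem L179142 : sm gh N15590 = N16232 := rfl
theorem L179144 : sm ga N16232 = N15689 := ded_15_1 (flp_h L174034) (flp_a L173077) L179142
theorem L179146 : sm gc N16232 = N15591 := ded_28_1 (flp_h L173085) (flp_c L173079) L179142
theorem L179148 : sm gf N16232 = N15594 := ded_40_1 (flp_h L173119) (flp_f L173083) L179142
theorem L179150 : sm gi N16232 = N16095 := ded_44_2 (flp_h L177810) (flp_i L171529) (flp_h L166178) L173075 L179142
theorem L179152 : sm gh N15592 = N16233 := rfl
theorem L179154 : sm ga N16233 = N15901 := ded_15_1 (flp_h L175985) (flp_a L173098) L179152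
theorem L179156 : sm gb N16233 = N15594 := ded_22_1 (flp_h L173119) (flp_b L173100) L179152
theorem L179158 : sm gc N16233 = N16233 := ded_28_1 (flp_h L179152) L173102 L179152
theorem L179159 : sm gg N16233 = N15600 := ded_42_1 (flp_h L173180) (flp_g L173105) L179152
theorem L179161 : sm gh N15593 = N16234 := rfl
theorem L179163 : sm ga N16234 = N15715 := ded_15_1 (flp_h L174261) (flp_a L173109) L179161
theorem L179165 : sm gc N16234 = N15595 := ded_28_1 (flp_h L173127) (flp_c L173111) L179161
theorem L179167 : sm ge N16234 = N15594 := ded_37_1 (flp_h L173119) (flp_e L173115) L179161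
theorem L179169 : sm gg N16234 = N15604 := ded_42_1 (flp_h L173221) (flp_g L173117) L179161
theorem L179171 : sm gd N15594 = N16235 := rfl
theorem L179173 : sm ga N16235 = N15716 := ded_11_1 (flp_d L174271) (flp_a L173121) L179171
theorem L179175 : sm gg N16235 = N15605 := ded_32_2 (flp_d L173229) (flp_g L173125) L179171
theorem L179177 : sm gc N16235 = N15706 := ded_24_1 (flp_d L174195) L167337 (flp_d L166238) (flp_c L173123) L179171
theorem L179179 : sm gh N16235 = N15610 := ded_33_2 (flp_d L173277) (flp_h L166341) (flp_d L166216) L173119 L179171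
theorem L179181 : sm gi N15596 = N16236 := rfl
theorem L179183 : sm ga N16236 = N15599 := ded_16_1 (flp_i L173173) (flp_a L173140) L179181
theorem L179185 : sm gb N16236 = N15719 := ded_23_1 (flp_i L174302) (flp_b L173142) L179181
theorem L179187 : sm gc N16236 = N16236 := ded_29_1 (flp_i L179181) L173144 L179181
theorem L179188 : sm ge N16236 = N15597 := ded_38_1 (flp_i L173151) L173138 L179181
theorem L179190 : sm gf N16236 = N15952 := ded_41_1 (flp_i L176384) (flp_f L173149) L179181
theorem L179192 : sm gg N16236 = N15900 := ded_43_1 (flp_i L175978) (flp_g L173145) L179181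
theorem L179194 : sm gh N15597 = N16237 := rfl
theorem L179196 : sm ga N16237 = N15600 := ded_15_1 (flp_h L173180) (flp_a L173153) L179194
theorem L179198 : sm gb N16237 = N15720 := ded_22_1 (flp_h L174312) (flp_b L173155) L179194
theorem L179200 : sm gc N16237 = N16237 := ded_28_1 (flp_h L179194) L173157 L179194
theorem L179201 : sm gg N16237 = N15901 := ded_42_1 (flp_h L175985) (flp_g L173160) L179194
theorem L179203 : sm gi N16237 = N16233 := ded_44_2 (flp_h L179152) (flp_i L173096) (flp_h L166247) L173151 L179194
theorem L179205 : sm gi N15598 = N16238 := rfl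
theorem L179207 : sm ga N16238 = N15952 := ded_16_1 (flp_i L176384) (flp_a L173164) L179205
theorem L179209 : sm gb N16238 = N15603 := ded_23_1 (flp_i L173213) (flp_b L173166) L179205
theorem L179211 : sm gc N16238 = N16238 := ded_29_1 (flp_i L179205) L173168 L179205
theorem L179212 : sm ge N16238 = N15909 := ded_38_1 (flp_i L176060) (flp_e L173171) L179205
theorem L179214 : sm gf N16238 = N15599 := ded_41_1 (flp_i L173173) L173162 L179205
theorem L179216 : sm gh N15599 = N16239 := rfl
theorem L179218 : sm gb N16239 = N15604 := ded_22_1 (flp_h L173221) (flp_b L173175) L179216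
theorem L179220 : sm gc N16239 = N16239 := ded_28_1 (flp_h L179216) L173177 L179216
theorem L179221 : sm ge N16239 = N15600 := ded_37_1 (flp_h L173180) (flp_e L173178) L179216
theorem L179223 : sm gd N15600 = N16240 := rfl
theorem L179225 : sm gb N16240 = N15605 := ded_18_1 (flp_d L173229) (flp_b L173182) L179223
theorem L179227 : sm gh N16240 = N15614 := ded_33_2 (flp_d L173321) (flp_h L166381) (flp_d L166261) L173180 L179223
theorem L179229 : sm gi N15601 = N16241 := rfl
theorem L179231 : sm ga N16241 = N15730 := ded_16_1 (flp_i L174431) (flp_a L173187) L179229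
theorem L179233 : sm gb N16241 = N15732 := ded_23_1 (flp_i L174443) (flp_b L173189) L179229
theorem L179235 : sm gc N16241 = N15836 := ded_29_1 (flp_i L175353) (flp_c L173191) L179229
theorem L179237 : sm gd N16241 = N16238 := ded_34_1 (flp_i L179205) (flp_d L173199) L179229
theorem L179239 : sm ge N16241 = N15618 := ded_38_1 (flp_i L173365) (flp_e L173193) L179229
theorem L179241 : sm gf N16241 = N15954 := ded_41_1 (flp_i L176396) (flp_f L173195) L179229
theorem L179243 : sm gg N16241 = N15724 := ded_43_1 (flp_i L174359) (flp_g L173197) L179229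
theorem L179245 : sm gh N15602 = N16242 := rfl
theorem L179247 : sm ga N16242 = N15731 := ded_15_1 (flp_h L174437) (flp_a L173203) L179245
theorem L179249 : sm gc N16242 = N15811 := ded_28_1 L175100 (flp_c L173205) L179245
theorem L179251 : sm ge N16242 = N15619 := ded_37_1 (flp_h L173375) (flp_e L173209) L179245
theorem L179253 : sm gg N16242 = N15820 := ded_42_1 L175193 (flp_g L173211) L179245
theorem L179255 : sm gh N15603 = N16243 := rfl
theorem L179257 : sm ga N16243 = N15733 := ded_15_1 (flp_h L174455) (flp_a L173215) L179255
theorem L179259 : sm gc N16243 = N15606 := ded_28_1 (flp_h L173235) (flp_c L173217) L179255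
theorem L179261 : sm gf N16243 = N15604 := ded_40_1 (flp_h L173221) (flp_f L173219) L179255
theorem L179263 : sm gd N15604 = N16244 := rfl
theorem L179265 : sm ga N16244 = N15734 := ded_11_1 (flp_d L174461) (flp_a L173223) L179263
theorem L179267 : sm ge N15605 = N16245 := rfl
theorem L179269 : sm ga N16245 = N15735 := ded_12_1 (flp_e L174463) (flp_a L173231) L179267
theorem L179271 : sm gh N16245 = N15622 := ded_37_2 (flp_e L173403) (flp_h L173233) L179267
theorem L179273 : sm gd N15606 = N16246 := rfl
theorem L179275 : sm ga N16246 = N15737 := ded_11_1 (flp_d L174473) (flp_a L173237) L179273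
theorem L179277 : sm gb N16246 = N16246 := ded_18_1 (flp_d L179273) L173239 L179273
theorem L179278 : sm gf N16246 = N15607 := ded_31_2 (flp_d L173242) (flp_f L173240) L179273
theorem L179280 : sm gh N16246 = N15879 := ded_33_2 (flp_d L175775) (flp_h L169097) (flp_d L166298) L173235 L179273
theorem L179282 : sm gc N15607 = N16247 := rfl
theorem L179284 : sm ga N16247 = N15738 := ded_10_1 (flp_c L174481) (flp_a L173244) L179282
theorem L179286 : sm ge N16247 = N16188 := ded_25_2 (flp_c L178656) (flp_e L173249) L179282
theorem L179288 : sm gg N16247 = N16200 := ded_27_2 L178765 (flp_g L173247) L179282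
theorem L179290 : sm gh N16247 = N15880 := ded_28_2 (flp_c L175783) (flp_h L173251) L179282
theorem L179292 : sm gd N15608 = N16248 := rfl
theorem L179294 : sm ga N16248 = N15693 := ded_11_1 (flp_d L174080) (flp_a L173255) L179292
theorem L179296 : sm gf N16248 = N15610 := ded_31_2 (flp_d L173277) (flp_f L173259) L179292
theorem L179298 : sm gi N16248 = N15625 := ded_34_2 (flp_d L173426) (flp_i L173261) L179292
theorem L179300 : sm gc N16248 = N15707 := ded_24_1 (flp_d L174199) L167343 (flp_d L166325) (flp_c L173257) L179292
theorem L179302 : sm gd N15609 = N16249 := rfl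
theorem L179304 : sm ga N16249 = N15908 := ded_11_1 (flp_d L176054) (flp_a L173265) L179302
theorem L179306 : sm gb N16249 = N15610 := ded_18_1 (flp_d L173277) (flp_b L173267) L179302
theorem L179308 : sm gg N16249 = N15614 := ded_32_2 (flp_d L173321) (flp_g L173273) L179302
theorem L179310 : sm gi N16249 = N15629 := ded_34_2 (flp_d L173470) (flp_i L173275) L179302
theorem L179312 : sm ge N15610 = N16250 := rfl
theorem L179314 : sm ga N16250 = N15740 := ded_12_1 (flp_e L174497) (flp_a L173279) L179312
theorem L179316 : sm gc N16250 = N15708 := ded_25_1 (flp_e L174203) (flp_c L173285) L179312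
theorem L179318 : sm gg N16250 = N15622 := ded_36_2 (flp_e L173403) (flp_g L173281) L179312
theorem L179320 : sm gi N16250 = N15635 := ded_38_2 (flp_e L173526) (flp_i L173283) L179312
theorem L179322 : sm gd N16250 = N15803 := ded_30_1 (flp_e L175026) L168108 (flp_e L166347) L173277 L179312
theorem L179324 : sm gd N15611 = N16251 := rfl
theorem L179326 : sm ga N16251 = N15614 := ded_11_1 (flp_d L173321) (flp_a L173289) L179324
theorem L179328 : sm gb N16251 = N15744 := ded_18_1 (flp_d L174539) (flp_b L173291) L179324
theorem L179330 : sm gg N16251 = N15908 := ded_32_2 (flp_d L176054) (flp_g L173295) L179324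
theorem L179332 : sm gi N16251 = N15639 := ded_34_2 (flp_d L173570) (flp_i L173297) L179324
theorem L179334 : sm gh N15612 = N16252 := rfl
theorem L179336 : sm gb N16252 = N15619 := ded_22_1 (flp_h L173375) (flp_b L173301) L179334
theorem L179338 : sm gc N16252 = N15876 := ded_28_1 L175757 (flp_c L173303) L179334
theorem L179340 : sm gg N16252 = N15819 := ded_42_1 L175185 (flp_g L173307) L179334
theorem L179342 : sm gd N15613 = N16253 := rfl
theorem L179344 : sm gb N16253 = N15621 := ded_18_1 (flp_d L173393) (flp_b L173311) L179342
theorem L179346 : sm gg N16253 = N15802 := ded_32_2 L175024 (flp_g L173317) L179342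
theorem L179348 : sm gi N16253 = N15646 := ded_34_2 (flp_d L173635) (flp_i L173319) L179342
theorem L179350 : sm gc N16253 = N15981 := ded_24_1 L176577 L170062 (flp_d L166996) (flp_c L173313) L179342
theorem L179352 : sm gc N15614 = N16254 := rfl
theorem L179354 : sm gi N16254 = N15647 := ded_29_2 (flp_c L173639) (flp_i L173325) L179352
theorem L179356 : sm gd N16254 = N15678 := ded_24_2 (flp_c L173940) (flp_d L167000) (flp_c L166385) L173321 L179352
theorem L179358 : sm ge N15614 = N16255 := rfl
theorem L179360 : sm gb N16255 = N15622 := ded_19_1 (flp_e L173403) (flp_b L173323) L179358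
theorem L179362 : sm gi N16255 = N15648 := ded_38_2 (flp_e L173643) (flp_i L173325) L179358
theorem L179364 : sm gi N15615 = N16256 := rfl
theorem L179366 : sm ga N16256 = N15753 := ded_16_1 (flp_i L174624) (flp_a L173329) L179364
theorem L179368 : sm gc N16256 = N15813 := ded_29_1 L175126 (flp_c L173331) L179364
theorem L179370 : sm ge N16256 = N15617 := ded_38_1 (flp_i L173355) L173327 L179364
theorem L179372 : sm gf N16256 = N16101 := ded_41_1 (flp_i L177874) (flp_f L173335) L179364
theorem L179374 : sm gg N16256 = N16064 := ded_43_1 (flp_i L177455) (flp_g L173333) L179364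
theorem L179376 : sm gi N15616 = N16257 := rfl
theorem L179378 : sm ga N16257 = N15755 := ded_16_1 (flp_i L174642) (flp_a L173341) L179376
theorem L179380 : sm gb N16257 = N16256 := ded_23_1 (flp_i L179364) (flp_b L173343) L179376
theorem L179382 : sm gc N16257 = N15881 := ded_29_1 (flp_i L175794) (flp_c L173345) L179376
theorem L179384 : sm gd N16257 = N15651 := ded_34_1 (flp_i L173665) (flp_d L173353) L179376
theorem L179386 : sm ge N16257 = N16063 := ded_38_1 (flp_i L177441) (flp_e L173347) L179376
theorem L179388 : sm gf N16257 = N15618 := ded_41_1 (flp_i L173365) (flp_f L173349) L179376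
theorem L179390 : sm gg N16257 = N16004 := ded_43_1 L176762 (flp_g L173351) L179376
theorem L179392 : sm gh N15617 = N16258 := rfl
theorem L179394 : sm ga N16258 = N15756 := ded_15_1 (flp_h L174654) (flp_a L173357) L179392
theorem L179396 : sm gc N16258 = N15809 := ded_28_1 L175078 (flp_c L173359) L179392
theorem L179398 : sm gf N16258 = N15619 := ded_40_1 (flp_h L173375) (flp_f L173363) L179392
theorem L179400 : sm gh N15618 = N16259 := rfl
theorem L179402 : sm ga N16259 = N15757 := ded_15_1 (flp_h L174660) (flp_a L173367) L179400
theorem L179404 : sm gc N16259 = N15810 := ded_28_1 L175090 (flp_c L173369) L179400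
theorem L179406 : sm gg N16259 = N15817 := ded_42_1 L175167 (flp_g L173373) L179400
theorem L179408 : sm gi N16259 = N15619 := ded_44_2 (flp_h L173375) (flp_i L166407) L166397 L173365 L179400
theorem L179410 : sm gd N15619 = N16260 := rfl
theorem L179412 : sm ga N16260 = N15758 := ded_11_1 (flp_d L174666) (flp_a L173377) L179410
theorem L179414 : sm gg N16260 = N15797 := ded_32_2 L175004 (flp_g L173381) L179410
theorem L179416 : sm gc N16260 = N15768 := ded_24_1 (flp_d L174748) L167864 L168175 (flp_c L173379) L179410
theorem L179418 : sm gh N16260 = N15621 := ded_33_2 (flp_d L173393) (flp_h L166425) (flp_d L166413) L173375 L179410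
theorem L179420 : sm gd N15620 = N16261 := rfl
theorem L179422 : sm ga N16261 = N15760 := ded_11_1 (flp_d L174678) (flp_a L173385) L179420
theorem L179424 : sm gf N16261 = N15621 := ded_31_2 (flp_d L173393) (flp_f L173389) L179420
theorem L179426 : sm gi N16261 = N15656 := ded_34_2 (flp_d L173707) (flp_i L173391) L179420
theorem L179428 : sm gc N16261 = N15770 := ded_24_1 (flp_d L174766) L167882 (flp_d L166451) (flp_c L173387) L179420
theorem L179430 : sm ge N15621 = N16262 := rfl
theorem L179432 : sm ga N16262 = N15761 := ded_12_1 (flp_e L174684) (flp_a L173395) L179430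
theorem L179434 : sm gc N16262 = N15771 := ded_25_1 (flp_e L174772) (flp_c L173401) L179430
theorem L179436 : sm gg N16262 = N15803 := ded_36_2 (flp_e L175026) (flp_g L173397) L179430
theorem L179438 : sm gi N16262 = N15658 := ded_38_2 (flp_e L173725) (flp_i L173399) L179430
theorem L179440 : sm gd N16262 = N15622 := ded_30_1 (flp_e L173403) (flp_d L166437) (flp_e L166431) L173393 L179430
theorem L179442 : sm gf N15622 = N16263 := rfl
theorem L179444 : sm ga N16263 = N15762 := ded_13_1 (flp_f L174690) (flp_a L173405) L179442
theorem L179446 : sm gi N16263 = N15659 := ded_41_2 (flp_f L173731) (flp_i L173407) L179442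
theorem L179448 : sm gh N15623 = N16264 := rfl
theorem L179450 : sm ga N16264 = N15698 := ded_15_1 (flp_h L174126) (flp_a L173411) L179448
theorem L179452 : sm gc N16264 = N16264 := ded_28_1 (flp_h L179448) L173413 L179448
theorem L179453 : sm ge N16264 = N16155 := ded_37_1 (flp_h L178408) (flp_e L173416) L179448
theorem L179455 : sm gd N15624 = N16265 := rfl
theorem L179457 : sm ga N16265 = N15700 := ded_11_1 (flp_d L174143) (flp_a L173420) L179455
theorem L179459 : sm ge N15625 = N16266 := rfl
theorem L179461 : sm ga N16266 = N15701 := ded_12_1 (flp_e L174147) (flp_a L173428) L179459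
theorem L179463 : sm gh N16266 = N16158 := ded_37_2 (flp_e L178439) (flp_h L173432) L179459
theorem L179465 : sm gc N15626 = N16267 := rfl
theorem L179467 : sm ga N16267 = N15713 := ded_10_1 (flp_c L174244) (flp_a L173436) L179465
theorem L179469 : sm ge N16267 = N15970 := ded_25_2 (flp_c L176512) (flp_e L173442) L179465
theorem L179471 : sm gh N16267 = N16267 := ded_28_2 (flp_c L179465) L173444 L179465
theorem L179472 : sm gi N16267 = N15987 := ded_29_2 L176607 (flp_i L173440) L179465
theorem L179474 : sm gh N15627 = N16268 := rfl
theorem L179476 : sm ga N16268 = N15915 := ded_15_1 (flp_h L176098) (flp_a L173447) L179474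
theorem L179478 : sm gb N16268 = N15632 := ded_22_1 (flp_h L173498) (flp_b L173449) L179474
theorem L179480 : sm gc N16268 = N16268 := ded_28_1 (flp_h L179474) L173451 L179474
theorem L179481 : sm gg N16268 = N15644 := ded_42_1 (flp_h L173622) (flp_g L173454) L179474
theorem L179483 : sm gd N15628 = N16269 := rfl
theorem L179485 : sm ga N16269 = N15916 := ded_11_1 (flp_d L176105) (flp_a L173458) L179483
theorem L179487 : sm gb N16269 = N15634 := ded_18_1 (flp_d L173516) (flp_b L173460) L179483
theorem L179489 : sm gg N16269 = N15646 := ded_32_2 (flp_d L173635) (flp_g L173466) L179483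
theorem L179491 : sm gi N16269 = N15802 := ded_34_2 L175024 (flp_i L173468) L179483
theorem L179493 : sm gc N15629 = N16270 := rfl
theorem L179495 : sm ga N16270 = N15917 := ded_10_1 (flp_c L176109) (flp_a L173472) L179493
theorem L179497 : sm gg N16270 = N15647 := ded_27_2 (flp_c L173639) (flp_g L173476) L179493
theorem L179499 : sm gd N16270 = N15680 := ded_24_2 (flp_c L173956) (flp_d L167028) (flp_c L166513) L173470 L179493
theorem L179501 : sm ge N15629 = N16271 := rfl
theorem L179503 : sm ga N16271 = N15918 := ded_12_1 (flp_e L176115) (flp_a L173472) L179501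
theorem L179505 : sm gb N16271 = N15635 := ded_19_1 (flp_e L173526) (flp_b L173474) L179501
theorem L179507 : sm gg N16271 = N15648 := ded_36_2 (flp_e L173643) (flp_g L173476) L179501
theorem L179509 : sm gh N15630 = N16272 := rfl
theorem L179511 : sm ga N16272 = N15766 := ded_15_1 (flp_h L174730) (flp_a L173480) L179509
theorem L179513 : sm gc N16272 = N15664 := ded_28_1 (flp_h L173783) (flp_c L173482) L179509
theorem L179515 : sm gf N16272 = N15632 := ded_40_1 (flp_h L173498) (flp_f L173486) L179509
theorem L179517 : sm gh N15631 = N16273 := rfl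
theorem L179519 : sm ga N16273 = N15767 := ded_15_1 (flp_h L174738) (flp_a L173490) L179517
theorem L179521 : sm gc N16273 = N15665 := ded_28_1 (flp_h L173792) (flp_c L173492) L179517
theorem L179523 : sm gg N16273 = N15653 := ded_42_1 (flp_h L173685) (flp_g L173496) L179517
theorem L179525 : sm gi N16273 = N15632 := ded_44_2 (flp_h L173498) (flp_i L166535) L166525 L173488 L179517
theorem L179527 : sm gd N15632 = N16274 := rfl
theorem L179529 : sm ga N16274 = N15768 := ded_11_1 (flp_d L174748) (flp_a L173500) L179527
theorem L179531 : sm gg N16274 = N15654 := ded_32_2 (flp_d L173693) (flp_g L173504) L179527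
theorem L179533 : sm gc N16274 = N15758 := ded_24_1 (flp_d L174666) L167774 (flp_d L166824) (flp_c L173502) L179527
theorem L179535 : sm gh N16274 = N15634 := ded_33_2 (flp_d L173516) (flp_h L166553) (flp_d L166541) L173498 L179527
theorem L179537 : sm gd N15633 = N16275 := rfl
theorem L179539 : sm ga N16275 = N15770 := ded_11_1 (flp_d L174766) (flp_a L173508) L179537
theorem L179541 : sm gf N16275 = N15634 := ded_31_2 (flp_d L173516) (flp_f L173512) L179537
theorem L179543 : sm gi N16275 = N15800 := ded_34_2 L175018 (flp_i L173514) L179537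
theorem L179545 : sm gc N16275 = N15760 := ded_24_1 (flp_d L174678) L167784 (flp_d L166579) (flp_c L173510) L179537
theorem L179547 : sm ge N15634 = N16276 := rfl
theorem L179549 : sm ga N16276 = N15771 := ded_12_1 (flp_e L174772) (flp_a L173518) L179547
theorem L179551 : sm gc N16276 = N15761 := ded_25_1 (flp_e L174684) (flp_c L173524) L179547
theorem L179553 : sm gg N16276 = N15658 := ded_36_2 (flp_e L173725) (flp_g L173520) L179547
theorem L179555 : sm gi N16276 = N15803 := ded_38_2 (flp_e L175026) (flp_i L173522) L179547
theorem L179557 : sm gd N16276 = N15635 := ded_30_1 (flp_e L173526) (flp_d L166565) (flp_e L166559) L173516 L179547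
theorem L179559 : sm gf N15635 = N16277 := rfl
theorem L179561 : sm ga N16277 = N15772 := ded_13_1 (flp_f L174780) (flp_a L173528) L179559
theorem L179563 : sm gi N15636 = N16278 := rfl
theorem L179565 : sm ga N16278 = N15643 := ded_16_1 (flp_i L173617) (flp_a L173534) L179563
theorem L179567 : sm gb N16278 = N15776 := ded_23_1 (flp_i L174824) (flp_b L173536) L179563
theorem L179569 : sm gc N16278 = N16278 := ded_29_1 (flp_i L179563) L173538 L179563
theorem L179570 : sm ge N16278 = N16099 := ded_38_1 (flp_i L177856) (flp_e L173539) L179563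
theorem L179572 : sm gf N16278 = N16121 := ded_41_1 (flp_i L178078) (flp_f L173541) L179563
theorem L179574 : sm gg N16278 = N15914 := ded_43_1 (flp_i L176091) (flp_g L173543) L179563
theorem L179576 : sm gh N15637 = N16279 := rfl
theorem L179578 : sm ga N16279 = N15644 := ded_15_1 (flp_h L173622) (flp_a L173547) L179576
theorem L179580 : sm gb N16279 = N15777 := ded_22_1 (flp_h L174834) (flp_b L173549) L179576
theorem L179582 : sm gc N16279 = N16279 := ded_28_1 (flp_h L179576) L173551 L179576
theorem L179583 : sm ge N16279 = N16268 := ded_37_1 (flp_h L179474) (flp_e L173554) L179576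
theorem L179585 : sm gg N16279 = N15915 := ded_42_1 (flp_h L176098) (flp_g L173556) L179576
theorem L179587 : sm gd N15638 = N16280 := rfl
theorem L179589 : sm ga N16280 = N15646 := ded_11_1 (flp_d L173635) (flp_a L173560) L179587
theorem L179591 : sm gb N16280 = N15779 := ded_18_1 (flp_d L174852) (flp_b L173562) L179587
theorem L179593 : sm gg N16280 = N15916 := ded_32_2 (flp_d L176105) (flp_g L173568) L179587
theorem L179595 : sm gc N15639 = N16281 := rfl
theorem L179597 : sm ga N16281 = N15647 := ded_10_1 (flp_c L173639) (flp_a L173572) L179595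
theorem L179599 : sm gg N16281 = N15917 := ded_27_2 (flp_c L176109) (flp_g L173576) L179595
theorem L179601 : sm gh N16281 = N16270 := ded_28_2 (flp_c L179493) (flp_h L173578) L179595
theorem L179603 : sm gd N16281 = N15683 := ded_24_2 (flp_c L173987) (flp_d L167071) (flp_c L166612) L173570 L179595
theorem L179605 : sm ge N15639 = N16282 := rfl
theorem L179607 : sm ga N16282 = N15648 := ded_12_1 (flp_e L173643) (flp_a L173572) L179605
theorem L179609 : sm gb N16282 = N15780 := ded_19_1 (flp_e L174858) (flp_b L173574) L179605
theorem L179611 : sm gg N16282 = N15918 := ded_36_2 (flp_e L176115) (flp_g L173576) L179605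
theorem L179613 : sm gh N16282 = N16271 := ded_37_2 (flp_e L179501) (flp_h L173578) L179605
theorem L179615 : sm gi N15640 = N16283 := rfl
theorem L179617 : sm ga N16283 = N16123 := ded_16_1 (flp_i L178098) (flp_a L173582) L179615
theorem L179619 : sm gb N16283 = N15649 := ded_23_1 (flp_i L173647) (flp_b L173584) L179615
theorem L179621 : sm gc N16283 = N16283 := ded_29_1 (flp_i L179615) L173586 L179615
theorem L179622 : sm gd N16283 = N16064 := ded_34_1 (flp_i L177455) (flp_d L173587) L179615
theorem L179624 : sm ge N16283 = N15642 := ded_38_1 (flp_i L173608) L173580 L179615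
theorem L179626 : sm gf N16283 = N16038 := ded_41_1 (flp_i L177160) (flp_f L173589) L179615
theorem L179628 : sm gi N15641 = N16284 := rfl
theorem L179630 : sm ga N16284 = N16121 := ded_16_1 (flp_i L178078) (flp_a L173595) L179628
theorem L179632 : sm gb N16284 = N15651 := ded_23_1 (flp_i L173665) (flp_b L173597) L179628
theorem L179634 : sm gc N16284 = N16284 := ded_29_1 (flp_i L179628) L173599 L179628
theorem L179635 : sm gd N16284 = N16256 := ded_34_1 (flp_i L179364) (flp_d L173606) L179628
theorem L179637 : sm ge N16284 = N16037 := ded_38_1 (flp_i L177147) (flp_e L173600) L179628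
theorem L179639 : sm gf N16284 = N15643 := ded_41_1 (flp_i L173617) (flp_f L173602) L179628
theorem L179641 : sm gg N16284 = N16283 := ded_43_1 (flp_i L179615) (flp_g L173604) L179628
theorem L179643 : sm gh N15642 = N16285 := rfl
theorem L179645 : sm gb N16285 = N15652 := ded_22_1 (flp_h L173677) (flp_b L173610) L179643
theorem L179647 : sm gc N16285 = N16285 := ded_28_1 (flp_h L179643) L173612 L179643
theorem L179648 : sm gf N16285 = N15644 := ded_40_1 (flp_h L173622) (flp_f L173615) L179643
theorem L179650 : sm gh N15643 = N16286 := rfl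
theorem L179652 : sm gb N16286 = N15653 := ded_22_1 (flp_h L173685) (flp_b L173619) L179650
theorem L179654 : sm gc N16286 = N16286 := ded_28_1 (flp_h L179650) L173621 L179650
theorem L179655 : sm gi N16286 = N15644 := ded_44_2 (flp_h L173622) (flp_i L166628) L166623 L173617 L179650
theorem L179657 : sm gd N15644 = N16287 := rfl
theorem L179659 : sm gb N16287 = N15654 := ded_18_1 (flp_d L173693) (flp_b L173624) L179657
theorem L179661 : sm gh N16287 = N15646 := ded_33_2 (flp_d L173635) (flp_h L166643) (flp_d L166633) L173622 L179657
theorem L179663 : sm gd N15645 = N16288 := rfl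
theorem L179665 : sm gb N16288 = N15656 := ded_18_1 (flp_d L173707) (flp_b L173629) L179663
theorem L179667 : sm gf N16288 = N15646 := ded_31_2 (flp_d L173635) (flp_f L173633) L179663
theorem L179669 : sm gc N15646 = N16289 := rfl
theorem L179671 : sm gi N16289 = N15981 := ded_29_2 (flp_c L179350) L179348 L179669
theorem L179673 : sm gb N16289 = N15967 := ded_17_1 (flp_c L176496) L173723 (flp_c L173713) (flp_b L173637) L179669
theorem L179675 : sm gd N16289 = N15685 := ded_24_2 (flp_c L174004) (flp_d L167087) (flp_c L166647) L173635 L179669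
theorem L179677 : sm ge N15646 = N16290 := rfl
theorem L179679 : sm gb N16290 = N15658 := ded_19_1 (flp_e L173725) (flp_b L173637) L179677
theorem L179681 : sm gd N16290 = N15648 := ded_30_1 (flp_e L173643) (flp_d L166651) (flp_e L166649) L173635 L179677
theorem L179683 : sm ge N15647 = N16291 := rfl
theorem L179685 : sm gc N16291 = N15648 := ded_25_1 (flp_e L173643) L173639 L179683
theorem L179687 : sm gf N15648 = N16292 := rfl
theorem L179689 : sm gb N16292 = N15659 := ded_20_1 (flp_f L173731) (flp_b L173645) L179687
theorem L179691 : sm gh N15649 = N16293 := rfl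
theorem L179693 : sm ga N16293 = N15792 := ded_15_1 (flp_h L174964) (flp_a L173649) L179691
theorem L179695 : sm gc N16293 = N15666 := ded_28_1 (flp_h L173803) (flp_c L173651) L179691
theorem L179697 : sm ge N16293 = N15652 := ded_37_1 (flp_h L173677) (flp_e L173653) L179691
theorem L179699 : sm gh N15650 = N16294 := rfl
theorem L179701 : sm ga N16294 = N15793 := ded_15_1 (flp_h L174970) (flp_a L173657) L179699
theorem L179703 : sm gc N16294 = N15667 := ded_28_1 (flp_h L173810) (flp_c L173659) L179699
theorem L179705 : sm gg N16294 = N15652 := ded_42_1 (flp_h L173677) (flp_g L173663) L179699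
theorem L179707 : sm gi N16294 = N16293 := ded_44_2 (flp_h L179691) (flp_i L173647) L166669 L173655 L179699
theorem L179709 : sm gh N15651 = N16295 := rfl
theorem L179711 : sm ga N16295 = N15794 := ded_15_1 (flp_h L174978) (flp_a L173667) L179709
theorem L179713 : sm gc N16295 = N15668 := ded_28_1 (flp_h L173819) (flp_c L173669) L179709
theorem L179715 : sm ge N16295 = N16294 := ded_37_1 (flp_h L179699) (flp_e L173671) L179709
theorem L179717 : sm gf N16295 = N15653 := ded_40_1 (flp_h L173685) (flp_f L173673) L179709
theorem L179719 : sm gg N16295 = N16293 := ded_42_1 (flp_h L179691) (flp_g L173675) L179709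
theorem L179721 : sm gi N16295 = N15652 := ded_44_2 (flp_h L173677) (flp_i L166683) L166671 L173665 L179709
theorem L179723 : sm gd N15652 = N16296 := rfl
theorem L179725 : sm ga N16296 = N15795 := ded_11_1 (flp_d L174990) (flp_a L173679) L179723
theorem L179727 : sm gf N16296 = N15654 := ded_31_2 (flp_d L173693) (flp_f L173683) L179723
theorem L179729 : sm gh N16296 = N15656 := ded_33_2 (flp_d L173707) (flp_h L166713) (flp_d L166689) L173677 L179723
theorem L179731 : sm gd N15653 = N16297 := rfl
theorem L179733 : sm ga N16297 = N15796 := ded_11_1 (flp_d L174996) (flp_a L173687) L179731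
theorem L179735 : sm gi N16297 = N15654 := ded_34_2 (flp_d L173693) (flp_i L173691) L179731
theorem L179737 : sm gc N15654 = N16298 := rfl
theorem L179739 : sm ga N16298 = N15797 := ded_10_1 (flp_c L175000) (flp_a L173695) L179737
theorem L179741 : sm gg N16298 = N15758 := ded_27_2 (flp_c L179533) L179531 L179737
theorem L179743 : sm gh N16298 = N15657 := ded_28_2 (flp_c L173713) (flp_h L173697) L179737
theorem L179745 : sm gd N16298 = N15671 := ded_24_2 (flp_c L173854) (flp_d L166885) (flp_c L166703) L173693 L179737
theorem L179747 : sm gb N15965 = N16298 := ded_22_3 L179743 (flp_b L173723) (flp_h L176488)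
theorem L179749 : sm ge N15654 = N16299 := rfl
theorem L179751 : sm ga N16299 = N15798 := ded_12_1 (flp_e L175006) (flp_a L173695) L179749
theorem L179753 : sm gh N16299 = N15658 := ded_37_2 (flp_e L173725) (flp_h L173697) L179749
theorem L179755 : sm gd N15655 = N16300 := rfl
theorem L179757 : sm ga N16300 = N15799 := ded_11_1 (flp_d L175010) (flp_a L173701) L179755
theorem L179759 : sm gg N16300 = N15656 := ded_32_2 (flp_d L173707) (flp_g L173705) L179755
theorem L179761 : sm gc N15656 = N16301 := rfl
theorem L179763 : sm ga N16301 = N15800 := ded_10_1 (flp_c L175014) (flp_a L173709) L179761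
theorem L179765 : sm gf N16301 = N15657 := ded_26_2 (flp_c L173713) (flp_f L173711) L179761
theorem L179767 : sm gi N16301 = N15770 := ded_29_2 (flp_c L179428) L179426 L179761
theorem L179769 : sm gd N16301 = N15660 := ded_24_2 (flp_c L173735) (flp_d L166737) (flp_c L166717) L173707 L179761
theorem L179771 : sm gb N15966 = N16301 := ded_9_0 L179763 (flp_b L177315) L177313 (flp_b L178254) L178252
theorem L179773 : sm ge N15656 = N16302 := rfl
theorem L179775 : sm ga N16302 = N15801 := ded_12_1 (flp_e L175020) (flp_a L173709) L179773
theorem L179777 : sm ge N15657 = N16303 := rfl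
theorem L179779 : sm ga N16303 = N15803 := ded_12_1 (flp_e L175026) (flp_a L173715) L179777
theorem L179781 : sm gb N16303 = N15968 := ded_19_1 (flp_e L176502) L173723 L179777
theorem L179783 : sm gc N16303 = N15658 := ded_25_1 (flp_e L173725) L173713 L179777
theorem L179785 : sm gg N16303 = N15761 := ded_36_2 (flp_e L174684) (flp_g L173717) L179777
theorem L179787 : sm gi N16303 = N15771 := ded_38_2 (flp_e L174772) (flp_i L173719) L179777
theorem L179789 : sm gd N16303 = N15740 := ded_30_1 (flp_e L174497) (flp_d L167640) (flp_e L166753) (flp_d L173721) L179777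
theorem L179791 : sm gf N15658 = N16304 := rfl
theorem L179793 : sm ga N16304 = N15804 := ded_13_1 (flp_f L175030) (flp_a L173727) L179791
theorem L179795 : sm gd N16304 = N15659 := ded_31_1 (flp_f L173731) (flp_d L173729) L179791
theorem L179797 : sm gg N15659 = N16305 := rfl
theorem L179799 : sm ga N16305 = N15805 := ded_14_1 (flp_g L175034) (flp_a L173733) L179797
theorem L179801 : sm gh N15661 = N16306 := rfl
theorem L179803 : sm ga N16306 = N15806 := ded_15_1 (flp_h L175036) (flp_a L173749) L179801
theorem L179805 : sm gb N16306 = N16306 := ded_22_1 (flp_h L179801) L173751 L179801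
theorem L179806 : sm ge N16306 = N15664 := ded_37_1 (flp_h L173783) (flp_e L173753) L179801
theorem L179808 : sm gg N16306 = N15932 := ded_42_1 (flp_h L176221) (flp_g L173755) L179801
theorem L179810 : sm gi N16306 = N15931 := ded_44_2 (flp_h L176214) (flp_i L169654) L166771 L173747 L179801
theorem L179812 : sm gh N15662 = N16307 := rfl
theorem L179814 : sm ga N16307 = N15807 := ded_15_1 (flp_h L175046) (flp_a L173759) L179812
theorem L179816 : sm gb N16307 = N16307 := ded_22_1 (flp_h L179812) L173761 L179812
theorem L179817 : sm ge N16307 = N15932 := ded_37_1 (flp_h L176221) (flp_e L173764) L179812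
theorem L179819 : sm gf N16307 = N15667 := ded_40_1 (flp_h L173810) (flp_f L173766) L179812
theorem L179821 : sm gg N16307 = N15664 := ded_42_1 (flp_h L173783) (flp_g L173768) L179812
theorem L179823 : sm gd N16307 = N15895 := ded_33_1 (flp_h L175931) L169323 (flp_h L166838) (flp_d L173762) L179812
theorem L179825 : sm gi N16307 = N15930 := ded_44_2 (flp_h L176203) (flp_i L169643) L166784 L173757 L179812
theorem L179827 : sm gh N15663 = N16308 := rfl
theorem L179829 : sm ga N16308 = N15808 := ded_15_1 (flp_h L175058) (flp_a L173772) L179827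
theorem L179831 : sm gb N16308 = N16308 := ded_22_1 (flp_h L179827) L173774 L179827
theorem L179832 : sm ge N16308 = N15931 := ded_37_1 (flp_h L176214) (flp_e L173777) L179827
theorem L179834 : sm gf N16308 = N15665 := ded_40_1 (flp_h L173792) (flp_f L173779) L179827
theorem L179836 : sm gg N16308 = N15930 := ded_42_1 (flp_h L176203) (flp_g L173781) L179827
theorem L179838 : sm gd N16308 = N15896 := ded_33_1 (flp_h L175940) L169332 (flp_h L169198) (flp_d L173775) L179827
theorem L179840 : sm gi N16308 = N15664 := ded_44_2 (flp_h L173783) (flp_i L166799) L166786 L173770 L179827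
theorem L179842 : sm gd N15667 = N16309 := rfl
theorem L179844 : sm ga N16309 = N15815 := ded_11_1 (flp_d L175143) (flp_a L173812) L179842
theorem L179846 : sm gb N16309 = N16309 := ded_18_1 (flp_d L179842) L173814 L179842
theorem L179847 : sm gf N16309 = N15895 := ded_31_2 (flp_d L179823) L179819 L179842
theorem L179849 : sm gg N16309 = N15669 := ded_32_2 (flp_d L173832) (flp_g L173815) L179842
theorem L179851 : sm gi N16309 = N15710 := ded_34_2 L174222 (flp_i L173817) L179842
theorem L179853 : sm ge N16309 = N15711 := ded_30_2 L174233 (flp_e L178958) L178964 L173824 L179842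
theorem L179855 : sm gh N16309 = N15673 := ded_33_2 (flp_d L173875) (flp_h L166894) (flp_d L166854) L173810 L179842
theorem L179857 : sm gc N15669 = N16310 := rfl
theorem L179859 : sm ga N16310 = N15816 := ded_10_1 (flp_c L175155) (flp_a L173834) L179857
theorem L179861 : sm ge N16310 = N16232 := ded_25_2 L179146 L173841 L179857
theorem L179863 : sm gf N16310 = N15671 := ded_26_2 (flp_c L173854) (flp_f L173837) L179857
theorem L179865 : sm gh N16310 = N15674 := ded_28_2 (flp_c L173888) (flp_h L173839) L179857
theorem L179867 : sm gb N15963 = N16310 := ded_9_0 L179859 L175163 L174046 (flp_b L178241) L178239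
theorem L179869 : sm gc N15670 = N16311 := rfl
theorem L179871 : sm ga N16311 = N15817 := ded_10_1 (flp_c L175165) (flp_a L173845) L179869
theorem L179873 : sm gg N16311 = N15757 := ded_27_2 L174662 (flp_g L173848) L179869
theorem L179875 : sm gh N16311 = N15739 := ded_28_2 L174491 (flp_h L173852) L179869
theorem L179877 : sm gi N16311 = N15671 := ded_29_2 (flp_c L173854) (flp_i L173850) L179869
theorem L179879 : sm gb N15964 = N16311 := ded_22_3 L179875 L174489 L176481
theorem L179881 : sm ge N15670 = N16312 := rfl
theorem L179883 : sm ga N16312 = N15818 := ded_12_1 (flp_e L175171) (flp_a L173845) L179881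
theorem L179885 : sm gb N16312 = N16312 := ded_19_1 (flp_e L179881) L173847 L179881
theorem L179886 : sm gg N16312 = N15887 := ded_36_2 L175870 (flp_g L173848) L179881
theorem L179888 : sm gh N16312 = N15834 := ded_37_2 L175336 (flp_h L173852) L179881
theorem L179890 : sm gi N16312 = N15672 := ded_38_2 (flp_e L173864) (flp_i L173850) L179881
theorem L179892 : sm gf N16312 = N15835 := ded_35_2 L175347 (flp_f L172851) (flp_e L178958) L178960 L179881
theorem L179894 : sm ge N15671 = N16313 := rfl
theorem L179896 : sm ga N16313 = N15820 := ded_12_1 (flp_e L175189) (flp_a L173856) L179894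
theorem L179898 : sm gb N16313 = N15953 := ded_19_1 L176394 L173862 L179894
theorem L179900 : sm gc N16313 = N15672 := ded_25_1 (flp_e L173864) L173854 L179894
theorem L179902 : sm gg N16313 = N15731 := ded_36_2 L174441 (flp_g L173858) L179894
theorem L179904 : sm gh N16313 = N15675 := ded_37_2 (flp_e L173902) (flp_h L173860) L179894
theorem L179906 : sm gf N16313 = N16234 := ded_35_2 L179167 (flp_f L179148) (flp_e L179861) L179863 L179894
theorem L179908 : sm gc N15676 = N16314 := rfl
theorem L179910 : sm ga N16314 = N15942 := ded_10_1 (flp_c L176317) (flp_a L173920) L179908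
theorem L179912 : sm gg N16314 = N15678 := ded_27_2 (flp_c L173940) (flp_g L173924) L179908
theorem L179914 : sm gh N16314 = N16314 := ded_28_2 (flp_c L179908) L173928 L179908
theorem L179915 : sm gi N16314 = N15680 := ded_29_2 (flp_c L173956) (flp_i L173926) L179908
theorem L179917 : sm gb N16314 = N15713 := ded_17_1 (flp_c L174244) L167431 (flp_c L166975) (flp_b L173922) L179908
theorem L179919 : sm gc N15677 = N16315 := rfl
theorem L179921 : sm ga N16315 = N15678 := ded_10_1 (flp_c L173940) (flp_a L173931) L179919
theorem L179923 : sm gg N16315 = N15942 := ded_27_2 (flp_c L176317) (flp_g L173935) L179919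
theorem L179925 : sm gh N16315 = N16315 := ded_28_2 (flp_c L179919) L173939 L179919
theorem L179926 : sm gi N16315 = N15683 := ded_29_2 (flp_c L173987) (flp_i L173937) L179919
theorem L179928 : sm gc N15679 = N16316 := rfl
theorem L179930 : sm ga N16316 = N15945 := ded_10_1 (flp_c L176334) (flp_a L173947) L179928
theorem L179932 : sm gg N16316 = N15685 := ded_27_2 (flp_c L174004) (flp_g L173951) L179928
theorem L179934 : sm gh N16316 = N16316 := ded_28_2 (flp_c L179928) L173955 L179928
theorem L179935 : sm gi N16316 = N15830 := ded_29_2 L175289 (flp_i L173953) L179928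
theorem L179937 : sm gb N16316 = N15824 := ded_17_1 (flp_c L175229) L168354 (flp_c L167046) (flp_b L173949) L179928
theorem L179939 : sm ge N15680 = N16317 := rfl
theorem L179941 : sm ga N16317 = N15947 := ded_12_1 (flp_e L176344) (flp_a L173958) L179939
theorem L179943 : sm gb N16317 = N15928 := ded_19_1 (flp_e L179107) L179115 L179939
theorem L179945 : sm gc N16317 = N15681 := ded_25_1 (flp_e L173964) L173956 L179939
theorem L179947 : sm gg N16317 = N15686 := ded_36_2 (flp_e L174011) (flp_g L173960) L179939
theorem L179949 : sm gh N16317 = N15687 := ded_37_2 (flp_e L174017) (flp_h L173962) L179939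
theorem L179951 : sm gf N16317 = N15929 := ded_35_2 (flp_e L177549) L177551 (flp_e L179121) L179123 L179939
theorem L179953 : sm gc N15682 = N16318 := rfl
theorem L179955 : sm ga N16318 = N15685 := ded_10_1 (flp_c L174004) (flp_a L173978) L179953
theorem L179957 : sm gg N16318 = N15945 := ded_27_2 (flp_c L176334) (flp_g L173982) L179953
theorem L179959 : sm gh N16318 = N16318 := ded_28_2 (flp_c L179953) L173986 L179953
theorem L179960 : sm gi N16318 = N15988 := ded_29_2 L176613 (flp_i L173984) L179953
theorem L179962 : sm gc N15684 = N16319 := rfl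
theorem L179964 : sm gf N16319 = N15685 := ded_26_2 (flp_c L174004) (flp_f L173999) L179962
theorem L179966 : sm gh N16319 = N16319 := ded_28_2 (flp_c L179962) L174003 L179962
theorem L179967 : sm gi N16319 = N15986 := ded_29_2 L176603 (flp_i L174001) L179962
theorem L179969 : sm gb N16319 = N15970 := ded_17_1 (flp_c L176512) L169964 (flp_c L167112) (flp_b L173997) L179962
theorem L179971 : sm gd N15686 = N16320 := rfl
theorem L179973 : sm gd N15687 = N16321 := rfl
theorem L179975 : sm ga N16321 = N15950 := ded_11_1 (flp_d L176363) (flp_a L174019) L179973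
theorem L179977 : sm gb N16321 = N15938 := ded_18_1 L176287 (flp_b L174021) L179973
theorem L179979 : sm gf N16321 = N15939 := ded_31_2 L176291 (flp_f L174028) L179973
theorem L179981 : sm gg N16321 = N15688 := ded_32_2 (flp_d L174030) (flp_g L174025) L179973
theorem L179983 : sm gi N16321 = N16321 := ded_34_2 (flp_d L179973) L174027 L179973
theorem L179984 : sm gc N16321 = N16321 := ded_24_1 (flp_d L179973) L174023 L167131 (flp_c L174023) L179973
theorem L179985 : sm ge N16321 = N16201 := ded_30_2 L178771 L172510 L167141 L174017 L179973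
theorem L179987 : sm gh N15688 = N16322 := rfl
theorem L179989 : sm gc N16322 = N16322 := ded_28_1 (flp_h L179987) L174033 L179987
theorem L179990 : sm gd N15689 = N16323 := rfl
theorem L179992 : sm gb N16323 = N15691 := ded_18_1 (flp_d L174056) (flp_b L174036) L179990
theorem L179994 : sm gf N16323 = N15716 := ded_31_2 (flp_d L174271) (flp_f L174040) L179990
theorem L179996 : sm gi N16323 = N16098 := ded_34_2 (flp_d L177848) (flp_i L174042) L179990
theorem L179998 : sm gh N16323 = N15693 := ded_33_2 (flp_d L174080) (flp_h L167208) (flp_d L167172) L174034 L179990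
theorem L180000 : sm gd N15690 = N16324 := rfl
theorem L180002 : sm ga N16324 = N16144 := ded_11_1 (flp_d L178296) (flp_a L174046) L180000
theorem L180004 : sm gg N16324 = N16067 := ded_32_2 (flp_d L177487) (flp_g L174052) L180000
theorem L180006 : sm gi N16324 = N16103 := ded_34_2 (flp_d L177898) (flp_i L174054) L180000
theorem L180008 : sm gh N16324 = N16051 := ded_33_2 (flp_d L177311) (flp_h L170750) (flp_d L167182) L174044 L180000
theorem L180010 : sm ge N15691 = N16325 := rfl
theorem L180012 : sm gc N16325 = N15735 := ded_25_1 (flp_e L174463) (flp_c L174062) L180010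
theorem L180014 : sm gh N16325 = N15694 := ded_37_2 (flp_e L174088) (flp_h L174064) L180010
theorem L180016 : sm gi N16325 = N16104 := ded_38_2 (flp_e L177900) (flp_i L174060) L180010
theorem L180018 : sm gc N15692 = N16326 := rfl
theorem L180020 : sm ga N16326 = N16188 := ded_10_1 (flp_c L178656) (flp_a L174068) L180018
theorem L180022 : sm ge N16326 = N15738 := ded_25_2 (flp_c L174481) (flp_e L174076) L180018
theorem L180024 : sm gg N16326 = N16078 := ded_27_2 (flp_c L177594) (flp_g L174072) L180018
theorem L180026 : sm gh N16326 = N15882 := ded_28_2 (flp_c L175808) (flp_h L174078) L180018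
theorem L180028 : sm gi N16326 = N16107 := ded_29_2 (flp_c L177929) (flp_i L174074) L180018
theorem L180030 : sm ge N15693 = N16327 := rfl
theorem L180032 : sm gb N16327 = N15694 := ded_19_1 (flp_e L174088) (flp_b L174082) L180030
theorem L180034 : sm gi N16327 = N15701 := ded_38_2 (flp_e L174147) (flp_i L174086) L180030
theorem L180036 : sm gf N15694 = N16328 := rfl
theorem L180038 : sm gc N16328 = N15762 := ded_26_1 (flp_f L174690) (flp_c L174090) L180036
theorem L180040 : sm gi N16328 = N15709 := ded_41_2 (flp_f L174207) (flp_i L174092) L180036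
theorem L180042 : sm ge N16328 = N15969 := ded_35_1 (flp_f L176508) (flp_e L169958) (flp_f L167220) L174088 L180036
theorem L180044 : sm gf N15695 = N16329 := rfl
theorem L180046 : sm gc N16329 = N15772 := ded_26_1 (flp_f L174780) (flp_c L174096) L180044
theorem L180048 : sm gh N16329 = N16149 := ded_40_2 (flp_f L178340) (flp_h L174100) L180044
theorem L180050 : sm gh N15696 = N16330 := rfl
theorem L180052 : sm gb N16330 = N15704 := ded_22_1 (flp_h L174177) (flp_b L174104) L180050
theorem L180054 : sm gc N16330 = N16330 := ded_28_1 (flp_h L180050) L174106 L180050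
theorem L180055 : sm gf N16330 = N15698 := ded_40_1 (flp_h L174126) (flp_f L174109) L180050
theorem L180057 : sm gi N16330 = N16264 := ded_44_2 (flp_h L179448) (flp_i L173409) L167241 L174102 L180050
theorem L180059 : sm gh N15697 = N16331 := rfl
theorem L180061 : sm ga N16331 = N16330 := ded_15_1 (flp_h L180050) (flp_a L174113) L180059
theorem L180063 : sm gb N16331 = N15705 := ded_22_1 (flp_h L174183) (flp_b L174115) L180059
theorem L180065 : sm gc N16331 = N16331 := ded_28_1 (flp_h L180059) L174117 L180059
theorem L180066 : sm ge N16331 = N16163 := ded_37_1 (flp_h L178485) (flp_e L174120) L180059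
theorem L180068 : sm gf N16331 = N16264 := ded_40_1 (flp_h L179448) (flp_f L174122) L180059
theorem L180070 : sm gg N16331 = N16020 := ded_42_1 (flp_h L176922) (flp_g L174124) L180059
theorem L180072 : sm gi N16331 = N15698 := ded_44_2 (flp_h L174126) (flp_i L167258) L167243 L174111 L180059
theorem L180074 : sm gd N15698 = N16332 := rfl
theorem L180076 : sm gb N16332 = N15706 := ded_18_1 (flp_d L174195) (flp_b L174128) L180074
theorem L180078 : sm gh N16332 = N15700 := ded_33_2 (flp_d L174143) (flp_h L167277) (flp_d L167263) L174126 L180074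
theorem L180080 : sm gd N15699 = N16333 := rfl
theorem L180082 : sm gb N16333 = N15707 := ded_18_1 (flp_d L174199) (flp_b L174135) L180080
theorem L180084 : sm gf N16333 = N15700 := ded_31_2 (flp_d L174143) (flp_f L174141) L180080
theorem L180086 : sm gc N15700 = N16334 := rfl
theorem L180088 : sm gd N16334 = N15713 := ded_24_2 (flp_c L174244) (flp_d L167429) (flp_c L167281) L174143 L180086
theorem L180090 : sm ge N15700 = N16335 := rfl
theorem L180092 : sm gb N16335 = N15708 := ded_19_1 (flp_e L174203) (flp_b L174145) L180090
theorem L180094 : sm gd N16335 = N15701 := ded_30_1 (flp_e L174147) (flp_d L167285) (flp_e L167283) L174143 L180090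
theorem L180096 : sm gf N15701 = N16336 := rfl
theorem L180098 : sm gb N16336 = N15709 := ded_20_1 (flp_f L174207) (flp_b L174149) L180096
theorem L180100 : sm gh N16336 = N16169 := ded_40_2 (flp_f L178530) (flp_h L174151) L180096
theorem L180102 : sm ge N16336 = N15772 := ded_35_1 (flp_f L174780) (flp_e L167892) (flp_f L167289) L174147 L180096
theorem L180104 : sm gh N15702 = N16337 := rfl
theorem L180106 : sm gc N16337 = N15710 := ded_28_1 (flp_h L174215) (flp_c L174155) L180104
theorem L180108 : sm ge N16337 = N15704 := ded_37_1 (flp_h L174177) (flp_e L174159) L180104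
theorem L180110 : sm gf N16337 = N16170 := ded_40_1 (flp_h L178536) (flp_f L174161) L180104
theorem L180112 : sm gh N15703 = N16338 := rfl
theorem L180114 : sm ga N16338 = N16091 := ded_15_1 (flp_h L177760) (flp_a L174165) L180112
theorem L180116 : sm gb N16338 = N16264 := ded_22_1 (flp_h L179448) (flp_b L174167) L180112
theorem L180118 : sm gc N16338 = N15711 := ded_28_1 (flp_h L174224) (flp_c L174169) L180112
theorem L180120 : sm gf N16338 = N15705 := ded_40_1 (flp_h L174183) (flp_f L174173) L180112
theorem L180122 : sm gg N16338 = N16232 := ded_42_1 (flp_h L179142) (flp_g L174175) L180112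
theorem L180124 : sm gi N16338 = N15704 := ded_44_2 (flp_h L174177) (flp_i L167315) L167301 L174163 L180112
theorem L180126 : sm gd N15704 = N16339 := rfl
theorem L180128 : sm gf N16339 = N15706 := ded_31_2 (flp_d L174195) (flp_f L174181) L180126
theorem L180130 : sm gh N16339 = N15707 := ded_33_2 (flp_d L174199) (flp_h L167341) (flp_d L167319) L174177 L180126
theorem L180132 : sm gd N15705 = N16340 := rfl
theorem L180134 : sm ga N16340 = N16093 := ded_11_1 (flp_d L177786) (flp_a L174185) L180132
theorem L180136 : sm gg N16340 = N16024 := ded_32_2 (flp_d L176970) (flp_g L174191) L180132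
theorem L180138 : sm gi N16340 = N15706 := ded_34_2 (flp_d L174195) (flp_i L174193) L180132
theorem L180140 : sm gh N16340 = N16031 := ded_33_2 (flp_d L177066) (flp_h L170504) (flp_d L167329) L174183 L180132
theorem L180142 : sm ge N15706 = N16341 := rfl
theorem L180144 : sm gh N16341 = N15708 := ded_37_2 (flp_e L174203) (flp_h L174197) L180142
theorem L180146 : sm gd N16341 = N16176 := ded_30_1 (flp_e L178572) (flp_d L172323) (flp_e L167339) L174195 L180142
theorem L180148 : sm ge N15707 = N16342 := rfl
theorem L180150 : sm gd N16342 = N15980 := ded_30_1 (flp_e L176573) (flp_d L170022) (flp_e L167345) L174199 L180148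
theorem L180152 : sm gf N15708 = N16343 := rfl
theorem L180154 : sm gd N16343 = N15709 := ded_31_1 (flp_f L174207) (flp_d L174205) L180152
theorem L180156 : sm gg N15709 = N16344 := rfl
theorem L180158 : sm gc N16344 = N15805 := ded_27_1 (flp_g L175034) (flp_c L174209) L180156
theorem L180160 : sm ge N16344 = N15984 := ded_36_1 (flp_g L176587) (flp_e L174213) L180156
theorem L180162 : sm gh N16344 = N16183 := ded_42_2 (flp_g L178604) (flp_h L174211) L180156
theorem L180164 : sm gc N15712 = N16345 := rfl
theorem L180166 : sm gf N16345 = N15713 := ded_26_2 (flp_c L174244) (flp_f L174241) L180164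
theorem L180168 : sm gh N16345 = N16345 := ded_28_2 (flp_c L180164) L174243 L180164
theorem L180169 : sm gi N15714 = N16346 := rfl
theorem L180171 : sm ga N16346 = N15724 := ded_16_1 (flp_i L174359) (flp_a L174249) L180169
theorem L180173 : sm gb N16346 = N15952 := ded_23_1 (flp_i L176384) (flp_b L174251) L180169
theorem L180175 : sm gc N16346 = N15834 := ded_29_1 (flp_i L175330) (flp_c L174253) L180169
theorem L180177 : sm ge N16346 = N15739 := ded_38_1 (flp_i L174485) (flp_e L174255) L180169
theorem L180179 : sm gf N16346 = N15719 := ded_41_1 (flp_i L174302) (flp_f L174257) L180169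
theorem L180181 : sm gg N16346 = N15730 := ded_43_1 (flp_i L174431) (flp_g L174259) L180169
theorem L180183 : sm gd N15715 = N16347 := rfl
theorem L180185 : sm gb N16347 = N15956 := ded_18_1 (flp_d L176420) (flp_b L174263) L180183
theorem L180187 : sm gg N16347 = N15734 := ded_32_2 (flp_d L174461) (flp_g L174269) L180183
theorem L180189 : sm ge N15716 = N16348 := rfl
theorem L180191 : sm gb N16348 = N15957 := ded_19_1 (flp_e L176424) (flp_b L174273) L180189
theorem L180193 : sm gg N16348 = N15735 := ded_36_2 (flp_e L174463) (flp_g L174275) L180189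
theorem L180195 : sm gh N16348 = N15740 := ded_37_2 (flp_e L174497) (flp_h L174277) L180189
theorem L180197 : sm gc N15717 = N16349 := rfl
theorem L180199 : sm ga N16349 = N16200 := ded_10_1 L178765 (flp_a L174281) L180197
theorem L180201 : sm ge N16349 = N16078 := ded_25_2 (flp_c L177594) (flp_e L174289) L180197
theorem L180203 : sm gf N16349 = N15997 := ded_26_2 L176688 (flp_f L174285) L180197
theorem L180205 : sm gg N16349 = N15738 := ded_27_2 (flp_c L174481) (flp_g L174287) L180197
theorem L180207 : sm gh N16349 = N15883 := ded_28_2 (flp_c L175823) (flp_h L174291) L180197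
theorem L180209 : sm gi N15718 = N16350 := rfl
theorem L180211 : sm ga N16350 = N15723 := ded_16_1 (flp_i L174348) (flp_a L174295) L180209
theorem L180213 : sm gc N16350 = N16350 := ded_29_1 (flp_i L180209) L174299 L180209
theorem L180214 : sm gd N16350 = N15719 := ded_34_1 (flp_i L174302) L174293 L180209
theorem L180216 : sm ge N16350 = N15742 := ded_38_1 (flp_i L174518) (flp_e L174300) L180209
theorem L180218 : sm gg N16350 = N15902 := ded_43_1 (flp_i L175992) (flp_g L174297) L180209
theorem L180220 : sm gh N15719 = N16351 := rfl
theorem L180222 : sm ga N16351 = N15725 := ded_15_1 (flp_h L174369) (flp_a L174304) L180220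
theorem L180224 : sm gc N16351 = N15835 := ded_28_1 (flp_h L175342) (flp_c L174306) L180220
theorem L180226 : sm ge N16351 = N15720 := ded_37_1 (flp_h L174312) (flp_e L174308) L180220
theorem L180228 : sm gg N16351 = N15904 := ded_42_1 (flp_h L176017) (flp_g L174310) L180220
theorem L180230 : sm gi N16351 = N16234 := ded_44_2 (flp_h L179161) (flp_i L173107) (flp_h L167497) L174302 L180220
theorem L180232 : sm gd N15720 = N16352 := rfl
theorem L180234 : sm ga N16352 = N15726 := ded_11_1 (flp_d L174381) (flp_a L174314) L180232
theorem L180236 : sm gg N16352 = N15905 := ded_32_2 (flp_d L176027) (flp_g L174318) L180232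
theorem L180238 : sm gi N16352 = N16235 := ded_34_2 (flp_d L179171) (flp_i L174320) L180232
theorem L180240 : sm gc N16352 = N16340 := ded_24_1 (flp_d L180132) L174187 (flp_d L168529) (flp_c L174316) L180232
theorem L180242 : sm gh N16352 = N15744 := ded_33_2 (flp_d L174539) (flp_h L167665) (flp_d L167505) L174312 L180232
theorem L180244 : sm gi N15721 = N16353 := rfl
theorem L180246 : sm gb N16353 = N15729 := ded_23_1 (flp_i L174421) (flp_b L174324) L180244
theorem L180248 : sm gc N16353 = N16353 := ded_29_1 (flp_i L180244) L174326 L180244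
theorem L180249 : sm gd N16353 = N15724 := ded_34_1 (flp_i L174359) (flp_d L174327) L180244
theorem L180251 : sm gf N16353 = N15723 := ded_41_1 (flp_i L174348) L174322 L180244
theorem L180253 : sm gg N16353 = N16238 := ded_43_1 (flp_i L179205) (flp_g L174329) L180244
theorem L180255 : sm gi N15722 = N16354 := rfl
theorem L180257 : sm ga N16354 = N16353 := ded_16_1 (flp_i L180244) (flp_a L174335) L180255
theorem L180259 : sm gb N16354 = N15730 := ded_23_1 (flp_i L174431) (flp_b L174337) L180255
theorem L180261 : sm gc N16354 = N16354 := ded_29_1 (flp_i L180255) L174339 L180255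
theorem L180262 : sm gd N16354 = N16346 := ded_34_1 (flp_i L180169) (flp_d L174346) L180255
theorem L180264 : sm ge N16354 = N15748 := ded_38_1 (flp_i L174582) (flp_e L174340) L180255
theorem L180266 : sm gf N16354 = N16350 := ded_41_1 (flp_i L180209) (flp_f L174342) L180255
theorem L180268 : sm gg N16354 = N15952 := ded_43_1 (flp_i L176384) (flp_g L174344) L180255
theorem L180270 : sm gh N15723 = N16355 := rfl
theorem L180272 : sm gb N16355 = N15731 := ded_22_1 (flp_h L174437) (flp_b L174350) L180270
theorem L180274 : sm gc N16355 = N16355 := ded_28_1 (flp_h L180270) L174352 L180270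
theorem L180275 : sm ge N16355 = N15749 := ded_37_1 (flp_h L174591) (flp_e L174355) L180270
theorem L180277 : sm gg N16355 = N15953 := ded_42_1 (flp_h L176391) (flp_g L174357) L180270
theorem L180279 : sm gh N15724 = N16356 := rfl
theorem L180281 : sm gb N16356 = N15733 := ded_22_1 (flp_h L174455) (flp_b L174361) L180279
theorem L180283 : sm gc N16356 = N15818 := ded_28_1 L175175 (flp_c L174363) L180279
theorem L180285 : sm ge N16356 = N15817 := ded_37_1 L175167 (flp_e L174365) L180279
theorem L180287 : sm gf N16356 = N15725 := ded_40_1 (flp_h L174369) (flp_f L174367) L180279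
theorem L180289 : sm gi N16356 = N15820 := ded_44_2 L175193 L168316 (flp_h L167524) L174359 L180279
theorem L180291 : sm gd N15725 = N16357 := rfl
theorem L180293 : sm gb N16357 = N15734 := ded_18_1 (flp_d L174461) (flp_b L174371) L180291
theorem L180295 : sm gg N16357 = N15956 := ded_32_2 (flp_d L176420) (flp_g L174377) L180291
theorem L180297 : sm gi N16357 = N16347 := ded_34_2 (flp_d L180183) (flp_i L174379) L180291
theorem L180299 : sm ge N15726 = N16358 := rfl
theorem L180301 : sm gb N16358 = N15735 := ded_19_1 (flp_e L174463) (flp_b L174383) L180299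
theorem L180303 : sm gg N16358 = N15957 := ded_36_2 (flp_e L176424) (flp_g L174385) L180299
theorem L180305 : sm gh N16358 = N15752 := ded_37_2 (flp_e L174616) (flp_h L174389) L180299
theorem L180307 : sm gi N16358 = N16348 := ded_38_2 (flp_e L180189) (flp_i L174387) L180299
theorem L180309 : sm gi N15727 = N16359 := rfl
theorem L180311 : sm ga N16359 = N16101 := ded_16_1 (flp_i L177874) (flp_a L174393) L180309
theorem L180313 : sm gc N16359 = N15884 := ded_29_1 (flp_i L175834) (flp_c L174395) L180309
theorem L180315 : sm gd N16359 = N16278 := ded_34_1 (flp_i L179563) (flp_d L174399) L180309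
theorem L180317 : sm ge N16359 = N15729 := ded_38_1 (flp_i L174421) L174391 L180309
theorem L180319 : sm gf N16359 = N15753 := ded_41_1 (flp_i L174624) (flp_f L174401) L180309
theorem L180321 : sm gg N16359 = N16022 := ded_43_1 (flp_i L176944) (flp_g L174397) L180309
theorem L180323 : sm gi N15728 = N16360 := rfl
theorem L180325 : sm ga N16360 = N15954 := ded_16_1 (flp_i L176396) (flp_a L174407) L180323
theorem L180327 : sm gb N16360 = N16350 := ded_23_1 (flp_i L180209) (flp_b L174409) L180323
theorem L180329 : sm gc N16360 = N15885 := ded_29_1 (flp_i L175846) (flp_c L174411) L180323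
theorem L180331 : sm gd N16360 = N16236 := ded_34_1 (flp_i L179181) (flp_d L174419) L180323
theorem L180333 : sm ge N16360 = N16142 := ded_38_1 (flp_i L178272) (flp_e L174413) L180323
theorem L180335 : sm gf N16360 = N15730 := ded_41_1 (flp_i L174431) (flp_f L174415) L180323
theorem L180337 : sm gg N16360 = N15903 := ded_43_1 (flp_i L176003) (flp_g L174417) L180323
theorem L180339 : sm gh N15729 = N16361 := rfl
theorem L180341 : sm gc N16361 = N15886 := ded_28_1 (flp_h L175858) (flp_c L174423) L180339
theorem L180343 : sm gf N16361 = N15731 := ded_40_1 (flp_h L174437) (flp_f L174427) L180339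
theorem L180345 : sm gg N16361 = N16243 := ded_42_1 (flp_h L179255) (flp_g L174429) L180339
theorem L180347 : sm gh N15730 = N16362 := rfl
theorem L180349 : sm gc N16362 = N15887 := ded_28_1 (flp_h L175867) (flp_c L174433) L180347
theorem L180351 : sm ge N16362 = N15757 := ded_37_1 (flp_h L174660) (flp_e L174435) L180347
theorem L180353 : sm gi N16362 = N15731 := ded_44_2 (flp_h L174437) (flp_i L167562) L167556 L174431 L180347
theorem L180355 : sm gd N15731 = N16363 := rfl
theorem L180357 : sm gh N16363 = N15734 := ded_33_2 (flp_d L174461) (flp_h L167586) (flp_d L167566) L174437 L180355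
theorem L180359 : sm gh N15732 = N16364 := rfl
theorem L180361 : sm ga N16364 = N16361 := ded_15_1 (flp_h L180339) (flp_a L174445) L180359
theorem L180363 : sm gc N16364 = N15736 := ded_28_1 (flp_h L174467) (flp_c L174447) L180359
theorem L180365 : sm gf N16364 = N16242 := ded_40_1 (flp_h L179245) (flp_f L174451) L180359
theorem L180367 : sm gg N16364 = N15733 := ded_42_1 (flp_h L174455) (flp_g L174453) L180359
theorem L180369 : sm gd N15733 = N16365 := rfl
theorem L180371 : sm gf N16365 = N15734 := ded_31_2 (flp_d L174461) (flp_f L174459) L180369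
theorem L180373 : sm gc N15734 = N16366 := rfl
theorem L180375 : sm gd N16366 = N15738 := ded_24_2 (flp_c L174481) (flp_d L167610) (flp_c L167588) L174461 L180373
theorem L180377 : sm ge N15734 = N16367 := rfl
theorem L180379 : sm gd N16367 = N15735 := ded_30_1 (flp_e L174463) (flp_d L167592) (flp_e L167590) L174461 L180377
theorem L180381 : sm gf N15735 = N16368 := rfl
theorem L180383 : sm gh N16368 = N15762 := ded_40_2 (flp_f L174690) (flp_h L174465) L180381
theorem L180385 : sm gd N15736 = N16369 := rfl
theorem L180387 : sm gb N16369 = N15840 := ded_18_1 (flp_d L175398) (flp_b L174469) L180385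
theorem L180389 : sm gf N16369 = N15859 := ded_31_2 L175582 (flp_f L175102) L180385
theorem L180391 : sm gg N16369 = N15737 := ded_32_2 (flp_d L174473) (flp_g L174471) L180385
theorem L180393 : sm gh N16369 = N15864 := ded_33_2 L175620 L168796 (flp_d L167600) L174467 L180385
theorem L180395 : sm gc N15737 = N16370 := rfl
theorem L180397 : sm gf N16370 = N15738 := ded_26_2 (flp_c L174481) (flp_f L174477) L180395
theorem L180399 : sm gh N16370 = N15891 := ded_28_2 (flp_c L175902) (flp_h L174479) L180395
theorem L180401 : sm ge N15737 = N16371 := rfl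
theorem L180403 : sm gb N16371 = N15842 := ded_19_1 (flp_e L175416) (flp_b L174475) L180401
theorem L180405 : sm gh N16371 = N15892 := ded_37_2 (flp_e L175907) (flp_h L174479) L180401
theorem L180407 : sm gb N15738 = N16372 := rfl
theorem L180409 : sm gh N16372 = N15893 := ded_22_2 (flp_b L175915) (flp_h L174483) L180407
theorem L180411 : sm gc N16372 = N15843 := ded_17_2 (flp_b L175425) (flp_c L168608) (flp_b L167612) L174481 L180407
theorem L180413 : sm gf N15740 = N16373 := rfl
theorem L180415 : sm gb N16373 = N15969 := ded_20_1 (flp_f L176508) (flp_b L174499) L180413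
theorem L180417 : sm gi N16373 = N15772 := ded_41_2 (flp_f L174780) (flp_i L174503) L180413
theorem L180419 : sm gi N15741 = N16374 := rfl
theorem L180421 : sm ga N16374 = N15748 := ded_16_1 (flp_i L174582) (flp_a L174507) L180419
theorem L180423 : sm gb N16374 = N16359 := ded_23_1 (flp_i L180309) (flp_b L174509) L180419
theorem L180425 : sm gc N16374 = N16374 := ded_29_1 (flp_i L180419) L174511 L180419
theorem L180426 : sm gd N16374 = N15776 := ded_34_1 (flp_i L174824) (flp_d L174516) L180419
theorem L180428 : sm ge N16374 = N16353 := ded_38_1 (flp_i L180244) (flp_e L174512) L180419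
theorem L180430 : sm gg N16374 = N15909 := ded_43_1 (flp_i L176060) (flp_g L174514) L180419
theorem L180432 : sm gh N15742 = N16375 := rfl
theorem L180434 : sm ga N16375 = N15749 := ded_15_1 (flp_h L174591) (flp_a L174520) L180432
theorem L180436 : sm gc N16375 = N16375 := ded_28_1 (flp_h L180432) L174522 L180432
theorem L180437 : sm gg N16375 = N15910 := ded_42_1 (flp_h L176067) (flp_g L174525) L180432
theorem L180439 : sm gd N15743 = N16376 := rfl
theorem L180441 : sm ga N16376 = N15751 := ded_11_1 (flp_d L174608) (flp_a L174529) L180439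
theorem L180443 : sm gg N16376 = N15911 := ded_32_2 (flp_d L176072) (flp_g L174535) L180439
theorem L180445 : sm gi N16376 = N15779 := ded_34_2 (flp_d L174852) (flp_i L174537) L180439
theorem L180447 : sm ge N15744 = N16377 := rfl
theorem L180449 : sm ga N16377 = N15752 := ded_12_1 (flp_e L174616) (flp_a L174541) L180447
theorem L180451 : sm gg N16377 = N15912 := ded_36_2 (flp_e L176078) (flp_g L174543) L180447
theorem L180453 : sm gi N16377 = N15780 := ded_38_2 (flp_e L174858) (flp_i L174545) L180447
theorem L180455 : sm gi N15745 = N16378 := rfl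
theorem L180457 : sm gb N16378 = N15753 := ded_23_1 (flp_i L174624) (flp_b L174549) L180455
theorem L180459 : sm gc N16378 = N16378 := ded_29_1 (flp_i L180455) L174551 L180455
theorem L180460 : sm ge N16378 = N15747 := ded_38_1 (flp_i L174573) L174547 L180455
theorem L180462 : sm gf N16378 = N16374 := ded_41_1 (flp_i L180419) (flp_f L174554) L180455
theorem L180464 : sm gg N16378 = N16161 := ded_43_1 (flp_i L178467) (flp_g L174552) L180455
theorem L180466 : sm gi N15746 = N16379 := rfl
theorem L180468 : sm ga N16379 = N16378 := ded_16_1 (flp_i L180455) (flp_a L174560) L180466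
theorem L180470 : sm gb N16379 = N15755 := ded_23_1 (flp_i L174642) (flp_b L174562) L180466
theorem L180472 : sm gc N16379 = N16379 := ded_29_1 (flp_i L180466) L174564 L180466
theorem L180473 : sm gd N16379 = N15783 := ded_34_1 (flp_i L174888) (flp_d L174571) L180466
theorem L180475 : sm ge N16379 = N16160 := ded_38_1 (flp_i L178454) (flp_e L174565) L180466
theorem L180477 : sm gf N16379 = N15748 := ded_41_1 (flp_i L174582) (flp_f L174567) L180466
theorem L180479 : sm gg N16379 = N16159 := ded_43_1 (flp_i L178443) (flp_g L174569) L180466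
theorem L180481 : sm gh N15747 = N16380 := rfl
theorem L180483 : sm gb N16380 = N15756 := ded_22_1 (flp_h L174654) (flp_b L174575) L180481
theorem L180485 : sm gc N16380 = N16380 := ded_28_1 (flp_h L180481) L174577 L180481
theorem L180486 : sm gf N16380 = N15749 := ded_40_1 (flp_h L174591) (flp_f L174580) L180481
theorem L180488 : sm gh N15748 = N16381 := rfl
theorem L180490 : sm gb N16381 = N15757 := ded_22_1 (flp_h L174660) (flp_b L174584) L180488
theorem L180492 : sm gc N16381 = N16381 := ded_28_1 (flp_h L180488) L174586 L180488
theorem L180493 : sm gg N16381 = N15964 := ded_42_1 (flp_h L176481) (flp_g L174589) L180488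
theorem L180495 : sm gi N16381 = N15749 := ded_44_2 (flp_h L174591) (flp_i L167691) L167682 L174582 L180488
theorem L180497 : sm gd N15749 = N16382 := rfl
theorem L180499 : sm gb N16382 = N15758 := ded_18_1 (flp_d L174666) (flp_b L174593) L180497
theorem L180501 : sm gg N16382 = N15965 := ded_32_2 (flp_d L176486) (flp_g L174596) L180497
theorem L180503 : sm gh N16382 = N15751 := ded_33_2 (flp_d L174608) (flp_h L167708) (flp_d L167696) L174591 L180497
theorem L180505 : sm gd N15750 = N16383 := rfl
theorem L180507 : sm gb N16383 = N15760 := ded_18_1 (flp_d L174678) (flp_b L174600) L180505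
theorem L180509 : sm gf N16383 = N15751 := ded_31_2 (flp_d L174608) (flp_f L174604) L180505
theorem L180511 : sm gi N16383 = N15788 := ded_34_2 (flp_d L174938) (flp_i L174606) L180505
theorem L180513 : sm gc N15751 = N16384 := rfl
theorem L180515 : sm gg N16384 = N15967 := ded_27_2 (flp_c L176496) (flp_g L174612) L180513
theorem L180517 : sm gi N16384 = N15789 := ded_29_2 (flp_c L174944) (flp_i L174614) L180513
theorem L180519 : sm gd N16384 = N15824 := ded_24_2 (flp_c L175229) (flp_d L168352) (flp_c L167712) L174608 L180513
theorem L180521 : sm ge N15751 = N16385 := rfl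
theorem L180523 : sm gb N16385 = N15761 := ded_19_1 (flp_e L174684) (flp_b L174610) L180521
theorem L180525 : sm gg N16385 = N15968 := ded_36_2 (flp_e L176502) (flp_g L174612) L180521
theorem L180527 : sm gi N16385 = N15790 := ded_38_2 (flp_e L174950) (flp_i L174614) L180521
theorem L180529 : sm gd N16385 = N15752 := ded_30_1 (flp_e L174616) (flp_d L167720) (flp_e L167714) L174608 L180521
theorem L180531 : sm gf N15752 = N16386 := rfl
theorem L180533 : sm gb N16386 = N15762 := ded_20_1 (flp_f L174690) (flp_b L174618) L180531
theorem L180535 : sm gi N16386 = N15791 := ded_41_2 (flp_f L174958) (flp_i L174622) L180531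
theorem L180537 : sm gh N15753 = N16387 := rfl
theorem L180539 : sm gc N16387 = N15894 := ded_28_1 (flp_h L175922) (flp_c L174626) L180537
theorem L180541 : sm ge N16387 = N15756 := ded_37_1 (flp_h L174654) (flp_e L174628) L180537
theorem L180543 : sm gg N16387 = N16172 := ded_42_1 (flp_h L178548) (flp_g L174630) L180537
theorem L180545 : sm gi N16387 = N16171 := ded_44_2 (flp_h L178542) (flp_i L172297) L167734 L174624 L180537
theorem L180547 : sm gh N15754 = N16388 := rfl
theorem L180549 : sm gc N16388 = N15895 := ded_28_1 (flp_h L175931) (flp_c L174634) L180547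
theorem L180551 : sm ge N16388 = N16172 := ded_37_1 (flp_h L178548) (flp_e L174638) L180547
theorem L180553 : sm gg N16388 = N15756 := ded_42_1 (flp_h L174654) (flp_g L174640) L180547
theorem L180555 : sm gi N16388 = N16170 := ded_44_2 (flp_h L178536) (flp_i L172289) L167744 L174632 L180547
theorem L180557 : sm gh N15755 = N16389 := rfl
theorem L180559 : sm gc N16389 = N15896 := ded_28_1 (flp_h L175940) (flp_c L174644) L180557
theorem L180561 : sm ge N16389 = N16171 := ded_37_1 (flp_h L178542) (flp_e L174648) L180557
theorem L180563 : sm gf N16389 = N15757 := ded_40_1 (flp_h L174660) (flp_f L174650) L180557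
theorem L180565 : sm gg N16389 = N16170 := ded_42_1 (flp_h L178536) (flp_g L174652) L180557
theorem L180567 : sm gi N16389 = N15756 := ded_44_2 (flp_h L174654) (flp_i L167758) L167746 L174642 L180557
theorem L180569 : sm gd N15756 = N16390 := rfl
theorem L180571 : sm gf N16390 = N15758 := ded_31_2 (flp_d L174666) (flp_f L174658) L180569
theorem L180573 : sm gh N16390 = N15760 := ded_33_2 (flp_d L174678) (flp_h L167782) (flp_d L167762) L174654 L180569
theorem L180575 : sm gd N15757 = N16391 := rfl
theorem L180577 : sm gi N16391 = N15758 := ded_34_2 (flp_d L174666) (flp_i L174664) L180575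
theorem L180579 : sm gh N16391 = N15796 := ded_33_2 (flp_d L174996) (flp_h L168086) (flp_d L167770) L174660 L180575
theorem L180581 : sm ge N15758 = N16392 := rfl
theorem L180583 : sm gh N16392 = N15761 := ded_37_2 (flp_e L174684) (flp_h L174668) L180581
theorem L180585 : sm gd N15759 = N16393 := rfl
theorem L180587 : sm gg N16393 = N15760 := ded_32_2 (flp_d L174678) (flp_g L174674) L180585
theorem L180589 : sm gi N16393 = N15799 := ded_34_2 (flp_d L175010) (flp_i L174676) L180585
theorem L180591 : sm ge N15760 = N16394 := rfl
theorem L180593 : sm gi N16394 = N15801 := ded_38_2 (flp_e L175020) (flp_i L174682) L180591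
theorem L180595 : sm gf N15761 = N16395 := rfl
theorem L180597 : sm gd N16395 = N15762 := ded_31_1 (flp_f L174690) (flp_d L174688) L180595
theorem L180599 : sm gi N16395 = N15804 := ded_41_2 (flp_f L175030) (flp_i L174686) L180595
theorem L180601 : sm gg N15762 = N16396 := rfl
theorem L180603 : sm gi N16396 = N15805 := ded_43_2 (flp_g L175034) (flp_i L174692) L180601
theorem L180605 : sm gh N15763 = N16397 := rfl
theorem L180607 : sm gb N16397 = N15971 := ded_22_1 (flp_h L176519) (flp_b L174696) L180605
theorem L180609 : sm gc N16397 = N15806 := ded_28_1 (flp_h L175036) (flp_c L174698) L180605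
theorem L180611 : sm ge N16397 = N15766 := ded_37_1 (flp_h L174730) (flp_e L174700) L180605
theorem L180613 : sm gg N16397 = N15973 := ded_42_1 (flp_h L176533) (flp_g L174702) L180605
theorem L180615 : sm gi N16397 = N15972 := ded_44_2 (flp_h L176527) (flp_i L169984) (flp_h L167812) L174694 L180605
theorem L180617 : sm gh N15764 = N16398 := rfl
theorem L180619 : sm gb N16398 = N15972 := ded_22_1 (flp_h L176527) (flp_b L174706) L180617
theorem L180621 : sm gc N16398 = N15807 := ded_28_1 (flp_h L175046) (flp_c L174708) L180617
theorem L180623 : sm ge N16398 = N15973 := ded_37_1 (flp_h L176533) (flp_e L174712) L180617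
theorem L180625 : sm gf N16398 = N15793 := ded_40_1 (flp_h L174970) (flp_f L174714) L180617
theorem L180627 : sm gg N16398 = N15766 := ded_42_1 (flp_h L174730) (flp_g L174716) L180617
theorem L180629 : sm gi N16398 = N15971 := ded_44_2 (flp_h L176519) (flp_i L169976) L167828 L174704 L180617
theorem L180631 : sm gh N15765 = N16399 := rfl
theorem L180633 : sm gb N16399 = N15973 := ded_22_1 (flp_h L176533) (flp_b L174720) L180631
theorem L180635 : sm gc N16399 = N15808 := ded_28_1 (flp_h L175058) (flp_c L174722) L180631
theorem L180637 : sm ge N16399 = N15972 := ded_37_1 (flp_h L176527) (flp_e L174724) L180631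
theorem L180639 : sm gf N16399 = N15767 := ded_40_1 (flp_h L174738) (flp_f L174726) L180631
theorem L180641 : sm gg N16399 = N15971 := ded_42_1 (flp_h L176519) (flp_g L174728) L180631
theorem L180643 : sm gi N16399 = N15766 := ded_44_2 (flp_h L174730) (flp_i L167842) L167830 L174718 L180631
theorem L180645 : sm gd N15766 = N16400 := rfl
theorem L180647 : sm gb N16400 = N15974 := ded_18_1 (flp_d L176541) (flp_b L174732) L180645
theorem L180649 : sm gf N16400 = N15768 := ded_31_2 (flp_d L174748) (flp_f L174736) L180645
theorem L180651 : sm gh N16400 = N15770 := ded_33_2 (flp_d L174766) (flp_h L167878) (flp_d L167848) L174730 L180645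
theorem L180653 : sm gd N15767 = N16401 := rfl
theorem L180655 : sm gb N16401 = N15975 := ded_18_1 (flp_d L176547) (flp_b L174740) L180653
theorem L180657 : sm gg N16401 = N15796 := ded_32_2 (flp_d L174996) (flp_g L174744) L180653
theorem L180659 : sm gi N16401 = N15768 := ded_34_2 (flp_d L174748) (flp_i L174746) L180653
theorem L180661 : sm ge N15768 = N16402 := rfl
theorem L180663 : sm gb N16402 = N15977 := ded_19_1 (flp_e L176557) (flp_b L174750) L180661
theorem L180665 : sm gg N16402 = N15798 := ded_36_2 (flp_e L175006) (flp_g L174752) L180661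
theorem L180667 : sm gh N16402 = N15771 := ded_37_2 (flp_e L174772) (flp_h L174754) L180661
theorem L180669 : sm gd N15769 = N16403 := rfl
theorem L180671 : sm gb N16403 = N15978 := ded_18_1 (flp_d L176563) (flp_b L174758) L180669
theorem L180673 : sm gf N16403 = N15799 := ded_31_2 (flp_d L175010) (flp_f L174762) L180669
theorem L180675 : sm gg N16403 = N15770 := ded_32_2 (flp_d L174766) (flp_g L174764) L180669
theorem L180677 : sm ge N15770 = N16404 := rfl
theorem L180679 : sm gb N16404 = N15980 := ded_19_1 (flp_e L176573) (flp_b L174768) L180677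
theorem L180681 : sm gf N15771 = N16405 := rfl
theorem L180683 : sm gb N16405 = N15983 := ded_20_1 (flp_f L176583) (flp_b L174774) L180681
theorem L180685 : sm gd N16405 = N15772 := ded_31_1 (flp_f L174780) (flp_d L174778) L180681
theorem L180687 : sm gg N15772 = N16406 := rfl
theorem L180689 : sm gb N16406 = N15984 := ded_21_1 (flp_g L176587) (flp_b L174782) L180687
theorem L180691 : sm gf N16406 = N15805 := ded_39_1 (flp_g L175034) (flp_f L168114) (flp_g L167896) L174780 L180687
theorem L180693 : sm gi N15773 = N16407 := rfl
theorem L180695 : sm ga N16407 = N15781 := ded_16_1 (flp_i L174866) (flp_a L174786) L180693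
theorem L180697 : sm gb N16407 = N16123 := ded_23_1 (flp_i L178098) (flp_b L174788) L180693
theorem L180699 : sm gc N16407 = N15844 := ded_29_1 (flp_i L175429) (flp_c L174790) L180693
theorem L180701 : sm gd N16407 = N16161 := ded_34_1 (flp_i L178467) (flp_d L174792) L180693
theorem L180703 : sm ge N16407 = N15775 := ded_38_1 (flp_i L174814) L174784 L180693
theorem L180705 : sm gf N16407 = N16116 := ded_41_1 (flp_i L178022) (flp_f L174794) L180693
theorem L180707 : sm gi N15774 = N16408 := rfl
theorem L180709 : sm ga N16408 = N15783 := ded_16_1 (flp_i L174888) (flp_a L174800) L180707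
theorem L180711 : sm gb N16408 = N16121 := ded_23_1 (flp_i L178078) (flp_b L174802) L180707
theorem L180713 : sm gc N16408 = N15846 := ded_29_1 (flp_i L175450) (flp_c L174804) L180707
theorem L180715 : sm gd N16408 = N16378 := ded_34_1 (flp_i L180455) (flp_d L174812) L180707
theorem L180717 : sm ge N16408 = N16115 := ded_38_1 (flp_i L178008) (flp_e L174806) L180707
theorem L180719 : sm gf N16408 = N15776 := ded_41_1 (flp_i L174824) (flp_f L174808) L180707
theorem L180721 : sm gg N16408 = N16407 := ded_43_1 (flp_i L180693) (flp_g L174810) L180707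
theorem L180723 : sm gh N15775 = N16409 := rfl
theorem L180725 : sm ga N16409 = N15784 := ded_15_1 (flp_h L174900) (flp_a L174816) L180723
theorem L180727 : sm gc N16409 = N15847 := ded_28_1 (flp_h L175462) (flp_c L174818) L180723
theorem L180729 : sm gf N16409 = N15777 := ded_40_1 (flp_h L174834) (flp_f L174822) L180723
theorem L180731 : sm gh N15776 = N16410 := rfl
theorem L180733 : sm ga N16410 = N15785 := ded_15_1 (flp_h L174908) (flp_a L174826) L180731
theorem L180735 : sm gc N16410 = N15848 := ded_28_1 (flp_h L175469) (flp_c L174828) L180731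
theorem L180737 : sm ge N16410 = N16273 := ded_37_1 (flp_h L179517) (flp_e L174830) L180731
theorem L180739 : sm gg N16410 = N15922 := ded_42_1 (flp_h L176149) (flp_g L174832) L180731
theorem L180741 : sm gi N16410 = N15777 := ded_44_2 (flp_h L174834) (flp_i L167924) L167914 L174824 L180731
theorem L180743 : sm gd N15777 = N16411 := rfl
theorem L180745 : sm ga N16411 = N15786 := ded_11_1 (flp_d L174920) (flp_a L174836) L180743
theorem L180747 : sm gg N16411 = N15923 := ded_32_2 (flp_d L176159) (flp_g L174842) L180743
theorem L180749 : sm gh N16411 = N15779 := ded_33_2 (flp_d L174852) (flp_h L167944) (flp_d L167930) L174834 L180743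
theorem L180751 : sm gd N15778 = N16412 := rfl
theorem L180753 : sm ga N16412 = N15788 := ded_11_1 (flp_d L174938) (flp_a L174846) L180751
theorem L180755 : sm gf N16412 = N15779 := ded_31_2 (flp_d L174852) (flp_f L174850) L180751
theorem L180757 : sm gc N15779 = N16413 := rfl
theorem L180759 : sm ga N16413 = N15789 := ded_10_1 (flp_c L174944) (flp_a L174854) L180757
theorem L180761 : sm gg N16413 = N15925 := ded_27_2 (flp_c L176171) (flp_g L174856) L180757
theorem L180763 : sm gd N16413 = N15827 := ded_24_2 (flp_c L175261) (flp_d L168378) (flp_c L167948) L174852 L180757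
theorem L180765 : sm ge N15779 = N16414 := rfl
theorem L180767 : sm ga N16414 = N15790 := ded_12_1 (flp_e L174950) (flp_a L174854) L180765
theorem L180769 : sm gg N16414 = N15926 := ded_36_2 (flp_e L176177) (flp_g L174856) L180765
theorem L180771 : sm gd N16414 = N15780 := ded_30_1 (flp_e L174858) (flp_d L167954) (flp_e L167950) L174852 L180765
theorem L180773 : sm gf N15780 = N16415 := rfl
theorem L180775 : sm ga N16415 = N15791 := ded_13_1 (flp_f L174958) (flp_a L174860) L180773
theorem L180777 : sm gh N16415 = N16277 := ded_40_2 (flp_f L179559) (flp_h L174864) L180773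
theorem L180779 : sm gh N15781 = N16416 := rfl
theorem L180781 : sm gb N16416 = N15792 := ded_22_1 (flp_h L174964) (flp_b L174868) L180779
theorem L180783 : sm gc N16416 = N15853 := ded_28_1 (flp_h L175519) (flp_c L174870) L180779
theorem L180785 : sm ge N16416 = N15784 := ded_37_1 (flp_h L174900) (flp_e L174872) L180779
theorem L180787 : sm gf N16416 = N16397 := ded_40_1 (flp_h L180605) (flp_f L174874) L180779
theorem L180789 : sm gh N15782 = N16417 := rfl
theorem L180791 : sm gb N16417 = N15793 := ded_22_1 (flp_h L174970) (flp_b L174878) L180789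
theorem L180793 : sm gc N16417 = N15854 := ded_28_1 (flp_h L175527) (flp_c L174880) L180789
theorem L180795 : sm gf N16417 = N15972 := ded_40_1 (flp_h L176527) (flp_f L174884) L180789
theorem L180797 : sm gg N16417 = N15784 := ded_42_1 (flp_h L174900) (flp_g L174886) L180789
theorem L180799 : sm gi N16417 = N16416 := ded_44_2 (flp_h L180779) (flp_i L174866) L167980 L174876 L180789
theorem L180801 : sm gh N15783 = N16418 := rfl
theorem L180803 : sm gb N16418 = N15794 := ded_22_1 (flp_h L174978) (flp_b L174890) L180801
theorem L180805 : sm gc N16418 = N15855 := ded_28_1 (flp_h L175537) (flp_c L174892) L180801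
theorem L180807 : sm ge N16418 = N16417 := ded_37_1 (flp_h L180789) (flp_e L174894) L180801
theorem L180809 : sm gf N16418 = N15785 := ded_40_1 (flp_h L174908) (flp_f L174896) L180801
theorem L180811 : sm gg N16418 = N16416 := ded_42_1 (flp_h L180779) (flp_g L174898) L180801
theorem L180813 : sm gi N16418 = N15784 := ded_44_2 (flp_h L174900) (flp_i L167994) L167982 L174888 L180801
theorem L180815 : sm gd N15784 = N16419 := rfl
theorem L180817 : sm gb N16419 = N15795 := ded_18_1 (flp_d L174990) (flp_b L174902) L180815
theorem L180819 : sm gf N16419 = N15786 := ded_31_2 (flp_d L174920) (flp_f L174906) L180815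
theorem L180821 : sm gh N16419 = N15788 := ded_33_2 (flp_d L174938) (flp_h L168034) (flp_d L168000) L174900 L180815
theorem L180823 : sm gd N15785 = N16420 := rfl
theorem L180825 : sm gb N16420 = N15796 := ded_18_1 (flp_d L174996) (flp_b L174910) L180823
theorem L180827 : sm gg N16420 = N15975 := ded_32_2 (flp_d L176547) (flp_g L174916) L180823
theorem L180829 : sm gi N16420 = N15786 := ded_34_2 (flp_d L174920) (flp_i L174918) L180823
theorem L180831 : sm gc N15786 = N16421 := rfl
theorem L180833 : sm gg N16421 = N15976 := ded_27_2 (flp_c L176551) (flp_g L174924) L180831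
theorem L180835 : sm gh N16421 = N15789 := ded_28_2 (flp_c L174944) (flp_h L174926) L180831
theorem L180837 : sm gd N16421 = N15858 := ded_24_2 (flp_c L175568) (flp_d L168749) (flp_c L168018) L174920 L180831
theorem L180839 : sm ge N15786 = N16422 := rfl
theorem L180841 : sm gb N16422 = N15798 := ded_19_1 (flp_e L175006) (flp_b L174922) L180839
theorem L180843 : sm gg N16422 = N15977 := ded_36_2 (flp_e L176557) (flp_g L174924) L180839
theorem L180845 : sm gh N16422 = N15790 := ded_37_2 (flp_e L174950) (flp_h L174926) L180839
theorem L180847 : sm gd N16422 = N16402 := ded_30_1 (flp_e L180661) (flp_d L174748) (flp_e L168020) L174920 L180839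
theorem L180849 : sm gd N15787 = N16423 := rfl
theorem L180851 : sm gb N16423 = N15799 := ded_18_1 (flp_d L175010) (flp_b L174930) L180849
theorem L180853 : sm gf N16423 = N15978 := ded_31_2 (flp_d L176563) (flp_f L174934) L180849
theorem L180855 : sm gg N16423 = N15788 := ded_32_2 (flp_d L174938) (flp_g L174936) L180849
theorem L180857 : sm gc N15788 = N16424 := rfl
theorem L180859 : sm gf N16424 = N15789 := ded_26_2 (flp_c L174944) (flp_f L174942) L180857
theorem L180861 : sm gd N16424 = N15828 := ded_24_2 (flp_c L175269) (flp_d L168396) (flp_c L168038) L174938 L180857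
theorem L180863 : sm ge N15788 = N16425 := rfl
theorem L180865 : sm gb N16425 = N15801 := ded_19_1 (flp_e L175020) (flp_b L174940) L180863
theorem L180867 : sm gb N15789 = N16426 := rfl
theorem L180869 : sm gd N16426 = N15830 := ded_18_2 (flp_b L175283) (flp_d L174948) L180867
theorem L180871 : sm gg N16426 = N15981 := ded_21_2 (flp_b L176575) (flp_g L174946) L180867
theorem L180873 : sm gc N16426 = N15802 := ded_17_2 (flp_b L175022) (flp_c L168106) (flp_b L168044) L174944 L180867
theorem L180875 : sm ge N15789 = N16427 := rfl
theorem L180877 : sm gc N16427 = N15790 := ded_25_1 (flp_e L174950) L174944 L180875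
theorem L180879 : sm gg N16427 = N15982 := ded_36_2 (flp_e L176579) (flp_g L174946) L180875
theorem L180881 : sm gf N15790 = N16428 := rfl
theorem L180883 : sm gb N16428 = N15804 := ded_20_1 (flp_f L175030) (flp_b L174952) L180881
theorem L180885 : sm gd N16428 = N15791 := ded_31_1 (flp_f L174958) (flp_d L174956) L180881
theorem L180887 : sm gg N15791 = N16429 := rfl
theorem L180889 : sm gb N16429 = N15805 := ded_21_1 (flp_g L175034) (flp_b L174960) L180887
theorem L180891 : sm gh N16429 = N16406 := ded_42_2 (flp_g L180687) (flp_h L174962) L180887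
theorem L180893 : sm gf N16429 = N15984 := ded_39_1 (flp_g L176587) (flp_f L170034) (flp_g L168052) L174958 L180887
theorem L180895 : sm gd N15792 = N16430 := rfl
theorem L180897 : sm gd N15793 = N16431 := rfl
theorem L180899 : sm gg N16431 = N15795 := ded_32_2 (flp_d L174990) (flp_g L174974) L180897
theorem L180901 : sm gi N16431 = N16430 := ded_34_2 (flp_d L180895) (flp_i L174976) L180897
theorem L180903 : sm gh N16431 = N15799 := ded_33_2 (flp_d L175010) (flp_h L168096) (flp_d L168066) L174970 L180897
theorem L180905 : sm gd N15794 = N16432 := rfl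
theorem L180907 : sm gf N16432 = N15796 := ded_31_2 (flp_d L174996) (flp_f L174984) L180905
theorem L180909 : sm gg N16432 = N16430 := ded_32_2 (flp_d L180895) (flp_g L174986) L180905
theorem L180911 : sm gi N16432 = N15795 := ded_34_2 (flp_d L174990) (flp_i L174988) L180905
theorem L180913 : sm gc N15795 = N16433 := rfl
theorem L180915 : sm gf N16433 = N15797 := ded_26_2 (flp_c L175000) (flp_f L174992) L180913
theorem L180917 : sm gh N16433 = N15800 := ded_28_2 (flp_c L175014) (flp_h L174994) L180913
theorem L180919 : sm gd N16433 = N15816 := ded_24_2 (flp_c L175155) (flp_d L168250) (flp_c L168082) L174990 L180913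
theorem L180921 : sm gb N16324 = N16433 := ded_45_6 (flp_c L180913) (flp_d L174990) (flp_i L174988) (flp_h L174978) (flp_d L174646) L174650 (flp_e L174435) (flp_d L176387) (flp_b L180173) L180175 L175335 (flp_i L175330) L168506 L161717 L153347 (flp_e L153098) (flp_d L144052) L134926 L134927 L126779 (flp_i L125340) (flp_h L125334) L67878 L49598 (flp_e L47617) (flp_d L65075) L65073 L47693 L47694 (flp_i L34966) (flp_h L25646) L18876 L25637 L34931 L47622 (flp_b L65013) L122556 (flp_d L124841) L124837 L125216 L133242 (flp_f L138747) L147915 L147919 L147917 (flp_c L149238) (flp_d L149244) (flp_i L153974) (flp_h L153964) (flp_d L152799) L152803 (flp_e L146099) L146098 (flp_b L154590) (flp_c L162676) (flp_d L169941) (flp_i L169938) (flp_h L162605) (flp_d L154463) L154466 L156778 L156770 L163350 L163360 L155760 L156025 (flp_h L156037) (flp_d L162814) (flp_f L164127) L164132 (flp_d L157138) L148298 L139394 L148819 L148825 (flp_h L157545) (flp_d L157539) L148765 L139352 L130394 (flp_b L136641) (flp_c L145656) L154535 (flp_i L162631) (flp_h L169883) (flp_d L169879) (flp_f L167192) (flp_e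 L174050) L180000
theorem L180923 : sm ge N15795 = N16434 := rfl
theorem L180925 : sm gh N16434 = N15801 := ded_37_2 (flp_e L175020) (flp_h L174994) L180923
theorem L180927 : sm gc N15796 = N16435 := rfl
theorem L180929 : sm gi N16435 = N15797 := ded_29_2 (flp_c L175000) (flp_i L174998) L180927
theorem L180931 : sm gd N16435 = N15817 := ded_24_2 (flp_c L175165) (flp_d L168260) (flp_c L168088) L174996 L180927
theorem L180933 : sm ge N15796 = N16436 := rfl
theorem L180935 : sm gi N16436 = N15798 := ded_38_2 (flp_e L175006) (flp_i L174998) L180933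
theorem L180937 : sm gb N15797 = N16437 := rfl
theorem L180939 : sm gd N16437 = N15819 := ded_18_2 (flp_b L175181) (flp_d L175004) L180937
theorem L180941 : sm gf N16437 = N16324 := ded_20_2 L180921 L180915 L180937
theorem L180943 : sm gh N16437 = N15802 := ded_22_2 (flp_b L175022) (flp_h L175002) L180937
theorem L180945 : sm ge N15797 = N16438 := rfl
theorem L180947 : sm gc N16438 = N15798 := ded_25_1 (flp_e L175006) L175000 L180945
theorem L180949 : sm gh N16438 = N15803 := ded_37_2 (flp_e L175026) (flp_h L175002) L180945
theorem L180951 : sm gf N15798 = N16439 := rfl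
theorem L180953 : sm gh N16439 = N15804 := ded_40_2 (flp_f L175030) (flp_h L175008) L180951
theorem L180955 : sm ge N15799 = N16440 := rfl
theorem L180957 : sm gg N16440 = N15801 := ded_36_2 (flp_e L175020) (flp_g L175012) L180955
theorem L180959 : sm ge N15800 = N16441 := rfl
theorem L180961 : sm gc N16441 = N15801 := ded_25_1 (flp_e L175020) L175014 L180959
theorem L180963 : sm gf N15801 = N16442 := rfl
theorem L180965 : sm ge N16442 = N15804 := ded_35_1 (flp_f L175030) (flp_e L168110) (flp_f L168104) L175020 L180963
theorem L180967 : sm ge N15802 = N16443 := rfl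
theorem L180969 : sm gb N16443 = N15803 := ded_19_1 (flp_e L175026) L175022 L180967
theorem L180971 : sm gf N15803 = N16444 := rfl
theorem L180973 : sm gc N16444 = N15804 := ded_26_1 (flp_f L175030) (flp_c L175028) L180971
theorem L180975 : sm gg N15804 = N16445 := rfl
theorem L180977 : sm gd N16445 = N15805 := ded_32_1 (flp_g L175034) (flp_d L175032) L180975
theorem L180979 : sm gd N15806 = N16446 := rfl
theorem L180981 : sm gb N16446 = N15871 := ded_18_1 (flp_d L175689) (flp_b L175038) L180979
theorem L180983 : sm gg N16446 = N15991 := ded_32_2 (flp_d L176637) (flp_g L175042) L180979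
theorem L180985 : sm gi N16446 = N15990 := ded_34_2 (flp_d L176629) (flp_i L175044) L180979
theorem L180987 : sm gh N16446 = N16446 := ded_33_2 (flp_d L180979) (flp_h L175036) L168132 L175036 L180979
theorem L180988 : sm gd N15807 = N16447 := rfl
theorem L180990 : sm ga N16447 = N15895 := ded_11_1 (flp_d L179823) L179814 L180988
theorem L180992 : sm gb N16447 = N15872 := ded_18_1 (flp_d L175699) (flp_b L175048) L180988
theorem L180994 : sm gf N16447 = N15815 := ded_31_2 (flp_d L175143) (flp_f L175052) L180988
theorem L180996 : sm gg N16447 = N15809 := ded_32_2 (flp_d L175070) (flp_g L175054) L180988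
theorem L180998 : sm gi N16447 = N15989 := ded_34_2 (flp_d L176617) (flp_i L175056) L180988
theorem L181000 : sm gh N16447 = N15812 := ded_33_2 (flp_d L175104) (flp_h L168185) (flp_d L168141) L175046 L180988
theorem L181002 : sm ge N16076 = N16447 := ded_47_3 (flp_d L180988) (flp_c L180621) L180619 (flp_h L176527) L169990 L162672 L154517 L151642 L142501 L133351 L133726 (flp_g L142930) (flp_f L152053) (flp_e L159806) L167434 (flp_c L171265) (flp_b L177278) L177288 L177282 (flp_f L177630) L177636 (flp_d L171913) (flp_c L171881) (flp_b L178050) (flp_h L178046) L171797 L167942 L160169 L151590 L150137 L141022 L141420 L141424 (flp_f L138032) (flp_e L147255) L155967 L164085 L171378 L171388 L164120 L161432 (flp_e L157064) (flp_d L157057) (flp_c L157025) L157024 (flp_h L157022) L148202 (flp_f L148270) L148268 (flp_d L148338) L148336 L142696 L143772 (flp_g L152880) L152879 (flp_e L153968) (flp_d L157971) L157969 (flp_b L156531) L164498 (flp_g L171072) (flp_f L177577)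
theorem L181004 : sm gd N15808 = N16448 := rfl
theorem L181006 : sm ga N16448 = N15896 := ded_11_1 (flp_d L179838) L179829 L181004
theorem L181008 : sm gb N16448 = N15873 := ded_18_1 (flp_d L175714) (flp_b L175060) L181004
theorem L181010 : sm gf N16448 = N15810 := ded_31_2 (flp_d L175080) (flp_f L175064) L181004
theorem L181012 : sm gg N16448 = N15989 := ded_32_2 (flp_d L176617) (flp_g L175066) L181004
theorem L181014 : sm gi N16448 = N15809 := ded_34_2 (flp_d L175070) (flp_i L175068) L181004
theorem L181016 : sm ge N16448 = N16075 := ded_30_2 L177569 L176849 (flp_d L176629) (flp_e L175062) L181004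
theorem L181018 : sm gh N16448 = N15881 := ded_33_2 L175800 L169183 (flp_d L168153) L175058 L181004
theorem L181020 : sm ge N15809 = N16449 := rfl
theorem L181022 : sm ga N16449 = N15894 := ded_12_1 L175925 (flp_a L175072) L181020
theorem L181024 : sm gb N16449 = N15875 := ded_19_1 (flp_e L175738) (flp_b L175074) L181020
theorem L181026 : sm gg N16449 = N16076 := ded_36_2 L181002 L180996 L181020
theorem L181028 : sm gh N16449 = N15813 := ded_37_2 (flp_e L175118) (flp_h L175078) L181020
theorem L181030 : sm gi N16449 = N16075 := ded_38_2 (flp_e L181016) L181014 L181020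
theorem L181032 : sm gf N16449 = N16105 := ded_35_2 L177910 L175102 (flp_e L175092) (flp_f L175076) L181020
theorem L181034 : sm ge N15810 = N16450 := rfl
theorem L181036 : sm ga N16450 = N15887 := ded_12_1 L175870 (flp_a L175082) L181034
theorem L181038 : sm gb N16450 = N15838 := ded_19_1 L175380 (flp_b L175084) L181034
theorem L181040 : sm gg N16450 = N15818 := ded_36_2 (flp_e L175171) (flp_g L175086) L181034
theorem L181042 : sm gh N16450 = N15836 := ded_37_2 L175360 (flp_h L175090) L181034
theorem L181044 : sm gi N16450 = N15811 := ded_38_2 (flp_e L175092) (flp_i L175088) L181034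
theorem L181046 : sm gf N16450 = N15958 := ded_35_2 L176434 (flp_f L177565) (flp_e L181016) L181010 L181034
theorem L181048 : sm gc N15814 = N16451 := rfl
theorem L181050 : sm ga N16451 = N16337 := ded_10_1 L180106 (flp_a L175133) L181048
theorem L181052 : sm ge N16451 = N16092 := ded_25_2 L177778 (flp_e L175139) L181048
theorem L181054 : sm gg N16451 = N16097 := ded_27_2 L177840 (flp_g L175137) L181048
theorem L181056 : sm gh N16451 = N15821 := ded_28_2 (flp_c L175197) (flp_h L175141) L181048
theorem L181058 : sm gi N16451 = N16058 := ded_29_2 L177401 L175149 L181048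
theorem L181060 : sm gb N16451 = N16066 := ded_17_1 L177479 L171068 L169028 (flp_b L175135) L181048
theorem L181062 : sm gd N15820 = N16452 := rfl
theorem L181064 : sm gf N16452 = N16347 := ded_31_2 (flp_d L180183) (flp_f L175195) L181062
theorem L181066 : sm gc N15822 = N16453 := rfl
theorem L181068 : sm ga N16453 = N15824 := ded_10_1 (flp_c L175229) (flp_a L175211) L181066
theorem L181070 : sm gg N16453 = N15913 := ded_27_2 (flp_c L176084) (flp_g L175215) L181066
theorem L181072 : sm gh N16453 = N16453 := ded_28_2 (flp_c L181066) L175219 L181066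
theorem L181073 : sm gi N16453 = N15827 := ded_29_2 (flp_c L175261) (flp_i L175217) L181066
theorem L181075 : sm gc N15823 = N16454 := rfl
theorem L181077 : sm gf N16454 = N15824 := ded_26_2 (flp_c L175229) (flp_f L175224) L181075
theorem L181079 : sm gh N16454 = N16454 := ded_28_2 (flp_c L181075) L175228 L181075
theorem L181080 : sm gi N16454 = N15828 := ded_29_2 (flp_c L175269) (flp_i L175226) L181075
theorem L181082 : sm ge N15823 = N16455 := rfl
theorem L181084 : sm ga N16455 = N15949 := ded_12_1 (flp_e L178921) L178911 L181082
theorem L181086 : sm gb N16455 = N15825 := ded_19_1 (flp_e L175236) (flp_b L175222) L181082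
theorem L181088 : sm gg N16455 = N15944 := ded_36_2 (flp_e L177682) L177686 L181082
theorem L181090 : sm gh N16455 = N16455 := ded_37_2 (flp_e L181082) L175228 L181082
theorem L181091 : sm gi N16455 = N15829 := ded_38_2 (flp_e L175275) (flp_i L175226) L181082
theorem L181093 : sm gd N16455 = N15948 := ded_30_1 (flp_e L177735) L177733 L172551 L175220 L181082
theorem L181095 : sm gf N16455 = N15946 := ded_35_2 (flp_e L176337) (flp_f L171724) L171730 (flp_f L175224) L181082
theorem L181097 : sm gc N15826 = N16456 := rfl
theorem L181099 : sm ga N16456 = N15828 := ded_10_1 (flp_c L175269) (flp_a L175253) L181097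
theorem L181101 : sm gf N16456 = N15827 := ded_26_2 (flp_c L175261) (flp_f L175257) L181097
theorem L181103 : sm gh N16456 = N15877 := ded_28_2 (flp_c L175759) (flp_h L175259) L181097
theorem L181105 : sm gb N15827 = N16457 := rfl
theorem L181107 : sm ge N16457 = N15828 := ded_19_2 (flp_b L177341) L177333 L181105
theorem L181109 : sm gg N16457 = N15929 := ded_21_2 (flp_b L176197) (flp_g L175265) L181105
theorem L181111 : sm gh N16457 = N15878 := ded_22_2 (flp_b L175766) (flp_h L175267) L181105
theorem L181113 : sm gc N16457 = N15829 := ded_17_2 L175277 L168414 (flp_b L168382) L175261 L181105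
theorem L181115 : sm gb N15833 = N16458 := rfl
theorem L181117 : sm gd N16458 = N16009 := ded_18_2 (flp_b L176816) (flp_d L175328) L181115
theorem L181119 : sm gf N16458 = N16016 := ded_20_2 L176881 (flp_f L175322) L181115
theorem L181121 : sm gg N16458 = N15843 := ded_21_2 (flp_b L175425) (flp_g L175324) L181115
theorem L181123 : sm gh N16458 = N15897 := ded_22_2 (flp_b L175951) (flp_h L175326) L181115
theorem L181125 : sm gc N15837 = N16459 := rfl
theorem L181127 : sm gg N16459 = N15960 := ded_27_2 (flp_c L176449) (flp_g L175370) L181125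
theorem L181129 : sm gh N16459 = N16459 := ded_28_2 (flp_c L181125) L175374 L181125
theorem L181130 : sm gi N16459 = N16349 := ded_29_2 (flp_c L180197) (flp_i L175372) L181125
theorem L181132 : sm gb N15839 = N16460 := rfl
theorem L181134 : sm gd N16460 = N15843 := ded_18_2 (flp_b L175425) (flp_d L175396) L181132
theorem L181136 : sm gg N16460 = N16009 := ded_21_2 (flp_b L176816) (flp_g L175391) L181132
theorem L181138 : sm gh N16460 = N16460 := ded_22_2 (flp_b L181132) L175393 L181132
theorem L181139 : sm gi N16460 = N16458 := ded_23_2 (flp_b L181115) (flp_i L175394) L181132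
theorem L181141 : sm gb N15841 = N16461 := rfl
theorem L181143 : sm ge N16461 = N16369 := ded_19_2 L180387 L175414 L181141
theorem L181145 : sm gf N16461 = N15843 := ded_20_2 (flp_b L175425) (flp_f L175410) L181141
theorem L181147 : sm gg N16461 = N16371 := ded_21_2 L180403 L175421 L181141
theorem L181149 : sm gh N16461 = N15898 := ded_22_2 (flp_b L175961) (flp_h L175412) L181141
theorem L181151 : sm ga N15843 = N16462 := rfl
theorem L181153 : sm gh N16462 = N15899 := ded_15_2 (flp_a L175971) (flp_h L175427) L181151
theorem L181155 : sm gb N16462 = N16462 := ded_9_2 (flp_a L181151) (flp_b L175425) L168610 L175425 L181151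
theorem L181156 : sm gh N15844 = N16463 := rfl
theorem L181158 : sm ga N16463 = N15853 := ded_15_1 (flp_h L175519) (flp_a L175431) L181156
theorem L181160 : sm gb N16463 = N16463 := ded_22_1 (flp_h L181156) L175433 L181156
theorem L181161 : sm ge N16463 = N15847 := ded_37_1 (flp_h L175462) (flp_e L175435) L181156
theorem L181163 : sm gf N16463 = N16306 := ded_40_1 (flp_h L179801) (flp_f L175437) L181156
theorem L181165 : sm gh N15845 = N16464 := rfl
theorem L181167 : sm ga N16464 = N15854 := ded_15_1 (flp_h L175527) (flp_a L175441) L181165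
theorem L181169 : sm gb N16464 = N16464 := ded_22_1 (flp_h L181165) L175443 L181165
theorem L181170 : sm gf N16464 = N15931 := ded_40_1 (flp_h L176214) (flp_f L175446) L181165
theorem L181172 : sm gg N16464 = N15847 := ded_42_1 (flp_h L175462) (flp_g L175448) L181165
theorem L181174 : sm gi N16464 = N16463 := ded_44_2 (flp_h L181156) (flp_i L175429) L168630 L175439 L181165
theorem L181176 : sm gh N15846 = N16465 := rfl
theorem L181178 : sm ga N16465 = N15855 := ded_15_1 (flp_h L175537) (flp_a L175452) L181176

end Cfsg.Agent.Helper28.FibA
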