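import Cfsg.Agent.Helper28.FibB13

/-! # The Fi₂₂ presentation, cosets of the subgroup generated by b, …, i: the coset enumeration, part 14 (helper28; generated) -/

set_option autoImplicit false

noncomputable section

namespace Cfsg.Agent.Helper28.FibA

open Cfsg.Agent.Helper28.CosetTable

theorem L181180 : sm gb N16465 = N16465 := ded_22_1 (flp_h L181176) L175454 L181176
theorem L181181 : sm ge N16465 = N16464 := ded_37_1 (flp_h L181165) (flp_e L175456) L181176
theorem L181183 : sm gf N16465 = N15848 := ded_40_1 (flp_h L175469) (flp_f L175458) L181176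
theorem L181185 : sm gg N16465 = N16463 := ded_42_1 (flp_h L181156) (flp_g L175460) L181176
theorem L181187 : sm gi N16465 = N15847 := ded_44_2 (flp_h L175462) (flp_i L168644) L168632 L175450 L181176
theorem L181189 : sm gd N15847 = N16466 := rfl
theorem L181191 : sm ga N16466 = N15856 := ded_11_1 (flp_d L175549) (flp_a L175464) L181189
theorem L181193 : sm gb N16466 = N16466 := ded_18_1 (flp_d L181189) L175466 L181189
theorem L181194 : sm gf N16466 = N15849 := ded_31_2 (flp_d L175480) (flp_f L175467) L181189
theorem L181196 : sm gh N16466 = N15851 := ded_33_2 (flp_d L175502) (flp_h L168684) (flp_d L168649) L175462 L181189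
theorem L181198 : sm ge N16462 = N16466 := ded_12_0 L181191 (flp_e L175557) L181151
theorem L181200 : sm gd N15848 = N16467 := rfl
theorem L181202 : sm ga N16467 = N15857 := ded_11_1 (flp_d L175559) (flp_a L175471) L181200
theorem L181204 : sm gb N16467 = N16467 := ded_18_1 (flp_d L181200) L175473 L181200
theorem L181205 : sm gg N16467 = N15934 := ded_32_2 (flp_d L176241) (flp_g L175476) L181200
theorem L181207 : sm gi N16467 = N15849 := ded_34_2 (flp_d L175480) (flp_i L175478) L181200
theorem L181209 : sm gh N16467 = N16467 := ded_33_2 (flp_d L181200) (flp_h L175469) L168658 L175469 L181200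
theorem L181210 : sm gc N15849 = N16468 := rfl
theorem L181212 : sm ga N16468 = N15858 := ded_10_1 (flp_c L175568) (flp_a L175482) L181210
theorem L181214 : sm gg N16468 = N15935 := ded_27_2 (flp_c L176249) (flp_g L175485) L181210
theorem L181216 : sm gh N16468 = N15852 := ded_28_2 (flp_c L175510) (flp_h L175487) L181210
theorem L181218 : sm gd N15850 = N16469 := rfl
theorem L181220 : sm ga N16469 = N15860 := ded_11_1 (flp_d L175584) (flp_a L175491) L181218
theorem L181222 : sm gb N16469 = N16469 := ded_18_1 (flp_d L181218) L175493 L181218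
theorem L181223 : sm gf N16469 = N15937 := ded_31_2 (flp_d L176268) (flp_f L175497) L181218
theorem L181225 : sm gg N16469 = N15851 := ded_32_2 (flp_d L175502) (flp_g L175499) L181218
theorem L181227 : sm gi N16469 = N16469 := ded_34_2 (flp_d L181218) L175501 L181218
theorem L181228 : sm gc N15851 = N16470 := rfl
theorem L181230 : sm ga N16470 = N15861 := ded_10_1 (flp_c L175593) (flp_a L175504) L181228
theorem L181232 : sm gf N16470 = N15852 := ded_26_2 (flp_c L175510) (flp_f L175507) L181228
theorem L181234 : sm gi N16470 = N16470 := ded_29_2 (flp_c L181228) L175509 L181228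
theorem L181235 : sm gd N16470 = N15877 := ded_24_2 (flp_c L175759) (flp_d L169061) (flp_c L168689) L175502 L181228
theorem L181237 : sm gb N15852 = N16471 := rfl
theorem L181239 : sm gd N16471 = N15878 := ded_18_2 (flp_b L175766) (flp_d L175517) L181237
theorem L181241 : sm gg N16471 = N15939 := ded_21_2 (flp_b L176289) (flp_g L175514) L181237
theorem L181243 : sm gi N16471 = N16471 := ded_23_2 (flp_b L181237) L175516 L181237
theorem L181244 : sm gc N16471 = N16471 := ded_17_2 (flp_b L181237) (flp_c L175510) L168699 L175510 L181237
theorem L181245 : sm gd N15853 = N16472 := rfl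
theorem L181247 : sm gb N16472 = N15865 := ded_18_1 (flp_d L175625) (flp_b L175521) L181245
theorem L181249 : sm gf N16472 = N16446 := ded_31_2 (flp_d L180979) (flp_f L175525) L181245
theorem L181251 : sm gg N16472 = N16218 := ded_32_2 L178984 L175545 L181245
theorem L181253 : sm ge N16472 = N16460 := ded_30_2 L181134 L175557 (flp_d L175549) (flp_e L175523) L181245
theorem L181255 : sm gh N16472 = N16472 := ded_33_2 (flp_d L181245) (flp_h L175519) L168707 L175519 L181245
theorem L181256 : sm gd N15854 = N16473 := rfl
theorem L181258 : sm gb N16473 = N15866 := ded_18_1 (flp_d L175635) (flp_b L175529) L181256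
theorem L181260 : sm gf N16473 = N15990 := ded_31_2 (flp_d L176629) (flp_f L175531) L181256
theorem L181262 : sm gg N16473 = N15856 := ded_32_2 (flp_d L175549) (flp_g L175533) L181256
theorem L181264 : sm gi N16473 = N16472 := ded_34_2 (flp_d L181245) (flp_i L175535) L181256
theorem L181266 : sm ge N16473 = N16458 := ded_30_2 L181117 (flp_e L178986) L178984 L175541 L181256
theorem L181268 : sm gh N16473 = N15860 := ded_33_2 (flp_d L175584) (flp_h L168757) (flp_d L168716) L175527 L181256
theorem L181270 : sm gc N15856 = N16474 := rfl
theorem L181272 : sm ge N16474 = N16372 := ded_25_2 L180411 L175557 L181270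
theorem L181274 : sm gf N16474 = N15858 := ded_26_2 (flp_c L175568) (flp_f L175553) L181270
theorem L181276 : sm gh N16474 = N15861 := ded_28_2 (flp_c L175593) (flp_h L175555) L181270
theorem L181278 : sm gb N16474 = N16326 := ded_17_1 (flp_c L180018) L174070 (flp_c L168838) (flp_b L175551) L181270
theorem L181280 : sm gc N15857 = N16475 := rfl
theorem L181282 : sm gg N16475 = N15994 := ded_27_2 (flp_c L176664) (flp_g L175563) L181280
theorem L181284 : sm gh N16475 = N16475 := ded_28_2 (flp_c L181280) L175567 L181280
theorem L181285 : sm gi N16475 = N15858 := ded_29_2 (flp_c L175568) (flp_i L175565) L181280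
theorem L181287 : sm ge N15857 = N16476 := rfl
theorem L181289 : sm gb N16476 = N15867 := ded_19_1 (flp_e L175650) (flp_b L175561) L181287
theorem L181291 : sm gg N16476 = N15995 := ded_36_2 (flp_e L176669) (flp_g L175563) L181287
theorem L181293 : sm gh N16476 = N16476 := ded_37_2 (flp_e L181287) L175567 L181287
theorem L181294 : sm gi N16476 = N15859 := ded_38_2 (flp_e L175574) (flp_i L175565) L181287
theorem L181296 : sm gd N16476 = N16450 := ded_30_1 (flp_e L181034) (flp_d L175080) (flp_e L168743) L175559 L181287
theorem L181298 : sm gb N15858 = N16477 := rfl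
theorem L181300 : sm gf N16477 = N16326 := ded_20_2 (flp_b L181278) L181274 L181298
theorem L181302 : sm gg N16477 = N15996 := ded_21_2 (flp_b L176680) (flp_g L175570) L181298
theorem L181304 : sm gh N16477 = N15862 := ded_22_2 (flp_b L175600) (flp_h L175572) L181298
theorem L181306 : sm gc N16477 = N15868 := ded_17_2 (flp_b L175660) (flp_c L168852) (flp_b L168751) L175568 L181298
theorem L181308 : sm ge N15858 = N16478 := rfl
theorem L181310 : sm gc N16478 = N15859 := ded_25_1 (flp_e L175574) L175568 L181308
theorem L181312 : sm gg N16478 = N15997 := ded_36_2 (flp_e L176686) (flp_g L175570) L181308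
theorem L181314 : sm gh N16478 = N15863 := ded_37_2 (flp_e L175609) (flp_h L175572) L181308
theorem L181316 : sm ge N15862 = N16479 := rfl
theorem L181318 : sm gb N16479 = N15863 := ded_19_1 (flp_e L175609) L175600 L181316
theorem L181320 : sm gc N16479 = N15870 := ded_25_1 (flp_e L175681) (flp_c L175607) L181316
theorem L181322 : sm gg N16479 = N16002 := ded_36_2 (flp_e L176732) (flp_g L175604) L181316
theorem L181324 : sm gi N16479 = N16479 := ded_38_2 (flp_e L181316) L175606 L181316
theorem L181325 : sm gf N15863 = N16480 := rfl
theorem L181327 : sm gc N16480 = N15864 := ded_26_1 (flp_f L175616) (flp_c L175611) L181325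
theorem L181329 : sm gi N16480 = N16480 := ded_41_2 (flp_f L181325) L175615 L181325
theorem L181330 : sm gg N16480 = N15891 := ded_39_2 L175904 (flp_g L175831) L175829 (flp_g L175613) L181325
theorem L181332 : sm ge N15868 = N16481 := rfl
theorem L181334 : sm gb N16481 = N15869 := ded_19_1 (flp_e L175670) L175660 L181332
theorem L181336 : sm gg N16481 = N16016 := ded_36_2 (flp_e L176879) (flp_g L175666) L181332
theorem L181338 : sm gh N16481 = N15870 := ded_37_2 (flp_e L175681) (flp_h L175668) L181332
theorem L181340 : sm gf N16481 = N16371 := ded_35_2 (flp_e L180401) L174477 (flp_e L174076) (flp_f L175664) L181332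
theorem L181342 : sm gc N15879 = N16482 := rfl
theorem L181344 : sm ga N16482 = N15891 := ded_10_1 (flp_c L175902) (flp_a L175777) L181342
theorem L181346 : sm gf N16482 = N15880 := ded_26_2 (flp_c L175783) (flp_f L175780) L181342
theorem L181348 : sm gi N16482 = N16482 := ded_29_2 (flp_c L181342) L175782 L181342
theorem L181349 : sm gd N16482 = N16480 := ded_24_2 L181327 L175620 (flp_c L169102) L175775 L181342
theorem L181351 : sm ge N15879 = N16483 := rfl
theorem L181353 : sm ga N16483 = N15892 := ded_12_1 (flp_e L175907) (flp_a L175777) L181351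
theorem L181355 : sm gb N16483 = N16483 := ded_19_1 (flp_e L181351) L175779 L181351
theorem L181356 : sm gi N16483 = N16483 := ded_38_2 (flp_e L181351) L175782 L181351
theorem L181357 : sm gd N16483 = N16483 := ded_30_1 (flp_e L181351) (flp_d L175775) L169104 L175775 L181351
theorem L181358 : sm gf N16483 = N16190 := ded_35_2 (flp_e L178673) L172397 (flp_e L169116) (flp_f L175780) L181351
theorem L181360 : sm gb N15880 = N16484 := rfl
theorem L181362 : sm gd N16484 = N16479 := ded_18_2 L181318 (flp_d L175792) L181360
theorem L181364 : sm ge N16484 = N16191 := ded_19_2 (flp_b L178682) (flp_e L175787) L181360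
theorem L181366 : sm gg N16484 = N16203 := ded_21_2 L178791 (flp_g L175789) L181360
theorem L181368 : sm gi N16484 = N16484 := ded_23_2 (flp_b L181360) L175791 L181360
theorem L181369 : sm gc N16484 = N16484 := ded_17_2 (flp_b L181360) (flp_c L175783) L169112 L175783 L181360
theorem L181370 : sm gb N15883 = N16485 := rfl
theorem L181372 : sm ge N16485 = N16079 := ded_19_2 (flp_b L177600) (flp_e L175827) L181370
theorem L181374 : sm gf N16485 = N16002 := ded_20_2 L176734 (flp_f L175829) L181370
theorem L181376 : sm gg N16485 = N15893 := ded_21_2 (flp_b L175915) (flp_g L175831) L181370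
theorem L181378 : sm gi N16485 = N16485 := ded_23_2 (flp_b L181370) L175833 L181370
theorem L181379 : sm gc N16485 = N15897 := ded_17_2 (flp_b L175951) (flp_c L169368) (flp_b L169226) L175823 L181370
theorem L181381 : sm gh N15884 = N16486 := rfl
theorem L181383 : sm ga N16486 = N16105 := ded_15_1 (flp_h L177906) (flp_a L175836) L181381
theorem L181385 : sm gb N16486 = N16486 := ded_22_1 (flp_h L181381) L175838 L181381
theorem L181386 : sm ge N16486 = N15886 := ded_37_1 (flp_h L175858) (flp_e L175840) L181381
theorem L181388 : sm gf N16486 = N15894 := ded_40_1 (flp_h L175922) (flp_f L175842) L181381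
theorem L181390 : sm gg N16486 = N16025 := ded_42_1 (flp_h L176980) (flp_g L175844) L181381
theorem L181392 : sm gi N16486 = N16186 := ded_44_2 (flp_h L178634) (flp_i L172367) L169245 L175834 L181381
theorem L181394 : sm gh N15885 = N16487 := rfl
theorem L181396 : sm ga N16487 = N15958 := ded_15_1 (flp_h L176430) (flp_a L175848) L181394
theorem L181398 : sm gb N16487 = N16487 := ded_22_1 (flp_h L181394) L175850 L181394
theorem L181399 : sm ge N16487 = N16186 := ded_37_1 (flp_h L178634) (flp_e L175852) L181394
theorem L181401 : sm gf N16487 = N15887 := ded_40_1 (flp_h L175867) (flp_f L175854) L181394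
theorem L181403 : sm gg N16487 = N15906 := ded_42_1 (flp_h L176035) (flp_g L175856) L181394
theorem L181405 : sm gi N16487 = N15886 := ded_44_2 (flp_h L175858) (flp_i L169259) L169247 L175846 L181394
theorem L181407 : sm gd N15886 = N16488 := rfl
theorem L181409 : sm ga N16488 = N16369 := ded_11_1 (flp_d L180385) (flp_a L175860) L181407
theorem L181411 : sm gb N16488 = N16488 := ded_18_1 (flp_d L181407) L175862 L181407
theorem L181412 : sm gf N16488 = N15888 := ded_31_2 (flp_d L175874) (flp_f L175863) L181407
theorem L181414 : sm gg N16488 = N16246 := ded_32_2 (flp_d L179273) (flp_g L175865) L181407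
theorem L181416 : sm gh N16488 = N15889 := ded_33_2 (flp_d L175883) (flp_h L169281) (flp_d L169264) L175858 L181407
theorem L181418 : sm gd N15887 = N16489 := rfl
theorem L181420 : sm ga N16489 = N16476 := ded_11_1 L181296 L181036 L181418
theorem L181422 : sm gb N16489 = N16489 := ded_18_1 (flp_d L181418) L175869 L181418
theorem L181423 : sm gi N16489 = N15888 := ded_34_2 (flp_d L175874) (flp_i L175872) L181418
theorem L181425 : sm ge N16489 = N16467 := ded_30_2 (flp_d L181200) L175474 L173799 (flp_e L175870) L181418
theorem L181427 : sm gh N16489 = N16489 := ded_33_2 (flp_d L181418) (flp_h L175867) L169273 L175867 L181418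
theorem L181428 : sm gc N15888 = N16490 := rfl
theorem L181430 : sm ga N16490 = N16478 := ded_10_1 L181310 (flp_a L175876) L181428
theorem L181432 : sm ge N16490 = N16468 := ded_25_2 (flp_c L181210) (flp_e L175879) L181428
theorem L181434 : sm gh N16490 = N15890 := ded_28_2 (flp_c L175893) (flp_h L175881) L181428
theorem L181436 : sm gc N15889 = N16491 := rfl
theorem L181438 : sm ga N16491 = N16480 := ded_10_1 L181327 (flp_a L175885) L181436
theorem L181440 : sm gf N16491 = N15890 := ded_26_2 (flp_c L175893) (flp_f L175888) L181436
theorem L181442 : sm gg N16491 = N16482 := ded_27_2 (flp_c L181342) (flp_g L175890) L181436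
theorem L181444 : sm gi N16491 = N16491 := ded_29_2 (flp_c L181436) L175892 L181436
theorem L181445 : sm gd N16491 = N15891 := ded_24_2 (flp_c L175902) (flp_d L169302) (flp_c L169286) L175883 L181436
theorem L181447 : sm ge N15889 = N16492 := rfl
theorem L181449 : sm ga N16492 = N15898 := ded_12_1 L175964 (flp_a L175885) L181447
theorem L181451 : sm gb N16492 = N16492 := ded_19_1 (flp_e L181447) L175887 L181447
theorem L181452 : sm gg N16492 = N16483 := ded_36_2 (flp_e L181351) (flp_g L175890) L181447
theorem L181454 : sm gi N16492 = N16492 := ded_38_2 (flp_e L181447) L175892 L181447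
theorem L181455 : sm gd N16492 = N16492 := ded_30_1 (flp_e L181447) (flp_d L175883) L169288 L175883 L181447
theorem L181456 : sm gf N16492 = N15899 := ded_35_2 L175974 L175507 (flp_e L169300) (flp_f L175888) L181447
theorem L181458 : sm gb N15890 = N16493 := rfl
theorem L181460 : sm gd N16493 = N15893 := ded_18_2 (flp_b L175915) (flp_d L175900) L181458
theorem L181462 : sm ge N16493 = N16471 := ded_19_2 (flp_b L181237) (flp_e L175897) L181458
theorem L181464 : sm gi N16493 = N16493 := ded_23_2 (flp_b L181458) L175899 L181458
theorem L181465 : sm gc N16493 = N16493 := ded_17_2 (flp_b L181458) (flp_c L175893) L169298 L175893 L181458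
theorem L181466 : sm gb N15891 = N16494 := rfl
theorem L181468 : sm gf N16494 = N15893 := ded_20_2 (flp_b L175915) (flp_f L175904) L181466
theorem L181470 : sm gi N16494 = N16494 := ded_23_2 (flp_b L181466) L175906 L181466
theorem L181471 : sm gc N16494 = N15898 := ded_17_2 (flp_b L175961) (flp_c L169379) (flp_b L169304) L175902 L181466
theorem L181473 : sm ge N16480 = N16494 := ded_35_5 L181468 L175917 L175595 L175609 L181325
theorem L181475 : sm ge N15891 = N16495 := rfl
theorem L181477 : sm gb N16495 = N16480 := ded_19_1 L181473 (flp_b L181466) L181475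
theorem L181479 : sm gc N16495 = N15892 := ded_25_1 (flp_e L175907) L175902 L181475
theorem L181481 : sm gg N16495 = N16494 := ded_36_2 (flp_e L181473) L181330 L181475
theorem L181483 : sm gi N16495 = N16495 := ded_38_2 (flp_e L181475) L175906 L181475
theorem L181484 : sm gf N16495 = N16479 := ded_35_2 (flp_e L181316) (flp_f L175814) L175812 (flp_f L175904) L181475
theorem L181486 : sm ga N15893 = N16496 := rfl
theorem L181488 : sm gc N16496 = N15899 := ded_10_2 (flp_a L175971) (flp_c L175920) L181486
theorem L181490 : sm ge N16496 = N16470 := ded_12_2 L181230 (flp_e L175917) L181486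
theorem L181492 : sm gi N16496 = N16496 := ded_16_2 (flp_a L181486) L175919 L181486
theorem L181493 : sm gd N15894 = N16497 := rfl
theorem L181495 : sm gb N16497 = N16497 := ded_18_1 (flp_d L181493) L175924 L181493
theorem L181496 : sm gg N16497 = N16195 := ded_32_2 (flp_d L178727) (flp_g L175927) L181493
theorem L181498 : sm gi N16497 = N16194 := ded_34_2 (flp_d L178716) (flp_i L175929) L181493
theorem L181500 : sm gh N16497 = N16497 := ded_33_2 (flp_d L181493) (flp_h L175922) L169315 L175922 L181493
theorem L181501 : sm ga N15897 = N16498 := rfl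
theorem L181503 : sm gd N16498 = N16498 := ded_11_2 (flp_a L181501) L175953 L181501
theorem L181504 : sm ge N16498 = N16469 := ded_12_2 L181220 (flp_e L175954) L181501
theorem L181506 : sm gf N16498 = N16017 := ded_13_2 L176887 (flp_f L175956) L181501
theorem L181508 : sm gg N16498 = N15899 := ded_14_2 (flp_a L175971) (flp_g L175958) L181501
theorem L181510 : sm gi N16498 = N16498 := ded_16_2 (flp_a L181501) L175960 L181501
theorem L181511 : sm gb N16498 = N16498 := ded_9_2 (flp_a L181501) (flp_b L175951) L169370 L175951 L181501
theorem L181512 : sm gh N15900 = N16499 := rfl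
theorem L181514 : sm gb N16499 = N15904 := ded_22_1 (flp_h L176017) (flp_b L175980) L181512
theorem L181516 : sm gc N16499 = N16499 := ded_28_1 (flp_h L181512) L175982 L181512
theorem L181517 : sm ge N16499 = N15901 := ded_37_1 (flp_h L175985) (flp_e L175983) L181512
theorem L181519 : sm gi N16499 = N16239 := ded_44_2 (flp_h L179216) (flp_i L173173) (flp_h L169423) L175978 L181512
theorem L181521 : sm gd N15901 = N16500 := rfl
theorem L181523 : sm gb N16500 = N15905 := ded_18_1 (flp_d L176027) (flp_b L175987) L181521
theorem L181525 : sm gi N16500 = N16240 := ded_34_2 (flp_d L179223) (flp_i L175990) L181521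
theorem L181527 : sm gh N16500 = N15908 := ded_33_2 (flp_d L176054) (flp_h L169490) (flp_d L169430) L175985 L181521
theorem L181529 : sm gh N15902 = N16501 := rfl
theorem L181531 : sm ga N16501 = N15953 := ded_15_1 (flp_h L176391) (flp_a L175994) L181529
theorem L181533 : sm gc N16501 = N16501 := ded_28_1 (flp_h L181529) L175996 L181529
theorem L181534 : sm ge N16501 = N15910 := ded_37_1 (flp_h L176067) (flp_e L175999) L181529
theorem L181536 : sm gf N16501 = N16499 := ded_40_1 (flp_h L181512) (flp_f L176001) L181529
theorem L181538 : sm gh N15903 = N16502 := rfl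
theorem L181540 : sm ga N16502 = N15955 := ded_15_1 (flp_h L176408) (flp_a L176005) L181538
theorem L181542 : sm gb N16502 = N16501 := ded_22_1 (flp_h L181529) (flp_b L176007) L181538
theorem L181544 : sm gc N16502 = N15906 := ded_28_1 (flp_h L176035) (flp_c L176009) L181538
theorem L181546 : sm ge N16502 = N16143 := ded_37_1 (flp_h L178286) (flp_e L176013) L181538
theorem L181548 : sm gf N16502 = N15904 := ded_40_1 (flp_h L176017) (flp_f L176015) L181538
theorem L181550 : sm gi N16502 = N16243 := ded_44_2 (flp_h L179255) (flp_i L173213) (flp_h L169451) L176003 L181538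
theorem L181552 : sm gd N15904 = N16503 := rfl
theorem L181554 : sm ga N16503 = N15956 := ded_11_1 (flp_d L176420) (flp_a L176019) L181552
theorem L181556 : sm gi N16503 = N16244 := ded_34_2 (flp_d L179263) (flp_i L176025) L181552
theorem L181558 : sm ge N15905 = N16504 := rfl
theorem L181560 : sm ga N16504 = N15957 := ded_12_1 (flp_e L176424) (flp_a L176029) L181558
theorem L181562 : sm gh N16504 = N15912 := ded_37_2 (flp_e L176078) (flp_h L176033) L181558
theorem L181564 : sm gi N16504 = N16245 := ded_38_2 (flp_e L179267) (flp_i L176031) L181558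
theorem L181566 : sm gd N15906 = N16505 := rfl
theorem L181568 : sm ga N16505 = N15959 := ded_11_1 (flp_d L176440) (flp_a L176037) L181566
theorem L181570 : sm gb N16505 = N16505 := ded_18_1 (flp_d L181566) L176039 L181566
theorem L181571 : sm gf N16505 = N15907 := ded_31_2 (flp_d L176046) (flp_f L176042) L181566
theorem L181573 : sm gi N16505 = N16246 := ded_34_2 (flp_d L179273) (flp_i L176044) L181566
theorem L181575 : sm gh N16505 = N16505 := ded_33_2 (flp_d L181566) (flp_h L176035) L169476 L176035 L181566
theorem L181576 : sm gc N15907 = N16506 := rfl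
theorem L181578 : sm ga N16506 = N15960 := ded_10_1 (flp_c L176449) (flp_a L176048) L181576
theorem L181580 : sm gh N16506 = N16506 := ded_28_2 (flp_c L181576) L176053 L181576
theorem L181581 : sm gi N16506 = N16247 := ded_29_2 (flp_c L179282) (flp_i L176051) L181576
theorem L181583 : sm gc N15908 = N16507 := rfl
theorem L181585 : sm gi N16507 = N15917 := ded_29_2 (flp_c L176109) (flp_i L176058) L181583
theorem L181587 : sm gd N16507 = N15942 := ded_24_2 (flp_c L176317) (flp_d L169747) (flp_c L169494) L176054 L181583
theorem L181589 : sm ge N15908 = N16508 := rfl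
theorem L181591 : sm gb N16508 = N15912 := ded_19_1 (flp_e L176078) (flp_b L176056) L181589
theorem L181593 : sm gi N16508 = N15918 := ded_38_2 (flp_e L176115) (flp_i L176058) L181589
theorem L181595 : sm gh N15909 = N16509 := rfl
theorem L181597 : sm ga N16509 = N15964 := ded_15_1 (flp_h L176481) (flp_a L176062) L181595
theorem L181599 : sm gc N16509 = N16509 := ded_28_1 (flp_h L181595) L176064 L181595
theorem L181600 : sm gi N16509 = N15910 := ded_44_2 (flp_h L176067) (flp_i L169505) L169498 L176060 L181595
theorem L181602 : sm gd N15910 = N16510 := rfl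
theorem L181604 : sm ga N16510 = N15965 := ded_11_1 (flp_d L176486) (flp_a L176069) L181602
theorem L181606 : sm gh N16510 = N15911 := ded_33_2 (flp_d L176072) (flp_h L169512) (flp_d L169510) L176067 L181602
theorem L181608 : sm gc N15911 = N16511 := rfl
theorem L181610 : sm ga N16511 = N15967 := ded_10_1 (flp_c L176496) (flp_a L176074) L181608
theorem L181612 : sm gi N16511 = N15925 := ded_29_2 (flp_c L176171) (flp_i L176076) L181608
theorem L181614 : sm gd N16511 = N15913 := ded_24_2 (flp_c L176084) (flp_d L169528) (flp_c L169516) L176072 L181608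
theorem L181616 : sm ge N15911 = N16512 := rfl
theorem L181618 : sm ga N16512 = N15968 := ded_12_1 (flp_e L176502) (flp_a L176074) L181616
theorem L181620 : sm gi N16512 = N15926 := ded_38_2 (flp_e L176177) (flp_i L176076) L181616
theorem L181622 : sm gd N16512 = N15912 := ded_30_1 (flp_e L176078) (flp_d L169522) (flp_e L169518) L176072 L181616
theorem L181624 : sm gf N15912 = N16513 := rfl
theorem L181626 : sm ga N16513 = N15969 := ded_13_1 (flp_f L176508) (flp_a L176080) L181624
theorem L181628 : sm gi N16513 = N15927 := ded_41_2 (flp_f L176183) (flp_i L176082) L181624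
theorem L181630 : sm gb N15913 = N16514 := rfl
theorem L181632 : sm gh N16514 = N16514 := ded_22_2 (flp_b L181630) L176088 L181630
theorem L181633 : sm gi N16514 = N15929 := ded_23_2 (flp_b L176197) (flp_i L176089) L181630
theorem L181635 : sm gc N16514 = N15944 := ded_17_2 (flp_b L176329) (flp_c L169761) (flp_b L169532) L176084 L181630
theorem L181637 : sm gh N15914 = N16515 := rfl
theorem L181639 : sm gb N16515 = N15922 := ded_22_1 (flp_h L176149) (flp_b L176093) L181637
theorem L181641 : sm gc N16515 = N16515 := ded_28_1 (flp_h L181637) L176095 L181637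
theorem L181642 : sm ge N16515 = N16286 := ded_37_1 (flp_h L179650) (flp_e L176096) L181637
theorem L181644 : sm gi N16515 = N15915 := ded_44_2 (flp_h L176098) (flp_i L169544) L169537 L176091 L181637
theorem L181646 : sm gd N15915 = N16516 := rfl
theorem L181648 : sm gb N16516 = N15923 := ded_18_1 (flp_d L176159) (flp_b L176100) L181646
theorem L181650 : sm gh N16516 = N15916 := ded_33_2 (flp_d L176105) (flp_h L169553) (flp_d L169549) L176098 L181646
theorem L181652 : sm gc N15916 = N16517 := rfl
theorem L181654 : sm gd N16517 = N15945 := ded_24_2 (flp_c L176334) (flp_d L169768) (flp_c L169557) L176105 L181652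
theorem L181656 : sm ge N15916 = N16518 := rfl
theorem L181658 : sm gb N16518 = N15926 := ded_19_1 (flp_e L176177) (flp_b L176107) L181656
theorem L181660 : sm gd N16518 = N15918 := ded_30_1 (flp_e L176115) (flp_d L169561) (flp_e L169559) L176105 L181656
theorem L181662 : sm ge N15917 = N16519 := rfl
theorem L181664 : sm gc N16519 = N15918 := ded_25_1 (flp_e L176115) L176109 L181662
theorem L181666 : sm gh N16519 = N16291 := ded_37_2 (flp_e L179683) (flp_h L176111) L181662
theorem L181668 : sm gf N15918 = N16520 := rfl
theorem L181670 : sm gb N16520 = N15927 := ded_20_1 (flp_f L176183) (flp_b L176117) L181668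
theorem L181672 : sm gh N16520 = N16292 := ded_40_2 (flp_f L179687) (flp_h L176119) L181668
theorem L181674 : sm gh N15919 = N16521 := rfl
theorem L181676 : sm ga N16521 = N15971 := ded_15_1 (flp_h L176519) (flp_a L176123) L181674
theorem L181678 : sm gc N16521 = N15930 := ded_28_1 (flp_h L176203) (flp_c L176125) L181674
theorem L181680 : sm ge N16521 = N15921 := ded_37_1 (flp_h L176141) (flp_e L176129) L181674
theorem L181682 : sm gf N16521 = N16293 := ded_40_1 (flp_h L179691) (flp_f L176131) L181674
theorem L181684 : sm gh N15920 = N16522 := rfl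
theorem L181686 : sm ga N16522 = N15973 := ded_15_1 (flp_h L176533) (flp_a L176135) L181684
theorem L181688 : sm gc N16522 = N15932 := ded_28_1 (flp_h L176221) (flp_c L176137) L181684
theorem L181690 : sm gf N16522 = N15922 := ded_40_1 (flp_h L176149) (flp_f L176139) L181684
theorem L181692 : sm gi N16522 = N15921 := ded_44_2 (flp_h L176141) (flp_i L169583) L169575 L176133 L181684
theorem L181694 : sm gd N15921 = N16523 := rfl
theorem L181696 : sm ga N16523 = N15974 := ded_11_1 (flp_d L176541) (flp_a L176143) L181694
theorem L181698 : sm gf N16523 = N15923 := ded_31_2 (flp_d L176159) (flp_f L176147) L181694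
theorem L181700 : sm gh N16523 = N15924 := ded_33_2 (flp_d L176165) (flp_h L169609) (flp_d L169589) L176141 L181694
theorem L181702 : sm gd N15922 = N16524 := rfl
theorem L181704 : sm ga N16524 = N15975 := ded_11_1 (flp_d L176547) (flp_a L176151) L181702
theorem L181706 : sm gi N16524 = N15923 := ded_34_2 (flp_d L176159) (flp_i L176157) L181702
theorem L181708 : sm gc N15923 = N16525 := rfl
theorem L181710 : sm ga N16525 = N15976 := ded_10_1 (flp_c L176551) (flp_a L176161) L181708
theorem L181712 : sm gh N16525 = N15925 := ded_28_2 (flp_c L176171) (flp_h L176163) L181708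
theorem L181714 : sm gd N16525 = N15935 := ded_24_2 (flp_c L176249) (flp_d L169687) (flp_c L169605) L176159 L181708
theorem L181716 : sm ge N15923 = N16526 := rfl
theorem L181718 : sm ga N16526 = N15977 := ded_12_1 (flp_e L176557) (flp_a L176161) L181716
theorem L181720 : sm gh N16526 = N15926 := ded_37_2 (flp_e L176177) (flp_h L176163) L181716
theorem L181722 : sm gd N16526 = N16299 := ded_30_1 (flp_e L179749) (flp_d L173693) (flp_e L169607) L176159 L181716
theorem L181724 : sm gc N15924 = N16527 := rfl
theorem L181726 : sm ga N16527 = N15979 := ded_10_1 (flp_c L176567) (flp_a L176167) L181724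
theorem L181728 : sm gf N16527 = N15925 := ded_26_2 (flp_c L176171) (flp_f L176169) L181724
theorem L181730 : sm gd N16527 = N15928 := ded_24_2 (flp_c L176189) (flp_d L169627) (flp_c L169613) L176165 L181724
theorem L181732 : sm ge N15924 = N16528 := rfl
theorem L181734 : sm ga N16528 = N15980 := ded_12_1 (flp_e L176573) (flp_a L176167) L181732
theorem L181736 : sm gb N15925 = N16529 := rfl
theorem L181738 : sm gd N16529 = N15929 := ded_18_2 (flp_b L176197) (flp_d L176175) L181736
theorem L181740 : sm ge N15925 = N16530 := rfl
theorem L181742 : sm ga N16530 = N15982 := ded_12_1 (flp_e L176579) (flp_a L176173) L181740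
theorem L181744 : sm gc N16530 = N15926 := ded_25_1 (flp_e L176177) L176171 L181740
theorem L181746 : sm gf N15926 = N16531 := rfl
theorem L181748 : sm ga N16531 = N15983 := ded_13_1 (flp_f L176583) (flp_a L176179) L181746
theorem L181750 : sm gd N16531 = N15927 := ded_31_1 (flp_f L176183) (flp_d L176181) L181746
theorem L181752 : sm gg N15927 = N16532 := rfl
theorem L181754 : sm ga N16532 = N15984 := ded_14_1 (flp_g L176587) (flp_a L176185) L181752
theorem L181756 : sm gh N16532 = N16305 := ded_42_2 (flp_g L179797) (flp_h L176187) L181752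
theorem L181758 : sm ga N15929 = N16533 := rfl
theorem L181760 : sm gc N16533 = N15948 := ded_10_2 L176352 (flp_c L176201) L181758
theorem L181762 : sm gf N16533 = N15947 := ded_13_2 (flp_a L179941) L179951 L181758
theorem L181764 : sm gh N16533 = N15941 := ded_15_2 (flp_a L176308) (flp_h L176199) L181758
theorem L181766 : sm gb N16533 = N15988 := ded_9_2 (flp_a L176611) (flp_b L170058) (flp_a L169639) L176197 L181758
theorem L181768 : sm gd N15931 = N16534 := rfl
theorem L181770 : sm ga N16534 = N15990 := ded_11_1 (flp_d L176629) (flp_a L176216) L181768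
theorem L181772 : sm gb N16534 = N16534 := ded_18_1 (flp_d L181768) L176218 L181768
theorem L181773 : sm gg N16534 = N15933 := ded_32_2 (flp_d L176230) (flp_g L176219) L181768
theorem L181775 : sm ge N16534 = N16194 := ded_30_2 (flp_d L178716) (flp_e L175943) (flp_d L179838) L179832 L181768
theorem L181777 : sm gh N16534 = N15937 := ded_33_2 (flp_d L176268) (flp_h L169694) (flp_d L169659) L176214 L181768
theorem L181779 : sm gd N15932 = N16535 := rfl
theorem L181781 : sm ga N16535 = N15991 := ded_11_1 (flp_d L176637) (flp_a L176223) L181779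
theorem L181783 : sm gb N16535 = N16535 := ded_18_1 (flp_d L181779) L176225 L181779
theorem L181784 : sm gf N16535 = N15934 := ded_31_2 (flp_d L176241) (flp_f L176226) L181779
theorem L181786 : sm gi N16535 = N15933 := ded_34_2 (flp_d L176230) (flp_i L176228) L181779
theorem L181788 : sm ge N16535 = N16195 := ded_30_2 (flp_d L178727) (flp_e L175934) (flp_d L179823) L179817 L181779
theorem L181790 : sm gh N16535 = N16535 := ded_33_2 (flp_d L181779) (flp_h L176221) L169668 L176221 L181779
theorem L181791 : sm gc N15933 = N16536 := rfl
theorem L181793 : sm ga N16536 = N15992 := ded_10_1 (flp_c L176646) (flp_a L176232) L181791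
theorem L181795 : sm ge N16536 = N16196 := ded_25_2 (flp_c L178735) (flp_e L176237) L181791
theorem L181797 : sm gf N16536 = N15935 := ded_26_2 (flp_c L176249) (flp_f L176235) L181791
theorem L181799 : sm gh N16536 = N15938 := ded_28_2 (flp_c L176278) (flp_h L176239) L181791
theorem L181801 : sm gc N15934 = N16537 := rfl
theorem L181803 : sm ga N16537 = N15994 := ded_10_1 (flp_c L176664) (flp_a L176243) L181801
theorem L181805 : sm gh N16537 = N16537 := ded_28_2 (flp_c L181801) L176248 L181801
theorem L181806 : sm gi N16537 = N15935 := ded_29_2 (flp_c L176249) (flp_i L176246) L181801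
theorem L181808 : sm ge N15934 = N16538 := rfl
theorem L181810 : sm ga N16538 = N15995 := ded_12_1 (flp_e L176669) (flp_a L176243) L181808
theorem L181812 : sm gb N16538 = N16538 := ded_19_1 (flp_e L181808) L176245 L181808
theorem L181813 : sm gg N16538 = N16489 := ded_36_2 L181425 L181205 L181808
theorem L181815 : sm gh N16538 = N16538 := ded_37_2 (flp_e L181808) L176248 L181808
theorem L181816 : sm gi N16538 = N15936 := ded_38_2 (flp_e L176255) (flp_i L176246) L181808
theorem L181818 : sm gd N16538 = N16312 := ded_30_1 (flp_e L179881) (flp_d L173843) (flp_e L169683) L176241 L181808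
theorem L181820 : sm gf N16538 = N16198 := ded_35_2 (flp_e L178746) (flp_f L178730) (flp_e L181788) L181784 L181808
theorem L181822 : sm gb N15935 = N16539 := rfl
theorem L181824 : sm gh N16539 = N15939 := ded_22_2 (flp_b L176289) (flp_h L176253) L181822
theorem L181826 : sm gc N16539 = N16539 := ded_17_2 (flp_b L181822) (flp_c L176249) L169691 L176249 L181822
theorem L181827 : sm ge N15935 = N16540 := rfl
theorem L181829 : sm ga N16540 = N15997 := ded_12_1 (flp_e L176686) (flp_a L176251) L181827
theorem L181831 : sm gc N16540 = N15936 := ded_25_1 (flp_e L176255) L176249 L181827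
theorem L181833 : sm gg N16540 = N16490 := ded_36_2 L181432 L181214 L181827
theorem L181835 : sm gh N16540 = N15940 := ded_37_2 (flp_e L176295) (flp_h L176253) L181827
theorem L181837 : sm gf N16540 = N16200 := ded_35_2 (flp_e L178763) (flp_f L178737) (flp_e L181795) L181797 L181827
theorem L181839 : sm ga N15939 = N16541 := rfl
theorem L181841 : sm gc N16541 = N16541 := ded_10_2 (flp_a L181839) L176294 L181839
theorem L181842 : sm gd N16541 = N15941 := ded_11_2 (flp_a L176308) (flp_d L176291) L181839
theorem L181844 : sm gf N16541 = N15950 := ded_13_2 (flp_a L179975) L179979 L181839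
theorem L181846 : sm gi N16541 = N16541 := ded_16_2 (flp_a L181839) L176293 L181839
theorem L181847 : sm gb N16541 = N16001 := ded_9_2 (flp_a L176725) (flp_b L170138) (flp_a L169718) L176289 L181839
theorem L181849 : sm ge N15939 = N16542 := rfl
theorem L181851 : sm gb N16542 = N15940 := ded_19_1 (flp_e L176295) L176289 L181849
theorem L181853 : sm gc N16542 = N16542 := ded_25_1 (flp_e L181849) L176294 L181849
theorem L181854 : sm gg N16542 = N16493 := ded_36_2 L181462 L181241 L181849
theorem L181856 : sm gi N16542 = N16542 := ded_38_2 (flp_e L181849) L176293 L181849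
theorem L181857 : sm gd N16542 = N16485 := ded_30_1 L181372 L177602 L171102 (flp_d L176291) L181849
theorem L181859 : sm gf N16542 = N16203 := ded_35_2 (flp_e L178789) (flp_f L178773) (flp_e L179985) L179979 L181849
theorem L181861 : sm ge N15942 = N16543 := rfl
theorem L181863 : sm gc N16543 = N15943 := ded_25_1 (flp_e L176322) L176317 L181861
theorem L181865 : sm gh N16543 = N16543 := ded_37_2 (flp_e L181861) L176319 L181861
theorem L181866 : sm gi N16543 = N15947 := ded_38_2 (flp_e L176344) (flp_i L176320) L181861
theorem L181868 : sm gb N15945 = N16544 := rfl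
theorem L181870 : sm gh N16544 = N16544 := ded_22_2 (flp_b L181868) L176336 L181868
theorem L181871 : sm gc N16544 = N15949 := ded_17_2 (flp_b L176358) (flp_c L169783) (flp_b L169770) L176334 L181868
theorem L181873 : sm ge N15945 = N16545 := rfl
theorem L181875 : sm gc N16545 = N15946 := ded_25_1 (flp_e L176337) L176334 L181873
theorem L181877 : sm gh N16545 = N16545 := ded_37_2 (flp_e L181873) L176336 L181873
theorem L181878 : sm gd N15947 = N16546 := rfl
theorem L181880 : sm gh N15950 = N16547 := rfl
theorem L181882 : sm gc N16547 = N16547 := ded_28_1 (flp_h L181880) L176366 L181880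
theorem L181883 : sm ge N16547 = N16322 := ded_37_1 (flp_h L179987) (flp_e L176367) L181880
theorem L181885 : sm gh N15951 = N16548 := rfl
theorem L181887 : sm ga N16548 = N16499 := ded_15_1 (flp_h L181512) (flp_a L176371) L181885
theorem L181889 : sm gb N16548 = N16234 := ded_22_1 (flp_h L179161) (flp_b L176373) L181885
theorem L181891 : sm gc N16548 = N16548 := ded_28_1 (flp_h L181885) L176375 L181885
theorem L181892 : sm ge N16548 = N16233 := ded_37_1 (flp_h L179152) (flp_e L176378) L181885
theorem L181894 : sm gf N16548 = N15953 := ded_40_1 (flp_h L176391) (flp_f L176380) L181885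
theorem L181896 : sm gg N16548 = N16239 := ded_42_1 (flp_h L179216) (flp_g L176382) L181885
theorem L181898 : sm gh N15952 = N16549 := rfl
theorem L181900 : sm gc N16549 = N16549 := ded_28_1 (flp_h L181898) L176386 L181898
theorem L181901 : sm ge N16549 = N15964 := ded_37_1 (flp_h L176481) (flp_e L176389) L181898
theorem L181903 : sm gi N16549 = N15953 := ded_44_2 (flp_h L176391) (flp_i L169842) L169835 L176384 L181898
theorem L181905 : sm gd N15953 = N16550 := rfl
theorem L181907 : sm gh N16550 = N15956 := ded_33_2 (flp_d L176420) (flp_h L169871) (flp_d L169845) L176391 L181905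
theorem L181909 : sm gh N15954 = N16551 := rfl
theorem L181911 : sm gb N16551 = N16242 := ded_22_1 (flp_h L179245) (flp_b L176398) L181909
theorem L181913 : sm gc N16551 = N15958 := ded_28_1 (flp_h L176430) (flp_c L176400) L181909
theorem L181915 : sm ge N16551 = N16252 := ded_37_1 (flp_h L179334) (flp_e L176404) L181909
theorem L181917 : sm gg N16551 = N15955 := ded_42_1 (flp_h L176408) (flp_g L176406) L181909
theorem L181919 : sm gi N16551 = N16364 := ded_44_2 (flp_h L180359) (flp_i L174443) (flp_h L169859) L176396 L181909
theorem L181921 : sm gd N15955 = N16552 := rfl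
theorem L181923 : sm gb N16552 = N16452 := ded_18_1 (flp_d L181062) (flp_b L176410) L181921
theorem L181925 : sm gf N16552 = N15956 := ded_31_2 (flp_d L176420) (flp_f L176416) L181921
theorem L181927 : sm gi N16552 = N16365 := ded_34_2 (flp_d L180369) (flp_i L176418) L181921
theorem L181929 : sm gc N15956 = N16553 := rfl
theorem L181931 : sm gi N16553 = N16366 := ded_29_2 (flp_c L180373) (flp_i L176422) L181929
theorem L181933 : sm gd N16553 = N15960 := ded_24_2 (flp_c L176449) (flp_d L169904) (flp_c L169873) L176420 L181929
theorem L181935 : sm ge N15956 = N16554 := rfl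
theorem L181937 : sm gi N16554 = N16367 := ded_38_2 (flp_e L180377) (flp_i L176422) L181935
theorem L181939 : sm gd N16554 = N15957 := ded_30_1 (flp_e L176424) (flp_d L169879) (flp_e L169875) L176420 L181935
theorem L181941 : sm gf N15957 = N16555 := rfl
theorem L181943 : sm gh N16555 = N15969 := ded_40_2 (flp_f L176508) (flp_h L176426) L181941
theorem L181945 : sm gi N16555 = N16368 := ded_41_2 (flp_f L180381) (flp_i L176428) L181941
theorem L181947 : sm gd N15958 = N16556 := rfl
theorem L181949 : sm gb N16556 = N16006 := ded_18_1 (flp_d L176782) (flp_b L176432) L181947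
theorem L181951 : sm gf N16556 = N16476 := ded_31_2 L181296 L181046 L181947
theorem L181953 : sm gg N16556 = N15959 := ded_32_2 (flp_d L176440) (flp_g L176436) L181947
theorem L181955 : sm gi N16556 = N16369 := ded_34_2 (flp_d L180385) (flp_i L176438) L181947
theorem L181957 : sm gh N16556 = N16556 := ded_33_2 (flp_d L181947) (flp_h L176430) L169889 L176430 L181947
theorem L181958 : sm gc N15959 = N16557 := rfl
theorem L181960 : sm gf N16557 = N15960 := ded_26_2 (flp_c L176449) (flp_f L176444) L181958
theorem L181962 : sm gh N16557 = N16557 := ded_28_2 (flp_c L181958) L176448 L181958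
theorem L181963 : sm gi N16557 = N16370 := ded_29_2 (flp_c L180395) (flp_i L176446) L181958
theorem L181965 : sm ge N15959 = N16558 := rfl
theorem L181967 : sm gb N16558 = N16008 := ded_19_1 (flp_e L176804) (flp_b L176442) L181965
theorem L181969 : sm gh N16558 = N16558 := ded_37_2 (flp_e L181965) L176448 L181965
theorem L181970 : sm gi N16558 = N16371 := ded_38_2 (flp_e L180401) (flp_i L176446) L181965
theorem L181972 : sm gd N16558 = N16481 := ded_30_1 (flp_e L181332) L175662 (flp_e L169898) L176440 L181965
theorem L181974 : sm gb N15960 = N16559 := rfl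
theorem L181976 : sm gh N16559 = N16559 := ded_22_2 (flp_b L181974) L176451 L181974
theorem L181977 : sm gi N16559 = N16372 := ded_23_2 (flp_b L180407) (flp_i L176452) L181974
theorem L181979 : sm gc N16559 = N16009 := ded_17_2 (flp_b L176816) (flp_c L170228) (flp_b L169906) L176449 L181974
theorem L181981 : sm gh N15961 = N16560 := rfl
theorem L181983 : sm ga N16560 = N16134 := ded_15_1 (flp_h L178181) (flp_a L176456) L181981
theorem L181985 : sm gb N16560 = N16232 := ded_22_1 (flp_h L179142) (flp_b L176458) L181981
theorem L181987 : sm gc N16560 = N16560 := ded_28_1 (flp_h L181981) L176460 L181981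
theorem L181988 : sm ge N16560 = N15963 := ded_37_1 (flp_h L176476) (flp_e L176463) L181981
theorem L181990 : sm gf N16560 = N16233 := ded_40_1 (flp_h L179152) (flp_f L176465) L181981
theorem L181992 : sm gg N16560 = N16264 := ded_42_1 (flp_h L179448) (flp_g L176467) L181981
theorem L181994 : sm gh N15962 = N16561 := rfl
theorem L181996 : sm gc N16561 = N16561 := ded_28_1 (flp_h L181994) L176471 L181994
theorem L181997 : sm gf N16561 = N15964 := ded_40_1 (flp_h L176481) (flp_f L176474) L181994
theorem L181999 : sm gi N16561 = N15963 := ded_44_2 (flp_h L176476) (flp_i L169931) L169924 L176469 L181994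
theorem L182001 : sm gd N15963 = N16562 := rfl
theorem L182003 : sm gf N16562 = N15965 := ded_31_2 (flp_d L176486) (flp_f L176479) L182001
theorem L182005 : sm gh N16562 = N15966 := ded_33_2 (flp_d L176490) (flp_h L169946) (flp_d L169934) L176476 L182001
theorem L182007 : sm gd N15964 = N16563 := rfl
theorem L182009 : sm gi N16563 = N15965 := ded_34_2 (flp_d L176486) (flp_i L176484) L182007
theorem L182011 : sm gh N16563 = N15975 := ded_33_2 (flp_d L176547) (flp_h L170004) (flp_d L169941) L176481 L182007
theorem L182013 : sm gc N15965 = N16564 := rfl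
theorem L182015 : sm gh N16564 = N15967 := ded_28_2 (flp_c L176496) (flp_h L176488) L182013
theorem L182017 : sm gd N16564 = N16564 := ded_24_2 (flp_c L182013) (flp_d L176486) L169945 L176486 L182013
theorem L182018 : sm ge N15965 = N16565 := rfl
theorem L182020 : sm gh N16565 = N15968 := ded_37_2 (flp_e L176502) (flp_h L176488) L182018
theorem L182022 : sm gc N15966 = N16566 := rfl
theorem L182024 : sm gf N16566 = N15967 := ded_26_2 (flp_c L176496) (flp_f L176492) L182022
theorem L182026 : sm gi N16566 = N15979 := ded_29_2 (flp_c L176567) (flp_i L176494) L182022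
theorem L182028 : sm gd N16566 = N15970 := ded_24_2 (flp_c L176512) (flp_d L169962) (flp_c L169948) L176490 L182022
theorem L182030 : sm ge N15966 = N16567 := rfl
theorem L182032 : sm gi N16567 = N15980 := ded_38_2 (flp_e L176573) (flp_i L176494) L182030
theorem L182034 : sm ge N15967 = N16568 := rfl
theorem L182036 : sm gc N16568 = N15968 := ded_25_1 (flp_e L176502) L176496 L182034
theorem L182038 : sm gi N16568 = N15982 := ded_38_2 (flp_e L176579) (flp_i L176498) L182034
theorem L182040 : sm gf N15968 = N16569 := rfl
theorem L182042 : sm gd N16569 = N15969 := ded_31_1 (flp_f L176508) (flp_d L176506) L182040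
theorem L182044 : sm gi N16569 = N15983 := ded_41_2 (flp_f L176583) (flp_i L176504) L182040
theorem L182046 : sm gg N15969 = N16570 := rfl
theorem L182048 : sm gi N16570 = N15984 := ded_43_2 (flp_g L176587) (flp_i L176510) L182046
theorem L182050 : sm gd N15971 = N16571 := rfl
theorem L182052 : sm gf N16571 = N16430 := ded_31_2 (flp_d L180895) (flp_f L176525) L182050
theorem L182054 : sm gd N15972 = N16572 := rfl
theorem L182056 : sm gg N16572 = N15974 := ded_32_2 (flp_d L176541) (flp_g L176531) L182054
theorem L182058 : sm gh N16572 = N15978 := ded_33_2 (flp_d L176563) (flp_h L170016) (flp_d L169988) L176527 L182054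
theorem L182060 : sm gd N15973 = N16573 := rfl
theorem L182062 : sm gf N16573 = N15975 := ded_31_2 (flp_d L176547) (flp_f L176537) L182060
theorem L182064 : sm gi N16573 = N15974 := ded_34_2 (flp_d L176541) (flp_i L176539) L182060
theorem L182066 : sm gc N15974 = N16574 := rfl
theorem L182068 : sm gf N16574 = N15976 := ded_26_2 (flp_c L176551) (flp_f L176543) L182066
theorem L182070 : sm gh N16574 = N15979 := ded_28_2 (flp_c L176567) (flp_h L176545) L182066
theorem L182072 : sm gd N16574 = N15992 := ded_24_2 (flp_c L176646) (flp_d L170086) (flp_c L170000) L176541 L182066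
theorem L182074 : sm ge N15974 = N16575 := rfl
theorem L182076 : sm gh N16575 = N15980 := ded_37_2 (flp_e L176573) (flp_h L176545) L182074
theorem L182078 : sm gc N15975 = N16576 := rfl
theorem L182080 : sm gi N16576 = N15976 := ded_29_2 (flp_c L176551) (flp_i L176549) L182078
theorem L182082 : sm gd N16576 = N15994 := ded_24_2 (flp_c L176664) (flp_d L170094) (flp_c L170006) L176547 L182078
theorem L182084 : sm ge N15975 = N16577 := rfl
theorem L182086 : sm gi N16577 = N15977 := ded_38_2 (flp_e L176557) (flp_i L176549) L182084
theorem L182088 : sm gd N16577 = N16436 := ded_30_1 (flp_e L180933) (flp_d L174996) (flp_e L170008) L176547 L182084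
theorem L182090 : sm gb N15976 = N16578 := rfl
theorem L182092 : sm gd N16578 = N15996 := ded_18_2 (flp_b L176680) (flp_d L176555) L182090
theorem L182094 : sm gh N16578 = N15981 := ded_22_2 (flp_b L176575) (flp_h L176553) L182090
theorem L182096 : sm ge N15976 = N16579 := rfl
theorem L182098 : sm gc N16579 = N15977 := ded_25_1 (flp_e L176557) L176551 L182096
theorem L182100 : sm gh N16579 = N15982 := ded_37_2 (flp_e L176579) (flp_h L176553) L182096
theorem L182102 : sm gf N15977 = N16580 := rfl
theorem L182104 : sm gd N16580 = N16439 := ded_31_1 (flp_f L180951) (flp_d L176561) L182102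
theorem L182106 : sm gh N16580 = N15983 := ded_40_2 (flp_f L176583) (flp_h L176559) L182102
theorem L182108 : sm gc N15978 = N16581 := rfl
theorem L182110 : sm gg N16581 = N15979 := ded_27_2 (flp_c L176567) (flp_g L176565) L182108
theorem L182112 : sm gd N16581 = N15985 := ded_24_2 (flp_c L176591) (flp_d L170038) (flp_c L170018) L176563 L182108
theorem L182114 : sm ge N15978 = N16582 := rfl
theorem L182116 : sm gg N16582 = N15980 := ded_36_2 (flp_e L176573) (flp_g L176565) L182114
theorem L182118 : sm gb N15979 = N16583 := rfl
theorem L182120 : sm gd N16583 = N15986 := ded_18_2 (flp_b L176597) (flp_d L176571) L182118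
theorem L182122 : sm gf N16583 = N15981 := ded_20_2 (flp_b L176575) (flp_f L176569) L182118
theorem L182124 : sm ge N15979 = N16584 := rfl
theorem L182126 : sm gc N16584 = N15980 := ded_25_1 (flp_e L176573) L176567 L182124
theorem L182128 : sm gf N15980 = N16585 := rfl
theorem L182130 : sm ge N16585 = N15983 := ded_35_1 (flp_f L176583) (flp_e L170030) (flp_f L170024) L176573 L182128
theorem L182132 : sm ga N15981 = N16586 := rfl
theorem L182134 : sm gd N16586 = N15988 := ded_11_2 (flp_a L176611) (flp_d L176577) L182132
theorem L182136 : sm ge N15981 = N16587 := rfl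
theorem L182138 : sm gb N16587 = N15982 := ded_19_1 (flp_e L176579) L176575 L182136
theorem L182140 : sm gf N15982 = N16588 := rfl
theorem L182142 : sm gc N16588 = N15983 := ded_26_1 (flp_f L176583) (flp_c L176581) L182140
theorem L182144 : sm gg N15983 = N16589 := rfl
theorem L182146 : sm gd N16589 = N15984 := ded_32_1 (flp_g L176587) (flp_d L176585) L182144
theorem L182148 : sm gd N15987 = N16590 := rfl
theorem L182150 : sm gc N15989 = N16591 := rfl
theorem L182152 : sm ga N16591 = N16170 := ded_10_1 L178538 (flp_a L176619) L182150
theorem L182154 : sm ge N16591 = N16065 := ded_25_2 L177471 L176627 L182150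
theorem L182156 : sm gf N16591 = N16451 := ded_26_2 (flp_c L181048) (flp_f L176623) L182150
theorem L182158 : sm gh N16591 = N16004 := ded_28_2 (flp_c L176754) (flp_h L176625) L182150
theorem L182160 : sm gc N15990 = N16592 := rfl
theorem L182162 : sm gg N16592 = N15992 := ded_27_2 (flp_c L176646) (flp_g L176633) L182160
theorem L182164 : sm gh N16592 = N15998 := ded_28_2 (flp_c L176692) (flp_h L176635) L182160
theorem L182166 : sm gc N15991 = N16593 := rfl
theorem L182168 : sm gf N16593 = N15994 := ded_26_2 (flp_c L176664) (flp_f L176641) L182166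
theorem L182170 : sm gh N16593 = N16593 := ded_28_2 (flp_c L182166) L176645 L182166
theorem L182171 : sm gi N16593 = N15992 := ded_29_2 (flp_c L176646) (flp_i L176643) L182166
theorem L182173 : sm ge N15991 = N16594 := rfl
theorem L182175 : sm ga N16594 = N16195 := ded_12_1 (flp_e L181788) L181781 L182173
theorem L182177 : sm gb N16594 = N16011 := ded_19_1 (flp_e L176833) (flp_b L176639) L182173
theorem L182179 : sm gh N16594 = N16594 := ded_37_2 (flp_e L182173) L176645 L182173
theorem L182180 : sm gi N16594 = N15993 := ded_38_2 (flp_e L176652) (flp_i L176643) L182173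
theorem L182182 : sm gd N16594 = N16076 := ded_30_1 L181002 (flp_d L180988) L175050 L176637 L182173
theorem L182184 : sm gf N16594 = N16077 := ded_35_2 L177591 L176678 (flp_e L176669) (flp_f L176641) L182173
theorem L182186 : sm gb N15992 = N16595 := rfl
theorem L182188 : sm gf N16595 = N15996 := ded_20_2 (flp_b L176680) (flp_f L176648) L182186
theorem L182190 : sm gh N16595 = N15999 := ded_22_2 (flp_b L176699) (flp_h L176650) L182186
theorem L182192 : sm gc N16595 = N16012 := ded_17_2 (flp_b L176847) (flp_c L170256) (flp_b L170088) L176646 L182186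
theorem L182194 : sm ge N16592 = N16595 := ded_37_3 L182190 (flp_e L176708) (flp_h L182164)
theorem L182196 : sm ge N15992 = N16596 := rfl
theorem L182198 : sm ga N16596 = N16196 := ded_12_1 (flp_e L181795) L181793 L182196
theorem L182200 : sm gb N16596 = N16592 := ded_19_1 L182194 (flp_b L182186) L182196
theorem L182202 : sm gc N16596 = N15993 := ded_25_1 (flp_e L176652) L176646 L182196
theorem L182204 : sm gg N16596 = N16595 := ded_36_2 (flp_e L182194) L182162 L182196
theorem L182206 : sm gh N16596 = N16000 := ded_37_2 (flp_e L176710) (flp_h L176650) L182196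
theorem L182208 : sm gf N16596 = N16078 := ded_35_2 (flp_e L180201) L180203 (flp_e L176686) (flp_f L176648) L182196
theorem L182210 : sm gb N15994 = N16597 := rfl
theorem L182212 : sm gh N16597 = N16597 := ded_22_2 (flp_b L182210) L176666 L182210
theorem L182213 : sm gi N16597 = N15996 := ded_23_2 (flp_b L176680) (flp_i L176667) L182210
theorem L182215 : sm gc N16597 = N16013 := ded_17_2 (flp_b L176857) (flp_c L170274) (flp_b L170096) L176664 L182210
theorem L182217 : sm ge N15994 = N16598 := rfl
theorem L182219 : sm gc N16598 = N15995 := ded_25_1 (flp_e L176669) L176664 L182217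
theorem L182221 : sm gh N16598 = N16598 := ded_37_2 (flp_e L182217) L176666 L182217
theorem L182222 : sm gi N16598 = N15997 := ded_38_2 (flp_e L176686) (flp_i L176667) L182217
theorem L182224 : sm gf N16459 = N16598 := ded_26_0 L182219 (flp_f L176678) L181125
theorem L182226 : sm ga N15996 = N16599 := rfl
theorem L182228 : sm gc N16599 = N16015 := ded_10_2 (flp_a L176874) (flp_c L176684) L182226
theorem L182230 : sm gh N16599 = N16001 := ded_15_2 (flp_a L176725) (flp_h L176682) L182226
theorem L182232 : sm ge N15996 = N16600 := rfl
theorem L182234 : sm gb N16600 = N15997 := ded_19_1 (flp_e L176686) L176680 L182232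
theorem L182236 : sm gc N16600 = N16016 := ded_25_1 (flp_e L176879) (flp_c L176684) L182232
theorem L182238 : sm gh N16600 = N16002 := ded_37_2 (flp_e L176732) (flp_h L176682) L182232
theorem L182240 : sm gd N15997 = N16601 := rfl
theorem L182242 : sm gc N16601 = N16452 := ded_24_1 (flp_d L181062) L175191 (flp_d L170111) (flp_c L176688) L182240
theorem L182244 : sm ge N16001 = N16602 := rfl
theorem L182246 : sm ga N16602 = N16002 := ded_12_1 (flp_e L176732) L176725 L182244
theorem L182248 : sm gc N16602 = N16017 := ded_25_1 (flp_e L176885) (flp_c L176727) L182244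
theorem L182250 : sm gi N16602 = N16602 := ded_38_2 (flp_e L182244) L176731 L182244
theorem L182251 : sm gh N16003 = N16603 := rfl
theorem L182253 : sm ga N16603 = N16086 := ded_15_1 L177701 (flp_a L176741) L182251
theorem L182255 : sm gb N16603 = N16230 := ded_22_1 L179127 (flp_b L176743) L182251
theorem L182257 : sm gc N16603 = N16005 := ded_28_1 (flp_h L176766) (flp_c L176750) L182251
theorem L182259 : sm ge N16603 = N16073 := ded_37_1 L177543 (flp_e L176752) L182251
theorem L182261 : sm gf N16603 = N16229 := ded_40_1 L179111 (flp_f L176745) L182251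
theorem L182263 : sm gg N16603 = N16087 := ded_42_1 L177713 (flp_g L176747) L182251
theorem L182265 : sm gi N16345 = N16603 := ded_29_0 L182257 (flp_i L176780) L180164
theorem L182267 : sm gb N16007 = N16604 := rfl
theorem L182269 : sm gd N16604 = N16016 := ded_18_2 L176881 (flp_d L176800) L182267
theorem L182271 : sm ge N16604 = N16556 := ded_19_2 L181949 L176802 L182267
theorem L182273 : sm gf N16604 = N16009 := ded_20_2 (flp_b L176816) (flp_f L176795) L182267
theorem L182275 : sm gg N16604 = N16558 := ded_21_2 L181967 L176809 L182267
theorem L182277 : sm gh N16604 = N16604 := ded_22_2 (flp_b L182267) L176797 L182267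
theorem L182278 : sm gi N16604 = N16461 := ded_23_2 (flp_b L181141) (flp_i L176798) L182267
theorem L182280 : sm ga N16009 = N16605 := rfl
theorem L182282 : sm gh N16605 = N16605 := ded_15_2 (flp_a L182280) L176818 L182280
theorem L182283 : sm gi N16605 = N16462 := ded_16_2 (flp_a L181151) (flp_i L176819) L182280
theorem L182285 : sm gb N16605 = N16605 := ded_9_2 (flp_a L182280) (flp_b L176816) L170230 L176816 L182280
theorem L182286 : sm gb N16010 = N16606 := rfl
theorem L182288 : sm gd N16606 = N16449 := ded_18_2 L181024 (flp_d L176829) L182286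
theorem L182290 : sm ge N16606 = N16446 := ded_19_2 L180981 L176831 L182286
theorem L182292 : sm gf N16606 = N16013 := ded_20_2 (flp_b L176857) (flp_f L176824) L182286
theorem L182294 : sm gg N16606 = N16594 := ded_21_2 L182177 L176838 L182286
theorem L182296 : sm gh N16606 = N16606 := ded_22_2 (flp_b L182286) L176826 L182286
theorem L182297 : sm gi N16606 = N16012 := ded_23_2 (flp_b L176847) (flp_i L176827) L182286
theorem L182299 : sm ga N16497 = N16606 := ded_11_3 L182288 L181022 L181493
theorem L182301 : sm ga N16013 = N16607 := rfl
theorem L182303 : sm gd N16607 = N16486 := ded_11_2 L181383 (flp_d L177916) L182301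
theorem L182305 : sm gf N16607 = N16497 := ded_13_2 L182299 L182292 L182301
theorem L182307 : sm gh N16607 = N16607 := ded_15_2 (flp_a L182301) L176859 L182301
theorem L182308 : sm gi N16607 = N16015 := ded_16_2 (flp_a L176874) (flp_i L176860) L182301
theorem L182310 : sm gb N16607 = N16607 := ded_9_2 (flp_a L182301) (flp_b L176857) L170276 L176857 L182301
theorem L182311 : sm ge N16013 = N16608 := rfl
theorem L182313 : sm gb N16608 = N16014 := ded_19_1 (flp_e L176862) L176857 L182311
theorem L182315 : sm gh N16608 = N16608 := ded_37_2 (flp_e L182311) L176859 L182311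
theorem L182316 : sm gi N16608 = N16016 := ded_38_2 (flp_e L176879) (flp_i L176860) L182311
theorem L182318 : sm gd N16608 = N16461 := ded_30_1 L181143 (flp_d L180385) (flp_e L177910) (flp_d L177916) L182311
theorem L182320 : sm gf N16608 = N16460 := ded_35_2 (flp_e L181253) L181249 (flp_e L182290) L182292 L182311
theorem L182322 : sm ge N16015 = N16609 := rfl
theorem L182324 : sm ga N16609 = N16016 := ded_12_1 (flp_e L176879) L176874 L182322
theorem L182326 : sm gb N16609 = N16609 := ded_19_1 (flp_e L182322) L176878 L182322
theorem L182327 : sm gh N16609 = N16017 := ded_37_2 (flp_e L176885) (flp_h L176876) L182322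
theorem L182329 : sm gh N16018 = N16610 := rfl
theorem L182331 : sm ga N16610 = N16020 := ded_15_1 (flp_h L176922) (flp_a L176894) L182329
theorem L182333 : sm gb N16610 = N16095 := ded_22_1 (flp_h L177810) (flp_b L176896) L182329
theorem L182335 : sm gc N16610 = N16610 := ded_28_1 (flp_h L182329) L176898 L182329
theorem L182336 : sm ge N16610 = N16561 := ded_37_1 (flp_h L181994) (flp_e L176901) L182329
theorem L182338 : sm gf N16610 = N16237 := ded_40_1 (flp_h L179194) (flp_f L176903) L182329
theorem L182340 : sm gg N16610 = N16330 := ded_42_1 (flp_h L180050) (flp_g L176905) L182329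
theorem L182342 : sm gi N16610 = N16560 := ded_44_2 (flp_h L181981) (flp_i L176454) (flp_h L170333) L176892 L182329
theorem L182344 : sm gh N16019 = N16611 := rfl
theorem L182346 : sm ga N16611 = N16561 := ded_15_1 (flp_h L181994) (flp_a L176909) L182344
theorem L182348 : sm gb N16611 = N16023 := ded_22_1 (flp_h L176958) (flp_b L176911) L182344
theorem L182350 : sm gc N16611 = N16611 := ded_28_1 (flp_h L182344) L176913 L182344
theorem L182351 : sm ge N16611 = N16020 := ded_37_1 (flp_h L176922) (flp_e L176916) L182344
theorem L182353 : sm gf N16611 = N16509 := ded_40_1 (flp_h L181595) (flp_f L176918) L182344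
theorem L182355 : sm gg N16611 = N16163 := ded_42_1 (flp_h L178485) (flp_g L176920) L182344
theorem L182357 : sm gi N16611 = N16139 := ded_44_2 (flp_h L178237) (flp_i L171991) (flp_h L170348) L176907 L182344
theorem L182359 : sm gd N16020 = N16612 := rfl
theorem L182361 : sm gb N16612 = N16024 := ded_18_1 (flp_d L176970) (flp_b L176924) L182359
theorem L182363 : sm gf N16612 = N16240 := ded_31_2 (flp_d L179223) (flp_f L176927) L182359
theorem L182365 : sm gh N16612 = N16036 := ded_33_2 (flp_d L177139) (flp_h L170572) (flp_d L170359) L176922 L182359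
theorem L182367 : sm gh N16021 = N16613 := rfl
theorem L182369 : sm ga N16613 = N16100 := ded_15_1 (flp_h L177869) (flp_a L176931) L182367
theorem L182371 : sm gb N16613 = N16522 := ded_22_1 (flp_h L181684) (flp_b L176933) L182367
theorem L182373 : sm gc N16613 = N16613 := ded_28_1 (flp_h L182367) L176935 L182367
theorem L182374 : sm ge N16613 = N16039 := ded_37_1 (flp_h L177173) (flp_e L176938) L182367
theorem L182376 : sm gf N16613 = N16515 := ded_40_1 (flp_h L181637) (flp_f L176940) L182367
theorem L182378 : sm gg N16613 = N16125 := ded_42_1 (flp_h L178114) (flp_g L176942) L182367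
theorem L182380 : sm gi N16613 = N16110 := ded_44_2 (flp_h L177960) (flp_i L171687) (flp_h L170374) L176929 L182367
theorem L182382 : sm gh N16022 = N16614 := rfl
theorem L182384 : sm ga N16614 = N16102 := ded_15_1 (flp_h L177886) (flp_a L176946) L182382
theorem L182386 : sm gb N16614 = N16509 := ded_22_1 (flp_h L181595) (flp_b L176948) L182382
theorem L182388 : sm gc N16614 = N16025 := ded_28_1 (flp_h L176980) (flp_c L176950) L182382
theorem L182390 : sm ge N16614 = N16243 := ded_37_1 (flp_h L179255) (flp_e L176954) L182382
theorem L182392 : sm gf N16614 = N16023 := ded_40_1 (flp_h L176958) (flp_f L176956) L182382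
theorem L182394 : sm gi N16614 = N16143 := ded_44_2 (flp_h L178286) (flp_i L172046) (flp_h L170388) L176944 L182382
theorem L182396 : sm gd N16023 = N16615 := rfl
theorem L182398 : sm ga N16615 = N16103 := ded_11_1 (flp_d L177898) (flp_a L176960) L182396
theorem L182400 : sm gg N16615 = N16174 := ded_32_2 (flp_d L178562) (flp_g L176966) L182396
theorem L182402 : sm gi N16615 = N16144 := ded_34_2 (flp_d L178296) (flp_i L176968) L182396
theorem L182404 : sm ge N16024 = N16616 := rfl
theorem L182406 : sm ga N16616 = N16104 := ded_12_1 (flp_e L177900) (flp_a L176972) L182404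
theorem L182408 : sm gc N16616 = N16504 := ded_25_1 (flp_e L181558) (flp_c L176976) L182404
theorem L182410 : sm gh N16616 = N16042 := ded_37_2 (flp_e L177200) (flp_h L176978) L182404
theorem L182412 : sm gd N16025 = N16617 := rfl
theorem L182414 : sm ga N16617 = N16106 := ded_11_1 (flp_d L177918) (flp_a L176982) L182412
theorem L182416 : sm gb N16617 = N16617 := ded_18_1 (flp_d L182412) L176984 L182412
theorem L182417 : sm gf N16617 = N16026 := ded_31_2 (flp_d L176991) (flp_f L176987) L182412
theorem L182419 : sm gg N16617 = N16607 := ded_32_2 L182303 L181390 L182412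
theorem L182421 : sm gi N16617 = N16187 := ded_34_2 (flp_d L178645) (flp_i L176989) L182412
theorem L182423 : sm gh N16617 = N16617 := ded_33_2 (flp_d L182412) (flp_h L176980) L170415 L176980 L182412
theorem L182424 : sm gc N16026 = N16618 := rfl
theorem L182426 : sm ga N16618 = N16107 := ded_10_1 (flp_c L177929) (flp_a L176993) L182424
theorem L182428 : sm ge N16618 = N16506 := ded_25_2 (flp_c L181576) (flp_e L177000) L182424
theorem L182430 : sm gg N16618 = N16197 := ded_27_2 (flp_c L178741) (flp_g L176996) L182424
theorem L182432 : sm gh N16618 = N16618 := ded_28_2 (flp_c L182424) L177002 L182424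
theorem L182433 : sm gi N16618 = N16188 := ded_29_2 (flp_c L178656) (flp_i L176998) L182424
theorem L182435 : sm gd N16027 = N16619 := rfl
theorem L182437 : sm ga N16619 = N16108 := ded_11_1 (flp_d L177934) (flp_a L177005) L182435
theorem L182439 : sm gb N16619 = N16265 := ded_18_1 (flp_d L179455) (flp_b L177007) L182435
theorem L182441 : sm gf N16619 = N16031 := ded_31_2 (flp_d L177066) (flp_f L177013) L182435
theorem L182443 : sm gg N16619 = N16248 := ded_32_2 (flp_d L179292) (flp_g L177015) L182435
theorem L182445 : sm gi N16619 = N16047 := ded_34_2 (flp_d L177264) (flp_i L177017) L182435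
theorem L182447 : sm gc N16619 = N16114 := ded_24_1 (flp_d L177998) L171737 (flp_d L170457) (flp_c L177009) L182435
theorem L182449 : sm gd N16028 = N16620 := rfl
theorem L182451 : sm ga N16620 = N16333 := ded_11_1 (flp_d L180080) (flp_a L177021) L182449
theorem L182453 : sm gb N16620 = N16031 := ded_18_1 (flp_d L177066) (flp_b L177023) L182449
theorem L182455 : sm gf N16620 = N16265 := ded_31_2 (flp_d L179455) (flp_f L177029) L182449
theorem L182457 : sm gg N16620 = N16036 := ded_32_2 (flp_d L177139) (flp_g L177031) L182449
theorem L182459 : sm gi N16620 = N16050 := ded_34_2 (flp_d L177305) (flp_i L177033) L182449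
theorem L182461 : sm gh N16029 = N16621 := rfl
theorem L182463 : sm ga N16621 = N16110 := ded_15_1 (flp_h L177960) (flp_a L177037) L182461
theorem L182465 : sm gb N16621 = N16272 := ded_22_1 (flp_h L179509) (flp_b L177039) L182461
theorem L182467 : sm gc N16621 = N16621 := ded_28_1 (flp_h L182461) L177041 L182461
theorem L182468 : sm ge N16621 = N16125 := ded_37_1 (flp_h L178114) (flp_e L177044) L182461
theorem L182470 : sm gf N16621 = N16268 := ded_40_1 (flp_h L179474) (flp_f L177046) L182461
theorem L182472 : sm gg N16621 = N16039 := ded_42_1 (flp_h L177173) (flp_g L177048) L182461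
theorem L182474 : sm gi N16621 = N16100 := ded_44_2 (flp_h L177869) (flp_i L171588) (flp_h L170488) L177035 L182461
theorem L182476 : sm gd N16030 = N16622 := rfl
theorem L182478 : sm ga N16622 = N16111 := ded_11_1 (flp_d L177969) (flp_a L177052) L182476
theorem L182480 : sm gb N16622 = N16275 := ded_18_1 (flp_d L179537) (flp_b L177054) L182476
theorem L182482 : sm gf N16622 = N16269 := ded_31_2 (flp_d L179483) (flp_f L177060) L182476
theorem L182484 : sm gg N16622 = N16041 := ded_32_2 (flp_d L177194) (flp_g L177062) L182476
theorem L182486 : sm gi N16622 = N16051 := ded_34_2 (flp_d L177311) (flp_i L177064) L182476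
theorem L182488 : sm ge N16031 = N16623 := rfl
theorem L182490 : sm ga N16623 = N16112 := ded_12_1 (flp_e L177979) (flp_a L177068) L182488
theorem L182492 : sm gc N16623 = N16377 := ded_25_1 (flp_e L180447) (flp_c L177074) L182488
theorem L182494 : sm gg N16623 = N16042 := ded_36_2 (flp_e L177200) (flp_g L177070) L182488
theorem L182496 : sm gi N16623 = N16052 := ded_38_2 (flp_e L177321) (flp_i L177072) L182488
theorem L182498 : sm gc N16032 = N16624 := rfl
theorem L182500 : sm ga N16624 = N16113 := ded_10_1 (flp_c L177987) (flp_a L177078) L182498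
theorem L182502 : sm ge N16624 = N16453 := ded_25_2 (flp_c L181066) (flp_e L177088) L182498
theorem L182504 : sm gf N16624 = N16316 := ded_26_2 (flp_c L179928) (flp_f L177082) L182498
theorem L182506 : sm gg N16624 = N16044 := ded_27_2 (flp_c L177223) (flp_g L177084) L182498
theorem L182508 : sm gh N16624 = N16624 := ded_28_2 (flp_c L182498) L177090 L182498
theorem L182509 : sm gi N16624 = N16053 := ded_29_2 (flp_c L177329) (flp_i L177086) L182498
theorem L182511 : sm gb N16624 = N16454 := ded_17_1 (flp_c L181075) L175222 (flp_c L171150) (flp_b L177080) L182498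
theorem L182513 : sm gd N16033 = N16625 := rfl
theorem L182515 : sm ga N16625 = N16036 := ded_11_1 (flp_d L177139) (flp_a L177093) L182513
theorem L182517 : sm gb N16625 = N16114 := ded_18_1 (flp_d L177998) (flp_b L177095) L182513
theorem L182519 : sm gf N16625 = N16251 := ded_31_2 (flp_d L179324) (flp_f L177101) L182513
theorem L182521 : sm gg N16625 = N16333 := ded_32_2 (flp_d L180080) (flp_g L177103) L182513
theorem L182523 : sm gi N16625 = N16056 := ded_34_2 (flp_d L177375) (flp_i L177105) L182513
theorem L182525 : sm gh N16034 = N16626 := rfl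
theorem L182527 : sm ga N16626 = N16398 := ded_15_1 (flp_h L180617) (flp_a L177109) L182525
theorem L182529 : sm gb N16626 = N16039 := ded_22_1 (flp_h L177173) (flp_b L177111) L182525
theorem L182531 : sm gc N16626 = N16307 := ded_28_1 (flp_h L179812) (flp_c L177113) L182525
theorem L182533 : sm ge N16626 = N16522 := ded_37_1 (flp_h L181684) (flp_e L177117) L182525
theorem L182535 : sm gf N16626 = N16294 := ded_40_1 (flp_h L179699) (flp_f L177119) L182525
theorem L182537 : sm gg N16626 = N16272 := ded_42_1 (flp_h L179509) (flp_g L177121) L182525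
theorem L182539 : sm gi N16626 = N16521 := ded_44_2 (flp_h L181674) (flp_i L176121) L170556 L177107 L182525
theorem L182541 : sm gd N16035 = N16627 := rfl
theorem L182543 : sm ga N16627 = N16403 := ded_11_1 (flp_d L180669) (flp_a L177125) L182541
theorem L182545 : sm gb N16627 = N16041 := ded_18_1 (flp_d L177194) (flp_b L177127) L182541
theorem L182547 : sm gf N16627 = N16300 := ded_31_2 (flp_d L179755) (flp_f L177133) L182541
theorem L182549 : sm gg N16627 = N16275 := ded_32_2 (flp_d L179537) (flp_g L177135) L182541
theorem L182551 : sm gi N16627 = N16060 := ded_34_2 (flp_d L177421) (flp_i L177137) L182541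
theorem L182553 : sm gc N16627 = N16393 := ded_24_1 (flp_d L180585) L174672 (flp_d L171181) (flp_c L177129) L182541
theorem L182555 : sm gc N16036 = N16628 := rfl
theorem L182557 : sm gf N16628 = N16254 := ded_26_2 (flp_c L179352) (flp_f L177143) L182555
theorem L182559 : sm gi N16628 = N16061 := ded_29_2 (flp_c L177429) (flp_i L177145) L182555
theorem L182561 : sm gb N16628 = N16507 := ded_17_1 (flp_c L181583) L176056 (flp_c L170645) (flp_b L177141) L182555
theorem L182563 : sm gd N16628 = N16083 := ded_24_2 (flp_c L177654) (flp_d L171185) (flp_c L170576) L177139 L182555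
theorem L182565 : sm ge N16036 = N16629 := rfl
theorem L182567 : sm gb N16629 = N16042 := ded_19_1 (flp_e L177200) (flp_b L177141) L182565
theorem L182569 : sm gi N16629 = N16062 := ded_38_2 (flp_e L177437) (flp_i L177145) L182565
theorem L182571 : sm gh N16037 = N16630 := rfl
theorem L182573 : sm ga N16630 = N16124 := ded_15_1 (flp_h L178109) (flp_a L177149) L182571
theorem L182575 : sm gb N16630 = N16294 := ded_22_1 (flp_h L179699) (flp_b L177151) L182571
theorem L182577 : sm gc N16630 = N16630 := ded_28_1 (flp_h L182571) L177153 L182571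
theorem L182578 : sm gf N16630 = N16039 := ded_40_1 (flp_h L177173) (flp_f L177156) L182571
theorem L182580 : sm gg N16630 = N16285 := ded_42_1 (flp_h L179643) (flp_g L177158) L182571
theorem L182582 : sm gh N16038 = N16631 := rfl
theorem L182584 : sm ga N16631 = N16125 := ded_15_1 (flp_h L178114) (flp_a L177162) L182582
theorem L182586 : sm gb N16631 = N16521 := ded_22_1 (flp_h L181674) (flp_b L177164) L182582
theorem L182588 : sm gc N16631 = N16631 := ded_28_1 (flp_h L182582) L177166 L182582
theorem L182589 : sm ge N16631 = N16110 := ded_37_1 (flp_h L177960) (flp_e L177169) L182582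
theorem L182591 : sm gg N16631 = N16100 := ded_42_1 (flp_h L177869) (flp_g L177171) L182582
theorem L182593 : sm gi N16631 = N16039 := ded_44_2 (flp_h L177173) (flp_i L170606) L170593 L177160 L182582
theorem L182595 : sm gd N16039 = N16632 := rfl
theorem L182597 : sm ga N16632 = N16126 := ded_11_1 (flp_d L178119) (flp_a L177175) L182595
theorem L182599 : sm gh N16632 = N16041 := ded_33_2 (flp_d L177194) (flp_h L170627) (flp_d L170611) L177173 L182595
theorem L182601 : sm gd N16040 = N16633 := rfl
theorem L182603 : sm ga N16633 = N16128 := ded_11_1 (flp_d L178139) (flp_a L177180) L182601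
theorem L182605 : sm gb N16633 = N16300 := ded_18_1 (flp_d L179755) (flp_b L177182) L182601
theorem L182607 : sm gf N16633 = N16041 := ded_31_2 (flp_d L177194) (flp_f L177188) L182601
theorem L182609 : sm gg N16633 = N16288 := ded_32_2 (flp_d L179663) (flp_g L177190) L182601
theorem L182611 : sm gi N16633 = N16069 := ded_34_2 (flp_d L177509) (flp_i L177192) L182601
theorem L182613 : sm gc N16041 = N16634 := rfl
theorem L182615 : sm ga N16634 = N16129 := ded_10_1 (flp_c L178145) (flp_a L177196) L182613
theorem L182617 : sm gi N16634 = N16070 := ded_29_2 (flp_c L177515) (flp_i L177198) L182613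
theorem L182619 : sm gd N16634 = N16044 := ded_24_2 (flp_c L177223) (flp_d L170661) (flp_c L170631) L177194 L182613
theorem L182621 : sm ge N16041 = N16635 := rfl
theorem L182623 : sm ga N16635 = N16130 := ded_12_1 (flp_e L178151) (flp_a L177196) L182621
theorem L182625 : sm gi N16635 = N16071 := ded_38_2 (flp_e L177521) (flp_i L177198) L182621
theorem L182627 : sm gd N16635 = N16042 := ded_30_1 (flp_e L177200) (flp_d L170637) (flp_e L170633) L177194 L182621
theorem L182629 : sm gf N16042 = N16636 := rfl
theorem L182631 : sm ga N16636 = N16131 := ded_13_1 (flp_f L178157) (flp_a L177202) L182629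
theorem L182633 : sm gc N16636 = N16513 := ded_26_1 (flp_f L181624) (flp_c L177204) L182629
theorem L182635 : sm gi N16636 = N16072 := ded_41_2 (flp_f L177527) (flp_i L177206) L182629
theorem L182637 : sm ge N16636 = N16263 := ded_35_1 (flp_f L179442) (flp_e L173403) (flp_f L170641) L177200 L182629
theorem L182639 : sm gc N16043 = N16637 := rfl
theorem L182641 : sm ga N16637 = N16132 := ded_10_1 (flp_c L178165) (flp_a L177210) L182639
theorem L182643 : sm ge N16637 = N16345 := ded_25_2 (flp_c L180164) (flp_e L177220) L182639
theorem L182645 : sm gf N16637 = N16044 := ded_26_2 (flp_c L177223) (flp_f L177214) L182639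
theorem L182647 : sm gg N16637 = N16319 := ded_27_2 (flp_c L179962) (flp_g L177216) L182639
theorem L182649 : sm gh N16637 = N16637 := ded_28_2 (flp_c L182639) L177222 L182639
theorem L182650 : sm gi N16637 = N16073 := ded_29_2 (flp_c L177535) (flp_i L177218) L182639
theorem L182652 : sm gb N16637 = N16211 := ded_17_1 (flp_c L178900) L172685 (flp_c L171219) (flp_b L177212) L182639
theorem L182654 : sm gb N16044 = N16638 := rfl
theorem L182656 : sm ge N16638 = N16514 := ded_19_2 (flp_b L181630) (flp_e L177227) L182654
theorem L182658 : sm gf N16638 = N16211 := ded_20_2 (flp_b L182652) L182645 L182654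
theorem L182660 : sm gg N16638 = N16454 := ded_21_2 (flp_b L182511) L182506 L182654
theorem L182662 : sm gh N16638 = N16638 := ded_22_2 (flp_b L182654) L177229 L182654
theorem L182663 : sm gi N16638 = N16074 := ded_23_2 (flp_b L177547) (flp_i L177230) L182654
theorem L182665 : sm gc N16638 = N16085 := ded_17_2 (flp_b L177678) (flp_c L171224) (flp_b L170665) L177223 L182654
theorem L182667 : sm ga N16213 = N16638 := ded_13_3 L182658 L178902 (flp_f L178926)
theorem L182669 : sm gd N16045 = N16639 := rfl
theorem L182671 : sm ga N16639 = N16221 := ded_11_1 (flp_d L179019) (flp_a L177234) L182669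
theorem L182673 : sm gb N16639 = N16047 := ded_18_1 (flp_d L177264) (flp_b L177236) L182669
theorem L182675 : sm gf N16639 = N16050 := ded_31_2 (flp_d L177305) (flp_f L177242) L182669
theorem L182677 : sm gg N16639 = N16223 := ded_32_2 (flp_d L179043) (flp_g L177244) L182669
theorem L182679 : sm gi N16639 = N16265 := ded_34_2 (flp_d L179455) (flp_i L177246) L182669
theorem L182681 : sm gc N16639 = N16590 := ded_24_1 (flp_d L182148) L176607 (flp_d L171251) (flp_c L177238) L182669
theorem L182683 : sm gd N16046 = N16640 := rfl
theorem L182685 : sm ga N16640 = N16135 := ded_11_1 (flp_d L178192) (flp_a L177250) L182683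
theorem L182687 : sm gb N16640 = N16248 := ded_18_1 (flp_d L179292) (flp_b L177252) L182683
theorem L182689 : sm gf N16640 = N16249 := ded_31_2 (flp_d L179302) (flp_f L177258) L182683
theorem L182691 : sm gg N16640 = N16265 := ded_32_2 (flp_d L179455) (flp_g L177260) L182683
theorem L182693 : sm gi N16640 = N16223 := ded_34_2 (flp_d L179043) (flp_i L177262) L182683
theorem L182695 : sm ge N16047 = N16641 := rfl
theorem L182697 : sm ga N16641 = N16136 := ded_12_1 (flp_e L178202) (flp_a L177266) L182695
theorem L182699 : sm gc N16641 = N16158 := ded_25_1 (flp_e L178439) (flp_c L177272) L182695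
theorem L182701 : sm gg N16641 = N16266 := ded_36_2 (flp_e L179459) (flp_g L177270) L182695
theorem L182703 : sm gc N16048 = N16642 := rfl
theorem L182705 : sm ga N16642 = N16137 := ded_10_1 (flp_c L178210) (flp_a L177276) L182703
theorem L182707 : sm ge N16642 = N16211 := ded_25_2 (flp_c L178900) (flp_e L177286) L182703
theorem L182709 : sm gf N16642 = N16314 := ded_26_2 (flp_c L179908) (flp_f L177280) L182703
theorem L182711 : sm gg N16642 = N16267 := ded_27_2 (flp_c L179465) (flp_g L177282) L182703
theorem L182713 : sm gh N16642 = N16642 := ded_28_2 (flp_c L182703) L177288 L182703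
theorem L182714 : sm gi N16642 = N16230 := ded_29_2 (flp_c L179117) (flp_i L177284) L182703
theorem L182716 : sm gb N16642 = N16345 := ded_17_1 (flp_c L180164) L174239 (flp_c L171265) (flp_b L177278) L182703
theorem L182718 : sm gd N16049 = N16643 := rfl
theorem L182720 : sm ga N16643 = N16050 := ded_11_1 (flp_d L177305) (flp_a L177291) L182718
theorem L182722 : sm gb N16643 = N16138 := ded_18_1 (flp_d L178223) (flp_b L177293) L182718
theorem L182724 : sm gf N16643 = N16221 := ded_31_2 (flp_d L179019) (flp_f L177299) L182718
theorem L182726 : sm gg N16643 = N16056 := ded_32_2 (flp_d L177375) (flp_g L177301) L182718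
theorem L182728 : sm gi N16643 = N16333 := ded_34_2 (flp_d L180080) (flp_i L177303) L182718
theorem L182730 : sm gh N16643 = N16639 := ded_33_2 (flp_d L182669) (flp_h L177232) (flp_d L170732) L177289 L182718
theorem L182732 : sm gc N16050 = N16644 := rfl
theorem L182734 : sm gf N16644 = N16590 := ded_26_2 (flp_c L182681) L182675 L182732
theorem L182736 : sm gg N16644 = N16061 := ded_27_2 (flp_c L177429) (flp_g L177309) L182732
theorem L182738 : sm gb N16644 = N16281 := ded_17_1 (flp_c L179595) L173574 (flp_c L170770) (flp_b L177307) L182732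
theorem L182740 : sm gd N16644 = N16086 := ded_24_2 (flp_c L177693) (flp_d L171284) (flp_c L170744) L177305 L182732
theorem L182742 : sm ge N16050 = N16645 := rfl
theorem L182744 : sm gb N16645 = N16052 := ded_19_1 (flp_e L177321) (flp_b L177307) L182742
theorem L182746 : sm gg N16645 = N16062 := ded_36_2 (flp_e L177437) (flp_g L177309) L182742
theorem L182748 : sm gd N16645 = N16441 := ded_30_1 (flp_e L180959) L175018 (flp_e L170746) L177305 L182742
theorem L182750 : sm gc N16051 = N16646 := rfl
theorem L182752 : sm ga N16646 = N16147 := ded_10_1 (flp_c L178328) (flp_a L177313) L182750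
theorem L182754 : sm gf N16646 = N16426 := ded_26_2 L180873 (flp_f L177317) L182750
theorem L182756 : sm gg N16646 = N16070 := ded_27_2 (flp_c L177515) (flp_g L177319) L182750
theorem L182758 : sm gb N16646 = N16424 := ded_17_1 (flp_c L180857) L174940 L175014 (flp_b L177315) L182750
theorem L182760 : sm gd N16646 = N16053 := ded_24_2 (flp_c L177329) (flp_d L170772) (flp_c L170756) L177311 L182750
theorem L182762 : sm ge N16051 = N16647 := rfl
theorem L182764 : sm ga N16647 = N16148 := ded_12_1 (flp_e L178334) (flp_a L177313) L182762
theorem L182766 : sm gb N16647 = N16441 := ded_19_1 (flp_e L180959) (flp_b L177315) L182762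
theorem L182768 : sm gg N16647 = N16071 := ded_36_2 (flp_e L177521) (flp_g L177319) L182762
theorem L182770 : sm gd N16647 = N16052 := ded_30_1 (flp_e L177321) (flp_d L170764) (flp_e L170758) L177311 L182762
theorem L182772 : sm gf N16052 = N16648 := rfl
theorem L182774 : sm ga N16648 = N16149 := ded_13_1 (flp_f L178340) (flp_a L177323) L182772
theorem L182776 : sm gc N16648 = N16415 := ded_26_1 (flp_f L180773) (flp_c L177325) L182772
theorem L182778 : sm gh N16054 = N16649 := rfl
theorem L182780 : sm ga N16649 = N16058 := ded_15_1 (flp_h L177397) (flp_a L177345) L182778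
theorem L182782 : sm gb N16649 = N16155 := ded_22_1 (flp_h L178408) (flp_b L177347) L182778
theorem L182784 : sm gc N16649 = N16309 := ded_28_1 L179855 (flp_c L177349) L182778
theorem L182786 : sm ge N16649 = N16338 := ded_37_1 (flp_h L180112) (flp_e L177353) L182778
theorem L182788 : sm gf N16649 = N16388 := ded_40_1 (flp_h L180547) (flp_f L177355) L182778
theorem L182790 : sm gg N16649 = N16310 := ded_42_1 L179865 (flp_g L177357) L182778
theorem L182792 : sm gi N16649 = N16337 := ded_44_2 (flp_h L180104) (flp_i L174153) (flp_h L170800) L177343 L182778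
theorem L182794 : sm gd N16055 = N16650 := rfl
theorem L182796 : sm ga N16650 = N16060 := ded_11_1 (flp_d L177421) (flp_a L177361) L182794
theorem L182798 : sm gb N16650 = N16157 := ded_18_1 (flp_d L178431) (flp_b L177363) L182794
theorem L182800 : sm gf N16650 = N16393 := ded_31_2 (flp_d L180585) (flp_f L177369) L182794
theorem L182802 : sm gg N16650 = N16301 := ded_32_2 L179769 (flp_g L177371) L182794
theorem L182804 : sm gi N16650 = N16403 := ded_34_2 (flp_d L180669) (flp_i L177373) L182794
theorem L182806 : sm gc N16650 = N16300 := ded_24_1 (flp_d L179755) L173703 (flp_d L171308) (flp_c L177365) L182794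
theorem L182808 : sm gc N16056 = N16651 := rfl
theorem L182810 : sm ga N16651 = N16061 := ded_10_1 (flp_c L177429) (flp_a L177377) L182808
theorem L182812 : sm gf N16651 = N16281 := ded_26_2 (flp_c L179595) (flp_f L177381) L182808
theorem L182814 : sm gb N16651 = N16590 := ded_17_1 (flp_c L182681) L182673 L177272 (flp_b L177379) L182808
theorem L182816 : sm gd N16651 = N16087 := ded_24_2 (flp_c L177705) (flp_d L171312) (flp_c L170822) L177375 L182808
theorem L182818 : sm ge N16056 = N16652 := rfl
theorem L182820 : sm ga N16652 = N16062 := ded_12_1 (flp_e L177437) (flp_a L177377) L182818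
theorem L182822 : sm gb N16652 = N16158 := ded_19_1 (flp_e L178439) (flp_b L177379) L182818
theorem L182824 : sm gh N16057 = N16653 := rfl
theorem L182826 : sm ga N16653 = N16388 := ded_15_1 (flp_h L180547) (flp_a L177385) L182824
theorem L182828 : sm gb N16653 = N16065 := ded_22_1 (flp_h L177467) (flp_b L177387) L182824
theorem L182830 : sm gc N16653 = N16447 := ded_28_1 L181000 (flp_c L177389) L182824
theorem L182832 : sm gf N16653 = N16058 := ded_40_1 (flp_h L177397) (flp_f L177393) L182824
theorem L182834 : sm gg N16653 = N16258 := ded_42_1 (flp_h L179392) (flp_g L177395) L182824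
theorem L182836 : sm gi N16653 = N16591 := ded_44_2 L182158 L176762 (flp_h L170902) L177383 L182824
theorem L182838 : sm gd N16058 = N16654 := rfl
theorem L182840 : sm gb N16654 = N16067 := ded_18_1 (flp_d L177487) (flp_b L177399) L182838
theorem L182842 : sm gg N16654 = N16433 := ded_32_2 L180919 (flp_g L177403) L182838
theorem L182844 : sm gc N16654 = N16431 := ded_24_1 (flp_d L180897) L174972 L175143 (flp_c L177401) L182838
theorem L182846 : sm gh N16654 = N16060 := ded_33_2 (flp_d L177421) (flp_h L170876) (flp_d L170858) L177397 L182838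
theorem L182848 : sm gd N16059 = N16655 := rfl
theorem L182850 : sm ga N16655 = N16393 := ded_11_1 (flp_d L180585) (flp_a L177407) L182848
theorem L182852 : sm gb N16655 = N16069 := ded_18_1 (flp_d L177509) (flp_b L177409) L182848
theorem L182854 : sm gf N16655 = N16060 := ded_31_2 (flp_d L177421) (flp_f L177415) L182848
theorem L182856 : sm gg N16655 = N16261 := ded_32_2 (flp_d L179420) (flp_g L177417) L182848
theorem L182858 : sm gi N16655 = N16300 := ded_34_2 (flp_d L179755) (flp_i L177419) L182848
theorem L182860 : sm gc N16655 = N16403 := ded_24_1 (flp_d L180669) L174760 (flp_d L171336) (flp_c L177411) L182848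
theorem L182862 : sm ge N16060 = N16656 := rfl
theorem L182864 : sm gb N16656 = N16071 := ded_19_1 (flp_e L177521) (flp_b L177423) L182862
theorem L182866 : sm gc N16656 = N16440 := ded_25_1 (flp_e L180955) (flp_c L177427) L182862
theorem L182868 : sm gg N16656 = N16441 := ded_36_2 (flp_e L180959) (flp_g L177425) L182862
theorem L182870 : sm gd N16656 = N16062 := ded_30_1 (flp_e L177437) (flp_d L170886) (flp_e L170882) L177421 L182862
theorem L182872 : sm ge N16061 = N16657 := rfl
theorem L182874 : sm gb N16657 = N16519 := ded_19_1 (flp_e L181662) (flp_b L177433) L182872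
theorem L182876 : sm gc N16657 = N16062 := ded_25_1 (flp_e L177437) L177429 L182872
theorem L182878 : sm gf N16062 = N16658 := rfl
theorem L182880 : sm gb N16658 = N16072 := ded_20_1 (flp_f L177527) (flp_b L177439) L182878
theorem L182882 : sm ge N16658 = N16292 := ded_35_1 (flp_f L179687) (flp_e L173643) (flp_f L170890) L177437 L182878
theorem L182884 : sm gh N16063 = N16659 := rfl
theorem L182886 : sm ga N16659 = N16171 := ded_15_1 (flp_h L178542) (flp_a L177443) L182884
theorem L182888 : sm gb N16659 = N16258 := ded_22_1 (flp_h L179392) (flp_b L177445) L182884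
theorem L182890 : sm gc N16659 = N16075 := ded_28_1 (flp_h L177559) (flp_c L177447) L182884
theorem L182892 : sm gf N16659 = N16252 := ded_40_1 (flp_h L179334) (flp_f L177451) L182884
theorem L182894 : sm gg N16659 = N16065 := ded_42_1 (flp_h L177467) (flp_g L177453) L182884
theorem L182896 : sm gh N16064 = N16660 := rfl
theorem L182898 : sm ga N16660 = N16172 := ded_15_1 (flp_h L178548) (flp_a L177457) L182896
theorem L182900 : sm gb N16660 = N16591 := ded_22_1 L182158 (flp_b L177459) L182896
theorem L182902 : sm gc N16660 = N16076 := ded_28_1 (flp_h L177571) (flp_c L177461) L182896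
theorem L182904 : sm ge N16660 = N16653 := ded_37_1 (flp_h L182824) (flp_e L177463) L182896
theorem L182906 : sm gf N16660 = N16066 := ded_40_1 (flp_h L177475) (flp_f L177465) L182896
theorem L182908 : sm gi N16660 = N16065 := ded_44_2 (flp_h L177467) (flp_i L170928) L170916 L177455 L182896
theorem L182910 : sm gd N16065 = N16661 := rfl
theorem L182912 : sm ga N16661 = N16173 := ded_11_1 (flp_d L178556) (flp_a L177469) L182910
theorem L182914 : sm gf N16661 = N16067 := ded_31_2 (flp_d L177487) (flp_f L177473) L182910
theorem L182916 : sm gh N16661 = N16069 := ded_33_2 (flp_d L177509) (flp_h L170968) (flp_d L170934) L177467 L182910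
theorem L182918 : sm gd N16066 = N16662 := rfl
theorem L182920 : sm ga N16662 = N16174 := ded_11_1 (flp_d L178562) (flp_a L177477) L182918
theorem L182922 : sm gg N16662 = N16103 := ded_32_2 (flp_d L177898) (flp_g L177483) L182918
theorem L182924 : sm gi N16662 = N16067 := ded_34_2 (flp_d L177487) (flp_i L177485) L182918
theorem L182926 : sm gc N16067 = N16663 := rfl
theorem L182928 : sm ga N16663 = N16175 := ded_10_1 (flp_c L178566) (flp_a L177489) L182926
theorem L182930 : sm gh N16663 = N16070 := ded_28_2 (flp_c L177515) (flp_h L177491) L182926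
theorem L182932 : sm gd N16663 = N16078 := ded_24_2 (flp_c L177594) (flp_d L171076) (flp_c L170952) L177487 L182926
theorem L182934 : sm ge N16067 = N16664 := rfl
theorem L182936 : sm ga N16664 = N16176 := ded_12_1 (flp_e L178572) (flp_a L177489) L182934
theorem L182938 : sm gh N16664 = N16071 := ded_37_2 (flp_e L177521) (flp_h L177491) L182934
theorem L182940 : sm gd N16068 = N16665 := rfl
theorem L182942 : sm ga N16665 = N16177 := ded_11_1 (flp_d L178576) (flp_a L177495) L182940
theorem L182944 : sm gb N16665 = N16261 := ded_18_1 (flp_d L179420) (flp_b L177497) L182940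
theorem L182946 : sm gf N16665 = N16253 := ded_31_2 (flp_d L179342) (flp_f L177503) L182940
theorem L182948 : sm gg N16665 = N16069 := ded_32_2 (flp_d L177509) (flp_g L177505) L182940
theorem L182950 : sm gi N16665 = N16288 := ded_34_2 (flp_d L179663) (flp_i L177507) L182940
theorem L182952 : sm gc N16665 = N16583 := ded_24_1 L182120 L176603 (flp_d L171000) (flp_c L177499) L182940
theorem L182954 : sm gc N16069 = N16666 := rfl
theorem L182956 : sm ga N16666 = N16178 := ded_10_1 (flp_c L178580) (flp_a L177511) L182954
theorem L182958 : sm gf N16666 = N16070 := ded_26_2 (flp_c L177515) (flp_f L177513) L182954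
theorem L182960 : sm gg N16666 = N16583 := ded_27_2 (flp_c L182952) L182948 L182954
theorem L182962 : sm gb N16666 = N16581 := ded_17_1 (flp_c L182108) (flp_b L180671) (flp_c L182860) L182852 L182954
theorem L182964 : sm gd N16666 = N16073 := ded_24_2 (flp_c L177535) (flp_d L171004) (flp_c L170972) L177509 L182954
theorem L182966 : sm ge N16069 = N16667 := rfl
theorem L182968 : sm ga N16667 = N16179 := ded_12_1 (flp_e L178586) (flp_a L177511) L182966
theorem L182970 : sm gd N16667 = N16302 := ded_30_1 (flp_e L179773) (flp_d L173707) (flp_e L170974) L177509 L182966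
theorem L182972 : sm gb N16070 = N16668 := rfl
theorem L182974 : sm gd N16668 = N16074 := ded_18_2 (flp_b L177547) (flp_d L177519) L182972
theorem L182976 : sm gf N16668 = N16581 := ded_20_2 (flp_b L182962) L182958 L182972
theorem L182978 : sm gg N16668 = N16424 := ded_21_2 (flp_b L182758) L182756 L182972
theorem L182980 : sm gc N16668 = N16423 := ded_17_2 L180851 (flp_c L177427) L177423 L177515 L182972
theorem L182982 : sm ge N16070 = N16669 := rfl
theorem L182984 : sm ga N16669 = N16181 := ded_12_1 (flp_e L178594) (flp_a L177517) L182982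
theorem L182986 : sm gc N16669 = N16071 := ded_25_1 (flp_e L177521) L177515 L182982
theorem L182988 : sm gd N16669 = N16530 := ded_30_1 (flp_e L181740) L176175 (flp_e L171020) (flp_d L177519) L182982
theorem L182990 : sm gf N16071 = N16670 := rfl
theorem L182992 : sm ga N16670 = N16182 := ded_13_1 (flp_f L178600) (flp_a L177523) L182990
theorem L182994 : sm gd N16670 = N16072 := ded_31_1 (flp_f L177527) (flp_d L177525) L182990
theorem L182996 : sm gg N16072 = N16671 := rfl
theorem L182998 : sm ga N16671 = N16183 := ded_14_1 (flp_g L178604) (flp_a L177529) L182996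
theorem L183000 : sm gc N16671 = N16532 := ded_27_1 (flp_g L181752) (flp_c L177531) L182996
theorem L183002 : sm ge N16671 = N16305 := ded_36_1 (flp_g L179797) (flp_e L177533) L182996
theorem L183004 : sm ga N16074 = N16672 := rfl
theorem L183006 : sm gc N16672 = N16089 := ded_10_2 (flp_a L177731) (flp_c L177557) L183004
theorem L183008 : sm ge N16672 = N16533 := ded_12_2 (flp_a L181758) (flp_e L177549) L183004
theorem L183010 : sm gf N16672 = N16205 := ded_13_2 L178814 (flp_f L177551) L183004
theorem L183012 : sm gg N16672 = N16456 := ded_14_2 L181099 (flp_g L177553) L183004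
theorem L183014 : sm gh N16672 = N16080 := ded_15_2 (flp_a L177611) (flp_h L177555) L183004
theorem L183016 : sm gi N16672 = N16213 := ded_16_2 L182667 L182663 L183004
theorem L183018 : sm gb N16672 = N16185 := ded_9_2 (flp_a L178624) (flp_b L172359) (flp_a L171018) L177547 L183004
theorem L183020 : sm gc N16077 = N16673 := rfl
theorem L183022 : sm ga N16673 = N16197 := ded_10_1 (flp_c L178741) (flp_a L177583) L183020
theorem L183024 : sm ge N16673 = N16459 := ded_25_2 (flp_c L181125) (flp_e L177591) L183020
theorem L183026 : sm gg N16673 = N16107 := ded_27_2 (flp_c L177929) (flp_g L177587) L183020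
theorem L183028 : sm gh N16673 = N16673 := ded_28_2 (flp_c L183020) L177593 L183020
theorem L183029 : sm gi N16673 = N16078 := ded_29_2 (flp_c L177594) (flp_i L177589) L183020
theorem L183031 : sm gb N16078 = N16674 := rfl
theorem L183033 : sm gf N16674 = N16592 := ded_20_2 (flp_b L182200) L182208 L183031
theorem L183035 : sm gg N16674 = N16474 := ded_21_2 L181278 L180024 L183031
theorem L183037 : sm gh N16674 = N16079 := ded_22_2 (flp_b L177600) (flp_h L177598) L183031
theorem L183039 : sm gc N16674 = N16473 := ded_17_2 L181258 L175644 L175307 L177594 L183031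
theorem L183041 : sm ga N16079 = N16675 := rfl
theorem L183043 : sm gc N16675 = N16469 := ded_10_2 L181220 (flp_c L177609) L183041
theorem L183045 : sm gd N16675 = N16080 := ded_11_2 (flp_a L177611) (flp_d L177602) L183041
theorem L183047 : sm gf N16675 = N16231 := ded_13_2 L179131 (flp_f L177604) L183041
theorem L183049 : sm gg N16675 = N16470 := ded_14_2 L181230 (flp_g L177606) L183041
theorem L183051 : sm gi N16675 = N16675 := ded_16_2 (flp_a L183041) L177608 L183041
theorem L183052 : sm gb N16675 = N16202 := ded_9_2 (flp_a L178781) (flp_b L172495) (flp_a L171084) L177600 L183041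
theorem L183054 : sm gc N16081 = N16676 := rfl
theorem L183056 : sm ga N16676 = N16345 := ded_10_1 (flp_c L180164) (flp_a L177626) L183054
theorem L183058 : sm ge N16676 = N16132 := ded_25_2 (flp_c L178165) (flp_e L177636) L183054
theorem L183060 : sm gf N16676 = N16267 := ded_26_2 (flp_c L179465) (flp_f L177630) L183054
theorem L183062 : sm gg N16676 = N16083 := ded_27_2 (flp_c L177654) (flp_g L177632) L183054
theorem L183064 : sm gh N16676 = N16676 := ded_28_2 (flp_c L183054) L177638 L183054
theorem L183065 : sm gi N16676 = N16086 := ded_29_2 (flp_c L177693) (flp_i L177634) L183054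
theorem L183067 : sm gb N16676 = N16315 := ded_17_1 (flp_c L179919) L173933 (flp_c L171135) (flp_b L177628) L183054
theorem L183069 : sm gc N16082 = N16677 := rfl
theorem L183071 : sm ga N16677 = N16083 := ded_10_1 (flp_c L177654) (flp_a L177641) L183069
theorem L183073 : sm ge N16677 = N16319 := ded_25_2 (flp_c L179962) (flp_e L177651) L183069
theorem L183075 : sm gf N16677 = N16315 := ded_26_2 (flp_c L179919) (flp_f L177645) L183069
theorem L183077 : sm gg N16677 = N16345 := ded_27_2 (flp_c L180164) (flp_g L177647) L183069
theorem L183079 : sm gh N16677 = N16677 := ded_28_2 (flp_c L183069) L177653 L183069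
theorem L183080 : sm gi N16677 = N16087 := ded_29_2 (flp_c L177705) (flp_i L177649) L183069
theorem L183082 : sm gb N16677 = N16267 := ded_17_1 (flp_c L179465) L173438 (flp_c L171448) (flp_b L177643) L183069
theorem L183084 : sm ge N16083 = N16678 := rfl
theorem L183086 : sm ga N16678 = N16319 := ded_12_1 (flp_e L183073) L183071 L183084
theorem L183088 : sm gb N16678 = N16543 := ded_19_1 (flp_e L181861) (flp_b L177661) L183084
theorem L183090 : sm gc N16678 = N16084 := ded_25_1 (flp_e L177663) L177654 L183084
theorem L183092 : sm gg N16678 = N16132 := ded_36_2 (flp_e L183058) L183062 L183084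
theorem L183094 : sm gh N16678 = N16678 := ded_37_2 (flp_e L183084) L177658 L183084
theorem L183095 : sm gi N16678 = N16088 := ded_38_2 (flp_e L177717) (flp_i L177659) L183084
theorem L183097 : sm gf N16318 = N16678 := ded_13_0 L183086 L179964 (flp_a L179955)
theorem L183099 : sm gd N16088 = N16679 := rfl
theorem L183101 : sm ga N16679 = N16583 := ded_11_1 L182120 (flp_a L177719) L183099
theorem L183103 : sm gb N16679 = N16546 := ded_18_1 (flp_d L181878) (flp_b L177721) L183099
theorem L183105 : sm gf N16679 = N16586 := ded_31_2 L182134 L177729 L183099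
theorem L183107 : sm gg N16679 = N16178 := ded_32_2 L178584 (flp_g L177725) L183099
theorem L183109 : sm gc N16679 = N16177 := ded_24_1 (flp_d L178576) L172329 (flp_d L171358) (flp_c L177723) L183099
theorem L183111 : sm gh N16090 = N16680 := rfl
theorem L183113 : sm ga N16680 = N16595 := ded_15_1 L182190 (flp_a L177749) L183111
theorem L183115 : sm gb N16680 = N16547 := ded_22_1 (flp_h L181880) (flp_b L177751) L183111
theorem L183117 : sm gc N16680 = N16194 := ded_28_1 L178725 (flp_c L177758) L183111
theorem L183119 : sm gf N16680 = N16599 := ded_40_1 L182230 (flp_f L177753) L183111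
theorem L183121 : sm gg N16680 = N16196 := ded_42_1 L178739 (flp_g L177755) L183111
theorem L183123 : sm gd N16091 = N16681 := rfl
theorem L183125 : sm gb N16681 = N16226 := ded_18_1 (flp_d L179069) (flp_b L177762) L183123
theorem L183127 : sm gf N16681 = N16093 := ded_31_2 (flp_d L177786) (flp_f L177768) L183123
theorem L183129 : sm gg N16681 = N16323 := ded_32_2 (flp_d L179990) (flp_g L177770) L183123
theorem L183131 : sm gc N16681 = N16098 := ded_24_1 (flp_d L177848) L171571 (flp_d L171491) (flp_c L177764) L183123
theorem L183133 : sm gh N16681 = N16108 := ded_33_2 (flp_d L177934) (flp_h L171657) (flp_d L171475) L177760 L183123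
theorem L183135 : sm gd N16092 = N16682 := rfl
theorem L183137 : sm ga N16682 = N16339 := ded_11_1 (flp_d L180126) (flp_a L177774) L183135
theorem L183139 : sm gb N16682 = N16093 := ded_18_1 (flp_d L177786) (flp_b L177776) L183135
theorem L183141 : sm gf N16682 = N16226 := ded_31_2 (flp_d L179069) (flp_f L177780) L183135
theorem L183143 : sm gg N16682 = N16098 := ded_32_2 (flp_d L177848) (flp_g L177782) L183135
theorem L183145 : sm gi N16682 = N16681 := ded_34_2 (flp_d L183123) (flp_i L177784) L183135
theorem L183147 : sm gc N16682 = N16323 := ded_24_1 (flp_d L179990) L174038 (flp_d L172814) (flp_c L177778) L183135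
theorem L183149 : sm gh N16682 = N16109 := ded_33_2 (flp_d L177946) (flp_h L171671) (flp_d L171501) L177772 L183135
theorem L183151 : sm ge N16093 = N16683 := rfl
theorem L183153 : sm gc N16683 = N16358 := ded_25_1 (flp_e L180299) (flp_c L177790) L183151
theorem L183155 : sm gg N16683 = N16104 := ded_36_2 (flp_e L177900) (flp_g L177788) L183151
theorem L183157 : sm gh N16683 = N16112 := ded_37_2 (flp_e L177979) (flp_h L177792) L183151
theorem L183159 : sm gh N16094 = N16684 := rfl
theorem L183161 : sm ga N16684 = N16097 := ded_15_1 (flp_h L177836) (flp_a L177796) L183159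
theorem L183163 : sm gb N16684 = N16561 := ded_22_1 (flp_h L181994) (flp_b L177798) L183159
theorem L183165 : sm gc N16684 = N16216 := ded_28_1 (flp_h L178953) (flp_c L177800) L183159
theorem L183167 : sm ge N16684 = N16095 := ded_37_1 (flp_h L177810) (flp_e L177804) L183159
theorem L183169 : sm gf N16684 = N16311 := ded_40_1 L179875 (flp_f L177806) L183159
theorem L183171 : sm gg N16684 = N16337 := ded_42_1 (flp_h L180104) (flp_g L177808) L183159
theorem L183173 : sm gi N16684 = N16310 := ded_44_2 L179865 L173896 (flp_h L171523) L177794 L183159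
theorem L183175 : sm gd N16095 = N16685 := rfl
theorem L183177 : sm ga N16685 = N16098 := ded_11_1 (flp_d L177848) (flp_a L177812) L183175
theorem L183179 : sm gf N16685 = N16352 := ded_31_2 (flp_d L180232) (flp_f L177816) L183175
theorem L183181 : sm gg N16685 = N16339 := ded_32_2 (flp_d L180126) (flp_g L177818) L183175
theorem L183183 : sm gh N16685 = N16114 := ded_33_2 (flp_d L177998) (flp_h L171733) (flp_d L171535) L177810 L183175
theorem L183185 : sm gh N16096 = N16686 := rfl
theorem L183187 : sm ga N16686 = N16399 := ded_15_1 (flp_h L180631) (flp_a L177822) L183185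
theorem L183189 : sm gb N16686 = N16100 := ded_22_1 (flp_h L177869) (flp_b L177824) L183185
theorem L183191 : sm gc N16686 = N16308 := ded_28_1 (flp_h L179827) (flp_c L177826) L183185
theorem L183193 : sm ge N16686 = N16117 := ded_37_1 (flp_h L178036) (flp_e L177830) L183185
theorem L183195 : sm gf N16686 = N16273 := ded_40_1 (flp_h L179517) (flp_f L177832) L183185
theorem L183197 : sm gg N16686 = N16521 := ded_42_1 (flp_h L181674) (flp_g L177834) L183185
theorem L183199 : sm gi N16686 = N16272 := ded_44_2 (flp_h L179509) (flp_i L173478) (flp_h L171555) L177820 L183185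
theorem L183201 : sm gd N16097 = N16687 := rfl
theorem L183203 : sm gb N16687 = N16103 := ded_18_1 (flp_d L177898) (flp_b L177838) L183201
theorem L183205 : sm gf N16687 = N16435 := ded_31_2 L180931 (flp_f L177844) L183201
theorem L183207 : sm gi N16687 = N16433 := ded_34_2 L180919 (flp_i L177846) L183201
theorem L183209 : sm gc N16687 = N16432 := ded_24_1 (flp_d L180905) L174980 (flp_d L172863) (flp_c L177840) L183201
theorem L183211 : sm ge N16098 = N16688 := rfl
theorem L183213 : sm gb N16688 = N16104 := ded_19_1 (flp_e L177900) (flp_b L177850) L183211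
theorem L183215 : sm gh N16688 = N16120 := ded_37_2 (flp_e L178072) (flp_h L177854) L183211
theorem L183217 : sm gh N16099 = N16689 := rfl
theorem L183219 : sm ga N16689 = N16515 := ded_15_1 (flp_h L181637) (flp_a L177858) L183217
theorem L183221 : sm gb N16689 = N16273 := ded_22_1 (flp_h L179517) (flp_b L177860) L183217
theorem L183223 : sm gc N16689 = N16689 := ded_28_1 (flp_h L183217) L177862 L183217
theorem L183224 : sm gf N16689 = N16100 := ded_40_1 (flp_h L177869) (flp_f L177865) L183217
theorem L183226 : sm gg N16689 = N16286 := ded_42_1 (flp_h L179650) (flp_g L177867) L183217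
theorem L183228 : sm gi N16689 = N16268 := ded_44_2 (flp_h L179474) (flp_i L173445) (flp_h L171584) L177856 L183217
theorem L183230 : sm gd N16100 = N16690 := rfl
theorem L183232 : sm gh N16690 = N16103 := ded_33_2 (flp_d L177898) (flp_h L171617) (flp_d L171591) L177869 L183230
theorem L183234 : sm gh N16101 = N16691 := rfl
theorem L183236 : sm gb N16691 = N16259 := ded_22_1 (flp_h L179400) (flp_b L177876) L183234
theorem L183238 : sm gc N16691 = N16105 := ded_28_1 (flp_h L177906) (flp_c L177878) L183234
theorem L183240 : sm ge N16691 = N16364 := ded_37_1 (flp_h L180359) (flp_e L177882) L183234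
theorem L183242 : sm gg N16691 = N16102 := ded_42_1 (flp_h L177886) (flp_g L177884) L183234
theorem L183244 : sm gi N16691 = N16252 := ded_44_2 (flp_h L179334) (flp_i L173299) (flp_h L171605) L177874 L183234
theorem L183246 : sm gd N16102 = N16692 := rfl
theorem L183248 : sm gb N16692 = N16435 := ded_18_1 L180931 (flp_b L177888) L183246
theorem L183250 : sm gf N16692 = N16103 := ded_31_2 (flp_d L177898) (flp_f L177894) L183246
theorem L183252 : sm gi N16692 = N16437 := ded_34_2 L180939 (flp_i L177896) L183246
theorem L183254 : sm gc N16103 = N16693 := rfl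
theorem L183256 : sm gd N16693 = N16107 := ded_24_2 (flp_c L177929) (flp_d L171650) (flp_c L171619) L177898 L183254
theorem L183258 : sm ge N16103 = N16694 := rfl
theorem L183260 : sm gd N16694 = N16104 := ded_30_1 (flp_e L177900) (flp_d L171623) (flp_e L171621) L177898 L183258
theorem L183262 : sm gf N16104 = N16695 := rfl
theorem L183264 : sm gc N16695 = N16555 := ded_26_1 (flp_f L181941) (flp_c L177902) L183262
theorem L183266 : sm gh N16695 = N16131 := ded_40_2 (flp_f L178157) (flp_h L177904) L183262
theorem L183268 : sm ge N16695 = N16368 := ded_35_1 (flp_f L180381) (flp_e L174463) (flp_f L171625) L177900 L183262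
theorem L183270 : sm gc N16106 = N16696 := rfl
theorem L183272 : sm gf N16696 = N16107 := ded_26_2 (flp_c L177929) (flp_f L177922) L183270
theorem L183274 : sm gg N16696 = N16597 := ded_27_2 L182215 (flp_g L177924) L183270
theorem L183276 : sm gh N16696 = N16696 := ded_28_2 (flp_c L183270) L177928 L183270
theorem L183277 : sm gi N16696 = N16477 := ded_29_2 L181306 (flp_i L177926) L183270
theorem L183279 : sm gb N16696 = N16475 := ded_17_1 (flp_c L181280) L175561 (flp_c L172889) (flp_b L177920) L183270
theorem L183281 : sm ge N16106 = N16697 := rfl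
theorem L183283 : sm gb N16697 = N16217 := ded_19_1 (flp_e L178968) (flp_b L177920) L183281
theorem L183285 : sm gg N16697 = N16608 := ded_36_2 (flp_e L182311) (flp_g L177924) L183281
theorem L183287 : sm gh N16697 = N16697 := ded_37_2 (flp_e L183281) L177928 L183281
theorem L183288 : sm gi N16697 = N16481 := ded_38_2 (flp_e L181332) (flp_i L177926) L183281
theorem L183290 : sm gd N16697 = N16371 := ded_30_1 (flp_e L180401) (flp_d L174473) (flp_e L171644) L177918 L183281
theorem L183292 : sm gf N16697 = N16558 := ded_35_2 (flp_e L181965) L176444 (flp_e L171654) (flp_f L177922) L183281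
theorem L183294 : sm gb N16107 = N16698 := rfl
theorem L183296 : sm ge N16698 = N16559 := ded_19_2 (flp_b L181974) (flp_e L177931) L183294
theorem L183298 : sm gf N16698 = N16475 := ded_20_2 (flp_b L183279) L183272 L183294
theorem L183300 : sm gh N16698 = N16698 := ded_22_2 (flp_b L183294) L177933 L183294
theorem L183301 : sm gi N16698 = N16474 := ded_23_2 L181278 L180028 L183294
theorem L183303 : sm gc N16698 = N16218 := ded_17_2 (flp_b L178982) (flp_c L172892) (flp_b L171652) L177929 L183294
theorem L183305 : sm ge N16108 = N16699 := rfl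
theorem L183307 : sm gb N16699 = N16227 := ded_19_1 (flp_e L179081) (flp_b L177936) L183305
theorem L183309 : sm gc N16699 = N16120 := ded_25_1 (flp_e L178072) (flp_c L177944) L183305
theorem L183311 : sm gg N16699 = N16327 := ded_36_2 (flp_e L180030) (flp_g L177940) L183305
theorem L183313 : sm gi N16699 = N16136 := ded_38_2 (flp_e L178202) (flp_i L177942) L183305
theorem L183315 : sm gd N16699 = N16225 := ded_30_1 (flp_e L179063) (flp_d L172964) (flp_e L171663) L177934 L183305
theorem L183317 : sm ge N16109 = N16700 := rfl
theorem L183319 : sm ga N16700 = N16342 := ded_12_1 (flp_e L180148) (flp_a L177948) L183317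
theorem L183321 : sm gb N16700 = N16112 := ded_19_1 (flp_e L177979) (flp_b L177950) L183317
theorem L183323 : sm gc N16700 = N16327 := ded_25_1 (flp_e L180030) (flp_c L177958) L183317
theorem L183325 : sm gg N16700 = N16120 := ded_36_2 (flp_e L178072) (flp_g L177954) L183317
theorem L183327 : sm gi N16700 = N16141 := ded_38_2 (flp_e L178262) (flp_i L177956) L183317
theorem L183329 : sm gd N16700 = N16528 := ded_30_1 (flp_e L181732) (flp_d L176165) (flp_e L171679) L177946 L183317
theorem L183331 : sm gd N16110 = N16701 := rfl
theorem L183333 : sm gb N16701 = N16523 := ded_18_1 (flp_d L181694) (flp_b L177962) L183331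
theorem L183335 : sm gf N16701 = N16516 := ded_31_2 (flp_d L181646) (flp_f L177965) L183331
theorem L183337 : sm gg N16701 = N16126 := ded_32_2 (flp_d L178119) (flp_g L177967) L183331
theorem L183339 : sm gh N16701 = N16111 := ded_33_2 (flp_d L177969) (flp_h L171698) (flp_d L171692) L177960 L183331
theorem L183341 : sm gc N16111 = N16702 := rfl
theorem L183343 : sm gf N16702 = N16517 := ded_26_2 (flp_c L181652) (flp_f L177973) L183341
theorem L183345 : sm gg N16702 = N16129 := ded_27_2 (flp_c L178145) (flp_g L177975) L183341
theorem L183347 : sm gi N16702 = N16147 := ded_29_2 (flp_c L178328) (flp_i L177977) L183341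
theorem L183349 : sm gd N16702 = N16113 := ded_24_2 (flp_c L177987) (flp_d L171720) (flp_c L171702) L177969 L183341
theorem L183351 : sm ge N16111 = N16703 := rfl
theorem L183353 : sm gb N16703 = N16528 := ded_19_1 (flp_e L181732) (flp_b L177971) L183351
theorem L183355 : sm gg N16703 = N16130 := ded_36_2 (flp_e L178151) (flp_g L177975) L183351
theorem L183357 : sm gi N16703 = N16148 := ded_38_2 (flp_e L178334) (flp_i L177977) L183351
theorem L183359 : sm gd N16703 = N16112 := ded_30_1 (flp_e L177979) (flp_d L171712) (flp_e L171704) L177969 L183351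
theorem L183361 : sm gf N16112 = N16704 := rfl
theorem L183363 : sm gc N16704 = N16386 := ded_26_1 (flp_f L180531) (flp_c L177981) L183361
theorem L183365 : sm gi N16704 = N16149 := ded_41_2 (flp_f L178340) (flp_i L177985) L183361
theorem L183367 : sm gb N16113 = N16705 := rfl
theorem L183369 : sm ge N16705 = N16316 := ded_19_2 L179937 (flp_e L177989) L183367
theorem L183371 : sm gf N16705 = N16544 := ded_20_2 (flp_b L181868) (flp_f L177991) L183367
theorem L183373 : sm gg N16705 = N16133 := ded_21_2 (flp_b L178172) (flp_g L177993) L183367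
theorem L183375 : sm gh N16705 = N16705 := ded_22_2 (flp_b L183367) L177995 L183367
theorem L183376 : sm gi N16705 = N16152 := ded_23_2 (flp_b L178372) (flp_i L177996) L183367
theorem L183378 : sm gc N16705 = N16204 := ded_17_2 (flp_b L178797) (flp_c L172530) (flp_b L171722) L177987 L183367
theorem L183380 : sm ga N16545 = N16705 := ded_12_3 L183369 L179930 L181873
theorem L183382 : sm ge N16114 = N16706 := rfl
theorem L183384 : sm ga N16706 = N16120 := ded_12_1 (flp_e L178072) (flp_a L178000) L183382
theorem L183386 : sm gg N16706 = N16342 := ded_36_2 (flp_e L180148) (flp_g L178004) L183382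
theorem L183388 : sm gi N16706 = N16158 := ded_38_2 (flp_e L178439) (flp_i L178006) L183382
theorem L183390 : sm gd N16706 = N16582 := ded_30_1 (flp_e L182114) (flp_d L176563) (flp_e L171739) L177998 L183382
theorem L183392 : sm gh N16115 = N16707 := rfl
theorem L183394 : sm ga N16707 = N16417 := ded_15_1 (flp_h L180789) (flp_a L178010) L183392
theorem L183396 : sm gb N16707 = N16124 := ded_22_1 (flp_h L178109) (flp_b L178012) L183392
theorem L183398 : sm gc N16707 = N16464 := ded_28_1 (flp_h L181165) (flp_c L178014) L183392
theorem L183400 : sm gf N16707 = N16117 := ded_40_1 (flp_h L178036) (flp_f L178018) L183392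
theorem L183402 : sm gg N16707 = N16409 := ded_42_1 (flp_h L180723) (flp_g L178020) L183392
theorem L183404 : sm gh N16116 = N16708 := rfl
theorem L183406 : sm ga N16708 = N16397 := ded_15_1 (flp_h L180605) (flp_a L178024) L183404
theorem L183408 : sm gb N16708 = N16125 := ded_22_1 (flp_h L178114) (flp_b L178026) L183404
theorem L183410 : sm gc N16708 = N16306 := ded_28_1 (flp_h L179801) (flp_c L178028) L183404
theorem L183412 : sm ge N16708 = N16272 := ded_37_1 (flp_h L179509) (flp_e L178032) L183404
theorem L183414 : sm gg N16708 = N16522 := ded_42_1 (flp_h L181684) (flp_g L178034) L183404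
theorem L183416 : sm gi N16708 = N16117 := ded_44_2 (flp_h L178036) (flp_i L171773) L171759 L178022 L183404
theorem L183418 : sm gd N16117 = N16709 := rfl
theorem L183420 : sm ga N16709 = N16572 := ded_11_1 (flp_d L182054) (flp_a L178038) L183418
theorem L183422 : sm gb N16709 = N16126 := ded_18_1 (flp_d L178119) (flp_b L178040) L183418
theorem L183424 : sm gg N16709 = N16523 := ded_32_2 (flp_d L181694) (flp_g L178044) L183418
theorem L183426 : sm gh N16709 = N16119 := ded_33_2 (flp_d L178062) (flp_h L171799) (flp_d L171781) L178036 L183418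
theorem L183428 : sm gd N16118 = N16710 := rfl
theorem L183430 : sm ga N16710 = N16423 := ded_11_1 (flp_d L180849) (flp_a L178048) L183428
theorem L183432 : sm gb N16710 = N16128 := ded_18_1 (flp_d L178139) (flp_b L178050) L183428
theorem L183434 : sm gf N16710 = N16119 := ded_31_2 (flp_d L178062) (flp_f L178056) L183428
theorem L183436 : sm gg N16710 = N16412 := ded_32_2 (flp_d L180751) (flp_g L178058) L183428
theorem L183438 : sm gi N16710 = N16166 := ded_34_2 (flp_d L178514) (flp_i L178060) L183428
theorem L183440 : sm gc N16119 = N16711 := rfl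
theorem L183442 : sm ga N16711 = N16581 := ded_10_1 (flp_c L182108) (flp_a L178064) L183440
theorem L183444 : sm gg N16711 = N16527 := ded_27_2 (flp_c L181724) (flp_g L178068) L183440
theorem L183446 : sm gi N16711 = N16167 := ded_29_2 (flp_c L178520) (flp_i L178070) L183440
theorem L183448 : sm gd N16711 = N16205 := ded_24_2 (flp_c L178812) (flp_d L172559) (flp_c L171805) L178062 L183440
theorem L183450 : sm gb N16320 = N16711 := ded_18_3 L183448 L178824 L179971
theorem L183452 : sm ge N16119 = N16712 := rfl
theorem L183454 : sm ga N16712 = N16582 := ded_12_1 (flp_e L182114) (flp_a L178064) L183452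
theorem L183456 : sm gb N16712 = N16130 := ded_19_1 (flp_e L178151) (flp_b L178066) L183452
theorem L183458 : sm gg N16712 = N16528 := ded_36_2 (flp_e L181732) (flp_g L178068) L183452
theorem L183460 : sm gi N16712 = N16168 := ded_38_2 (flp_e L178524) (flp_i L178070) L183452
theorem L183462 : sm gd N16712 = N16120 := ded_30_1 (flp_e L178072) (flp_d L171813) (flp_e L171807) L178062 L183452
theorem L183464 : sm gf N16120 = N16713 := rfl
theorem L183466 : sm gb N16713 = N16131 := ded_20_1 (flp_f L178157) (flp_b L178074) L183464
theorem L183468 : sm gi N16713 = N16169 := ded_41_2 (flp_f L178530) (flp_i L178076) L183464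
theorem L183470 : sm ge N16713 = N16386 := ded_35_1 (flp_f L180531) (flp_e L174616) (flp_f L171817) L178072 L183464
theorem L183472 : sm gh N16121 = N16714 := rfl
theorem L183474 : sm gc N16714 = N16714 := ded_28_1 (flp_h L183472) L178080 L183472
theorem L183475 : sm ge N16714 = N16124 := ded_37_1 (flp_h L178109) (flp_e L178083) L183472
theorem L183477 : sm gh N16122 = N16715 := rfl
theorem L183479 : sm ga N16715 = N16285 := ded_15_1 (flp_h L179643) (flp_a L178087) L183477
theorem L183481 : sm gb N16715 = N16409 := ded_22_1 (flp_h L180723) (flp_b L178089) L183477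
theorem L183483 : sm gc N16715 = N16715 := ded_28_1 (flp_h L183477) L178091 L183477
theorem L183484 : sm gf N16715 = N16279 := ded_40_1 (flp_h L179576) (flp_f L178094) L183477
theorem L183486 : sm gg N16715 = N16124 := ded_42_1 (flp_h L178109) (flp_g L178096) L183477
theorem L183488 : sm gi N16715 = N16714 := ded_44_2 (flp_h L183472) (flp_i L178078) L171837 L178085 L183477
theorem L183490 : sm gh N16123 = N16716 := rfl
theorem L183492 : sm gc N16716 = N16716 := ded_28_1 (flp_h L183490) L178100 L183490
theorem L183493 : sm ge N16716 = N16715 := ded_37_1 (flp_h L183477) (flp_e L178103) L183490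
theorem L183495 : sm gf N16716 = N16125 := ded_40_1 (flp_h L178114) (flp_f L178105) L183490
theorem L183497 : sm gg N16716 = N16714 := ded_42_1 (flp_h L183472) (flp_g L178107) L183490
theorem L183499 : sm gi N16716 = N16124 := ded_44_2 (flp_h L178109) (flp_i L171850) L171839 L178098 L183490
theorem L183501 : sm gd N16124 = N16717 := rfl
theorem L183503 : sm gf N16717 = N16126 := ded_31_2 (flp_d L178119) (flp_f L178112) L183501
theorem L183505 : sm gh N16717 = N16128 := ded_33_2 (flp_d L178139) (flp_h L171879) (flp_d L171853) L178109 L183501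
theorem L183507 : sm gd N16125 = N16718 := rfl
theorem L183509 : sm gi N16718 = N16126 := ded_34_2 (flp_d L178119) (flp_i L178117) L183507
theorem L183511 : sm gh N16718 = N16174 := ded_33_2 (flp_d L178562) (flp_h L172317) (flp_d L171860) L178114 L183507
theorem L183513 : sm gc N16126 = N16719 := rfl
theorem L183515 : sm gh N16719 = N16129 := ded_28_2 (flp_c L178145) (flp_h L178121) L183513
theorem L183517 : sm gd N16719 = N16719 := ded_24_2 (flp_c L183513) (flp_d L178119) L171864 L178119 L183513
theorem L183518 : sm ge N16126 = N16720 := rfl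
theorem L183520 : sm gh N16720 = N16130 := ded_37_2 (flp_e L178151) (flp_h L178121) L183518
theorem L183522 : sm gd N16127 = N16721 := rfl
theorem L183524 : sm ga N16721 = N16288 := ded_11_1 (flp_d L179663) (flp_a L178125) L183522
theorem L183526 : sm gb N16721 = N16412 := ded_18_1 (flp_d L180751) (flp_b L178127) L183522
theorem L183528 : sm gf N16721 = N16280 := ded_31_2 (flp_d L179587) (flp_f L178133) L183522
theorem L183530 : sm gg N16721 = N16128 := ded_32_2 (flp_d L178139) (flp_g L178135) L183522
theorem L183532 : sm gi N16721 = N16177 := ded_34_2 (flp_d L178576) (flp_i L178137) L183522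
theorem L183534 : sm gc N16128 = N16722 := rfl
theorem L183536 : sm gf N16722 = N16129 := ded_26_2 (flp_c L178145) (flp_f L178141) L183534
theorem L183538 : sm gi N16722 = N16178 := ded_29_2 (flp_c L178580) (flp_i L178143) L183534
theorem L183540 : sm gd N16722 = N16132 := ded_24_2 (flp_c L178165) (flp_d L171913) (flp_c L171881) L178139 L183534
theorem L183542 : sm ge N16128 = N16723 := rfl
theorem L183544 : sm gi N16723 = N16179 := ded_38_2 (flp_e L178586) (flp_i L178143) L183542
theorem L183546 : sm gd N16723 = N16394 := ded_30_1 (flp_e L180591) (flp_d L174678) (flp_e L171883) L178139 L183542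
theorem L183548 : sm gb N16129 = N16724 := rfl
theorem L183550 : sm gd N16724 = N16133 := ded_18_2 (flp_b L178172) (flp_d L178149) L183548
theorem L183552 : sm gi N16724 = N16180 := ded_23_2 (flp_b L178590) (flp_i L178147) L183548
theorem L183554 : sm gc N16724 = N16320 := ded_17_2 L183450 (flp_c L183440) L178066 L178145 L183548
theorem L183556 : sm ge N16129 = N16725 := rfl
theorem L183558 : sm gc N16725 = N16130 := ded_25_1 (flp_e L178151) L178145 L183556
theorem L183560 : sm gi N16725 = N16181 := ded_38_2 (flp_e L178594) (flp_i L178147) L183556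
theorem L183562 : sm gd N16725 = N16568 := ded_30_1 (flp_e L182034) L176500 (flp_e L171924) (flp_d L178149) L183556
theorem L183564 : sm gf N16130 = N16726 := rfl
theorem L183566 : sm gd N16726 = N16131 := ded_31_1 (flp_f L178157) (flp_d L178155) L183564
theorem L183568 : sm gi N16726 = N16182 := ded_41_2 (flp_f L178600) (flp_i L178153) L183564
theorem L183570 : sm gg N16131 = N16727 := rfl
theorem L183572 : sm gc N16727 = N16570 := ded_27_1 (flp_g L182046) (flp_c L178159) L183570
theorem L183574 : sm ge N16727 = N16396 := ded_36_1 (flp_g L180601) (flp_e L178163) L183570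
theorem L183576 : sm gi N16727 = N16183 := ded_43_2 (flp_g L178604) (flp_i L178161) L183570
theorem L183578 : sm gb N16132 = N16728 := rfl
theorem L183580 : sm ge N16728 = N16315 := ded_19_2 (flp_b L183067) L183058 L183578
theorem L183582 : sm gf N16728 = N16133 := ded_20_2 (flp_b L178172) (flp_f L178167) L183578
theorem L183584 : sm gg N16728 = N16543 := ded_21_2 (flp_b L183088) L183092 L183578
theorem L183586 : sm gh N16728 = N16728 := ded_22_2 (flp_b L183578) L178169 L183578
theorem L183587 : sm gi N16728 = N16184 := ded_23_2 (flp_b L178610) (flp_i L178170) L183578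
theorem L183589 : sm ga N16728 = N16215 := ded_9_1 (flp_b L178944) (flp_a L178902) (flp_b L182652) L182641 L183578
theorem L183591 : sm gc N16728 = N16206 := ded_17_2 (flp_b L178826) (flp_c L172573) (flp_b L171915) L178165 L183578
theorem L183593 : sm ga N16133 = N16729 := rfl
theorem L183595 : sm gc N16729 = N16207 := ded_10_2 (flp_a L178841) (flp_c L178179) L183593
theorem L183597 : sm ge N16729 = N16318 := ded_12_2 L179955 (flp_e L178174) L183593
theorem L183599 : sm gf N16729 = N16215 := ded_13_2 (flp_a L183589) L183582 L183593
theorem L183601 : sm gg N16729 = N16545 := ded_14_2 L183380 L183373 L183593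
theorem L183603 : sm gh N16729 = N16729 := ded_15_2 (flp_a L183593) L178176 L183593
theorem L183604 : sm gi N16729 = N16185 := ded_16_2 (flp_a L178624) (flp_i L178177) L183593
theorem L183606 : sm gb N16729 = N16213 := ded_9_2 L182667 (flp_b L182654) L177225 L178172 L183593
theorem L183608 : sm gd N16134 = N16730 := rfl
theorem L183610 : sm gb N16730 = N16219 := ded_18_1 (flp_d L178993) (flp_b L178183) L183608
theorem L183612 : sm gf N16730 = N16500 := ded_31_2 (flp_d L181521) (flp_f L178186) L183608
theorem L183614 : sm gg N16730 = N16332 := ded_32_2 (flp_d L180074) (flp_g L178188) L183608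
theorem L183616 : sm gi N16730 = N16612 := ded_34_2 (flp_d L182359) (flp_i L178190) L183608
theorem L183618 : sm gh N16730 = N16135 := ded_33_2 (flp_d L178192) (flp_h L171940) (flp_d L171934) L178181 L183608
theorem L183620 : sm gc N16135 = N16731 := rfl
theorem L183622 : sm gf N16731 = N16507 := ded_26_2 (flp_c L181583) (flp_f L178196) L183620
theorem L183624 : sm gg N16731 = N16334 := ded_27_2 (flp_c L180086) (flp_g L178198) L183620
theorem L183626 : sm gi N16731 = N16224 := ded_29_2 (flp_c L179053) (flp_i L178200) L183620
theorem L183628 : sm gb N16731 = N16254 := ded_17_1 (flp_c L179352) L173323 (flp_c L172928) (flp_b L178194) L183620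
theorem L183630 : sm gd N16731 = N16137 := ded_24_2 (flp_c L178210) (flp_d L171964) (flp_c L171944) L178192 L183620
theorem L183632 : sm ge N16135 = N16732 := rfl
theorem L183634 : sm gb N16732 = N16220 := ded_19_1 (flp_e L179007) (flp_b L178194) L183632
theorem L183636 : sm gg N16732 = N16335 := ded_36_2 (flp_e L180090) (flp_g L178198) L183632
theorem L183638 : sm gi N16732 = N16225 := ded_38_2 (flp_e L179063) (flp_i L178200) L183632
theorem L183640 : sm gd N16732 = N16136 := ded_30_1 (flp_e L178202) (flp_d L171954) (flp_e L171946) L178192 L183632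
theorem L183642 : sm gf N16136 = N16733 := rfl
theorem L183644 : sm gb N16733 = N16329 := ded_20_1 (flp_f L180044) (flp_b L178204) L183642
theorem L183646 : sm gc N16733 = N16169 := ded_26_1 (flp_f L178530) (flp_c L178206) L183642
theorem L183648 : sm ge N16733 = N16149 := ded_35_1 (flp_f L178340) (flp_e L172096) (flp_f L171958) L178202 L183642
theorem L183650 : sm ge N16138 = N16734 := rfl
theorem L183652 : sm ga N16734 = N16141 := ded_12_1 (flp_e L178262) (flp_a L178225) L183650
theorem L183654 : sm gc N16734 = N16266 := ded_25_1 (flp_e L179459) (flp_c L178233) L183650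
theorem L183656 : sm gg N16734 = N16158 := ded_36_2 (flp_e L178439) (flp_g L178229) L183650
theorem L183658 : sm gh N16734 = N16641 := ded_37_2 (flp_e L182695) (flp_h L178235) L183650
theorem L183660 : sm gi N16734 = N16342 := ded_38_2 (flp_e L180148) (flp_i L178231) L183650
theorem L183662 : sm gd N16734 = N16567 := ded_30_1 (flp_e L182030) (flp_d L176490) (flp_e L171983) L178223 L183650
theorem L183664 : sm gd N16139 = N16735 := rfl
theorem L183666 : sm ga N16735 = N16562 := ded_11_1 (flp_d L182001) (flp_a L178239) L183664
theorem L183668 : sm gb N16735 = N16144 := ded_18_1 (flp_d L178296) (flp_b L178241) L183664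
theorem L183670 : sm gf N16735 = N16510 := ded_31_2 (flp_d L181602) (flp_f L178246) L183664
theorem L183672 : sm gg N16735 = N16164 := ded_32_2 (flp_d L178492) (flp_g L178248) L183664
theorem L183674 : sm gh N16735 = N16140 := ded_33_2 (flp_d L178250) (flp_h L172006) (flp_d L171998) L178237 L183664
theorem L183676 : sm gc N16140 = N16736 := rfl
theorem L183678 : sm ga N16736 = N16566 := ded_10_1 (flp_c L182022) (flp_a L178252) L183676
theorem L183680 : sm gf N16736 = N16511 := ded_26_2 (flp_c L181608) (flp_f L178256) L183676
theorem L183682 : sm gg N16736 = N16167 := ded_27_2 (flp_c L178520) (flp_g L178258) L183676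
theorem L183684 : sm gi N16736 = N16527 := ded_29_2 (flp_c L181724) (flp_i L178260) L183676
theorem L183686 : sm gd N16736 = N16208 := ded_24_2 (flp_c L178856) (flp_d L172597) (flp_c L172012) L178250 L183676
theorem L183688 : sm ge N16140 = N16737 := rfl
theorem L183690 : sm ga N16737 = N16567 := ded_12_1 (flp_e L182030) (flp_a L178252) L183688
theorem L183692 : sm gb N16737 = N16148 := ded_19_1 (flp_e L178334) (flp_b L178254) L183688
theorem L183694 : sm gg N16737 = N16168 := ded_36_2 (flp_e L178524) (flp_g L178258) L183688
theorem L183696 : sm gi N16737 = N16528 := ded_38_2 (flp_e L181732) (flp_i L178260) L183688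
theorem L183698 : sm gd N16737 = N16141 := ded_30_1 (flp_e L178262) (flp_d L172022) (flp_e L172014) L178250 L183688
theorem L183700 : sm gf N16141 = N16738 := rfl
theorem L183702 : sm gb N16738 = N16149 := ded_20_1 (flp_f L178340) (flp_b L178264) L183700
theorem L183704 : sm gc N16738 = N16336 := ded_26_1 (flp_f L180096) (flp_c L178266) L183700
theorem L183706 : sm gh N16738 = N16733 := ded_40_2 (flp_f L183642) (flp_h L178270) L183700
theorem L183708 : sm ge N16738 = N16329 := ded_35_1 (flp_f L180044) (flp_e L174094) (flp_f L172026) L178262 L183700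
theorem L183710 : sm gh N16142 = N16739 := rfl
theorem L183712 : sm ga N16739 = N16252 := ded_15_1 (flp_h L179334) (flp_a L178274) L183710
theorem L183714 : sm gb N16739 = N16375 := ded_22_1 (flp_h L180432) (flp_b L178276) L183710
theorem L183716 : sm gc N16739 = N16186 := ded_28_1 (flp_h L178634) (flp_c L178278) L183710
theorem L183718 : sm gf N16739 = N16171 := ded_40_1 (flp_h L178542) (flp_f L178282) L183710
theorem L183720 : sm gg N16739 = N16143 := ded_42_1 (flp_h L178286) (flp_g L178284) L183710
theorem L183722 : sm gd N16143 = N16740 := rfl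
theorem L183724 : sm ga N16740 = N16437 := ded_11_1 L180939 (flp_a L178288) L183722
theorem L183726 : sm gb N16740 = N16510 := ded_18_1 (flp_d L181602) (flp_b L178290) L183722
theorem L183728 : sm gf N16740 = N16144 := ded_31_2 (flp_d L178296) (flp_f L178294) L183722
theorem L183730 : sm gh N16740 = N16146 := ded_33_2 (flp_d L178318) (flp_h L172078) (flp_d L172054) L178286 L183722
theorem L183732 : sm gc N16144 = N16741 := rfl
theorem L183734 : sm gg N16741 = N16175 := ded_27_2 (flp_c L178566) (flp_g L178298) L183732
theorem L183736 : sm gh N16741 = N16147 := ded_28_2 (flp_c L178328) (flp_h L178300) L183732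
theorem L183738 : sm gd N16741 = N16188 := ded_24_2 (flp_c L178656) (flp_d L172385) (flp_c L172060) L178296 L183732
theorem L183740 : sm ge N16144 = N16742 := rfl
theorem L183742 : sm gg N16742 = N16176 := ded_36_2 (flp_e L178572) (flp_g L178298) L183740
theorem L183744 : sm gh N16742 = N16148 := ded_37_2 (flp_e L178334) (flp_h L178300) L183740
theorem L183746 : sm gd N16145 = N16743 := rfl
theorem L183748 : sm ga N16743 = N16253 := ded_11_1 (flp_d L179342) (flp_a L178304) L183746
theorem L183750 : sm gb N16743 = N16376 := ded_18_1 (flp_d L180439) (flp_b L178306) L183746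
theorem L183752 : sm gf N16743 = N16177 := ded_31_2 (flp_d L178576) (flp_f L178312) L183746
theorem L183754 : sm gg N16743 = N16146 := ded_32_2 (flp_d L178318) (flp_g L178314) L183746
theorem L183756 : sm gi N16743 = N16280 := ded_34_2 (flp_d L179587) (flp_i L178316) L183746
theorem L183758 : sm gc N16743 = N16586 := ded_24_1 L182134 L176613 (flp_d L172114) (flp_c L178308) L183746
theorem L183760 : sm gc N16146 = N16744 := rfl
theorem L183762 : sm ga N16744 = N16426 := ded_10_1 L180873 (flp_a L178320) L183760
theorem L183764 : sm gf N16744 = N16147 := ded_26_2 (flp_c L178328) (flp_f L178324) L183760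
theorem L183766 : sm gg N16744 = N16586 := ded_27_2 (flp_c L183758) L183754 L183760
theorem L183768 : sm gi N16744 = N16517 := ded_29_2 (flp_c L181652) (flp_i L178326) L183760
theorem L183770 : sm gd N16744 = N16150 := ded_24_2 (flp_c L178344) (flp_d L172118) (flp_c L172084) L178318 L183760
theorem L183772 : sm ge N16146 = N16745 := rfl
theorem L183774 : sm ga N16745 = N16443 := ded_12_1 (flp_e L180967) (flp_a L178320) L183772
theorem L183776 : sm gb N16745 = N16512 := ded_19_1 (flp_e L181616) (flp_b L178322) L183772
theorem L183778 : sm gi N16745 = N16518 := ded_38_2 (flp_e L181656) (flp_i L178326) L183772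
theorem L183780 : sm gd N16745 = N16508 := ded_30_1 (flp_e L181589) (flp_d L176054) (flp_e L172086) L178318 L183772
theorem L183782 : sm gb N16147 = N16746 := rfl
theorem L183784 : sm gd N16746 = N16152 := ded_18_2 (flp_b L178372) (flp_d L178332) L183782
theorem L183786 : sm gg N16746 = N16180 := ded_21_2 (flp_b L178590) (flp_g L178330) L183782
theorem L183788 : sm ge N16147 = N16747 := rfl
theorem L183790 : sm gc N16747 = N16148 := ded_25_1 (flp_e L178334) L178328 L183788
theorem L183792 : sm gg N16747 = N16181 := ded_36_2 (flp_e L178594) (flp_g L178330) L183788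
theorem L183794 : sm gd N16747 = N16427 := ded_30_1 (flp_e L180875) L174948 (flp_e L172134) (flp_d L178332) L183788
theorem L183796 : sm gf N16148 = N16748 := rfl
theorem L183798 : sm gd N16748 = N16149 := ded_31_1 (flp_f L178340) (flp_d L178338) L183796
theorem L183800 : sm gg N16149 = N16749 := rfl
theorem L183802 : sm gc N16749 = N16429 := ded_27_1 (flp_g L180887) (flp_c L178342) L183800
theorem L183804 : sm gf N16749 = N16183 := ded_39_1 (flp_g L178604) (flp_f L172347) (flp_g L172100) L178340 L183800
theorem L183806 : sm gb N16150 = N16750 := rfl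
theorem L183808 : sm gf N16750 = N16152 := ded_20_2 (flp_b L178372) (flp_f L178348) L183806
theorem L183810 : sm gg N16750 = N16533 := ded_21_2 L181766 (flp_g L178350) L183806
theorem L183812 : sm gh N16750 = N16192 := ded_22_2 (flp_b L178690) (flp_h L178352) L183806
theorem L183814 : sm gi N16750 = N16544 := ded_23_2 (flp_b L181868) (flp_i L178354) L183806
theorem L183816 : sm ga N16750 = N16457 := ded_9_1 (flp_b L181105) L175263 L175283 (flp_a L178346) L183806
theorem L183818 : sm gc N16750 = N16210 := ded_17_2 (flp_b L178884) (flp_c L172627) (flp_b L172122) L178344 L183806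
theorem L183820 : sm ge N16456 = N16750 := ded_35_5 L183808 L178374 (flp_f L177335) L177333 (flp_f L181101)
theorem L183822 : sm ge N16150 = N16751 := rfl
theorem L183824 : sm ga N16751 = N16152 := ded_12_1 L178374 (flp_a L178346) L183822
theorem L183826 : sm gb N16751 = N16456 := ded_19_1 L183820 (flp_b L183806) L183822
theorem L183828 : sm gc N16751 = N16151 := ded_25_1 (flp_e L178356) L178344 L183822
theorem L183830 : sm gg N16751 = N16185 := ded_36_2 L178628 (flp_g L178350) L183822
theorem L183832 : sm gh N16751 = N16193 := ded_37_2 (flp_e L178703) (flp_h L178352) L183822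
theorem L183834 : sm gi N16751 = N16545 := ded_38_2 (flp_e L181873) (flp_i L178354) L183822
theorem L183836 : sm gf N16751 = N16457 := ded_35_2 L181107 L175271 (flp_e L172134) (flp_f L178348) L183822
theorem L183838 : sm gh N16153 = N16752 := rfl
theorem L183840 : sm ga N16752 = N16162 := ded_15_1 (flp_h L178478) (flp_a L178384) L183838
theorem L183842 : sm gb N16752 = N16388 := ded_22_1 (flp_h L180547) (flp_b L178386) L183838
theorem L183844 : sm gc N16752 = N16752 := ded_28_1 (flp_h L183838) L178388 L183838
theorem L183845 : sm gf N16752 = N16155 := ded_40_1 (flp_h L178408) (flp_f L178391) L183838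
theorem L183847 : sm gg N16752 = N16380 := ded_42_1 (flp_h L180481) (flp_g L178393) L183838
theorem L183849 : sm gh N16154 = N16753 := rfl
theorem L183851 : sm ga N16753 = N16163 := ded_15_1 (flp_h L178485) (flp_a L178397) L183849
theorem L183853 : sm gb N16753 = N16337 := ded_22_1 (flp_h L180104) (flp_b L178399) L183849
theorem L183855 : sm gc N16753 = N16753 := ded_28_1 (flp_h L183849) L178401 L183849
theorem L183856 : sm ge N16753 = N16330 := ded_37_1 (flp_h L180050) (flp_e L178404) L183849
theorem L183858 : sm gg N16753 = N16561 := ded_42_1 (flp_h L181994) (flp_g L178406) L183849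
theorem L183860 : sm gi N16753 = N16155 := ded_44_2 (flp_h L178408) (flp_i L172164) L172151 L178395 L183849
theorem L183862 : sm gd N16155 = N16754 := rfl
theorem L183864 : sm ga N16754 = N16164 := ded_11_1 (flp_d L178492) (flp_a L178410) L183862
theorem L183866 : sm gg N16754 = N16562 := ded_32_2 (flp_d L182001) (flp_g L178413) L183862
theorem L183868 : sm gh N16754 = N16157 := ded_33_2 (flp_d L178431) (flp_h L172187) (flp_d L172169) L178408 L183862
theorem L183870 : sm gd N16156 = N16755 := rfl
theorem L183872 : sm ga N16755 = N16166 := ded_11_1 (flp_d L178514) (flp_a L178417) L183870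
theorem L183874 : sm gb N16755 = N16393 := ded_18_1 (flp_d L180585) (flp_b L178419) L183870
theorem L183876 : sm gf N16755 = N16157 := ded_31_2 (flp_d L178431) (flp_f L178425) L183870
theorem L183878 : sm gg N16755 = N16383 := ded_32_2 (flp_d L180505) (flp_g L178427) L183870
theorem L183880 : sm gi N16755 = N16423 := ded_34_2 (flp_d L180849) (flp_i L178429) L183870
theorem L183882 : sm gc N16157 = N16756 := rfl
theorem L183884 : sm ga N16756 = N16167 := ded_10_1 (flp_c L178520) (flp_a L178433) L183882
theorem L183886 : sm gg N16756 = N16566 := ded_27_2 (flp_c L182022) (flp_g L178435) L183882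
theorem L183888 : sm gi N16756 = N16581 := ded_29_2 (flp_c L182108) (flp_i L178437) L183882
theorem L183890 : sm gd N16756 = N16211 := ded_24_2 (flp_c L178900) (flp_d L172681) (flp_c L172191) L178431 L183882
theorem L183892 : sm ge N16157 = N16757 := rfl
theorem L183894 : sm ga N16757 = N16168 := ded_12_1 (flp_e L178524) (flp_a L178433) L183892
theorem L183896 : sm gg N16757 = N16567 := ded_36_2 (flp_e L182030) (flp_g L178435) L183892
theorem L183898 : sm gi N16757 = N16582 := ded_38_2 (flp_e L182114) (flp_i L178437) L183892
theorem L183900 : sm gd N16757 = N16158 := ded_30_1 (flp_e L178439) (flp_d L172199) (flp_e L172193) L178431 L183892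
theorem L183902 : sm gf N16158 = N16758 := rfl
theorem L183904 : sm ga N16758 = N16169 := ded_13_1 (flp_f L178530) (flp_a L178441) L183902
theorem L183906 : sm ge N16758 = N16415 := ded_35_1 (flp_f L180773) (flp_e L174858) (flp_f L172203) L178439 L183902
theorem L183908 : sm gh N16159 = N16759 := rfl
theorem L183910 : sm gb N16759 = N16170 := ded_22_1 (flp_h L178536) (flp_b L178445) L183908
theorem L183912 : sm gc N16759 = N16759 := ded_28_1 (flp_h L183908) L178447 L183908
theorem L183913 : sm ge N16759 = N16162 := ded_37_1 (flp_h L178478) (flp_e L178450) L183908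
theorem L183915 : sm gf N16759 = N16753 := ded_40_1 (flp_h L183849) (flp_f L178452) L183908
theorem L183917 : sm gi N16759 = N16752 := ded_44_2 (flp_h L183838) (flp_i L178382) L172214 L178443 L183908
theorem L183919 : sm gh N16160 = N16760 := rfl
theorem L183921 : sm ga N16760 = N16380 := ded_15_1 (flp_h L180481) (flp_a L178456) L183919
theorem L183923 : sm gb N16760 = N16171 := ded_22_1 (flp_h L178542) (flp_b L178458) L183919
theorem L183925 : sm gc N16760 = N16760 := ded_28_1 (flp_h L183919) L178460 L183919
theorem L183926 : sm gf N16760 = N16375 := ded_40_1 (flp_h L180432) (flp_f L178463) L183919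
theorem L183928 : sm gg N16760 = N16162 := ded_42_1 (flp_h L178478) (flp_g L178465) L183919
theorem L183930 : sm gh N16161 = N16761 := rfl
theorem L183932 : sm ga N16761 = N16759 := ded_15_1 (flp_h L183908) (flp_a L178469) L183930
theorem L183934 : sm gb N16761 = N16172 := ded_22_1 (flp_h L178548) (flp_b L178471) L183930
theorem L183936 : sm gc N16761 = N16761 := ded_28_1 (flp_h L183930) L178473 L183930
theorem L183937 : sm ge N16761 = N16752 := ded_37_1 (flp_h L183838) (flp_e L178474) L183930
theorem L183939 : sm gf N16761 = N16163 := ded_40_1 (flp_h L178485) (flp_f L178476) L183930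
theorem L183941 : sm gi N16761 = N16162 := ded_44_2 (flp_h L178478) (flp_i L172238) L172227 L178467 L183930
theorem L183943 : sm gd N16162 = N16762 := rfl
theorem L183945 : sm gb N16762 = N16173 := ded_18_1 (flp_d L178556) (flp_b L178480) L183943
theorem L183947 : sm gf N16762 = N16164 := ded_31_2 (flp_d L178492) (flp_f L178483) L183943
theorem L183949 : sm gh N16762 = N16166 := ded_33_2 (flp_d L178514) (flp_h L172271) (flp_d L172243) L178478 L183943
theorem L183951 : sm gd N16163 = N16763 := rfl
theorem L183953 : sm gb N16763 = N16174 := ded_18_1 (flp_d L178562) (flp_b L178487) L183951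
theorem L183955 : sm gi N16763 = N16164 := ded_34_2 (flp_d L178492) (flp_i L178490) L183951
theorem L183957 : sm gc N16164 = N16764 := rfl
theorem L183959 : sm gh N16764 = N16167 := ded_28_2 (flp_c L178520) (flp_h L178496) L183957
theorem L183961 : sm gd N16764 = N16764 := ded_24_2 (flp_c L183957) (flp_d L178492) L172256 L178492 L183957
theorem L183962 : sm ge N16164 = N16765 := rfl
theorem L183964 : sm gb N16765 = N16176 := ded_19_1 (flp_e L178572) (flp_b L178494) L183962
theorem L183966 : sm gh N16765 = N16168 := ded_37_2 (flp_e L178524) (flp_h L178496) L183962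
theorem L183968 : sm gd N16165 = N16766 := rfl
theorem L183970 : sm ga N16766 = N16383 := ded_11_1 (flp_d L180505) (flp_a L178500) L183968
theorem L183972 : sm gb N16766 = N16177 := ded_18_1 (flp_d L178576) (flp_b L178502) L183968
theorem L183974 : sm gf N16766 = N16376 := ded_31_2 (flp_d L180439) (flp_f L178508) L183968
theorem L183976 : sm gg N16766 = N16166 := ded_32_2 (flp_d L178514) (flp_g L178510) L183968
theorem L183978 : sm gi N16766 = N16412 := ded_34_2 (flp_d L180751) (flp_i L178512) L183968
theorem L183980 : sm gc N16166 = N16767 := rfl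
theorem L183982 : sm gf N16767 = N16167 := ded_26_2 (flp_c L178520) (flp_f L178518) L183980
theorem L183984 : sm gd N16767 = N16213 := ded_24_2 (flp_c L178924) (flp_d L172706) (flp_c L172275) L178514 L183980
theorem L183986 : sm ge N16166 = N16768 := rfl
theorem L183988 : sm gb N16768 = N16179 := ded_19_1 (flp_e L178586) (flp_b L178516) L183986
theorem L183990 : sm gd N16768 = N16425 := ded_30_1 (flp_e L180863) (flp_d L174938) (flp_e L172277) L178514 L183986
theorem L183992 : sm gb N16167 = N16769 := rfl
theorem L183994 : sm gd N16769 = N16215 := ded_18_2 (flp_b L178944) (flp_d L178522) L183992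
theorem L183996 : sm gi N16769 = N16320 := ded_23_2 L183450 L183446 L183992
theorem L183998 : sm gc N16769 = N16180 := ded_17_2 (flp_b L178590) (flp_c L172339) (flp_b L172283) L178520 L183992
theorem L184000 : sm ge N16167 = N16770 := rfl
theorem L184002 : sm gc N16770 = N16168 := ded_25_1 (flp_e L178524) L178520 L184000
theorem L184004 : sm gf N16168 = N16771 := rfl
theorem L184006 : sm gb N16771 = N16182 := ded_20_1 (flp_f L178600) (flp_b L178526) L184004
theorem L184008 : sm gd N16771 = N16169 := ded_31_1 (flp_f L178530) (flp_d L178528) L184004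
theorem L184010 : sm gg N16169 = N16772 := rfl
theorem L184012 : sm gb N16772 = N16183 := ded_21_1 (flp_g L178604) (flp_b L178532) L184010
theorem L184014 : sm ge N16772 = N16429 := ded_36_1 (flp_g L180887) (flp_e L178534) L184010
theorem L184016 : sm gd N16170 = N16773 := rfl
theorem L184018 : sm gh N16773 = N16430 := ded_33_2 (flp_d L180895) (flp_h L174964) (flp_d L172293) L178536 L184016
theorem L184020 : sm gd N16171 = N16774 := rfl
theorem L184022 : sm gg N16774 = N16173 := ded_32_2 (flp_d L178556) (flp_g L178546) L184020
theorem L184024 : sm gh N16774 = N16177 := ded_33_2 (flp_d L178576) (flp_h L172327) (flp_d L172301) L178542 L184020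
theorem L184026 : sm gd N16172 = N16775 := rfl
theorem L184028 : sm gf N16775 = N16174 := ded_31_2 (flp_d L178562) (flp_f L178552) L184026
theorem L184030 : sm gi N16775 = N16173 := ded_34_2 (flp_d L178556) (flp_i L178554) L184026
theorem L184032 : sm gc N16173 = N16776 := rfl
theorem L184034 : sm gf N16776 = N16175 := ded_26_2 (flp_c L178566) (flp_f L178558) L184032
theorem L184036 : sm gh N16776 = N16178 := ded_28_2 (flp_c L178580) (flp_h L178560) L184032
theorem L184038 : sm gd N16776 = N16196 := ded_24_2 (flp_c L178735) (flp_d L172456) (flp_c L172313) L178556 L184032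
theorem L184040 : sm ge N16173 = N16777 := rfl
theorem L184042 : sm gh N16777 = N16179 := ded_37_2 (flp_e L178586) (flp_h L178560) L184040
theorem L184044 : sm gc N16174 = N16778 := rfl
theorem L184046 : sm gi N16778 = N16175 := ded_29_2 (flp_c L178566) (flp_i L178564) L184044
theorem L184048 : sm gd N16778 = N16197 := ded_24_2 (flp_c L178741) (flp_d L172463) (flp_c L172319) L178562 L184044
theorem L184050 : sm ge N16174 = N16779 := rfl
theorem L184052 : sm gi N16779 = N16176 := ded_38_2 (flp_e L178572) (flp_i L178564) L184050
theorem L184054 : sm gb N16175 = N16780 := rfl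
theorem L184056 : sm gd N16780 = N16199 := ded_18_2 (flp_b L178758) (flp_d L178570) L184054
theorem L184058 : sm gh N16780 = N16180 := ded_22_2 (flp_b L178590) (flp_h L178568) L184054
theorem L184060 : sm ge N16175 = N16781 := rfl
theorem L184062 : sm gc N16781 = N16176 := ded_25_1 (flp_e L178572) L178566 L184060
theorem L184064 : sm gh N16781 = N16181 := ded_37_2 (flp_e L178594) (flp_h L178568) L184060
theorem L184066 : sm gf N16176 = N16782 := rfl
theorem L184068 : sm gh N16782 = N16182 := ded_40_2 (flp_f L178600) (flp_h L178574) L184066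
theorem L184070 : sm ge N16177 = N16783 := rfl
theorem L184072 : sm gg N16783 = N16179 := ded_36_2 (flp_e L178586) (flp_g L178578) L184070
theorem L184074 : sm gd N16783 = N16440 := ded_30_1 (flp_e L180955) (flp_d L175010) (flp_e L172331) L178576 L184070
theorem L184076 : sm gb N16178 = N16784 := rfl
theorem L184078 : sm gd N16784 = N16184 := ded_18_2 (flp_b L178610) (flp_d L178584) L184076
theorem L184080 : sm gf N16784 = N16180 := ded_20_2 (flp_b L178590) (flp_f L178582) L184076
theorem L184082 : sm gg N16784 = N16546 := ded_21_2 (flp_b L183103) L183107 L184076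
theorem L184084 : sm ga N16784 = N16320 := ded_9_1 L183450 L183442 (flp_b L182962) L182956 L184076
theorem L184086 : sm ge N16178 = N16785 := rfl
theorem L184088 : sm gc N16785 = N16179 := ded_25_1 (flp_e L178586) L178580 L184086
theorem L184090 : sm gf N16179 = N16786 := rfl
theorem L184092 : sm gd N16786 = N16442 := ded_31_1 (flp_f L180963) (flp_d L178588) L184090
theorem L184094 : sm ge N16786 = N16182 := ded_35_1 (flp_f L178600) (flp_e L172343) (flp_f L172337) L178586 L184090
theorem L184096 : sm ga N16180 = N16787 := rfl
theorem L184098 : sm gd N16787 = N16185 := ded_11_2 (flp_a L178624) (flp_d L178592) L184096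
theorem L184100 : sm gf N16787 = N16320 := ded_13_2 (flp_a L184084) L184080 L184096
theorem L184102 : sm ge N16180 = N16788 := rfl
theorem L184104 : sm gb N16788 = N16181 := ded_19_1 (flp_e L178594) L178590 L184102
theorem L184106 : sm gd N16788 = N16587 := ded_30_1 (flp_e L182136) L176577 (flp_e L172361) (flp_d L178592) L184102
theorem L184108 : sm gf N16181 = N16789 := rfl
theorem L184110 : sm gc N16789 = N16182 := ded_26_1 (flp_f L178600) (flp_c L178596) L184108
theorem L184112 : sm gd N16789 = N16588 := ded_31_1 (flp_f L182140) (flp_d L178598) L184108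
theorem L184114 : sm gg N16182 = N16790 := rfl
theorem L184116 : sm gd N16790 = N16183 := ded_32_1 (flp_g L178604) (flp_d L178602) L184114
theorem L184118 : sm gc N16187 = N16791 := rfl
theorem L184120 : sm ga N16791 = N16477 := ded_10_1 L181306 (flp_a L178647) L184118
theorem L184122 : sm gf N16791 = N16188 := ded_26_2 (flp_c L178656) (flp_f L178650) L184118
theorem L184124 : sm gg N16791 = N16599 := ded_27_2 L182228 (flp_g L178652) L184118
theorem L184126 : sm gh N16791 = N16189 := ded_28_2 (flp_c L178662) (flp_h L178654) L184118
theorem L184128 : sm ge N16187 = N16792 := rfl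
theorem L184130 : sm ga N16792 = N16481 := ded_12_1 (flp_e L181332) (flp_a L178647) L184128
theorem L184132 : sm gb N16792 = N16792 := ded_19_1 (flp_e L184128) L178649 L184128
theorem L184133 : sm gg N16792 = N16609 := ded_36_2 (flp_e L182322) (flp_g L178652) L184128
theorem L184135 : sm gh N16792 = N16190 := ded_37_2 (flp_e L178673) (flp_h L178654) L184128
theorem L184137 : sm gb N16188 = N16793 := rfl
theorem L184139 : sm gg N16793 = N16199 := ded_21_2 (flp_b L178758) (flp_g L178658) L184137
theorem L184141 : sm gh N16793 = N16191 := ded_22_2 (flp_b L178682) (flp_h L178660) L184137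
theorem L184143 : sm gc N16793 = N16793 := ded_17_2 (flp_b L184137) (flp_c L178656) L172387 L178656 L184137
theorem L184144 : sm gb N16189 = N16794 := rfl
theorem L184146 : sm gd N16794 = N16192 := ded_18_2 (flp_b L178690) (flp_d L178671) L184144
theorem L184148 : sm gf N16794 = N16191 := ded_20_2 (flp_b L178682) (flp_f L178666) L184144
theorem L184150 : sm gg N16794 = N16541 := ded_21_2 L181847 (flp_g L178668) L184144
theorem L184152 : sm gi N16794 = N16794 := ded_23_2 (flp_b L184144) L178670 L184144
theorem L184153 : sm ga N16794 = N16471 := ded_9_1 (flp_b L181237) L175512 L175600 (flp_a L178664) L184144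
theorem L184155 : sm gc N16794 = N16794 := ded_17_2 (flp_b L184144) (flp_c L178662) L172396 L178662 L184144
theorem L184156 : sm ge N16189 = N16795 := rfl
theorem L184158 : sm ga N16795 = N16479 := ded_12_1 (flp_e L181316) (flp_a L178664) L184156
theorem L184160 : sm gc N16795 = N16190 := ded_25_1 (flp_e L178673) L178662 L184156
theorem L184162 : sm gg N16795 = N16602 := ded_36_2 (flp_e L182244) (flp_g L178668) L184156
theorem L184164 : sm gi N16795 = N16795 := ded_38_2 (flp_e L184156) L178670 L184156
theorem L184165 : sm ga N16191 = N16796 := rfl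
theorem L184167 : sm gc N16796 = N16796 := ded_10_2 (flp_a L184165) L178689 L184165
theorem L184168 : sm gd N16796 = N16193 := ded_11_2 L178705 (flp_d L178684) L184165
theorem L184170 : sm gf N16796 = N16471 := ded_13_2 (flp_a L184153) L184148 L184165
theorem L184172 : sm gg N16796 = N16202 := ded_14_2 (flp_a L178781) (flp_g L178686) L184165
theorem L184174 : sm gi N16796 = N16796 := ded_16_2 (flp_a L184165) L178688 L184165
theorem L184175 : sm gb N16796 = N16470 := ded_9_2 L181230 (flp_b L175819) L175810 L178682 L184165
theorem L184177 : sm gc N16195 = N16797 := rfl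
theorem L184179 : sm gf N16797 = N16197 := ded_26_2 (flp_c L178741) (flp_f L178730) L184177
theorem L184181 : sm gh N16797 = N16797 := ded_28_2 (flp_c L184177) L178734 L184177
theorem L184182 : sm gi N16797 = N16196 := ded_29_2 (flp_c L178735) (flp_i L178732) L184177
theorem L184184 : sm gb N16196 = N16798 := rfl
theorem L184186 : sm gf N16798 = N16199 := ded_20_2 (flp_b L178758) (flp_f L178737) L184184
theorem L184188 : sm gg N16798 = N16547 := ded_21_2 (flp_b L183115) L183121 L184184
theorem L184190 : sm gh N16798 = N16201 := ded_22_2 (flp_b L178769) (flp_h L178739) L184184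
theorem L184192 : sm gc N16798 = N16798 := ded_17_2 (flp_b L184184) (flp_c L178735) L172458 L178735 L184184
theorem L184193 : sm ga N16322 = N16798 := ded_15_3 L184190 (flp_a L178779) L179987
theorem L184195 : sm gb N16197 = N16799 := rfl
theorem L184197 : sm gh N16799 = N16799 := ded_22_2 (flp_b L184195) L178743 L184195
theorem L184198 : sm gi N16799 = N16199 := ded_23_2 (flp_b L178758) (flp_i L178744) L184195
theorem L184200 : sm gc N16799 = N16799 := ded_17_2 (flp_b L184195) (flp_c L178741) L172465 L178741 L184195
theorem L184201 : sm ge N16197 = N16800 := rfl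
theorem L184203 : sm ga N16800 = N16459 := ded_12_1 (flp_e L183024) L183022 L184201
theorem L184205 : sm gc N16800 = N16198 := ded_25_1 (flp_e L178746) L178741 L184201
theorem L184207 : sm gg N16800 = N16506 := ded_36_2 (flp_e L182428) L182430 L184201
theorem L184209 : sm gh N16800 = N16800 := ded_37_2 (flp_e L184201) L178743 L184201
theorem L184210 : sm gi N16800 = N16200 := ded_38_2 (flp_e L178763) (flp_i L178744) L184201
theorem L184212 : sm ga N16199 = N16801 := rfl
theorem L184214 : sm gc N16801 = N16801 := ded_10_2 (flp_a L184212) L178762 L184212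
theorem L184215 : sm gf N16801 = N16322 := ded_13_2 L184193 L184186 L184212
theorem L184217 : sm gh N16801 = N16202 := ded_15_2 (flp_a L178781) (flp_h L178760) L184212
theorem L184219 : sm ge N16199 = N16802 := rfl
theorem L184221 : sm gb N16802 = N16200 := ded_19_1 (flp_e L178763) L178758 L184219
theorem L184223 : sm gc N16802 = N16802 := ded_25_1 (flp_e L184219) L178762 L184219
theorem L184224 : sm gh N16802 = N16203 := ded_37_2 (flp_e L178789) (flp_h L178760) L184219
theorem L184226 : sm gd N16200 = N16803 := rfl
theorem L184228 : sm gh N16803 = N16601 := ded_33_2 (flp_d L182240) L176690 (flp_d L172506) (flp_h L178767) L184226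
theorem L184230 : sm ge N16202 = N16804 := rfl
theorem L184232 : sm ga N16804 = N16203 := ded_12_1 (flp_e L178789) L178781 L184230
theorem L184234 : sm gc N16804 = N16804 := ded_25_1 (flp_e L184230) L178783 L184230
theorem L184235 : sm gi N16804 = N16804 := ded_38_2 (flp_e L184230) L178788 L184230
theorem L184236 : sm gd N16804 = N16602 := ded_30_1 (flp_e L182244) L176729 (flp_e L172525) (flp_d L178784) L184230
theorem L184238 : sm gb N16208 = N16805 := rfl
theorem L184240 : sm ge N16805 = N16314 := ded_19_2 L179917 (flp_e L178860) L184238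
theorem L184242 : sm gf N16805 = N16514 := ded_20_2 (flp_b L181630) (flp_f L178862) L184238
theorem L184244 : sm gg N16805 = N16215 := ded_21_2 (flp_b L178944) (flp_g L178864) L184238
theorem L184246 : sm gh N16805 = N16805 := ded_22_2 (flp_b L184238) L178866 L184238
theorem L184247 : sm gi N16805 = N16317 := ded_23_2 L179943 (flp_i L178867) L184238
theorem L184249 : sm ga N16805 = N16543 := ded_9_1 (flp_b L183088) L183086 L179969 (flp_a L178858) L184238
theorem L184251 : sm gc N16805 = N16209 := ded_17_2 (flp_b L178869) (flp_c L172612) (flp_b L172601) L178856 L184238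
theorem L184253 : sm gc N16212 = N16806 := rfl
theorem L184255 : sm ga N16806 = N16454 := ded_10_1 (flp_c L181075) (flp_a L178911) L184253
theorem L184257 : sm ge N16806 = N16544 := ded_25_2 L181871 (flp_e L178921) L184253
theorem L184259 : sm gf N16806 = N16453 := ded_26_2 (flp_c L181066) (flp_f L178915) L184253
theorem L184261 : sm gg N16806 = N16213 := ded_27_2 (flp_c L178924) (flp_g L178917) L184253
theorem L184263 : sm gh N16806 = N16806 := ded_28_2 (flp_c L184253) L178923 L184253
theorem L184264 : sm gi N16806 = N16456 := ded_29_2 (flp_c L181097) (flp_i L178919) L184253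
theorem L184266 : sm gb N16806 = N16545 := ded_17_1 L181875 L176339 (flp_c L172726) (flp_b L178913) L184253
theorem L184268 : sm ge N16213 = N16807 := rfl
theorem L184270 : sm ga N16807 = N16514 := ded_12_1 (flp_e L182656) (flp_a L182667) L184268
theorem L184272 : sm gb N16807 = N16318 := ded_19_1 (flp_e L183597) L183606 L184268
theorem L184274 : sm gc N16807 = N16214 := ded_25_1 (flp_e L178929) L178924 L184268
theorem L184276 : sm gg N16807 = N16544 := ded_36_2 (flp_e L184257) L184261 L184268
theorem L184278 : sm gh N16807 = N16807 := ded_37_2 (flp_e L184268) L178928 L184268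
theorem L184279 : sm gi N16807 = N16533 := ded_38_2 (flp_e L183008) L183016 L184268
theorem L184281 : sm gf N16807 = N16543 := ded_35_2 (flp_e L181861) (flp_f L178214) L178212 (flp_f L178926) L184268
theorem L184283 : sm ga N16218 = N16808 := rfl
theorem L184285 : sm gd N16808 = N16465 := ded_11_2 L181178 (flp_d L178984) L184283
theorem L184287 : sm ge N16808 = N16605 := ded_12_2 (flp_a L182280) (flp_e L178986) L184283
theorem L184289 : sm gf N16808 = N16467 := ded_13_2 L181202 (flp_f L178988) L184283
theorem L184291 : sm gh N16808 = N16808 := ded_15_2 (flp_a L184283) L178990 L184283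
theorem L184292 : sm gi N16808 = N16466 := ded_16_2 L181191 (flp_i L178991) L184283
theorem L184294 : sm gb N16808 = N16808 := ded_9_2 (flp_a L184283) (flp_b L178982) L172894 L178982 L184283
theorem L184295 : sm ge N16219 = N16809 := rfl
theorem L184297 : sm ga N16809 = N16325 := ded_12_1 (flp_e L180010) (flp_a L178995) L184295
theorem L184299 : sm gc N16809 = N16245 := ded_25_1 (flp_e L179267) (flp_c L179003) L184295
theorem L184301 : sm gg N16809 = N16341 := ded_36_2 (flp_e L180142) (flp_g L178999) L184295
theorem L184303 : sm gh N16809 = N16220 := ded_37_2 (flp_e L179007) (flp_h L179005) L184295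
theorem L184305 : sm gi N16809 = N16616 := ded_38_2 (flp_e L182404) (flp_i L179001) L184295
theorem L184307 : sm gd N16809 = N16742 := ded_30_1 (flp_e L183740) (flp_d L178296) (flp_e L172910) L178993 L184295
theorem L184309 : sm gf N16220 = N16810 := rfl
theorem L184311 : sm ga N16810 = N16328 := ded_13_1 (flp_f L180036) (flp_a L179009) L184309
theorem L184313 : sm gc N16810 = N16263 := ded_26_1 (flp_f L179442) (flp_c L179011) L184309
theorem L184315 : sm gd N16810 = N16329 := ded_31_1 (flp_f L180044) (flp_d L179017) L184309
theorem L184317 : sm gi N16810 = N16228 := ded_41_2 (flp_f L179093) (flp_i L179015) L184309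
theorem L184319 : sm ge N16810 = N16513 := ded_35_1 (flp_f L181624) (flp_e L176078) (flp_f L172922) L179007 L184309
theorem L184321 : sm gc N16221 = N16811 := rfl
theorem L184323 : sm ga N16811 = N16590 := ded_10_1 (flp_c L182681) L182671 L184321
theorem L184325 : sm gg N16811 = N16224 := ded_27_2 (flp_c L179053) (flp_g L179023) L184321
theorem L184327 : sm gh N16811 = N16644 := ded_28_2 (flp_c L182732) (flp_h L179027) L184321
theorem L184329 : sm gi N16811 = N16334 := ded_29_2 (flp_c L180086) (flp_i L179025) L184321
theorem L184331 : sm gb N16811 = N16270 := ded_17_1 (flp_c L179493) L173474 (flp_c L172950) (flp_b L179021) L184321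
theorem L184333 : sm gd N16811 = N16229 := ded_24_2 (flp_c L179103) (flp_d L173002) (flp_c L172934) L179019 L184321
theorem L184335 : sm ge N16221 = N16812 := rfl
theorem L184337 : sm gb N16812 = N16222 := ded_19_1 (flp_e L179029) (flp_b L179021) L184335
theorem L184339 : sm gg N16812 = N16225 := ded_36_2 (flp_e L179063) (flp_g L179023) L184335
theorem L184341 : sm gh N16812 = N16645 := ded_37_2 (flp_e L182742) (flp_h L179027) L184335
theorem L184343 : sm gi N16812 = N16335 := ded_38_2 (flp_e L180090) (flp_i L179025) L184335
theorem L184345 : sm gd N16812 = N16327 := ded_30_1 (flp_e L180030) (flp_d L174080) (flp_e L172936) L179019 L184335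
theorem L184347 : sm gf N16222 = N16813 := rfl
theorem L184349 : sm ga N16813 = N16329 := ded_13_1 (flp_f L180044) (flp_a L179031) L184347
theorem L184351 : sm gc N16813 = N16277 := ded_26_1 (flp_f L179559) (flp_c L179033) L184347
theorem L184353 : sm gd N16813 = N16328 := ded_31_1 (flp_f L180036) (flp_d L179041) L184347
theorem L184355 : sm gh N16813 = N16648 := ded_40_2 (flp_f L182772) (flp_h L179037) L184347
theorem L184357 : sm gi N16813 = N16343 := ded_41_2 (flp_f L180152) (flp_i L179039) L184347
theorem L184359 : sm gc N16223 = N16814 := rfl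
theorem L184361 : sm ga N16814 = N16224 := ded_10_1 (flp_c L179053) (flp_a L179045) L184359
theorem L184363 : sm gf N16814 = N16270 := ded_26_2 (flp_c L179493) (flp_f L179049) L184359
theorem L184365 : sm gg N16814 = N16590 := ded_27_2 (flp_c L182681) L182677 L184359
theorem L184367 : sm gh N16814 = N16651 := ded_28_2 (flp_c L182808) (flp_h L179051) L184359
theorem L184369 : sm gd N16814 = N16230 := ded_24_2 (flp_c L179117) (flp_d L173016) (flp_c L172960) L179043 L184359
theorem L184371 : sm ge N16223 = N16815 := rfl
theorem L184373 : sm ga N16815 = N16225 := ded_12_1 (flp_e L179063) (flp_a L179045) L184371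
theorem L184375 : sm gb N16815 = N16266 := ded_19_1 (flp_e L179459) (flp_b L179047) L184371
theorem L184377 : sm gh N16815 = N16652 := ded_37_2 (flp_e L182818) (flp_h L179051) L184371
theorem L184379 : sm ge N16224 = N16816 := rfl
theorem L184381 : sm gb N16816 = N16291 := ded_19_1 (flp_e L179683) (flp_b L179059) L184379
theorem L184383 : sm gc N16816 = N16225 := ded_25_1 (flp_e L179063) L179053 L184379
theorem L184385 : sm gh N16816 = N16657 := ded_37_2 (flp_e L182872) (flp_h L179057) L184379
theorem L184387 : sm gf N16225 = N16817 := rfl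
theorem L184389 : sm gb N16817 = N16228 := ded_20_1 (flp_f L179093) (flp_b L179065) L184387
theorem L184391 : sm gh N16817 = N16658 := ded_40_2 (flp_f L182878) (flp_h L179067) L184387
theorem L184393 : sm ge N16817 = N16520 := ded_35_1 (flp_f L181668) (flp_e L176115) (flp_f L172968) L179063 L184387
theorem L184395 : sm ge N16226 = N16818 := rfl
theorem L184397 : sm ga N16818 = N16341 := ded_12_1 (flp_e L180142) (flp_a L179071) L184395
theorem L184399 : sm gc N16818 = N16348 := ded_25_1 (flp_e L180189) (flp_c L179077) L184395
theorem L184401 : sm gg N16818 = N16325 := ded_36_2 (flp_e L180010) (flp_g L179073) L184395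
theorem L184403 : sm gh N16818 = N16227 := ded_37_2 (flp_e L179081) (flp_h L179079) L184395
theorem L184405 : sm gi N16818 = N16683 := ded_38_2 (flp_e L183151) (flp_i L179075) L184395
theorem L184407 : sm gd N16818 = N16664 := ded_30_1 (flp_e L182934) (flp_d L177487) (flp_e L172978) L179069 L184395
theorem L184409 : sm gf N16227 = N16819 := rfl
theorem L184411 : sm ga N16819 = N16343 := ded_13_1 (flp_f L180152) (flp_a L179083) L184409
theorem L184413 : sm gc N16819 = N16373 := ded_26_1 (flp_f L180413) (flp_c L179085) L184409
theorem L184415 : sm gd N16819 = N16228 := ded_31_1 (flp_f L179093) (flp_d L179091) L184409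
theorem L184417 : sm gi N16819 = N16329 := ded_41_2 (flp_f L180044) (flp_i L179089) L184409
theorem L184419 : sm gg N16228 = N16820 := rfl
theorem L184421 : sm ga N16820 = N16344 := ded_14_1 (flp_g L180156) (flp_a L179095) L184419
theorem L184423 : sm gc N16820 = N16305 := ded_27_1 (flp_g L179797) (flp_c L179097) L184419
theorem L184425 : sm ge N16820 = N16532 := ded_36_1 (flp_g L181752) (flp_e L179101) L184419
theorem L184427 : sm gh N16820 = N16671 := ded_42_2 (flp_g L182996) (flp_h L179099) L184419
theorem L184429 : sm gh N16231 = N16821 := rfl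
theorem L184431 : sm ga N16821 = N16592 := ded_15_1 L182164 (flp_a L179131) L184429
theorem L184433 : sm gb N16821 = N16322 := ded_22_1 (flp_h L179987) (flp_b L179133) L184429
theorem L184435 : sm gc N16821 = N16534 := ded_28_1 L181777 (flp_c L179138) L184429
theorem L184437 : sm ge N16821 = N16680 := ded_37_1 (flp_h L183111) (flp_e L179140) L184429
theorem L184439 : sm gg N16821 = N16536 := ded_42_1 L181799 (flp_g L179135) L184429
theorem L184441 : sm gd N16232 = N16822 := rfl
theorem L184443 : sm ga N16822 = N16323 := ded_11_1 (flp_d L179990) (flp_a L179144) L184441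
theorem L184445 : sm gf N16822 = N16235 := ded_31_2 (flp_d L179171) (flp_f L179148) L184441
theorem L184447 : sm gi N16822 = N16685 := ded_34_2 (flp_d L183175) (flp_i L179150) L184441
theorem L184449 : sm gc N16822 = N16339 := ded_24_1 (flp_d L180126) L174179 (flp_d L173092) (flp_c L179146) L184441
theorem L184451 : sm gh N16822 = N16248 := ded_33_2 (flp_d L179292) (flp_h L173253) (flp_d L173081) L179142 L184441
theorem L184453 : sm gd N16233 = N16823 := rfl
theorem L184455 : sm ga N16823 = N16500 := ded_11_1 (flp_d L181521) (flp_a L179154) L184453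
theorem L184457 : sm gb N16823 = N16235 := ded_18_1 (flp_d L179171) (flp_b L179156) L184453
theorem L184459 : sm gg N16823 = N16240 := ded_32_2 (flp_d L179223) (flp_g L179159) L184453
theorem L184461 : sm gh N16823 = N16249 := ded_33_2 (flp_d L179302) (flp_h L173263) (flp_d L173103) L179152 L184453
theorem L184463 : sm gd N16234 = N16824 := rfl
theorem L184465 : sm ga N16824 = N16347 := ded_11_1 (flp_d L180183) (flp_a L179163) L184463
theorem L184467 : sm gg N16824 = N16244 := ded_32_2 (flp_d L179263) (flp_g L179169) L184463
theorem L184469 : sm gc N16824 = N16803 := ded_24_1 (flp_d L184226) L178765 (flp_d L173136) (flp_c L179165) L184463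
theorem L184471 : sm gh N16824 = N16452 := ded_33_2 (flp_d L181062) L175193 (flp_d L173113) L179161 L184463
theorem L184473 : sm ge N16235 = N16825 := rfl
theorem L184475 : sm ga N16825 = N16348 := ded_12_1 (flp_e L180189) (flp_a L179173) L184473
theorem L184477 : sm gc N16825 = N16341 := ded_25_1 (flp_e L180142) (flp_c L179177) L184473
theorem L184479 : sm gg N16825 = N16245 := ded_36_2 (flp_e L179267) (flp_g L179175) L184473
theorem L184481 : sm gh N16825 = N16250 := ded_37_2 (flp_e L179312) (flp_h L179179) L184473
theorem L184483 : sm gh N16236 = N16826 := rfl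
theorem L184485 : sm ga N16826 = N16239 := ded_15_1 (flp_h L179216) (flp_a L179183) L184483
theorem L184487 : sm gb N16826 = N16351 := ded_22_1 (flp_h L180220) (flp_b L179185) L184483
theorem L184489 : sm gc N16826 = N16826 := ded_28_1 (flp_h L184483) L179187 L184483
theorem L184490 : sm ge N16826 = N16237 := ded_37_1 (flp_h L179194) (flp_e L179188) L184483
theorem L184492 : sm gf N16826 = N16549 := ded_40_1 (flp_h L181898) (flp_f L179190) L184483
theorem L184494 : sm gg N16826 = N16499 := ded_42_1 (flp_h L181512) (flp_g L179192) L184483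
theorem L184496 : sm gi N16826 = N16548 := ded_44_2 (flp_h L181885) (flp_i L176369) (flp_h L173147) L179181 L184483
theorem L184498 : sm gd N16237 = N16827 := rfl
theorem L184500 : sm ga N16827 = N16240 := ded_11_1 (flp_d L179223) (flp_a L179196) L184498
theorem L184502 : sm gb N16827 = N16352 := ded_18_1 (flp_d L180232) (flp_b L179198) L184498
theorem L184504 : sm gg N16827 = N16500 := ded_32_2 (flp_d L181521) (flp_g L179201) L184498
theorem L184506 : sm gi N16827 = N16823 := ded_34_2 (flp_d L184453) (flp_i L179203) L184498
theorem L184508 : sm gh N16827 = N16251 := ded_33_2 (flp_d L179324) (flp_h L173287) (flp_d L173158) L179194 L184498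
theorem L184510 : sm gh N16238 = N16828 := rfl
theorem L184512 : sm ga N16828 = N16549 := ded_15_1 (flp_h L181898) (flp_a L179207) L184510
theorem L184514 : sm gb N16828 = N16243 := ded_22_1 (flp_h L179255) (flp_b L179209) L184510
theorem L184516 : sm gc N16828 = N16828 := ded_28_1 (flp_h L184510) L179211 L184510
theorem L184517 : sm ge N16828 = N16509 := ded_37_1 (flp_h L181595) (flp_e L179212) L184510
theorem L184519 : sm gf N16828 = N16239 := ded_40_1 (flp_h L179216) (flp_f L179214) L184510
theorem L184521 : sm gi N16828 = N16501 := ded_44_2 (flp_h L181529) (flp_i L175992) (flp_h L173169) L179205 L184510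
theorem L184523 : sm gd N16239 = N16829 := rfl
theorem L184525 : sm gb N16829 = N16244 := ded_18_1 (flp_d L179263) (flp_b L179218) L184523
theorem L184527 : sm gc N16240 = N16830 := rfl
theorem L184529 : sm gh N16830 = N16254 := ded_28_2 (flp_c L179352) (flp_h L179227) L184527
theorem L184531 : sm gd N16830 = N16830 := ded_24_2 (flp_c L184527) (flp_d L179223) L173184 L179223 L184527
theorem L184532 : sm ge N16240 = N16831 := rfl
theorem L184534 : sm gb N16831 = N16245 := ded_19_1 (flp_e L179267) (flp_b L179225) L184532
theorem L184536 : sm gh N16831 = N16255 := ded_37_2 (flp_e L179358) (flp_h L179227) L184532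
theorem L184538 : sm gh N16241 = N16832 := rfl
theorem L184540 : sm ga N16832 = N16362 := ded_15_1 (flp_h L180347) (flp_a L179231) L184538
theorem L184542 : sm gb N16832 = N16364 := ded_22_1 (flp_h L180359) (flp_b L179233) L184538
theorem L184544 : sm gc N16832 = N16450 := ded_28_1 L181042 (flp_c L179235) L184538
theorem L184546 : sm ge N16832 = N16259 := ded_37_1 (flp_h L179400) (flp_e L179239) L184538
theorem L184548 : sm gf N16832 = N16551 := ded_40_1 (flp_h L181909) (flp_f L179241) L184538
theorem L184550 : sm gg N16832 = N16356 := ded_42_1 (flp_h L180279) (flp_g L179243) L184538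
theorem L184552 : sm gi N16832 = N16242 := ded_44_2 (flp_h L179245) (flp_i L173201) L173185 L179229 L184538
theorem L184554 : sm gd N16242 = N16833 := rfl
theorem L184556 : sm ga N16833 = N16363 := ded_11_1 (flp_d L180355) (flp_a L179247) L184554
theorem L184558 : sm gg N16833 = N16452 := ded_32_2 (flp_d L181062) (flp_g L179253) L184554
theorem L184560 : sm gh N16833 = N16244 := ded_33_2 (flp_d L179263) (flp_h L173221) (flp_d L173207) L179245 L184554
theorem L184562 : sm gd N16243 = N16834 := rfl
theorem L184564 : sm ga N16834 = N16365 := ded_11_1 (flp_d L180369) (flp_a L179257) L184562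
theorem L184566 : sm gf N16834 = N16244 := ded_31_2 (flp_d L179263) (flp_f L179261) L184562
theorem L184568 : sm gc N16244 = N16835 := rfl
theorem L184570 : sm ga N16835 = N16366 := ded_10_1 (flp_c L180373) (flp_a L179265) L184568
theorem L184572 : sm gg N16835 = N16803 := ded_27_2 (flp_c L184469) L184467 L184568
theorem L184574 : sm gd N16835 = N16247 := ded_24_2 (flp_c L179282) (flp_d L173242) (flp_c L173225) L179263 L184568
theorem L184576 : sm ge N16244 = N16836 := rfl
theorem L184578 : sm ga N16836 = N16367 := ded_12_1 (flp_e L180377) (flp_a L179265) L184576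
theorem L184580 : sm gd N16836 = N16245 := ded_30_1 (flp_e L179267) (flp_d L173229) (flp_e L173227) L179263 L184576
theorem L184582 : sm gf N16245 = N16837 := rfl
theorem L184584 : sm ga N16837 = N16368 := ded_13_1 (flp_f L180381) (flp_a L179269) L184582
theorem L184586 : sm gh N16837 = N16263 := ded_40_2 (flp_f L179442) (flp_h L179271) L184582
theorem L184588 : sm gc N16246 = N16838 := rfl
theorem L184590 : sm ga N16838 = N16370 := ded_10_1 (flp_c L180395) (flp_a L179275) L184588
theorem L184592 : sm gf N16838 = N16247 := ded_26_2 (flp_c L179282) (flp_f L179278) L184588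
theorem L184594 : sm gh N16838 = N16482 := ded_28_2 (flp_c L181342) (flp_h L179280) L184588
theorem L184596 : sm ge N16246 = N16839 := rfl
theorem L184598 : sm ga N16839 = N16371 := ded_12_1 (flp_e L180401) (flp_a L179275) L184596
theorem L184600 : sm gb N16839 = N16839 := ded_19_1 (flp_e L184596) L179277 L184596
theorem L184601 : sm gh N16839 = N16483 := ded_37_2 (flp_e L181351) (flp_h L179280) L184596
theorem L184603 : sm gf N16839 = N16792 := ded_35_2 (flp_e L184128) L178650 (flp_e L173249) (flp_f L179278) L184596
theorem L184605 : sm gb N16247 = N16840 := rfl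
theorem L184607 : sm ge N16840 = N16793 := ded_19_2 (flp_b L184137) (flp_e L179286) L184605
theorem L184609 : sm gg N16840 = N16802 := ded_21_2 L184221 (flp_g L179288) L184605
theorem L184611 : sm gh N16840 = N16484 := ded_22_2 (flp_b L181360) (flp_h L179290) L184605
theorem L184613 : sm gc N16840 = N16840 := ded_17_2 (flp_b L184605) (flp_c L179282) L173246 L179282 L184605
theorem L184614 : sm ge N16248 = N16841 := rfl
theorem L184616 : sm ga N16841 = N16327 := ded_12_1 (flp_e L180030) (flp_a L179294) L184614
theorem L184618 : sm gc N16841 = N16342 := ded_25_1 (flp_e L180148) (flp_c L179300) L184614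
theorem L184620 : sm gi N16841 = N16266 := ded_38_2 (flp_e L179459) (flp_i L179298) L184614
theorem L184622 : sm gc N16249 = N16842 := rfl
theorem L184624 : sm ga N16842 = N16507 := ded_10_1 (flp_c L181583) (flp_a L179304) L184622
theorem L184626 : sm gg N16842 = N16254 := ded_27_2 (flp_c L179352) (flp_g L179308) L184622
theorem L184628 : sm gi N16842 = N16270 := ded_29_2 (flp_c L179493) (flp_i L179310) L184622
theorem L184630 : sm gb N16842 = N16334 := ded_17_1 (flp_c L180086) L174145 (flp_c L173285) (flp_b L179306) L184622
theorem L184632 : sm gd N16842 = N16314 := ded_24_2 (flp_c L179908) (flp_d L173918) (flp_c L173269) L179302 L184622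
theorem L184634 : sm ge N16249 = N16843 := rfl
theorem L184636 : sm ga N16843 = N16508 := ded_12_1 (flp_e L181589) (flp_a L179304) L184634
theorem L184638 : sm gb N16843 = N16250 := ded_19_1 (flp_e L179312) (flp_b L179306) L184634
theorem L184640 : sm gg N16843 = N16255 := ded_36_2 (flp_e L179358) (flp_g L179308) L184634
theorem L184642 : sm gi N16843 = N16271 := ded_38_2 (flp_e L179501) (flp_i L179310) L184634
theorem L184644 : sm gd N16843 = N16443 := ded_30_1 (flp_e L180967) L175024 (flp_e L173271) L179302 L184634
theorem L184646 : sm gf N16250 = N16844 := rfl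
theorem L184648 : sm ga N16844 = N16373 := ded_13_1 (flp_f L180413) (flp_a L179314) L184646
theorem L184650 : sm gc N16844 = N16343 := ded_26_1 (flp_f L180152) (flp_c L179316) L184646
theorem L184652 : sm gd N16844 = N16444 := ded_31_1 (flp_f L180971) (flp_d L179322) L184646
theorem L184654 : sm gi N16844 = N16277 := ded_41_2 (flp_f L179559) (flp_i L179320) L184646
theorem L184656 : sm gc N16251 = N16845 := rfl
theorem L184658 : sm ga N16845 = N16254 := ded_10_1 (flp_c L179352) (flp_a L179326) L184656
theorem L184660 : sm gg N16845 = N16507 := ded_27_2 (flp_c L181583) (flp_g L179330) L184656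
theorem L184662 : sm gi N16845 = N16281 := ded_29_2 (flp_c L179595) (flp_i L179332) L184656
theorem L184664 : sm gd N16845 = N16315 := ded_24_2 (flp_c L179919) (flp_d L173929) (flp_c L173293) L179324 L184656
theorem L184666 : sm ge N16251 = N16846 := rfl
theorem L184668 : sm ga N16846 = N16255 := ded_12_1 (flp_e L179358) (flp_a L179326) L184666
theorem L184670 : sm gb N16846 = N16377 := ded_19_1 (flp_e L180447) (flp_b L179328) L184666
theorem L184672 : sm gg N16846 = N16508 := ded_36_2 (flp_e L181589) (flp_g L179330) L184666
theorem L184674 : sm gi N16846 = N16282 := ded_38_2 (flp_e L179605) (flp_i L179332) L184666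
theorem L184676 : sm gd N16252 = N16847 := rfl
theorem L184678 : sm gb N16847 = N16260 := ded_18_1 (flp_d L179410) (flp_b L179336) L184676
theorem L184680 : sm gg N16847 = N16437 := ded_32_2 L180939 (flp_g L179340) L184676
theorem L184682 : sm gc N16847 = N16578 := ded_24_1 L182092 L176684 (flp_d L175753) (flp_c L179338) L184676
theorem L184684 : sm gh N16847 = N16253 := ded_33_2 (flp_d L179342) (flp_h L173309) (flp_d L173305) L179334 L184676
theorem L184686 : sm ge N16253 = N16848 := rfl
theorem L184688 : sm gb N16848 = N16262 := ded_19_1 (flp_e L179430) (flp_b L179344) L184686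
theorem L184690 : sm gc N16848 = N16587 := ded_25_1 (flp_e L182136) (flp_c L179350) L184686
theorem L184692 : sm gg N16848 = N16443 := ded_36_2 (flp_e L180967) (flp_g L179346) L184686
theorem L184694 : sm gi N16848 = N16290 := ded_38_2 (flp_e L179677) (flp_i L179348) L184686
theorem L184696 : sm gd N16848 = N16255 := ded_30_1 (flp_e L179358) (flp_d L173321) (flp_e L173315) L179342 L184686
theorem L184698 : sm ge N16254 = N16849 := rfl
theorem L184700 : sm gc N16849 = N16255 := ded_25_1 (flp_e L179358) L179352 L184698
theorem L184702 : sm gi N16849 = N16291 := ded_38_2 (flp_e L179683) (flp_i L179354) L184698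
theorem L184704 : sm gf N16255 = N16850 := rfl
theorem L184706 : sm gb N16850 = N16263 := ded_20_1 (flp_f L179442) (flp_b L179360) L184704
theorem L184708 : sm gi N16850 = N16292 := ded_41_2 (flp_f L179687) (flp_i L179362) L184704
theorem L184710 : sm gh N16256 = N16851 := rfl
theorem L184712 : sm ga N16851 = N16387 := ded_15_1 (flp_h L180537) (flp_a L179366) L184710
theorem L184714 : sm gc N16851 = N16449 := ded_28_1 L181028 (flp_c L179368) L184710
theorem L184716 : sm ge N16851 = N16258 := ded_37_1 (flp_h L179392) (flp_e L179370) L184710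
theorem L184718 : sm gf N16851 = N16691 := ded_40_1 (flp_h L183234) (flp_f L179372) L184710
theorem L184720 : sm gg N16851 = N16660 := ded_42_1 (flp_h L182896) (flp_g L179374) L184710
theorem L184722 : sm gi N16851 = N16659 := ded_44_2 (flp_h L182884) (flp_i L177441) L173337 L179364 L184710
theorem L184724 : sm gh N16257 = N16852 := rfl
theorem L184726 : sm ga N16852 = N16389 := ded_15_1 (flp_h L180557) (flp_a L179378) L184724
theorem L184728 : sm gb N16852 = N16851 := ded_22_1 (flp_h L184710) (flp_b L179380) L184724
theorem L184730 : sm gc N16852 = N16448 := ded_28_1 L181018 (flp_c L179382) L184724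
theorem L184732 : sm ge N16852 = N16659 := ded_37_1 (flp_h L182884) (flp_e L179386) L184724
theorem L184734 : sm gf N16852 = N16259 := ded_40_1 (flp_h L179400) (flp_f L179388) L184724
theorem L184736 : sm gg N16852 = N16591 := ded_42_1 L182158 (flp_g L179390) L184724
theorem L184738 : sm gi N16852 = N16258 := ded_44_2 (flp_h L179392) (flp_i L173355) L173339 L179376 L184724
theorem L184740 : sm gd N16258 = N16853 := rfl
theorem L184742 : sm ga N16853 = N16390 := ded_11_1 (flp_d L180569) (flp_a L179394) L184740
theorem L184744 : sm gf N16853 = N16260 := ded_31_2 (flp_d L179410) (flp_f L179398) L184740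
theorem L184746 : sm gc N16853 = N16400 := ded_24_1 (flp_d L180645) L174734 L175070 (flp_c L179396) L184740
theorem L184748 : sm gh N16853 = N16261 := ded_33_2 (flp_d L179420) (flp_h L173383) (flp_d L173361) L179392 L184740
theorem L184750 : sm gd N16259 = N16854 := rfl
theorem L184752 : sm ga N16854 = N16391 := ded_11_1 (flp_d L180575) (flp_a L179402) L184750
theorem L184754 : sm gg N16854 = N16435 := ded_32_2 L180931 (flp_g L179406) L184750
theorem L184756 : sm gi N16854 = N16260 := ded_34_2 (flp_d L179410) (flp_i L179408) L184750
theorem L184758 : sm gc N16854 = N16401 := ded_24_1 (flp_d L180653) L174742 L175080 (flp_c L179404) L184750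
theorem L184760 : sm gh N16854 = N16297 := ded_33_2 (flp_d L179731) (flp_h L173685) (flp_d L173371) L179400 L184750
theorem L184762 : sm ge N16260 = N16855 := rfl
theorem L184764 : sm ga N16855 = N16392 := ded_12_1 (flp_e L180581) (flp_a L179412) L184762
theorem L184766 : sm gc N16855 = N16402 := ded_25_1 (flp_e L180661) (flp_c L179416) L184762
theorem L184768 : sm gg N16855 = N16438 := ded_36_2 (flp_e L180945) (flp_g L179414) L184762
theorem L184770 : sm gh N16855 = N16262 := ded_37_2 (flp_e L179430) (flp_h L179418) L184762
theorem L184772 : sm ge N16261 = N16856 := rfl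
theorem L184774 : sm ga N16856 = N16394 := ded_12_1 (flp_e L180591) (flp_a L179422) L184772
theorem L184776 : sm gc N16856 = N16404 := ded_25_1 (flp_e L180677) (flp_c L179428) L184772
theorem L184778 : sm gi N16856 = N16302 := ded_38_2 (flp_e L179773) (flp_i L179426) L184772
theorem L184780 : sm gf N16262 = N16857 := rfl
theorem L184782 : sm ga N16857 = N16395 := ded_13_1 (flp_f L180595) (flp_a L179432) L184780
theorem L184784 : sm gc N16857 = N16405 := ded_26_1 (flp_f L180681) (flp_c L179434) L184780
theorem L184786 : sm gd N16857 = N16263 := ded_31_1 (flp_f L179442) (flp_d L179440) L184780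
theorem L184788 : sm gi N16857 = N16304 := ded_41_2 (flp_f L179791) (flp_i L179438) L184780
theorem L184790 : sm gg N16263 = N16858 := rfl
theorem L184792 : sm ga N16858 = N16396 := ded_14_1 (flp_g L180601) (flp_a L179444) L184790
theorem L184794 : sm gi N16858 = N16305 := ded_43_2 (flp_g L179797) (flp_i L179446) L184790
theorem L184796 : sm gd N16264 = N16859 := rfl
theorem L184798 : sm ga N16859 = N16332 := ded_11_1 (flp_d L180074) (flp_a L179450) L184796
theorem L184800 : sm gh N16859 = N16265 := ded_33_2 (flp_d L179455) (flp_h L173418) (flp_d L173414) L179448 L184796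
theorem L184802 : sm gc N16265 = N16860 := rfl
theorem L184804 : sm ga N16860 = N16334 := ded_10_1 (flp_c L180086) (flp_a L179457) L184802
theorem L184806 : sm gi N16860 = N16590 := ded_29_2 (flp_c L182681) L182679 L184802
theorem L184808 : sm gd N16860 = N16267 := ded_24_2 (flp_c L179465) (flp_d L173434) (flp_c L173422) L179455 L184802
theorem L184810 : sm ge N16265 = N16861 := rfl
theorem L184812 : sm ga N16861 = N16335 := ded_12_1 (flp_e L180090) (flp_a L179457) L184810
theorem L184814 : sm gd N16861 = N16266 := ded_30_1 (flp_e L179459) (flp_d L173426) (flp_e L173424) L179455 L184810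
theorem L184816 : sm gf N16266 = N16862 := rfl
theorem L184818 : sm ga N16862 = N16336 := ded_13_1 (flp_f L180096) (flp_a L179461) L184816
theorem L184820 : sm gh N16862 = N16758 := ded_40_2 (flp_f L183902) (flp_h L179463) L184816
theorem L184822 : sm ge N16862 = N16277 := ded_35_1 (flp_f L179559) (flp_e L173526) (flp_f L173430) L179459 L184816
theorem L184824 : sm gd N16268 = N16863 := rfl
theorem L184826 : sm ga N16863 = N16516 := ded_11_1 (flp_d L181646) (flp_a L179476) L184824
theorem L184828 : sm gb N16863 = N16274 := ded_18_1 (flp_d L179527) (flp_b L179478) L184824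
theorem L184830 : sm gg N16863 = N16287 := ded_32_2 (flp_d L179657) (flp_g L179481) L184824
theorem L184832 : sm gh N16863 = N16269 := ded_33_2 (flp_d L179483) (flp_h L173456) (flp_d L173452) L179474 L184824
theorem L184834 : sm gc N16269 = N16864 := rfl
theorem L184836 : sm ga N16864 = N16517 := ded_10_1 (flp_c L181652) (flp_a L179485) L184834
theorem L184838 : sm gg N16864 = N16289 := ded_27_2 (flp_c L179669) (flp_g L179489) L184834
theorem L184840 : sm gi N16864 = N16426 := ded_29_2 L180873 (flp_i L179491) L184834
theorem L184842 : sm gb N16864 = N16384 := ded_17_1 (flp_c L180513) L174610 (flp_c L173524) (flp_b L179487) L184834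
theorem L184844 : sm gd N16864 = N16316 := ded_24_2 (flp_c L179928) (flp_d L173945) (flp_c L173462) L179483 L184834
theorem L184846 : sm ge N16269 = N16865 := rfl
theorem L184848 : sm ga N16865 = N16518 := ded_12_1 (flp_e L181656) (flp_a L179485) L184846
theorem L184850 : sm gb N16865 = N16276 := ded_19_1 (flp_e L179547) (flp_b L179487) L184846
theorem L184852 : sm gg N16865 = N16290 := ded_36_2 (flp_e L179677) (flp_g L179489) L184846
theorem L184854 : sm gi N16865 = N16443 := ded_38_2 (flp_e L180967) (flp_i L179491) L184846
theorem L184856 : sm gd N16865 = N16271 := ded_30_1 (flp_e L179501) (flp_d L173470) (flp_e L173464) L179483 L184846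
theorem L184858 : sm ge N16270 = N16866 := rfl
theorem L184860 : sm ga N16866 = N16519 := ded_12_1 (flp_e L181662) (flp_a L179495) L184858
theorem L184862 : sm gc N16866 = N16271 := ded_25_1 (flp_e L179501) L179493 L184858
theorem L184864 : sm gg N16866 = N16291 := ded_36_2 (flp_e L179683) (flp_g L179497) L184858
theorem L184866 : sm gf N16271 = N16867 := rfl
theorem L184868 : sm ga N16867 = N16520 := ded_13_1 (flp_f L181668) (flp_a L179503) L184866
theorem L184870 : sm gb N16867 = N16277 := ded_20_1 (flp_f L179559) (flp_b L179505) L184866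
theorem L184872 : sm gd N16272 = N16868 := rfl
theorem L184874 : sm ga N16868 = N16400 := ded_11_1 (flp_d L180645) (flp_a L179511) L184872
theorem L184876 : sm gf N16868 = N16274 := ded_31_2 (flp_d L179527) (flp_f L179515) L184872
theorem L184878 : sm gc N16868 = N16390 := ded_24_1 (flp_d L180569) L174656 (flp_d L173790) (flp_c L179513) L184872
theorem L184880 : sm gh N16868 = N16275 := ded_33_2 (flp_d L179537) (flp_h L173506) (flp_d L173484) L179509 L184872
theorem L184882 : sm gd N16273 = N16869 := rfl
theorem L184884 : sm ga N16869 = N16401 := ded_11_1 (flp_d L180653) (flp_a L179519) L184882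
theorem L184886 : sm gg N16869 = N16297 := ded_32_2 (flp_d L179731) (flp_g L179523) L184882
theorem L184888 : sm gi N16869 = N16274 := ded_34_2 (flp_d L179527) (flp_i L179525) L184882
theorem L184890 : sm gc N16869 = N16391 := ded_24_1 (flp_d L180575) L174662 (flp_d L173799) (flp_c L179521) L184882
theorem L184892 : sm gh N16869 = N16435 := ded_33_2 L180931 L175167 (flp_d L173494) L179517 L184882
theorem L184894 : sm ge N16274 = N16870 := rfl
theorem L184896 : sm ga N16870 = N16402 := ded_12_1 (flp_e L180661) (flp_a L179529) L184894
theorem L184898 : sm gc N16870 = N16392 := ded_25_1 (flp_e L180581) (flp_c L179533) L184894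
theorem L184900 : sm gg N16870 = N16299 := ded_36_2 (flp_e L179749) (flp_g L179531) L184894
theorem L184902 : sm gh N16870 = N16276 := ded_37_2 (flp_e L179547) (flp_h L179535) L184894
theorem L184904 : sm ge N16275 = N16871 := rfl
theorem L184906 : sm ga N16871 = N16404 := ded_12_1 (flp_e L180677) (flp_a L179539) L184904
theorem L184908 : sm gc N16871 = N16394 := ded_25_1 (flp_e L180591) (flp_c L179545) L184904
theorem L184910 : sm gi N16871 = N16441 := ded_38_2 (flp_e L180959) (flp_i L179543) L184904
theorem L184912 : sm gf N16276 = N16872 := rfl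
theorem L184914 : sm ga N16872 = N16405 := ded_13_1 (flp_f L180681) (flp_a L179549) L184912
theorem L184916 : sm gc N16872 = N16395 := ded_26_1 (flp_f L180595) (flp_c L179551) L184912
theorem L184918 : sm gd N16872 = N16277 := ded_31_1 (flp_f L179559) (flp_d L179557) L184912
theorem L184920 : sm gi N16872 = N16444 := ded_41_2 (flp_f L180971) (flp_i L179555) L184912
theorem L184922 : sm gg N16277 = N16873 := rfl
theorem L184924 : sm ga N16873 = N16406 := ded_14_1 (flp_g L180687) (flp_a L179561) L184922
theorem L184926 : sm gf N16873 = N16305 := ded_39_1 (flp_g L179797) (flp_f L173731) (flp_g L173530) L179559 L184922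
theorem L184928 : sm gh N16278 = N16874 := rfl
theorem L184930 : sm ga N16874 = N16286 := ded_15_1 (flp_h L179650) (flp_a L179565) L184928
theorem L184932 : sm gb N16874 = N16410 := ded_22_1 (flp_h L180731) (flp_b L179567) L184928
theorem L184934 : sm gc N16874 = N16874 := ded_28_1 (flp_h L184928) L179569 L184928
theorem L184935 : sm ge N16874 = N16689 := ded_37_1 (flp_h L183217) (flp_e L179570) L184928
theorem L184937 : sm gf N16874 = N16714 := ded_40_1 (flp_h L183472) (flp_f L179572) L184928
theorem L184939 : sm gg N16874 = N16515 := ded_42_1 (flp_h L181637) (flp_g L179574) L184928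
theorem L184941 : sm gi N16874 = N16279 := ded_44_2 (flp_h L179576) (flp_i L173545) L173532 L179563 L184928
theorem L184943 : sm gd N16279 = N16875 := rfl
theorem L184945 : sm ga N16875 = N16287 := ded_11_1 (flp_d L179657) (flp_a L179578) L184943
theorem L184947 : sm gb N16875 = N16411 := ded_18_1 (flp_d L180743) (flp_b L179580) L184943
theorem L184949 : sm gg N16875 = N16516 := ded_32_2 (flp_d L181646) (flp_g L179585) L184943
theorem L184951 : sm gh N16875 = N16280 := ded_33_2 (flp_d L179587) (flp_h L173558) (flp_d L173552) L179576 L184943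
theorem L184953 : sm gc N16280 = N16876 := rfl
theorem L184955 : sm ga N16876 = N16289 := ded_10_1 (flp_c L179669) (flp_a L179589) L184953
theorem L184957 : sm gg N16876 = N16517 := ded_27_2 (flp_c L181652) (flp_g L179593) L184953
theorem L184959 : sm gi N16876 = N16586 := ded_29_2 (flp_c L183758) L183756 L184953
theorem L184961 : sm gd N16876 = N16318 := ded_24_2 (flp_c L179953) (flp_d L173976) (flp_c L173564) L179587 L184953
theorem L184963 : sm ge N16280 = N16877 := rfl
theorem L184965 : sm ga N16877 = N16290 := ded_12_1 (flp_e L179677) (flp_a L179589) L184963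
theorem L184967 : sm gb N16877 = N16414 := ded_19_1 (flp_e L180765) (flp_b L179591) L184963
theorem L184969 : sm gg N16877 = N16518 := ded_36_2 (flp_e L181656) (flp_g L179593) L184963
theorem L184971 : sm gd N16877 = N16282 := ded_30_1 (flp_e L179605) (flp_d L173570) (flp_e L173566) L179587 L184963
theorem L184973 : sm ge N16281 = N16878 := rfl
theorem L184975 : sm ga N16878 = N16291 := ded_12_1 (flp_e L179683) (flp_a L179597) L184973
theorem L184977 : sm gc N16878 = N16282 := ded_25_1 (flp_e L179605) L179595 L184973
theorem L184979 : sm gg N16878 = N16519 := ded_36_2 (flp_e L181662) (flp_g L179599) L184973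
theorem L184981 : sm gh N16878 = N16866 := ded_37_2 (flp_e L184858) (flp_h L179601) L184973
theorem L184983 : sm gf N16282 = N16879 := rfl
theorem L184985 : sm ga N16879 = N16292 := ded_13_1 (flp_f L179687) (flp_a L179607) L184983
theorem L184987 : sm gb N16879 = N16415 := ded_20_1 (flp_f L180773) (flp_b L179609) L184983
theorem L184989 : sm gh N16879 = N16867 := ded_40_2 (flp_f L184866) (flp_h L179613) L184983
theorem L184991 : sm gh N16283 = N16880 := rfl
theorem L184993 : sm ga N16880 = N16716 := ded_15_1 (flp_h L183490) (flp_a L179617) L184991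
theorem L184995 : sm gb N16880 = N16293 := ded_22_1 (flp_h L179691) (flp_b L179619) L184991
theorem L184997 : sm gc N16880 = N16880 := ded_28_1 (flp_h L184991) L179621 L184991
theorem L184998 : sm ge N16880 = N16285 := ded_37_1 (flp_h L179643) (flp_e L179624) L184991
theorem L185000 : sm gf N16880 = N16631 := ded_40_1 (flp_h L182582) (flp_f L179626) L184991
theorem L185002 : sm gi N16880 = N16630 := ded_44_2 (flp_h L182571) (flp_i L177147) L173591 L179615 L184991
theorem L185004 : sm gh N16284 = N16881 := rfl
theorem L185006 : sm ga N16881 = N16714 := ded_15_1 (flp_h L183472) (flp_a L179630) L185004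
theorem L185008 : sm gb N16881 = N16295 := ded_22_1 (flp_h L179709) (flp_b L179632) L185004
theorem L185010 : sm gc N16881 = N16881 := ded_28_1 (flp_h L185004) L179634 L185004
theorem L185011 : sm ge N16881 = N16630 := ded_37_1 (flp_h L182571) (flp_e L179637) L185004
theorem L185013 : sm gf N16881 = N16286 := ded_40_1 (flp_h L179650) (flp_f L179639) L185004
theorem L185015 : sm gg N16881 = N16880 := ded_42_1 (flp_h L184991) (flp_g L179641) L185004
theorem L185017 : sm gi N16881 = N16285 := ded_44_2 (flp_h L179643) (flp_i L173608) L173593 L179628 L185004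
theorem L185019 : sm gd N16285 = N16882 := rfl
theorem L185021 : sm gb N16882 = N16296 := ded_18_1 (flp_d L179723) (flp_b L179645) L185019
theorem L185023 : sm gf N16882 = N16287 := ded_31_2 (flp_d L179657) (flp_f L179648) L185019
theorem L185025 : sm gh N16882 = N16288 := ded_33_2 (flp_d L179663) (flp_h L173627) (flp_d L173613) L179643 L185019
theorem L185027 : sm gd N16286 = N16883 := rfl
theorem L185029 : sm gb N16883 = N16297 := ded_18_1 (flp_d L179731) (flp_b L179652) L185027
theorem L185031 : sm gi N16883 = N16287 := ded_34_2 (flp_d L179657) (flp_i L179655) L185027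
theorem L185033 : sm gc N16287 = N16884 := rfl
theorem L185035 : sm gh N16884 = N16289 := ded_28_2 (flp_c L179669) (flp_h L179661) L185033
theorem L185037 : sm gb N16884 = N16564 := ded_17_1 (flp_c L182013) L179747 (flp_c L179737) (flp_b L179659) L185033
theorem L185039 : sm gd N16884 = N16884 := ded_24_2 (flp_c L185033) (flp_d L179657) L173626 L179657 L185033
theorem L185040 : sm ge N16287 = N16885 := rfl
theorem L185042 : sm gb N16885 = N16299 := ded_19_1 (flp_e L179749) (flp_b L179659) L185040
theorem L185044 : sm gh N16885 = N16290 := ded_37_2 (flp_e L179677) (flp_h L179661) L185040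
theorem L185046 : sm gc N16288 = N16886 := rfl
theorem L185048 : sm gf N16886 = N16289 := ded_26_2 (flp_c L179669) (flp_f L179667) L185046
theorem L185050 : sm gi N16886 = N16583 := ded_29_2 (flp_c L182952) L182950 L185046
theorem L185052 : sm gb N16886 = N16566 := ded_17_1 (flp_c L182022) L179771 (flp_c L179761) (flp_b L179665) L185046
theorem L185054 : sm gd N16886 = N16319 := ded_24_2 (flp_c L179962) (flp_d L173995) (flp_c L173631) L179663 L185046
theorem L185056 : sm ge N16288 = N16887 := rfl
theorem L185058 : sm gb N16887 = N16302 := ded_19_1 (flp_e L179773) (flp_b L179665) L185056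
theorem L185060 : sm ge N16289 = N16888 := rfl
theorem L185062 : sm gb N16888 = N16568 := ded_19_1 (flp_e L182034) (flp_b L179673) L185060
theorem L185064 : sm gc N16888 = N16290 := ded_25_1 (flp_e L179677) L179669 L185060
theorem L185066 : sm gi N16888 = N16587 := ded_38_2 (flp_e L182136) (flp_i L179671) L185060
theorem L185068 : sm gf N16290 = N16889 := rfl
theorem L185070 : sm gb N16889 = N16304 := ded_20_1 (flp_f L179791) (flp_b L179679) L185068
theorem L185072 : sm gd N16889 = N16292 := ded_31_1 (flp_f L179687) (flp_d L179681) L185068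
theorem L185074 : sm gd N16291 = N16890 := rfl
theorem L185076 : sm ge N16890 = N16320 := ded_30_2 (flp_d L179971) (flp_e L174011) (flp_d L173641) L179683 L185074
theorem L185078 : sm gf N16291 = N16891 := rfl
theorem L185080 : sm gc N16891 = N16292 := ded_26_1 (flp_f L179687) (flp_c L179685) L185078
theorem L185082 : sm gg N16292 = N16892 := rfl
theorem L185084 : sm gb N16892 = N16305 := ded_21_1 (flp_g L179797) (flp_b L179689) L185082
theorem L185086 : sm gd N16293 = N16893 := rfl
theorem L185088 : sm ga N16893 = N16430 := ded_11_1 (flp_d L180895) (flp_a L179693) L185086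
theorem L185090 : sm gd N16294 = N16894 := rfl
theorem L185092 : sm ga N16894 = N16431 := ded_11_1 (flp_d L180897) (flp_a L179701) L185090
theorem L185094 : sm gg N16894 = N16296 := ded_32_2 (flp_d L179723) (flp_g L179705) L185090
theorem L185096 : sm gi N16894 = N16893 := ded_34_2 (flp_d L185086) (flp_i L179707) L185090
theorem L185098 : sm gh N16894 = N16300 := ded_33_2 (flp_d L179755) (flp_h L173699) (flp_d L173661) L179699 L185090
theorem L185100 : sm gd N16295 = N16895 := rfl
theorem L185102 : sm ga N16895 = N16432 := ded_11_1 (flp_d L180905) (flp_a L179711) L185100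
theorem L185104 : sm gf N16895 = N16297 := ded_31_2 (flp_d L179731) (flp_f L179717) L185100
theorem L185106 : sm gg N16895 = N16893 := ded_32_2 (flp_d L185086) (flp_g L179719) L185100
theorem L185108 : sm gi N16895 = N16296 := ded_34_2 (flp_d L179723) (flp_i L179721) L185100
theorem L185110 : sm gc N16296 = N16896 := rfl
theorem L185112 : sm ga N16896 = N16433 := ded_10_1 (flp_c L180913) (flp_a L179725) L185110
theorem L185114 : sm gf N16896 = N16298 := ded_26_2 (flp_c L179737) (flp_f L179727) L185110
theorem L185116 : sm gh N16896 = N16301 := ded_28_2 (flp_c L179761) (flp_h L179729) L185110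
theorem L185118 : sm gd N16896 = N16310 := ded_24_2 (flp_c L179857) (flp_d L173832) (flp_c L173681) L179723 L185110
theorem L185120 : sm gb N16562 = N16896 := ded_9_0 L185112 (flp_b L180921) L180002 (flp_b L183668) L183666
theorem L185122 : sm ge N16296 = N16897 := rfl
theorem L185124 : sm ga N16897 = N16434 := ded_12_1 (flp_e L180923) (flp_a L179725) L185122
theorem L185126 : sm gh N16897 = N16302 := ded_37_2 (flp_e L179773) (flp_h L179729) L185122
theorem L185128 : sm gc N16297 = N16898 := rfl
theorem L185130 : sm ga N16898 = N16435 := ded_10_1 (flp_c L180927) (flp_a L179733) L185128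
theorem L185132 : sm gg N16898 = N16391 := ded_27_2 (flp_c L184890) L184886 L185128
theorem L185134 : sm gh N16898 = N16401 := ded_28_2 (flp_c L184758) L184760 L185128
theorem L185136 : sm gi N16898 = N16298 := ded_29_2 (flp_c L179737) (flp_i L179735) L185128
theorem L185138 : sm gd N16898 = N16311 := ded_24_2 (flp_c L179869) (flp_d L173843) (flp_c L173689) L179731 L185128
theorem L185140 : sm gb N16563 = N16898 := ded_22_3 L185134 L180655 (flp_h L182011)
theorem L185142 : sm ge N16297 = N16899 := rfl
theorem L185144 : sm ga N16899 = N16436 := ded_12_1 (flp_e L180933) (flp_a L179733) L185142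
theorem L185146 : sm gi N16899 = N16299 := ded_38_2 (flp_e L179749) (flp_i L179735) L185142
theorem L185148 : sm ge N16298 = N16900 := rfl
theorem L185150 : sm ga N16900 = N16438 := ded_12_1 (flp_e L180945) (flp_a L179739) L185148
theorem L185152 : sm gb N16900 = N16565 := ded_19_1 (flp_e L182018) L179747 L185148
theorem L185154 : sm gc N16900 = N16299 := ded_25_1 (flp_e L179749) L179737 L185148
theorem L185156 : sm gg N16900 = N16392 := ded_36_2 (flp_e L180581) (flp_g L179741) L185148
theorem L185158 : sm gh N16900 = N16303 := ded_37_2 (flp_e L179777) (flp_h L179743) L185148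
theorem L185160 : sm gf N16299 = N16901 := rfl
theorem L185162 : sm ga N16901 = N16439 := ded_13_1 (flp_f L180951) (flp_a L179751) L185160
theorem L185164 : sm gh N16901 = N16304 := ded_40_2 (flp_f L179791) (flp_h L179753) L185160
theorem L185166 : sm ge N16300 = N16902 := rfl
theorem L185168 : sm ga N16902 = N16440 := ded_12_1 (flp_e L180955) (flp_a L179757) L185166
theorem L185170 : sm gg N16902 = N16302 := ded_36_2 (flp_e L179773) (flp_g L179759) L185166
theorem L185172 : sm ge N16301 = N16903 := rfl
theorem L185174 : sm ga N16903 = N16441 := ded_12_1 (flp_e L180959) (flp_a L179763) L185172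
theorem L185176 : sm gb N16903 = N16567 := ded_19_1 (flp_e L182030) L179771 L185172
theorem L185178 : sm gc N16903 = N16302 := ded_25_1 (flp_e L179773) L179761 L185172
theorem L185180 : sm gi N16903 = N16404 := ded_38_2 (flp_e L180677) (flp_i L179767) L185172
theorem L185182 : sm gf N16302 = N16904 := rfl
theorem L185184 : sm ga N16904 = N16442 := ded_13_1 (flp_f L180963) (flp_a L179775) L185182
theorem L185186 : sm ge N16904 = N16304 := ded_35_1 (flp_f L179791) (flp_e L173725) (flp_f L173711) L179773 L185182
theorem L185188 : sm gf N16303 = N16905 := rfl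
theorem L185190 : sm ga N16905 = N16444 := ded_13_1 (flp_f L180971) (flp_a L179779) L185188
theorem L185192 : sm gb N16905 = N16569 := ded_20_1 (flp_f L182040) (flp_b L179781) L185188
theorem L185194 : sm gc N16905 = N16304 := ded_26_1 (flp_f L179791) (flp_c L179783) L185188
theorem L185196 : sm gd N16905 = N16373 := ded_31_1 (flp_f L180413) (flp_d L179789) L185188
theorem L185198 : sm gi N16905 = N16405 := ded_41_2 (flp_f L180681) (flp_i L179787) L185188
theorem L185200 : sm gg N16304 = N16906 := rfl
theorem L185202 : sm ga N16906 = N16445 := ded_14_1 (flp_g L180975) (flp_a L179793) L185200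
theorem L185204 : sm gd N16906 = N16305 := ded_32_1 (flp_g L179797) (flp_d L179795) L185200
theorem L185206 : sm gd N16306 = N16907 := rfl
theorem L185208 : sm ga N16907 = N16446 := ded_11_1 (flp_d L180979) (flp_a L179803) L185206
theorem L185210 : sm gb N16907 = N16907 := ded_18_1 (flp_d L185206) L179805 L185206
theorem L185211 : sm gg N16907 = N16535 := ded_32_2 (flp_d L181779) (flp_g L179808) L185206
theorem L185213 : sm gi N16907 = N16534 := ded_34_2 (flp_d L181768) (flp_i L179810) L185206
theorem L185215 : sm ge N16907 = N16497 := ded_30_2 (flp_d L181493) L175925 (flp_d L173790) (flp_e L179806) L185206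
theorem L185217 : sm gh N16907 = N16907 := ded_33_2 (flp_d L185206) (flp_h L179801) L173752 L179801 L185206
theorem L185218 : sm ge N16311 = N16908 := rfl
theorem L185220 : sm ga N16908 = N16356 := ded_12_1 L180285 (flp_a L179871) L185218
theorem L185222 : sm gb N16908 = N16549 := ded_19_1 L181901 L179879 L185218
theorem L185224 : sm gc N16908 = N16312 := ded_25_1 (flp_e L179881) L179869 L185218
theorem L185226 : sm gg N16908 = N16362 := ded_36_2 L180351 (flp_g L179873) L185218
theorem L185228 : sm gh N16908 = N16346 := ded_37_2 L180177 (flp_h L179875) L185218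
theorem L185230 : sm gi N16908 = N16313 := ded_38_2 (flp_e L179894) (flp_i L179877) L185218
theorem L185232 : sm gf N16908 = N16351 := ded_35_2 L180226 (flp_f L177816) (flp_e L183167) L183169 L185218
theorem L185234 : sm gd N16313 = N16909 := rfl
theorem L185236 : sm ga N16909 = N16452 := ded_11_1 (flp_d L181062) (flp_a L179896) L185234
theorem L185238 : sm gb N16909 = N16550 := ded_18_1 (flp_d L181905) (flp_b L179898) L185234
theorem L185240 : sm gf N16909 = N16824 := ded_31_2 (flp_d L184463) (flp_f L179906) L185234
theorem L185242 : sm gg N16909 = N16363 := ded_32_2 (flp_d L180355) (flp_g L179902) L185234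
theorem L185244 : sm gh N16909 = N16347 := ded_33_2 (flp_d L180183) (flp_h L174261) (flp_d L173914) (flp_h L179904) L185234
theorem L185246 : sm gd N16317 = N16910 := rfl
theorem L185248 : sm ga N16910 = N16546 := ded_11_1 (flp_d L181878) (flp_a L179941) L185246
theorem L185250 : sm gb N16910 = N16527 := ded_18_1 L181730 (flp_b L179943) L185246
theorem L185252 : sm gf N16910 = N16529 := ded_31_2 L181738 (flp_f L179951) L185246
theorem L185254 : sm gg N16910 = N16320 := ded_32_2 (flp_d L179971) (flp_g L179947) L185246
theorem L185256 : sm gh N16320 = N16911 := rfl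
theorem L185258 : sm gd N16911 = N16322 := ded_33_1 (flp_h L179987) (flp_d L174030) (flp_h L174015) L179971 L185256
theorem L185260 : sm gh N16321 = N16912 := rfl
theorem L185262 : sm ga N16912 = N16547 := ded_15_1 (flp_h L181880) (flp_a L179975) L185260
theorem L185264 : sm gb N16912 = N16536 := ded_22_1 L181799 (flp_b L179977) L185260
theorem L185266 : sm gc N16912 = N16912 := ded_28_1 (flp_h L185260) L179984 L185260
theorem L185267 : sm ge N16912 = N16798 := ded_37_1 L184190 (flp_e L179985) L185260
theorem L185269 : sm gf N16912 = N16539 := ded_40_1 L181824 (flp_f L179979) L185260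
theorem L185271 : sm gg N16912 = N16322 := ded_42_1 (flp_h L179987) (flp_g L179981) L185260
theorem L185273 : sm gi N16322 = N16913 := rfl
theorem L185275 : sm gc N16913 = N16913 := ded_29_1 (flp_i L185273) L179989 L185273
theorem L185276 : sm gh N16913 = N16913 := ded_44_1 (flp_i L185273) (flp_h L179987) L174032 L179987 L185273
theorem L185277 : sm ge N16323 = N16914 := rfl
theorem L185279 : sm gb N16914 = N16325 := ded_19_1 (flp_e L180010) (flp_b L179992) L185277
theorem L185281 : sm gh N16914 = N16327 := ded_37_2 (flp_e L180030) (flp_h L179998) L185277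
theorem L185283 : sm gi N16914 = N16688 := ded_38_2 (flp_e L183211) (flp_i L179996) L185277
theorem L185285 : sm gc N16324 = N16915 := rfl
theorem L185287 : sm ga N16915 = N16741 := ded_10_1 (flp_c L183732) (flp_a L180002) L185285
theorem L185289 : sm gg N16915 = N16663 := ded_27_2 (flp_c L182926) (flp_g L180004) L185285
theorem L185291 : sm gh N16915 = N16646 := ded_28_2 (flp_c L182750) (flp_h L180008) L185285
theorem L185293 : sm gi N16915 = N16693 := ded_29_2 (flp_c L183254) (flp_i L180006) L185285
theorem L185295 : sm gd N16915 = N16326 := ded_24_2 (flp_c L180018) (flp_d L174066) (flp_c L174048) L180000 L185285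
theorem L185297 : sm ge N16324 = N16916 := rfl
theorem L185299 : sm ga N16916 = N16742 := ded_12_1 (flp_e L183740) (flp_a L180002) L185297
theorem L185301 : sm gg N16916 = N16664 := ded_36_2 (flp_e L182934) (flp_g L180004) L185297
theorem L185303 : sm gh N16916 = N16647 := ded_37_2 (flp_e L182762) (flp_h L180008) L185297
theorem L185305 : sm gi N16916 = N16694 := ded_38_2 (flp_e L183258) (flp_i L180006) L185297
theorem L185307 : sm gd N16916 = N16325 := ded_30_1 (flp_e L180010) (flp_d L174056) (flp_e L174050) L180000 L185297
theorem L185309 : sm gf N16325 = N16917 := rfl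
theorem L185311 : sm gc N16917 = N16368 := ded_26_1 (flp_f L180381) (flp_c L180012) L185309
theorem L185313 : sm gh N16917 = N16328 := ded_40_2 (flp_f L180036) (flp_h L180014) L185309
theorem L185315 : sm gi N16917 = N16695 := ded_41_2 (flp_f L183262) (flp_i L180016) L185309
theorem L185317 : sm ge N16917 = N16555 := ded_35_1 (flp_f L181941) (flp_e L176424) (flp_f L174058) L180010 L185309
theorem L185319 : sm gf N16327 = N16918 := rfl
theorem L185321 : sm gb N16918 = N16328 := ded_20_1 (flp_f L180036) (flp_b L180032) L185319
theorem L185323 : sm gi N16918 = N16336 := ded_41_2 (flp_f L180096) (flp_i L180034) L185319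
theorem L185325 : sm ge N16918 = N16373 := ded_35_1 (flp_f L180413) (flp_e L174497) (flp_f L174084) L180030 L185319
theorem L185327 : sm gg N16328 = N16919 := rfl
theorem L185329 : sm gc N16919 = N16396 := ded_27_1 (flp_g L180601) (flp_c L180038) L185327
theorem L185331 : sm ge N16919 = N16570 := ded_36_1 (flp_g L182046) (flp_e L180042) L185327
theorem L185333 : sm gi N16919 = N16344 := ded_43_2 (flp_g L180156) (flp_i L180040) L185327
theorem L185335 : sm gg N16329 = N16920 := rfl
theorem L185337 : sm gc N16920 = N16406 := ded_27_1 (flp_g L180687) (flp_c L180046) L185335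
theorem L185339 : sm gh N16920 = N16749 := ded_42_2 (flp_g L183800) (flp_h L180048) L185335
theorem L185341 : sm gf N16920 = N16344 := ded_39_1 (flp_g L180156) (flp_f L174207) (flp_g L174098) L180044 L185335
theorem L185343 : sm gd N16330 = N16921 := rfl
theorem L185345 : sm gb N16921 = N16339 := ded_18_1 (flp_d L180126) (flp_b L180052) L185343
theorem L185347 : sm gf N16921 = N16332 := ded_31_2 (flp_d L180074) (flp_f L180055) L185343
theorem L185349 : sm gi N16921 = N16859 := ded_34_2 (flp_d L184796) (flp_i L180057) L185343
theorem L185351 : sm gh N16921 = N16333 := ded_33_2 (flp_d L180080) (flp_h L174133) (flp_d L174107) L180050 L185343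
theorem L185353 : sm gd N16331 = N16922 := rfl
theorem L185355 : sm ga N16922 = N16921 := ded_11_1 (flp_d L185343) (flp_a L180061) L185353
theorem L185357 : sm gb N16922 = N16340 := ded_18_1 (flp_d L180132) (flp_b L180063) L185353
theorem L185359 : sm gf N16922 = N16859 := ded_31_2 (flp_d L184796) (flp_f L180068) L185353
theorem L185361 : sm gg N16922 = N16612 := ded_32_2 (flp_d L182359) (flp_g L180070) L185353
theorem L185363 : sm gi N16922 = N16332 := ded_34_2 (flp_d L180074) (flp_i L180072) L185353
theorem L185365 : sm gh N16922 = N16620 := ded_33_2 (flp_d L182449) (flp_h L177019) (flp_d L174118) L180059 L185353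
theorem L185367 : sm gc N16332 = N16923 := rfl
theorem L185369 : sm gh N16923 = N16334 := ded_28_2 (flp_c L180086) (flp_h L180078) L185367
theorem L185371 : sm gd N16923 = N16923 := ded_24_2 (flp_c L185367) (flp_d L180074) L174130 L180074 L185367
theorem L185372 : sm ge N16332 = N16924 := rfl
theorem L185374 : sm gb N16924 = N16341 := ded_19_1 (flp_e L180142) (flp_b L180076) L185372
theorem L185376 : sm gh N16924 = N16335 := ded_37_2 (flp_e L180090) (flp_h L180078) L185372
theorem L185378 : sm gd N16924 = N16765 := ded_30_1 (flp_e L183962) (flp_d L178492) (flp_e L174131) L180074 L185372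
theorem L185380 : sm gc N16333 = N16925 := rfl
theorem L185382 : sm gf N16925 = N16334 := ded_26_2 (flp_c L180086) (flp_f L180084) L185380
theorem L185384 : sm gd N16925 = N16345 := ded_24_2 (flp_c L180164) (flp_d L174237) (flp_c L174137) L180080 L185380
theorem L185386 : sm ge N16333 = N16926 := rfl
theorem L185388 : sm gb N16926 = N16342 := ded_19_1 (flp_e L180148) (flp_b L180082) L185386
theorem L185390 : sm gd N16926 = N16404 := ded_30_1 (flp_e L180677) (flp_d L174766) (flp_e L174139) L180080 L185386
theorem L185392 : sm ge N16334 = N16927 := rfl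
theorem L185394 : sm gc N16927 = N16335 := ded_25_1 (flp_e L180090) L180086 L185392
theorem L185396 : sm gf N16335 = N16928 := rfl
theorem L185398 : sm gb N16928 = N16343 := ded_20_1 (flp_f L180152) (flp_b L180092) L185396
theorem L185400 : sm gd N16928 = N16336 := ded_31_1 (flp_f L180096) (flp_d L180094) L185396
theorem L185402 : sm gg N16336 = N16929 := rfl
theorem L185404 : sm gb N16929 = N16344 := ded_21_1 (flp_g L180156) (flp_b L180098) L185402
theorem L185406 : sm ge N16929 = N16406 := ded_36_1 (flp_g L180687) (flp_e L180102) L185402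
theorem L185408 : sm gh N16929 = N16772 := ded_42_2 (flp_g L184010) (flp_h L180100) L185402
theorem L185410 : sm gd N16337 = N16930 := rfl
theorem L185412 : sm gf N16930 = N16773 := ded_31_2 (flp_d L184016) (flp_f L180110) L185410
theorem L185414 : sm gc N16930 = N16893 := ded_24_1 (flp_d L185086) L179695 (flp_d L174222) (flp_c L180106) L185410
theorem L185416 : sm gh N16930 = N16571 := ded_33_2 (flp_d L182050) (flp_h L176519) (flp_d L174157) L180104 L185410
theorem L185418 : sm gd N16338 = N16931 := rfl
theorem L185420 : sm ga N16931 = N16681 := ded_11_1 (flp_d L183123) (flp_a L180114) L185418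
theorem L185422 : sm gb N16931 = N16859 := ded_18_1 (flp_d L184796) (flp_b L180116) L185418
theorem L185424 : sm gf N16931 = N16340 := ded_31_2 (flp_d L180132) (flp_f L180120) L185418
theorem L185426 : sm gg N16931 = N16822 := ded_32_2 (flp_d L184441) (flp_g L180122) L185418
theorem L185428 : sm gi N16931 = N16339 := ded_34_2 (flp_d L180126) (flp_i L180124) L185418
theorem L185430 : sm gc N16931 = N16685 := ded_24_1 (flp_d L183175) L177814 (flp_d L174233) (flp_c L180118) L185418
theorem L185432 : sm gh N16931 = N16619 := ded_33_2 (flp_d L182435) (flp_h L177003) (flp_d L174171) L180112 L185418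
theorem L185434 : sm ge N16339 = N16932 := rfl
theorem L185436 : sm gh N16932 = N16342 := ded_37_2 (flp_e L180148) (flp_h L180130) L185434
theorem L185438 : sm ge N16340 = N16933 := rfl
theorem L185440 : sm ga N16933 = N16683 := ded_12_1 (flp_e L183151) (flp_a L180134) L185438
theorem L185442 : sm gg N16933 = N16616 := ded_36_2 (flp_e L182404) (flp_g L180136) L185438
theorem L185444 : sm gh N16933 = N16623 := ded_37_2 (flp_e L182488) (flp_h L180140) L185438
theorem L185446 : sm gi N16933 = N16341 := ded_38_2 (flp_e L180142) (flp_i L180138) L185438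
theorem L185448 : sm gd N16933 = N16779 := ded_30_1 (flp_e L184050) (flp_d L178562) (flp_e L174189) L180132 L185438
theorem L185450 : sm gf N16341 = N16934 := rfl
theorem L185452 : sm gd N16934 = N16782 := ded_31_1 (flp_f L184066) (flp_d L180146) L185450
theorem L185454 : sm gh N16934 = N16343 := ded_40_2 (flp_f L180152) (flp_h L180144) L185450
theorem L185456 : sm gf N16342 = N16935 := rfl
theorem L185458 : sm gd N16935 = N16585 := ded_31_1 (flp_f L182128) (flp_d L180150) L185456
theorem L185460 : sm ge N16935 = N16343 := ded_35_1 (flp_f L180152) (flp_e L174203) (flp_f L174201) L180148 L185456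
theorem L185462 : sm gg N16343 = N16936 := rfl
theorem L185464 : sm gd N16936 = N16344 := ded_32_1 (flp_g L180156) (flp_d L180154) L185462
theorem L185466 : sm gc N16347 = N16937 := rfl
theorem L185468 : sm ga N16937 = N16803 := ded_10_1 (flp_c L184469) L184465 L185466
theorem L185470 : sm gf N16937 = N16601 := ded_26_2 L182242 L181064 L185466
theorem L185472 : sm gg N16937 = N16366 := ded_27_2 (flp_c L180373) (flp_g L180187) L185466
theorem L185474 : sm gd N16937 = N16349 := ded_24_2 (flp_c L180197) (flp_d L174279) (flp_c L174265) L180183 L185466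
theorem L185476 : sm ge N16347 = N16938 := rfl
theorem L185478 : sm gb N16938 = N16554 := ded_19_1 (flp_e L181935) (flp_b L180185) L185476
theorem L185480 : sm gg N16938 = N16367 := ded_36_2 (flp_e L180377) (flp_g L180187) L185476
theorem L185482 : sm gd N16938 = N16348 := ded_30_1 (flp_e L180189) (flp_d L174271) (flp_e L174267) L180183 L185476
theorem L185484 : sm gf N16348 = N16939 := rfl
theorem L185486 : sm gb N16939 = N16555 := ded_20_1 (flp_f L181941) (flp_b L180191) L185484
theorem L185488 : sm gh N16939 = N16373 := ded_40_2 (flp_f L180413) (flp_h L180195) L185484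
theorem L185490 : sm gb N16349 = N16940 := rfl
theorem L185492 : sm ge N16940 = N16674 := ded_19_2 (flp_b L183031) (flp_e L180201) L185490
theorem L185494 : sm gf N16940 = N16600 := ded_20_2 L182234 (flp_f L180203) L185490
theorem L185496 : sm gg N16940 = N16372 := ded_21_2 (flp_b L180407) (flp_g L180205) L185490
theorem L185498 : sm gh N16940 = N16485 := ded_22_2 (flp_b L181370) (flp_h L180207) L185490
theorem L185500 : sm gc N16940 = N16458 := ded_17_2 (flp_b L181115) (flp_c L175319) (flp_b L174283) L180197 L185490
theorem L185502 : sm gh N16350 = N16941 := rfl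
theorem L185504 : sm ga N16941 = N16355 := ded_15_1 (flp_h L180270) (flp_a L180211) L185502
theorem L185506 : sm gc N16941 = N16941 := ded_28_1 (flp_h L185502) L180213 L185502
theorem L185507 : sm ge N16941 = N16375 := ded_37_1 (flp_h L180432) (flp_e L180216) L185502
theorem L185509 : sm gg N16941 = N16501 := ded_42_1 (flp_h L181529) (flp_g L180218) L185502
theorem L185511 : sm gd N16351 = N16942 := rfl
theorem L185513 : sm ga N16942 = N16357 := ded_11_1 (flp_d L180291) (flp_a L180222) L185511
theorem L185515 : sm gg N16942 = N16503 := ded_32_2 (flp_d L181552) (flp_g L180228) L185511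
theorem L185517 : sm gi N16942 = N16824 := ded_34_2 (flp_d L184463) (flp_i L180230) L185511
theorem L185519 : sm ge N16352 = N16943 := rfl
theorem L185521 : sm ga N16943 = N16358 := ded_12_1 (flp_e L180299) (flp_a L180234) L185519
theorem L185523 : sm gc N16943 = N16933 := ded_25_1 (flp_e L185438) (flp_c L180240) L185519
theorem L185525 : sm gg N16943 = N16504 := ded_36_2 (flp_e L181558) (flp_g L180236) L185519
theorem L185527 : sm gh N16943 = N16377 := ded_37_2 (flp_e L180447) (flp_h L180242) L185519
theorem L185529 : sm gi N16943 = N16825 := ded_38_2 (flp_e L184473) (flp_i L180238) L185519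
theorem L185531 : sm gh N16353 = N16944 := rfl
theorem L185533 : sm gb N16944 = N16361 := ded_22_1 (flp_h L180339) (flp_b L180246) L185531
theorem L185535 : sm gc N16944 = N16944 := ded_28_1 (flp_h L185531) L180248 L185531
theorem L185536 : sm gf N16944 = N16355 := ded_40_1 (flp_h L180270) (flp_f L180251) L185531
theorem L185538 : sm gg N16944 = N16828 := ded_42_1 (flp_h L184510) (flp_g L180253) L185531
theorem L185540 : sm gi N16944 = N16941 := ded_44_2 (flp_h L185502) (flp_i L180209) L174331 L180244 L185531
theorem L185542 : sm gh N16354 = N16945 := rfl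
theorem L185544 : sm ga N16945 = N16944 := ded_15_1 (flp_h L185531) (flp_a L180257) L185542
theorem L185546 : sm gb N16945 = N16362 := ded_22_1 (flp_h L180347) (flp_b L180259) L185542
theorem L185548 : sm gc N16945 = N16945 := ded_28_1 (flp_h L185542) L180261 L185542
theorem L185549 : sm ge N16945 = N16381 := ded_37_1 (flp_h L180488) (flp_e L180264) L185542
theorem L185551 : sm gf N16945 = N16941 := ded_40_1 (flp_h L185502) (flp_f L180266) L185542
theorem L185553 : sm gg N16945 = N16549 := ded_42_1 (flp_h L181898) (flp_g L180268) L185542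
theorem L185555 : sm gi N16945 = N16355 := ded_44_2 (flp_h L180270) (flp_i L174348) L174333 L180255 L185542
theorem L185557 : sm gd N16355 = N16946 := rfl
theorem L185559 : sm gb N16946 = N16363 := ded_18_1 (flp_d L180355) (flp_b L180272) L185557
theorem L185561 : sm gg N16946 = N16550 := ded_32_2 (flp_d L181905) (flp_g L180277) L185557
theorem L185563 : sm gh N16946 = N16357 := ded_33_2 (flp_d L180291) (flp_h L174369) (flp_d L174353) L180270 L185557
theorem L185565 : sm gd N16356 = N16947 := rfl
theorem L185567 : sm gb N16947 = N16365 := ded_18_1 (flp_d L180369) (flp_b L180281) L185565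
theorem L185569 : sm gf N16947 = N16357 := ded_31_2 (flp_d L180291) (flp_f L180287) L185565
theorem L185571 : sm gi N16947 = N16452 := ded_34_2 (flp_d L181062) (flp_i L180289) L185565
theorem L185573 : sm gc N16357 = N16948 := rfl
theorem L185575 : sm gg N16948 = N16553 := ded_27_2 (flp_c L181929) (flp_g L180295) L185573
theorem L185577 : sm gi N16948 = N16937 := ded_29_2 (flp_c L185466) (flp_i L180297) L185573
theorem L185579 : sm gd N16948 = N16459 := ded_24_2 (flp_c L181125) (flp_d L175366) (flp_c L174373) L180291 L185573
theorem L185581 : sm ge N16357 = N16949 := rfl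
theorem L185583 : sm gb N16949 = N16367 := ded_19_1 (flp_e L180377) (flp_b L180293) L185581
theorem L185585 : sm gg N16949 = N16554 := ded_36_2 (flp_e L181935) (flp_g L180295) L185581
theorem L185587 : sm gi N16949 = N16938 := ded_38_2 (flp_e L185476) (flp_i L180297) L185581
theorem L185589 : sm gd N16949 = N16358 := ded_30_1 (flp_e L180299) (flp_d L174381) (flp_e L174375) L180291 L185581
theorem L185591 : sm gf N16358 = N16950 := rfl
theorem L185593 : sm gb N16950 = N16368 := ded_20_1 (flp_f L180381) (flp_b L180301) L185591
theorem L185595 : sm gh N16950 = N16386 := ded_40_2 (flp_f L180531) (flp_h L180305) L185591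
theorem L185597 : sm gi N16950 = N16939 := ded_41_2 (flp_f L185484) (flp_i L180307) L185591
theorem L185599 : sm gh N16359 = N16951 := rfl
theorem L185601 : sm ga N16951 = N16691 := ded_15_1 (flp_h L183234) (flp_a L180311) L185599
theorem L185603 : sm gc N16951 = N16486 := ded_28_1 (flp_h L181381) (flp_c L180313) L185599
theorem L185605 : sm ge N16951 = N16361 := ded_37_1 (flp_h L180339) (flp_e L180317) L185599
theorem L185607 : sm gf N16951 = N16387 := ded_40_1 (flp_h L180537) (flp_f L180319) L185599
theorem L185609 : sm gg N16951 = N16614 := ded_42_1 (flp_h L182382) (flp_g L180321) L185599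
theorem L185611 : sm gi N16951 = N16739 := ded_44_2 (flp_h L183710) (flp_i L178272) L174403 L180309 L185599
theorem L185613 : sm gh N16360 = N16952 := rfl
theorem L185615 : sm ga N16952 = N16551 := ded_15_1 (flp_h L181909) (flp_a L180325) L185613
theorem L185617 : sm gb N16952 = N16941 := ded_22_1 (flp_h L185502) (flp_b L180327) L185613
theorem L185619 : sm gc N16952 = N16487 := ded_28_1 (flp_h L181394) (flp_c L180329) L185613
theorem L185621 : sm ge N16952 = N16739 := ded_37_1 (flp_h L183710) (flp_e L180333) L185613
theorem L185623 : sm gf N16952 = N16362 := ded_40_1 (flp_h L180347) (flp_f L180335) L185613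
theorem L185625 : sm gg N16952 = N16502 := ded_42_1 (flp_h L181538) (flp_g L180337) L185613
theorem L185627 : sm gi N16952 = N16361 := ded_44_2 (flp_h L180339) (flp_i L174421) L174405 L180323 L185613
theorem L185629 : sm gd N16361 = N16953 := rfl
theorem L185631 : sm gf N16953 = N16363 := ded_31_2 (flp_d L180355) (flp_f L180343) L185629
theorem L185633 : sm gg N16953 = N16834 := ded_32_2 (flp_d L184562) (flp_g L180345) L185629
theorem L185635 : sm gh N16953 = N16365 := ded_33_2 (flp_d L180369) (flp_h L174455) (flp_d L174425) L180339 L185629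
theorem L185637 : sm gd N16362 = N16954 := rfl
theorem L185639 : sm gi N16954 = N16363 := ded_34_2 (flp_d L180355) (flp_i L180353) L185637
theorem L185641 : sm gc N16363 = N16955 := rfl
theorem L185643 : sm gh N16955 = N16366 := ded_28_2 (flp_c L180373) (flp_h L180357) L185641
theorem L185645 : sm gd N16955 = N16490 := ded_24_2 (flp_c L181428) (flp_d L175874) (flp_c L174439) L180355 L185641
theorem L185647 : sm ge N16363 = N16956 := rfl
theorem L185649 : sm gh N16956 = N16367 := ded_37_2 (flp_e L180377) (flp_h L180357) L185647
theorem L185651 : sm gd N16956 = N16392 := ded_30_1 (flp_e L180581) (flp_d L174666) (flp_e L174441) L180355 L185647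
theorem L185653 : sm gd N16364 = N16957 := rfl
theorem L185655 : sm ga N16957 = N16953 := ded_11_1 (flp_d L185629) (flp_a L180361) L185653
theorem L185657 : sm gf N16957 = N16833 := ded_31_2 (flp_d L184554) (flp_f L180365) L185653
theorem L185659 : sm gg N16957 = N16365 := ded_32_2 (flp_d L180369) (flp_g L180367) L185653
theorem L185661 : sm gh N16957 = N16834 := ded_33_2 (flp_d L184562) (flp_h L179255) (flp_d L174449) L180359 L185653
theorem L185663 : sm gc N16365 = N16958 := rfl
theorem L185665 : sm gf N16958 = N16366 := ded_26_2 (flp_c L180373) (flp_f L180371) L185663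
theorem L185667 : sm gd N16958 = N16370 := ded_24_2 (flp_c L180395) (flp_d L174473) (flp_c L174457) L180369 L185663
theorem L185669 : sm ge N16365 = N16959 := rfl
theorem L185671 : sm gb N16366 = N16960 := rfl
theorem L185673 : sm gd N16960 = N16372 := ded_18_2 (flp_b L180407) (flp_d L180375) L185671
theorem L185675 : sm ge N16366 = N16961 := rfl
theorem L185677 : sm gc N16961 = N16367 := ded_25_1 (flp_e L180377) L180373 L185675
theorem L185679 : sm gf N16367 = N16962 := rfl
theorem L185681 : sm gd N16962 = N16368 := ded_31_1 (flp_f L180381) (flp_d L180379) L185679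
theorem L185683 : sm gg N16368 = N16963 := rfl
theorem L185685 : sm gh N16963 = N16396 := ded_42_2 (flp_g L180601) (flp_h L180383) L185683
theorem L185687 : sm gc N16369 = N16964 := rfl
theorem L185689 : sm gf N16964 = N16478 := ded_26_2 L181310 (flp_f L180389) L185687
theorem L185691 : sm gg N16964 = N16370 := ded_27_2 (flp_c L180395) (flp_g L180391) L185687
theorem L185693 : sm gh N16964 = N16480 := ded_28_2 L181327 (flp_h L180393) L185687
theorem L185695 : sm gb N16370 = N16965 := rfl
theorem L185697 : sm gf N16965 = N16372 := ded_20_2 (flp_b L180407) (flp_f L180397) L185695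
theorem L185699 : sm gh N16965 = N16494 := ded_22_2 (flp_b L181466) (flp_h L180399) L185695
theorem L185701 : sm gc N16965 = N16461 := ded_17_2 (flp_b L181141) (flp_c L175407) (flp_b L174475) L180395 L185695
theorem L185703 : sm ge N16964 = N16965 := ded_35_5 L185697 (flp_e L181272) L181274 L181308 (flp_f L185689)
theorem L185705 : sm ge N16370 = N16966 := rfl
theorem L185707 : sm gb N16966 = N16964 := ded_19_1 L185703 (flp_b L185695) L185705
theorem L185709 : sm gc N16966 = N16371 := ded_25_1 (flp_e L180401) L180395 L185705
theorem L185711 : sm gg N16966 = N16965 := ded_36_2 (flp_e L185703) L185691 L185705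
theorem L185713 : sm gh N16966 = N16495 := ded_37_2 (flp_e L181475) (flp_h L180399) L185705
theorem L185715 : sm ga N16372 = N16967 := rfl
theorem L185717 : sm gc N16967 = N16462 := ded_10_2 (flp_a L181151) (flp_c L180411) L185715
theorem L185719 : sm gh N16967 = N16496 := ded_15_2 (flp_a L181486) (flp_h L180409) L185715
theorem L185721 : sm gg N16373 = N16968 := rfl
theorem L185723 : sm gb N16968 = N16570 := ded_21_1 (flp_g L182046) (flp_b L180415) L185721
theorem L185725 : sm gi N16968 = N16406 := ded_43_2 (flp_g L180687) (flp_i L180417) L185721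
theorem L185727 : sm gf N16968 = N16396 := ded_39_1 (flp_g L180601) (flp_f L174690) (flp_g L174501) L180413 L185721
theorem L185729 : sm gh N16374 = N16969 := rfl
theorem L185731 : sm ga N16969 = N16381 := ded_15_1 (flp_h L180488) (flp_a L180421) L185729
theorem L185733 : sm gb N16969 = N16951 := ded_22_1 (flp_h L185599) (flp_b L180423) L185729
theorem L185735 : sm gc N16969 = N16969 := ded_28_1 (flp_h L185729) L180425 L185729
theorem L185736 : sm ge N16969 = N16944 := ded_37_1 (flp_h L185531) (flp_e L180428) L185729
theorem L185738 : sm gg N16969 = N16509 := ded_42_1 (flp_h L181595) (flp_g L180430) L185729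
theorem L185740 : sm gi N16969 = N16375 := ded_44_2 (flp_h L180432) (flp_i L174518) L174505 L180419 L185729
theorem L185742 : sm gd N16375 = N16970 := rfl
theorem L185744 : sm ga N16970 = N16382 := ded_11_1 (flp_d L180497) (flp_a L180434) L185742
theorem L185746 : sm gg N16970 = N16510 := ded_32_2 (flp_d L181602) (flp_g L180437) L185742
theorem L185748 : sm gh N16970 = N16376 := ded_33_2 (flp_d L180439) (flp_h L174527) (flp_d L174523) L180432 L185742
theorem L185750 : sm gc N16376 = N16971 := rfl
theorem L185752 : sm ga N16971 = N16384 := ded_10_1 (flp_c L180513) (flp_a L180441) L185750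
theorem L185754 : sm gg N16971 = N16511 := ded_27_2 (flp_c L181608) (flp_g L180443) L185750
theorem L185756 : sm gi N16971 = N16413 := ded_29_2 (flp_c L180757) (flp_i L180445) L185750
theorem L185758 : sm gd N16971 = N16453 := ded_24_2 (flp_c L181066) (flp_d L175209) (flp_c L174531) L180439 L185750
theorem L185760 : sm ge N16376 = N16972 := rfl
theorem L185762 : sm ga N16972 = N16385 := ded_12_1 (flp_e L180521) (flp_a L180441) L185760
theorem L185764 : sm gg N16972 = N16512 := ded_36_2 (flp_e L181616) (flp_g L180443) L185760
theorem L185766 : sm gi N16972 = N16414 := ded_38_2 (flp_e L180765) (flp_i L180445) L185760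
theorem L185768 : sm gd N16972 = N16377 := ded_30_1 (flp_e L180447) (flp_d L174539) (flp_e L174533) L180439 L185760
theorem L185770 : sm gf N16377 = N16973 := rfl
theorem L185772 : sm ga N16973 = N16386 := ded_13_1 (flp_f L180531) (flp_a L180449) L185770
theorem L185774 : sm gi N16973 = N16415 := ded_41_2 (flp_f L180773) (flp_i L180453) L185770
theorem L185776 : sm gh N16378 = N16974 := rfl
theorem L185778 : sm gb N16974 = N16387 := ded_22_1 (flp_h L180537) (flp_b L180457) L185776
theorem L185780 : sm gc N16974 = N16974 := ded_28_1 (flp_h L185776) L180459 L185776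
theorem L185781 : sm ge N16974 = N16380 := ded_37_1 (flp_h L180481) (flp_e L180460) L185776
theorem L185783 : sm gf N16974 = N16969 := ded_40_1 (flp_h L185729) (flp_f L180462) L185776
theorem L185785 : sm gg N16974 = N16761 := ded_42_1 (flp_h L183930) (flp_g L180464) L185776
theorem L185787 : sm gi N16974 = N16760 := ded_44_2 (flp_h L183919) (flp_i L178454) L174556 L180455 L185776
theorem L185789 : sm gh N16379 = N16975 := rfl
theorem L185791 : sm ga N16975 = N16974 := ded_15_1 (flp_h L185776) (flp_a L180468) L185789
theorem L185793 : sm gb N16975 = N16389 := ded_22_1 (flp_h L180557) (flp_b L180470) L185789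
theorem L185795 : sm gc N16975 = N16975 := ded_28_1 (flp_h L185789) L180472 L185789
theorem L185796 : sm ge N16975 = N16760 := ded_37_1 (flp_h L183919) (flp_e L180475) L185789
theorem L185798 : sm gf N16975 = N16381 := ded_40_1 (flp_h L180488) (flp_f L180477) L185789
theorem L185800 : sm gg N16975 = N16759 := ded_42_1 (flp_h L183908) (flp_g L180479) L185789
theorem L185802 : sm gi N16975 = N16380 := ded_44_2 (flp_h L180481) (flp_i L174573) L174558 L180466 L185789
theorem L185804 : sm gd N16380 = N16976 := rfl
theorem L185806 : sm gb N16976 = N16390 := ded_18_1 (flp_d L180569) (flp_b L180483) L185804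
theorem L185808 : sm gf N16976 = N16382 := ded_31_2 (flp_d L180497) (flp_f L180486) L185804
theorem L185810 : sm gh N16976 = N16383 := ded_33_2 (flp_d L180505) (flp_h L174598) (flp_d L174578) L180481 L185804
theorem L185812 : sm gd N16381 = N16977 := rfl
theorem L185814 : sm gb N16977 = N16391 := ded_18_1 (flp_d L180575) (flp_b L180490) L185812
theorem L185816 : sm gg N16977 = N16563 := ded_32_2 (flp_d L182007) (flp_g L180493) L185812
theorem L185818 : sm gi N16977 = N16382 := ded_34_2 (flp_d L180497) (flp_i L180495) L185812
theorem L185820 : sm gh N16977 = N16420 := ded_33_2 (flp_d L180823) (flp_h L174908) (flp_d L174587) L180488 L185812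
theorem L185822 : sm gc N16382 = N16978 := rfl
theorem L185824 : sm gg N16978 = N16564 := ded_27_2 (flp_c L182013) (flp_g L180501) L185822
theorem L185826 : sm gh N16978 = N16384 := ded_28_2 (flp_c L180513) (flp_h L180503) L185822
theorem L185828 : sm gd N16978 = N16978 := ded_24_2 (flp_c L185822) (flp_d L180497) L174595 L180497 L185822
theorem L185829 : sm ge N16382 = N16979 := rfl
theorem L185831 : sm gb N16979 = N16392 := ded_19_1 (flp_e L180581) (flp_b L180499) L185829
theorem L185833 : sm gg N16979 = N16565 := ded_36_2 (flp_e L182018) (flp_g L180501) L185829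
theorem L185835 : sm gh N16979 = N16385 := ded_37_2 (flp_e L180521) (flp_h L180503) L185829
theorem L185837 : sm gc N16383 = N16980 := rfl
theorem L185839 : sm gf N16980 = N16384 := ded_26_2 (flp_c L180513) (flp_f L180509) L185837
theorem L185841 : sm gi N16980 = N16424 := ded_29_2 (flp_c L180857) (flp_i L180511) L185837
theorem L185843 : sm gd N16980 = N16454 := ded_24_2 (flp_c L181075) (flp_d L175220) (flp_c L174602) L180505 L185837
theorem L185845 : sm ge N16383 = N16981 := rfl
theorem L185847 : sm gb N16981 = N16394 := ded_19_1 (flp_e L180591) (flp_b L180507) L185845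
theorem L185849 : sm gi N16981 = N16425 := ded_38_2 (flp_e L180863) (flp_i L180511) L185845
theorem L185851 : sm ge N16384 = N16982 := rfl
theorem L185853 : sm gc N16982 = N16385 := ded_25_1 (flp_e L180521) L180513 L185851
theorem L185855 : sm gg N16982 = N16568 := ded_36_2 (flp_e L182034) (flp_g L180515) L185851
theorem L185857 : sm gi N16982 = N16427 := ded_38_2 (flp_e L180875) (flp_i L180517) L185851
theorem L185859 : sm gf N16385 = N16983 := rfl
theorem L185861 : sm gb N16983 = N16395 := ded_20_1 (flp_f L180595) (flp_b L180523) L185859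
theorem L185863 : sm gd N16983 = N16386 := ded_31_1 (flp_f L180531) (flp_d L180529) L185859
theorem L185865 : sm gi N16983 = N16428 := ded_41_2 (flp_f L180881) (flp_i L180527) L185859
theorem L185867 : sm gg N16386 = N16984 := rfl
theorem L185869 : sm gb N16984 = N16396 := ded_21_1 (flp_g L180601) (flp_b L180533) L185867
theorem L185871 : sm gi N16984 = N16429 := ded_43_2 (flp_g L180887) (flp_i L180535) L185867
theorem L185873 : sm gf N16984 = N16570 := ded_39_1 (flp_g L182046) (flp_f L176508) (flp_g L174620) L180531 L185867
theorem L185875 : sm gd N16387 = N16985 := rfl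
theorem L185877 : sm gg N16985 = N16775 := ded_32_2 (flp_d L184026) (flp_g L180543) L185875
theorem L185879 : sm gi N16985 = N16774 := ded_34_2 (flp_d L184020) (flp_i L180545) L185875
theorem L185881 : sm gd N16388 = N16986 := rfl
theorem L185883 : sm gg N16986 = N16390 := ded_32_2 (flp_d L180569) (flp_g L180553) L185881
theorem L185885 : sm gi N16986 = N16773 := ded_34_2 (flp_d L184016) (flp_i L180555) L185881
theorem L185887 : sm gh N16986 = N16393 := ded_33_2 (flp_d L180585) (flp_h L174670) (flp_d L174636) L180547 L185881
theorem L185889 : sm gd N16389 = N16987 := rfl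
theorem L185891 : sm gf N16987 = N16391 := ded_31_2 (flp_d L180575) (flp_f L180563) L185889
theorem L185893 : sm gg N16987 = N16773 := ded_32_2 (flp_d L184016) (flp_g L180565) L185889
theorem L185895 : sm gi N16987 = N16390 := ded_34_2 (flp_d L180569) (flp_i L180567) L185889
theorem L185897 : sm gh N16987 = N16432 := ded_33_2 (flp_d L180905) (flp_h L174978) (flp_d L174646) L180557 L185889
theorem L185899 : sm ge N16390 = N16988 := rfl
theorem L185901 : sm gh N16988 = N16394 := ded_37_2 (flp_e L180591) (flp_h L180573) L185899
theorem L185903 : sm ge N16391 = N16989 := rfl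
theorem L185905 : sm gh N16989 = N16436 := ded_37_2 (flp_e L180933) (flp_h L180579) L185903
theorem L185907 : sm gi N16989 = N16392 := ded_38_2 (flp_e L180581) (flp_i L180577) L185903
theorem L185909 : sm gf N16392 = N16990 := rfl
theorem L185911 : sm gh N16990 = N16395 := ded_40_2 (flp_f L180595) (flp_h L180583) L185909
theorem L185913 : sm ge N16393 = N16991 := rfl
theorem L185915 : sm gg N16991 = N16394 := ded_36_2 (flp_e L180591) (flp_g L180587) L185913
theorem L185917 : sm gi N16991 = N16440 := ded_38_2 (flp_e L180955) (flp_i L180589) L185913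
theorem L185919 : sm gf N16394 = N16992 := rfl
theorem L185921 : sm gi N16992 = N16442 := ded_41_2 (flp_f L180963) (flp_i L180593) L185919
theorem L185923 : sm ge N16992 = N16395 := ded_35_1 (flp_f L180595) (flp_e L174684) (flp_f L174680) L180591 L185919
theorem L185925 : sm gg N16395 = N16993 := rfl
theorem L185927 : sm gd N16993 = N16396 := ded_32_1 (flp_g L180601) (flp_d L180597) L185925
theorem L185929 : sm gi N16993 = N16445 := ded_43_2 (flp_g L180975) (flp_i L180599) L185925
theorem L185931 : sm gd N16397 = N16994 := rfl
theorem L185933 : sm gb N16994 = N16571 := ded_18_1 (flp_d L182050) (flp_b L180607) L185931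
theorem L185935 : sm gg N16994 = N16573 := ded_32_2 (flp_d L182060) (flp_g L180613) L185931
theorem L185937 : sm gi N16994 = N16572 := ded_34_2 (flp_d L182054) (flp_i L180615) L185931
theorem L185939 : sm gd N16398 = N16995 := rfl
theorem L185941 : sm gb N16995 = N16572 := ded_18_1 (flp_d L182054) (flp_b L180619) L185939
theorem L185943 : sm gf N16995 = N16431 := ded_31_2 (flp_d L180897) (flp_f L180625) L185939
theorem L185945 : sm gg N16995 = N16400 := ded_32_2 (flp_d L180645) (flp_g L180627) L185939
theorem L185947 : sm gi N16995 = N16571 := ded_34_2 (flp_d L182050) (flp_i L180629) L185939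
theorem L185949 : sm gh N16995 = N16403 := ded_33_2 (flp_d L180669) (flp_h L174756) (flp_d L174710) L180617 L185939
theorem L185951 : sm gd N16399 = N16996 := rfl
theorem L185953 : sm gb N16996 = N16573 := ded_18_1 (flp_d L182060) (flp_b L180633) L185951
theorem L185955 : sm gf N16996 = N16401 := ded_31_2 (flp_d L180653) (flp_f L180639) L185951
theorem L185957 : sm gg N16996 = N16571 := ded_32_2 (flp_d L182050) (flp_g L180641) L185951
theorem L185959 : sm gi N16996 = N16400 := ded_34_2 (flp_d L180645) (flp_i L180643) L185951
theorem L185961 : sm ge N16400 = N16997 := rfl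
theorem L185963 : sm gb N16997 = N16575 := ded_19_1 (flp_e L182074) (flp_b L180647) L185961
theorem L185965 : sm gh N16997 = N16404 := ded_37_2 (flp_e L180677) (flp_h L180651) L185961
theorem L185967 : sm ge N16401 = N16998 := rfl
theorem L185969 : sm gb N16998 = N16577 := ded_19_1 (flp_e L182084) (flp_b L180655) L185967
theorem L185971 : sm gg N16998 = N16436 := ded_36_2 (flp_e L180933) (flp_g L180657) L185967
theorem L185973 : sm gi N16998 = N16402 := ded_38_2 (flp_e L180661) (flp_i L180659) L185967
theorem L185975 : sm gf N16402 = N16999 := rfl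
theorem L185977 : sm gb N16999 = N16580 := ded_20_1 (flp_f L182102) (flp_b L180663) L185975
theorem L185979 : sm gh N16999 = N16405 := ded_40_2 (flp_f L180681) (flp_h L180667) L185975
theorem L185981 : sm ge N16403 = N17000 := rfl
theorem L185983 : sm gb N17000 = N16582 := ded_19_1 (flp_e L182114) (flp_b L180671) L185981
theorem L185985 : sm gg N17000 = N16404 := ded_36_2 (flp_e L180677) (flp_g L180675) L185981
theorem L185987 : sm gf N16404 = N17001 := rfl
theorem L185989 : sm gb N17001 = N16585 := ded_20_1 (flp_f L182128) (flp_b L180679) L185987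
theorem L185991 : sm ge N17001 = N16405 := ded_35_1 (flp_f L180681) (flp_e L174772) (flp_f L174770) L180677 L185987
theorem L185993 : sm gg N16405 = N17002 := rfl
theorem L185995 : sm gb N17002 = N16589 := ded_21_1 (flp_g L182144) (flp_b L180683) L185993
theorem L185997 : sm gd N17002 = N16406 := ded_32_1 (flp_g L180687) (flp_d L180685) L185993
theorem L185999 : sm gf N17002 = N16445 := ded_39_1 (flp_g L180975) (flp_f L175030) (flp_g L174776) L180681 L185993
theorem L186001 : sm gh N16407 = N17003 := rfl
theorem L186003 : sm ga N17003 = N16416 := ded_15_1 (flp_h L180779) (flp_a L180695) L186001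
theorem L186005 : sm gb N17003 = N16716 := ded_22_1 (flp_h L183490) (flp_b L180697) L186001
theorem L186007 : sm gc N17003 = N16463 := ded_28_1 (flp_h L181156) (flp_c L180699) L186001
theorem L186009 : sm ge N17003 = N16409 := ded_37_1 (flp_h L180723) (flp_e L180703) L186001
theorem L186011 : sm gf N17003 = N16708 := ded_40_1 (flp_h L183404) (flp_f L180705) L186001
theorem L186013 : sm gi N17003 = N16707 := ded_44_2 (flp_h L183392) (flp_i L178008) L174796 L180693 L186001
theorem L186015 : sm gh N16408 = N17004 := rfl
theorem L186017 : sm ga N17004 = N16418 := ded_15_1 (flp_h L180801) (flp_a L180709) L186015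
theorem L186019 : sm gb N17004 = N16714 := ded_22_1 (flp_h L183472) (flp_b L180711) L186015
theorem L186021 : sm gc N17004 = N16465 := ded_28_1 (flp_h L181176) (flp_c L180713) L186015
theorem L186023 : sm ge N17004 = N16707 := ded_37_1 (flp_h L183392) (flp_e L180717) L186015
theorem L186025 : sm gf N17004 = N16410 := ded_40_1 (flp_h L180731) (flp_f L180719) L186015
theorem L186027 : sm gg N17004 = N17003 := ded_42_1 (flp_h L186001) (flp_g L180721) L186015
theorem L186029 : sm gi N17004 = N16409 := ded_44_2 (flp_h L180723) (flp_i L174814) L174798 L180707 L186015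
theorem L186031 : sm gd N16409 = N17005 := rfl
theorem L186033 : sm ga N17005 = N16419 := ded_11_1 (flp_d L180815) (flp_a L180725) L186031
theorem L186035 : sm gf N17005 = N16411 := ded_31_2 (flp_d L180743) (flp_f L180729) L186031
theorem L186037 : sm gh N17005 = N16412 := ded_33_2 (flp_d L180751) (flp_h L174844) (flp_d L174820) L180723 L186031
theorem L186039 : sm gd N16410 = N17006 := rfl
theorem L186041 : sm ga N17006 = N16420 := ded_11_1 (flp_d L180823) (flp_a L180733) L186039
theorem L186043 : sm gg N17006 = N16524 := ded_32_2 (flp_d L181702) (flp_g L180739) L186039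
theorem L186045 : sm gi N17006 = N16411 := ded_34_2 (flp_d L180743) (flp_i L180741) L186039
theorem L186047 : sm gc N16411 = N17007 := rfl
theorem L186049 : sm ga N17007 = N16421 := ded_10_1 (flp_c L180831) (flp_a L180745) L186047
theorem L186051 : sm gg N17007 = N16525 := ded_27_2 (flp_c L181708) (flp_g L180747) L186047
theorem L186053 : sm gh N17007 = N16413 := ded_28_2 (flp_c L180757) (flp_h L180749) L186047
theorem L186055 : sm gd N17007 = N16468 := ded_24_2 (flp_c L181210) (flp_d L175480) (flp_c L174838) L180743 L186047
theorem L186057 : sm ge N16411 = N17008 := rfl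
theorem L186059 : sm ga N17008 = N16422 := ded_12_1 (flp_e L180839) (flp_a L180745) L186057
theorem L186061 : sm gg N17008 = N16526 := ded_36_2 (flp_e L181716) (flp_g L180747) L186057
theorem L186063 : sm gh N17008 = N16414 := ded_37_2 (flp_e L180765) (flp_h L180749) L186057
theorem L186065 : sm gd N17008 = N16870 := ded_30_1 (flp_e L184894) (flp_d L179527) (flp_e L174840) L180743 L186057
theorem L186067 : sm gc N16412 = N17009 := rfl
theorem L186069 : sm ga N17009 = N16424 := ded_10_1 (flp_c L180857) (flp_a L180753) L186067
theorem L186071 : sm gf N17009 = N16413 := ded_26_2 (flp_c L180757) (flp_f L180755) L186067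
theorem L186073 : sm gd N17009 = N16456 := ded_24_2 (flp_c L181097) (flp_d L175251) (flp_c L174848) L180751 L186067
theorem L186075 : sm ge N16412 = N17010 := rfl
theorem L186077 : sm ga N17010 = N16425 := ded_12_1 (flp_e L180863) (flp_a L180753) L186075
theorem L186079 : sm gb N16413 = N17011 := rfl
theorem L186081 : sm gd N17011 = N16457 := ded_18_2 (flp_b L181105) (flp_d L180763) L186079
theorem L186083 : sm gg N17011 = N16529 := ded_21_2 (flp_b L181736) (flp_g L180761) L186079
theorem L186085 : sm ge N16413 = N17012 := rfl
theorem L186087 : sm ga N17012 = N16427 := ded_12_1 (flp_e L180875) (flp_a L180759) L186085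
theorem L186089 : sm gc N17012 = N16414 := ded_25_1 (flp_e L180765) L180757 L186085
theorem L186091 : sm gg N17012 = N16530 := ded_36_2 (flp_e L181740) (flp_g L180761) L186085
theorem L186093 : sm gf N16414 = N17013 := rfl
theorem L186095 : sm ga N17013 = N16428 := ded_13_1 (flp_f L180881) (flp_a L180767) L186093
theorem L186097 : sm gd N17013 = N16415 := ded_31_1 (flp_f L180773) (flp_d L180771) L186093
theorem L186099 : sm gg N16415 = N17014 := rfl
theorem L186101 : sm ga N17014 = N16429 := ded_14_1 (flp_g L180887) (flp_a L180775) L186099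
theorem L186103 : sm gh N17014 = N16873 := ded_42_2 (flp_g L184922) (flp_h L180777) L186099
theorem L186105 : sm gf N17014 = N16532 := ded_39_1 (flp_g L181752) (flp_f L176183) (flp_g L174862) L180773 L186099
theorem L186107 : sm gd N16416 = N17015 := rfl
theorem L186109 : sm gb N17015 = N16430 := ded_18_1 (flp_d L180895) (flp_b L180781) L186107
theorem L186111 : sm gf N17015 = N16994 := ded_31_2 (flp_d L185931) (flp_f L180787) L186107
theorem L186113 : sm gd N16417 = N17016 := rfl
theorem L186115 : sm gb N17016 = N16431 := ded_18_1 (flp_d L180897) (flp_b L180791) L186113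
theorem L186117 : sm gf N17016 = N16572 := ded_31_2 (flp_d L182054) (flp_f L180795) L186113
theorem L186119 : sm gg N17016 = N16419 := ded_32_2 (flp_d L180815) (flp_g L180797) L186113
theorem L186121 : sm gi N17016 = N17015 := ded_34_2 (flp_d L186107) (flp_i L180799) L186113
theorem L186123 : sm gh N17016 = N16423 := ded_33_2 (flp_d L180849) (flp_h L174928) (flp_d L174882) L180789 L186113
theorem L186125 : sm gd N16418 = N17017 := rfl
theorem L186127 : sm gb N17017 = N16432 := ded_18_1 (flp_d L180905) (flp_b L180803) L186125
theorem L186129 : sm gf N17017 = N16420 := ded_31_2 (flp_d L180823) (flp_f L180809) L186125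
theorem L186131 : sm gg N17017 = N17015 := ded_32_2 (flp_d L186107) (flp_g L180811) L186125
theorem L186133 : sm gi N17017 = N16419 := ded_34_2 (flp_d L180815) (flp_i L180813) L186125
theorem L186135 : sm gc N16419 = N17018 := rfl
theorem L186137 : sm gf N17018 = N16421 := ded_26_2 (flp_c L180831) (flp_f L180819) L186135
theorem L186139 : sm gh N17018 = N16424 := ded_28_2 (flp_c L180857) (flp_h L180821) L186135
theorem L186141 : sm gb N17018 = N16915 := ded_17_1 (flp_c L185285) L180921 (flp_c L180913) (flp_b L180817) L186135
theorem L186143 : sm gd N17018 = N16474 := ded_24_2 (flp_c L181270) (flp_d L175549) (flp_c L174904) L180815 L186135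
theorem L186145 : sm ge N16419 = N17019 := rfl
theorem L186147 : sm gb N17019 = N16434 := ded_19_1 (flp_e L180923) (flp_b L180817) L186145
theorem L186149 : sm gh N17019 = N16425 := ded_37_2 (flp_e L180863) (flp_h L180821) L186145
theorem L186151 : sm gc N16420 = N17020 := rfl
theorem L186153 : sm gg N17020 = N16576 := ded_27_2 (flp_c L182078) (flp_g L180827) L186151
theorem L186155 : sm gi N17020 = N16421 := ded_29_2 (flp_c L180831) (flp_i L180829) L186151
theorem L186157 : sm gd N17020 = N16475 := ded_24_2 (flp_c L181280) (flp_d L175559) (flp_c L174912) L180823 L186151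
theorem L186159 : sm ge N16420 = N17021 := rfl
theorem L186161 : sm gb N17021 = N16436 := ded_19_1 (flp_e L180933) (flp_b L180825) L186159
theorem L186163 : sm gg N17021 = N16577 := ded_36_2 (flp_e L182084) (flp_g L180827) L186159
theorem L186165 : sm gi N17021 = N16422 := ded_38_2 (flp_e L180839) (flp_i L180829) L186159
theorem L186167 : sm gd N17021 = N16998 := ded_30_1 (flp_e L185967) (flp_d L180653) (flp_e L174914) L180823 L186159
theorem L186169 : sm gb N16421 = N17022 := rfl
theorem L186171 : sm gd N17022 = N16477 := ded_18_2 (flp_b L181298) (flp_d L180837) L186169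
theorem L186173 : sm gf N17022 = N16915 := ded_20_2 (flp_b L186141) L186137 L186169
theorem L186175 : sm gg N17022 = N16578 := ded_21_2 (flp_b L182090) (flp_g L180833) L186169
theorem L186177 : sm gh N17022 = N16426 := ded_22_2 (flp_b L180867) (flp_h L180835) L186169
theorem L186179 : sm gc N17022 = N16437 := ded_17_2 (flp_b L180937) (flp_c L175000) (flp_b L174922) L180831 L186169
theorem L186181 : sm ge N16421 = N17023 := rfl
theorem L186183 : sm gc N17023 = N16422 := ded_25_1 (flp_e L180839) L180831 L186181
theorem L186185 : sm gg N17023 = N16579 := ded_36_2 (flp_e L182096) (flp_g L180833) L186181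
theorem L186187 : sm gh N17023 = N16427 := ded_37_2 (flp_e L180875) (flp_h L180835) L186181
theorem L186189 : sm gf N16422 = N17024 := rfl
theorem L186191 : sm gb N17024 = N16439 := ded_20_1 (flp_f L180951) (flp_b L180841) L186189
theorem L186193 : sm gd N17024 = N16999 := ded_31_1 (flp_f L185975) (flp_d L180847) L186189
theorem L186195 : sm gh N17024 = N16428 := ded_40_2 (flp_f L180881) (flp_h L180845) L186189
theorem L186197 : sm ge N16423 = N17025 := rfl
theorem L186199 : sm gb N17025 = N16440 := ded_19_1 (flp_e L180955) (flp_b L180851) L186197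
theorem L186201 : sm gg N17025 = N16425 := ded_36_2 (flp_e L180863) (flp_g L180855) L186197
theorem L186203 : sm ge N16424 = N17026 := rfl
theorem L186205 : sm gc N17026 = N16425 := ded_25_1 (flp_e L180863) L180857 L186203
theorem L186207 : sm gf N16425 = N17027 := rfl
theorem L186209 : sm gb N17027 = N16442 := ded_20_1 (flp_f L180963) (flp_b L180865) L186207
theorem L186211 : sm ge N17027 = N16428 := ded_35_1 (flp_f L180881) (flp_e L174950) (flp_f L174942) L180863 L186207
theorem L186213 : sm ge N16426 = N17028 := rfl
theorem L186215 : sm gb N17028 = N16427 := ded_19_1 (flp_e L180875) L180867 L186213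
theorem L186217 : sm gc N17028 = N16443 := ded_25_1 (flp_e L180967) (flp_c L180873) L186213
theorem L186219 : sm gg N17028 = N16587 := ded_36_2 (flp_e L182136) (flp_g L180871) L186213
theorem L186221 : sm gf N16427 = N17029 := rfl
theorem L186223 : sm gc N17029 = N16428 := ded_26_1 (flp_f L180881) (flp_c L180877) L186221
theorem L186225 : sm gg N16428 = N17030 := rfl
theorem L186227 : sm gb N17030 = N16445 := ded_21_1 (flp_g L180975) (flp_b L180883) L186225
theorem L186229 : sm gd N17030 = N16429 := ded_32_1 (flp_g L180887) (flp_d L180885) L186225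
theorem L186231 : sm gf N17030 = N16589 := ded_39_1 (flp_g L182144) (flp_f L176583) (flp_g L174954) L180881 L186225
theorem L186233 : sm gc N16430 = N17031 := rfl
theorem L186235 : sm ga N17031 = N16930 := ded_10_1 L185414 L185088 L186233
theorem L186237 : sm gg N17031 = N16687 := ded_27_2 L183209 L180909 L186233
theorem L186239 : sm gi N17031 = N16654 := ded_29_2 L182844 L180901 L186233
theorem L186241 : sm gd N17031 = N16451 := ded_24_2 (flp_c L181048) (flp_d L175131) (flp_c L174966) L180895 L186233
theorem L186243 : sm gb N16662 = N17031 := ded_45_6 (flp_c L186233) (flp_d L180895) (flp_i L174976) (flp_h L174970) L168066 (flp_f L167874) (flp_e L170536) (flp_d L176899) L176896 L171533 L165879 (flp_i L158025) L149352 (flp_d L140890) (flp_f L140883) L131993 L126756 L126753 L126754 L71988 (flp_i L117618) (flp_h L38838) (flp_d L36047) (flp_f L36041) L26417 L24238 (flp_b L24236) (flp_c L17865) (flp_d L13177) (flp_i L10268) L10267 L13888 L18877 L25655 L25661 (flp_b L19721) (flp_c L26837) L36667 L36673 L37061 L50611 (flp_f L65653) L123349 L123355 (flp_b L130977) (flp_c L139996)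 L149378 (flp_i L152882) (flp_h L152875) L143759 L134512 (flp_e L143697) (flp_d L152792) (flp_b L160441) (flp_c L168064) L168066 (flp_i L160283) (flp_h L160037) (flp_d L167740) (flp_f L170792) L170798 L167313 L163177 L158662 L150104 L158674 L166478 L173434 (flp_f L177630) L177636 (flp_d L171913) L164711 (flp_c L165317) (flp_d L171457) L171467 L165542 (flp_d L165536) L157524 L148747 (flp_d L148578) (flp_b L156758) (flp_c L164755) L171954 (flp_i L177942) (flp_h L183133) (flp_d L183123) L177768 (flp_e L177481) L182918
theorem L186245 : sm ge N16430 = N17032 := rfl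
theorem L186247 : sm gd N17032 = N16434 := ded_30_1 (flp_e L180923) (flp_d L174990) (flp_e L174968) L180895 L186245
theorem L186249 : sm ge N16431 = N17033 := rfl
theorem L186251 : sm gg N17033 = N16434 := ded_36_2 (flp_e L180923) (flp_g L180899) L186249
theorem L186253 : sm gh N17033 = N16440 := ded_37_2 (flp_e L180955) (flp_h L180903) L186249
theorem L186255 : sm gi N17033 = N17032 := ded_38_2 (flp_e L186245) (flp_i L180901) L186249
theorem L186257 : sm ge N16432 = N17034 := rfl
theorem L186259 : sm gg N17034 = N17032 := ded_36_2 (flp_e L186245) (flp_g L180909) L186257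
theorem L186261 : sm gi N17034 = N16434 := ded_38_2 (flp_e L180923) (flp_i L180911) L186257
theorem L186263 : sm gd N17034 = N17033 := ded_30_1 (flp_e L186249) (flp_d L180897) (flp_e L174982) L180905 L186257
theorem L186265 : sm ge N16433 = N17035 := rfl
theorem L186267 : sm gb N17035 = N16916 := ded_19_1 (flp_e L185297) L180921 L186265
theorem L186269 : sm gc N17035 = N16434 := ded_25_1 (flp_e L180923) L180913 L186265
theorem L186271 : sm gh N17035 = N16441 := ded_37_2 (flp_e L180959) (flp_h L180917) L186265
theorem L186273 : sm gd N17035 = N16914 := ded_30_1 (flp_e L185277) (flp_d L179990) (flp_e L175157) (flp_d L180919) L186265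
theorem L186275 : sm gf N16434 = N17036 := rfl
theorem L186277 : sm gh N17036 = N16442 := ded_40_2 (flp_f L180963) (flp_h L180925) L186275
theorem L186279 : sm ge N17036 = N16439 := ded_35_1 (flp_f L180951) (flp_e L175006) (flp_f L174992) L180923 L186275
theorem L186281 : sm ge N16435 = N17037 := rfl
theorem L186283 : sm gc N17037 = N16436 := ded_25_1 (flp_e L180933) L180927 L186281
theorem L186285 : sm gi N17037 = N16438 := ded_38_2 (flp_e L180945) (flp_i L180929) L186281
theorem L186287 : sm gf N16436 = N17038 := rfl
theorem L186289 : sm gi N17038 = N16439 := ded_41_2 (flp_f L180951) (flp_i L180935) L186287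
theorem L186291 : sm ge N16437 = N17039 := rfl
theorem L186293 : sm gb N17039 = N16438 := ded_19_1 (flp_e L180945) L180937 L186291
theorem L186295 : sm gh N17039 = N16443 := ded_37_2 (flp_e L180967) (flp_h L180943) L186291
theorem L186297 : sm gd N16438 = N17040 := rfl
theorem L186299 : sm ge N17040 = N16452 := ded_30_2 (flp_d L181062) (flp_e L175189) (flp_d L175004) L180945 L186297
theorem L186301 : sm gf N16438 = N17041 := rfl
theorem L186303 : sm gc N17041 = N16439 := ded_26_1 (flp_f L180951) (flp_c L180947) L186301
theorem L186305 : sm gh N17041 = N16444 := ded_40_2 (flp_f L180971) (flp_h L180949) L186301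
theorem L186307 : sm gg N16439 = N17042 := rfl
theorem L186309 : sm gh N17042 = N16445 := ded_42_2 (flp_g L180975) (flp_h L180953) L186307
theorem L186311 : sm gf N16440 = N17043 := rfl
theorem L186313 : sm gf N16441 = N17044 := rfl
theorem L186315 : sm gc N17044 = N16442 := ded_26_1 (flp_f L180963) (flp_c L180961) L186313
theorem L186317 : sm ge N17044 = N16444 := ded_35_1 (flp_f L180971) (flp_e L175026) (flp_f L175016) L180959 L186313
theorem L186319 : sm gg N16442 = N17045 := rfl
theorem L186321 : sm ge N17045 = N16445 := ded_36_1 (flp_g L180975) (flp_e L180965) L186319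
theorem L186323 : sm gf N16443 = N17046 := rfl
theorem L186325 : sm gb N17046 = N16444 := ded_20_1 (flp_f L180971) (flp_b L180969) L186323
theorem L186327 : sm gg N16444 = N17047 := rfl
theorem L186329 : sm gc N17047 = N16445 := ded_27_1 (flp_g L180975) (flp_c L180973) L186327
theorem L186331 : sm gc N16446 = N17048 := rfl
theorem L186333 : sm gg N17048 = N16593 := ded_27_2 (flp_c L182166) (flp_g L180983) L186331
theorem L186335 : sm gh N17048 = N17048 := ded_28_2 (flp_c L186331) L180987 L186331
theorem L186336 : sm gi N17048 = N16592 := ded_29_2 (flp_c L182160) (flp_i L180985) L186331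
theorem L186338 : sm gb N16453 = N17049 := rfl
theorem L186340 : sm ge N17049 = N16454 := ded_19_2 (flp_b L182511) L182502 L186338
theorem L186342 : sm gf N17049 = N16545 := ded_20_2 (flp_b L184266) L184259 L186338
theorem L186344 : sm gg N17049 = N16514 := ded_21_2 (flp_b L181630) (flp_g L181070) L186338
theorem L186346 : sm gh N17049 = N17049 := ded_22_2 (flp_b L186338) L181072 L186338
theorem L186347 : sm gi N17049 = N16457 := ded_23_2 (flp_b L181105) (flp_i L181073) L186338
theorem L186349 : sm ga N17049 = N16544 := ded_9_1 (flp_b L181868) (flp_a L179930) L179937 (flp_a L181068) L186338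
theorem L186351 : sm gc N17049 = N16455 := ded_17_2 L181086 L175240 (flp_b L175213) L181066 L186338
theorem L186353 : sm ga N16458 = N17050 := rfl
theorem L186355 : sm gd N17050 = N16605 := ded_11_2 (flp_a L182280) (flp_d L181117) L186353
theorem L186357 : sm gf N17050 = N16609 := ded_13_2 L182324 (flp_f L181119) L186353
theorem L186359 : sm gg N17050 = N16462 := ded_14_2 (flp_a L181151) (flp_g L181121) L186353
theorem L186361 : sm gh N17050 = N16498 := ded_15_2 (flp_a L181501) (flp_h L181123) L186353
theorem L186363 : sm gb N17050 = N17050 := ded_9_2 (flp_a L186353) (flp_b L181115) L175321 L181115 L186353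
theorem L186364 : sm gb N16459 = N17051 := rfl
theorem L186366 : sm gg N17051 = N16559 := ded_21_2 (flp_b L181974) (flp_g L181127) L186364
theorem L186368 : sm gh N17051 = N17051 := ded_22_2 (flp_b L186364) L181129 L186364
theorem L186369 : sm gi N17051 = N16940 := ded_23_2 (flp_b L185490) (flp_i L181130) L186364
theorem L186371 : sm gc N17051 = N16460 := ded_17_2 (flp_b L181132) (flp_c L175388) (flp_b L175368) L181125 L186364
theorem L186373 : sm ga N16460 = N17052 := rfl
theorem L186375 : sm gd N17052 = N16462 := ded_11_2 (flp_a L181151) (flp_d L181134) L186373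
theorem L186377 : sm gg N17052 = N16605 := ded_14_2 (flp_a L182280) (flp_g L181136) L186373
theorem L186379 : sm gh N17052 = N17052 := ded_15_2 (flp_a L186373) L181138 L186373
theorem L186380 : sm gi N17052 = N17050 := ded_16_2 (flp_a L186353) (flp_i L181139) L186373
theorem L186382 : sm gb N17052 = N17052 := ded_9_2 (flp_a L186373) (flp_b L181132) L175390 L181132 L186373
theorem L186383 : sm ga N16461 = N17053 := rfl
theorem L186385 : sm ge N17053 = N16488 := ded_12_2 L181409 (flp_e L181143) L186383
theorem L186387 : sm gf N17053 = N16462 := ded_13_2 (flp_a L181151) (flp_f L181145) L186383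
theorem L186389 : sm gg N17053 = N16839 := ded_14_2 L184598 (flp_g L181147) L186383
theorem L186391 : sm gh N17053 = N16492 := ded_15_2 L181449 (flp_h L181149) L186383
theorem L186393 : sm gb N17053 = N17053 := ded_9_2 (flp_a L186383) (flp_b L181141) L175409 L181141 L186383
theorem L186394 : sm gd N16463 = N17054 := rfl
theorem L186396 : sm ga N17054 = N16472 := ded_11_1 (flp_d L181245) (flp_a L181158) L186394
theorem L186398 : sm gb N17054 = N17054 := ded_18_1 (flp_d L186394) L181160 L186394
theorem L186399 : sm gf N17054 = N16907 := ded_31_2 (flp_d L185206) (flp_f L181163) L186394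
theorem L186401 : sm gg N17054 = N16808 := ded_32_2 L184285 L181185 L186394
theorem L186403 : sm ge N17054 = N17052 := ded_30_2 L186375 L181198 (flp_d L181189) (flp_e L181161) L186394
theorem L186405 : sm gh N17054 = N17054 := ded_33_2 (flp_d L186394) (flp_h L181156) L175434 L181156 L186394
theorem L186406 : sm gd N16464 = N17055 := rfl
theorem L186408 : sm ga N17055 = N16473 := ded_11_1 (flp_d L181256) (flp_a L181167) L186406
theorem L186410 : sm gb N17055 = N17055 := ded_18_1 (flp_d L186406) L181169 L186406
theorem L186411 : sm gf N17055 = N16534 := ded_31_2 (flp_d L181768) (flp_f L181170) L186406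
theorem L186413 : sm gg N17055 = N16466 := ded_32_2 (flp_d L181189) (flp_g L181172) L186406
theorem L186415 : sm gi N17055 = N17054 := ded_34_2 (flp_d L186394) (flp_i L181174) L186406
theorem L186417 : sm ge N17055 = N17050 := ded_30_2 L186355 (flp_e L184287) L184285 L181181 L186406
theorem L186419 : sm gh N17055 = N16469 := ded_33_2 (flp_d L181218) (flp_h L175489) (flp_d L175444) L181165 L186406
theorem L186421 : sm gc N16466 = N17056 := rfl
theorem L186423 : sm ga N17056 = N16474 := ded_10_1 (flp_c L181270) (flp_a L181191) L186421
theorem L186425 : sm ge N17056 = N16967 := ded_25_2 L185717 L181198 L186421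
theorem L186427 : sm gf N17056 = N16468 := ded_26_2 (flp_c L181210) (flp_f L181194) L186421
theorem L186429 : sm gh N17056 = N16470 := ded_28_2 (flp_c L181228) (flp_h L181196) L186421
theorem L186431 : sm gc N16467 = N17057 := rfl
theorem L186433 : sm ga N17057 = N16475 := ded_10_1 (flp_c L181280) (flp_a L181202) L186431
theorem L186435 : sm gg N17057 = N16537 := ded_27_2 (flp_c L181801) (flp_g L181205) L186431
theorem L186437 : sm gh N17057 = N17057 := ded_28_2 (flp_c L186431) L181209 L186431
theorem L186438 : sm gi N17057 = N16468 := ded_29_2 (flp_c L181210) (flp_i L181207) L186431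
theorem L186440 : sm gb N16468 = N17058 := rfl
theorem L186442 : sm gg N17058 = N16539 := ded_21_2 (flp_b L181822) (flp_g L181214) L186440
theorem L186444 : sm gh N17058 = N16471 := ded_22_2 (flp_b L181237) (flp_h L181216) L186440
theorem L186446 : sm gc N17058 = N17058 := ded_17_2 (flp_b L186440) (flp_c L181210) L175484 L181210 L186440
theorem L186447 : sm gc N16472 = N17059 := rfl
theorem L186449 : sm ge N17059 = N17051 := ded_25_2 L186371 (flp_e L181253) L186447
theorem L186451 : sm gf N17059 = N17048 := ded_26_2 (flp_c L186331) (flp_f L181249) L186447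
theorem L186453 : sm gg N17059 = N16698 := ded_27_2 L183303 (flp_g L181251) L186447
theorem L186455 : sm gh N17059 = N17059 := ded_28_2 (flp_c L186447) L181255 L186447
theorem L186456 : sm gi N17059 = N16674 := ded_29_2 L183039 L181264 L186447
theorem L186458 : sm gb N17059 = N16673 := ded_17_1 (flp_c L183020) L177585 (flp_c L175630) (flp_b L181247) L186447
theorem L186460 : sm ge N16475 = N17060 := rfl
theorem L186462 : sm gc N17060 = N16476 := ded_25_1 (flp_e L181287) L181280 L186460
theorem L186464 : sm gg N17060 = N16598 := ded_36_2 (flp_e L182217) (flp_g L181282) L186460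
theorem L186466 : sm gh N17060 = N17060 := ded_37_2 (flp_e L186460) L181284 L186460
theorem L186467 : sm gi N17060 = N16478 := ded_38_2 (flp_e L181308) (flp_i L181285) L186460
theorem L186469 : sm ge N16477 = N17061 := rfl
theorem L186471 : sm gb N17061 = N16478 := ded_19_1 (flp_e L181308) L181298 L186469
theorem L186473 : sm gc N17061 = N16481 := ded_25_1 (flp_e L181332) (flp_c L181306) L186469
theorem L186475 : sm gg N17061 = N16600 := ded_36_2 (flp_e L182232) (flp_g L181302) L186469
theorem L186477 : sm gh N17061 = N16479 := ded_37_2 (flp_e L181316) (flp_h L181304) L186469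
theorem L186479 : sm gf N17061 = N16966 := ded_35_2 (flp_e L185705) L180397 (flp_e L180022) (flp_f L181300) L186469
theorem L186481 : sm gd N16478 = N17062 := rfl
theorem L186483 : sm ga N17062 = N16955 := ded_11_1 L185645 L181430 L186481
theorem L186485 : sm gg N17062 = N16601 := ded_32_2 (flp_d L182240) (flp_g L181312) L186481
theorem L186487 : sm gc N17062 = N16833 := ded_24_1 (flp_d L184554) L179249 (flp_d L175582) (flp_c L181310) L186481
theorem L186489 : sm gh N17062 = N16835 := ded_33_2 L184574 L179290 L175792 (flp_h L181314) L186481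
theorem L186491 : sm gb N16482 = N17063 := rfl
theorem L186493 : sm gd N17063 = N16495 := ded_18_2 L181477 (flp_d L181349) L186491
theorem L186495 : sm gf N17063 = N16484 := ded_20_2 (flp_b L181360) (flp_f L181346) L186491
theorem L186497 : sm gi N17063 = N17063 := ded_23_2 (flp_b L186491) L181348 L186491
theorem L186498 : sm gc N17063 = N17063 := ded_17_2 (flp_b L186491) (flp_c L181342) L175779 L181342 L186491
theorem L186499 : sm ge N16482 = N17064 := rfl
theorem L186501 : sm ga N17064 = N16495 := ded_12_1 (flp_e L181475) (flp_a L181344) L186499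
theorem L186503 : sm gc N17064 = N16483 := ded_25_1 (flp_e L181351) L181342 L186499
theorem L186505 : sm gi N17064 = N17064 := ded_38_2 (flp_e L186499) L181348 L186499
theorem L186506 : sm gf N17064 = N16795 := ded_35_2 (flp_e L184156) L178666 (flp_e L175787) (flp_f L181346) L186499
theorem L186508 : sm ga N16484 = N17065 := rfl
theorem L186510 : sm gc N17065 = N17065 := ded_10_2 (flp_a L186508) L181369 L186508
theorem L186511 : sm gd N17065 = N16795 := ded_11_2 L184158 (flp_d L181362) L186508
theorem L186513 : sm ge N17065 = N16796 := ded_12_2 (flp_a L184165) (flp_e L181364) L186508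
theorem L186515 : sm gg N17065 = N16804 := ded_14_2 L184232 (flp_g L181366) L186508
theorem L186517 : sm gi N17065 = N17065 := ded_16_2 (flp_a L186508) L181368 L186508
theorem L186518 : sm gb N17065 = N16496 := ded_9_2 (flp_a L181486) (flp_b L175915) (flp_a L175785) L181360 L186508
theorem L186520 : sm ga N16485 = N17066 := rfl
theorem L186522 : sm gc N17066 = N16498 := ded_10_2 (flp_a L181501) (flp_c L181379) L186520
theorem L186524 : sm ge N17066 = N16675 := ded_12_2 (flp_a L183041) (flp_e L181372) L186520
theorem L186526 : sm gf N17066 = N16602 := ded_13_2 L182246 (flp_f L181374) L186520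
theorem L186528 : sm gg N17066 = N16496 := ded_14_2 (flp_a L181486) (flp_g L181376) L186520
theorem L186530 : sm gi N17066 = N17066 := ded_16_2 (flp_a L186520) L181378 L186520
theorem L186531 : sm gb N17066 = N16804 := ded_9_2 L184232 L178791 (flp_a L175825) L181370 L186520
theorem L186533 : sm gd N16487 = N17067 := rfl
theorem L186535 : sm ga N17067 = N16556 := ded_11_1 (flp_d L181947) (flp_a L181396) L186533
theorem L186537 : sm gb N17067 = N17067 := ded_18_1 (flp_d L186533) L181398 L186533
theorem L186538 : sm gf N17067 = N16489 := ded_31_2 (flp_d L181418) (flp_f L181401) L186533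
theorem L186540 : sm gg N17067 = N16505 := ded_32_2 (flp_d L181566) (flp_g L181403) L186533
theorem L186542 : sm gi N17067 = N16488 := ded_34_2 (flp_d L181407) (flp_i L181405) L186533
theorem L186544 : sm gh N17067 = N17067 := ded_33_2 (flp_d L186533) (flp_h L181394) L175851 L181394 L186533
theorem L186545 : sm gc N16488 = N17068 := rfl
theorem L186547 : sm ga N17068 = N16964 := ded_10_1 (flp_c L185687) (flp_a L181409) L186545
theorem L186549 : sm gf N17068 = N16490 := ded_26_2 (flp_c L181428) (flp_f L181412) L186545
theorem L186551 : sm gg N17068 = N16838 := ded_27_2 (flp_c L184588) (flp_g L181414) L186545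
theorem L186553 : sm gh N17068 = N16491 := ded_28_2 (flp_c L181436) (flp_h L181416) L186545
theorem L186555 : sm gc N16489 = N17069 := rfl
theorem L186557 : sm ga N17069 = N17060 := ded_10_1 L186462 (flp_a L181420) L186555
theorem L186559 : sm ge N17069 = N17057 := ded_25_2 (flp_c L186431) (flp_e L181425) L186555
theorem L186561 : sm gh N17069 = N17069 := ded_28_2 (flp_c L186555) L181427 L186555
theorem L186562 : sm gi N17069 = N16490 := ded_29_2 (flp_c L181428) (flp_i L181423) L186555
theorem L186564 : sm gb N16490 = N17070 := rfl
theorem L186566 : sm ge N17070 = N17058 := ded_19_2 (flp_b L186440) (flp_e L181432) L186564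
theorem L186568 : sm gh N17070 = N16493 := ded_22_2 (flp_b L181458) (flp_h L181434) L186564
theorem L186570 : sm gc N17070 = N17070 := ded_17_2 (flp_b L186564) (flp_c L181428) L175878 L181428 L186564
theorem L186571 : sm gb N16491 = N17071 := rfl
theorem L186573 : sm gd N17071 = N16494 := ded_18_2 (flp_b L181466) (flp_d L181445) L186571
theorem L186575 : sm gf N17071 = N16493 := ded_20_2 (flp_b L181458) (flp_f L181440) L186571
theorem L186577 : sm gg N17071 = N17063 := ded_21_2 (flp_b L186491) (flp_g L181442) L186571
theorem L186579 : sm gi N17071 = N17071 := ded_23_2 (flp_b L186571) L181444 L186571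
theorem L186580 : sm gc N17071 = N17071 := ded_17_2 (flp_b L186571) (flp_c L181436) L175887 L181436 L186571
theorem L186581 : sm ge N16491 = N17072 := rfl
theorem L186583 : sm ga N17072 = N16494 := ded_12_1 (flp_e L181473) (flp_a L181438) L186581
theorem L186585 : sm gc N17072 = N16492 := ded_25_1 (flp_e L181447) L181436 L186581
theorem L186587 : sm gg N17072 = N17064 := ded_36_2 (flp_e L186499) (flp_g L181442) L186581
theorem L186589 : sm gi N17072 = N17072 := ded_38_2 (flp_e L186581) L181444 L186581
theorem L186590 : sm gf N17072 = N16496 := ded_35_2 L181490 L181232 (flp_e L175897) (flp_f L181440) L186581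
theorem L186592 : sm ga N16493 = N17073 := rfl
theorem L186594 : sm gc N17073 = N17073 := ded_10_2 (flp_a L186592) L181465 L186592
theorem L186595 : sm gd N17073 = N16496 := ded_11_2 (flp_a L181486) (flp_d L181460) L186592
theorem L186597 : sm ge N17073 = N16794 := ded_12_2 L184153 (flp_e L181462) L186592
theorem L186599 : sm gi N17073 = N17073 := ded_16_2 (flp_a L186592) L181464 L186592
theorem L186600 : sm gb N17073 = N16795 := ded_9_2 L184158 L181318 (flp_a L175895) L181458 L186592
theorem L186602 : sm gc N16497 = N17074 := rfl
theorem L186604 : sm gg N17074 = N16797 := ded_27_2 (flp_c L184177) (flp_g L181496) L186602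
theorem L186606 : sm gh N17074 = N17074 := ded_28_2 (flp_c L186602) L181500 L186602
theorem L186607 : sm gi N17074 = N16680 := ded_29_2 L183117 (flp_i L181498) L186602
theorem L186609 : sm gd N16499 = N17075 := rfl
theorem L186611 : sm gb N17075 = N16503 := ded_18_1 (flp_d L181552) (flp_b L181514) L186609
theorem L186613 : sm gi N17075 = N16829 := ded_34_2 (flp_d L184523) (flp_i L181519) L186609
theorem L186615 : sm gc N16500 = N17076 := rfl
theorem L186617 : sm gh N17076 = N16507 := ded_28_2 (flp_c L181583) (flp_h L181527) L186615
theorem L186619 : sm gi N17076 = N16830 := ded_29_2 (flp_c L184527) (flp_i L181525) L186615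
theorem L186621 : sm gd N17076 = N17076 := ded_24_2 (flp_c L186615) (flp_d L181521) L175989 L181521 L186615
theorem L186622 : sm ge N16500 = N17077 := rfl
theorem L186624 : sm gb N17077 = N16504 := ded_19_1 (flp_e L181558) (flp_b L181523) L186622
theorem L186626 : sm gh N17077 = N16508 := ded_37_2 (flp_e L181589) (flp_h L181527) L186622
theorem L186628 : sm gi N17077 = N16831 := ded_38_2 (flp_e L184532) (flp_i L181525) L186622
theorem L186630 : sm gd N16501 = N17078 := rfl
theorem L186632 : sm ga N17078 = N16550 := ded_11_1 (flp_d L181905) (flp_a L181531) L186630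
theorem L186634 : sm gf N17078 = N17075 := ded_31_2 (flp_d L186609) (flp_f L181536) L186630
theorem L186636 : sm gh N17078 = N16503 := ded_33_2 (flp_d L181552) (flp_h L176017) (flp_d L175997) L181529 L186630
theorem L186638 : sm gd N16502 = N17079 := rfl
theorem L186640 : sm ga N17079 = N16552 := ded_11_1 (flp_d L181921) (flp_a L181540) L186638
theorem L186642 : sm gb N17079 = N17078 := ded_18_1 (flp_d L186630) (flp_b L181542) L186638
theorem L186644 : sm gf N17079 = N16503 := ded_31_2 (flp_d L181552) (flp_f L181548) L186638
theorem L186646 : sm gi N17079 = N16834 := ded_34_2 (flp_d L184562) (flp_i L181550) L186638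
theorem L186648 : sm gh N17079 = N17075 := ded_33_2 (flp_d L186609) (flp_h L181512) (flp_d L176011) L181538 L186638
theorem L186650 : sm gc N16503 = N17080 := rfl
theorem L186652 : sm ga N17080 = N16553 := ded_10_1 (flp_c L181929) (flp_a L181554) L186650
theorem L186654 : sm gi N17080 = N16835 := ded_29_2 (flp_c L184568) (flp_i L181556) L186650
theorem L186656 : sm gd N17080 = N16506 := ded_24_2 (flp_c L181576) (flp_d L176046) (flp_c L176021) L181552 L186650
theorem L186658 : sm ge N16503 = N17081 := rfl
theorem L186660 : sm ga N17081 = N16554 := ded_12_1 (flp_e L181935) (flp_a L181554) L186658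
theorem L186662 : sm gi N17081 = N16836 := ded_38_2 (flp_e L184576) (flp_i L181556) L186658
theorem L186664 : sm gd N17081 = N16504 := ded_30_1 (flp_e L181558) (flp_d L176027) (flp_e L176023) L181552 L186658
theorem L186666 : sm gf N16504 = N17082 := rfl
theorem L186668 : sm ga N17082 = N16555 := ded_13_1 (flp_f L181941) (flp_a L181560) L186666
theorem L186670 : sm gh N17082 = N16513 := ded_40_2 (flp_f L181624) (flp_h L181562) L186666
theorem L186672 : sm gi N17082 = N16837 := ded_41_2 (flp_f L184582) (flp_i L181564) L186666
theorem L186674 : sm gc N16505 = N17083 := rfl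
theorem L186676 : sm ga N17083 = N16557 := ded_10_1 (flp_c L181958) (flp_a L181568) L186674
theorem L186678 : sm gf N17083 = N16506 := ded_26_2 (flp_c L181576) (flp_f L181571) L186674
theorem L186680 : sm gh N17083 = N17083 := ded_28_2 (flp_c L186674) L181575 L186674
theorem L186681 : sm gi N17083 = N16838 := ded_29_2 (flp_c L184588) (flp_i L181573) L186674
theorem L186683 : sm ge N16505 = N17084 := rfl
theorem L186685 : sm ga N17084 = N16558 := ded_12_1 (flp_e L181965) (flp_a L181568) L186683
theorem L186687 : sm gb N17084 = N17084 := ded_19_1 (flp_e L186683) L181570 L186683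
theorem L186688 : sm gh N17084 = N17084 := ded_37_2 (flp_e L186683) L181575 L186683
theorem L186689 : sm gi N17084 = N16839 := ded_38_2 (flp_e L184596) (flp_i L181573) L186683
theorem L186691 : sm gd N17084 = N16792 := ded_30_1 (flp_e L184128) (flp_d L178645) (flp_e L176040) L181566 L186683
theorem L186693 : sm gb N16506 = N17085 := rfl
theorem L186695 : sm gh N17085 = N17085 := ded_22_2 (flp_b L186693) L181580 L186693
theorem L186696 : sm gi N17085 = N16840 := ded_23_2 (flp_b L184605) (flp_i L181581) L186693
theorem L186698 : sm gc N17085 = N17085 := ded_17_2 (flp_b L186693) (flp_c L181576) L176050 L181576 L186693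
theorem L186699 : sm ge N16507 = N17086 := rfl
theorem L186701 : sm gc N17086 = N16508 := ded_25_1 (flp_e L181589) L181583 L186699
theorem L186703 : sm gi N17086 = N16519 := ded_38_2 (flp_e L181662) (flp_i L181585) L186699
theorem L186705 : sm gf N16508 = N17087 := rfl
theorem L186707 : sm gb N17087 = N16513 := ded_20_1 (flp_f L181624) (flp_b L181591) L186705
theorem L186709 : sm gi N17087 = N16520 := ded_41_2 (flp_f L181668) (flp_i L181593) L186705
theorem L186711 : sm gd N16509 = N17088 := rfl
theorem L186713 : sm ga N17088 = N16563 := ded_11_1 (flp_d L182007) (flp_a L181597) L186711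
theorem L186715 : sm gi N17088 = N16510 := ded_34_2 (flp_d L181602) (flp_i L181600) L186711
theorem L186717 : sm gh N17088 = N16524 := ded_33_2 (flp_d L181702) (flp_h L176149) (flp_d L176065) L181595 L186711
theorem L186719 : sm gc N16510 = N17089 := rfl
theorem L186721 : sm ga N17089 = N16564 := ded_10_1 (flp_c L182013) (flp_a L181604) L186719
theorem L186723 : sm gh N17089 = N16511 := ded_28_2 (flp_c L181608) (flp_h L181606) L186719
theorem L186725 : sm gd N17089 = N17089 := ded_24_2 (flp_c L186719) (flp_d L181602) L176071 L181602 L186719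
theorem L186726 : sm ge N16510 = N17090 := rfl
theorem L186728 : sm ga N17090 = N16565 := ded_12_1 (flp_e L182018) (flp_a L181604) L186726
theorem L186730 : sm gh N17090 = N16512 := ded_37_2 (flp_e L181616) (flp_h L181606) L186726
theorem L186732 : sm gb N16511 = N17091 := rfl
theorem L186734 : sm gd N17091 = N16514 := ded_18_2 (flp_b L181630) (flp_d L181614) L186732
theorem L186736 : sm gi N17091 = N16529 := ded_23_2 (flp_b L181736) (flp_i L181612) L186732
theorem L186738 : sm ge N16511 = N17092 := rfl
theorem L186740 : sm ga N17092 = N16568 := ded_12_1 (flp_e L182034) (flp_a L181610) L186738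
theorem L186742 : sm gc N17092 = N16512 := ded_25_1 (flp_e L181616) L181608 L186738
theorem L186744 : sm gi N17092 = N16530 := ded_38_2 (flp_e L181740) (flp_i L181612) L186738
theorem L186746 : sm gf N16512 = N17093 := rfl
theorem L186748 : sm ga N17093 = N16569 := ded_13_1 (flp_f L182040) (flp_a L181618) L186746
theorem L186750 : sm gd N17093 = N16513 := ded_31_1 (flp_f L181624) (flp_d L181622) L186746
theorem L186752 : sm gi N17093 = N16531 := ded_41_2 (flp_f L181746) (flp_i L181620) L186746
theorem L186754 : sm gg N16513 = N17094 := rfl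
theorem L186756 : sm ga N17094 = N16570 := ded_14_1 (flp_g L182046) (flp_a L181626) L186754
theorem L186758 : sm gi N17094 = N16532 := ded_43_2 (flp_g L181752) (flp_i L181628) L186754
theorem L186760 : sm gd N16515 = N17095 := rfl
theorem L186762 : sm gb N17095 = N16524 := ded_18_1 (flp_d L181702) (flp_b L181639) L186760
theorem L186764 : sm gi N17095 = N16516 := ded_34_2 (flp_d L181646) (flp_i L181644) L186760
theorem L186766 : sm gc N16516 = N17096 := rfl
theorem L186768 : sm gh N17096 = N16517 := ded_28_2 (flp_c L181652) (flp_h L181650) L186766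
theorem L186770 : sm gd N17096 = N17096 := ded_24_2 (flp_c L186766) (flp_d L181646) L176102 L181646 L186766
theorem L186771 : sm ge N16516 = N17097 := rfl
theorem L186773 : sm gb N17097 = N16526 := ded_19_1 (flp_e L181716) (flp_b L181648) L186771
theorem L186775 : sm gh N17097 = N16518 := ded_37_2 (flp_e L181656) (flp_h L181650) L186771
theorem L186777 : sm gd N17097 = N16885 := ded_30_1 (flp_e L185040) (flp_d L179657) (flp_e L176103) L181646 L186771
theorem L186779 : sm gb N16517 = N17098 := rfl
theorem L186781 : sm gd N17098 = N16544 := ded_18_2 (flp_b L181868) (flp_d L181654) L186779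
theorem L186783 : sm gc N17098 = N16529 := ded_17_2 (flp_b L181736) (flp_c L176171) (flp_b L176107) L181652 L186779
theorem L186785 : sm ge N16517 = N17099 := rfl
theorem L186787 : sm gc N17099 = N16518 := ded_25_1 (flp_e L181656) L181652 L186785
theorem L186789 : sm gf N16518 = N17100 := rfl
theorem L186791 : sm gb N17100 = N16531 := ded_20_1 (flp_f L181746) (flp_b L181658) L186789
theorem L186793 : sm gd N17100 = N16520 := ded_31_1 (flp_f L181668) (flp_d L181660) L186789
theorem L186795 : sm gd N16519 = N17101 := rfl
theorem L186797 : sm ge N17101 = N16546 := ded_30_2 (flp_d L181878) (flp_e L176344) (flp_d L176113) L181662 L186795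
theorem L186799 : sm gf N16519 = N17102 := rfl
theorem L186801 : sm gc N17102 = N16520 := ded_26_1 (flp_f L181668) (flp_c L181664) L186799
theorem L186803 : sm gh N17102 = N16891 := ded_40_2 (flp_f L185078) (flp_h L181666) L186799
theorem L186805 : sm gg N16520 = N17103 := rfl
theorem L186807 : sm gb N17103 = N16532 := ded_21_1 (flp_g L181752) (flp_b L181670) L186805
theorem L186809 : sm gh N17103 = N16892 := ded_42_2 (flp_g L185082) (flp_h L181672) L186805
theorem L186811 : sm gd N16521 = N17104 := rfl
theorem L186813 : sm ga N17104 = N16571 := ded_11_1 (flp_d L182050) (flp_a L181676) L186811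
theorem L186815 : sm gf N17104 = N16893 := ded_31_2 (flp_d L185086) (flp_f L181682) L186811
theorem L186817 : sm gc N17104 = N16773 := ded_24_1 (flp_d L184016) L178538 (flp_d L176212) (flp_c L181678) L186811
theorem L186819 : sm gh N17104 = N17031 := ded_33_2 L186241 L181056 (flp_d L176127) L181674 L186811
theorem L186821 : sm gd N16522 = N17105 := rfl
theorem L186823 : sm ga N17105 = N16573 := ded_11_1 (flp_d L182060) (flp_a L181686) L186821
theorem L186825 : sm gf N17105 = N16524 := ded_31_2 (flp_d L181702) (flp_f L181690) L186821
theorem L186827 : sm gi N17105 = N16523 := ded_34_2 (flp_d L181694) (flp_i L181692) L186821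
theorem L186829 : sm gc N16523 = N17106 := rfl
theorem L186831 : sm ga N17106 = N16574 := ded_10_1 (flp_c L182066) (flp_a L181696) L186829
theorem L186833 : sm gf N17106 = N16525 := ded_26_2 (flp_c L181708) (flp_f L181698) L186829
theorem L186835 : sm gh N17106 = N16527 := ded_28_2 (flp_c L181724) (flp_h L181700) L186829
theorem L186837 : sm gd N17106 = N16536 := ded_24_2 (flp_c L181791) (flp_d L176230) (flp_c L176145) L181694 L186829
theorem L186839 : sm ge N16523 = N17107 := rfl
theorem L186841 : sm ga N17107 = N16575 := ded_12_1 (flp_e L182074) (flp_a L181696) L186839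
theorem L186843 : sm gh N17107 = N16528 := ded_37_2 (flp_e L181732) (flp_h L181700) L186839
theorem L186845 : sm gc N16524 = N17108 := rfl
theorem L186847 : sm ga N17108 = N16576 := ded_10_1 (flp_c L182078) (flp_a L181704) L186845
theorem L186849 : sm gi N17108 = N16525 := ded_29_2 (flp_c L181708) (flp_i L181706) L186845
theorem L186851 : sm gd N17108 = N16537 := ded_24_2 (flp_c L181801) (flp_d L176241) (flp_c L176153) L181702 L186845
theorem L186853 : sm ge N16524 = N17109 := rfl
theorem L186855 : sm ga N17109 = N16577 := ded_12_1 (flp_e L182084) (flp_a L181704) L186853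
theorem L186857 : sm gi N17109 = N16526 := ded_38_2 (flp_e L181716) (flp_i L181706) L186853
theorem L186859 : sm gd N17109 = N16899 := ded_30_1 (flp_e L185142) (flp_d L179731) (flp_e L176155) L181702 L186853
theorem L186861 : sm gb N16525 = N17110 := rfl
theorem L186863 : sm gd N17110 = N16539 := ded_18_2 (flp_b L181822) (flp_d L181714) L186861
theorem L186865 : sm gh N17110 = N16529 := ded_22_2 (flp_b L181736) (flp_h L181712) L186861
theorem L186867 : sm ge N16525 = N17111 := rfl
theorem L186869 : sm ga N17111 = N16579 := ded_12_1 (flp_e L182096) (flp_a L181710) L186867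
theorem L186871 : sm gc N17111 = N16526 := ded_25_1 (flp_e L181716) L181708 L186867
theorem L186873 : sm gh N17111 = N16530 := ded_37_2 (flp_e L181740) (flp_h L181712) L186867
theorem L186875 : sm gf N16526 = N17112 := rfl
theorem L186877 : sm ga N17112 = N16580 := ded_13_1 (flp_f L182102) (flp_a L181718) L186875
theorem L186879 : sm gd N17112 = N16901 := ded_31_1 (flp_f L185160) (flp_d L181722) L186875
theorem L186881 : sm gh N17112 = N16531 := ded_40_2 (flp_f L181746) (flp_h L181720) L186875
theorem L186883 : sm ge N16527 = N17113 := rfl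
theorem L186885 : sm ga N17113 = N16584 := ded_12_1 (flp_e L182124) (flp_a L181726) L186883
theorem L186887 : sm gc N17113 = N16528 := ded_25_1 (flp_e L181732) L181724 L186883
theorem L186889 : sm gf N16528 = N17114 := rfl
theorem L186891 : sm ga N17114 = N16585 := ded_13_1 (flp_f L182128) (flp_a L181734) L186889
theorem L186893 : sm ge N17114 = N16531 := ded_35_1 (flp_f L181746) (flp_e L176177) (flp_f L176169) L181732 L186889
theorem L186895 : sm ga N16529 = N17115 := rfl
theorem L186897 : sm gd N17115 = N16533 := ded_11_2 (flp_a L181758) (flp_d L181738) L186895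
theorem L186899 : sm gf N17115 = N16546 := ded_13_2 (flp_a L185248) L185252 L186895
theorem L186901 : sm gb N17115 = N16586 := ded_9_2 (flp_a L182132) (flp_b L176575) (flp_a L176173) L181736 L186895
theorem L186903 : sm ge N16529 = N17116 := rfl
theorem L186905 : sm gb N17116 = N16530 := ded_19_1 (flp_e L181740) L181736 L186903
theorem L186907 : sm gf N16530 = N17117 := rfl
theorem L186909 : sm ga N17117 = N16588 := ded_13_1 (flp_f L182140) (flp_a L181742) L186907
theorem L186911 : sm gc N17117 = N16531 := ded_26_1 (flp_f L181746) (flp_c L181744) L186907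
theorem L186913 : sm gg N16531 = N17118 := rfl
theorem L186915 : sm ga N17118 = N16589 := ded_14_1 (flp_g L182144) (flp_a L181748) L186913
theorem L186917 : sm gd N17118 = N16532 := ded_32_1 (flp_g L181752) (flp_d L181750) L186913
theorem L186919 : sm gc N16535 = N17119 := rfl
theorem L186921 : sm ga N17119 = N16593 := ded_10_1 (flp_c L182166) (flp_a L181781) L186919
theorem L186923 : sm ge N17119 = N16797 := ded_25_2 (flp_c L184177) (flp_e L181788) L186919
theorem L186925 : sm gf N17119 = N16537 := ded_26_2 (flp_c L181801) (flp_f L181784) L186919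
theorem L186927 : sm gh N17119 = N17119 := ded_28_2 (flp_c L186919) L181790 L186919
theorem L186928 : sm gi N17119 = N16536 := ded_29_2 (flp_c L181791) (flp_i L181786) L186919
theorem L186930 : sm gb N16537 = N17120 := rfl
theorem L186932 : sm gh N17120 = N17120 := ded_22_2 (flp_b L186930) L181805 L186930
theorem L186933 : sm gi N17120 = N16539 := ded_23_2 (flp_b L181822) (flp_i L181806) L186930
theorem L186935 : sm gc N17120 = N17120 := ded_17_2 (flp_b L186930) (flp_c L181801) L176245 L181801 L186930
theorem L186936 : sm ge N16537 = N17121 := rfl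
theorem L186938 : sm ga N17121 = N16598 := ded_12_1 (flp_e L182217) (flp_a L181803) L186936
theorem L186940 : sm gc N17121 = N16538 := ded_25_1 (flp_e L181808) L181801 L186936
theorem L186942 : sm gg N17121 = N17069 := ded_36_2 L186559 L186435 L186936
theorem L186944 : sm gh N17121 = N17121 := ded_37_2 (flp_e L186936) L181805 L186936
theorem L186945 : sm gi N17121 = N16540 := ded_38_2 (flp_e L181827) (flp_i L181806) L186936
theorem L186947 : sm gf N17121 = N16800 := ded_35_2 (flp_e L184201) (flp_f L184179) (flp_e L186923) L186925 L186936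
theorem L186949 : sm ga N16539 = N17122 := rfl
theorem L186951 : sm gc N17122 = N17122 := ded_10_2 (flp_a L186949) L181826 L186949
theorem L186952 : sm gf N17122 = N16547 := ded_13_2 (flp_a L185262) L185269 L186949
theorem L186954 : sm gh N17122 = N16541 := ded_15_2 (flp_a L181839) (flp_h L181824) L186949
theorem L186956 : sm gb N17122 = N16599 := ded_9_2 (flp_a L182226) (flp_b L176680) (flp_a L176251) L181822 L186949
theorem L186958 : sm ge N16539 = N17123 := rfl
theorem L186960 : sm gb N17123 = N16540 := ded_19_1 (flp_e L181827) L181822 L186958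
theorem L186962 : sm gc N17123 = N17123 := ded_25_1 (flp_e L186958) L181826 L186958
theorem L186963 : sm gg N17123 = N17070 := ded_36_2 L186566 L186442 L186958
theorem L186965 : sm gh N17123 = N16542 := ded_37_2 (flp_e L181849) (flp_h L181824) L186958
theorem L186967 : sm gf N17123 = N16802 := ded_35_2 (flp_e L184219) (flp_f L184186) (flp_e L185267) L185269 L186958
theorem L186969 : sm gd N16540 = N17124 := rfl
theorem L186971 : sm ga N17124 = N16601 := ded_11_1 (flp_d L182240) (flp_a L181829) L186969
theorem L186973 : sm gf N17124 = N16803 := ded_31_2 (flp_d L184226) (flp_f L181837) L186969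
theorem L186975 : sm gg N17124 = N16955 := ded_32_2 L185645 (flp_g L181833) L186969
theorem L186977 : sm gc N17124 = N16909 := ded_24_1 (flp_d L185234) L179900 (flp_d L176264) (flp_c L181831) L186969
theorem L186979 : sm gh N17124 = N16937 := ded_33_2 L185474 L180207 (flp_d L176304) (flp_h L181835) L186969
theorem L186981 : sm ge N16541 = N17125 := rfl
theorem L186983 : sm ga N17125 = N16542 := ded_12_1 (flp_e L181849) L181839 L186981
theorem L186985 : sm gb N17125 = N16602 := ded_19_1 (flp_e L182244) (flp_b L181847) L186981
theorem L186987 : sm gc N17125 = N17125 := ded_25_1 (flp_e L186981) L181841 L186981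
theorem L186988 : sm gg N17125 = N17073 := ded_36_2 L186597 L184150 L186981
theorem L186990 : sm gi N17125 = N17125 := ded_38_2 (flp_e L186981) L181846 L186981
theorem L186991 : sm gd N17125 = N17066 := ded_30_1 L186524 L183045 L177615 (flp_d L181842) L186981
theorem L186993 : sm gf N17125 = N16804 := ded_35_2 (flp_e L184230) L178786 (flp_e L176367) (flp_f L181844) L186981
theorem L186995 : sm gd N16543 = N17126 := rfl
theorem L186997 : sm gi N17126 = N16546 := ded_34_2 (flp_d L181878) (flp_i L181866) L186995
theorem L186999 : sm gd N16545 = N17127 := rfl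
theorem L187001 : sm gc N17127 = N16546 := ded_24_1 (flp_d L181878) L176346 (flp_d L176342) (flp_c L181875) L186999
theorem L187003 : sm gh N16546 = N17128 := rfl
theorem L187005 : sm gd N17128 = N16547 := ded_33_1 (flp_h L181880) (flp_d L176363) (flp_h L176348) L181878 L187003
theorem L187007 : sm gi N16547 = N17129 := rfl
theorem L187009 : sm gb N17129 = N17074 := ded_23_1 L186607 L183115 L187007
theorem L187011 : sm gc N17129 = N17129 := ded_29_1 (flp_i L187007) L181882 L187007
theorem L187012 : sm ge N17129 = N16913 := ded_38_1 (flp_i L185273) (flp_e L181883) L187007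
theorem L187014 : sm gh N17129 = N17129 := ded_44_1 (flp_i L187007) (flp_h L181880) L176365 L181880 L187007
theorem L187015 : sm gd N16548 = N17130 := rfl
theorem L187017 : sm ga N17130 = N17075 := ded_11_1 (flp_d L186609) (flp_a L181887) L187015
theorem L187019 : sm gb N17130 = N16824 := ded_18_1 (flp_d L184463) (flp_b L181889) L187015
theorem L187021 : sm gf N17130 = N16550 := ded_31_2 (flp_d L181905) (flp_f L181894) L187015
theorem L187023 : sm gg N17130 = N16829 := ded_32_2 (flp_d L184523) (flp_g L181896) L187015
theorem L187025 : sm gh N17130 = N16552 := ded_33_2 (flp_d L181921) (flp_h L176408) (flp_d L176376) L181885 L187015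
theorem L187027 : sm gd N16549 = N17131 := rfl
theorem L187029 : sm gi N17131 = N16550 := ded_34_2 (flp_d L181905) (flp_i L181903) L187027
theorem L187031 : sm gh N17131 = N16954 := ded_33_2 (flp_d L185637) (flp_h L180347) (flp_d L176387) L181898 L187027
theorem L187033 : sm gc N16550 = N17132 := rfl
theorem L187035 : sm gh N17132 = N16553 := ded_28_2 (flp_c L181929) (flp_h L181907) L187033
theorem L187037 : sm gd N17132 = N17132 := ded_24_2 (flp_c L187033) (flp_d L181905) L176393 L181905 L187033
theorem L187038 : sm ge N16550 = N17133 := rfl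
theorem L187040 : sm gh N17133 = N16554 := ded_37_2 (flp_e L181935) (flp_h L181907) L187038
theorem L187042 : sm gd N17133 = N16565 := ded_30_1 (flp_e L182018) (flp_d L176486) (flp_e L176394) L181905 L187038
theorem L187044 : sm gd N16551 = N17134 := rfl
theorem L187046 : sm gb N17134 = N16833 := ded_18_1 (flp_d L184554) (flp_b L181911) L187044
theorem L187048 : sm gg N17134 = N16552 := ded_32_2 (flp_d L181921) (flp_g L181917) L187044
theorem L187050 : sm gi N17134 = N16957 := ded_34_2 (flp_d L185653) (flp_i L181919) L187044
theorem L187052 : sm gh N17134 = N16829 := ded_33_2 (flp_d L184523) (flp_h L179216) (flp_d L176402) L181909 L187044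
theorem L187054 : sm gc N16552 = N17135 := rfl
theorem L187056 : sm gf N17135 = N16553 := ded_26_2 (flp_c L181929) (flp_f L181925) L187054
theorem L187058 : sm gi N17135 = N16958 := ded_29_2 (flp_c L185663) (flp_i L181927) L187054
theorem L187060 : sm gd N17135 = N16557 := ded_24_2 (flp_c L181958) (flp_d L176440) (flp_c L176412) L181921 L187054
theorem L187062 : sm ge N16552 = N17136 := rfl
theorem L187064 : sm gb N17136 = N17040 := ded_19_1 L186299 (flp_b L181923) L187062
theorem L187066 : sm gi N17136 = N16959 := ded_38_2 (flp_e L185669) (flp_i L181927) L187062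
theorem L187068 : sm gd N17136 = N17039 := ded_30_1 (flp_e L186291) L180939 (flp_e L176414) L181921 L187062
theorem L187070 : sm gb N16553 = N17137 := rfl
theorem L187072 : sm gd N17137 = N16559 := ded_18_2 (flp_b L181974) (flp_d L181933) L187070
theorem L187074 : sm gi N17137 = N16960 := ded_23_2 (flp_b L185671) (flp_i L181931) L187070
theorem L187076 : sm ge N16553 = N17138 := rfl
theorem L187078 : sm gc N17138 = N16554 := ded_25_1 (flp_e L181935) L181929 L187076
theorem L187080 : sm gi N17138 = N16961 := ded_38_2 (flp_e L185675) (flp_i L181931) L187076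
theorem L187082 : sm gf N16554 = N17139 := rfl
theorem L187084 : sm gd N17139 = N16555 := ded_31_1 (flp_f L181941) (flp_d L181939) L187082
theorem L187086 : sm gi N17139 = N16962 := ded_41_2 (flp_f L185679) (flp_i L181937) L187082
theorem L187088 : sm gg N16555 = N17140 := rfl
theorem L187090 : sm gh N17140 = N16570 := ded_42_2 (flp_g L182046) (flp_h L181943) L187088
theorem L187092 : sm gi N17140 = N16963 := ded_43_2 (flp_g L185683) (flp_i L181945) L187088
theorem L187094 : sm gc N16556 = N17141 := rfl
theorem L187096 : sm gf N17141 = N17060 := ded_26_2 L186462 (flp_f L181951) L187094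
theorem L187098 : sm gg N17141 = N16557 := ded_27_2 (flp_c L181958) (flp_g L181953) L187094
theorem L187100 : sm gh N17141 = N17141 := ded_28_2 (flp_c L187094) L181957 L187094
theorem L187101 : sm gi N17141 = N16964 := ded_29_2 (flp_c L185687) (flp_i L181955) L187094
theorem L187103 : sm gb N16557 = N17142 := rfl
theorem L187105 : sm gf N17142 = N16559 := ded_20_2 (flp_b L181974) (flp_f L181960) L187103
theorem L187107 : sm gh N17142 = N17142 := ded_22_2 (flp_b L187103) L181962 L187103
theorem L187108 : sm gi N17142 = N16965 := ded_23_2 (flp_b L185695) (flp_i L181963) L187103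
theorem L187110 : sm gc N17142 = N16604 := ded_17_2 (flp_b L182267) (flp_c L176792) (flp_b L176442) L181958 L187103
theorem L187112 : sm ge N17141 = N17142 := ded_35_5 L187105 (flp_e L183296) L183298 L186460 (flp_f L187096)
theorem L187114 : sm ge N16557 = N17143 := rfl
theorem L187116 : sm gb N17143 = N17141 := ded_19_1 L187112 (flp_b L187103) L187114
theorem L187118 : sm gc N17143 = N16558 := ded_25_1 (flp_e L181965) L181958 L187114
theorem L187120 : sm gg N17143 = N17142 := ded_36_2 (flp_e L187112) L187098 L187114
theorem L187122 : sm gh N17143 = N17143 := ded_37_2 (flp_e L187114) L181962 L187114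
theorem L187123 : sm gi N17143 = N16966 := ded_38_2 (flp_e L185705) (flp_i L181963) L187114
theorem L187125 : sm ga N16559 = N17144 := rfl
theorem L187127 : sm gc N17144 = N16605 := ded_10_2 (flp_a L182280) (flp_c L181979) L187125
theorem L187129 : sm gh N17144 = N17144 := ded_15_2 (flp_a L187125) L181976 L187125
theorem L187130 : sm gi N17144 = N16967 := ded_16_2 (flp_a L185715) (flp_i L181977) L187125
theorem L187132 : sm gd N16560 = N17145 := rfl
theorem L187134 : sm ga N17145 = N16730 := ded_11_1 (flp_d L183608) (flp_a L181983) L187132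
theorem L187136 : sm gb N17145 = N16822 := ded_18_1 (flp_d L184441) (flp_b L181985) L187132
theorem L187138 : sm gf N17145 = N16823 := ded_31_2 (flp_d L184453) (flp_f L181990) L187132
theorem L187140 : sm gg N17145 = N16859 := ded_32_2 (flp_d L184796) (flp_g L181992) L187132
theorem L187142 : sm gh N17145 = N16640 := ded_33_2 (flp_d L182683) (flp_h L177248) (flp_d L176461) L181981 L187132
theorem L187144 : sm gd N16561 = N17146 := rfl
theorem L187146 : sm gf N17146 = N16563 := ded_31_2 (flp_d L182007) (flp_f L181997) L187144
theorem L187148 : sm gi N17146 = N16562 := ded_34_2 (flp_d L182001) (flp_i L181999) L187144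
theorem L187150 : sm gh N17146 = N16573 := ded_33_2 (flp_d L182060) (flp_h L176533) (flp_d L176472) L181994 L187144
theorem L187152 : sm gc N16562 = N17147 := rfl
theorem L187154 : sm gf N17147 = N16564 := ded_26_2 (flp_c L182013) (flp_f L182003) L187152
theorem L187156 : sm gh N17147 = N16566 := ded_28_2 (flp_c L182022) (flp_h L182005) L187152
theorem L187158 : sm gd N17147 = N17147 := ded_24_2 (flp_c L187152) (flp_d L182001) L176478 L182001 L187152
theorem L187159 : sm ge N16562 = N17148 := rfl
theorem L187161 : sm gh N17148 = N16567 := ded_37_2 (flp_e L182030) (flp_h L182005) L187159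
theorem L187163 : sm gc N16563 = N17149 := rfl
theorem L187165 : sm gh N17149 = N16576 := ded_28_2 (flp_c L182078) (flp_h L182011) L187163
theorem L187167 : sm gi N17149 = N16564 := ded_29_2 (flp_c L182013) (flp_i L182009) L187163
theorem L187169 : sm gd N17149 = N17149 := ded_24_2 (flp_c L187163) (flp_d L182007) L176483 L182007 L187163
theorem L187170 : sm ge N16563 = N17150 := rfl
theorem L187172 : sm gh N17150 = N16577 := ded_37_2 (flp_e L182084) (flp_h L182011) L187170
theorem L187174 : sm gi N17150 = N16565 := ded_38_2 (flp_e L182018) (flp_i L182009) L187170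
theorem L187176 : sm ge N16564 = N17151 := rfl
theorem L187178 : sm gc N17151 = N16565 := ded_25_1 (flp_e L182018) L182013 L187176
theorem L187180 : sm gh N17151 = N16568 := ded_37_2 (flp_e L182034) (flp_h L182015) L187176
theorem L187182 : sm gf N16565 = N17152 := rfl
theorem L187184 : sm gh N17152 = N16569 := ded_40_2 (flp_f L182040) (flp_h L182020) L187182
theorem L187186 : sm ge N16566 = N17153 := rfl
theorem L187188 : sm gc N17153 = N16567 := ded_25_1 (flp_e L182030) L182022 L187186
theorem L187190 : sm gi N17153 = N16584 := ded_38_2 (flp_e L182124) (flp_i L182026) L187186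
theorem L187192 : sm gf N16567 = N17154 := rfl
theorem L187194 : sm gi N17154 = N16585 := ded_41_2 (flp_f L182128) (flp_i L182032) L187192
theorem L187196 : sm ge N17154 = N16569 := ded_35_1 (flp_f L182040) (flp_e L176502) (flp_f L176492) L182030 L187192
theorem L187198 : sm gf N16568 = N17155 := rfl
theorem L187200 : sm gc N17155 = N16569 := ded_26_1 (flp_f L182040) (flp_c L182036) L187198
theorem L187202 : sm gi N17155 = N16588 := ded_41_2 (flp_f L182140) (flp_i L182038) L187198
theorem L187204 : sm gg N16569 = N17156 := rfl
theorem L187206 : sm gd N17156 = N16570 := ded_32_1 (flp_g L182046) (flp_d L182042) L187204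
theorem L187208 : sm gi N17156 = N16589 := ded_43_2 (flp_g L182144) (flp_i L182044) L187204
theorem L187210 : sm gc N16571 = N17157 := rfl
theorem L187212 : sm ga N17157 = N16773 := ded_10_1 (flp_c L186817) L186813 L187210
theorem L187214 : sm gf N17157 = N17031 := ded_26_2 (flp_c L186233) (flp_f L182052) L187210
theorem L187216 : sm gh N17157 = N16893 := ded_28_2 (flp_c L185414) L185416 L187210
theorem L187218 : sm gd N17157 = N16591 := ded_24_2 (flp_c L182150) (flp_d L176617) (flp_c L176521) L182050 L187210
theorem L187220 : sm ge N16571 = N17158 := rfl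
theorem L187222 : sm gd N17158 = N16575 := ded_30_1 (flp_e L182074) (flp_d L176541) (flp_e L176523) L182050 L187220
theorem L187224 : sm gc N16572 = N17159 := rfl
theorem L187226 : sm gg N17159 = N16574 := ded_27_2 (flp_c L182066) (flp_g L182056) L187224
theorem L187228 : sm gh N17159 = N16581 := ded_28_2 (flp_c L182108) (flp_h L182058) L187224
theorem L187230 : sm gd N17159 = N16592 := ded_24_2 (flp_c L182160) (flp_d L176629) (flp_c L176529) L182054 L187224
theorem L187232 : sm ge N16572 = N17160 := rfl
theorem L187234 : sm gg N17160 = N16575 := ded_36_2 (flp_e L182074) (flp_g L182056) L187232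
theorem L187236 : sm gh N17160 = N16582 := ded_37_2 (flp_e L182114) (flp_h L182058) L187232
theorem L187238 : sm gc N16573 = N17161 := rfl
theorem L187240 : sm gf N17161 = N16576 := ded_26_2 (flp_c L182078) (flp_f L182062) L187238
theorem L187242 : sm gi N17161 = N16574 := ded_29_2 (flp_c L182066) (flp_i L182064) L187238
theorem L187244 : sm gd N17161 = N16593 := ded_24_2 (flp_c L182166) (flp_d L176637) (flp_c L176535) L182060 L187238
theorem L187246 : sm ge N16573 = N17162 := rfl
theorem L187248 : sm gi N17162 = N16575 := ded_38_2 (flp_e L182074) (flp_i L182064) L187246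
theorem L187250 : sm gb N16574 = N17163 := rfl
theorem L187252 : sm gd N17163 = N16595 := ded_18_2 (flp_b L182186) (flp_d L182072) L187250
theorem L187254 : sm gf N17163 = N16578 := ded_20_2 (flp_b L182090) (flp_f L182068) L187250
theorem L187256 : sm gh N17163 = N16583 := ded_22_2 (flp_b L182118) (flp_h L182070) L187250
theorem L187258 : sm ge N16574 = N17164 := rfl
theorem L187260 : sm gc N17164 = N16575 := ded_25_1 (flp_e L182074) L182066 L187258
theorem L187262 : sm gh N17164 = N16584 := ded_37_2 (flp_e L182124) (flp_h L182070) L187258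
theorem L187264 : sm gf N16575 = N17165 := rfl
theorem L187266 : sm gh N17165 = N16585 := ded_40_2 (flp_f L182128) (flp_h L182076) L187264
theorem L187268 : sm ge N17165 = N16580 := ded_35_1 (flp_f L182102) (flp_e L176557) (flp_f L176543) L182074 L187264
theorem L187270 : sm gb N16576 = N17166 := rfl
theorem L187272 : sm gd N17166 = N16597 := ded_18_2 (flp_b L182210) (flp_d L182082) L187270
theorem L187274 : sm gi N17166 = N16578 := ded_23_2 (flp_b L182090) (flp_i L182080) L187270
theorem L187276 : sm ge N16576 = N17167 := rfl
theorem L187278 : sm gc N17167 = N16577 := ded_25_1 (flp_e L182084) L182078 L187276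
theorem L187280 : sm gi N17167 = N16579 := ded_38_2 (flp_e L182096) (flp_i L182080) L187276
theorem L187282 : sm gf N16577 = N17168 := rfl
theorem L187284 : sm gd N17168 = N17038 := ded_31_1 (flp_f L186287) (flp_d L182088) L187282
theorem L187286 : sm gi N17168 = N16580 := ded_41_2 (flp_f L182102) (flp_i L182086) L187282
theorem L187288 : sm ga N16578 = N17169 := rfl
theorem L187290 : sm gd N17169 = N16599 := ded_11_2 (flp_a L182226) (flp_d L182092) L187288
theorem L187292 : sm gh N17169 = N16586 := ded_15_2 (flp_a L182132) (flp_h L182094) L187288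
theorem L187294 : sm ge N16578 = N17170 := rfl
theorem L187296 : sm gb N17170 = N16579 := ded_19_1 (flp_e L182096) L182090 L187294
theorem L187298 : sm gh N17170 = N16587 := ded_37_2 (flp_e L182136) (flp_h L182094) L187294
theorem L187300 : sm gd N16579 = N17171 := rfl
theorem L187302 : sm gc N17171 = N17040 := ded_24_1 (flp_d L186297) L180947 (flp_d L176561) (flp_c L182098) L187300
theorem L187304 : sm ge N17171 = N16601 := ded_30_2 (flp_d L182240) (flp_e L176686) (flp_d L176555) L182096 L187300
theorem L187306 : sm gf N16579 = N17172 := rfl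
theorem L187308 : sm gc N17172 = N16580 := ded_26_1 (flp_f L182102) (flp_c L182098) L187306
theorem L187310 : sm gh N17172 = N16588 := ded_40_2 (flp_f L182140) (flp_h L182100) L187306
theorem L187312 : sm gg N16580 = N17173 := rfl
theorem L187314 : sm gd N17173 = N17042 := ded_32_1 (flp_g L186307) (flp_d L182104) L187312
theorem L187316 : sm gh N17173 = N16589 := ded_42_2 (flp_g L182144) (flp_h L182106) L187312
theorem L187318 : sm ge N16581 = N17174 := rfl
theorem L187320 : sm gc N17174 = N16582 := ded_25_1 (flp_e L182114) L182108 L187318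
theorem L187322 : sm gg N17174 = N16584 := ded_36_2 (flp_e L182124) (flp_g L182110) L187318
theorem L187324 : sm gf N16582 = N17175 := rfl
theorem L187326 : sm ge N16583 = N17176 := rfl
theorem L187328 : sm gb N17176 = N16584 := ded_19_1 (flp_e L182124) L182118 L187326
theorem L187330 : sm gd N16584 = N17177 := rfl
theorem L187332 : sm ge N17177 = N16590 := ded_30_2 (flp_d L182148) (flp_e L176605) (flp_d L176571) L182124 L187330
theorem L187334 : sm gf N16584 = N17178 := rfl
theorem L187336 : sm gc N17178 = N16585 := ded_26_1 (flp_f L182128) (flp_c L182126) L187334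
theorem L187338 : sm ge N17178 = N16588 := ded_35_1 (flp_f L182140) (flp_e L176579) (flp_f L176569) L182124 L187334
theorem L187340 : sm gg N16585 = N17179 := rfl
theorem L187342 : sm ge N17179 = N16589 := ded_36_1 (flp_g L182144) (flp_e L182130) L187340
theorem L187344 : sm ge N16586 = N17180 := rfl
theorem L187346 : sm ga N17180 = N16587 := ded_12_1 (flp_e L182136) L182132 L187344
theorem L187348 : sm gf N16587 = N17181 := rfl
theorem L187350 : sm gb N17181 = N16588 := ded_20_1 (flp_f L182140) (flp_b L182138) L187348
theorem L187352 : sm gg N16588 = N17182 := rfl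
theorem L187354 : sm gc N17182 = N16589 := ded_27_1 (flp_g L182144) (flp_c L182142) L187352
theorem L187356 : sm gh N16590 = N17183 := rfl
theorem L187358 : sm ga N17183 = N16644 := ded_15_1 (flp_h L184327) L184323 L187356
theorem L187360 : sm gb N17183 = N16814 := ded_22_1 L184367 L182814 L187356
theorem L187362 : sm gc N17183 = N16643 := ded_28_1 L182730 L182681 L187356
theorem L187364 : sm gf N17183 = N16811 := ded_40_1 L184327 L182734 L187356
theorem L187366 : sm gg N17183 = N16651 := ded_42_1 (flp_h L184367) L184365 L187356
theorem L187368 : sm gd N17183 = N16603 := ded_33_1 (flp_h L182251) (flp_d L176739) (flp_h L176609) L182148 L187356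
theorem L187370 : sm gi N16925 = N17183 := ded_29_0 L187362 L182728 L185380
theorem L187372 : sm gb N16593 = N17184 := rfl
theorem L187374 : sm gf N17184 = N16597 := ded_20_2 (flp_b L182210) (flp_f L182168) L187372
theorem L187376 : sm gh N17184 = N17184 := ded_22_2 (flp_b L187372) L182170 L187372
theorem L187377 : sm gi N17184 = N16595 := ded_23_2 (flp_b L182186) (flp_i L182171) L187372
theorem L187379 : sm gc N17184 = N16606 := ded_17_2 (flp_b L182286) (flp_c L176821) (flp_b L176639) L182166 L187372
theorem L187381 : sm ga N17074 = N17184 := ded_16_3 L187377 (flp_a L183113) (flp_i L186607)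
theorem L187383 : sm ge N17048 = N17184 := ded_38_3 L187377 (flp_e L182194) (flp_i L186336)
theorem L187385 : sm ge N16593 = N17185 := rfl
theorem L187387 : sm ga N17185 = N16797 := ded_12_1 (flp_e L186923) L186921 L187385
theorem L187389 : sm gb N17185 = N17048 := ded_19_1 L187383 (flp_b L187372) L187385
theorem L187391 : sm gc N17185 = N16594 := ded_25_1 (flp_e L182173) L182166 L187385
theorem L187393 : sm gg N17185 = N17184 := ded_36_2 (flp_e L187383) L186333 L187385
theorem L187395 : sm gh N17185 = N17185 := ded_37_2 (flp_e L187385) L182170 L187385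
theorem L187396 : sm gi N17185 = N16596 := ded_38_2 (flp_e L182196) (flp_i L182171) L187385
theorem L187398 : sm gf N17185 = N16673 := ded_35_2 L183024 L182224 (flp_e L182217) (flp_f L182168) L187385
theorem L187400 : sm gd N16596 = N17186 := rfl
theorem L187402 : sm ga N17186 = N16776 := ded_11_1 L184038 (flp_a L182198) L187400
theorem L187404 : sm gb N17186 = N17159 := ded_18_1 L187230 (flp_b L182200) L187400
theorem L187406 : sm gf N17186 = N16663 := ded_31_2 L182932 (flp_f L182208) L187400
theorem L187408 : sm gg N17186 = N17163 := ded_32_2 L187252 (flp_g L182204) L187400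
theorem L187410 : sm gc N17186 = N16661 := ded_24_1 (flp_d L182910) L177471 (flp_d L176660) (flp_c L182202) L187400
theorem L187412 : sm gh N17186 = N16666 := ded_33_2 L182964 L177543 L176723 (flp_h L182206) L187400
theorem L187414 : sm ga N16597 = N17187 := rfl
theorem L187416 : sm gc N17187 = N16607 := ded_10_2 (flp_a L182301) (flp_c L182215) L187414
theorem L187418 : sm gf N17187 = N17074 := ded_13_2 L187381 L187374 L187414
theorem L187420 : sm gh N17187 = N17187 := ded_15_2 (flp_a L187414) L182212 L187414
theorem L187421 : sm gi N17187 = N16599 := ded_16_2 (flp_a L182226) (flp_i L182213) L187414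
theorem L187423 : sm ge N16597 = N17188 := rfl
theorem L187425 : sm gb N17188 = N16598 := ded_19_1 (flp_e L182217) L182210 L187423
theorem L187427 : sm gc N17188 = N16608 := ded_25_1 (flp_e L182311) (flp_c L182215) L187423
theorem L187429 : sm gh N17188 = N17188 := ded_37_2 (flp_e L187423) L182212 L187423
theorem L187430 : sm gi N17188 = N16600 := ded_38_2 (flp_e L182232) (flp_i L182213) L187423
theorem L187432 : sm gf N17188 = N17051 := ded_35_2 (flp_e L186449) L186451 L187383 L187374 L187423
theorem L187434 : sm gd N16598 = N17189 := rfl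
theorem L187436 : sm gf N17189 = N16948 := ded_31_2 L185579 L182224 L187434
theorem L187438 : sm gi N17189 = N16601 := ded_34_2 (flp_d L182240) (flp_i L182222) L187434
theorem L187440 : sm gc N17189 = N16947 := ded_24_1 (flp_d L185565) L180283 (flp_d L176676) (flp_c L182219) L187434
theorem L187442 : sm ge N16599 = N17190 := rfl
theorem L187444 : sm ga N17190 = N16600 := ded_12_1 (flp_e L182232) L182226 L187442
theorem L187446 : sm gc N17190 = N16609 := ded_25_1 (flp_e L182322) (flp_c L182228) L187442
theorem L187448 : sm gh N17190 = N16602 := ded_37_2 (flp_e L182244) (flp_h L182230) L187442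
theorem L187450 : sm gd N16600 = N17191 := rfl
theorem L187452 : sm gb N17191 = N16601 := ded_18_1 (flp_d L182240) (flp_b L182234) L187450
theorem L187454 : sm ga N16604 = N17192 := rfl
theorem L187456 : sm gd N17192 = N16609 := ded_11_2 L182324 (flp_d L182269) L187454
theorem L187458 : sm ge N17192 = N17067 := ded_12_2 L186535 (flp_e L182271) L187454
theorem L187460 : sm gf N17192 = N16605 := ded_13_2 (flp_a L182280) (flp_f L182273) L187454
theorem L187462 : sm gg N17192 = N17084 := ded_14_2 L186685 (flp_g L182275) L187454
theorem L187464 : sm gh N17192 = N17192 := ded_15_2 (flp_a L187454) L182277 L187454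
theorem L187465 : sm gi N17192 = N17053 := ded_16_2 (flp_a L186383) (flp_i L182278) L187454
theorem L187467 : sm gb N17192 = N17192 := ded_9_2 (flp_a L187454) (flp_b L182267) L176794 L182267 L187454
theorem L187468 : sm ge N16607 = N17193 := rfl
theorem L187470 : sm ga N17193 = N16608 := ded_12_1 (flp_e L182311) L182301 L187468
theorem L187472 : sm gb N17193 = N17193 := ded_19_1 (flp_e L187468) L182310 L187468
theorem L187473 : sm gh N17193 = N17193 := ded_37_2 (flp_e L187468) L182307 L187468
theorem L187474 : sm gi N17193 = N16609 := ded_38_2 (flp_e L182322) (flp_i L182308) L187468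
theorem L187476 : sm gd N17193 = N17053 := ded_30_1 L186385 (flp_d L181407) (flp_e L181386) (flp_d L182303) L187468
theorem L187478 : sm gf N17193 = N17052 := ded_35_2 (flp_e L186403) L186399 L185215 (flp_f L182305) L187468
theorem L187480 : sm gd N16610 = N17194 := rfl
theorem L187482 : sm ga N17194 = N16612 := ded_11_1 (flp_d L182359) (flp_a L182331) L187480
theorem L187484 : sm gb N17194 = N16685 := ded_18_1 (flp_d L183175) (flp_b L182333) L187480
theorem L187486 : sm gf N17194 = N16827 := ded_31_2 (flp_d L184498) (flp_f L182338) L187480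
theorem L187488 : sm gg N17194 = N16921 := ded_32_2 (flp_d L185343) (flp_g L182340) L187480
theorem L187490 : sm gi N17194 = N17145 := ded_34_2 (flp_d L187132) (flp_i L182342) L187480
theorem L187492 : sm gh N17194 = N16625 := ded_33_2 (flp_d L182513) (flp_h L177091) (flp_d L176899) L182329 L187480
theorem L187494 : sm gd N16611 = N17195 := rfl
theorem L187496 : sm ga N17195 = N17146 := ded_11_1 (flp_d L187144) (flp_a L182346) L187494
theorem L187498 : sm gb N17195 = N16615 := ded_18_1 (flp_d L182396) (flp_b L182348) L187494
theorem L187500 : sm gf N17195 = N17088 := ded_31_2 (flp_d L186711) (flp_f L182353) L187494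
theorem L187502 : sm gg N17195 = N16763 := ded_32_2 (flp_d L183951) (flp_g L182355) L187494
theorem L187504 : sm gi N17195 = N16735 := ded_34_2 (flp_d L183664) (flp_i L182357) L187494
theorem L187506 : sm gh N17195 = N17105 := ded_33_2 (flp_d L186821) (flp_h L181684) (flp_d L176914) L182344 L187494
theorem L187508 : sm gc N16612 = N17196 := rfl
theorem L187510 : sm gf N17196 = N16830 := ded_26_2 (flp_c L184527) (flp_f L182363) L187508
theorem L187512 : sm gh N17196 = N16628 := ded_28_2 (flp_c L182555) (flp_h L182365) L187508
theorem L187514 : sm gb N17196 = N17076 := ded_17_1 (flp_c L186615) L181523 (flp_c L176976) (flp_b L182361) L187508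
theorem L187516 : sm gd N17196 = N17196 := ded_24_2 (flp_c L187508) (flp_d L182359) L176926 L182359 L187508
theorem L187517 : sm ge N16612 = N17197 := rfl
theorem L187519 : sm gb N17197 = N16616 := ded_19_1 (flp_e L182404) (flp_b L182361) L187517
theorem L187521 : sm gh N17197 = N16629 := ded_37_2 (flp_e L182565) (flp_h L182365) L187517
theorem L187523 : sm gd N16613 = N17198 := rfl
theorem L187525 : sm ga N17198 = N16690 := ded_11_1 (flp_d L183230) (flp_a L182369) L187523
theorem L187527 : sm gb N17198 = N17105 := ded_18_1 (flp_d L186821) (flp_b L182371) L187523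
theorem L187529 : sm gf N17198 = N17095 := ded_31_2 (flp_d L186760) (flp_f L182376) L187523
theorem L187531 : sm gg N17198 = N16718 := ded_32_2 (flp_d L183507) (flp_g L182378) L187523
theorem L187533 : sm gi N17198 = N16701 := ded_34_2 (flp_d L183331) (flp_i L182380) L187523
theorem L187535 : sm gh N17198 = N16615 := ded_33_2 (flp_d L182396) (flp_h L176958) (flp_d L176936) L182367 L187523
theorem L187537 : sm gd N16614 = N17199 := rfl
theorem L187539 : sm ga N17199 = N16692 := ded_11_1 (flp_d L183246) (flp_a L182384) L187537
theorem L187541 : sm gb N17199 = N17088 := ded_18_1 (flp_d L186711) (flp_b L182386) L187537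
theorem L187543 : sm gf N17199 = N16615 := ded_31_2 (flp_d L182396) (flp_f L182392) L187537
theorem L187545 : sm gi N17199 = N16740 := ded_34_2 (flp_d L183722) (flp_i L182394) L187537
theorem L187547 : sm gh N17199 = N17095 := ded_33_2 (flp_d L186760) (flp_h L181637) (flp_d L176952) L182382 L187537
theorem L187549 : sm gc N16615 = N17200 := rfl
theorem L187551 : sm ga N17200 = N16693 := ded_10_1 (flp_c L183254) (flp_a L182398) L187549
theorem L187553 : sm gg N17200 = N16778 := ded_27_2 (flp_c L184044) (flp_g L182400) L187549
theorem L187555 : sm gi N17200 = N16741 := ded_29_2 (flp_c L183732) (flp_i L182402) L187549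
theorem L187557 : sm gd N17200 = N16618 := ded_24_2 (flp_c L182424) (flp_d L176991) (flp_c L176962) L182396 L187549
theorem L187559 : sm ge N16615 = N17201 := rfl
theorem L187561 : sm ga N17201 = N16694 := ded_12_1 (flp_e L183258) (flp_a L182398) L187559
theorem L187563 : sm gg N17201 = N16779 := ded_36_2 (flp_e L184050) (flp_g L182400) L187559
theorem L187565 : sm gi N17201 = N16742 := ded_38_2 (flp_e L183740) (flp_i L182402) L187559
theorem L187567 : sm gd N17201 = N16616 := ded_30_1 (flp_e L182404) (flp_d L176970) (flp_e L176964) L182396 L187559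
theorem L187569 : sm gf N16616 = N17202 := rfl
theorem L187571 : sm ga N17202 = N16695 := ded_13_1 (flp_f L183262) (flp_a L182406) L187569
theorem L187573 : sm gc N17202 = N17082 := ded_26_1 (flp_f L186666) (flp_c L182408) L187569
theorem L187575 : sm gh N17202 = N16636 := ded_40_2 (flp_f L182629) (flp_h L182410) L187569
theorem L187577 : sm ge N17202 = N16837 := ded_35_1 (flp_f L184582) (flp_e L179267) (flp_f L176974) L182404 L187569
theorem L187579 : sm gc N16617 = N17203 := rfl
theorem L187581 : sm ga N17203 = N16696 := ded_10_1 (flp_c L183270) (flp_a L182414) L187579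
theorem L187583 : sm gf N17203 = N16618 := ded_26_2 (flp_c L182424) (flp_f L182417) L187579
theorem L187585 : sm gg N17203 = N17187 := ded_27_2 L187416 (flp_g L182419) L187579
theorem L187587 : sm gh N17203 = N17203 := ded_28_2 (flp_c L187579) L182423 L187579
theorem L187588 : sm gi N17203 = N16791 := ded_29_2 (flp_c L184118) (flp_i L182421) L187579
theorem L187590 : sm ge N16617 = N17204 := rfl
theorem L187592 : sm ga N17204 = N16697 := ded_12_1 (flp_e L183281) (flp_a L182414) L187590
theorem L187594 : sm gb N17204 = N17204 := ded_19_1 (flp_e L187590) L182416 L187590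
theorem L187595 : sm gg N17204 = N17193 := ded_36_2 (flp_e L187468) (flp_g L182419) L187590
theorem L187597 : sm gh N17204 = N17204 := ded_37_2 (flp_e L187590) L182423 L187590
theorem L187598 : sm gi N17204 = N16792 := ded_38_2 (flp_e L184128) (flp_i L182421) L187590
theorem L187600 : sm gd N17204 = N16839 := ded_30_1 (flp_e L184596) (flp_d L179273) (flp_e L176985) L182412 L187590
theorem L187602 : sm gf N17204 = N17084 := ded_35_2 (flp_e L186683) L181571 (flp_e L177000) (flp_f L182417) L187590
theorem L187604 : sm gb N16618 = N17205 := rfl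
theorem L187606 : sm ge N17205 = N17085 := ded_19_2 (flp_b L186693) (flp_e L182428) L187604
theorem L187608 : sm gg N17205 = N16799 := ded_21_2 (flp_b L184195) (flp_g L182430) L187604
theorem L187610 : sm gh N17205 = N17205 := ded_22_2 (flp_b L187604) L182432 L187604
theorem L187611 : sm gi N17205 = N16793 := ded_23_2 (flp_b L184137) (flp_i L182433) L187604
theorem L187613 : sm gc N17205 = N17205 := ded_17_2 (flp_b L187604) (flp_c L182424) L176995 L182424 L187604
theorem L187614 : sm ge N16619 = N17206 := rfl
theorem L187616 : sm ga N17206 = N16699 := ded_12_1 (flp_e L183305) (flp_a L182437) L187614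
theorem L187618 : sm gb N17206 = N16861 := ded_19_1 (flp_e L184810) (flp_b L182439) L187614
theorem L187620 : sm gc N17206 = N16706 := ded_25_1 (flp_e L183382) (flp_c L182447) L187614
theorem L187622 : sm gg N17206 = N16841 := ded_36_2 (flp_e L184614) (flp_g L182443) L187614
theorem L187624 : sm gi N17206 = N16641 := ded_38_2 (flp_e L182695) (flp_i L182445) L187614
theorem L187626 : sm gd N17206 = N16815 := ded_30_1 (flp_e L184371) (flp_d L179043) (flp_e L177011) L182435 L187614
theorem L187628 : sm gc N16620 = N17207 := rfl
theorem L187630 : sm ga N17207 = N16925 := ded_10_1 (flp_c L185380) (flp_a L182451) L187628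
theorem L187632 : sm gf N17207 = N16860 := ded_26_2 (flp_c L184802) (flp_f L182455) L187628
theorem L187634 : sm gg N17207 = N16628 := ded_27_2 (flp_c L182555) (flp_g L182457) L187628
theorem L187636 : sm gi N17207 = N16644 := ded_29_2 (flp_c L182732) (flp_i L182459) L187628
theorem L187638 : sm gb N17207 = N16845 := ded_17_1 (flp_c L184656) L179328 (flp_c L177074) (flp_b L182453) L187628
theorem L187640 : sm gd N17207 = N16676 := ded_24_2 (flp_c L183054) (flp_d L177624) (flp_c L177025) L182449 L187628
theorem L187642 : sm ge N16620 = N17208 := rfl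
theorem L187644 : sm ga N17208 = N16926 := ded_12_1 (flp_e L185386) (flp_a L182451) L187642
theorem L187646 : sm gb N17208 = N16623 := ded_19_1 (flp_e L182488) (flp_b L182453) L187642
theorem L187648 : sm gg N17208 = N16629 := ded_36_2 (flp_e L182565) (flp_g L182457) L187642
theorem L187650 : sm gi N17208 = N16645 := ded_38_2 (flp_e L182742) (flp_i L182459) L187642
theorem L187652 : sm gd N17208 = N16871 := ded_30_1 (flp_e L184904) (flp_d L179537) (flp_e L177027) L182449 L187642
theorem L187654 : sm gd N16621 = N17209 := rfl
theorem L187656 : sm ga N17209 = N16701 := ded_11_1 (flp_d L183331) (flp_a L182463) L187654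
theorem L187658 : sm gb N17209 = N16868 := ded_18_1 (flp_d L184872) (flp_b L182465) L187654
theorem L187660 : sm gf N17209 = N16863 := ded_31_2 (flp_d L184824) (flp_f L182470) L187654
theorem L187662 : sm gg N17209 = N16632 := ded_32_2 (flp_d L182595) (flp_g L182472) L187654
theorem L187664 : sm gi N17209 = N16690 := ded_34_2 (flp_d L183230) (flp_i L182474) L187654
theorem L187666 : sm gh N17209 = N16622 := ded_33_2 (flp_d L182476) (flp_h L177050) (flp_d L177042) L182461 L187654
theorem L187668 : sm gc N16622 = N17210 := rfl
theorem L187670 : sm ga N17210 = N16702 := ded_10_1 (flp_c L183341) (flp_a L182478) L187668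
theorem L187672 : sm gf N17210 = N16864 := ded_26_2 (flp_c L184834) (flp_f L182482) L187668
theorem L187674 : sm gg N17210 = N16634 := ded_27_2 (flp_c L182613) (flp_g L182484) L187668
theorem L187676 : sm gi N17210 = N16646 := ded_29_2 (flp_c L182750) (flp_i L182486) L187668
theorem L187678 : sm gb N17210 = N16980 := ded_17_1 (flp_c L185837) L180507 (flp_c L179545) (flp_b L182480) L187668
theorem L187680 : sm gd N17210 = N16624 := ded_24_2 (flp_c L182498) (flp_d L177076) (flp_c L177056) L182476 L187668
theorem L187682 : sm ge N16622 = N17211 := rfl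
theorem L187684 : sm ga N17211 = N16703 := ded_12_1 (flp_e L183351) (flp_a L182478) L187682
theorem L187686 : sm gb N17211 = N16871 := ded_19_1 (flp_e L184904) (flp_b L182480) L187682
theorem L187688 : sm gg N17211 = N16635 := ded_36_2 (flp_e L182621) (flp_g L182484) L187682
theorem L187690 : sm gi N17211 = N16647 := ded_38_2 (flp_e L182762) (flp_i L182486) L187682
theorem L187692 : sm gd N17211 = N16623 := ded_30_1 (flp_e L182488) (flp_d L177066) (flp_e L177058) L182476 L187682
theorem L187694 : sm gf N16623 = N17212 := rfl
theorem L187696 : sm ga N17212 = N16704 := ded_13_1 (flp_f L183361) (flp_a L182490) L187694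
theorem L187698 : sm gc N17212 = N16973 := ded_26_1 (flp_f L185770) (flp_c L182492) L187694
theorem L187700 : sm gi N17212 = N16648 := ded_41_2 (flp_f L182772) (flp_i L182496) L187694
theorem L187702 : sm gc N16625 = N17213 := rfl
theorem L187704 : sm ga N17213 = N16628 := ded_10_1 (flp_c L182555) (flp_a L182515) L187702
theorem L187706 : sm gf N17213 = N16845 := ded_26_2 (flp_c L184656) (flp_f L182519) L187702
theorem L187708 : sm gg N17213 = N16925 := ded_27_2 (flp_c L185380) (flp_g L182521) L187702
theorem L187710 : sm gi N17213 = N16651 := ded_29_2 (flp_c L182808) (flp_i L182523) L187702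
theorem L187712 : sm gb N17213 = N16860 := ded_17_1 (flp_c L184802) (flp_b L182439) L182447 (flp_b L182517) L187702
theorem L187714 : sm gd N17213 = N16677 := ded_24_2 (flp_c L183069) (flp_d L177639) (flp_c L177097) L182513 L187702
theorem L187716 : sm ge N16625 = N17214 := rfl
theorem L187718 : sm ga N17214 = N16629 := ded_12_1 (flp_e L182565) (flp_a L182515) L187716
theorem L187720 : sm gb N17214 = N16706 := ded_19_1 (flp_e L183382) (flp_b L182517) L187716
theorem L187722 : sm gg N17214 = N16926 := ded_36_2 (flp_e L185386) (flp_g L182521) L187716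
theorem L187724 : sm gi N17214 = N16652 := ded_38_2 (flp_e L182818) (flp_i L182523) L187716
theorem L187726 : sm gd N17214 = N17000 := ded_30_1 (flp_e L185981) (flp_d L180669) (flp_e L177099) L182513 L187716
theorem L187728 : sm gd N16626 = N17215 := rfl
theorem L187730 : sm ga N17215 = N16995 := ded_11_1 (flp_d L185939) (flp_a L182527) L187728
theorem L187732 : sm gb N17215 = N16632 := ded_18_1 (flp_d L182595) (flp_b L182529) L187728
theorem L187734 : sm gf N17215 = N16894 := ded_31_2 (flp_d L185090) (flp_f L182535) L187728
theorem L187736 : sm gg N17215 = N16868 := ded_32_2 (flp_d L184872) (flp_g L182537) L187728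
theorem L187738 : sm gi N17215 = N17104 := ded_34_2 (flp_d L186811) (flp_i L182539) L187728
theorem L187740 : sm gc N17215 = N16986 := ded_24_1 (flp_d L185881) L180549 (flp_d L179823) (flp_c L182531) L187728
theorem L187742 : sm gh N17215 = N16627 := ded_33_2 (flp_d L182541) (flp_h L177123) (flp_d L177115) L182525 L187728
theorem L187744 : sm ge N16627 = N17216 := rfl
theorem L187746 : sm ga N17216 = N17000 := ded_12_1 (flp_e L185981) (flp_a L182543) L187744
theorem L187748 : sm gb N17216 = N16635 := ded_19_1 (flp_e L182621) (flp_b L182545) L187744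
theorem L187750 : sm gc N17216 = N16991 := ded_25_1 (flp_e L185913) (flp_c L182553) L187744
theorem L187752 : sm gg N17216 = N16871 := ded_36_2 (flp_e L184904) (flp_g L182549) L187744
theorem L187754 : sm gi N17216 = N16656 := ded_38_2 (flp_e L182862) (flp_i L182551) L187744
theorem L187756 : sm gd N17216 = N16629 := ded_30_1 (flp_e L182565) (flp_d L177139) (flp_e L177131) L182541 L187744
theorem L187758 : sm ge N16628 = N17217 := rfl
theorem L187760 : sm gb N17217 = N17086 := ded_19_1 (flp_e L186699) (flp_b L182561) L187758
theorem L187762 : sm gc N17217 = N16629 := ded_25_1 (flp_e L182565) L182555 L187758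
theorem L187764 : sm gi N17217 = N16657 := ded_38_2 (flp_e L182872) (flp_i L182559) L187758
theorem L187766 : sm gf N16629 = N17218 := rfl
theorem L187768 : sm gb N17218 = N16636 := ded_20_1 (flp_f L182629) (flp_b L182567) L187766
theorem L187770 : sm gi N17218 = N16658 := ded_41_2 (flp_f L182878) (flp_i L182569) L187766
theorem L187772 : sm ge N17218 = N16850 := ded_35_1 (flp_f L184704) (flp_e L179358) (flp_f L177143) L182565 L187766
theorem L187774 : sm gd N16630 = N17219 := rfl
theorem L187776 : sm ga N17219 = N16717 := ded_11_1 (flp_d L183501) (flp_a L182573) L187774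
theorem L187778 : sm gb N17219 = N16894 := ded_18_1 (flp_d L185090) (flp_b L182575) L187774
theorem L187780 : sm gf N17219 = N16632 := ded_31_2 (flp_d L182595) (flp_f L182578) L187774
theorem L187782 : sm gg N17219 = N16882 := ded_32_2 (flp_d L185019) (flp_g L182580) L187774
theorem L187784 : sm gh N17219 = N16633 := ded_33_2 (flp_d L182601) (flp_h L177178) (flp_d L177154) L182571 L187774
theorem L187786 : sm gd N16631 = N17220 := rfl
theorem L187788 : sm ga N17220 = N16718 := ded_11_1 (flp_d L183507) (flp_a L182584) L187786
theorem L187790 : sm gb N17220 = N17104 := ded_18_1 (flp_d L186811) (flp_b L182586) L187786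
theorem L187792 : sm gg N17220 = N16690 := ded_32_2 (flp_d L183230) (flp_g L182591) L187786
theorem L187794 : sm gi N17220 = N16632 := ded_34_2 (flp_d L182595) (flp_i L182593) L187786
theorem L187796 : sm gh N17220 = N16662 := ded_33_2 (flp_d L182918) (flp_h L177475) (flp_d L177167) L182582 L187786
theorem L187798 : sm gc N16632 = N17221 := rfl
theorem L187800 : sm ga N17221 = N16719 := ded_10_1 (flp_c L183513) (flp_a L182597) L187798
theorem L187802 : sm gh N17221 = N16634 := ded_28_2 (flp_c L182613) (flp_h L182599) L187798
theorem L187804 : sm gd N17221 = N17221 := ded_24_2 (flp_c L187798) (flp_d L182595) L177177 L182595 L187798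
theorem L187805 : sm ge N16632 = N17222 := rfl
theorem L187807 : sm ga N17222 = N16720 := ded_12_1 (flp_e L183518) (flp_a L182597) L187805
theorem L187809 : sm gh N17222 = N16635 := ded_37_2 (flp_e L182621) (flp_h L182599) L187805
theorem L187811 : sm gc N16633 = N17223 := rfl
theorem L187813 : sm ga N17223 = N16722 := ded_10_1 (flp_c L183534) (flp_a L182603) L187811
theorem L187815 : sm gf N17223 = N16634 := ded_26_2 (flp_c L182613) (flp_f L182607) L187811
theorem L187817 : sm gg N17223 = N16886 := ded_27_2 (flp_c L185046) (flp_g L182609) L187811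
theorem L187819 : sm gi N17223 = N16666 := ded_29_2 (flp_c L182954) (flp_i L182611) L187811
theorem L187821 : sm gb N17223 = N16756 := ded_17_1 (flp_c L183882) (flp_b L182798) L182806 (flp_b L182605) L187811
theorem L187823 : sm gd N17223 = N16637 := ded_24_2 (flp_c L182639) (flp_d L177208) (flp_c L177184) L182601 L187811
theorem L187825 : sm ge N16633 = N17224 := rfl
theorem L187827 : sm ga N17224 = N16723 := ded_12_1 (flp_e L183542) (flp_a L182603) L187825
theorem L187829 : sm gb N17224 = N16902 := ded_19_1 (flp_e L185166) (flp_b L182605) L187825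
theorem L187831 : sm gg N17224 = N16887 := ded_36_2 (flp_e L185056) (flp_g L182609) L187825
theorem L187833 : sm gi N17224 = N16667 := ded_38_2 (flp_e L182966) (flp_i L182611) L187825
theorem L187835 : sm gd N17224 = N16856 := ded_30_1 (flp_e L184772) (flp_d L179420) (flp_e L177186) L182601 L187825
theorem L187837 : sm gb N16634 = N17225 := rfl
theorem L187839 : sm gd N17225 = N16638 := ded_18_2 (flp_b L182654) (flp_d L182619) L187837
theorem L187841 : sm gf N17225 = N16756 := ded_20_2 (flp_b L187821) L187815 L187837
theorem L187843 : sm gg N17225 = N16980 := ded_21_2 (flp_b L187678) L187674 L187837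
theorem L187845 : sm gi N17225 = N16668 := ded_23_2 (flp_b L182972) (flp_i L182617) L187837
theorem L187847 : sm gc N17225 = N16755 := ded_17_2 L183874 (flp_c L182553) L182545 L182613 L187837
theorem L187849 : sm ga N16767 = N17225 := ded_11_3 L187839 (flp_a L182667) (flp_d L183984)
theorem L187851 : sm ge N16634 = N17226 := rfl
theorem L187853 : sm ga N17226 = N16725 := ded_12_1 (flp_e L183556) (flp_a L182615) L187851
theorem L187855 : sm gc N17226 = N16635 := ded_25_1 (flp_e L182621) L182613 L187851
theorem L187857 : sm gi N17226 = N16669 := ded_38_2 (flp_e L182982) (flp_i L182617) L187851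
theorem L187859 : sm gd N17226 = N17092 := ded_30_1 (flp_e L186738) L181614 (flp_e L177227) (flp_d L182619) L187851
theorem L187861 : sm gf N16635 = N17227 := rfl
theorem L187863 : sm ga N17227 = N16726 := ded_13_1 (flp_f L183564) (flp_a L182623) L187861
theorem L187865 : sm gd N17227 = N16636 := ded_31_1 (flp_f L182629) (flp_d L182627) L187861
theorem L187867 : sm gi N17227 = N16670 := ded_41_2 (flp_f L182990) (flp_i L182625) L187861
theorem L187869 : sm gg N16636 = N17228 := rfl
theorem L187871 : sm ga N17228 = N16727 := ded_14_1 (flp_g L183570) (flp_a L182631) L187869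
theorem L187873 : sm gc N17228 = N17094 := ded_27_1 (flp_g L186754) (flp_c L182633) L187869
theorem L187875 : sm ge N17228 = N16858 := ded_36_1 (flp_g L184790) (flp_e L182637) L187869
theorem L187877 : sm gi N17228 = N16671 := ded_43_2 (flp_g L182996) (flp_i L182635) L187869
theorem L187879 : sm ge N16639 = N17229 := rfl
theorem L187881 : sm ga N17229 = N16812 := ded_12_1 (flp_e L184335) (flp_a L182671) L187879
theorem L187883 : sm gb N17229 = N16641 := ded_19_1 (flp_e L182695) (flp_b L182673) L187879
theorem L187885 : sm gc N17229 = N17177 := ded_25_1 L187332 (flp_c L182681) L187879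
theorem L187887 : sm gg N17229 = N16815 := ded_36_2 (flp_e L184371) (flp_g L182677) L187879
theorem L187889 : sm gi N17229 = N16861 := ded_38_2 (flp_e L184810) (flp_i L182679) L187879
theorem L187891 : sm gd N17229 = N16841 := ded_30_1 (flp_e L184614) (flp_d L179292) (flp_e L177240) L182669 L187879
theorem L187893 : sm gc N16640 = N17230 := rfl
theorem L187895 : sm ga N17230 = N16731 := ded_10_1 (flp_c L183620) (flp_a L182685) L187893
theorem L187897 : sm gf N17230 = N16842 := ded_26_2 (flp_c L184622) (flp_f L182689) L187893
theorem L187899 : sm gg N17230 = N16860 := ded_27_2 (flp_c L184802) (flp_g L182691) L187893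
theorem L187901 : sm gi N17230 = N16814 := ded_29_2 (flp_c L184359) (flp_i L182693) L187893
theorem L187903 : sm gb N17230 = N16925 := ded_17_1 (flp_c L185380) L180082 (flp_c L179300) (flp_b L182687) L187893
theorem L187905 : sm gd N17230 = N16642 := ded_24_2 (flp_c L182703) (flp_d L177274) (flp_c L177254) L182683 L187893
theorem L187907 : sm ge N16640 = N17231 := rfl
theorem L187909 : sm ga N17231 = N16732 := ded_12_1 (flp_e L183632) (flp_a L182685) L187907
theorem L187911 : sm gb N17231 = N16841 := ded_19_1 (flp_e L184614) (flp_b L182687) L187907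
theorem L187913 : sm gg N17231 = N16861 := ded_36_2 (flp_e L184810) (flp_g L182691) L187907
theorem L187915 : sm gi N17231 = N16815 := ded_38_2 (flp_e L184371) (flp_i L182693) L187907
theorem L187917 : sm gd N17231 = N16641 := ded_30_1 (flp_e L182695) (flp_d L177264) (flp_e L177256) L182683 L187907
theorem L187919 : sm gf N16641 = N17232 := rfl
theorem L187921 : sm ga N17232 = N16733 := ded_13_1 (flp_f L183642) (flp_a L182697) L187919
theorem L187923 : sm gc N17232 = N16758 := ded_26_1 (flp_f L183902) (flp_c L182699) L187919
theorem L187925 : sm ge N17232 = N16648 := ded_35_1 (flp_f L182772) (flp_e L177321) (flp_f L177268) L182695 L187919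
theorem L187927 : sm ge N16643 = N17233 := rfl
theorem L187929 : sm ga N17233 = N16645 := ded_12_1 (flp_e L182742) (flp_a L182720) L187927
theorem L187931 : sm gb N17233 = N16734 := ded_19_1 (flp_e L183650) (flp_b L182722) L187927
theorem L187933 : sm gg N17233 = N16652 := ded_36_2 (flp_e L182818) (flp_g L182726) L187927
theorem L187935 : sm gh N17233 = N17229 := ded_37_2 (flp_e L187879) (flp_h L182730) L187927
theorem L187937 : sm gi N17233 = N16926 := ded_38_2 (flp_e L185386) (flp_i L182728) L187927
theorem L187939 : sm gd N17233 = N16903 := ded_30_1 (flp_e L185172) L179769 (flp_e L177297) L182718 L187927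
theorem L187941 : sm ge N16644 = N17234 := rfl
theorem L187943 : sm gb N17234 = N16878 := ded_19_1 (flp_e L184973) (flp_b L182738) L187941
theorem L187945 : sm gc N17234 = N16645 := ded_25_1 (flp_e L182742) L182732 L187941
theorem L187947 : sm gg N17234 = N16657 := ded_36_2 (flp_e L182872) (flp_g L182736) L187941
theorem L187949 : sm gd N17234 = N16785 := ded_30_1 (flp_e L184086) L178584 (flp_e L177695) (flp_d L182740) L187941
theorem L187951 : sm gf N16645 = N17235 := rfl
theorem L187953 : sm gb N17235 = N16648 := ded_20_1 (flp_f L182772) (flp_b L182744) L187951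
theorem L187955 : sm gd N17235 = N17044 := ded_31_1 (flp_f L186313) (flp_d L182748) L187951
theorem L187957 : sm ge N16646 = N17236 := rfl
theorem L187959 : sm ga N17236 = N16747 := ded_12_1 (flp_e L183788) (flp_a L182752) L187957
theorem L187961 : sm gb N17236 = N17026 := ded_19_1 (flp_e L186203) (flp_b L182758) L187957
theorem L187963 : sm gc N17236 = N16647 := ded_25_1 (flp_e L182762) L182750 L187957
theorem L187965 : sm gg N17236 = N16669 := ded_36_2 (flp_e L182982) (flp_g L182756) L187957
theorem L187967 : sm gd N17236 = N17012 := ded_30_1 (flp_e L186085) L180763 (flp_e L177333) (flp_d L182760) L187957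
theorem L187969 : sm gf N16647 = N17237 := rfl
theorem L187971 : sm ga N17237 = N16748 := ded_13_1 (flp_f L183796) (flp_a L182764) L187969
theorem L187973 : sm gb N17237 = N17044 := ded_20_1 (flp_f L186313) (flp_b L182766) L187969
theorem L187975 : sm gd N17237 = N16648 := ded_31_1 (flp_f L182772) (flp_d L182770) L187969
theorem L187977 : sm ge N17237 = N17046 := ded_35_1 (flp_f L186323) (flp_e L180967) (flp_f L177317) L182762 L187969
theorem L187979 : sm gg N16648 = N17238 := rfl
theorem L187981 : sm ga N17238 = N16749 := ded_14_1 (flp_g L183800) (flp_a L182774) L187979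
theorem L187983 : sm gc N17238 = N17014 := ded_27_1 (flp_g L186099) (flp_c L182776) L187979
theorem L187985 : sm gf N17238 = N16671 := ded_39_1 (flp_g L182996) (flp_f L177527) (flp_g L177327) L182772 L187979
theorem L187987 : sm gd N16649 = N17239 := rfl
theorem L187989 : sm ga N17239 = N16654 := ded_11_1 (flp_d L182838) (flp_a L182780) L187987
theorem L187991 : sm gb N17239 = N16754 := ded_18_1 (flp_d L183862) (flp_b L182782) L187987
theorem L187993 : sm gf N17239 = N16986 := ded_31_2 (flp_d L185881) (flp_f L182788) L187987
theorem L187995 : sm gg N17239 = N16896 := ded_32_2 L185118 (flp_g L182790) L187987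
theorem L187997 : sm gi N17239 = N16930 := ded_34_2 (flp_d L185410) (flp_i L182792) L187987
theorem L187999 : sm gc N17239 = N16894 := ded_24_1 (flp_d L185090) L179703 L179842 (flp_c L182784) L187987
theorem L188001 : sm gh N17239 = N16650 := ded_33_2 (flp_d L182794) (flp_h L177359) (flp_d L177351) L182778 L187987
theorem L188003 : sm ge N16650 = N17240 := rfl
theorem L188005 : sm ga N17240 = N16656 := ded_12_1 (flp_e L182862) (flp_a L182796) L188003
theorem L188007 : sm gb N17240 = N16757 := ded_19_1 (flp_e L183892) (flp_b L182798) L188003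
theorem L188009 : sm gc N17240 = N16902 := ded_25_1 (flp_e L185166) (flp_c L182806) L188003
theorem L188011 : sm gg N17240 = N16903 := ded_36_2 (flp_e L185172) (flp_g L182802) L188003
theorem L188013 : sm gi N17240 = N17000 := ded_38_2 (flp_e L185981) (flp_i L182804) L188003
theorem L188015 : sm gd N17240 = N16652 := ded_30_1 (flp_e L182818) (flp_d L177375) (flp_e L177367) L182794 L188003
theorem L188017 : sm ge N16651 = N17241 := rfl
theorem L188019 : sm ga N17241 = N16657 := ded_12_1 (flp_e L182872) (flp_a L182810) L188017
theorem L188021 : sm gb N17241 = N17177 := ded_19_1 L187332 (flp_b L182814) L188017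
theorem L188023 : sm gc N17241 = N16652 := ded_25_1 (flp_e L182818) L182808 L188017
theorem L188025 : sm gd N17241 = N17176 := ded_30_1 (flp_e L187326) L182120 (flp_e L177709) (flp_d L182816) L188017
theorem L188027 : sm gf N16652 = N17242 := rfl
theorem L188029 : sm ga N17242 = N16658 := ded_13_1 (flp_f L182878) (flp_a L182820) L188027
theorem L188031 : sm gb N17242 = N16758 := ded_20_1 (flp_f L183902) (flp_b L182822) L188027
theorem L188033 : sm ge N17242 = N16879 := ded_35_1 (flp_f L184983) (flp_e L179605) (flp_f L177381) L182818 L188027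
theorem L188035 : sm gd N16653 = N17243 := rfl
theorem L188037 : sm ga N17243 = N16986 := ded_11_1 (flp_d L185881) (flp_a L182826) L188035
theorem L188039 : sm gb N17243 = N16661 := ded_18_1 (flp_d L182910) (flp_b L182828) L188035
theorem L188041 : sm gf N17243 = N16654 := ded_31_2 (flp_d L182838) (flp_f L182832) L188035
theorem L188043 : sm gg N17243 = N16853 := ded_32_2 (flp_d L184740) (flp_g L182834) L188035
theorem L188045 : sm gi N17243 = N17157 := ded_34_2 L187218 (flp_i L182836) L188035
theorem L188047 : sm gc N17243 = N16995 := ded_24_1 (flp_d L185939) L180621 L180988 (flp_c L182830) L188035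
theorem L188049 : sm gh N17243 = N16655 := ded_33_2 (flp_d L182848) (flp_h L177405) (flp_d L177391) L182824 L188035
theorem L188051 : sm ge N16654 = N17244 := rfl
theorem L188053 : sm gb N17244 = N16664 := ded_19_1 (flp_e L182934) (flp_b L182840) L188051
theorem L188055 : sm gc N17244 = N17033 := ded_25_1 (flp_e L186249) (flp_c L182844) L188051
theorem L188057 : sm gg N17244 = N17035 := ded_36_2 (flp_e L186265) (flp_g L182842) L188051
theorem L188059 : sm gh N17244 = N16656 := ded_37_2 (flp_e L182862) (flp_h L182846) L188051
theorem L188061 : sm ge N16655 = N17245 := rfl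
theorem L188063 : sm ga N17245 = N16991 := ded_12_1 (flp_e L185913) (flp_a L182850) L188061
theorem L188065 : sm gb N17245 = N16667 := ded_19_1 (flp_e L182966) (flp_b L182852) L188061
theorem L188067 : sm gc N17245 = N17000 := ded_25_1 (flp_e L185981) (flp_c L182860) L188061
theorem L188069 : sm gg N17245 = N16856 := ded_36_2 (flp_e L184772) (flp_g L182856) L188061
theorem L188071 : sm gi N17245 = N16902 := ded_38_2 (flp_e L185166) (flp_i L182858) L188061
theorem L188073 : sm gd N17245 = N16887 := ded_30_1 (flp_e L185056) (flp_d L179663) (flp_e L177413) L182848 L188061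
theorem L188075 : sm gf N16656 = N17246 := rfl
theorem L188077 : sm gb N17246 = N16670 := ded_20_1 (flp_f L182990) (flp_b L182864) L188075
theorem L188079 : sm gc N17246 = N17043 := ded_26_1 (flp_f L186311) (flp_c L182866) L188075
theorem L188081 : sm gd N17246 = N16658 := ded_31_1 (flp_f L182878) (flp_d L182870) L188075
theorem L188083 : sm gd N16657 = N17247 := rfl
theorem L188085 : sm ga N17247 = N17176 := ded_11_1 (flp_d L188025) L188019 L188083
theorem L188087 : sm gb N17247 = N17101 := ded_18_1 (flp_d L186795) (flp_b L182874) L188083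
theorem L188089 : sm gg N17247 = N16785 := ded_32_2 (flp_d L187949) L187947 L188083
theorem L188091 : sm gc N17247 = N16783 := ded_24_1 L184074 (flp_c L182866) L182870 (flp_c L182876) L188083
theorem L188093 : sm ge N17247 = N16679 := ded_30_2 (flp_d L183099) (flp_e L177717) (flp_d L177435) L182872 L188083
theorem L188095 : sm gf N16657 = N17248 := rfl
theorem L188097 : sm gb N17248 = N17102 := ded_20_1 (flp_f L186799) (flp_b L182874) L188095
theorem L188099 : sm gc N17248 = N16658 := ded_26_1 (flp_f L182878) (flp_c L182876) L188095
theorem L188101 : sm ge N17248 = N16891 := ded_35_1 (flp_f L185078) (flp_e L179683) (flp_f L177431) L182872 L188095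
theorem L188103 : sm gg N16658 = N17249 := rfl
theorem L188105 : sm gb N17249 = N16671 := ded_21_1 (flp_g L182996) (flp_b L182880) L188103
theorem L188107 : sm ge N17249 = N16892 := ded_36_1 (flp_g L185082) (flp_e L182882) L188103
theorem L188109 : sm gd N16659 = N17250 := rfl
theorem L188111 : sm ga N17250 = N16774 := ded_11_1 (flp_d L184020) (flp_a L182886) L188109
theorem L188113 : sm gb N17250 = N16853 := ded_18_1 (flp_d L184740) (flp_b L182888) L188109
theorem L188115 : sm gf N17250 = N16847 := ded_31_2 (flp_d L184676) (flp_f L182892) L188109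
theorem L188117 : sm gg N17250 = N16661 := ded_32_2 (flp_d L182910) (flp_g L182894) L188109
theorem L188119 : sm gc N17250 = N17163 := ded_24_1 L187252 L182192 (flp_d L177569) (flp_c L182890) L188109
theorem L188121 : sm gh N17250 = N16665 := ded_33_2 (flp_d L182940) (flp_h L177493) (flp_d L177449) L182884 L188109
theorem L188123 : sm gd N16660 = N17251 := rfl
theorem L188125 : sm ga N17251 = N16775 := ded_11_1 (flp_d L184026) (flp_a L182898) L188123
theorem L188127 : sm gb N17251 = N17157 := ded_18_1 L187218 (flp_b L182900) L188123
theorem L188129 : sm gf N17251 = N16662 := ded_31_2 (flp_d L182918) (flp_f L182906) L188123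
theorem L188131 : sm gi N17251 = N16661 := ded_34_2 (flp_d L182910) (flp_i L182908) L188123
theorem L188133 : sm ge N16661 = N17252 := rfl
theorem L188135 : sm ga N17252 = N16777 := ded_12_1 (flp_e L184040) (flp_a L182912) L188133
theorem L188137 : sm gh N17252 = N16667 := ded_37_2 (flp_e L182966) (flp_h L182916) L188133
theorem L188139 : sm gc N16662 = N17253 := rfl
theorem L188141 : sm ga N17253 = N16778 := ded_10_1 (flp_c L184044) (flp_a L182920) L188139
theorem L188143 : sm gg N17253 = N16693 := ded_27_2 (flp_c L183254) (flp_g L182922) L188139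
theorem L188145 : sm gi N17253 = N16663 := ded_29_2 (flp_c L182926) (flp_i L182924) L188139
theorem L188147 : sm gd N17253 = N16673 := ded_24_2 (flp_c L183020) (flp_d L177581) (flp_c L177479) L182918 L188139
theorem L188149 : sm ge N16662 = N17254 := rfl
theorem L188151 : sm ga N17254 = N16779 := ded_12_1 (flp_e L184050) (flp_a L182920) L188149
theorem L188153 : sm gg N17254 = N16694 := ded_36_2 (flp_e L183258) (flp_g L182922) L188149
theorem L188155 : sm gi N17254 = N16664 := ded_38_2 (flp_e L182934) (flp_i L182924) L188149
theorem L188157 : sm gd N17254 = N16683 := ded_30_1 (flp_e L183151) (flp_d L177786) (flp_e L177481) L182918 L188149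
theorem L188159 : sm gb N16663 = N17255 := rfl
theorem L188161 : sm gd N17255 = N16674 := ded_18_2 (flp_b L183031) (flp_d L182932) L188159
theorem L188163 : sm gf N17255 = N17159 := ded_20_2 (flp_b L187404) L187406 L188159
theorem L188165 : sm gg N17255 = N17018 := ded_21_2 L186141 L185289 L188159
theorem L188167 : sm gh N17255 = N16668 := ded_22_2 (flp_b L182972) (flp_h L182930) L188159
theorem L188169 : sm gc N17255 = N17016 := ded_17_2 L186115 (flp_c L182844) L182840 L182926 L188159
theorem L188171 : sm ge N16663 = N17256 := rfl
theorem L188173 : sm ga N17256 = N16781 := ded_12_1 (flp_e L184060) (flp_a L182928) L188171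
theorem L188175 : sm gc N17256 = N16664 := ded_25_1 (flp_e L182934) L182926 L188171
theorem L188177 : sm gh N17256 = N16669 := ded_37_2 (flp_e L182982) (flp_h L182930) L188171
theorem L188179 : sm gf N16664 = N17257 := rfl
theorem L188181 : sm ga N17257 = N16782 := ded_13_1 (flp_f L184066) (flp_a L182936) L188179
theorem L188183 : sm gh N17257 = N16670 := ded_40_2 (flp_f L182990) (flp_h L182938) L188179
theorem L188185 : sm ge N16665 = N17258 := rfl
theorem L188187 : sm ga N17258 = N16783 := ded_12_1 (flp_e L184070) (flp_a L182942) L188185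
theorem L188189 : sm gb N17258 = N16856 := ded_19_1 (flp_e L184772) (flp_b L182944) L188185
theorem L188191 : sm gc N17258 = N17176 := ded_25_1 (flp_e L187326) (flp_c L182952) L188185
theorem L188193 : sm gg N17258 = N16667 := ded_36_2 (flp_e L182966) (flp_g L182948) L188185
theorem L188195 : sm gi N17258 = N16887 := ded_38_2 (flp_e L185056) (flp_i L182950) L188185
theorem L188197 : sm gd N17258 = N16902 := ded_30_1 (flp_e L185166) (flp_d L179755) (flp_e L177501) L182940 L188185
theorem L188199 : sm ge N16666 = N17259 := rfl
theorem L188201 : sm ga N17259 = N16785 := ded_12_1 (flp_e L184086) (flp_a L182956) L188199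
theorem L188203 : sm gb N17259 = N17174 := ded_19_1 (flp_e L187318) (flp_b L182962) L188199
theorem L188205 : sm gc N17259 = N16667 := ded_25_1 (flp_e L182966) L182954 L188199
theorem L188207 : sm gg N17259 = N17176 := ded_36_2 (flp_e L187326) (flp_g L182960) L188199
theorem L188209 : sm gf N16667 = N17260 := rfl
theorem L188211 : sm ga N17260 = N16786 := ded_13_1 (flp_f L184090) (flp_a L182968) L188209
theorem L188213 : sm gd N17260 = N16904 := ded_31_1 (flp_f L185182) (flp_d L182970) L188209
theorem L188215 : sm ge N17260 = N16670 := ded_35_1 (flp_f L182990) (flp_e L177521) (flp_f L177513) L182966 L188209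
theorem L188217 : sm ga N16668 = N17261 := rfl
theorem L188219 : sm gc N17261 = N16710 := ded_10_2 L183430 (flp_c L182980) L188217
theorem L188221 : sm gd N17261 = N16672 := ded_11_2 (flp_a L183004) (flp_d L182974) L188217
theorem L188223 : sm gf N17261 = N16711 := ded_13_2 L183442 (flp_f L182976) L188217
theorem L188225 : sm gg N17261 = N17009 := ded_14_2 L186069 (flp_g L182978) L188217
theorem L188227 : sm gi N17261 = N16767 := ded_16_2 L187849 L187845 L188217
theorem L188229 : sm gb N17261 = N16787 := ded_9_2 (flp_a L184096) (flp_b L178590) (flp_a L177517) L182972 L188217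
theorem L188231 : sm ge N16668 = N17262 := rfl
theorem L188233 : sm gb N17262 = N16669 := ded_19_1 (flp_e L182982) L182972 L188231
theorem L188235 : sm gc N17262 = N17025 := ded_25_1 (flp_e L186197) (flp_c L182980) L188231
theorem L188237 : sm gg N17262 = N17026 := ded_36_2 (flp_e L186203) (flp_g L182978) L188231
theorem L188239 : sm gd N17262 = N17116 := ded_30_1 (flp_e L186903) L181738 (flp_e L177549) (flp_d L182974) L188231
theorem L188241 : sm gf N16669 = N17263 := rfl
theorem L188243 : sm ga N17263 = N16789 := ded_13_1 (flp_f L184108) (flp_a L182984) L188241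
theorem L188245 : sm gc N17263 = N16670 := ded_26_1 (flp_f L182990) (flp_c L182986) L188241
theorem L188247 : sm gd N17263 = N17117 := ded_31_1 (flp_f L186907) (flp_d L182988) L188241
theorem L188249 : sm gg N16670 = N17264 := rfl
theorem L188251 : sm ga N17264 = N16790 := ded_14_1 (flp_g L184114) (flp_a L182992) L188249
theorem L188253 : sm gd N17264 = N16671 := ded_32_1 (flp_g L182996) (flp_d L182994) L188249
theorem L188255 : sm ga N16674 = N17265 := rfl
theorem L188257 : sm gc N17265 = N17055 := ded_10_2 L186408 (flp_c L183039) L188255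
theorem L188259 : sm gf N17265 = N16821 := ded_13_2 L184431 (flp_f L183033) L188255
theorem L188261 : sm gg N17265 = N17056 := ded_14_2 L186423 (flp_g L183035) L188255
theorem L188263 : sm gh N17265 = N16675 := ded_15_2 (flp_a L183041) (flp_h L183037) L188255
theorem L188265 : sm gb N17265 = N16801 := ded_9_2 (flp_a L184212) (flp_b L178758) (flp_a L177596) L183031 L188255
theorem L188267 : sm gd N16678 = N17266 := rfl
theorem L188269 : sm ga N17266 = N16886 := ded_11_1 L185054 (flp_a L183086) L188267
theorem L188271 : sm gb N17266 = N17126 := ded_18_1 (flp_d L186995) (flp_b L183088) L188267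
theorem L188273 : sm gf N17266 = N16876 := ded_31_2 L184961 L183097 L188267
theorem L188275 : sm gg N17266 = N16722 := ded_32_2 L183540 (flp_g L183092) L188267
theorem L188277 : sm gi N17266 = N16679 := ded_34_2 (flp_d L183099) (flp_i L183095) L188267
theorem L188279 : sm gc N17266 = N16721 := ded_24_1 (flp_d L183522) L178129 (flp_d L177674) (flp_c L183090) L188267
theorem L188281 : sm gh N16679 = N17267 := rfl
theorem L188283 : sm ga N17267 = N17163 := ded_15_1 L187256 (flp_a L183101) L188281
theorem L188285 : sm gb N17267 = N17128 := ded_22_1 (flp_h L187003) (flp_b L183103) L188281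
theorem L188287 : sm gc N17267 = N16774 := ded_28_1 L184024 (flp_c L183109) L188281
theorem L188289 : sm gf N17267 = N17169 := ded_40_1 L187292 (flp_f L183105) L188281
theorem L188291 : sm gg N17267 = N16776 := ded_42_1 L184036 (flp_g L183107) L188281
theorem L188293 : sm gd N17267 = N16680 := ded_33_1 (flp_h L183111) (flp_d L177747) (flp_h L177727) L183099 L188281
theorem L188295 : sm ge N16681 = N17268 := rfl
theorem L188297 : sm gb N17268 = N16818 := ded_19_1 (flp_e L184395) (flp_b L183125) L188295
theorem L188299 : sm gc N17268 = N16688 := ded_25_1 (flp_e L183211) (flp_c L183131) L188295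
theorem L188301 : sm gg N17268 = N16914 := ded_36_2 (flp_e L185277) (flp_g L183129) L188295
theorem L188303 : sm gh N17268 = N16699 := ded_37_2 (flp_e L183305) (flp_h L183133) L188295
theorem L188305 : sm gd N17268 = N17244 := ded_30_1 (flp_e L188051) (flp_d L182838) (flp_e L177766) L183123 L188295
theorem L188307 : sm ge N16682 = N17269 := rfl
theorem L188309 : sm ga N17269 = N16932 := ded_12_1 (flp_e L185434) (flp_a L183137) L188307
theorem L188311 : sm gb N17269 = N16683 := ded_19_1 (flp_e L183151) (flp_b L183139) L188307
theorem L188313 : sm gc N17269 = N16914 := ded_25_1 (flp_e L185277) (flp_c L183147) L188307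
theorem L188315 : sm gg N17269 = N16688 := ded_36_2 (flp_e L183211) (flp_g L183143) L188307
theorem L188317 : sm gh N17269 = N16700 := ded_37_2 (flp_e L183317) (flp_h L183149) L188307
theorem L188319 : sm gi N17269 = N17268 := ded_38_2 (flp_e L188295) (flp_i L183145) L188307
theorem L188321 : sm gf N16683 = N17270 := rfl
theorem L188323 : sm gc N17270 = N16950 := ded_26_1 (flp_f L185591) (flp_c L183153) L188321
theorem L188325 : sm gh N17270 = N16704 := ded_40_2 (flp_f L183361) (flp_h L183157) L188321
theorem L188327 : sm gd N16684 = N17271 := rfl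
theorem L188329 : sm ga N17271 = N16687 := ded_11_1 (flp_d L183201) (flp_a L183161) L188327
theorem L188331 : sm gb N17271 = N17146 := ded_18_1 (flp_d L187144) (flp_b L183163) L188327
theorem L188333 : sm gf N17271 = N16898 := ded_31_2 L185138 (flp_f L183169) L188327
theorem L188335 : sm gg N17271 = N16930 := ded_32_2 (flp_d L185410) (flp_g L183171) L188327
theorem L188337 : sm gi N17271 = N16896 := ded_34_2 L185118 (flp_i L183173) L188327
theorem L188339 : sm gc N17271 = N16895 := ded_24_1 (flp_d L185100) L179713 (flp_d L178964) (flp_c L183165) L188327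
theorem L188341 : sm gh N17271 = N16996 := ded_33_2 (flp_d L185951) (flp_h L180631) (flp_d L177802) L183159 L188327
theorem L188343 : sm ge N16685 = N17272 := rfl
theorem L188345 : sm ga N17272 = N16688 := ded_12_1 (flp_e L183211) (flp_a L183177) L188343
theorem L188347 : sm gg N17272 = N16932 := ded_36_2 (flp_e L185434) (flp_g L183181) L188343
theorem L188349 : sm gh N17272 = N16706 := ded_37_2 (flp_e L183382) (flp_h L183183) L188343
theorem L188351 : sm gd N16686 = N17273 := rfl
theorem L188353 : sm ga N17273 = N16996 := ded_11_1 (flp_d L185951) (flp_a L183187) L188351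
theorem L188355 : sm gb N17273 = N16690 := ded_18_1 (flp_d L183230) (flp_b L183189) L188351
theorem L188357 : sm gf N17273 = N16869 := ded_31_2 (flp_d L184882) (flp_f L183195) L188351
theorem L188359 : sm gg N17273 = N17104 := ded_32_2 (flp_d L186811) (flp_g L183197) L188351
theorem L188361 : sm gi N17273 = N16868 := ded_34_2 (flp_d L184872) (flp_i L183199) L188351
theorem L188363 : sm gc N17273 = N16987 := ded_24_1 (flp_d L185889) L180559 (flp_d L179838) (flp_c L183191) L188351
theorem L188365 : sm gh N17273 = N16687 := ded_33_2 (flp_d L183201) (flp_h L177836) (flp_d L177828) L183185 L188351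
theorem L188367 : sm ge N16687 = N17274 := rfl
theorem L188369 : sm gb N17274 = N16694 := ded_19_1 (flp_e L183258) (flp_b L183203) L188367
theorem L188371 : sm gc N17274 = N17034 := ded_25_1 (flp_e L186257) (flp_c L183209) L188367
theorem L188373 : sm gi N17274 = N17035 := ded_38_2 (flp_e L186265) (flp_i L183207) L188367
theorem L188375 : sm gd N17274 = N16688 := ded_30_1 (flp_e L183211) (flp_d L177848) (flp_e L177842) L183201 L188367
theorem L188377 : sm gf N16688 = N17275 := rfl
theorem L188379 : sm gb N17275 = N16695 := ded_20_1 (flp_f L183262) (flp_b L183213) L188377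
theorem L188381 : sm gh N17275 = N16713 := ded_40_2 (flp_f L183464) (flp_h L183215) L188377
theorem L188383 : sm ge N17275 = N16950 := ded_35_1 (flp_f L185591) (flp_e L180299) (flp_f L177852) L183211 L188377
theorem L188385 : sm gd N16689 = N17276 := rfl
theorem L188387 : sm ga N17276 = N17095 := ded_11_1 (flp_d L186760) (flp_a L183219) L188385
theorem L188389 : sm gb N17276 = N16869 := ded_18_1 (flp_d L184882) (flp_b L183221) L188385
theorem L188391 : sm gf N17276 = N16690 := ded_31_2 (flp_d L183230) (flp_f L183224) L188385
theorem L188393 : sm gg N17276 = N16883 := ded_32_2 (flp_d L185027) (flp_g L183226) L188385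
theorem L188395 : sm gi N17276 = N16863 := ded_34_2 (flp_d L184824) (flp_i L183228) L188385
theorem L188397 : sm gh N17276 = N16692 := ded_33_2 (flp_d L183246) (flp_h L177886) (flp_d L177863) L183217 L188385
theorem L188399 : sm gc N16690 = N17277 := rfl
theorem L188401 : sm gh N17277 = N16693 := ded_28_2 (flp_c L183254) (flp_h L183232) L188399
theorem L188403 : sm gd N17277 = N17277 := ded_24_2 (flp_c L188399) (flp_d L183230) L177871 L183230 L188399
theorem L188404 : sm ge N16690 = N17278 := rfl
theorem L188406 : sm gh N17278 = N16694 := ded_37_2 (flp_e L183258) (flp_h L183232) L188404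
theorem L188408 : sm gd N17278 = N16720 := ded_30_1 (flp_e L183518) (flp_d L178119) (flp_e L177872) L183230 L188404
theorem L188410 : sm gd N16691 = N17279 := rfl
theorem L188412 : sm gb N17279 = N16854 := ded_18_1 (flp_d L184750) (flp_b L183236) L188410
theorem L188414 : sm gg N17279 = N16692 := ded_32_2 (flp_d L183246) (flp_g L183242) L188410
theorem L188416 : sm gi N17279 = N16847 := ded_34_2 (flp_d L184676) (flp_i L183244) L188410
theorem L188418 : sm gc N17279 = N17166 := ded_24_1 L187272 L182215 L177916 (flp_c L183238) L188410
theorem L188420 : sm gh N17279 = N16883 := ded_33_2 (flp_d L185027) (flp_h L179650) (flp_d L177880) L183234 L188410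
theorem L188422 : sm gc N16692 = N17280 := rfl
theorem L188424 : sm gf N17280 = N16693 := ded_26_2 (flp_c L183254) (flp_f L183250) L188422
theorem L188426 : sm gg N17280 = N17166 := ded_27_2 (flp_c L188418) L188414 L188422
theorem L188428 : sm gi N17280 = N17022 := ded_29_2 L186179 (flp_i L183252) L188422
theorem L188430 : sm gb N17280 = N17020 := ded_17_1 (flp_c L186151) L180825 L180927 (flp_b L183248) L188422
theorem L188432 : sm gd N17280 = N16696 := ded_24_2 (flp_c L183270) (flp_d L177918) (flp_c L177890) L183246 L188422
theorem L188434 : sm ge N16692 = N17281 := rfl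
theorem L188436 : sm gb N17281 = N17037 := ded_19_1 (flp_e L186281) (flp_b L183248) L188434
theorem L188438 : sm gi N17281 = N17039 := ded_38_2 (flp_e L186291) (flp_i L183252) L188434
theorem L188440 : sm gd N17281 = N16959 := ded_30_1 (flp_e L185669) (flp_d L180369) (flp_e L177892) L183246 L188434
theorem L188442 : sm gb N16693 = N17282 := rfl
theorem L188444 : sm gd N17282 = N16698 := ded_18_2 (flp_b L183294) (flp_d L183256) L188442
theorem L188446 : sm gf N17282 = N17020 := ded_20_2 (flp_b L188430) L188424 L188442
theorem L188448 : sm gi N17282 = N17018 := ded_23_2 L186141 L185293 L188442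
theorem L188450 : sm gc N17282 = N17017 := ded_17_2 L186127 (flp_c L183209) L183203 L183254 L188442
theorem L188452 : sm ge N16693 = N17283 := rfl
theorem L188454 : sm gc N17283 = N16694 := ded_25_1 (flp_e L183258) L183254 L188452
theorem L188456 : sm gd N17283 = N17138 := ded_30_1 (flp_e L187076) L181933 (flp_e L177931) (flp_d L183256) L188452
theorem L188458 : sm gf N16694 = N17284 := rfl
theorem L188460 : sm gd N17284 = N16695 := ded_31_1 (flp_f L183262) (flp_d L183260) L188458
theorem L188462 : sm gg N16695 = N17285 := rfl
theorem L188464 : sm gc N17285 = N17140 := ded_27_1 (flp_g L187088) (flp_c L183264) L188462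
theorem L188466 : sm ge N17285 = N16963 := ded_36_1 (flp_g L185683) (flp_e L183268) L188462
theorem L188468 : sm gh N17285 = N16727 := ded_42_2 (flp_g L183570) (flp_h L183266) L188462
theorem L188470 : sm ge N16696 = N17286 := rfl
theorem L188472 : sm gb N17286 = N17060 := ded_19_1 (flp_e L186460) (flp_b L183279) L188470
theorem L188474 : sm gc N17286 = N16697 := ded_25_1 (flp_e L183281) L183270 L188470
theorem L188476 : sm gg N17286 = N17188 := ded_36_2 (flp_e L187423) (flp_g L183274) L188470
theorem L188478 : sm gh N17286 = N17286 := ded_37_2 (flp_e L188470) L183276 L188470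
theorem L188479 : sm gi N17286 = N17061 := ded_38_2 (flp_e L186469) (flp_i L183277) L188470
theorem L188481 : sm gf N17286 = N17143 := ded_35_2 (flp_e L187114) L181960 (flp_e L177931) (flp_f L183272) L188470
theorem L188483 : sm ga N16698 = N17287 := rfl
theorem L188485 : sm gc N17287 = N16808 := ded_10_2 (flp_a L184283) (flp_c L183303) L188483
theorem L188487 : sm ge N17287 = N17144 := ded_12_2 (flp_a L187125) (flp_e L183296) L188483
theorem L188489 : sm gf N17287 = N17057 := ded_13_2 L186433 (flp_f L183298) L188483
theorem L188491 : sm gh N17287 = N17287 := ded_15_2 (flp_a L188483) L183300 L188483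
theorem L188492 : sm gi N17287 = N17056 := ded_16_2 L186423 (flp_i L183301) L188483
theorem L188494 : sm gf N16699 = N17288 := rfl
theorem L188496 : sm gb N17288 = N16819 := ded_20_1 (flp_f L184409) (flp_b L183307) L188494
theorem L188498 : sm gc N17288 = N16713 := ded_26_1 (flp_f L183464) (flp_c L183309) L188494
theorem L188500 : sm gd N17288 = N16817 := ded_31_1 (flp_f L184387) (flp_d L183315) L188494
theorem L188502 : sm gi N17288 = N16733 := ded_41_2 (flp_f L183642) (flp_i L183313) L188494
theorem L188504 : sm ge N17288 = N16704 := ded_35_1 (flp_f L183361) (flp_e L177979) (flp_f L177938) L183305 L188494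
theorem L188506 : sm gf N16700 = N17289 := rfl
theorem L188508 : sm ga N17289 = N16935 := ded_13_1 (flp_f L185456) (flp_a L183319) L188506
theorem L188510 : sm gb N17289 = N16704 := ded_20_1 (flp_f L183361) (flp_b L183321) L188506
theorem L188512 : sm gc N17289 = N16918 := ded_26_1 (flp_f L185319) (flp_c L183323) L188506
theorem L188514 : sm gd N17289 = N17114 := ded_31_1 (flp_f L186889) (flp_d L183329) L188506
theorem L188516 : sm gi N17289 = N16738 := ded_41_2 (flp_f L183700) (flp_i L183327) L188506
theorem L188518 : sm ge N17289 = N16819 := ded_35_1 (flp_f L184409) (flp_e L179081) (flp_f L177952) L183317 L188506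
theorem L188520 : sm gc N16701 = N17290 := rfl
theorem L188522 : sm gf N17290 = N17096 := ded_26_2 (flp_c L186766) (flp_f L183335) L188520
theorem L188524 : sm gg N17290 = N16719 := ded_27_2 (flp_c L183513) (flp_g L183337) L188520
theorem L188526 : sm gh N17290 = N16702 := ded_28_2 (flp_c L183341) (flp_h L183339) L188520
theorem L188528 : sm gd N17290 = N17290 := ded_24_2 (flp_c L188520) (flp_d L183331) L177964 L183331 L188520
theorem L188529 : sm ge N16701 = N17291 := rfl
theorem L188531 : sm gb N17291 = N17107 := ded_19_1 (flp_e L186839) (flp_b L183333) L188529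
theorem L188533 : sm gg N17291 = N16720 := ded_36_2 (flp_e L183518) (flp_g L183337) L188529
theorem L188535 : sm gh N17291 = N16703 := ded_37_2 (flp_e L183351) (flp_h L183339) L188529
theorem L188537 : sm gb N16702 = N17292 := rfl
theorem L188539 : sm gd N17292 = N16705 := ded_18_2 (flp_b L183367) (flp_d L183349) L188537
theorem L188541 : sm gf N17292 = N17098 := ded_20_2 (flp_b L186779) (flp_f L183343) L188537
theorem L188543 : sm gg N17292 = N16724 := ded_21_2 (flp_b L183548) (flp_g L183345) L188537
theorem L188545 : sm gi N17292 = N16746 := ded_23_2 (flp_b L183782) (flp_i L183347) L188537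
theorem L188547 : sm gc N17292 = N16910 := ded_17_2 L185250 (flp_c L181724) (flp_b L177971) L183341 L188537
theorem L188549 : sm ga N17127 = N17292 := ded_11_3 L188539 (flp_a L183380) L186999
theorem L188551 : sm ge N16702 = N17293 := rfl
theorem L188553 : sm gc N17293 = N16703 := ded_25_1 (flp_e L183351) L183341 L188551
theorem L188555 : sm gg N17293 = N16725 := ded_36_2 (flp_e L183556) (flp_g L183345) L188551
theorem L188557 : sm gi N17293 = N16747 := ded_38_2 (flp_e L183788) (flp_i L183347) L188551
theorem L188559 : sm gd N17293 = N16982 := ded_30_1 (flp_e L185851) L180519 (flp_e L177989) (flp_d L183349) L188551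
theorem L188561 : sm gf N16703 = N17294 := rfl
theorem L188563 : sm gb N17294 = N17114 := ded_20_1 (flp_f L186889) (flp_b L183353) L188561
theorem L188565 : sm gd N17294 = N16704 := ded_31_1 (flp_f L183361) (flp_d L183359) L188561
theorem L188567 : sm gi N17294 = N16748 := ded_41_2 (flp_f L183796) (flp_i L183357) L188561
theorem L188569 : sm ge N17294 = N17100 := ded_35_1 (flp_f L186789) (flp_e L181656) (flp_f L177973) L183351 L188561
theorem L188571 : sm gg N16704 = N17295 := rfl
theorem L188573 : sm gc N17295 = N16984 := ded_27_1 (flp_g L185867) (flp_c L183363) L188571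
theorem L188575 : sm gi N17295 = N16749 := ded_43_2 (flp_g L183800) (flp_i L183365) L188571
theorem L188577 : sm gf N17295 = N16727 := ded_39_1 (flp_g L183570) (flp_f L178157) (flp_g L177983) L183361 L188571
theorem L188579 : sm gf N16706 = N17296 := rfl
theorem L188581 : sm ga N17296 = N16713 := ded_13_1 (flp_f L183464) (flp_a L183384) L188579
theorem L188583 : sm gd N17296 = N17175 := ded_31_1 (flp_f L187324) (flp_d L183390) L188579
theorem L188585 : sm gi N17296 = N16758 := ded_41_2 (flp_f L183902) (flp_i L183388) L188579
theorem L188587 : sm ge N17296 = N16973 := ded_35_1 (flp_f L185770) (flp_e L180447) (flp_f L178002) L183382 L188579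
theorem L188589 : sm gd N16707 = N17297 := rfl
theorem L188591 : sm ga N17297 = N17016 := ded_11_1 (flp_d L186113) (flp_a L183394) L188589
theorem L188593 : sm gb N17297 = N16717 := ded_18_1 (flp_d L183501) (flp_b L183396) L188589
theorem L188595 : sm gf N17297 = N16709 := ded_31_2 (flp_d L183418) (flp_f L183400) L188589
theorem L188597 : sm gg N17297 = N17005 := ded_32_2 (flp_d L186031) (flp_g L183402) L188589
theorem L188599 : sm gh N17297 = N16710 := ded_33_2 (flp_d L183428) (flp_h L178046) (flp_d L178016) L183392 L188589
theorem L188601 : sm gd N16708 = N17298 := rfl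
theorem L188603 : sm ga N17298 = N16994 := ded_11_1 (flp_d L185931) (flp_a L183406) L188601
theorem L188605 : sm gb N17298 = N16718 := ded_18_1 (flp_d L183507) (flp_b L183408) L188601
theorem L188607 : sm gg N17298 = N17105 := ded_32_2 (flp_d L186821) (flp_g L183414) L188601
theorem L188609 : sm gi N17298 = N16709 := ded_34_2 (flp_d L183418) (flp_i L183416) L188601
theorem L188611 : sm gh N17298 = N16763 := ded_33_2 (flp_d L183951) (flp_h L178485) (flp_d L178030) L183404 L188601
theorem L188613 : sm gc N16709 = N17299 := rfl
theorem L188615 : sm ga N17299 = N17159 := ded_10_1 (flp_c L187224) (flp_a L183420) L188613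
theorem L188617 : sm gg N17299 = N17106 := ded_27_2 (flp_c L186829) (flp_g L183424) L188613
theorem L188619 : sm gh N17299 = N16711 := ded_28_2 (flp_c L183440) (flp_h L183426) L188613
theorem L188621 : sm gd N17299 = N16821 := ded_24_2 L184435 (flp_d L181768) (flp_c L178042) L183418 L188613
theorem L188623 : sm gb N16911 = N17299 := ded_22_3 L188619 (flp_b L183450) L185256
theorem L188625 : sm ge N16709 = N17300 := rfl
theorem L188627 : sm ga N17300 = N17160 := ded_12_1 (flp_e L187232) (flp_a L183420) L188625
theorem L188629 : sm gb N17300 = N16720 := ded_19_1 (flp_e L183518) (flp_b L183422) L188625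
theorem L188631 : sm gg N17300 = N17107 := ded_36_2 (flp_e L186839) (flp_g L183424) L188625
theorem L188633 : sm gh N17300 = N16712 := ded_37_2 (flp_e L183452) (flp_h L183426) L188625
theorem L188635 : sm ge N16710 = N17301 := rfl
theorem L188637 : sm ga N17301 = N17025 := ded_12_1 (flp_e L186197) (flp_a L183430) L188635
theorem L188639 : sm gb N17301 = N16723 := ded_19_1 (flp_e L183542) (flp_b L183432) L188635
theorem L188641 : sm gg N17301 = N17010 := ded_36_2 (flp_e L186075) (flp_g L183436) L188635
theorem L188643 : sm gi N17301 = N16768 := ded_38_2 (flp_e L183986) (flp_i L183438) L188635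
theorem L188645 : sm gd N17301 = N16981 := ded_30_1 (flp_e L185845) (flp_d L180505) (flp_e L178054) L183428 L188635
theorem L188647 : sm ge N16711 = N17302 := rfl
theorem L188649 : sm ga N17302 = N17174 := ded_12_1 (flp_e L187318) (flp_a L183442) L188647
theorem L188651 : sm gb N17302 = N16890 := ded_19_1 L185076 L183450 L188647
theorem L188653 : sm gc N17302 = N16712 := ded_25_1 (flp_e L183452) L183440 L188647
theorem L188655 : sm gg N17302 = N17113 := ded_36_2 (flp_e L186883) (flp_g L183444) L188647
theorem L188657 : sm gi N17302 = N16770 := ded_38_2 (flp_e L184000) (flp_i L183446) L188647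
theorem L188659 : sm gd N17302 = N16816 := ded_30_1 (flp_e L184379) L179061 (flp_e L178816) (flp_d L183448) L188647
theorem L188661 : sm gf N16712 = N17303 := rfl
theorem L188663 : sm ga N17303 = N17175 := ded_13_1 (flp_f L187324) (flp_a L183454) L188661
theorem L188665 : sm gb N17303 = N16726 := ded_20_1 (flp_f L183564) (flp_b L183456) L188661
theorem L188667 : sm gd N17303 = N16713 := ded_31_1 (flp_f L183464) (flp_d L183462) L188661
theorem L188669 : sm gi N17303 = N16771 := ded_41_2 (flp_f L184004) (flp_i L183460) L188661
theorem L188671 : sm gg N16713 = N17304 := rfl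
theorem L188673 : sm gb N17304 = N16727 := ded_21_1 (flp_g L183570) (flp_b L183466) L188671
theorem L188675 : sm ge N17304 = N16984 := ded_36_1 (flp_g L185867) (flp_e L183470) L188671
theorem L188677 : sm gi N17304 = N16772 := ded_43_2 (flp_g L184010) (flp_i L183468) L188671
theorem L188679 : sm gd N16714 = N17305 := rfl
theorem L188681 : sm gh N17305 = N16985 := ded_33_2 (flp_d L185875) (flp_h L180537) (flp_d L178081) L183472 L188679
theorem L188683 : sm gd N16715 = N17306 := rfl
theorem L188685 : sm ga N17306 = N16882 := ded_11_1 (flp_d L185019) (flp_a L183479) L188683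
theorem L188687 : sm gb N17306 = N17005 := ded_18_1 (flp_d L186031) (flp_b L183481) L188683
theorem L188689 : sm gf N17306 = N16875 := ded_31_2 (flp_d L184943) (flp_f L183484) L188683
theorem L188691 : sm gg N17306 = N16717 := ded_32_2 (flp_d L183501) (flp_g L183486) L188683
theorem L188693 : sm gi N17306 = N17305 := ded_34_2 (flp_d L188679) (flp_i L183488) L188683
theorem L188695 : sm gh N17306 = N16721 := ded_33_2 (flp_d L183522) (flp_h L178123) (flp_d L178092) L183477 L188683
theorem L188697 : sm gd N16716 = N17307 := rfl
theorem L188699 : sm gf N17307 = N16718 := ded_31_2 (flp_d L183507) (flp_f L183495) L188697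
theorem L188701 : sm gg N17307 = N17305 := ded_32_2 (flp_d L188679) (flp_g L183497) L188697
theorem L188703 : sm gi N17307 = N16717 := ded_34_2 (flp_d L183501) (flp_i L183499) L188697
theorem L188705 : sm gh N17307 = N16775 := ded_33_2 (flp_d L184026) (flp_h L178548) (flp_d L178101) L183490 L188697
theorem L188707 : sm gc N16717 = N17308 := rfl
theorem L188709 : sm gf N17308 = N16719 := ded_26_2 (flp_c L183513) (flp_f L183503) L188707
theorem L188711 : sm gh N17308 = N16722 := ded_28_2 (flp_c L183534) (flp_h L183505) L188707
theorem L188713 : sm gd N17308 = N17308 := ded_24_2 (flp_c L188707) (flp_d L183501) L178111 L183501 L188707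
theorem L188714 : sm ge N16717 = N17309 := rfl
theorem L188716 : sm gh N17309 = N16723 := ded_37_2 (flp_e L183542) (flp_h L183505) L188714
theorem L188718 : sm gc N16718 = N17310 := rfl
theorem L188720 : sm gh N17310 = N16778 := ded_28_2 (flp_c L184044) (flp_h L183511) L188718
theorem L188722 : sm gi N17310 = N16719 := ded_29_2 (flp_c L183513) (flp_i L183509) L188718
theorem L188724 : sm gd N17310 = N17310 := ded_24_2 (flp_c L188718) (flp_d L183507) L178116 L183507 L188718
theorem L188725 : sm ge N16718 = N17311 := rfl
theorem L188727 : sm gh N17311 = N16779 := ded_37_2 (flp_e L184050) (flp_h L183511) L188725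
theorem L188729 : sm gi N17311 = N16720 := ded_38_2 (flp_e L183518) (flp_i L183509) L188725
theorem L188731 : sm gb N16719 = N17312 := rfl
theorem L188733 : sm gd N17312 = N17312 := ded_18_2 (flp_b L188731) L183517 L188731
theorem L188734 : sm gh N17312 = N16724 := ded_22_2 (flp_b L183548) (flp_h L183515) L188731
theorem L188736 : sm gc N17312 = N16911 := ded_17_2 L188623 (flp_c L188613) L183422 L183513 L188731
theorem L188738 : sm ge N16719 = N17313 := rfl
theorem L188740 : sm gc N17313 = N16720 := ded_25_1 (flp_e L183518) L183513 L188738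
theorem L188742 : sm gh N17313 = N16725 := ded_37_2 (flp_e L183556) (flp_h L183515) L188738
theorem L188744 : sm gf N16720 = N17314 := rfl
theorem L188746 : sm gh N17314 = N16726 := ded_40_2 (flp_f L183564) (flp_h L183520) L188744
theorem L188748 : sm ge N16721 = N17315 := rfl
theorem L188750 : sm ga N17315 = N16887 := ded_12_1 (flp_e L185056) (flp_a L183524) L188748
theorem L188752 : sm gb N17315 = N17010 := ded_19_1 (flp_e L186075) (flp_b L183526) L188748
theorem L188754 : sm gg N17315 = N16723 := ded_36_2 (flp_e L183542) (flp_g L183530) L188748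
theorem L188756 : sm gi N17315 = N16783 := ded_38_2 (flp_e L184070) (flp_i L183532) L188748
theorem L188758 : sm gd N17315 = N16991 := ded_30_1 (flp_e L185913) (flp_d L180585) (flp_e L178131) L183522 L188748
theorem L188760 : sm gb N16722 = N17316 := rfl
theorem L188762 : sm gd N17316 = N16728 := ded_18_2 (flp_b L183578) (flp_d L183540) L188760
theorem L188764 : sm gf N17316 = N16724 := ded_20_2 (flp_b L183548) (flp_f L183536) L188760
theorem L188766 : sm gg N17316 = N17126 := ded_21_2 (flp_b L188271) L188275 L188760
theorem L188768 : sm gi N17316 = N16784 := ded_23_2 (flp_b L184076) (flp_i L183538) L188760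
theorem L188770 : sm ga N17316 = N16769 := ded_9_1 (flp_b L183992) (flp_a L183884) (flp_b L187821) L187813 L188760
theorem L188772 : sm gc N17316 = N16787 := ded_17_2 (flp_b L188229) L188219 L183432 L183534 L188760
theorem L188774 : sm ge N16722 = N17317 := rfl
theorem L188776 : sm gc N17317 = N16723 := ded_25_1 (flp_e L183542) L183534 L188774
theorem L188778 : sm gi N17317 = N16785 := ded_38_2 (flp_e L184086) (flp_i L183538) L188774
theorem L188780 : sm gf N16723 = N17318 := rfl
theorem L188782 : sm gd N17318 = N16992 := ded_31_1 (flp_f L185919) (flp_d L183546) L188780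
theorem L188784 : sm gi N17318 = N16786 := ded_41_2 (flp_f L184090) (flp_i L183544) L188780
theorem L188786 : sm ge N17318 = N16726 := ded_35_1 (flp_f L183564) (flp_e L178151) (flp_f L178141) L183542 L188780
theorem L188788 : sm ga N16724 = N17319 := rfl
theorem L188790 : sm gc N17319 = N16784 := ded_10_2 L184084 (flp_c L183554) L188788
theorem L188792 : sm gd N17319 = N16729 := ded_11_2 (flp_a L183593) (flp_d L183550) L188788
theorem L188794 : sm gf N17319 = N16769 := ded_13_2 (flp_a L188770) L188764 L188788
theorem L188796 : sm gg N17319 = N17127 := ded_14_2 L188549 L188543 L188788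
theorem L188798 : sm gi N17319 = N16787 := ded_16_2 (flp_a L184096) (flp_i L183552) L188788
theorem L188800 : sm gb N17319 = N16767 := ded_9_2 L187849 (flp_b L187837) L182615 L183548 L188788
theorem L188802 : sm ge N16724 = N17320 := rfl
theorem L188804 : sm gb N17320 = N16725 := ded_19_1 (flp_e L183556) L183548 L188802
theorem L188806 : sm gc N17320 = N16890 := ded_25_1 L185076 (flp_c L183554) L188802
theorem L188808 : sm gi N17320 = N16788 := ded_38_2 (flp_e L184102) (flp_i L183552) L188802
theorem L188810 : sm gd N17320 = N16888 := ded_30_1 (flp_e L185060) L179675 (flp_e L178174) (flp_d L183550) L188802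
theorem L188812 : sm gf N16725 = N17321 := rfl
theorem L188814 : sm gc N17321 = N16726 := ded_26_1 (flp_f L183564) (flp_c L183558) L188812
theorem L188816 : sm gd N17321 = N17155 := ded_31_1 (flp_f L187198) (flp_d L183562) L188812
theorem L188818 : sm gi N17321 = N16789 := ded_41_2 (flp_f L184108) (flp_i L183560) L188812
theorem L188820 : sm gg N16726 = N17322 := rfl
theorem L188822 : sm gd N17322 = N16727 := ded_32_1 (flp_g L183570) (flp_d L183566) L188820
theorem L188824 : sm gi N17322 = N16790 := ded_43_2 (flp_g L184114) (flp_i L183568) L188820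
theorem L188826 : sm gc N16730 = N17323 := rfl
theorem L188828 : sm gf N17323 = N17076 := ded_26_2 (flp_c L186615) (flp_f L183612) L188826
theorem L188830 : sm gg N17323 = N16923 := ded_27_2 (flp_c L185367) (flp_g L183614) L188826
theorem L188832 : sm gh N17323 = N16731 := ded_28_2 (flp_c L183620) (flp_h L183618) L188826
theorem L188834 : sm gi N17323 = N17196 := ded_29_2 (flp_c L187508) (flp_i L183616) L188826
theorem L188836 : sm gb N17323 = N16830 := ded_17_1 (flp_c L184527) L179225 (flp_c L179003) (flp_b L183610) L188826
theorem L188838 : sm gd N17323 = N17323 := ded_24_2 (flp_c L188826) (flp_d L183608) L178185 L183608 L188826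
theorem L188839 : sm ge N16730 = N17324 := rfl
theorem L188841 : sm gb N17324 = N16809 := ded_19_1 (flp_e L184295) (flp_b L183610) L188839
theorem L188843 : sm gg N17324 = N16924 := ded_36_2 (flp_e L185372) (flp_g L183614) L188839
theorem L188845 : sm gh N17324 = N16732 := ded_37_2 (flp_e L183632) (flp_h L183618) L188839
theorem L188847 : sm gi N17324 = N17197 := ded_38_2 (flp_e L187517) (flp_i L183616) L188839
theorem L188849 : sm ge N16731 = N17325 := rfl
theorem L188851 : sm gb N17325 = N16849 := ded_19_1 (flp_e L184698) (flp_b L183628) L188849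
theorem L188853 : sm gc N17325 = N16732 := ded_25_1 (flp_e L183632) L183620 L188849
theorem L188855 : sm gg N17325 = N16927 := ded_36_2 (flp_e L185392) (flp_g L183624) L188849
theorem L188857 : sm gi N17325 = N16816 := ded_38_2 (flp_e L184379) (flp_i L183626) L188849
theorem L188859 : sm gd N17325 = N16770 := ded_30_1 (flp_e L184000) L178522 (flp_e L178212) (flp_d L183630) L188849
theorem L188861 : sm gf N16732 = N17326 := rfl
theorem L188863 : sm gb N17326 = N16810 := ded_20_1 (flp_f L184309) (flp_b L183634) L188861
theorem L188865 : sm gd N17326 = N16733 := ded_31_1 (flp_f L183642) (flp_d L183640) L188861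
theorem L188867 : sm gi N17326 = N16817 := ded_41_2 (flp_f L184387) (flp_i L183638) L188861
theorem L188869 : sm ge N17326 = N17087 := ded_35_1 (flp_f L186705) (flp_e L181589) (flp_f L178196) L183632 L188861
theorem L188871 : sm gg N16733 = N17327 := rfl
theorem L188873 : sm gb N17327 = N16920 := ded_21_1 (flp_g L185335) (flp_b L183644) L188871
theorem L188875 : sm gc N17327 = N16772 := ded_27_1 (flp_g L184010) (flp_c L183646) L188871
theorem L188877 : sm ge N17327 = N16749 := ded_36_1 (flp_g L183800) (flp_e L183648) L188871
theorem L188879 : sm gf N17327 = N16929 := ded_39_1 (flp_g L185402) (flp_f L180096) (flp_g L178208) L183642 L188871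
theorem L188881 : sm gf N16734 = N17328 := rfl
theorem L188883 : sm ga N17328 = N16738 := ded_13_1 (flp_f L183700) (flp_a L183652) L188881
theorem L188885 : sm gc N17328 = N16862 := ded_26_1 (flp_f L184816) (flp_c L183654) L188881
theorem L188887 : sm gd N17328 = N17154 := ded_31_1 (flp_f L187192) (flp_d L183662) L188881
theorem L188889 : sm gh N17328 = N17232 := ded_40_2 (flp_f L187919) (flp_h L183658) L188881
theorem L188891 : sm gi N17328 = N16935 := ded_41_2 (flp_f L185456) (flp_i L183660) L188881
theorem L188893 : sm ge N17328 = N16813 := ded_35_1 (flp_f L184347) (flp_e L179029) (flp_f L178227) L183650 L188881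
theorem L188895 : sm gc N16735 = N17329 := rfl
theorem L188897 : sm ga N17329 = N17147 := ded_10_1 (flp_c L187152) (flp_a L183666) L188895
theorem L188899 : sm gf N17329 = N17089 := ded_26_2 (flp_c L186719) (flp_f L183670) L188895
theorem L188901 : sm gg N17329 = N16764 := ded_27_2 (flp_c L183957) (flp_g L183672) L188895
theorem L188903 : sm gh N17329 = N16736 := ded_28_2 (flp_c L183676) (flp_h L183674) L188895
theorem L188905 : sm gd N17329 = N17329 := ded_24_2 (flp_c L188895) (flp_d L183664) L178243 L183664 L188895
theorem L188906 : sm ge N16735 = N17330 := rfl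
theorem L188908 : sm ga N17330 = N17148 := ded_12_1 (flp_e L187159) (flp_a L183666) L188906
theorem L188910 : sm gb N17330 = N16742 := ded_19_1 (flp_e L183740) (flp_b L183668) L188906
theorem L188912 : sm gg N17330 = N16765 := ded_36_2 (flp_e L183962) (flp_g L183672) L188906
theorem L188914 : sm gh N17330 = N16737 := ded_37_2 (flp_e L183688) (flp_h L183674) L188906
theorem L188916 : sm gd N17330 = N17324 := ded_30_1 (flp_e L188839) (flp_d L183608) (flp_e L178244) L183664 L188906
theorem L188918 : sm gb N16736 = N17331 := rfl
theorem L188920 : sm gd N17331 = N16805 := ded_18_2 (flp_b L184238) (flp_d L183686) L188918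
theorem L188922 : sm gf N17331 = N17091 := ded_20_2 (flp_b L186732) (flp_f L183680) L188918
theorem L188924 : sm gg N17331 = N16769 := ded_21_2 (flp_b L183992) (flp_g L183682) L188918
theorem L188926 : sm gi N17331 = N16910 := ded_23_2 L185250 (flp_i L183684) L188918
theorem L188928 : sm ga N17331 = N17126 := ded_9_1 (flp_b L188271) L188269 L185052 (flp_a L183678) L188918
theorem L188930 : sm gc N17331 = N16746 := ded_17_2 (flp_b L183782) (flp_c L178328) (flp_b L178254) L183676 L188918
theorem L188932 : sm ge N16736 = N17332 := rfl
theorem L188934 : sm ga N17332 = N17153 := ded_12_1 (flp_e L187186) (flp_a L183678) L188932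
theorem L188936 : sm gc N17332 = N16737 := ded_25_1 (flp_e L183688) L183676 L188932
theorem L188938 : sm gg N17332 = N16770 := ded_36_2 (flp_e L184000) (flp_g L183682) L188932
theorem L188940 : sm gi N17332 = N17113 := ded_38_2 (flp_e L186883) (flp_i L183684) L188932
theorem L188942 : sm gd N17332 = N16927 := ded_30_1 (flp_e L185392) L180088 (flp_e L178860) (flp_d L183686) L188932
theorem L188944 : sm gf N16737 = N17333 := rfl
theorem L188946 : sm ga N17333 = N17154 := ded_13_1 (flp_f L187192) (flp_a L183690) L188944
theorem L188948 : sm gb N17333 = N16748 := ded_20_1 (flp_f L183796) (flp_b L183692) L188944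
theorem L188950 : sm gd N17333 = N16738 := ded_31_1 (flp_f L183700) (flp_d L183698) L188944
theorem L188952 : sm gi N17333 = N17114 := ded_41_2 (flp_f L186889) (flp_i L183696) L188944
theorem L188954 : sm ge N17333 = N17093 := ded_35_1 (flp_f L186746) (flp_e L181616) (flp_f L178256) L183688 L188944
theorem L188956 : sm gg N16738 = N17334 := rfl
theorem L188958 : sm gb N17334 = N16749 := ded_21_1 (flp_g L183800) (flp_b L183702) L188956
theorem L188960 : sm gc N17334 = N16929 := ded_27_1 (flp_g L185402) (flp_c L183704) L188956
theorem L188962 : sm ge N17334 = N16920 := ded_36_1 (flp_g L185335) (flp_e L183708) L188956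
theorem L188964 : sm gh N17334 = N17327 := ded_42_2 (flp_g L188871) (flp_h L183706) L188956
theorem L188966 : sm gf N17334 = N16772 := ded_39_1 (flp_g L184010) (flp_f L178530) (flp_g L178268) L183700 L188956
theorem L188968 : sm gd N16739 = N17335 := rfl
theorem L188970 : sm ga N17335 = N16847 := ded_11_1 (flp_d L184676) (flp_a L183712) L188968
theorem L188972 : sm gb N17335 = N16970 := ded_18_1 (flp_d L185742) (flp_b L183714) L188968
theorem L188974 : sm gf N17335 = N16774 := ded_31_2 (flp_d L184020) (flp_f L183718) L188968
theorem L188976 : sm gg N17335 = N16740 := ded_32_2 (flp_d L183722) (flp_g L183720) L188968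
theorem L188978 : sm gc N17335 = N17169 := ded_24_1 L187290 L182228 (flp_d L178643) (flp_c L183716) L188968
theorem L188980 : sm gh N17335 = N16743 := ded_33_2 (flp_d L183746) (flp_h L178302) (flp_d L178280) L183710 L188968
theorem L188982 : sm gc N16740 = N17336 := rfl
theorem L188984 : sm ga N17336 = N17022 := ded_10_1 L186179 (flp_a L183724) L188982
theorem L188986 : sm gf N17336 = N16741 := ded_26_2 (flp_c L183732) (flp_f L183728) L188982
theorem L188988 : sm gg N17336 = N17169 := ded_27_2 (flp_c L188978) L188976 L188982
theorem L188990 : sm gh N17336 = N16744 := ded_28_2 (flp_c L183760) (flp_h L183730) L188982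
theorem L188992 : sm gd N17336 = N16791 := ded_24_2 (flp_c L184118) (flp_d L178645) (flp_c L178292) L183722 L188982
theorem L188994 : sm ge N16740 = N17337 := rfl
theorem L188996 : sm ga N17337 = N17039 := ded_12_1 (flp_e L186291) (flp_a L183724) L188994
theorem L188998 : sm gb N17337 = N17090 := ded_19_1 (flp_e L186726) (flp_b L183726) L188994
theorem L189000 : sm gh N17337 = N16745 := ded_37_2 (flp_e L183772) (flp_h L183730) L188994
theorem L189002 : sm gb N16741 = N17338 := rfl
theorem L189004 : sm gd N17338 = N16793 := ded_18_2 (flp_b L184137) (flp_d L183738) L189002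
theorem L189006 : sm gg N17338 = N16780 := ded_21_2 (flp_b L184054) (flp_g L183734) L189002
theorem L189008 : sm gh N17338 = N16746 := ded_22_2 (flp_b L183782) (flp_h L183736) L189002
theorem L189010 : sm ge N16741 = N17339 := rfl
theorem L189012 : sm gc N17339 = N16742 := ded_25_1 (flp_e L183740) L183732 L189010
theorem L189014 : sm gg N17339 = N16781 := ded_36_2 (flp_e L184060) (flp_g L183734) L189010
theorem L189016 : sm gh N17339 = N16747 := ded_37_2 (flp_e L183788) (flp_h L183736) L189010
theorem L189018 : sm gf N16742 = N17340 := rfl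
theorem L189020 : sm gh N17340 = N16748 := ded_40_2 (flp_f L183796) (flp_h L183744) L189018
theorem L189022 : sm ge N16743 = N17341 := rfl
theorem L189024 : sm ga N17341 = N16848 := ded_12_1 (flp_e L184686) (flp_a L183748) L189022
theorem L189026 : sm gb N17341 = N16972 := ded_19_1 (flp_e L185760) (flp_b L183750) L189022
theorem L189028 : sm gc N17341 = N17180 := ded_25_1 (flp_e L187344) (flp_c L183758) L189022
theorem L189030 : sm gg N17341 = N16745 := ded_36_2 (flp_e L183772) (flp_g L183754) L189022
theorem L189032 : sm gi N17341 = N16877 := ded_38_2 (flp_e L184963) (flp_i L183756) L189022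
theorem L189034 : sm gd N17341 = N16846 := ded_30_1 (flp_e L184666) (flp_d L179324) (flp_e L178310) L183746 L189022
theorem L189036 : sm gb N16744 = N17342 := rfl
theorem L189038 : sm gd N17342 = N16750 := ded_18_2 (flp_b L183806) (flp_d L183770) L189036
theorem L189040 : sm gf N17342 = N16746 := ded_20_2 (flp_b L183782) (flp_f L183764) L189036
theorem L189042 : sm gg N17342 = N17115 := ded_21_2 L186901 (flp_g L183766) L189036
theorem L189044 : sm gi N17342 = N17098 := ded_23_2 (flp_b L186779) (flp_i L183768) L189036
theorem L189046 : sm ga N17342 = N17011 := ded_9_1 (flp_b L186079) L180759 L180867 (flp_a L183762) L189036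
theorem L189048 : sm gc N17342 = N17091 := ded_17_2 (flp_b L186732) (flp_c L181608) (flp_b L178322) L183760 L189036
theorem L189050 : sm ge N16744 = N17343 := rfl
theorem L189052 : sm ga N17343 = N17028 := ded_12_1 (flp_e L186213) (flp_a L183762) L189050
theorem L189054 : sm gc N17343 = N16745 := ded_25_1 (flp_e L183772) L183760 L189050
theorem L189056 : sm gg N17343 = N17180 := ded_36_2 (flp_e L187344) (flp_g L183766) L189050
theorem L189058 : sm gi N17343 = N17099 := ded_38_2 (flp_e L186785) (flp_i L183768) L189050
theorem L189060 : sm gf N16745 = N17344 := rfl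
theorem L189062 : sm ga N17344 = N17046 := ded_13_1 (flp_f L186323) (flp_a L183774) L189060
theorem L189064 : sm gb N17344 = N17093 := ded_20_1 (flp_f L186746) (flp_b L183776) L189060
theorem L189066 : sm gd N17344 = N17087 := ded_31_1 (flp_f L186705) (flp_d L183780) L189060
theorem L189068 : sm gi N17344 = N17100 := ded_41_2 (flp_f L186789) (flp_i L183778) L189060
theorem L189070 : sm ge N17344 = N16748 := ded_35_1 (flp_f L183796) (flp_e L178334) (flp_f L178324) L183772 L189060
theorem L189072 : sm ga N16746 = N17345 := rfl
theorem L189074 : sm gc N17345 = N17126 := ded_10_2 (flp_a L188928) L188930 L189072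
theorem L189076 : sm gd N17345 = N16751 := ded_11_2 L183824 (flp_d L183784) L189072
theorem L189078 : sm gf N17345 = N17011 := ded_13_2 (flp_a L189046) L189040 L189072
theorem L189080 : sm gg N17345 = N16787 := ded_14_2 (flp_a L184096) (flp_g L183786) L189072
theorem L189082 : sm gi N17345 = N17127 := ded_16_2 L188549 L188545 L189072
theorem L189084 : sm gb N17345 = N17009 := ded_9_2 L186069 (flp_b L182758) L182752 L183782 L189072
theorem L189086 : sm ge N16746 = N17346 := rfl
theorem L189088 : sm gb N17346 = N16747 := ded_19_1 (flp_e L183788) L183782 L189086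
theorem L189090 : sm gg N17346 = N16788 := ded_36_2 (flp_e L184102) (flp_g L183786) L189086
theorem L189092 : sm gd N17346 = N17028 := ded_30_1 (flp_e L186213) L180869 (flp_e L178374) (flp_d L183784) L189086
theorem L189094 : sm gf N16747 = N17347 := rfl
theorem L189096 : sm gc N17347 = N16748 := ded_26_1 (flp_f L183796) (flp_c L183790) L189094
theorem L189098 : sm gd N17347 = N17029 := ded_31_1 (flp_f L186221) (flp_d L183794) L189094
theorem L189100 : sm gg N16748 = N17348 := rfl
theorem L189102 : sm gd N17348 = N16749 := ded_32_1 (flp_g L183800) (flp_d L183798) L189100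
theorem L189104 : sm gf N17348 = N16790 := ded_39_1 (flp_g L184114) (flp_f L178600) (flp_g L178336) L183796 L189100
theorem L189106 : sm gd N16752 = N17349 := rfl
theorem L189108 : sm ga N17349 = N16762 := ded_11_1 (flp_d L183943) (flp_a L183840) L189106
theorem L189110 : sm gb N17349 = N16986 := ded_18_1 (flp_d L185881) (flp_b L183842) L189106
theorem L189112 : sm gf N17349 = N16754 := ded_31_2 (flp_d L183862) (flp_f L183845) L189106
theorem L189114 : sm gg N17349 = N16976 := ded_32_2 (flp_d L185804) (flp_g L183847) L189106
theorem L189116 : sm gh N17349 = N16755 := ded_33_2 (flp_d L183870) (flp_h L178415) (flp_d L178389) L183838 L189106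
theorem L189118 : sm gd N16753 = N17350 := rfl
theorem L189120 : sm ga N17350 = N16763 := ded_11_1 (flp_d L183951) (flp_a L183851) L189118
theorem L189122 : sm gb N17350 = N16930 := ded_18_1 (flp_d L185410) (flp_b L183853) L189118
theorem L189124 : sm gg N17350 = N17146 := ded_32_2 (flp_d L187144) (flp_g L183858) L189118
theorem L189126 : sm gi N17350 = N16754 := ded_34_2 (flp_d L183862) (flp_i L183860) L189118
theorem L189128 : sm gh N17350 = N16994 := ded_33_2 (flp_d L185931) (flp_h L180605) (flp_d L178402) L183849 L189118
theorem L189130 : sm gc N16754 = N17351 := rfl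
theorem L189132 : sm ga N17351 = N16764 := ded_10_1 (flp_c L183957) (flp_a L183864) L189130
theorem L189134 : sm gg N17351 = N17147 := ded_27_2 (flp_c L187152) (flp_g L183866) L189130
theorem L189136 : sm gh N17351 = N16756 := ded_28_2 (flp_c L183882) (flp_h L183868) L189130
theorem L189138 : sm gd N17351 = N17351 := ded_24_2 (flp_c L189130) (flp_d L183862) L178412 L183862 L189130
theorem L189139 : sm ge N16754 = N17352 := rfl
theorem L189141 : sm ga N17352 = N16765 := ded_12_1 (flp_e L183962) (flp_a L183864) L189139
theorem L189143 : sm gg N17352 = N17148 := ded_36_2 (flp_e L187159) (flp_g L183866) L189139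
theorem L189145 : sm gh N17352 = N16757 := ded_37_2 (flp_e L183892) (flp_h L183868) L189139
theorem L189147 : sm ge N16755 = N17353 := rfl
theorem L189149 : sm ga N17353 = N16768 := ded_12_1 (flp_e L183986) (flp_a L183872) L189147
theorem L189151 : sm gb N17353 = N16991 := ded_19_1 (flp_e L185913) (flp_b L183874) L189147
theorem L189153 : sm gg N17353 = N16981 := ded_36_2 (flp_e L185845) (flp_g L183878) L189147
theorem L189155 : sm gi N17353 = N17025 := ded_38_2 (flp_e L186197) (flp_i L183880) L189147
theorem L189157 : sm gd N17353 = N17010 := ded_30_1 (flp_e L186075) (flp_d L180751) (flp_e L178423) L183870 L189147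
theorem L189159 : sm ge N16756 = N17354 := rfl
theorem L189161 : sm ga N17354 = N16770 := ded_12_1 (flp_e L184000) (flp_a L183884) L189159
theorem L189163 : sm gc N17354 = N16757 := ded_25_1 (flp_e L183892) L183882 L189159
theorem L189165 : sm gg N17354 = N17153 := ded_36_2 (flp_e L187186) (flp_g L183886) L189159
theorem L189167 : sm gi N17354 = N17174 := ded_38_2 (flp_e L187318) (flp_i L183888) L189159
theorem L189169 : sm gf N16757 = N17355 := rfl
theorem L189171 : sm ga N17355 = N16771 := ded_13_1 (flp_f L184004) (flp_a L183894) L189169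
theorem L189173 : sm gd N17355 = N16758 := ded_31_1 (flp_f L183902) (flp_d L183900) L189169
theorem L189175 : sm gi N17355 = N17175 := ded_41_2 (flp_f L187324) (flp_i L183898) L189169
theorem L189177 : sm gg N16758 = N17356 := rfl
theorem L189179 : sm ga N17356 = N16772 := ded_14_1 (flp_g L184010) (flp_a L183904) L189177
theorem L189181 : sm ge N17356 = N17014 := ded_36_1 (flp_g L186099) (flp_e L183906) L189177
theorem L189183 : sm gd N16759 = N17357 := rfl
theorem L189185 : sm gb N17357 = N16773 := ded_18_1 (flp_d L184016) (flp_b L183910) L189183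
theorem L189187 : sm gf N17357 = N17350 := ded_31_2 (flp_d L189118) (flp_f L183915) L189183
theorem L189189 : sm gi N17357 = N17349 := ded_34_2 (flp_d L189106) (flp_i L183917) L189183
theorem L189191 : sm gh N17357 = N17015 := ded_33_2 (flp_d L186107) (flp_h L180779) (flp_d L178448) L183908 L189183
theorem L189193 : sm gd N16760 = N17358 := rfl
theorem L189195 : sm ga N17358 = N16976 := ded_11_1 (flp_d L185804) (flp_a L183921) L189193
theorem L189197 : sm gb N17358 = N16774 := ded_18_1 (flp_d L184020) (flp_b L183923) L189193
theorem L189199 : sm gf N17358 = N16970 := ded_31_2 (flp_d L185742) (flp_f L183926) L189193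
theorem L189201 : sm gg N17358 = N16762 := ded_32_2 (flp_d L183943) (flp_g L183928) L189193
theorem L189203 : sm gh N17358 = N16766 := ded_33_2 (flp_d L183968) (flp_h L178498) (flp_d L178461) L183919 L189193
theorem L189205 : sm gd N16761 = N17359 := rfl
theorem L189207 : sm ga N17359 = N17357 := ded_11_1 (flp_d L189183) (flp_a L183932) L189205
theorem L189209 : sm gb N17359 = N16775 := ded_18_1 (flp_d L184026) (flp_b L183934) L189205
theorem L189211 : sm gf N17359 = N16763 := ded_31_2 (flp_d L183951) (flp_f L183939) L189205
theorem L189213 : sm gi N17359 = N16762 := ded_34_2 (flp_d L183943) (flp_i L183941) L189205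
theorem L189215 : sm gc N16762 = N17360 := rfl
theorem L189217 : sm gf N17360 = N16764 := ded_26_2 (flp_c L183957) (flp_f L183947) L189215
theorem L189219 : sm gh N17360 = N16767 := ded_28_2 (flp_c L183980) (flp_h L183949) L189215
theorem L189221 : sm gd N17360 = N17360 := ded_24_2 (flp_c L189215) (flp_d L183943) L178482 L183943 L189215
theorem L189222 : sm ge N16762 = N17361 := rfl
theorem L189224 : sm gb N17361 = N16777 := ded_19_1 (flp_e L184040) (flp_b L183945) L189222
theorem L189226 : sm gh N17361 = N16768 := ded_37_2 (flp_e L183986) (flp_h L183949) L189222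
theorem L189228 : sm gc N16763 = N17362 := rfl
theorem L189230 : sm gi N17362 = N16764 := ded_29_2 (flp_c L183957) (flp_i L183955) L189228
theorem L189232 : sm gd N17362 = N17362 := ded_24_2 (flp_c L189228) (flp_d L183951) L178489 L183951 L189228
theorem L189233 : sm ge N16763 = N17363 := rfl
theorem L189235 : sm gb N17363 = N16779 := ded_19_1 (flp_e L184050) (flp_b L183953) L189233
theorem L189237 : sm gi N17363 = N16765 := ded_38_2 (flp_e L183962) (flp_i L183955) L189233
theorem L189239 : sm gb N16764 = N17364 := rfl
theorem L189241 : sm gd N17364 = N17364 := ded_18_2 (flp_b L189239) L183961 L189239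
theorem L189242 : sm gh N17364 = N16769 := ded_22_2 (flp_b L183992) (flp_h L183959) L189239
theorem L189244 : sm gc N17364 = N16780 := ded_17_2 (flp_b L184054) (flp_c L178566) (flp_b L178494) L183957 L189239
theorem L189246 : sm ge N16764 = N17365 := rfl
theorem L189248 : sm gc N17365 = N16765 := ded_25_1 (flp_e L183962) L183957 L189246
theorem L189250 : sm gh N17365 = N16770 := ded_37_2 (flp_e L184000) (flp_h L183959) L189246
theorem L189252 : sm gf N16765 = N17366 := rfl
theorem L189254 : sm gb N17366 = N16782 := ded_20_1 (flp_f L184066) (flp_b L183964) L189252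
theorem L189256 : sm gh N17366 = N16771 := ded_40_2 (flp_f L184004) (flp_h L183966) L189252
theorem L189258 : sm gc N16766 = N17367 := rfl
theorem L189260 : sm ga N17367 = N16980 := ded_10_1 (flp_c L185837) (flp_a L183970) L189258
theorem L189262 : sm gf N17367 = N16971 := ded_26_2 (flp_c L185750) (flp_f L183974) L189258
theorem L189264 : sm gg N17367 = N16767 := ded_27_2 (flp_c L183980) (flp_g L183976) L189258
theorem L189266 : sm gi N17367 = N17009 := ded_29_2 (flp_c L186067) (flp_i L183978) L189258
theorem L189268 : sm gb N17367 = N17127 := ded_17_1 L187001 (flp_b L183103) L183109 (flp_b L183972) L189258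
theorem L189270 : sm gd N17367 = N16806 := ded_24_2 (flp_c L184253) (flp_d L178909) (flp_c L178504) L183968 L189258
theorem L189272 : sm ge N16766 = N17368 := rfl
theorem L189274 : sm ga N17368 = N16981 := ded_12_1 (flp_e L185845) (flp_a L183970) L189272
theorem L189276 : sm gb N17368 = N16783 := ded_19_1 (flp_e L184070) (flp_b L183972) L189272
theorem L189278 : sm gg N17368 = N16768 := ded_36_2 (flp_e L183986) (flp_g L183976) L189272
theorem L189280 : sm gi N17368 = N17010 := ded_38_2 (flp_e L186075) (flp_i L183978) L189272
theorem L189282 : sm gd N17368 = N17025 := ded_30_1 (flp_e L186197) (flp_d L180849) (flp_e L178506) L183968 L189272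
theorem L189284 : sm ge N16767 = N17369 := rfl
theorem L189286 : sm gc N17369 = N16768 := ded_25_1 (flp_e L183986) L183980 L189284
theorem L189288 : sm gf N16768 = N17370 := rfl
theorem L189290 : sm gb N17370 = N16786 := ded_20_1 (flp_f L184090) (flp_b L183988) L189288
theorem L189292 : sm gd N17370 = N17027 := ded_31_1 (flp_f L186207) (flp_d L183990) L189288
theorem L189294 : sm ge N17370 = N16771 := ded_35_1 (flp_f L184004) (flp_e L178524) (flp_f L178518) L183986 L189288
theorem L189296 : sm ge N16769 = N17371 := rfl
theorem L189298 : sm gb N17371 = N16770 := ded_19_1 (flp_e L184000) L183992 L189296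
theorem L189300 : sm gc N17371 = N16788 := ded_25_1 (flp_e L184102) (flp_c L183998) L189296
theorem L189302 : sm gi N17371 = N16890 := ded_38_2 L185076 (flp_i L183996) L189296
theorem L189304 : sm gd N17371 = N16849 := ded_30_1 (flp_e L184698) L179356 (flp_e L178946) (flp_d L183994) L189296
theorem L189306 : sm gf N16770 = N17372 := rfl
theorem L189308 : sm gc N17372 = N16771 := ded_26_1 (flp_f L184004) (flp_c L184002) L189306
theorem L189310 : sm gg N16771 = N17373 := rfl
theorem L189312 : sm gb N17373 = N16790 := ded_21_1 (flp_g L184114) (flp_b L184006) L189310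
theorem L189314 : sm gd N17373 = N16772 := ded_32_1 (flp_g L184010) (flp_d L184008) L189310
theorem L189316 : sm ge N16773 = N17374 := rfl
theorem L189318 : sm gh N17374 = N17032 := ded_37_2 (flp_e L186245) (flp_h L184018) L189316
theorem L189320 : sm gd N17374 = N16777 := ded_30_1 (flp_e L184040) (flp_d L178556) (flp_e L178540) L184016 L189316
theorem L189322 : sm ge N16774 = N17375 := rfl
theorem L189324 : sm gg N17375 = N16777 := ded_36_2 (flp_e L184040) (flp_g L184022) L189322
theorem L189326 : sm gh N17375 = N16783 := ded_37_2 (flp_e L184070) (flp_h L184024) L189322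
theorem L189328 : sm gc N16775 = N17376 := rfl
theorem L189330 : sm gf N17376 = N16778 := ded_26_2 (flp_c L184044) (flp_f L184028) L189328
theorem L189332 : sm gi N17376 = N16776 := ded_29_2 (flp_c L184032) (flp_i L184030) L189328
theorem L189334 : sm gd N17376 = N16797 := ded_24_2 (flp_c L184177) (flp_d L178727) (flp_c L178550) L184026 L189328
theorem L189336 : sm ge N16775 = N17377 := rfl
theorem L189338 : sm gi N17377 = N16777 := ded_38_2 (flp_e L184040) (flp_i L184030) L189336
theorem L189340 : sm gb N16776 = N17378 := rfl
theorem L189342 : sm gd N17378 = N16798 := ded_18_2 (flp_b L184184) (flp_d L184038) L189340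
theorem L189344 : sm gf N17378 = N16780 := ded_20_2 (flp_b L184054) (flp_f L184034) L189340
theorem L189346 : sm gg N17378 = N17128 := ded_21_2 (flp_b L188285) L188291 L189340
theorem L189348 : sm gh N17378 = N16784 := ded_22_2 (flp_b L184076) (flp_h L184036) L189340
theorem L189350 : sm ga N17378 = N16911 := ded_9_1 L188623 L188615 (flp_b L187404) L187402 L189340
theorem L189352 : sm ge N16776 = N17379 := rfl
theorem L189354 : sm gc N17379 = N16777 := ded_25_1 (flp_e L184040) L184032 L189352
theorem L189356 : sm gh N17379 = N16785 := ded_37_2 (flp_e L184086) (flp_h L184036) L189352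
theorem L189358 : sm gf N16777 = N17380 := rfl
theorem L189360 : sm gh N17380 = N16786 := ded_40_2 (flp_f L184090) (flp_h L184042) L189358
theorem L189362 : sm ge N17380 = N16782 := ded_35_1 (flp_f L184066) (flp_e L178572) (flp_f L178558) L184040 L189358
theorem L189364 : sm gb N16778 = N17381 := rfl
theorem L189366 : sm gd N17381 = N16799 := ded_18_2 (flp_b L184195) (flp_d L184048) L189364
theorem L189368 : sm gi N17381 = N16780 := ded_23_2 (flp_b L184054) (flp_i L184046) L189364
theorem L189370 : sm ge N16778 = N17382 := rfl
theorem L189372 : sm gc N17382 = N16779 := ded_25_1 (flp_e L184050) L184044 L189370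
theorem L189374 : sm gi N17382 = N16781 := ded_38_2 (flp_e L184060) (flp_i L184046) L189370
theorem L189376 : sm gf N16779 = N17383 := rfl
theorem L189378 : sm gi N17383 = N16782 := ded_41_2 (flp_f L184066) (flp_i L184052) L189376
theorem L189380 : sm ga N16780 = N17384 := rfl
theorem L189382 : sm gd N17384 = N16801 := ded_11_2 (flp_a L184212) (flp_d L184056) L189380
theorem L189384 : sm gf N17384 = N16911 := ded_13_2 (flp_a L189350) L189344 L189380
theorem L189386 : sm gh N17384 = N16787 := ded_15_2 (flp_a L184096) (flp_h L184058) L189380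
theorem L189388 : sm ge N16780 = N17385 := rfl
theorem L189390 : sm gb N17385 = N16781 := ded_19_1 (flp_e L184060) L184054 L189388
theorem L189392 : sm gh N17385 = N16788 := ded_37_2 (flp_e L184102) (flp_h L184058) L189388
theorem L189394 : sm gd N16781 = N17386 := rfl
theorem L189396 : sm ge N17386 = N16803 := ded_30_2 (flp_d L184226) (flp_e L178763) (flp_d L178570) L184060 L189394
theorem L189398 : sm gh N17386 = N17171 := ded_33_2 (flp_d L187300) L182100 (flp_d L178598) (flp_h L184064) L189394
theorem L189400 : sm gf N16781 = N17387 := rfl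
theorem L189402 : sm gc N17387 = N16782 := ded_26_1 (flp_f L184066) (flp_c L184062) L189400
theorem L189404 : sm gh N17387 = N16789 := ded_40_2 (flp_f L184108) (flp_h L184064) L189400
theorem L189406 : sm gg N16782 = N17388 := rfl
theorem L189408 : sm gh N17388 = N16790 := ded_42_2 (flp_g L184114) (flp_h L184068) L189406
theorem L189410 : sm gf N16783 = N17389 := rfl
theorem L189412 : sm gd N17389 = N17043 := ded_31_1 (flp_f L186311) (flp_d L184074) L189410
theorem L189414 : sm ge N16784 = N17390 := rfl
theorem L189416 : sm ga N17390 = N16890 := ded_12_1 L185076 (flp_a L184084) L189414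
theorem L189418 : sm gb N17390 = N16785 := ded_19_1 (flp_e L184086) L184076 L189414
theorem L189420 : sm gg N17390 = N17101 := ded_36_2 L186797 (flp_g L184082) L189414
theorem L189422 : sm gd N17390 = N16878 := ded_30_1 (flp_e L184973) L179603 (flp_e L178612) (flp_d L184078) L189414
theorem L189424 : sm gf N16785 = N17391 := rfl
theorem L189426 : sm gc N17391 = N16786 := ded_26_1 (flp_f L184090) (flp_c L184088) L189424
theorem L189428 : sm ge N17391 = N16789 := ded_35_1 (flp_f L184108) (flp_e L178594) (flp_f L178582) L184086 L189424
theorem L189430 : sm gg N16786 = N17392 := rfl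
theorem L189432 : sm gd N17392 = N17045 := ded_32_1 (flp_g L186319) (flp_d L184092) L189430
theorem L189434 : sm ge N17392 = N16790 := ded_36_1 (flp_g L184114) (flp_e L184094) L189430
theorem L189436 : sm ge N16787 = N17393 := rfl
theorem L189438 : sm ga N17393 = N16788 := ded_12_1 (flp_e L184102) L184096 L189436
theorem L189440 : sm gd N17393 = N17180 := ded_30_1 (flp_e L187344) L182134 (flp_e L178628) (flp_d L184098) L189436
theorem L189442 : sm gf N16788 = N17394 := rfl
theorem L189444 : sm gb N17394 = N16789 := ded_20_1 (flp_f L184108) (flp_b L184104) L189442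
theorem L189446 : sm gd N17394 = N17181 := ded_31_1 (flp_f L187348) (flp_d L184106) L189442
theorem L189448 : sm gg N16789 = N17395 := rfl
theorem L189450 : sm gc N17395 = N16790 := ded_27_1 (flp_g L184114) (flp_c L184110) L189448
theorem L189452 : sm gd N17395 = N17182 := ded_32_1 (flp_g L187352) (flp_d L184112) L189448
theorem L189454 : sm gb N16791 = N17396 := rfl
theorem L189456 : sm gf N17396 = N16793 := ded_20_2 (flp_b L184137) (flp_f L184122) L189454
theorem L189458 : sm gg N17396 = N17122 := ded_21_2 L186956 (flp_g L184124) L189454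
theorem L189460 : sm gh N17396 = N16794 := ded_22_2 (flp_b L184144) (flp_h L184126) L189454
theorem L189462 : sm ga N17396 = N17058 := ded_9_1 (flp_b L186440) L181212 L181298 (flp_a L184120) L189454
theorem L189464 : sm gc N17396 = N17396 := ded_17_2 (flp_b L189454) (flp_c L184118) L178649 L184118 L189454
theorem L189465 : sm ge N16791 = N17397 := rfl
theorem L189467 : sm ga N17397 = N17061 := ded_12_1 (flp_e L186469) (flp_a L184120) L189465
theorem L189469 : sm gc N17397 = N16792 := ded_25_1 (flp_e L184128) L184118 L189465
theorem L189471 : sm gg N17397 = N17190 := ded_36_2 (flp_e L187442) (flp_g L184124) L189465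
theorem L189473 : sm gh N17397 = N16795 := ded_37_2 (flp_e L184156) (flp_h L184126) L189465
theorem L189475 : sm ga N16793 = N17398 := rfl
theorem L189477 : sm gc N17398 = N17398 := ded_10_2 (flp_a L189475) L184143 L189475
theorem L189478 : sm gf N17398 = N17058 := ded_13_2 (flp_a L189462) L189456 L189475
theorem L189480 : sm gg N17398 = N16801 := ded_14_2 (flp_a L184212) (flp_g L184139) L189475
theorem L189482 : sm gh N17398 = N16796 := ded_15_2 (flp_a L184165) (flp_h L184141) L189475
theorem L189484 : sm gb N17398 = N17056 := ded_9_2 L186423 L181278 L180020 L184137 L189475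
theorem L189486 : sm gb N16797 = N17399 := rfl
theorem L189488 : sm gf N17399 = N16799 := ded_20_2 (flp_b L184195) (flp_f L184179) L189486
theorem L189490 : sm gg N17399 = N17129 := ded_21_2 L187009 L186604 L189486
theorem L189492 : sm gh N17399 = N17399 := ded_22_2 (flp_b L189486) L184181 L189486
theorem L189493 : sm gi N17399 = N16798 := ded_23_2 (flp_b L184184) (flp_i L184182) L189486
theorem L189495 : sm gc N17399 = N17399 := ded_17_2 (flp_b L189486) (flp_c L184177) L178729 L184177 L189486
theorem L189496 : sm ga N16913 = N17399 := ded_16_3 L189493 (flp_a L184193) L185273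
theorem L189498 : sm ga N16799 = N17400 := rfl
theorem L189500 : sm gc N17400 = N17400 := ded_10_2 (flp_a L189498) L184200 L189498
theorem L189501 : sm gf N17400 = N16913 := ded_13_2 L189496 L189488 L189498
theorem L189503 : sm gh N17400 = N17400 := ded_15_2 (flp_a L189498) L184197 L189498
theorem L189504 : sm gi N17400 = N16801 := ded_16_2 (flp_a L184212) (flp_i L184198) L189498
theorem L189506 : sm ge N16799 = N17401 := rfl
theorem L189508 : sm gb N17401 = N16800 := ded_19_1 (flp_e L184201) L184195 L189506
theorem L189510 : sm gc N17401 = N17401 := ded_25_1 (flp_e L189506) L184200 L189506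
theorem L189511 : sm gg N17401 = N17085 := ded_36_2 (flp_e L187606) L187608 L189506
theorem L189513 : sm gh N17401 = N17401 := ded_37_2 (flp_e L189506) L184197 L189506
theorem L189514 : sm gi N17401 = N16802 := ded_38_2 (flp_e L184219) (flp_i L184198) L189506
theorem L189516 : sm gd N16800 = N17402 := rfl
theorem L189518 : sm ga N17402 = N16948 := ded_11_1 L185579 (flp_a L184203) L189516
theorem L189520 : sm gg N17402 = N17080 := ded_32_2 L186656 (flp_g L184207) L189516
theorem L189522 : sm gi N17402 = N16803 := ded_34_2 (flp_d L184226) (flp_i L184210) L189516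
theorem L189524 : sm gc N17402 = N16942 := ded_24_1 (flp_d L185511) L180224 (flp_d L178756) (flp_c L184205) L189516
theorem L189526 : sm ge N16801 = N17403 := rfl
theorem L189528 : sm ga N17403 = N16802 := ded_12_1 (flp_e L184219) L184212 L189526
theorem L189530 : sm gc N17403 = N17403 := ded_25_1 (flp_e L189526) L184214 L189526
theorem L189531 : sm gh N17403 = N16804 := ded_37_2 (flp_e L184230) (flp_h L184217) L189526
theorem L189533 : sm gd N16802 = N17404 := rfl
theorem L189535 : sm gb N17404 = N16803 := ded_18_1 (flp_d L184226) (flp_b L184221) L189533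
theorem L189537 : sm gh N17404 = N17191 := ded_33_2 (flp_d L187450) L182238 (flp_d L178795) (flp_h L184224) L189533
theorem L189539 : sm gd N16807 = N17405 := rfl
theorem L189541 : sm ga N17405 = N17091 := ded_11_1 L186734 (flp_a L184270) L189539
theorem L189543 : sm gb N17405 = N16876 := ded_18_1 L184961 (flp_b L184272) L189539
theorem L189545 : sm gf N17405 = N17126 := ded_31_2 (flp_d L186995) (flp_f L184281) L189539
theorem L189547 : sm gg N17405 = N17098 := ded_32_2 L186781 (flp_g L184276) L189539
theorem L189549 : sm gi N17405 = N17115 := ded_34_2 L186897 (flp_i L184279) L189539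
theorem L189551 : sm gc N17405 = N17011 := ded_24_1 L186081 L181113 (flp_d L178940) (flp_c L184274) L189539
theorem L189553 : sm gf N16809 = N17406 := rfl
theorem L189555 : sm ga N17406 = N16917 := ded_13_1 (flp_f L185309) (flp_a L184297) L189553
theorem L189557 : sm gc N17406 = N16837 := ded_26_1 (flp_f L184582) (flp_c L184299) L189553
theorem L189559 : sm gd N17406 = N17340 := ded_31_1 (flp_f L189018) (flp_d L184307) L189553
theorem L189561 : sm gh N17406 = N16810 := ded_40_2 (flp_f L184309) (flp_h L184303) L189553
theorem L189563 : sm gi N17406 = N17202 := ded_41_2 (flp_f L187569) (flp_i L184305) L189553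
theorem L189565 : sm ge N17406 = N17082 := ded_35_1 (flp_f L186666) (flp_e L181558) (flp_f L178997) L184295 L189553
theorem L189567 : sm gg N16810 = N17407 := rfl
theorem L189569 : sm ga N17407 = N16919 := ded_14_1 (flp_g L185327) (flp_a L184311) L189567
theorem L189571 : sm gc N17407 = N16858 := ded_27_1 (flp_g L184790) (flp_c L184313) L189567
theorem L189573 : sm gd N17407 = N16920 := ded_32_1 (flp_g L185335) (flp_d L184315) L189567
theorem L189575 : sm ge N17407 = N17094 := ded_36_1 (flp_g L186754) (flp_e L184319) L189567
theorem L189577 : sm gi N17407 = N16820 := ded_43_2 (flp_g L184419) (flp_i L184317) L189567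
theorem L189579 : sm gf N17407 = N16936 := ded_39_1 (flp_g L185462) (flp_f L180152) (flp_g L179013) L184309 L189567
theorem L189581 : sm ge N16811 = N17408 := rfl
theorem L189583 : sm ga N17408 = N17177 := ded_12_1 L187332 (flp_a L184323) L189581
theorem L189585 : sm gb N17408 = N16866 := ded_19_1 (flp_e L184858) (flp_b L184331) L189581
theorem L189587 : sm gc N17408 = N16812 := ded_25_1 (flp_e L184335) L184321 L189581
theorem L189589 : sm gg N17408 = N16816 := ded_36_2 (flp_e L184379) (flp_g L184325) L189581
theorem L189591 : sm gh N17408 = N17234 := ded_37_2 (flp_e L187941) (flp_h L184327) L189581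
theorem L189593 : sm gi N17408 = N16927 := ded_38_2 (flp_e L185392) (flp_i L184329) L189581
theorem L189595 : sm gd N17408 = N17113 := ded_30_1 (flp_e L186883) L181730 (flp_e L179107) (flp_d L184333) L189581
theorem L189597 : sm gf N16812 = N17409 := rfl
theorem L189599 : sm gb N17409 = N16813 := ded_20_1 (flp_f L184347) (flp_b L184337) L189597
theorem L189601 : sm gd N17409 = N16918 := ded_31_1 (flp_f L185319) (flp_d L184345) L189597
theorem L189603 : sm gh N17409 = N17235 := ded_40_2 (flp_f L187951) (flp_h L184341) L189597
theorem L189605 : sm gi N17409 = N16928 := ded_41_2 (flp_f L185396) (flp_i L184343) L189597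
theorem L189607 : sm gg N16813 = N17410 := rfl
theorem L189609 : sm ga N17410 = N16920 := ded_14_1 (flp_g L185335) (flp_a L184349) L189607
theorem L189611 : sm gc N17410 = N16873 := ded_27_1 (flp_g L184922) (flp_c L184351) L189607
theorem L189613 : sm gd N17410 = N16919 := ded_32_1 (flp_g L185327) (flp_d L184353) L189607
theorem L189615 : sm gh N17410 = N17238 := ded_42_2 (flp_g L187979) (flp_h L184355) L189607
theorem L189617 : sm gi N17410 = N16936 := ded_43_2 (flp_g L185462) (flp_i L184357) L189607
theorem L189619 : sm gf N17410 = N16820 := ded_39_1 (flp_g L184419) (flp_f L179093) (flp_g L179035) L184347 L189607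
theorem L189621 : sm ge N16814 = N17411 := rfl
theorem L189623 : sm ga N17411 = N16816 := ded_12_1 (flp_e L184379) (flp_a L184361) L189621
theorem L189625 : sm gc N17411 = N16815 := ded_25_1 (flp_e L184371) L184359 L189621
theorem L189627 : sm gg N17411 = N17177 := ded_36_2 L187332 (flp_g L184365) L189621
theorem L189629 : sm gh N17411 = N17241 := ded_37_2 (flp_e L188017) (flp_h L184367) L189621
theorem L189631 : sm gd N17411 = N17174 := ded_30_1 (flp_e L187318) L182112 (flp_e L179121) (flp_d L184369) L189621
theorem L189633 : sm gf N16815 = N17412 := rfl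
theorem L189635 : sm ga N17412 = N16817 := ded_13_1 (flp_f L184387) (flp_a L184373) L189633
theorem L189637 : sm gb N17412 = N16862 := ded_20_1 (flp_f L184816) (flp_b L184375) L189633
theorem L189639 : sm gh N17412 = N17242 := ded_40_2 (flp_f L188027) (flp_h L184377) L189633
theorem L189641 : sm ge N17412 = N16867 := ded_35_1 (flp_f L184866) (flp_e L179501) (flp_f L179049) L184371 L189633
theorem L189643 : sm gf N16816 = N17413 := rfl
theorem L189645 : sm gb N17413 = N16891 := ded_20_1 (flp_f L185078) (flp_b L184381) L189643
theorem L189647 : sm gc N17413 = N16817 := ded_26_1 (flp_f L184387) (flp_c L184383) L189643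
theorem L189649 : sm gh N17413 = N17248 := ded_40_2 (flp_f L188095) (flp_h L184385) L189643
theorem L189651 : sm ge N17413 = N17102 := ded_35_1 (flp_f L186799) (flp_e L181662) (flp_f L179055) L184379 L189643
theorem L189653 : sm gg N16817 = N17414 := rfl
theorem L189655 : sm gb N17414 = N16820 := ded_21_1 (flp_g L184419) (flp_b L184389) L189653
theorem L189657 : sm ge N17414 = N17103 := ded_36_1 (flp_g L186805) (flp_e L184393) L189653
theorem L189659 : sm gh N17414 = N17249 := ded_42_2 (flp_g L188103) (flp_h L184391) L189653
theorem L189661 : sm gf N16818 = N17415 := rfl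
theorem L189663 : sm ga N17415 = N16934 := ded_13_1 (flp_f L185450) (flp_a L184397) L189661
theorem L189665 : sm gc N17415 = N16939 := ded_26_1 (flp_f L185484) (flp_c L184399) L189661
theorem L189667 : sm gd N17415 = N17257 := ded_31_1 (flp_f L188179) (flp_d L184407) L189661
theorem L189669 : sm gh N17415 = N16819 := ded_40_2 (flp_f L184409) (flp_h L184403) L189661
theorem L189671 : sm gi N17415 = N17270 := ded_41_2 (flp_f L188321) (flp_i L184405) L189661
theorem L189673 : sm gg N16819 = N17416 := rfl
theorem L189675 : sm ga N17416 = N16936 := ded_14_1 (flp_g L185462) (flp_a L184411) L189673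
theorem L189677 : sm gc N17416 = N16968 := ded_27_1 (flp_g L185721) (flp_c L184413) L189673
theorem L189679 : sm gd N17416 = N16820 := ded_32_1 (flp_g L184419) (flp_d L184415) L189673
theorem L189681 : sm gi N17416 = N16920 := ded_43_2 (flp_g L185335) (flp_i L184417) L189673
theorem L189683 : sm gf N17416 = N16919 := ded_39_1 (flp_g L185327) (flp_f L180036) (flp_g L179087) L184409 L189673
theorem L189685 : sm gi N16821 = N17417 := rfl
theorem L189687 : sm ga N17417 = N17048 := ded_16_1 L186336 (flp_a L184431) L189685
theorem L189689 : sm gb N17417 = N16913 := ded_23_1 (flp_i L185273) (flp_b L184433) L189685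
theorem L189691 : sm gc N17417 = N16907 := ded_29_1 L185213 (flp_c L184435) L189685
theorem L189693 : sm ge N17417 = N17074 := ded_38_1 L186607 (flp_e L184437) L189685
theorem L189695 : sm gg N17417 = N17119 := ded_43_1 L186928 (flp_g L184439) L189685
theorem L189697 : sm gh N17417 = N17417 := ded_44_1 (flp_i L189685) (flp_h L184429) L179137 L184429 L189685
theorem L189698 : sm ge N16822 = N17418 := rfl
theorem L189700 : sm ga N17418 = N16914 := ded_12_1 (flp_e L185277) (flp_a L184443) L189698
theorem L189702 : sm gc N17418 = N16932 := ded_25_1 (flp_e L185434) (flp_c L184449) L189698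
theorem L189704 : sm gh N17418 = N16841 := ded_37_2 (flp_e L184614) (flp_h L184451) L189698
theorem L189706 : sm gi N17418 = N17272 := ded_38_2 (flp_e L188343) (flp_i L184447) L189698
theorem L189708 : sm gc N16823 = N17419 := rfl
theorem L189710 : sm ga N17419 = N17076 := ded_10_1 (flp_c L186615) (flp_a L184455) L189708
theorem L189712 : sm gg N17419 = N16830 := ded_27_2 (flp_c L184527) (flp_g L184459) L189708
theorem L189714 : sm gh N17419 = N16842 := ded_28_2 (flp_c L184622) (flp_h L184461) L189708
theorem L189716 : sm gb N17419 = N16923 := ded_17_1 (flp_c L185367) L180076 (flp_c L179177) (flp_b L184457) L189708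
theorem L189718 : sm gd N17419 = N17419 := ded_24_2 (flp_c L189708) (flp_d L184453) L179158 L184453 L189708
theorem L189719 : sm ge N16823 = N17420 := rfl
theorem L189721 : sm ga N17420 = N17077 := ded_12_1 (flp_e L186622) (flp_a L184455) L189719
theorem L189723 : sm gb N17420 = N16825 := ded_19_1 (flp_e L184473) (flp_b L184457) L189719
theorem L189725 : sm gg N17420 = N16831 := ded_36_2 (flp_e L184532) (flp_g L184459) L189719
theorem L189727 : sm gh N17420 = N16843 := ded_37_2 (flp_e L184634) (flp_h L184461) L189719
theorem L189729 : sm ge N16824 = N17421 := rfl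
theorem L189731 : sm ga N17421 = N16938 := ded_12_1 (flp_e L185476) (flp_a L184465) L189729
theorem L189733 : sm gc N17421 = N17386 := ded_25_1 L189396 (flp_c L184469) L189729
theorem L189735 : sm gg N17421 = N16836 := ded_36_2 (flp_e L184576) (flp_g L184467) L189729
theorem L189737 : sm gh N17421 = N17040 := ded_37_2 L186299 (flp_h L184471) L189729
theorem L189739 : sm gd N17421 = N16825 := ded_30_1 (flp_e L184473) (flp_d L179171) (flp_e L179167) L184463 L189729
theorem L189741 : sm gf N16825 = N17422 := rfl
theorem L189743 : sm ga N17422 = N16939 := ded_13_1 (flp_f L185484) (flp_a L184475) L189741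
theorem L189745 : sm gc N17422 = N16934 := ded_26_1 (flp_f L185450) (flp_c L184477) L189741
theorem L189747 : sm gh N17422 = N16844 := ded_40_2 (flp_f L184646) (flp_h L184481) L189741
theorem L189749 : sm gd N16826 = N17423 := rfl
theorem L189751 : sm ga N17423 = N16829 := ded_11_1 (flp_d L184523) (flp_a L184485) L189749
theorem L189753 : sm gb N17423 = N16942 := ded_18_1 (flp_d L185511) (flp_b L184487) L189749
theorem L189755 : sm gf N17423 = N17131 := ded_31_2 (flp_d L187027) (flp_f L184492) L189749
theorem L189757 : sm gg N17423 = N17075 := ded_32_2 (flp_d L186609) (flp_g L184494) L189749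
theorem L189759 : sm gi N17423 = N17130 := ded_34_2 (flp_d L187015) (flp_i L184496) L189749
theorem L189761 : sm gc N16827 = N17424 := rfl
theorem L189763 : sm ga N17424 = N16830 := ded_10_1 (flp_c L184527) (flp_a L184500) L189761
theorem L189765 : sm gg N17424 = N17076 := ded_27_2 (flp_c L186615) (flp_g L184504) L189761
theorem L189767 : sm gh N17424 = N16845 := ded_28_2 (flp_c L184656) (flp_h L184508) L189761
theorem L189769 : sm gi N17424 = N17419 := ded_29_2 (flp_c L189708) (flp_i L184506) L189761
theorem L189771 : sm gd N17424 = N17424 := ded_24_2 (flp_c L189761) (flp_d L184498) L179200 L184498 L189761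
theorem L189772 : sm ge N16827 = N17425 := rfl
theorem L189774 : sm ga N17425 = N16831 := ded_12_1 (flp_e L184532) (flp_a L184500) L189772
theorem L189776 : sm gb N17425 = N16943 := ded_19_1 (flp_e L185519) (flp_b L184502) L189772
theorem L189778 : sm gg N17425 = N17077 := ded_36_2 (flp_e L186622) (flp_g L184504) L189772
theorem L189780 : sm gh N17425 = N16846 := ded_37_2 (flp_e L184666) (flp_h L184508) L189772
theorem L189782 : sm gi N17425 = N17420 := ded_38_2 (flp_e L189719) (flp_i L184506) L189772
theorem L189784 : sm gd N16828 = N17426 := rfl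
theorem L189786 : sm ga N17426 = N17131 := ded_11_1 (flp_d L187027) (flp_a L184512) L189784
theorem L189788 : sm gb N17426 = N16834 := ded_18_1 (flp_d L184562) (flp_b L184514) L189784
theorem L189790 : sm gf N17426 = N16829 := ded_31_2 (flp_d L184523) (flp_f L184519) L189784
theorem L189792 : sm gi N17426 = N17078 := ded_34_2 (flp_d L186630) (flp_i L184521) L189784
theorem L189794 : sm gc N16829 = N17427 := rfl
theorem L189796 : sm gd N17427 = N17427 := ded_24_2 (flp_c L189794) (flp_d L184523) L179220 L184523 L189794
theorem L189797 : sm ge N16829 = N17428 := rfl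
theorem L189799 : sm gb N17428 = N16836 := ded_19_1 (flp_e L184576) (flp_b L184525) L189797
theorem L189801 : sm gd N17428 = N16831 := ded_30_1 (flp_e L184532) (flp_d L179223) (flp_e L179221) L184523 L189797
theorem L189803 : sm ge N16830 = N17429 := rfl
theorem L189805 : sm gc N17429 = N16831 := ded_25_1 (flp_e L184532) L184527 L189803
theorem L189807 : sm gh N17429 = N16849 := ded_37_2 (flp_e L184698) (flp_h L184529) L189803
theorem L189809 : sm gf N16831 = N17430 := rfl
theorem L189811 : sm gb N17430 = N16837 := ded_20_1 (flp_f L184582) (flp_b L184534) L189809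
theorem L189813 : sm gh N17430 = N16850 := ded_40_2 (flp_f L184704) (flp_h L184536) L189809
theorem L189815 : sm gd N16832 = N17431 := rfl
theorem L189817 : sm ga N17431 = N16954 := ded_11_1 (flp_d L185637) (flp_a L184540) L189815
theorem L189819 : sm gb N17431 = N16957 := ded_18_1 (flp_d L185653) (flp_b L184542) L189815
theorem L189821 : sm gf N17431 = N17134 := ded_31_2 (flp_d L187044) (flp_f L184548) L189815
theorem L189823 : sm gg N17431 = N16947 := ded_32_2 (flp_d L185565) (flp_g L184550) L189815
theorem L189825 : sm gi N17431 = N16833 := ded_34_2 (flp_d L184554) (flp_i L184552) L189815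
theorem L189827 : sm gh N17431 = N17426 := ded_33_2 (flp_d L189784) (flp_h L184510) (flp_d L179237) L184538 L189815
theorem L189829 : sm ge N16833 = N17432 := rfl
theorem L189831 : sm ga N17432 = N16956 := ded_12_1 (flp_e L185647) (flp_a L184556) L189829
theorem L189833 : sm gg N17432 = N17040 := ded_36_2 L186299 (flp_g L184558) L189829
theorem L189835 : sm gh N17432 = N16836 := ded_37_2 (flp_e L184576) (flp_h L184560) L189829
theorem L189837 : sm gd N17432 = N16855 := ded_30_1 (flp_e L184762) (flp_d L179410) (flp_e L179251) L184554 L189829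
theorem L189839 : sm gc N16834 = N17433 := rfl
theorem L189841 : sm ga N17433 = N16958 := ded_10_1 (flp_c L185663) (flp_a L184564) L189839
theorem L189843 : sm gf N17433 = N16835 := ded_26_2 (flp_c L184568) (flp_f L184566) L189839
theorem L189845 : sm gd N17433 = N16838 := ded_24_2 (flp_c L184588) (flp_d L179273) (flp_c L179259) L184562 L189839
theorem L189847 : sm ge N16834 = N17434 := rfl
theorem L189849 : sm ga N17434 = N16959 := ded_12_1 (flp_e L185669) (flp_a L184564) L189847
theorem L189851 : sm gb N16835 = N17435 := rfl
theorem L189853 : sm gd N17435 = N16840 := ded_18_2 (flp_b L184605) (flp_d L184574) L189851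
theorem L189855 : sm gg N17435 = N17404 := ded_21_2 L189535 (flp_g L184572) L189851
theorem L189857 : sm ge N16835 = N17436 := rfl
theorem L189859 : sm ga N17436 = N16961 := ded_12_1 (flp_e L185675) (flp_a L184570) L189857
theorem L189861 : sm gc N17436 = N16836 := ded_25_1 (flp_e L184576) L184568 L189857
theorem L189863 : sm gg N17436 = N17386 := ded_36_2 L189396 (flp_g L184572) L189857
theorem L189865 : sm gd N17436 = N17339 := ded_30_1 (flp_e L189010) L183738 (flp_e L179286) (flp_d L184574) L189857
theorem L189867 : sm gf N16836 = N17437 := rfl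
theorem L189869 : sm ga N17437 = N16962 := ded_13_1 (flp_f L185679) (flp_a L184578) L189867
theorem L189871 : sm gd N17437 = N16837 := ded_31_1 (flp_f L184582) (flp_d L184580) L189867
theorem L189873 : sm gg N16837 = N17438 := rfl
theorem L189875 : sm ga N17438 = N16963 := ded_14_1 (flp_g L185683) (flp_a L184584) L189873
theorem L189877 : sm gh N17438 = N16858 := ded_42_2 (flp_g L184790) (flp_h L184586) L189873
theorem L189879 : sm gb N16838 = N17439 := rfl
theorem L189881 : sm gf N17439 = N16840 := ded_20_2 (flp_b L184605) (flp_f L184592) L189879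
theorem L189883 : sm gh N17439 = N17063 := ded_22_2 (flp_b L186491) (flp_h L184594) L189879
theorem L189885 : sm gc N17439 = N17439 := ded_17_2 (flp_b L189879) (flp_c L184588) L179277 L184588 L189879
theorem L189886 : sm ge N16838 = N17440 := rfl
theorem L189888 : sm ga N17440 = N16966 := ded_12_1 (flp_e L185705) (flp_a L184590) L189886
theorem L189890 : sm gc N17440 = N16839 := ded_25_1 (flp_e L184596) L184588 L189886
theorem L189892 : sm gh N17440 = N17064 := ded_37_2 (flp_e L186499) (flp_h L184594) L189886
theorem L189894 : sm gf N17440 = N17397 := ded_35_2 (flp_e L189465) L184122 (flp_e L179286) (flp_f L184592) L189886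
theorem L189896 : sm ga N16840 = N17441 := rfl
theorem L189898 : sm gc N17441 = N17441 := ded_10_2 (flp_a L189896) L184613 L189896
theorem L189899 : sm ge N17441 = N17398 := ded_12_2 (flp_a L189475) (flp_e L184607) L189896
theorem L189901 : sm gg N17441 = N17403 := ded_14_2 L189528 (flp_g L184609) L189896
theorem L189903 : sm gh N17441 = N17065 := ded_15_2 (flp_a L186508) (flp_h L184611) L189896
theorem L189905 : sm gb N17441 = N16967 := ded_9_2 (flp_a L185715) (flp_b L180407) (flp_a L179284) L184605 L189896
theorem L189907 : sm gf N16841 = N17442 := rfl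
theorem L189909 : sm ga N17442 = N16918 := ded_13_1 (flp_f L185319) (flp_a L184616) L189907
theorem L189911 : sm gc N17442 = N16935 := ded_26_1 (flp_f L185456) (flp_c L184618) L189907
theorem L189913 : sm gi N17442 = N16862 := ded_41_2 (flp_f L184816) (flp_i L184620) L189907
theorem L189915 : sm ge N17442 = N16844 := ded_35_1 (flp_f L184646) (flp_e L179312) (flp_f L179296) L184614 L189907
theorem L189917 : sm ge N16842 = N17443 := rfl
theorem L189919 : sm ga N17443 = N17086 := ded_12_1 (flp_e L186699) (flp_a L184624) L189917
theorem L189921 : sm gb N17443 = N16927 := ded_19_1 (flp_e L185392) (flp_b L184630) L189917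
theorem L189923 : sm gc N17443 = N16843 := ded_25_1 (flp_e L184634) L184622 L189917
theorem L189925 : sm gg N17443 = N16849 := ded_36_2 (flp_e L184698) (flp_g L184626) L189917
theorem L189927 : sm gi N17443 = N16866 := ded_38_2 (flp_e L184858) (flp_i L184628) L189917
theorem L189929 : sm gf N16843 = N17444 := rfl
theorem L189931 : sm ga N17444 = N17087 := ded_13_1 (flp_f L186705) (flp_a L184636) L189929
theorem L189933 : sm gb N17444 = N16844 := ded_20_1 (flp_f L184646) (flp_b L184638) L189929
theorem L189935 : sm gd N17444 = N17046 := ded_31_1 (flp_f L186323) (flp_d L184644) L189929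
theorem L189937 : sm gi N17444 = N16867 := ded_41_2 (flp_f L184866) (flp_i L184642) L189929
theorem L189939 : sm gg N16844 = N17445 := rfl
theorem L189941 : sm ga N17445 = N16968 := ded_14_1 (flp_g L185721) (flp_a L184648) L189939
theorem L189943 : sm gc N17445 = N16936 := ded_27_1 (flp_g L185462) (flp_c L184650) L189939
theorem L189945 : sm gd N17445 = N17047 := ded_32_1 (flp_g L186327) (flp_d L184652) L189939
theorem L189947 : sm gi N17445 = N16873 := ded_43_2 (flp_g L184922) (flp_i L184654) L189939
theorem L189949 : sm gf N17445 = N16858 := ded_39_1 (flp_g L184790) (flp_f L179442) (flp_g L179318) L184646 L189939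
theorem L189951 : sm ge N16845 = N17446 := rfl
theorem L189953 : sm ga N17446 = N16849 := ded_12_1 (flp_e L184698) (flp_a L184658) L189951
theorem L189955 : sm gc N17446 = N16846 := ded_25_1 (flp_e L184666) L184656 L189951
theorem L189957 : sm gg N17446 = N17086 := ded_36_2 (flp_e L186699) (flp_g L184660) L189951
theorem L189959 : sm gi N17446 = N16878 := ded_38_2 (flp_e L184973) (flp_i L184662) L189951
theorem L189961 : sm gf N16846 = N17447 := rfl
theorem L189963 : sm ga N17447 = N16850 := ded_13_1 (flp_f L184704) (flp_a L184668) L189961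
theorem L189965 : sm gb N17447 = N16973 := ded_20_1 (flp_f L185770) (flp_b L184670) L189961
theorem L189967 : sm gi N17447 = N16879 := ded_41_2 (flp_f L184983) (flp_i L184674) L189961
theorem L189969 : sm ge N16847 = N17448 := rfl
theorem L189971 : sm gb N17448 = N16855 := ded_19_1 (flp_e L184762) (flp_b L184678) L189969
theorem L189973 : sm gc N17448 = N17170 := ded_25_1 (flp_e L187294) (flp_c L184682) L189969
theorem L189975 : sm gg N17448 = N17039 := ded_36_2 (flp_e L186291) (flp_g L184680) L189969
theorem L189977 : sm gh N17448 = N16848 := ded_37_2 (flp_e L184686) (flp_h L184684) L189969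
theorem L189979 : sm gf N16848 = N17449 := rfl
theorem L189981 : sm gb N17449 = N16857 := ded_20_1 (flp_f L184780) (flp_b L184688) L189979
theorem L189983 : sm gc N17449 = N17181 := ded_26_1 (flp_f L187348) (flp_c L184690) L189979
theorem L189985 : sm gd N17449 = N16850 := ded_31_1 (flp_f L184704) (flp_d L184696) L189979
theorem L189987 : sm gi N17449 = N16889 := ded_41_2 (flp_f L185068) (flp_i L184694) L189979
theorem L189989 : sm gf N16849 = N17450 := rfl
theorem L189991 : sm gc N17450 = N16850 := ded_26_1 (flp_f L184704) (flp_c L184700) L189989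
theorem L189993 : sm gi N17450 = N16891 := ded_41_2 (flp_f L185078) (flp_i L184702) L189989
theorem L189995 : sm gg N16850 = N17451 := rfl
theorem L189997 : sm gb N17451 = N16858 := ded_21_1 (flp_g L184790) (flp_b L184706) L189995
theorem L189999 : sm gi N17451 = N16892 := ded_43_2 (flp_g L185082) (flp_i L184708) L189995
theorem L190001 : sm gd N16851 = N17452 := rfl
theorem L190003 : sm ga N17452 = N16985 := ded_11_1 (flp_d L185875) (flp_a L184712) L190001
theorem L190005 : sm gf N17452 = N17279 := ded_31_2 (flp_d L188410) (flp_f L184718) L190001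
theorem L190007 : sm gg N17452 = N17251 := ded_32_2 (flp_d L188123) (flp_g L184720) L190001
theorem L190009 : sm gi N17452 = N17250 := ded_34_2 (flp_d L188109) (flp_i L184722) L190001
theorem L190011 : sm gd N16852 = N17453 := rfl
theorem L190013 : sm ga N17453 = N16987 := ded_11_1 (flp_d L185889) (flp_a L184726) L190011
theorem L190015 : sm gb N17453 = N17452 := ded_18_1 (flp_d L190001) (flp_b L184728) L190011
theorem L190017 : sm gf N17453 = N16854 := ded_31_2 (flp_d L184750) (flp_f L184734) L190011
theorem L190019 : sm gg N17453 = N17157 := ded_32_2 L187218 (flp_g L184736) L190011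
theorem L190021 : sm gi N17453 = N16853 := ded_34_2 (flp_d L184740) (flp_i L184738) L190011
theorem L190023 : sm gc N17453 = N16996 := ded_24_1 (flp_d L185951) L180635 L181004 (flp_c L184730) L190011
theorem L190025 : sm gh N17453 = N16895 := ded_33_2 (flp_d L185100) (flp_h L179709) (flp_d L179384) L184724 L190011
theorem L190027 : sm ge N16853 = N17454 := rfl
theorem L190029 : sm ga N17454 = N16988 := ded_12_1 (flp_e L185899) (flp_a L184742) L190027
theorem L190031 : sm gc N17454 = N16997 := ded_25_1 (flp_e L185961) (flp_c L184746) L190027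
theorem L190033 : sm gh N17454 = N16856 := ded_37_2 (flp_e L184772) (flp_h L184748) L190027
theorem L190035 : sm ge N16854 = N17455 := rfl
theorem L190037 : sm ga N17455 = N16989 := ded_12_1 (flp_e L185903) (flp_a L184752) L190035
theorem L190039 : sm gc N17455 = N16998 := ded_25_1 (flp_e L185967) (flp_c L184758) L190035
theorem L190041 : sm gg N17455 = N17037 := ded_36_2 (flp_e L186281) (flp_g L184754) L190035
theorem L190043 : sm gh N17455 = N16899 := ded_37_2 (flp_e L185142) (flp_h L184760) L190035
theorem L190045 : sm gi N17455 = N16855 := ded_38_2 (flp_e L184762) (flp_i L184756) L190035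
theorem L190047 : sm gf N16855 = N17456 := rfl
theorem L190049 : sm ga N17456 = N16990 := ded_13_1 (flp_f L185909) (flp_a L184764) L190047
theorem L190051 : sm gc N17456 = N16999 := ded_26_1 (flp_f L185975) (flp_c L184766) L190047
theorem L190053 : sm gh N17456 = N16857 := ded_40_2 (flp_f L184780) (flp_h L184770) L190047
theorem L190055 : sm gf N16856 = N17457 := rfl
theorem L190057 : sm ga N17457 = N16992 := ded_13_1 (flp_f L185919) (flp_a L184774) L190055
theorem L190059 : sm gc N17457 = N17001 := ded_26_1 (flp_f L185987) (flp_c L184776) L190055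
theorem L190061 : sm gi N17457 = N16904 := ded_41_2 (flp_f L185182) (flp_i L184778) L190055
theorem L190063 : sm ge N17457 = N16857 := ded_35_1 (flp_f L184780) (flp_e L179430) (flp_f L179424) L184772 L190055
theorem L190065 : sm gg N16857 = N17458 := rfl
theorem L190067 : sm ga N17458 = N16993 := ded_14_1 (flp_g L185925) (flp_a L184782) L190065
theorem L190069 : sm gc N17458 = N17002 := ded_27_1 (flp_g L185993) (flp_c L184784) L190065
theorem L190071 : sm gd N17458 = N16858 := ded_32_1 (flp_g L184790) (flp_d L184786) L190065
theorem L190073 : sm gi N17458 = N16906 := ded_43_2 (flp_g L185200) (flp_i L184788) L190065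
theorem L190075 : sm gf N17458 = N17047 := ded_39_1 (flp_g L186327) (flp_f L180971) (flp_g L179436) L184780 L190065
theorem L190077 : sm gc N16859 = N17459 := rfl
theorem L190079 : sm ga N17459 = N16923 := ded_10_1 (flp_c L185367) (flp_a L184798) L190077
theorem L190081 : sm gh N17459 = N16860 := ded_28_2 (flp_c L184802) (flp_h L184800) L190077
theorem L190083 : sm gd N17459 = N17459 := ded_24_2 (flp_c L190077) (flp_d L184796) L179452 L184796 L190077
theorem L190084 : sm ge N16859 = N17460 := rfl
theorem L190086 : sm ga N17460 = N16924 := ded_12_1 (flp_e L185372) (flp_a L184798) L190084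
theorem L190088 : sm gh N17460 = N16861 := ded_37_2 (flp_e L184810) (flp_h L184800) L190084
theorem L190090 : sm gd N17460 = N17352 := ded_30_1 (flp_e L189139) (flp_d L183862) (flp_e L179453) L184796 L190084
theorem L190092 : sm ge N16860 = N17461 := rfl
theorem L190094 : sm ga N17461 = N16927 := ded_12_1 (flp_e L185392) (flp_a L184804) L190092
theorem L190096 : sm gc N17461 = N16861 := ded_25_1 (flp_e L184810) L184802 L190092
theorem L190098 : sm gi N17461 = N17177 := ded_38_2 L187332 (flp_i L184806) L190092
theorem L190100 : sm gd N17461 = N17153 := ded_30_1 (flp_e L187186) L182028 (flp_e L179469) (flp_d L184808) L190092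
theorem L190102 : sm gf N16861 = N17462 := rfl
theorem L190104 : sm ga N17462 = N16928 := ded_13_1 (flp_f L185396) (flp_a L184812) L190102
theorem L190106 : sm gd N17462 = N16862 := ded_31_1 (flp_f L184816) (flp_d L184814) L190102
theorem L190108 : sm gg N16862 = N17463 := rfl
theorem L190110 : sm ga N17463 = N16929 := ded_14_1 (flp_g L185402) (flp_a L184818) L190108
theorem L190112 : sm ge N17463 = N16873 := ded_36_1 (flp_g L184922) (flp_e L184822) L190108
theorem L190114 : sm gh N17463 = N17356 := ded_42_2 (flp_g L189177) (flp_h L184820) L190108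
theorem L190116 : sm gc N16863 = N17464 := rfl
theorem L190118 : sm ga N17464 = N17096 := ded_10_1 (flp_c L186766) (flp_a L184826) L190116
theorem L190120 : sm gg N17464 = N16884 := ded_27_2 (flp_c L185033) (flp_g L184830) L190116
theorem L190122 : sm gh N17464 = N16864 := ded_28_2 (flp_c L184834) (flp_h L184832) L190116
theorem L190124 : sm gb N17464 = N16978 := ded_17_1 (flp_c L185822) L180499 (flp_c L179533) (flp_b L184828) L190116
theorem L190126 : sm gd N17464 = N17464 := ded_24_2 (flp_c L190116) (flp_d L184824) L179480 L184824 L190116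
theorem L190127 : sm ge N16863 = N17465 := rfl
theorem L190129 : sm ga N17465 = N17097 := ded_12_1 (flp_e L186771) (flp_a L184826) L190127
theorem L190131 : sm gb N17465 = N16870 := ded_19_1 (flp_e L184894) (flp_b L184828) L190127
theorem L190133 : sm gg N17465 = N16885 := ded_36_2 (flp_e L185040) (flp_g L184830) L190127
theorem L190135 : sm gh N17465 = N16865 := ded_37_2 (flp_e L184846) (flp_h L184832) L190127
theorem L190137 : sm ge N16864 = N17466 := rfl
theorem L190139 : sm ga N17466 = N17099 := ded_12_1 (flp_e L186785) (flp_a L184836) L190137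
theorem L190141 : sm gb N17466 = N16982 := ded_19_1 (flp_e L185851) (flp_b L184842) L190137
theorem L190143 : sm gc N17466 = N16865 := ded_25_1 (flp_e L184846) L184834 L190137
theorem L190145 : sm gg N17466 = N16888 := ded_36_2 (flp_e L185060) (flp_g L184838) L190137
theorem L190147 : sm gi N17466 = N17028 := ded_38_2 (flp_e L186213) (flp_i L184840) L190137
theorem L190149 : sm gf N16865 = N17467 := rfl
theorem L190151 : sm ga N17467 = N17100 := ded_13_1 (flp_f L186789) (flp_a L184848) L190149
theorem L190153 : sm gb N17467 = N16872 := ded_20_1 (flp_f L184912) (flp_b L184850) L190149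
theorem L190155 : sm gd N17467 = N16867 := ded_31_1 (flp_f L184866) (flp_d L184856) L190149
theorem L190157 : sm gi N17467 = N17046 := ded_41_2 (flp_f L186323) (flp_i L184854) L190149
theorem L190159 : sm gd N16866 = N17468 := rfl
theorem L190161 : sm ga N17468 = N17101 := ded_11_1 (flp_d L186795) (flp_a L184860) L190159
theorem L190163 : sm gb N17468 = N17113 := ded_18_1 (flp_d L189595) L189585 L190159
theorem L190165 : sm gg N17468 = N16890 := ded_32_2 (flp_d L185074) (flp_g L184864) L190159
theorem L190167 : sm ge N17468 = N16910 := ded_30_2 (flp_d L185246) (flp_e L179939) (flp_d L179499) L184858 L190159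
theorem L190169 : sm gf N16866 = N17469 := rfl
theorem L190171 : sm ga N17469 = N17102 := ded_13_1 (flp_f L186799) (flp_a L184860) L190169
theorem L190173 : sm gc N17469 = N16867 := ded_26_1 (flp_f L184866) (flp_c L184862) L190169
theorem L190175 : sm gg N16867 = N17470 := rfl
theorem L190177 : sm ga N17470 = N17103 := ded_14_1 (flp_g L186805) (flp_a L184868) L190175
theorem L190179 : sm gb N17470 = N16873 := ded_21_1 (flp_g L184922) (flp_b L184870) L190175
theorem L190181 : sm gf N17470 = N16892 := ded_39_1 (flp_g L185082) (flp_f L179687) (flp_g L179507) L184866 L190175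
theorem L190183 : sm ge N16868 = N17471 := rfl
theorem L190185 : sm ga N17471 = N16997 := ded_12_1 (flp_e L185961) (flp_a L184874) L190183
theorem L190187 : sm gc N17471 = N16988 := ded_25_1 (flp_e L185899) (flp_c L184878) L190183
theorem L190189 : sm gh N17471 = N16871 := ded_37_2 (flp_e L184904) (flp_h L184880) L190183
theorem L190191 : sm ge N16869 = N17472 := rfl
theorem L190193 : sm ga N17472 = N16998 := ded_12_1 (flp_e L185967) (flp_a L184884) L190191
theorem L190195 : sm gc N17472 = N16989 := ded_25_1 (flp_e L185903) (flp_c L184890) L190191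
theorem L190197 : sm gg N17472 = N16899 := ded_36_2 (flp_e L185142) (flp_g L184886) L190191
theorem L190199 : sm gh N17472 = N17037 := ded_37_2 (flp_e L186281) (flp_h L184892) L190191
theorem L190201 : sm gi N17472 = N16870 := ded_38_2 (flp_e L184894) (flp_i L184888) L190191
theorem L190203 : sm gf N16870 = N17473 := rfl
theorem L190205 : sm ga N17473 = N16999 := ded_13_1 (flp_f L185975) (flp_a L184896) L190203
theorem L190207 : sm gc N17473 = N16990 := ded_26_1 (flp_f L185909) (flp_c L184898) L190203
theorem L190209 : sm gh N17473 = N16872 := ded_40_2 (flp_f L184912) (flp_h L184902) L190203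
theorem L190211 : sm gf N16871 = N17474 := rfl
theorem L190213 : sm ga N17474 = N17001 := ded_13_1 (flp_f L185987) (flp_a L184906) L190211
theorem L190215 : sm gc N17474 = N16992 := ded_26_1 (flp_f L185919) (flp_c L184908) L190211
theorem L190217 : sm gi N17474 = N17044 := ded_41_2 (flp_f L186313) (flp_i L184910) L190211
theorem L190219 : sm ge N17474 = N16872 := ded_35_1 (flp_f L184912) (flp_e L179547) (flp_f L179541) L184904 L190211
theorem L190221 : sm gg N16872 = N17475 := rfl
theorem L190223 : sm ga N17475 = N17002 := ded_14_1 (flp_g L185993) (flp_a L184914) L190221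
theorem L190225 : sm gc N17475 = N16993 := ded_27_1 (flp_g L185925) (flp_c L184916) L190221
theorem L190227 : sm gd N17475 = N16873 := ded_32_1 (flp_g L184922) (flp_d L184918) L190221
theorem L190229 : sm gi N17475 = N17047 := ded_43_2 (flp_g L186327) (flp_i L184920) L190221
theorem L190231 : sm gf N17475 = N16906 := ded_39_1 (flp_g L185200) (flp_f L179791) (flp_g L179553) L184912 L190221
theorem L190233 : sm gd N16874 = N17476 := rfl
theorem L190235 : sm ga N17476 = N16883 := ded_11_1 (flp_d L185027) (flp_a L184930) L190233
theorem L190237 : sm gb N17476 = N17006 := ded_18_1 (flp_d L186039) (flp_b L184932) L190233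
theorem L190239 : sm gf N17476 = N17305 := ded_31_2 (flp_d L188679) (flp_f L184937) L190233
theorem L190241 : sm gg N17476 = N17095 := ded_32_2 (flp_d L186760) (flp_g L184939) L190233
theorem L190243 : sm gi N17476 = N16875 := ded_34_2 (flp_d L184943) (flp_i L184941) L190233
theorem L190245 : sm gc N16875 = N17477 := rfl
theorem L190247 : sm ga N17477 = N16884 := ded_10_1 (flp_c L185033) (flp_a L184945) L190245
theorem L190249 : sm gg N17477 = N17096 := ded_27_2 (flp_c L186766) (flp_g L184949) L190245
theorem L190251 : sm gh N17477 = N16876 := ded_28_2 (flp_c L184953) (flp_h L184951) L190245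
theorem L190253 : sm gd N17477 = N17477 := ded_24_2 (flp_c L190245) (flp_d L184943) L179582 L184943 L190245
theorem L190254 : sm ge N16875 = N17478 := rfl
theorem L190256 : sm ga N17478 = N16885 := ded_12_1 (flp_e L185040) (flp_a L184945) L190254
theorem L190258 : sm gb N17478 = N17008 := ded_19_1 (flp_e L186057) (flp_b L184947) L190254
theorem L190260 : sm gg N17478 = N17097 := ded_36_2 (flp_e L186771) (flp_g L184949) L190254
theorem L190262 : sm gh N17478 = N16877 := ded_37_2 (flp_e L184963) (flp_h L184951) L190254
theorem L190264 : sm gd N17478 = N17465 := ded_30_1 (flp_e L190127) (flp_d L184824) (flp_e L179583) L184943 L190254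
theorem L190266 : sm ge N16876 = N17479 := rfl
theorem L190268 : sm ga N17479 = N16888 := ded_12_1 (flp_e L185060) (flp_a L184955) L190266
theorem L190270 : sm gc N17479 = N16877 := ded_25_1 (flp_e L184963) L184953 L190266
theorem L190272 : sm gg N17479 = N17099 := ded_36_2 (flp_e L186785) (flp_g L184957) L190266
theorem L190274 : sm gi N17479 = N17180 := ded_38_2 (flp_e L187344) (flp_i L184959) L190266
theorem L190276 : sm gf N16877 = N17480 := rfl
theorem L190278 : sm ga N17480 = N16889 := ded_13_1 (flp_f L185068) (flp_a L184965) L190276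
theorem L190280 : sm gb N17480 = N17013 := ded_20_1 (flp_f L186093) (flp_b L184967) L190276
theorem L190282 : sm gd N17480 = N16879 := ded_31_1 (flp_f L184983) (flp_d L184971) L190276
theorem L190284 : sm gf N16878 = N17481 := rfl
theorem L190286 : sm ga N17481 = N16891 := ded_13_1 (flp_f L185078) (flp_a L184975) L190284
theorem L190288 : sm gc N17481 = N16879 := ded_26_1 (flp_f L184983) (flp_c L184977) L190284
theorem L190290 : sm gh N17481 = N17469 := ded_40_2 (flp_f L190169) (flp_h L184981) L190284
theorem L190292 : sm gg N16879 = N17482 := rfl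
theorem L190294 : sm ga N17482 = N16892 := ded_14_1 (flp_g L185082) (flp_a L184985) L190292
theorem L190296 : sm gb N17482 = N17014 := ded_21_1 (flp_g L186099) (flp_b L184987) L190292
theorem L190298 : sm gh N17482 = N17470 := ded_42_2 (flp_g L190175) (flp_h L184989) L190292
theorem L190300 : sm gf N17482 = N17103 := ded_39_1 (flp_g L186805) (flp_f L181668) (flp_g L179611) L184983 L190292
theorem L190302 : sm gd N16880 = N17483 := rfl
theorem L190304 : sm ga N17483 = N17307 := ded_11_1 (flp_d L188697) (flp_a L184993) L190302
theorem L190306 : sm gb N17483 = N16893 := ded_18_1 (flp_d L185086) (flp_b L184995) L190302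
theorem L190308 : sm gf N17483 = N17220 := ded_31_2 (flp_d L187786) (flp_f L185000) L190302
theorem L190310 : sm gi N17483 = N17219 := ded_34_2 (flp_d L187774) (flp_i L185002) L190302
theorem L190312 : sm gh N17483 = N17251 := ded_33_2 (flp_d L188123) (flp_h L182896) (flp_d L179622) L184991 L190302
theorem L190314 : sm gd N16881 = N17484 := rfl
theorem L190316 : sm ga N17484 = N17305 := ded_11_1 (flp_d L188679) (flp_a L185006) L190314
theorem L190318 : sm gb N17484 = N16895 := ded_18_1 (flp_d L185100) (flp_b L185008) L190314
theorem L190320 : sm gf N17484 = N16883 := ded_31_2 (flp_d L185027) (flp_f L185013) L190314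
theorem L190322 : sm gg N17484 = N17483 := ded_32_2 (flp_d L190302) (flp_g L185015) L190314
theorem L190324 : sm gi N17484 = N16882 := ded_34_2 (flp_d L185019) (flp_i L185017) L190314
theorem L190326 : sm gh N17484 = N17452 := ded_33_2 (flp_d L190001) (flp_h L184710) (flp_d L179635) L185004 L190314
theorem L190328 : sm gc N16882 = N17485 := rfl
theorem L190330 : sm gf N17485 = N16884 := ded_26_2 (flp_c L185033) (flp_f L185023) L190328
theorem L190332 : sm gh N17485 = N16886 := ded_28_2 (flp_c L185046) (flp_h L185025) L190328
theorem L190334 : sm gb N17485 = N17147 := ded_17_1 (flp_c L187152) L185120 (flp_c L185110) (flp_b L185021) L190328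
theorem L190336 : sm gd N17485 = N17485 := ded_24_2 (flp_c L190328) (flp_d L185019) L179647 L185019 L190328
theorem L190337 : sm ge N16882 = N17486 := rfl
theorem L190339 : sm gb N17486 = N16897 := ded_19_1 (flp_e L185122) (flp_b L185021) L190337
theorem L190341 : sm gh N17486 = N16887 := ded_37_2 (flp_e L185056) (flp_h L185025) L190337
theorem L190343 : sm gc N16883 = N17487 := rfl
theorem L190345 : sm gh N17487 = N17166 := ded_28_2 (flp_c L188418) L188420 L190343
theorem L190347 : sm gi N17487 = N16884 := ded_29_2 (flp_c L185033) (flp_i L185031) L190343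
theorem L190349 : sm gb N17487 = N17149 := ded_17_1 (flp_c L187163) L185140 (flp_c L185128) (flp_b L185029) L190343
theorem L190351 : sm gd N17487 = N17487 := ded_24_2 (flp_c L190343) (flp_d L185027) L179654 L185027 L190343
theorem L190352 : sm ge N16883 = N17488 := rfl
theorem L190354 : sm gb N17488 = N16899 := ded_19_1 (flp_e L185142) (flp_b L185029) L190352
theorem L190356 : sm gi N17488 = N16885 := ded_38_2 (flp_e L185040) (flp_i L185031) L190352
theorem L190358 : sm ge N16884 = N17489 := rfl
theorem L190360 : sm gb N17489 = N17151 := ded_19_1 (flp_e L187176) (flp_b L185037) L190358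
theorem L190362 : sm gc N17489 = N16885 := ded_25_1 (flp_e L185040) L185033 L190358
theorem L190364 : sm gh N17489 = N16888 := ded_37_2 (flp_e L185060) (flp_h L185035) L190358
theorem L190366 : sm gf N16885 = N17490 := rfl
theorem L190368 : sm gb N17490 = N16901 := ded_20_1 (flp_f L185160) (flp_b L185042) L190366
theorem L190370 : sm gh N17490 = N16889 := ded_40_2 (flp_f L185068) (flp_h L185044) L190366
theorem L190372 : sm ge N16886 = N17491 := rfl
theorem L190374 : sm gb N17491 = N17153 := ded_19_1 (flp_e L187186) (flp_b L185052) L190372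
theorem L190376 : sm gc N17491 = N16887 := ded_25_1 (flp_e L185056) L185046 L190372
theorem L190378 : sm gi N17491 = N17176 := ded_38_2 (flp_e L187326) (flp_i L185050) L190372
theorem L190380 : sm gf N16887 = N17492 := rfl
theorem L190382 : sm gb N17492 = N16904 := ded_20_1 (flp_f L185182) (flp_b L185058) L190380
theorem L190384 : sm ge N17492 = N16889 := ded_35_1 (flp_f L185068) (flp_e L179677) (flp_f L179667) L185056 L190380
theorem L190386 : sm gf N16888 = N17493 := rfl
theorem L190388 : sm gb N17493 = N17155 := ded_20_1 (flp_f L187198) (flp_b L185062) L190386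
theorem L190390 : sm gc N17493 = N16889 := ded_26_1 (flp_f L185068) (flp_c L185064) L190386
theorem L190392 : sm gi N17493 = N17181 := ded_41_2 (flp_f L187348) (flp_i L185066) L190386
theorem L190394 : sm gg N16889 = N17494 := rfl
theorem L190396 : sm gb N17494 = N16906 := ded_21_1 (flp_g L185200) (flp_b L185070) L190394
theorem L190398 : sm gd N17494 = N16892 := ded_32_1 (flp_g L185082) (flp_d L185072) L190394
theorem L190400 : sm gf N16890 = N17495 := rfl
theorem L190402 : sm gd N17495 = N16891 := ded_31_1 (flp_f L185078) L185074 L190400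
theorem L190404 : sm gh N16890 = N17496 := rfl
theorem L190406 : sm ge N17496 = N16911 := ded_37_1 (flp_h L185256) (flp_e L185076) L190404
theorem L190408 : sm gg N16891 = N17497 := rfl
theorem L190410 : sm gc N17497 = N16892 := ded_27_1 (flp_g L185082) (flp_c L185080) L190408
theorem L190412 : sm ge N16893 = N17498 := rfl
theorem L190414 : sm ga N17498 = N17032 := ded_12_1 (flp_e L186245) (flp_a L185088) L190412
theorem L190416 : sm gd N17498 = N16897 := ded_30_1 (flp_e L185122) (flp_d L179723) (flp_e L179697) L185086 L190412
theorem L190418 : sm ge N16894 = N17499 := rfl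
theorem L190420 : sm ga N17499 = N17033 := ded_12_1 (flp_e L186249) (flp_a L185092) L190418
theorem L190422 : sm gg N17499 = N16897 := ded_36_2 (flp_e L185122) (flp_g L185094) L190418
theorem L190424 : sm gh N17499 = N16902 := ded_37_2 (flp_e L185166) (flp_h L185098) L190418
theorem L190426 : sm gi N17499 = N17498 := ded_38_2 (flp_e L190412) (flp_i L185096) L190418
theorem L190428 : sm ge N16895 = N17500 := rfl
theorem L190430 : sm ga N17500 = N17034 := ded_12_1 (flp_e L186257) (flp_a L185102) L190428
theorem L190432 : sm gg N17500 = N17498 := ded_36_2 (flp_e L190412) (flp_g L185106) L190428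
theorem L190434 : sm gi N17500 = N16897 := ded_38_2 (flp_e L185122) (flp_i L185108) L190428
theorem L190436 : sm gd N17500 = N17499 := ded_30_1 (flp_e L190418) (flp_d L185090) (flp_e L179715) L185100 L190428
theorem L190438 : sm ge N16896 = N17501 := rfl
theorem L190440 : sm ga N17501 = N17035 := ded_12_1 (flp_e L186265) (flp_a L185112) L190438
theorem L190442 : sm gb N17501 = N17148 := ded_19_1 (flp_e L187159) L185120 L190438
theorem L190444 : sm gc N17501 = N16897 := ded_25_1 (flp_e L185122) L185110 L190438
theorem L190446 : sm gh N17501 = N16903 := ded_37_2 (flp_e L185172) (flp_h L185116) L190438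
theorem L190448 : sm gd N17501 = N17418 := ded_30_1 (flp_e L189698) (flp_d L184441) (flp_e L179861) (flp_d L185118) L190438
theorem L190450 : sm gf N16897 = N17502 := rfl
theorem L190452 : sm ga N17502 = N17036 := ded_13_1 (flp_f L186275) (flp_a L185124) L190450
theorem L190454 : sm gh N17502 = N16904 := ded_40_2 (flp_f L185182) (flp_h L185126) L190450
theorem L190456 : sm ge N17502 = N16901 := ded_35_1 (flp_f L185160) (flp_e L179749) (flp_f L179727) L185122 L190450
theorem L190458 : sm ge N16898 = N17503 := rfl
theorem L190460 : sm ga N17503 = N17037 := ded_12_1 (flp_e L186281) (flp_a L185130) L190458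
theorem L190462 : sm gb N17503 = N17150 := ded_19_1 (flp_e L187170) L185140 L190458
theorem L190464 : sm gc N17503 = N16899 := ded_25_1 (flp_e L185142) L185128 L190458
theorem L190466 : sm gg N17503 = N16989 := ded_36_2 (flp_e L185903) (flp_g L185132) L190458
theorem L190468 : sm gh N17503 = N16998 := ded_37_2 (flp_e L185967) (flp_h L185134) L190458
theorem L190470 : sm gi N17503 = N16900 := ded_38_2 (flp_e L185148) (flp_i L185136) L190458
theorem L190472 : sm gf N16899 = N17504 := rfl
theorem L190474 : sm ga N17504 = N17038 := ded_13_1 (flp_f L186287) (flp_a L185144) L190472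
theorem L190476 : sm gi N17504 = N16901 := ded_41_2 (flp_f L185160) (flp_i L185146) L190472
theorem L190478 : sm gd N16900 = N17505 := rfl
theorem L190480 : sm ga N17505 = N17040 := ded_11_1 (flp_d L186297) (flp_a L185150) L190478
theorem L190482 : sm gb N17505 = N17133 := ded_18_1 L187042 (flp_b L185152) L190478
theorem L190484 : sm gg N17505 = N16956 := ded_32_2 L185651 (flp_g L185156) L190478
theorem L190486 : sm ge N17505 = N16909 := ded_30_2 (flp_d L185234) (flp_e L179894) (flp_d L179745) L185148 L190478
theorem L190488 : sm gh N17505 = N16938 := ded_33_2 L185482 L180195 (flp_d L179789) (flp_h L185158) L190478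
theorem L190490 : sm gf N16900 = N17506 := rfl
theorem L190492 : sm ga N17506 = N17041 := ded_13_1 (flp_f L186301) (flp_a L185150) L190490
theorem L190494 : sm gb N17506 = N17152 := ded_20_1 (flp_f L187182) (flp_b L185152) L190490
theorem L190496 : sm gc N17506 = N16901 := ded_26_1 (flp_f L185160) (flp_c L185154) L190490
theorem L190498 : sm gh N17506 = N16905 := ded_40_2 (flp_f L185188) (flp_h L185158) L190490
theorem L190500 : sm gg N16901 = N17507 := rfl
theorem L190502 : sm ga N17507 = N17042 := ded_14_1 (flp_g L186307) (flp_a L185162) L190500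
theorem L190504 : sm gh N17507 = N16906 := ded_42_2 (flp_g L185200) (flp_h L185164) L190500
theorem L190506 : sm gf N16902 = N17508 := rfl
theorem L190508 : sm ga N17508 = N17043 := ded_13_1 (flp_f L186311) (flp_a L185168) L190506
theorem L190510 : sm gf N16903 = N17509 := rfl
theorem L190512 : sm ga N17509 = N17044 := ded_13_1 (flp_f L186313) (flp_a L185174) L190510
theorem L190514 : sm gb N17509 = N17154 := ded_20_1 (flp_f L187192) (flp_b L185176) L190510
theorem L190516 : sm gc N17509 = N16904 := ded_26_1 (flp_f L185182) (flp_c L185178) L190510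
theorem L190518 : sm gi N17509 = N17001 := ded_41_2 (flp_f L185987) (flp_i L185180) L190510
theorem L190520 : sm ge N17509 = N16905 := ded_35_1 (flp_f L185188) (flp_e L179777) (flp_f L179765) L185172 L190510
theorem L190522 : sm gg N16904 = N17510 := rfl
theorem L190524 : sm ga N17510 = N17045 := ded_14_1 (flp_g L186319) (flp_a L185184) L190522
theorem L190526 : sm ge N17510 = N16906 := ded_36_1 (flp_g L185200) (flp_e L185186) L190522
theorem L190528 : sm gg N16905 = N17511 := rfl
theorem L190530 : sm ga N17511 = N17047 := ded_14_1 (flp_g L186327) (flp_a L185190) L190528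
theorem L190532 : sm gb N17511 = N17156 := ded_21_1 (flp_g L187204) (flp_b L185192) L190528
theorem L190534 : sm gc N17511 = N16906 := ded_27_1 (flp_g L185200) (flp_c L185194) L190528
theorem L190536 : sm gd N17511 = N16968 := ded_32_1 (flp_g L185721) (flp_d L185196) L190528
theorem L190538 : sm gi N17511 = N17002 := ded_43_2 (flp_g L185993) (flp_i L185198) L190528
theorem L190540 : sm gf N17511 = N16993 := ded_39_1 (flp_g L185925) (flp_f L180595) (flp_g L179785) L185188 L190528
theorem L190542 : sm gd N16908 = N17512 := rfl
theorem L190544 : sm ga N17512 = N16947 := ded_11_1 (flp_d L185565) (flp_a L185220) L190542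
theorem L190546 : sm gb N17512 = N17131 := ded_18_1 (flp_d L187027) (flp_b L185222) L190542
theorem L190548 : sm gf N17512 = N16942 := ded_31_2 (flp_d L185511) (flp_f L185232) L190542
theorem L190550 : sm gg N17512 = N16954 := ded_32_2 (flp_d L185637) (flp_g L185226) L190542
theorem L190552 : sm gi N17512 = N16909 := ded_34_2 (flp_d L185234) (flp_i L185230) L190542
theorem L190554 : sm gh N16910 = N17513 := rfl
theorem L190556 : sm ga N17513 = N17128 := ded_15_1 (flp_h L187003) (flp_a L185248) L190554
theorem L190558 : sm gb N17513 = N17106 := ded_22_1 L186835 (flp_b L185250) L190554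
theorem L190560 : sm gf N17513 = N17110 := ded_40_1 L186865 (flp_f L185252) L190554
theorem L190562 : sm gg N17513 = N16911 := ded_42_1 (flp_h L185256) (flp_g L185254) L190554
theorem L190564 : sm gd N17513 = N16912 := ded_33_1 (flp_h L185260) (flp_d L179973) (flp_h L179949) L185246 L190554
theorem L190566 : sm gi N16911 = N17514 := rfl
theorem L190568 : sm gd N17514 = N16913 := ded_34_1 (flp_i L185273) (flp_d L185258) L190566
theorem L190570 : sm gi N16912 = N17515 := rfl
theorem L190572 : sm ga N17515 = N17129 := ded_16_1 (flp_i L187007) (flp_a L185262) L190570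
theorem L190574 : sm gb N17515 = N17119 := ded_23_1 L186928 (flp_b L185264) L190570
theorem L190576 : sm gc N17515 = N17515 := ded_29_1 (flp_i L190570) L185266 L190570
theorem L190577 : sm ge N17515 = N17399 := ded_38_1 L189493 (flp_e L185267) L190570
theorem L190579 : sm gf N17515 = N17120 := ded_41_1 L186933 (flp_f L185269) L190570
theorem L190581 : sm gg N17515 = N16913 := ded_43_1 (flp_i L185273) (flp_g L185271) L190570
theorem L190583 : sm gh N17515 = N17515 := ded_44_1 (flp_i L190570) (flp_h L185260) L179983 L185260 L190570
theorem L190584 : sm gf N16914 = N17516 := rfl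
theorem L190586 : sm gb N17516 = N16917 := ded_20_1 (flp_f L185309) (flp_b L185279) L190584
theorem L190588 : sm gh N17516 = N16918 := ded_40_2 (flp_f L185319) (flp_h L185281) L190584
theorem L190590 : sm gi N17516 = N17275 := ded_41_2 (flp_f L188377) (flp_i L185283) L190584
theorem L190592 : sm ge N17516 = N16939 := ded_35_1 (flp_f L185484) (flp_e L180189) (flp_f L179994) L185277 L190584
theorem L190594 : sm ge N16915 = N17517 := rfl
theorem L190596 : sm ga N17517 = N17339 := ded_12_1 (flp_e L189010) (flp_a L185287) L190594
theorem L190598 : sm gc N17517 = N16916 := ded_25_1 (flp_e L185297) L185285 L190594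
theorem L190600 : sm gg N17517 = N17256 := ded_36_2 (flp_e L188171) (flp_g L185289) L190594
theorem L190602 : sm gh N17517 = N17236 := ded_37_2 (flp_e L187957) (flp_h L185291) L190594
theorem L190604 : sm gi N17517 = N17283 := ded_38_2 (flp_e L188452) (flp_i L185293) L190594
theorem L190606 : sm gd N17517 = N16961 := ded_30_1 (flp_e L185675) L180375 (flp_e L180022) (flp_d L185295) L190594
theorem L190608 : sm gf N16916 = N17518 := rfl
theorem L190610 : sm ga N17518 = N17340 := ded_13_1 (flp_f L189018) (flp_a L185299) L190608
theorem L190612 : sm gd N17518 = N16917 := ded_31_1 (flp_f L185309) (flp_d L185307) L190608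
theorem L190614 : sm gh N17518 = N17237 := ded_40_2 (flp_f L187969) (flp_h L185303) L190608
theorem L190616 : sm gi N17518 = N17284 := ded_41_2 (flp_f L188458) (flp_i L185305) L190608
theorem L190618 : sm gg N16917 = N17519 := rfl
theorem L190620 : sm gc N17519 = N16963 := ded_27_1 (flp_g L185683) (flp_c L185311) L190618
theorem L190622 : sm ge N17519 = N17140 := ded_36_1 (flp_g L187088) (flp_e L185317) L190618
theorem L190624 : sm gh N17519 = N16919 := ded_42_2 (flp_g L185327) (flp_h L185313) L190618
theorem L190626 : sm gi N17519 = N17285 := ded_43_2 (flp_g L188462) (flp_i L185315) L190618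
theorem L190628 : sm gg N16918 = N17520 := rfl
theorem L190630 : sm gb N17520 = N16919 := ded_21_1 (flp_g L185327) (flp_b L185321) L190628
theorem L190632 : sm ge N17520 = N16968 := ded_36_1 (flp_g L185721) (flp_e L185325) L190628
theorem L190634 : sm gi N17520 = N16929 := ded_43_2 (flp_g L185402) (flp_i L185323) L190628
theorem L190636 : sm gc N16921 = N17521 := rfl
theorem L190638 : sm gf N17521 = N16923 := ded_26_2 (flp_c L185367) (flp_f L185347) L190636
theorem L190640 : sm gh N17521 = N16925 := ded_28_2 (flp_c L185380) (flp_h L185351) L190636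
theorem L190642 : sm gi N17521 = N17459 := ded_29_2 (flp_c L190077) (flp_i L185349) L190636
theorem L190644 : sm gd N17521 = N17521 := ded_24_2 (flp_c L190636) (flp_d L185343) L180054 L185343 L190636
theorem L190645 : sm ge N16921 = N17522 := rfl
theorem L190647 : sm gb N17522 = N16932 := ded_19_1 (flp_e L185434) (flp_b L185345) L190645
theorem L190649 : sm gh N17522 = N16926 := ded_37_2 (flp_e L185386) (flp_h L185351) L190645
theorem L190651 : sm gi N17522 = N17460 := ded_38_2 (flp_e L190084) (flp_i L185349) L190645
theorem L190653 : sm gc N16922 = N17523 := rfl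
theorem L190655 : sm ga N17523 = N17521 := ded_10_1 (flp_c L190636) (flp_a L185355) L190653
theorem L190657 : sm gf N17523 = N17459 := ded_26_2 (flp_c L190077) (flp_f L185359) L190653
theorem L190659 : sm gg N17523 = N17196 := ded_27_2 (flp_c L187508) (flp_g L185361) L190653
theorem L190661 : sm gh N17523 = N17207 := ded_28_2 (flp_c L187628) (flp_h L185365) L190653
theorem L190663 : sm gi N17523 = N16923 := ded_29_2 (flp_c L185367) (flp_i L185363) L190653
theorem L190665 : sm gb N17523 = N17424 := ded_17_1 (flp_c L189761) L184502 L180240 (flp_b L185357) L190653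
theorem L190667 : sm gd N17523 = N17523 := ded_24_2 (flp_c L190653) (flp_d L185353) L180065 L185353 L190653
theorem L190668 : sm ge N16922 = N17524 := rfl
theorem L190670 : sm ga N17524 = N17522 := ded_12_1 (flp_e L190645) (flp_a L185355) L190668
theorem L190672 : sm gb N17524 = N16933 := ded_19_1 (flp_e L185438) (flp_b L185357) L190668
theorem L190674 : sm gg N17524 = N17197 := ded_36_2 (flp_e L187517) (flp_g L185361) L190668
theorem L190676 : sm gh N17524 = N17208 := ded_37_2 (flp_e L187642) (flp_h L185365) L190668
theorem L190678 : sm gi N17524 = N16924 := ded_38_2 (flp_e L185372) (flp_i L185363) L190668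
theorem L190680 : sm gd N17524 = N17363 := ded_30_1 (flp_e L189233) (flp_d L183951) (flp_e L180066) L185353 L190668
theorem L190682 : sm ge N16923 = N17525 := rfl
theorem L190684 : sm gc N17525 = N16924 := ded_25_1 (flp_e L185372) L185367 L190682
theorem L190686 : sm gh N17525 = N16927 := ded_37_2 (flp_e L185392) (flp_h L185369) L190682
theorem L190688 : sm gf N16924 = N17526 := rfl
theorem L190690 : sm gb N17526 = N16934 := ded_20_1 (flp_f L185450) (flp_b L185374) L190688
theorem L190692 : sm gd N17526 = N17366 := ded_31_1 (flp_f L189252) (flp_d L185378) L190688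
theorem L190694 : sm gh N17526 = N16928 := ded_40_2 (flp_f L185396) (flp_h L185376) L190688
theorem L190696 : sm ge N16925 = N17527 := rfl
theorem L190698 : sm gc N17527 = N16926 := ded_25_1 (flp_e L185386) L185380 L190696
theorem L190700 : sm gf N16926 = N17528 := rfl
theorem L190702 : sm gb N17528 = N16935 := ded_20_1 (flp_f L185456) (flp_b L185388) L190700
theorem L190704 : sm gd N17528 = N17001 := ded_31_1 (flp_f L185987) (flp_d L185390) L190700
theorem L190706 : sm ge N17528 = N16928 := ded_35_1 (flp_f L185396) (flp_e L180090) (flp_f L180084) L185386 L190700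
theorem L190708 : sm gf N16927 = N17529 := rfl
theorem L190710 : sm gc N17529 = N16928 := ded_26_1 (flp_f L185396) (flp_c L185394) L190708
theorem L190712 : sm gg N16928 = N17530 := rfl
theorem L190714 : sm gb N17530 = N16936 := ded_21_1 (flp_g L185462) (flp_b L185398) L190712
theorem L190716 : sm gd N17530 = N16929 := ded_32_1 (flp_g L185402) (flp_d L185400) L190712
theorem L190718 : sm ge N16930 = N17531 := rfl
theorem L190720 : sm gc N17531 = N17498 := ded_25_1 (flp_e L190412) (flp_c L185414) L190718
theorem L190722 : sm gh N17531 = N17158 := ded_37_2 (flp_e L187220) (flp_h L185416) L190718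
theorem L190724 : sm gd N17531 = N16932 := ded_30_1 (flp_e L185434) (flp_d L180126) (flp_e L180108) L185410 L190718
theorem L190726 : sm ge N16931 = N17532 := rfl
theorem L190728 : sm ga N17532 = N17268 := ded_12_1 (flp_e L188295) (flp_a L185420) L190726
theorem L190730 : sm gb N17532 = N17460 := ded_19_1 (flp_e L190084) (flp_b L185422) L190726
theorem L190732 : sm gc N17532 = N17272 := ded_25_1 (flp_e L188343) (flp_c L185430) L190726
theorem L190734 : sm gg N17532 = N17418 := ded_36_2 (flp_e L189698) (flp_g L185426) L190726
theorem L190736 : sm gh N17532 = N17206 := ded_37_2 (flp_e L187614) (flp_h L185432) L190726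
theorem L190738 : sm gi N17532 = N16932 := ded_38_2 (flp_e L185434) (flp_i L185428) L190726
theorem L190740 : sm gf N16932 = N17533 := rfl
theorem L190742 : sm gh N17533 = N16935 := ded_40_2 (flp_f L185456) (flp_h L185436) L190740
theorem L190744 : sm ge N17533 = N16934 := ded_35_1 (flp_f L185450) (flp_e L180142) (flp_f L180128) L185434 L190740
theorem L190746 : sm gf N16933 = N17534 := rfl
theorem L190748 : sm ga N17534 = N17270 := ded_13_1 (flp_f L188321) (flp_a L185440) L190746
theorem L190750 : sm gd N17534 = N17383 := ded_31_1 (flp_f L189376) (flp_d L185448) L190746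
theorem L190752 : sm gh N17534 = N17212 := ded_40_2 (flp_f L187694) (flp_h L185444) L190746
theorem L190754 : sm gi N17534 = N16934 := ded_41_2 (flp_f L185450) (flp_i L185446) L190746
theorem L190756 : sm gg N16934 = N17535 := rfl
theorem L190758 : sm gd N17535 = N17388 := ded_32_1 (flp_g L189406) (flp_d L185452) L190756
theorem L190760 : sm gh N17535 = N16936 := ded_42_2 (flp_g L185462) (flp_h L185454) L190756
theorem L190762 : sm gg N16935 = N17536 := rfl
theorem L190764 : sm gd N17536 = N17179 := ded_32_1 (flp_g L187340) (flp_d L185458) L190762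
theorem L190766 : sm ge N17536 = N16936 := ded_36_1 (flp_g L185462) (flp_e L185460) L190762
theorem L190768 : sm gb N16937 = N17537 := rfl
theorem L190770 : sm gd N17537 = N16940 := ded_18_2 (flp_b L185490) (flp_d L185474) L190768
theorem L190772 : sm gf N17537 = N17191 := ded_20_2 L187452 (flp_f L185470) L190768
theorem L190774 : sm gg N17537 = N16960 := ded_21_2 (flp_b L185671) (flp_g L185472) L190768
theorem L190776 : sm gc N17537 = N17137 := ded_17_2 (flp_b L187070) (flp_c L181929) (flp_b L180185) L185466 L190768
theorem L190778 : sm ge N16937 = N17538 := rfl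
theorem L190780 : sm ga N17538 = N17386 := ded_12_1 L189396 (flp_a L185468) L190778
theorem L190782 : sm gc N17538 = N16938 := ded_25_1 (flp_e L185476) L185466 L190778
theorem L190784 : sm gg N17538 = N16961 := ded_36_2 (flp_e L185675) (flp_g L185472) L190778
theorem L190786 : sm gd N17538 = N17256 := ded_30_1 (flp_e L188171) L182932 (flp_e L180201) (flp_d L185474) L190778
theorem L190788 : sm gf N16938 = N17539 := rfl
theorem L190790 : sm gb N17539 = N17139 := ded_20_1 (flp_f L187082) (flp_b L185478) L190788
theorem L190792 : sm gd N17539 = N16939 := ded_31_1 (flp_f L185484) (flp_d L185482) L190788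
theorem L190794 : sm gg N16939 = N17540 := rfl
theorem L190796 : sm gb N17540 = N17140 := ded_21_1 (flp_g L187088) (flp_b L185486) L190794
theorem L190798 : sm gh N17540 = N16968 := ded_42_2 (flp_g L185721) (flp_h L185488) L190794
theorem L190800 : sm gf N17540 = N16963 := ded_39_1 (flp_g L185683) (flp_f L180381) (flp_g L180193) L185484 L190794
theorem L190802 : sm ga N16940 = N17541 := rfl
theorem L190804 : sm gc N17541 = N17050 := ded_10_2 (flp_a L186353) (flp_c L185500) L190802
theorem L190806 : sm ge N17541 = N17265 := ded_12_2 (flp_a L188255) (flp_e L185492) L190802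
theorem L190808 : sm gf N17541 = N17190 := ded_13_2 L187444 (flp_f L185494) L190802
theorem L190810 : sm gg N17541 = N16967 := ded_14_2 (flp_a L185715) (flp_g L185496) L190802
theorem L190812 : sm gh N17541 = N17066 := ded_15_2 (flp_a L186520) (flp_h L185498) L190802
theorem L190814 : sm gb N17541 = N17403 := ded_9_2 L189528 L184221 (flp_a L180199) L185490 L190802
theorem L190816 : sm gd N16941 = N17542 := rfl
theorem L190818 : sm ga N17542 = N16946 := ded_11_1 (flp_d L185557) (flp_a L185504) L190816
theorem L190820 : sm gg N17542 = N17078 := ded_32_2 (flp_d L186630) (flp_g L185509) L190816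
theorem L190822 : sm gh N17542 = N16942 := ded_33_2 (flp_d L185511) (flp_h L180220) (flp_d L180214) L185502 L190816
theorem L190824 : sm ge N16942 = N17543 := rfl
theorem L190826 : sm ga N17543 = N16949 := ded_12_1 (flp_e L185581) (flp_a L185513) L190824
theorem L190828 : sm gg N17543 = N17081 := ded_36_2 (flp_e L186658) (flp_g L185515) L190824
theorem L190830 : sm gi N17543 = N17421 := ded_38_2 (flp_e L189729) (flp_i L185517) L190824
theorem L190832 : sm gd N17543 = N16943 := ded_30_1 (flp_e L185519) (flp_d L180232) (flp_e L180226) L185511 L190824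
theorem L190834 : sm gf N16943 = N17544 := rfl
theorem L190836 : sm ga N17544 = N16950 := ded_13_1 (flp_f L185591) (flp_a L185521) L190834
theorem L190838 : sm gc N17544 = N17534 := ded_26_1 (flp_f L190746) (flp_c L185523) L190834
theorem L190840 : sm gh N17544 = N16973 := ded_40_2 (flp_f L185770) (flp_h L185527) L190834
theorem L190842 : sm gi N17544 = N17422 := ded_41_2 (flp_f L189741) (flp_i L185529) L190834
theorem L190844 : sm gd N16944 = N17545 := rfl
theorem L190846 : sm gb N17545 = N16953 := ded_18_1 (flp_d L185629) (flp_b L185533) L190844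
theorem L190848 : sm gf N17545 = N16946 := ded_31_2 (flp_d L185557) (flp_f L185536) L190844
theorem L190850 : sm gg N17545 = N17426 := ded_32_2 (flp_d L189784) (flp_g L185538) L190844
theorem L190852 : sm gi N17545 = N17542 := ded_34_2 (flp_d L190816) (flp_i L185540) L190844
theorem L190854 : sm gh N17545 = N16947 := ded_33_2 (flp_d L185565) (flp_h L180279) (flp_d L180249) L185531 L190844
theorem L190856 : sm gd N16945 = N17546 := rfl
theorem L190858 : sm ga N17546 = N17545 := ded_11_1 (flp_d L190844) (flp_a L185544) L190856
theorem L190860 : sm gb N17546 = N16954 := ded_18_1 (flp_d L185637) (flp_b L185546) L190856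
theorem L190862 : sm gf N17546 = N17542 := ded_31_2 (flp_d L190816) (flp_f L185551) L190856
theorem L190864 : sm gg N17546 = N17131 := ded_32_2 (flp_d L187027) (flp_g L185553) L190856
theorem L190866 : sm gi N17546 = N16946 := ded_34_2 (flp_d L185557) (flp_i L185555) L190856
theorem L190868 : sm gh N17546 = N17512 := ded_33_2 (flp_d L190542) L185228 (flp_d L180262) L185542 L190856
theorem L190870 : sm gc N16946 = N17547 := rfl
theorem L190872 : sm gg N17547 = N17132 := ded_27_2 (flp_c L187033) (flp_g L185561) L190870
theorem L190874 : sm gh N17547 = N16948 := ded_28_2 (flp_c L185573) (flp_h L185563) L190870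
theorem L190876 : sm gd N17547 = N17547 := ded_24_2 (flp_c L190870) (flp_d L185557) L180274 L185557 L190870
theorem L190877 : sm ge N16946 = N17548 := rfl
theorem L190879 : sm gb N17548 = N16956 := ded_19_1 (flp_e L185647) (flp_b L185559) L190877
theorem L190881 : sm gg N17548 = N17133 := ded_36_2 (flp_e L187038) (flp_g L185561) L190877
theorem L190883 : sm gh N17548 = N16949 := ded_37_2 (flp_e L185581) (flp_h L185563) L190877
theorem L190885 : sm gd N17548 = N16979 := ded_30_1 (flp_e L185829) (flp_d L180497) (flp_e L180275) L185557 L190877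
theorem L190887 : sm ge N16947 = N17549 := rfl
theorem L190889 : sm gb N17549 = N16959 := ded_19_1 (flp_e L185669) (flp_b L185567) L190887
theorem L190891 : sm gi N17549 = N17040 := ded_38_2 L186299 (flp_i L185571) L190887
theorem L190893 : sm gd N17549 = N17037 := ded_30_1 (flp_e L186281) L180931 (flp_e L180285) L185565 L190887
theorem L190895 : sm gb N16948 = N17550 := rfl
theorem L190897 : sm gd N17550 = N17051 := ded_18_2 (flp_b L186364) (flp_d L185579) L190895
theorem L190899 : sm gg N17550 = N17137 := ded_21_2 (flp_b L187070) (flp_g L185575) L190895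
theorem L190901 : sm gi N17550 = N17537 := ded_23_2 (flp_b L190768) (flp_i L185577) L190895
theorem L190903 : sm gc N17550 = N16960 := ded_17_2 (flp_b L185671) (flp_c L180373) (flp_b L180293) L185573 L190895
theorem L190905 : sm ge N16948 = N17551 := rfl
theorem L190907 : sm gc N17551 = N16949 := ded_25_1 (flp_e L185581) L185573 L190905
theorem L190909 : sm gg N17551 = N17138 := ded_36_2 (flp_e L187076) (flp_g L185575) L190905
theorem L190911 : sm gi N17551 = N17538 := ded_38_2 (flp_e L190778) (flp_i L185577) L190905
theorem L190913 : sm gf N16949 = N17552 := rfl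
theorem L190915 : sm gb N17552 = N16962 := ded_20_1 (flp_f L185679) (flp_b L185583) L190913
theorem L190917 : sm gd N17552 = N16950 := ded_31_1 (flp_f L185591) (flp_d L185589) L190913
theorem L190919 : sm gi N17552 = N17539 := ded_41_2 (flp_f L190788) (flp_i L185587) L190913
theorem L190921 : sm gg N16950 = N17553 := rfl
theorem L190923 : sm gb N17553 = N16963 := ded_21_1 (flp_g L185683) (flp_b L185593) L190921
theorem L190925 : sm gh N17553 = N16984 := ded_42_2 (flp_g L185867) (flp_h L185595) L190921
theorem L190927 : sm gi N17553 = N17540 := ded_43_2 (flp_g L190794) (flp_i L185597) L190921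
theorem L190929 : sm gf N17553 = N17140 := ded_39_1 (flp_g L187088) (flp_f L181941) (flp_g L180303) L185591 L190921
theorem L190931 : sm gd N16951 = N17554 := rfl
theorem L190933 : sm ga N17554 = N17279 := ded_11_1 (flp_d L188410) (flp_a L185601) L190931
theorem L190935 : sm gf N17554 = N16985 := ded_31_2 (flp_d L185875) (flp_f L185607) L190931
theorem L190937 : sm gg N17554 = N17199 := ded_32_2 (flp_d L187537) (flp_g L185609) L190931
theorem L190939 : sm gi N17554 = N17335 := ded_34_2 (flp_d L188968) (flp_i L185611) L190931
theorem L190941 : sm gh N17554 = N17476 := ded_33_2 (flp_d L190233) (flp_h L184928) (flp_d L180315) L185599 L190931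
theorem L190943 : sm gd N16952 = N17555 := rfl
theorem L190945 : sm ga N17555 = N17134 := ded_11_1 (flp_d L187044) (flp_a L185615) L190943
theorem L190947 : sm gb N17555 = N17542 := ded_18_1 (flp_d L190816) (flp_b L185617) L190943
theorem L190949 : sm gf N17555 = N16954 := ded_31_2 (flp_d L185637) (flp_f L185623) L190943
theorem L190951 : sm gg N17555 = N17079 := ded_32_2 (flp_d L186638) (flp_g L185625) L190943
theorem L190953 : sm gi N17555 = N16953 := ded_34_2 (flp_d L185629) (flp_i L185627) L190943
theorem L190955 : sm gh N17555 = N17423 := ded_33_2 (flp_d L189749) (flp_h L184483) (flp_d L180331) L185613 L190943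
theorem L190957 : sm gc N16953 = N17556 := rfl
theorem L190959 : sm gf N17556 = N16955 := ded_26_2 (flp_c L185641) (flp_f L185631) L190957
theorem L190961 : sm gg N17556 = N17433 := ded_27_2 (flp_c L189839) (flp_g L185633) L190957
theorem L190963 : sm gh N17556 = N16958 := ded_28_2 (flp_c L185663) (flp_h L185635) L190957
theorem L190965 : sm gd N17556 = N17068 := ded_24_2 (flp_c L186545) (flp_d L181407) (flp_c L180341) L185629 L190957
theorem L190967 : sm ge N16953 = N17557 := rfl
theorem L190969 : sm gg N17557 = N17434 := ded_36_2 (flp_e L189847) (flp_g L185633) L190967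
theorem L190971 : sm gh N17557 = N16959 := ded_37_2 (flp_e L185669) (flp_h L185635) L190967
theorem L190973 : sm gc N16954 = N17558 := rfl
theorem L190975 : sm gi N17558 = N16955 := ded_29_2 (flp_c L185641) (flp_i L185639) L190973
theorem L190977 : sm gd N17558 = N17069 := ded_24_2 (flp_c L186555) (flp_d L181418) (flp_c L180349) L185637 L190973
theorem L190979 : sm ge N16954 = N17559 := rfl
theorem L190981 : sm gi N17559 = N16956 := ded_38_2 (flp_e L185647) (flp_i L185639) L190979
theorem L190983 : sm gd N17559 = N16989 := ded_30_1 (flp_e L185903) (flp_d L180575) (flp_e L180351) L185637 L190979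
theorem L190985 : sm gb N16955 = N17560 := rfl
theorem L190987 : sm gd N17560 = N17070 := ded_18_2 (flp_b L186564) (flp_d L185645) L190985
theorem L190989 : sm gh N17560 = N16960 := ded_22_2 (flp_b L185671) (flp_h L185643) L190985
theorem L190991 : sm ge N16955 = N17561 := rfl
theorem L190993 : sm gc N17561 = N16956 := ded_25_1 (flp_e L185647) L185641 L190991
theorem L190995 : sm gh N17561 = N16961 := ded_37_2 (flp_e L185675) (flp_h L185643) L190991
theorem L190997 : sm gf N16956 = N17562 := rfl
theorem L190999 : sm gd N17562 = N16990 := ded_31_1 (flp_f L185909) (flp_d L185651) L190997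
theorem L191001 : sm gh N17562 = N16962 := ded_40_2 (flp_f L185679) (flp_h L185649) L190997
theorem L191003 : sm gc N16957 = N17563 := rfl
theorem L191005 : sm ga N17563 = N17556 := ded_10_1 (flp_c L190957) (flp_a L185655) L191003
theorem L191007 : sm gf N17563 = N17062 := ded_26_2 L186487 (flp_f L185657) L191003
theorem L191009 : sm gg N17563 = N16958 := ded_27_2 (flp_c L185663) (flp_g L185659) L191003
theorem L191011 : sm gh N17563 = N17433 := ded_28_2 (flp_c L189839) (flp_h L185661) L191003
theorem L191013 : sm gd N17563 = N16964 := ded_24_2 (flp_c L185687) (flp_d L180385) (flp_c L180363) L185653 L191003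
theorem L191015 : sm ge N16957 = N17564 := rfl
theorem L191017 : sm ga N17564 = N17557 := ded_12_1 (flp_e L190967) (flp_a L185655) L191015
theorem L191019 : sm gg N17564 = N16959 := ded_36_2 (flp_e L185669) (flp_g L185659) L191015
theorem L191021 : sm gh N17564 = N17434 := ded_37_2 (flp_e L189847) (flp_h L185661) L191015
theorem L191023 : sm gb N16958 = N17565 := rfl
theorem L191025 : sm gd N17565 = N16965 := ded_18_2 (flp_b L185695) (flp_d L185667) L191023
theorem L191027 : sm gf N17565 = N16960 := ded_20_2 (flp_b L185671) (flp_f L185665) L191023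
theorem L191029 : sm ge N16958 = N17566 := rfl
theorem L191031 : sm gc N17566 = N16959 := ded_25_1 (flp_e L185669) L185663 L191029
theorem L191033 : sm gf N16959 = N17567 := rfl
theorem L191035 : sm ge N17567 = N16962 := ded_35_1 (flp_f L185679) (flp_e L180377) (flp_f L180371) L185669 L191033
theorem L191037 : sm ga N16960 = N17568 := rfl
theorem L191039 : sm gd N17568 = N16967 := ded_11_2 (flp_a L185715) (flp_d L185673) L191037
theorem L191041 : sm ge N16960 = N17569 := rfl
theorem L191043 : sm gb N17569 = N16961 := ded_19_1 (flp_e L185675) L185671 L191041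
theorem L191045 : sm gf N16961 = N17570 := rfl
theorem L191047 : sm gc N17570 = N16962 := ded_26_1 (flp_f L185679) (flp_c L185677) L191045
theorem L191049 : sm gg N16962 = N17571 := rfl
theorem L191051 : sm gd N17571 = N16963 := ded_32_1 (flp_g L185683) (flp_d L185681) L191049
theorem L191053 : sm ga N16965 = N17572 := rfl
theorem L191055 : sm gc N17572 = N17053 := ded_10_2 (flp_a L186383) (flp_c L185701) L191053
theorem L191057 : sm ge N17572 = N17068 := ded_12_2 L186547 L185703 L191053
theorem L191059 : sm gf N17572 = N16967 := ded_13_2 (flp_a L185715) (flp_f L185697) L191053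
theorem L191061 : sm gg N17572 = N17440 := ded_14_2 L189888 L185711 L191053
theorem L191063 : sm gh N17572 = N17072 := ded_15_2 L186583 (flp_h L185699) L191053
theorem L191065 : sm gd N16966 = N17573 := rfl
theorem L191067 : sm gb N17573 = N17563 := ded_18_1 L191013 (flp_b L185707) L191065
theorem L191069 : sm gg N17573 = N17565 := ded_32_2 L191025 (flp_g L185711) L191065
theorem L191071 : sm gd N16969 = N17574 := rfl
theorem L191073 : sm ga N17574 = N16977 := ded_11_1 (flp_d L185812) (flp_a L185731) L191071
theorem L191075 : sm gb N17574 = N17554 := ded_18_1 (flp_d L190931) (flp_b L185733) L191071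
theorem L191077 : sm gg N17574 = N17088 := ded_32_2 (flp_d L186711) (flp_g L185738) L191071
theorem L191079 : sm gi N17574 = N16970 := ded_34_2 (flp_d L185742) (flp_i L185740) L191071
theorem L191081 : sm gh N17574 = N17006 := ded_33_2 (flp_d L186039) (flp_h L180731) (flp_d L180426) L185729 L191071
theorem L191083 : sm gc N16970 = N17575 := rfl
theorem L191085 : sm ga N17575 = N16978 := ded_10_1 (flp_c L185822) (flp_a L185744) L191083
theorem L191087 : sm gg N17575 = N17089 := ded_27_2 (flp_c L186719) (flp_g L185746) L191083
theorem L191089 : sm gh N17575 = N16971 := ded_28_2 (flp_c L185750) (flp_h L185748) L191083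
theorem L191091 : sm gd N17575 = N17575 := ded_24_2 (flp_c L191083) (flp_d L185742) L180436 L185742 L191083
theorem L191092 : sm ge N16970 = N17576 := rfl
theorem L191094 : sm ga N17576 = N16979 := ded_12_1 (flp_e L185829) (flp_a L185744) L191092
theorem L191096 : sm gg N17576 = N17090 := ded_36_2 (flp_e L186726) (flp_g L185746) L191092
theorem L191098 : sm gh N17576 = N16972 := ded_37_2 (flp_e L185760) (flp_h L185748) L191092
theorem L191100 : sm gb N16971 = N17577 := rfl
theorem L191102 : sm gd N17577 = N17049 := ded_18_2 (flp_b L186338) (flp_d L185758) L191100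
theorem L191104 : sm gf N17577 = N17127 := ded_20_2 (flp_b L189268) L189262 L191100
theorem L191106 : sm gg N17577 = N17091 := ded_21_2 (flp_b L186732) (flp_g L185754) L191100
theorem L191108 : sm gi N17577 = N17011 := ded_23_2 (flp_b L186079) (flp_i L185756) L191100
theorem L191110 : sm ga N17577 = N17098 := ded_9_1 (flp_b L186779) (flp_a L184836) L184842 (flp_a L185752) L191100
theorem L191112 : sm gc N17577 = N17115 := ded_17_2 L186901 (flp_c L183758) L183750 L185750 L191100
theorem L191114 : sm ge N16971 = N17578 := rfl
theorem L191116 : sm ga N17578 = N16982 := ded_12_1 (flp_e L185851) (flp_a L185752) L191114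
theorem L191118 : sm gc N17578 = N16972 := ded_25_1 (flp_e L185760) L185750 L191114
theorem L191120 : sm gg N17578 = N17092 := ded_36_2 (flp_e L186738) (flp_g L185754) L191114
theorem L191122 : sm gi N17578 = N17012 := ded_38_2 (flp_e L186085) (flp_i L185756) L191114
theorem L191124 : sm gf N16972 = N17579 := rfl
theorem L191126 : sm ga N17579 = N16983 := ded_13_1 (flp_f L185859) (flp_a L185762) L191124
theorem L191128 : sm gd N17579 = N16973 := ded_31_1 (flp_f L185770) (flp_d L185768) L191124
theorem L191130 : sm gi N17579 = N17013 := ded_41_2 (flp_f L186093) (flp_i L185766) L191124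
theorem L191132 : sm gg N16973 = N17580 := rfl
theorem L191134 : sm ga N17580 = N16984 := ded_14_1 (flp_g L185867) (flp_a L185772) L191132
theorem L191136 : sm gi N17580 = N17014 := ded_43_2 (flp_g L186099) (flp_i L185774) L191132
theorem L191138 : sm gf N17580 = N17094 := ded_39_1 (flp_g L186754) (flp_f L181624) (flp_g L180451) L185770 L191132
theorem L191140 : sm gd N16974 = N17581 := rfl
theorem L191142 : sm gb N17581 = N16985 := ded_18_1 (flp_d L185875) (flp_b L185778) L191140
theorem L191144 : sm gf N17581 = N17574 := ded_31_2 (flp_d L191071) (flp_f L185783) L191140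
theorem L191146 : sm gg N17581 = N17359 := ded_32_2 (flp_d L189205) (flp_g L185785) L191140
theorem L191148 : sm gi N17581 = N17358 := ded_34_2 (flp_d L189193) (flp_i L185787) L191140
theorem L191150 : sm gd N16975 = N17582 := rfl
theorem L191152 : sm ga N17582 = N17581 := ded_11_1 (flp_d L191140) (flp_a L185791) L191150
theorem L191154 : sm gb N17582 = N16987 := ded_18_1 (flp_d L185889) (flp_b L185793) L191150
theorem L191156 : sm gf N17582 = N16977 := ded_31_2 (flp_d L185812) (flp_f L185798) L191150
theorem L191158 : sm gg N17582 = N17357 := ded_32_2 (flp_d L189183) (flp_g L185800) L191150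
theorem L191160 : sm gi N17582 = N16976 := ded_34_2 (flp_d L185804) (flp_i L185802) L191150
theorem L191162 : sm gh N17582 = N17017 := ded_33_2 (flp_d L186125) (flp_h L180801) (flp_d L180473) L185789 L191150
theorem L191164 : sm gc N16976 = N17583 := rfl
theorem L191166 : sm gf N17583 = N16978 := ded_26_2 (flp_c L185822) (flp_f L185808) L191164
theorem L191168 : sm gh N17583 = N16980 := ded_28_2 (flp_c L185837) (flp_h L185810) L191164
theorem L191170 : sm gd N17583 = N17583 := ded_24_2 (flp_c L191164) (flp_d L185804) L180485 L185804 L191164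
theorem L191171 : sm ge N16976 = N17584 := rfl
theorem L191173 : sm gb N17584 = N16988 := ded_19_1 (flp_e L185899) (flp_b L185806) L191171
theorem L191175 : sm gh N17584 = N16981 := ded_37_2 (flp_e L185845) (flp_h L185810) L191171
theorem L191177 : sm gc N16977 = N17585 := rfl
theorem L191179 : sm gg N17585 = N17149 := ded_27_2 (flp_c L187163) (flp_g L185816) L191177
theorem L191181 : sm gh N17585 = N17020 := ded_28_2 (flp_c L186151) (flp_h L185820) L191177
theorem L191183 : sm gi N17585 = N16978 := ded_29_2 (flp_c L185822) (flp_i L185818) L191177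
theorem L191185 : sm gd N17585 = N17585 := ded_24_2 (flp_c L191177) (flp_d L185812) L180492 L185812 L191177
theorem L191186 : sm ge N16977 = N17586 := rfl
theorem L191188 : sm gb N17586 = N16989 := ded_19_1 (flp_e L185903) (flp_b L185814) L191186
theorem L191190 : sm gg N17586 = N17150 := ded_36_2 (flp_e L187170) (flp_g L185816) L191186
theorem L191192 : sm gh N17586 = N17021 := ded_37_2 (flp_e L186159) (flp_h L185820) L191186
theorem L191194 : sm gi N17586 = N16979 := ded_38_2 (flp_e L185829) (flp_i L185818) L191186
theorem L191196 : sm ge N16978 = N17587 := rfl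
theorem L191198 : sm gc N17587 = N16979 := ded_25_1 (flp_e L185829) L185822 L191196
theorem L191200 : sm gg N17587 = N17151 := ded_36_2 (flp_e L187176) (flp_g L185824) L191196
theorem L191202 : sm gh N17587 = N16982 := ded_37_2 (flp_e L185851) (flp_h L185826) L191196
theorem L191204 : sm gf N16979 = N17588 := rfl
theorem L191206 : sm gb N17588 = N16990 := ded_20_1 (flp_f L185909) (flp_b L185831) L191204
theorem L191208 : sm gh N17588 = N16983 := ded_40_2 (flp_f L185859) (flp_h L185835) L191204
theorem L191210 : sm ge N16980 = N17589 := rfl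
theorem L191212 : sm gc N17589 = N16981 := ded_25_1 (flp_e L185845) L185837 L191210
theorem L191214 : sm gi N17589 = N17026 := ded_38_2 (flp_e L186203) (flp_i L185841) L191210
theorem L191216 : sm gf N16981 = N17590 := rfl
theorem L191218 : sm gb N17590 = N16992 := ded_20_1 (flp_f L185919) (flp_b L185847) L191216
theorem L191220 : sm gi N17590 = N17027 := ded_41_2 (flp_f L186207) (flp_i L185849) L191216
theorem L191222 : sm ge N17590 = N16983 := ded_35_1 (flp_f L185859) (flp_e L180521) (flp_f L180509) L185845 L191216
theorem L191224 : sm gf N16982 = N17591 := rfl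
theorem L191226 : sm gc N17591 = N16983 := ded_26_1 (flp_f L185859) (flp_c L185853) L191224
theorem L191228 : sm gi N17591 = N17029 := ded_41_2 (flp_f L186221) (flp_i L185857) L191224
theorem L191230 : sm gg N16983 = N17592 := rfl
theorem L191232 : sm gb N17592 = N16993 := ded_21_1 (flp_g L185925) (flp_b L185861) L191230
theorem L191234 : sm gd N17592 = N16984 := ded_32_1 (flp_g L185867) (flp_d L185863) L191230
theorem L191236 : sm gi N17592 = N17030 := ded_43_2 (flp_g L186225) (flp_i L185865) L191230
theorem L191238 : sm gf N17592 = N17156 := ded_39_1 (flp_g L187204) (flp_f L182040) (flp_g L180525) L185859 L191230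
theorem L191240 : sm gc N16985 = N17593 := rfl
theorem L191242 : sm gg N17593 = N17376 := ded_27_2 (flp_c L189328) (flp_g L185877) L191240
theorem L191244 : sm gi N17593 = N17267 := ded_29_2 L188287 (flp_i L185879) L191240
theorem L191246 : sm gd N17593 = N17074 := ded_24_2 (flp_c L186602) (flp_d L181493) (flp_c L180539) L185875 L191240
theorem L191248 : sm ge N16985 = N17594 := rfl
theorem L191250 : sm gg N17594 = N17377 := ded_36_2 (flp_e L189336) (flp_g L185877) L191248
theorem L191252 : sm gi N17594 = N17375 := ded_38_2 (flp_e L189322) (flp_i L185879) L191248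
theorem L191254 : sm gd N17594 = N16988 := ded_30_1 (flp_e L185899) (flp_d L180569) (flp_e L180541) L185875 L191248
theorem L191256 : sm ge N16986 = N17595 := rfl
theorem L191258 : sm gg N17595 = N16988 := ded_36_2 (flp_e L185899) (flp_g L185883) L191256
theorem L191260 : sm gh N17595 = N16991 := ded_37_2 (flp_e L185913) (flp_h L185887) L191256
theorem L191262 : sm gi N17595 = N17374 := ded_38_2 (flp_e L189316) (flp_i L185885) L191256
theorem L191264 : sm gd N17595 = N17377 := ded_30_1 (flp_e L189336) (flp_d L184026) (flp_e L180551) L185881 L191256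
theorem L191266 : sm ge N16987 = N17596 := rfl
theorem L191268 : sm gg N17596 = N17374 := ded_36_2 (flp_e L189316) (flp_g L185893) L191266
theorem L191270 : sm gh N17596 = N17034 := ded_37_2 (flp_e L186257) (flp_h L185897) L191266
theorem L191272 : sm gi N17596 = N16988 := ded_38_2 (flp_e L185899) (flp_i L185895) L191266
theorem L191274 : sm gd N17596 = N17375 := ded_30_1 (flp_e L189322) (flp_d L184020) (flp_e L180561) L185889 L191266
theorem L191276 : sm gf N16988 = N17597 := rfl
theorem L191278 : sm gh N17597 = N16992 := ded_40_2 (flp_f L185919) (flp_h L185901) L191276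
theorem L191280 : sm ge N17597 = N16990 := ded_35_1 (flp_f L185909) (flp_e L180581) (flp_f L180571) L185899 L191276
theorem L191282 : sm gf N16989 = N17598 := rfl
theorem L191284 : sm gh N17598 = N17038 := ded_40_2 (flp_f L186287) (flp_h L185905) L191282
theorem L191286 : sm gi N17598 = N16990 := ded_41_2 (flp_f L185909) (flp_i L185907) L191282
theorem L191288 : sm gg N16990 = N17599 := rfl
theorem L191290 : sm gh N17599 = N16993 := ded_42_2 (flp_g L185925) (flp_h L185911) L191288
theorem L191292 : sm gf N16991 = N17600 := rfl
theorem L191294 : sm gi N17600 = N17043 := ded_41_2 (flp_f L186311) (flp_i L185917) L191292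
theorem L191296 : sm gg N16992 = N17601 := rfl
theorem L191298 : sm ge N17601 = N16993 := ded_36_1 (flp_g L185925) (flp_e L185923) L191296
theorem L191300 : sm gi N17601 = N17045 := ded_43_2 (flp_g L186319) (flp_i L185921) L191296
theorem L191302 : sm gc N16994 = N17602 := rfl
theorem L191304 : sm gg N17602 = N17161 := ded_27_2 (flp_c L187238) (flp_g L185935) L191302
theorem L191306 : sm gi N17602 = N17159 := ded_29_2 (flp_c L187224) (flp_i L185937) L191302
theorem L191308 : sm gd N17602 = N17048 := ded_24_2 (flp_c L186331) (flp_d L180979) (flp_c L180609) L185931 L191302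
theorem L191310 : sm ge N16994 = N17603 := rfl
theorem L191312 : sm gb N17603 = N17158 := ded_19_1 (flp_e L187220) (flp_b L185933) L191310
theorem L191314 : sm gg N17603 = N17162 := ded_36_2 (flp_e L187246) (flp_g L185935) L191310
theorem L191316 : sm gi N17603 = N17160 := ded_38_2 (flp_e L187232) (flp_i L185937) L191310
theorem L191318 : sm gd N17603 = N16997 := ded_30_1 (flp_e L185961) (flp_d L180645) (flp_e L180611) L185931 L191310
theorem L191320 : sm ge N16995 = N17604 := rfl
theorem L191322 : sm gb N17604 = N17160 := ded_19_1 (flp_e L187232) (flp_b L185941) L191320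
theorem L191324 : sm gg N17604 = N16997 := ded_36_2 (flp_e L185961) (flp_g L185945) L191320
theorem L191326 : sm gh N17604 = N17000 := ded_37_2 (flp_e L185981) (flp_h L185949) L191320
theorem L191328 : sm gi N17604 = N17158 := ded_38_2 (flp_e L187220) (flp_i L185947) L191320
theorem L191330 : sm gd N17604 = N17162 := ded_30_1 (flp_e L187246) (flp_d L182060) (flp_e L180623) L185939 L191320
theorem L191332 : sm ge N16996 = N17605 := rfl
theorem L191334 : sm gb N17605 = N17162 := ded_19_1 (flp_e L187246) (flp_b L185953) L191332
theorem L191336 : sm gg N17605 = N17158 := ded_36_2 (flp_e L187220) (flp_g L185957) L191332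
theorem L191338 : sm gi N17605 = N16997 := ded_38_2 (flp_e L185961) (flp_i L185959) L191332
theorem L191340 : sm gd N17605 = N17160 := ded_30_1 (flp_e L187232) (flp_d L182054) (flp_e L180637) L185951 L191332
theorem L191342 : sm gf N16997 = N17606 := rfl
theorem L191344 : sm gb N17606 = N17165 := ded_20_1 (flp_f L187264) (flp_b L185963) L191342
theorem L191346 : sm gh N17606 = N17001 := ded_40_2 (flp_f L185987) (flp_h L185965) L191342
theorem L191348 : sm ge N17606 = N16999 := ded_35_1 (flp_f L185975) (flp_e L180661) (flp_f L180649) L185961 L191342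
theorem L191350 : sm gf N16998 = N17607 := rfl
theorem L191352 : sm gb N17607 = N17168 := ded_20_1 (flp_f L187282) (flp_b L185969) L191350
theorem L191354 : sm gi N17607 = N16999 := ded_41_2 (flp_f L185975) (flp_i L185973) L191350
theorem L191356 : sm gg N16999 = N17608 := rfl
theorem L191358 : sm gb N17608 = N17173 := ded_21_1 (flp_g L187312) (flp_b L185977) L191356
theorem L191360 : sm gh N17608 = N17002 := ded_42_2 (flp_g L185993) (flp_h L185979) L191356
theorem L191362 : sm gf N17608 = N17042 := ded_39_1 (flp_g L186307) (flp_f L180951) (flp_g L180665) L185975 L191356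
theorem L191364 : sm gf N17000 = N17609 := rfl
theorem L191366 : sm gb N17609 = N17175 := ded_20_1 (flp_f L187324) (flp_b L185983) L191364
theorem L191368 : sm ge N17609 = N17043 := ded_35_1 (flp_f L186311) (flp_e L180955) (flp_f L180673) L185981 L191364
theorem L191370 : sm gg N17001 = N17610 := rfl
theorem L191372 : sm gb N17610 = N17179 := ded_21_1 (flp_g L187340) (flp_b L185989) L191370
theorem L191374 : sm ge N17610 = N17002 := ded_36_1 (flp_g L185993) (flp_e L185991) L191370
theorem L191376 : sm gd N17003 = N17611 := rfl
theorem L191378 : sm ga N17611 = N17015 := ded_11_1 (flp_d L186107) (flp_a L186003) L191376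
theorem L191380 : sm gb N17611 = N17307 := ded_18_1 (flp_d L188697) (flp_b L186005) L191376
theorem L191382 : sm gf N17611 = N17298 := ded_31_2 (flp_d L188601) (flp_f L186011) L191376
theorem L191384 : sm gi N17611 = N17297 := ded_34_2 (flp_d L188589) (flp_i L186013) L191376
theorem L191386 : sm gh N17611 = N17359 := ded_33_2 (flp_d L189205) (flp_h L183930) (flp_d L180701) L186001 L191376
theorem L191388 : sm gd N17004 = N17612 := rfl
theorem L191390 : sm ga N17612 = N17017 := ded_11_1 (flp_d L186125) (flp_a L186017) L191388
theorem L191392 : sm gb N17612 = N17305 := ded_18_1 (flp_d L188679) (flp_b L186019) L191388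
theorem L191394 : sm gf N17612 = N17006 := ded_31_2 (flp_d L186039) (flp_f L186025) L191388
theorem L191396 : sm gg N17612 = N17611 := ded_32_2 (flp_d L191376) (flp_g L186027) L191388
theorem L191398 : sm gi N17612 = N17005 := ded_34_2 (flp_d L186031) (flp_i L186029) L191388
theorem L191400 : sm gh N17612 = N17581 := ded_33_2 (flp_d L191140) (flp_h L185776) (flp_d L180715) L186015 L191388
theorem L191402 : sm gc N17005 = N17613 := rfl
theorem L191404 : sm ga N17613 = N17018 := ded_10_1 (flp_c L186135) (flp_a L186033) L191402
theorem L191406 : sm gf N17613 = N17007 := ded_26_2 (flp_c L186047) (flp_f L186035) L191402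
theorem L191408 : sm gh N17613 = N17009 := ded_28_2 (flp_c L186067) (flp_h L186037) L191402
theorem L191410 : sm gd N17613 = N17056 := ded_24_2 (flp_c L186421) (flp_d L181189) (flp_c L180727) L186031 L191402
theorem L191412 : sm ge N17005 = N17614 := rfl
theorem L191414 : sm ga N17614 = N17019 := ded_12_1 (flp_e L186145) (flp_a L186033) L191412
theorem L191416 : sm gh N17614 = N17010 := ded_37_2 (flp_e L186075) (flp_h L186037) L191412
theorem L191418 : sm gc N17006 = N17615 := rfl
theorem L191420 : sm ga N17615 = N17020 := ded_10_1 (flp_c L186151) (flp_a L186041) L191418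
theorem L191422 : sm gg N17615 = N17108 := ded_27_2 (flp_c L186845) (flp_g L186043) L191418
theorem L191424 : sm gi N17615 = N17007 := ded_29_2 (flp_c L186047) (flp_i L186045) L191418
theorem L191426 : sm gd N17615 = N17057 := ded_24_2 (flp_c L186431) (flp_d L181200) (flp_c L180735) L186039 L191418
theorem L191428 : sm ge N17006 = N17616 := rfl
theorem L191430 : sm ga N17616 = N17021 := ded_12_1 (flp_e L186159) (flp_a L186041) L191428
theorem L191432 : sm gg N17616 = N17109 := ded_36_2 (flp_e L186853) (flp_g L186043) L191428
theorem L191434 : sm gi N17616 = N17008 := ded_38_2 (flp_e L186057) (flp_i L186045) L191428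
theorem L191436 : sm gd N17616 = N17472 := ded_30_1 (flp_e L190191) (flp_d L184882) (flp_e L180737) L186039 L191428
theorem L191438 : sm gb N17007 = N17617 := rfl
theorem L191440 : sm gd N17617 = N17058 := ded_18_2 (flp_b L186440) (flp_d L186055) L191438
theorem L191442 : sm gg N17617 = N17110 := ded_21_2 (flp_b L186861) (flp_g L186051) L191438
theorem L191444 : sm gh N17617 = N17011 := ded_22_2 (flp_b L186079) (flp_h L186053) L191438
theorem L191446 : sm ge N17007 = N17618 := rfl
theorem L191448 : sm ga N17618 = N17023 := ded_12_1 (flp_e L186181) (flp_a L186049) L191446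
theorem L191450 : sm gc N17618 = N17008 := ded_25_1 (flp_e L186057) L186047 L191446
theorem L191452 : sm gg N17618 = N17111 := ded_36_2 (flp_e L186867) (flp_g L186051) L191446
theorem L191454 : sm gh N17618 = N17012 := ded_37_2 (flp_e L186085) (flp_h L186053) L191446
theorem L191456 : sm gd N17618 = N17561 := ded_30_1 (flp_e L190991) L185645 L181432 (flp_d L186055) L191446
theorem L191458 : sm gf N17008 = N17619 := rfl
theorem L191460 : sm ga N17619 = N17024 := ded_13_1 (flp_f L186189) (flp_a L186059) L191458
theorem L191462 : sm gd N17619 = N17473 := ded_31_1 (flp_f L190203) (flp_d L186065) L191458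
theorem L191464 : sm gh N17619 = N17013 := ded_40_2 (flp_f L186093) (flp_h L186063) L191458
theorem L191466 : sm ge N17009 = N17620 := rfl
theorem L191468 : sm ga N17620 = N17026 := ded_12_1 (flp_e L186203) (flp_a L186069) L191466
theorem L191470 : sm gc N17620 = N17010 := ded_25_1 (flp_e L186075) L186067 L191466
theorem L191472 : sm gf N17010 = N17621 := rfl
theorem L191474 : sm ga N17621 = N17027 := ded_13_1 (flp_f L186207) (flp_a L186077) L191472
theorem L191476 : sm ge N17621 = N17013 := ded_35_1 (flp_f L186093) (flp_e L180765) (flp_f L180755) L186075 L191472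
theorem L191478 : sm ge N17011 = N17622 := rfl
theorem L191480 : sm gb N17622 = N17012 := ded_19_1 (flp_e L186085) L186079 L191478
theorem L191482 : sm gg N17622 = N17116 := ded_36_2 (flp_e L186903) (flp_g L186083) L191478
theorem L191484 : sm gd N17622 = N17026 := ded_30_1 (flp_e L186203) L180861 (flp_e L181107) (flp_d L186081) L191478
theorem L191486 : sm gf N17012 = N17623 := rfl
theorem L191488 : sm ga N17623 = N17029 := ded_13_1 (flp_f L186221) (flp_a L186087) L191486
theorem L191490 : sm gc N17623 = N17013 := ded_26_1 (flp_f L186093) (flp_c L186089) L191486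
theorem L191492 : sm gg N17013 = N17624 := rfl
theorem L191494 : sm ga N17624 = N17030 := ded_14_1 (flp_g L186225) (flp_a L186095) L191492
theorem L191496 : sm gd N17624 = N17014 := ded_32_1 (flp_g L186099) (flp_d L186097) L191492
theorem L191498 : sm gf N17624 = N17118 := ded_39_1 (flp_g L186913) (flp_f L181746) (flp_g L180769) L186093 L191492
theorem L191500 : sm gc N17015 = N17625 := rfl
theorem L191502 : sm gf N17625 = N17602 := ded_26_2 (flp_c L191302) (flp_f L186111) L191500
theorem L191504 : sm gg N17625 = N17282 := ded_27_2 L188450 L186131 L191500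
theorem L191506 : sm gi N17625 = N17255 := ded_29_2 L188169 L186121 L191500
theorem L191508 : sm gb N17625 = N17253 := ded_17_1 (flp_c L188139) L186243 (flp_c L186233) (flp_b L186109) L191500
theorem L191510 : sm gd N17625 = N17059 := ded_24_2 (flp_c L186447) (flp_d L181245) (flp_c L180783) L186107 L191500
theorem L191512 : sm ge N17015 = N17626 := rfl
theorem L191514 : sm gb N17626 = N17032 := ded_19_1 (flp_e L186245) (flp_b L186109) L191512
theorem L191516 : sm gd N17626 = N17019 := ded_30_1 (flp_e L186145) (flp_d L180815) (flp_e L180785) L186107 L191512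
theorem L191518 : sm ge N17016 = N17627 := rfl
theorem L191520 : sm gb N17627 = N17033 := ded_19_1 (flp_e L186249) (flp_b L186115) L191518
theorem L191522 : sm gg N17627 = N17019 := ded_36_2 (flp_e L186145) (flp_g L186119) L191518
theorem L191524 : sm gh N17627 = N17025 := ded_37_2 (flp_e L186197) (flp_h L186123) L191518
theorem L191526 : sm gi N17627 = N17626 := ded_38_2 (flp_e L191512) (flp_i L186121) L191518
theorem L191528 : sm ge N17017 = N17628 := rfl
theorem L191530 : sm gb N17628 = N17034 := ded_19_1 (flp_e L186257) (flp_b L186127) L191528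
theorem L191532 : sm gg N17628 = N17626 := ded_36_2 (flp_e L191512) (flp_g L186131) L191528
theorem L191534 : sm gi N17628 = N17019 := ded_38_2 (flp_e L186145) (flp_i L186133) L191528
theorem L191536 : sm gd N17628 = N17627 := ded_30_1 (flp_e L191518) (flp_d L186113) (flp_e L180807) L186125 L191528
theorem L191538 : sm ge N17018 = N17629 := rfl
theorem L191540 : sm gb N17629 = N17517 := ded_19_1 (flp_e L190594) (flp_b L186141) L191538
theorem L191542 : sm gc N17629 = N17019 := ded_25_1 (flp_e L186145) L186135 L191538
theorem L191544 : sm gh N17629 = N17026 := ded_37_2 (flp_e L186203) (flp_h L186139) L191538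
theorem L191546 : sm gd N17629 = N17569 := ded_30_1 (flp_e L191041) L185673 (flp_e L181272) (flp_d L186143) L191538
theorem L191548 : sm gf N17019 = N17630 := rfl
theorem L191550 : sm gb N17630 = N17036 := ded_20_1 (flp_f L186275) (flp_b L186147) L191548
theorem L191552 : sm gh N17630 = N17027 := ded_40_2 (flp_f L186207) (flp_h L186149) L191548
theorem L191554 : sm ge N17630 = N17024 := ded_35_1 (flp_f L186189) (flp_e L180839) (flp_f L180819) L186145 L191548
theorem L191556 : sm ge N17020 = N17631 := rfl
theorem L191558 : sm gc N17631 = N17021 := ded_25_1 (flp_e L186159) L186151 L191556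
theorem L191560 : sm gg N17631 = N17167 := ded_36_2 (flp_e L187276) (flp_g L186153) L191556
theorem L191562 : sm gi N17631 = N17023 := ded_38_2 (flp_e L186181) (flp_i L186155) L191556
theorem L191564 : sm gf N17021 = N17632 := rfl
theorem L191566 : sm gb N17632 = N17038 := ded_20_1 (flp_f L186287) (flp_b L186161) L191564
theorem L191568 : sm gd N17632 = N17607 := ded_31_1 (flp_f L191350) (flp_d L186167) L191564
theorem L191570 : sm gi N17632 = N17024 := ded_41_2 (flp_f L186189) (flp_i L186165) L191564
theorem L191572 : sm ge N17022 = N17633 := rfl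
theorem L191574 : sm gb N17633 = N17023 := ded_19_1 (flp_e L186181) L186169 L191572
theorem L191576 : sm gc N17633 = N17039 := ded_25_1 (flp_e L186291) (flp_c L186179) L191572
theorem L191578 : sm gg N17633 = N17170 := ded_36_2 (flp_e L187294) (flp_g L186175) L191572
theorem L191580 : sm gh N17633 = N17028 := ded_37_2 (flp_e L186213) (flp_h L186177) L191572
theorem L191582 : sm gd N17023 = N17634 := rfl
theorem L191584 : sm ga N17634 = N17561 := ded_11_1 (flp_d L191456) L191448 L191582
theorem L191586 : sm gg N17634 = N17171 := ded_32_2 (flp_d L187300) (flp_g L186185) L191582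
theorem L191588 : sm gc N17634 = N17432 := ded_24_1 L189837 L184766 (flp_d L180847) (flp_c L186183) L191582
theorem L191590 : sm ge N17634 = N17062 := ded_30_2 (flp_d L186481) (flp_e L181308) (flp_d L180837) L186181 L191582
theorem L191592 : sm gh N17634 = N17436 := ded_33_2 L189865 L189016 L183794 (flp_h L186187) L191582
theorem L191594 : sm gf N17023 = N17635 := rfl
theorem L191596 : sm gc N17635 = N17024 := ded_26_1 (flp_f L186189) (flp_c L186183) L191594
theorem L191598 : sm gh N17635 = N17029 := ded_40_2 (flp_f L186221) (flp_h L186187) L191594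
theorem L191600 : sm gg N17024 = N17636 := rfl
theorem L191602 : sm gb N17636 = N17042 := ded_21_1 (flp_g L186307) (flp_b L186191) L191600
theorem L191604 : sm gd N17636 = N17608 := ded_32_1 (flp_g L191356) (flp_d L186193) L191600
theorem L191606 : sm gh N17636 = N17030 := ded_42_2 (flp_g L186225) (flp_h L186195) L191600
theorem L191608 : sm gf N17636 = N17173 := ded_39_1 (flp_g L187312) (flp_f L182102) (flp_g L180843) L186189 L191600
theorem L191610 : sm gf N17025 = N17637 := rfl
theorem L191612 : sm gb N17637 = N17043 := ded_20_1 (flp_f L186311) (flp_b L186199) L191610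
theorem L191614 : sm ge N17637 = N17175 := ded_35_1 (flp_f L187324) (flp_e L182114) (flp_f L180853) L186197 L191610
theorem L191616 : sm gf N17026 = N17638 := rfl
theorem L191618 : sm gc N17638 = N17027 := ded_26_1 (flp_f L186207) (flp_c L186205) L191616
theorem L191620 : sm ge N17638 = N17029 := ded_35_1 (flp_f L186221) (flp_e L180875) (flp_f L180859) L186203 L191616
theorem L191622 : sm gg N17027 = N17639 := rfl
theorem L191624 : sm gb N17639 = N17045 := ded_21_1 (flp_g L186319) (flp_b L186209) L191622
theorem L191626 : sm ge N17639 = N17030 := ded_36_1 (flp_g L186225) (flp_e L186211) L191622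
theorem L191628 : sm gf N17028 = N17640 := rfl
theorem L191630 : sm gb N17640 = N17029 := ded_20_1 (flp_f L186221) (flp_b L186215) L191628
theorem L191632 : sm gc N17640 = N17046 := ded_26_1 (flp_f L186323) (flp_c L186217) L191628
theorem L191634 : sm gg N17029 = N17641 := rfl
theorem L191636 : sm gc N17641 = N17030 := ded_27_1 (flp_g L186225) (flp_c L186223) L191634
theorem L191638 : sm gf N17641 = N17182 := ded_39_1 (flp_g L187352) (flp_f L182140) (flp_g L180879) L186221 L191634
theorem L191640 : sm ge N17031 = N17642 := rfl
theorem L191642 : sm ga N17642 = N17531 := ded_12_1 (flp_e L190718) (flp_a L186235) L191640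
theorem L191644 : sm gb N17642 = N17254 := ded_19_1 (flp_e L188149) L186243 L191640
theorem L191646 : sm gc N17642 = N17032 := ded_25_1 (flp_e L186245) L186233 L191640
theorem L191648 : sm gg N17642 = N17274 := ded_36_2 (flp_e L188367) (flp_g L186237) L191640
theorem L191650 : sm gi N17642 = N17244 := ded_38_2 (flp_e L188051) (flp_i L186239) L191640
theorem L191652 : sm gd N17642 = N17269 := ded_30_1 (flp_e L188307) (flp_d L183135) (flp_e L181052) (flp_d L186241) L191640
theorem L191654 : sm gf N17032 = N17643 := rfl
theorem L191656 : sm gd N17643 = N17036 := ded_31_1 (flp_f L186275) (flp_d L186247) L191654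
theorem L191658 : sm gf N17033 = N17644 := rfl
theorem L191660 : sm gh N17644 = N17043 := ded_40_2 (flp_f L186311) (flp_h L186253) L191658
theorem L191662 : sm gi N17644 = N17643 := ded_41_2 (flp_f L191654) (flp_i L186255) L191658
theorem L191664 : sm gf N17034 = N17645 := rfl
theorem L191666 : sm gd N17645 = N17644 := ded_31_1 (flp_f L191658) (flp_d L186263) L191664
theorem L191668 : sm gi N17645 = N17036 := ded_41_2 (flp_f L186275) (flp_i L186261) L191664
theorem L191670 : sm ge N17645 = N17038 := ded_35_1 (flp_f L186287) (flp_e L180933) (flp_f L180907) L186257 L191664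
theorem L191672 : sm gf N17035 = N17646 := rfl
theorem L191674 : sm gb N17646 = N17518 := ded_20_1 (flp_f L190608) (flp_b L186267) L191672
theorem L191676 : sm gc N17646 = N17036 := ded_26_1 (flp_f L186275) (flp_c L186269) L191672
theorem L191678 : sm gd N17646 = N17516 := ded_31_1 (flp_f L190584) (flp_d L186273) L191672
theorem L191680 : sm gh N17646 = N17044 := ded_40_2 (flp_f L186313) (flp_h L186271) L191672
theorem L191682 : sm ge N17646 = N17041 := ded_35_1 (flp_f L186301) (flp_e L180945) (flp_f L180915) L186265 L191672
theorem L191684 : sm gg N17036 = N17647 := rfl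
theorem L191686 : sm ge N17647 = N17042 := ded_36_1 (flp_g L186307) (flp_e L186279) L191684
theorem L191688 : sm gh N17647 = N17045 := ded_42_2 (flp_g L186319) (flp_h L186277) L191684
theorem L191690 : sm gf N17037 = N17648 := rfl
theorem L191692 : sm gc N17648 = N17038 := ded_26_1 (flp_f L186287) (flp_c L186283) L191690
theorem L191694 : sm gi N17648 = N17041 := ded_41_2 (flp_f L186301) (flp_i L186285) L191690
theorem L191696 : sm gg N17038 = N17649 := rfl
theorem L191698 : sm gi N17649 = N17042 := ded_43_2 (flp_g L186307) (flp_i L186289) L191696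
theorem L191700 : sm gf N17039 = N17650 := rfl
theorem L191702 : sm gb N17650 = N17041 := ded_20_1 (flp_f L186301) (flp_b L186293) L191700
theorem L191704 : sm gh N17650 = N17046 := ded_40_2 (flp_f L186323) (flp_h L186295) L191700
theorem L191706 : sm ge N17650 = N17518 := ded_35_1 (flp_f L190608) (flp_e L185297) (flp_f L180941) L186291 L191700
theorem L191708 : sm gf N17040 = N17651 := rfl
theorem L191710 : sm gd N17651 = N17041 := ded_31_1 (flp_f L186301) L186297 L191708
theorem L191712 : sm ge N17651 = N17539 := ded_35_1 (flp_f L190788) (flp_e L185476) (flp_f L181064) (flp_e L186299) L191708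
theorem L191714 : sm gg N17041 = N17652 := rfl
theorem L191716 : sm gc N17652 = N17042 := ded_27_1 (flp_g L186307) (flp_c L186303) L191714
theorem L191718 : sm gh N17652 = N17047 := ded_42_2 (flp_g L186327) (flp_h L186305) L191714
theorem L191720 : sm gg N17043 = N17653 := rfl
theorem L191722 : sm gf N17653 = N17045 := ded_39_1 (flp_g L186319) (flp_f L180963) (flp_g L180957) L186311 L191720
theorem L191724 : sm gg N17044 = N17654 := rfl
theorem L191726 : sm gc N17654 = N17045 := ded_27_1 (flp_g L186319) (flp_c L186315) L191724
theorem L191728 : sm ge N17654 = N17047 := ded_36_1 (flp_g L186327) (flp_e L186317) L191724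
theorem L191730 : sm gg N17046 = N17655 := rfl
theorem L191732 : sm gb N17655 = N17047 := ded_21_1 (flp_g L186327) (flp_b L186325) L191730
theorem L191734 : sm ga N17051 = N17656 := rfl
theorem L191736 : sm gc N17656 = N17052 := ded_10_2 (flp_a L186373) (flp_c L186371) L191734
theorem L191738 : sm gg N17656 = N17144 := ded_14_2 (flp_a L187125) (flp_g L186366) L191734
theorem L191740 : sm gh N17656 = N17656 := ded_15_2 (flp_a L191734) L186368 L191734
theorem L191741 : sm gi N17656 = N17541 := ded_16_2 (flp_a L190802) (flp_i L186369) L191734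
theorem L191743 : sm gc N17054 = N17657 := rfl
theorem L191745 : sm ga N17657 = N17059 := ded_10_1 (flp_c L186447) (flp_a L186396) L191743
theorem L191747 : sm ge N17657 = N17656 := ded_25_2 L191736 (flp_e L186403) L191743
theorem L191749 : sm gf N17657 = N17417 := ded_26_2 L189691 (flp_f L186399) L191743
theorem L191751 : sm gg N17657 = N17287 := ded_27_2 L188485 (flp_g L186401) L191743
theorem L191753 : sm gh N17657 = N17657 := ded_28_2 (flp_c L191743) L186405 L191743
theorem L191754 : sm gi N17657 = N17265 := ded_29_2 L188257 L186415 L191743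
theorem L191756 : sm gb N17400 = N17657 := ded_9_0 L191745 L186458 L183022 L184195 L189498
theorem L191758 : sm gb N17057 = N17658 := rfl
theorem L191760 : sm gg N17658 = N17120 := ded_21_2 (flp_b L186930) (flp_g L186435) L191758
theorem L191762 : sm gh N17658 = N17658 := ded_22_2 (flp_b L191758) L186437 L191758
theorem L191763 : sm gi N17658 = N17058 := ded_23_2 (flp_b L186440) (flp_i L186438) L191758
theorem L191765 : sm gc N17658 = N17658 := ded_17_2 (flp_b L191758) (flp_c L186431) L181204 L186431 L191758
theorem L191766 : sm gd N17060 = N17659 := rfl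
theorem L191768 : sm ga N17659 = N17558 := ded_11_1 L190977 L186557 L191766
theorem L191770 : sm gg N17659 = N17189 := ded_32_2 (flp_d L187434) (flp_g L186464) L191766
theorem L191772 : sm gi N17659 = N17062 := ded_34_2 (flp_d L186481) (flp_i L186467) L191766
theorem L191774 : sm gc N17659 = N17431 := ded_24_1 (flp_d L189815) L184544 (flp_d L181296) (flp_c L186462) L191766
theorem L191776 : sm gd N17061 = N17660 := rfl
theorem L191778 : sm gb N17660 = N17062 := ded_18_1 (flp_d L186481) (flp_b L186471) L191776
theorem L191780 : sm gf N17660 = N17573 := ded_31_2 (flp_d L191065) (flp_f L186479) L191776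
theorem L191782 : sm gg N17660 = N17191 := ded_32_2 (flp_d L187450) (flp_g L186475) L191776
theorem L191784 : sm gh N17660 = N17435 := ded_33_2 L189853 L184611 L181362 (flp_h L186477) L191776
theorem L191786 : sm ga N17063 = N17661 := rfl
theorem L191788 : sm gc N17661 = N17661 := ded_10_2 (flp_a L191786) L186498 L191786
theorem L191789 : sm gd N17661 = N17064 := ded_11_2 L186501 (flp_d L186493) L191786
theorem L191791 : sm gf N17661 = N17065 := ded_13_2 (flp_a L186508) (flp_f L186495) L191786
theorem L191793 : sm gi N17661 = N17661 := ded_16_2 (flp_a L191786) L186497 L191786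
theorem L191794 : sm gb N17661 = N17072 := ded_9_2 L186583 (flp_b L181466) (flp_a L181344) L186491 L191786
theorem L191796 : sm ge N17071 = N17661 := ded_30_0 L191789 (flp_e L186499) L181349 L181473 (flp_d L186573)
theorem L191798 : sm ge N17063 = N17662 := rfl
theorem L191800 : sm ga N17662 = N17071 := ded_12_1 L191796 (flp_a L191786) L191798
theorem L191802 : sm gb N17662 = N17064 := ded_19_1 (flp_e L186499) L186491 L191798
theorem L191804 : sm gc N17662 = N17662 := ded_25_1 (flp_e L191798) L186498 L191798
theorem L191805 : sm gg N17662 = N17661 := ded_36_2 (flp_e L191796) L186577 L191798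
theorem L191807 : sm gi N17662 = N17662 := ded_38_2 (flp_e L191798) L186497 L191798
theorem L191808 : sm gd N17662 = N17072 := ded_30_1 (flp_e L186581) L181445 L181475 (flp_d L186493) L191798
theorem L191810 : sm gf N17662 = N17073 := ded_35_2 L186597 L184148 (flp_e L181364) (flp_f L186495) L191798
theorem L191812 : sm gc N17067 = N17663 := rfl
theorem L191814 : sm ga N17663 = N17141 := ded_10_1 (flp_c L187094) (flp_a L186535) L191812
theorem L191816 : sm gf N17663 = N17069 := ded_26_2 (flp_c L186555) (flp_f L186538) L191812
theorem L191818 : sm gg N17663 = N17083 := ded_27_2 (flp_c L186674) (flp_g L186540) L191812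
theorem L191820 : sm gh N17663 = N17663 := ded_28_2 (flp_c L191812) L186544 L191812
theorem L191821 : sm gi N17663 = N17068 := ded_29_2 (flp_c L186545) (flp_i L186542) L191812
theorem L191823 : sm gb N17068 = N17664 := rfl
theorem L191825 : sm gf N17664 = N17070 := ded_20_2 (flp_b L186564) (flp_f L186549) L191823
theorem L191827 : sm gg N17664 = N17439 := ded_21_2 (flp_b L189879) (flp_g L186551) L191823
theorem L191829 : sm gh N17664 = N17071 := ded_22_2 (flp_b L186571) (flp_h L186553) L191823
theorem L191831 : sm gc N17664 = N17664 := ded_17_2 (flp_b L191823) (flp_c L186545) L181411 L186545 L191823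
theorem L191832 : sm gb N17069 = N17665 := rfl
theorem L191834 : sm ge N17665 = N17658 := ded_19_2 (flp_b L191758) (flp_e L186559) L191832
theorem L191836 : sm gh N17665 = N17665 := ded_22_2 (flp_b L191832) L186561 L191832
theorem L191837 : sm gi N17665 = N17070 := ded_23_2 (flp_b L186564) (flp_i L186562) L191832
theorem L191839 : sm gc N17665 = N17665 := ded_17_2 (flp_b L191832) (flp_c L186555) L181422 L186555 L191832
theorem L191840 : sm ga N17070 = N17666 := rfl
theorem L191842 : sm gc N17666 = N17666 := ded_10_2 (flp_a L191840) L186570 L191840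
theorem L191843 : sm ge N17666 = N17396 := ded_12_2 L189462 (flp_e L186566) L191840
theorem L191845 : sm gh N17666 = N17073 := ded_15_2 (flp_a L186592) (flp_h L186568) L191840
theorem L191847 : sm gb N17666 = N17397 := ded_9_2 L189467 L186471 (flp_a L181430) L186564 L191840
theorem L191849 : sm gc N17075 = N17667 := rfl
theorem L191851 : sm gi N17667 = N17427 := ded_29_2 (flp_c L189794) (flp_i L186613) L191849
theorem L191853 : sm gd N17667 = N17667 := ded_24_2 (flp_c L191849) (flp_d L186609) L181516 L186609 L191849
theorem L191854 : sm ge N17075 = N17668 := rfl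
theorem L191856 : sm gb N17668 = N17081 := ded_19_1 (flp_e L186658) (flp_b L186611) L191854
theorem L191858 : sm gi N17668 = N17428 := ded_38_2 (flp_e L189797) (flp_i L186613) L191854
theorem L191860 : sm gd N17668 = N17077 := ded_30_1 (flp_e L186622) (flp_d L181521) (flp_e L181517) L186609 L191854
theorem L191862 : sm ge N17076 = N17669 := rfl
theorem L191864 : sm gc N17669 = N17077 := ded_25_1 (flp_e L186622) L186615 L191862
theorem L191866 : sm gh N17669 = N17086 := ded_37_2 (flp_e L186699) (flp_h L186617) L191862
theorem L191868 : sm gi N17669 = N17429 := ded_38_2 (flp_e L189803) (flp_i L186619) L191862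
theorem L191870 : sm gf N17077 = N17670 := rfl
theorem L191872 : sm gb N17670 = N17082 := ded_20_1 (flp_f L186666) (flp_b L186624) L191870
theorem L191874 : sm gh N17670 = N17087 := ded_40_2 (flp_f L186705) (flp_h L186626) L191870
theorem L191876 : sm gi N17670 = N17430 := ded_41_2 (flp_f L189809) (flp_i L186628) L191870
theorem L191878 : sm gc N17078 = N17671 := rfl
theorem L191880 : sm ga N17671 = N17132 := ded_10_1 (flp_c L187033) (flp_a L186632) L191878
theorem L191882 : sm gf N17671 = N17667 := ded_26_2 (flp_c L191849) (flp_f L186634) L191878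
theorem L191884 : sm gh N17671 = N17080 := ded_28_2 (flp_c L186650) (flp_h L186636) L191878
theorem L191886 : sm gd N17671 = N17671 := ded_24_2 (flp_c L191878) (flp_d L186630) L181533 L186630 L191878
theorem L191887 : sm ge N17078 = N17672 := rfl
theorem L191889 : sm ga N17672 = N17133 := ded_12_1 (flp_e L187038) (flp_a L186632) L191887
theorem L191891 : sm gh N17672 = N17081 := ded_37_2 (flp_e L186658) (flp_h L186636) L191887
theorem L191893 : sm gd N17672 = N17090 := ded_30_1 (flp_e L186726) (flp_d L181602) (flp_e L181534) L186630 L191887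
theorem L191895 : sm gc N17079 = N17673 := rfl
theorem L191897 : sm ga N17673 = N17135 := ded_10_1 (flp_c L187054) (flp_a L186640) L191895
theorem L191899 : sm gf N17673 = N17080 := ded_26_2 (flp_c L186650) (flp_f L186644) L191895
theorem L191901 : sm gh N17673 = N17667 := ded_28_2 (flp_c L191849) (flp_h L186648) L191895
theorem L191903 : sm gi N17673 = N17433 := ded_29_2 (flp_c L189839) (flp_i L186646) L191895
theorem L191905 : sm gd N17673 = N17083 := ded_24_2 (flp_c L186674) (flp_d L181566) (flp_c L181544) L186638 L191895
theorem L191907 : sm ge N17079 = N17674 := rfl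
theorem L191909 : sm ga N17674 = N17136 := ded_12_1 (flp_e L187062) (flp_a L186640) L191907
theorem L191911 : sm gb N17674 = N17672 := ded_19_1 (flp_e L191887) (flp_b L186642) L191907
theorem L191913 : sm gh N17674 = N17668 := ded_37_2 (flp_e L191854) (flp_h L186648) L191907
theorem L191915 : sm gi N17674 = N17434 := ded_38_2 (flp_e L189847) (flp_i L186646) L191907
theorem L191917 : sm gd N17674 = N17337 := ded_30_1 (flp_e L188994) (flp_d L183722) (flp_e L181546) L186638 L191907
theorem L191919 : sm gb N17080 = N17675 := rfl
theorem L191921 : sm gd N17675 = N17085 := ded_18_2 (flp_b L186693) (flp_d L186656) L191919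
theorem L191923 : sm gi N17675 = N17435 := ded_23_2 (flp_b L189851) (flp_i L186654) L191919
theorem L191925 : sm ge N17080 = N17676 := rfl
theorem L191927 : sm ga N17676 = N17138 := ded_12_1 (flp_e L187076) (flp_a L186652) L191925
theorem L191929 : sm gc N17676 = N17081 := ded_25_1 (flp_e L186658) L186650 L191925
theorem L191931 : sm gi N17676 = N17436 := ded_38_2 (flp_e L189857) (flp_i L186654) L191925
theorem L191933 : sm gf N17081 = N17677 := rfl
theorem L191935 : sm ga N17677 = N17139 := ded_13_1 (flp_f L187082) (flp_a L186660) L191933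
theorem L191937 : sm gd N17677 = N17082 := ded_31_1 (flp_f L186666) (flp_d L186664) L191933
theorem L191939 : sm gi N17677 = N17437 := ded_41_2 (flp_f L189867) (flp_i L186662) L191933
theorem L191941 : sm gg N17082 = N17678 := rfl
theorem L191943 : sm ga N17678 = N17140 := ded_14_1 (flp_g L187088) (flp_a L186668) L191941
theorem L191945 : sm gh N17678 = N17094 := ded_42_2 (flp_g L186754) (flp_h L186670) L191941
theorem L191947 : sm gi N17678 = N17438 := ded_43_2 (flp_g L189873) (flp_i L186672) L191941
theorem L191949 : sm gb N17083 = N17679 := rfl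
theorem L191951 : sm gf N17679 = N17085 := ded_20_2 (flp_b L186693) (flp_f L186678) L191949
theorem L191953 : sm gh N17679 = N17679 := ded_22_2 (flp_b L191949) L186680 L191949
theorem L191954 : sm gi N17679 = N17439 := ded_23_2 (flp_b L189879) (flp_i L186681) L191949
theorem L191956 : sm gc N17679 = N17679 := ded_17_2 (flp_b L191949) (flp_c L186674) L181570 L186674 L191949
theorem L191957 : sm ge N17083 = N17680 := rfl
theorem L191959 : sm ga N17680 = N17143 := ded_12_1 (flp_e L187114) (flp_a L186676) L191957
theorem L191961 : sm gc N17680 = N17084 := ded_25_1 (flp_e L186683) L186674 L191957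
theorem L191963 : sm gh N17680 = N17680 := ded_37_2 (flp_e L191957) L186680 L191957
theorem L191964 : sm gi N17680 = N17440 := ded_38_2 (flp_e L189886) (flp_i L186681) L191957
theorem L191966 : sm ga N17085 = N17681 := rfl
theorem L191968 : sm gc N17681 = N17681 := ded_10_2 (flp_a L191966) L186698 L191966
theorem L191969 : sm gh N17681 = N17681 := ded_15_2 (flp_a L191966) L186695 L191966
theorem L191970 : sm gi N17681 = N17441 := ded_16_2 (flp_a L189896) (flp_i L186696) L191966
theorem L191972 : sm gb N17681 = N17144 := ded_9_2 (flp_a L187125) (flp_b L181974) (flp_a L181578) L186693 L191966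
theorem L191974 : sm gd N17086 = N17682 := rfl
theorem L191976 : sm gi N17682 = N17101 := ded_34_2 (flp_d L186795) (flp_i L186703) L191974
theorem L191978 : sm ge N17682 = N17126 := ded_30_2 (flp_d L186995) (flp_e L181861) (flp_d L181587) L186699 L191974
theorem L191980 : sm gf N17086 = N17683 := rfl
theorem L191982 : sm gc N17683 = N17087 := ded_26_1 (flp_f L186705) (flp_c L186701) L191980
theorem L191984 : sm gi N17683 = N17102 := ded_41_2 (flp_f L186799) (flp_i L186703) L191980
theorem L191986 : sm gg N17087 = N17684 := rfl
theorem L191988 : sm gb N17684 = N17094 := ded_21_1 (flp_g L186754) (flp_b L186707) L191986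
theorem L191990 : sm gi N17684 = N17103 := ded_43_2 (flp_g L186805) (flp_i L186709) L191986
theorem L191992 : sm gc N17088 = N17685 := rfl
theorem L191994 : sm ga N17685 = N17149 := ded_10_1 (flp_c L187163) (flp_a L186713) L191992
theorem L191996 : sm gh N17685 = N17108 := ded_28_2 (flp_c L186845) (flp_h L186717) L191992
theorem L191998 : sm gi N17685 = N17089 := ded_29_2 (flp_c L186719) (flp_i L186715) L191992
theorem L192000 : sm gd N17685 = N17685 := ded_24_2 (flp_c L191992) (flp_d L186711) L181599 L186711 L191992
theorem L192001 : sm ge N17088 = N17686 := rfl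
theorem L192003 : sm ga N17686 = N17150 := ded_12_1 (flp_e L187170) (flp_a L186713) L192001
theorem L192005 : sm gh N17686 = N17109 := ded_37_2 (flp_e L186853) (flp_h L186717) L192001
theorem L192007 : sm gi N17686 = N17090 := ded_38_2 (flp_e L186726) (flp_i L186715) L192001
theorem L192009 : sm gb N17089 = N17687 := rfl
theorem L192011 : sm gd N17687 = N17687 := ded_18_2 (flp_b L192009) L186725 L192009
theorem L192012 : sm gh N17687 = N17091 := ded_22_2 (flp_b L186732) (flp_h L186723) L192009
theorem L192014 : sm ge N17089 = N17688 := rfl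
theorem L192016 : sm ga N17688 = N17151 := ded_12_1 (flp_e L187176) (flp_a L186721) L192014
theorem L192018 : sm gc N17688 = N17090 := ded_25_1 (flp_e L186726) L186719 L192014
theorem L192020 : sm gh N17688 = N17092 := ded_37_2 (flp_e L186738) (flp_h L186723) L192014
theorem L192022 : sm gf N17090 = N17689 := rfl
theorem L192024 : sm ga N17689 = N17152 := ded_13_1 (flp_f L187182) (flp_a L186728) L192022
theorem L192026 : sm gh N17689 = N17093 := ded_40_2 (flp_f L186746) (flp_h L186730) L192022
theorem L192028 : sm ge N17091 = N17690 := rfl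
theorem L192030 : sm gb N17690 = N17092 := ded_19_1 (flp_e L186738) L186732 L192028
theorem L192032 : sm gi N17690 = N17116 := ded_38_2 (flp_e L186903) (flp_i L186736) L192028
theorem L192034 : sm gf N17092 = N17691 := rfl
theorem L192036 : sm ga N17691 = N17155 := ded_13_1 (flp_f L187198) (flp_a L186740) L192034
theorem L192038 : sm gc N17691 = N17093 := ded_26_1 (flp_f L186746) (flp_c L186742) L192034
theorem L192040 : sm gi N17691 = N17117 := ded_41_2 (flp_f L186907) (flp_i L186744) L192034
theorem L192042 : sm gg N17093 = N17692 := rfl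
theorem L192044 : sm ga N17692 = N17156 := ded_14_1 (flp_g L187204) (flp_a L186748) L192042
theorem L192046 : sm gd N17692 = N17094 := ded_32_1 (flp_g L186754) (flp_d L186750) L192042
theorem L192048 : sm gi N17692 = N17118 := ded_43_2 (flp_g L186913) (flp_i L186752) L192042
theorem L192050 : sm gc N17095 = N17693 := rfl
theorem L192052 : sm gi N17693 = N17096 := ded_29_2 (flp_c L186766) (flp_i L186764) L192050
theorem L192054 : sm gd N17693 = N17693 := ded_24_2 (flp_c L192050) (flp_d L186760) L181641 L186760 L192050
theorem L192055 : sm ge N17095 = N17694 := rfl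
theorem L192057 : sm gb N17694 = N17109 := ded_19_1 (flp_e L186853) (flp_b L186762) L192055
theorem L192059 : sm gi N17694 = N17097 := ded_38_2 (flp_e L186771) (flp_i L186764) L192055
theorem L192061 : sm gd N17694 = N17488 := ded_30_1 (flp_e L190352) (flp_d L185027) (flp_e L181642) L186760 L192055
theorem L192063 : sm gb N17096 = N17695 := rfl
theorem L192065 : sm gd N17695 = N17695 := ded_18_2 (flp_b L192063) L186770 L192063
theorem L192066 : sm gh N17695 = N17098 := ded_22_2 (flp_b L186779) (flp_h L186768) L192063
theorem L192068 : sm gc N17695 = N17110 := ded_17_2 (flp_b L186861) (flp_c L181708) (flp_b L181648) L186766 L192063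
theorem L192070 : sm ge N17096 = N17696 := rfl
theorem L192072 : sm gc N17696 = N17097 := ded_25_1 (flp_e L186771) L186766 L192070
theorem L192074 : sm gh N17696 = N17099 := ded_37_2 (flp_e L186785) (flp_h L186768) L192070
theorem L192076 : sm gf N17097 = N17697 := rfl
theorem L192078 : sm gb N17697 = N17112 := ded_20_1 (flp_f L186875) (flp_b L186773) L192076
theorem L192080 : sm gd N17697 = N17490 := ded_31_1 (flp_f L190366) (flp_d L186777) L192076
theorem L192082 : sm gh N17697 = N17100 := ded_40_2 (flp_f L186789) (flp_h L186775) L192076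
theorem L192084 : sm ge N17098 = N17698 := rfl
theorem L192086 : sm gb N17698 = N17099 := ded_19_1 (flp_e L186785) L186779 L192084
theorem L192088 : sm gc N17698 = N17116 := ded_25_1 (flp_e L186903) (flp_c L186783) L192084
theorem L192090 : sm gd N17099 = N17699 := rfl
theorem L192092 : sm gc N17699 = N17101 := ded_24_1 (flp_d L186795) L181664 (flp_d L181660) (flp_c L186787) L192090
theorem L192094 : sm ge N17699 = N17127 := ded_30_2 (flp_d L186999) (flp_e L181873) (flp_d L181654) L186785 L192090
theorem L192096 : sm gf N17099 = N17700 := rfl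
theorem L192098 : sm gc N17700 = N17100 := ded_26_1 (flp_f L186789) (flp_c L186787) L192096
theorem L192100 : sm gg N17100 = N17701 := rfl
theorem L192102 : sm gb N17701 = N17118 := ded_21_1 (flp_g L186913) (flp_b L186791) L192100
theorem L192104 : sm gd N17701 = N17103 := ded_32_1 (flp_g L186805) (flp_d L186793) L192100
theorem L192106 : sm gf N17101 = N17702 := rfl
theorem L192108 : sm gd N17702 = N17102 := ded_31_1 (flp_f L186799) L186795 L192106
theorem L192110 : sm gh N17101 = N17703 := rfl
theorem L192112 : sm ge N17703 = N17128 := ded_37_1 (flp_h L187003) (flp_e L186797) L192110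
theorem L192114 : sm gd N17703 = N17496 := ded_33_1 (flp_h L190404) (flp_d L185074) (flp_h L181666) L186795 L192110
theorem L192116 : sm gg N17102 = N17704 := rfl
theorem L192118 : sm gc N17704 = N17103 := ded_27_1 (flp_g L186805) (flp_c L186801) L192116
theorem L192120 : sm gh N17704 = N17497 := ded_42_2 (flp_g L190408) (flp_h L186803) L192116
theorem L192122 : sm ge N17104 = N17705 := rfl
theorem L192124 : sm ga N17705 = N17158 := ded_12_1 (flp_e L187220) (flp_a L186813) L192122
theorem L192126 : sm gc N17705 = N17374 := ded_25_1 (flp_e L189316) (flp_c L186817) L192122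
theorem L192128 : sm gh N17705 = N17642 := ded_37_2 (flp_e L191640) (flp_h L186819) L192122
theorem L192130 : sm gd N17705 = N17107 := ded_30_1 (flp_e L186839) (flp_d L181694) (flp_e L181680) L186811 L192122
theorem L192132 : sm gc N17105 = N17706 := rfl
theorem L192134 : sm ga N17706 = N17161 := ded_10_1 (flp_c L187238) (flp_a L186823) L192132
theorem L192136 : sm gf N17706 = N17108 := ded_26_2 (flp_c L186845) (flp_f L186825) L192132
theorem L192138 : sm gi N17706 = N17106 := ded_29_2 (flp_c L186829) (flp_i L186827) L192132
theorem L192140 : sm gd N17706 = N17119 := ded_24_2 (flp_c L186919) (flp_d L181779) (flp_c L181688) L186821 L192132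
theorem L192142 : sm ge N17105 = N17707 := rfl
theorem L192144 : sm ga N17707 = N17162 := ded_12_1 (flp_e L187246) (flp_a L186823) L192142
theorem L192146 : sm gi N17707 = N17107 := ded_38_2 (flp_e L186839) (flp_i L186827) L192142
theorem L192148 : sm ge N17106 = N17708 := rfl
theorem L192150 : sm ga N17708 = N17164 := ded_12_1 (flp_e L187258) (flp_a L186831) L192148
theorem L192152 : sm gc N17708 = N17107 := ded_25_1 (flp_e L186839) L186829 L192148
theorem L192154 : sm gh N17708 = N17113 := ded_37_2 (flp_e L186883) (flp_h L186835) L192148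
theorem L192156 : sm gd N17708 = N17379 := ded_30_1 (flp_e L189352) L184038 (flp_e L181795) (flp_d L186837) L192148
theorem L192158 : sm gf N17107 = N17709 := rfl
theorem L192160 : sm ga N17709 = N17165 := ded_13_1 (flp_f L187264) (flp_a L186841) L192158
theorem L192162 : sm gh N17709 = N17114 := ded_40_2 (flp_f L186889) (flp_h L186843) L192158
theorem L192164 : sm ge N17709 = N17112 := ded_35_1 (flp_f L186875) (flp_e L181716) (flp_f L181698) L186839 L192158
theorem L192166 : sm gb N17108 = N17710 := rfl
theorem L192168 : sm gd N17710 = N17120 := ded_18_2 (flp_b L186930) (flp_d L186851) L192166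
theorem L192170 : sm gi N17710 = N17110 := ded_23_2 (flp_b L186861) (flp_i L186849) L192166
theorem L192172 : sm ge N17108 = N17711 := rfl
theorem L192174 : sm ga N17711 = N17167 := ded_12_1 (flp_e L187276) (flp_a L186847) L192172
theorem L192176 : sm gc N17711 = N17109 := ded_25_1 (flp_e L186853) L186845 L192172
theorem L192178 : sm gi N17711 = N17111 := ded_38_2 (flp_e L186867) (flp_i L186849) L192172
theorem L192180 : sm gf N17109 = N17712 := rfl
theorem L192182 : sm ga N17712 = N17168 := ded_13_1 (flp_f L187282) (flp_a L186855) L192180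
theorem L192184 : sm gd N17712 = N17504 := ded_31_1 (flp_f L190472) (flp_d L186859) L192180
theorem L192186 : sm gi N17712 = N17112 := ded_41_2 (flp_f L186875) (flp_i L186857) L192180
theorem L192188 : sm ga N17110 = N17713 := rfl
theorem L192190 : sm gd N17713 = N17122 := ded_11_2 (flp_a L186949) (flp_d L186863) L192188
theorem L192192 : sm gf N17713 = N17128 := ded_13_2 (flp_a L190556) L190560 L192188
theorem L192194 : sm gh N17713 = N17115 := ded_15_2 (flp_a L186895) (flp_h L186865) L192188
theorem L192196 : sm gb N17713 = N17169 := ded_9_2 (flp_a L187288) (flp_b L182090) (flp_a L181710) L186861 L192188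
theorem L192198 : sm ge N17110 = N17714 := rfl
theorem L192200 : sm gb N17714 = N17111 := ded_19_1 (flp_e L186867) L186861 L192198
theorem L192202 : sm gh N17714 = N17116 := ded_37_2 (flp_e L186903) (flp_h L186865) L192198
theorem L192204 : sm gd N17111 = N17715 := rfl
theorem L192206 : sm ga N17715 = N17171 := ded_11_1 (flp_d L187300) (flp_a L186869) L192204
theorem L192208 : sm gg N17715 = N17561 := ded_32_2 (flp_d L191456) L191452 L192204
theorem L192210 : sm gc N17715 = N17505 := ded_24_1 (flp_d L190478) L185154 (flp_d L181722) (flp_c L186871) L192204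
theorem L192212 : sm ge N17715 = N17124 := ded_30_2 (flp_d L186969) (flp_e L181827) (flp_d L181714) L186867 L192204
theorem L192214 : sm gh N17715 = N17538 := ded_33_2 L190786 L188177 L182988 (flp_h L186873) L192204
theorem L192216 : sm gf N17111 = N17716 := rfl
theorem L192218 : sm ga N17716 = N17172 := ded_13_1 (flp_f L187306) (flp_a L186869) L192216
theorem L192220 : sm gc N17716 = N17112 := ded_26_1 (flp_f L186875) (flp_c L186871) L192216
theorem L192222 : sm gh N17716 = N17117 := ded_40_2 (flp_f L186907) (flp_h L186873) L192216
theorem L192224 : sm gg N17112 = N17717 := rfl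
theorem L192226 : sm ga N17717 = N17173 := ded_14_1 (flp_g L187312) (flp_a L186877) L192224
theorem L192228 : sm gd N17717 = N17507 := ded_32_1 (flp_g L190500) (flp_d L186879) L192224
theorem L192230 : sm gh N17717 = N17118 := ded_42_2 (flp_g L186913) (flp_h L186881) L192224
theorem L192232 : sm gf N17113 = N17718 := rfl
theorem L192234 : sm ga N17718 = N17178 := ded_13_1 (flp_f L187334) (flp_a L186885) L192232
theorem L192236 : sm gc N17718 = N17114 := ded_26_1 (flp_f L186889) (flp_c L186887) L192232
theorem L192238 : sm ge N17718 = N17117 := ded_35_1 (flp_f L186907) (flp_e L181740) (flp_f L181728) L186883 L192232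
theorem L192240 : sm gg N17114 = N17719 := rfl
theorem L192242 : sm ga N17719 = N17179 := ded_14_1 (flp_g L187340) (flp_a L186891) L192240
theorem L192244 : sm ge N17719 = N17118 := ded_36_1 (flp_g L186913) (flp_e L186893) L192240
theorem L192246 : sm ge N17115 = N17720 := rfl
theorem L192248 : sm ga N17720 = N17116 := ded_12_1 (flp_e L186903) L186895 L192246
theorem L192250 : sm gb N17720 = N17180 := ded_19_1 (flp_e L187344) (flp_b L186901) L192246
theorem L192252 : sm gf N17116 = N17721 := rfl
theorem L192254 : sm gb N17721 = N17117 := ded_20_1 (flp_f L186907) (flp_b L186905) L192252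
theorem L192256 : sm gg N17117 = N17722 := rfl
theorem L192258 : sm ga N17722 = N17182 := ded_14_1 (flp_g L187352) (flp_a L186909) L192256
theorem L192260 : sm gc N17722 = N17118 := ded_27_1 (flp_g L186913) (flp_c L186911) L192256
theorem L192262 : sm ga N17120 = N17723 := rfl
theorem L192264 : sm gc N17723 = N17723 := ded_10_2 (flp_a L192262) L186935 L192262
theorem L192265 : sm gf N17723 = N17129 := ded_13_2 (flp_a L190572) L190579 L192262
theorem L192267 : sm gh N17723 = N17723 := ded_15_2 (flp_a L192262) L186932 L192262
theorem L192268 : sm gi N17723 = N17122 := ded_16_2 (flp_a L186949) (flp_i L186933) L192262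
theorem L192270 : sm gb N17723 = N17187 := ded_9_2 (flp_a L187414) (flp_b L182210) (flp_a L181803) L186930 L192262
theorem L192272 : sm ge N17120 = N17724 := rfl
theorem L192274 : sm gb N17724 = N17121 := ded_19_1 (flp_e L186936) L186930 L192272
theorem L192276 : sm gc N17724 = N17724 := ded_25_1 (flp_e L192272) L186935 L192272
theorem L192277 : sm gg N17724 = N17665 := ded_36_2 L191834 L191760 L192272
theorem L192279 : sm gh N17724 = N17724 := ded_37_2 (flp_e L192272) L186932 L192272
theorem L192280 : sm gi N17724 = N17123 := ded_38_2 (flp_e L186958) (flp_i L186933) L192272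
theorem L192282 : sm gf N17724 = N17401 := ded_35_2 (flp_e L189506) (flp_f L189488) (flp_e L190577) L190579 L192272
theorem L192284 : sm gd N17121 = N17725 := rfl
theorem L192286 : sm ga N17725 = N17189 := ded_11_1 (flp_d L187434) (flp_a L186938) L192284
theorem L192288 : sm gf N17725 = N17402 := ded_31_2 (flp_d L189516) (flp_f L186947) L192284
theorem L192290 : sm gg N17725 = N17558 := ded_32_2 L190977 (flp_g L186942) L192284
theorem L192292 : sm gi N17725 = N17124 := ded_34_2 (flp_d L186969) (flp_i L186945) L192284
theorem L192294 : sm gc N17725 = N17512 := ded_24_1 (flp_d L190542) L185224 (flp_d L181818) (flp_c L186940) L192284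
theorem L192296 : sm ge N17122 = N17726 := rfl
theorem L192298 : sm ga N17726 = N17123 := ded_12_1 (flp_e L186958) L186949 L192296
theorem L192300 : sm gb N17726 = N17190 := ded_19_1 (flp_e L187442) (flp_b L186956) L192296
theorem L192302 : sm gc N17726 = N17726 := ded_25_1 (flp_e L192296) L186951 L192296
theorem L192303 : sm gg N17726 = N17666 := ded_36_2 L191843 L189458 L192296
theorem L192305 : sm gh N17726 = N17125 := ded_37_2 (flp_e L186981) (flp_h L186954) L192296
theorem L192307 : sm gf N17726 = N17403 := ded_35_2 (flp_e L189526) L184215 (flp_e L181883) (flp_f L186952) L192296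
theorem L192309 : sm gd N17123 = N17727 := rfl
theorem L192311 : sm gb N17727 = N17124 := ded_18_1 (flp_d L186969) (flp_b L186960) L192309
theorem L192313 : sm gf N17727 = N17404 := ded_31_2 (flp_d L189533) (flp_f L186967) L192309
theorem L192315 : sm gg N17727 = N17560 := ded_32_2 L190987 (flp_g L186963) L192309
theorem L192317 : sm gh N17727 = N17537 := ded_33_2 L190770 L185498 (flp_d L181857) (flp_h L186965) L192309
theorem L192319 : sm gh N17126 = N17728 := rfl
theorem L192321 : sm gd N17728 = N17728 := ded_33_1 (flp_h L192319) (flp_d L186995) L181865 L186995 L192319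
theorem L192322 : sm gh N17127 = N17729 := rfl
theorem L192324 : sm gc N17729 = N17128 := ded_28_1 (flp_h L187003) (flp_c L187001) L192322
theorem L192326 : sm gd N17729 = N17729 := ded_33_1 (flp_h L192322) (flp_d L186999) L181877 L186999 L192322
theorem L192327 : sm gi N17128 = N17730 := rfl
theorem L192329 : sm gb N17730 = N17593 := ded_23_1 L191244 L188285 L192327
theorem L192331 : sm gd N17730 = N17129 := ded_34_1 (flp_i L187007) (flp_d L187005) L192327
theorem L192333 : sm gc N17130 = N17731 := rfl
theorem L192335 : sm ga N17731 = N17667 := ded_10_1 (flp_c L191849) (flp_a L187017) L192333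
theorem L192337 : sm gf N17731 = N17132 := ded_26_2 (flp_c L187033) (flp_f L187021) L192333
theorem L192339 : sm gg N17731 = N17427 := ded_27_2 (flp_c L189794) (flp_g L187023) L192333
theorem L192341 : sm gh N17731 = N17135 := ded_28_2 (flp_c L187054) (flp_h L187025) L192333
theorem L192343 : sm gd N17731 = N17731 := ded_24_2 (flp_c L192333) (flp_d L187015) L181891 L187015 L192333
theorem L192344 : sm ge N17130 = N17732 := rfl
theorem L192346 : sm ga N17732 = N17668 := ded_12_1 (flp_e L191854) (flp_a L187017) L192344
theorem L192348 : sm gb N17732 = N17421 := ded_19_1 (flp_e L189729) (flp_b L187019) L192344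
theorem L192350 : sm gg N17732 = N17428 := ded_36_2 (flp_e L189797) (flp_g L187023) L192344
theorem L192352 : sm gh N17732 = N17136 := ded_37_2 (flp_e L187062) (flp_h L187025) L192344
theorem L192354 : sm gd N17732 = N17420 := ded_30_1 (flp_e L189719) (flp_d L184453) (flp_e L181892) L187015 L192344
theorem L192356 : sm gc N17131 = N17733 := rfl
theorem L192358 : sm gh N17733 = N17558 := ded_28_2 (flp_c L190973) (flp_h L187031) L192356
theorem L192360 : sm gi N17733 = N17132 := ded_29_2 (flp_c L187033) (flp_i L187029) L192356
theorem L192362 : sm gd N17733 = N17733 := ded_24_2 (flp_c L192356) (flp_d L187027) L181900 L187027 L192356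
theorem L192363 : sm ge N17131 = N17734 := rfl
theorem L192365 : sm gh N17734 = N17559 := ded_37_2 (flp_e L190979) (flp_h L187031) L192363
theorem L192367 : sm gi N17734 = N17133 := ded_38_2 (flp_e L187038) (flp_i L187029) L192363
theorem L192369 : sm gd N17734 = N17150 := ded_30_1 (flp_e L187170) (flp_d L182007) (flp_e L181901) L187027 L192363
theorem L192371 : sm gb N17132 = N17735 := rfl
theorem L192373 : sm gd N17735 = N17735 := ded_18_2 (flp_b L192371) L187037 L192371
theorem L192374 : sm gh N17735 = N17137 := ded_22_2 (flp_b L187070) (flp_h L187035) L192371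
theorem L192376 : sm gc N17735 = N17727 := ded_17_2 L192311 L186977 L185238 L187033 L192371
theorem L192378 : sm ge N17132 = N17736 := rfl
theorem L192380 : sm gc N17736 = N17133 := ded_25_1 (flp_e L187038) L187033 L192378
theorem L192382 : sm gh N17736 = N17138 := ded_37_2 (flp_e L187076) (flp_h L187035) L192378
theorem L192384 : sm gf N17133 = N17737 := rfl
theorem L192386 : sm gd N17737 = N17152 := ded_31_1 (flp_f L187182) (flp_d L187042) L192384
theorem L192388 : sm gh N17737 = N17139 := ded_40_2 (flp_f L187082) (flp_h L187040) L192384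
theorem L192390 : sm gc N17134 = N17738 := rfl
theorem L192392 : sm gf N17738 = N17659 := ded_26_2 L191774 L189821 L192390
theorem L192394 : sm gg N17738 = N17135 := ded_27_2 (flp_c L187054) (flp_g L187048) L192390
theorem L192396 : sm gh N17738 = N17427 := ded_28_2 (flp_c L189794) (flp_h L187052) L192390
theorem L192398 : sm gi N17738 = N17563 := ded_29_2 (flp_c L191003) (flp_i L187050) L192390
theorem L192400 : sm gd N17738 = N17141 := ded_24_2 (flp_c L187094) (flp_d L181947) (flp_c L181913) L187044 L192390
theorem L192402 : sm ge N17134 = N17739 := rfl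
theorem L192404 : sm gb N17739 = N17432 := ded_19_1 (flp_e L189829) (flp_b L187046) L192402
theorem L192406 : sm gg N17739 = N17136 := ded_36_2 (flp_e L187062) (flp_g L187048) L192402
theorem L192408 : sm gh N17739 = N17428 := ded_37_2 (flp_e L189797) (flp_h L187052) L192402
theorem L192410 : sm gi N17739 = N17564 := ded_38_2 (flp_e L191015) (flp_i L187050) L192402
theorem L192412 : sm gd N17739 = N17448 := ded_30_1 (flp_e L189969) (flp_d L184676) (flp_e L181915) L187044 L192402
theorem L192414 : sm gb N17135 = N17740 := rfl
theorem L192416 : sm gd N17740 = N17142 := ded_18_2 (flp_b L187103) (flp_d L187060) L192414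
theorem L192418 : sm gf N17740 = N17137 := ded_20_2 (flp_b L187070) (flp_f L187056) L192414
theorem L192420 : sm gi N17740 = N17565 := ded_23_2 (flp_b L191023) (flp_i L187058) L192414
theorem L192422 : sm gc N17740 = N17191 := ded_17_2 L187452 L182242 (flp_b L181923) L187054 L192414
theorem L192424 : sm ge N17135 = N17741 := rfl
theorem L192426 : sm gc N17741 = N17136 := ded_25_1 (flp_e L187062) L187054 L192424
theorem L192428 : sm gi N17741 = N17566 := ded_38_2 (flp_e L191029) (flp_i L187058) L192424
theorem L192430 : sm gf N17136 = N17742 := rfl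
theorem L192432 : sm gb N17742 = N17651 := ded_20_1 (flp_f L191708) (flp_b L187064) L192430
theorem L192434 : sm gd N17742 = N17650 := ded_31_1 (flp_f L191700) (flp_d L187068) L192430
theorem L192436 : sm gi N17742 = N17567 := ded_41_2 (flp_f L191033) (flp_i L187066) L192430
theorem L192438 : sm ge N17742 = N17139 := ded_35_1 (flp_f L187082) (flp_e L181935) (flp_f L181925) L187062 L192430
theorem L192440 : sm ga N17137 = N17743 := rfl
theorem L192442 : sm gd N17743 = N17144 := ded_11_2 (flp_a L187125) (flp_d L187072) L192440
theorem L192444 : sm gi N17743 = N17568 := ded_16_2 (flp_a L191037) (flp_i L187074) L192440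
theorem L192446 : sm ge N17137 = N17744 := rfl
theorem L192448 : sm gb N17744 = N17138 := ded_19_1 (flp_e L187076) L187070 L192446
theorem L192450 : sm gi N17744 = N17569 := ded_38_2 (flp_e L191041) (flp_i L187074) L192446
theorem L192452 : sm gf N17138 = N17745 := rfl
theorem L192454 : sm gc N17745 = N17139 := ded_26_1 (flp_f L187082) (flp_c L187078) L192452
theorem L192456 : sm gi N17745 = N17570 := ded_41_2 (flp_f L191045) (flp_i L187080) L192452
theorem L192458 : sm gg N17139 = N17746 := rfl
theorem L192460 : sm gd N17746 = N17140 := ded_32_1 (flp_g L187088) (flp_d L187084) L192458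
theorem L192462 : sm gi N17746 = N17571 := ded_43_2 (flp_g L191049) (flp_i L187086) L192458
theorem L192464 : sm ga N17142 = N17747 := rfl
theorem L192466 : sm gc N17747 = N17192 := ded_10_2 (flp_a L187454) (flp_c L187110) L192464
theorem L192468 : sm ge N17747 = N17663 := ded_12_2 L191814 L187112 L192464
theorem L192470 : sm gf N17747 = N17144 := ded_13_2 (flp_a L187125) (flp_f L187105) L192464
theorem L192472 : sm gg N17747 = N17680 := ded_14_2 L191959 L187120 L192464
theorem L192474 : sm gh N17747 = N17747 := ded_15_2 (flp_a L192464) L187107 L192464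
theorem L192475 : sm gi N17747 = N17572 := ded_16_2 (flp_a L191053) (flp_i L187108) L192464
theorem L192477 : sm gd N17143 = N17748 := rfl
theorem L192479 : sm gb N17748 = N17738 := ded_18_1 L192400 (flp_b L187116) L192477
theorem L192481 : sm gg N17748 = N17740 := ded_32_2 L192416 (flp_g L187120) L192477
theorem L192483 : sm gi N17748 = N17573 := ded_34_2 (flp_d L191065) (flp_i L187123) L192477
theorem L192485 : sm gc N17748 = N17660 := ded_24_1 (flp_d L191776) L186473 (flp_d L181972) (flp_c L187118) L192477
theorem L192487 : sm gc N17145 = N17749 := rfl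
theorem L192489 : sm ga N17749 = N17323 := ded_10_1 (flp_c L188826) (flp_a L187134) L192487
theorem L192491 : sm gf N17749 = N17419 := ded_26_2 (flp_c L189708) (flp_f L187138) L192487
theorem L192493 : sm gg N17749 = N17459 := ded_27_2 (flp_c L190077) (flp_g L187140) L192487
theorem L192495 : sm gh N17749 = N17230 := ded_28_2 (flp_c L187893) (flp_h L187142) L192487
theorem L192497 : sm gb N17749 = N17521 := ded_17_1 (flp_c L190636) L185345 (flp_c L184449) (flp_b L187136) L192487
theorem L192499 : sm gd N17749 = N17749 := ded_24_2 (flp_c L192487) (flp_d L187132) L181987 L187132 L192487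
theorem L192500 : sm ge N17145 = N17750 := rfl
theorem L192502 : sm ga N17750 = N17324 := ded_12_1 (flp_e L188839) (flp_a L187134) L192500
theorem L192504 : sm gb N17750 = N17418 := ded_19_1 (flp_e L189698) (flp_b L187136) L192500
theorem L192506 : sm gg N17750 = N17460 := ded_36_2 (flp_e L190084) (flp_g L187140) L192500
theorem L192508 : sm gh N17750 = N17231 := ded_37_2 (flp_e L187907) (flp_h L187142) L192500
theorem L192510 : sm gd N17750 = N17148 := ded_30_1 (flp_e L187159) (flp_d L182001) (flp_e L181988) L187132 L192500
theorem L192512 : sm gc N17146 = N17751 := rfl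
theorem L192514 : sm gf N17751 = N17149 := ded_26_2 (flp_c L187163) (flp_f L187146) L192512
theorem L192516 : sm gh N17751 = N17161 := ded_28_2 (flp_c L187238) (flp_h L187150) L192512
theorem L192518 : sm gi N17751 = N17147 := ded_29_2 (flp_c L187152) (flp_i L187148) L192512
theorem L192520 : sm gd N17751 = N17751 := ded_24_2 (flp_c L192512) (flp_d L187144) L181996 L187144 L192512
theorem L192521 : sm ge N17146 = N17752 := rfl
theorem L192523 : sm gh N17752 = N17162 := ded_37_2 (flp_e L187246) (flp_h L187150) L192521
theorem L192525 : sm gi N17752 = N17148 := ded_38_2 (flp_e L187159) (flp_i L187148) L192521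
theorem L192527 : sm ge N17147 = N17753 := rfl
theorem L192529 : sm gc N17753 = N17148 := ded_25_1 (flp_e L187159) L187152 L192527
theorem L192531 : sm gh N17753 = N17153 := ded_37_2 (flp_e L187186) (flp_h L187156) L192527
theorem L192533 : sm gf N17148 = N17754 := rfl
theorem L192535 : sm gh N17754 = N17154 := ded_40_2 (flp_f L187192) (flp_h L187161) L192533
theorem L192537 : sm ge N17754 = N17152 := ded_35_1 (flp_f L187182) (flp_e L182018) (flp_f L182003) L187159 L192533
theorem L192539 : sm ge N17149 = N17755 := rfl
theorem L192541 : sm gc N17755 = N17150 := ded_25_1 (flp_e L187170) L187163 L192539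
theorem L192543 : sm gh N17755 = N17167 := ded_37_2 (flp_e L187276) (flp_h L187165) L192539
theorem L192545 : sm gi N17755 = N17151 := ded_38_2 (flp_e L187176) (flp_i L187167) L192539
theorem L192547 : sm gf N17150 = N17756 := rfl
theorem L192549 : sm gh N17756 = N17168 := ded_40_2 (flp_f L187282) (flp_h L187172) L192547
theorem L192551 : sm gi N17756 = N17152 := ded_41_2 (flp_f L187182) (flp_i L187174) L192547
theorem L192553 : sm gd N17151 = N17757 := rfl
theorem L192555 : sm ge N17757 = N17757 := ded_30_2 (flp_d L192553) (flp_e L187176) L182017 L187176 L192553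
theorem L192556 : sm gf N17151 = N17758 := rfl
theorem L192558 : sm gc N17758 = N17152 := ded_26_1 (flp_f L187182) (flp_c L187178) L192556
theorem L192560 : sm gh N17758 = N17155 := ded_40_2 (flp_f L187198) (flp_h L187180) L192556
theorem L192562 : sm gg N17152 = N17759 := rfl
theorem L192564 : sm gh N17759 = N17156 := ded_42_2 (flp_g L187204) (flp_h L187184) L192562
theorem L192566 : sm gf N17153 = N17760 := rfl
theorem L192568 : sm gc N17760 = N17154 := ded_26_1 (flp_f L187192) (flp_c L187188) L192566
theorem L192570 : sm gi N17760 = N17178 := ded_41_2 (flp_f L187334) (flp_i L187190) L192566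
theorem L192572 : sm ge N17760 = N17155 := ded_35_1 (flp_f L187198) (flp_e L182034) (flp_f L182024) L187186 L192566
theorem L192574 : sm gg N17154 = N17761 := rfl
theorem L192576 : sm ge N17761 = N17156 := ded_36_1 (flp_g L187204) (flp_e L187196) L192574
theorem L192578 : sm gi N17761 = N17179 := ded_43_2 (flp_g L187340) (flp_i L187194) L192574
theorem L192580 : sm gg N17155 = N17762 := rfl
theorem L192582 : sm gc N17762 = N17156 := ded_27_1 (flp_g L187204) (flp_c L187200) L192580
theorem L192584 : sm gi N17762 = N17182 := ded_43_2 (flp_g L187352) (flp_i L187202) L192580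
theorem L192586 : sm ge N17157 = N17763 := rfl
theorem L192588 : sm ga N17763 = N17374 := ded_12_1 (flp_e L189316) (flp_a L187212) L192586
theorem L192590 : sm gc N17763 = N17158 := ded_25_1 (flp_e L187220) L187210 L192586
theorem L192592 : sm gh N17763 = N17498 := ded_37_2 (flp_e L190412) (flp_h L187216) L192586
theorem L192594 : sm gd N17763 = N17252 := ded_30_1 (flp_e L188133) (flp_d L182910) (flp_e L182154) (flp_d L187218) L192586
theorem L192596 : sm gf N17158 = N17764 := rfl
theorem L192598 : sm gd N17764 = N17165 := ded_31_1 (flp_f L187264) (flp_d L187222) L192596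
theorem L192600 : sm ge N17764 = N17643 := ded_35_1 (flp_f L191654) (flp_e L186245) (flp_f L182052) L187220 L192596
theorem L192602 : sm ge N17159 = N17765 := rfl
theorem L192604 : sm gc N17765 = N17160 := ded_25_1 (flp_e L187232) L187224 L192602
theorem L192606 : sm gg N17765 = N17164 := ded_36_2 (flp_e L187258) (flp_g L187226) L192602
theorem L192608 : sm gh N17765 = N17174 := ded_37_2 (flp_e L187318) (flp_h L187228) L192602
theorem L192610 : sm gf N17160 = N17766 := rfl
theorem L192612 : sm gh N17766 = N17175 := ded_40_2 (flp_f L187324) (flp_h L187236) L192610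
theorem L192614 : sm gb N17161 = N17767 := rfl
theorem L192616 : sm gd N17767 = N17184 := ded_18_2 (flp_b L187372) (flp_d L187244) L192614
theorem L192618 : sm gf N17767 = N17166 := ded_20_2 (flp_b L187270) (flp_f L187240) L192614
theorem L192620 : sm gi N17767 = N17163 := ded_23_2 (flp_b L187250) (flp_i L187242) L192614
theorem L192622 : sm gc N17767 = N17452 := ded_17_2 (flp_b L190015) L190023 L185953 L187238 L192614
theorem L192624 : sm ga N17593 = N17767 := ded_11_3 L192616 (flp_a L187381) (flp_d L191246)
theorem L192626 : sm ge N17161 = N17768 := rfl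
theorem L192628 : sm gc N17768 = N17162 := ded_25_1 (flp_e L187246) L187238 L192626
theorem L192630 : sm gi N17768 = N17164 := ded_38_2 (flp_e L187258) (flp_i L187242) L192626
theorem L192632 : sm gf N17162 = N17769 := rfl
theorem L192634 : sm gi N17769 = N17165 := ded_41_2 (flp_f L187264) (flp_i L187248) L192632
theorem L192636 : sm ge N17769 = N17168 := ded_35_1 (flp_f L187282) (flp_e L182084) (flp_f L182062) L187246 L192632
theorem L192638 : sm ge N17163 = N17770 := rfl
theorem L192640 : sm gb N17770 = N17164 := ded_19_1 (flp_e L187258) L187250 L192638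
theorem L192642 : sm gh N17770 = N17176 := ded_37_2 (flp_e L187326) (flp_h L187256) L192638
theorem L192644 : sm gd N17770 = N17765 := ded_30_1 (flp_e L192602) L187230 L182194 (flp_d L187252) L192638
theorem L192646 : sm gd N17164 = N17771 := rfl
theorem L192648 : sm ga N17771 = N17379 := ded_11_1 (flp_d L192156) L192150 L192646
theorem L192650 : sm gb N17771 = N17765 := ded_18_1 (flp_d L192644) L192640 L192646
theorem L192652 : sm gg N17771 = N17770 := ded_32_2 L192644 L192606 L192646
theorem L192654 : sm gc N17771 = N17252 := ded_24_1 (flp_d L192594) L192590 L187222 (flp_c L187260) L192646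
theorem L192656 : sm ge N17771 = N17186 := ded_30_2 (flp_d L187400) (flp_e L182196) (flp_d L182072) L187258 L192646
theorem L192658 : sm gh N17259 = N17771 := ded_15_0 L192648 L189356 (flp_a L188201)
theorem L192660 : sm gf N17164 = N17772 := rfl
theorem L192662 : sm gc N17772 = N17165 := ded_26_1 (flp_f L187264) (flp_c L187260) L192660
theorem L192664 : sm gh N17772 = N17178 := ded_40_2 (flp_f L187334) (flp_h L187262) L192660
theorem L192666 : sm ge N17772 = N17172 := ded_35_1 (flp_f L187306) (flp_e L182096) (flp_f L182068) L187258 L192660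
theorem L192668 : sm gg N17165 = N17773 := rfl
theorem L192670 : sm ge N17773 = N17173 := ded_36_1 (flp_g L187312) (flp_e L187268) L192668
theorem L192672 : sm gh N17773 = N17179 := ded_42_2 (flp_g L187340) (flp_h L187266) L192668
theorem L192674 : sm ga N17166 = N17774 := rfl
theorem L192676 : sm gc N17774 = N17554 := ded_10_2 L190933 L188418 L192674
theorem L192678 : sm gd N17774 = N17187 := ded_11_2 (flp_a L187414) (flp_d L187272) L192674
theorem L192680 : sm gf N17774 = N17593 := ded_13_2 L192624 L192618 L192674
theorem L192682 : sm gi N17774 = N17169 := ded_16_2 (flp_a L187288) (flp_i L187274) L192674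
theorem L192684 : sm ge N17166 = N17775 := rfl
theorem L192686 : sm gb N17775 = N17167 := ded_19_1 (flp_e L187276) L187270 L192684
theorem L192688 : sm gi N17775 = N17170 := ded_38_2 (flp_e L187294) (flp_i L187274) L192684
theorem L192690 : sm gd N17167 = N17776 := rfl
theorem L192692 : sm gi N17776 = N17171 := ded_34_2 (flp_d L187300) (flp_i L187280) L192690
theorem L192694 : sm gc N17776 = N17549 := ded_24_1 L190893 L186283 (flp_d L182088) (flp_c L187278) L192690
theorem L192696 : sm ge N17776 = N17189 := ded_30_2 (flp_d L187434) (flp_e L182217) (flp_d L182082) L187276 L192690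
theorem L192698 : sm gf N17167 = N17777 := rfl
theorem L192700 : sm gc N17777 = N17168 := ded_26_1 (flp_f L187282) (flp_c L187278) L192698
theorem L192702 : sm gi N17777 = N17172 := ded_41_2 (flp_f L187306) (flp_i L187280) L192698
theorem L192704 : sm gg N17168 = N17778 := rfl
theorem L192706 : sm gd N17778 = N17649 := ded_32_1 (flp_g L191696) (flp_d L187284) L192704
theorem L192708 : sm gi N17778 = N17173 := ded_43_2 (flp_g L187312) (flp_i L187286) L192704
theorem L192710 : sm ge N17169 = N17779 := rfl
theorem L192712 : sm ga N17779 = N17170 := ded_12_1 (flp_e L187294) L187288 L192710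
theorem L192714 : sm gh N17779 = N17180 := ded_37_2 (flp_e L187344) (flp_h L187292) L192710
theorem L192716 : sm gd N17170 = N17780 := rfl
theorem L192718 : sm gb N17780 = N17171 := ded_18_1 (flp_d L187300) (flp_b L187296) L192716
theorem L192720 : sm ge N17780 = N17191 := ded_30_2 (flp_d L187450) (flp_e L182232) (flp_d L182092) L187294 L192716
theorem L192722 : sm gf N17170 = N17781 := rfl
theorem L192724 : sm gb N17781 = N17172 := ded_20_1 (flp_f L187306) (flp_b L187296) L192722
theorem L192726 : sm gh N17781 = N17181 := ded_40_2 (flp_f L187348) (flp_h L187298) L192722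
theorem L192728 : sm gf N17171 = N17782 := rfl
theorem L192730 : sm gc N17782 = N17651 := ded_26_1 (flp_f L191708) (flp_c L187302) L192728
theorem L192732 : sm gd N17782 = N17172 := ded_31_1 (flp_f L187306) L187300 L192728
theorem L192734 : sm gg N17172 = N17783 := rfl
theorem L192736 : sm gc N17783 = N17173 := ded_27_1 (flp_g L187312) (flp_c L187308) L192734
theorem L192738 : sm gh N17783 = N17182 := ded_42_2 (flp_g L187352) (flp_h L187310) L192734
theorem L192740 : sm gf N17174 = N17784 := rfl
theorem L192742 : sm gc N17784 = N17175 := ded_26_1 (flp_f L187324) (flp_c L187320) L192740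
theorem L192744 : sm gg N17175 = N17785 := rfl
theorem L192746 : sm gf N17785 = N17179 := ded_39_1 (flp_g L187340) (flp_f L182128) (flp_g L182116) L187324 L192744
theorem L192748 : sm gf N17176 = N17786 := rfl
theorem L192750 : sm gb N17786 = N17178 := ded_20_1 (flp_f L187334) (flp_b L187328) L192748
theorem L192752 : sm ge N17786 = N17181 := ded_35_1 (flp_f L187348) (flp_e L182136) (flp_f L182122) L187326 L192748
theorem L192754 : sm gf N17177 = N17787 := rfl
theorem L192756 : sm gd N17787 = N17178 := ded_31_1 (flp_f L187334) L187330 L192754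
theorem L192758 : sm gh N17177 = N17788 := rfl
theorem L192760 : sm ga N17788 = N17234 := ded_15_1 (flp_h L189591) L189583 L192758
theorem L192762 : sm gb N17788 = N17411 := ded_22_1 L189629 L188021 L192758
theorem L192764 : sm gc N17788 = N17233 := ded_28_1 L187935 L187885 L192758
theorem L192766 : sm ge N17788 = N17183 := ded_37_1 (flp_h L187356) (flp_e L187332) L192758
theorem L192768 : sm gg N17788 = N17241 := ded_42_1 (flp_h L189629) L189627 L192758
theorem L192770 : sm gd N17788 = N17259 := ded_33_1 L192658 (flp_d L192646) L187262 L187330 L192758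
theorem L192772 : sm gi N17527 = N17788 := ded_29_0 L192764 L187937 (flp_c L190698)
theorem L192774 : sm gg N17178 = N17789 := rfl
theorem L192776 : sm gc N17789 = N17179 := ded_27_1 (flp_g L187340) (flp_c L187336) L192774
theorem L192778 : sm ge N17789 = N17182 := ded_36_1 (flp_g L187352) (flp_e L187338) L192774
theorem L192780 : sm gf N17180 = N17790 := rfl
theorem L192782 : sm ga N17790 = N17181 := ded_13_1 (flp_f L187348) (flp_a L187346) L192780
theorem L192784 : sm gg N17181 = N17791 := rfl
theorem L192786 : sm gb N17791 = N17182 := ded_21_1 (flp_g L187352) (flp_b L187350) L192784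
theorem L192788 : sm gd N17185 = N17792 := rfl
theorem L192790 : sm ga N17792 = N17376 := ded_11_1 L189334 (flp_a L187387) L192788
theorem L192792 : sm gb N17792 = N17602 := ded_18_1 L191308 (flp_b L187389) L192788
theorem L192794 : sm gf N17792 = N17253 := ded_31_2 L188147 (flp_f L187398) L192788
theorem L192796 : sm gg N17792 = N17767 := ded_32_2 L192616 (flp_g L187393) L192788
theorem L192798 : sm gi N17792 = N17186 := ded_34_2 (flp_d L187400) (flp_i L187396) L192788
theorem L192800 : sm gc N17792 = N17251 := ded_24_1 (flp_d L188123) L182902 (flp_d L182182) (flp_c L187391) L192788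
theorem L192802 : sm ge N17187 = N17793 := rfl
theorem L192804 : sm ga N17793 = N17188 := ded_12_1 (flp_e L187423) L187414 L192802
theorem L192806 : sm gc N17793 = N17193 := ded_25_1 (flp_e L187468) (flp_c L187416) L192802
theorem L192808 : sm gh N17793 = N17793 := ded_37_2 (flp_e L192802) L187420 L192802
theorem L192809 : sm gi N17793 = N17190 := ded_38_2 (flp_e L187442) (flp_i L187421) L192802
theorem L192811 : sm gf N17793 = N17656 := ded_35_2 (flp_e L191747) L191749 L189693 (flp_f L187418) L192802
theorem L192813 : sm gd N17188 = N17794 := rfl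
theorem L192815 : sm gb N17794 = N17189 := ded_18_1 (flp_d L187434) (flp_b L187425) L192813
theorem L192817 : sm gf N17794 = N17550 := ded_31_2 L190897 (flp_f L187432) L192813
theorem L192819 : sm gi N17794 = N17191 := ded_34_2 (flp_d L187450) (flp_i L187430) L192813
theorem L192821 : sm gc N17794 = N17565 := ded_24_1 L191025 L185701 (flp_d L182318) (flp_c L187427) L192813
theorem L192823 : sm gh N17189 = N17795 := rfl
theorem L192825 : sm gc N17795 = N17545 := ded_28_1 L190854 (flp_c L187440) L192823
theorem L192827 : sm gf N17795 = N17547 := ded_40_1 L190874 (flp_f L187436) L192823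
theorem L192829 : sm gd N17795 = N17795 := ded_33_1 (flp_h L192823) (flp_d L187434) L182221 L187434 L192823
theorem L192830 : sm gd N17190 = N17796 := rfl
theorem L192832 : sm ga N17796 = N17191 := ded_11_1 (flp_d L187450) (flp_a L187444) L192830
theorem L192834 : sm gc N17194 = N17797 := rfl
theorem L192836 : sm ga N17797 = N17196 := ded_10_1 (flp_c L187508) (flp_a L187482) L192834
theorem L192838 : sm gf N17797 = N17424 := ded_26_2 (flp_c L189761) (flp_f L187486) L192834
theorem L192840 : sm gg N17797 = N17521 := ded_27_2 (flp_c L190636) (flp_g L187488) L192834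
theorem L192842 : sm gh N17797 = N17213 := ded_28_2 (flp_c L187702) (flp_h L187492) L192834
theorem L192844 : sm gi N17797 = N17749 := ded_29_2 (flp_c L192487) (flp_i L187490) L192834
theorem L192846 : sm gb N17797 = N17459 := ded_17_1 (flp_c L190077) (flp_b L185422) L185430 (flp_b L187484) L192834
theorem L192848 : sm gd N17797 = N17797 := ded_24_2 (flp_c L192834) (flp_d L187480) L182335 L187480 L192834
theorem L192849 : sm ge N17194 = N17798 := rfl
theorem L192851 : sm ga N17798 = N17197 := ded_12_1 (flp_e L187517) (flp_a L187482) L192849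
theorem L192853 : sm gb N17798 = N17272 := ded_19_1 (flp_e L188343) (flp_b L187484) L192849
theorem L192855 : sm gg N17798 = N17522 := ded_36_2 (flp_e L190645) (flp_g L187488) L192849
theorem L192857 : sm gh N17798 = N17214 := ded_37_2 (flp_e L187716) (flp_h L187492) L192849
theorem L192859 : sm gi N17798 = N17750 := ded_38_2 (flp_e L192500) (flp_i L187490) L192849
theorem L192861 : sm gd N17798 = N17752 := ded_30_1 (flp_e L192521) (flp_d L187144) (flp_e L182336) L187480 L192849
theorem L192863 : sm gc N17195 = N17799 := rfl

end Cfsg.Agent.Helper28.FibA
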