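import Cfsg.Agent.Helper28.FibB14

/-! # The Fi₂₂ presentation, cosets of the subgroup generated by b, …, i: the coset enumeration, part 15 (helper28; generated) -/

set_option autoImplicit false

noncomputable section

namespace Cfsg.Agent.Helper28.FibA

open Cfsg.Agent.Helper28.CosetTable

theorem L192865 : sm ga N17799 = N17751 := ded_10_1 (flp_c L192512) (flp_a L187496) L192863
theorem L192867 : sm gf N17799 = N17685 := ded_26_2 (flp_c L191992) (flp_f L187500) L192863
theorem L192869 : sm gg N17799 = N17362 := ded_27_2 (flp_c L189228) (flp_g L187502) L192863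
theorem L192871 : sm gh N17799 = N17706 := ded_28_2 (flp_c L192132) (flp_h L187506) L192863
theorem L192873 : sm gi N17799 = N17329 := ded_29_2 (flp_c L188895) (flp_i L187504) L192863
theorem L192875 : sm gd N17799 = N17799 := ded_24_2 (flp_c L192863) (flp_d L187494) L182350 L187494 L192863
theorem L192876 : sm ge N17195 = N17800 := rfl
theorem L192878 : sm ga N17800 = N17752 := ded_12_1 (flp_e L192521) (flp_a L187496) L192876
theorem L192880 : sm gb N17800 = N17201 := ded_19_1 (flp_e L187559) (flp_b L187498) L192876
theorem L192882 : sm gg N17800 = N17363 := ded_36_2 (flp_e L189233) (flp_g L187502) L192876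
theorem L192884 : sm gh N17800 = N17707 := ded_37_2 (flp_e L192142) (flp_h L187506) L192876
theorem L192886 : sm gi N17800 = N17330 := ded_38_2 (flp_e L188906) (flp_i L187504) L192876
theorem L192888 : sm gd N17800 = N17197 := ded_30_1 (flp_e L187517) (flp_d L182359) (flp_e L182351) L187494 L192876
theorem L192890 : sm ge N17196 = N17801 := rfl
theorem L192892 : sm gb N17801 = N17669 := ded_19_1 (flp_e L191862) (flp_b L187514) L192890
theorem L192894 : sm gc N17801 = N17197 := ded_25_1 (flp_e L187517) L187508 L192890
theorem L192896 : sm gh N17801 = N17217 := ded_37_2 (flp_e L187758) (flp_h L187512) L192890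
theorem L192898 : sm gf N17197 = N17802 := rfl
theorem L192900 : sm gb N17802 = N17202 := ded_20_1 (flp_f L187569) (flp_b L187519) L192898
theorem L192902 : sm gh N17802 = N17218 := ded_40_2 (flp_f L187766) (flp_h L187521) L192898
theorem L192904 : sm ge N17802 = N17430 := ded_35_1 (flp_f L189809) (flp_e L184532) (flp_f L182363) L187517 L192898
theorem L192906 : sm gc N17198 = N17803 := rfl
theorem L192908 : sm ga N17803 = N17277 := ded_10_1 (flp_c L188399) (flp_a L187525) L192906
theorem L192910 : sm gf N17803 = N17693 := ded_26_2 (flp_c L192050) (flp_f L187529) L192906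
theorem L192912 : sm gg N17803 = N17310 := ded_27_2 (flp_c L188718) (flp_g L187531) L192906
theorem L192914 : sm gh N17803 = N17200 := ded_28_2 (flp_c L187549) (flp_h L187535) L192906
theorem L192916 : sm gi N17803 = N17290 := ded_29_2 (flp_c L188520) (flp_i L187533) L192906
theorem L192918 : sm gd N17803 = N17803 := ded_24_2 (flp_c L192906) (flp_d L187523) L182373 L187523 L192906
theorem L192919 : sm ge N17198 = N17804 := rfl
theorem L192921 : sm ga N17804 = N17278 := ded_12_1 (flp_e L188404) (flp_a L187525) L192919
theorem L192923 : sm gb N17804 = N17707 := ded_19_1 (flp_e L192142) (flp_b L187527) L192919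
theorem L192925 : sm gg N17804 = N17311 := ded_36_2 (flp_e L188725) (flp_g L187531) L192919
theorem L192927 : sm gh N17804 = N17201 := ded_37_2 (flp_e L187559) (flp_h L187535) L192919
theorem L192929 : sm gi N17804 = N17291 := ded_38_2 (flp_e L188529) (flp_i L187533) L192919
theorem L192931 : sm gd N17804 = N17222 := ded_30_1 (flp_e L187805) (flp_d L182595) (flp_e L182374) L187523 L192919
theorem L192933 : sm gc N17199 = N17805 := rfl
theorem L192935 : sm ga N17805 = N17280 := ded_10_1 (flp_c L188422) (flp_a L187539) L192933
theorem L192937 : sm gf N17805 = N17200 := ded_26_2 (flp_c L187549) (flp_f L187543) L192933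
theorem L192939 : sm gg N17805 = N17774 := ded_27_2 L192676 L190937 L192933
theorem L192941 : sm gh N17805 = N17693 := ded_28_2 (flp_c L192050) (flp_h L187547) L192933
theorem L192943 : sm gi N17805 = N17336 := ded_29_2 (flp_c L188982) (flp_i L187545) L192933
theorem L192945 : sm gd N17805 = N17203 := ded_24_2 (flp_c L187579) (flp_d L182412) (flp_c L182388) L187537 L192933
theorem L192947 : sm ge N17199 = N17806 := rfl
theorem L192949 : sm ga N17806 = N17281 := ded_12_1 (flp_e L188434) (flp_a L187539) L192947
theorem L192951 : sm gb N17806 = N17686 := ded_19_1 (flp_e L192001) (flp_b L187541) L192947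
theorem L192953 : sm gh N17806 = N17694 := ded_37_2 (flp_e L192055) (flp_h L187547) L192947
theorem L192955 : sm gi N17806 = N17337 := ded_38_2 (flp_e L188994) (flp_i L187545) L192947
theorem L192957 : sm gd N17806 = N17434 := ded_30_1 (flp_e L189847) (flp_d L184562) (flp_e L182390) L187537 L192947
theorem L192959 : sm gb N17200 = N17807 := rfl
theorem L192961 : sm gd N17807 = N17205 := ded_18_2 (flp_b L187604) (flp_d L187557) L192959
theorem L192963 : sm gg N17807 = N17381 := ded_21_2 (flp_b L189364) (flp_g L187553) L192959
theorem L192965 : sm gi N17807 = N17338 := ded_23_2 (flp_b L189002) (flp_i L187555) L192959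
theorem L192967 : sm ge N17200 = N17808 := rfl
theorem L192969 : sm ga N17808 = N17283 := ded_12_1 (flp_e L188452) (flp_a L187551) L192967
theorem L192971 : sm gc N17808 = N17201 := ded_25_1 (flp_e L187559) L187549 L192967
theorem L192973 : sm gg N17808 = N17382 := ded_36_2 (flp_e L189370) (flp_g L187553) L192967
theorem L192975 : sm gi N17808 = N17339 := ded_38_2 (flp_e L189010) (flp_i L187555) L192967
theorem L192977 : sm gd N17808 = N17676 := ded_30_1 (flp_e L191925) L186656 (flp_e L182428) (flp_d L187557) L192967
theorem L192979 : sm gf N17201 = N17809 := rfl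
theorem L192981 : sm ga N17809 = N17284 := ded_13_1 (flp_f L188458) (flp_a L187561) L192979
theorem L192983 : sm gd N17809 = N17202 := ded_31_1 (flp_f L187569) (flp_d L187567) L192979
theorem L192985 : sm gi N17809 = N17340 := ded_41_2 (flp_f L189018) (flp_i L187565) L192979
theorem L192987 : sm gg N17202 = N17810 := rfl
theorem L192989 : sm ga N17810 = N17285 := ded_14_1 (flp_g L188462) (flp_a L187571) L192987
theorem L192991 : sm gc N17810 = N17678 := ded_27_1 (flp_g L191941) (flp_c L187573) L192987
theorem L192993 : sm ge N17810 = N17438 := ded_36_1 (flp_g L189873) (flp_e L187577) L192987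
theorem L192995 : sm gh N17810 = N17228 := ded_42_2 (flp_g L187869) (flp_h L187575) L192987
theorem L192997 : sm gb N17203 = N17811 := rfl
theorem L192999 : sm gf N17811 = N17205 := ded_20_2 (flp_b L187604) (flp_f L187583) L192997
theorem L193001 : sm gg N17811 = N17723 := ded_21_2 L192270 (flp_g L187585) L192997
theorem L193003 : sm gh N17811 = N17811 := ded_22_2 (flp_b L192997) L187587 L192997
theorem L193004 : sm gi N17811 = N17396 := ded_23_2 (flp_b L189454) (flp_i L187588) L192997
theorem L193006 : sm ga N17811 = N17658 := ded_9_1 (flp_b L191758) L186433 (flp_b L183279) (flp_a L187581) L192997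
theorem L193008 : sm gc N17811 = N17811 := ded_17_2 (flp_b L192997) (flp_c L187579) L182416 L187579 L192997
theorem L193009 : sm ge N17203 = N17812 := rfl
theorem L193011 : sm ga N17812 = N17286 := ded_12_1 (flp_e L188470) (flp_a L187581) L193009
theorem L193013 : sm gc N17812 = N17204 := ded_25_1 (flp_e L187590) L187579 L193009
theorem L193015 : sm gg N17812 = N17793 := ded_36_2 (flp_e L192802) (flp_g L187585) L193009
theorem L193017 : sm gh N17812 = N17812 := ded_37_2 (flp_e L193009) L187587 L193009
theorem L193018 : sm gi N17812 = N17397 := ded_38_2 (flp_e L189465) (flp_i L187588) L193009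
theorem L193020 : sm gf N17812 = N17680 := ded_35_2 (flp_e L191957) L186678 (flp_e L182428) (flp_f L187583) L193009
theorem L193022 : sm ga N17205 = N17813 := rfl
theorem L193024 : sm gc N17813 = N17813 := ded_10_2 (flp_a L193022) L187613 L193022
theorem L193025 : sm ge N17813 = N17681 := ded_12_2 (flp_a L191966) (flp_e L187606) L193022
theorem L193027 : sm gf N17813 = N17658 := ded_13_2 (flp_a L193006) L192999 L193022
theorem L193029 : sm gg N17813 = N17400 := ded_14_2 (flp_a L189498) (flp_g L187608) L193022
theorem L193031 : sm gh N17813 = N17813 := ded_15_2 (flp_a L193022) L187610 L193022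
theorem L193032 : sm gi N17813 = N17398 := ded_16_2 (flp_a L189475) (flp_i L187611) L193022
theorem L193034 : sm gb N17813 = N17287 := ded_9_2 (flp_a L188483) (flp_b L183294) (flp_a L182426) L187604 L193022
theorem L193036 : sm gf N17206 = N17814 := rfl
theorem L193038 : sm ga N17814 = N17288 := ded_13_1 (flp_f L188494) (flp_a L187616) L193036
theorem L193040 : sm gb N17814 = N17462 := ded_20_1 (flp_f L190102) (flp_b L187618) L193036
theorem L193042 : sm gc N17814 = N17296 := ded_26_1 (flp_f L188579) (flp_c L187620) L193036
theorem L193044 : sm gd N17814 = N17412 := ded_31_1 (flp_f L189633) (flp_d L187626) L193036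
theorem L193046 : sm gi N17814 = N17232 := ded_41_2 (flp_f L187919) (flp_i L187624) L193036
theorem L193048 : sm ge N17814 = N17212 := ded_35_1 (flp_f L187694) (flp_e L182488) (flp_f L182441) L187614 L193036
theorem L193050 : sm ge N17207 = N17815 := rfl
theorem L193052 : sm ga N17815 = N17527 := ded_12_1 (flp_e L190696) (flp_a L187630) L193050
theorem L193054 : sm gb N17815 = N17446 := ded_19_1 (flp_e L189951) (flp_b L187638) L193050
theorem L193056 : sm gc N17815 = N17208 := ded_25_1 (flp_e L187642) L187628 L193050
theorem L193058 : sm gg N17815 = N17217 := ded_36_2 (flp_e L187758) (flp_g L187634) L193050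
theorem L193060 : sm gi N17815 = N17234 := ded_38_2 (flp_e L187941) (flp_i L187636) L193050
theorem L193062 : sm gd N17815 = N17317 := ded_30_1 (flp_e L188774) L183540 (flp_e L183058) (flp_d L187640) L193050
theorem L193064 : sm gf N17208 = N17816 := rfl
theorem L193066 : sm ga N17816 = N17528 := ded_13_1 (flp_f L190700) (flp_a L187644) L193064
theorem L193068 : sm gb N17816 = N17212 := ded_20_1 (flp_f L187694) (flp_b L187646) L193064
theorem L193070 : sm gd N17816 = N17474 := ded_31_1 (flp_f L190211) (flp_d L187652) L193064
theorem L193072 : sm gi N17816 = N17235 := ded_41_2 (flp_f L187951) (flp_i L187650) L193064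
theorem L193074 : sm ge N17816 = N17462 := ded_35_1 (flp_f L190102) (flp_e L184810) (flp_f L182455) L187642 L193064
theorem L193076 : sm gc N17209 = N17817 := rfl
theorem L193078 : sm ga N17817 = N17290 := ded_10_1 (flp_c L188520) (flp_a L187656) L193076
theorem L193080 : sm gf N17817 = N17464 := ded_26_2 (flp_c L190116) (flp_f L187660) L193076
theorem L193082 : sm gg N17817 = N17221 := ded_27_2 (flp_c L187798) (flp_g L187662) L193076
theorem L193084 : sm gh N17817 = N17210 := ded_28_2 (flp_c L187668) (flp_h L187666) L193076
theorem L193086 : sm gi N17817 = N17277 := ded_29_2 (flp_c L188399) (flp_i L187664) L193076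
theorem L193088 : sm gb N17817 = N17583 := ded_17_1 (flp_c L191164) L185806 (flp_c L184878) (flp_b L187658) L193076
theorem L193090 : sm gd N17817 = N17817 := ded_24_2 (flp_c L193076) (flp_d L187654) L182467 L187654 L193076
theorem L193091 : sm ge N17209 = N17818 := rfl
theorem L193093 : sm ga N17818 = N17291 := ded_12_1 (flp_e L188529) (flp_a L187656) L193091
theorem L193095 : sm gb N17818 = N17471 := ded_19_1 (flp_e L190183) (flp_b L187658) L193091
theorem L193097 : sm gg N17818 = N17222 := ded_36_2 (flp_e L187805) (flp_g L187662) L193091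
theorem L193099 : sm gh N17818 = N17211 := ded_37_2 (flp_e L187682) (flp_h L187666) L193091
theorem L193101 : sm gi N17818 = N17278 := ded_38_2 (flp_e L188404) (flp_i L187664) L193091
theorem L193103 : sm gd N17818 = N17311 := ded_30_1 (flp_e L188725) (flp_d L183507) (flp_e L182468) L187654 L193091
theorem L193105 : sm ge N17210 = N17819 := rfl
theorem L193107 : sm ga N17819 = N17293 := ded_12_1 (flp_e L188551) (flp_a L187670) L193105
theorem L193109 : sm gb N17819 = N17589 := ded_19_1 (flp_e L191210) (flp_b L187678) L193105
theorem L193111 : sm gc N17819 = N17211 := ded_25_1 (flp_e L187682) L187668 L193105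
theorem L193113 : sm gg N17819 = N17226 := ded_36_2 (flp_e L187851) (flp_g L187674) L193105
theorem L193115 : sm gi N17819 = N17236 := ded_38_2 (flp_e L187957) (flp_i L187676) L193105
theorem L193117 : sm gd N17819 = N17578 := ded_30_1 (flp_e L191114) L185758 (flp_e L182502) (flp_d L187680) L193105
theorem L193119 : sm gf N17211 = N17820 := rfl
theorem L193121 : sm ga N17820 = N17294 := ded_13_1 (flp_f L188561) (flp_a L187684) L193119
theorem L193123 : sm gb N17820 = N17474 := ded_20_1 (flp_f L190211) (flp_b L187686) L193119
theorem L193125 : sm gd N17820 = N17212 := ded_31_1 (flp_f L187694) (flp_d L187692) L193119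
theorem L193127 : sm gi N17820 = N17237 := ded_41_2 (flp_f L187969) (flp_i L187690) L193119
theorem L193129 : sm ge N17820 = N17467 := ded_35_1 (flp_f L190149) (flp_e L184846) (flp_f L182482) L187682 L193119
theorem L193131 : sm gg N17212 = N17821 := rfl
theorem L193133 : sm ga N17821 = N17295 := ded_14_1 (flp_g L188571) (flp_a L187696) L193131
theorem L193135 : sm gc N17821 = N17580 := ded_27_1 (flp_g L191132) (flp_c L187698) L193131
theorem L193137 : sm gi N17821 = N17238 := ded_43_2 (flp_g L187979) (flp_i L187700) L193131
theorem L193139 : sm gf N17821 = N17228 := ded_39_1 (flp_g L187869) (flp_f L182629) (flp_g L182494) L187694 L193131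
theorem L193141 : sm ge N17213 = N17822 := rfl
theorem L193143 : sm ga N17822 = N17217 := ded_12_1 (flp_e L187758) (flp_a L187704) L193141
theorem L193145 : sm gb N17822 = N17461 := ded_19_1 (flp_e L190092) (flp_b L187712) L193141
theorem L193147 : sm gc N17822 = N17214 := ded_25_1 (flp_e L187716) L187702 L193141
theorem L193149 : sm gg N17822 = N17527 := ded_36_2 (flp_e L190696) (flp_g L187708) L193141
theorem L193151 : sm gi N17822 = N17241 := ded_38_2 (flp_e L188017) (flp_i L187710) L193141
theorem L193153 : sm gd N17822 = N17491 := ded_30_1 (flp_e L190372) L185054 (flp_e L183073) (flp_d L187714) L193141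
theorem L193155 : sm gf N17214 = N17823 := rfl
theorem L193157 : sm ga N17823 = N17218 := ded_13_1 (flp_f L187766) (flp_a L187718) L193155
theorem L193159 : sm gb N17823 = N17296 := ded_20_1 (flp_f L188579) (flp_b L187720) L193155
theorem L193161 : sm gd N17823 = N17609 := ded_31_1 (flp_f L191364) (flp_d L187726) L193155
theorem L193163 : sm gi N17823 = N17242 := ded_41_2 (flp_f L188027) (flp_i L187724) L193155
theorem L193165 : sm ge N17823 = N17447 := ded_35_1 (flp_f L189961) (flp_e L184666) (flp_f L182519) L187716 L193155
theorem L193167 : sm ge N17215 = N17824 := rfl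
theorem L193169 : sm ga N17824 = N17604 := ded_12_1 (flp_e L191320) (flp_a L187730) L193167
theorem L193171 : sm gb N17824 = N17222 := ded_19_1 (flp_e L187805) (flp_b L187732) L193167
theorem L193173 : sm gc N17824 = N17595 := ded_25_1 (flp_e L191256) (flp_c L187740) L193167
theorem L193175 : sm gg N17824 = N17471 := ded_36_2 (flp_e L190183) (flp_g L187736) L193167
theorem L193177 : sm gh N17824 = N17216 := ded_37_2 (flp_e L187744) (flp_h L187742) L193167
theorem L193179 : sm gi N17824 = N17705 := ded_38_2 (flp_e L192122) (flp_i L187738) L193167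
theorem L193181 : sm gd N17824 = N17707 := ded_30_1 (flp_e L192142) (flp_d L186821) (flp_e L182533) L187728 L193167
theorem L193183 : sm gf N17216 = N17825 := rfl
theorem L193185 : sm ga N17825 = N17609 := ded_13_1 (flp_f L191364) (flp_a L187746) L193183
theorem L193187 : sm gb N17825 = N17227 := ded_20_1 (flp_f L187861) (flp_b L187748) L193183
theorem L193189 : sm gc N17825 = N17600 := ded_26_1 (flp_f L191292) (flp_c L187750) L193183
theorem L193191 : sm gd N17825 = N17218 := ded_31_1 (flp_f L187766) (flp_d L187756) L193183
theorem L193193 : sm gi N17825 = N17246 := ded_41_2 (flp_f L188075) (flp_i L187754) L193183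
theorem L193195 : sm ge N17825 = N17508 := ded_35_1 (flp_f L190506) (flp_e L185166) (flp_f L182547) L187744 L193183
theorem L193197 : sm gd N17217 = N17826 := rfl
theorem L193199 : sm ga N17826 = N17491 := ded_11_1 (flp_d L193153) L193143 L193197
theorem L193201 : sm gb N17826 = N17682 := ded_18_1 (flp_d L191974) (flp_b L187760) L193197
theorem L193203 : sm gg N17826 = N17317 := ded_32_2 (flp_d L193062) L193058 L193197
theorem L193205 : sm gi N17826 = N17247 := ded_34_2 (flp_d L188083) (flp_i L187764) L193197
theorem L193207 : sm gc N17826 = N17315 := ded_24_1 L188758 (flp_c L187750) L187756 (flp_c L187762) L193197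
theorem L193209 : sm ge N17826 = N17266 := ded_30_2 (flp_d L188267) (flp_e L183084) (flp_d L182563) L187758 L193197
theorem L193211 : sm gf N17217 = N17827 := rfl
theorem L193213 : sm gb N17827 = N17683 := ded_20_1 (flp_f L191980) (flp_b L187760) L193211
theorem L193215 : sm gc N17827 = N17218 := ded_26_1 (flp_f L187766) (flp_c L187762) L193211
theorem L193217 : sm gi N17827 = N17248 := ded_41_2 (flp_f L188095) (flp_i L187764) L193211
theorem L193219 : sm ge N17827 = N17450 := ded_35_1 (flp_f L189989) (flp_e L184698) (flp_f L182557) L187758 L193211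
theorem L193221 : sm gg N17218 = N17828 := rfl
theorem L193223 : sm gb N17828 = N17228 := ded_21_1 (flp_g L187869) (flp_b L187768) L193221
theorem L193225 : sm ge N17828 = N17451 := ded_36_1 (flp_g L189995) (flp_e L187772) L193221
theorem L193227 : sm gi N17828 = N17249 := ded_43_2 (flp_g L188103) (flp_i L187770) L193221
theorem L193229 : sm gc N17219 = N17829 := rfl
theorem L193231 : sm ga N17829 = N17308 := ded_10_1 (flp_c L188707) (flp_a L187776) L193229
theorem L193233 : sm gf N17829 = N17221 := ded_26_2 (flp_c L187798) (flp_f L187780) L193229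
theorem L193235 : sm gg N17829 = N17485 := ded_27_2 (flp_c L190328) (flp_g L187782) L193229
theorem L193237 : sm gh N17829 = N17223 := ded_28_2 (flp_c L187811) (flp_h L187784) L193229
theorem L193239 : sm gb N17829 = N17351 := ded_17_1 (flp_c L189130) (flp_b L187991) L187999 (flp_b L187778) L193229
theorem L193241 : sm gd N17829 = N17829 := ded_24_2 (flp_c L193229) (flp_d L187774) L182577 L187774 L193229
theorem L193242 : sm ge N17219 = N17830 := rfl
theorem L193244 : sm ga N17830 = N17309 := ded_12_1 (flp_e L188714) (flp_a L187776) L193242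
theorem L193246 : sm gb N17830 = N17499 := ded_19_1 (flp_e L190418) (flp_b L187778) L193242
theorem L193248 : sm gg N17830 = N17486 := ded_36_2 (flp_e L190337) (flp_g L187782) L193242
theorem L193250 : sm gh N17830 = N17224 := ded_37_2 (flp_e L187825) (flp_h L187784) L193242
theorem L193252 : sm gc N17220 = N17831 := rfl
theorem L193254 : sm ga N17831 = N17310 := ded_10_1 (flp_c L188718) (flp_a L187788) L193252
theorem L193256 : sm gg N17831 = N17277 := ded_27_2 (flp_c L188399) (flp_g L187792) L193252
theorem L193258 : sm gh N17831 = N17253 := ded_28_2 (flp_c L188139) (flp_h L187796) L193252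
theorem L193260 : sm gi N17831 = N17221 := ded_29_2 (flp_c L187798) (flp_i L187794) L193252
theorem L193262 : sm gd N17831 = N17831 := ded_24_2 (flp_c L193252) (flp_d L187786) L182588 L187786 L193252
theorem L193263 : sm ge N17220 = N17832 := rfl
theorem L193265 : sm ga N17832 = N17311 := ded_12_1 (flp_e L188725) (flp_a L187788) L193263
theorem L193267 : sm gb N17832 = N17705 := ded_19_1 (flp_e L192122) (flp_b L187790) L193263
theorem L193269 : sm gg N17832 = N17278 := ded_36_2 (flp_e L188404) (flp_g L187792) L193263
theorem L193271 : sm gh N17832 = N17254 := ded_37_2 (flp_e L188149) (flp_h L187796) L193263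
theorem L193273 : sm gi N17832 = N17222 := ded_38_2 (flp_e L187805) (flp_i L187794) L193263
theorem L193275 : sm gd N17832 = N17291 := ded_30_1 (flp_e L188529) (flp_d L183331) (flp_e L182589) L187786 L193263
theorem L193277 : sm gb N17221 = N17833 := rfl
theorem L193279 : sm gd N17833 = N17833 := ded_18_2 (flp_b L193277) L187804 L193277
theorem L193280 : sm gf N17833 = N17351 := ded_20_2 (flp_b L193239) L193233 L193277
theorem L193282 : sm gg N17833 = N17583 := ded_21_2 (flp_b L193088) L193082 L193277
theorem L193284 : sm gh N17833 = N17225 := ded_22_2 (flp_b L187837) (flp_h L187802) L193277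
theorem L193286 : sm gc N17833 = N17349 := ded_17_2 L189110 (flp_c L187740) L187732 L187798 L193277
theorem L193288 : sm ga N17360 = N17833 := ded_13_3 L193280 L189132 (flp_f L189217)
theorem L193290 : sm ge N17221 = N17834 := rfl
theorem L193292 : sm ga N17834 = N17313 := ded_12_1 (flp_e L188738) (flp_a L187800) L193290
theorem L193294 : sm gc N17834 = N17222 := ded_25_1 (flp_e L187805) L187798 L193290
theorem L193296 : sm gh N17834 = N17226 := ded_37_2 (flp_e L187851) (flp_h L187802) L193290
theorem L193298 : sm gf N17222 = N17835 := rfl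
theorem L193300 : sm ga N17835 = N17314 := ded_13_1 (flp_f L188744) (flp_a L187807) L193298
theorem L193302 : sm gh N17835 = N17227 := ded_40_2 (flp_f L187861) (flp_h L187809) L193298
theorem L193304 : sm ge N17223 = N17836 := rfl
theorem L193306 : sm ga N17836 = N17317 := ded_12_1 (flp_e L188774) (flp_a L187813) L193304
theorem L193308 : sm gb N17836 = N17354 := ded_19_1 (flp_e L189159) (flp_b L187821) L193304
theorem L193310 : sm gc N17836 = N17224 := ded_25_1 (flp_e L187825) L187811 L193304
theorem L193312 : sm gg N17836 = N17491 := ded_36_2 (flp_e L190372) (flp_g L187817) L193304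
theorem L193314 : sm gi N17836 = N17259 := ded_38_2 (flp_e L188199) (flp_i L187819) L193304
theorem L193316 : sm gd N17836 = N17527 := ded_30_1 (flp_e L190696) L185384 (flp_e L182643) (flp_d L187823) L193304
theorem L193318 : sm gf N17224 = N17837 := rfl
theorem L193320 : sm ga N17837 = N17318 := ded_13_1 (flp_f L188780) (flp_a L187827) L193318
theorem L193322 : sm gb N17837 = N17508 := ded_20_1 (flp_f L190506) (flp_b L187829) L193318
theorem L193324 : sm gd N17837 = N17457 := ded_31_1 (flp_f L190055) (flp_d L187835) L193318
theorem L193326 : sm gi N17837 = N17260 := ded_41_2 (flp_f L188209) (flp_i L187833) L193318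
theorem L193328 : sm ge N17837 = N17227 := ded_35_1 (flp_f L187861) (flp_e L182621) (flp_f L182607) L187825 L193318
theorem L193330 : sm ge N17225 = N17838 := rfl
theorem L193332 : sm ga N17838 = N17369 := ded_12_1 (flp_e L189284) L187849 L193330
theorem L193334 : sm gb N17838 = N17226 := ded_19_1 (flp_e L187851) L187837 L193330
theorem L193336 : sm gc N17838 = N17353 := ded_25_1 (flp_e L189147) (flp_c L187847) L193330
theorem L193338 : sm gg N17838 = N17589 := ded_36_2 (flp_e L191210) (flp_g L187843) L193330
theorem L193340 : sm gi N17838 = N17262 := ded_38_2 (flp_e L188231) (flp_i L187845) L193330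
theorem L193342 : sm gd N17838 = N17690 := ded_30_1 (flp_e L192028) L186734 (flp_e L182656) (flp_d L187839) L193330
theorem L193344 : sm gf N17226 = N17839 := rfl
theorem L193346 : sm ga N17839 = N17321 := ded_13_1 (flp_f L188812) (flp_a L187853) L193344
theorem L193348 : sm gc N17839 = N17227 := ded_26_1 (flp_f L187861) (flp_c L187855) L193344
theorem L193350 : sm gd N17839 = N17691 := ded_31_1 (flp_f L192034) (flp_d L187859) L193344
theorem L193352 : sm gi N17839 = N17263 := ded_41_2 (flp_f L188241) (flp_i L187857) L193344
theorem L193354 : sm gg N17227 = N17840 := rfl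
theorem L193356 : sm ga N17840 = N17322 := ded_14_1 (flp_g L188820) (flp_a L187863) L193354
theorem L193358 : sm gd N17840 = N17228 := ded_32_1 (flp_g L187869) (flp_d L187865) L193354
theorem L193360 : sm gi N17840 = N17264 := ded_43_2 (flp_g L188249) (flp_i L187867) L193354
theorem L193362 : sm gf N17229 = N17841 := rfl
theorem L193364 : sm ga N17841 = N17409 := ded_13_1 (flp_f L189597) (flp_a L187881) L193362
theorem L193366 : sm gb N17841 = N17232 := ded_20_1 (flp_f L187919) (flp_b L187883) L193362
theorem L193368 : sm gc N17841 = N17787 := ded_26_1 (flp_f L192754) (flp_c L187885) L193362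
theorem L193370 : sm gd N17841 = N17442 := ded_31_1 (flp_f L189907) (flp_d L187891) L193362
theorem L193372 : sm gi N17841 = N17462 := ded_41_2 (flp_f L190102) (flp_i L187889) L193362
theorem L193374 : sm ge N17841 = N17235 := ded_35_1 (flp_f L187951) (flp_e L182742) (flp_f L182675) L187879 L193362
theorem L193376 : sm ge N17230 = N17842 := rfl
theorem L193378 : sm ga N17842 = N17325 := ded_12_1 (flp_e L188849) (flp_a L187895) L193376
theorem L193380 : sm gb N17842 = N17527 := ded_19_1 (flp_e L190696) (flp_b L187903) L193376
theorem L193382 : sm gc N17842 = N17231 := ded_25_1 (flp_e L187907) L187893 L193376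
theorem L193384 : sm gg N17842 = N17461 := ded_36_2 (flp_e L190092) (flp_g L187899) L193376
theorem L193386 : sm gi N17842 = N17411 := ded_38_2 (flp_e L189621) (flp_i L187901) L193376
theorem L193388 : sm gd N17842 = N17354 := ded_30_1 (flp_e L189159) L183890 (flp_e L182707) (flp_d L187905) L193376
theorem L193390 : sm gf N17231 = N17843 := rfl
theorem L193392 : sm ga N17843 = N17326 := ded_13_1 (flp_f L188861) (flp_a L187909) L193390
theorem L193394 : sm gb N17843 = N17442 := ded_20_1 (flp_f L189907) (flp_b L187911) L193390
theorem L193396 : sm gd N17843 = N17232 := ded_31_1 (flp_f L187919) (flp_d L187917) L193390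
theorem L193398 : sm gi N17843 = N17412 := ded_41_2 (flp_f L189633) (flp_i L187915) L193390
theorem L193400 : sm ge N17843 = N17444 := ded_35_1 (flp_f L189929) (flp_e L184634) (flp_f L182689) L187907 L193390
theorem L193402 : sm gg N17232 = N17844 := rfl
theorem L193404 : sm ga N17844 = N17327 := ded_14_1 (flp_g L188871) (flp_a L187921) L193402
theorem L193406 : sm gc N17844 = N17356 := ded_27_1 (flp_g L189177) (flp_c L187923) L193402
theorem L193408 : sm ge N17844 = N17238 := ded_36_1 (flp_g L187979) (flp_e L187925) L193402
theorem L193410 : sm gf N17844 = N17463 := ded_39_1 (flp_g L190108) (flp_f L184816) (flp_g L182701) L187919 L193402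
theorem L193412 : sm gf N17233 = N17845 := rfl
theorem L193414 : sm ga N17845 = N17235 := ded_13_1 (flp_f L187951) (flp_a L187929) L193412
theorem L193416 : sm gb N17845 = N17328 := ded_20_1 (flp_f L188881) (flp_b L187931) L193412
theorem L193418 : sm gd N17845 = N17509 := ded_31_1 (flp_f L190510) (flp_d L187939) L193412
theorem L193420 : sm gh N17845 = N17841 := ded_40_2 (flp_f L193362) (flp_h L187935) L193412
theorem L193422 : sm gi N17845 = N17528 := ded_41_2 (flp_f L190700) (flp_i L187937) L193412
theorem L193424 : sm ge N17845 = N17409 := ded_35_1 (flp_f L189597) (flp_e L184335) (flp_f L182724) L187927 L193412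
theorem L193426 : sm gf N17234 = N17846 := rfl
theorem L193428 : sm gb N17846 = N17481 := ded_20_1 (flp_f L190284) (flp_b L187943) L193426
theorem L193430 : sm gc N17846 = N17235 := ded_26_1 (flp_f L187951) (flp_c L187945) L193426
theorem L193432 : sm gd N17846 = N17391 := ded_31_1 (flp_f L189424) (flp_d L187949) L193426
theorem L193434 : sm ge N17846 = N17787 := ded_35_1 (flp_f L192754) L187332 (flp_f L182734) L187941 L193426
theorem L193436 : sm gg N17235 = N17847 := rfl
theorem L193438 : sm gb N17847 = N17238 := ded_21_1 (flp_g L187979) (flp_b L187953) L193436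
theorem L193440 : sm gd N17847 = N17654 := ded_32_1 (flp_g L191724) (flp_d L187955) L193436
theorem L193442 : sm gf N17847 = N17249 := ded_39_1 (flp_g L188103) (flp_f L182878) (flp_g L182746) L187951 L193436
theorem L193444 : sm gf N17236 = N17848 := rfl
theorem L193446 : sm ga N17848 = N17347 := ded_13_1 (flp_f L189094) (flp_a L187959) L193444
theorem L193448 : sm gb N17848 = N17638 := ded_20_1 (flp_f L191616) (flp_b L187961) L193444
theorem L193450 : sm gc N17848 = N17237 := ded_26_1 (flp_f L187969) (flp_c L187963) L193444
theorem L193452 : sm gd N17848 = N17623 := ded_31_1 (flp_f L191486) (flp_d L187967) L193444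
theorem L193454 : sm ge N17848 = N17640 := ded_35_1 (flp_f L191628) (flp_e L186213) (flp_f L182754) L187957 L193444
theorem L193456 : sm gg N17237 = N17849 := rfl
theorem L193458 : sm ga N17849 = N17348 := ded_14_1 (flp_g L189100) (flp_a L187971) L193456
theorem L193460 : sm gb N17849 = N17654 := ded_21_1 (flp_g L191724) (flp_b L187973) L193456
theorem L193462 : sm gd N17849 = N17238 := ded_32_1 (flp_g L187979) (flp_d L187975) L193456
theorem L193464 : sm ge N17849 = N17655 := ded_36_1 (flp_g L191730) (flp_e L187977) L193456
theorem L193466 : sm gf N17849 = N17264 := ded_39_1 (flp_g L188249) (flp_f L182990) (flp_g L182768) L187969 L193456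
theorem L193468 : sm ge N17239 = N17850 := rfl
theorem L193470 : sm ga N17850 = N17244 := ded_12_1 (flp_e L188051) (flp_a L187989) L193468
theorem L193472 : sm gb N17850 = N17352 := ded_19_1 (flp_e L189139) (flp_b L187991) L193468
theorem L193474 : sm gc N17850 = N17499 := ded_25_1 (flp_e L190418) (flp_c L187999) L193468
theorem L193476 : sm gg N17850 = N17501 := ded_36_2 (flp_e L190438) (flp_g L187995) L193468
theorem L193478 : sm gh N17850 = N17240 := ded_37_2 (flp_e L188003) (flp_h L188001) L193468
theorem L193480 : sm gi N17850 = N17531 := ded_38_2 (flp_e L190718) (flp_i L187997) L193468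
theorem L193482 : sm gd N17850 = N17532 := ded_30_1 (flp_e L190726) (flp_d L185418) (flp_e L182786) L187987 L193468
theorem L193484 : sm gf N17240 = N17851 := rfl
theorem L193486 : sm ga N17851 = N17246 := ded_13_1 (flp_f L188075) (flp_a L188005) L193484
theorem L193488 : sm gb N17851 = N17355 := ded_20_1 (flp_f L189169) (flp_b L188007) L193484
theorem L193490 : sm gc N17851 = N17508 := ded_26_1 (flp_f L190506) (flp_c L188009) L193484
theorem L193492 : sm gd N17851 = N17242 := ded_31_1 (flp_f L188027) (flp_d L188015) L193484
theorem L193494 : sm gi N17851 = N17609 := ded_41_2 (flp_f L191364) (flp_i L188013) L193484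
theorem L193496 : sm ge N17851 = N17600 := ded_35_1 (flp_f L191292) (flp_e L185913) (flp_f L182800) L188003 L193484
theorem L193498 : sm gf N17241 = N17852 := rfl
theorem L193500 : sm ga N17852 = N17248 := ded_13_1 (flp_f L188095) (flp_a L188019) L193498
theorem L193502 : sm gb N17852 = N17787 := ded_20_1 (flp_f L192754) (flp_b L188021) L193498
theorem L193504 : sm gc N17852 = N17242 := ded_26_1 (flp_f L188027) (flp_c L188023) L193498
theorem L193506 : sm gd N17852 = N17786 := ded_31_1 (flp_f L192748) (flp_d L188025) L193498
theorem L193508 : sm ge N17852 = N17481 := ded_35_1 (flp_f L190284) (flp_e L184973) (flp_f L182812) L188017 L193498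
theorem L193510 : sm gg N17242 = N17853 := rfl
theorem L193512 : sm ga N17853 = N17249 := ded_14_1 (flp_g L188103) (flp_a L188029) L193510
theorem L193514 : sm gb N17853 = N17356 := ded_21_1 (flp_g L189177) (flp_b L188031) L193510
theorem L193516 : sm ge N17853 = N17482 := ded_36_1 (flp_g L190292) (flp_e L188033) L193510
theorem L193518 : sm ge N17243 = N17854 := rfl
theorem L193520 : sm ga N17854 = N17595 := ded_12_1 (flp_e L191256) (flp_a L188037) L193518
theorem L193522 : sm gb N17854 = N17252 := ded_19_1 (flp_e L188133) (flp_b L188039) L193518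
theorem L193524 : sm gc N17854 = N17604 := ded_25_1 (flp_e L191320) (flp_c L188047) L193518
theorem L193526 : sm gg N17854 = N17454 := ded_36_2 (flp_e L190027) (flp_g L188043) L193518
theorem L193528 : sm gh N17854 = N17245 := ded_37_2 (flp_e L188061) (flp_h L188049) L193518
theorem L193530 : sm gi N17854 = N17763 := ded_38_2 (flp_e L192586) (flp_i L188045) L193518
theorem L193532 : sm gf N17244 = N17855 := rfl
theorem L193534 : sm gb N17855 = N17257 := ded_20_1 (flp_f L188179) (flp_b L188053) L193532
theorem L193536 : sm gc N17855 = N17644 := ded_26_1 (flp_f L191658) (flp_c L188055) L193532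
theorem L193538 : sm gh N17855 = N17246 := ded_40_2 (flp_f L188075) (flp_h L188059) L193532
theorem L193540 : sm gf N17245 = N17856 := rfl
theorem L193542 : sm ga N17856 = N17600 := ded_13_1 (flp_f L191292) (flp_a L188063) L193540
theorem L193544 : sm gb N17856 = N17260 := ded_20_1 (flp_f L188209) (flp_b L188065) L193540
theorem L193546 : sm gc N17856 = N17609 := ded_26_1 (flp_f L191364) (flp_c L188067) L193540
theorem L193548 : sm gd N17856 = N17492 := ded_31_1 (flp_f L190380) (flp_d L188073) L193540
theorem L193550 : sm gi N17856 = N17508 := ded_41_2 (flp_f L190506) (flp_i L188071) L193540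
theorem L193552 : sm ge N17856 = N17246 := ded_35_1 (flp_f L188075) (flp_e L182862) (flp_f L182854) L188061 L193540
theorem L193554 : sm gg N17246 = N17857 := rfl
theorem L193556 : sm gb N17857 = N17264 := ded_21_1 (flp_g L188249) (flp_b L188077) L193554
theorem L193558 : sm gc N17857 = N17653 := ded_27_1 (flp_g L191720) (flp_c L188079) L193554
theorem L193560 : sm gd N17857 = N17249 := ded_32_1 (flp_g L188103) (flp_d L188081) L193554
theorem L193562 : sm gf N17857 = N17654 := ded_39_1 (flp_g L191724) (flp_f L186313) (flp_g L182868) L188075 L193554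
theorem L193564 : sm gf N17247 = N17858 := rfl
theorem L193566 : sm ga N17858 = N17786 := ded_13_1 (flp_f L192748) (flp_a L188085) L193564
theorem L193568 : sm gb N17858 = N17702 := ded_20_1 (flp_f L192106) (flp_b L188087) L193564
theorem L193570 : sm gc N17858 = N17389 := ded_26_1 (flp_f L189410) (flp_c L188091) L193564
theorem L193572 : sm gd N17858 = N17248 := ded_31_1 (flp_f L188095) L188083 L193564
theorem L193574 : sm ge N17858 = N17790 := ded_35_1 (flp_f L192780) (flp_e L187344) (flp_f L183105) (flp_e L188093) L193564
theorem L193576 : sm gh N17247 = N17859 := rfl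
theorem L193578 : sm ga N17859 = N17770 := ded_15_1 L192642 (flp_a L188085) L193576
theorem L193580 : sm gb N17859 = N17703 := ded_22_1 (flp_h L192110) (flp_b L188087) L193576
theorem L193582 : sm gc N17859 = N17375 := ded_28_1 L189326 (flp_c L188091) L193576
theorem L193584 : sm ge N17859 = N17267 := ded_37_1 (flp_h L188281) (flp_e L188093) L193576
theorem L193586 : sm gg N17859 = N17379 := ded_42_1 L189356 (flp_g L188089) L193576
theorem L193588 : sm gg N17248 = N17860 := rfl
theorem L193590 : sm gb N17860 = N17704 := ded_21_1 (flp_g L192116) (flp_b L188097) L193588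
theorem L193592 : sm gc N17860 = N17249 := ded_27_1 (flp_g L188103) (flp_c L188099) L193588
theorem L193594 : sm ge N17860 = N17497 := ded_36_1 (flp_g L190408) (flp_e L188101) L193588
theorem L193596 : sm ge N17250 = N17861 := rfl
theorem L193598 : sm ga N17861 = N17375 := ded_12_1 (flp_e L189322) (flp_a L188111) L193596
theorem L193600 : sm gb N17861 = N17454 := ded_19_1 (flp_e L190027) (flp_b L188113) L193596
theorem L193602 : sm gc N17861 = N17770 := ded_25_1 (flp_e L192638) (flp_c L188119) L193596
theorem L193604 : sm gg N17861 = N17252 := ded_36_2 (flp_e L188133) (flp_g L188117) L193596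
theorem L193606 : sm gh N17861 = N17258 := ded_37_2 (flp_e L188185) (flp_h L188121) L193596
theorem L193608 : sm ge N17251 = N17862 := rfl
theorem L193610 : sm ga N17862 = N17377 := ded_12_1 (flp_e L189336) (flp_a L188125) L193608
theorem L193612 : sm gb N17862 = N17763 := ded_19_1 (flp_e L192586) (flp_b L188127) L193608
theorem L193614 : sm gi N17862 = N17252 := ded_38_2 (flp_e L188133) (flp_i L188131) L193608
theorem L193616 : sm gd N17862 = N17854 := ded_30_1 (flp_e L193518) (flp_d L188035) (flp_e L182904) L188123 L193608
theorem L193618 : sm gf N17252 = N17863 := rfl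
theorem L193620 : sm ga N17863 = N17380 := ded_13_1 (flp_f L189358) (flp_a L188135) L193618
theorem L193622 : sm gh N17863 = N17260 := ded_40_2 (flp_f L188209) (flp_h L188137) L193618
theorem L193624 : sm ge N17863 = N17257 := ded_35_1 (flp_f L188179) (flp_e L182934) (flp_f L182914) L188133 L193618
theorem L193626 : sm ge N17253 = N17864 := rfl
theorem L193628 : sm ga N17864 = N17382 := ded_12_1 (flp_e L189370) (flp_a L188141) L193626
theorem L193630 : sm gc N17864 = N17254 := ded_25_1 (flp_e L188149) L188139 L193626
theorem L193632 : sm gg N17864 = N17283 := ded_36_2 (flp_e L188452) (flp_g L188143) L193626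
theorem L193634 : sm gi N17864 = N17256 := ded_38_2 (flp_e L188171) (flp_i L188145) L193626
theorem L193636 : sm gd N17864 = N17551 := ded_30_1 (flp_e L190905) L185579 (flp_e L183024) (flp_d L188147) L193626
theorem L193638 : sm gf N17254 = N17865 := rfl
theorem L193640 : sm ga N17865 = N17383 := ded_13_1 (flp_f L189376) (flp_a L188151) L193638
theorem L193642 : sm gd N17865 = N17270 := ded_31_1 (flp_f L188321) (flp_d L188157) L193638
theorem L193644 : sm gi N17865 = N17257 := ded_41_2 (flp_f L188179) (flp_i L188155) L193638
theorem L193646 : sm ga N17255 = N17866 := rfl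
theorem L193648 : sm gc N17866 = N17297 := ded_10_2 L188591 (flp_c L188169) L193646
theorem L193650 : sm gd N17866 = N17265 := ded_11_2 (flp_a L188255) (flp_d L188161) L193646
theorem L193652 : sm gf N17866 = N17299 := ded_13_2 L188615 (flp_f L188163) L193646
theorem L193654 : sm gg N17866 = N17613 := ded_14_2 L191404 (flp_g L188165) L193646
theorem L193656 : sm gh N17866 = N17261 := ded_15_2 (flp_a L188217) (flp_h L188167) L193646
theorem L193658 : sm gb N17866 = N17384 := ded_9_2 (flp_a L189380) (flp_b L184054) (flp_a L182928) L188159 L193646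
theorem L193660 : sm ge N17255 = N17867 := rfl
theorem L193662 : sm gb N17867 = N17256 := ded_19_1 (flp_e L188171) L188159 L193660
theorem L193664 : sm gc N17867 = N17627 := ded_25_1 (flp_e L191518) (flp_c L188169) L193660
theorem L193666 : sm gg N17867 = N17629 := ded_36_2 (flp_e L191538) (flp_g L188165) L193660
theorem L193668 : sm gh N17867 = N17262 := ded_37_2 (flp_e L188231) (flp_h L188167) L193660
theorem L193670 : sm gf N17256 = N17868 := rfl
theorem L193672 : sm ga N17868 = N17387 := ded_13_1 (flp_f L189400) (flp_a L188173) L193670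
theorem L193674 : sm gc N17868 = N17257 := ded_26_1 (flp_f L188179) (flp_c L188175) L193670
theorem L193676 : sm gh N17868 = N17263 := ded_40_2 (flp_f L188241) (flp_h L188177) L193670
theorem L193678 : sm gg N17257 = N17869 := rfl
theorem L193680 : sm ga N17869 = N17388 := ded_14_1 (flp_g L189406) (flp_a L188181) L193678
theorem L193682 : sm gh N17869 = N17264 := ded_42_2 (flp_g L188249) (flp_h L188183) L193678
theorem L193684 : sm gf N17258 = N17870 := rfl
theorem L193686 : sm ga N17870 = N17389 := ded_13_1 (flp_f L189410) (flp_a L188187) L193684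
theorem L193688 : sm gb N17870 = N17457 := ded_20_1 (flp_f L190055) (flp_b L188189) L193684
theorem L193690 : sm gc N17870 = N17786 := ded_26_1 (flp_f L192748) (flp_c L188191) L193684
theorem L193692 : sm gd N17870 = N17508 := ded_31_1 (flp_f L190506) (flp_d L188197) L193684
theorem L193694 : sm gi N17870 = N17492 := ded_41_2 (flp_f L190380) (flp_i L188195) L193684
theorem L193696 : sm ge N17870 = N17449 := ded_35_1 (flp_f L189979) (flp_e L184686) (flp_f L182946) L188185 L193684
theorem L193698 : sm gf N17259 = N17871 := rfl
theorem L193700 : sm ga N17871 = N17391 := ded_13_1 (flp_f L189424) (flp_a L188201) L193698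
theorem L193702 : sm gb N17871 = N17784 := ded_20_1 (flp_f L192740) (flp_b L188203) L193698
theorem L193704 : sm gc N17871 = N17260 := ded_26_1 (flp_f L188209) (flp_c L188205) L193698
theorem L193706 : sm ge N17871 = N17263 := ded_35_1 (flp_f L188241) (flp_e L182982) (flp_f L182958) L188199 L193698
theorem L193708 : sm gg N17260 = N17872 := rfl
theorem L193710 : sm ga N17872 = N17392 := ded_14_1 (flp_g L189430) (flp_a L188211) L193708
theorem L193712 : sm gd N17872 = N17510 := ded_32_1 (flp_g L190522) (flp_d L188213) L193708
theorem L193714 : sm ge N17872 = N17264 := ded_36_1 (flp_g L188249) (flp_e L188215) L193708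
theorem L193716 : sm ge N17261 = N17873 := rfl
theorem L193718 : sm ga N17873 = N17262 := ded_12_1 (flp_e L188231) L188217 L193716
theorem L193720 : sm gb N17873 = N17393 := ded_19_1 (flp_e L189436) (flp_b L188229) L193716
theorem L193722 : sm gc N17873 = N17301 := ded_25_1 (flp_e L188635) (flp_c L188219) L193716
theorem L193724 : sm gg N17873 = N17620 := ded_36_2 (flp_e L191466) (flp_g L188225) L193716
theorem L193726 : sm gi N17873 = N17369 := ded_38_2 (flp_e L189284) (flp_i L188227) L193716
theorem L193728 : sm gd N17873 = N17720 := ded_30_1 (flp_e L192246) L186897 (flp_e L183008) (flp_d L188221) L193716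
theorem L193730 : sm gf N17262 = N17874 := rfl
theorem L193732 : sm gb N17874 = N17263 := ded_20_1 (flp_f L188241) (flp_b L188233) L193730
theorem L193734 : sm gc N17874 = N17637 := ded_26_1 (flp_f L191610) (flp_c L188235) L193730
theorem L193736 : sm gd N17874 = N17721 := ded_31_1 (flp_f L192252) (flp_d L188239) L193730
theorem L193738 : sm ge N17874 = N17784 := ded_35_1 (flp_f L192740) (flp_e L187318) (flp_f L182976) L188231 L193730
theorem L193740 : sm gg N17263 = N17875 := rfl
theorem L193742 : sm ga N17875 = N17395 := ded_14_1 (flp_g L189448) (flp_a L188243) L193740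
theorem L193744 : sm gc N17875 = N17264 := ded_27_1 (flp_g L188249) (flp_c L188245) L193740
theorem L193746 : sm gd N17875 = N17722 := ded_32_1 (flp_g L192256) (flp_d L188247) L193740
theorem L193748 : sm gh N17266 = N17876 := rfl
theorem L193750 : sm ga N17876 = N17485 := ded_15_1 L190332 (flp_a L188269) L193748
theorem L193752 : sm gb N17876 = N17728 := ded_22_1 (flp_h L192319) (flp_b L188271) L193748
theorem L193754 : sm gc N17876 = N17306 := ded_28_1 L188695 (flp_c L188279) L193748
theorem L193756 : sm gf N17876 = N17477 := ded_40_1 L190251 (flp_f L188273) L193748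
theorem L193758 : sm gg N17876 = N17308 := ded_42_1 L188711 (flp_g L188275) L193748
theorem L193760 : sm gd N17876 = N17876 := ded_33_1 (flp_h L193748) (flp_d L188267) L183094 L188267 L193748
theorem L193761 : sm gf N17268 = N17877 := rfl
theorem L193763 : sm gb N17877 = N17415 := ded_20_1 (flp_f L189661) (flp_b L188297) L193761
theorem L193765 : sm gc N17877 = N17275 := ded_26_1 (flp_f L188377) (flp_c L188299) L193761
theorem L193767 : sm gd N17877 = N17855 := ded_31_1 (flp_f L193532) (flp_d L188305) L193761
theorem L193769 : sm gh N17877 = N17288 := ded_40_2 (flp_f L188494) (flp_h L188303) L193761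
theorem L193771 : sm ge N17877 = N17270 := ded_35_1 (flp_f L188321) (flp_e L183151) (flp_f L183127) L188295 L193761
theorem L193773 : sm gf N17269 = N17878 := rfl
theorem L193775 : sm ga N17878 = N17533 := ded_13_1 (flp_f L190740) (flp_a L188309) L193773
theorem L193777 : sm gb N17878 = N17270 := ded_20_1 (flp_f L188321) (flp_b L188311) L193773
theorem L193779 : sm gc N17878 = N17516 := ded_26_1 (flp_f L190584) (flp_c L188313) L193773
theorem L193781 : sm gh N17878 = N17289 := ded_40_2 (flp_f L188506) (flp_h L188317) L193773
theorem L193783 : sm gi N17878 = N17877 := ded_41_2 (flp_f L193761) (flp_i L188319) L193773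
theorem L193785 : sm ge N17878 = N17415 := ded_35_1 (flp_f L189661) (flp_e L184395) (flp_f L183141) L188307 L193773
theorem L193787 : sm gg N17270 = N17879 := rfl
theorem L193789 : sm gc N17879 = N17553 := ded_27_1 (flp_g L190921) (flp_c L188323) L193787
theorem L193791 : sm gh N17879 = N17295 := ded_42_2 (flp_g L188571) (flp_h L188325) L193787
theorem L193793 : sm gf N17879 = N17285 := ded_39_1 (flp_g L188462) (flp_f L183262) (flp_g L183155) L188321 L193787
theorem L193795 : sm ge N17271 = N17880 := rfl
theorem L193797 : sm ga N17880 = N17274 := ded_12_1 (flp_e L188367) (flp_a L188329) L193795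
theorem L193799 : sm gb N17880 = N17752 := ded_19_1 (flp_e L192521) (flp_b L188331) L193795
theorem L193801 : sm gc N17880 = N17500 := ded_25_1 (flp_e L190428) (flp_c L188339) L193795
theorem L193803 : sm gg N17880 = N17531 := ded_36_2 (flp_e L190718) (flp_g L188335) L193795
theorem L193805 : sm gh N17880 = N17605 := ded_37_2 (flp_e L191332) (flp_h L188341) L193795
theorem L193807 : sm gi N17880 = N17501 := ded_38_2 (flp_e L190438) (flp_i L188337) L193795
theorem L193809 : sm gd N17880 = N17272 := ded_30_1 (flp_e L188343) (flp_d L183175) (flp_e L183167) L188327 L193795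
theorem L193811 : sm gf N17272 = N17881 := rfl
theorem L193813 : sm ga N17881 = N17275 := ded_13_1 (flp_f L188377) (flp_a L188345) L193811
theorem L193815 : sm gh N17881 = N17296 := ded_40_2 (flp_f L188579) (flp_h L188349) L193811
theorem L193817 : sm ge N17881 = N17544 := ded_35_1 (flp_f L190834) (flp_e L185519) (flp_f L183179) L188343 L193811
theorem L193819 : sm ge N17273 = N17882 := rfl
theorem L193821 : sm ga N17882 = N17605 := ded_12_1 (flp_e L191332) (flp_a L188353) L193819
theorem L193823 : sm gb N17882 = N17278 := ded_19_1 (flp_e L188404) (flp_b L188355) L193819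
theorem L193825 : sm gc N17882 = N17596 := ded_25_1 (flp_e L191266) (flp_c L188363) L193819
theorem L193827 : sm gg N17882 = N17705 := ded_36_2 (flp_e L192122) (flp_g L188359) L193819
theorem L193829 : sm gh N17882 = N17274 := ded_37_2 (flp_e L188367) (flp_h L188365) L193819
theorem L193831 : sm gi N17882 = N17471 := ded_38_2 (flp_e L190183) (flp_i L188361) L193819
theorem L193833 : sm gd N17882 = N17300 := ded_30_1 (flp_e L188625) (flp_d L183418) (flp_e L183193) L188351 L193819
theorem L193835 : sm gf N17274 = N17883 := rfl
theorem L193837 : sm gb N17883 = N17284 := ded_20_1 (flp_f L188458) (flp_b L188369) L193835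
theorem L193839 : sm gc N17883 = N17645 := ded_26_1 (flp_f L191664) (flp_c L188371) L193835
theorem L193841 : sm gd N17883 = N17275 := ded_31_1 (flp_f L188377) (flp_d L188375) L193835
theorem L193843 : sm gi N17883 = N17646 := ded_41_2 (flp_f L191672) (flp_i L188373) L193835
theorem L193845 : sm ge N17883 = N17648 := ded_35_1 (flp_f L191690) (flp_e L186281) (flp_f L183205) L188367 L193835
theorem L193847 : sm gg N17275 = N17884 := rfl
theorem L193849 : sm gb N17884 = N17285 := ded_21_1 (flp_g L188462) (flp_b L188379) L193847
theorem L193851 : sm ge N17884 = N17553 := ded_36_1 (flp_g L190921) (flp_e L188383) L193847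
theorem L193853 : sm gh N17884 = N17304 := ded_42_2 (flp_g L188671) (flp_h L188381) L193847
theorem L193855 : sm gc N17276 = N17885 := rfl
theorem L193857 : sm ga N17885 = N17693 := ded_10_1 (flp_c L192050) (flp_a L188387) L193855
theorem L193859 : sm gf N17885 = N17277 := ded_26_2 (flp_c L188399) (flp_f L188391) L193855
theorem L193861 : sm gg N17885 = N17487 := ded_27_2 (flp_c L190343) (flp_g L188393) L193855
theorem L193863 : sm gh N17885 = N17280 := ded_28_2 (flp_c L188422) (flp_h L188397) L193855
theorem L193865 : sm gi N17885 = N17464 := ded_29_2 (flp_c L190116) (flp_i L188395) L193855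
theorem L193867 : sm gb N17885 = N17585 := ded_17_1 (flp_c L191177) L185814 (flp_c L184890) (flp_b L188389) L193855
theorem L193869 : sm gd N17885 = N17885 := ded_24_2 (flp_c L193855) (flp_d L188385) L183223 L188385 L193855
theorem L193870 : sm ge N17276 = N17886 := rfl
theorem L193872 : sm ga N17886 = N17694 := ded_12_1 (flp_e L192055) (flp_a L188387) L193870
theorem L193874 : sm gb N17886 = N17472 := ded_19_1 (flp_e L190191) (flp_b L188389) L193870
theorem L193876 : sm gg N17886 = N17488 := ded_36_2 (flp_e L190352) (flp_g L188393) L193870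
theorem L193878 : sm gh N17886 = N17281 := ded_37_2 (flp_e L188434) (flp_h L188397) L193870
theorem L193880 : sm gi N17886 = N17465 := ded_38_2 (flp_e L190127) (flp_i L188395) L193870
theorem L193882 : sm gb N17277 = N17887 := rfl
theorem L193884 : sm gd N17887 = N17887 := ded_18_2 (flp_b L193882) L188403 L193882
theorem L193885 : sm gf N17887 = N17585 := ded_20_2 (flp_b L193867) L193859 L193882
theorem L193887 : sm gh N17887 = N17282 := ded_22_2 (flp_b L188442) (flp_h L188401) L193882
theorem L193889 : sm gi N17887 = N17583 := ded_23_2 (flp_b L193088) L193086 L193882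
theorem L193891 : sm gc N17887 = N17582 := ded_17_2 L191154 (flp_c L188363) L188355 L188399 L193882
theorem L193893 : sm ge N17277 = N17888 := rfl
theorem L193895 : sm gc N17888 = N17278 := ded_25_1 (flp_e L188404) L188399 L193893
theorem L193897 : sm gh N17888 = N17283 := ded_37_2 (flp_e L188452) (flp_h L188401) L193893
theorem L193899 : sm gf N17278 = N17889 := rfl
theorem L193901 : sm gd N17889 = N17314 := ded_31_1 (flp_f L188744) (flp_d L188408) L193899
theorem L193903 : sm gh N17889 = N17284 := ded_40_2 (flp_f L188458) (flp_h L188406) L193899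
theorem L193905 : sm ge N17279 = N17890 := rfl
theorem L193907 : sm gb N17890 = N17455 := ded_19_1 (flp_e L190035) (flp_b L188412) L193905
theorem L193909 : sm gc N17890 = N17775 := ded_25_1 (flp_e L192684) (flp_c L188418) L193905
theorem L193911 : sm gg N17890 = N17281 := ded_36_2 (flp_e L188434) (flp_g L188414) L193905
theorem L193913 : sm gh N17890 = N17488 := ded_37_2 (flp_e L190352) (flp_h L188420) L193905
theorem L193915 : sm gi N17890 = N17448 := ded_38_2 (flp_e L189969) (flp_i L188416) L193905
theorem L193917 : sm gd N17890 = N17564 := ded_30_1 (flp_e L191015) (flp_d L185653) (flp_e L183240) L188410 L193905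
theorem L193919 : sm ge N17280 = N17891 := rfl
theorem L193921 : sm gb N17891 = N17631 := ded_19_1 (flp_e L191556) (flp_b L188430) L193919
theorem L193923 : sm gc N17891 = N17281 := ded_25_1 (flp_e L188434) L188422 L193919
theorem L193925 : sm gg N17891 = N17775 := ded_36_2 (flp_e L192684) (flp_g L188426) L193919
theorem L193927 : sm gi N17891 = N17633 := ded_38_2 (flp_e L191572) (flp_i L188428) L193919
theorem L193929 : sm gf N17281 = N17892 := rfl
theorem L193931 : sm gb N17892 = N17648 := ded_20_1 (flp_f L191690) (flp_b L188436) L193929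
theorem L193933 : sm gd N17892 = N17567 := ded_31_1 (flp_f L191033) (flp_d L188440) L193929
theorem L193935 : sm gi N17892 = N17650 := ded_41_2 (flp_f L191700) (flp_i L188438) L193929
theorem L193937 : sm ge N17892 = N17284 := ded_35_1 (flp_f L188458) (flp_e L183258) (flp_f L183250) L188434 L193929
theorem L193939 : sm ga N17282 = N17893 := rfl
theorem L193941 : sm gc N17893 = N17612 := ded_10_2 L191390 (flp_c L188450) L193939
theorem L193943 : sm gd N17893 = N17287 := ded_11_2 (flp_a L188483) (flp_d L188444) L193939
theorem L193945 : sm gf N17893 = N17615 := ded_13_2 L191420 (flp_f L188446) L193939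
theorem L193947 : sm gi N17893 = N17613 := ded_16_2 L191404 (flp_i L188448) L193939
theorem L193949 : sm ge N17282 = N17894 := rfl
theorem L193951 : sm gb N17894 = N17283 := ded_19_1 (flp_e L188452) L188442 L193949
theorem L193953 : sm gc N17894 = N17628 := ded_25_1 (flp_e L191528) (flp_c L188450) L193949
theorem L193955 : sm gi N17894 = N17629 := ded_38_2 (flp_e L191538) (flp_i L188448) L193949
theorem L193957 : sm gd N17894 = N17744 := ded_30_1 (flp_e L192446) L187072 (flp_e L183296) (flp_d L188444) L193949
theorem L193959 : sm gf N17283 = N17895 := rfl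
theorem L193961 : sm gc N17895 = N17284 := ded_26_1 (flp_f L188458) (flp_c L188454) L193959
theorem L193963 : sm gd N17895 = N17745 := ded_31_1 (flp_f L192452) (flp_d L188456) L193959
theorem L193965 : sm gg N17284 = N17896 := rfl
theorem L193967 : sm gd N17896 = N17285 := ded_32_1 (flp_g L188462) (flp_d L188460) L193965
theorem L193969 : sm gd N17286 = N17897 := rfl
theorem L193971 : sm gb N17897 = N17659 := ded_18_1 (flp_d L191766) (flp_b L188472) L193969
theorem L193973 : sm gf N17897 = N17748 := ded_31_2 (flp_d L192477) (flp_f L188481) L193969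
theorem L193975 : sm gg N17897 = N17794 := ded_32_2 (flp_d L192813) (flp_g L188476) L193969
theorem L193977 : sm gi N17897 = N17660 := ded_34_2 (flp_d L191776) (flp_i L188479) L193969
theorem L193979 : sm gc N17897 = N17573 := ded_24_1 (flp_d L191065) L185709 (flp_d L183290) (flp_c L188474) L193969
theorem L193981 : sm gg N17288 = N17898 := rfl
theorem L193983 : sm gb N17898 = N17416 := ded_21_1 (flp_g L189673) (flp_b L188496) L193981
theorem L193985 : sm gc N17898 = N17304 := ded_27_1 (flp_g L188671) (flp_c L188498) L193981
theorem L193987 : sm gd N17898 = N17414 := ded_32_1 (flp_g L189653) (flp_d L188500) L193981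
theorem L193989 : sm ge N17898 = N17295 := ded_36_1 (flp_g L188571) (flp_e L188504) L193981
theorem L193991 : sm gi N17898 = N17327 := ded_43_2 (flp_g L188871) (flp_i L188502) L193981
theorem L193993 : sm gf N17898 = N17520 := ded_39_1 (flp_g L190628) (flp_f L185319) (flp_g L183311) L188494 L193981
theorem L193995 : sm gg N17289 = N17899 := rfl
theorem L193997 : sm ga N17899 = N17536 := ded_14_1 (flp_g L190762) (flp_a L188508) L193995
theorem L193999 : sm gb N17899 = N17295 := ded_21_1 (flp_g L188571) (flp_b L188510) L193995
theorem L194001 : sm gc N17899 = N17520 := ded_27_1 (flp_g L190628) (flp_c L188512) L193995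
theorem L194003 : sm gd N17899 = N17719 := ded_32_1 (flp_g L192240) (flp_d L188514) L193995
theorem L194005 : sm ge N17899 = N17416 := ded_36_1 (flp_g L189673) (flp_e L188518) L193995
theorem L194007 : sm gi N17899 = N17334 := ded_43_2 (flp_g L188956) (flp_i L188516) L193995
theorem L194009 : sm gf N17899 = N17304 := ded_39_1 (flp_g L188671) (flp_f L183464) (flp_g L183325) L188506 L193995
theorem L194011 : sm gb N17290 = N17900 := rfl
theorem L194013 : sm gd N17900 = N17900 := ded_18_2 (flp_b L194011) L188528 L194011
theorem L194014 : sm gf N17900 = N17695 := ded_20_2 (flp_b L192063) (flp_f L188522) L194011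
theorem L194016 : sm gg N17900 = N17312 := ded_21_2 (flp_b L188731) (flp_g L188524) L194011
theorem L194018 : sm gh N17900 = N17292 := ded_22_2 (flp_b L188537) (flp_h L188526) L194011
theorem L194020 : sm gc N17900 = N17513 := ded_17_2 L190558 (flp_c L186829) (flp_b L183333) L188520 L194011
theorem L194022 : sm ga N17729 = N17900 := ded_15_3 L194018 (flp_a L188549) L192322
theorem L194024 : sm ge N17290 = N17901 := rfl
theorem L194026 : sm gc N17901 = N17291 := ded_25_1 (flp_e L188529) L188520 L194024
theorem L194028 : sm gg N17901 = N17313 := ded_36_2 (flp_e L188738) (flp_g L188524) L194024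
theorem L194030 : sm gh N17901 = N17293 := ded_37_2 (flp_e L188551) (flp_h L188526) L194024
theorem L194032 : sm gf N17291 = N17902 := rfl
theorem L194034 : sm gb N17902 = N17709 := ded_20_1 (flp_f L192158) (flp_b L188531) L194032
theorem L194036 : sm gh N17902 = N17294 := ded_40_2 (flp_f L188561) (flp_h L188535) L194032
theorem L194038 : sm ge N17902 = N17697 := ded_35_1 (flp_f L192076) (flp_e L186771) (flp_f L183335) L188529 L194032
theorem L194040 : sm ge N17292 = N17903 := rfl
theorem L194042 : sm ga N17903 = N17699 := ded_12_1 L192094 L188549 L194040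
theorem L194044 : sm gb N17903 = N17293 := ded_19_1 (flp_e L188551) L188537 L194040
theorem L194046 : sm gc N17903 = N17468 := ded_25_1 L190167 (flp_c L188547) L194040
theorem L194048 : sm gg N17903 = N17320 := ded_36_2 (flp_e L188802) (flp_g L188543) L194040
theorem L194050 : sm gi N17903 = N17346 := ded_38_2 (flp_e L189086) (flp_i L188545) L194040
theorem L194052 : sm gd N17903 = N17466 := ded_30_1 (flp_e L190137) L184844 (flp_e L183369) (flp_d L188539) L194040
theorem L194054 : sm gf N17293 = N17904 := rfl
theorem L194056 : sm gc N17904 = N17294 := ded_26_1 (flp_f L188561) (flp_c L188553) L194054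
theorem L194058 : sm gd N17904 = N17591 := ded_31_1 (flp_f L191224) (flp_d L188559) L194054
theorem L194060 : sm gi N17904 = N17347 := ded_41_2 (flp_f L189094) (flp_i L188557) L194054
theorem L194062 : sm ge N17904 = N17700 := ded_35_1 (flp_f L192096) (flp_e L186785) (flp_f L183343) L188551 L194054
theorem L194064 : sm gg N17294 = N17905 := rfl
theorem L194066 : sm gb N17905 = N17719 := ded_21_1 (flp_g L192240) (flp_b L188563) L194064
theorem L194068 : sm gd N17905 = N17295 := ded_32_1 (flp_g L188571) (flp_d L188565) L194064
theorem L194070 : sm ge N17905 = N17701 := ded_36_1 (flp_g L192100) (flp_e L188569) L194064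
theorem L194072 : sm gi N17905 = N17348 := ded_43_2 (flp_g L189100) (flp_i L188567) L194064
theorem L194074 : sm gf N17905 = N17322 := ded_39_1 (flp_g L188820) (flp_f L183564) (flp_g L183355) L188561 L194064
theorem L194076 : sm gg N17296 = N17906 := rfl
theorem L194078 : sm ga N17906 = N17304 := ded_14_1 (flp_g L188671) (flp_a L188581) L194076
theorem L194080 : sm gd N17906 = N17785 := ded_32_1 (flp_g L192744) (flp_d L188583) L194076
theorem L194082 : sm ge N17906 = N17580 := ded_36_1 (flp_g L191132) (flp_e L188587) L194076
theorem L194084 : sm gi N17906 = N17356 := ded_43_2 (flp_g L189177) (flp_i L188585) L194076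
theorem L194086 : sm gf N17906 = N17536 := ded_39_1 (flp_g L190762) (flp_f L185456) (flp_g L183386) L188579 L194076
theorem L194088 : sm ge N17297 = N17907 := rfl
theorem L194090 : sm ga N17907 = N17627 := ded_12_1 (flp_e L191518) (flp_a L188591) L194088
theorem L194092 : sm gb N17907 = N17309 := ded_19_1 (flp_e L188714) (flp_b L188593) L194088
theorem L194094 : sm gg N17907 = N17614 := ded_36_2 (flp_e L191412) (flp_g L188597) L194088
theorem L194096 : sm gh N17907 = N17301 := ded_37_2 (flp_e L188635) (flp_h L188599) L194088
theorem L194098 : sm gc N17298 = N17908 := rfl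
theorem L194100 : sm ga N17908 = N17602 := ded_10_1 (flp_c L191302) (flp_a L188603) L194098
theorem L194102 : sm gg N17908 = N17706 := ded_27_2 (flp_c L192132) (flp_g L188607) L194098
theorem L194104 : sm gh N17908 = N17362 := ded_28_2 (flp_c L189228) (flp_h L188611) L194098
theorem L194106 : sm gi N17908 = N17299 := ded_29_2 (flp_c L188613) (flp_i L188609) L194098
theorem L194108 : sm gd N17908 = N17417 := ded_24_2 L189691 (flp_d L185206) (flp_c L183410) L188601 L194098
theorem L194110 : sm gb N17514 = N17908 := ded_23_3 L194106 (flp_b L188623) L190566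
theorem L194112 : sm ge N17298 = N17909 := rfl
theorem L194114 : sm ga N17909 = N17603 := ded_12_1 (flp_e L191310) (flp_a L188603) L194112
theorem L194116 : sm gb N17909 = N17311 := ded_19_1 (flp_e L188725) (flp_b L188605) L194112
theorem L194118 : sm gg N17909 = N17707 := ded_36_2 (flp_e L192142) (flp_g L188607) L194112
theorem L194120 : sm gh N17909 = N17363 := ded_37_2 (flp_e L189233) (flp_h L188611) L194112
theorem L194122 : sm gi N17909 = N17300 := ded_38_2 (flp_e L188625) (flp_i L188609) L194112
theorem L194124 : sm gd N17909 = N17471 := ded_30_1 (flp_e L190183) (flp_d L184872) (flp_e L183412) L188601 L194112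
theorem L194126 : sm ge N17299 = N17910 := rfl
theorem L194128 : sm ga N17910 = N17765 := ded_12_1 (flp_e L192602) (flp_a L188615) L194126
theorem L194130 : sm gb N17910 = N17496 := ded_19_1 L190406 L188623 L194126
theorem L194132 : sm gc N17910 = N17300 := ded_25_1 (flp_e L188625) L188613 L194126
theorem L194134 : sm gg N17910 = N17708 := ded_36_2 (flp_e L192148) (flp_g L188617) L194126
theorem L194136 : sm gh N17910 = N17302 := ded_37_2 (flp_e L188647) (flp_h L188619) L194126
theorem L194138 : sm gd N17910 = N17859 := ded_30_1 L193584 L188293 (flp_e L184437) (flp_d L188621) L194126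
theorem L194140 : sm gf N17300 = N17911 := rfl
theorem L194142 : sm ga N17911 = N17766 := ded_13_1 (flp_f L192610) (flp_a L188627) L194140
theorem L194144 : sm gb N17911 = N17314 := ded_20_1 (flp_f L188744) (flp_b L188629) L194140
theorem L194146 : sm gh N17911 = N17303 := ded_40_2 (flp_f L188661) (flp_h L188633) L194140
theorem L194148 : sm gf N17301 = N17912 := rfl
theorem L194150 : sm ga N17912 = N17637 := ded_13_1 (flp_f L191610) (flp_a L188637) L194148
theorem L194152 : sm gb N17912 = N17318 := ded_20_1 (flp_f L188780) (flp_b L188639) L194148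
theorem L194154 : sm gd N17912 = N17590 := ded_31_1 (flp_f L191216) (flp_d L188645) L194148
theorem L194156 : sm gi N17912 = N17370 := ded_41_2 (flp_f L189288) (flp_i L188643) L194148
theorem L194158 : sm ge N17912 = N17303 := ded_35_1 (flp_f L188661) (flp_e L183452) (flp_f L183434) L188635 L194148
theorem L194160 : sm gf N17302 = N17913 := rfl
theorem L194162 : sm ga N17913 = N17784 := ded_13_1 (flp_f L192740) (flp_a L188649) L194160
theorem L194164 : sm gb N17913 = N17495 := ded_20_1 (flp_f L190400) (flp_b L188651) L194160
theorem L194166 : sm gc N17913 = N17303 := ded_26_1 (flp_f L188661) (flp_c L188653) L194160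
theorem L194168 : sm gd N17913 = N17413 := ded_31_1 (flp_f L189643) (flp_d L188659) L194160
theorem L194170 : sm gi N17913 = N17372 := ded_41_2 (flp_f L189306) (flp_i L188657) L194160
theorem L194172 : sm gg N17303 = N17914 := rfl
theorem L194174 : sm ga N17914 = N17785 := ded_14_1 (flp_g L192744) (flp_a L188663) L194172
theorem L194176 : sm gb N17914 = N17322 := ded_21_1 (flp_g L188820) (flp_b L188665) L194172
theorem L194178 : sm gd N17914 = N17304 := ded_32_1 (flp_g L188671) (flp_d L188667) L194172
theorem L194180 : sm gi N17914 = N17373 := ded_43_2 (flp_g L189310) (flp_i L188669) L194172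
theorem L194182 : sm gf N17914 = N17719 := ded_39_1 (flp_g L192240) (flp_f L186889) (flp_g L183458) L188661 L194172
theorem L194184 : sm gc N17305 = N17915 := rfl
theorem L194186 : sm gh N17915 = N17593 := ded_28_2 (flp_c L191240) (flp_h L188681) L194184
theorem L194188 : sm gi N17915 = N17876 := ded_29_2 L193754 L188693 L194184
theorem L194190 : sm gd N17915 = N17915 := ded_24_2 (flp_c L194184) (flp_d L188679) L183474 L188679 L194184
theorem L194191 : sm ge N17305 = N17916 := rfl
theorem L194193 : sm gh N17916 = N17594 := ded_37_2 (flp_e L191248) (flp_h L188681) L194191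
theorem L194195 : sm gd N17916 = N17309 := ded_30_1 (flp_e L188714) (flp_d L183501) (flp_e L183475) L188679 L194191
theorem L194197 : sm ge N17306 = N17917 := rfl
theorem L194199 : sm ga N17917 = N17486 := ded_12_1 (flp_e L190337) (flp_a L188685) L194197
theorem L194201 : sm gb N17917 = N17614 := ded_19_1 (flp_e L191412) (flp_b L188687) L194197
theorem L194203 : sm gg N17917 = N17309 := ded_36_2 (flp_e L188714) (flp_g L188691) L194197
theorem L194205 : sm gh N17917 = N17315 := ded_37_2 (flp_e L188748) (flp_h L188695) L194197
theorem L194207 : sm gi N17917 = N17916 := ded_38_2 (flp_e L194191) (flp_i L188693) L194197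
theorem L194209 : sm gc N17307 = N17918 := rfl
theorem L194211 : sm gf N17918 = N17310 := ded_26_2 (flp_c L188718) (flp_f L188699) L194209
theorem L194213 : sm gg N17918 = N17915 := ded_27_2 (flp_c L194184) (flp_g L188701) L194209
theorem L194215 : sm gh N17918 = N17376 := ded_28_2 (flp_c L189328) (flp_h L188705) L194209
theorem L194217 : sm gi N17918 = N17308 := ded_29_2 (flp_c L188707) (flp_i L188703) L194209
theorem L194219 : sm gd N17918 = N17918 := ded_24_2 (flp_c L194209) (flp_d L188697) L183492 L188697 L194209
theorem L194220 : sm ge N17307 = N17919 := rfl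
theorem L194222 : sm gg N17919 = N17916 := ded_36_2 (flp_e L194191) (flp_g L188701) L194220
theorem L194224 : sm gh N17919 = N17377 := ded_37_2 (flp_e L189336) (flp_h L188705) L194220
theorem L194226 : sm gi N17919 = N17309 := ded_38_2 (flp_e L188714) (flp_i L188703) L194220
theorem L194228 : sm gd N17919 = N17917 := ded_30_1 (flp_e L194197) (flp_d L188683) (flp_e L183493) L188697 L194220
theorem L194230 : sm gb N17308 = N17920 := rfl
theorem L194232 : sm gd N17920 = N17920 := ded_18_2 (flp_b L194230) L188713 L194230
theorem L194233 : sm gf N17920 = N17312 := ded_20_2 (flp_b L188731) (flp_f L188709) L194230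
theorem L194235 : sm gg N17920 = N17728 := ded_21_2 (flp_b L193752) L193758 L194230
theorem L194237 : sm gh N17920 = N17316 := ded_22_2 (flp_b L188760) (flp_h L188711) L194230
theorem L194239 : sm ga N17920 = N17364 := ded_9_1 (flp_b L189239) (flp_a L189132) (flp_b L193239) L193231 L194230
theorem L194241 : sm gc N17920 = N17384 := ded_17_2 (flp_b L193658) L193648 L188593 L188707 L194230
theorem L194243 : sm ge N17308 = N17921 := rfl
theorem L194245 : sm gc N17921 = N17309 := ded_25_1 (flp_e L188714) L188707 L194243
theorem L194247 : sm gh N17921 = N17317 := ded_37_2 (flp_e L188774) (flp_h L188711) L194243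
theorem L194249 : sm gf N17309 = N17922 := rfl
theorem L194251 : sm gh N17922 = N17318 := ded_40_2 (flp_f L188780) (flp_h L188716) L194249
theorem L194253 : sm ge N17922 = N17314 := ded_35_1 (flp_f L188744) (flp_e L183518) (flp_f L183503) L188714 L194249
theorem L194255 : sm gb N17310 = N17923 := rfl
theorem L194257 : sm gd N17923 = N17923 := ded_18_2 (flp_b L194255) L188724 L194255
theorem L194258 : sm gh N17923 = N17381 := ded_22_2 (flp_b L189364) (flp_h L188720) L194255
theorem L194260 : sm gi N17923 = N17312 := ded_23_2 (flp_b L188731) (flp_i L188722) L194255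
theorem L194262 : sm gc N17923 = N17514 := ded_17_2 L194110 (flp_c L194098) L188605 L188718 L194255
theorem L194264 : sm ge N17310 = N17924 := rfl
theorem L194266 : sm gc N17924 = N17311 := ded_25_1 (flp_e L188725) L188718 L194264
theorem L194268 : sm gh N17924 = N17382 := ded_37_2 (flp_e L189370) (flp_h L188720) L194264
theorem L194270 : sm gi N17924 = N17313 := ded_38_2 (flp_e L188738) (flp_i L188722) L194264
theorem L194272 : sm gf N17311 = N17925 := rfl
theorem L194274 : sm gh N17925 = N17383 := ded_40_2 (flp_f L189376) (flp_h L188727) L194272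
theorem L194276 : sm gi N17925 = N17314 := ded_41_2 (flp_f L188744) (flp_i L188729) L194272
theorem L194278 : sm ga N17312 = N17926 := rfl
theorem L194280 : sm gc N17926 = N17378 := ded_10_2 L189350 (flp_c L188736) L194278
theorem L194282 : sm gd N17926 = N17926 := ded_11_2 (flp_a L194278) L188733 L194278
theorem L194283 : sm gf N17926 = N17364 := ded_13_2 (flp_a L194239) L194233 L194278
theorem L194285 : sm gg N17926 = N17729 := ded_14_2 L194022 L194016 L194278
theorem L194287 : sm gh N17926 = N17319 := ded_15_2 (flp_a L188788) (flp_h L188734) L194278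
theorem L194289 : sm gb N17926 = N17360 := ded_9_2 L193288 (flp_b L193277) L187800 L188731 L194278
theorem L194291 : sm ge N17312 = N17927 := rfl
theorem L194293 : sm gb N17927 = N17313 := ded_19_1 (flp_e L188738) L188731 L194291
theorem L194295 : sm gc N17927 = N17496 := ded_25_1 L190406 (flp_c L188736) L194291
theorem L194297 : sm gh N17927 = N17320 := ded_37_2 (flp_e L188802) (flp_h L188734) L194291
theorem L194299 : sm gd N17313 = N17928 := rfl
theorem L194301 : sm ge N17928 = N17928 := ded_30_2 (flp_d L194299) (flp_e L188738) L183517 L188738 L194299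
theorem L194302 : sm gh N17928 = N17757 := ded_33_2 (flp_d L192553) L187180 (flp_d L183562) (flp_h L188742) L194299
theorem L194304 : sm gf N17313 = N17929 := rfl
theorem L194306 : sm gc N17929 = N17314 := ded_26_1 (flp_f L188744) (flp_c L188740) L194304
theorem L194308 : sm gh N17929 = N17321 := ded_40_2 (flp_f L188812) (flp_h L188742) L194304
theorem L194310 : sm gg N17314 = N17930 := rfl
theorem L194312 : sm gh N17930 = N17322 := ded_42_2 (flp_g L188820) (flp_h L188746) L194310
theorem L194314 : sm gf N17315 = N17931 := rfl
theorem L194316 : sm ga N17931 = N17492 := ded_13_1 (flp_f L190380) (flp_a L188750) L194314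
theorem L194318 : sm gb N17931 = N17621 := ded_20_1 (flp_f L191472) (flp_b L188752) L194314
theorem L194320 : sm gd N17931 = N17600 := ded_31_1 (flp_f L191292) (flp_d L188758) L194314
theorem L194322 : sm gi N17931 = N17389 := ded_41_2 (flp_f L189410) (flp_i L188756) L194314
theorem L194324 : sm ge N17931 = N17480 := ded_35_1 (flp_f L190276) (flp_e L184963) (flp_f L183528) L188748 L194314
theorem L194326 : sm ge N17316 = N17932 := rfl
theorem L194328 : sm ga N17932 = N17371 := ded_12_1 (flp_e L189296) (flp_a L188770) L194326
theorem L194330 : sm gb N17932 = N17317 := ded_19_1 (flp_e L188774) L188760 L194326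
theorem L194332 : sm gc N17932 = N17393 := ded_25_1 (flp_e L189436) (flp_c L188772) L194326
theorem L194334 : sm gg N17932 = N17682 := ded_36_2 L191978 (flp_g L188766) L194326
theorem L194336 : sm gi N17932 = N17390 := ded_38_2 (flp_e L189414) (flp_i L188768) L194326
theorem L194338 : sm gd N17932 = N17446 := ded_30_1 (flp_e L189951) L184664 (flp_e L183580) (flp_d L188762) L194326
theorem L194340 : sm gf N17317 = N17933 := rfl
theorem L194342 : sm gc N17933 = N17318 := ded_26_1 (flp_f L188780) (flp_c L188776) L194340
theorem L194344 : sm gi N17933 = N17391 := ded_41_2 (flp_f L189424) (flp_i L188778) L194340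
theorem L194346 : sm ge N17933 = N17321 := ded_35_1 (flp_f L188812) (flp_e L183556) (flp_f L183536) L188774 L194340
theorem L194348 : sm gg N17318 = N17934 := rfl
theorem L194350 : sm gd N17934 = N17601 := ded_32_1 (flp_g L191296) (flp_d L188782) L194348
theorem L194352 : sm ge N17934 = N17322 := ded_36_1 (flp_g L188820) (flp_e L188786) L194348
theorem L194354 : sm gi N17934 = N17392 := ded_43_2 (flp_g L189430) (flp_i L188784) L194348
theorem L194356 : sm ge N17319 = N17935 := rfl
theorem L194358 : sm ga N17935 = N17320 := ded_12_1 (flp_e L188802) L188788 L194356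
theorem L194360 : sm gb N17935 = N17369 := ded_19_1 (flp_e L189284) (flp_b L188800) L194356
theorem L194362 : sm gc N17935 = N17390 := ded_25_1 (flp_e L189414) (flp_c L188790) L194356
theorem L194364 : sm gg N17935 = N17699 := ded_36_2 L192094 (flp_g L188796) L194356
theorem L194366 : sm gi N17935 = N17393 := ded_38_2 (flp_e L189436) (flp_i L188798) L194356
theorem L194368 : sm gd N17935 = N17479 := ded_30_1 (flp_e L190266) L184961 (flp_e L183597) (flp_d L188792) L194356
theorem L194370 : sm gf N17320 = N17936 := rfl
theorem L194372 : sm gb N17936 = N17321 := ded_20_1 (flp_f L188812) (flp_b L188804) L194370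
theorem L194374 : sm gc N17936 = N17495 := ded_26_1 (flp_f L190400) (flp_c L188806) L194370
theorem L194376 : sm gd N17936 = N17493 := ded_31_1 (flp_f L190386) (flp_d L188810) L194370
theorem L194378 : sm gi N17936 = N17394 := ded_41_2 (flp_f L189442) (flp_i L188808) L194370
theorem L194380 : sm gg N17321 = N17937 := rfl
theorem L194382 : sm gc N17937 = N17322 := ded_27_1 (flp_g L188820) (flp_c L188814) L194380
theorem L194384 : sm gd N17937 = N17762 := ded_32_1 (flp_g L192580) (flp_d L188816) L194380
theorem L194386 : sm gi N17937 = N17395 := ded_43_2 (flp_g L189448) (flp_i L188818) L194380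
theorem L194388 : sm ge N17323 = N17938 := rfl
theorem L194390 : sm gb N17938 = N17429 := ded_19_1 (flp_e L189803) (flp_b L188836) L194388
theorem L194392 : sm gc N17938 = N17324 := ded_25_1 (flp_e L188839) L188826 L194388
theorem L194394 : sm gg N17938 = N17525 := ded_36_2 (flp_e L190682) (flp_g L188830) L194388
theorem L194396 : sm gh N17938 = N17325 := ded_37_2 (flp_e L188849) (flp_h L188832) L194388
theorem L194398 : sm gi N17938 = N17801 := ded_38_2 (flp_e L192890) (flp_i L188834) L194388
theorem L194400 : sm gf N17324 = N17939 := rfl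
theorem L194402 : sm gb N17939 = N17406 := ded_20_1 (flp_f L189553) (flp_b L188841) L194400
theorem L194404 : sm gh N17939 = N17326 := ded_40_2 (flp_f L188861) (flp_h L188845) L194400
theorem L194406 : sm gi N17939 = N17802 := ded_41_2 (flp_f L192898) (flp_i L188847) L194400
theorem L194408 : sm ge N17939 = N17670 := ded_35_1 (flp_f L191870) (flp_e L186622) (flp_f L183612) L188839 L194400
theorem L194410 : sm gf N17325 = N17940 := rfl
theorem L194412 : sm gb N17940 = N17450 := ded_20_1 (flp_f L189989) (flp_b L188851) L194410
theorem L194414 : sm gc N17940 = N17326 := ded_26_1 (flp_f L188861) (flp_c L188853) L194410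
theorem L194416 : sm gd N17940 = N17372 := ded_31_1 (flp_f L189306) (flp_d L188859) L194410
theorem L194418 : sm gi N17940 = N17413 := ded_41_2 (flp_f L189643) (flp_i L188857) L194410
theorem L194420 : sm ge N17940 = N17683 := ded_35_1 (flp_f L191980) (flp_e L186699) (flp_f L183622) L188849 L194410
theorem L194422 : sm gg N17326 = N17941 := rfl
theorem L194424 : sm gb N17941 = N17407 := ded_21_1 (flp_g L189567) (flp_b L188863) L194422
theorem L194426 : sm gd N17941 = N17327 := ded_32_1 (flp_g L188871) (flp_d L188865) L194422
theorem L194428 : sm ge N17941 = N17684 := ded_36_1 (flp_g L191986) (flp_e L188869) L194422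
theorem L194430 : sm gi N17941 = N17414 := ded_43_2 (flp_g L189653) (flp_i L188867) L194422
theorem L194432 : sm gf N17941 = N17530 := ded_39_1 (flp_g L190712) (flp_f L185396) (flp_g L183636) L188861 L194422
theorem L194434 : sm gg N17328 = N17942 := rfl
theorem L194436 : sm ga N17942 = N17334 := ded_14_1 (flp_g L188956) (flp_a L188883) L194434
theorem L194438 : sm gc N17942 = N17463 := ded_27_1 (flp_g L190108) (flp_c L188885) L194434
theorem L194440 : sm gd N17942 = N17761 := ded_32_1 (flp_g L192574) (flp_d L188887) L194434
theorem L194442 : sm ge N17942 = N17410 := ded_36_1 (flp_g L189607) (flp_e L188893) L194434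
theorem L194444 : sm gh N17942 = N17844 := ded_42_2 (flp_g L193402) (flp_h L188889) L194434
theorem L194446 : sm gi N17942 = N17536 := ded_43_2 (flp_g L190762) (flp_i L188891) L194434
theorem L194448 : sm gf N17942 = N17356 := ded_39_1 (flp_g L189177) (flp_f L183902) (flp_g L183656) L188881 L194434
theorem L194450 : sm gb N17329 = N17943 := rfl
theorem L194452 : sm gd N17943 = N17943 := ded_18_2 (flp_b L194450) L188905 L194450
theorem L194453 : sm gf N17943 = N17687 := ded_20_2 (flp_b L192009) (flp_f L188899) L194450
theorem L194455 : sm gg N17943 = N17364 := ded_21_2 (flp_b L189239) (flp_g L188901) L194450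
theorem L194457 : sm gh N17943 = N17331 := ded_22_2 (flp_b L188918) (flp_h L188903) L194450
theorem L194459 : sm ga N17943 = N17728 := ded_9_1 (flp_b L193752) L193750 L190334 (flp_a L188897) L194450
theorem L194461 : sm gc N17943 = N17338 := ded_17_2 (flp_b L189002) (flp_c L183732) (flp_b L183668) L188895 L194450
theorem L194463 : sm ge N17329 = N17944 := rfl
theorem L194465 : sm ga N17944 = N17753 := ded_12_1 (flp_e L192527) (flp_a L188897) L194463
theorem L194467 : sm gc N17944 = N17330 := ded_25_1 (flp_e L188906) L188895 L194463
theorem L194469 : sm gg N17944 = N17365 := ded_36_2 (flp_e L189246) (flp_g L188901) L194463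
theorem L194471 : sm gh N17944 = N17332 := ded_37_2 (flp_e L188932) (flp_h L188903) L194463
theorem L194473 : sm gf N17330 = N17945 := rfl
theorem L194475 : sm ga N17945 = N17754 := ded_13_1 (flp_f L192533) (flp_a L188908) L194473
theorem L194477 : sm gb N17945 = N17340 := ded_20_1 (flp_f L189018) (flp_b L188910) L194473
theorem L194479 : sm gd N17945 = N17939 := ded_31_1 (flp_f L194400) (flp_d L188916) L194473
theorem L194481 : sm gh N17945 = N17333 := ded_40_2 (flp_f L188944) (flp_h L188914) L194473
theorem L194483 : sm ge N17945 = N17689 := ded_35_1 (flp_f L192022) (flp_e L186726) (flp_f L183670) L188906 L194473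
theorem L194485 : sm ge N17331 = N17946 := rfl
theorem L194487 : sm ga N17946 = N17682 := ded_12_1 L191978 (flp_a L188928) L194485
theorem L194489 : sm gb N17946 = N17332 := ded_19_1 (flp_e L188932) L188918 L194485
theorem L194491 : sm gc N17946 = N17346 := ded_25_1 (flp_e L189086) (flp_c L188930) L194485
theorem L194493 : sm gg N17946 = N17371 := ded_36_2 (flp_e L189296) (flp_g L188924) L194485
theorem L194495 : sm gi N17946 = N17468 := ded_38_2 L190167 (flp_i L188926) L194485
theorem L194497 : sm gd N17946 = N17443 := ded_30_1 (flp_e L189917) L184632 (flp_e L184240) (flp_d L188920) L194485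
theorem L194499 : sm gf N17332 = N17947 := rfl
theorem L194501 : sm ga N17947 = N17760 := ded_13_1 (flp_f L192566) (flp_a L188934) L194499
theorem L194503 : sm gc N17947 = N17333 := ded_26_1 (flp_f L188944) (flp_c L188936) L194499
theorem L194505 : sm gd N17947 = N17529 := ded_31_1 (flp_f L190708) (flp_d L188942) L194499
theorem L194507 : sm gi N17947 = N17718 := ded_41_2 (flp_f L192232) (flp_i L188940) L194499
theorem L194509 : sm ge N17947 = N17691 := ded_35_1 (flp_f L192034) (flp_e L186738) (flp_f L183680) L188932 L194499
theorem L194511 : sm gg N17333 = N17948 := rfl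
theorem L194513 : sm ga N17948 = N17761 := ded_14_1 (flp_g L192574) (flp_a L188946) L194511
theorem L194515 : sm gb N17948 = N17348 := ded_21_1 (flp_g L189100) (flp_b L188948) L194511
theorem L194517 : sm gd N17948 = N17334 := ded_32_1 (flp_g L188956) (flp_d L188950) L194511
theorem L194519 : sm ge N17948 = N17692 := ded_36_1 (flp_g L192042) (flp_e L188954) L194511
theorem L194521 : sm gi N17948 = N17719 := ded_43_2 (flp_g L192240) (flp_i L188952) L194511
theorem L194523 : sm gf N17948 = N17373 := ded_39_1 (flp_g L189310) (flp_f L184004) (flp_g L183694) L188944 L194511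
theorem L194525 : sm ge N17335 = N17949 := rfl
theorem L194527 : sm ga N17949 = N17448 := ded_12_1 (flp_e L189969) (flp_a L188970) L194525
theorem L194529 : sm gb N17949 = N17576 := ded_19_1 (flp_e L191092) (flp_b L188972) L194525
theorem L194531 : sm gc N17949 = N17779 := ded_25_1 (flp_e L192710) (flp_c L188978) L194525
theorem L194533 : sm gg N17949 = N17337 := ded_36_2 (flp_e L188994) (flp_g L188976) L194525
theorem L194535 : sm gh N17949 = N17341 := ded_37_2 (flp_e L189022) (flp_h L188980) L194525
theorem L194537 : sm gb N17336 = N17950 := rfl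
theorem L194539 : sm gd N17950 = N17396 := ded_18_2 (flp_b L189454) (flp_d L188992) L194537
theorem L194541 : sm gf N17950 = N17338 := ded_20_2 (flp_b L189002) (flp_f L188986) L194537
theorem L194543 : sm gg N17950 = N17713 := ded_21_2 L192196 (flp_g L188988) L194537
theorem L194545 : sm gh N17950 = N17342 := ded_22_2 (flp_b L189036) (flp_h L188990) L194537
theorem L194547 : sm ga N17950 = N17617 := ded_9_1 (flp_b L191438) L186049 L186169 (flp_a L188984) L194537
theorem L194549 : sm gc N17950 = N17687 := ded_17_2 (flp_b L192009) (flp_c L186719) (flp_b L183726) L188982 L194537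
theorem L194551 : sm ge N17336 = N17951 := rfl
theorem L194553 : sm ga N17951 = N17633 := ded_12_1 (flp_e L191572) (flp_a L188984) L194551
theorem L194555 : sm gc N17951 = N17337 := ded_25_1 (flp_e L188994) L188982 L194551
theorem L194557 : sm gg N17951 = N17779 := ded_36_2 (flp_e L192710) (flp_g L188988) L194551
theorem L194559 : sm gh N17951 = N17343 := ded_37_2 (flp_e L189050) (flp_h L188990) L194551
theorem L194561 : sm gf N17337 = N17952 := rfl
theorem L194563 : sm ga N17952 = N17650 := ded_13_1 (flp_f L191700) (flp_a L188996) L194561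
theorem L194565 : sm gb N17952 = N17689 := ded_20_1 (flp_f L192022) (flp_b L188998) L194561
theorem L194567 : sm gh N17952 = N17344 := ded_40_2 (flp_f L189060) (flp_h L189000) L194561
theorem L194569 : sm ge N17952 = N17340 := ded_35_1 (flp_f L189018) (flp_e L183740) (flp_f L183728) L188994 L194561
theorem L194571 : sm ga N17338 = N17953 := rfl
theorem L194573 : sm gc N17953 = N17728 := ded_10_2 (flp_a L194459) L194461 L194571
theorem L194575 : sm gd N17953 = N17398 := ded_11_2 (flp_a L189475) (flp_d L189004) L194571
theorem L194577 : sm gf N17953 = N17617 := ded_13_2 (flp_a L194547) L194541 L194571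
theorem L194579 : sm gg N17953 = N17384 := ded_14_2 (flp_a L189380) (flp_g L189006) L194571
theorem L194581 : sm gh N17953 = N17345 := ded_15_2 (flp_a L189072) (flp_h L189008) L194571
theorem L194583 : sm gb N17953 = N17613 := ded_9_2 L191404 L186141 L185287 L189002 L194571
theorem L194585 : sm ge N17338 = N17954 := rfl
theorem L194587 : sm gb N17954 = N17339 := ded_19_1 (flp_e L189010) L189002 L194585
theorem L194589 : sm gg N17954 = N17385 := ded_36_2 (flp_e L189388) (flp_g L189006) L194585
theorem L194591 : sm gh N17954 = N17346 := ded_37_2 (flp_e L189086) (flp_h L189008) L194585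
theorem L194593 : sm gf N17339 = N17955 := rfl
theorem L194595 : sm gc N17955 = N17340 := ded_26_1 (flp_f L189018) (flp_c L189012) L194593
theorem L194597 : sm gh N17955 = N17347 := ded_40_2 (flp_f L189094) (flp_h L189016) L194593
theorem L194599 : sm gg N17340 = N17956 := rfl
theorem L194601 : sm gh N17956 = N17348 := ded_42_2 (flp_g L189100) (flp_h L189020) L194599
theorem L194603 : sm gf N17956 = N17388 := ded_39_1 (flp_g L189406) (flp_f L184066) (flp_g L183742) L189018 L194599
theorem L194605 : sm gf N17341 = N17957 := rfl
theorem L194607 : sm ga N17957 = N17449 := ded_13_1 (flp_f L189979) (flp_a L189024) L194605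
theorem L194609 : sm gb N17957 = N17579 := ded_20_1 (flp_f L191124) (flp_b L189026) L194605
theorem L194611 : sm gc N17957 = N17790 := ded_26_1 (flp_f L192780) (flp_c L189028) L194605
theorem L194613 : sm gd N17957 = N17447 := ded_31_1 (flp_f L189961) (flp_d L189034) L194605
theorem L194615 : sm gi N17957 = N17480 := ded_41_2 (flp_f L190276) (flp_i L189032) L194605
theorem L194617 : sm ge N17957 = N17389 := ded_35_1 (flp_f L189410) (flp_e L184070) (flp_f L183752) L189022 L194605
theorem L194619 : sm ge N17342 = N17958 := rfl
theorem L194621 : sm ga N17958 = N17622 := ded_12_1 (flp_e L191478) (flp_a L189046) L194619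
theorem L194623 : sm gb N17958 = N17343 := ded_19_1 (flp_e L189050) L189036 L194619
theorem L194625 : sm gc N17958 = N17690 := ded_25_1 (flp_e L192028) (flp_c L189048) L194619
theorem L194627 : sm gg N17958 = N17720 := ded_36_2 (flp_e L192246) (flp_g L189042) L194619
theorem L194629 : sm gi N17958 = N17698 := ded_38_2 (flp_e L192084) (flp_i L189044) L194619
theorem L194631 : sm gd N17958 = N17620 := ded_30_1 (flp_e L191466) L186073 L183820 (flp_d L189038) L194619
theorem L194633 : sm gd N17343 = N17959 := rfl
theorem L194635 : sm ga N17959 = N17346 := ded_11_1 L189092 (flp_a L189052) L194633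
theorem L194637 : sm gb N17959 = N17620 := ded_18_1 (flp_d L194631) L194623 L194633
theorem L194639 : sm gg N17959 = N17393 := ded_32_2 L189440 (flp_g L189056) L194633
theorem L194641 : sm gi N17959 = N17699 := ded_34_2 (flp_d L192090) (flp_i L189058) L194633
theorem L194643 : sm gc N17959 = N17682 := ded_24_1 (flp_d L191974) L186701 (flp_d L183780) (flp_c L189054) L194633
theorem L194645 : sm ge N17959 = N17345 := ded_30_2 L189076 (flp_e L183822) (flp_d L183770) L189050 L194633
theorem L194647 : sm gf N17343 = N17960 := rfl
theorem L194649 : sm ga N17960 = N17640 := ded_13_1 (flp_f L191628) (flp_a L189052) L194647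
theorem L194651 : sm gc N17960 = N17344 := ded_26_1 (flp_f L189060) (flp_c L189054) L194647
theorem L194653 : sm gi N17960 = N17700 := ded_41_2 (flp_f L192096) (flp_i L189058) L194647
theorem L194655 : sm ge N17960 = N17347 := ded_35_1 (flp_f L189094) (flp_e L183788) (flp_f L183764) L189050 L194647
theorem L194657 : sm gg N17344 = N17961 := rfl
theorem L194659 : sm ga N17961 = N17655 := ded_14_1 (flp_g L191730) (flp_a L189062) L194657
theorem L194661 : sm gb N17961 = N17692 := ded_21_1 (flp_g L192042) (flp_b L189064) L194657
theorem L194663 : sm gd N17961 = N17684 := ded_32_1 (flp_g L191986) (flp_d L189066) L194657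
theorem L194665 : sm ge N17961 = N17348 := ded_36_1 (flp_g L189100) (flp_e L189070) L194657
theorem L194667 : sm gi N17961 = N17701 := ded_43_2 (flp_g L192100) (flp_i L189068) L194657
theorem L194669 : sm gf N17346 = N17962 := rfl
theorem L194671 : sm gb N17962 = N17347 := ded_20_1 (flp_f L189094) (flp_b L189088) L194669
theorem L194673 : sm gd N17962 = N17640 := ded_31_1 (flp_f L191628) (flp_d L189092) L194669
theorem L194675 : sm gg N17347 = N17963 := rfl
theorem L194677 : sm gc N17963 = N17348 := ded_27_1 (flp_g L189100) (flp_c L189096) L194675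
theorem L194679 : sm gd N17963 = N17641 := ded_32_1 (flp_g L191634) (flp_d L189098) L194675
theorem L194681 : sm gf N17963 = N17395 := ded_39_1 (flp_g L189448) (flp_f L184108) (flp_g L183792) L189094 L194675
theorem L194683 : sm ge N17349 = N17964 := rfl
theorem L194685 : sm ga N17964 = N17361 := ded_12_1 (flp_e L189222) (flp_a L189108) L194683
theorem L194687 : sm gb N17964 = N17595 := ded_19_1 (flp_e L191256) (flp_b L189110) L194683
theorem L194689 : sm gg N17964 = N17584 := ded_36_2 (flp_e L191171) (flp_g L189114) L194683
theorem L194691 : sm gh N17964 = N17353 := ded_37_2 (flp_e L189147) (flp_h L189116) L194683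
theorem L194693 : sm gc N17350 = N17965 := rfl
theorem L194695 : sm ga N17965 = N17362 := ded_10_1 (flp_c L189228) (flp_a L189120) L194693
theorem L194697 : sm gg N17965 = N17751 := ded_27_2 (flp_c L192512) (flp_g L189124) L194693
theorem L194699 : sm gh N17965 = N17602 := ded_28_2 (flp_c L191302) (flp_h L189128) L194693
theorem L194701 : sm gi N17965 = N17351 := ded_29_2 (flp_c L189130) (flp_i L189126) L194693
theorem L194703 : sm gd N17965 = N17965 := ded_24_2 (flp_c L194693) (flp_d L189118) L183855 L189118 L194693
theorem L194704 : sm ge N17350 = N17966 := rfl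
theorem L194706 : sm ga N17966 = N17363 := ded_12_1 (flp_e L189233) (flp_a L189120) L194704
theorem L194708 : sm gb N17966 = N17531 := ded_19_1 (flp_e L190718) (flp_b L189122) L194704
theorem L194710 : sm gg N17966 = N17752 := ded_36_2 (flp_e L192521) (flp_g L189124) L194704
theorem L194712 : sm gh N17966 = N17603 := ded_37_2 (flp_e L191310) (flp_h L189128) L194704
theorem L194714 : sm gi N17966 = N17352 := ded_38_2 (flp_e L189139) (flp_i L189126) L194704
theorem L194716 : sm gd N17966 = N17522 := ded_30_1 (flp_e L190645) (flp_d L185343) (flp_e L183856) L189118 L194704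
theorem L194718 : sm ge N17351 = N17967 := rfl
theorem L194720 : sm ga N17967 = N17365 := ded_12_1 (flp_e L189246) (flp_a L189132) L194718
theorem L194722 : sm gc N17967 = N17352 := ded_25_1 (flp_e L189139) L189130 L194718
theorem L194724 : sm gg N17967 = N17753 := ded_36_2 (flp_e L192527) (flp_g L189134) L194718
theorem L194726 : sm gh N17967 = N17354 := ded_37_2 (flp_e L189159) (flp_h L189136) L194718
theorem L194728 : sm gf N17352 = N17968 := rfl
theorem L194730 : sm ga N17968 = N17366 := ded_13_1 (flp_f L189252) (flp_a L189141) L194728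
theorem L194732 : sm gh N17968 = N17355 := ded_40_2 (flp_f L189169) (flp_h L189145) L194728
theorem L194734 : sm gf N17353 = N17969 := rfl
theorem L194736 : sm ga N17969 = N17370 := ded_13_1 (flp_f L189288) (flp_a L189149) L194734
theorem L194738 : sm gb N17969 = N17600 := ded_20_1 (flp_f L191292) (flp_b L189151) L194734
theorem L194740 : sm gd N17969 = N17621 := ded_31_1 (flp_f L191472) (flp_d L189157) L194734
theorem L194742 : sm gi N17969 = N17637 := ded_41_2 (flp_f L191610) (flp_i L189155) L194734
theorem L194744 : sm ge N17969 = N17355 := ded_35_1 (flp_f L189169) (flp_e L183892) (flp_f L183876) L189147 L194734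
theorem L194746 : sm gf N17354 = N17970 := rfl
theorem L194748 : sm ga N17970 = N17372 := ded_13_1 (flp_f L189306) (flp_a L189161) L194746
theorem L194750 : sm gc N17970 = N17355 := ded_26_1 (flp_f L189169) (flp_c L189163) L194746
theorem L194752 : sm gi N17970 = N17784 := ded_41_2 (flp_f L192740) (flp_i L189167) L194746
theorem L194754 : sm gg N17355 = N17971 := rfl
theorem L194756 : sm ga N17971 = N17373 := ded_14_1 (flp_g L189310) (flp_a L189171) L194754
theorem L194758 : sm gd N17971 = N17356 := ded_32_1 (flp_g L189177) (flp_d L189173) L194754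
theorem L194760 : sm gi N17971 = N17785 := ded_43_2 (flp_g L192744) (flp_i L189175) L194754
theorem L194762 : sm gf N17971 = N17761 := ded_39_1 (flp_g L192574) (flp_f L187192) (flp_g L183896) L189169 L194754
theorem L194764 : sm gc N17357 = N17972 := rfl
theorem L194766 : sm gf N17972 = N17965 := ded_26_2 (flp_c L194693) (flp_f L189187) L194764
theorem L194768 : sm gg N17972 = N17887 := ded_27_2 L193891 L191158 L194764
theorem L194770 : sm gh N17972 = N17625 := ded_28_2 (flp_c L191500) (flp_h L189191) L194764
theorem L194772 : sm gi N17972 = N17833 := ded_29_2 L193286 (flp_i L189189) L194764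
theorem L194774 : sm gb N17972 = N17831 := ded_17_1 (flp_c L193252) L187790 L186817 (flp_b L189185) L194764
theorem L194776 : sm gd N17972 = N17972 := ded_24_2 (flp_c L194764) (flp_d L189183) L183912 L189183 L194764
theorem L194777 : sm ge N17357 = N17973 := rfl
theorem L194779 : sm gb N17973 = N17374 := ded_19_1 (flp_e L189316) (flp_b L189185) L194777
theorem L194781 : sm gh N17973 = N17626 := ded_37_2 (flp_e L191512) (flp_h L189191) L194777
theorem L194783 : sm gi N17973 = N17964 := ded_38_2 (flp_e L194683) (flp_i L189189) L194777
theorem L194785 : sm gd N17973 = N17361 := ded_30_1 (flp_e L189222) (flp_d L183943) (flp_e L183913) L189183 L194777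
theorem L194787 : sm gc N17358 = N17974 := rfl
theorem L194789 : sm ga N17974 = N17583 := ded_10_1 (flp_c L191164) (flp_a L189195) L194787
theorem L194791 : sm gf N17974 = N17575 := ded_26_2 (flp_c L191083) (flp_f L189199) L194787
theorem L194793 : sm gg N17974 = N17360 := ded_27_2 (flp_c L189215) (flp_g L189201) L194787
theorem L194795 : sm gh N17974 = N17367 := ded_28_2 (flp_c L189258) (flp_h L189203) L194787
theorem L194797 : sm gb N17974 = N17729 := ded_17_1 L192324 (flp_b L188285) L188287 (flp_b L189197) L194787
theorem L194799 : sm gd N17974 = N17974 := ded_24_2 (flp_c L194787) (flp_d L189193) L183925 L189193 L194787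
theorem L194800 : sm ge N17358 = N17975 := rfl
theorem L194802 : sm ga N17975 = N17584 := ded_12_1 (flp_e L191171) (flp_a L189195) L194800
theorem L194804 : sm gb N17975 = N17375 := ded_19_1 (flp_e L189322) (flp_b L189197) L194800
theorem L194806 : sm gg N17975 = N17361 := ded_36_2 (flp_e L189222) (flp_g L189201) L194800
theorem L194808 : sm gh N17975 = N17368 := ded_37_2 (flp_e L189272) (flp_h L189203) L194800
theorem L194810 : sm gc N17359 = N17976 := rfl
theorem L194812 : sm ga N17976 = N17972 := ded_10_1 (flp_c L194764) (flp_a L189207) L194810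
theorem L194814 : sm gf N17976 = N17362 := ded_26_2 (flp_c L189228) (flp_f L189211) L194810
theorem L194816 : sm gi N17976 = N17360 := ded_29_2 (flp_c L189215) (flp_i L189213) L194810
theorem L194818 : sm gd N17976 = N17976 := ded_24_2 (flp_c L194810) (flp_d L189205) L183936 L189205 L194810
theorem L194819 : sm ge N17359 = N17977 := rfl
theorem L194821 : sm ga N17977 = N17973 := ded_12_1 (flp_e L194777) (flp_a L189207) L194819
theorem L194823 : sm gb N17977 = N17377 := ded_19_1 (flp_e L189336) (flp_b L189209) L194819
theorem L194825 : sm gi N17977 = N17361 := ded_38_2 (flp_e L189222) (flp_i L189213) L194819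
theorem L194827 : sm gd N17977 = N17964 := ded_30_1 (flp_e L194683) (flp_d L189106) (flp_e L183937) L189205 L194819
theorem L194829 : sm ge N17360 = N17978 := rfl
theorem L194831 : sm gc N17978 = N17361 := ded_25_1 (flp_e L189222) L189215 L194829
theorem L194833 : sm gh N17978 = N17369 := ded_37_2 (flp_e L189284) (flp_h L189219) L194829
theorem L194835 : sm gf N17361 = N17979 := rfl
theorem L194837 : sm gb N17979 = N17380 := ded_20_1 (flp_f L189358) (flp_b L189224) L194835
theorem L194839 : sm gh N17979 = N17370 := ded_40_2 (flp_f L189288) (flp_h L189226) L194835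
theorem L194841 : sm ge N17979 = N17366 := ded_35_1 (flp_f L189252) (flp_e L183962) (flp_f L183947) L189222 L194835
theorem L194843 : sm gb N17362 = N17980 := rfl
theorem L194845 : sm gd N17980 = N17980 := ded_18_2 (flp_b L194843) L189232 L194843
theorem L194846 : sm gh N17980 = N17514 := ded_22_2 L194110 L194104 L194843
theorem L194848 : sm gi N17980 = N17364 := ded_23_2 (flp_b L189239) (flp_i L189230) L194843
theorem L194850 : sm gc N17980 = N17381 := ded_17_2 (flp_b L189364) (flp_c L184044) (flp_b L183953) L189228 L194843
theorem L194852 : sm ge N17362 = N17981 := rfl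
theorem L194854 : sm gc N17981 = N17363 := ded_25_1 (flp_e L189233) L189228 L194852
theorem L194856 : sm gi N17981 = N17365 := ded_38_2 (flp_e L189246) (flp_i L189230) L194852
theorem L194858 : sm gf N17363 = N17982 := rfl
theorem L194860 : sm gb N17982 = N17383 := ded_20_1 (flp_f L189376) (flp_b L189235) L194858
theorem L194862 : sm gi N17982 = N17366 := ded_41_2 (flp_f L189252) (flp_i L189237) L194858
theorem L194864 : sm ge N17364 = N17983 := rfl
theorem L194866 : sm gb N17983 = N17365 := ded_19_1 (flp_e L189246) L189239 L194864
theorem L194868 : sm gc N17983 = N17385 := ded_25_1 (flp_e L189388) (flp_c L189244) L194864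
theorem L194870 : sm gh N17983 = N17371 := ded_37_2 (flp_e L189296) (flp_h L189242) L194864
theorem L194872 : sm gd N17365 = N17984 := rfl
theorem L194874 : sm ge N17984 = N17984 := ded_30_2 (flp_d L194872) (flp_e L189246) L183961 L189246 L194872
theorem L194875 : sm gf N17365 = N17985 := rfl
theorem L194877 : sm gc N17985 = N17366 := ded_26_1 (flp_f L189252) (flp_c L189248) L194875
theorem L194879 : sm gh N17985 = N17372 := ded_40_2 (flp_f L189306) (flp_h L189250) L194875
theorem L194881 : sm gg N17366 = N17986 := rfl
theorem L194883 : sm gb N17986 = N17388 := ded_21_1 (flp_g L189406) (flp_b L189254) L194881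
theorem L194885 : sm gh N17986 = N17373 := ded_42_2 (flp_g L189310) (flp_h L189256) L194881
theorem L194887 : sm ge N17367 = N17987 := rfl
theorem L194889 : sm ga N17987 = N17589 := ded_12_1 (flp_e L191210) (flp_a L189260) L194887
theorem L194891 : sm gb N17987 = N17699 := ded_19_1 L192094 (flp_b L189268) L194887
theorem L194893 : sm gc N17987 = N17368 := ded_25_1 (flp_e L189272) L189258 L194887
theorem L194895 : sm gg N17987 = N17369 := ded_36_2 (flp_e L189284) (flp_g L189264) L194887
theorem L194897 : sm gi N17987 = N17620 := ded_38_2 (flp_e L191466) (flp_i L189266) L194887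
theorem L194899 : sm gd N17987 = N17698 := ded_30_1 (flp_e L192084) L186781 (flp_e L184257) (flp_d L189270) L194887
theorem L194901 : sm gf N17368 = N17988 := rfl
theorem L194903 : sm ga N17988 = N17590 := ded_13_1 (flp_f L191216) (flp_a L189274) L194901
theorem L194905 : sm gb N17988 = N17389 := ded_20_1 (flp_f L189410) (flp_b L189276) L194901
theorem L194907 : sm gd N17988 = N17637 := ded_31_1 (flp_f L191610) (flp_d L189282) L194901
theorem L194909 : sm gi N17988 = N17621 := ded_41_2 (flp_f L191472) (flp_i L189280) L194901
theorem L194911 : sm ge N17988 = N17579 := ded_35_1 (flp_f L191124) (flp_e L185760) (flp_f L183974) L189272 L194901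
theorem L194913 : sm gd N17369 = N17989 := rfl
theorem L194915 : sm ga N17989 = N17690 := ded_11_1 (flp_d L193342) L193332 L194913
theorem L194917 : sm gb N17989 = N17479 := ded_18_1 (flp_d L194368) L194360 L194913
theorem L194919 : sm gg N17989 = N17698 := ded_32_2 (flp_d L194899) L194895 L194913
theorem L194921 : sm gi N17989 = N17720 := ded_34_2 (flp_d L193728) L193726 L194913
theorem L194923 : sm gc N17989 = N17622 := ded_24_1 L191484 L186205 (flp_d L183990) (flp_c L189286) L194913
theorem L194925 : sm ge N17989 = N17405 := ded_30_2 (flp_d L189539) (flp_e L184268) (flp_d L183984) L189284 L194913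
theorem L194927 : sm gf N17369 = N17990 := rfl
theorem L194929 : sm gc N17990 = N17370 := ded_26_1 (flp_f L189288) (flp_c L189286) L194927
theorem L194931 : sm ge N17990 = N17372 := ded_35_1 (flp_f L189306) (flp_e L184000) (flp_f L183982) L189284 L194927
theorem L194933 : sm gg N17370 = N17991 := rfl
theorem L194935 : sm gb N17991 = N17392 := ded_21_1 (flp_g L189430) (flp_b L189290) L194933
theorem L194937 : sm gd N17991 = N17639 := ded_32_1 (flp_g L191622) (flp_d L189292) L194933
theorem L194939 : sm ge N17991 = N17373 := ded_36_1 (flp_g L189310) (flp_e L189294) L194933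
theorem L194941 : sm gf N17371 = N17992 := rfl
theorem L194943 : sm gb N17992 = N17372 := ded_20_1 (flp_f L189306) (flp_b L189298) L194941
theorem L194945 : sm gc N17992 = N17394 := ded_26_1 (flp_f L189442) (flp_c L189300) L194941
theorem L194947 : sm gd N17992 = N17450 := ded_31_1 (flp_f L189989) (flp_d L189304) L194941
theorem L194949 : sm gi N17992 = N17495 := ded_41_2 (flp_f L190400) (flp_i L189302) L194941
theorem L194951 : sm gg N17372 = N17993 := rfl
theorem L194953 : sm gc N17993 = N17373 := ded_27_1 (flp_g L189310) (flp_c L189308) L194951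
theorem L194955 : sm gf N17374 = N17994 := rfl
theorem L194957 : sm gd N17994 = N17380 := ded_31_1 (flp_f L189358) (flp_d L189320) L194955
theorem L194959 : sm gh N17994 = N17643 := ded_40_2 (flp_f L191654) (flp_h L189318) L194955
theorem L194961 : sm gf N17375 = N17995 := rfl
theorem L194963 : sm gh N17995 = N17389 := ded_40_2 (flp_f L189410) (flp_h L189326) L194961
theorem L194965 : sm gb N17376 = N17996 := rfl
theorem L194967 : sm gd N17996 = N17399 := ded_18_2 (flp_b L189486) (flp_d L189334) L194965
theorem L194969 : sm gf N17996 = N17381 := ded_20_2 (flp_b L189364) (flp_f L189330) L194965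
theorem L194971 : sm gg N17996 = N17730 := ded_21_2 L192329 L191242 L194965
theorem L194973 : sm gi N17996 = N17378 := ded_23_2 (flp_b L189340) (flp_i L189332) L194965
theorem L194975 : sm ga N17996 = N17514 := ded_9_1 L194110 L194100 (flp_b L192792) L192790 L194965
theorem L194977 : sm ge N17376 = N17997 := rfl
theorem L194979 : sm gc N17997 = N17377 := ded_25_1 (flp_e L189336) L189328 L194977
theorem L194981 : sm gi N17997 = N17379 := ded_38_2 (flp_e L189352) (flp_i L189332) L194977
theorem L194983 : sm gf N17377 = N17998 := rfl
theorem L194985 : sm gi N17998 = N17380 := ded_41_2 (flp_f L189358) (flp_i L189338) L194983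
theorem L194987 : sm ge N17998 = N17383 := ded_35_1 (flp_f L189376) (flp_e L184050) (flp_f L184028) L189336 L194983
theorem L194989 : sm ge N17378 = N17999 := rfl
theorem L194991 : sm ga N17999 = N17496 := ded_12_1 L190406 (flp_a L189350) L194989
theorem L194993 : sm gb N17999 = N17379 := ded_19_1 (flp_e L189352) L189340 L194989
theorem L194995 : sm gg N17999 = N17703 := ded_36_2 L192112 (flp_g L189346) L194989
theorem L194997 : sm gh N17999 = N17390 := ded_37_2 (flp_e L189414) (flp_h L189348) L194989
theorem L194999 : sm gf N17379 = N18000 := rfl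
theorem L195001 : sm gc N18000 = N17380 := ded_26_1 (flp_f L189358) (flp_c L189354) L194999
theorem L195003 : sm gh N18000 = N17391 := ded_40_2 (flp_f L189424) (flp_h L189356) L194999
theorem L195005 : sm ge N18000 = N17387 := ded_35_1 (flp_f L189400) (flp_e L184060) (flp_f L184034) L189352 L194999
theorem L195007 : sm gg N17380 = N18001 := rfl
theorem L195009 : sm ge N18001 = N17388 := ded_36_1 (flp_g L189406) (flp_e L189362) L195007
theorem L195011 : sm gh N18001 = N17392 := ded_42_2 (flp_g L189430) (flp_h L189360) L195007
theorem L195013 : sm ga N17381 = N18002 := rfl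
theorem L195015 : sm gd N18002 = N17400 := ded_11_2 (flp_a L189498) (flp_d L189366) L195013
theorem L195017 : sm gf N18002 = N17514 := ded_13_2 (flp_a L194975) L194969 L195013
theorem L195019 : sm gi N18002 = N17384 := ded_16_2 (flp_a L189380) (flp_i L189368) L195013
theorem L195021 : sm ge N17381 = N18003 := rfl
theorem L195023 : sm gb N18003 = N17382 := ded_19_1 (flp_e L189370) L189364 L195021
theorem L195025 : sm gi N18003 = N17385 := ded_38_2 (flp_e L189388) (flp_i L189368) L195021
theorem L195027 : sm gd N17382 = N18004 := rfl
theorem L195029 : sm ga N18004 = N17551 := ded_11_1 (flp_d L193636) L193628 L195027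
theorem L195031 : sm gg N18004 = N17676 := ded_32_2 (flp_d L192977) L192973 L195027
theorem L195033 : sm gi N18004 = N17386 := ded_34_2 (flp_d L189394) (flp_i L189374) L195027
theorem L195035 : sm gc N18004 = N17543 := ded_24_1 L190832 L185523 L185448 (flp_c L189372) L195027
theorem L195037 : sm ge N18004 = N17402 := ded_30_2 (flp_d L189516) (flp_e L184201) (flp_d L184048) L189370 L195027
theorem L195039 : sm gf N17382 = N18005 := rfl
theorem L195041 : sm gc N18005 = N17383 := ded_26_1 (flp_f L189376) (flp_c L189372) L195039
theorem L195043 : sm gi N18005 = N17387 := ded_41_2 (flp_f L189400) (flp_i L189374) L195039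
theorem L195045 : sm gg N17383 = N18006 := rfl
theorem L195047 : sm gi N18006 = N17388 := ded_43_2 (flp_g L189406) (flp_i L189378) L195045
theorem L195049 : sm ge N17384 = N18007 := rfl
theorem L195051 : sm ga N18007 = N17385 := ded_12_1 (flp_e L189388) L189380 L195049
theorem L195053 : sm gh N18007 = N17393 := ded_37_2 (flp_e L189436) (flp_h L189386) L195049
theorem L195055 : sm gd N17385 = N18008 := rfl
theorem L195057 : sm gb N18008 = N17386 := ded_18_1 (flp_d L189394) (flp_b L189390) L195055
theorem L195059 : sm ge N18008 = N17404 := ded_30_2 (flp_d L189533) (flp_e L184219) (flp_d L184056) L189388 L195055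
theorem L195061 : sm gh N18008 = N17780 := ded_33_2 (flp_d L192716) L187298 (flp_d L184106) (flp_h L189392) L195055
theorem L195063 : sm gf N17385 = N18009 := rfl
theorem L195065 : sm gb N18009 = N17387 := ded_20_1 (flp_f L189400) (flp_b L189390) L195063
theorem L195067 : sm gh N18009 = N17394 := ded_40_2 (flp_f L189442) (flp_h L189392) L195063
theorem L195069 : sm gf N17386 = N18010 := rfl
theorem L195071 : sm gd N18010 = N17387 := ded_31_1 (flp_f L189400) L189394 L195069
theorem L195073 : sm gh N18010 = N17782 := ded_40_2 (flp_f L192728) (flp_h L189398) L195069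
theorem L195075 : sm gg N17387 = N18011 := rfl
theorem L195077 : sm gc N18011 = N17388 := ded_27_1 (flp_g L189406) (flp_c L189402) L195075
theorem L195079 : sm gh N18011 = N17395 := ded_42_2 (flp_g L189448) (flp_h L189404) L195075
theorem L195081 : sm gg N17389 = N18012 := rfl
theorem L195083 : sm gd N18012 = N17653 := ded_32_1 (flp_g L191720) (flp_d L189412) L195081
theorem L195085 : sm gf N18012 = N17392 := ded_39_1 (flp_g L189430) (flp_f L184090) (flp_g L184072) L189410 L195081
theorem L195087 : sm gf N17390 = N18013 := rfl
theorem L195089 : sm ga N18013 = N17495 := ded_13_1 (flp_f L190400) (flp_a L189416) L195087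
theorem L195091 : sm gb N18013 = N17391 := ded_20_1 (flp_f L189424) (flp_b L189418) L195087
theorem L195093 : sm gd N18013 = N17481 := ded_31_1 (flp_f L190284) (flp_d L189422) L195087
theorem L195095 : sm ge N18013 = N17394 := ded_35_1 (flp_f L189442) (flp_e L184102) (flp_f L184080) L189414 L195087
theorem L195097 : sm gg N17391 = N18014 := rfl
theorem L195099 : sm gc N18014 = N17392 := ded_27_1 (flp_g L189430) (flp_c L189426) L195097
theorem L195101 : sm ge N18014 = N17395 := ded_36_1 (flp_g L189448) (flp_e L189428) L195097
theorem L195103 : sm gf N17393 = N18015 := rfl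
theorem L195105 : sm ga N18015 = N17394 := ded_13_1 (flp_f L189442) (flp_a L189438) L195103
theorem L195107 : sm gd N18015 = N17790 := ded_31_1 (flp_f L192780) (flp_d L189440) L195103
theorem L195109 : sm ge N18015 = N17495 := ded_35_1 (flp_f L190400) L185076 (flp_f L184100) L189436 L195103
theorem L195111 : sm gg N17394 = N18016 := rfl
theorem L195113 : sm gb N18016 = N17395 := ded_21_1 (flp_g L189448) (flp_b L189444) L195111
theorem L195115 : sm gd N18016 = N17791 := ded_32_1 (flp_g L192784) (flp_d L189446) L195111
theorem L195117 : sm gd N17397 = N18017 := rfl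
theorem L195119 : sm ga N18017 = N17660 := ded_11_1 (flp_d L191776) (flp_a L189467) L195117
theorem L195121 : sm gg N18017 = N17796 := ded_32_2 (flp_d L192830) (flp_g L189471) L195117
theorem L195123 : sm ge N17400 = N18018 := rfl
theorem L195125 : sm ga N18018 = N17401 := ded_12_1 (flp_e L189506) L189498 L195123
theorem L195127 : sm gb N18018 = N17656 := ded_19_1 (flp_e L191747) (flp_b L191756) L195123
theorem L195129 : sm gc N18018 = N18018 := ded_25_1 (flp_e L195123) L189500 L195123
theorem L195130 : sm gg N18018 = N17681 := ded_36_2 (flp_e L193025) L193029 L195123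
theorem L195132 : sm gh N18018 = N18018 := ded_37_2 (flp_e L195123) L189503 L195123
theorem L195133 : sm gi N18018 = N17403 := ded_38_2 (flp_e L189526) (flp_i L189504) L195123
theorem L195135 : sm gd N17401 = N18019 := rfl
theorem L195137 : sm gb N18019 = N17402 := ded_18_1 (flp_d L189516) (flp_b L189508) L195135
theorem L195139 : sm gg N18019 = N17675 := ded_32_2 L191921 (flp_g L189511) L195135
theorem L195141 : sm gi N18019 = N17404 := ded_34_2 (flp_d L189533) (flp_i L189514) L195135
theorem L195143 : sm gh N17402 = N18020 := rfl
theorem L195145 : sm ga N18020 = N17547 := ded_15_1 L190874 (flp_a L189518) L195143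
theorem L195147 : sm gc N18020 = N17542 := ded_28_1 L190822 (flp_c L189524) L195143
theorem L195149 : sm gg N18020 = N17671 := ded_42_1 L191884 (flp_g L189520) L195143
theorem L195151 : sm gd N18020 = N18020 := ded_33_1 (flp_h L195143) (flp_d L189516) L184209 L189516 L195143
theorem L195152 : sm gi N18020 = N17795 := ded_44_2 (flp_h L192823) L187438 (flp_h L184228) (flp_i L189522) L195143
theorem L195154 : sm gd N17403 = N18021 := rfl
theorem L195156 : sm ga N18021 = N17404 := ded_11_1 (flp_d L189533) (flp_a L189528) L195154
theorem L195158 : sm gh N18021 = N17796 := ded_33_2 (flp_d L192830) L187448 (flp_d L184236) (flp_h L189531) L195154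
theorem L195160 : sm gc N17404 = N18022 := rfl
theorem L195162 : sm gf N18022 = N17735 := ded_26_2 L192376 L192313 L195160
theorem L195164 : sm gh N18022 = N17740 := ded_28_2 L192422 (flp_h L189537) L195160
theorem L195166 : sm gb N18022 = N17731 := ded_17_1 (flp_c L192333) L187019 L184469 (flp_b L189535) L195160
theorem L195168 : sm gd N18022 = N18022 := ded_24_2 (flp_c L195160) (flp_d L189533) L184223 L189533 L195160
theorem L195169 : sm gh N17405 = N18023 := rfl
theorem L195171 : sm ga N18023 = N17687 := ded_15_1 L192012 (flp_a L189541) L195169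
theorem L195173 : sm gb N18023 = N17477 := ded_22_1 L190251 (flp_b L189543) L195169
theorem L195175 : sm gc N18023 = N17617 := ded_28_1 L191444 (flp_c L189551) L195169
theorem L195177 : sm gf N18023 = N17728 := ded_40_1 (flp_h L192319) (flp_f L189545) L195169
theorem L195179 : sm gg N18023 = N17695 := ded_42_1 L192066 (flp_g L189547) L195169
theorem L195181 : sm gd N18023 = N18023 := ded_33_1 (flp_h L195169) (flp_d L189539) L184278 L189539 L195169
theorem L195182 : sm gg N17406 = N18024 := rfl
theorem L195184 : sm ga N18024 = N17519 := ded_14_1 (flp_g L190618) (flp_a L189555) L195182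
theorem L195186 : sm gc N18024 = N17438 := ded_27_1 (flp_g L189873) (flp_c L189557) L195182
theorem L195188 : sm gd N18024 = N17956 := ded_32_1 (flp_g L194599) (flp_d L189559) L195182
theorem L195190 : sm ge N18024 = N17678 := ded_36_1 (flp_g L191941) (flp_e L189565) L195182
theorem L195192 : sm gh N18024 = N17407 := ded_42_2 (flp_g L189567) (flp_h L189561) L195182
theorem L195194 : sm gi N18024 = N17810 := ded_43_2 (flp_g L192987) (flp_i L189563) L195182
theorem L195196 : sm gf N18024 = N17535 := ded_39_1 (flp_g L190756) (flp_f L185450) (flp_g L184301) L189553 L195182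
theorem L195198 : sm gf N17408 = N18025 := rfl
theorem L195200 : sm ga N18025 = N17787 := ded_13_1 (flp_f L192754) (flp_a L189583) L195198
theorem L195202 : sm gb N18025 = N17469 := ded_20_1 (flp_f L190169) (flp_b L189585) L195198
theorem L195204 : sm gc N18025 = N17409 := ded_26_1 (flp_f L189597) (flp_c L189587) L195198
theorem L195206 : sm gd N18025 = N17718 := ded_31_1 (flp_f L192232) (flp_d L189595) L195198
theorem L195208 : sm gh N18025 = N17846 := ded_40_2 (flp_f L193426) (flp_h L189591) L195198
theorem L195210 : sm gi N18025 = N17529 := ded_41_2 (flp_f L190708) (flp_i L189593) L195198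
theorem L195212 : sm gg N17409 = N18026 := rfl
theorem L195214 : sm gb N18026 = N17410 := ded_21_1 (flp_g L189607) (flp_b L189599) L195212
theorem L195216 : sm gd N18026 = N17520 := ded_32_1 (flp_g L190628) (flp_d L189601) L195212
theorem L195218 : sm gh N18026 = N17847 := ded_42_2 (flp_g L193436) (flp_h L189603) L195212
theorem L195220 : sm gi N18026 = N17530 := ded_43_2 (flp_g L190712) (flp_i L189605) L195212
theorem L195222 : sm gf N18026 = N17414 := ded_39_1 (flp_g L189653) (flp_f L184387) (flp_g L184339) L189597 L195212
theorem L195224 : sm gf N17411 = N18027 := rfl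
theorem L195226 : sm ga N18027 = N17413 := ded_13_1 (flp_f L189643) (flp_a L189623) L195224
theorem L195228 : sm gc N18027 = N17412 := ded_26_1 (flp_f L189633) (flp_c L189625) L195224
theorem L195230 : sm gd N18027 = N17784 := ded_31_1 (flp_f L192740) (flp_d L189631) L195224
theorem L195232 : sm gh N18027 = N17852 := ded_40_2 (flp_f L193498) (flp_h L189629) L195224
theorem L195234 : sm ge N18027 = N17469 := ded_35_1 (flp_f L190169) (flp_e L184858) (flp_f L184363) L189621 L195224
theorem L195236 : sm gg N17412 = N18028 := rfl
theorem L195238 : sm ga N18028 = N17414 := ded_14_1 (flp_g L189653) (flp_a L189635) L195236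
theorem L195240 : sm gb N18028 = N17463 := ded_21_1 (flp_g L190108) (flp_b L189637) L195236
theorem L195242 : sm ge N18028 = N17470 := ded_36_1 (flp_g L190175) (flp_e L189641) L195236
theorem L195244 : sm gh N18028 = N17853 := ded_42_2 (flp_g L193510) (flp_h L189639) L195236
theorem L195246 : sm gg N17413 = N18029 := rfl
theorem L195248 : sm gb N18029 = N17497 := ded_21_1 (flp_g L190408) (flp_b L189645) L195246
theorem L195250 : sm gc N18029 = N17414 := ded_27_1 (flp_g L189653) (flp_c L189647) L195246
theorem L195252 : sm ge N18029 = N17704 := ded_36_1 (flp_g L192116) (flp_e L189651) L195246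
theorem L195254 : sm gh N18029 = N17860 := ded_42_2 (flp_g L193588) (flp_h L189649) L195246
theorem L195256 : sm gg N17415 = N18030 := rfl
theorem L195258 : sm ga N18030 = N17535 := ded_14_1 (flp_g L190756) (flp_a L189663) L195256
theorem L195260 : sm gc N18030 = N17540 := ded_27_1 (flp_g L190794) (flp_c L189665) L195256
theorem L195262 : sm gd N18030 = N17869 := ded_32_1 (flp_g L193678) (flp_d L189667) L195256
theorem L195264 : sm gh N18030 = N17416 := ded_42_2 (flp_g L189673) (flp_h L189669) L195256
theorem L195266 : sm gi N18030 = N17879 := ded_43_2 (flp_g L193787) (flp_i L189671) L195256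
theorem L195268 : sm gf N18030 = N17519 := ded_39_1 (flp_g L190618) (flp_f L185309) (flp_g L184401) L189661 L195256
theorem L195270 : sm gf N17418 = N18031 := rfl
theorem L195272 : sm ga N18031 = N17516 := ded_13_1 (flp_f L190584) (flp_a L189700) L195270
theorem L195274 : sm gc N18031 = N17533 := ded_26_1 (flp_f L190740) (flp_c L189702) L195270
theorem L195276 : sm gh N18031 = N17442 := ded_40_2 (flp_f L189907) (flp_h L189704) L195270
theorem L195278 : sm gi N18031 = N17881 := ded_41_2 (flp_f L193811) (flp_i L189706) L195270
theorem L195280 : sm ge N18031 = N17422 := ded_35_1 (flp_f L189741) (flp_e L184473) (flp_f L184445) L189698 L195270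
theorem L195282 : sm ge N17419 = N18032 := rfl
theorem L195284 : sm ga N18032 = N17669 := ded_12_1 (flp_e L191862) (flp_a L189710) L195282
theorem L195286 : sm gb N18032 = N17525 := ded_19_1 (flp_e L190682) (flp_b L189716) L195282
theorem L195288 : sm gc N18032 = N17420 := ded_25_1 (flp_e L189719) L189708 L195282
theorem L195290 : sm gg N18032 = N17429 := ded_36_2 (flp_e L189803) (flp_g L189712) L195282
theorem L195292 : sm gh N18032 = N17443 := ded_37_2 (flp_e L189917) (flp_h L189714) L195282
theorem L195294 : sm gf N17420 = N18033 := rfl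
theorem L195296 : sm ga N18033 = N17670 := ded_13_1 (flp_f L191870) (flp_a L189721) L195294
theorem L195298 : sm gb N18033 = N17422 := ded_20_1 (flp_f L189741) (flp_b L189723) L195294
theorem L195300 : sm gh N18033 = N17444 := ded_40_2 (flp_f L189929) (flp_h L189727) L195294
theorem L195302 : sm gf N17421 = N18034 := rfl
theorem L195304 : sm ga N18034 = N17539 := ded_13_1 (flp_f L190788) (flp_a L189731) L195302
theorem L195306 : sm gc N18034 = N18010 := ded_26_1 (flp_f L195069) (flp_c L189733) L195302
theorem L195308 : sm gd N18034 = N17422 := ded_31_1 (flp_f L189741) (flp_d L189739) L195302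
theorem L195310 : sm gh N18034 = N17651 := ded_40_2 (flp_f L191708) (flp_h L189737) L195302
theorem L195312 : sm gg N17422 = N18035 := rfl
theorem L195314 : sm ga N18035 = N17540 := ded_14_1 (flp_g L190794) (flp_a L189743) L195312
theorem L195316 : sm gc N18035 = N17535 := ded_27_1 (flp_g L190756) (flp_c L189745) L195312
theorem L195318 : sm gh N18035 = N17445 := ded_42_2 (flp_g L189939) (flp_h L189747) L195312
theorem L195320 : sm gf N18035 = N17438 := ded_39_1 (flp_g L189873) (flp_f L184582) (flp_g L184479) L189741 L195312
theorem L195322 : sm gc N17423 = N18036 := rfl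
theorem L195324 : sm ga N18036 = N17427 := ded_10_1 (flp_c L189794) (flp_a L189751) L195322
theorem L195326 : sm gf N18036 = N17733 := ded_26_2 (flp_c L192356) (flp_f L189755) L195322
theorem L195328 : sm gg N18036 = N17667 := ded_27_2 (flp_c L191849) (flp_g L189757) L195322
theorem L195330 : sm gi N18036 = N17731 := ded_29_2 (flp_c L192333) (flp_i L189759) L195322
theorem L195332 : sm gd N18036 = N18036 := ded_24_2 (flp_c L195322) (flp_d L189749) L184489 L189749 L195322
theorem L195333 : sm ge N17423 = N18037 := rfl
theorem L195335 : sm ga N18037 = N17428 := ded_12_1 (flp_e L189797) (flp_a L189751) L195333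
theorem L195337 : sm gb N18037 = N17543 := ded_19_1 (flp_e L190824) (flp_b L189753) L195333
theorem L195339 : sm gg N18037 = N17668 := ded_36_2 (flp_e L191854) (flp_g L189757) L195333
theorem L195341 : sm gi N18037 = N17732 := ded_38_2 (flp_e L192344) (flp_i L189759) L195333
theorem L195343 : sm gd N18037 = N17425 := ded_30_1 (flp_e L189772) (flp_d L184498) (flp_e L184490) L189749 L195333
theorem L195345 : sm ge N17424 = N18038 := rfl
theorem L195347 : sm ga N18038 = N17429 := ded_12_1 (flp_e L189803) (flp_a L189763) L195345
theorem L195349 : sm gc N18038 = N17425 := ded_25_1 (flp_e L189772) L189761 L195345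
theorem L195351 : sm gg N18038 = N17669 := ded_36_2 (flp_e L191862) (flp_g L189765) L195345
theorem L195353 : sm gh N18038 = N17446 := ded_37_2 (flp_e L189951) (flp_h L189767) L195345
theorem L195355 : sm gi N18038 = N18032 := ded_38_2 (flp_e L195282) (flp_i L189769) L195345
theorem L195357 : sm gf N17425 = N18039 := rfl
theorem L195359 : sm ga N18039 = N17430 := ded_13_1 (flp_f L189809) (flp_a L189774) L195357
theorem L195361 : sm gb N18039 = N17544 := ded_20_1 (flp_f L190834) (flp_b L189776) L195357
theorem L195363 : sm gh N18039 = N17447 := ded_40_2 (flp_f L189961) (flp_h L189780) L195357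
theorem L195365 : sm gi N18039 = N18033 := ded_41_2 (flp_f L195294) (flp_i L189782) L195357
theorem L195367 : sm gc N17426 = N18040 := rfl
theorem L195369 : sm ga N18040 = N17733 := ded_10_1 (flp_c L192356) (flp_a L189786) L195367
theorem L195371 : sm gf N18040 = N17427 := ded_26_2 (flp_c L189794) (flp_f L189790) L195367
theorem L195373 : sm gg N18040 = N17795 := ded_27_2 L192825 L190850 L195367
theorem L195375 : sm gh N18040 = N17659 := ded_28_2 L191774 L189827 L195367
theorem L195377 : sm gi N18040 = N17671 := ded_29_2 (flp_c L191878) (flp_i L189792) L195367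
theorem L195379 : sm gd N18040 = N18040 := ded_24_2 (flp_c L195367) (flp_d L189784) L184516 L189784 L195367
theorem L195380 : sm ge N17426 = N18041 := rfl
theorem L195382 : sm ga N18041 = N17734 := ded_12_1 (flp_e L192363) (flp_a L189786) L195380
theorem L195384 : sm gb N18041 = N17434 := ded_19_1 (flp_e L189847) (flp_b L189788) L195380
theorem L195386 : sm gi N18041 = N17672 := ded_38_2 (flp_e L191887) (flp_i L189792) L195380
theorem L195388 : sm gd N18041 = N17686 := ded_30_1 (flp_e L192001) (flp_d L186711) (flp_e L184517) L189784 L195380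
theorem L195390 : sm gb N17427 = N18042 := rfl
theorem L195392 : sm gd N18042 = N18042 := ded_18_2 (flp_b L195390) L189796 L195390
theorem L195393 : sm gg N18042 = N18022 := ded_21_2 L195166 L192339 L195390
theorem L195395 : sm gh N18042 = N17748 := ded_22_2 L192479 L192396 L195390
theorem L195397 : sm gc N18042 = N17435 := ded_17_2 (flp_b L189851) (flp_c L184568) (flp_b L184525) L189794 L195390
theorem L195399 : sm ge N17427 = N18043 := rfl
theorem L195401 : sm gc N18043 = N17428 := ded_25_1 (flp_e L189797) L189794 L195399
theorem L195403 : sm gf N17428 = N18044 := rfl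
theorem L195405 : sm gb N18044 = N17437 := ded_20_1 (flp_f L189867) (flp_b L189799) L195403
theorem L195407 : sm gd N18044 = N17430 := ded_31_1 (flp_f L189809) (flp_d L189801) L195403
theorem L195409 : sm gd N17429 = N18045 := rfl
theorem L195411 : sm ge N18045 = N18045 := ded_30_2 (flp_d L195409) (flp_e L189803) L184531 L189803 L195409
theorem L195412 : sm gf N17429 = N18046 := rfl
theorem L195414 : sm gc N18046 = N17430 := ded_26_1 (flp_f L189809) (flp_c L189805) L195412
theorem L195416 : sm gh N18046 = N17450 := ded_40_2 (flp_f L189989) (flp_h L189807) L195412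
theorem L195418 : sm gg N17430 = N18047 := rfl
theorem L195420 : sm gb N18047 = N17438 := ded_21_1 (flp_g L189873) (flp_b L189811) L195418
theorem L195422 : sm gh N18047 = N17451 := ded_42_2 (flp_g L189995) (flp_h L189813) L195418
theorem L195424 : sm ge N17431 = N18048 := rfl
theorem L195426 : sm ga N18048 = N17559 := ded_12_1 (flp_e L190979) (flp_a L189817) L195424
theorem L195428 : sm gb N18048 = N17564 := ded_19_1 (flp_e L191015) (flp_b L189819) L195424
theorem L195430 : sm gg N18048 = N17549 := ded_36_2 (flp_e L190887) (flp_g L189823) L195424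
theorem L195432 : sm gh N18048 = N18041 := ded_37_2 (flp_e L195380) (flp_h L189827) L195424
theorem L195434 : sm gi N18048 = N17432 := ded_38_2 (flp_e L189829) (flp_i L189825) L195424
theorem L195436 : sm gd N18048 = N17455 := ded_30_1 (flp_e L190035) (flp_d L184750) (flp_e L184546) L189815 L195424
theorem L195438 : sm gf N17432 = N18049 := rfl
theorem L195440 : sm ga N18049 = N17562 := ded_13_1 (flp_f L190997) (flp_a L189831) L195438
theorem L195442 : sm gd N18049 = N17456 := ded_31_1 (flp_f L190047) (flp_d L189837) L195438
theorem L195444 : sm gh N18049 = N17437 := ded_40_2 (flp_f L189867) (flp_h L189835) L195438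
theorem L195446 : sm gb N17433 = N18050 := rfl
theorem L195448 : sm gd N18050 = N17439 := ded_18_2 (flp_b L189879) (flp_d L189845) L195446
theorem L195450 : sm gf N18050 = N17435 := ded_20_2 (flp_b L189851) (flp_f L189843) L195446
theorem L195452 : sm gh N18050 = N17573 := ded_22_2 L191067 L191011 L195446
theorem L195454 : sm ge N17433 = N18051 := rfl
theorem L195456 : sm ga N18051 = N17566 := ded_12_1 (flp_e L191029) (flp_a L189841) L195454
theorem L195458 : sm gc N18051 = N17434 := ded_25_1 (flp_e L189847) L189839 L195454
theorem L195460 : sm gf N17434 = N18052 := rfl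
theorem L195462 : sm ga N18052 = N17567 := ded_13_1 (flp_f L191033) (flp_a L189849) L195460
theorem L195464 : sm ge N18052 = N17437 := ded_35_1 (flp_f L189867) (flp_e L184576) (flp_f L184566) L189847 L195460
theorem L195466 : sm ga N17435 = N18053 := rfl
theorem L195468 : sm gd N18053 = N17441 := ded_11_2 (flp_a L189896) (flp_d L189853) L195466
theorem L195470 : sm gg N18053 = N18021 := ded_14_2 L195156 (flp_g L189855) L195466
theorem L195472 : sm gh N18053 = N18017 := ded_15_2 L195119 L191784 L195466
theorem L195474 : sm gb N18053 = N17568 := ded_9_2 (flp_a L191037) (flp_b L185671) (flp_a L184570) L189851 L195466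
theorem L195476 : sm ge N17435 = N18054 := rfl
theorem L195478 : sm gb N18054 = N17436 := ded_19_1 (flp_e L189857) L189851 L195476
theorem L195480 : sm gg N18054 = N18008 := ded_36_2 L195059 (flp_g L189855) L195476
theorem L195482 : sm gd N18054 = N17954 := ded_30_1 (flp_e L194585) L189004 (flp_e L184607) (flp_d L189853) L195476
theorem L195484 : sm gf N17436 = N18055 := rfl
theorem L195486 : sm ga N18055 = N17570 := ded_13_1 (flp_f L191045) (flp_a L189859) L195484
theorem L195488 : sm gc N18055 = N17437 := ded_26_1 (flp_f L189867) (flp_c L189861) L195484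
theorem L195490 : sm gd N18055 = N17955 := ded_31_1 (flp_f L194593) (flp_d L189865) L195484
theorem L195492 : sm gg N17437 = N18056 := rfl
theorem L195494 : sm ga N18056 = N17571 := ded_14_1 (flp_g L191049) (flp_a L189869) L195492
theorem L195496 : sm gd N18056 = N17438 := ded_32_1 (flp_g L189873) (flp_d L189871) L195492
theorem L195498 : sm ga N17439 = N18057 := rfl
theorem L195500 : sm gc N18057 = N18057 := ded_10_2 (flp_a L195498) L189885 L195498
theorem L195501 : sm gf N18057 = N17441 := ded_13_2 (flp_a L189896) (flp_f L189881) L195498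
theorem L195503 : sm gh N18057 = N17661 := ded_15_2 (flp_a L191786) (flp_h L189883) L195498
theorem L195505 : sm gb N18057 = N17572 := ded_9_2 (flp_a L191053) (flp_b L185695) (flp_a L184590) L189879 L195498
theorem L195507 : sm ge N17664 = N18057 := ded_35_5 L195501 L189899 L189478 (flp_e L186566) (flp_f L191825)
theorem L195509 : sm ge N17439 = N18058 := rfl
theorem L195511 : sm ga N18058 = N17664 := ded_12_1 L195507 (flp_a L195498) L195509
theorem L195513 : sm gb N18058 = N17440 := ded_19_1 (flp_e L189886) L189879 L195509
theorem L195515 : sm gc N18058 = N18058 := ded_25_1 (flp_e L195509) L189885 L195509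
theorem L195516 : sm gg N18058 = N18057 := ded_36_2 (flp_e L195507) L191827 L195509
theorem L195518 : sm gh N18058 = N17662 := ded_37_2 (flp_e L191798) (flp_h L189883) L195509
theorem L195520 : sm gf N18058 = N17666 := ded_35_2 L191843 L189456 (flp_e L184607) (flp_f L189881) L195509
theorem L195522 : sm gd N17440 = N18059 := rfl
theorem L195524 : sm ga N18059 = N17573 := ded_11_1 (flp_d L191065) (flp_a L189888) L195522
theorem L195526 : sm gf N18059 = N18017 := ded_31_2 (flp_d L195117) (flp_f L189894) L195522
theorem L195528 : sm gg N17442 = N18060 := rfl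
theorem L195530 : sm ga N18060 = N17520 := ded_14_1 (flp_g L190628) (flp_a L189909) L195528
theorem L195532 : sm gc N18060 = N17536 := ded_27_1 (flp_g L190762) (flp_c L189911) L195528
theorem L195534 : sm ge N18060 = N17445 := ded_36_1 (flp_g L189939) (flp_e L189915) L195528
theorem L195536 : sm gi N18060 = N17463 := ded_43_2 (flp_g L190108) (flp_i L189913) L195528
theorem L195538 : sm gf N17443 = N18061 := rfl
theorem L195540 : sm ga N18061 = N17683 := ded_13_1 (flp_f L191980) (flp_a L189919) L195538
theorem L195542 : sm gb N18061 = N17529 := ded_20_1 (flp_f L190708) (flp_b L189921) L195538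
theorem L195544 : sm gc N18061 = N17444 := ded_26_1 (flp_f L189929) (flp_c L189923) L195538
theorem L195546 : sm gi N18061 = N17469 := ded_41_2 (flp_f L190169) (flp_i L189927) L195538
theorem L195548 : sm gg N17444 = N18062 := rfl
theorem L195550 : sm ga N18062 = N17684 := ded_14_1 (flp_g L191986) (flp_a L189931) L195548
theorem L195552 : sm gb N18062 = N17445 := ded_21_1 (flp_g L189939) (flp_b L189933) L195548
theorem L195554 : sm gd N18062 = N17655 := ded_32_1 (flp_g L191730) (flp_d L189935) L195548
theorem L195556 : sm gi N18062 = N17470 := ded_43_2 (flp_g L190175) (flp_i L189937) L195548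
theorem L195558 : sm gf N18062 = N17451 := ded_39_1 (flp_g L189995) (flp_f L184704) (flp_g L184640) L189929 L195548
theorem L195560 : sm gf N17446 = N18063 := rfl
theorem L195562 : sm ga N18063 = N17450 := ded_13_1 (flp_f L189989) (flp_a L189953) L195560
theorem L195564 : sm gc N18063 = N17447 := ded_26_1 (flp_f L189961) (flp_c L189955) L195560
theorem L195566 : sm gi N18063 = N17481 := ded_41_2 (flp_f L190284) (flp_i L189959) L195560
theorem L195568 : sm gg N17447 = N18064 := rfl
theorem L195570 : sm ga N18064 = N17451 := ded_14_1 (flp_g L189995) (flp_a L189963) L195568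
theorem L195572 : sm gb N18064 = N17580 := ded_21_1 (flp_g L191132) (flp_b L189965) L195568
theorem L195574 : sm gi N18064 = N17482 := ded_43_2 (flp_g L190292) (flp_i L189967) L195568
theorem L195576 : sm gf N18064 = N17684 := ded_39_1 (flp_g L191986) (flp_f L186705) (flp_g L184672) L189961 L195568
theorem L195578 : sm gf N17448 = N18065 := rfl
theorem L195580 : sm gb N18065 = N17456 := ded_20_1 (flp_f L190047) (flp_b L189971) L195578
theorem L195582 : sm gc N18065 = N17781 := ded_26_1 (flp_f L192722) (flp_c L189973) L195578
theorem L195584 : sm gh N18065 = N17449 := ded_40_2 (flp_f L189979) (flp_h L189977) L195578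
theorem L195586 : sm gg N17449 = N18066 := rfl
theorem L195588 : sm gb N18066 = N17458 := ded_21_1 (flp_g L190065) (flp_b L189981) L195586
theorem L195590 : sm gc N18066 = N17791 := ded_27_1 (flp_g L192784) (flp_c L189983) L195586
theorem L195592 : sm gd N18066 = N17451 := ded_32_1 (flp_g L189995) (flp_d L189985) L195586
theorem L195594 : sm gi N18066 = N17494 := ded_43_2 (flp_g L190394) (flp_i L189987) L195586
theorem L195596 : sm gf N18066 = N17655 := ded_39_1 (flp_g L191730) (flp_f L186323) (flp_g L184692) L189979 L195586
theorem L195598 : sm gg N17450 = N18067 := rfl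
theorem L195600 : sm gc N18067 = N17451 := ded_27_1 (flp_g L189995) (flp_c L189991) L195598
theorem L195602 : sm gi N18067 = N17497 := ded_43_2 (flp_g L190408) (flp_i L189993) L195598
theorem L195604 : sm ge N17452 = N18068 := rfl
theorem L195606 : sm ga N18068 = N17594 := ded_12_1 (flp_e L191248) (flp_a L190003) L195604
theorem L195608 : sm gg N18068 = N17862 := ded_36_2 (flp_e L193608) (flp_g L190007) L195604
theorem L195610 : sm gi N18068 = N17861 := ded_38_2 (flp_e L193596) (flp_i L190009) L195604
theorem L195612 : sm gd N18068 = N17454 := ded_30_1 (flp_e L190027) (flp_d L184740) (flp_e L184716) L190001 L195604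
theorem L195614 : sm ge N17453 = N18069 := rfl
theorem L195616 : sm ga N18069 = N17596 := ded_12_1 (flp_e L191266) (flp_a L190013) L195614
theorem L195618 : sm gb N18069 = N18068 := ded_19_1 (flp_e L195604) (flp_b L190015) L195614
theorem L195620 : sm gc N18069 = N17605 := ded_25_1 (flp_e L191332) (flp_c L190023) L195614
theorem L195622 : sm gg N18069 = N17763 := ded_36_2 (flp_e L192586) (flp_g L190019) L195614
theorem L195624 : sm gh N18069 = N17500 := ded_37_2 (flp_e L190428) (flp_h L190025) L195614
theorem L195626 : sm gi N18069 = N17454 := ded_38_2 (flp_e L190027) (flp_i L190021) L195614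
theorem L195628 : sm gd N18069 = N17861 := ded_30_1 (flp_e L193596) (flp_d L188109) (flp_e L184732) L190011 L195614
theorem L195630 : sm gf N17454 = N18070 := rfl
theorem L195632 : sm ga N18070 = N17597 := ded_13_1 (flp_f L191276) (flp_a L190029) L195630
theorem L195634 : sm gc N18070 = N17606 := ded_26_1 (flp_f L191342) (flp_c L190031) L195630
theorem L195636 : sm gh N18070 = N17457 := ded_40_2 (flp_f L190055) (flp_h L190033) L195630
theorem L195638 : sm ge N18070 = N17456 := ded_35_1 (flp_f L190047) (flp_e L184762) (flp_f L184744) L190027 L195630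
theorem L195640 : sm gf N17455 = N18071 := rfl
theorem L195642 : sm ga N18071 = N17598 := ded_13_1 (flp_f L191282) (flp_a L190037) L195640
theorem L195644 : sm gc N18071 = N17607 := ded_26_1 (flp_f L191350) (flp_c L190039) L195640
theorem L195646 : sm gh N18071 = N17504 := ded_40_2 (flp_f L190472) (flp_h L190043) L195640
theorem L195648 : sm gi N18071 = N17456 := ded_41_2 (flp_f L190047) (flp_i L190045) L195640
theorem L195650 : sm gg N17456 = N18072 := rfl
theorem L195652 : sm ga N18072 = N17599 := ded_14_1 (flp_g L191288) (flp_a L190049) L195650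
theorem L195654 : sm gc N18072 = N17608 := ded_27_1 (flp_g L191356) (flp_c L190051) L195650
theorem L195656 : sm gh N18072 = N17458 := ded_42_2 (flp_g L190065) (flp_h L190053) L195650
theorem L195658 : sm gf N18072 = N17652 := ded_39_1 (flp_g L191714) (flp_f L186301) (flp_g L184768) L190047 L195650
theorem L195660 : sm gg N17457 = N18073 := rfl
theorem L195662 : sm ga N18073 = N17601 := ded_14_1 (flp_g L191296) (flp_a L190057) L195660
theorem L195664 : sm gc N18073 = N17610 := ded_27_1 (flp_g L191370) (flp_c L190059) L195660
theorem L195666 : sm ge N18073 = N17458 := ded_36_1 (flp_g L190065) (flp_e L190063) L195660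
theorem L195668 : sm gi N18073 = N17510 := ded_43_2 (flp_g L190522) (flp_i L190061) L195660
theorem L195670 : sm ge N17459 = N18074 := rfl
theorem L195672 : sm ga N18074 = N17525 := ded_12_1 (flp_e L190682) (flp_a L190079) L195670
theorem L195674 : sm gc N18074 = N17460 := ded_25_1 (flp_e L190084) L190077 L195670
theorem L195676 : sm gh N18074 = N17461 := ded_37_2 (flp_e L190092) (flp_h L190081) L195670
theorem L195678 : sm gf N17460 = N18075 := rfl
theorem L195680 : sm ga N18075 = N17526 := ded_13_1 (flp_f L190688) (flp_a L190086) L195678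
theorem L195682 : sm gd N18075 = N17968 := ded_31_1 (flp_f L194728) (flp_d L190090) L195678
theorem L195684 : sm gh N18075 = N17462 := ded_40_2 (flp_f L190102) (flp_h L190088) L195678
theorem L195686 : sm gf N17461 = N18076 := rfl
theorem L195688 : sm ga N18076 = N17529 := ded_13_1 (flp_f L190708) (flp_a L190094) L195686
theorem L195690 : sm gc N18076 = N17462 := ded_26_1 (flp_f L190102) (flp_c L190096) L195686
theorem L195692 : sm gd N18076 = N17760 := ded_31_1 (flp_f L192566) (flp_d L190100) L195686
theorem L195694 : sm gi N18076 = N17787 := ded_41_2 (flp_f L192754) (flp_i L190098) L195686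
theorem L195696 : sm gg N17462 = N18077 := rfl
theorem L195698 : sm ga N18077 = N17530 := ded_14_1 (flp_g L190712) (flp_a L190104) L195696
theorem L195700 : sm gd N18077 = N17463 := ded_32_1 (flp_g L190108) (flp_d L190106) L195696
theorem L195702 : sm ge N17464 = N18078 := rfl
theorem L195704 : sm ga N18078 = N17696 := ded_12_1 (flp_e L192070) (flp_a L190118) L195702
theorem L195706 : sm gb N18078 = N17587 := ded_19_1 (flp_e L191196) (flp_b L190124) L195702
theorem L195708 : sm gc N18078 = N17465 := ded_25_1 (flp_e L190127) L190116 L195702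
theorem L195710 : sm gg N18078 = N17489 := ded_36_2 (flp_e L190358) (flp_g L190120) L195702
theorem L195712 : sm gh N18078 = N17466 := ded_37_2 (flp_e L190137) (flp_h L190122) L195702
theorem L195714 : sm gf N17465 = N18079 := rfl
theorem L195716 : sm ga N18079 = N17697 := ded_13_1 (flp_f L192076) (flp_a L190129) L195714
theorem L195718 : sm gb N18079 = N17473 := ded_20_1 (flp_f L190203) (flp_b L190131) L195714
theorem L195720 : sm gh N18079 = N17467 := ded_40_2 (flp_f L190149) (flp_h L190135) L195714
theorem L195722 : sm gf N17466 = N18080 := rfl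
theorem L195724 : sm ga N18080 = N17700 := ded_13_1 (flp_f L192096) (flp_a L190139) L195722
theorem L195726 : sm gb N18080 = N17591 := ded_20_1 (flp_f L191224) (flp_b L190141) L195722
theorem L195728 : sm gc N18080 = N17467 := ded_26_1 (flp_f L190149) (flp_c L190143) L195722
theorem L195730 : sm gi N18080 = N17640 := ded_41_2 (flp_f L191628) (flp_i L190147) L195722
theorem L195732 : sm gg N17467 = N18081 := rfl
theorem L195734 : sm ga N18081 = N17701 := ded_14_1 (flp_g L192100) (flp_a L190151) L195732
theorem L195736 : sm gb N18081 = N17475 := ded_21_1 (flp_g L190221) (flp_b L190153) L195732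
theorem L195738 : sm gd N18081 = N17470 := ded_32_1 (flp_g L190175) (flp_d L190155) L195732
theorem L195740 : sm gi N18081 = N17655 := ded_43_2 (flp_g L191730) (flp_i L190157) L195732
theorem L195742 : sm gf N18081 = N17494 := ded_39_1 (flp_g L190394) (flp_f L185068) (flp_g L184852) L190149 L195732
theorem L195744 : sm gf N17468 = N18082 := rfl
theorem L195746 : sm ga N18082 = N17702 := ded_13_1 (flp_f L192106) (flp_a L190161) L195744
theorem L195748 : sm gb N18082 = N17718 := ded_20_1 (flp_f L192232) (flp_b L190163) L195744
theorem L195750 : sm gd N18082 = N17469 := ded_31_1 (flp_f L190169) L190159 L195744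
theorem L195752 : sm ge N18082 = N17721 := ded_35_1 (flp_f L192252) (flp_e L186903) (flp_f L185252) (flp_e L190167) L195744
theorem L195754 : sm gh N17468 = N18083 := rfl
theorem L195756 : sm ga N18083 = N17703 := ded_15_1 (flp_h L192110) (flp_a L190161) L195754
theorem L195758 : sm gb N18083 = N17708 := ded_22_1 L192154 (flp_b L190163) L195754
theorem L195760 : sm ge N18083 = N17513 := ded_37_1 (flp_h L190554) (flp_e L190167) L195754
theorem L195762 : sm gg N18083 = N17496 := ded_42_1 (flp_h L190404) (flp_g L190165) L195754
theorem L195764 : sm gd N18083 = N17999 := ded_33_1 L194997 L189422 L184981 L190159 L195754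
theorem L195766 : sm gg N17469 = N18084 := rfl
theorem L195768 : sm ga N18084 = N17704 := ded_14_1 (flp_g L192116) (flp_a L190171) L195766
theorem L195770 : sm gc N18084 = N17470 := ded_27_1 (flp_g L190175) (flp_c L190173) L195766
theorem L195772 : sm gf N18084 = N17497 := ded_39_1 (flp_g L190408) (flp_f L185078) (flp_g L184864) L190169 L195766
theorem L195774 : sm gf N17471 = N18085 := rfl
theorem L195776 : sm ga N18085 = N17606 := ded_13_1 (flp_f L191342) (flp_a L190185) L195774
theorem L195778 : sm gc N18085 = N17597 := ded_26_1 (flp_f L191276) (flp_c L190187) L195774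
theorem L195780 : sm gh N18085 = N17474 := ded_40_2 (flp_f L190211) (flp_h L190189) L195774
theorem L195782 : sm ge N18085 = N17473 := ded_35_1 (flp_f L190203) (flp_e L184894) (flp_f L184876) L190183 L195774
theorem L195784 : sm gf N17472 = N18086 := rfl
theorem L195786 : sm ga N18086 = N17607 := ded_13_1 (flp_f L191350) (flp_a L190193) L195784
theorem L195788 : sm gc N18086 = N17598 := ded_26_1 (flp_f L191282) (flp_c L190195) L195784
theorem L195790 : sm gh N18086 = N17648 := ded_40_2 (flp_f L191690) (flp_h L190199) L195784
theorem L195792 : sm gi N18086 = N17473 := ded_41_2 (flp_f L190203) (flp_i L190201) L195784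
theorem L195794 : sm gg N17473 = N18087 := rfl
theorem L195796 : sm ga N18087 = N17608 := ded_14_1 (flp_g L191356) (flp_a L190205) L195794
theorem L195798 : sm gc N18087 = N17599 := ded_27_1 (flp_g L191288) (flp_c L190207) L195794
theorem L195800 : sm gh N18087 = N17475 := ded_42_2 (flp_g L190221) (flp_h L190209) L195794
theorem L195802 : sm gf N18087 = N17507 := ded_39_1 (flp_g L190500) (flp_f L185160) (flp_g L184900) L190203 L195794
theorem L195804 : sm gg N17474 = N18088 := rfl
theorem L195806 : sm ga N18088 = N17610 := ded_14_1 (flp_g L191370) (flp_a L190213) L195804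
theorem L195808 : sm gc N18088 = N17601 := ded_27_1 (flp_g L191296) (flp_c L190215) L195804
theorem L195810 : sm ge N18088 = N17475 := ded_36_1 (flp_g L190221) (flp_e L190219) L195804
theorem L195812 : sm gi N18088 = N17654 := ded_43_2 (flp_g L191724) (flp_i L190217) L195804
theorem L195814 : sm gc N17476 = N18089 := rfl
theorem L195816 : sm ga N18089 = N17487 := ded_10_1 (flp_c L190343) (flp_a L190235) L195814
theorem L195818 : sm gf N18089 = N17915 := ded_26_2 (flp_c L194184) (flp_f L190239) L195814
theorem L195820 : sm gg N18089 = N17693 := ded_27_2 (flp_c L192050) (flp_g L190241) L195814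
theorem L195822 : sm gh N18089 = N17774 := ded_28_2 L192676 L190941 L195814
theorem L195824 : sm gi N18089 = N17477 := ded_29_2 (flp_c L190245) (flp_i L190243) L195814
theorem L195826 : sm gd N18089 = N18089 := ded_24_2 (flp_c L195814) (flp_d L190233) L184934 L190233 L195814
theorem L195827 : sm ge N17476 = N18090 := rfl
theorem L195829 : sm ga N18090 = N17488 := ded_12_1 (flp_e L190352) (flp_a L190235) L195827
theorem L195831 : sm gb N18090 = N17616 := ded_19_1 (flp_e L191428) (flp_b L190237) L195827
theorem L195833 : sm gg N18090 = N17694 := ded_36_2 (flp_e L192055) (flp_g L190241) L195827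
theorem L195835 : sm gi N18090 = N17478 := ded_38_2 (flp_e L190254) (flp_i L190243) L195827
theorem L195837 : sm gd N18090 = N17886 := ded_30_1 (flp_e L193870) (flp_d L188385) (flp_e L184935) L190233 L195827
theorem L195839 : sm ge N17477 = N18091 := rfl
theorem L195841 : sm ga N18091 = N17489 := ded_12_1 (flp_e L190358) (flp_a L190247) L195839
theorem L195843 : sm gc N18091 = N17478 := ded_25_1 (flp_e L190254) L190245 L195839
theorem L195845 : sm gg N18091 = N17696 := ded_36_2 (flp_e L192070) (flp_g L190249) L195839
theorem L195847 : sm gh N18091 = N17479 := ded_37_2 (flp_e L190266) (flp_h L190251) L195839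
theorem L195849 : sm gf N17478 = N18092 := rfl
theorem L195851 : sm ga N18092 = N17490 := ded_13_1 (flp_f L190366) (flp_a L190256) L195849
theorem L195853 : sm gb N18092 = N17619 := ded_20_1 (flp_f L191458) (flp_b L190258) L195849
theorem L195855 : sm gd N18092 = N18079 := ded_31_1 (flp_f L195714) (flp_d L190264) L195849
theorem L195857 : sm gh N18092 = N17480 := ded_40_2 (flp_f L190276) (flp_h L190262) L195849
theorem L195859 : sm gf N17479 = N18093 := rfl
theorem L195861 : sm ga N18093 = N17493 := ded_13_1 (flp_f L190386) (flp_a L190268) L195859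
theorem L195863 : sm gc N18093 = N17480 := ded_26_1 (flp_f L190276) (flp_c L190270) L195859
theorem L195865 : sm gi N18093 = N17790 := ded_41_2 (flp_f L192780) (flp_i L190274) L195859
theorem L195867 : sm gg N17480 = N18094 := rfl
theorem L195869 : sm ga N18094 = N17494 := ded_14_1 (flp_g L190394) (flp_a L190278) L195867
theorem L195871 : sm gb N18094 = N17624 := ded_21_1 (flp_g L191492) (flp_b L190280) L195867
theorem L195873 : sm gd N18094 = N17482 := ded_32_1 (flp_g L190292) (flp_d L190282) L195867
theorem L195875 : sm gf N18094 = N17701 := ded_39_1 (flp_g L192100) (flp_f L186789) (flp_g L184969) L190276 L195867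
theorem L195877 : sm gg N17481 = N18095 := rfl
theorem L195879 : sm ga N18095 = N17497 := ded_14_1 (flp_g L190408) (flp_a L190286) L195877
theorem L195881 : sm gc N18095 = N17482 := ded_27_1 (flp_g L190292) (flp_c L190288) L195877
theorem L195883 : sm gh N18095 = N18084 := ded_42_2 (flp_g L195766) (flp_h L190290) L195877
theorem L195885 : sm gf N18095 = N17704 := ded_39_1 (flp_g L192116) (flp_f L186799) (flp_g L184979) L190284 L195877
theorem L195887 : sm gc N17483 = N18096 := rfl
theorem L195889 : sm ga N18096 = N17918 := ded_10_1 (flp_c L194209) (flp_a L190304) L195887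
theorem L195891 : sm gf N18096 = N17831 := ded_26_2 (flp_c L193252) (flp_f L190308) L195887
theorem L195893 : sm gh N18096 = N17792 := ded_28_2 L192800 (flp_h L190312) L195887
theorem L195895 : sm gi N18096 = N17829 := ded_29_2 (flp_c L193229) (flp_i L190310) L195887
theorem L195897 : sm gb N18096 = N17965 := ded_17_1 (flp_c L194693) L189122 L185414 (flp_b L190306) L195887
theorem L195899 : sm gd N18096 = N18096 := ded_24_2 (flp_c L195887) (flp_d L190302) L184997 L190302 L195887
theorem L195900 : sm ge N17483 = N18097 := rfl
theorem L195902 : sm ga N18097 = N17919 := ded_12_1 (flp_e L194220) (flp_a L190304) L195900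
theorem L195904 : sm gb N18097 = N17498 := ded_19_1 (flp_e L190412) (flp_b L190306) L195900
theorem L195906 : sm gh N18097 = N17862 := ded_37_2 (flp_e L193608) (flp_h L190312) L195900
theorem L195908 : sm gi N18097 = N17830 := ded_38_2 (flp_e L193242) (flp_i L190310) L195900
theorem L195910 : sm gd N18097 = N17486 := ded_30_1 (flp_e L190337) (flp_d L185019) (flp_e L184998) L190302 L195900
theorem L195912 : sm gc N17484 = N18098 := rfl
theorem L195914 : sm ga N18098 = N17915 := ded_10_1 (flp_c L194184) (flp_a L190316) L195912
theorem L195916 : sm gf N18098 = N17487 := ded_26_2 (flp_c L190343) (flp_f L190320) L195912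
theorem L195918 : sm gg N18098 = N18096 := ded_27_2 (flp_c L195887) (flp_g L190322) L195912
theorem L195920 : sm gh N18098 = N17767 := ded_28_2 L192622 (flp_h L190326) L195912
theorem L195922 : sm gi N18098 = N17485 := ded_29_2 (flp_c L190328) (flp_i L190324) L195912
theorem L195924 : sm gb N18098 = N17751 := ded_17_1 (flp_c L192512) (flp_b L188331) L188339 (flp_b L190318) L195912
theorem L195926 : sm gd N18098 = N18098 := ded_24_2 (flp_c L195912) (flp_d L190314) L185010 L190314 L195912
theorem L195927 : sm ge N17484 = N18099 := rfl
theorem L195929 : sm ga N18099 = N17916 := ded_12_1 (flp_e L194191) (flp_a L190316) L195927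
theorem L195931 : sm gb N18099 = N17500 := ded_19_1 (flp_e L190428) (flp_b L190318) L195927
theorem L195933 : sm gg N18099 = N18097 := ded_36_2 (flp_e L195900) (flp_g L190322) L195927
theorem L195935 : sm gh N18099 = N18068 := ded_37_2 (flp_e L195604) (flp_h L190326) L195927
theorem L195937 : sm gi N18099 = N17486 := ded_38_2 (flp_e L190337) (flp_i L190324) L195927
theorem L195939 : sm gd N18099 = N17830 := ded_30_1 (flp_e L193242) (flp_d L187774) (flp_e L185011) L190314 L195927
theorem L195941 : sm ge N17485 = N18100 := rfl
theorem L195943 : sm gb N18100 = N17753 := ded_19_1 (flp_e L192527) (flp_b L190334) L195941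
theorem L195945 : sm gc N18100 = N17486 := ded_25_1 (flp_e L190337) L190328 L195941
theorem L195947 : sm gh N18100 = N17491 := ded_37_2 (flp_e L190372) (flp_h L190332) L195941
theorem L195949 : sm gf N17486 = N18101 := rfl
theorem L195951 : sm gb N18101 = N17502 := ded_20_1 (flp_f L190450) (flp_b L190339) L195949
theorem L195953 : sm gh N18101 = N17492 := ded_40_2 (flp_f L190380) (flp_h L190341) L195949
theorem L195955 : sm ge N18101 = N17490 := ded_35_1 (flp_f L190366) (flp_e L185040) (flp_f L185023) L190337 L195949
theorem L195957 : sm ge N17487 = N18102 := rfl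
theorem L195959 : sm gb N18102 = N17755 := ded_19_1 (flp_e L192539) (flp_b L190349) L195957
theorem L195961 : sm gc N18102 = N17488 := ded_25_1 (flp_e L190352) L190343 L195957
theorem L195963 : sm gh N18102 = N17775 := ded_37_2 (flp_e L192684) (flp_h L190345) L195957
theorem L195965 : sm gi N18102 = N17489 := ded_38_2 (flp_e L190358) (flp_i L190347) L195957
theorem L195967 : sm gf N17488 = N18103 := rfl
theorem L195969 : sm gb N18103 = N17504 := ded_20_1 (flp_f L190472) (flp_b L190354) L195967
theorem L195971 : sm gi N18103 = N17490 := ded_41_2 (flp_f L190366) (flp_i L190356) L195967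
theorem L195973 : sm gd N17489 = N18104 := rfl
theorem L195975 : sm gb N18104 = N17757 := ded_18_1 (flp_d L192553) (flp_b L190360) L195973
theorem L195977 : sm ge N18104 = N18104 := ded_30_2 (flp_d L195973) (flp_e L190358) L185039 L190358 L195973
theorem L195978 : sm gf N17489 = N18105 := rfl
theorem L195980 : sm gb N18105 = N17758 := ded_20_1 (flp_f L192556) (flp_b L190360) L195978
theorem L195982 : sm gc N18105 = N17490 := ded_26_1 (flp_f L190366) (flp_c L190362) L195978
theorem L195984 : sm gh N18105 = N17493 := ded_40_2 (flp_f L190386) (flp_h L190364) L195978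
theorem L195986 : sm gg N17490 = N18106 := rfl
theorem L195988 : sm gb N18106 = N17507 := ded_21_1 (flp_g L190500) (flp_b L190368) L195986
theorem L195990 : sm gh N18106 = N17494 := ded_42_2 (flp_g L190394) (flp_h L190370) L195986
theorem L195992 : sm gf N17491 = N18107 := rfl
theorem L195994 : sm gb N18107 = N17760 := ded_20_1 (flp_f L192566) (flp_b L190374) L195992
theorem L195996 : sm gc N18107 = N17492 := ded_26_1 (flp_f L190380) (flp_c L190376) L195992
theorem L195998 : sm gi N18107 = N17786 := ded_41_2 (flp_f L192748) (flp_i L190378) L195992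
theorem L196000 : sm ge N18107 = N17493 := ded_35_1 (flp_f L190386) (flp_e L185060) (flp_f L185048) L190372 L195992
theorem L196002 : sm gg N17492 = N18108 := rfl
theorem L196004 : sm gb N18108 = N17510 := ded_21_1 (flp_g L190522) (flp_b L190382) L196002
theorem L196006 : sm ge N18108 = N17494 := ded_36_1 (flp_g L190394) (flp_e L190384) L196002
theorem L196008 : sm gg N17493 = N18109 := rfl
theorem L196010 : sm gb N18109 = N17762 := ded_21_1 (flp_g L192580) (flp_b L190388) L196008
theorem L196012 : sm gc N18109 = N17494 := ded_27_1 (flp_g L190394) (flp_c L190390) L196008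
theorem L196014 : sm gi N18109 = N17791 := ded_43_2 (flp_g L192784) (flp_i L190392) L196008
theorem L196016 : sm gg N17495 = N18110 := rfl
theorem L196018 : sm gd N18110 = N17497 := ded_32_1 (flp_g L190408) (flp_d L190402) L196016
theorem L196020 : sm gh N17495 = N18111 := rfl
theorem L196022 : sm gf N18111 = N17496 := ded_40_1 (flp_h L190404) L190400 L196020
theorem L196024 : sm gi N17496 = N18112 := rfl
theorem L196026 : sm ge N18112 = N17514 := ded_38_1 (flp_i L190566) (flp_e L190406) L196024
theorem L196028 : sm gf N17498 = N18113 := rfl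
theorem L196030 : sm ga N18113 = N17643 := ded_13_1 (flp_f L191654) (flp_a L190414) L196028
theorem L196032 : sm gd N18113 = N17502 := ded_31_1 (flp_f L190450) (flp_d L190416) L196028
theorem L196034 : sm gf N17499 = N18114 := rfl
theorem L196036 : sm ga N18114 = N17644 := ded_13_1 (flp_f L191658) (flp_a L190420) L196034
theorem L196038 : sm gh N18114 = N17508 := ded_40_2 (flp_f L190506) (flp_h L190424) L196034
theorem L196040 : sm gi N18114 = N18113 := ded_41_2 (flp_f L196028) (flp_i L190426) L196034
theorem L196042 : sm gf N17500 = N18115 := rfl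
theorem L196044 : sm ga N18115 = N17645 := ded_13_1 (flp_f L191664) (flp_a L190430) L196042
theorem L196046 : sm gd N18115 = N18114 := ded_31_1 (flp_f L196034) (flp_d L190436) L196042
theorem L196048 : sm gi N18115 = N17502 := ded_41_2 (flp_f L190450) (flp_i L190434) L196042
theorem L196050 : sm ge N18115 = N17504 := ded_35_1 (flp_f L190472) (flp_e L185142) (flp_f L185104) L190428 L196042
theorem L196052 : sm gf N17501 = N18116 := rfl
theorem L196054 : sm ga N18116 = N17646 := ded_13_1 (flp_f L191672) (flp_a L190440) L196052
theorem L196056 : sm gb N18116 = N17754 := ded_20_1 (flp_f L192533) (flp_b L190442) L196052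
theorem L196058 : sm gc N18116 = N17502 := ded_26_1 (flp_f L190450) (flp_c L190444) L196052
theorem L196060 : sm gd N18116 = N18031 := ded_31_1 (flp_f L195270) (flp_d L190448) L196052
theorem L196062 : sm gh N18116 = N17509 := ded_40_2 (flp_f L190510) (flp_h L190446) L196052
theorem L196064 : sm ge N18116 = N17506 := ded_35_1 (flp_f L190490) (flp_e L185148) (flp_f L185114) L190438 L196052
theorem L196066 : sm gg N17502 = N18117 := rfl
theorem L196068 : sm ga N18117 = N17647 := ded_14_1 (flp_g L191684) (flp_a L190452) L196066
theorem L196070 : sm ge N18117 = N17507 := ded_36_1 (flp_g L190500) (flp_e L190456) L196066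
theorem L196072 : sm gh N18117 = N17510 := ded_42_2 (flp_g L190522) (flp_h L190454) L196066
theorem L196074 : sm gd N17503 = N18118 := rfl
theorem L196076 : sm ga N18118 = N17549 := ded_11_1 L190893 (flp_a L190460) L196074
theorem L196078 : sm gb N18118 = N17734 := ded_18_1 L192369 (flp_b L190462) L196074
theorem L196080 : sm gg N18118 = N17559 := ded_32_2 L190983 (flp_g L190466) L196074
theorem L196082 : sm gi N18118 = N17505 := ded_34_2 (flp_d L190478) (flp_i L190470) L196074
theorem L196084 : sm ge N18118 = N17512 := ded_30_2 (flp_d L190542) (flp_e L185218) (flp_d L185138) L190458 L196074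
theorem L196086 : sm gf N17503 = N18119 := rfl
theorem L196088 : sm ga N18119 = N17648 := ded_13_1 (flp_f L191690) (flp_a L190460) L196086
theorem L196090 : sm gb N18119 = N17756 := ded_20_1 (flp_f L192547) (flp_b L190462) L196086
theorem L196092 : sm gc N18119 = N17504 := ded_26_1 (flp_f L190472) (flp_c L190464) L196086
theorem L196094 : sm gh N18119 = N17607 := ded_40_2 (flp_f L191350) (flp_h L190468) L196086
theorem L196096 : sm gi N18119 = N17506 := ded_41_2 (flp_f L190490) (flp_i L190470) L196086
theorem L196098 : sm gg N17504 = N18120 := rfl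
theorem L196100 : sm ga N18120 = N17649 := ded_14_1 (flp_g L191696) (flp_a L190474) L196098
theorem L196102 : sm gi N18120 = N17507 := ded_43_2 (flp_g L190500) (flp_i L190476) L196098
theorem L196104 : sm gf N17505 = N18121 := rfl
theorem L196106 : sm ga N18121 = N17651 := ded_13_1 (flp_f L191708) (flp_a L190480) L196104
theorem L196108 : sm gb N18121 = N17737 := ded_20_1 (flp_f L192384) (flp_b L190482) L196104
theorem L196110 : sm gd N18121 = N17506 := ded_31_1 (flp_f L190490) L190478 L196104
theorem L196112 : sm gh N18121 = N17539 := ded_40_2 (flp_f L190788) (flp_h L190488) L196104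
theorem L196114 : sm ge N18121 = N18034 := ded_35_1 (flp_f L195302) (flp_e L189729) (flp_f L185240) (flp_e L190486) L196104
theorem L196116 : sm gg N17506 = N18122 := rfl
theorem L196118 : sm ga N18122 = N17652 := ded_14_1 (flp_g L191714) (flp_a L190492) L196116
theorem L196120 : sm gb N18122 = N17759 := ded_21_1 (flp_g L192562) (flp_b L190494) L196116
theorem L196122 : sm gc N18122 = N17507 := ded_27_1 (flp_g L190500) (flp_c L190496) L196116
theorem L196124 : sm gh N18122 = N17511 := ded_42_2 (flp_g L190528) (flp_h L190498) L196116
theorem L196126 : sm gf N18122 = N17599 := ded_39_1 (flp_g L191288) (flp_f L185909) (flp_g L185156) L190490 L196116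
theorem L196128 : sm gg N17508 = N18123 := rfl
theorem L196130 : sm ga N18123 = N17653 := ded_14_1 (flp_g L191720) (flp_a L190508) L196128
theorem L196132 : sm gf N18123 = N17510 := ded_39_1 (flp_g L190522) (flp_f L185182) (flp_g L185170) L190506 L196128
theorem L196134 : sm gg N17509 = N18124 := rfl
theorem L196136 : sm ga N18124 = N17654 := ded_14_1 (flp_g L191724) (flp_a L190512) L196134
theorem L196138 : sm gb N18124 = N17761 := ded_21_1 (flp_g L192574) (flp_b L190514) L196134
theorem L196140 : sm gc N18124 = N17510 := ded_27_1 (flp_g L190522) (flp_c L190516) L196134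
theorem L196142 : sm ge N18124 = N17511 := ded_36_1 (flp_g L190528) (flp_e L190520) L196134
theorem L196144 : sm gi N18124 = N17610 := ded_43_2 (flp_g L191370) (flp_i L190518) L196134
theorem L196146 : sm gi N17513 = N18125 := rfl
theorem L196148 : sm ga N18125 = N17730 := ded_16_1 (flp_i L192327) (flp_a L190556) L196146
theorem L196150 : sm gb N18125 = N17706 := ded_23_1 L192138 (flp_b L190558) L196146
theorem L196152 : sm gd N18125 = N17515 := ded_34_1 (flp_i L190570) (flp_d L190564) L196146
theorem L196154 : sm gf N18125 = N17710 := ded_41_1 L192170 (flp_f L190560) L196146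
theorem L196156 : sm gg N18125 = N17514 := ded_43_1 (flp_i L190566) (flp_g L190562) L196146
theorem L196158 : sm gg N17516 = N18126 := rfl
theorem L196160 : sm gb N18126 = N17519 := ded_21_1 (flp_g L190618) (flp_b L190586) L196158
theorem L196162 : sm ge N18126 = N17540 := ded_36_1 (flp_g L190794) (flp_e L190592) L196158
theorem L196164 : sm gh N18126 = N17520 := ded_42_2 (flp_g L190628) (flp_h L190588) L196158
theorem L196166 : sm gi N18126 = N17884 := ded_43_2 (flp_g L193847) (flp_i L190590) L196158
theorem L196168 : sm gf N17517 = N18127 := rfl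
theorem L196170 : sm ga N18127 = N17955 := ded_13_1 (flp_f L194593) (flp_a L190596) L196168
theorem L196172 : sm gc N18127 = N17518 := ded_26_1 (flp_f L190608) (flp_c L190598) L196168
theorem L196174 : sm gd N18127 = N17570 := ded_31_1 (flp_f L191045) (flp_d L190606) L196168
theorem L196176 : sm gh N18127 = N17848 := ded_40_2 (flp_f L193444) (flp_h L190602) L196168
theorem L196178 : sm gi N18127 = N17895 := ded_41_2 (flp_f L193959) (flp_i L190604) L196168
theorem L196180 : sm gg N17518 = N18128 := rfl
theorem L196182 : sm ga N18128 = N17956 := ded_14_1 (flp_g L194599) (flp_a L190610) L196180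
theorem L196184 : sm gd N18128 = N17519 := ded_32_1 (flp_g L190618) (flp_d L190612) L196180
theorem L196186 : sm gh N18128 = N17849 := ded_42_2 (flp_g L193456) (flp_h L190614) L196180
theorem L196188 : sm gi N18128 = N17896 := ded_43_2 (flp_g L193965) (flp_i L190616) L196180
theorem L196190 : sm gf N18128 = N17869 := ded_39_1 (flp_g L193678) (flp_f L188179) (flp_g L185301) L190608 L196180
theorem L196192 : sm ge N17521 = N18129 := rfl
theorem L196194 : sm gc N18129 = N17522 := ded_25_1 (flp_e L190645) L190636 L196192
theorem L196196 : sm gh N18129 = N17527 := ded_37_2 (flp_e L190696) (flp_h L190640) L196192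
theorem L196198 : sm gi N18129 = N18074 := ded_38_2 (flp_e L195670) (flp_i L190642) L196192
theorem L196200 : sm gf N17522 = N18130 := rfl
theorem L196202 : sm gb N18130 = N17533 := ded_20_1 (flp_f L190740) (flp_b L190647) L196200
theorem L196204 : sm gh N18130 = N17528 := ded_40_2 (flp_f L190700) (flp_h L190649) L196200
theorem L196206 : sm gi N18130 = N18075 := ded_41_2 (flp_f L195678) (flp_i L190651) L196200
theorem L196208 : sm ge N18130 = N17526 := ded_35_1 (flp_f L190688) (flp_e L185372) (flp_f L185347) L190645 L196200
theorem L196210 : sm ge N17523 = N18131 := rfl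
theorem L196212 : sm ga N18131 = N18129 := ded_12_1 (flp_e L196192) (flp_a L190655) L196210
theorem L196214 : sm gb N18131 = N18038 := ded_19_1 (flp_e L195345) (flp_b L190665) L196210
theorem L196216 : sm gc N18131 = N17524 := ded_25_1 (flp_e L190668) L190653 L196210
theorem L196218 : sm gg N18131 = N17801 := ded_36_2 (flp_e L192890) (flp_g L190659) L196210
theorem L196220 : sm gh N18131 = N17815 := ded_37_2 (flp_e L193050) (flp_h L190661) L196210
theorem L196222 : sm gi N18131 = N17525 := ded_38_2 (flp_e L190682) (flp_i L190663) L196210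
theorem L196224 : sm gf N17524 = N18132 := rfl
theorem L196226 : sm ga N18132 = N18130 := ded_13_1 (flp_f L196200) (flp_a L190670) L196224
theorem L196228 : sm gb N18132 = N17534 := ded_20_1 (flp_f L190746) (flp_b L190672) L196224
theorem L196230 : sm gd N18132 = N17982 := ded_31_1 (flp_f L194858) (flp_d L190680) L196224
theorem L196232 : sm gh N18132 = N17816 := ded_40_2 (flp_f L193064) (flp_h L190676) L196224
theorem L196234 : sm gi N18132 = N17526 := ded_41_2 (flp_f L190688) (flp_i L190678) L196224
theorem L196236 : sm ge N18132 = N18075 := ded_35_1 (flp_f L195678) (flp_e L190084) (flp_f L185359) L190668 L196224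
theorem L196238 : sm gd N17525 = N18133 := rfl
theorem L196240 : sm gc N18133 = N17984 := ded_24_1 (flp_d L194872) L189248 (flp_d L185378) (flp_c L190684) L196238
theorem L196242 : sm ge N18133 = N18133 := ded_30_2 (flp_d L196238) (flp_e L190682) L185371 L190682 L196238
theorem L196243 : sm gf N17525 = N18134 := rfl
theorem L196245 : sm gc N18134 = N17526 := ded_26_1 (flp_f L190688) (flp_c L190684) L196243
theorem L196247 : sm gh N18134 = N17529 := ded_40_2 (flp_f L190708) (flp_h L190686) L196243
theorem L196249 : sm gg N17526 = N18135 := rfl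
theorem L196251 : sm gb N18135 = N17535 := ded_21_1 (flp_g L190756) (flp_b L190690) L196249
theorem L196253 : sm gd N18135 = N17986 := ded_32_1 (flp_g L194881) (flp_d L190692) L196249
theorem L196255 : sm gh N18135 = N17530 := ded_42_2 (flp_g L190712) (flp_h L190694) L196249
theorem L196257 : sm gf N17527 = N18136 := rfl
theorem L196259 : sm gc N18136 = N17528 := ded_26_1 (flp_f L190700) (flp_c L190698) L196257
theorem L196261 : sm ge N18136 = N17529 := ded_35_1 (flp_f L190708) (flp_e L185392) (flp_f L185382) L190696 L196257
theorem L196263 : sm gg N17528 = N18137 := rfl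
theorem L196265 : sm gb N18137 = N17536 := ded_21_1 (flp_g L190762) (flp_b L190702) L196263
theorem L196267 : sm gd N18137 = N17610 := ded_32_1 (flp_g L191370) (flp_d L190704) L196263
theorem L196269 : sm ge N18137 = N17530 := ded_36_1 (flp_g L190712) (flp_e L190706) L196263
theorem L196271 : sm gg N17529 = N18138 := rfl
theorem L196273 : sm gc N18138 = N17530 := ded_27_1 (flp_g L190712) (flp_c L190710) L196271
theorem L196275 : sm gf N17531 = N18139 := rfl
theorem L196277 : sm gc N18139 = N18113 := ded_26_1 (flp_f L196028) (flp_c L190720) L196275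
theorem L196279 : sm gd N18139 = N17533 := ded_31_1 (flp_f L190740) (flp_d L190724) L196275
theorem L196281 : sm gh N18139 = N17764 := ded_40_2 (flp_f L192596) (flp_h L190722) L196275
theorem L196283 : sm ge N18139 = N17994 := ded_35_1 (flp_f L194955) (flp_e L189316) (flp_f L185412) L190718 L196275
theorem L196285 : sm gf N17532 = N18140 := rfl
theorem L196287 : sm ga N18140 = N17877 := ded_13_1 (flp_f L193761) (flp_a L190728) L196285
theorem L196289 : sm gb N18140 = N18075 := ded_20_1 (flp_f L195678) (flp_b L190730) L196285
theorem L196291 : sm gc N18140 = N17881 := ded_26_1 (flp_f L193811) (flp_c L190732) L196285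
theorem L196293 : sm gh N18140 = N17814 := ded_40_2 (flp_f L193036) (flp_h L190736) L196285
theorem L196295 : sm gi N18140 = N17533 := ded_41_2 (flp_f L190740) (flp_i L190738) L196285
theorem L196297 : sm ge N18140 = N17534 := ded_35_1 (flp_f L190746) (flp_e L185438) (flp_f L185424) L190726 L196285
theorem L196299 : sm gg N17533 = N18141 := rfl
theorem L196301 : sm ge N18141 = N17535 := ded_36_1 (flp_g L190756) (flp_e L190744) L196299
theorem L196303 : sm gh N18141 = N17536 := ded_42_2 (flp_g L190762) (flp_h L190742) L196299
theorem L196305 : sm gg N17534 = N18142 := rfl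
theorem L196307 : sm ga N18142 = N17879 := ded_14_1 (flp_g L193787) (flp_a L190748) L196305
theorem L196309 : sm gd N18142 = N18006 := ded_32_1 (flp_g L195045) (flp_d L190750) L196305
theorem L196311 : sm gh N18142 = N17821 := ded_42_2 (flp_g L193131) (flp_h L190752) L196305
theorem L196313 : sm gi N18142 = N17535 := ded_43_2 (flp_g L190756) (flp_i L190754) L196305
theorem L196315 : sm gf N18142 = N17810 := ded_39_1 (flp_g L192987) (flp_f L187569) (flp_g L185442) L190746 L196305
theorem L196317 : sm ga N17537 = N18143 := rfl
theorem L196319 : sm gc N18143 = N17743 := ded_10_2 (flp_a L192440) (flp_c L190776) L196317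
theorem L196321 : sm gd N18143 = N17541 := ded_11_2 (flp_a L190802) (flp_d L190770) L196317
theorem L196323 : sm gf N18143 = N17796 := ded_13_2 L192832 (flp_f L190772) L196317
theorem L196325 : sm gg N18143 = N17568 := ded_14_2 (flp_a L191037) (flp_g L190774) L196317
theorem L196327 : sm gb N18143 = N18021 := ded_9_2 L195156 L189535 (flp_a L185468) L190768 L196317
theorem L196329 : sm ge N17537 = N18144 := rfl
theorem L196331 : sm gb N18144 = N17538 := ded_19_1 (flp_e L190778) L190768 L196329
theorem L196333 : sm gc N18144 = N17744 := ded_25_1 (flp_e L192446) (flp_c L190776) L196329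
theorem L196335 : sm gg N18144 = N17569 := ded_36_2 (flp_e L191041) (flp_g L190774) L196329
theorem L196337 : sm gd N18144 = N17867 := ded_30_1 (flp_e L193660) L188161 (flp_e L185492) (flp_d L190770) L196329
theorem L196339 : sm gf N17538 = N18145 := rfl
theorem L196341 : sm ga N18145 = N18010 := ded_13_1 (flp_f L195069) (flp_a L190780) L196339
theorem L196343 : sm gc N18145 = N17539 := ded_26_1 (flp_f L190788) (flp_c L190782) L196339
theorem L196345 : sm gd N18145 = N17868 := ded_31_1 (flp_f L193670) (flp_d L190786) L196339
theorem L196347 : sm ge N18145 = N17782 := ded_35_1 (flp_f L192728) L187304 (flp_f L185470) L190778 L196339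
theorem L196349 : sm gg N17539 = N18146 := rfl
theorem L196351 : sm gb N18146 = N17746 := ded_21_1 (flp_g L192458) (flp_b L190790) L196349
theorem L196353 : sm gd N18146 = N17540 := ded_32_1 (flp_g L190794) (flp_d L190792) L196349
theorem L196355 : sm gf N18146 = N17571 := ded_39_1 (flp_g L191049) (flp_f L185679) (flp_g L185480) L190788 L196349
theorem L196357 : sm ge N17542 = N18147 := rfl
theorem L196359 : sm ga N18147 = N17548 := ded_12_1 (flp_e L190877) (flp_a L190818) L196357
theorem L196361 : sm gg N18147 = N17672 := ded_36_2 (flp_e L191887) (flp_g L190820) L196357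
theorem L196363 : sm gh N18147 = N17543 := ded_37_2 (flp_e L190824) (flp_h L190822) L196357
theorem L196365 : sm gd N18147 = N17576 := ded_30_1 (flp_e L191092) (flp_d L185742) (flp_e L185507) L190816 L196357
theorem L196367 : sm gf N17543 = N18148 := rfl
theorem L196369 : sm ga N18148 = N17552 := ded_13_1 (flp_f L190913) (flp_a L190826) L196367
theorem L196371 : sm gd N18148 = N17544 := ded_31_1 (flp_f L190834) (flp_d L190832) L196367
theorem L196373 : sm gi N18148 = N18034 := ded_41_2 (flp_f L195302) (flp_i L190830) L196367
theorem L196375 : sm gg N17544 = N18149 := rfl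
theorem L196377 : sm ga N18149 = N17553 := ded_14_1 (flp_g L190921) (flp_a L190836) L196375
theorem L196379 : sm gc N18149 = N18142 := ded_27_1 (flp_g L196305) (flp_c L190838) L196375
theorem L196381 : sm gh N18149 = N17580 := ded_42_2 (flp_g L191132) (flp_h L190840) L196375
theorem L196383 : sm gi N18149 = N18035 := ded_43_2 (flp_g L195312) (flp_i L190842) L196375
theorem L196385 : sm gf N18149 = N17678 := ded_39_1 (flp_g L191941) (flp_f L186666) (flp_g L185525) L190834 L196375
theorem L196387 : sm ge N17545 = N18150 := rfl
theorem L196389 : sm gb N18150 = N17557 := ded_19_1 (flp_e L190967) (flp_b L190846) L196387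
theorem L196391 : sm gg N18150 = N18041 := ded_36_2 (flp_e L195380) (flp_g L190850) L196387
theorem L196393 : sm gh N18150 = N17549 := ded_37_2 (flp_e L190887) (flp_h L190854) L196387
theorem L196395 : sm gi N18150 = N18147 := ded_38_2 (flp_e L196357) (flp_i L190852) L196387
theorem L196397 : sm gc N17546 = N18151 := rfl
theorem L196399 : sm ga N18151 = N17795 := ded_10_1 L192825 (flp_a L190858) L196397
theorem L196401 : sm gf N18151 = N18020 := ded_26_2 L195147 (flp_f L190862) L196397
theorem L196403 : sm gg N18151 = N17733 := ded_27_2 (flp_c L192356) (flp_g L190864) L196397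
theorem L196405 : sm gh N18151 = N17725 := ded_28_2 L192294 (flp_h L190868) L196397
theorem L196407 : sm gi N18151 = N17547 := ded_29_2 (flp_c L190870) (flp_i L190866) L196397
theorem L196409 : sm gd N18151 = N18151 := ded_24_2 (flp_c L196397) (flp_d L190856) L185548 L190856 L196397
theorem L196410 : sm ge N17546 = N18152 := rfl
theorem L196412 : sm ga N18152 = N18150 := ded_12_1 (flp_e L196387) (flp_a L190858) L196410
theorem L196414 : sm gb N18152 = N17559 := ded_19_1 (flp_e L190979) (flp_b L190860) L196410
theorem L196416 : sm gg N18152 = N17734 := ded_36_2 (flp_e L192363) (flp_g L190864) L196410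
theorem L196418 : sm gh N18152 = N18118 := ded_37_2 L196084 (flp_h L190868) L196410
theorem L196420 : sm gi N18152 = N17548 := ded_38_2 (flp_e L190877) (flp_i L190866) L196410
theorem L196422 : sm gd N18152 = N17586 := ded_30_1 (flp_e L191186) (flp_d L185812) (flp_e L185549) L190856 L196410
theorem L196424 : sm gb N17547 = N18153 := rfl
theorem L196426 : sm gd N18153 = N18153 := ded_18_2 (flp_b L196424) L190876 L196424
theorem L196427 : sm gg N18153 = N17735 := ded_21_2 (flp_b L192371) (flp_g L190872) L196424
theorem L196429 : sm gh N18153 = N17550 := ded_22_2 (flp_b L190895) (flp_h L190874) L196424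
theorem L196431 : sm gc N18153 = N17560 := ded_17_2 (flp_b L190985) (flp_c L185641) (flp_b L185559) L190870 L196424
theorem L196433 : sm ge N17547 = N18154 := rfl
theorem L196435 : sm gc N18154 = N17548 := ded_25_1 (flp_e L190877) L190870 L196433
theorem L196437 : sm gg N18154 = N17736 := ded_36_2 (flp_e L192378) (flp_g L190872) L196433
theorem L196439 : sm gh N18154 = N17551 := ded_37_2 (flp_e L190905) (flp_h L190874) L196433
theorem L196441 : sm gf N17548 = N18155 := rfl
theorem L196443 : sm gb N18155 = N17562 := ded_20_1 (flp_f L190997) (flp_b L190879) L196441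
theorem L196445 : sm gd N18155 = N17588 := ded_31_1 (flp_f L191204) (flp_d L190885) L196441
theorem L196447 : sm gh N18155 = N17552 := ded_40_2 (flp_f L190913) (flp_h L190883) L196441
theorem L196449 : sm gf N17549 = N18156 := rfl
theorem L196451 : sm gb N18156 = N17567 := ded_20_1 (flp_f L191033) (flp_b L190889) L196449
theorem L196453 : sm gd N18156 = N17648 := ded_31_1 (flp_f L191690) (flp_d L190893) L196449
theorem L196455 : sm gi N18156 = N17651 := ded_41_2 (flp_f L191708) (flp_i L190891) L196449
theorem L196457 : sm ge N18156 = N17552 := ded_35_1 (flp_f L190913) (flp_e L185581) (flp_f L185569) L190887 L196449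
theorem L196459 : sm ga N17550 = N18157 := rfl
theorem L196461 : sm gc N18157 = N17568 := ded_10_2 (flp_a L191037) (flp_c L190903) L196459
theorem L196463 : sm gd N18157 = N17656 := ded_11_2 (flp_a L191734) (flp_d L190897) L196459
theorem L196465 : sm gg N18157 = N17743 := ded_14_2 (flp_a L192440) (flp_g L190899) L196459
theorem L196467 : sm gi N18157 = N18143 := ded_16_2 (flp_a L196317) (flp_i L190901) L196459
theorem L196469 : sm ge N17550 = N18158 := rfl
theorem L196471 : sm gb N18158 = N17551 := ded_19_1 (flp_e L190905) L190895 L196469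
theorem L196473 : sm gc N18158 = N17569 := ded_25_1 (flp_e L191041) (flp_c L190903) L196469
theorem L196475 : sm gg N18158 = N17744 := ded_36_2 (flp_e L192446) (flp_g L190899) L196469
theorem L196477 : sm gi N18158 = N18144 := ded_38_2 (flp_e L196329) (flp_i L190901) L196469
theorem L196479 : sm gf N17551 = N18159 := rfl
theorem L196481 : sm gc N18159 = N17552 := ded_26_1 (flp_f L190913) (flp_c L190907) L196479
theorem L196483 : sm gi N18159 = N18145 := ded_41_2 (flp_f L196339) (flp_i L190911) L196479
theorem L196485 : sm gg N17552 = N18160 := rfl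
theorem L196487 : sm gb N18160 = N17571 := ded_21_1 (flp_g L191049) (flp_b L190915) L196485
theorem L196489 : sm gd N18160 = N17553 := ded_32_1 (flp_g L190921) (flp_d L190917) L196485
theorem L196491 : sm gi N18160 = N18146 := ded_43_2 (flp_g L196349) (flp_i L190919) L196485
theorem L196493 : sm gf N18160 = N17746 := ded_39_1 (flp_g L192458) (flp_f L187082) (flp_g L185585) L190913 L196485
theorem L196495 : sm ge N17554 = N18161 := rfl
theorem L196497 : sm ga N18161 = N17890 := ded_12_1 (flp_e L193905) (flp_a L190933) L196495
theorem L196499 : sm gg N18161 = N17806 := ded_36_2 (flp_e L192947) (flp_g L190937) L196495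
theorem L196501 : sm gh N18161 = N18090 := ded_37_2 (flp_e L195827) (flp_h L190941) L196495
theorem L196503 : sm gi N18161 = N17949 := ded_38_2 (flp_e L194525) (flp_i L190939) L196495
theorem L196505 : sm gd N18161 = N17557 := ded_30_1 (flp_e L190967) (flp_d L185629) (flp_e L185605) L190931 L196495
theorem L196507 : sm gc N17555 = N18162 := rfl
theorem L196509 : sm ga N18162 = N17738 := ded_10_1 (flp_c L192390) (flp_a L190945) L196507
theorem L196511 : sm gf N18162 = N17558 := ded_26_2 (flp_c L190973) (flp_f L190949) L196507
theorem L196513 : sm gg N18162 = N17673 := ded_27_2 (flp_c L191895) (flp_g L190951) L196507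
theorem L196515 : sm gh N18162 = N18036 := ded_28_2 (flp_c L195322) (flp_h L190955) L196507
theorem L196517 : sm gi N18162 = N17556 := ded_29_2 (flp_c L190957) (flp_i L190953) L196507
theorem L196519 : sm gd N18162 = N17663 := ded_24_2 (flp_c L191812) (flp_d L186533) (flp_c L185619) L190943 L196507
theorem L196521 : sm ge N17555 = N18163 := rfl
theorem L196523 : sm ga N18163 = N17739 := ded_12_1 (flp_e L192402) (flp_a L190945) L196521
theorem L196525 : sm gb N18163 = N18147 := ded_19_1 (flp_e L196357) (flp_b L190947) L196521
theorem L196527 : sm gg N18163 = N17674 := ded_36_2 (flp_e L191907) (flp_g L190951) L196521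
theorem L196529 : sm gh N18163 = N18037 := ded_37_2 (flp_e L195333) (flp_h L190955) L196521
theorem L196531 : sm gi N18163 = N17557 := ded_38_2 (flp_e L190967) (flp_i L190953) L196521
theorem L196533 : sm gd N18163 = N17949 := ded_30_1 (flp_e L194525) (flp_d L188968) (flp_e L185621) L190943 L196521
theorem L196535 : sm gb N17556 = N18164 := rfl
theorem L196537 : sm gd N18164 = N17664 := ded_18_2 (flp_b L191823) (flp_d L190965) L196535
theorem L196539 : sm gf N18164 = N17560 := ded_20_2 (flp_b L190985) (flp_f L190959) L196535
theorem L196541 : sm gg N18164 = N18050 := ded_21_2 (flp_b L195446) (flp_g L190961) L196535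
theorem L196543 : sm gh N18164 = N17565 := ded_22_2 (flp_b L191023) (flp_h L190963) L196535
theorem L196545 : sm ge N17556 = N18165 := rfl
theorem L196547 : sm gc N18165 = N17557 := ded_25_1 (flp_e L190967) L190957 L196545
theorem L196549 : sm gg N18165 = N18051 := ded_36_2 (flp_e L195454) (flp_g L190961) L196545
theorem L196551 : sm gh N18165 = N17566 := ded_37_2 (flp_e L191029) (flp_h L190963) L196545
theorem L196553 : sm gf N17557 = N18166 := rfl
theorem L196555 : sm gh N18166 = N17567 := ded_40_2 (flp_f L191033) (flp_h L190971) L196553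
theorem L196557 : sm ge N18166 = N17562 := ded_35_1 (flp_f L190997) (flp_e L185647) (flp_f L185631) L190967 L196553
theorem L196559 : sm gb N17558 = N18167 := rfl
theorem L196561 : sm gd N18167 = N17665 := ded_18_2 (flp_b L191832) (flp_d L190977) L196559
theorem L196563 : sm gi N18167 = N17560 := ded_23_2 (flp_b L190985) (flp_i L190975) L196559
theorem L196565 : sm ge N17558 = N18168 := rfl
theorem L196567 : sm gc N18168 = N17559 := ded_25_1 (flp_e L190979) L190973 L196565
theorem L196569 : sm gi N18168 = N17561 := ded_38_2 (flp_e L190991) (flp_i L190975) L196565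
theorem L196571 : sm gf N17559 = N18169 := rfl
theorem L196573 : sm gd N18169 = N17598 := ded_31_1 (flp_f L191282) (flp_d L190983) L196571
theorem L196575 : sm gi N18169 = N17562 := ded_41_2 (flp_f L190997) (flp_i L190981) L196571
theorem L196577 : sm ga N17560 = N18170 := rfl
theorem L196579 : sm gd N18170 = N17666 := ded_11_2 (flp_a L191840) (flp_d L190987) L196577
theorem L196581 : sm gh N18170 = N17568 := ded_15_2 (flp_a L191037) (flp_h L190989) L196577
theorem L196583 : sm gb N18170 = N18017 := ded_9_2 L195119 L191778 L186483 L190985 L196577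
theorem L196585 : sm ge N17560 = N18171 := rfl
theorem L196587 : sm gb N18171 = N17561 := ded_19_1 (flp_e L190991) L190985 L196585
theorem L196589 : sm gh N18171 = N17569 := ded_37_2 (flp_e L191041) (flp_h L190989) L196585
theorem L196591 : sm gf N17561 = N18172 := rfl
theorem L196593 : sm gc N18172 = N17562 := ded_26_1 (flp_f L190997) (flp_c L190993) L196591
theorem L196595 : sm gh N18172 = N17570 := ded_40_2 (flp_f L191045) (flp_h L190995) L196591
theorem L196597 : sm gg N17562 = N18173 := rfl
theorem L196599 : sm gd N18173 = N17599 := ded_32_1 (flp_g L191288) (flp_d L190999) L196597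
theorem L196601 : sm gh N18173 = N17571 := ded_42_2 (flp_g L191049) (flp_h L191001) L196597
theorem L196603 : sm ge N17563 = N18174 := rfl
theorem L196605 : sm ga N18174 = N18165 := ded_12_1 (flp_e L196545) (flp_a L191005) L196603
theorem L196607 : sm gc N18174 = N17564 := ded_25_1 (flp_e L191015) L191003 L196603
theorem L196609 : sm gg N18174 = N17566 := ded_36_2 (flp_e L191029) (flp_g L191009) L196603
theorem L196611 : sm gh N18174 = N18051 := ded_37_2 (flp_e L195454) (flp_h L191011) L196603
theorem L196613 : sm gf N17564 = N18175 := rfl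
theorem L196615 : sm ga N18175 = N18166 := ded_13_1 (flp_f L196553) (flp_a L191017) L196613
theorem L196617 : sm gh N18175 = N18052 := ded_40_2 (flp_f L195460) (flp_h L191021) L196613
theorem L196619 : sm ge N18175 = N18049 := ded_35_1 (flp_f L195438) (flp_e L189829) (flp_f L185657) L191015 L196613
theorem L196621 : sm ga N17565 = N18176 := rfl
theorem L196623 : sm gd N18176 = N17572 := ded_11_2 (flp_a L191053) (flp_d L191025) L196621
theorem L196625 : sm gf N18176 = N17568 := ded_13_2 (flp_a L191037) (flp_f L191027) L196621
theorem L196627 : sm gg N18176 = N18059 := ded_14_2 L195524 L191069 L196621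
theorem L196629 : sm ge N17565 = N18177 := rfl
theorem L196631 : sm gb N18177 = N17566 := ded_19_1 (flp_e L191029) L191023 L196629
theorem L196633 : sm gd N18177 = N18174 := ded_30_1 (flp_e L196603) L191013 L185703 (flp_d L191025) L196629
theorem L196635 : sm gd N17566 = N18178 := rfl
theorem L196637 : sm gb N18178 = N18174 := ded_18_1 (flp_d L196633) L196631 L196635
theorem L196639 : sm gg N18178 = N18177 := ded_32_2 L196633 L196609 L196635
theorem L196641 : sm ge N18178 = N17573 := ded_30_2 (flp_d L191065) (flp_e L185705) (flp_d L185667) L191029 L196635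
theorem L196643 : sm gf N17566 = N18179 := rfl
theorem L196645 : sm gc N18179 = N17567 := ded_26_1 (flp_f L191033) (flp_c L191031) L196643
theorem L196647 : sm ge N18179 = N17570 := ded_35_1 (flp_f L191045) (flp_e L185675) (flp_f L185665) L191029 L196643
theorem L196649 : sm gg N17567 = N18180 := rfl
theorem L196651 : sm ge N18180 = N17571 := ded_36_1 (flp_g L191049) (flp_e L191035) L196649
theorem L196653 : sm ge N17568 = N18181 := rfl
theorem L196655 : sm ga N18181 = N17569 := ded_12_1 (flp_e L191041) L191037 L196653
theorem L196657 : sm gf N17569 = N18182 := rfl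
theorem L196659 : sm gb N18182 = N17570 := ded_20_1 (flp_f L191045) (flp_b L191043) L196657
theorem L196661 : sm gg N17570 = N18183 := rfl
theorem L196663 : sm gc N18183 = N17571 := ded_27_1 (flp_g L191049) (flp_c L191047) L196661
theorem L196665 : sm gc N17574 = N18184 := rfl
theorem L196667 : sm ga N18184 = N17585 := ded_10_1 (flp_c L191177) (flp_a L191073) L196665
theorem L196669 : sm gg N18184 = N17685 := ded_27_2 (flp_c L191992) (flp_g L191077) L196665
theorem L196671 : sm gh N18184 = N17615 := ded_28_2 (flp_c L191418) (flp_h L191081) L196665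
theorem L196673 : sm gi N18184 = N17575 := ded_29_2 (flp_c L191083) (flp_i L191079) L196665
theorem L196675 : sm gd N18184 = N18184 := ded_24_2 (flp_c L196665) (flp_d L191071) L185735 L191071 L196665
theorem L196676 : sm ge N17574 = N18185 := rfl
theorem L196678 : sm ga N18185 = N17586 := ded_12_1 (flp_e L191186) (flp_a L191073) L196676
theorem L196680 : sm gb N18185 = N18161 := ded_19_1 (flp_e L196495) (flp_b L191075) L196676
theorem L196682 : sm gg N18185 = N17686 := ded_36_2 (flp_e L192001) (flp_g L191077) L196676
theorem L196684 : sm gh N18185 = N17616 := ded_37_2 (flp_e L191428) (flp_h L191081) L196676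
theorem L196686 : sm gi N18185 = N17576 := ded_38_2 (flp_e L191092) (flp_i L191079) L196676
theorem L196688 : sm gd N18185 = N18150 := ded_30_1 (flp_e L196387) (flp_d L190844) (flp_e L185736) L191071 L196676
theorem L196690 : sm gb N17575 = N18186 := rfl
theorem L196692 : sm gd N18186 = N18186 := ded_18_2 (flp_b L196690) L191091 L196690
theorem L196693 : sm gf N18186 = N17729 := ded_20_2 (flp_b L194797) L194791 L196690
theorem L196695 : sm gg N18186 = N17687 := ded_21_2 (flp_b L192009) (flp_g L191087) L196690
theorem L196697 : sm gh N18186 = N17577 := ded_22_2 (flp_b L191100) (flp_h L191089) L196690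
theorem L196699 : sm ga N18186 = N17695 := ded_9_1 (flp_b L192063) (flp_a L190118) L190124 (flp_a L191085) L196690
theorem L196701 : sm gc N18186 = N17713 := ded_17_2 L192196 (flp_c L188978) L188972 L191083 L196690
theorem L196703 : sm ge N17575 = N18187 := rfl
theorem L196705 : sm ga N18187 = N17587 := ded_12_1 (flp_e L191196) (flp_a L191085) L196703
theorem L196707 : sm gc N18187 = N17576 := ded_25_1 (flp_e L191092) L191083 L196703
theorem L196709 : sm gg N18187 = N17688 := ded_36_2 (flp_e L192014) (flp_g L191087) L196703
theorem L196711 : sm gh N18187 = N17578 := ded_37_2 (flp_e L191114) (flp_h L191089) L196703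
theorem L196713 : sm gf N17576 = N18188 := rfl
theorem L196715 : sm ga N18188 = N17588 := ded_13_1 (flp_f L191204) (flp_a L191094) L196713
theorem L196717 : sm gh N18188 = N17579 := ded_40_2 (flp_f L191124) (flp_h L191098) L196713
theorem L196719 : sm ge N17577 = N18189 := rfl
theorem L196721 : sm ga N18189 = N17698 := ded_12_1 (flp_e L192084) (flp_a L191110) L196719
theorem L196723 : sm gb N18189 = N17578 := ded_19_1 (flp_e L191114) L191100 L196719
theorem L196725 : sm gc N18189 = N17720 := ded_25_1 (flp_e L192246) (flp_c L191112) L196719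
theorem L196727 : sm gg N18189 = N17690 := ded_36_2 (flp_e L192028) (flp_g L191106) L196719
theorem L196729 : sm gi N18189 = N17622 := ded_38_2 (flp_e L191478) (flp_i L191108) L196719
theorem L196731 : sm gd N18189 = N17589 := ded_30_1 (flp_e L191210) L185843 (flp_e L186340) (flp_d L191102) L196719
theorem L196733 : sm gf N17578 = N18190 := rfl
theorem L196735 : sm ga N18190 = N17591 := ded_13_1 (flp_f L191224) (flp_a L191116) L196733
theorem L196737 : sm gc N18190 = N17579 := ded_26_1 (flp_f L191124) (flp_c L191118) L196733
theorem L196739 : sm gi N18190 = N17623 := ded_41_2 (flp_f L191486) (flp_i L191122) L196733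
theorem L196741 : sm gg N17579 = N18191 := rfl
theorem L196743 : sm ga N18191 = N17592 := ded_14_1 (flp_g L191230) (flp_a L191126) L196741
theorem L196745 : sm gd N18191 = N17580 := ded_32_1 (flp_g L191132) (flp_d L191128) L196741
theorem L196747 : sm gi N18191 = N17624 := ded_43_2 (flp_g L191492) (flp_i L191130) L196741
theorem L196749 : sm gf N18191 = N17692 := ded_39_1 (flp_g L192042) (flp_f L186746) (flp_g L185764) L191124 L196741
theorem L196751 : sm gc N17581 = N18192 := rfl
theorem L196753 : sm ga N18192 = N17887 := ded_10_1 L193891 L191152 L196751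
theorem L196755 : sm gf N18192 = N18184 := ded_26_2 (flp_c L196665) (flp_f L191144) L196751
theorem L196757 : sm gg N18192 = N17976 := ded_27_2 (flp_c L194810) (flp_g L191146) L196751
theorem L196759 : sm gh N18192 = N17893 := ded_28_2 L193941 L191400 L196751
theorem L196761 : sm gi N18192 = N17974 := ded_29_2 (flp_c L194787) (flp_i L191148) L196751
theorem L196763 : sm gd N18192 = N18192 := ded_24_2 (flp_c L196751) (flp_d L191140) L185780 L191140 L196751
theorem L196764 : sm ge N17581 = N18193 := rfl
theorem L196766 : sm gb N18193 = N17594 := ded_19_1 (flp_e L191248) (flp_b L191142) L196764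
theorem L196768 : sm gg N18193 = N17977 := ded_36_2 (flp_e L194819) (flp_g L191146) L196764
theorem L196770 : sm gi N18193 = N17975 := ded_38_2 (flp_e L194800) (flp_i L191148) L196764
theorem L196772 : sm gd N18193 = N17584 := ded_30_1 (flp_e L191171) (flp_d L185804) (flp_e L185781) L191140 L196764
theorem L196774 : sm ge N17582 = N18194 := rfl
theorem L196776 : sm ga N18194 = N18193 := ded_12_1 (flp_e L196764) (flp_a L191152) L196774
theorem L196778 : sm gb N18194 = N17596 := ded_19_1 (flp_e L191266) (flp_b L191154) L196774
theorem L196780 : sm gg N18194 = N17973 := ded_36_2 (flp_e L194777) (flp_g L191158) L196774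
theorem L196782 : sm gh N18194 = N17628 := ded_37_2 (flp_e L191528) (flp_h L191162) L196774
theorem L196784 : sm gi N18194 = N17584 := ded_38_2 (flp_e L191171) (flp_i L191160) L196774
theorem L196786 : sm gd N18194 = N17975 := ded_30_1 (flp_e L194800) (flp_d L189193) (flp_e L185796) L191150 L196774
theorem L196788 : sm ge N17583 = N18195 := rfl
theorem L196790 : sm gc N18195 = N17584 := ded_25_1 (flp_e L191171) L191164 L196788
theorem L196792 : sm gh N18195 = N17589 := ded_37_2 (flp_e L191210) (flp_h L191168) L196788
theorem L196794 : sm gf N17584 = N18196 := rfl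
theorem L196796 : sm gb N18196 = N17597 := ded_20_1 (flp_f L191276) (flp_b L191173) L196794
theorem L196798 : sm gh N18196 = N17590 := ded_40_2 (flp_f L191216) (flp_h L191175) L196794
theorem L196800 : sm ge N18196 = N17588 := ded_35_1 (flp_f L191204) (flp_e L185829) (flp_f L185808) L191171 L196794
theorem L196802 : sm ge N17585 = N18197 := rfl
theorem L196804 : sm gc N18197 = N17586 := ded_25_1 (flp_e L191186) L191177 L196802
theorem L196806 : sm gg N18197 = N17755 := ded_36_2 (flp_e L192539) (flp_g L191179) L196802
theorem L196808 : sm gh N18197 = N17631 := ded_37_2 (flp_e L191556) (flp_h L191181) L196802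
theorem L196810 : sm gi N18197 = N17587 := ded_38_2 (flp_e L191196) (flp_i L191183) L196802
theorem L196812 : sm gf N17586 = N18198 := rfl
theorem L196814 : sm gb N18198 = N17598 := ded_20_1 (flp_f L191282) (flp_b L191188) L196812
theorem L196816 : sm gh N18198 = N17632 := ded_40_2 (flp_f L191564) (flp_h L191192) L196812
theorem L196818 : sm gi N18198 = N17588 := ded_41_2 (flp_f L191204) (flp_i L191194) L196812
theorem L196820 : sm gd N17587 = N18199 := rfl
theorem L196822 : sm gg N18199 = N17757 := ded_32_2 (flp_d L192553) (flp_g L191200) L196820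
theorem L196824 : sm ge N18199 = N18199 := ded_30_2 (flp_d L196820) (flp_e L191196) L185828 L191196 L196820
theorem L196825 : sm gf N17587 = N18200 := rfl
theorem L196827 : sm gc N18200 = N17588 := ded_26_1 (flp_f L191204) (flp_c L191198) L196825
theorem L196829 : sm gh N18200 = N17591 := ded_40_2 (flp_f L191224) (flp_h L191202) L196825
theorem L196831 : sm gg N17588 = N18201 := rfl
theorem L196833 : sm gb N18201 = N17599 := ded_21_1 (flp_g L191288) (flp_b L191206) L196831
theorem L196835 : sm gh N18201 = N17592 := ded_42_2 (flp_g L191230) (flp_h L191208) L196831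
theorem L196837 : sm gf N18201 = N17759 := ded_39_1 (flp_g L192562) (flp_f L187182) (flp_g L185833) L191204 L196831
theorem L196839 : sm gf N17589 = N18202 := rfl
theorem L196841 : sm gc N18202 = N17590 := ded_26_1 (flp_f L191216) (flp_c L191212) L196839
theorem L196843 : sm gi N18202 = N17638 := ded_41_2 (flp_f L191616) (flp_i L191214) L196839
theorem L196845 : sm ge N18202 = N17591 := ded_35_1 (flp_f L191224) (flp_e L185851) (flp_f L185839) L191210 L196839
theorem L196847 : sm gg N17590 = N18203 := rfl
theorem L196849 : sm gb N18203 = N17601 := ded_21_1 (flp_g L191296) (flp_b L191218) L196847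
theorem L196851 : sm ge N18203 = N17592 := ded_36_1 (flp_g L191230) (flp_e L191222) L196847
theorem L196853 : sm gi N18203 = N17639 := ded_43_2 (flp_g L191622) (flp_i L191220) L196847
theorem L196855 : sm gg N17591 = N18204 := rfl
theorem L196857 : sm gc N18204 = N17592 := ded_27_1 (flp_g L191230) (flp_c L191226) L196855
theorem L196859 : sm gi N18204 = N17641 := ded_43_2 (flp_g L191634) (flp_i L191228) L196855
theorem L196861 : sm gf N18204 = N17762 := ded_39_1 (flp_g L192580) (flp_f L187198) (flp_g L185855) L191224 L196855
theorem L196863 : sm ge N17593 = N18205 := rfl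
theorem L196865 : sm gc N18205 = N17594 := ded_25_1 (flp_e L191248) L191240 L196863
theorem L196867 : sm gg N18205 = N17997 := ded_36_2 (flp_e L194977) (flp_g L191242) L196863
theorem L196869 : sm gi N18205 = N17859 := ded_38_2 L193584 (flp_i L191244) L196863
theorem L196871 : sm gf N17594 = N18206 := rfl
theorem L196873 : sm gd N18206 = N17597 := ded_31_1 (flp_f L191276) (flp_d L191254) L196871
theorem L196875 : sm gi N18206 = N17995 := ded_41_2 (flp_f L194961) (flp_i L191252) L196871
theorem L196877 : sm gf N17595 = N18207 := rfl
theorem L196879 : sm gd N18207 = N17998 := ded_31_1 (flp_f L194983) (flp_d L191264) L196877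
theorem L196881 : sm gh N18207 = N17600 := ded_40_2 (flp_f L191292) (flp_h L191260) L196877
theorem L196883 : sm gi N18207 = N17994 := ded_41_2 (flp_f L194955) (flp_i L191262) L196877
theorem L196885 : sm gf N17596 = N18208 := rfl
theorem L196887 : sm gd N18208 = N17995 := ded_31_1 (flp_f L194961) (flp_d L191274) L196885
theorem L196889 : sm gh N18208 = N17645 := ded_40_2 (flp_f L191664) (flp_h L191270) L196885
theorem L196891 : sm gi N18208 = N17597 := ded_41_2 (flp_f L191276) (flp_i L191272) L196885
theorem L196893 : sm ge N18208 = N17598 := ded_35_1 (flp_f L191282) (flp_e L185903) (flp_f L185891) L191266 L196885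
theorem L196895 : sm gg N17597 = N18209 := rfl
theorem L196897 : sm ge N18209 = N17599 := ded_36_1 (flp_g L191288) (flp_e L191280) L196895
theorem L196899 : sm gh N18209 = N17601 := ded_42_2 (flp_g L191296) (flp_h L191278) L196895
theorem L196901 : sm gg N17598 = N18210 := rfl
theorem L196903 : sm gh N18210 = N17649 := ded_42_2 (flp_g L191696) (flp_h L191284) L196901
theorem L196905 : sm gi N18210 = N17599 := ded_43_2 (flp_g L191288) (flp_i L191286) L196901
theorem L196907 : sm gg N17600 = N18211 := rfl
theorem L196909 : sm gi N18211 = N17653 := ded_43_2 (flp_g L191720) (flp_i L191294) L196907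
theorem L196911 : sm gf N18211 = N17601 := ded_39_1 (flp_g L191296) (flp_f L185919) (flp_g L185915) L191292 L196907
theorem L196913 : sm ge N17602 = N18212 := rfl
theorem L196915 : sm gc N18212 = N17603 := ded_25_1 (flp_e L191310) L191302 L196913
theorem L196917 : sm gg N18212 = N17768 := ded_36_2 (flp_e L192626) (flp_g L191304) L196913
theorem L196919 : sm gi N18212 = N17765 := ded_38_2 (flp_e L192602) (flp_i L191306) L196913
theorem L196921 : sm gf N17603 = N18213 := rfl
theorem L196923 : sm gb N18213 = N17764 := ded_20_1 (flp_f L192596) (flp_b L191312) L196921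
theorem L196925 : sm gd N18213 = N17606 := ded_31_1 (flp_f L191342) (flp_d L191318) L196921
theorem L196927 : sm gi N18213 = N17766 := ded_41_2 (flp_f L192610) (flp_i L191316) L196921
theorem L196929 : sm gf N17604 = N18214 := rfl
theorem L196931 : sm gb N18214 = N17766 := ded_20_1 (flp_f L192610) (flp_b L191322) L196929
theorem L196933 : sm gd N18214 = N17769 := ded_31_1 (flp_f L192632) (flp_d L191330) L196929
theorem L196935 : sm gh N18214 = N17609 := ded_40_2 (flp_f L191364) (flp_h L191326) L196929
theorem L196937 : sm gi N18214 = N17764 := ded_41_2 (flp_f L192596) (flp_i L191328) L196929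
theorem L196939 : sm ge N18214 = N17644 := ded_35_1 (flp_f L191658) (flp_e L186249) (flp_f L185943) L191320 L196929
theorem L196941 : sm gf N17605 = N18215 := rfl
theorem L196943 : sm gb N18215 = N17769 := ded_20_1 (flp_f L192632) (flp_b L191334) L196941
theorem L196945 : sm gd N18215 = N17766 := ded_31_1 (flp_f L192610) (flp_d L191340) L196941
theorem L196947 : sm gi N18215 = N17606 := ded_41_2 (flp_f L191342) (flp_i L191338) L196941
theorem L196949 : sm ge N18215 = N17607 := ded_35_1 (flp_f L191350) (flp_e L185967) (flp_f L185955) L191332 L196941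
theorem L196951 : sm gg N17606 = N18216 := rfl
theorem L196953 : sm gb N18216 = N17773 := ded_21_1 (flp_g L192668) (flp_b L191344) L196951
theorem L196955 : sm ge N18216 = N17608 := ded_36_1 (flp_g L191356) (flp_e L191348) L196951
theorem L196957 : sm gh N18216 = N17610 := ded_42_2 (flp_g L191370) (flp_h L191346) L196951
theorem L196959 : sm gg N17607 = N18217 := rfl
theorem L196961 : sm gb N18217 = N17778 := ded_21_1 (flp_g L192704) (flp_b L191352) L196959
theorem L196963 : sm gi N18217 = N17608 := ded_43_2 (flp_g L191356) (flp_i L191354) L196959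
theorem L196965 : sm gf N18217 = N17649 := ded_39_1 (flp_g L191696) (flp_f L186287) (flp_g L185971) L191350 L196959
theorem L196967 : sm gg N17609 = N18218 := rfl
theorem L196969 : sm gb N18218 = N17785 := ded_21_1 (flp_g L192744) (flp_b L191366) L196967
theorem L196971 : sm ge N18218 = N17653 := ded_36_1 (flp_g L191720) (flp_e L191368) L196967
theorem L196973 : sm gf N18218 = N17610 := ded_39_1 (flp_g L191370) (flp_f L185987) (flp_g L185985) L191364 L196967
theorem L196975 : sm gc N17611 = N18219 := rfl
theorem L196977 : sm ga N18219 = N17625 := ded_10_1 (flp_c L191500) (flp_a L191378) L196975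
theorem L196979 : sm gf N18219 = N17908 := ded_26_2 (flp_c L194098) (flp_f L191382) L196975
theorem L196981 : sm gg N18219 = N17893 := ded_27_2 L193941 L191396 L196975
theorem L196983 : sm gh N18219 = N17976 := ded_28_2 (flp_c L194810) (flp_h L191386) L196975
theorem L196985 : sm gi N18219 = N17866 := ded_29_2 L193648 (flp_i L191384) L196975
theorem L196987 : sm gd N18219 = N17657 := ded_24_2 (flp_c L191743) (flp_d L186394) (flp_c L186007) L191376 L196975
theorem L196989 : sm gb N18002 = N18219 := ded_9_0 L196977 L191508 L188141 L189364 L195013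
theorem L196991 : sm ge N17611 = N18220 := rfl
theorem L196993 : sm ga N18220 = N17626 := ded_12_1 (flp_e L191512) (flp_a L191378) L196991
theorem L196995 : sm gb N18220 = N17919 := ded_19_1 (flp_e L194220) (flp_b L191380) L196991
theorem L196997 : sm gh N18220 = N17977 := ded_37_2 (flp_e L194819) (flp_h L191386) L196991
theorem L196999 : sm gi N18220 = N17907 := ded_38_2 (flp_e L194088) (flp_i L191384) L196991
theorem L197001 : sm gd N18220 = N17614 := ded_30_1 (flp_e L191412) (flp_d L186031) (flp_e L186009) L191376 L196991
theorem L197003 : sm ge N17612 = N18221 := rfl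
theorem L197005 : sm ga N18221 = N17628 := ded_12_1 (flp_e L191528) (flp_a L191390) L197003
theorem L197007 : sm gb N18221 = N17916 := ded_19_1 (flp_e L194191) (flp_b L191392) L197003
theorem L197009 : sm gg N18221 = N18220 := ded_36_2 (flp_e L196991) (flp_g L191396) L197003
theorem L197011 : sm gh N18221 = N18193 := ded_37_2 (flp_e L196764) (flp_h L191400) L197003
theorem L197013 : sm gi N18221 = N17614 := ded_38_2 (flp_e L191412) (flp_i L191398) L197003
theorem L197015 : sm gd N18221 = N17907 := ded_30_1 (flp_e L194088) (flp_d L188589) (flp_e L186023) L191388 L197003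
theorem L197017 : sm ge N17613 = N18222 := rfl
theorem L197019 : sm ga N18222 = N17629 := ded_12_1 (flp_e L191538) (flp_a L191404) L197017
theorem L197021 : sm gc N18222 = N17614 := ded_25_1 (flp_e L191412) L191402 L197017
theorem L197023 : sm gh N18222 = N17620 := ded_37_2 (flp_e L191466) (flp_h L191408) L197017
theorem L197025 : sm gd N18222 = N18181 := ded_30_1 (flp_e L196653) L191039 (flp_e L186425) (flp_d L191410) L197017
theorem L197027 : sm gf N17614 = N18223 := rfl
theorem L197029 : sm ga N18223 = N17630 := ded_13_1 (flp_f L191548) (flp_a L191414) L197027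
theorem L197031 : sm gh N18223 = N17621 := ded_40_2 (flp_f L191472) (flp_h L191416) L197027
theorem L197033 : sm ge N18223 = N17619 := ded_35_1 (flp_f L191458) (flp_e L186057) (flp_f L186035) L191412 L197027
theorem L197035 : sm gb N17615 = N18224 := rfl
theorem L197037 : sm gd N18224 = N17658 := ded_18_2 (flp_b L191758) (flp_d L191426) L197035
theorem L197039 : sm gg N18224 = N17710 := ded_21_2 (flp_b L192166) (flp_g L191422) L197035
theorem L197041 : sm gi N18224 = N17617 := ded_23_2 (flp_b L191438) (flp_i L191424) L197035
theorem L197043 : sm ge N17615 = N18225 := rfl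
theorem L197045 : sm ga N18225 = N17631 := ded_12_1 (flp_e L191556) (flp_a L191420) L197043
theorem L197047 : sm gc N18225 = N17616 := ded_25_1 (flp_e L191428) L191418 L197043
theorem L197049 : sm gg N18225 = N17711 := ded_36_2 (flp_e L192172) (flp_g L191422) L197043
theorem L197051 : sm gi N18225 = N17618 := ded_38_2 (flp_e L191446) (flp_i L191424) L197043
theorem L197053 : sm gd N18225 = N18168 := ded_30_1 (flp_e L196565) L190977 L186559 (flp_d L191426) L197043
theorem L197055 : sm gf N17616 = N18226 := rfl
theorem L197057 : sm ga N18226 = N17632 := ded_13_1 (flp_f L191564) (flp_a L191430) L197055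
theorem L197059 : sm gd N18226 = N18086 := ded_31_1 (flp_f L195784) (flp_d L191436) L197055
theorem L197061 : sm gi N18226 = N17619 := ded_41_2 (flp_f L191458) (flp_i L191434) L197055
theorem L197063 : sm ge N17617 = N18227 := rfl
theorem L197065 : sm gb N18227 = N17618 := ded_19_1 (flp_e L191446) L191438 L197063
theorem L197067 : sm gg N18227 = N17714 := ded_36_2 (flp_e L192198) (flp_g L191442) L197063
theorem L197069 : sm gh N18227 = N17622 := ded_37_2 (flp_e L191478) (flp_h L191444) L197063
theorem L197071 : sm gd N18227 = N18171 := ded_30_1 (flp_e L196585) L190987 L186566 (flp_d L191440) L197063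
theorem L197073 : sm gf N17618 = N18228 := rfl
theorem L197075 : sm ga N18228 = N17635 := ded_13_1 (flp_f L191594) (flp_a L191448) L197073
theorem L197077 : sm gc N18228 = N17619 := ded_26_1 (flp_f L191458) (flp_c L191450) L197073
theorem L197079 : sm gd N18228 = N18172 := ded_31_1 (flp_f L196591) (flp_d L191456) L197073
theorem L197081 : sm gh N18228 = N17623 := ded_40_2 (flp_f L191486) (flp_h L191454) L197073
theorem L197083 : sm gg N17619 = N18229 := rfl
theorem L197085 : sm ga N18229 = N17636 := ded_14_1 (flp_g L191600) (flp_a L191460) L197083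
theorem L197087 : sm gd N18229 = N18087 := ded_32_1 (flp_g L195794) (flp_d L191462) L197083
theorem L197089 : sm gh N18229 = N17624 := ded_42_2 (flp_g L191492) (flp_h L191464) L197083
theorem L197091 : sm gf N18229 = N17717 := ded_39_1 (flp_g L192224) (flp_f L186875) (flp_g L186061) L191458 L197083
theorem L197093 : sm gf N17620 = N18230 := rfl
theorem L197095 : sm ga N18230 = N17638 := ded_13_1 (flp_f L191616) (flp_a L191468) L197093
theorem L197097 : sm gc N18230 = N17621 := ded_26_1 (flp_f L191472) (flp_c L191470) L197093
theorem L197099 : sm ge N18230 = N17623 := ded_35_1 (flp_f L191486) (flp_e L186085) (flp_f L186071) L191466 L197093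
theorem L197101 : sm gg N17621 = N18231 := rfl
theorem L197103 : sm ga N18231 = N17639 := ded_14_1 (flp_g L191622) (flp_a L191474) L197101
theorem L197105 : sm ge N18231 = N17624 := ded_36_1 (flp_g L191492) (flp_e L191476) L197101
theorem L197107 : sm gf N17622 = N18232 := rfl
theorem L197109 : sm gb N18232 = N17623 := ded_20_1 (flp_f L191486) (flp_b L191480) L197107
theorem L197111 : sm gd N18232 = N17638 := ded_31_1 (flp_f L191616) (flp_d L191484) L197107
theorem L197113 : sm gg N17623 = N18233 := rfl
theorem L197115 : sm ga N18233 = N17641 := ded_14_1 (flp_g L191634) (flp_a L191488) L197113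
theorem L197117 : sm gc N18233 = N17624 := ded_27_1 (flp_g L191492) (flp_c L191490) L197113
theorem L197119 : sm gf N18233 = N17722 := ded_39_1 (flp_g L192256) (flp_f L186907) (flp_g L186091) L191486 L197113
theorem L197121 : sm ge N17625 = N18234 := rfl
theorem L197123 : sm gb N18234 = N17864 := ded_19_1 (flp_e L193626) (flp_b L191508) L197121
theorem L197125 : sm gc N18234 = N17626 := ded_25_1 (flp_e L191512) L191500 L197121
theorem L197127 : sm gg N18234 = N17894 := ded_36_2 (flp_e L193949) (flp_g L191504) L197121
theorem L197129 : sm gi N18234 = N17867 := ded_38_2 (flp_e L193660) (flp_i L191506) L197121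
theorem L197131 : sm gd N18234 = N18158 := ded_30_1 (flp_e L196469) L190897 (flp_e L186449) (flp_d L191510) L197121
theorem L197133 : sm gf N17626 = N18235 := rfl
theorem L197135 : sm gb N18235 = N17643 := ded_20_1 (flp_f L191654) (flp_b L191514) L197133
theorem L197137 : sm gd N18235 = N17630 := ded_31_1 (flp_f L191548) (flp_d L191516) L197133
theorem L197139 : sm ge N18235 = N18213 := ded_35_1 (flp_f L196921) (flp_e L191310) (flp_f L186111) L191512 L197133
theorem L197141 : sm gf N17627 = N18236 := rfl
theorem L197143 : sm gb N18236 = N17644 := ded_20_1 (flp_f L191658) (flp_b L191520) L197141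
theorem L197145 : sm gh N18236 = N17637 := ded_40_2 (flp_f L191610) (flp_h L191524) L197141
theorem L197147 : sm gi N18236 = N18235 := ded_41_2 (flp_f L197133) (flp_i L191526) L197141
theorem L197149 : sm ge N18236 = N17766 := ded_35_1 (flp_f L192610) (flp_e L187232) (flp_f L186117) L191518 L197141
theorem L197151 : sm gf N17628 = N18237 := rfl
theorem L197153 : sm gb N18237 = N17645 := ded_20_1 (flp_f L191664) (flp_b L191530) L197151
theorem L197155 : sm gd N18237 = N18236 := ded_31_1 (flp_f L197141) (flp_d L191536) L197151
theorem L197157 : sm gi N18237 = N17630 := ded_41_2 (flp_f L191548) (flp_i L191534) L197151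
theorem L197159 : sm ge N18237 = N17632 := ded_35_1 (flp_f L191564) (flp_e L186159) (flp_f L186129) L191528 L197151
theorem L197161 : sm gf N17629 = N18238 := rfl
theorem L197163 : sm gb N18238 = N18127 := ded_20_1 (flp_f L196168) (flp_b L191540) L197161
theorem L197165 : sm gc N18238 = N17630 := ded_26_1 (flp_f L191548) (flp_c L191542) L197161
theorem L197167 : sm gd N18238 = N18182 := ded_31_1 (flp_f L196657) (flp_d L191546) L197161
theorem L197169 : sm gh N18238 = N17638 := ded_40_2 (flp_f L191616) (flp_h L191544) L197161
theorem L197171 : sm ge N18238 = N17635 := ded_35_1 (flp_f L191594) (flp_e L186181) (flp_f L186137) L191538 L197161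
theorem L197173 : sm gg N17630 = N18239 := rfl
theorem L197175 : sm gb N18239 = N17647 := ded_21_1 (flp_g L191684) (flp_b L191550) L197173
theorem L197177 : sm ge N18239 = N17636 := ded_36_1 (flp_g L191600) (flp_e L191554) L197173
theorem L197179 : sm gh N18239 = N17639 := ded_42_2 (flp_g L191622) (flp_h L191552) L197173
theorem L197181 : sm gd N17631 = N18240 := rfl
theorem L197183 : sm ga N18240 = N18168 := ded_11_1 (flp_d L197053) L197045 L197181
theorem L197185 : sm gg N18240 = N17776 := ded_32_2 (flp_d L192690) (flp_g L191560) L197181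
theorem L197187 : sm gi N18240 = N17634 := ded_34_2 (flp_d L191582) (flp_i L191562) L197181
theorem L197189 : sm gc N18240 = N18048 := ded_24_1 L195436 L190039 (flp_d L186167) (flp_c L191558) L197181
theorem L197191 : sm ge N18240 = N17659 := ded_30_2 (flp_d L191766) (flp_e L186460) (flp_d L186157) L191556 L197181
theorem L197193 : sm gf N17631 = N18241 := rfl
theorem L197195 : sm gc N18241 = N17632 := ded_26_1 (flp_f L191564) (flp_c L191558) L197193
theorem L197197 : sm gi N18241 = N17635 := ded_41_2 (flp_f L191594) (flp_i L191562) L197193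
theorem L197199 : sm gg N17632 = N18242 := rfl
theorem L197201 : sm gb N18242 = N17649 := ded_21_1 (flp_g L191696) (flp_b L191566) L197199
theorem L197203 : sm gd N18242 = N18217 := ded_32_1 (flp_g L196959) (flp_d L191568) L197199
theorem L197205 : sm gi N18242 = N17636 := ded_43_2 (flp_g L191600) (flp_i L191570) L197199
theorem L197207 : sm gf N18242 = N17778 := ded_39_1 (flp_g L192704) (flp_f L187282) (flp_g L186163) L191564 L197199
theorem L197209 : sm gd N17633 = N18243 := rfl
theorem L197211 : sm gb N18243 = N17634 := ded_18_1 (flp_d L191582) (flp_b L191574) L197209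
theorem L197213 : sm gg N18243 = N17780 := ded_32_2 (flp_d L192716) (flp_g L191578) L197209
theorem L197215 : sm ge N18243 = N17660 := ded_30_2 (flp_d L191776) (flp_e L186469) (flp_d L186171) L191572 L197209
theorem L197217 : sm gh N18243 = N18054 := ded_33_2 L195482 L194591 L189092 (flp_h L191580) L197209
theorem L197219 : sm gf N17633 = N18244 := rfl
theorem L197221 : sm gb N18244 = N17635 := ded_20_1 (flp_f L191594) (flp_b L191574) L197219
theorem L197223 : sm gc N18244 = N17650 := ded_26_1 (flp_f L191700) (flp_c L191576) L197219
theorem L197225 : sm gh N18244 = N17640 := ded_40_2 (flp_f L191628) (flp_h L191580) L197219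
theorem L197227 : sm ge N18244 = N18127 := ded_35_1 (flp_f L196168) (flp_e L190594) (flp_f L186173) L191572 L197219
theorem L197229 : sm gf N17634 = N18245 := rfl
theorem L197231 : sm ga N18245 = N18172 := ded_13_1 (flp_f L196591) (flp_a L191584) L197229
theorem L197233 : sm gc N18245 = N18049 := ded_26_1 (flp_f L195438) (flp_c L191588) L197229
theorem L197235 : sm gd N18245 = N17635 := ded_31_1 (flp_f L191594) L191582 L197229
theorem L197237 : sm gh N18245 = N18055 := ded_40_2 (flp_f L195484) (flp_h L191592) L197229
theorem L197239 : sm gg N17635 = N18246 := rfl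
theorem L197241 : sm gc N18246 = N17636 := ded_27_1 (flp_g L191600) (flp_c L191596) L197239
theorem L197243 : sm gh N18246 = N17641 := ded_42_2 (flp_g L191634) (flp_h L191598) L197239
theorem L197245 : sm gf N18246 = N17783 := ded_39_1 (flp_g L192734) (flp_f L187306) (flp_g L186185) L191594 L197239
theorem L197247 : sm gg N17637 = N18247 := rfl
theorem L197249 : sm gb N18247 = N17653 := ded_21_1 (flp_g L191720) (flp_b L191612) L197247
theorem L197251 : sm ge N18247 = N17785 := ded_36_1 (flp_g L192744) (flp_e L191614) L197247
theorem L197253 : sm gf N18247 = N17639 := ded_39_1 (flp_g L191622) (flp_f L186207) (flp_g L186201) L191610 L197247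
theorem L197255 : sm gg N17638 = N18248 := rfl
theorem L197257 : sm gc N18248 = N17639 := ded_27_1 (flp_g L191622) (flp_c L191618) L197255
theorem L197259 : sm ge N18248 = N17641 := ded_36_1 (flp_g L191634) (flp_e L191620) L197255
theorem L197261 : sm gg N17640 = N18249 := rfl
theorem L197263 : sm gb N18249 = N17641 := ded_21_1 (flp_g L191634) (flp_b L191630) L197261
theorem L197265 : sm gc N18249 = N17655 := ded_27_1 (flp_g L191730) (flp_c L191632) L197261
theorem L197267 : sm gf N18249 = N17791 := ded_39_1 (flp_g L192784) (flp_f L187348) (flp_g L186219) L191628 L197261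
theorem L197269 : sm gf N17642 = N18250 := rfl
theorem L197271 : sm ga N18250 = N18139 := ded_13_1 (flp_f L196275) (flp_a L191642) L197269
theorem L197273 : sm gb N18250 = N17865 := ded_20_1 (flp_f L193638) (flp_b L191644) L197269
theorem L197275 : sm gc N18250 = N17643 := ded_26_1 (flp_f L191654) (flp_c L191646) L197269
theorem L197277 : sm gd N18250 = N17878 := ded_31_1 (flp_f L193773) (flp_d L191652) L197269
theorem L197279 : sm gi N18250 = N17855 := ded_41_2 (flp_f L193532) (flp_i L191650) L197269
theorem L197281 : sm gg N17643 = N18251 := rfl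
theorem L197283 : sm gd N18251 = N17647 := ded_32_1 (flp_g L191684) (flp_d L191656) L197281
theorem L197285 : sm gg N17644 = N18252 := rfl
theorem L197287 : sm gh N18252 = N17653 := ded_42_2 (flp_g L191720) (flp_h L191660) L197285
theorem L197289 : sm gi N18252 = N18251 := ded_43_2 (flp_g L197281) (flp_i L191662) L197285
theorem L197291 : sm gf N18252 = N17647 := ded_39_1 (flp_g L191684) (flp_f L186275) (flp_g L186251) L191658 L197285
theorem L197293 : sm gg N17645 = N18253 := rfl
theorem L197295 : sm gd N18253 = N18252 := ded_32_1 (flp_g L197285) (flp_d L191666) L197293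
theorem L197297 : sm ge N18253 = N17649 := ded_36_1 (flp_g L191696) (flp_e L191670) L197293
theorem L197299 : sm gi N18253 = N17647 := ded_43_2 (flp_g L191684) (flp_i L191668) L197293
theorem L197301 : sm gf N18253 = N18251 := ded_39_1 (flp_g L197281) (flp_f L191654) (flp_g L186259) L191664 L197293
theorem L197303 : sm gg N17646 = N18254 := rfl
theorem L197305 : sm gb N18254 = N18128 := ded_21_1 (flp_g L196180) (flp_b L191674) L197303
theorem L197307 : sm gc N18254 = N17647 := ded_27_1 (flp_g L191684) (flp_c L191676) L197303
theorem L197309 : sm gd N18254 = N18126 := ded_32_1 (flp_g L196158) (flp_d L191678) L197303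
theorem L197311 : sm ge N18254 = N17652 := ded_36_1 (flp_g L191714) (flp_e L191682) L197303
theorem L197313 : sm gh N18254 = N17654 := ded_42_2 (flp_g L191724) (flp_h L191680) L197303
theorem L197315 : sm gg N17648 = N18255 := rfl
theorem L197317 : sm gc N18255 = N17649 := ded_27_1 (flp_g L191696) (flp_c L191692) L197315
theorem L197319 : sm gi N18255 = N17652 := ded_43_2 (flp_g L191714) (flp_i L191694) L197315
theorem L197321 : sm gg N17650 = N18256 := rfl
theorem L197323 : sm gb N18256 = N17652 := ded_21_1 (flp_g L191714) (flp_b L191702) L197321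
theorem L197325 : sm ge N18256 = N18128 := ded_36_1 (flp_g L196180) (flp_e L191706) L197321
theorem L197327 : sm gh N18256 = N17655 := ded_42_2 (flp_g L191730) (flp_h L191704) L197321
theorem L197329 : sm gg N17651 = N18257 := rfl
theorem L197331 : sm gd N18257 = N17652 := ded_32_1 (flp_g L191714) (flp_d L191710) L197329
theorem L197333 : sm ge N18257 = N18146 := ded_36_1 (flp_g L196349) (flp_e L191712) L197329
theorem L197335 : sm gb N17663 = N18258 := rfl
theorem L197337 : sm gf N18258 = N17665 := ded_20_2 (flp_b L191832) (flp_f L191816) L197335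
theorem L197339 : sm gg N18258 = N17679 := ded_21_2 (flp_b L191949) (flp_g L191818) L197335
theorem L197341 : sm gh N18258 = N18258 := ded_22_2 (flp_b L197335) L191820 L197335
theorem L197342 : sm gi N18258 = N17664 := ded_23_2 (flp_b L191823) (flp_i L191821) L197335
theorem L197344 : sm gc N18258 = N18258 := ded_17_2 (flp_b L197335) (flp_c L191812) L186537 L191812 L197335
theorem L197345 : sm ga N17665 = N18259 := rfl
theorem L197347 : sm gc N18259 = N18259 := ded_10_2 (flp_a L197345) L191839 L197345
theorem L197348 : sm ge N18259 = N17811 := ded_12_2 L193006 (flp_e L191834) L197345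
theorem L197350 : sm gh N18259 = N18259 := ded_15_2 (flp_a L197345) L191836 L197345
theorem L197351 : sm gi N18259 = N17666 := ded_16_2 (flp_a L191840) (flp_i L191837) L197345
theorem L197353 : sm gb N18259 = N17812 := ded_9_2 L193011 L188472 (flp_a L186557) L191832 L197345
theorem L197355 : sm gb N17667 = N18260 := rfl
theorem L197357 : sm gd N18260 = N18260 := ded_18_2 (flp_b L197355) L191853 L197355
theorem L197358 : sm gi N18260 = N18042 := ded_23_2 (flp_b L195390) (flp_i L191851) L197355
theorem L197360 : sm gc N18260 = N17675 := ded_17_2 (flp_b L191919) (flp_c L186650) (flp_b L186611) L191849 L197355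
theorem L197362 : sm ge N17667 = N18261 := rfl
theorem L197364 : sm gc N18261 = N17668 := ded_25_1 (flp_e L191854) L191849 L197362
theorem L197366 : sm gi N18261 = N18043 := ded_38_2 (flp_e L195399) (flp_i L191851) L197362
theorem L197368 : sm gf N17668 = N18262 := rfl
theorem L197370 : sm gb N18262 = N17677 := ded_20_1 (flp_f L191933) (flp_b L191856) L197368
theorem L197372 : sm gd N18262 = N17670 := ded_31_1 (flp_f L191870) (flp_d L191860) L197368
theorem L197374 : sm gi N18262 = N18044 := ded_41_2 (flp_f L195403) (flp_i L191858) L197368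
theorem L197376 : sm gd N17669 = N18263 := rfl
theorem L197378 : sm gi N18263 = N18045 := ded_34_2 (flp_d L195409) (flp_i L191868) L197376
theorem L197380 : sm ge N18263 = N18263 := ded_30_2 (flp_d L197376) (flp_e L191862) L186621 L191862 L197376
theorem L197381 : sm gf N17669 = N18264 := rfl
theorem L197383 : sm gc N18264 = N17670 := ded_26_1 (flp_f L191870) (flp_c L191864) L197381
theorem L197385 : sm gh N18264 = N17683 := ded_40_2 (flp_f L191980) (flp_h L191866) L197381
theorem L197387 : sm gi N18264 = N18046 := ded_41_2 (flp_f L195412) (flp_i L191868) L197381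
theorem L197389 : sm gg N17670 = N18265 := rfl
theorem L197391 : sm gb N18265 = N17678 := ded_21_1 (flp_g L191941) (flp_b L191872) L197389
theorem L197393 : sm gh N18265 = N17684 := ded_42_2 (flp_g L191986) (flp_h L191874) L197389
theorem L197395 : sm gi N18265 = N18047 := ded_43_2 (flp_g L195418) (flp_i L191876) L197389
theorem L197397 : sm gb N17671 = N18266 := rfl
theorem L197399 : sm gd N18266 = N18266 := ded_18_2 (flp_b L197397) L191886 L197397
theorem L197400 : sm gf N18266 = N18260 := ded_20_2 (flp_b L197355) (flp_f L191882) L197397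
theorem L197402 : sm gh N18266 = N17675 := ded_22_2 (flp_b L191919) (flp_h L191884) L197397
theorem L197404 : sm ge N17671 = N18267 := rfl
theorem L197406 : sm ga N18267 = N17736 := ded_12_1 (flp_e L192378) (flp_a L191880) L197404
theorem L197408 : sm gc N18267 = N17672 := ded_25_1 (flp_e L191887) L191878 L197404
theorem L197410 : sm gh N18267 = N17676 := ded_37_2 (flp_e L191925) (flp_h L191884) L197404
theorem L197412 : sm gf N17672 = N18268 := rfl
theorem L197414 : sm ga N18268 = N17737 := ded_13_1 (flp_f L192384) (flp_a L191889) L197412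
theorem L197416 : sm gd N18268 = N17689 := ded_31_1 (flp_f L192022) (flp_d L191893) L197412
theorem L197418 : sm gh N18268 = N17677 := ded_40_2 (flp_f L191933) (flp_h L191891) L197412
theorem L197420 : sm ge N18268 = N18262 := ded_35_1 (flp_f L197368) (flp_e L191854) (flp_f L186634) L191887 L197412
theorem L197422 : sm gb N17673 = N18269 := rfl
theorem L197424 : sm gd N18269 = N17679 := ded_18_2 (flp_b L191949) (flp_d L191905) L197422
theorem L197426 : sm gf N18269 = N17675 := ded_20_2 (flp_b L191919) (flp_f L191899) L197422
theorem L197428 : sm gh N18269 = N18260 := ded_22_2 (flp_b L197355) (flp_h L191901) L197422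
theorem L197430 : sm gi N18269 = N18050 := ded_23_2 (flp_b L195446) (flp_i L191903) L197422
theorem L197432 : sm gc N18269 = N18266 := ded_17_2 (flp_b L197397) (flp_c L191878) (flp_b L186642) L191895 L197422
theorem L197434 : sm ge N17673 = N18270 := rfl
theorem L197436 : sm ga N18270 = N17741 := ded_12_1 (flp_e L192424) (flp_a L191897) L197434
theorem L197438 : sm gc N18270 = N17674 := ded_25_1 (flp_e L191907) L191895 L197434
theorem L197440 : sm gh N18270 = N18261 := ded_37_2 (flp_e L197362) (flp_h L191901) L197434
theorem L197442 : sm gi N18270 = N18051 := ded_38_2 (flp_e L195454) (flp_i L191903) L197434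
theorem L197444 : sm gf N17674 = N18271 := rfl
theorem L197446 : sm ga N18271 = N17742 := ded_13_1 (flp_f L192430) (flp_a L191909) L197444
theorem L197448 : sm gb N18271 = N18268 := ded_20_1 (flp_f L197412) (flp_b L191911) L197444
theorem L197450 : sm gd N18271 = N17952 := ded_31_1 (flp_f L194561) (flp_d L191917) L197444
theorem L197452 : sm gh N18271 = N18262 := ded_40_2 (flp_f L197368) (flp_h L191913) L197444
theorem L197454 : sm gi N18271 = N18052 := ded_41_2 (flp_f L195460) (flp_i L191915) L197444
theorem L197456 : sm ge N18271 = N17677 := ded_35_1 (flp_f L191933) (flp_e L186658) (flp_f L186644) L191907 L197444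
theorem L197458 : sm ga N17675 = N18272 := rfl
theorem L197460 : sm gd N18272 = N17681 := ded_11_2 (flp_a L191966) (flp_d L191921) L197458
theorem L197462 : sm gi N18272 = N18053 := ded_16_2 (flp_a L195466) (flp_i L191923) L197458
theorem L197464 : sm gb N18272 = N17743 := ded_9_2 (flp_a L192440) (flp_b L187070) (flp_a L186652) L191919 L197458
theorem L197466 : sm ge N17675 = N18273 := rfl
theorem L197468 : sm gb N18273 = N17676 := ded_19_1 (flp_e L191925) L191919 L197466
theorem L197470 : sm gi N18273 = N18054 := ded_38_2 (flp_e L195476) (flp_i L191923) L197466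
theorem L197472 : sm gf N17676 = N18274 := rfl
theorem L197474 : sm ga N18274 = N17745 := ded_13_1 (flp_f L192452) (flp_a L191927) L197472
theorem L197476 : sm gc N18274 = N17677 := ded_26_1 (flp_f L191933) (flp_c L191929) L197472
theorem L197478 : sm gi N18274 = N18055 := ded_41_2 (flp_f L195484) (flp_i L191931) L197472
theorem L197480 : sm gg N17677 = N18275 := rfl
theorem L197482 : sm ga N18275 = N17746 := ded_14_1 (flp_g L192458) (flp_a L191935) L197480
theorem L197484 : sm gd N18275 = N17678 := ded_32_1 (flp_g L191941) (flp_d L191937) L197480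
theorem L197486 : sm gi N18275 = N18056 := ded_43_2 (flp_g L195492) (flp_i L191939) L197480
theorem L197488 : sm ga N17679 = N18276 := rfl
theorem L197490 : sm gc N18276 = N18276 := ded_10_2 (flp_a L197488) L191956 L197488
theorem L197491 : sm gf N18276 = N17681 := ded_13_2 (flp_a L191966) (flp_f L191951) L197488
theorem L197493 : sm gh N18276 = N18276 := ded_15_2 (flp_a L197488) L191953 L197488
theorem L197494 : sm gi N18276 = N18057 := ded_16_2 (flp_a L195498) (flp_i L191954) L197488
theorem L197496 : sm gb N18276 = N17747 := ded_9_2 (flp_a L192464) (flp_b L187103) (flp_a L186676) L191949 L197488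
theorem L197498 : sm ge N18258 = N18276 := ded_35_5 L197491 (flp_e L193025) L193027 (flp_e L191834) (flp_f L197337)
theorem L197500 : sm ge N17679 = N18277 := rfl
theorem L197502 : sm ga N18277 = N18258 := ded_12_1 L197498 (flp_a L197488) L197500
theorem L197504 : sm gb N18277 = N17680 := ded_19_1 (flp_e L191957) L191949 L197500
theorem L197506 : sm gc N18277 = N18277 := ded_25_1 (flp_e L197500) L191956 L197500
theorem L197507 : sm gg N18277 = N18276 := ded_36_2 (flp_e L197498) L197339 L197500
theorem L197509 : sm gh N18277 = N18277 := ded_37_2 (flp_e L197500) L191953 L197500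
theorem L197510 : sm gi N18277 = N18058 := ded_38_2 (flp_e L195509) (flp_i L191954) L197500
theorem L197512 : sm gf N18277 = N18259 := ded_35_2 L197348 L192999 L187606 (flp_f L191951) L197500
theorem L197514 : sm gd N17680 = N18278 := rfl
theorem L197516 : sm ga N18278 = N17748 := ded_11_1 (flp_d L192477) (flp_a L191959) L197514
theorem L197518 : sm gi N18278 = N18059 := ded_34_2 (flp_d L195522) (flp_i L191964) L197514
theorem L197520 : sm gc N18278 = N18017 := ded_24_1 (flp_d L195117) L189469 (flp_d L186691) (flp_c L191961) L197514
theorem L197522 : sm gf N17682 = N18279 := rfl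
theorem L197524 : sm gd N18279 = N17683 := ded_31_1 (flp_f L191980) L191974 L197522
theorem L197526 : sm gi N18279 = N17702 := ded_41_2 (flp_f L192106) (flp_i L191976) L197522
theorem L197528 : sm gh N17682 = N18280 := rfl
theorem L197530 : sm ge N18280 = N17728 := ded_37_1 (flp_h L192319) (flp_e L191978) L197528
theorem L197532 : sm gg N17683 = N18281 := rfl
theorem L197534 : sm gc N18281 = N17684 := ded_27_1 (flp_g L191986) (flp_c L191982) L197532
theorem L197536 : sm gi N18281 = N17704 := ded_43_2 (flp_g L192116) (flp_i L191984) L197532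
theorem L197538 : sm gb N17685 = N18282 := rfl
theorem L197540 : sm gd N18282 = N18282 := ded_18_2 (flp_b L197538) L192000 L197538
theorem L197541 : sm gh N18282 = N17710 := ded_22_2 (flp_b L192166) (flp_h L191996) L197538
theorem L197543 : sm gi N18282 = N17687 := ded_23_2 (flp_b L192009) (flp_i L191998) L197538
theorem L197545 : sm ge N17685 = N18283 := rfl
theorem L197547 : sm ga N18283 = N17755 := ded_12_1 (flp_e L192539) (flp_a L191994) L197545
theorem L197549 : sm gc N18283 = N17686 := ded_25_1 (flp_e L192001) L191992 L197545
theorem L197551 : sm gh N18283 = N17711 := ded_37_2 (flp_e L192172) (flp_h L191996) L197545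
theorem L197553 : sm gi N18283 = N17688 := ded_38_2 (flp_e L192014) (flp_i L191998) L197545
theorem L197555 : sm gf N17686 = N18284 := rfl
theorem L197557 : sm ga N18284 = N17756 := ded_13_1 (flp_f L192547) (flp_a L192003) L197555
theorem L197559 : sm gh N18284 = N17712 := ded_40_2 (flp_f L192180) (flp_h L192005) L197555
theorem L197561 : sm gi N18284 = N17689 := ded_41_2 (flp_f L192022) (flp_i L192007) L197555
theorem L197563 : sm ge N17687 = N18285 := rfl
theorem L197565 : sm gb N18285 = N17688 := ded_19_1 (flp_e L192014) L192009 L197563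
theorem L197567 : sm gh N18285 = N17690 := ded_37_2 (flp_e L192028) (flp_h L192012) L197563
theorem L197569 : sm gd N17688 = N18286 := rfl
theorem L197571 : sm ga N18286 = N17757 := ded_11_1 (flp_d L192553) (flp_a L192016) L197569
theorem L197573 : sm ge N18286 = N18286 := ded_30_2 (flp_d L197569) (flp_e L192014) L186725 L192014 L197569
theorem L197574 : sm gf N17688 = N18287 := rfl
theorem L197576 : sm ga N18287 = N17758 := ded_13_1 (flp_f L192556) (flp_a L192016) L197574
theorem L197578 : sm gc N18287 = N17689 := ded_26_1 (flp_f L192022) (flp_c L192018) L197574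
theorem L197580 : sm gh N18287 = N17691 := ded_40_2 (flp_f L192034) (flp_h L192020) L197574
theorem L197582 : sm gg N17689 = N18288 := rfl
theorem L197584 : sm ga N18288 = N17759 := ded_14_1 (flp_g L192562) (flp_a L192024) L197582
theorem L197586 : sm gh N18288 = N17692 := ded_42_2 (flp_g L192042) (flp_h L192026) L197582
theorem L197588 : sm gf N17690 = N18289 := rfl
theorem L197590 : sm gb N18289 = N17691 := ded_20_1 (flp_f L192034) (flp_b L192030) L197588
theorem L197592 : sm gi N18289 = N17721 := ded_41_2 (flp_f L192252) (flp_i L192032) L197588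
theorem L197594 : sm gg N17691 = N18290 := rfl
theorem L197596 : sm ga N18290 = N17762 := ded_14_1 (flp_g L192580) (flp_a L192036) L197594
theorem L197598 : sm gc N18290 = N17692 := ded_27_1 (flp_g L192042) (flp_c L192038) L197594
theorem L197600 : sm gi N18290 = N17722 := ded_43_2 (flp_g L192256) (flp_i L192040) L197594
theorem L197602 : sm gb N17693 = N18291 := rfl
theorem L197604 : sm gd N18291 = N18291 := ded_18_2 (flp_b L197602) L192054 L197602
theorem L197605 : sm gi N18291 = N17695 := ded_23_2 (flp_b L192063) (flp_i L192052) L197602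
theorem L197607 : sm gc N18291 = N17710 := ded_17_2 (flp_b L192166) (flp_c L186845) (flp_b L186762) L192050 L197602
theorem L197609 : sm ge N17693 = N18292 := rfl
theorem L197611 : sm gc N18292 = N17694 := ded_25_1 (flp_e L192055) L192050 L197609
theorem L197613 : sm gi N18292 = N17696 := ded_38_2 (flp_e L192070) (flp_i L192052) L197609
theorem L197615 : sm gf N17694 = N18293 := rfl
theorem L197617 : sm gb N18293 = N17712 := ded_20_1 (flp_f L192180) (flp_b L192057) L197615
theorem L197619 : sm gd N18293 = N18103 := ded_31_1 (flp_f L195967) (flp_d L192061) L197615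
theorem L197621 : sm gi N18293 = N17697 := ded_41_2 (flp_f L192076) (flp_i L192059) L197615
theorem L197623 : sm ge N17695 = N18294 := rfl
theorem L197625 : sm gb N18294 = N17696 := ded_19_1 (flp_e L192070) L192063 L197623
theorem L197627 : sm gc N18294 = N17714 := ded_25_1 (flp_e L192198) (flp_c L192068) L197623
theorem L197629 : sm gh N18294 = N17698 := ded_37_2 (flp_e L192084) (flp_h L192066) L197623
theorem L197631 : sm gd N17696 = N18295 := rfl
theorem L197633 : sm gc N18295 = N18104 := ded_24_1 (flp_d L195973) L190362 (flp_d L186777) (flp_c L192072) L197631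
theorem L197635 : sm ge N18295 = N18295 := ded_30_2 (flp_d L197631) (flp_e L192070) L186770 L192070 L197631
theorem L197636 : sm gf N17696 = N18296 := rfl
theorem L197638 : sm gc N18296 = N17697 := ded_26_1 (flp_f L192076) (flp_c L192072) L197636
theorem L197640 : sm gh N18296 = N17700 := ded_40_2 (flp_f L192096) (flp_h L192074) L197636
theorem L197642 : sm gg N17697 = N18297 := rfl
theorem L197644 : sm gb N18297 = N17717 := ded_21_1 (flp_g L192224) (flp_b L192078) L197642
theorem L197646 : sm gd N18297 = N18106 := ded_32_1 (flp_g L195986) (flp_d L192080) L197642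
theorem L197648 : sm gh N18297 = N17701 := ded_42_2 (flp_g L192100) (flp_h L192082) L197642
theorem L197650 : sm gf N17698 = N18298 := rfl
theorem L197652 : sm gb N18298 = N17700 := ded_20_1 (flp_f L192096) (flp_b L192086) L197650
theorem L197654 : sm gc N18298 = N17721 := ded_26_1 (flp_f L192252) (flp_c L192088) L197650
theorem L197656 : sm gf N17699 = N18299 := rfl
theorem L197658 : sm gc N18299 = N17702 := ded_26_1 (flp_f L192106) (flp_c L192092) L197656
theorem L197660 : sm gd N18299 = N17700 := ded_31_1 (flp_f L192096) L192090 L197656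
theorem L197662 : sm gh N17699 = N18300 := rfl
theorem L197664 : sm gc N18300 = N17703 := ded_28_1 (flp_h L192110) (flp_c L192092) L197662
theorem L197666 : sm ge N18300 = N17729 := ded_37_1 (flp_h L192322) (flp_e L192094) L197662
theorem L197668 : sm gg N17700 = N18301 := rfl
theorem L197670 : sm gc N18301 = N17701 := ded_27_1 (flp_g L192100) (flp_c L192098) L197668
theorem L197672 : sm ge N17702 = N18302 := rfl
theorem L197674 : sm ga N18302 = N17721 := ded_12_1 (flp_e L195752) L195746 L197672
theorem L197676 : sm gb N18302 = N17790 := ded_19_1 (flp_e L193574) L193568 L197672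
theorem L197678 : sm gf N18302 = N17720 := ded_35_2 (flp_e L192246) L186899 (flp_e L186797) L192106 L197672
theorem L197680 : sm gg N17702 = N18303 := rfl
theorem L197682 : sm gd N18303 = N17704 := ded_32_1 (flp_g L192116) (flp_d L192108) L197680
theorem L197684 : sm gh N17702 = N18304 := rfl
theorem L197686 : sm gf N18304 = N17703 := ded_40_1 (flp_h L192110) L192106 L197684
theorem L197688 : sm gd N18304 = N18111 := ded_33_1 (flp_h L196020) L190402 (flp_h L186803) (flp_d L192108) L197684
theorem L197690 : sm gi N17703 = N18305 := rfl
theorem L197692 : sm gb N18305 = N18205 := ded_23_1 L196869 L193580 L197690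
theorem L197694 : sm gd N18305 = N18112 := ded_34_1 (flp_i L196024) (flp_d L192114) L197690
theorem L197696 : sm ge N18305 = N17730 := ded_38_1 (flp_i L192327) (flp_e L192112) L197690
theorem L197698 : sm gf N17705 = N18306 := rfl
theorem L197700 : sm ga N18306 = N17764 := ded_13_1 (flp_f L192596) (flp_a L192124) L197698
theorem L197702 : sm gc N18306 = N17994 := ded_26_1 (flp_f L194955) (flp_c L192126) L197698
theorem L197704 : sm gd N18306 = N17709 := ded_31_1 (flp_f L192158) (flp_d L192130) L197698
theorem L197706 : sm gh N18306 = N18250 := ded_40_2 (flp_f L197269) (flp_h L192128) L197698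
theorem L197708 : sm ge N18306 = N18113 := ded_35_1 (flp_f L196028) (flp_e L190412) (flp_f L186815) L192122 L197698
theorem L197710 : sm ge N17706 = N18307 := rfl
theorem L197712 : sm ga N18307 = N17768 := ded_12_1 (flp_e L192626) (flp_a L192134) L197710
theorem L197714 : sm gc N18307 = N17707 := ded_25_1 (flp_e L192142) L192132 L197710
theorem L197716 : sm gi N18307 = N17708 := ded_38_2 (flp_e L192148) (flp_i L192138) L197710
theorem L197718 : sm gd N18307 = N17997 := ded_30_1 (flp_e L194977) L189334 (flp_e L186923) (flp_d L192140) L197710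
theorem L197720 : sm gf N17707 = N18308 := rfl
theorem L197722 : sm ga N18308 = N17769 := ded_13_1 (flp_f L192632) (flp_a L192144) L197720
theorem L197724 : sm gi N18308 = N17709 := ded_41_2 (flp_f L192158) (flp_i L192146) L197720
theorem L197726 : sm ge N18308 = N17712 := ded_35_1 (flp_f L192180) (flp_e L186853) (flp_f L186825) L192142 L197720
theorem L197728 : sm gf N17708 = N18309 := rfl
theorem L197730 : sm ga N18309 = N17772 := ded_13_1 (flp_f L192660) (flp_a L192150) L197728
theorem L197732 : sm gc N18309 = N17709 := ded_26_1 (flp_f L192158) (flp_c L192152) L197728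
theorem L197734 : sm gd N18309 = N18000 := ded_31_1 (flp_f L194999) (flp_d L192156) L197728
theorem L197736 : sm gh N18309 = N17718 := ded_40_2 (flp_f L192232) (flp_h L192154) L197728
theorem L197738 : sm ge N18309 = N17716 := ded_35_1 (flp_f L192216) (flp_e L186867) (flp_f L186833) L192148 L197728
theorem L197740 : sm gg N17709 = N18310 := rfl
theorem L197742 : sm ga N18310 = N17773 := ded_14_1 (flp_g L192668) (flp_a L192160) L197740
theorem L197744 : sm ge N18310 = N17717 := ded_36_1 (flp_g L192224) (flp_e L192164) L197740
theorem L197746 : sm gh N18310 = N17719 := ded_42_2 (flp_g L192240) (flp_h L192162) L197740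
theorem L197748 : sm ga N17710 = N18311 := rfl
theorem L197750 : sm gd N18311 = N17723 := ded_11_2 (flp_a L192262) (flp_d L192168) L197748
theorem L197752 : sm gf N18311 = N17730 := ded_13_2 (flp_a L196148) L196154 L197748
theorem L197754 : sm gi N18311 = N17713 := ded_16_2 (flp_a L192188) (flp_i L192170) L197748
theorem L197756 : sm gb N18311 = N17774 := ded_9_2 (flp_a L192674) (flp_b L187270) (flp_a L186847) L192166 L197748
theorem L197758 : sm ge N17710 = N18312 := rfl
theorem L197760 : sm gb N18312 = N17711 := ded_19_1 (flp_e L192172) L192166 L197758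
theorem L197762 : sm gi N18312 = N17714 := ded_38_2 (flp_e L192198) (flp_i L192170) L197758
theorem L197764 : sm gd N17711 = N18313 := rfl
theorem L197766 : sm ga N18313 = N17776 := ded_11_1 (flp_d L192690) (flp_a L192174) L197764
theorem L197768 : sm gg N18313 = N18168 := ded_32_2 (flp_d L197053) L197049 L197764
theorem L197770 : sm gi N18313 = N17715 := ded_34_2 (flp_d L192204) (flp_i L192178) L197764
theorem L197772 : sm gc N18313 = N18118 := ded_24_1 (flp_d L196074) L190464 (flp_d L186859) (flp_c L192176) L197764
theorem L197774 : sm ge N18313 = N17725 := ded_30_2 (flp_d L192284) (flp_e L186936) (flp_d L186851) L192172 L197764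
theorem L197776 : sm gf N17711 = N18314 := rfl
theorem L197778 : sm ga N18314 = N17777 := ded_13_1 (flp_f L192698) (flp_a L192174) L197776
theorem L197780 : sm gc N18314 = N17712 := ded_26_1 (flp_f L192180) (flp_c L192176) L197776
theorem L197782 : sm gi N18314 = N17716 := ded_41_2 (flp_f L192216) (flp_i L192178) L197776
theorem L197784 : sm gg N17712 = N18315 := rfl
theorem L197786 : sm ga N18315 = N17778 := ded_14_1 (flp_g L192704) (flp_a L192182) L197784
theorem L197788 : sm gd N18315 = N18120 := ded_32_1 (flp_g L196098) (flp_d L192184) L197784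
theorem L197790 : sm gi N18315 = N17717 := ded_43_2 (flp_g L192224) (flp_i L192186) L197784
theorem L197792 : sm ge N17713 = N18316 := rfl
theorem L197794 : sm ga N18316 = N17714 := ded_12_1 (flp_e L192198) L192188 L197792
theorem L197796 : sm gb N18316 = N17779 := ded_19_1 (flp_e L192710) (flp_b L192196) L197792
theorem L197798 : sm gh N18316 = N17720 := ded_37_2 (flp_e L192246) (flp_h L192194) L197792
theorem L197800 : sm gd N17714 = N18317 := rfl
theorem L197802 : sm gb N18317 = N17715 := ded_18_1 (flp_d L192204) (flp_b L192200) L197800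
theorem L197804 : sm gg N18317 = N18171 := ded_32_2 (flp_d L197071) L197067 L197800
theorem L197806 : sm ge N18317 = N17727 := ded_30_2 (flp_d L192309) (flp_e L186958) (flp_d L186863) L192198 L197800
theorem L197808 : sm gh N18317 = N18144 := ded_33_2 L196337 L193668 L188239 (flp_h L192202) L197800
theorem L197810 : sm gf N17714 = N18318 := rfl
theorem L197812 : sm gb N18318 = N17716 := ded_20_1 (flp_f L192216) (flp_b L192200) L197810
theorem L197814 : sm gh N18318 = N17721 := ded_40_2 (flp_f L192252) (flp_h L192202) L197810
theorem L197816 : sm gf N17715 = N18319 := rfl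
theorem L197818 : sm ga N18319 = N17782 := ded_13_1 (flp_f L192728) (flp_a L192206) L197816
theorem L197820 : sm gc N18319 = N18121 := ded_26_1 (flp_f L196104) (flp_c L192210) L197816
theorem L197822 : sm gd N18319 = N17716 := ded_31_1 (flp_f L192216) L192204 L197816
theorem L197824 : sm gh N18319 = N18145 := ded_40_2 (flp_f L196339) (flp_h L192214) L197816
theorem L197826 : sm ge N18319 = N18010 := ded_35_1 (flp_f L195069) L189396 (flp_f L186973) (flp_e L192212) L197816
theorem L197828 : sm gg N17716 = N18320 := rfl
theorem L197830 : sm ga N18320 = N17783 := ded_14_1 (flp_g L192734) (flp_a L192218) L197828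
theorem L197832 : sm gc N18320 = N17717 := ded_27_1 (flp_g L192224) (flp_c L192220) L197828
theorem L197834 : sm gh N18320 = N17722 := ded_42_2 (flp_g L192256) (flp_h L192222) L197828
theorem L197836 : sm gg N17718 = N18321 := rfl
theorem L197838 : sm ga N18321 = N17789 := ded_14_1 (flp_g L192774) (flp_a L192234) L197836
theorem L197840 : sm gc N18321 = N17719 := ded_27_1 (flp_g L192240) (flp_c L192236) L197836
theorem L197842 : sm ge N18321 = N17722 := ded_36_1 (flp_g L192256) (flp_e L192238) L197836
theorem L197844 : sm gg N17721 = N18322 := rfl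
theorem L197846 : sm gb N18322 = N17722 := ded_21_1 (flp_g L192256) (flp_b L192254) L197844
theorem L197848 : sm ge N17723 = N18323 := rfl
theorem L197850 : sm ga N18323 = N17724 := ded_12_1 (flp_e L192272) L192262 L197848
theorem L197852 : sm gb N18323 = N17793 := ded_19_1 (flp_e L192802) (flp_b L192270) L197848
theorem L197854 : sm gc N18323 = N18323 := ded_25_1 (flp_e L197848) L192264 L197848
theorem L197855 : sm gg N18323 = N18259 := ded_36_2 L197348 L193001 L197848
theorem L197857 : sm gh N18323 = N18323 := ded_37_2 (flp_e L197848) L192267 L197848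
theorem L197858 : sm gi N18323 = N17726 := ded_38_2 (flp_e L192296) (flp_i L192268) L197848
theorem L197860 : sm gf N18323 = N18018 := ded_35_2 (flp_e L195123) L189501 (flp_e L187012) (flp_f L192265) L197848
theorem L197862 : sm gd N17724 = N18324 := rfl
theorem L197864 : sm gb N18324 = N17725 := ded_18_1 (flp_d L192284) (flp_b L192274) L197862
theorem L197866 : sm gf N18324 = N18019 := ded_31_2 (flp_d L195135) (flp_f L192282) L197862
theorem L197868 : sm gg N18324 = N18167 := ded_32_2 L196561 (flp_g L192277) L197862
theorem L197870 : sm gi N18324 = N17727 := ded_34_2 (flp_d L192309) (flp_i L192280) L197862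
theorem L197872 : sm gd N17726 = N18325 := rfl
theorem L197874 : sm ga N18325 = N17727 := ded_11_1 (flp_d L192309) (flp_a L192298) L197872
theorem L197876 : sm gb N18325 = N17796 := ded_18_1 (flp_d L192830) (flp_b L192300) L197872
theorem L197878 : sm gf N18325 = N18021 := ded_31_2 (flp_d L195154) (flp_f L192307) L197872
theorem L197880 : sm gg N18325 = N18170 := ded_32_2 L196579 (flp_g L192303) L197872
theorem L197882 : sm gh N18325 = N18143 := ded_33_2 L196321 L190812 (flp_d L186991) (flp_h L192305) L197872
theorem L197884 : sm gi N17728 = N18326 := rfl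
theorem L197886 : sm gb N18326 = N17915 := ded_23_1 L194188 L193752 L197884
theorem L197888 : sm gd N18326 = N18326 := ded_34_1 (flp_i L197884) L192321 L197884
theorem L197889 : sm gh N18326 = N17730 := ded_44_1 (flp_i L192327) (flp_h L187003) (flp_i L186997) L192319 L197884
theorem L197891 : sm gi N17729 = N18327 := rfl
theorem L197893 : sm gb N18327 = N18192 := ded_23_1 L196761 L194797 L197891
theorem L197895 : sm gc N18327 = N17730 := ded_29_1 (flp_i L192327) (flp_c L192324) L197891
theorem L197897 : sm gd N18327 = N18327 := ded_34_1 (flp_i L197891) L192326 L197891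
theorem L197898 : sm ge N17731 = N18328 := rfl
theorem L197900 : sm ga N18328 = N18261 := ded_12_1 (flp_e L197362) (flp_a L192335) L197898
theorem L197902 : sm gc N18328 = N17732 := ded_25_1 (flp_e L192344) L192333 L197898
theorem L197904 : sm gg N18328 = N18043 := ded_36_2 (flp_e L195399) (flp_g L192339) L197898
theorem L197906 : sm gh N18328 = N17741 := ded_37_2 (flp_e L192424) (flp_h L192341) L197898
theorem L197908 : sm gf N17732 = N18329 := rfl
theorem L197910 : sm ga N18329 = N18262 := ded_13_1 (flp_f L197368) (flp_a L192346) L197908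
theorem L197912 : sm gb N18329 = N18034 := ded_20_1 (flp_f L195302) (flp_b L192348) L197908
theorem L197914 : sm gd N18329 = N18033 := ded_31_1 (flp_f L195294) (flp_d L192354) L197908
theorem L197916 : sm gh N18329 = N17742 := ded_40_2 (flp_f L192430) (flp_h L192352) L197908
theorem L197918 : sm ge N18329 = N17737 := ded_35_1 (flp_f L192384) (flp_e L187038) (flp_f L187021) L192344 L197908
theorem L197920 : sm gb N17733 = N18330 := rfl
theorem L197922 : sm gd N18330 = N18330 := ded_18_2 (flp_b L197920) L192362 L197920
theorem L197923 : sm gh N18330 = N18167 := ded_22_2 (flp_b L196559) (flp_h L192358) L197920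
theorem L197925 : sm gi N18330 = N17735 := ded_23_2 (flp_b L192371) (flp_i L192360) L197920
theorem L197927 : sm gc N18330 = N18324 := ded_17_2 L197864 L192294 L190546 L192356 L197920
theorem L197929 : sm ge N17733 = N18331 := rfl
theorem L197931 : sm gc N18331 = N17734 := ded_25_1 (flp_e L192363) L192356 L197929
theorem L197933 : sm gh N18331 = N18168 := ded_37_2 (flp_e L196565) (flp_h L192358) L197929
theorem L197935 : sm gi N18331 = N17736 := ded_38_2 (flp_e L192378) (flp_i L192360) L197929
theorem L197937 : sm gf N17734 = N18332 := rfl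
theorem L197939 : sm gd N18332 = N17756 := ded_31_1 (flp_f L192547) (flp_d L192369) L197937
theorem L197941 : sm gh N18332 = N18169 := ded_40_2 (flp_f L196571) (flp_h L192365) L197937
theorem L197943 : sm gi N18332 = N17737 := ded_41_2 (flp_f L192384) (flp_i L192367) L197937
theorem L197945 : sm ga N17735 = N18333 := rfl
theorem L197947 : sm gc N18333 = N18325 := ded_10_2 L197874 (flp_c L192376) L197945
theorem L197949 : sm gd N18333 = N18333 := ded_11_2 (flp_a L197945) L192373 L197945
theorem L197950 : sm gh N18333 = N17743 := ded_15_2 (flp_a L192440) (flp_h L192374) L197945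
theorem L197952 : sm ge N17735 = N18334 := rfl
theorem L197954 : sm gb N18334 = N17736 := ded_19_1 (flp_e L192378) L192371 L197952
theorem L197956 : sm gc N18334 = N18317 := ded_25_1 L197806 (flp_c L192376) L197952
theorem L197958 : sm gh N18334 = N17744 := ded_37_2 (flp_e L192446) (flp_h L192374) L197952
theorem L197960 : sm gd N17736 = N18335 := rfl
theorem L197962 : sm gc N18335 = N17757 := ded_24_1 (flp_d L192553) L187178 (flp_d L187042) (flp_c L192380) L197960
theorem L197964 : sm ge N18335 = N18335 := ded_30_2 (flp_d L197960) (flp_e L192378) L187037 L192378 L197960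
theorem L197965 : sm gf N17736 = N18336 := rfl
theorem L197967 : sm gc N18336 = N17737 := ded_26_1 (flp_f L192384) (flp_c L192380) L197965
theorem L197969 : sm gh N18336 = N17745 := ded_40_2 (flp_f L192452) (flp_h L192382) L197965
theorem L197971 : sm gg N17737 = N18337 := rfl
theorem L197973 : sm gd N18337 = N17759 := ded_32_1 (flp_g L192562) (flp_d L192386) L197971
theorem L197975 : sm gh N18337 = N17746 := ded_42_2 (flp_g L192458) (flp_h L192388) L197971
theorem L197977 : sm ge N17738 = N18338 := rfl
theorem L197979 : sm gc N18338 = N17739 := ded_25_1 (flp_e L192402) L192390 L197977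
theorem L197981 : sm gg N18338 = N17741 := ded_36_2 (flp_e L192424) (flp_g L192394) L197977
theorem L197983 : sm gh N18338 = N18043 := ded_37_2 (flp_e L195399) (flp_h L192396) L197977
theorem L197985 : sm gi N18338 = N18174 := ded_38_2 (flp_e L196603) (flp_i L192398) L197977
theorem L197987 : sm gf N17739 = N18339 := rfl
theorem L197989 : sm gb N18339 = N18049 := ded_20_1 (flp_f L195438) (flp_b L192404) L197987
theorem L197991 : sm gd N18339 = N18065 := ded_31_1 (flp_f L195578) (flp_d L192412) L197987
theorem L197993 : sm gh N18339 = N18044 := ded_40_2 (flp_f L195403) (flp_h L192408) L197987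
theorem L197995 : sm gi N18339 = N18175 := ded_41_2 (flp_f L196613) (flp_i L192410) L197987
theorem L197997 : sm ga N17740 = N18340 := rfl
theorem L197999 : sm gc N18340 = N17796 := ded_10_2 L192832 (flp_c L192422) L197997
theorem L198001 : sm gd N18340 = N17747 := ded_11_2 (flp_a L192464) (flp_d L192416) L197997
theorem L198003 : sm gf N18340 = N17743 := ded_13_2 (flp_a L192440) (flp_f L192418) L197997
theorem L198005 : sm gg N18340 = N18278 := ded_14_2 L197516 L192481 L197997
theorem L198007 : sm gi N18340 = N18176 := ded_16_2 (flp_a L196621) (flp_i L192420) L197997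
theorem L198009 : sm ge N17740 = N18341 := rfl
theorem L198011 : sm gb N18341 = N17741 := ded_19_1 (flp_e L192424) L192414 L198009
theorem L198013 : sm gc N18341 = N17780 := ded_25_1 L192720 (flp_c L192422) L198009
theorem L198015 : sm gi N18341 = N18177 := ded_38_2 (flp_e L196629) (flp_i L192420) L198009
theorem L198017 : sm gd N18341 = N18338 := ded_30_1 (flp_e L197977) L192400 L187112 (flp_d L192416) L198009
theorem L198019 : sm gd N17741 = N18342 := rfl
theorem L198021 : sm gb N18342 = N18338 := ded_18_1 (flp_d L198017) L198011 L198019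
theorem L198023 : sm gg N18342 = N18341 := ded_32_2 L198017 L197981 L198019
theorem L198025 : sm gi N18342 = N18178 := ded_34_2 (flp_d L196635) (flp_i L192428) L198019
theorem L198027 : sm gc N18342 = N18243 := ded_24_1 (flp_d L197209) L191576 (flp_d L187068) (flp_c L192426) L198019
theorem L198029 : sm ge N18342 = N17748 := ded_30_2 (flp_d L192477) (flp_e L187114) (flp_d L187060) L192424 L198019
theorem L198031 : sm gf N17741 = N18343 := rfl
theorem L198033 : sm gc N18343 = N17742 := ded_26_1 (flp_f L192430) (flp_c L192426) L198031
theorem L198035 : sm gi N18343 = N18179 := ded_41_2 (flp_f L196643) (flp_i L192428) L198031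
theorem L198037 : sm ge N18343 = N17745 := ded_35_1 (flp_f L192452) (flp_e L187076) (flp_f L187056) L192424 L198031
theorem L198039 : sm gg N17742 = N18344 := rfl
theorem L198041 : sm gb N18344 = N18257 := ded_21_1 (flp_g L197329) (flp_b L192432) L198039
theorem L198043 : sm gd N18344 = N18256 := ded_32_1 (flp_g L197321) (flp_d L192434) L198039
theorem L198045 : sm ge N18344 = N17746 := ded_36_1 (flp_g L192458) (flp_e L192438) L198039
theorem L198047 : sm gi N18344 = N18180 := ded_43_2 (flp_g L196649) (flp_i L192436) L198039
theorem L198049 : sm ge N17743 = N18345 := rfl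
theorem L198051 : sm ga N18345 = N17744 := ded_12_1 (flp_e L192446) L192440 L198049
theorem L198053 : sm gi N18345 = N18181 := ded_38_2 (flp_e L196653) (flp_i L192444) L198049
theorem L198055 : sm gf N17744 = N18346 := rfl
theorem L198057 : sm gb N18346 = N17745 := ded_20_1 (flp_f L192452) (flp_b L192448) L198055
theorem L198059 : sm gi N18346 = N18182 := ded_41_2 (flp_f L196657) (flp_i L192450) L198055
theorem L198061 : sm gg N17745 = N18347 := rfl
theorem L198063 : sm gc N18347 = N17746 := ded_27_1 (flp_g L192458) (flp_c L192454) L198061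
theorem L198065 : sm gi N18347 = N18183 := ded_43_2 (flp_g L196661) (flp_i L192456) L198061
theorem L198067 : sm ge N17749 = N18348 := rfl
theorem L198069 : sm ga N18348 = N17938 := ded_12_1 (flp_e L194388) (flp_a L192489) L198067
theorem L198071 : sm gb N18348 = N18129 := ded_19_1 (flp_e L196192) (flp_b L192497) L198067
theorem L198073 : sm gc N18348 = N17750 := ded_25_1 (flp_e L192500) L192487 L198067
theorem L198075 : sm gg N18348 = N18074 := ded_36_2 (flp_e L195670) (flp_g L192493) L198067
theorem L198077 : sm gh N18348 = N17842 := ded_37_2 (flp_e L193376) (flp_h L192495) L198067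
theorem L198079 : sm gf N17750 = N18349 := rfl
theorem L198081 : sm ga N18349 = N17939 := ded_13_1 (flp_f L194400) (flp_a L192502) L198079
theorem L198083 : sm gb N18349 = N18031 := ded_20_1 (flp_f L195270) (flp_b L192504) L198079
theorem L198085 : sm gd N18349 = N17754 := ded_31_1 (flp_f L192533) (flp_d L192510) L198079
theorem L198087 : sm gh N18349 = N17843 := ded_40_2 (flp_f L193390) (flp_h L192508) L198079
theorem L198089 : sm ge N18349 = N18033 := ded_35_1 (flp_f L195294) (flp_e L189719) (flp_f L187138) L192500 L198079
theorem L198091 : sm ge N17751 = N18350 := rfl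
theorem L198093 : sm gc N18350 = N17752 := ded_25_1 (flp_e L192521) L192512 L198091
theorem L198095 : sm gh N18350 = N17768 := ded_37_2 (flp_e L192626) (flp_h L192516) L198091
theorem L198097 : sm gi N18350 = N17753 := ded_38_2 (flp_e L192527) (flp_i L192518) L198091
theorem L198099 : sm gf N17752 = N18351 := rfl
theorem L198101 : sm gh N18351 = N17769 := ded_40_2 (flp_f L192632) (flp_h L192523) L198099
theorem L198103 : sm gi N18351 = N17754 := ded_41_2 (flp_f L192533) (flp_i L192525) L198099
theorem L198105 : sm ge N18351 = N17756 := ded_35_1 (flp_f L192547) (flp_e L187170) (flp_f L187146) L192521 L198099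
theorem L198107 : sm gd N17753 = N18352 := rfl
theorem L198109 : sm ge N18352 = N18352 := ded_30_2 (flp_d L198107) (flp_e L192527) L187158 L192527 L198107
theorem L198110 : sm gf N17753 = N18353 := rfl
theorem L198112 : sm gc N18353 = N17754 := ded_26_1 (flp_f L192533) (flp_c L192529) L198110
theorem L198114 : sm gh N18353 = N17760 := ded_40_2 (flp_f L192566) (flp_h L192531) L198110
theorem L198116 : sm ge N18353 = N17758 := ded_35_1 (flp_f L192556) (flp_e L187176) (flp_f L187154) L192527 L198110
theorem L198118 : sm gg N17754 = N18354 := rfl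
theorem L198120 : sm ge N18354 = N17759 := ded_36_1 (flp_g L192562) (flp_e L192537) L198118
theorem L198122 : sm gh N18354 = N17761 := ded_42_2 (flp_g L192574) (flp_h L192535) L198118
theorem L198124 : sm gd N17755 = N18355 := rfl
theorem L198126 : sm gi N18355 = N17757 := ded_34_2 (flp_d L192553) (flp_i L192545) L198124
theorem L198128 : sm ge N18355 = N18355 := ded_30_2 (flp_d L198124) (flp_e L192539) L187169 L192539 L198124
theorem L198129 : sm gf N17755 = N18356 := rfl
theorem L198131 : sm gc N18356 = N17756 := ded_26_1 (flp_f L192547) (flp_c L192541) L198129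
theorem L198133 : sm gh N18356 = N17777 := ded_40_2 (flp_f L192698) (flp_h L192543) L198129
theorem L198135 : sm gi N18356 = N17758 := ded_41_2 (flp_f L192556) (flp_i L192545) L198129
theorem L198137 : sm gg N17756 = N18357 := rfl
theorem L198139 : sm gh N18357 = N17778 := ded_42_2 (flp_g L192704) (flp_h L192549) L198137
theorem L198141 : sm gi N18357 = N17759 := ded_43_2 (flp_g L192562) (flp_i L192551) L198137
theorem L198143 : sm gf N17757 = N18358 := rfl
theorem L198145 : sm gd N18358 = N17758 := ded_31_1 (flp_f L192556) L192553 L198143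
theorem L198147 : sm gg N17758 = N18359 := rfl
theorem L198149 : sm gc N18359 = N17759 := ded_27_1 (flp_g L192562) (flp_c L192558) L198147
theorem L198151 : sm gh N18359 = N17762 := ded_42_2 (flp_g L192580) (flp_h L192560) L198147
theorem L198153 : sm gg N17760 = N18360 := rfl
theorem L198155 : sm gc N18360 = N17761 := ded_27_1 (flp_g L192574) (flp_c L192568) L198153
theorem L198157 : sm ge N18360 = N17762 := ded_36_1 (flp_g L192580) (flp_e L192572) L198153
theorem L198159 : sm gi N18360 = N17789 := ded_43_2 (flp_g L192774) (flp_i L192570) L198153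
theorem L198161 : sm gf N17763 = N18361 := rfl
theorem L198163 : sm ga N18361 = N17994 := ded_13_1 (flp_f L194955) (flp_a L192588) L198161
theorem L198165 : sm gc N18361 = N17764 := ded_26_1 (flp_f L192596) (flp_c L192590) L198161
theorem L198167 : sm gd N18361 = N17863 := ded_31_1 (flp_f L193618) (flp_d L192594) L198161
theorem L198169 : sm gh N18361 = N18113 := ded_40_2 (flp_f L196028) (flp_h L192592) L198161
theorem L198171 : sm ge N18361 = N18250 := ded_35_1 (flp_f L197269) (flp_e L191640) (flp_f L187214) L192586 L198161
theorem L198173 : sm gg N17764 = N18362 := rfl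
theorem L198175 : sm gd N18362 = N17773 := ded_32_1 (flp_g L192668) (flp_d L192598) L198173
theorem L198177 : sm ge N18362 = N18251 := ded_36_1 (flp_g L197281) (flp_e L192600) L198173
theorem L198179 : sm gf N17765 = N18363 := rfl
theorem L198181 : sm gc N18363 = N17766 := ded_26_1 (flp_f L192610) (flp_c L192604) L198179
theorem L198183 : sm gh N18363 = N17784 := ded_40_2 (flp_f L192740) (flp_h L192608) L198179
theorem L198185 : sm gg N17766 = N18364 := rfl
theorem L198187 : sm gh N18364 = N17785 := ded_42_2 (flp_g L192744) (flp_h L192612) L198185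
theorem L198189 : sm gf N18364 = N17773 := ded_39_1 (flp_g L192668) (flp_f L187264) (flp_g L187234) L192610 L198185
theorem L198191 : sm ge N17767 = N18365 := rfl
theorem L198193 : sm ga N18365 = N18205 := ded_12_1 (flp_e L196863) L192624 L198191
theorem L198195 : sm gb N18365 = N17768 := ded_19_1 (flp_e L192626) L192614 L198191
theorem L198197 : sm gc N18365 = N18068 := ded_25_1 (flp_e L195604) (flp_c L192622) L198191
theorem L198199 : sm gi N18365 = N17770 := ded_38_2 (flp_e L192638) (flp_i L192620) L198191
theorem L198201 : sm gd N18365 = N18212 := ded_30_1 (flp_e L196913) L191308 L187383 (flp_d L192616) L198191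
theorem L198203 : sm gd N17768 = N18366 := rfl
theorem L198205 : sm ga N18366 = N17997 := ded_11_1 (flp_d L197718) L197712 L198203
theorem L198207 : sm gb N18366 = N18212 := ded_18_1 (flp_d L198201) L198195 L198203
theorem L198209 : sm gg N18366 = N18365 := ded_32_2 L198201 L196917 L198203
theorem L198211 : sm gi N18366 = N17771 := ded_34_2 (flp_d L192646) (flp_i L192630) L198203
theorem L198213 : sm gc N18366 = N17862 := ded_24_1 L193616 L193524 L191330 (flp_c L192628) L198203
theorem L198215 : sm ge N18366 = N17792 := ded_30_2 (flp_d L192788) (flp_e L187385) (flp_d L187244) L192626 L198203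
theorem L198217 : sm gf N17768 = N18367 := rfl
theorem L198219 : sm gc N18367 = N17769 := ded_26_1 (flp_f L192632) (flp_c L192628) L198217
theorem L198221 : sm gi N18367 = N17772 := ded_41_2 (flp_f L192660) (flp_i L192630) L198217
theorem L198223 : sm ge N18367 = N17777 := ded_35_1 (flp_f L192698) (flp_e L187276) (flp_f L187240) L192626 L198217
theorem L198225 : sm gg N17769 = N18368 := rfl
theorem L198227 : sm ge N18368 = N17778 := ded_36_1 (flp_g L192704) (flp_e L192636) L198225
theorem L198229 : sm gi N18368 = N17773 := ded_43_2 (flp_g L192668) (flp_i L192634) L198225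
theorem L198231 : sm gf N17770 = N18369 := rfl
theorem L198233 : sm gb N18369 = N17772 := ded_20_1 (flp_f L192660) (flp_b L192640) L198231
theorem L198235 : sm gd N18369 = N18363 := ded_31_1 (flp_f L198179) (flp_d L192644) L198231
theorem L198237 : sm gh N18369 = N17786 := ded_40_2 (flp_f L192748) (flp_h L192642) L198231
theorem L198239 : sm ge N18369 = N17781 := ded_35_1 (flp_f L192722) (flp_e L187294) (flp_f L187254) L192638 L198231
theorem L198241 : sm gf N17771 = N18370 := rfl
theorem L198243 : sm ga N18370 = N18000 := ded_13_1 (flp_f L194999) (flp_a L192648) L198241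
theorem L198245 : sm gb N18370 = N18363 := ded_20_1 (flp_f L198179) (flp_b L192650) L198241
theorem L198247 : sm gc N18370 = N17863 := ded_26_1 (flp_f L193618) (flp_c L192654) L198241
theorem L198249 : sm gd N18370 = N17772 := ded_31_1 (flp_f L192660) L192646 L198241
theorem L198251 : sm gh N18370 = N17871 := ded_40_2 (flp_f L193698) L192658 L198241
theorem L198253 : sm ge N18370 = N17868 := ded_35_1 (flp_f L193670) (flp_e L188171) (flp_f L187406) (flp_e L192656) L198241
theorem L198255 : sm gg N17772 = N18371 := rfl
theorem L198257 : sm gc N18371 = N17773 := ded_27_1 (flp_g L192668) (flp_c L192662) L198255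
theorem L198259 : sm ge N18371 = N17783 := ded_36_1 (flp_g L192734) (flp_e L192666) L198255
theorem L198261 : sm gh N18371 = N17789 := ded_42_2 (flp_g L192774) (flp_h L192664) L198255
theorem L198263 : sm ge N17774 = N18372 := rfl
theorem L198265 : sm ga N18372 = N17775 := ded_12_1 (flp_e L192684) L192674 L198263
theorem L198267 : sm gc N18372 = N18161 := ded_25_1 (flp_e L196495) (flp_c L192676) L198263
theorem L198269 : sm gi N18372 = N17779 := ded_38_2 (flp_e L192710) (flp_i L192682) L198263
theorem L198271 : sm gd N17775 = N18373 := rfl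
theorem L198273 : sm gb N18373 = N17776 := ded_18_1 (flp_d L192690) (flp_b L192686) L198271
theorem L198275 : sm gi N18373 = N17780 := ded_34_2 (flp_d L192716) (flp_i L192688) L198271
theorem L198277 : sm gc N18373 = N18177 := ded_24_1 L196633 L196607 (flp_d L193917) L193909 L198271
theorem L198279 : sm ge N18373 = N17794 := ded_30_2 (flp_d L192813) (flp_e L187423) (flp_d L187272) L192684 L198271
theorem L198281 : sm gf N17775 = N18374 := rfl
theorem L198283 : sm gb N18374 = N17777 := ded_20_1 (flp_f L192698) (flp_b L192686) L198281
theorem L198285 : sm gi N18374 = N17781 := ded_41_2 (flp_f L192722) (flp_i L192688) L198281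
theorem L198287 : sm gf N17776 = N18375 := rfl
theorem L198289 : sm gc N18375 = N18156 := ded_26_1 (flp_f L196449) (flp_c L192694) L198287
theorem L198291 : sm gd N18375 = N17777 := ded_31_1 (flp_f L192698) L192690 L198287
theorem L198293 : sm gi N18375 = N17782 := ded_41_2 (flp_f L192728) (flp_i L192692) L198287
theorem L198295 : sm ge N18375 = N18159 := ded_35_1 (flp_f L196479) (flp_e L190905) (flp_f L187436) (flp_e L192696) L198287
theorem L198297 : sm gh N17776 = N18376 := rfl
theorem L198299 : sm gc N18376 = N18150 := ded_28_1 L196393 (flp_c L192694) L198297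
theorem L198301 : sm ge N18376 = N17795 := ded_37_1 (flp_h L192823) (flp_e L192696) L198297
theorem L198303 : sm gg N17777 = N18377 := rfl
theorem L198305 : sm gc N18377 = N17778 := ded_27_1 (flp_g L192704) (flp_c L192700) L198303
theorem L198307 : sm gi N18377 = N17783 := ded_43_2 (flp_g L192734) (flp_i L192702) L198303
theorem L198309 : sm gd N17779 = N18378 := rfl
theorem L198311 : sm ga N18378 = N17780 := ded_11_1 (flp_d L192716) (flp_a L192712) L198309
theorem L198313 : sm ge N18378 = N17796 := ded_30_2 (flp_d L192830) (flp_e L187442) (flp_d L187290) L192710 L198309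
theorem L198315 : sm gf N17779 = N18379 := rfl
theorem L198317 : sm ga N18379 = N17781 := ded_13_1 (flp_f L192722) (flp_a L192712) L198315
theorem L198319 : sm gh N18379 = N17790 := ded_40_2 (flp_f L192780) (flp_h L192714) L198315
theorem L198321 : sm gf N17780 = N18380 := rfl
theorem L198323 : sm gb N18380 = N17782 := ded_20_1 (flp_f L192728) (flp_b L192718) L198321
theorem L198325 : sm gd N18380 = N17781 := ded_31_1 (flp_f L192722) L192716 L198321
theorem L198327 : sm gg N17781 = N18381 := rfl
theorem L198329 : sm gb N18381 = N17783 := ded_21_1 (flp_g L192734) (flp_b L192724) L198327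
theorem L198331 : sm gh N18381 = N17791 := ded_42_2 (flp_g L192784) (flp_h L192726) L198327
theorem L198333 : sm gg N17782 = N18382 := rfl
theorem L198335 : sm gc N18382 = N18257 := ded_27_1 (flp_g L197329) (flp_c L192730) L198333
theorem L198337 : sm gd N18382 = N17783 := ded_32_1 (flp_g L192734) (flp_d L192732) L198333
theorem L198339 : sm gg N17784 = N18383 := rfl
theorem L198341 : sm gc N18383 = N17785 := ded_27_1 (flp_g L192744) (flp_c L192742) L198339
theorem L198343 : sm gf N18383 = N17789 := ded_39_1 (flp_g L192774) (flp_f L187334) (flp_g L187322) L192740 L198339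
theorem L198345 : sm gg N17786 = N18384 := rfl
theorem L198347 : sm gb N18384 = N17789 := ded_21_1 (flp_g L192774) (flp_b L192750) L198345
theorem L198349 : sm ge N18384 = N17791 := ded_36_1 (flp_g L192784) (flp_e L192752) L198345
theorem L198351 : sm gg N17787 = N18385 := rfl
theorem L198353 : sm gd N18385 = N17789 := ded_32_1 (flp_g L192774) (flp_d L192756) L198351
theorem L198355 : sm gh N17787 = N18386 := rfl
theorem L198357 : sm ga N18386 = N17846 := ded_15_1 (flp_h L195208) L195200 L198355
theorem L198359 : sm gb N18386 = N18027 := ded_22_1 L195232 L193502 L198355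
theorem L198361 : sm gc N18386 = N17845 := ded_28_1 L193420 L193368 L198355
theorem L198363 : sm ge N18386 = N18025 := ded_37_1 L195208 L193434 L198355
theorem L198365 : sm gf N18386 = N17788 := ded_40_1 (flp_h L192758) L192754 L198355
theorem L198367 : sm gd N18386 = N17871 := ded_33_1 (flp_h L198251) L198249 L192664 (flp_d L192756) L198355
theorem L198369 : sm gi N18136 = N18386 := ded_29_0 L198361 L193422 (flp_c L196259)
theorem L198371 : sm gg N17790 = N18387 := rfl
theorem L198373 : sm ga N18387 = N17791 := ded_14_1 (flp_g L192784) (flp_a L192782) L198371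
theorem L198375 : sm gd N17793 = N18388 := rfl
theorem L198377 : sm ga N18388 = N17794 := ded_11_1 (flp_d L192813) (flp_a L192804) L198375
theorem L198379 : sm gf N18388 = N18157 := ded_31_2 L196463 (flp_f L192811) L198375
theorem L198381 : sm gi N18388 = N17796 := ded_34_2 (flp_d L192830) (flp_i L192809) L198375
theorem L198383 : sm gc N18388 = N18176 := ded_24_1 L196623 L191055 (flp_d L187476) (flp_c L192806) L198375
theorem L198385 : sm gh N17794 = N18389 := rfl
theorem L198387 : sm gb N18389 = N17795 := ded_22_1 (flp_h L192823) (flp_b L192815) L198385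
theorem L198389 : sm gc N18389 = N18164 := ded_28_1 L196543 (flp_c L192821) L198385
theorem L198391 : sm gf N18389 = N18153 := ded_40_1 L196429 (flp_f L192817) L198385
theorem L198393 : sm gd N18389 = N18389 := ded_33_1 (flp_h L198385) (flp_d L192813) L187429 L192813 L198385
theorem L198394 : sm ge N17797 = N18390 := rfl
theorem L198396 : sm ga N18390 = N17801 := ded_12_1 (flp_e L192890) (flp_a L192836) L198394
theorem L198398 : sm gb N18390 = N18074 := ded_19_1 (flp_e L195670) (flp_b L192846) L198394
theorem L198400 : sm gc N18390 = N17798 := ded_25_1 (flp_e L192849) L192834 L198394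
theorem L198402 : sm gg N18390 = N18129 := ded_36_2 (flp_e L196192) (flp_g L192840) L198394
theorem L198404 : sm gh N18390 = N17822 := ded_37_2 (flp_e L193141) (flp_h L192842) L198394
theorem L198406 : sm gi N18390 = N18348 := ded_38_2 (flp_e L198067) (flp_i L192844) L198394
theorem L198408 : sm gf N17798 = N18391 := rfl
theorem L198410 : sm ga N18391 = N17802 := ded_13_1 (flp_f L192898) (flp_a L192851) L198408
theorem L198412 : sm gb N18391 = N17881 := ded_20_1 (flp_f L193811) (flp_b L192853) L198408
theorem L198414 : sm gd N18391 = N18351 := ded_31_1 (flp_f L198099) (flp_d L192861) L198408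
theorem L198416 : sm gh N18391 = N17823 := ded_40_2 (flp_f L193155) (flp_h L192857) L198408
theorem L198418 : sm gi N18391 = N18349 := ded_41_2 (flp_f L198079) (flp_i L192859) L198408
theorem L198420 : sm ge N18391 = N18039 := ded_35_1 (flp_f L195357) (flp_e L189772) (flp_f L187486) L192849 L198408
theorem L198422 : sm gb N17799 = N18392 := rfl
theorem L198424 : sm gd N18392 = N18392 := ded_18_2 (flp_b L198422) L192875 L198422
theorem L198425 : sm gf N18392 = N18282 := ded_20_2 (flp_b L197538) (flp_f L192867) L198422
theorem L198427 : sm gg N18392 = N17980 := ded_21_2 (flp_b L194843) (flp_g L192869) L198422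
theorem L198429 : sm gh N18392 = N18125 := ded_22_2 L196150 (flp_h L192871) L198422
theorem L198431 : sm gi N18392 = N17943 := ded_23_2 (flp_b L194450) (flp_i L192873) L198422
theorem L198433 : sm ga N18392 = N18326 := ded_9_1 L197886 (flp_a L195914) L195924 (flp_a L192865) L198422
theorem L198435 : sm gc N18392 = N17807 := ded_17_2 (flp_b L192959) (flp_c L187549) (flp_b L187498) L192863 L198422
theorem L198437 : sm ge N17799 = N18393 := rfl
theorem L198439 : sm ga N18393 = N18350 := ded_12_1 (flp_e L198091) (flp_a L192865) L198437
theorem L198441 : sm gc N18393 = N17800 := ded_25_1 (flp_e L192876) L192863 L198437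
theorem L198443 : sm gg N18393 = N17981 := ded_36_2 (flp_e L194852) (flp_g L192869) L198437
theorem L198445 : sm gh N18393 = N18307 := ded_37_2 (flp_e L197710) (flp_h L192871) L198437
theorem L198447 : sm gi N18393 = N17944 := ded_38_2 (flp_e L194463) (flp_i L192873) L198437
theorem L198449 : sm gf N17800 = N18394 := rfl
theorem L198451 : sm ga N18394 = N18351 := ded_13_1 (flp_f L198099) (flp_a L192878) L198449
theorem L198453 : sm gb N18394 = N17809 := ded_20_1 (flp_f L192979) (flp_b L192880) L198449
theorem L198455 : sm gd N18394 = N17802 := ded_31_1 (flp_f L192898) (flp_d L192888) L198449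
theorem L198457 : sm gh N18394 = N18308 := ded_40_2 (flp_f L197720) (flp_h L192884) L198449
theorem L198459 : sm gi N18394 = N17945 := ded_41_2 (flp_f L194473) (flp_i L192886) L198449
theorem L198461 : sm ge N18394 = N18284 := ded_35_1 (flp_f L197555) (flp_e L192001) (flp_f L187500) L192876 L198449
theorem L198463 : sm gd N17801 = N18395 := rfl
theorem L198465 : sm gb N18395 = N18263 := ded_18_1 (flp_d L197376) (flp_b L192892) L198463
theorem L198467 : sm ge N18395 = N18395 := ded_30_2 (flp_d L198463) (flp_e L192890) L187516 L192890 L198463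
theorem L198468 : sm gf N17801 = N18396 := rfl
theorem L198470 : sm gb N18396 = N18264 := ded_20_1 (flp_f L197381) (flp_b L192892) L198468
theorem L198472 : sm gc N18396 = N17802 := ded_26_1 (flp_f L192898) (flp_c L192894) L198468
theorem L198474 : sm gh N18396 = N17827 := ded_40_2 (flp_f L193211) (flp_h L192896) L198468
theorem L198476 : sm ge N18396 = N18046 := ded_35_1 (flp_f L195412) (flp_e L189803) (flp_f L187510) L192890 L198468
theorem L198478 : sm gg N17802 = N18397 := rfl
theorem L198480 : sm gb N18397 = N17810 := ded_21_1 (flp_g L192987) (flp_b L192900) L198478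
theorem L198482 : sm ge N18397 = N18047 := ded_36_1 (flp_g L195418) (flp_e L192904) L198478
theorem L198484 : sm gh N18397 = N17828 := ded_42_2 (flp_g L193221) (flp_h L192902) L198478
theorem L198486 : sm gb N17803 = N18398 := rfl
theorem L198488 : sm gd N18398 = N18398 := ded_18_2 (flp_b L198486) L192918 L198486
theorem L198489 : sm gf N18398 = N18291 := ded_20_2 (flp_b L197602) (flp_f L192910) L198486
theorem L198491 : sm gg N18398 = N17923 := ded_21_2 (flp_b L194255) (flp_g L192912) L198486
theorem L198493 : sm gh N18398 = N17807 := ded_22_2 (flp_b L192959) (flp_h L192914) L198486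
theorem L198495 : sm gi N18398 = N17900 := ded_23_2 (flp_b L194011) (flp_i L192916) L198486
theorem L198497 : sm ga N18398 = N18327 := ded_9_1 L197893 L196753 (flp_b L193882) (flp_a L192908) L198486
theorem L198499 : sm gc N18398 = N18125 := ded_17_2 L196150 (flp_c L192132) (flp_b L187527) L192906 L198486
theorem L198501 : sm ge N17803 = N18399 := rfl
theorem L198503 : sm ga N18399 = N17888 := ded_12_1 (flp_e L193893) (flp_a L192908) L198501
theorem L198505 : sm gc N18399 = N17804 := ded_25_1 (flp_e L192919) L192906 L198501
theorem L198507 : sm gg N18399 = N17924 := ded_36_2 (flp_e L194264) (flp_g L192912) L198501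
theorem L198509 : sm gh N18399 = N17808 := ded_37_2 (flp_e L192967) (flp_h L192914) L198501
theorem L198511 : sm gi N18399 = N17901 := ded_38_2 (flp_e L194024) (flp_i L192916) L198501
theorem L198513 : sm gf N17804 = N18400 := rfl
theorem L198515 : sm ga N18400 = N17889 := ded_13_1 (flp_f L193899) (flp_a L192921) L198513
theorem L198517 : sm gb N18400 = N18308 := ded_20_1 (flp_f L197720) (flp_b L192923) L198513
theorem L198519 : sm gd N18400 = N17835 := ded_31_1 (flp_f L193298) (flp_d L192931) L198513
theorem L198521 : sm gh N18400 = N17809 := ded_40_2 (flp_f L192979) (flp_h L192927) L198513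
theorem L198523 : sm gi N18400 = N17902 := ded_41_2 (flp_f L194032) (flp_i L192929) L198513
theorem L198525 : sm ge N18400 = N18293 := ded_35_1 (flp_f L197615) (flp_e L192055) (flp_f L187529) L192919 L198513
theorem L198527 : sm gb N17805 = N18401 := rfl
theorem L198529 : sm gd N18401 = N17811 := ded_18_2 (flp_b L192997) (flp_d L192945) L198527
theorem L198531 : sm gf N18401 = N17807 := ded_20_2 (flp_b L192959) (flp_f L192937) L198527
theorem L198533 : sm gg N18401 = N18311 := ded_21_2 L197756 (flp_g L192939) L198527
theorem L198535 : sm gh N18401 = N18291 := ded_22_2 (flp_b L197602) (flp_h L192941) L198527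
theorem L198537 : sm gi N18401 = N17950 := ded_23_2 (flp_b L194537) (flp_i L192943) L198527
theorem L198539 : sm ga N18401 = N18224 := ded_9_1 (flp_b L197035) L191420 (flp_b L188430) (flp_a L192935) L198527
theorem L198541 : sm gc N18401 = N18282 := ded_17_2 (flp_b L197538) (flp_c L191992) (flp_b L187541) L192933 L198527
theorem L198543 : sm ge N17805 = N18402 := rfl
theorem L198545 : sm ga N18402 = N17891 := ded_12_1 (flp_e L193919) (flp_a L192935) L198543
theorem L198547 : sm gc N18402 = N17806 := ded_25_1 (flp_e L192947) L192933 L198543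
theorem L198549 : sm gg N18402 = N18372 := ded_36_2 (flp_e L198263) (flp_g L192939) L198543
theorem L198551 : sm gh N18402 = N18292 := ded_37_2 (flp_e L197609) (flp_h L192941) L198543
theorem L198553 : sm gi N18402 = N17951 := ded_38_2 (flp_e L194551) (flp_i L192943) L198543
theorem L198555 : sm gf N17806 = N18403 := rfl
theorem L198557 : sm ga N18403 = N17892 := ded_13_1 (flp_f L193929) (flp_a L192949) L198555
theorem L198559 : sm gb N18403 = N18284 := ded_20_1 (flp_f L197555) (flp_b L192951) L198555
theorem L198561 : sm gd N18403 = N18052 := ded_31_1 (flp_f L195460) (flp_d L192957) L198555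
theorem L198563 : sm gh N18403 = N18293 := ded_40_2 (flp_f L197615) (flp_h L192953) L198555
theorem L198565 : sm gi N18403 = N17952 := ded_41_2 (flp_f L194561) (flp_i L192955) L198555
theorem L198567 : sm ge N18403 = N17809 := ded_35_1 (flp_f L192979) (flp_e L187559) (flp_f L187543) L192947 L198555
theorem L198569 : sm ga N17807 = N18404 := rfl
theorem L198571 : sm gc N18404 = N18326 := ded_10_2 (flp_a L198433) L198435 L198569
theorem L198573 : sm gd N18404 = N17813 := ded_11_2 (flp_a L193022) (flp_d L192961) L198569
theorem L198575 : sm gf N18404 = N18224 := ded_13_2 (flp_a L198539) L198531 L198569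
theorem L198577 : sm gg N18404 = N18002 := ded_14_2 (flp_a L195013) (flp_g L192963) L198569
theorem L198579 : sm gh N18404 = N18327 := ded_15_2 (flp_a L198497) L198493 L198569
theorem L198581 : sm gi N18404 = N17953 := ded_16_2 (flp_a L194571) (flp_i L192965) L198569
theorem L198583 : sm gb N18404 = N17893 := ded_9_2 (flp_a L193939) (flp_b L188442) (flp_a L187551) L192959 L198569
theorem L198585 : sm ge N17807 = N18405 := rfl
theorem L198587 : sm gb N18405 = N17808 := ded_19_1 (flp_e L192967) L192959 L198585
theorem L198589 : sm gg N18405 = N18003 := ded_36_2 (flp_e L195021) (flp_g L192963) L198585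
theorem L198591 : sm gi N18405 = N17954 := ded_38_2 (flp_e L194585) (flp_i L192965) L198585
theorem L198593 : sm gd N18405 = N18273 := ded_30_1 (flp_e L197466) L191921 (flp_e L187606) (flp_d L192961) L198585
theorem L198595 : sm gf N17808 = N18406 := rfl
theorem L198597 : sm ga N18406 = N17895 := ded_13_1 (flp_f L193959) (flp_a L192969) L198595
theorem L198599 : sm gc N18406 = N17809 := ded_26_1 (flp_f L192979) (flp_c L192971) L198595
theorem L198601 : sm gd N18406 = N18274 := ded_31_1 (flp_f L197472) (flp_d L192977) L198595
theorem L198603 : sm gi N18406 = N17955 := ded_41_2 (flp_f L194593) (flp_i L192975) L198595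
theorem L198605 : sm gg N17809 = N18407 := rfl
theorem L198607 : sm ga N18407 = N17896 := ded_14_1 (flp_g L193965) (flp_a L192981) L198605
theorem L198609 : sm gd N18407 = N17810 := ded_32_1 (flp_g L192987) (flp_d L192983) L198605
theorem L198611 : sm gi N18407 = N17956 := ded_43_2 (flp_g L194599) (flp_i L192985) L198605
theorem L198613 : sm gf N18407 = N18006 := ded_39_1 (flp_g L195045) (flp_f L189376) (flp_g L187563) L192979 L198605
theorem L198615 : sm gd N17812 = N18408 := rfl
theorem L198617 : sm ga N18408 = N17897 := ded_11_1 (flp_d L193969) (flp_a L193011) L198615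
theorem L198619 : sm gf N18408 = N18278 := ded_31_2 (flp_d L197514) (flp_f L193020) L198615
theorem L198621 : sm gg N18408 = N18388 := ded_32_2 (flp_d L198375) (flp_g L193015) L198615
theorem L198623 : sm gi N18408 = N18017 := ded_34_2 (flp_d L195117) (flp_i L193018) L198615
theorem L198625 : sm gc N18408 = N18059 := ded_24_1 (flp_d L195522) L189890 (flp_d L187600) (flp_c L193013) L198615
theorem L198627 : sm gg N17814 = N18409 := rfl
theorem L198629 : sm ga N18409 = N17898 := ded_14_1 (flp_g L193981) (flp_a L193038) L198627
theorem L198631 : sm gb N18409 = N18077 := ded_21_1 (flp_g L195696) (flp_b L193040) L198627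
theorem L198633 : sm gc N18409 = N17906 := ded_27_1 (flp_g L194076) (flp_c L193042) L198627
theorem L198635 : sm gd N18409 = N18028 := ded_32_1 (flp_g L195236) (flp_d L193044) L198627
theorem L198637 : sm ge N18409 = N17821 := ded_36_1 (flp_g L193131) (flp_e L193048) L198627
theorem L198639 : sm gi N18409 = N17844 := ded_43_2 (flp_g L193402) (flp_i L193046) L198627
theorem L198641 : sm gf N18409 = N18060 := ded_39_1 (flp_g L195528) (flp_f L189907) (flp_g L187622) L193036 L198627
theorem L198643 : sm gf N17815 = N18410 := rfl
theorem L198645 : sm ga N18410 = N18136 := ded_13_1 (flp_f L196257) (flp_a L193052) L198643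
theorem L198647 : sm gb N18410 = N18063 := ded_20_1 (flp_f L195560) (flp_b L193054) L198643
theorem L198649 : sm gc N18410 = N17816 := ded_26_1 (flp_f L193064) (flp_c L193056) L198643
theorem L198651 : sm gd N18410 = N17933 := ded_31_1 (flp_f L194340) (flp_d L193062) L198643
theorem L198653 : sm gi N18410 = N17846 := ded_41_2 (flp_f L193426) (flp_i L193060) L198643
theorem L198655 : sm ge N18410 = N18076 := ded_35_1 (flp_f L195686) (flp_e L190092) (flp_f L187632) L193050 L198643
theorem L198657 : sm gg N17816 = N18411 := rfl
theorem L198659 : sm ga N18411 = N18137 := ded_14_1 (flp_g L196263) (flp_a L193066) L198657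
theorem L198661 : sm gb N18411 = N17821 := ded_21_1 (flp_g L193131) (flp_b L193068) L198657
theorem L198663 : sm gd N18411 = N18088 := ded_32_1 (flp_g L195804) (flp_d L193070) L198657
theorem L198665 : sm ge N18411 = N18077 := ded_36_1 (flp_g L195696) (flp_e L193074) L198657
theorem L198667 : sm gi N18411 = N17847 := ded_43_2 (flp_g L193436) (flp_i L193072) L198657
theorem L198669 : sm gf N18411 = N17828 := ded_39_1 (flp_g L193221) (flp_f L187766) (flp_g L187648) L193064 L198657
theorem L198671 : sm ge N17817 = N18412 := rfl
theorem L198673 : sm ga N18412 = N17901 := ded_12_1 (flp_e L194024) (flp_a L193078) L198671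
theorem L198675 : sm gb N18412 = N18195 := ded_19_1 (flp_e L196788) (flp_b L193088) L198671
theorem L198677 : sm gc N18412 = N17818 := ded_25_1 (flp_e L193091) L193076 L198671
theorem L198679 : sm gg N18412 = N17834 := ded_36_2 (flp_e L193290) (flp_g L193082) L198671
theorem L198681 : sm gh N18412 = N17819 := ded_37_2 (flp_e L193105) (flp_h L193084) L198671
theorem L198683 : sm gi N18412 = N17888 := ded_38_2 (flp_e L193893) (flp_i L193086) L198671
theorem L198685 : sm gf N17818 = N18413 := rfl
theorem L198687 : sm ga N18413 = N17902 := ded_13_1 (flp_f L194032) (flp_a L193093) L198685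
theorem L198689 : sm gb N18413 = N18085 := ded_20_1 (flp_f L195774) (flp_b L193095) L198685
theorem L198691 : sm gd N18413 = N17925 := ded_31_1 (flp_f L194272) (flp_d L193103) L198685
theorem L198693 : sm gh N18413 = N17820 := ded_40_2 (flp_f L193119) (flp_h L193099) L198685
theorem L198695 : sm gi N18413 = N17889 := ded_41_2 (flp_f L193899) (flp_i L193101) L198685
theorem L198697 : sm ge N18413 = N18079 := ded_35_1 (flp_f L195714) (flp_e L190127) (flp_f L187660) L193091 L198685
theorem L198699 : sm gf N17819 = N18414 := rfl
theorem L198701 : sm ga N18414 = N17904 := ded_13_1 (flp_f L194054) (flp_a L193107) L198699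
theorem L198703 : sm gb N18414 = N18202 := ded_20_1 (flp_f L196839) (flp_b L193109) L198699
theorem L198705 : sm gc N18414 = N17820 := ded_26_1 (flp_f L193119) (flp_c L193111) L198699
theorem L198707 : sm gd N18414 = N18190 := ded_31_1 (flp_f L196733) (flp_d L193117) L198699
theorem L198709 : sm gi N18414 = N17848 := ded_41_2 (flp_f L193444) (flp_i L193115) L198699
theorem L198711 : sm ge N18414 = N18080 := ded_35_1 (flp_f L195722) (flp_e L190137) (flp_f L187672) L193105 L198699
theorem L198713 : sm gg N17820 = N18415 := rfl
theorem L198715 : sm ga N18415 = N17905 := ded_14_1 (flp_g L194064) (flp_a L193121) L198713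
theorem L198717 : sm gb N18415 = N18088 := ded_21_1 (flp_g L195804) (flp_b L193123) L198713
theorem L198719 : sm gd N18415 = N17821 := ded_32_1 (flp_g L193131) (flp_d L193125) L198713
theorem L198721 : sm ge N18415 = N18081 := ded_36_1 (flp_g L195732) (flp_e L193129) L198713
theorem L198723 : sm gi N18415 = N17849 := ded_43_2 (flp_g L193456) (flp_i L193127) L198713
theorem L198725 : sm gf N18415 = N17840 := ded_39_1 (flp_g L193354) (flp_f L187861) (flp_g L187688) L193119 L198713
theorem L198727 : sm gf N17822 = N18416 := rfl
theorem L198729 : sm ga N18416 = N17827 := ded_13_1 (flp_f L193211) (flp_a L193143) L198727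
theorem L198731 : sm gb N18416 = N18076 := ded_20_1 (flp_f L195686) (flp_b L193145) L198727
theorem L198733 : sm gc N18416 = N17823 := ded_26_1 (flp_f L193155) (flp_c L193147) L198727
theorem L198735 : sm gd N18416 = N18107 := ded_31_1 (flp_f L195992) (flp_d L193153) L198727
theorem L198737 : sm gi N18416 = N17852 := ded_41_2 (flp_f L193498) (flp_i L193151) L198727
theorem L198739 : sm ge N18416 = N18063 := ded_35_1 (flp_f L195560) (flp_e L189951) (flp_f L187706) L193141 L198727
theorem L198741 : sm gg N17823 = N18417 := rfl
theorem L198743 : sm ga N18417 = N17828 := ded_14_1 (flp_g L193221) (flp_a L193157) L198741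
theorem L198745 : sm gb N18417 = N17906 := ded_21_1 (flp_g L194076) (flp_b L193159) L198741
theorem L198747 : sm gd N18417 = N18218 := ded_32_1 (flp_g L196967) (flp_d L193161) L198741
theorem L198749 : sm ge N18417 = N18064 := ded_36_1 (flp_g L195568) (flp_e L193165) L198741
theorem L198751 : sm gi N18417 = N17853 := ded_43_2 (flp_g L193510) (flp_i L193163) L198741
theorem L198753 : sm gf N18417 = N18137 := ded_39_1 (flp_g L196263) (flp_f L190700) (flp_g L187722) L193155 L198741
theorem L198755 : sm gf N17824 = N18418 := rfl
theorem L198757 : sm ga N18418 = N18214 := ded_13_1 (flp_f L196929) (flp_a L193169) L198755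
theorem L198759 : sm gb N18418 = N17835 := ded_20_1 (flp_f L193298) (flp_b L193171) L198755
theorem L198761 : sm gc N18418 = N18207 := ded_26_1 (flp_f L196877) (flp_c L193173) L198755
theorem L198763 : sm gd N18418 = N18308 := ded_31_1 (flp_f L197720) (flp_d L193181) L198755
theorem L198765 : sm gh N18418 = N17825 := ded_40_2 (flp_f L193183) (flp_h L193177) L198755
theorem L198767 : sm gi N18418 = N18306 := ded_41_2 (flp_f L197698) (flp_i L193179) L198755
theorem L198769 : sm ge N18418 = N18114 := ded_35_1 (flp_f L196034) (flp_e L190418) (flp_f L187734) L193167 L198755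
theorem L198771 : sm gg N17825 = N18419 := rfl
theorem L198773 : sm ga N18419 = N18218 := ded_14_1 (flp_g L196967) (flp_a L193185) L198771
theorem L198775 : sm gb N18419 = N17840 := ded_21_1 (flp_g L193354) (flp_b L193187) L198771
theorem L198777 : sm gc N18419 = N18211 := ded_27_1 (flp_g L196907) (flp_c L193189) L198771
theorem L198779 : sm gd N18419 = N17828 := ded_32_1 (flp_g L193221) (flp_d L193191) L198771
theorem L198781 : sm ge N18419 = N18123 := ded_36_1 (flp_g L196128) (flp_e L193195) L198771
theorem L198783 : sm gi N18419 = N17857 := ded_43_2 (flp_g L193554) (flp_i L193193) L198771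
theorem L198785 : sm gf N18419 = N18088 := ded_39_1 (flp_g L195804) (flp_f L190211) (flp_g L187752) L193183 L198771
theorem L198787 : sm gf N17826 = N18420 := rfl
theorem L198789 : sm ga N18420 = N18107 := ded_13_1 (flp_f L195992) (flp_a L193199) L198787
theorem L198791 : sm gb N18420 = N18279 := ded_20_1 (flp_f L197522) (flp_b L193201) L198787
theorem L198793 : sm gc N18420 = N17931 := ded_26_1 (flp_f L194314) (flp_c L193207) L198787
theorem L198795 : sm gd N18420 = N17827 := ded_31_1 (flp_f L193211) L193197 L198787
theorem L198797 : sm gi N18420 = N17858 := ded_41_2 (flp_f L193564) (flp_i L193205) L198787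
theorem L198799 : sm ge N18420 = N18093 := ded_35_1 (flp_f L195859) (flp_e L190266) (flp_f L188273) (flp_e L193209) L198787
theorem L198801 : sm gh N17826 = N18421 := rfl
theorem L198803 : sm ga N18421 = N18100 := ded_15_1 L195947 (flp_a L193199) L198801
theorem L198805 : sm gb N18421 = N18280 := ded_22_1 (flp_h L197528) (flp_b L193201) L198801
theorem L198807 : sm gc N18421 = N17917 := ded_28_1 L194205 (flp_c L193207) L198801
theorem L198809 : sm ge N18421 = N17876 := ded_37_1 (flp_h L193748) (flp_e L193209) L198801
theorem L198811 : sm gg N18421 = N17921 := ded_42_1 L194247 (flp_g L193203) L198801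
theorem L198813 : sm gg N17827 = N18422 := rfl
theorem L198815 : sm gb N18422 = N18281 := ded_21_1 (flp_g L197532) (flp_b L193213) L198813
theorem L198817 : sm gc N18422 = N17828 := ded_27_1 (flp_g L193221) (flp_c L193215) L198813
theorem L198819 : sm ge N18422 = N18067 := ded_36_1 (flp_g L195598) (flp_e L193219) L198813
theorem L198821 : sm gi N18422 = N17860 := ded_43_2 (flp_g L193588) (flp_i L193217) L198813
theorem L198823 : sm ge N17829 = N18423 := rfl
theorem L198825 : sm ga N18423 = N17921 := ded_12_1 (flp_e L194243) (flp_a L193231) L198823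
theorem L198827 : sm gb N18423 = N17967 := ded_19_1 (flp_e L194718) (flp_b L193239) L198823
theorem L198829 : sm gc N18423 = N17830 := ded_25_1 (flp_e L193242) L193229 L198823
theorem L198831 : sm gg N18423 = N18100 := ded_36_2 (flp_e L195941) (flp_g L193235) L198823
theorem L198833 : sm gh N18423 = N17836 := ded_37_2 (flp_e L193304) (flp_h L193237) L198823
theorem L198835 : sm gf N17830 = N18424 := rfl
theorem L198837 : sm ga N18424 = N17922 := ded_13_1 (flp_f L194249) (flp_a L193244) L198835
theorem L198839 : sm gb N18424 = N18114 := ded_20_1 (flp_f L196034) (flp_b L193246) L198835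
theorem L198841 : sm gh N18424 = N17837 := ded_40_2 (flp_f L193318) (flp_h L193250) L198835
theorem L198843 : sm ge N18424 = N17835 := ded_35_1 (flp_f L193298) (flp_e L187805) (flp_f L187780) L193242 L198835
theorem L198845 : sm ge N17831 = N18425 := rfl
theorem L198847 : sm ga N18425 = N17924 := ded_12_1 (flp_e L194264) (flp_a L193254) L198845
theorem L198849 : sm gc N18425 = N17832 := ded_25_1 (flp_e L193263) L193252 L198845
theorem L198851 : sm gg N18425 = N17888 := ded_36_2 (flp_e L193893) (flp_g L193256) L198845
theorem L198853 : sm gh N18425 = N17864 := ded_37_2 (flp_e L193626) (flp_h L193258) L198845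
theorem L198855 : sm gi N18425 = N17834 := ded_38_2 (flp_e L193290) (flp_i L193260) L198845
theorem L198857 : sm gf N17832 = N18426 := rfl
theorem L198859 : sm ga N18426 = N17925 := ded_13_1 (flp_f L194272) (flp_a L193265) L198857
theorem L198861 : sm gb N18426 = N18306 := ded_20_1 (flp_f L197698) (flp_b L193267) L198857
theorem L198863 : sm gd N18426 = N17902 := ded_31_1 (flp_f L194032) (flp_d L193275) L198857
theorem L198865 : sm gh N18426 = N17865 := ded_40_2 (flp_f L193638) (flp_h L193271) L198857
theorem L198867 : sm gi N18426 = N17835 := ded_41_2 (flp_f L193298) (flp_i L193273) L198857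
theorem L198869 : sm ge N17833 = N18427 := rfl
theorem L198871 : sm ga N18427 = N17978 := ded_12_1 (flp_e L194829) L193288 L198869
theorem L198873 : sm gb N18427 = N17834 := ded_19_1 (flp_e L193290) L193277 L198869
theorem L198875 : sm gc N18427 = N17964 := ded_25_1 (flp_e L194683) (flp_c L193286) L198869
theorem L198877 : sm gg N18427 = N18195 := ded_36_2 (flp_e L196788) (flp_g L193282) L198869
theorem L198879 : sm gh N18427 = N17838 := ded_37_2 (flp_e L193330) (flp_h L193284) L198869
theorem L198881 : sm gd N17834 = N18428 := rfl
theorem L198883 : sm ga N18428 = N17928 := ded_11_1 (flp_d L194299) (flp_a L193292) L198881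
theorem L198885 : sm ge N18428 = N18428 := ded_30_2 (flp_d L198881) (flp_e L193290) L187804 L193290 L198881
theorem L198886 : sm gh N18428 = N18286 := ded_33_2 (flp_d L197569) L192020 (flp_d L187859) (flp_h L193296) L198881
theorem L198888 : sm gf N17834 = N18429 := rfl
theorem L198890 : sm ga N18429 = N17929 := ded_13_1 (flp_f L194304) (flp_a L193292) L198888
theorem L198892 : sm gc N18429 = N17835 := ded_26_1 (flp_f L193298) (flp_c L193294) L198888
theorem L198894 : sm gh N18429 = N17839 := ded_40_2 (flp_f L193344) (flp_h L193296) L198888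
theorem L198896 : sm gg N17835 = N18430 := rfl
theorem L198898 : sm ga N18430 = N17930 := ded_14_1 (flp_g L194310) (flp_a L193300) L198896
theorem L198900 : sm gh N18430 = N17840 := ded_42_2 (flp_g L193354) (flp_h L193302) L198896
theorem L198902 : sm gf N17836 = N18431 := rfl
theorem L198904 : sm ga N18431 = N17933 := ded_13_1 (flp_f L194340) (flp_a L193306) L198902
theorem L198906 : sm gb N18431 = N17970 := ded_20_1 (flp_f L194746) (flp_b L193308) L198902
theorem L198908 : sm gc N18431 = N17837 := ded_26_1 (flp_f L193318) (flp_c L193310) L198902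
theorem L198910 : sm gd N18431 = N18136 := ded_31_1 (flp_f L196257) (flp_d L193316) L198902
theorem L198912 : sm gi N18431 = N17871 := ded_41_2 (flp_f L193698) (flp_i L193314) L198902
theorem L198914 : sm ge N18431 = N17839 := ded_35_1 (flp_f L193344) (flp_e L187851) (flp_f L187815) L193304 L198902
theorem L198916 : sm gg N17837 = N18432 := rfl
theorem L198918 : sm ga N18432 = N17934 := ded_14_1 (flp_g L194348) (flp_a L193320) L198916
theorem L198920 : sm gb N18432 = N18123 := ded_21_1 (flp_g L196128) (flp_b L193322) L198916
theorem L198922 : sm gd N18432 = N18073 := ded_32_1 (flp_g L195660) (flp_d L193324) L198916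
theorem L198924 : sm ge N18432 = N17840 := ded_36_1 (flp_g L193354) (flp_e L193328) L198916
theorem L198926 : sm gi N18432 = N17872 := ded_43_2 (flp_g L193708) (flp_i L193326) L198916
theorem L198928 : sm gf N18432 = N18108 := ded_39_1 (flp_g L196002) (flp_f L190380) (flp_g L187831) L193318 L198916
theorem L198930 : sm gf N17838 = N18433 := rfl
theorem L198932 : sm ga N18433 = N17990 := ded_13_1 (flp_f L194927) (flp_a L193332) L198930
theorem L198934 : sm gb N18433 = N17839 := ded_20_1 (flp_f L193344) (flp_b L193334) L198930
theorem L198936 : sm gc N18433 = N17969 := ded_26_1 (flp_f L194734) (flp_c L193336) L198930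
theorem L198938 : sm gd N18433 = N18289 := ded_31_1 (flp_f L197588) (flp_d L193342) L198930
theorem L198940 : sm gi N18433 = N17874 := ded_41_2 (flp_f L193730) (flp_i L193340) L198930
theorem L198942 : sm ge N18433 = N17970 := ded_35_1 (flp_f L194746) (flp_e L189159) (flp_f L187841) L193330 L198930
theorem L198944 : sm gg N17839 = N18434 := rfl
theorem L198946 : sm ga N18434 = N17937 := ded_14_1 (flp_g L194380) (flp_a L193346) L198944
theorem L198948 : sm gc N18434 = N17840 := ded_27_1 (flp_g L193354) (flp_c L193348) L198944
theorem L198950 : sm gd N18434 = N18290 := ded_32_1 (flp_g L197594) (flp_d L193350) L198944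
theorem L198952 : sm gi N18434 = N17875 := ded_43_2 (flp_g L193740) (flp_i L193352) L198944
theorem L198954 : sm gg N17841 = N18435 := rfl
theorem L198956 : sm ga N18435 = N18026 := ded_14_1 (flp_g L195212) (flp_a L193364) L198954
theorem L198958 : sm gb N18435 = N17844 := ded_21_1 (flp_g L193402) (flp_b L193366) L198954
theorem L198960 : sm gc N18435 = N18385 := ded_27_1 (flp_g L198351) (flp_c L193368) L198954
theorem L198962 : sm gd N18435 = N18060 := ded_32_1 (flp_g L195528) (flp_d L193370) L198954
theorem L198964 : sm ge N18435 = N17847 := ded_36_1 (flp_g L193436) (flp_e L193374) L198954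
theorem L198966 : sm gi N18435 = N18077 := ded_43_2 (flp_g L195696) (flp_i L193372) L198954
theorem L198968 : sm gf N18435 = N18028 := ded_39_1 (flp_g L195236) (flp_f L189633) (flp_g L187887) L193362 L198954
theorem L198970 : sm gf N17842 = N18436 := rfl
theorem L198972 : sm ga N18436 = N17940 := ded_13_1 (flp_f L194410) (flp_a L193378) L198970
theorem L198974 : sm gb N18436 = N18136 := ded_20_1 (flp_f L196257) (flp_b L193380) L198970
theorem L198976 : sm gc N18436 = N17843 := ded_26_1 (flp_f L193390) (flp_c L193382) L198970
theorem L198978 : sm gd N18436 = N17970 := ded_31_1 (flp_f L194746) (flp_d L193388) L198970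
theorem L198980 : sm gi N18436 = N18027 := ded_41_2 (flp_f L195224) (flp_i L193386) L198970
theorem L198982 : sm ge N18436 = N18061 := ded_35_1 (flp_f L195538) (flp_e L189917) (flp_f L187897) L193376 L198970
theorem L198984 : sm gg N17843 = N18437 := rfl
theorem L198986 : sm ga N18437 = N17941 := ded_14_1 (flp_g L194422) (flp_a L193392) L198984
theorem L198988 : sm gb N18437 = N18060 := ded_21_1 (flp_g L195528) (flp_b L193394) L198984
theorem L198990 : sm gd N18437 = N17844 := ded_32_1 (flp_g L193402) (flp_d L193396) L198984
theorem L198992 : sm ge N18437 = N18062 := ded_36_1 (flp_g L195548) (flp_e L193400) L198984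
theorem L198994 : sm gi N18437 = N18028 := ded_43_2 (flp_g L195236) (flp_i L193398) L198984
theorem L198996 : sm gf N18437 = N18077 := ded_39_1 (flp_g L195696) (flp_f L190102) (flp_g L187913) L193390 L198984
theorem L198998 : sm gg N17845 = N18438 := rfl
theorem L199000 : sm ga N18438 = N17847 := ded_14_1 (flp_g L193436) (flp_a L193414) L198998
theorem L199002 : sm gb N18438 = N17942 := ded_21_1 (flp_g L194434) (flp_b L193416) L198998
theorem L199004 : sm gd N18438 = N18124 := ded_32_1 (flp_g L196134) (flp_d L193418) L198998
theorem L199006 : sm ge N18438 = N18026 := ded_36_1 (flp_g L195212) (flp_e L193424) L198998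
theorem L199008 : sm gh N18438 = N18435 := ded_42_2 (flp_g L198954) (flp_h L193420) L198998
theorem L199010 : sm gi N18438 = N18137 := ded_43_2 (flp_g L196263) (flp_i L193422) L198998
theorem L199012 : sm gf N18438 = N17853 := ded_39_1 (flp_g L193510) (flp_f L188027) (flp_g L187933) L193412 L198998
theorem L199014 : sm gg N17846 = N18439 := rfl
theorem L199016 : sm gb N18439 = N18095 := ded_21_1 (flp_g L195877) (flp_b L193428) L199014
theorem L199018 : sm gc N18439 = N17847 := ded_27_1 (flp_g L193436) (flp_c L193430) L199014
theorem L199020 : sm gd N18439 = N18014 := ded_32_1 (flp_g L195097) (flp_d L193432) L199014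
theorem L199022 : sm ge N18439 = N18385 := ded_36_1 (flp_g L198351) (flp_e L193434) L199014
theorem L199024 : sm gf N18439 = N17860 := ded_39_1 (flp_g L193588) (flp_f L188095) (flp_g L187947) L193426 L199014
theorem L199026 : sm gg N17848 = N18440 := rfl
theorem L199028 : sm ga N18440 = N17963 := ded_14_1 (flp_g L194675) (flp_a L193446) L199026
theorem L199030 : sm gb N18440 = N18248 := ded_21_1 (flp_g L197255) (flp_b L193448) L199026
theorem L199032 : sm gc N18440 = N17849 := ded_27_1 (flp_g L193456) (flp_c L193450) L199026
theorem L199034 : sm gd N18440 = N18233 := ded_32_1 (flp_g L197113) (flp_d L193452) L199026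
theorem L199036 : sm ge N18440 = N18249 := ded_36_1 (flp_g L197261) (flp_e L193454) L199026
theorem L199038 : sm gf N18440 = N17875 := ded_39_1 (flp_g L193740) (flp_f L188241) (flp_g L187965) L193444 L199026
theorem L199040 : sm gf N17850 = N18441 := rfl
theorem L199042 : sm ga N18441 = N17855 := ded_13_1 (flp_f L193532) (flp_a L193470) L199040
theorem L199044 : sm gb N18441 = N17968 := ded_20_1 (flp_f L194728) (flp_b L193472) L199040
theorem L199046 : sm gc N18441 = N18114 := ded_26_1 (flp_f L196034) (flp_c L193474) L199040
theorem L199048 : sm gd N18441 = N18140 := ded_31_1 (flp_f L196285) (flp_d L193482) L199040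
theorem L199050 : sm gh N18441 = N17851 := ded_40_2 (flp_f L193484) (flp_h L193478) L199040
theorem L199052 : sm gi N18441 = N18139 := ded_41_2 (flp_f L196275) (flp_i L193480) L199040
theorem L199054 : sm ge N18441 = N18207 := ded_35_1 (flp_f L196877) (flp_e L191256) (flp_f L187993) L193468 L199040
theorem L199056 : sm gg N17851 = N18442 := rfl
theorem L199058 : sm ga N18442 = N17857 := ded_14_1 (flp_g L193554) (flp_a L193486) L199056
theorem L199060 : sm gb N18442 = N17971 := ded_21_1 (flp_g L194754) (flp_b L193488) L199056
theorem L199062 : sm gc N18442 = N18123 := ded_27_1 (flp_g L196128) (flp_c L193490) L199056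
theorem L199064 : sm gd N18442 = N17853 := ded_32_1 (flp_g L193510) (flp_d L193492) L199056
theorem L199066 : sm ge N18442 = N18211 := ded_36_1 (flp_g L196907) (flp_e L193496) L199056
theorem L199068 : sm gi N18442 = N18218 := ded_43_2 (flp_g L196967) (flp_i L193494) L199056
theorem L199070 : sm gf N18442 = N18124 := ded_39_1 (flp_g L196134) (flp_f L190510) (flp_g L188011) L193484 L199056
theorem L199072 : sm gg N17852 = N18443 := rfl
theorem L199074 : sm ga N18443 = N17860 := ded_14_1 (flp_g L193588) (flp_a L193500) L199072
theorem L199076 : sm gb N18443 = N18385 := ded_21_1 (flp_g L198351) (flp_b L193502) L199072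
theorem L199078 : sm gc N18443 = N17853 := ded_27_1 (flp_g L193510) (flp_c L193504) L199072
theorem L199080 : sm gd N18443 = N18384 := ded_32_1 (flp_g L198345) (flp_d L193506) L199072
theorem L199082 : sm ge N18443 = N18095 := ded_36_1 (flp_g L195877) (flp_e L193508) L199072
theorem L199084 : sm gf N17854 = N18444 := rfl
theorem L199086 : sm ga N18444 = N18207 := ded_13_1 (flp_f L196877) (flp_a L193520) L199084
theorem L199088 : sm gb N18444 = N17863 := ded_20_1 (flp_f L193618) (flp_b L193522) L199084
theorem L199090 : sm gc N18444 = N18214 := ded_26_1 (flp_f L196929) (flp_c L193524) L199084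
theorem L199092 : sm gh N18444 = N17856 := ded_40_2 (flp_f L193540) (flp_h L193528) L199084
theorem L199094 : sm gi N18444 = N18361 := ded_41_2 (flp_f L198161) (flp_i L193530) L199084
theorem L199096 : sm ge N18444 = N17855 := ded_35_1 (flp_f L193532) (flp_e L188051) (flp_f L188041) L193518 L199084
theorem L199098 : sm gg N17855 = N18445 := rfl
theorem L199100 : sm gb N18445 = N17869 := ded_21_1 (flp_g L193678) (flp_b L193534) L199098
theorem L199102 : sm gc N18445 = N18252 := ded_27_1 (flp_g L197285) (flp_c L193536) L199098
theorem L199104 : sm gh N18445 = N17857 := ded_42_2 (flp_g L193554) (flp_h L193538) L199098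
theorem L199106 : sm gf N18445 = N18254 := ded_39_1 (flp_g L197303) (flp_f L191672) (flp_g L188057) L193532 L199098
theorem L199108 : sm gg N17856 = N18446 := rfl
theorem L199110 : sm ga N18446 = N18211 := ded_14_1 (flp_g L196907) (flp_a L193542) L199108
theorem L199112 : sm gb N18446 = N17872 := ded_21_1 (flp_g L193708) (flp_b L193544) L199108
theorem L199114 : sm gc N18446 = N18218 := ded_27_1 (flp_g L196967) (flp_c L193546) L199108
theorem L199116 : sm gd N18446 = N18108 := ded_32_1 (flp_g L196002) (flp_d L193548) L199108
theorem L199118 : sm ge N18446 = N17857 := ded_36_1 (flp_g L193554) (flp_e L193552) L199108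
theorem L199120 : sm gi N18446 = N18123 := ded_43_2 (flp_g L196128) (flp_i L193550) L199108
theorem L199122 : sm gf N18446 = N18073 := ded_39_1 (flp_g L195660) (flp_f L190055) (flp_g L188069) L193540 L199108
theorem L199124 : sm gg N17858 = N18447 := rfl
theorem L199126 : sm ga N18447 = N18384 := ded_14_1 (flp_g L198345) (flp_a L193566) L199124
theorem L199128 : sm gb N18447 = N18303 := ded_21_1 (flp_g L197680) (flp_b L193568) L199124
theorem L199130 : sm gc N18447 = N18012 := ded_27_1 (flp_g L195081) (flp_c L193570) L199124
theorem L199132 : sm gd N18447 = N17860 := ded_32_1 (flp_g L193588) (flp_d L193572) L199124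
theorem L199134 : sm ge N18447 = N18387 := ded_36_1 (flp_g L198371) (flp_e L193574) L199124
theorem L199136 : sm gf N18447 = N18014 := ded_39_1 (flp_g L195097) (flp_f L189424) (flp_g L188089) L193564 L199124
theorem L199138 : sm gh N17858 = N18448 := rfl
theorem L199140 : sm ga N18448 = N18369 := ded_15_1 L198237 (flp_a L193566) L199138
theorem L199142 : sm gb N18448 = N18304 := ded_22_1 (flp_h L197684) (flp_b L193568) L199138
theorem L199144 : sm gc N18448 = N17995 := ded_28_1 L194963 (flp_c L193570) L199138
theorem L199146 : sm ge N18448 = N18379 := ded_37_1 L198319 (flp_e L193574) L199138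
theorem L199148 : sm gf N18448 = N17859 := ded_40_1 (flp_h L193576) L193564 L199138
theorem L199150 : sm gf N17861 = N18449 := rfl
theorem L199152 : sm ga N18449 = N17995 := ded_13_1 (flp_f L194961) (flp_a L193598) L199150
theorem L199154 : sm gb N18449 = N18070 := ded_20_1 (flp_f L195630) (flp_b L193600) L199150
theorem L199156 : sm gc N18449 = N18369 := ded_26_1 (flp_f L198231) (flp_c L193602) L199150
theorem L199158 : sm gh N18449 = N17870 := ded_40_2 (flp_f L193684) (flp_h L193606) L199150
theorem L199160 : sm ge N18449 = N18065 := ded_35_1 (flp_f L195578) (flp_e L189969) (flp_f L188115) L193596 L199150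
theorem L199162 : sm gf N17862 = N18450 := rfl
theorem L199164 : sm ga N18450 = N17998 := ded_13_1 (flp_f L194983) (flp_a L193610) L199162
theorem L199166 : sm gb N18450 = N18361 := ded_20_1 (flp_f L198161) (flp_b L193612) L199162
theorem L199168 : sm gd N18450 = N18444 := ded_31_1 (flp_f L199084) (flp_d L193616) L199162
theorem L199170 : sm gi N18450 = N17863 := ded_41_2 (flp_f L193618) (flp_i L193614) L199162
theorem L199172 : sm ge N18450 = N17865 := ded_35_1 (flp_f L193638) (flp_e L188149) (flp_f L188129) L193608 L199162
theorem L199174 : sm gg N17863 = N18451 := rfl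
theorem L199176 : sm ga N18451 = N18001 := ded_14_1 (flp_g L195007) (flp_a L193620) L199174
theorem L199178 : sm ge N18451 = N17869 := ded_36_1 (flp_g L193678) (flp_e L193624) L199174
theorem L199180 : sm gh N18451 = N17872 := ded_42_2 (flp_g L193708) (flp_h L193622) L199174
theorem L199182 : sm gf N17864 = N18452 := rfl
theorem L199184 : sm ga N18452 = N18005 := ded_13_1 (flp_f L195039) (flp_a L193628) L199182
theorem L199186 : sm gc N18452 = N17865 := ded_26_1 (flp_f L193638) (flp_c L193630) L199182
theorem L199188 : sm gd N18452 = N18159 := ded_31_1 (flp_f L196479) (flp_d L193636) L199182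
theorem L199190 : sm gi N18452 = N17868 := ded_41_2 (flp_f L193670) (flp_i L193634) L199182
theorem L199192 : sm gg N17865 = N18453 := rfl
theorem L199194 : sm ga N18453 = N18006 := ded_14_1 (flp_g L195045) (flp_a L193640) L199192
theorem L199196 : sm gd N18453 = N17879 := ded_32_1 (flp_g L193787) (flp_d L193642) L199192
theorem L199198 : sm gi N18453 = N17869 := ded_43_2 (flp_g L193678) (flp_i L193644) L199192
theorem L199200 : sm gf N18453 = N17896 := ded_39_1 (flp_g L193965) (flp_f L188458) (flp_g L188153) L193638 L199192
theorem L199202 : sm ge N17866 = N18454 := rfl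
theorem L199204 : sm ga N18454 = N17867 := ded_12_1 (flp_e L193660) L193646 L199202
theorem L199206 : sm gb N18454 = N18007 := ded_19_1 (flp_e L195049) (flp_b L193658) L199202
theorem L199208 : sm gc N18454 = N17907 := ded_25_1 (flp_e L194088) (flp_c L193648) L199202
theorem L199210 : sm gg N18454 = N18222 := ded_36_2 (flp_e L197017) (flp_g L193654) L199202
theorem L199212 : sm gh N18454 = N17873 := ded_37_2 (flp_e L193716) (flp_h L193656) L199202
theorem L199214 : sm gf N17867 = N18455 := rfl
theorem L199216 : sm gb N18455 = N17868 := ded_20_1 (flp_f L193670) (flp_b L193662) L199214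
theorem L199218 : sm gc N18455 = N18236 := ded_26_1 (flp_f L197141) (flp_c L193664) L199214
theorem L199220 : sm gh N18455 = N17874 := ded_40_2 (flp_f L193730) (flp_h L193668) L199214
theorem L199222 : sm ge N18455 = N18363 := ded_35_1 (flp_f L198179) (flp_e L192602) (flp_f L188163) L193660 L199214
theorem L199224 : sm gg N17868 = N18456 := rfl
theorem L199226 : sm ga N18456 = N18011 := ded_14_1 (flp_g L195075) (flp_a L193672) L199224
theorem L199228 : sm gc N18456 = N17869 := ded_27_1 (flp_g L193678) (flp_c L193674) L199224
theorem L199230 : sm gh N18456 = N17875 := ded_42_2 (flp_g L193740) (flp_h L193676) L199224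
theorem L199232 : sm gg N17870 = N18457 := rfl
theorem L199234 : sm ga N18457 = N18012 := ded_14_1 (flp_g L195081) (flp_a L193686) L199232
theorem L199236 : sm gb N18457 = N18073 := ded_21_1 (flp_g L195660) (flp_b L193688) L199232
theorem L199238 : sm gc N18457 = N18384 := ded_27_1 (flp_g L198345) (flp_c L193690) L199232
theorem L199240 : sm gd N18457 = N18123 := ded_32_1 (flp_g L196128) (flp_d L193692) L199232
theorem L199242 : sm ge N18457 = N18066 := ded_36_1 (flp_g L195586) (flp_e L193696) L199232
theorem L199244 : sm gi N18457 = N18108 := ded_43_2 (flp_g L196002) (flp_i L193694) L199232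
theorem L199246 : sm gf N18457 = N17872 := ded_39_1 (flp_g L193708) (flp_f L188209) (flp_g L188193) L193684 L199232
theorem L199248 : sm gg N17871 = N18458 := rfl
theorem L199250 : sm ga N18458 = N18014 := ded_14_1 (flp_g L195097) (flp_a L193700) L199248
theorem L199252 : sm gb N18458 = N18383 := ded_21_1 (flp_g L198339) (flp_b L193702) L199248
theorem L199254 : sm gc N18458 = N17872 := ded_27_1 (flp_g L193708) (flp_c L193704) L199248
theorem L199256 : sm ge N18458 = N17875 := ded_36_1 (flp_g L193740) (flp_e L193706) L199248
theorem L199258 : sm gf N18458 = N18384 := ded_39_1 (flp_g L198345) (flp_f L192748) (flp_g L188207) L193698 L199248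
theorem L199260 : sm gf N17873 = N18459 := rfl
theorem L199262 : sm ga N18459 = N17874 := ded_13_1 (flp_f L193730) (flp_a L193718) L199260
theorem L199264 : sm gb N18459 = N18015 := ded_20_1 (flp_f L195103) (flp_b L193720) L199260
theorem L199266 : sm gc N18459 = N17912 := ded_26_1 (flp_f L194148) (flp_c L193722) L199260
theorem L199268 : sm gd N18459 = N18302 := ded_31_1 L197678 (flp_d L193728) L199260
theorem L199270 : sm gi N18459 = N17990 := ded_41_2 (flp_f L194927) (flp_i L193726) L199260
theorem L199272 : sm ge N18459 = N17913 := ded_35_1 (flp_f L194160) (flp_e L188647) (flp_f L188223) L193716 L199260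
theorem L199274 : sm gg N17874 = N18460 := rfl
theorem L199276 : sm gb N18460 = N17875 := ded_21_1 (flp_g L193740) (flp_b L193732) L199274
theorem L199278 : sm gc N18460 = N18247 := ded_27_1 (flp_g L197247) (flp_c L193734) L199274
theorem L199280 : sm gd N18460 = N18322 := ded_32_1 (flp_g L197844) (flp_d L193736) L199274
theorem L199282 : sm ge N18460 = N18383 := ded_36_1 (flp_g L198339) (flp_e L193738) L199274
theorem L199284 : sm gf N18460 = N18248 := ded_39_1 (flp_g L197255) (flp_f L191616) (flp_g L188237) L193730 L199274
theorem L199286 : sm gg N17877 = N18461 := rfl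
theorem L199288 : sm gb N18461 = N18030 := ded_21_1 (flp_g L195256) (flp_b L193763) L199286
theorem L199290 : sm gc N18461 = N17884 := ded_27_1 (flp_g L193847) (flp_c L193765) L199286
theorem L199292 : sm gd N18461 = N18445 := ded_32_1 (flp_g L199098) (flp_d L193767) L199286
theorem L199294 : sm ge N18461 = N17879 := ded_36_1 (flp_g L193787) (flp_e L193771) L199286
theorem L199296 : sm gh N18461 = N17898 := ded_42_2 (flp_g L193981) (flp_h L193769) L199286
theorem L199298 : sm gf N18461 = N18126 := ded_39_1 (flp_g L196158) (flp_f L190584) (flp_g L188301) L193761 L199286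
theorem L199300 : sm gg N17878 = N18462 := rfl
theorem L199302 : sm ga N18462 = N18141 := ded_14_1 (flp_g L196299) (flp_a L193775) L199300
theorem L199304 : sm gb N18462 = N17879 := ded_21_1 (flp_g L193787) (flp_b L193777) L199300
theorem L199306 : sm gc N18462 = N18126 := ded_27_1 (flp_g L196158) (flp_c L193779) L199300
theorem L199308 : sm ge N18462 = N18030 := ded_36_1 (flp_g L195256) (flp_e L193785) L199300
theorem L199310 : sm gh N18462 = N17899 := ded_42_2 (flp_g L193995) (flp_h L193781) L199300
theorem L199312 : sm gi N18462 = N18461 := ded_43_2 (flp_g L199286) (flp_i L193783) L199300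
theorem L199314 : sm gf N18462 = N17884 := ded_39_1 (flp_g L193847) (flp_f L188377) (flp_g L188315) L193773 L199300
theorem L199316 : sm gf N17880 = N18463 := rfl
theorem L199318 : sm ga N18463 = N17883 := ded_13_1 (flp_f L193835) (flp_a L193797) L199316
theorem L199320 : sm gb N18463 = N18351 := ded_20_1 (flp_f L198099) (flp_b L193799) L199316
theorem L199322 : sm gc N18463 = N18115 := ded_26_1 (flp_f L196042) (flp_c L193801) L199316
theorem L199324 : sm gd N18463 = N17881 := ded_31_1 (flp_f L193811) (flp_d L193809) L199316
theorem L199326 : sm gh N18463 = N18215 := ded_40_2 (flp_f L196941) (flp_h L193805) L199316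
theorem L199328 : sm gi N18463 = N18116 := ded_41_2 (flp_f L196052) (flp_i L193807) L199316
theorem L199330 : sm ge N18463 = N18119 := ded_35_1 (flp_f L196086) (flp_e L190458) (flp_f L188333) L193795 L199316
theorem L199332 : sm gg N17881 = N18464 := rfl
theorem L199334 : sm ga N18464 = N17884 := ded_14_1 (flp_g L193847) (flp_a L193813) L199332
theorem L199336 : sm ge N18464 = N18149 := ded_36_1 (flp_g L196375) (flp_e L193817) L199332
theorem L199338 : sm gh N18464 = N17906 := ded_42_2 (flp_g L194076) (flp_h L193815) L199332
theorem L199340 : sm gf N18464 = N18141 := ded_39_1 (flp_g L196299) (flp_f L190740) (flp_g L188347) L193811 L199332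
theorem L199342 : sm gf N17882 = N18465 := rfl
theorem L199344 : sm ga N18465 = N18215 := ded_13_1 (flp_f L196941) (flp_a L193821) L199342
theorem L199346 : sm gb N18465 = N17889 := ded_20_1 (flp_f L193899) (flp_b L193823) L199342
theorem L199348 : sm gc N18465 = N18208 := ded_26_1 (flp_f L196885) (flp_c L193825) L199342
theorem L199350 : sm gd N18465 = N17911 := ded_31_1 (flp_f L194140) (flp_d L193833) L199342
theorem L199352 : sm gh N18465 = N17883 := ded_40_2 (flp_f L193835) (flp_h L193829) L199342
theorem L199354 : sm gi N18465 = N18085 := ded_41_2 (flp_f L195774) (flp_i L193831) L199342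
theorem L199356 : sm ge N18465 = N18086 := ded_35_1 (flp_f L195784) (flp_e L190191) (flp_f L188357) L193819 L199342
theorem L199358 : sm gg N17883 = N18466 := rfl
theorem L199360 : sm gb N18466 = N17896 := ded_21_1 (flp_g L193965) (flp_b L193837) L199358
theorem L199362 : sm gc N18466 = N18253 := ded_27_1 (flp_g L197293) (flp_c L193839) L199358
theorem L199364 : sm gd N18466 = N17884 := ded_32_1 (flp_g L193847) (flp_d L193841) L199358
theorem L199366 : sm ge N18466 = N18255 := ded_36_1 (flp_g L197315) (flp_e L193845) L199358
theorem L199368 : sm gi N18466 = N18254 := ded_43_2 (flp_g L197303) (flp_i L193843) L199358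
theorem L199370 : sm ge N17885 = N18467 := rfl
theorem L199372 : sm ga N18467 = N18292 := ded_12_1 (flp_e L197609) (flp_a L193857) L199370
theorem L199374 : sm gb N18467 = N18197 := ded_19_1 (flp_e L196802) (flp_b L193867) L199370
theorem L199376 : sm gc N18467 = N17886 := ded_25_1 (flp_e L193870) L193855 L199370
theorem L199378 : sm gg N18467 = N18102 := ded_36_2 (flp_e L195957) (flp_g L193861) L199370
theorem L199380 : sm gh N18467 = N17891 := ded_37_2 (flp_e L193919) (flp_h L193863) L199370
theorem L199382 : sm gi N18467 = N18078 := ded_38_2 (flp_e L195702) (flp_i L193865) L199370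
theorem L199384 : sm gf N17886 = N18468 := rfl
theorem L199386 : sm ga N18468 = N18293 := ded_13_1 (flp_f L197615) (flp_a L193872) L199384
theorem L199388 : sm gb N18468 = N18086 := ded_20_1 (flp_f L195784) (flp_b L193874) L199384
theorem L199390 : sm gh N18468 = N17892 := ded_40_2 (flp_f L193929) (flp_h L193878) L199384
theorem L199392 : sm gi N18468 = N18079 := ded_41_2 (flp_f L195714) (flp_i L193880) L199384
theorem L199394 : sm ge N18468 = N17889 := ded_35_1 (flp_f L193899) (flp_e L188404) (flp_f L188391) L193870 L199384
theorem L199396 : sm ge N17887 = N18469 := rfl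
theorem L199398 : sm gb N18469 = N17888 := ded_19_1 (flp_e L193893) L193882 L199396
theorem L199400 : sm gc N18469 = N18194 := ded_25_1 (flp_e L196774) (flp_c L193891) L199396
theorem L199402 : sm gh N18469 = N17894 := ded_37_2 (flp_e L193949) (flp_h L193887) L199396
theorem L199404 : sm gi N18469 = N18195 := ded_38_2 (flp_e L196788) (flp_i L193889) L199396
theorem L199406 : sm gd N17888 = N18470 := rfl
theorem L199408 : sm gc N18470 = N17928 := ded_24_1 (flp_d L194299) L188740 (flp_d L188408) (flp_c L193895) L199406
theorem L199410 : sm ge N18470 = N18470 := ded_30_2 (flp_d L199406) (flp_e L193893) L188403 L193893 L199406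
theorem L199411 : sm gh N18470 = N18335 := ded_33_2 (flp_d L197960) L192382 (flp_d L188456) (flp_h L193897) L199406
theorem L199413 : sm gf N17888 = N18471 := rfl
theorem L199415 : sm gc N18471 = N17889 := ded_26_1 (flp_f L193899) (flp_c L193895) L199413
theorem L199417 : sm gh N18471 = N17895 := ded_40_2 (flp_f L193959) (flp_h L193897) L199413
theorem L199419 : sm gg N17889 = N18472 := rfl
theorem L199421 : sm gd N18472 = N17930 := ded_32_1 (flp_g L194310) (flp_d L193901) L199419
theorem L199423 : sm gh N18472 = N17896 := ded_42_2 (flp_g L193965) (flp_h L193903) L199419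
theorem L199425 : sm gf N17890 = N18473 := rfl
theorem L199427 : sm gb N18473 = N18071 := ded_20_1 (flp_f L195640) (flp_b L193907) L199425
theorem L199429 : sm gc N18473 = N18374 := ded_26_1 (flp_f L198281) (flp_c L193909) L199425
theorem L199431 : sm gd N18473 = N18175 := ded_31_1 (flp_f L196613) (flp_d L193917) L199425
theorem L199433 : sm gh N18473 = N18103 := ded_40_2 (flp_f L195967) (flp_h L193913) L199425
theorem L199435 : sm gi N18473 = N18065 := ded_41_2 (flp_f L195578) (flp_i L193915) L199425
theorem L199437 : sm gd N17891 = N18474 := rfl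
theorem L199439 : sm gb N18474 = N18240 := ded_18_1 (flp_d L197181) (flp_b L193921) L199437
theorem L199441 : sm gg N18474 = N18373 := ded_32_2 (flp_d L198271) (flp_g L193925) L199437
theorem L199443 : sm gi N18474 = N18243 := ded_34_2 (flp_d L197209) (flp_i L193927) L199437
theorem L199445 : sm gc N18474 = N18178 := ded_24_1 (flp_d L196635) L191031 (flp_d L188440) (flp_c L193923) L199437
theorem L199447 : sm ge N18474 = N17897 := ded_30_2 (flp_d L193969) (flp_e L188470) (flp_d L188432) L193919 L199437
theorem L199449 : sm gf N17891 = N18475 := rfl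
theorem L199451 : sm gb N18475 = N18241 := ded_20_1 (flp_f L197193) (flp_b L193921) L199449
theorem L199453 : sm gc N18475 = N17892 := ded_26_1 (flp_f L193929) (flp_c L193923) L199449
theorem L199455 : sm gi N18475 = N18244 := ded_41_2 (flp_f L197219) (flp_i L193927) L199449
theorem L199457 : sm ge N18475 = N17895 := ded_35_1 (flp_f L193959) (flp_e L188452) (flp_f L188424) L193919 L199449
theorem L199459 : sm gg N17892 = N18476 := rfl
theorem L199461 : sm gb N18476 = N18255 := ded_21_1 (flp_g L197315) (flp_b L193931) L199459
theorem L199463 : sm gd N18476 = N18180 := ded_32_1 (flp_g L196649) (flp_d L193933) L199459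
theorem L199465 : sm ge N18476 = N17896 := ded_36_1 (flp_g L193965) (flp_e L193937) L199459
theorem L199467 : sm gi N18476 = N18256 := ded_43_2 (flp_g L197321) (flp_i L193935) L199459
theorem L199469 : sm ge N17893 = N18477 := rfl
theorem L199471 : sm ga N18477 = N17894 := ded_12_1 (flp_e L193949) L193939 L199469
theorem L199473 : sm gc N18477 = N18221 := ded_25_1 (flp_e L197003) (flp_c L193941) L199469
theorem L199475 : sm gi N18477 = N18222 := ded_38_2 (flp_e L197017) (flp_i L193947) L199469
theorem L199477 : sm gd N18477 = N18345 := ded_30_1 (flp_e L198049) L192442 (flp_e L188487) (flp_d L193943) L199469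
theorem L199479 : sm gf N17894 = N18478 := rfl
theorem L199481 : sm gb N18478 = N17895 := ded_20_1 (flp_f L193959) (flp_b L193951) L199479
theorem L199483 : sm gc N18478 = N18237 := ded_26_1 (flp_f L197151) (flp_c L193953) L199479
theorem L199485 : sm gd N18478 = N18346 := ded_31_1 (flp_f L198055) (flp_d L193957) L199479
theorem L199487 : sm gi N18478 = N18238 := ded_41_2 (flp_f L197161) (flp_i L193955) L199479
theorem L199489 : sm ge N18478 = N18241 := ded_35_1 (flp_f L197193) (flp_e L191556) (flp_f L188446) L193949 L199479
theorem L199491 : sm gg N17895 = N18479 := rfl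
theorem L199493 : sm gc N18479 = N17896 := ded_27_1 (flp_g L193965) (flp_c L193961) L199491
theorem L199495 : sm gd N18479 = N18347 := ded_32_1 (flp_g L198061) (flp_d L193963) L199491
theorem L199497 : sm gh N17897 = N18480 := rfl
theorem L199499 : sm gb N18480 = N18040 := ded_22_1 L195375 (flp_b L193971) L199497
theorem L199501 : sm gc N18480 = N18050 := ded_28_1 L195452 (flp_c L193979) L199497
theorem L199503 : sm gf N18480 = N18042 := ded_40_1 L195395 (flp_f L193973) L199497
theorem L199505 : sm gg N18480 = N18389 := ded_42_1 (flp_h L198385) (flp_g L193975) L199497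
theorem L199507 : sm gd N18480 = N18480 := ded_33_1 (flp_h L199497) (flp_d L193969) L188478 L193969 L199497
theorem L199508 : sm gi N18480 = N18266 := ded_44_2 L197402 L191923 (flp_h L191784) (flp_i L193977) L199497
theorem L199510 : sm ge N17900 = N18481 := rfl
theorem L199512 : sm ga N18481 = N18300 := ded_12_1 L197666 L194022 L199510
theorem L199514 : sm gb N18481 = N17901 := ded_19_1 (flp_e L194024) L194011 L199510
theorem L199516 : sm gc N18481 = N18083 := ded_25_1 L195760 (flp_c L194020) L199510
theorem L199518 : sm gg N18481 = N17927 := ded_36_2 (flp_e L194291) (flp_g L194016) L199510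
theorem L199520 : sm gh N18481 = N17903 := ded_37_2 (flp_e L194040) (flp_h L194018) L199510
theorem L199522 : sm gd N17901 = N18482 := rfl
theorem L199524 : sm gg N18482 = N17928 := ded_32_2 (flp_d L194299) (flp_g L194028) L199522
theorem L199526 : sm ge N18482 = N18482 := ded_30_2 (flp_d L199522) (flp_e L194024) L188528 L194024 L199522
theorem L199527 : sm gh N18482 = N18199 := ded_33_2 (flp_d L196820) L191202 (flp_d L188559) (flp_h L194030) L199522
theorem L199529 : sm gf N17901 = N18483 := rfl
theorem L199531 : sm gc N18483 = N17902 := ded_26_1 (flp_f L194032) (flp_c L194026) L199529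
theorem L199533 : sm gh N18483 = N17904 := ded_40_2 (flp_f L194054) (flp_h L194030) L199529
theorem L199535 : sm ge N18483 = N18296 := ded_35_1 (flp_f L197636) (flp_e L192070) (flp_f L188522) L194024 L199529
theorem L199537 : sm gg N17902 = N18484 := rfl
theorem L199539 : sm gb N18484 = N18310 := ded_21_1 (flp_g L197740) (flp_b L194034) L199537
theorem L199541 : sm ge N18484 = N18297 := ded_36_1 (flp_g L197642) (flp_e L194038) L199537
theorem L199543 : sm gh N18484 = N17905 := ded_42_2 (flp_g L194064) (flp_h L194036) L199537
theorem L199545 : sm gf N18484 = N17930 := ded_39_1 (flp_g L194310) (flp_f L188744) (flp_g L188533) L194032 L199537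
theorem L199547 : sm gf N17903 = N18485 := rfl
theorem L199549 : sm ga N18485 = N18299 := ded_13_1 (flp_f L197656) (flp_a L194042) L199547
theorem L199551 : sm gb N18485 = N17904 := ded_20_1 (flp_f L194054) (flp_b L194044) L199547
theorem L199553 : sm gc N18485 = N18082 := ded_26_1 (flp_f L195744) (flp_c L194046) L199547
theorem L199555 : sm gd N18485 = N18080 := ded_31_1 (flp_f L195722) (flp_d L194052) L199547
theorem L199557 : sm gi N18485 = N17962 := ded_41_2 (flp_f L194669) (flp_i L194050) L199547
theorem L199559 : sm ge N18485 = N18298 := ded_35_1 (flp_f L197650) (flp_e L192084) (flp_f L188541) L194040 L199547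
theorem L199561 : sm gg N17904 = N18486 := rfl
theorem L199563 : sm gc N18486 = N17905 := ded_27_1 (flp_g L194064) (flp_c L194056) L199561
theorem L199565 : sm gd N18486 = N18204 := ded_32_1 (flp_g L196855) (flp_d L194058) L199561
theorem L199567 : sm ge N18486 = N18301 := ded_36_1 (flp_g L197668) (flp_e L194062) L199561
theorem L199569 : sm gi N18486 = N17963 := ded_43_2 (flp_g L194675) (flp_i L194060) L199561
theorem L199571 : sm gf N18486 = N17937 := ded_39_1 (flp_g L194380) (flp_f L188812) (flp_g L188555) L194054 L199561
theorem L199573 : sm gf N17907 = N18487 := rfl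
theorem L199575 : sm ga N18487 = N18236 := ded_13_1 (flp_f L197141) (flp_a L194090) L199573
theorem L199577 : sm gb N18487 = N17922 := ded_20_1 (flp_f L194249) (flp_b L194092) L199573
theorem L199579 : sm gh N18487 = N17912 := ded_40_2 (flp_f L194148) (flp_h L194096) L199573
theorem L199581 : sm ge N18487 = N17911 := ded_35_1 (flp_f L194140) (flp_e L188625) (flp_f L188595) L194088 L199573
theorem L199583 : sm ge N17908 = N18488 := rfl
theorem L199585 : sm ga N18488 = N18212 := ded_12_1 (flp_e L196913) (flp_a L194100) L199583
theorem L199587 : sm gb N18488 = N18112 := ded_19_1 L196026 L194110 L199583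
theorem L199589 : sm gc N18488 = N17909 := ded_25_1 (flp_e L194112) L194098 L199583
theorem L199591 : sm gg N18488 = N18307 := ded_36_2 (flp_e L197710) (flp_g L194102) L199583
theorem L199593 : sm gh N18488 = N17981 := ded_37_2 (flp_e L194852) (flp_h L194104) L199583
theorem L199595 : sm gi N18488 = N17910 := ded_38_2 (flp_e L194126) (flp_i L194106) L199583
theorem L199597 : sm gd N18488 = N18205 := ded_30_1 (flp_e L196863) L191246 (flp_e L189693) (flp_d L194108) L199583
theorem L199599 : sm gf N17909 = N18489 := rfl
theorem L199601 : sm ga N18489 = N18213 := ded_13_1 (flp_f L196921) (flp_a L194114) L199599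
theorem L199603 : sm gb N18489 = N17925 := ded_20_1 (flp_f L194272) (flp_b L194116) L199599
theorem L199605 : sm gd N18489 = N18085 := ded_31_1 (flp_f L195774) (flp_d L194124) L199599
theorem L199607 : sm gh N18489 = N17982 := ded_40_2 (flp_f L194858) (flp_h L194120) L199599
theorem L199609 : sm gi N18489 = N17911 := ded_41_2 (flp_f L194140) (flp_i L194122) L199599
theorem L199611 : sm gf N17910 = N18490 := rfl
theorem L199613 : sm ga N18490 = N18363 := ded_13_1 (flp_f L198179) (flp_a L194128) L199611
theorem L199615 : sm gb N18490 = N18111 := ded_20_1 L196022 (flp_b L194130) L199611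
theorem L199617 : sm gc N18490 = N17911 := ded_26_1 (flp_f L194140) (flp_c L194132) L199611
theorem L199619 : sm gd N18490 = N18448 := ded_31_1 L199148 (flp_d L194138) L199611
theorem L199621 : sm gh N18490 = N17913 := ded_40_2 (flp_f L194160) (flp_h L194136) L199611
theorem L199623 : sm gg N17911 = N18491 := rfl
theorem L199625 : sm ga N18491 = N18364 := ded_14_1 (flp_g L198185) (flp_a L194142) L199623
theorem L199627 : sm gb N18491 = N17930 := ded_21_1 (flp_g L194310) (flp_b L194144) L199623
theorem L199629 : sm gh N18491 = N17914 := ded_42_2 (flp_g L194172) (flp_h L194146) L199623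
theorem L199631 : sm gf N18491 = N18310 := ded_39_1 (flp_g L197740) (flp_f L192158) (flp_g L188631) L194140 L199623
theorem L199633 : sm gg N17912 = N18492 := rfl
theorem L199635 : sm ga N18492 = N18247 := ded_14_1 (flp_g L197247) (flp_a L194150) L199633
theorem L199637 : sm gb N18492 = N17934 := ded_21_1 (flp_g L194348) (flp_b L194152) L199633
theorem L199639 : sm gd N18492 = N18203 := ded_32_1 (flp_g L196847) (flp_d L194154) L199633
theorem L199641 : sm ge N18492 = N17914 := ded_36_1 (flp_g L194172) (flp_e L194158) L199633
theorem L199643 : sm gi N18492 = N17991 := ded_43_2 (flp_g L194933) (flp_i L194156) L199633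
theorem L199645 : sm gf N18492 = N18231 := ded_39_1 (flp_g L197101) (flp_f L191472) (flp_g L188641) L194148 L199633
theorem L199647 : sm gg N17913 = N18493 := rfl
theorem L199649 : sm ga N18493 = N18383 := ded_14_1 (flp_g L198339) (flp_a L194162) L199647
theorem L199651 : sm gb N18493 = N18110 := ded_21_1 (flp_g L196016) (flp_b L194164) L199647
theorem L199653 : sm gc N18493 = N17914 := ded_27_1 (flp_g L194172) (flp_c L194166) L199647
theorem L199655 : sm gd N18493 = N18029 := ded_32_1 (flp_g L195246) (flp_d L194168) L199647
theorem L199657 : sm gi N18493 = N17993 := ded_43_2 (flp_g L194951) (flp_i L194170) L199647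
theorem L199659 : sm gf N18493 = N18321 := ded_39_1 (flp_g L197836) (flp_f L192232) (flp_g L188655) L194160 L199647
theorem L199661 : sm ge N17915 = N18494 := rfl
theorem L199663 : sm gc N18494 = N17916 := ded_25_1 (flp_e L194191) L194184 L199661
theorem L199665 : sm gh N18494 = N18205 := ded_37_2 (flp_e L196863) (flp_h L194186) L199661
theorem L199667 : sm gi N18494 = N18421 := ded_38_2 L198809 (flp_i L194188) L199661
theorem L199669 : sm gf N17916 = N18495 := rfl
theorem L199671 : sm gd N18495 = N17922 := ded_31_1 (flp_f L194249) (flp_d L194195) L199669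
theorem L199673 : sm gh N18495 = N18206 := ded_40_2 (flp_f L196871) (flp_h L194193) L199669
theorem L199675 : sm gf N17917 = N18496 := rfl
theorem L199677 : sm ga N18496 = N18101 := ded_13_1 (flp_f L195949) (flp_a L194199) L199675
theorem L199679 : sm gb N18496 = N18223 := ded_20_1 (flp_f L197027) (flp_b L194201) L199675
theorem L199681 : sm gh N18496 = N17931 := ded_40_2 (flp_f L194314) (flp_h L194205) L199675
theorem L199683 : sm gi N18496 = N18495 := ded_41_2 (flp_f L199669) (flp_i L194207) L199675
theorem L199685 : sm ge N18496 = N18092 := ded_35_1 (flp_f L195849) (flp_e L190254) (flp_f L188689) L194197 L199675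
theorem L199687 : sm gb N17918 = N18497 := rfl
theorem L199689 : sm gd N18497 = N18497 := ded_18_2 (flp_b L199687) L194219 L199687
theorem L199690 : sm gf N18497 = N17923 := ded_20_2 (flp_b L194255) (flp_f L194211) L199687
theorem L199692 : sm gg N18497 = N18326 := ded_21_2 L197886 (flp_g L194213) L199687
theorem L199694 : sm gh N18497 = N17996 := ded_22_2 (flp_b L194965) (flp_h L194215) L199687
theorem L199696 : sm gi N18497 = N17920 := ded_23_2 (flp_b L194230) (flp_i L194217) L199687
theorem L199698 : sm ga N18497 = N17980 := ded_9_1 (flp_b L194843) (flp_a L194695) (flp_b L195897) L195889 L199687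
theorem L199700 : sm gc N18497 = N18002 := ded_17_2 L196989 (flp_c L196975) L191380 L194209 L199687
theorem L199702 : sm ge N17918 = N18498 := rfl
theorem L199704 : sm gc N18498 = N17919 := ded_25_1 (flp_e L194220) L194209 L199702
theorem L199706 : sm gg N18498 = N18494 := ded_36_2 (flp_e L199661) (flp_g L194213) L199702
theorem L199708 : sm gh N18498 = N17997 := ded_37_2 (flp_e L194977) (flp_h L194215) L199702
theorem L199710 : sm gi N18498 = N17921 := ded_38_2 (flp_e L194243) (flp_i L194217) L199702
theorem L199712 : sm gf N17919 = N18499 := rfl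
theorem L199714 : sm gd N18499 = N18496 := ded_31_1 (flp_f L199675) (flp_d L194228) L199712
theorem L199716 : sm gh N18499 = N17998 := ded_40_2 (flp_f L194983) (flp_h L194224) L199712
theorem L199718 : sm gi N18499 = N17922 := ded_41_2 (flp_f L194249) (flp_i L194226) L199712
theorem L199720 : sm ge N18499 = N17925 := ded_35_1 (flp_f L194272) (flp_e L188725) (flp_f L188699) L194220 L199712
theorem L199722 : sm ge N17920 = N18500 := rfl
theorem L199724 : sm ga N18500 = N17983 := ded_12_1 (flp_e L194864) (flp_a L194239) L199722
theorem L199726 : sm gb N18500 = N17921 := ded_19_1 (flp_e L194243) L194230 L199722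
theorem L199728 : sm gc N18500 = N18007 := ded_25_1 (flp_e L195049) (flp_c L194241) L199722
theorem L199730 : sm gg N18500 = N18280 := ded_36_2 L197530 (flp_g L194235) L199722
theorem L199732 : sm gh N18500 = N17932 := ded_37_2 (flp_e L194326) (flp_h L194237) L199722
theorem L199734 : sm gd N17921 = N18501 := rfl
theorem L199736 : sm ge N18501 = N18501 := ded_30_2 (flp_d L199734) (flp_e L194243) L188713 L194243 L199734
theorem L199737 : sm gf N17921 = N18502 := rfl
theorem L199739 : sm gc N18502 = N17922 := ded_26_1 (flp_f L194249) (flp_c L194245) L199737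
theorem L199741 : sm gh N18502 = N17933 := ded_40_2 (flp_f L194340) (flp_h L194247) L199737
theorem L199743 : sm ge N18502 = N17929 := ded_35_1 (flp_f L194304) (flp_e L188738) (flp_f L188709) L194243 L199737
theorem L199745 : sm gg N17922 = N18503 := rfl
theorem L199747 : sm ge N18503 = N17930 := ded_36_1 (flp_g L194310) (flp_e L194253) L199745
theorem L199749 : sm gh N18503 = N17934 := ded_42_2 (flp_g L194348) (flp_h L194251) L199745
theorem L199751 : sm ga N17923 = N18504 := rfl
theorem L199753 : sm gc N18504 = N17996 := ded_10_2 L194975 (flp_c L194262) L199751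
theorem L199755 : sm gd N18504 = N18504 := ded_11_2 (flp_a L199751) L194257 L199751
theorem L199756 : sm gf N18504 = N17980 := ded_13_2 (flp_a L199698) L199690 L199751
theorem L199758 : sm gg N18504 = N18327 := ded_14_2 (flp_a L198497) L198491 L199751
theorem L199760 : sm gh N18504 = N18002 := ded_15_2 (flp_a L195013) (flp_h L194258) L199751
theorem L199762 : sm gi N18504 = N17926 := ded_16_2 (flp_a L194278) (flp_i L194260) L199751
theorem L199764 : sm gb N18504 = N17976 := ded_9_2 L194812 L194774 L193254 L194255 L199751
theorem L199766 : sm ge N17923 = N18505 := rfl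
theorem L199768 : sm gb N18505 = N17924 := ded_19_1 (flp_e L194264) L194255 L199766
theorem L199770 : sm gc N18505 = N18112 := ded_25_1 L196026 (flp_c L194262) L199766
theorem L199772 : sm gh N18505 = N18003 := ded_37_2 (flp_e L195021) (flp_h L194258) L199766
theorem L199774 : sm gi N18505 = N17927 := ded_38_2 (flp_e L194291) (flp_i L194260) L199766
theorem L199776 : sm gd N17924 = N18506 := rfl
theorem L199778 : sm gi N18506 = N17928 := ded_34_2 (flp_d L194299) (flp_i L194270) L199776
theorem L199780 : sm ge N18506 = N18506 := ded_30_2 (flp_d L199776) (flp_e L194264) L188724 L194264 L199776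
theorem L199781 : sm gf N17924 = N18507 := rfl
theorem L199783 : sm gc N18507 = N17925 := ded_26_1 (flp_f L194272) (flp_c L194266) L199781
theorem L199785 : sm gh N18507 = N18005 := ded_40_2 (flp_f L195039) (flp_h L194268) L199781
theorem L199787 : sm gi N18507 = N17929 := ded_41_2 (flp_f L194304) (flp_i L194270) L199781
theorem L199789 : sm gg N17925 = N18508 := rfl
theorem L199791 : sm gh N18508 = N18006 := ded_42_2 (flp_g L195045) (flp_h L194274) L199789
theorem L199793 : sm gi N18508 = N17930 := ded_43_2 (flp_g L194310) (flp_i L194276) L199789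
theorem L199795 : sm ge N17926 = N18509 := rfl
theorem L199797 : sm ga N18509 = N17927 := ded_12_1 (flp_e L194291) L194278 L199795
theorem L199799 : sm gb N18509 = N17978 := ded_19_1 (flp_e L194829) (flp_b L194289) L199795
theorem L199801 : sm gc N18509 = N17999 := ded_25_1 (flp_e L194989) (flp_c L194280) L199795
theorem L199803 : sm gg N18509 = N18300 := ded_36_2 L197666 (flp_g L194285) L199795
theorem L199805 : sm gh N18509 = N17935 := ded_37_2 (flp_e L194356) (flp_h L194287) L199795
theorem L199807 : sm gd N17927 = N18510 := rfl
theorem L199809 : sm gb N18510 = N17928 := ded_18_1 (flp_d L194299) (flp_b L194293) L199807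
theorem L199811 : sm ge N18510 = N18510 := ded_30_2 (flp_d L199807) (flp_e L194291) L188733 L194291 L199807
theorem L199812 : sm gh N18510 = N18104 := ded_33_2 (flp_d L195973) L190364 (flp_d L188810) (flp_h L194297) L199807
theorem L199814 : sm gf N17927 = N18511 := rfl
theorem L199816 : sm gb N18511 = N17929 := ded_20_1 (flp_f L194304) (flp_b L194293) L199814
theorem L199818 : sm gc N18511 = N18111 := ded_26_1 L196022 (flp_c L194295) L199814
theorem L199820 : sm gh N18511 = N17936 := ded_40_2 (flp_f L194370) (flp_h L194297) L199814
theorem L199822 : sm gf N17928 = N18512 := rfl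
theorem L199824 : sm gd N18512 = N17929 := ded_31_1 (flp_f L194304) L194299 L199822
theorem L199826 : sm gh N18512 = N18358 := ded_40_2 (flp_f L198143) (flp_h L194302) L199822
theorem L199828 : sm gg N17929 = N18513 := rfl
theorem L199830 : sm gc N18513 = N17930 := ded_27_1 (flp_g L194310) (flp_c L194306) L199828
theorem L199832 : sm gh N18513 = N17937 := ded_42_2 (flp_g L194380) (flp_h L194308) L199828
theorem L199834 : sm gg N17931 = N18514 := rfl
theorem L199836 : sm ga N18514 = N18108 := ded_14_1 (flp_g L196002) (flp_a L194316) L199834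
theorem L199838 : sm gb N18514 = N18231 := ded_21_1 (flp_g L197101) (flp_b L194318) L199834
theorem L199840 : sm gd N18514 = N18211 := ded_32_1 (flp_g L196907) (flp_d L194320) L199834
theorem L199842 : sm ge N18514 = N18094 := ded_36_1 (flp_g L195867) (flp_e L194324) L199834
theorem L199844 : sm gi N18514 = N18012 := ded_43_2 (flp_g L195081) (flp_i L194322) L199834
theorem L199846 : sm gf N18514 = N17934 := ded_39_1 (flp_g L194348) (flp_f L188780) (flp_g L188754) L194314 L199834
theorem L199848 : sm gf N17932 = N18515 := rfl
theorem L199850 : sm ga N18515 = N17992 := ded_13_1 (flp_f L194941) (flp_a L194328) L199848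
theorem L199852 : sm gb N18515 = N17933 := ded_20_1 (flp_f L194340) (flp_b L194330) L199848
theorem L199854 : sm gc N18515 = N18015 := ded_26_1 (flp_f L195103) (flp_c L194332) L199848
theorem L199856 : sm gd N18515 = N18063 := ded_31_1 (flp_f L195560) (flp_d L194338) L199848
theorem L199858 : sm gi N18515 = N18013 := ded_41_2 (flp_f L195087) (flp_i L194336) L199848
theorem L199860 : sm ge N18515 = N17936 := ded_35_1 (flp_f L194370) (flp_e L188802) (flp_f L188764) L194326 L199848
theorem L199862 : sm gg N17933 = N18516 := rfl
theorem L199864 : sm gc N18516 = N17934 := ded_27_1 (flp_g L194348) (flp_c L194342) L199862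
theorem L199866 : sm ge N18516 = N17937 := ded_36_1 (flp_g L194380) (flp_e L194346) L199862
theorem L199868 : sm gi N18516 = N18014 := ded_43_2 (flp_g L195097) (flp_i L194344) L199862
theorem L199870 : sm gf N17935 = N18517 := rfl
theorem L199872 : sm ga N18517 = N17936 := ded_13_1 (flp_f L194370) (flp_a L194358) L199870
theorem L199874 : sm gb N18517 = N17990 := ded_20_1 (flp_f L194927) (flp_b L194360) L199870
theorem L199876 : sm gc N18517 = N18013 := ded_26_1 (flp_f L195087) (flp_c L194362) L199870
theorem L199878 : sm gd N18517 = N18093 := ded_31_1 (flp_f L195859) (flp_d L194368) L199870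
theorem L199880 : sm gi N18517 = N18015 := ded_41_2 (flp_f L195103) (flp_i L194366) L199870
theorem L199882 : sm ge N18517 = N17992 := ded_35_1 (flp_f L194941) (flp_e L189296) (flp_f L188794) L194356 L199870
theorem L199884 : sm gg N17936 = N18518 := rfl
theorem L199886 : sm gb N18518 = N17937 := ded_21_1 (flp_g L194380) (flp_b L194372) L199884
theorem L199888 : sm gc N18518 = N18110 := ded_27_1 (flp_g L196016) (flp_c L194374) L199884
theorem L199890 : sm gd N18518 = N18109 := ded_32_1 (flp_g L196008) (flp_d L194376) L199884
theorem L199892 : sm gi N18518 = N18016 := ded_43_2 (flp_g L195111) (flp_i L194378) L199884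
theorem L199894 : sm gd N17938 = N18519 := rfl
theorem L199896 : sm gb N18519 = N18045 := ded_18_1 (flp_d L195409) (flp_b L194390) L199894
theorem L199898 : sm gg N18519 = N18133 := ded_32_2 (flp_d L196238) (flp_g L194394) L199894
theorem L199900 : sm gi N18519 = N18395 := ded_34_2 (flp_d L198463) (flp_i L194398) L199894
theorem L199902 : sm ge N18519 = N18519 := ded_30_2 (flp_d L199894) (flp_e L194388) L188838 L194388 L199894
theorem L199903 : sm gh N18519 = N17984 := ded_33_2 (flp_d L194872) L189250 (flp_d L188859) (flp_h L194396) L199894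
theorem L199905 : sm gf N17938 = N18520 := rfl
theorem L199907 : sm gb N18520 = N18046 := ded_20_1 (flp_f L195412) (flp_b L194390) L199905
theorem L199909 : sm gc N18520 = N17939 := ded_26_1 (flp_f L194400) (flp_c L194392) L199905
theorem L199911 : sm gh N18520 = N17940 := ded_40_2 (flp_f L194410) (flp_h L194396) L199905
theorem L199913 : sm gi N18520 = N18396 := ded_41_2 (flp_f L198468) (flp_i L194398) L199905
theorem L199915 : sm ge N18520 = N18264 := ded_35_1 (flp_f L197381) (flp_e L191862) (flp_f L188828) L194388 L199905
theorem L199917 : sm gg N17939 = N18521 := rfl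
theorem L199919 : sm gb N18521 = N18024 := ded_21_1 (flp_g L195182) (flp_b L194402) L199917
theorem L199921 : sm ge N18521 = N18265 := ded_36_1 (flp_g L197389) (flp_e L194408) L199917
theorem L199923 : sm gh N18521 = N17941 := ded_42_2 (flp_g L194422) (flp_h L194404) L199917
theorem L199925 : sm gi N18521 = N18397 := ded_43_2 (flp_g L198478) (flp_i L194406) L199917
theorem L199927 : sm gf N18521 = N18135 := ded_39_1 (flp_g L196249) (flp_f L190688) (flp_g L188843) L194400 L199917
theorem L199929 : sm gg N17940 = N18522 := rfl
theorem L199931 : sm gb N18522 = N18067 := ded_21_1 (flp_g L195598) (flp_b L194412) L199929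
theorem L199933 : sm gc N18522 = N17941 := ded_27_1 (flp_g L194422) (flp_c L194414) L199929
theorem L199935 : sm gd N18522 = N17993 := ded_32_1 (flp_g L194951) (flp_d L194416) L199929
theorem L199937 : sm ge N18522 = N18281 := ded_36_1 (flp_g L197532) (flp_e L194420) L199929
theorem L199939 : sm gi N18522 = N18029 := ded_43_2 (flp_g L195246) (flp_i L194418) L199929
theorem L199941 : sm gf N18522 = N18138 := ded_39_1 (flp_g L196271) (flp_f L190708) (flp_g L188855) L194410 L199929
theorem L199943 : sm ge N17943 = N18523 := rfl
theorem L199945 : sm ga N18523 = N18280 := ded_12_1 L197530 (flp_a L194459) L199943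
theorem L199947 : sm gb N18523 = N17944 := ded_19_1 (flp_e L194463) L194450 L199943
theorem L199949 : sm gc N18523 = N17954 := ded_25_1 (flp_e L194585) (flp_c L194461) L199943
theorem L199951 : sm gg N18523 = N17983 := ded_36_2 (flp_e L194864) (flp_g L194455) L199943
theorem L199953 : sm gh N18523 = N17946 := ded_37_2 (flp_e L194485) (flp_h L194457) L199943
theorem L199955 : sm gd N17944 = N18524 := rfl
theorem L199957 : sm ga N18524 = N18352 := ded_11_1 (flp_d L198107) (flp_a L194465) L199955
theorem L199959 : sm gg N18524 = N17984 := ded_32_2 (flp_d L194872) (flp_g L194469) L199955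
theorem L199961 : sm gc N18524 = N18519 := ded_24_1 (flp_d L199894) L194392 (flp_d L188916) (flp_c L194467) L199955
theorem L199963 : sm ge N18524 = N18524 := ded_30_2 (flp_d L199955) (flp_e L194463) L188905 L194463 L199955
theorem L199964 : sm gh N18524 = N18133 := ded_33_2 (flp_d L196238) L190686 (flp_d L188942) (flp_h L194471) L199955
theorem L199966 : sm gf N17944 = N18525 := rfl
theorem L199968 : sm ga N18525 = N18353 := ded_13_1 (flp_f L198110) (flp_a L194465) L199966
theorem L199970 : sm gc N18525 = N17945 := ded_26_1 (flp_f L194473) (flp_c L194467) L199966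
theorem L199972 : sm gh N18525 = N17947 := ded_40_2 (flp_f L194499) (flp_h L194471) L199966
theorem L199974 : sm ge N18525 = N18287 := ded_35_1 (flp_f L197574) (flp_e L192014) (flp_f L188899) L194463 L199966
theorem L199976 : sm gg N17945 = N18526 := rfl
theorem L199978 : sm ga N18526 = N18354 := ded_14_1 (flp_g L198118) (flp_a L194475) L199976
theorem L199980 : sm gb N18526 = N17956 := ded_21_1 (flp_g L194599) (flp_b L194477) L199976
theorem L199982 : sm gd N18526 = N18521 := ded_32_1 (flp_g L199917) (flp_d L194479) L199976
theorem L199984 : sm ge N18526 = N18288 := ded_36_1 (flp_g L197582) (flp_e L194483) L199976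
theorem L199986 : sm gh N18526 = N17948 := ded_42_2 (flp_g L194511) (flp_h L194481) L199976
theorem L199988 : sm gf N18526 = N17986 := ded_39_1 (flp_g L194881) (flp_f L189252) (flp_g L188912) L194473 L199976
theorem L199990 : sm gf N17946 = N18527 := rfl
theorem L199992 : sm ga N18527 = N18279 := ded_13_1 (flp_f L197522) (flp_a L194487) L199990
theorem L199994 : sm gb N18527 = N17947 := ded_20_1 (flp_f L194499) (flp_b L194489) L199990
theorem L199996 : sm gc N18527 = N17962 := ded_26_1 (flp_f L194669) (flp_c L194491) L199990
theorem L199998 : sm gd N18527 = N18061 := ded_31_1 (flp_f L195538) (flp_d L194497) L199990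
theorem L200000 : sm gi N18527 = N18082 := ded_41_2 (flp_f L195744) (flp_i L194495) L199990
theorem L200002 : sm ge N18527 = N18289 := ded_35_1 (flp_f L197588) (flp_e L192028) (flp_f L188922) L194485 L199990
theorem L200004 : sm gg N17947 = N18528 := rfl
theorem L200006 : sm ga N18528 = N18360 := ded_14_1 (flp_g L198153) (flp_a L194501) L200004
theorem L200008 : sm gc N18528 = N17948 := ded_27_1 (flp_g L194511) (flp_c L194503) L200004
theorem L200010 : sm gd N18528 = N18138 := ded_32_1 (flp_g L196271) (flp_d L194505) L200004
theorem L200012 : sm ge N18528 = N18290 := ded_36_1 (flp_g L197594) (flp_e L194509) L200004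
theorem L200014 : sm gi N18528 = N18321 := ded_43_2 (flp_g L197836) (flp_i L194507) L200004
theorem L200016 : sm gf N18528 = N17993 := ded_39_1 (flp_g L194951) (flp_f L189306) (flp_g L188938) L194499 L200004
theorem L200018 : sm gf N17949 = N18529 := rfl
theorem L200020 : sm ga N18529 = N18065 := ded_13_1 (flp_f L195578) (flp_a L194527) L200018
theorem L200022 : sm gb N18529 = N18188 := ded_20_1 (flp_f L196713) (flp_b L194529) L200018
theorem L200024 : sm gc N18529 = N18379 := ded_26_1 (flp_f L198315) (flp_c L194531) L200018
theorem L200026 : sm gh N18529 = N17957 := ded_40_2 (flp_f L194605) (flp_h L194535) L200018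
theorem L200028 : sm ge N18529 = N17995 := ded_35_1 (flp_f L194961) (flp_e L189322) (flp_f L188974) L194525 L200018
theorem L200030 : sm ge N17950 = N18530 := rfl
theorem L200032 : sm ga N18530 = N18227 := ded_12_1 (flp_e L197063) (flp_a L194547) L200030
theorem L200034 : sm gb N18530 = N17951 := ded_19_1 (flp_e L194551) L194537 L200030
theorem L200036 : sm gc N18530 = N18285 := ded_25_1 (flp_e L197563) (flp_c L194549) L200030
theorem L200038 : sm gg N18530 = N18316 := ded_36_2 (flp_e L197792) (flp_g L194543) L200030
theorem L200040 : sm gh N18530 = N17958 := ded_37_2 (flp_e L194619) (flp_h L194545) L200030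
theorem L200042 : sm gd N17951 = N18531 := rfl
theorem L200044 : sm ga N18531 = N18243 := ded_11_1 (flp_d L197209) (flp_a L194553) L200042
theorem L200046 : sm gg N18531 = N18378 := ded_32_2 (flp_d L198309) (flp_g L194557) L200042
theorem L200048 : sm ge N18531 = N18017 := ded_30_2 (flp_d L195117) (flp_e L189465) (flp_d L188992) L194551 L200042
theorem L200050 : sm gf N17951 = N18532 := rfl
theorem L200052 : sm ga N18532 = N18244 := ded_13_1 (flp_f L197219) (flp_a L194553) L200050
theorem L200054 : sm gc N18532 = N17952 := ded_26_1 (flp_f L194561) (flp_c L194555) L200050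
theorem L200056 : sm gh N18532 = N17960 := ded_40_2 (flp_f L194647) (flp_h L194559) L200050
theorem L200058 : sm ge N18532 = N17955 := ded_35_1 (flp_f L194593) (flp_e L189010) (flp_f L188986) L194551 L200050
theorem L200060 : sm gg N17952 = N18533 := rfl
theorem L200062 : sm ga N18533 = N18256 := ded_14_1 (flp_g L197321) (flp_a L194563) L200060
theorem L200064 : sm gb N18533 = N18288 := ded_21_1 (flp_g L197582) (flp_b L194565) L200060
theorem L200066 : sm ge N18533 = N17956 := ded_36_1 (flp_g L194599) (flp_e L194569) L200060
theorem L200068 : sm gh N18533 = N17961 := ded_42_2 (flp_g L194657) (flp_h L194567) L200060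
theorem L200070 : sm ge N17953 = N18534 := rfl
theorem L200072 : sm ga N18534 = N17954 := ded_12_1 (flp_e L194585) L194571 L200070
theorem L200074 : sm gb N18534 = N18222 := ded_19_1 (flp_e L197017) (flp_b L194583) L200070
theorem L200076 : sm gc N18534 = N18280 := ded_25_1 L197530 (flp_c L194573) L200070
theorem L200078 : sm gg N18534 = N18007 := ded_36_2 (flp_e L195049) (flp_g L194579) L200070
theorem L200080 : sm gh N18534 = N17959 := ded_37_2 L194645 (flp_h L194581) L200070
theorem L200082 : sm gf N17954 = N18535 := rfl
theorem L200084 : sm gb N18535 = N17955 := ded_20_1 (flp_f L194593) (flp_b L194587) L200082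
theorem L200086 : sm gh N18535 = N17962 := ded_40_2 (flp_f L194669) (flp_h L194591) L200082
theorem L200088 : sm gg N17955 = N18536 := rfl
theorem L200090 : sm gc N18536 = N17956 := ded_27_1 (flp_g L194599) (flp_c L194595) L200088
theorem L200092 : sm gh N18536 = N17963 := ded_42_2 (flp_g L194675) (flp_h L194597) L200088
theorem L200094 : sm gf N18536 = N18011 := ded_39_1 (flp_g L195075) (flp_f L189400) (flp_g L189014) L194593 L200088
theorem L200096 : sm gg N17957 = N18537 := rfl
theorem L200098 : sm ga N18537 = N18066 := ded_14_1 (flp_g L195586) (flp_a L194607) L200096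
theorem L200100 : sm gb N18537 = N18191 := ded_21_1 (flp_g L196741) (flp_b L194609) L200096
theorem L200102 : sm gc N18537 = N18387 := ded_27_1 (flp_g L198371) (flp_c L194611) L200096
theorem L200104 : sm gd N18537 = N18064 := ded_32_1 (flp_g L195568) (flp_d L194613) L200096
theorem L200106 : sm ge N18537 = N18012 := ded_36_1 (flp_g L195081) (flp_e L194617) L200096
theorem L200108 : sm gi N18537 = N18094 := ded_43_2 (flp_g L195867) (flp_i L194615) L200096
theorem L200110 : sm gf N18537 = N17961 := ded_39_1 (flp_g L194657) (flp_f L189060) (flp_g L189030) L194605 L200096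
theorem L200112 : sm gf N17958 = N18538 := rfl
theorem L200114 : sm ga N18538 = N18232 := ded_13_1 (flp_f L197107) (flp_a L194621) L200112
theorem L200116 : sm gb N18538 = N17960 := ded_20_1 (flp_f L194647) (flp_b L194623) L200112
theorem L200118 : sm gc N18538 = N18289 := ded_26_1 (flp_f L197588) (flp_c L194625) L200112
theorem L200120 : sm gd N18538 = N18230 := ded_31_1 (flp_f L197093) (flp_d L194631) L200112
theorem L200122 : sm gi N18538 = N18298 := ded_41_2 (flp_f L197650) (flp_i L194629) L200112
theorem L200124 : sm ge N18538 = N17962 := ded_35_1 (flp_f L194669) (flp_e L189086) (flp_f L189040) L194619 L200112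
theorem L200126 : sm gf N17959 = N18539 := rfl
theorem L200128 : sm ga N18539 = N17962 := ded_13_1 (flp_f L194669) (flp_a L194635) L200126
theorem L200130 : sm gb N18539 = N18230 := ded_20_1 (flp_f L197093) (flp_b L194637) L200126
theorem L200132 : sm gc N18539 = N18279 := ded_26_1 (flp_f L197522) (flp_c L194643) L200126
theorem L200134 : sm gd N18539 = N17960 := ded_31_1 (flp_f L194647) L194633 L200126
theorem L200136 : sm gi N18539 = N18299 := ded_41_2 (flp_f L197656) (flp_i L194641) L200126
theorem L200138 : sm ge N18539 = N18232 := ded_35_1 (flp_f L197107) (flp_e L191478) (flp_f L189078) (flp_e L194645) L200126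
theorem L200140 : sm gg N17960 = N18540 := rfl
theorem L200142 : sm ga N18540 = N18249 := ded_14_1 (flp_g L197261) (flp_a L194649) L200140
theorem L200144 : sm gc N18540 = N17961 := ded_27_1 (flp_g L194657) (flp_c L194651) L200140
theorem L200146 : sm ge N18540 = N17963 := ded_36_1 (flp_g L194675) (flp_e L194655) L200140
theorem L200148 : sm gi N18540 = N18301 := ded_43_2 (flp_g L197668) (flp_i L194653) L200140
theorem L200150 : sm gf N18540 = N18387 := ded_39_1 (flp_g L198371) (flp_f L192780) (flp_g L189056) L194647 L200140
theorem L200152 : sm gg N17962 = N18541 := rfl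
theorem L200154 : sm gb N18541 = N17963 := ded_21_1 (flp_g L194675) (flp_b L194671) L200152
theorem L200156 : sm gd N18541 = N18249 := ded_32_1 (flp_g L197261) (flp_d L194673) L200152
theorem L200158 : sm gf N18541 = N18016 := ded_39_1 (flp_g L195111) (flp_f L189442) (flp_g L189090) L194669 L200152
theorem L200160 : sm gf N17964 = N18542 := rfl
theorem L200162 : sm ga N18542 = N17979 := ded_13_1 (flp_f L194835) (flp_a L194685) L200160
theorem L200164 : sm gb N18542 = N18207 := ded_20_1 (flp_f L196877) (flp_b L194687) L200160
theorem L200166 : sm gh N18542 = N17969 := ded_40_2 (flp_f L194734) (flp_h L194691) L200160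
theorem L200168 : sm ge N18542 = N17968 := ded_35_1 (flp_f L194728) (flp_e L189139) (flp_f L189112) L194683 L200160
theorem L200170 : sm ge N17965 = N18543 := rfl
theorem L200172 : sm ga N18543 = N17981 := ded_12_1 (flp_e L194852) (flp_a L194695) L200170
theorem L200174 : sm gc N18543 = N17966 := ded_25_1 (flp_e L194704) L194693 L200170
theorem L200176 : sm gg N18543 = N18350 := ded_36_2 (flp_e L198091) (flp_g L194697) L200170
theorem L200178 : sm gh N18543 = N18212 := ded_37_2 (flp_e L196913) (flp_h L194699) L200170
theorem L200180 : sm gi N18543 = N17967 := ded_38_2 (flp_e L194718) (flp_i L194701) L200170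
theorem L200182 : sm gf N17966 = N18544 := rfl
theorem L200184 : sm ga N18544 = N17982 := ded_13_1 (flp_f L194858) (flp_a L194706) L200182
theorem L200186 : sm gb N18544 = N18139 := ded_20_1 (flp_f L196275) (flp_b L194708) L200182
theorem L200188 : sm gd N18544 = N18130 := ded_31_1 (flp_f L196200) (flp_d L194716) L200182
theorem L200190 : sm gh N18544 = N18213 := ded_40_2 (flp_f L196921) (flp_h L194712) L200182
theorem L200192 : sm gi N18544 = N17968 := ded_41_2 (flp_f L194728) (flp_i L194714) L200182
theorem L200194 : sm gd N17967 = N18545 := rfl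
theorem L200196 : sm ga N18545 = N17984 := ded_11_1 (flp_d L194872) (flp_a L194720) L200194
theorem L200198 : sm gg N18545 = N18352 := ded_32_2 (flp_d L198107) (flp_g L194724) L200194
theorem L200200 : sm ge N18545 = N18545 := ded_30_2 (flp_d L200194) (flp_e L194718) L189138 L194718 L200194
theorem L200201 : sm gf N17967 = N18546 := rfl
theorem L200203 : sm ga N18546 = N17985 := ded_13_1 (flp_f L194875) (flp_a L194720) L200201
theorem L200205 : sm gc N18546 = N17968 := ded_26_1 (flp_f L194728) (flp_c L194722) L200201
theorem L200207 : sm gh N18546 = N17970 := ded_40_2 (flp_f L194746) (flp_h L194726) L200201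
theorem L200209 : sm gg N17968 = N18547 := rfl
theorem L200211 : sm ga N18547 = N17986 := ded_14_1 (flp_g L194881) (flp_a L194730) L200209
theorem L200213 : sm gh N18547 = N17971 := ded_42_2 (flp_g L194754) (flp_h L194732) L200209
theorem L200215 : sm gf N18547 = N18354 := ded_39_1 (flp_g L198118) (flp_f L192533) (flp_g L189143) L194728 L200209
theorem L200217 : sm gg N17969 = N18548 := rfl
theorem L200219 : sm ga N18548 = N17991 := ded_14_1 (flp_g L194933) (flp_a L194736) L200217
theorem L200221 : sm gb N18548 = N18211 := ded_21_1 (flp_g L196907) (flp_b L194738) L200217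
theorem L200223 : sm gd N18548 = N18231 := ded_32_1 (flp_g L197101) (flp_d L194740) L200217
theorem L200225 : sm ge N18548 = N17971 := ded_36_1 (flp_g L194754) (flp_e L194744) L200217
theorem L200227 : sm gi N18548 = N18247 := ded_43_2 (flp_g L197247) (flp_i L194742) L200217
theorem L200229 : sm gf N18548 = N18203 := ded_39_1 (flp_g L196847) (flp_f L191216) (flp_g L189153) L194734 L200217
theorem L200231 : sm gg N17970 = N18549 := rfl
theorem L200233 : sm ga N18549 = N17993 := ded_14_1 (flp_g L194951) (flp_a L194748) L200231
theorem L200235 : sm gc N18549 = N17971 := ded_27_1 (flp_g L194754) (flp_c L194750) L200231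
theorem L200237 : sm gi N18549 = N18383 := ded_43_2 (flp_g L198339) (flp_i L194752) L200231
theorem L200239 : sm gf N18549 = N18360 := ded_39_1 (flp_g L198153) (flp_f L192566) (flp_g L189165) L194746 L200231
theorem L200241 : sm ge N17972 = N18550 := rfl
theorem L200243 : sm gb N18550 = N18425 := ded_19_1 (flp_e L198845) (flp_b L194774) L200241
theorem L200245 : sm gc N18550 = N17973 := ded_25_1 (flp_e L194777) L194764 L200241
theorem L200247 : sm gg N18550 = N18469 := ded_36_2 (flp_e L199396) (flp_g L194768) L200241
theorem L200249 : sm gh N18550 = N18234 := ded_37_2 (flp_e L197121) (flp_h L194770) L200241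
theorem L200251 : sm gi N18550 = N18427 := ded_38_2 (flp_e L198869) (flp_i L194772) L200241
theorem L200253 : sm gf N17973 = N18551 := rfl
theorem L200255 : sm gb N18551 = N17994 := ded_20_1 (flp_f L194955) (flp_b L194779) L200253
theorem L200257 : sm gd N18551 = N17979 := ded_31_1 (flp_f L194835) (flp_d L194785) L200253
theorem L200259 : sm gh N18551 = N18235 := ded_40_2 (flp_f L197133) (flp_h L194781) L200253
theorem L200261 : sm gi N18551 = N18542 := ded_41_2 (flp_f L200160) (flp_i L194783) L200253
theorem L200263 : sm ge N18551 = N18544 := ded_35_1 (flp_f L200182) (flp_e L194704) (flp_f L189187) L194777 L200253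
theorem L200265 : sm ge N17974 = N18552 := rfl
theorem L200267 : sm ga N18552 = N18195 := ded_12_1 (flp_e L196788) (flp_a L194789) L200265
theorem L200269 : sm gb N18552 = N18300 := ded_19_1 L197666 (flp_b L194797) L200265
theorem L200271 : sm gc N18552 = N17975 := ded_25_1 (flp_e L194800) L194787 L200265
theorem L200273 : sm gg N18552 = N17978 := ded_36_2 (flp_e L194829) (flp_g L194793) L200265
theorem L200275 : sm gh N18552 = N17987 := ded_37_2 (flp_e L194887) (flp_h L194795) L200265
theorem L200277 : sm gf N17975 = N18553 := rfl
theorem L200279 : sm ga N18553 = N18196 := ded_13_1 (flp_f L196794) (flp_a L194802) L200277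
theorem L200281 : sm gb N18553 = N17995 := ded_20_1 (flp_f L194961) (flp_b L194804) L200277
theorem L200283 : sm gh N18553 = N17988 := ded_40_2 (flp_f L194901) (flp_h L194808) L200277
theorem L200285 : sm ge N18553 = N18188 := ded_35_1 (flp_f L196713) (flp_e L191092) (flp_f L189199) L194800 L200277
theorem L200287 : sm ge N17976 = N18554 := rfl
theorem L200289 : sm ga N18554 = N18550 := ded_12_1 (flp_e L200241) (flp_a L194812) L200287
theorem L200291 : sm gc N18554 = N17977 := ded_25_1 (flp_e L194819) L194810 L200287
theorem L200293 : sm gi N18554 = N17978 := ded_38_2 (flp_e L194829) (flp_i L194816) L200287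
theorem L200295 : sm gf N17977 = N18555 := rfl
theorem L200297 : sm ga N18555 = N18551 := ded_13_1 (flp_f L200253) (flp_a L194821) L200295
theorem L200299 : sm gb N18555 = N17998 := ded_20_1 (flp_f L194983) (flp_b L194823) L200295
theorem L200301 : sm gd N18555 = N18542 := ded_31_1 (flp_f L200160) (flp_d L194827) L200295
theorem L200303 : sm gi N18555 = N17979 := ded_41_2 (flp_f L194835) (flp_i L194825) L200295
theorem L200305 : sm ge N18555 = N17982 := ded_35_1 (flp_f L194858) (flp_e L189233) (flp_f L189211) L194819 L200295
theorem L200307 : sm gd N17978 = N18556 := rfl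
theorem L200309 : sm ge N18556 = N18556 := ded_30_2 (flp_d L200307) (flp_e L194829) L189221 L194829 L200307
theorem L200310 : sm gf N17978 = N18557 := rfl
theorem L200312 : sm gc N18557 = N17979 := ded_26_1 (flp_f L194835) (flp_c L194831) L200310
theorem L200314 : sm gh N18557 = N17990 := ded_40_2 (flp_f L194927) (flp_h L194833) L200310
theorem L200316 : sm ge N18557 = N17985 := ded_35_1 (flp_f L194875) (flp_e L189246) (flp_f L189217) L194829 L200310
theorem L200318 : sm gg N17979 = N18558 := rfl
theorem L200320 : sm gb N18558 = N18001 := ded_21_1 (flp_g L195007) (flp_b L194837) L200318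
theorem L200322 : sm ge N18558 = N17986 := ded_36_1 (flp_g L194881) (flp_e L194841) L200318
theorem L200324 : sm gh N18558 = N17991 := ded_42_2 (flp_g L194933) (flp_h L194839) L200318
theorem L200326 : sm ge N17980 = N18559 := rfl
theorem L200328 : sm gb N18559 = N17981 := ded_19_1 (flp_e L194852) L194843 L200326
theorem L200330 : sm gc N18559 = N18003 := ded_25_1 (flp_e L195021) (flp_c L194850) L200326
theorem L200332 : sm gh N18559 = N18112 := ded_37_2 L196026 (flp_h L194846) L200326
theorem L200334 : sm gi N18559 = N17983 := ded_38_2 (flp_e L194864) (flp_i L194848) L200326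
theorem L200336 : sm gd N17981 = N18560 := rfl
theorem L200338 : sm gi N18560 = N17984 := ded_34_2 (flp_d L194872) (flp_i L194856) L200336
theorem L200340 : sm ge N18560 = N18560 := ded_30_2 (flp_d L200336) (flp_e L194852) L189232 L194852 L200336
theorem L200341 : sm gf N17981 = N18561 := rfl
theorem L200343 : sm gc N18561 = N17982 := ded_26_1 (flp_f L194858) (flp_c L194854) L200341
theorem L200345 : sm gi N18561 = N17985 := ded_41_2 (flp_f L194875) (flp_i L194856) L200341
theorem L200347 : sm gg N17982 = N18562 := rfl
theorem L200349 : sm gb N18562 = N18006 := ded_21_1 (flp_g L195045) (flp_b L194860) L200347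
theorem L200351 : sm gi N18562 = N17986 := ded_43_2 (flp_g L194881) (flp_i L194862) L200347
theorem L200353 : sm gd N17983 = N18563 := rfl
theorem L200355 : sm gb N18563 = N17984 := ded_18_1 (flp_d L194872) (flp_b L194866) L200353
theorem L200357 : sm ge N18563 = N18563 := ded_30_2 (flp_d L200353) (flp_e L194864) L189241 L194864 L200353
theorem L200358 : sm gh N18563 = N18045 := ded_33_2 (flp_d L195409) L189807 (flp_d L189304) (flp_h L194870) L200353
theorem L200360 : sm gf N17983 = N18564 := rfl
theorem L200362 : sm gb N18564 = N17985 := ded_20_1 (flp_f L194875) (flp_b L194866) L200360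
theorem L200364 : sm gc N18564 = N18009 := ded_26_1 (flp_f L195063) (flp_c L194868) L200360
theorem L200366 : sm gh N18564 = N17992 := ded_40_2 (flp_f L194941) (flp_h L194870) L200360
theorem L200368 : sm gf N17984 = N18565 := rfl
theorem L200370 : sm gd N18565 = N17985 := ded_31_1 (flp_f L194875) L194872 L200368
theorem L200372 : sm gg N17985 = N18566 := rfl
theorem L200374 : sm gc N18566 = N17986 := ded_27_1 (flp_g L194881) (flp_c L194877) L200372
theorem L200376 : sm gh N18566 = N17993 := ded_42_2 (flp_g L194951) (flp_h L194879) L200372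
theorem L200378 : sm gf N17987 = N18567 := rfl
theorem L200380 : sm ga N18567 = N18202 := ded_13_1 (flp_f L196839) (flp_a L194889) L200378
theorem L200382 : sm gb N18567 = N18299 := ded_20_1 (flp_f L197656) (flp_b L194891) L200378
theorem L200384 : sm gc N18567 = N17988 := ded_26_1 (flp_f L194901) (flp_c L194893) L200378
theorem L200386 : sm gd N18567 = N18298 := ded_31_1 (flp_f L197650) (flp_d L194899) L200378
theorem L200388 : sm gi N18567 = N18230 := ded_41_2 (flp_f L197093) (flp_i L194897) L200378
theorem L200390 : sm ge N18567 = N18190 := ded_35_1 (flp_f L196733) (flp_e L191114) (flp_f L189262) L194887 L200378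
theorem L200392 : sm gg N17988 = N18568 := rfl
theorem L200394 : sm ga N18568 = N18203 := ded_14_1 (flp_g L196847) (flp_a L194903) L200392
theorem L200396 : sm gb N18568 = N18012 := ded_21_1 (flp_g L195081) (flp_b L194905) L200392
theorem L200398 : sm gd N18568 = N18247 := ded_32_1 (flp_g L197247) (flp_d L194907) L200392
theorem L200400 : sm ge N18568 = N18191 := ded_36_1 (flp_g L196741) (flp_e L194911) L200392
theorem L200402 : sm gi N18568 = N18231 := ded_43_2 (flp_g L197101) (flp_i L194909) L200392
theorem L200404 : sm gf N18568 = N17991 := ded_39_1 (flp_g L194933) (flp_f L189288) (flp_g L189278) L194901 L200392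
theorem L200406 : sm gf N17989 = N18569 := rfl
theorem L200408 : sm ga N18569 = N18289 := ded_13_1 (flp_f L197588) (flp_a L194915) L200406
theorem L200410 : sm gb N18569 = N18093 := ded_20_1 (flp_f L195859) (flp_b L194917) L200406
theorem L200412 : sm gc N18569 = N18232 := ded_26_1 (flp_f L197107) (flp_c L194923) L200406
theorem L200414 : sm gd N18569 = N17990 := ded_31_1 (flp_f L194927) L194913 L200406
theorem L200416 : sm gi N18569 = N18302 := ded_41_2 L197678 (flp_i L194921) L200406
theorem L200418 : sm ge N18569 = N18279 := ded_35_1 (flp_f L197522) L191978 (flp_f L189545) (flp_e L194925) L200406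
theorem L200420 : sm gh N17989 = N18570 := rfl
theorem L200422 : sm ga N18570 = N18285 := ded_15_1 L197567 (flp_a L194915) L200420
theorem L200424 : sm gb N18570 = N18091 := ded_22_1 L195847 (flp_b L194917) L200420
theorem L200426 : sm gc N18570 = N18227 := ded_28_1 L197069 (flp_c L194923) L200420
theorem L200428 : sm ge N18570 = N18023 := ded_37_1 (flp_h L195169) (flp_e L194925) L200420
theorem L200430 : sm gg N18570 = N18294 := ded_42_1 L197629 (flp_g L194919) L200420
theorem L200432 : sm gg N17990 = N18571 := rfl
theorem L200434 : sm gc N18571 = N17991 := ded_27_1 (flp_g L194933) (flp_c L194929) L200432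
theorem L200436 : sm ge N18571 = N17993 := ded_36_1 (flp_g L194951) (flp_e L194931) L200432
theorem L200438 : sm gg N17992 = N18572 := rfl
theorem L200440 : sm gb N18572 = N17993 := ded_21_1 (flp_g L194951) (flp_b L194943) L200438
theorem L200442 : sm gc N18572 = N18016 := ded_27_1 (flp_g L195111) (flp_c L194945) L200438
theorem L200444 : sm gd N18572 = N18067 := ded_32_1 (flp_g L195598) (flp_d L194947) L200438
theorem L200446 : sm gi N18572 = N18110 := ded_43_2 (flp_g L196016) (flp_i L194949) L200438
theorem L200448 : sm gg N17994 = N18573 := rfl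
theorem L200450 : sm gd N18573 = N18001 := ded_32_1 (flp_g L195007) (flp_d L194957) L200448
theorem L200452 : sm gh N18573 = N18251 := ded_42_2 (flp_g L197281) (flp_h L194959) L200448
theorem L200454 : sm gg N17995 = N18574 := rfl
theorem L200456 : sm gh N18574 = N18012 := ded_42_2 (flp_g L195081) (flp_h L194963) L200454
theorem L200458 : sm gf N18574 = N18001 := ded_39_1 (flp_g L195007) (flp_f L189358) (flp_g L189324) L194961 L200454
theorem L200460 : sm ge N17996 = N18575 := rfl
theorem L200462 : sm ga N18575 = N18112 := ded_12_1 L196026 (flp_a L194975) L200460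
theorem L200464 : sm gb N18575 = N17997 := ded_19_1 (flp_e L194977) L194965 L200460
theorem L200466 : sm gg N18575 = N18305 := ded_36_2 L197696 (flp_g L194971) L200460
theorem L200468 : sm gi N18575 = N17999 := ded_38_2 (flp_e L194989) (flp_i L194973) L200460
theorem L200470 : sm gf N17997 = N18576 := rfl
theorem L200472 : sm gc N18576 = N17998 := ded_26_1 (flp_f L194983) (flp_c L194979) L200470
theorem L200474 : sm gi N18576 = N18000 := ded_41_2 (flp_f L194999) (flp_i L194981) L200470
theorem L200476 : sm ge N18576 = N18005 := ded_35_1 (flp_f L195039) (flp_e L189370) (flp_f L189330) L194977 L200470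
theorem L200478 : sm gg N17998 = N18577 := rfl
theorem L200480 : sm ge N18577 = N18006 := ded_36_1 (flp_g L195045) (flp_e L194987) L200478
theorem L200482 : sm gi N18577 = N18001 := ded_43_2 (flp_g L195007) (flp_i L194985) L200478
theorem L200484 : sm gf N17999 = N18578 := rfl
theorem L200486 : sm ga N18578 = N18111 := ded_13_1 L196022 (flp_a L194991) L200484
theorem L200488 : sm gb N18578 = N18000 := ded_20_1 (flp_f L194999) (flp_b L194993) L200484
theorem L200490 : sm gh N18578 = N18013 := ded_40_2 (flp_f L195087) (flp_h L194997) L200484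
theorem L200492 : sm ge N18578 = N18009 := ded_35_1 (flp_f L195063) (flp_e L189388) (flp_f L189344) L194989 L200484
theorem L200494 : sm gg N18000 = N18579 := rfl
theorem L200496 : sm gc N18579 = N18001 := ded_27_1 (flp_g L195007) (flp_c L195001) L200494
theorem L200498 : sm ge N18579 = N18011 := ded_36_1 (flp_g L195075) (flp_e L195005) L200494
theorem L200500 : sm gh N18579 = N18014 := ded_42_2 (flp_g L195097) (flp_h L195003) L200494
theorem L200502 : sm ge N18002 = N18580 := rfl
theorem L200504 : sm ga N18580 = N18003 := ded_12_1 (flp_e L195021) L195013 L200502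
theorem L200506 : sm gi N18580 = N18007 := ded_38_2 (flp_e L195049) (flp_i L195019) L200502
theorem L200508 : sm gd N18003 = N18581 := rfl
theorem L200510 : sm gb N18581 = N18004 := ded_18_1 (flp_d L195027) (flp_b L195023) L200508
theorem L200512 : sm gg N18581 = N18273 := ded_32_2 (flp_d L198593) L198589 L200508
theorem L200514 : sm gi N18581 = N18008 := ded_34_2 (flp_d L195055) (flp_i L195025) L200508
theorem L200516 : sm ge N18581 = N18019 := ded_30_2 (flp_d L195135) (flp_e L189506) (flp_d L189366) L195021 L200508
theorem L200518 : sm gf N18003 = N18582 := rfl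
theorem L200520 : sm gb N18582 = N18005 := ded_20_1 (flp_f L195039) (flp_b L195023) L200518
theorem L200522 : sm gi N18582 = N18009 := ded_41_2 (flp_f L195063) (flp_i L195025) L200518
theorem L200524 : sm gf N18004 = N18583 := rfl
theorem L200526 : sm ga N18583 = N18159 := ded_13_1 (flp_f L196479) (flp_a L195029) L200524
theorem L200528 : sm gc N18583 = N18148 := ded_26_1 (flp_f L196367) (flp_c L195035) L200524
theorem L200530 : sm gd N18583 = N18005 := ded_31_1 (flp_f L195039) L195027 L200524
theorem L200532 : sm gi N18583 = N18010 := ded_41_2 (flp_f L195069) (flp_i L195033) L200524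
theorem L200534 : sm gh N18004 = N18584 := rfl
theorem L200536 : sm ga N18584 = N18154 := ded_15_1 L196439 (flp_a L195029) L200534
theorem L200538 : sm gc N18584 = N18147 := ded_28_1 L196363 (flp_c L195035) L200534
theorem L200540 : sm ge N18584 = N18020 := ded_37_1 (flp_h L195143) (flp_e L195037) L200534
theorem L200542 : sm gg N18584 = N18267 := ded_42_1 L197410 (flp_g L195031) L200534
theorem L200544 : sm gi N18584 = N18376 := ded_44_2 (flp_h L198297) L192692 (flp_h L189398) (flp_i L195033) L200534
theorem L200546 : sm gg N18005 = N18585 := rfl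
theorem L200548 : sm gc N18585 = N18006 := ded_27_1 (flp_g L195045) (flp_c L195041) L200546
theorem L200550 : sm gi N18585 = N18011 := ded_43_2 (flp_g L195075) (flp_i L195043) L200546
theorem L200552 : sm gd N18007 = N18586 := rfl
theorem L200554 : sm ga N18586 = N18008 := ded_11_1 (flp_d L195055) (flp_a L195051) L200552
theorem L200556 : sm ge N18586 = N18021 := ded_30_2 (flp_d L195154) (flp_e L189526) (flp_d L189382) L195049 L200552
theorem L200558 : sm gh N18586 = N18378 := ded_33_2 (flp_d L198309) L192714 (flp_d L189440) (flp_h L195053) L200552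
theorem L200560 : sm gf N18007 = N18587 := rfl
theorem L200562 : sm ga N18587 = N18009 := ded_13_1 (flp_f L195063) (flp_a L195051) L200560
theorem L200564 : sm gh N18587 = N18015 := ded_40_2 (flp_f L195103) (flp_h L195053) L200560
theorem L200566 : sm ge N18587 = N18111 := ded_35_1 L196022 L190406 (flp_f L189384) L195049 L200560
theorem L200568 : sm gc N18008 = N18588 := rfl
theorem L200570 : sm ge N18588 = N18022 := ded_25_2 (flp_c L195160) (flp_e L195059) L200568
theorem L200572 : sm gh N18588 = N18341 := ded_28_2 L198013 (flp_h L195061) L200568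
theorem L200574 : sm gb N18588 = N18328 := ded_17_1 L197902 L192348 L189733 (flp_b L195057) L200568
theorem L200576 : sm gf N18008 = N18589 := rfl
theorem L200578 : sm gb N18589 = N18010 := ded_20_1 (flp_f L195069) (flp_b L195057) L200576
theorem L200580 : sm gd N18589 = N18009 := ded_31_1 (flp_f L195063) L195055 L200576
theorem L200582 : sm gh N18589 = N18380 := ded_40_2 (flp_f L198321) (flp_h L195061) L200576
theorem L200584 : sm gg N18009 = N18590 := rfl
theorem L200586 : sm gb N18590 = N18011 := ded_21_1 (flp_g L195075) (flp_b L195065) L200584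
theorem L200588 : sm gh N18590 = N18016 := ded_42_2 (flp_g L195111) (flp_h L195067) L200584
theorem L200590 : sm gg N18010 = N18591 := rfl
theorem L200592 : sm gd N18591 = N18011 := ded_32_1 (flp_g L195075) (flp_d L195071) L200590
theorem L200594 : sm gh N18591 = N18382 := ded_42_2 (flp_g L198333) (flp_h L195073) L200590
theorem L200596 : sm gg N18013 = N18592 := rfl
theorem L200598 : sm ga N18592 = N18110 := ded_14_1 (flp_g L196016) (flp_a L195089) L200596
theorem L200600 : sm gb N18592 = N18014 := ded_21_1 (flp_g L195097) (flp_b L195091) L200596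
theorem L200602 : sm gd N18592 = N18095 := ded_32_1 (flp_g L195877) (flp_d L195093) L200596
theorem L200604 : sm ge N18592 = N18016 := ded_36_1 (flp_g L195111) (flp_e L195095) L200596
theorem L200606 : sm gf N18592 = N18303 := ded_39_1 (flp_g L197680) (flp_f L192106) (flp_g L189420) L195087 L200596
theorem L200608 : sm gg N18015 = N18593 := rfl
theorem L200610 : sm ga N18593 = N18016 := ded_14_1 (flp_g L195111) (flp_a L195105) L200608
theorem L200612 : sm gd N18593 = N18387 := ded_32_1 (flp_g L198371) (flp_d L195107) L200608
theorem L200614 : sm ge N18593 = N18110 := ded_36_1 (flp_g L196016) (flp_e L195109) L200608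
theorem L200616 : sm gd N18018 = N18594 := rfl
theorem L200618 : sm ga N18594 = N18019 := ded_11_1 (flp_d L195135) (flp_a L195125) L200616
theorem L200620 : sm gb N18594 = N18157 := ded_18_1 L196463 (flp_b L195127) L200616
theorem L200622 : sm gg N18594 = N18272 := ded_32_2 L197460 (flp_g L195130) L200616
theorem L200624 : sm gi N18594 = N18021 := ded_34_2 (flp_d L195154) (flp_i L195133) L200616
theorem L200626 : sm gc N18019 = N18595 := rfl
theorem L200628 : sm gf N18595 = N18330 := ded_26_2 L197927 L197866 L200626
theorem L200630 : sm gg N18595 = N18260 := ded_27_2 L197360 (flp_g L195139) L200626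
theorem L200632 : sm gi N18595 = N18022 := ded_29_2 (flp_c L195160) (flp_i L195141) L200626
theorem L200634 : sm gb N18595 = N18036 := ded_17_1 (flp_c L195322) L189753 (flp_c L189524) (flp_b L195137) L200626
theorem L200636 : sm gd N18595 = N18595 := ded_24_2 (flp_c L200626) (flp_d L195135) L189510 L195135 L200626
theorem L200637 : sm gh N18019 = N18596 := rfl
theorem L200639 : sm gb N18596 = N18020 := ded_22_1 (flp_h L195143) (flp_b L195137) L200637
theorem L200641 : sm gg N18596 = N18266 := ded_42_1 L197402 (flp_g L195139) L200637
theorem L200643 : sm gd N18596 = N18596 := ded_33_1 (flp_h L200637) (flp_d L195135) L189513 L195135 L200637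
theorem L200644 : sm gi N18596 = N18389 := ded_44_2 (flp_h L198385) L192819 (flp_h L189537) (flp_i L195141) L200637
theorem L200646 : sm gc N18021 = N18597 := rfl
theorem L200648 : sm ga N18597 = N18022 := ded_10_1 (flp_c L195160) (flp_a L195156) L200646
theorem L200650 : sm gf N18597 = N18333 := ded_26_2 L197947 L197878 L200646
theorem L200652 : sm gh N18597 = N18340 := ded_28_2 L197999 (flp_h L195158) L200646
theorem L200654 : sm gd N18597 = N18597 := ded_24_2 (flp_c L200646) (flp_d L195154) L189530 L195154 L200646
theorem L200655 : sm gi N18023 = N18598 := rfl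
theorem L200657 : sm ga N18598 = N18282 := ded_16_1 L197543 (flp_a L195171) L200655
theorem L200659 : sm gb N18598 = N18089 := ded_23_1 L195824 (flp_b L195173) L200655
theorem L200661 : sm gc N18598 = N18224 := ded_29_1 L197041 (flp_c L195175) L200655
theorem L200663 : sm gd N18598 = N18598 := ded_34_1 (flp_i L200655) L195181 L200655
theorem L200664 : sm gf N18598 = N18326 := ded_41_1 (flp_i L197884) (flp_f L195177) L200655
theorem L200666 : sm gg N18598 = N18291 := ded_43_1 L197605 (flp_g L195179) L200655
theorem L200668 : sm gh N18598 = N18311 := ded_44_1 L197754 L192194 (flp_i L189549) L195169 L200655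
theorem L200670 : sm gg N18025 = N18599 := rfl
theorem L200672 : sm ga N18599 = N18385 := ded_14_1 (flp_g L198351) (flp_a L195200) L200670
theorem L200674 : sm gb N18599 = N18084 := ded_21_1 (flp_g L195766) (flp_b L195202) L200670
theorem L200676 : sm gc N18599 = N18026 := ded_27_1 (flp_g L195212) (flp_c L195204) L200670
theorem L200678 : sm gd N18599 = N18321 := ded_32_1 (flp_g L197836) (flp_d L195206) L200670
theorem L200680 : sm gh N18599 = N18439 := ded_42_2 (flp_g L199014) (flp_h L195208) L200670
theorem L200682 : sm gi N18599 = N18138 := ded_43_2 (flp_g L196271) (flp_i L195210) L200670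
theorem L200684 : sm gf N18599 = N18029 := ded_39_1 (flp_g L195246) (flp_f L189643) (flp_g L189589) L195198 L200670
theorem L200686 : sm gg N18027 = N18600 := rfl
theorem L200688 : sm ga N18600 = N18029 := ded_14_1 (flp_g L195246) (flp_a L195226) L200686
theorem L200690 : sm gc N18600 = N18028 := ded_27_1 (flp_g L195236) (flp_c L195228) L200686
theorem L200692 : sm gd N18600 = N18383 := ded_32_1 (flp_g L198339) (flp_d L195230) L200686
theorem L200694 : sm ge N18600 = N18084 := ded_36_1 (flp_g L195766) (flp_e L195234) L200686
theorem L200696 : sm gh N18600 = N18443 := ded_42_2 (flp_g L199072) (flp_h L195232) L200686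
theorem L200698 : sm gf N18600 = N18385 := ded_39_1 (flp_g L198351) (flp_f L192754) (flp_g L189627) L195224 L200686
theorem L200700 : sm gg N18031 = N18601 := rfl
theorem L200702 : sm ga N18601 = N18126 := ded_14_1 (flp_g L196158) (flp_a L195272) L200700
theorem L200704 : sm gc N18601 = N18141 := ded_27_1 (flp_g L196299) (flp_c L195274) L200700
theorem L200706 : sm ge N18601 = N18035 := ded_36_1 (flp_g L195312) (flp_e L195280) L200700
theorem L200708 : sm gh N18601 = N18060 := ded_42_2 (flp_g L195528) (flp_h L195276) L200700
theorem L200710 : sm gi N18601 = N18464 := ded_43_2 (flp_g L199332) (flp_i L195278) L200700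
theorem L200712 : sm gd N18032 = N18602 := rfl
theorem L200714 : sm ga N18602 = N18263 := ded_11_1 (flp_d L197376) (flp_a L195284) L200712
theorem L200716 : sm gb N18602 = N18133 := ded_18_1 (flp_d L196238) (flp_b L195286) L200712
theorem L200718 : sm gg N18602 = N18045 := ded_32_2 (flp_d L195409) (flp_g L195290) L200712
theorem L200720 : sm ge N18602 = N18602 := ded_30_2 (flp_d L200712) (flp_e L195282) L189718 L195282 L200712
theorem L200721 : sm gf N18032 = N18603 := rfl
theorem L200723 : sm ga N18603 = N18264 := ded_13_1 (flp_f L197381) (flp_a L195284) L200721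
theorem L200725 : sm gb N18603 = N18134 := ded_20_1 (flp_f L196243) (flp_b L195286) L200721
theorem L200727 : sm gc N18603 = N18033 := ded_26_1 (flp_f L195294) (flp_c L195288) L200721
theorem L200729 : sm gh N18603 = N18061 := ded_40_2 (flp_f L195538) (flp_h L195292) L200721
theorem L200731 : sm gg N18033 = N18604 := rfl
theorem L200733 : sm ga N18604 = N18265 := ded_14_1 (flp_g L197389) (flp_a L195296) L200731
theorem L200735 : sm gb N18604 = N18035 := ded_21_1 (flp_g L195312) (flp_b L195298) L200731
theorem L200737 : sm gh N18604 = N18062 := ded_42_2 (flp_g L195548) (flp_h L195300) L200731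
theorem L200739 : sm gf N18604 = N18047 := ded_39_1 (flp_g L195418) (flp_f L189809) (flp_g L189725) L195294 L200731
theorem L200741 : sm gg N18034 = N18605 := rfl
theorem L200743 : sm ga N18605 = N18146 := ded_14_1 (flp_g L196349) (flp_a L195304) L200741
theorem L200745 : sm gc N18605 = N18591 := ded_27_1 (flp_g L200590) (flp_c L195306) L200741
theorem L200747 : sm gd N18605 = N18035 := ded_32_1 (flp_g L195312) (flp_d L195308) L200741
theorem L200749 : sm gh N18605 = N18257 := ded_42_2 (flp_g L197329) (flp_h L195310) L200741
theorem L200751 : sm gf N18605 = N18056 := ded_39_1 (flp_g L195492) (flp_f L189867) (flp_g L189735) L195302 L200741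
theorem L200753 : sm ge N18036 = N18606 := rfl
theorem L200755 : sm ga N18606 = N18043 := ded_12_1 (flp_e L195399) (flp_a L195324) L200753
theorem L200757 : sm gc N18606 = N18037 := ded_25_1 (flp_e L195333) L195322 L200753
theorem L200759 : sm gg N18606 = N18261 := ded_36_2 (flp_e L197362) (flp_g L195328) L200753
theorem L200761 : sm gi N18606 = N18328 := ded_38_2 (flp_e L197898) (flp_i L195330) L200753
theorem L200763 : sm gf N18037 = N18607 := rfl
theorem L200765 : sm ga N18607 = N18044 := ded_13_1 (flp_f L195403) (flp_a L195335) L200763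
theorem L200767 : sm gb N18607 = N18148 := ded_20_1 (flp_f L196367) (flp_b L195337) L200763
theorem L200769 : sm gd N18607 = N18039 := ded_31_1 (flp_f L195357) (flp_d L195343) L200763
theorem L200771 : sm gi N18607 = N18329 := ded_41_2 (flp_f L197908) (flp_i L195341) L200763
theorem L200773 : sm ge N18607 = N18332 := ded_35_1 (flp_f L197937) (flp_e L192363) (flp_f L189755) L195333 L200763
theorem L200775 : sm gd N18038 = N18608 := rfl
theorem L200777 : sm ga N18608 = N18045 := ded_11_1 (flp_d L195409) (flp_a L195347) L200775
theorem L200779 : sm gg N18608 = N18263 := ded_32_2 (flp_d L197376) (flp_g L195351) L200775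
theorem L200781 : sm gi N18608 = N18602 := ded_34_2 (flp_d L200712) (flp_i L195355) L200775
theorem L200783 : sm ge N18608 = N18608 := ded_30_2 (flp_d L200775) (flp_e L195345) L189771 L195345 L200775
theorem L200784 : sm gf N18038 = N18609 := rfl
theorem L200786 : sm ga N18609 = N18046 := ded_13_1 (flp_f L195412) (flp_a L195347) L200784
theorem L200788 : sm gc N18609 = N18039 := ded_26_1 (flp_f L195357) (flp_c L195349) L200784
theorem L200790 : sm gh N18609 = N18063 := ded_40_2 (flp_f L195560) (flp_h L195353) L200784
theorem L200792 : sm gi N18609 = N18603 := ded_41_2 (flp_f L200721) (flp_i L195355) L200784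
theorem L200794 : sm gg N18039 = N18610 := rfl
theorem L200796 : sm ga N18610 = N18047 := ded_14_1 (flp_g L195418) (flp_a L195359) L200794
theorem L200798 : sm gb N18610 = N18149 := ded_21_1 (flp_g L196375) (flp_b L195361) L200794
theorem L200800 : sm gh N18610 = N18064 := ded_42_2 (flp_g L195568) (flp_h L195363) L200794
theorem L200802 : sm gi N18610 = N18604 := ded_43_2 (flp_g L200731) (flp_i L195365) L200794
theorem L200804 : sm gf N18610 = N18265 := ded_39_1 (flp_g L197389) (flp_f L191870) (flp_g L189778) L195357 L200794
theorem L200806 : sm ge N18040 = N18611 := rfl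
theorem L200808 : sm ga N18611 = N18331 := ded_12_1 (flp_e L197929) (flp_a L195369) L200806
theorem L200810 : sm gc N18611 = N18041 := ded_25_1 (flp_e L195380) L195367 L200806
theorem L200812 : sm gg N18611 = N18376 := ded_36_2 L198301 (flp_g L195373) L200806
theorem L200814 : sm gh N18611 = N18240 := ded_37_2 L197191 (flp_h L195375) L200806
theorem L200816 : sm gi N18611 = N18267 := ded_38_2 (flp_e L197404) (flp_i L195377) L200806
theorem L200818 : sm gf N18041 = N18612 := rfl
theorem L200820 : sm ga N18612 = N18332 := ded_13_1 (flp_f L197937) (flp_a L195382) L200818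
theorem L200822 : sm gb N18612 = N18052 := ded_20_1 (flp_f L195460) (flp_b L195384) L200818
theorem L200824 : sm gd N18612 = N18284 := ded_31_1 (flp_f L197555) (flp_d L195388) L200818
theorem L200826 : sm gi N18612 = N18268 := ded_41_2 (flp_f L197412) (flp_i L195386) L200818
theorem L200828 : sm ge N18612 = N18044 := ded_35_1 (flp_f L195403) (flp_e L189797) (flp_f L189790) L195380 L200818
theorem L200830 : sm ga N18042 = N18613 := rfl
theorem L200832 : sm gc N18613 = N18053 := ded_10_2 (flp_a L195466) (flp_c L195397) L200830
theorem L200834 : sm gd N18613 = N18613 := ded_11_2 (flp_a L200830) L195392 L200830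
theorem L200835 : sm gg N18613 = N18597 := ded_14_2 L200648 (flp_g L195393) L200830
theorem L200837 : sm gh N18613 = N18278 := ded_15_2 L197516 (flp_h L195395) L200830
theorem L200839 : sm ge N18042 = N18614 := rfl
theorem L200841 : sm gb N18614 = N18043 := ded_19_1 (flp_e L195399) L195390 L200839
theorem L200843 : sm gc N18614 = N18054 := ded_25_1 (flp_e L195476) (flp_c L195397) L200839
theorem L200845 : sm gg N18614 = N18588 := ded_36_2 L200570 (flp_g L195393) L200839
theorem L200847 : sm gh N18614 = N18342 := ded_37_2 L198029 (flp_h L195395) L200839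
theorem L200849 : sm gd N18043 = N18615 := rfl
theorem L200851 : sm gc N18615 = N18045 := ded_24_1 (flp_d L195409) L189805 (flp_d L189801) (flp_c L195401) L200849
theorem L200853 : sm ge N18615 = N18615 := ded_30_2 (flp_d L200849) (flp_e L195399) L189796 L195399 L200849
theorem L200854 : sm gf N18043 = N18616 := rfl
theorem L200856 : sm gc N18616 = N18044 := ded_26_1 (flp_f L195403) (flp_c L195401) L200854
theorem L200858 : sm gg N18044 = N18617 := rfl
theorem L200860 : sm gb N18617 = N18056 := ded_21_1 (flp_g L195492) (flp_b L195405) L200858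
theorem L200862 : sm gd N18617 = N18047 := ded_32_1 (flp_g L195418) (flp_d L195407) L200858
theorem L200864 : sm gf N18045 = N18618 := rfl
theorem L200866 : sm gd N18618 = N18046 := ded_31_1 (flp_f L195412) L195409 L200864
theorem L200868 : sm gg N18046 = N18619 := rfl
theorem L200870 : sm gc N18619 = N18047 := ded_27_1 (flp_g L195418) (flp_c L195414) L200868
theorem L200872 : sm gh N18619 = N18067 := ded_42_2 (flp_g L195598) (flp_h L195416) L200868
theorem L200874 : sm gf N18048 = N18620 := rfl
theorem L200876 : sm ga N18620 = N18169 := ded_13_1 (flp_f L196571) (flp_a L195426) L200874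
theorem L200878 : sm gb N18620 = N18175 := ded_20_1 (flp_f L196613) (flp_b L195428) L200874
theorem L200880 : sm gd N18620 = N18071 := ded_31_1 (flp_f L195640) (flp_d L195436) L200874
theorem L200882 : sm gh N18620 = N18612 := ded_40_2 (flp_f L200818) (flp_h L195432) L200874
theorem L200884 : sm gi N18620 = N18049 := ded_41_2 (flp_f L195438) (flp_i L195434) L200874
theorem L200886 : sm ge N18620 = N18339 := ded_35_1 (flp_f L197987) (flp_e L192402) (flp_f L189821) L195424 L200874
theorem L200888 : sm gg N18049 = N18621 := rfl
theorem L200890 : sm ga N18621 = N18173 := ded_14_1 (flp_g L196597) (flp_a L195440) L200888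
theorem L200892 : sm gd N18621 = N18072 := ded_32_1 (flp_g L195650) (flp_d L195442) L200888
theorem L200894 : sm gh N18621 = N18056 := ded_42_2 (flp_g L195492) (flp_h L195444) L200888
theorem L200896 : sm gf N18621 = N18257 := ded_39_1 (flp_g L197329) (flp_f L191708) (flp_g L189833) L195438 L200888
theorem L200898 : sm ga N18050 = N18622 := rfl
theorem L200900 : sm gd N18622 = N18057 := ded_11_2 (flp_a L195498) (flp_d L195448) L200898
theorem L200902 : sm gf N18622 = N18053 := ded_13_2 (flp_a L195466) (flp_f L195450) L200898
theorem L200904 : sm gh N18622 = N18059 := ded_15_2 L195524 (flp_h L195452) L200898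
theorem L200906 : sm gb N18622 = N18176 := ded_9_2 (flp_a L196621) (flp_b L191023) (flp_a L189841) L195446 L200898
theorem L200908 : sm ge N18050 = N18623 := rfl
theorem L200910 : sm gb N18623 = N18051 := ded_19_1 (flp_e L195454) L195446 L200908
theorem L200912 : sm gh N18623 = N18178 := ded_37_2 L196641 (flp_h L195452) L200908
theorem L200914 : sm gd N18051 = N18624 := rfl
theorem L200916 : sm ga N18624 = N18178 := ded_11_1 (flp_d L196635) (flp_a L195456) L200914
theorem L200918 : sm ge N18624 = N18059 := ded_30_2 (flp_d L195522) (flp_e L189886) (flp_d L189845) L195454 L200914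
theorem L200920 : sm gf N18051 = N18625 := rfl
theorem L200922 : sm ga N18625 = N18179 := ded_13_1 (flp_f L196643) (flp_a L195456) L200920
theorem L200924 : sm gc N18625 = N18052 := ded_26_1 (flp_f L195460) (flp_c L195458) L200920
theorem L200926 : sm ge N18625 = N18055 := ded_35_1 (flp_f L195484) (flp_e L189857) (flp_f L189843) L195454 L200920
theorem L200928 : sm gg N18052 = N18626 := rfl
theorem L200930 : sm ga N18626 = N18180 := ded_14_1 (flp_g L196649) (flp_a L195462) L200928
theorem L200932 : sm ge N18626 = N18056 := ded_36_1 (flp_g L195492) (flp_e L195464) L200928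
theorem L200934 : sm ge N18053 = N18627 := rfl
theorem L200936 : sm ga N18627 = N18054 := ded_12_1 (flp_e L195476) L195466 L200934
theorem L200938 : sm gb N18627 = N18181 := ded_19_1 (flp_e L196653) (flp_b L195474) L200934
theorem L200940 : sm gg N18627 = N18586 := ded_36_2 L200556 (flp_g L195470) L200934
theorem L200942 : sm gh N18627 = N18531 := ded_37_2 L200048 (flp_h L195472) L200934
theorem L200944 : sm gd N18627 = N18534 := ded_30_1 (flp_e L200070) L194575 (flp_e L189899) (flp_d L195468) L200934
theorem L200946 : sm gf N18054 = N18628 := rfl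
theorem L200948 : sm gb N18628 = N18055 := ded_20_1 (flp_f L195484) (flp_b L195478) L200946
theorem L200950 : sm gd N18628 = N18535 := ded_31_1 (flp_f L200082) (flp_d L195482) L200946
theorem L200952 : sm gg N18055 = N18629 := rfl
theorem L200954 : sm ga N18629 = N18183 := ded_14_1 (flp_g L196661) (flp_a L195486) L200952
theorem L200956 : sm gc N18629 = N18056 := ded_27_1 (flp_g L195492) (flp_c L195488) L200952
theorem L200958 : sm gd N18629 = N18536 := ded_32_1 (flp_g L200088) (flp_d L195490) L200952
theorem L200960 : sm gf N18629 = N18591 := ded_39_1 (flp_g L200590) (flp_f L195069) (flp_g L189863) L195484 L200952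
theorem L200962 : sm gd N18058 = N18630 := rfl
theorem L200964 : sm ga N18630 = N18164 := ded_11_1 L196537 (flp_a L195511) L200962
theorem L200966 : sm gb N18630 = N18059 := ded_18_1 (flp_d L195522) (flp_b L195513) L200962
theorem L200968 : sm gf N18630 = N18170 := ded_31_2 L196579 (flp_f L195520) L200962
theorem L200970 : sm gg N18630 = N18622 := ded_32_2 L200900 (flp_g L195516) L200962
theorem L200972 : sm gh N18630 = N18176 := ded_33_2 L196623 L191063 (flp_d L191808) (flp_h L195518) L200962
theorem L200974 : sm gg N18061 = N18631 := rfl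
theorem L200976 : sm ga N18631 = N18281 := ded_14_1 (flp_g L197532) (flp_a L195540) L200974
theorem L200978 : sm gb N18631 = N18138 := ded_21_1 (flp_g L196271) (flp_b L195542) L200974
theorem L200980 : sm gc N18631 = N18062 := ded_27_1 (flp_g L195548) (flp_c L195544) L200974
theorem L200982 : sm gi N18631 = N18084 := ded_43_2 (flp_g L195766) (flp_i L195546) L200974
theorem L200984 : sm gf N18631 = N18067 := ded_39_1 (flp_g L195598) (flp_f L189989) (flp_g L189925) L195538 L200974
theorem L200986 : sm gg N18063 = N18632 := rfl
theorem L200988 : sm ga N18632 = N18067 := ded_14_1 (flp_g L195598) (flp_a L195562) L200986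
theorem L200990 : sm gc N18632 = N18064 := ded_27_1 (flp_g L195568) (flp_c L195564) L200986
theorem L200992 : sm gi N18632 = N18095 := ded_43_2 (flp_g L195877) (flp_i L195566) L200986
theorem L200994 : sm gf N18632 = N18281 := ded_39_1 (flp_g L197532) (flp_f L191980) (flp_g L189957) L195560 L200986
theorem L200996 : sm gg N18065 = N18633 := rfl
theorem L200998 : sm gb N18633 = N18072 := ded_21_1 (flp_g L195650) (flp_b L195580) L200996
theorem L201000 : sm gc N18633 = N18381 := ded_27_1 (flp_g L198327) (flp_c L195582) L200996
theorem L201002 : sm gh N18633 = N18066 := ded_42_2 (flp_g L195586) (flp_h L195584) L200996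
theorem L201004 : sm gf N18633 = N18256 := ded_39_1 (flp_g L197321) (flp_f L191700) (flp_g L189975) L195578 L200996
theorem L201006 : sm gf N18068 = N18634 := rfl
theorem L201008 : sm ga N18634 = N18206 := ded_13_1 (flp_f L196871) (flp_a L195606) L201006
theorem L201010 : sm gd N18634 = N18070 := ded_31_1 (flp_f L195630) (flp_d L195612) L201006
theorem L201012 : sm gi N18634 = N18449 := ded_41_2 (flp_f L199150) (flp_i L195610) L201006
theorem L201014 : sm ge N18634 = N18473 := ded_35_1 (flp_f L199425) (flp_e L193905) (flp_f L190005) L195604 L201006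
theorem L201016 : sm gf N18069 = N18635 := rfl
theorem L201018 : sm ga N18635 = N18208 := ded_13_1 (flp_f L196885) (flp_a L195616) L201016
theorem L201020 : sm gb N18635 = N18634 := ded_20_1 (flp_f L201006) (flp_b L195618) L201016
theorem L201022 : sm gc N18635 = N18215 := ded_26_1 (flp_f L196941) (flp_c L195620) L201016
theorem L201024 : sm gd N18635 = N18449 := ded_31_1 (flp_f L199150) (flp_d L195628) L201016
theorem L201026 : sm gh N18635 = N18115 := ded_40_2 (flp_f L196042) (flp_h L195624) L201016
theorem L201028 : sm gi N18635 = N18070 := ded_41_2 (flp_f L195630) (flp_i L195626) L201016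
theorem L201030 : sm ge N18635 = N18071 := ded_35_1 (flp_f L195640) (flp_e L190035) (flp_f L190017) L195614 L201016
theorem L201032 : sm gg N18070 = N18636 := rfl
theorem L201034 : sm ga N18636 = N18209 := ded_14_1 (flp_g L196895) (flp_a L195632) L201032
theorem L201036 : sm gc N18636 = N18216 := ded_27_1 (flp_g L196951) (flp_c L195634) L201032
theorem L201038 : sm ge N18636 = N18072 := ded_36_1 (flp_g L195650) (flp_e L195638) L201032
theorem L201040 : sm gh N18636 = N18073 := ded_42_2 (flp_g L195660) (flp_h L195636) L201032
theorem L201042 : sm gg N18071 = N18637 := rfl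
theorem L201044 : sm ga N18637 = N18210 := ded_14_1 (flp_g L196901) (flp_a L195642) L201042
theorem L201046 : sm gc N18637 = N18217 := ded_27_1 (flp_g L196959) (flp_c L195644) L201042
theorem L201048 : sm gh N18637 = N18120 := ded_42_2 (flp_g L196098) (flp_h L195646) L201042
theorem L201050 : sm gi N18637 = N18072 := ded_43_2 (flp_g L195650) (flp_i L195648) L201042
theorem L201052 : sm gf N18637 = N18255 := ded_39_1 (flp_g L197315) (flp_f L191690) (flp_g L190041) L195640 L201042
theorem L201054 : sm gd N18074 = N18638 := rfl
theorem L201056 : sm ga N18638 = N18133 := ded_11_1 (flp_d L196238) (flp_a L195672) L201054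
theorem L201058 : sm gc N18638 = N18545 := ded_24_1 (flp_d L200194) L194722 (flp_d L190090) (flp_c L195674) L201054
theorem L201060 : sm ge N18638 = N18638 := ded_30_2 (flp_d L201054) (flp_e L195670) L190083 L195670 L201054
theorem L201061 : sm gh N18638 = N18352 := ded_33_2 (flp_d L198107) L192531 (flp_d L190100) (flp_h L195676) L201054
theorem L201063 : sm gf N18074 = N18639 := rfl
theorem L201065 : sm ga N18639 = N18134 := ded_13_1 (flp_f L196243) (flp_a L195672) L201063
theorem L201067 : sm gc N18639 = N18075 := ded_26_1 (flp_f L195678) (flp_c L195674) L201063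
theorem L201069 : sm gh N18639 = N18076 := ded_40_2 (flp_f L195686) (flp_h L195676) L201063
theorem L201071 : sm gg N18075 = N18640 := rfl
theorem L201073 : sm ga N18640 = N18135 := ded_14_1 (flp_g L196249) (flp_a L195680) L201071
theorem L201075 : sm gd N18640 = N18547 := ded_32_1 (flp_g L200209) (flp_d L195682) L201071
theorem L201077 : sm gh N18640 = N18077 := ded_42_2 (flp_g L195696) (flp_h L195684) L201071
theorem L201079 : sm gg N18076 = N18641 := rfl
theorem L201081 : sm ga N18641 = N18138 := ded_14_1 (flp_g L196271) (flp_a L195688) L201079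
theorem L201083 : sm gc N18641 = N18077 := ded_27_1 (flp_g L195696) (flp_c L195690) L201079
theorem L201085 : sm gd N18641 = N18360 := ded_32_1 (flp_g L198153) (flp_d L195692) L201079
theorem L201087 : sm gi N18641 = N18385 := ded_43_2 (flp_g L198351) (flp_i L195694) L201079
theorem L201089 : sm gd N18078 = N18642 := rfl
theorem L201091 : sm ga N18642 = N18295 := ded_11_1 (flp_d L197631) (flp_a L195704) L201089
theorem L201093 : sm gb N18642 = N18199 := ded_18_1 (flp_d L196820) (flp_b L195706) L201089
theorem L201095 : sm gg N18642 = N18104 := ded_32_2 (flp_d L195973) (flp_g L195710) L201089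
theorem L201097 : sm ge N18642 = N18642 := ded_30_2 (flp_d L201089) (flp_e L195702) L190126 L195702 L201089
theorem L201098 : sm gf N18078 = N18643 := rfl
theorem L201100 : sm ga N18643 = N18296 := ded_13_1 (flp_f L197636) (flp_a L195704) L201098
theorem L201102 : sm gb N18643 = N18200 := ded_20_1 (flp_f L196825) (flp_b L195706) L201098
theorem L201104 : sm gc N18643 = N18079 := ded_26_1 (flp_f L195714) (flp_c L195708) L201098
theorem L201106 : sm gh N18643 = N18080 := ded_40_2 (flp_f L195722) (flp_h L195712) L201098
theorem L201108 : sm gg N18079 = N18644 := rfl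
theorem L201110 : sm ga N18644 = N18297 := ded_14_1 (flp_g L197642) (flp_a L195716) L201108
theorem L201112 : sm gb N18644 = N18087 := ded_21_1 (flp_g L195794) (flp_b L195718) L201108
theorem L201114 : sm gh N18644 = N18081 := ded_42_2 (flp_g L195732) (flp_h L195720) L201108
theorem L201116 : sm gf N18644 = N18106 := ded_39_1 (flp_g L195986) (flp_f L190366) (flp_g L190133) L195714 L201108
theorem L201118 : sm gg N18080 = N18645 := rfl
theorem L201120 : sm ga N18645 = N18301 := ded_14_1 (flp_g L197668) (flp_a L195724) L201118
theorem L201122 : sm gb N18645 = N18204 := ded_21_1 (flp_g L196855) (flp_b L195726) L201118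
theorem L201124 : sm gc N18645 = N18081 := ded_27_1 (flp_g L195732) (flp_c L195728) L201118
theorem L201126 : sm gi N18645 = N18249 := ded_43_2 (flp_g L197261) (flp_i L195730) L201118
theorem L201128 : sm gf N18645 = N18109 := ded_39_1 (flp_g L196008) (flp_f L190386) (flp_g L190145) L195722 L201118
theorem L201130 : sm gg N18082 = N18646 := rfl
theorem L201132 : sm ga N18646 = N18303 := ded_14_1 (flp_g L197680) (flp_a L195746) L201130
theorem L201134 : sm gb N18646 = N18321 := ded_21_1 (flp_g L197836) (flp_b L195748) L201130
theorem L201136 : sm gd N18646 = N18084 := ded_32_1 (flp_g L195766) (flp_d L195750) L201130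
theorem L201138 : sm ge N18646 = N18322 := ded_36_1 (flp_g L197844) (flp_e L195752) L201130
theorem L201140 : sm gf N18646 = N18110 := ded_39_1 (flp_g L196016) (flp_f L190400) (flp_g L190165) L195744 L201130
theorem L201142 : sm gh N18082 = N18647 := rfl
theorem L201144 : sm ga N18647 = N18304 := ded_15_1 (flp_h L197684) (flp_a L195746) L201142
theorem L201146 : sm gb N18647 = N18309 := ded_22_1 L197736 (flp_b L195748) L201142
theorem L201148 : sm ge N18647 = N18318 := ded_37_1 L197814 (flp_e L195752) L201142
theorem L201150 : sm gf N18647 = N18083 := ded_40_1 (flp_h L195754) L195744 L201142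
theorem L201152 : sm gd N18647 = N18578 := ded_33_1 L200490 L195093 L190290 (flp_d L195750) L201142
theorem L201154 : sm gi N18083 = N18648 := rfl
theorem L201156 : sm ga N18648 = N18305 := ded_16_1 (flp_i L197690) (flp_a L195756) L201154
theorem L201158 : sm gb N18648 = N18307 := ded_23_1 L197716 (flp_b L195758) L201154
theorem L201160 : sm gd N18648 = N18575 := ded_34_1 L200468 (flp_d L195764) L201154
theorem L201162 : sm ge N18648 = N18125 := ded_38_1 (flp_i L196146) (flp_e L195760) L201154
theorem L201164 : sm gg N18648 = N18112 := ded_43_1 (flp_i L196024) (flp_g L195762) L201154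
theorem L201166 : sm gg N18085 = N18649 := rfl
theorem L201168 : sm ga N18649 = N18216 := ded_14_1 (flp_g L196951) (flp_a L195776) L201166
theorem L201170 : sm gc N18649 = N18209 := ded_27_1 (flp_g L196895) (flp_c L195778) L201166
theorem L201172 : sm ge N18649 = N18087 := ded_36_1 (flp_g L195794) (flp_e L195782) L201166
theorem L201174 : sm gh N18649 = N18088 := ded_42_2 (flp_g L195804) (flp_h L195780) L201166
theorem L201176 : sm gg N18086 = N18650 := rfl
theorem L201178 : sm ga N18650 = N18217 := ded_14_1 (flp_g L196959) (flp_a L195786) L201176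
theorem L201180 : sm gc N18650 = N18210 := ded_27_1 (flp_g L196901) (flp_c L195788) L201176
theorem L201182 : sm gh N18650 = N18255 := ded_42_2 (flp_g L197315) (flp_h L195790) L201176
theorem L201184 : sm gi N18650 = N18087 := ded_43_2 (flp_g L195794) (flp_i L195792) L201176
theorem L201186 : sm gf N18650 = N18120 := ded_39_1 (flp_g L196098) (flp_f L190472) (flp_g L190197) L195784 L201176
theorem L201188 : sm ge N18089 = N18651 := rfl
theorem L201190 : sm ga N18651 = N18102 := ded_12_1 (flp_e L195957) (flp_a L195816) L201188
theorem L201192 : sm gc N18651 = N18090 := ded_25_1 (flp_e L195827) L195814 L201188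
theorem L201194 : sm gg N18651 = N18292 := ded_36_2 (flp_e L197609) (flp_g L195820) L201188
theorem L201196 : sm gh N18651 = N18372 := ded_37_2 (flp_e L198263) (flp_h L195822) L201188
theorem L201198 : sm gi N18651 = N18091 := ded_38_2 (flp_e L195839) (flp_i L195824) L201188
theorem L201200 : sm gf N18090 = N18652 := rfl
theorem L201202 : sm ga N18652 = N18103 := ded_13_1 (flp_f L195967) (flp_a L195829) L201200
theorem L201204 : sm gb N18652 = N18226 := ded_20_1 (flp_f L197055) (flp_b L195831) L201200
theorem L201206 : sm gd N18652 = N18468 := ded_31_1 (flp_f L199384) (flp_d L195837) L201200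
theorem L201208 : sm gi N18652 = N18092 := ded_41_2 (flp_f L195849) (flp_i L195835) L201200
theorem L201210 : sm ge N18652 = N18495 := ded_35_1 (flp_f L199669) (flp_e L194191) (flp_f L190239) L195827 L201200
theorem L201212 : sm gd N18091 = N18653 := rfl
theorem L201214 : sm ga N18653 = N18104 := ded_11_1 (flp_d L195973) (flp_a L195841) L201212
theorem L201216 : sm gg N18653 = N18295 := ded_32_2 (flp_d L197631) (flp_g L195845) L201212
theorem L201218 : sm gc N18653 = N18642 := ded_24_1 (flp_d L201089) L195708 (flp_d L190264) (flp_c L195843) L201212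
theorem L201220 : sm ge N18653 = N18653 := ded_30_2 (flp_d L201212) (flp_e L195839) L190253 L195839 L201212
theorem L201221 : sm gf N18091 = N18654 := rfl
theorem L201223 : sm ga N18654 = N18105 := ded_13_1 (flp_f L195978) (flp_a L195841) L201221
theorem L201225 : sm gc N18654 = N18092 := ded_26_1 (flp_f L195849) (flp_c L195843) L201221
theorem L201227 : sm gh N18654 = N18093 := ded_40_2 (flp_f L195859) (flp_h L195847) L201221
theorem L201229 : sm gg N18092 = N18655 := rfl
theorem L201231 : sm ga N18655 = N18106 := ded_14_1 (flp_g L195986) (flp_a L195851) L201229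
theorem L201233 : sm gb N18655 = N18229 := ded_21_1 (flp_g L197083) (flp_b L195853) L201229
theorem L201235 : sm gd N18655 = N18644 := ded_32_1 (flp_g L201108) (flp_d L195855) L201229
theorem L201237 : sm gh N18655 = N18094 := ded_42_2 (flp_g L195867) (flp_h L195857) L201229
theorem L201239 : sm gf N18655 = N18297 := ded_39_1 (flp_g L197642) (flp_f L192076) (flp_g L190260) L195849 L201229
theorem L201241 : sm gg N18093 = N18656 := rfl
theorem L201243 : sm ga N18656 = N18109 := ded_14_1 (flp_g L196008) (flp_a L195861) L201241
theorem L201245 : sm gc N18656 = N18094 := ded_27_1 (flp_g L195867) (flp_c L195863) L201241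
theorem L201247 : sm gi N18656 = N18387 := ded_43_2 (flp_g L198371) (flp_i L195865) L201241
theorem L201249 : sm gf N18656 = N18301 := ded_39_1 (flp_g L197668) (flp_f L192096) (flp_g L190272) L195859 L201241
theorem L201251 : sm ge N18096 = N18657 := rfl
theorem L201253 : sm ga N18657 = N18498 := ded_12_1 (flp_e L199702) (flp_a L195889) L201251
theorem L201255 : sm gb N18657 = N18543 := ded_19_1 (flp_e L200170) (flp_b L195897) L201251
theorem L201257 : sm gc N18657 = N18097 := ded_25_1 (flp_e L195900) L195887 L201251
theorem L201259 : sm gh N18657 = N18366 := ded_37_2 L198215 (flp_h L195893) L201251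
theorem L201261 : sm gi N18657 = N18423 := ded_38_2 (flp_e L198823) (flp_i L195895) L201251
theorem L201263 : sm gf N18097 = N18658 := rfl
theorem L201265 : sm ga N18658 = N18499 := ded_13_1 (flp_f L199712) (flp_a L195902) L201263
theorem L201267 : sm gb N18658 = N18113 := ded_20_1 (flp_f L196028) (flp_b L195904) L201263
theorem L201269 : sm gd N18658 = N18101 := ded_31_1 (flp_f L195949) (flp_d L195910) L201263
theorem L201271 : sm gh N18658 = N18450 := ded_40_2 (flp_f L199162) (flp_h L195906) L201263
theorem L201273 : sm gi N18658 = N18424 := ded_41_2 (flp_f L198835) (flp_i L195908) L201263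
theorem L201275 : sm ge N18658 = N18426 := ded_35_1 (flp_f L198857) (flp_e L193263) (flp_f L190308) L195900 L201263
theorem L201277 : sm ge N18098 = N18659 := rfl
theorem L201279 : sm ga N18659 = N18494 := ded_12_1 (flp_e L199661) (flp_a L195914) L201277
theorem L201281 : sm gb N18659 = N18350 := ded_19_1 (flp_e L198091) (flp_b L195924) L201277
theorem L201283 : sm gc N18659 = N18099 := ded_25_1 (flp_e L195927) L195912 L201277
theorem L201285 : sm gg N18659 = N18657 := ded_36_2 (flp_e L201251) (flp_g L195918) L201277
theorem L201287 : sm gh N18659 = N18365 := ded_37_2 (flp_e L198191) (flp_h L195920) L201277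
theorem L201289 : sm gi N18659 = N18100 := ded_38_2 (flp_e L195941) (flp_i L195922) L201277
theorem L201291 : sm gf N18099 = N18660 := rfl
theorem L201293 : sm ga N18660 = N18495 := ded_13_1 (flp_f L199669) (flp_a L195929) L201291
theorem L201295 : sm gb N18660 = N18115 := ded_20_1 (flp_f L196042) (flp_b L195931) L201291
theorem L201297 : sm gd N18660 = N18424 := ded_31_1 (flp_f L198835) (flp_d L195939) L201291
theorem L201299 : sm gh N18660 = N18634 := ded_40_2 (flp_f L201006) (flp_h L195935) L201291
theorem L201301 : sm gi N18660 = N18101 := ded_41_2 (flp_f L195949) (flp_i L195937) L201291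
theorem L201303 : sm ge N18660 = N18103 := ded_35_1 (flp_f L195967) (flp_e L190352) (flp_f L190320) L195927 L201291
theorem L201305 : sm gd N18100 = N18661 := rfl
theorem L201307 : sm gb N18661 = N18352 := ded_18_1 (flp_d L198107) (flp_b L195943) L201305
theorem L201309 : sm ge N18661 = N18661 := ded_30_2 (flp_d L201305) (flp_e L195941) L190336 L195941 L201305
theorem L201310 : sm gf N18100 = N18662 := rfl
theorem L201312 : sm gb N18662 = N18353 := ded_20_1 (flp_f L198110) (flp_b L195943) L201310
theorem L201314 : sm gc N18662 = N18101 := ded_26_1 (flp_f L195949) (flp_c L195945) L201310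
theorem L201316 : sm gh N18662 = N18107 := ded_40_2 (flp_f L195992) (flp_h L195947) L201310
theorem L201318 : sm ge N18662 = N18105 := ded_35_1 (flp_f L195978) (flp_e L190358) (flp_f L190330) L195941 L201310
theorem L201320 : sm gg N18101 = N18663 := rfl
theorem L201322 : sm gb N18663 = N18117 := ded_21_1 (flp_g L196066) (flp_b L195951) L201320
theorem L201324 : sm ge N18663 = N18106 := ded_36_1 (flp_g L195986) (flp_e L195955) L201320
theorem L201326 : sm gh N18663 = N18108 := ded_42_2 (flp_g L196002) (flp_h L195953) L201320
theorem L201328 : sm gd N18102 = N18664 := rfl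
theorem L201330 : sm gb N18664 = N18355 := ded_18_1 (flp_d L198124) (flp_b L195959) L201328
theorem L201332 : sm gi N18664 = N18104 := ded_34_2 (flp_d L195973) (flp_i L195965) L201328
theorem L201334 : sm ge N18664 = N18664 := ded_30_2 (flp_d L201328) (flp_e L195957) L190351 L195957 L201328
theorem L201335 : sm gf N18102 = N18665 := rfl
theorem L201337 : sm gb N18665 = N18356 := ded_20_1 (flp_f L198129) (flp_b L195959) L201335
theorem L201339 : sm gc N18665 = N18103 := ded_26_1 (flp_f L195967) (flp_c L195961) L201335
theorem L201341 : sm gh N18665 = N18374 := ded_40_2 (flp_f L198281) (flp_h L195963) L201335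
theorem L201343 : sm gi N18665 = N18105 := ded_41_2 (flp_f L195978) (flp_i L195965) L201335
theorem L201345 : sm gg N18103 = N18666 := rfl
theorem L201347 : sm gb N18666 = N18120 := ded_21_1 (flp_g L196098) (flp_b L195969) L201345
theorem L201349 : sm gi N18666 = N18106 := ded_43_2 (flp_g L195986) (flp_i L195971) L201345
theorem L201351 : sm gf N18104 = N18667 := rfl
theorem L201353 : sm gb N18667 = N18358 := ded_20_1 (flp_f L198143) (flp_b L195975) L201351
theorem L201355 : sm gd N18667 = N18105 := ded_31_1 (flp_f L195978) L195973 L201351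
theorem L201357 : sm gg N18105 = N18668 := rfl
theorem L201359 : sm gb N18668 = N18359 := ded_21_1 (flp_g L198147) (flp_b L195980) L201357
theorem L201361 : sm gc N18668 = N18106 := ded_27_1 (flp_g L195986) (flp_c L195982) L201357
theorem L201363 : sm gh N18668 = N18109 := ded_42_2 (flp_g L196008) (flp_h L195984) L201357
theorem L201365 : sm gg N18107 = N18669 := rfl
theorem L201367 : sm gb N18669 = N18360 := ded_21_1 (flp_g L198153) (flp_b L195994) L201365
theorem L201369 : sm gc N18669 = N18108 := ded_27_1 (flp_g L196002) (flp_c L195996) L201365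
theorem L201371 : sm ge N18669 = N18109 := ded_36_1 (flp_g L196008) (flp_e L196000) L201365
theorem L201373 : sm gi N18669 = N18384 := ded_43_2 (flp_g L198345) (flp_i L195998) L201365
theorem L201375 : sm gh N18110 = N18670 := rfl
theorem L201377 : sm gg N18670 = N18111 := ded_42_1 (flp_h L196020) L196016 L201375
theorem L201379 : sm gi N18111 = N18671 := rfl
theorem L201381 : sm gf N18671 = N18112 := ded_41_1 (flp_i L196024) (flp_f L196022) L201379
theorem L201383 : sm gg N18113 = N18672 := rfl
theorem L201385 : sm ga N18672 = N18251 := ded_14_1 (flp_g L197281) (flp_a L196030) L201383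
theorem L201387 : sm gd N18672 = N18117 := ded_32_1 (flp_g L196066) (flp_d L196032) L201383
theorem L201389 : sm gg N18114 = N18673 := rfl
theorem L201391 : sm ga N18673 = N18252 := ded_14_1 (flp_g L197285) (flp_a L196036) L201389
theorem L201393 : sm gh N18673 = N18123 := ded_42_2 (flp_g L196128) (flp_h L196038) L201389
theorem L201395 : sm gi N18673 = N18672 := ded_43_2 (flp_g L201383) (flp_i L196040) L201389
theorem L201397 : sm gf N18673 = N18117 := ded_39_1 (flp_g L196066) (flp_f L190450) (flp_g L190422) L196034 L201389
theorem L201399 : sm gg N18115 = N18674 := rfl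
theorem L201401 : sm ga N18674 = N18253 := ded_14_1 (flp_g L197293) (flp_a L196044) L201399
theorem L201403 : sm gd N18674 = N18673 := ded_32_1 (flp_g L201389) (flp_d L196046) L201399
theorem L201405 : sm ge N18674 = N18120 := ded_36_1 (flp_g L196098) (flp_e L196050) L201399
theorem L201407 : sm gi N18674 = N18117 := ded_43_2 (flp_g L196066) (flp_i L196048) L201399
theorem L201409 : sm gf N18674 = N18672 := ded_39_1 (flp_g L201383) (flp_f L196028) (flp_g L190432) L196042 L201399
theorem L201411 : sm gg N18116 = N18675 := rfl
theorem L201413 : sm ga N18675 = N18254 := ded_14_1 (flp_g L197303) (flp_a L196054) L201411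
theorem L201415 : sm gb N18675 = N18354 := ded_21_1 (flp_g L198118) (flp_b L196056) L201411
theorem L201417 : sm gc N18675 = N18117 := ded_27_1 (flp_g L196066) (flp_c L196058) L201411
theorem L201419 : sm gd N18675 = N18601 := ded_32_1 (flp_g L200700) (flp_d L196060) L201411
theorem L201421 : sm ge N18675 = N18122 := ded_36_1 (flp_g L196116) (flp_e L196064) L201411
theorem L201423 : sm gh N18675 = N18124 := ded_42_2 (flp_g L196134) (flp_h L196062) L201411
theorem L201425 : sm gf N18118 = N18676 := rfl
theorem L201427 : sm ga N18676 = N18156 := ded_13_1 (flp_f L196449) (flp_a L196076) L201425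
theorem L201429 : sm gb N18676 = N18332 := ded_20_1 (flp_f L197937) (flp_b L196078) L201425
theorem L201431 : sm gd N18676 = N18119 := ded_31_1 (flp_f L196086) L196074 L201425
theorem L201433 : sm gi N18676 = N18121 := ded_41_2 (flp_f L196104) (flp_i L196082) L201425
theorem L201435 : sm ge N18676 = N18148 := ded_35_1 (flp_f L196367) (flp_e L190824) (flp_f L190548) (flp_e L196084) L201425
theorem L201437 : sm gg N18119 = N18677 := rfl
theorem L201439 : sm ga N18677 = N18255 := ded_14_1 (flp_g L197315) (flp_a L196088) L201437
theorem L201441 : sm gb N18677 = N18357 := ded_21_1 (flp_g L198137) (flp_b L196090) L201437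
theorem L201443 : sm gc N18677 = N18120 := ded_27_1 (flp_g L196098) (flp_c L196092) L201437
theorem L201445 : sm gh N18677 = N18217 := ded_42_2 (flp_g L196959) (flp_h L196094) L201437
theorem L201447 : sm gi N18677 = N18122 := ded_43_2 (flp_g L196116) (flp_i L196096) L201437
theorem L201449 : sm gf N18677 = N18210 := ded_39_1 (flp_g L196901) (flp_f L191282) (flp_g L190466) L196086 L201437
theorem L201451 : sm gg N18121 = N18678 := rfl
theorem L201453 : sm ga N18678 = N18257 := ded_14_1 (flp_g L197329) (flp_a L196106) L201451
theorem L201455 : sm gb N18678 = N18337 := ded_21_1 (flp_g L197971) (flp_b L196108) L201451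
theorem L201457 : sm gd N18678 = N18122 := ded_32_1 (flp_g L196116) (flp_d L196110) L201451
theorem L201459 : sm ge N18678 = N18605 := ded_36_1 (flp_g L200741) (flp_e L196114) L201451
theorem L201461 : sm gh N18678 = N18146 := ded_42_2 (flp_g L196349) (flp_h L196112) L201451
theorem L201463 : sm gf N18678 = N18173 := ded_39_1 (flp_g L196597) (flp_f L190997) (flp_g L190484) L196104 L201451
theorem L201465 : sm gg N18127 = N18679 := rfl
theorem L201467 : sm ga N18679 = N18536 := ded_14_1 (flp_g L200088) (flp_a L196170) L201465
theorem L201469 : sm gc N18679 = N18128 := ded_27_1 (flp_g L196180) (flp_c L196172) L201465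
theorem L201471 : sm gd N18679 = N18183 := ded_32_1 (flp_g L196661) (flp_d L196174) L201465
theorem L201473 : sm gh N18679 = N18440 := ded_42_2 (flp_g L199026) (flp_h L196176) L201465
theorem L201475 : sm gi N18679 = N18479 := ded_43_2 (flp_g L199491) (flp_i L196178) L201465
theorem L201477 : sm gf N18679 = N18456 := ded_39_1 (flp_g L199224) (flp_f L193670) (flp_g L190600) L196168 L201465
theorem L201479 : sm gd N18129 = N18680 := rfl
theorem L201481 : sm gi N18680 = N18638 := ded_34_2 (flp_d L201054) (flp_i L196198) L201479
theorem L201483 : sm ge N18680 = N18680 := ded_30_2 (flp_d L201479) (flp_e L196192) L190644 L196192 L201479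
theorem L201484 : sm gf N18129 = N18681 := rfl
theorem L201486 : sm gc N18681 = N18130 := ded_26_1 (flp_f L196200) (flp_c L196194) L201484
theorem L201488 : sm gh N18681 = N18136 := ded_40_2 (flp_f L196257) (flp_h L196196) L201484
theorem L201490 : sm gi N18681 = N18639 := ded_41_2 (flp_f L201063) (flp_i L196198) L201484
theorem L201492 : sm ge N18681 = N18134 := ded_35_1 (flp_f L196243) (flp_e L190682) (flp_f L190638) L196192 L201484
theorem L201494 : sm gg N18130 = N18682 := rfl
theorem L201496 : sm gb N18682 = N18141 := ded_21_1 (flp_g L196299) (flp_b L196202) L201494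
theorem L201498 : sm ge N18682 = N18135 := ded_36_1 (flp_g L196249) (flp_e L196208) L201494
theorem L201500 : sm gh N18682 = N18137 := ded_42_2 (flp_g L196263) (flp_h L196204) L201494
theorem L201502 : sm gi N18682 = N18640 := ded_43_2 (flp_g L201071) (flp_i L196206) L201494
theorem L201504 : sm gd N18131 = N18683 := rfl
theorem L201506 : sm ga N18683 = N18680 := ded_11_1 (flp_d L201479) (flp_a L196212) L201504
theorem L201508 : sm gb N18683 = N18608 := ded_18_1 (flp_d L200775) (flp_b L196214) L201504
theorem L201510 : sm gg N18683 = N18395 := ded_32_2 (flp_d L198463) (flp_g L196218) L201504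
theorem L201512 : sm gi N18683 = N18133 := ded_34_2 (flp_d L196238) (flp_i L196222) L201504
theorem L201514 : sm gc N18683 = N18560 := ded_24_1 (flp_d L200336) L194854 (flp_d L190680) (flp_c L196216) L201504
theorem L201516 : sm ge N18683 = N18683 := ded_30_2 (flp_d L201504) (flp_e L196210) L190667 L196210 L201504
theorem L201517 : sm gh N18683 = N18501 := ded_33_2 (flp_d L199734) L194247 (flp_d L193062) (flp_h L196220) L201504
theorem L201519 : sm gf N18131 = N18684 := rfl
theorem L201521 : sm ga N18684 = N18681 := ded_13_1 (flp_f L201484) (flp_a L196212) L201519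
theorem L201523 : sm gb N18684 = N18609 := ded_20_1 (flp_f L200784) (flp_b L196214) L201519
theorem L201525 : sm gc N18684 = N18132 := ded_26_1 (flp_f L196224) (flp_c L196216) L201519
theorem L201527 : sm gh N18684 = N18410 := ded_40_2 (flp_f L198643) (flp_h L196220) L201519
theorem L201529 : sm gi N18684 = N18134 := ded_41_2 (flp_f L196243) (flp_i L196222) L201519
theorem L201531 : sm ge N18684 = N18639 := ded_35_1 (flp_f L201063) (flp_e L195670) (flp_f L190657) L196210 L201519
theorem L201533 : sm gg N18132 = N18685 := rfl
theorem L201535 : sm ga N18685 = N18682 := ded_14_1 (flp_g L201494) (flp_a L196226) L201533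
theorem L201537 : sm gb N18685 = N18142 := ded_21_1 (flp_g L196305) (flp_b L196228) L201533
theorem L201539 : sm gd N18685 = N18562 := ded_32_1 (flp_g L200347) (flp_d L196230) L201533
theorem L201541 : sm ge N18685 = N18640 := ded_36_1 (flp_g L201071) (flp_e L196236) L201533
theorem L201543 : sm gh N18685 = N18411 := ded_42_2 (flp_g L198657) (flp_h L196232) L201533
theorem L201545 : sm gi N18685 = N18135 := ded_43_2 (flp_g L196249) (flp_i L196234) L201533
theorem L201547 : sm gf N18685 = N18397 := ded_39_1 (flp_g L198478) (flp_f L192898) (flp_g L190674) L196224 L201533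
theorem L201549 : sm gf N18133 = N18686 := rfl
theorem L201551 : sm gc N18686 = N18565 := ded_26_1 (flp_f L200368) (flp_c L196240) L201549
theorem L201553 : sm gd N18686 = N18134 := ded_31_1 (flp_f L196243) L196238 L201549
theorem L201555 : sm gg N18134 = N18687 := rfl
theorem L201557 : sm gc N18687 = N18135 := ded_27_1 (flp_g L196249) (flp_c L196245) L201555
theorem L201559 : sm gh N18687 = N18138 := ded_42_2 (flp_g L196271) (flp_h L196247) L201555
theorem L201561 : sm gg N18136 = N18688 := rfl
theorem L201563 : sm gc N18688 = N18137 := ded_27_1 (flp_g L196263) (flp_c L196259) L201561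
theorem L201565 : sm ge N18688 = N18138 := ded_36_1 (flp_g L196271) (flp_e L196261) L201561
theorem L201567 : sm gg N18139 = N18689 := rfl
theorem L201569 : sm gc N18689 = N18672 := ded_27_1 (flp_g L201383) (flp_c L196277) L201567
theorem L201571 : sm gd N18689 = N18141 := ded_32_1 (flp_g L196299) (flp_d L196279) L201567
theorem L201573 : sm ge N18689 = N18573 := ded_36_1 (flp_g L200448) (flp_e L196283) L201567
theorem L201575 : sm gh N18689 = N18362 := ded_42_2 (flp_g L198173) (flp_h L196281) L201567
theorem L201577 : sm gg N18140 = N18690 := rfl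
theorem L201579 : sm ga N18690 = N18461 := ded_14_1 (flp_g L199286) (flp_a L196287) L201577
theorem L201581 : sm gb N18690 = N18640 := ded_21_1 (flp_g L201071) (flp_b L196289) L201577
theorem L201583 : sm gc N18690 = N18464 := ded_27_1 (flp_g L199332) (flp_c L196291) L201577
theorem L201585 : sm ge N18690 = N18142 := ded_36_1 (flp_g L196305) (flp_e L196297) L201577
theorem L201587 : sm gh N18690 = N18409 := ded_42_2 (flp_g L198627) (flp_h L196293) L201577
theorem L201589 : sm gi N18690 = N18141 := ded_43_2 (flp_g L196299) (flp_i L196295) L201577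
theorem L201591 : sm gf N18690 = N18601 := ded_39_1 (flp_g L200700) (flp_f L195270) (flp_g L190734) L196285 L201577
theorem L201593 : sm ge N18143 = N18691 := rfl
theorem L201595 : sm ga N18691 = N18144 := ded_12_1 (flp_e L196329) L196317 L201593
theorem L201597 : sm gb N18691 = N18586 := ded_19_1 L200556 (flp_b L196327) L201593
theorem L201599 : sm gc N18691 = N18345 := ded_25_1 (flp_e L198049) (flp_c L196319) L201593
theorem L201601 : sm gg N18691 = N18181 := ded_36_2 (flp_e L196653) (flp_g L196325) L201593
theorem L201603 : sm gd N18691 = N18454 := ded_30_1 (flp_e L199202) L193650 (flp_e L190806) (flp_d L196321) L201593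
theorem L201605 : sm gf N18144 = N18692 := rfl
theorem L201607 : sm gb N18692 = N18145 := ded_20_1 (flp_f L196339) (flp_b L196331) L201605
theorem L201609 : sm gc N18692 = N18346 := ded_26_1 (flp_f L198055) (flp_c L196333) L201605
theorem L201611 : sm gd N18692 = N18455 := ded_31_1 (flp_f L199214) (flp_d L196337) L201605
theorem L201613 : sm ge N18692 = N18380 := ded_35_1 (flp_f L198321) L192720 (flp_f L190772) L196329 L201605
theorem L201615 : sm gg N18145 = N18693 := rfl
theorem L201617 : sm ga N18693 = N18591 := ded_14_1 (flp_g L200590) (flp_a L196341) L201615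
theorem L201619 : sm gc N18693 = N18146 := ded_27_1 (flp_g L196349) (flp_c L196343) L201615
theorem L201621 : sm gd N18693 = N18456 := ded_32_1 (flp_g L199224) (flp_d L196345) L201615
theorem L201623 : sm ge N18693 = N18382 := ded_36_1 (flp_g L198333) (flp_e L196347) L201615
theorem L201625 : sm gf N18693 = N18183 := ded_39_1 (flp_g L196661) (flp_f L191045) (flp_g L190784) L196339 L201615
theorem L201627 : sm gf N18147 = N18694 := rfl
theorem L201629 : sm ga N18694 = N18155 := ded_13_1 (flp_f L196441) (flp_a L196359) L201627
theorem L201631 : sm gd N18694 = N18188 := ded_31_1 (flp_f L196713) (flp_d L196365) L201627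
theorem L201633 : sm gh N18694 = N18148 := ded_40_2 (flp_f L196367) (flp_h L196363) L201627
theorem L201635 : sm gg N18148 = N18695 := rfl
theorem L201637 : sm ga N18695 = N18160 := ded_14_1 (flp_g L196485) (flp_a L196369) L201635
theorem L201639 : sm gd N18695 = N18149 := ded_32_1 (flp_g L196375) (flp_d L196371) L201635
theorem L201641 : sm gi N18695 = N18605 := ded_43_2 (flp_g L200741) (flp_i L196373) L201635
theorem L201643 : sm gf N18695 = N18275 := ded_39_1 (flp_g L197480) (flp_f L191933) (flp_g L190828) L196367 L201635
theorem L201645 : sm gf N18150 = N18696 := rfl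
theorem L201647 : sm gb N18696 = N18166 := ded_20_1 (flp_f L196553) (flp_b L196389) L201645
theorem L201649 : sm gh N18696 = N18156 := ded_40_2 (flp_f L196449) (flp_h L196393) L201645
theorem L201651 : sm gi N18696 = N18694 := ded_41_2 (flp_f L201627) (flp_i L196395) L201645
theorem L201653 : sm ge N18696 = N18155 := ded_35_1 (flp_f L196441) (flp_e L190877) (flp_f L190848) L196387 L201645
theorem L201655 : sm gb N18151 = N18697 := rfl
theorem L201657 : sm gd N18697 = N18697 := ded_18_2 (flp_b L201655) L196409 L201655
theorem L201658 : sm gf N18697 = N18596 := ded_20_2 L200639 (flp_f L196401) L201655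
theorem L201660 : sm gg N18697 = N18330 := ded_21_2 (flp_b L197920) (flp_g L196403) L201655
theorem L201662 : sm gh N18697 = N18324 := ded_22_2 L197864 (flp_h L196405) L201655
theorem L201664 : sm gi N18697 = N18153 := ded_23_2 (flp_b L196424) (flp_i L196407) L201655
theorem L201666 : sm gc N18697 = N18167 := ded_17_2 (flp_b L196559) (flp_c L190973) (flp_b L190860) L196397 L201655
theorem L201668 : sm ge N18151 = N18698 := rfl
theorem L201670 : sm ga N18698 = N18376 := ded_12_1 L198301 (flp_a L196399) L201668
theorem L201672 : sm gc N18698 = N18152 := ded_25_1 (flp_e L196410) L196397 L201668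
theorem L201674 : sm gg N18698 = N18331 := ded_36_2 (flp_e L197929) (flp_g L196403) L201668
theorem L201676 : sm gh N18698 = N18313 := ded_37_2 L197774 (flp_h L196405) L201668
theorem L201678 : sm gi N18698 = N18154 := ded_38_2 (flp_e L196433) (flp_i L196407) L201668
theorem L201680 : sm gf N18152 = N18699 := rfl
theorem L201682 : sm ga N18699 = N18696 := ded_13_1 (flp_f L201645) (flp_a L196412) L201680
theorem L201684 : sm gb N18699 = N18169 := ded_20_1 (flp_f L196571) (flp_b L196414) L201680
theorem L201686 : sm gd N18699 = N18198 := ded_31_1 (flp_f L196812) (flp_d L196422) L201680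
theorem L201688 : sm gh N18699 = N18676 := ded_40_2 (flp_f L201425) (flp_h L196418) L201680
theorem L201690 : sm gi N18699 = N18155 := ded_41_2 (flp_f L196441) (flp_i L196420) L201680
theorem L201692 : sm ge N18699 = N18694 := ded_35_1 (flp_f L201627) (flp_e L196357) (flp_f L190862) L196410 L201680
theorem L201694 : sm ga N18153 = N18700 := rfl
theorem L201696 : sm gc N18700 = N18170 := ded_10_2 (flp_a L196577) (flp_c L196431) L201694
theorem L201698 : sm gd N18700 = N18700 := ded_11_2 (flp_a L201694) L196426 L201694
theorem L201699 : sm gg N18700 = N18333 := ded_14_2 (flp_a L197945) (flp_g L196427) L201694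
theorem L201701 : sm gh N18700 = N18157 := ded_15_2 (flp_a L196459) (flp_h L196429) L201694
theorem L201703 : sm ge N18153 = N18701 := rfl
theorem L201705 : sm gb N18701 = N18154 := ded_19_1 (flp_e L196433) L196424 L201703
theorem L201707 : sm gc N18701 = N18171 := ded_25_1 (flp_e L196585) (flp_c L196431) L201703
theorem L201709 : sm gg N18701 = N18334 := ded_36_2 (flp_e L197952) (flp_g L196427) L201703
theorem L201711 : sm gh N18701 = N18158 := ded_37_2 (flp_e L196469) (flp_h L196429) L201703
theorem L201713 : sm gd N18154 = N18702 := rfl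
theorem L201715 : sm gg N18702 = N18335 := ded_32_2 (flp_d L197960) (flp_g L196437) L201713
theorem L201717 : sm gc N18702 = N18199 := ded_24_1 (flp_d L196820) L191198 (flp_d L190885) (flp_c L196435) L201713
theorem L201719 : sm ge N18702 = N18702 := ded_30_2 (flp_d L201713) (flp_e L196433) L190876 L196433 L201713
theorem L201720 : sm gf N18154 = N18703 := rfl
theorem L201722 : sm gc N18703 = N18155 := ded_26_1 (flp_f L196441) (flp_c L196435) L201720
theorem L201724 : sm gh N18703 = N18159 := ded_40_2 (flp_f L196479) (flp_h L196439) L201720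
theorem L201726 : sm gg N18155 = N18704 := rfl
theorem L201728 : sm gb N18704 = N18173 := ded_21_1 (flp_g L196597) (flp_b L196443) L201726
theorem L201730 : sm gd N18704 = N18201 := ded_32_1 (flp_g L196831) (flp_d L196445) L201726
theorem L201732 : sm gh N18704 = N18160 := ded_42_2 (flp_g L196485) (flp_h L196447) L201726
theorem L201734 : sm gf N18704 = N18337 := ded_39_1 (flp_g L197971) (flp_f L192384) (flp_g L190881) L196441 L201726
theorem L201736 : sm gg N18156 = N18705 := rfl
theorem L201738 : sm gb N18705 = N18180 := ded_21_1 (flp_g L196649) (flp_b L196451) L201736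
theorem L201740 : sm gd N18705 = N18255 := ded_32_1 (flp_g L197315) (flp_d L196453) L201736
theorem L201742 : sm ge N18705 = N18160 := ded_36_1 (flp_g L196485) (flp_e L196457) L201736
theorem L201744 : sm gi N18705 = N18257 := ded_43_2 (flp_g L197329) (flp_i L196455) L201736
theorem L201746 : sm ge N18157 = N18706 := rfl
theorem L201748 : sm ga N18706 = N18158 := ded_12_1 (flp_e L196469) L196459 L201746
theorem L201750 : sm gc N18706 = N18181 := ded_25_1 (flp_e L196653) (flp_c L196461) L201746
theorem L201752 : sm gg N18706 = N18345 := ded_36_2 (flp_e L198049) (flp_g L196465) L201746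
theorem L201754 : sm gi N18706 = N18691 := ded_38_2 (flp_e L201593) (flp_i L196467) L201746
theorem L201756 : sm gf N18158 = N18707 := rfl
theorem L201758 : sm gb N18707 = N18159 := ded_20_1 (flp_f L196479) (flp_b L196471) L201756
theorem L201760 : sm gc N18707 = N18182 := ded_26_1 (flp_f L196657) (flp_c L196473) L201756
theorem L201762 : sm gi N18707 = N18692 := ded_41_2 (flp_f L201605) (flp_i L196477) L201756
theorem L201764 : sm gg N18159 = N18708 := rfl
theorem L201766 : sm gc N18708 = N18160 := ded_27_1 (flp_g L196485) (flp_c L196481) L201764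
theorem L201768 : sm gi N18708 = N18693 := ded_43_2 (flp_g L201615) (flp_i L196483) L201764
theorem L201770 : sm gf N18708 = N18347 := ded_39_1 (flp_g L198061) (flp_f L192452) (flp_g L190909) L196479 L201764
theorem L201772 : sm gf N18161 = N18709 := rfl
theorem L201774 : sm ga N18709 = N18473 := ded_13_1 (flp_f L199425) (flp_a L196497) L201772
theorem L201776 : sm gd N18709 = N18166 := ded_31_1 (flp_f L196553) (flp_d L196505) L201772
theorem L201778 : sm gh N18709 = N18652 := ded_40_2 (flp_f L201200) (flp_h L196501) L201772
theorem L201780 : sm gi N18709 = N18529 := ded_41_2 (flp_f L200018) (flp_i L196503) L201772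
theorem L201782 : sm ge N18709 = N18206 := ded_35_1 (flp_f L196871) (flp_e L191248) (flp_f L190935) L196495 L201772
theorem L201784 : sm gb N18162 = N18710 := rfl
theorem L201786 : sm gd N18710 = N18258 := ded_18_2 (flp_b L197335) (flp_d L196519) L201784
theorem L201788 : sm gf N18710 = N18167 := ded_20_2 (flp_b L196559) (flp_f L196511) L201784
theorem L201790 : sm gg N18710 = N18269 := ded_21_2 (flp_b L197422) (flp_g L196513) L201784
theorem L201792 : sm gh N18710 = N18595 := ded_22_2 L200634 (flp_h L196515) L201784
theorem L201794 : sm gi N18710 = N18164 := ded_23_2 (flp_b L196535) (flp_i L196517) L201784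
theorem L201796 : sm gc N18710 = N18596 := ded_17_2 L200639 L195147 (flp_b L190947) L196507 L201784
theorem L201798 : sm ge N18162 = N18711 := rfl
theorem L201800 : sm ga N18711 = N18338 := ded_12_1 (flp_e L197977) (flp_a L196509) L201798
theorem L201802 : sm gc N18711 = N18163 := ded_25_1 (flp_e L196521) L196507 L201798
theorem L201804 : sm gg N18711 = N18270 := ded_36_2 (flp_e L197434) (flp_g L196513) L201798
theorem L201806 : sm gh N18711 = N18606 := ded_37_2 (flp_e L200753) (flp_h L196515) L201798
theorem L201808 : sm gi N18711 = N18165 := ded_38_2 (flp_e L196545) (flp_i L196517) L201798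
theorem L201810 : sm gf N18163 = N18712 := rfl
theorem L201812 : sm ga N18712 = N18339 := ded_13_1 (flp_f L197987) (flp_a L196523) L201810
theorem L201814 : sm gb N18712 = N18694 := ded_20_1 (flp_f L201627) (flp_b L196525) L201810
theorem L201816 : sm gd N18712 = N18529 := ded_31_1 (flp_f L200018) (flp_d L196533) L201810
theorem L201818 : sm gh N18712 = N18607 := ded_40_2 (flp_f L200763) (flp_h L196529) L201810
theorem L201820 : sm gi N18712 = N18166 := ded_41_2 (flp_f L196553) (flp_i L196531) L201810
theorem L201822 : sm ge N18712 = N18169 := ded_35_1 (flp_f L196571) (flp_e L190979) (flp_f L190949) L196521 L201810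
theorem L201824 : sm ge N18164 = N18713 := rfl
theorem L201826 : sm gb N18713 = N18165 := ded_19_1 (flp_e L196545) L196535 L201824
theorem L201828 : sm gg N18713 = N18623 := ded_36_2 (flp_e L200908) (flp_g L196541) L201824
theorem L201830 : sm gh N18713 = N18177 := ded_37_2 (flp_e L196629) (flp_h L196543) L201824
theorem L201832 : sm gd N18165 = N18714 := rfl
theorem L201834 : sm ga N18714 = N18177 := ded_11_1 L196633 L196605 L201832
theorem L201836 : sm gg N18714 = N18624 := ded_32_2 (flp_d L200914) (flp_g L196549) L201832
theorem L201838 : sm ge N18714 = N18176 := ded_30_2 L196623 L191057 (flp_d L190965) L196545 L201832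
theorem L201840 : sm gf N18165 = N18715 := rfl
theorem L201842 : sm gc N18715 = N18166 := ded_26_1 (flp_f L196553) (flp_c L196547) L201840
theorem L201844 : sm gh N18715 = N18179 := ded_40_2 (flp_f L196643) (flp_h L196551) L201840
theorem L201846 : sm ge N18715 = N18172 := ded_35_1 (flp_f L196591) (flp_e L190991) (flp_f L190959) L196545 L201840
theorem L201848 : sm gg N18166 = N18716 := rfl
theorem L201850 : sm ge N18716 = N18173 := ded_36_1 (flp_g L196597) (flp_e L196557) L201848
theorem L201852 : sm gh N18716 = N18180 := ded_42_2 (flp_g L196649) (flp_h L196555) L201848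
theorem L201854 : sm gf N18716 = N18626 := ded_39_1 (flp_g L200928) (flp_f L195460) (flp_g L190969) L196553 L201848
theorem L201856 : sm ga N18167 = N18717 := rfl
theorem L201858 : sm gd N18717 = N18259 := ded_11_2 (flp_a L197345) (flp_d L196561) L201856
theorem L201860 : sm gi N18717 = N18170 := ded_16_2 (flp_a L196577) (flp_i L196563) L201856
theorem L201862 : sm gb N18717 = N18408 := ded_9_2 L198617 L193971 L191768 L196559 L201856
theorem L201864 : sm ge N18167 = N18718 := rfl
theorem L201866 : sm gb N18718 = N18168 := ded_19_1 (flp_e L196565) L196559 L201864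
theorem L201868 : sm gi N18718 = N18171 := ded_38_2 (flp_e L196585) (flp_i L196563) L201864
theorem L201870 : sm gf N18168 = N18719 := rfl
theorem L201872 : sm gc N18719 = N18169 := ded_26_1 (flp_f L196571) (flp_c L196567) L201870
theorem L201874 : sm gi N18719 = N18172 := ded_41_2 (flp_f L196591) (flp_i L196569) L201870
theorem L201876 : sm gg N18169 = N18720 := rfl
theorem L201878 : sm gd N18720 = N18210 := ded_32_1 (flp_g L196901) (flp_d L196573) L201876
theorem L201880 : sm gi N18720 = N18173 := ded_43_2 (flp_g L196597) (flp_i L196575) L201876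
theorem L201882 : sm ge N18170 = N18721 := rfl
theorem L201884 : sm ga N18721 = N18171 := ded_12_1 (flp_e L196585) L196577 L201882
theorem L201886 : sm gb N18721 = N18531 := ded_19_1 L200048 (flp_b L196583) L201882
theorem L201888 : sm gh N18721 = N18181 := ded_37_2 (flp_e L196653) (flp_h L196581) L201882
theorem L201890 : sm gd N18721 = N18530 := ded_30_1 (flp_e L200030) L194539 (flp_e L191843) (flp_d L196579) L201882
theorem L201892 : sm gf N18171 = N18722 := rfl
theorem L201894 : sm gb N18722 = N18172 := ded_20_1 (flp_f L196591) (flp_b L196587) L201892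
theorem L201896 : sm gh N18722 = N18182 := ded_40_2 (flp_f L196657) (flp_h L196589) L201892
theorem L201898 : sm gg N18172 = N18723 := rfl
theorem L201900 : sm gc N18723 = N18173 := ded_27_1 (flp_g L196597) (flp_c L196593) L201898
theorem L201902 : sm gh N18723 = N18183 := ded_42_2 (flp_g L196661) (flp_h L196595) L201898
theorem L201904 : sm gf N18174 = N18724 := rfl
theorem L201906 : sm ga N18724 = N18715 := ded_13_1 (flp_f L201840) (flp_a L196605) L201904
theorem L201908 : sm gc N18724 = N18175 := ded_26_1 (flp_f L196613) (flp_c L196607) L201904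
theorem L201910 : sm gh N18724 = N18625 := ded_40_2 (flp_f L200920) (flp_h L196611) L201904
theorem L201912 : sm ge N18724 = N18245 := ded_35_1 (flp_f L197229) L191590 (flp_f L191007) L196603 L201904
theorem L201914 : sm gg N18175 = N18725 := rfl
theorem L201916 : sm ga N18725 = N18716 := ded_14_1 (flp_g L201848) (flp_a L196615) L201914
theorem L201918 : sm ge N18725 = N18621 := ded_36_1 (flp_g L200888) (flp_e L196619) L201914
theorem L201920 : sm gh N18725 = N18626 := ded_42_2 (flp_g L200928) (flp_h L196617) L201914
theorem L201922 : sm gf N18725 = N18180 := ded_39_1 (flp_g L196649) (flp_f L191033) (flp_g L191019) L196613 L201914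
theorem L201924 : sm gf N18177 = N18726 := rfl
theorem L201926 : sm gb N18726 = N18179 := ded_20_1 (flp_f L196643) (flp_b L196631) L201924
theorem L201928 : sm gd N18726 = N18724 := ded_31_1 (flp_f L201904) (flp_d L196633) L201924
theorem L201930 : sm ge N18726 = N18182 := ded_35_1 (flp_f L196657) (flp_e L191041) (flp_f L191027) L196629 L201924
theorem L201932 : sm gf N18178 = N18727 := rfl
theorem L201934 : sm gb N18727 = N18724 := ded_20_1 (flp_f L201904) (flp_b L196637) L201932
theorem L201936 : sm gd N18727 = N18179 := ded_31_1 (flp_f L196643) L196635 L201932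
theorem L201938 : sm gg N18179 = N18728 := rfl
theorem L201940 : sm gc N18728 = N18180 := ded_27_1 (flp_g L196649) (flp_c L196645) L201938
theorem L201942 : sm ge N18728 = N18183 := ded_36_1 (flp_g L196661) (flp_e L196647) L201938
theorem L201944 : sm gf N18181 = N18729 := rfl
theorem L201946 : sm ga N18729 = N18182 := ded_13_1 (flp_f L196657) (flp_a L196655) L201944
theorem L201948 : sm gg N18182 = N18730 := rfl
theorem L201950 : sm gb N18730 = N18183 := ded_21_1 (flp_g L196661) (flp_b L196659) L201948
theorem L201952 : sm gb N18184 = N18731 := rfl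
theorem L201954 : sm gd N18731 = N18731 := ded_18_2 (flp_b L201952) L196675 L201952
theorem L201955 : sm gf N18731 = N18327 := ded_20_2 L197893 L196755 L201952
theorem L201957 : sm gg N18731 = N18282 := ded_21_2 (flp_b L197538) (flp_g L196669) L201952
theorem L201959 : sm gh N18731 = N18224 := ded_22_2 (flp_b L197035) (flp_h L196671) L201952
theorem L201961 : sm gi N18731 = N18186 := ded_23_2 (flp_b L196690) (flp_i L196673) L201952
theorem L201963 : sm ga N18731 = N18291 := ded_9_1 (flp_b L197602) (flp_a L193857) L193867 (flp_a L196667) L201952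
theorem L201965 : sm gc N18731 = N18311 := ded_17_2 L197756 L192676 (flp_b L191075) L196665 L201952
theorem L201967 : sm ge N18184 = N18732 := rfl
theorem L201969 : sm ga N18732 = N18197 := ded_12_1 (flp_e L196802) (flp_a L196667) L201967
theorem L201971 : sm gc N18732 = N18185 := ded_25_1 (flp_e L196676) L196665 L201967
theorem L201973 : sm gg N18732 = N18283 := ded_36_2 (flp_e L197545) (flp_g L196669) L201967
theorem L201975 : sm gh N18732 = N18225 := ded_37_2 (flp_e L197043) (flp_h L196671) L201967
theorem L201977 : sm gi N18732 = N18187 := ded_38_2 (flp_e L196703) (flp_i L196673) L201967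
theorem L201979 : sm gf N18185 = N18733 := rfl
theorem L201981 : sm ga N18733 = N18198 := ded_13_1 (flp_f L196812) (flp_a L196678) L201979
theorem L201983 : sm gb N18733 = N18709 := ded_20_1 (flp_f L201772) (flp_b L196680) L201979
theorem L201985 : sm gd N18733 = N18696 := ded_31_1 (flp_f L201645) (flp_d L196688) L201979
theorem L201987 : sm gh N18733 = N18226 := ded_40_2 (flp_f L197055) (flp_h L196684) L201979
theorem L201989 : sm gi N18733 = N18188 := ded_41_2 (flp_f L196713) (flp_i L196686) L201979
theorem L201991 : sm ge N18186 = N18734 := rfl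
theorem L201993 : sm ga N18734 = N18294 := ded_12_1 (flp_e L197623) (flp_a L196699) L201991
theorem L201995 : sm gb N18734 = N18187 := ded_19_1 (flp_e L196703) L196690 L201991
theorem L201997 : sm gc N18734 = N18316 := ded_25_1 (flp_e L197792) (flp_c L196701) L201991
theorem L201999 : sm gg N18734 = N18285 := ded_36_2 (flp_e L197563) (flp_g L196695) L201991
theorem L202001 : sm gh N18734 = N18189 := ded_37_2 (flp_e L196719) (flp_h L196697) L201991
theorem L202003 : sm gd N18187 = N18735 := rfl
theorem L202005 : sm ga N18735 = N18199 := ded_11_1 (flp_d L196820) (flp_a L196705) L202003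
theorem L202007 : sm gg N18735 = N18286 := ded_32_2 (flp_d L197569) (flp_g L196709) L202003
theorem L202009 : sm ge N18735 = N18735 := ded_30_2 (flp_d L202003) (flp_e L196703) L191091 L196703 L202003
theorem L202010 : sm gf N18187 = N18736 := rfl
theorem L202012 : sm ga N18736 = N18200 := ded_13_1 (flp_f L196825) (flp_a L196705) L202010
theorem L202014 : sm gc N18736 = N18188 := ded_26_1 (flp_f L196713) (flp_c L196707) L202010
theorem L202016 : sm gh N18736 = N18190 := ded_40_2 (flp_f L196733) (flp_h L196711) L202010
theorem L202018 : sm gg N18188 = N18737 := rfl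
theorem L202020 : sm ga N18737 = N18201 := ded_14_1 (flp_g L196831) (flp_a L196715) L202018
theorem L202022 : sm gh N18737 = N18191 := ded_42_2 (flp_g L196741) (flp_h L196717) L202018
theorem L202024 : sm gf N18737 = N18288 := ded_39_1 (flp_g L197582) (flp_f L192022) (flp_g L191096) L196713 L202018
theorem L202026 : sm gf N18189 = N18738 := rfl
theorem L202028 : sm ga N18738 = N18298 := ded_13_1 (flp_f L197650) (flp_a L196721) L202026
theorem L202030 : sm gb N18738 = N18190 := ded_20_1 (flp_f L196733) (flp_b L196723) L202026
theorem L202032 : sm gc N18738 = N18302 := ded_26_1 L197678 (flp_c L196725) L202026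
theorem L202034 : sm gd N18738 = N18202 := ded_31_1 (flp_f L196839) (flp_d L196731) L202026
theorem L202036 : sm gi N18738 = N18232 := ded_41_2 (flp_f L197107) (flp_i L196729) L202026
theorem L202038 : sm ge N18738 = N18299 := ded_35_1 (flp_f L197656) L192094 (flp_f L191104) L196719 L202026
theorem L202040 : sm gg N18190 = N18739 := rfl
theorem L202042 : sm ga N18739 = N18204 := ded_14_1 (flp_g L196855) (flp_a L196735) L202040
theorem L202044 : sm gc N18739 = N18191 := ded_27_1 (flp_g L196741) (flp_c L196737) L202040
theorem L202046 : sm gi N18739 = N18233 := ded_43_2 (flp_g L197113) (flp_i L196739) L202040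
theorem L202048 : sm gf N18739 = N18290 := ded_39_1 (flp_g L197594) (flp_f L192034) (flp_g L191120) L196733 L202040
theorem L202050 : sm ge N18192 = N18740 := rfl
theorem L202052 : sm ga N18740 = N18469 := ded_12_1 (flp_e L199396) (flp_a L196753) L202050
theorem L202054 : sm gc N18740 = N18193 := ded_25_1 (flp_e L196764) L196751 L202050
theorem L202056 : sm gg N18740 = N18554 := ded_36_2 (flp_e L200287) (flp_g L196757) L202050
theorem L202058 : sm gh N18740 = N18477 := ded_37_2 (flp_e L199469) (flp_h L196759) L202050
theorem L202060 : sm gi N18740 = N18552 := ded_38_2 (flp_e L200265) (flp_i L196761) L202050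
theorem L202062 : sm gf N18193 = N18741 := rfl
theorem L202064 : sm gb N18741 = N18206 := ded_20_1 (flp_f L196871) (flp_b L196766) L202062
theorem L202066 : sm gd N18741 = N18196 := ded_31_1 (flp_f L196794) (flp_d L196772) L202062
theorem L202068 : sm gi N18741 = N18553 := ded_41_2 (flp_f L200277) (flp_i L196770) L202062
theorem L202070 : sm ge N18741 = N18733 := ded_35_1 (flp_f L201979) (flp_e L196676) (flp_f L191144) L196764 L202062
theorem L202072 : sm gf N18194 = N18742 := rfl
theorem L202074 : sm ga N18742 = N18741 := ded_13_1 (flp_f L202062) (flp_a L196776) L202072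
theorem L202076 : sm gb N18742 = N18208 := ded_20_1 (flp_f L196885) (flp_b L196778) L202072
theorem L202078 : sm gd N18742 = N18553 := ded_31_1 (flp_f L200277) (flp_d L196786) L202072
theorem L202080 : sm gh N18742 = N18237 := ded_40_2 (flp_f L197151) (flp_h L196782) L202072
theorem L202082 : sm gi N18742 = N18196 := ded_41_2 (flp_f L196794) (flp_i L196784) L202072
theorem L202084 : sm ge N18742 = N18198 := ded_35_1 (flp_f L196812) (flp_e L191186) (flp_f L191156) L196774 L202072
theorem L202086 : sm gd N18195 = N18743 := rfl
theorem L202088 : sm ge N18743 = N18743 := ded_30_2 (flp_d L202086) (flp_e L196788) L191170 L196788 L202086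
theorem L202089 : sm gf N18195 = N18744 := rfl
theorem L202091 : sm gc N18744 = N18196 := ded_26_1 (flp_f L196794) (flp_c L196790) L202089
theorem L202093 : sm gh N18744 = N18202 := ded_40_2 (flp_f L196839) (flp_h L196792) L202089
theorem L202095 : sm ge N18744 = N18200 := ded_35_1 (flp_f L196825) (flp_e L191196) (flp_f L191166) L196788 L202089
theorem L202097 : sm gg N18196 = N18745 := rfl
theorem L202099 : sm gb N18745 = N18209 := ded_21_1 (flp_g L196895) (flp_b L196796) L202097
theorem L202101 : sm ge N18745 = N18201 := ded_36_1 (flp_g L196831) (flp_e L196800) L202097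
theorem L202103 : sm gh N18745 = N18203 := ded_42_2 (flp_g L196847) (flp_h L196798) L202097
theorem L202105 : sm gd N18197 = N18746 := rfl
theorem L202107 : sm gg N18746 = N18355 := ded_32_2 (flp_d L198124) (flp_g L196806) L202105
theorem L202109 : sm gi N18746 = N18199 := ded_34_2 (flp_d L196820) (flp_i L196810) L202105
theorem L202111 : sm ge N18746 = N18746 := ded_30_2 (flp_d L202105) (flp_e L196802) L191185 L196802 L202105
theorem L202112 : sm gf N18197 = N18747 := rfl
theorem L202114 : sm gc N18747 = N18198 := ded_26_1 (flp_f L196812) (flp_c L196804) L202112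
theorem L202116 : sm gh N18747 = N18241 := ded_40_2 (flp_f L197193) (flp_h L196808) L202112
theorem L202118 : sm gi N18747 = N18200 := ded_41_2 (flp_f L196825) (flp_i L196810) L202112
theorem L202120 : sm gg N18198 = N18748 := rfl
theorem L202122 : sm gb N18748 = N18210 := ded_21_1 (flp_g L196901) (flp_b L196814) L202120
theorem L202124 : sm gh N18748 = N18242 := ded_42_2 (flp_g L197199) (flp_h L196816) L202120
theorem L202126 : sm gi N18748 = N18201 := ded_43_2 (flp_g L196831) (flp_i L196818) L202120
theorem L202128 : sm gf N18748 = N18357 := ded_39_1 (flp_g L198137) (flp_f L192547) (flp_g L191190) L196812 L202120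
theorem L202130 : sm gf N18199 = N18749 := rfl
theorem L202132 : sm gd N18749 = N18200 := ded_31_1 (flp_f L196825) L196820 L202130
theorem L202134 : sm gg N18200 = N18750 := rfl
theorem L202136 : sm gc N18750 = N18201 := ded_27_1 (flp_g L196831) (flp_c L196827) L202134
theorem L202138 : sm gh N18750 = N18204 := ded_42_2 (flp_g L196855) (flp_h L196829) L202134
theorem L202140 : sm gf N18750 = N18359 := ded_39_1 (flp_g L198147) (flp_f L192556) (flp_g L191200) L196825 L202134
theorem L202142 : sm gg N18202 = N18751 := rfl
theorem L202144 : sm gc N18751 = N18203 := ded_27_1 (flp_g L196847) (flp_c L196841) L202142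
theorem L202146 : sm ge N18751 = N18204 := ded_36_1 (flp_g L196855) (flp_e L196845) L202142
theorem L202148 : sm gi N18751 = N18248 := ded_43_2 (flp_g L197255) (flp_i L196843) L202142
theorem L202150 : sm gf N18205 = N18752 := rfl
theorem L202152 : sm gc N18752 = N18206 := ded_26_1 (flp_f L196871) (flp_c L196865) L202150
theorem L202154 : sm gi N18752 = N18448 := ded_41_2 L199148 (flp_i L196869) L202150
theorem L202156 : sm gg N18206 = N18753 := rfl
theorem L202158 : sm gd N18753 = N18209 := ded_32_1 (flp_g L196895) (flp_d L196873) L202156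
theorem L202160 : sm gi N18753 = N18574 := ded_43_2 (flp_g L200454) (flp_i L196875) L202156
theorem L202162 : sm gf N18753 = N18577 := ded_39_1 (flp_g L200478) (flp_f L194983) (flp_g L191250) L196871 L202156
theorem L202164 : sm gg N18207 = N18754 := rfl
theorem L202166 : sm gd N18754 = N18577 := ded_32_1 (flp_g L200478) (flp_d L196879) L202164
theorem L202168 : sm gh N18754 = N18211 := ded_42_2 (flp_g L196907) (flp_h L196881) L202164
theorem L202170 : sm gi N18754 = N18573 := ded_43_2 (flp_g L200448) (flp_i L196883) L202164
theorem L202172 : sm gf N18754 = N18209 := ded_39_1 (flp_g L196895) (flp_f L191276) (flp_g L191258) L196877 L202164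
theorem L202174 : sm gg N18208 = N18755 := rfl
theorem L202176 : sm gd N18755 = N18574 := ded_32_1 (flp_g L200454) (flp_d L196887) L202174
theorem L202178 : sm ge N18755 = N18210 := ded_36_1 (flp_g L196901) (flp_e L196893) L202174
theorem L202180 : sm gh N18755 = N18253 := ded_42_2 (flp_g L197293) (flp_h L196889) L202174
theorem L202182 : sm gi N18755 = N18209 := ded_43_2 (flp_g L196895) (flp_i L196891) L202174
theorem L202184 : sm gf N18755 = N18573 := ded_39_1 (flp_g L200448) (flp_f L194955) (flp_g L191268) L196885 L202174
theorem L202186 : sm gf N18212 = N18756 := rfl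
theorem L202188 : sm gc N18756 = N18213 := ded_26_1 (flp_f L196921) (flp_c L196915) L202186
theorem L202190 : sm gi N18756 = N18363 := ded_41_2 (flp_f L198179) (flp_i L196919) L202186
theorem L202192 : sm gg N18213 = N18757 := rfl
theorem L202194 : sm gb N18757 = N18362 := ded_21_1 (flp_g L198173) (flp_b L196923) L202192
theorem L202196 : sm gd N18757 = N18216 := ded_32_1 (flp_g L196951) (flp_d L196925) L202192
theorem L202198 : sm gi N18757 = N18364 := ded_43_2 (flp_g L198185) (flp_i L196927) L202192
theorem L202200 : sm gf N18757 = N18368 := ded_39_1 (flp_g L198225) (flp_f L192632) (flp_g L191314) L196921 L202192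
theorem L202202 : sm gg N18214 = N18758 := rfl
theorem L202204 : sm gb N18758 = N18364 := ded_21_1 (flp_g L198185) (flp_b L196931) L202202
theorem L202206 : sm gd N18758 = N18368 := ded_32_1 (flp_g L198225) (flp_d L196933) L202202
theorem L202208 : sm ge N18758 = N18252 := ded_36_1 (flp_g L197285) (flp_e L196939) L202202
theorem L202210 : sm gh N18758 = N18218 := ded_42_2 (flp_g L196967) (flp_h L196935) L202202
theorem L202212 : sm gi N18758 = N18362 := ded_43_2 (flp_g L198173) (flp_i L196937) L202202
theorem L202214 : sm gf N18758 = N18216 := ded_39_1 (flp_g L196951) (flp_f L191342) (flp_g L191324) L196929 L202202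
theorem L202216 : sm gg N18215 = N18759 := rfl
theorem L202218 : sm gb N18759 = N18368 := ded_21_1 (flp_g L198225) (flp_b L196943) L202216
theorem L202220 : sm gd N18759 = N18364 := ded_32_1 (flp_g L198185) (flp_d L196945) L202216
theorem L202222 : sm ge N18759 = N18217 := ded_36_1 (flp_g L196959) (flp_e L196949) L202216
theorem L202224 : sm gi N18759 = N18216 := ded_43_2 (flp_g L196951) (flp_i L196947) L202216
theorem L202226 : sm gf N18759 = N18362 := ded_39_1 (flp_g L198173) (flp_f L192596) (flp_g L191336) L196941 L202216
theorem L202228 : sm ge N18219 = N18760 := rfl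
theorem L202230 : sm ga N18760 = N18234 := ded_12_1 (flp_e L197121) (flp_a L196977) L202228
theorem L202232 : sm gb N18760 = N18580 := ded_19_1 (flp_e L200502) L196989 L202228
theorem L202234 : sm gc N18760 = N18220 := ded_25_1 (flp_e L196991) L196975 L202228
theorem L202236 : sm gg N18760 = N18477 := ded_36_2 (flp_e L199469) (flp_g L196981) L202228
theorem L202238 : sm gh N18760 = N18554 := ded_37_2 (flp_e L200287) (flp_h L196983) L202228
theorem L202240 : sm gi N18760 = N18454 := ded_38_2 (flp_e L199202) (flp_i L196985) L202228
theorem L202242 : sm gd N18760 = N18706 := ded_30_1 (flp_e L201746) L196463 (flp_e L191747) (flp_d L196987) L202228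
theorem L202244 : sm gf N18220 = N18761 := rfl
theorem L202246 : sm ga N18761 = N18235 := ded_13_1 (flp_f L197133) (flp_a L196993) L202244
theorem L202248 : sm gb N18761 = N18499 := ded_20_1 (flp_f L199712) (flp_b L196995) L202244
theorem L202250 : sm gd N18761 = N18223 := ded_31_1 (flp_f L197027) (flp_d L197001) L202244
theorem L202252 : sm gh N18761 = N18555 := ded_40_2 (flp_f L200295) (flp_h L196997) L202244
theorem L202254 : sm gi N18761 = N18487 := ded_41_2 (flp_f L199573) (flp_i L196999) L202244
theorem L202256 : sm ge N18761 = N18489 := ded_35_1 (flp_f L199599) (flp_e L194112) (flp_f L191382) L196991 L202244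
theorem L202258 : sm gf N18221 = N18762 := rfl
theorem L202260 : sm ga N18762 = N18237 := ded_13_1 (flp_f L197151) (flp_a L197005) L202258
theorem L202262 : sm gb N18762 = N18495 := ded_20_1 (flp_f L199669) (flp_b L197007) L202258
theorem L202264 : sm gd N18762 = N18487 := ded_31_1 (flp_f L199573) (flp_d L197015) L202258
theorem L202266 : sm gh N18762 = N18741 := ded_40_2 (flp_f L202062) (flp_h L197011) L202258
theorem L202268 : sm gi N18762 = N18223 := ded_41_2 (flp_f L197027) (flp_i L197013) L202258
theorem L202270 : sm ge N18762 = N18226 := ded_35_1 (flp_f L197055) (flp_e L191428) (flp_f L191394) L197003 L202258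
theorem L202272 : sm gf N18222 = N18763 := rfl
theorem L202274 : sm ga N18763 = N18238 := ded_13_1 (flp_f L197161) (flp_a L197019) L202272
theorem L202276 : sm gc N18763 = N18223 := ded_26_1 (flp_f L197027) (flp_c L197021) L202272
theorem L202278 : sm gd N18763 = N18729 := ded_31_1 (flp_f L201944) (flp_d L197025) L202272
theorem L202280 : sm gh N18763 = N18230 := ded_40_2 (flp_f L197093) (flp_h L197023) L202272
theorem L202282 : sm ge N18763 = N18228 := ded_35_1 (flp_f L197073) (flp_e L191446) (flp_f L191406) L197017 L202272
theorem L202284 : sm gg N18223 = N18764 := rfl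
theorem L202286 : sm ga N18764 = N18239 := ded_14_1 (flp_g L197173) (flp_a L197029) L202284
theorem L202288 : sm ge N18764 = N18229 := ded_36_1 (flp_g L197083) (flp_e L197033) L202284
theorem L202290 : sm gh N18764 = N18231 := ded_42_2 (flp_g L197101) (flp_h L197031) L202284
theorem L202292 : sm ge N18224 = N18765 := rfl
theorem L202294 : sm gb N18765 = N18225 := ded_19_1 (flp_e L197043) L197035 L202292
theorem L202296 : sm gg N18765 = N18312 := ded_36_2 (flp_e L197758) (flp_g L197039) L202292
theorem L202298 : sm gi N18765 = N18227 := ded_38_2 (flp_e L197063) (flp_i L197041) L202292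
theorem L202300 : sm gd N18765 = N18718 := ded_30_1 (flp_e L201864) L196561 L191834 (flp_d L197037) L202292
theorem L202302 : sm gf N18225 = N18766 := rfl
theorem L202304 : sm ga N18766 = N18241 := ded_13_1 (flp_f L197193) (flp_a L197045) L202302
theorem L202306 : sm gc N18766 = N18226 := ded_26_1 (flp_f L197055) (flp_c L197047) L202302
theorem L202308 : sm gd N18766 = N18719 := ded_31_1 (flp_f L201870) (flp_d L197053) L202302
theorem L202310 : sm gi N18766 = N18228 := ded_41_2 (flp_f L197073) (flp_i L197051) L202302
theorem L202312 : sm gg N18226 = N18767 := rfl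
theorem L202314 : sm ga N18767 = N18242 := ded_14_1 (flp_g L197199) (flp_a L197057) L202312
theorem L202316 : sm gd N18767 = N18650 := ded_32_1 (flp_g L201176) (flp_d L197059) L202312
theorem L202318 : sm gi N18767 = N18229 := ded_43_2 (flp_g L197083) (flp_i L197061) L202312
theorem L202320 : sm gf N18767 = N18315 := ded_39_1 (flp_g L197784) (flp_f L192180) (flp_g L191432) L197055 L202312
theorem L202322 : sm gf N18227 = N18768 := rfl
theorem L202324 : sm gb N18768 = N18228 := ded_20_1 (flp_f L197073) (flp_b L197065) L202322
theorem L202326 : sm gd N18768 = N18722 := ded_31_1 (flp_f L201892) (flp_d L197071) L202322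
theorem L202328 : sm gh N18768 = N18232 := ded_40_2 (flp_f L197107) (flp_h L197069) L202322
theorem L202330 : sm gg N18228 = N18769 := rfl
theorem L202332 : sm ga N18769 = N18246 := ded_14_1 (flp_g L197239) (flp_a L197075) L202330
theorem L202334 : sm gc N18769 = N18229 := ded_27_1 (flp_g L197083) (flp_c L197077) L202330
theorem L202336 : sm gd N18769 = N18723 := ded_32_1 (flp_g L201898) (flp_d L197079) L202330
theorem L202338 : sm gh N18769 = N18233 := ded_42_2 (flp_g L197113) (flp_h L197081) L202330
theorem L202340 : sm gf N18769 = N18320 := ded_39_1 (flp_g L197828) (flp_f L192216) (flp_g L191452) L197073 L202330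
theorem L202342 : sm gg N18230 = N18770 := rfl
theorem L202344 : sm ga N18770 = N18248 := ded_14_1 (flp_g L197255) (flp_a L197095) L202342
theorem L202346 : sm gc N18770 = N18231 := ded_27_1 (flp_g L197101) (flp_c L197097) L202342
theorem L202348 : sm ge N18770 = N18233 := ded_36_1 (flp_g L197113) (flp_e L197099) L202342
theorem L202350 : sm gg N18232 = N18771 := rfl
theorem L202352 : sm gb N18771 = N18233 := ded_21_1 (flp_g L197113) (flp_b L197109) L202350
theorem L202354 : sm gd N18771 = N18248 := ded_32_1 (flp_g L197255) (flp_d L197111) L202350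
theorem L202356 : sm gf N18771 = N18322 := ded_39_1 (flp_g L197844) (flp_f L192252) (flp_g L191482) L197107 L202350
theorem L202358 : sm gf N18234 = N18772 := rfl
theorem L202360 : sm gb N18772 = N18452 := ded_20_1 (flp_f L199182) (flp_b L197123) L202358
theorem L202362 : sm gc N18772 = N18235 := ded_26_1 (flp_f L197133) (flp_c L197125) L202358
theorem L202364 : sm gd N18772 = N18707 := ded_31_1 (flp_f L201756) (flp_d L197131) L202358
theorem L202366 : sm gi N18772 = N18455 := ded_41_2 (flp_f L199214) (flp_i L197129) L202358
theorem L202368 : sm ge N18772 = N18756 := ded_35_1 (flp_f L202186) (flp_e L196913) (flp_f L191502) L197121 L202358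
theorem L202370 : sm gg N18235 = N18773 := rfl
theorem L202372 : sm gb N18773 = N18251 := ded_21_1 (flp_g L197281) (flp_b L197135) L202370
theorem L202374 : sm gd N18773 = N18239 := ded_32_1 (flp_g L197173) (flp_d L197137) L202370
theorem L202376 : sm ge N18773 = N18757 := ded_36_1 (flp_g L202192) (flp_e L197139) L202370
theorem L202378 : sm gg N18236 = N18774 := rfl
theorem L202380 : sm gb N18774 = N18252 := ded_21_1 (flp_g L197285) (flp_b L197143) L202378
theorem L202382 : sm ge N18774 = N18364 := ded_36_1 (flp_g L198185) (flp_e L197149) L202378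
theorem L202384 : sm gh N18774 = N18247 := ded_42_2 (flp_g L197247) (flp_h L197145) L202378
theorem L202386 : sm gi N18774 = N18773 := ded_43_2 (flp_g L202370) (flp_i L197147) L202378
theorem L202388 : sm gf N18774 = N18239 := ded_39_1 (flp_g L197173) (flp_f L191548) (flp_g L191522) L197141 L202378
theorem L202390 : sm gg N18237 = N18775 := rfl
theorem L202392 : sm gb N18775 = N18253 := ded_21_1 (flp_g L197293) (flp_b L197153) L202390
theorem L202394 : sm gd N18775 = N18774 := ded_32_1 (flp_g L202378) (flp_d L197155) L202390
theorem L202396 : sm ge N18775 = N18242 := ded_36_1 (flp_g L197199) (flp_e L197159) L202390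
theorem L202398 : sm gi N18775 = N18239 := ded_43_2 (flp_g L197173) (flp_i L197157) L202390
theorem L202400 : sm gf N18775 = N18773 := ded_39_1 (flp_g L202370) (flp_f L197133) (flp_g L191532) L197151 L202390
theorem L202402 : sm gg N18238 = N18776 := rfl
theorem L202404 : sm gb N18776 = N18679 := ded_21_1 (flp_g L201465) (flp_b L197163) L202402
theorem L202406 : sm gc N18776 = N18239 := ded_27_1 (flp_g L197173) (flp_c L197165) L202402
theorem L202408 : sm gd N18776 = N18730 := ded_32_1 (flp_g L201948) (flp_d L197167) L202402
theorem L202410 : sm ge N18776 = N18246 := ded_36_1 (flp_g L197239) (flp_e L197171) L202402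
theorem L202412 : sm gh N18776 = N18248 := ded_42_2 (flp_g L197255) (flp_h L197169) L202402
theorem L202414 : sm gf N18240 = N18777 := rfl
theorem L202416 : sm ga N18777 = N18719 := ded_13_1 (flp_f L201870) (flp_a L197183) L202414
theorem L202418 : sm gc N18777 = N18620 := ded_26_1 (flp_f L200874) (flp_c L197189) L202414
theorem L202420 : sm gd N18777 = N18241 := ded_31_1 (flp_f L197193) L197181 L202414
theorem L202422 : sm gi N18777 = N18245 := ded_41_2 (flp_f L197229) (flp_i L197187) L202414
theorem L202424 : sm gg N18241 = N18778 := rfl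
theorem L202426 : sm gc N18778 = N18242 := ded_27_1 (flp_g L197199) (flp_c L197195) L202424
theorem L202428 : sm gi N18778 = N18246 := ded_43_2 (flp_g L197239) (flp_i L197197) L202424
theorem L202430 : sm gf N18778 = N18377 := ded_39_1 (flp_g L198303) (flp_f L192698) (flp_g L191560) L197193 L202424
theorem L202432 : sm gf N18243 = N18779 := rfl
theorem L202434 : sm gb N18779 = N18245 := ded_20_1 (flp_f L197229) (flp_b L197211) L202432
theorem L202436 : sm gd N18779 = N18244 := ded_31_1 (flp_f L197219) L197209 L202432
theorem L202438 : sm gh N18779 = N18628 := ded_40_2 (flp_f L200946) (flp_h L197217) L202432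
theorem L202440 : sm ge N18779 = N18727 := ded_35_1 (flp_f L201932) L196641 (flp_f L191780) (flp_e L197215) L202432
theorem L202442 : sm gg N18244 = N18780 := rfl
theorem L202444 : sm gb N18780 = N18246 := ded_21_1 (flp_g L197239) (flp_b L197221) L202442
theorem L202446 : sm gc N18780 = N18256 := ded_27_1 (flp_g L197321) (flp_c L197223) L202442
theorem L202448 : sm ge N18780 = N18679 := ded_36_1 (flp_g L201465) (flp_e L197227) L202442
theorem L202450 : sm gh N18780 = N18249 := ded_42_2 (flp_g L197261) (flp_h L197225) L202442
theorem L202452 : sm gf N18780 = N18381 := ded_39_1 (flp_g L198327) (flp_f L192722) (flp_g L191578) L197219 L202442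
theorem L202454 : sm gg N18245 = N18781 := rfl
theorem L202456 : sm ga N18781 = N18723 := ded_14_1 (flp_g L201898) (flp_a L197231) L202454
theorem L202458 : sm gc N18781 = N18621 := ded_27_1 (flp_g L200888) (flp_c L197233) L202454
theorem L202460 : sm gd N18781 = N18246 := ded_32_1 (flp_g L197239) (flp_d L197235) L202454
theorem L202462 : sm gh N18781 = N18629 := ded_42_2 (flp_g L200952) (flp_h L197237) L202454
theorem L202464 : sm gf N18781 = N18382 := ded_39_1 (flp_g L198333) (flp_f L192728) (flp_g L191586) L197229 L202454
theorem L202466 : sm gg N18250 = N18782 := rfl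
theorem L202468 : sm ga N18782 = N18689 := ded_14_1 (flp_g L201567) (flp_a L197271) L202466
theorem L202470 : sm gb N18782 = N18453 := ded_21_1 (flp_g L199192) (flp_b L197273) L202466
theorem L202472 : sm gc N18782 = N18251 := ded_27_1 (flp_g L197281) (flp_c L197275) L202466
theorem L202474 : sm gd N18782 = N18462 := ded_32_1 (flp_g L199300) (flp_d L197277) L202466
theorem L202476 : sm gi N18782 = N18445 := ded_43_2 (flp_g L199098) (flp_i L197279) L202466
theorem L202478 : sm gf N18782 = N18466 := ded_39_1 (flp_g L199358) (flp_f L193835) (flp_g L191648) L197269 L202466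
theorem L202480 : sm ga N18260 = N18783 := rfl
theorem L202482 : sm gc N18783 = N18272 := ded_10_2 (flp_a L197458) (flp_c L197360) L202480
theorem L202484 : sm gd N18783 = N18783 := ded_11_2 (flp_a L202480) L197357 L202480
theorem L202485 : sm gi N18783 = N18613 := ded_16_2 (flp_a L200830) (flp_i L197358) L202480
theorem L202487 : sm gb N18783 = N18597 := ded_9_2 L200648 L195166 L192335 L197355 L202480
theorem L202489 : sm ge N18260 = N18784 := rfl
theorem L202491 : sm gb N18784 = N18261 := ded_19_1 (flp_e L197362) L197355 L202489
theorem L202493 : sm gc N18784 = N18273 := ded_25_1 (flp_e L197466) (flp_c L197360) L202489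
theorem L202495 : sm gi N18784 = N18614 := ded_38_2 (flp_e L200839) (flp_i L197358) L202489
theorem L202497 : sm gd N18261 = N18785 := rfl
theorem L202499 : sm gi N18785 = N18615 := ded_34_2 (flp_d L200849) (flp_i L197366) L202497
theorem L202501 : sm gc N18785 = N18263 := ded_24_1 (flp_d L197376) L191864 (flp_d L191860) (flp_c L197364) L202497
theorem L202503 : sm ge N18785 = N18785 := ded_30_2 (flp_d L202497) (flp_e L197362) L191853 L197362 L202497
theorem L202504 : sm gf N18261 = N18786 := rfl
theorem L202506 : sm gc N18786 = N18262 := ded_26_1 (flp_f L197368) (flp_c L197364) L202504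
theorem L202508 : sm gi N18786 = N18616 := ded_41_2 (flp_f L200854) (flp_i L197366) L202504
theorem L202510 : sm gg N18262 = N18787 := rfl
theorem L202512 : sm gb N18787 = N18275 := ded_21_1 (flp_g L197480) (flp_b L197370) L202510
theorem L202514 : sm gd N18787 = N18265 := ded_32_1 (flp_g L197389) (flp_d L197372) L202510
theorem L202516 : sm gi N18787 = N18617 := ded_43_2 (flp_g L200858) (flp_i L197374) L202510
theorem L202518 : sm gf N18263 = N18788 := rfl
theorem L202520 : sm gd N18788 = N18264 := ded_31_1 (flp_f L197381) L197376 L202518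
theorem L202522 : sm gi N18788 = N18618 := ded_41_2 (flp_f L200864) (flp_i L197378) L202518
theorem L202524 : sm gh N18263 = N18789 := rfl
theorem L202526 : sm ge N18789 = N18789 := ded_37_1 (flp_h L202524) L197380 L202524
theorem L202527 : sm gd N18789 = N18280 := ded_33_1 (flp_h L197528) (flp_d L191974) (flp_h L191866) L197376 L202524
theorem L202529 : sm gg N18264 = N18790 := rfl
theorem L202531 : sm gc N18790 = N18265 := ded_27_1 (flp_g L197389) (flp_c L197383) L202529
theorem L202533 : sm gh N18790 = N18281 := ded_42_2 (flp_g L197532) (flp_h L197385) L202529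
theorem L202535 : sm gi N18790 = N18619 := ded_43_2 (flp_g L200868) (flp_i L197387) L202529
theorem L202537 : sm ga N18266 = N18791 := rfl
theorem L202539 : sm gd N18791 = N18791 := ded_11_2 (flp_a L202537) L197399 L202537
theorem L202540 : sm gf N18791 = N18783 := ded_13_2 (flp_a L202480) (flp_f L197400) L202537
theorem L202542 : sm gh N18791 = N18272 := ded_15_2 (flp_a L197458) (flp_h L197402) L202537
theorem L202544 : sm gb N18791 = N18333 := ded_9_2 (flp_a L197945) (flp_b L192371) (flp_a L191880) L197397 L202537
theorem L202546 : sm ge N18266 = N18792 := rfl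
theorem L202548 : sm gb N18792 = N18267 := ded_19_1 (flp_e L197404) L197397 L202546
theorem L202550 : sm gh N18792 = N18273 := ded_37_2 (flp_e L197466) (flp_h L197402) L202546
theorem L202552 : sm gd N18267 = N18793 := rfl
theorem L202554 : sm ga N18793 = N18335 := ded_11_1 (flp_d L197960) (flp_a L197406) L202552
theorem L202556 : sm gc N18793 = N18286 := ded_24_1 (flp_d L197569) L192018 (flp_d L191893) (flp_c L197408) L202552
theorem L202558 : sm ge N18793 = N18793 := ded_30_2 (flp_d L202552) (flp_e L197404) L191886 L197404 L202552
theorem L202559 : sm gf N18267 = N18794 := rfl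
theorem L202561 : sm ga N18794 = N18336 := ded_13_1 (flp_f L197965) (flp_a L197406) L202559
theorem L202563 : sm gc N18794 = N18268 := ded_26_1 (flp_f L197412) (flp_c L197408) L202559
theorem L202565 : sm gh N18794 = N18274 := ded_40_2 (flp_f L197472) (flp_h L197410) L202559
theorem L202567 : sm ge N18794 = N18786 := ded_35_1 (flp_f L202504) (flp_e L197362) (flp_f L191882) L197404 L202559
theorem L202569 : sm gg N18268 = N18795 := rfl
theorem L202571 : sm ga N18795 = N18337 := ded_14_1 (flp_g L197971) (flp_a L197414) L202569
theorem L202573 : sm gd N18795 = N18288 := ded_32_1 (flp_g L197582) (flp_d L197416) L202569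
theorem L202575 : sm ge N18795 = N18787 := ded_36_1 (flp_g L202510) (flp_e L197420) L202569
theorem L202577 : sm gh N18795 = N18275 := ded_42_2 (flp_g L197480) (flp_h L197418) L202569
theorem L202579 : sm ga N18269 = N18796 := rfl
theorem L202581 : sm gc N18796 = N18791 := ded_10_2 (flp_a L202537) (flp_c L197432) L202579
theorem L202583 : sm gd N18796 = N18276 := ded_11_2 (flp_a L197488) (flp_d L197424) L202579
theorem L202585 : sm gf N18796 = N18272 := ded_13_2 (flp_a L197458) (flp_f L197426) L202579
theorem L202587 : sm gh N18796 = N18783 := ded_15_2 (flp_a L202480) (flp_h L197428) L202579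
theorem L202589 : sm gi N18796 = N18622 := ded_16_2 (flp_a L200898) (flp_i L197430) L202579
theorem L202591 : sm gb N18796 = N18340 := ded_9_2 (flp_a L197997) (flp_b L192414) (flp_a L191897) L197422 L202579
theorem L202593 : sm ge N18269 = N18797 := rfl
theorem L202595 : sm gb N18797 = N18270 := ded_19_1 (flp_e L197434) L197422 L202593
theorem L202597 : sm gc N18797 = N18792 := ded_25_1 (flp_e L202546) (flp_c L197432) L202593
theorem L202599 : sm gh N18797 = N18784 := ded_37_2 (flp_e L202489) (flp_h L197428) L202593
theorem L202601 : sm gi N18797 = N18623 := ded_38_2 (flp_e L200908) (flp_i L197430) L202593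
theorem L202603 : sm gd N18270 = N18798 := rfl
theorem L202605 : sm ga N18798 = N18342 := ded_11_1 (flp_d L198019) (flp_a L197436) L202603
theorem L202607 : sm gi N18798 = N18624 := ded_34_2 (flp_d L200914) (flp_i L197442) L202603
theorem L202609 : sm gc N18798 = N18531 := ded_24_1 (flp_d L200042) L194555 (flp_d L191917) (flp_c L197438) L202603
theorem L202611 : sm ge N18798 = N18278 := ded_30_2 (flp_d L197514) (flp_e L191957) (flp_d L191905) L197434 L202603
theorem L202613 : sm gf N18270 = N18799 := rfl
theorem L202615 : sm ga N18799 = N18343 := ded_13_1 (flp_f L198031) (flp_a L197436) L202613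
theorem L202617 : sm gc N18799 = N18271 := ded_26_1 (flp_f L197444) (flp_c L197438) L202613
theorem L202619 : sm gh N18799 = N18786 := ded_40_2 (flp_f L202504) (flp_h L197440) L202613
theorem L202621 : sm gi N18799 = N18625 := ded_41_2 (flp_f L200920) (flp_i L197442) L202613
theorem L202623 : sm ge N18799 = N18274 := ded_35_1 (flp_f L197472) (flp_e L191925) (flp_f L191899) L197434 L202613
theorem L202625 : sm gg N18271 = N18800 := rfl
theorem L202627 : sm ga N18800 = N18344 := ded_14_1 (flp_g L198039) (flp_a L197446) L202625
theorem L202629 : sm gb N18800 = N18795 := ded_21_1 (flp_g L202569) (flp_b L197448) L202625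
theorem L202631 : sm gd N18800 = N18533 := ded_32_1 (flp_g L200060) (flp_d L197450) L202625
theorem L202633 : sm ge N18800 = N18275 := ded_36_1 (flp_g L197480) (flp_e L197456) L202625
theorem L202635 : sm gh N18800 = N18787 := ded_42_2 (flp_g L202510) (flp_h L197452) L202625
theorem L202637 : sm gi N18800 = N18626 := ded_43_2 (flp_g L200928) (flp_i L197454) L202625
theorem L202639 : sm ge N18272 = N18801 := rfl
theorem L202641 : sm ga N18801 = N18273 := ded_12_1 (flp_e L197466) L197458 L202639
theorem L202643 : sm gb N18801 = N18345 := ded_19_1 (flp_e L198049) (flp_b L197464) L202639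
theorem L202645 : sm gi N18801 = N18627 := ded_38_2 (flp_e L200934) (flp_i L197462) L202639
theorem L202647 : sm gf N18273 = N18802 := rfl
theorem L202649 : sm gb N18802 = N18274 := ded_20_1 (flp_f L197472) (flp_b L197468) L202647
theorem L202651 : sm gi N18802 = N18628 := ded_41_2 (flp_f L200946) (flp_i L197470) L202647
theorem L202653 : sm gg N18274 = N18803 := rfl
theorem L202655 : sm ga N18803 = N18347 := ded_14_1 (flp_g L198061) (flp_a L197474) L202653
theorem L202657 : sm gc N18803 = N18275 := ded_27_1 (flp_g L197480) (flp_c L197476) L202653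
theorem L202659 : sm gi N18803 = N18629 := ded_43_2 (flp_g L200952) (flp_i L197478) L202653
theorem L202661 : sm gd N18277 = N18804 := rfl
theorem L202663 : sm ga N18804 = N18710 := ded_11_1 L201786 (flp_a L197502) L202661
theorem L202665 : sm gb N18804 = N18278 := ded_18_1 (flp_d L197514) (flp_b L197504) L202661
theorem L202667 : sm gf N18804 = N18717 := ded_31_2 L201858 (flp_f L197512) L202661
theorem L202669 : sm gg N18804 = N18796 := ded_32_2 L202583 (flp_g L197507) L202661
theorem L202671 : sm gi N18804 = N18630 := ded_34_2 (flp_d L200962) (flp_i L197510) L202661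
theorem L202673 : sm gg N18279 = N18805 := rfl
theorem L202675 : sm gd N18805 = N18281 := ded_32_1 (flp_g L197532) (flp_d L197524) L202673
theorem L202677 : sm gi N18805 = N18303 := ded_43_2 (flp_g L197680) (flp_i L197526) L202673
theorem L202679 : sm gh N18279 = N18806 := rfl
theorem L202681 : sm gf N18806 = N18280 := ded_40_1 (flp_h L197528) L197522 L202679
theorem L202683 : sm gi N18280 = N18807 := rfl
theorem L202685 : sm gb N18807 = N18494 := ded_23_1 L199667 L198805 L202683
theorem L202687 : sm ge N18807 = N18326 := ded_38_1 (flp_i L197884) (flp_e L197530) L202683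
theorem L202689 : sm gh N18807 = N18305 := ded_44_1 (flp_i L197690) (flp_h L192110) (flp_i L191976) L197528 L202683
theorem L202691 : sm ge N18282 = N18808 := rfl
theorem L202693 : sm gb N18808 = N18283 := ded_19_1 (flp_e L197545) L197538 L202691
theorem L202695 : sm gh N18808 = N18312 := ded_37_2 (flp_e L197758) (flp_h L197541) L202691
theorem L202697 : sm gi N18808 = N18285 := ded_38_2 (flp_e L197563) (flp_i L197543) L202691
theorem L202699 : sm gd N18283 = N18809 := rfl
theorem L202701 : sm ga N18809 = N18355 := ded_11_1 (flp_d L198124) (flp_a L197547) L202699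
theorem L202703 : sm gi N18809 = N18286 := ded_34_2 (flp_d L197569) (flp_i L197553) L202699
theorem L202705 : sm ge N18809 = N18809 := ded_30_2 (flp_d L202699) (flp_e L197545) L192000 L197545 L202699
theorem L202706 : sm gf N18283 = N18810 := rfl
theorem L202708 : sm ga N18810 = N18356 := ded_13_1 (flp_f L198129) (flp_a L197547) L202706
theorem L202710 : sm gc N18810 = N18284 := ded_26_1 (flp_f L197555) (flp_c L197549) L202706
theorem L202712 : sm gh N18810 = N18314 := ded_40_2 (flp_f L197776) (flp_h L197551) L202706
theorem L202714 : sm gi N18810 = N18287 := ded_41_2 (flp_f L197574) (flp_i L197553) L202706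
theorem L202716 : sm gg N18284 = N18811 := rfl
theorem L202718 : sm ga N18811 = N18357 := ded_14_1 (flp_g L198137) (flp_a L197557) L202716
theorem L202720 : sm gh N18811 = N18315 := ded_42_2 (flp_g L197784) (flp_h L197559) L202716
theorem L202722 : sm gi N18811 = N18288 := ded_43_2 (flp_g L197582) (flp_i L197561) L202716
theorem L202724 : sm gd N18285 = N18812 := rfl
theorem L202726 : sm gb N18812 = N18286 := ded_18_1 (flp_d L197569) (flp_b L197565) L202724
theorem L202728 : sm ge N18812 = N18812 := ded_30_2 (flp_d L202724) (flp_e L197563) L192011 L197563 L202724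
theorem L202729 : sm gf N18285 = N18813 := rfl
theorem L202731 : sm gb N18813 = N18287 := ded_20_1 (flp_f L197574) (flp_b L197565) L202729
theorem L202733 : sm gh N18813 = N18289 := ded_40_2 (flp_f L197588) (flp_h L197567) L202729
theorem L202735 : sm gf N18286 = N18814 := rfl
theorem L202737 : sm ga N18814 = N18358 := ded_13_1 (flp_f L198143) (flp_a L197571) L202735
theorem L202739 : sm gd N18814 = N18287 := ded_31_1 (flp_f L197574) L197569 L202735
theorem L202741 : sm gg N18287 = N18815 := rfl
theorem L202743 : sm ga N18815 = N18359 := ded_14_1 (flp_g L198147) (flp_a L197576) L202741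
theorem L202745 : sm gc N18815 = N18288 := ded_27_1 (flp_g L197582) (flp_c L197578) L202741
theorem L202747 : sm gh N18815 = N18290 := ded_42_2 (flp_g L197594) (flp_h L197580) L202741
theorem L202749 : sm gg N18289 = N18816 := rfl
theorem L202751 : sm gb N18816 = N18290 := ded_21_1 (flp_g L197594) (flp_b L197590) L202749
theorem L202753 : sm gi N18816 = N18322 := ded_43_2 (flp_g L197844) (flp_i L197592) L202749
theorem L202755 : sm ge N18291 = N18817 := rfl
theorem L202757 : sm gb N18817 = N18292 := ded_19_1 (flp_e L197609) L197602 L202755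
theorem L202759 : sm gc N18817 = N18312 := ded_25_1 (flp_e L197758) (flp_c L197607) L202755
theorem L202761 : sm gi N18817 = N18294 := ded_38_2 (flp_e L197623) (flp_i L197605) L202755
theorem L202763 : sm gd N18292 = N18818 := rfl
theorem L202765 : sm gi N18818 = N18295 := ded_34_2 (flp_d L197631) (flp_i L197613) L202763
theorem L202767 : sm gc N18818 = N18664 := ded_24_1 (flp_d L201328) L195961 (flp_d L192061) (flp_c L197611) L202763
theorem L202769 : sm ge N18818 = N18818 := ded_30_2 (flp_d L202763) (flp_e L197609) L192054 L197609 L202763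
theorem L202770 : sm gf N18292 = N18819 := rfl
theorem L202772 : sm gc N18819 = N18293 := ded_26_1 (flp_f L197615) (flp_c L197611) L202770
theorem L202774 : sm gi N18819 = N18296 := ded_41_2 (flp_f L197636) (flp_i L197613) L202770
theorem L202776 : sm gg N18293 = N18820 := rfl
theorem L202778 : sm gb N18820 = N18315 := ded_21_1 (flp_g L197784) (flp_b L197617) L202776
theorem L202780 : sm gd N18820 = N18666 := ded_32_1 (flp_g L201345) (flp_d L197619) L202776
theorem L202782 : sm gi N18820 = N18297 := ded_43_2 (flp_g L197642) (flp_i L197621) L202776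
theorem L202784 : sm gd N18294 = N18821 := rfl
theorem L202786 : sm gb N18821 = N18295 := ded_18_1 (flp_d L197631) (flp_b L197625) L202784
theorem L202788 : sm ge N18821 = N18821 := ded_30_2 (flp_d L202784) (flp_e L197623) L192065 L197623 L202784
theorem L202789 : sm gf N18294 = N18822 := rfl
theorem L202791 : sm gb N18822 = N18296 := ded_20_1 (flp_f L197636) (flp_b L197625) L202789
theorem L202793 : sm gc N18822 = N18318 := ded_26_1 (flp_f L197810) (flp_c L197627) L202789
theorem L202795 : sm gh N18822 = N18298 := ded_40_2 (flp_f L197650) (flp_h L197629) L202789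
theorem L202797 : sm gf N18295 = N18823 := rfl
theorem L202799 : sm gc N18823 = N18667 := ded_26_1 (flp_f L201351) (flp_c L197633) L202797
theorem L202801 : sm gd N18823 = N18296 := ded_31_1 (flp_f L197636) L197631 L202797
theorem L202803 : sm gh N18295 = N18824 := rfl
theorem L202805 : sm gc N18824 = N18510 := ded_28_1 L199812 (flp_c L197633) L202803
theorem L202807 : sm ge N18824 = N18824 := ded_37_1 (flp_h L202803) L197635 L202803
theorem L202808 : sm gd N18824 = N18300 := ded_33_1 (flp_h L197662) (flp_d L192090) (flp_h L192074) L197631 L202803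
theorem L202810 : sm gg N18296 = N18825 := rfl
theorem L202812 : sm gc N18825 = N18297 := ded_27_1 (flp_g L197642) (flp_c L197638) L202810
theorem L202814 : sm gh N18825 = N18301 := ded_42_2 (flp_g L197668) (flp_h L197640) L202810
theorem L202816 : sm gg N18298 = N18826 := rfl
theorem L202818 : sm gb N18826 = N18301 := ded_21_1 (flp_g L197668) (flp_b L197652) L202816
theorem L202820 : sm gc N18826 = N18322 := ded_27_1 (flp_g L197844) (flp_c L197654) L202816
theorem L202822 : sm gg N18299 = N18827 := rfl
theorem L202824 : sm gc N18827 = N18303 := ded_27_1 (flp_g L197680) (flp_c L197658) L202822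
theorem L202826 : sm gd N18827 = N18301 := ded_32_1 (flp_g L197668) (flp_d L197660) L202822
theorem L202828 : sm gh N18299 = N18828 := rfl
theorem L202830 : sm gc N18828 = N18304 := ded_28_1 (flp_h L197684) (flp_c L197658) L202828
theorem L202832 : sm gf N18828 = N18300 := ded_40_1 (flp_h L197662) L197656 L202828
theorem L202834 : sm gi N18300 = N18829 := rfl
theorem L202836 : sm gb N18829 = N18740 := ded_23_1 L202060 L200269 L202834
theorem L202838 : sm gc N18829 = N18305 := ded_29_1 (flp_i L197690) (flp_c L197664) L202834
theorem L202840 : sm ge N18829 = N18327 := ded_38_1 (flp_i L197891) (flp_e L197666) L202834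
theorem L202842 : sm gg N18302 = N18830 := rfl
theorem L202844 : sm ga N18830 = N18322 := ded_14_1 (flp_g L197844) (flp_a L197674) L202842
theorem L202846 : sm gb N18830 = N18387 := ded_21_1 (flp_g L198371) (flp_b L197676) L202842
theorem L202848 : sm ge N18830 = N18303 := ded_36_1 (flp_g L197680) L197672 L202842
theorem L202850 : sm gh N18302 = N18831 := rfl
theorem L202852 : sm ga N18831 = N18318 := ded_15_1 L197814 (flp_a L197674) L202850
theorem L202854 : sm gb N18831 = N18379 := ded_22_1 L198319 (flp_b L197676) L202850
theorem L202856 : sm ge N18831 = N18304 := ded_37_1 (flp_h L197684) L197672 L202850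
theorem L202858 : sm gf N18831 = N18316 := ded_40_1 L197798 (flp_f L197678) L202850
theorem L202860 : sm gh N18303 = N18832 := rfl
theorem L202862 : sm gg N18832 = N18304 := ded_42_1 (flp_h L197684) L197680 L202860
theorem L202864 : sm gd N18832 = N18670 := ded_33_1 (flp_h L201375) L196018 (flp_h L192120) (flp_d L197682) L202860
theorem L202866 : sm gi N18304 = N18833 := rfl
theorem L202868 : sm gb N18833 = N18752 := ded_23_1 L202154 L199142 L202866
theorem L202870 : sm gd N18833 = N18671 := ded_34_1 (flp_i L201379) (flp_d L197688) L202866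
theorem L202872 : sm gf N18833 = N18305 := ded_41_1 (flp_i L197690) (flp_f L197686) L202866
theorem L202874 : sm gg N18306 = N18834 := rfl
theorem L202876 : sm ga N18834 = N18362 := ded_14_1 (flp_g L198173) (flp_a L197700) L202874
theorem L202878 : sm gc N18834 = N18573 := ded_27_1 (flp_g L200448) (flp_c L197702) L202874
theorem L202880 : sm gd N18834 = N18310 := ded_32_1 (flp_g L197740) (flp_d L197704) L202874
theorem L202882 : sm ge N18834 = N18672 := ded_36_1 (flp_g L201383) (flp_e L197708) L202874
theorem L202884 : sm gh N18834 = N18782 := ded_42_2 (flp_g L202466) (flp_h L197706) L202874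
theorem L202886 : sm gf N18307 = N18835 := rfl
theorem L202888 : sm ga N18835 = N18367 := ded_13_1 (flp_f L198217) (flp_a L197712) L202886
theorem L202890 : sm gc N18835 = N18308 := ded_26_1 (flp_f L197720) (flp_c L197714) L202886
theorem L202892 : sm gd N18835 = N18576 := ded_31_1 (flp_f L200470) (flp_d L197718) L202886
theorem L202894 : sm gi N18835 = N18309 := ded_41_2 (flp_f L197728) (flp_i L197716) L202886
theorem L202896 : sm ge N18835 = N18314 := ded_35_1 (flp_f L197776) (flp_e L192172) (flp_f L192136) L197710 L202886
theorem L202898 : sm gg N18308 = N18836 := rfl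
theorem L202900 : sm ga N18836 = N18368 := ded_14_1 (flp_g L198225) (flp_a L197722) L202898
theorem L202902 : sm ge N18836 = N18315 := ded_36_1 (flp_g L197784) (flp_e L197726) L202898
theorem L202904 : sm gi N18836 = N18310 := ded_43_2 (flp_g L197740) (flp_i L197724) L202898
theorem L202906 : sm gg N18309 = N18837 := rfl
theorem L202908 : sm ga N18837 = N18371 := ded_14_1 (flp_g L198255) (flp_a L197730) L202906
theorem L202910 : sm gc N18837 = N18310 := ded_27_1 (flp_g L197740) (flp_c L197732) L202906
theorem L202912 : sm gd N18837 = N18579 := ded_32_1 (flp_g L200494) (flp_d L197734) L202906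
theorem L202914 : sm ge N18837 = N18320 := ded_36_1 (flp_g L197828) (flp_e L197738) L202906
theorem L202916 : sm gh N18837 = N18321 := ded_42_2 (flp_g L197836) (flp_h L197736) L202906
theorem L202918 : sm ge N18311 = N18838 := rfl
theorem L202920 : sm ga N18838 = N18312 := ded_12_1 (flp_e L197758) L197748 L202918
theorem L202922 : sm gb N18838 = N18372 := ded_19_1 (flp_e L198263) (flp_b L197756) L202918
theorem L202924 : sm gi N18838 = N18316 := ded_38_2 (flp_e L197792) (flp_i L197754) L202918
theorem L202926 : sm gd N18312 = N18839 := rfl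
theorem L202928 : sm gb N18839 = N18313 := ded_18_1 (flp_d L197764) (flp_b L197760) L202926
theorem L202930 : sm gg N18839 = N18718 := ded_32_2 (flp_d L202300) L202296 L202926
theorem L202932 : sm gi N18839 = N18317 := ded_34_2 (flp_d L197800) (flp_i L197762) L202926
theorem L202934 : sm ge N18839 = N18324 := ded_30_2 (flp_d L197862) (flp_e L192272) (flp_d L192168) L197758 L202926
theorem L202936 : sm gf N18312 = N18840 := rfl
theorem L202938 : sm gb N18840 = N18314 := ded_20_1 (flp_f L197776) (flp_b L197760) L202936
theorem L202940 : sm gi N18840 = N18318 := ded_41_2 (flp_f L197810) (flp_i L197762) L202936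
theorem L202942 : sm gf N18313 = N18841 := rfl
theorem L202944 : sm ga N18841 = N18375 := ded_13_1 (flp_f L198287) (flp_a L197766) L202942
theorem L202946 : sm gc N18841 = N18676 := ded_26_1 (flp_f L201425) (flp_c L197772) L202942
theorem L202948 : sm gd N18841 = N18314 := ded_31_1 (flp_f L197776) L197764 L202942
theorem L202950 : sm gi N18841 = N18319 := ded_41_2 (flp_f L197816) (flp_i L197770) L202942
theorem L202952 : sm ge N18841 = N18583 := ded_35_1 (flp_f L200524) L195037 (flp_f L192288) (flp_e L197774) L202942
theorem L202954 : sm gg N18314 = N18842 := rfl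
theorem L202956 : sm ga N18842 = N18377 := ded_14_1 (flp_g L198303) (flp_a L197778) L202954
theorem L202958 : sm gc N18842 = N18315 := ded_27_1 (flp_g L197784) (flp_c L197780) L202954
theorem L202960 : sm gi N18842 = N18320 := ded_43_2 (flp_g L197828) (flp_i L197782) L202954
theorem L202962 : sm gd N18316 = N18843 := rfl
theorem L202964 : sm ga N18843 = N18317 := ded_11_1 (flp_d L197800) (flp_a L197794) L202962
theorem L202966 : sm gb N18843 = N18378 := ded_18_1 (flp_d L198309) (flp_b L197796) L202962
theorem L202968 : sm gg N18843 = N18721 := ded_32_2 L201890 L200038 L202962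
theorem L202970 : sm ge N18843 = N18325 := ded_30_2 (flp_d L197872) (flp_e L192296) (flp_d L192190) L197792 L202962
theorem L202972 : sm gh N18843 = N18691 := ded_33_2 L201603 L199212 L193728 (flp_h L197798) L202962
theorem L202974 : sm gf N18317 = N18844 := rfl
theorem L202976 : sm gb N18844 = N18319 := ded_20_1 (flp_f L197816) (flp_b L197802) L202974
theorem L202978 : sm gd N18844 = N18318 := ded_31_1 (flp_f L197810) L197800 L202974
theorem L202980 : sm gh N18844 = N18692 := ded_40_2 (flp_f L201605) (flp_h L197808) L202974
theorem L202982 : sm ge N18844 = N18589 := ded_35_1 (flp_f L200576) L195059 (flp_f L192313) (flp_e L197806) L202974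
theorem L202984 : sm gg N18318 = N18845 := rfl
theorem L202986 : sm gb N18845 = N18320 := ded_21_1 (flp_g L197828) (flp_b L197812) L202984
theorem L202988 : sm gh N18845 = N18322 := ded_42_2 (flp_g L197844) (flp_h L197814) L202984
theorem L202990 : sm gg N18319 = N18846 := rfl
theorem L202992 : sm ga N18846 = N18382 := ded_14_1 (flp_g L198333) (flp_a L197818) L202990
theorem L202994 : sm gc N18846 = N18678 := ded_27_1 (flp_g L201451) (flp_c L197820) L202990
theorem L202996 : sm gd N18846 = N18320 := ded_32_1 (flp_g L197828) (flp_d L197822) L202990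
theorem L202998 : sm ge N18846 = N18591 := ded_36_1 (flp_g L200590) (flp_e L197826) L202990
theorem L203000 : sm gh N18846 = N18693 := ded_42_2 (flp_g L201615) (flp_h L197824) L202990
theorem L203002 : sm gf N18846 = N18723 := ded_39_1 (flp_g L201898) (flp_f L196591) (flp_g L192208) L197816 L202990
theorem L203004 : sm gd N18323 = N18847 := rfl
theorem L203006 : sm ga N18847 = N18324 := ded_11_1 (flp_d L197862) (flp_a L197850) L203004
theorem L203008 : sm gb N18847 = N18388 := ded_18_1 (flp_d L198375) (flp_b L197852) L203004
theorem L203010 : sm gf N18847 = N18594 := ded_31_2 (flp_d L200616) (flp_f L197860) L203004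
theorem L203012 : sm gg N18847 = N18717 := ded_32_2 L201858 (flp_g L197855) L203004
theorem L203014 : sm gi N18847 = N18325 := ded_34_2 (flp_d L197872) (flp_i L197858) L203004
theorem L203016 : sm gd N18328 = N18848 := rfl
theorem L203018 : sm ga N18848 = N18785 := ded_11_1 (flp_d L202497) (flp_a L197900) L203016
theorem L203020 : sm gg N18848 = N18615 := ded_32_2 (flp_d L200849) (flp_g L197904) L203016
theorem L203022 : sm gc N18848 = N18602 := ded_24_1 (flp_d L200712) L195288 (flp_d L192354) (flp_c L197902) L203016
theorem L203024 : sm ge N18848 = N18848 := ded_30_2 (flp_d L203016) (flp_e L197898) L192343 L197898 L203016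
theorem L203025 : sm gf N18328 = N18849 := rfl
theorem L203027 : sm ga N18849 = N18786 := ded_13_1 (flp_f L202504) (flp_a L197900) L203025
theorem L203029 : sm gc N18849 = N18329 := ded_26_1 (flp_f L197908) (flp_c L197902) L203025
theorem L203031 : sm gh N18849 = N18343 := ded_40_2 (flp_f L198031) (flp_h L197906) L203025
theorem L203033 : sm ge N18849 = N18336 := ded_35_1 (flp_f L197965) (flp_e L192378) (flp_f L192337) L197898 L203025
theorem L203035 : sm gg N18329 = N18850 := rfl
theorem L203037 : sm ga N18850 = N18787 := ded_14_1 (flp_g L202510) (flp_a L197910) L203035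
theorem L203039 : sm gb N18850 = N18605 := ded_21_1 (flp_g L200741) (flp_b L197912) L203035
theorem L203041 : sm gd N18850 = N18604 := ded_32_1 (flp_g L200731) (flp_d L197914) L203035
theorem L203043 : sm ge N18850 = N18337 := ded_36_1 (flp_g L197971) (flp_e L197918) L203035
theorem L203045 : sm gh N18850 = N18344 := ded_42_2 (flp_g L198039) (flp_h L197916) L203035
theorem L203047 : sm gf N18850 = N18617 := ded_39_1 (flp_g L200858) (flp_f L195403) (flp_g L192350) L197908 L203035
theorem L203049 : sm ga N18330 = N18851 := rfl
theorem L203051 : sm gc N18851 = N18847 := ded_10_2 L203006 (flp_c L197927) L203049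
theorem L203053 : sm gd N18851 = N18851 := ded_11_2 (flp_a L203049) L197922 L203049
theorem L203054 : sm gh N18851 = N18717 := ded_15_2 (flp_a L201856) (flp_h L197923) L203049
theorem L203056 : sm gi N18851 = N18333 := ded_16_2 (flp_a L197945) (flp_i L197925) L203049
theorem L203058 : sm ge N18330 = N18852 := rfl
theorem L203060 : sm gb N18852 = N18331 := ded_19_1 (flp_e L197929) L197920 L203058
theorem L203062 : sm gc N18852 = N18839 := ded_25_1 L202934 (flp_c L197927) L203058
theorem L203064 : sm gh N18852 = N18718 := ded_37_2 (flp_e L201864) (flp_h L197923) L203058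
theorem L203066 : sm gi N18852 = N18334 := ded_38_2 (flp_e L197952) (flp_i L197925) L203058
theorem L203068 : sm gd N18331 = N18853 := rfl
theorem L203070 : sm gi N18853 = N18335 := ded_34_2 (flp_d L197960) (flp_i L197935) L203068
theorem L203072 : sm gc N18853 = N18355 := ded_24_1 (flp_d L198124) L192541 (flp_d L192369) (flp_c L197931) L203068
theorem L203074 : sm ge N18853 = N18853 := ded_30_2 (flp_d L203068) (flp_e L197929) L192362 L197929 L203068
theorem L203075 : sm gf N18331 = N18854 := rfl
theorem L203077 : sm gc N18854 = N18332 := ded_26_1 (flp_f L197937) (flp_c L197931) L203075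
theorem L203079 : sm gh N18854 = N18719 := ded_40_2 (flp_f L201870) (flp_h L197933) L203075
theorem L203081 : sm gi N18854 = N18336 := ded_41_2 (flp_f L197965) (flp_i L197935) L203075
theorem L203083 : sm gg N18332 = N18855 := rfl
theorem L203085 : sm gd N18855 = N18357 := ded_32_1 (flp_g L198137) (flp_d L197939) L203083
theorem L203087 : sm gh N18855 = N18720 := ded_42_2 (flp_g L201876) (flp_h L197941) L203083
theorem L203089 : sm gi N18855 = N18337 := ded_43_2 (flp_g L197971) (flp_i L197943) L203083
theorem L203091 : sm ge N18333 = N18856 := rfl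
theorem L203093 : sm ga N18856 = N18334 := ded_12_1 (flp_e L197952) L197945 L203091
theorem L203095 : sm gc N18856 = N18843 := ded_25_1 L202970 (flp_c L197947) L203091
theorem L203097 : sm gh N18856 = N18345 := ded_37_2 (flp_e L198049) (flp_h L197950) L203091
theorem L203099 : sm gd N18334 = N18857 := rfl
theorem L203101 : sm gb N18857 = N18335 := ded_18_1 (flp_d L197960) (flp_b L197954) L203099
theorem L203103 : sm gc N18857 = N18821 := ded_24_1 (flp_d L202784) L197627 L197800 (flp_c L197956) L203099
theorem L203105 : sm ge N18857 = N18857 := ded_30_2 (flp_d L203099) (flp_e L197952) L192373 L197952 L203099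
theorem L203106 : sm gf N18334 = N18858 := rfl
theorem L203108 : sm gb N18858 = N18336 := ded_20_1 (flp_f L197965) (flp_b L197954) L203106
theorem L203110 : sm gc N18858 = N18844 := ded_26_1 (flp_f L202974) (flp_c L197956) L203106
theorem L203112 : sm gh N18858 = N18346 := ded_40_2 (flp_f L198055) (flp_h L197958) L203106
theorem L203114 : sm gf N18335 = N18859 := rfl
theorem L203116 : sm gc N18859 = N18358 := ded_26_1 (flp_f L198143) (flp_c L197962) L203114
theorem L203118 : sm gd N18859 = N18336 := ded_31_1 (flp_f L197965) L197960 L203114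
theorem L203120 : sm gg N18336 = N18860 := rfl
theorem L203122 : sm gc N18860 = N18337 := ded_27_1 (flp_g L197971) (flp_c L197967) L203120
theorem L203124 : sm gh N18860 = N18347 := ded_42_2 (flp_g L198061) (flp_h L197969) L203120
theorem L203126 : sm gf N18338 = N18861 := rfl
theorem L203128 : sm gc N18861 = N18339 := ded_26_1 (flp_f L197987) (flp_c L197979) L203126
theorem L203130 : sm gh N18861 = N18616 := ded_40_2 (flp_f L200854) (flp_h L197983) L203126
theorem L203132 : sm gi N18861 = N18724 := ded_41_2 (flp_f L201904) (flp_i L197985) L203126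
theorem L203134 : sm ge N18861 = N18777 := ded_35_1 (flp_f L202414) L197191 (flp_f L192392) L197977 L203126
theorem L203136 : sm gg N18339 = N18862 := rfl
theorem L203138 : sm gb N18862 = N18621 := ded_21_1 (flp_g L200888) (flp_b L197989) L203136
theorem L203140 : sm gd N18862 = N18633 := ded_32_1 (flp_g L200996) (flp_d L197991) L203136
theorem L203142 : sm gh N18862 = N18617 := ded_42_2 (flp_g L200858) (flp_h L197993) L203136
theorem L203144 : sm gi N18862 = N18725 := ded_43_2 (flp_g L201914) (flp_i L197995) L203136
theorem L203146 : sm gf N18862 = N18344 := ded_39_1 (flp_g L198039) (flp_f L192430) (flp_g L192406) L197987 L203136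
theorem L203148 : sm ge N18340 = N18863 := rfl
theorem L203150 : sm ga N18863 = N18341 := ded_12_1 (flp_e L198009) L197997 L203148
theorem L203152 : sm gc N18863 = N18378 := ded_25_1 L198313 (flp_c L197999) L203148
theorem L203154 : sm gg N18863 = N18798 := ded_36_2 L202611 (flp_g L198005) L203148
theorem L203156 : sm gi N18863 = N18714 := ded_38_2 L201838 (flp_i L198007) L203148
theorem L203158 : sm gd N18863 = N18711 := ded_30_1 (flp_e L201798) L196519 (flp_e L192468) (flp_d L198001) L203148
theorem L203160 : sm gf N18341 = N18864 := rfl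
theorem L203162 : sm gb N18864 = N18343 := ded_20_1 (flp_f L198031) (flp_b L198011) L203160
theorem L203164 : sm gc N18864 = N18380 := ded_26_1 (flp_f L198321) (flp_c L198013) L203160
theorem L203166 : sm gd N18864 = N18861 := ded_31_1 (flp_f L203126) (flp_d L198017) L203160
theorem L203168 : sm gi N18864 = N18726 := ded_41_2 (flp_f L201924) (flp_i L198015) L203160
theorem L203170 : sm ge N18864 = N18346 := ded_35_1 (flp_f L198055) (flp_e L192446) (flp_f L192418) L198009 L203160
theorem L203172 : sm gf N18342 = N18865 := rfl
theorem L203174 : sm gb N18865 = N18861 := ded_20_1 (flp_f L203126) (flp_b L198021) L203172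
theorem L203176 : sm gc N18865 = N18779 := ded_26_1 (flp_f L202432) (flp_c L198027) L203172
theorem L203178 : sm gd N18865 = N18343 := ded_31_1 (flp_f L198031) L198019 L203172
theorem L203180 : sm gi N18865 = N18727 := ded_41_2 (flp_f L201932) (flp_i L198025) L203172
theorem L203182 : sm gg N18343 = N18866 := rfl
theorem L203184 : sm gc N18866 = N18344 := ded_27_1 (flp_g L198039) (flp_c L198033) L203182
theorem L203186 : sm ge N18866 = N18347 := ded_36_1 (flp_g L198061) (flp_e L198037) L203182
theorem L203188 : sm gi N18866 = N18728 := ded_43_2 (flp_g L201938) (flp_i L198035) L203182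
theorem L203190 : sm gf N18345 = N18867 := rfl
theorem L203192 : sm ga N18867 = N18346 := ded_13_1 (flp_f L198055) (flp_a L198051) L203190
theorem L203194 : sm gi N18867 = N18729 := ded_41_2 (flp_f L201944) (flp_i L198053) L203190
theorem L203196 : sm gg N18346 = N18868 := rfl
theorem L203198 : sm gb N18868 = N18347 := ded_21_1 (flp_g L198061) (flp_b L198057) L203196
theorem L203200 : sm gi N18868 = N18730 := ded_43_2 (flp_g L201948) (flp_i L198059) L203196
theorem L203202 : sm gd N18348 = N18869 := rfl
theorem L203204 : sm ga N18869 = N18519 := ded_11_1 (flp_d L199894) (flp_a L198069) L203202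
theorem L203206 : sm gb N18869 = N18680 := ded_18_1 (flp_d L201479) (flp_b L198071) L203202
theorem L203208 : sm gg N18869 = N18638 := ded_32_2 (flp_d L201054) (flp_g L198075) L203202
theorem L203210 : sm gc N18869 = N18352 := ded_24_1 (flp_d L198107) L192529 (flp_d L192510) (flp_c L198073) L203202
theorem L203212 : sm ge N18869 = N18869 := ded_30_2 (flp_d L203202) (flp_e L198067) L192499 L198067 L203202
theorem L203213 : sm gh N18869 = N18545 := ded_33_2 (flp_d L200194) L194726 (flp_d L193388) (flp_h L198077) L203202
theorem L203215 : sm gf N18348 = N18870 := rfl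
theorem L203217 : sm ga N18870 = N18520 := ded_13_1 (flp_f L199905) (flp_a L198069) L203215
theorem L203219 : sm gb N18870 = N18681 := ded_20_1 (flp_f L201484) (flp_b L198071) L203215
theorem L203221 : sm gc N18870 = N18349 := ded_26_1 (flp_f L198079) (flp_c L198073) L203215
theorem L203223 : sm gh N18870 = N18436 := ded_40_2 (flp_f L198970) (flp_h L198077) L203215
theorem L203225 : sm ge N18870 = N18603 := ded_35_1 (flp_f L200721) (flp_e L195282) (flp_f L192491) L198067 L203215
theorem L203227 : sm gg N18349 = N18871 := rfl
theorem L203229 : sm ga N18871 = N18521 := ded_14_1 (flp_g L199917) (flp_a L198081) L203227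
theorem L203231 : sm gb N18871 = N18601 := ded_21_1 (flp_g L200700) (flp_b L198083) L203227
theorem L203233 : sm gd N18871 = N18354 := ded_32_1 (flp_g L198118) (flp_d L198085) L203227
theorem L203235 : sm ge N18871 = N18604 := ded_36_1 (flp_g L200731) (flp_e L198089) L203227
theorem L203237 : sm gh N18871 = N18437 := ded_42_2 (flp_g L198984) (flp_h L198087) L203227
theorem L203239 : sm gf N18871 = N18640 := ded_39_1 (flp_g L201071) (flp_f L195678) (flp_g L192506) L198079 L203227
theorem L203241 : sm gd N18350 = N18872 := rfl
theorem L203243 : sm gi N18872 = N18352 := ded_34_2 (flp_d L198107) (flp_i L198097) L203241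
theorem L203245 : sm ge N18872 = N18872 := ded_30_2 (flp_d L203241) (flp_e L198091) L192520 L198091 L203241
theorem L203246 : sm gf N18350 = N18873 := rfl
theorem L203248 : sm gc N18873 = N18351 := ded_26_1 (flp_f L198099) (flp_c L198093) L203246
theorem L203250 : sm gh N18873 = N18367 := ded_40_2 (flp_f L198217) (flp_h L198095) L203246
theorem L203252 : sm gi N18873 = N18353 := ded_41_2 (flp_f L198110) (flp_i L198097) L203246
theorem L203254 : sm ge N18873 = N18356 := ded_35_1 (flp_f L198129) (flp_e L192539) (flp_f L192514) L198091 L203246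
theorem L203256 : sm gg N18351 = N18874 := rfl
theorem L203258 : sm ge N18874 = N18357 := ded_36_1 (flp_g L198137) (flp_e L198105) L203256
theorem L203260 : sm gh N18874 = N18368 := ded_42_2 (flp_g L198225) (flp_h L198101) L203256
theorem L203262 : sm gi N18874 = N18354 := ded_43_2 (flp_g L198118) (flp_i L198103) L203256
theorem L203264 : sm gf N18352 = N18875 := rfl
theorem L203266 : sm gd N18875 = N18353 := ded_31_1 (flp_f L198110) L198107 L203264
theorem L203268 : sm gg N18353 = N18876 := rfl
theorem L203270 : sm gc N18876 = N18354 := ded_27_1 (flp_g L198118) (flp_c L198112) L203268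
theorem L203272 : sm ge N18876 = N18359 := ded_36_1 (flp_g L198147) (flp_e L198116) L203268
theorem L203274 : sm gh N18876 = N18360 := ded_42_2 (flp_g L198153) (flp_h L198114) L203268
theorem L203276 : sm gf N18355 = N18877 := rfl
theorem L203278 : sm gd N18877 = N18356 := ded_31_1 (flp_f L198129) L198124 L203276
theorem L203280 : sm gi N18877 = N18358 := ded_41_2 (flp_f L198143) (flp_i L198126) L203276
theorem L203282 : sm gh N18355 = N18878 := rfl
theorem L203284 : sm ge N18878 = N18878 := ded_37_1 (flp_h L203282) L198128 L203282
theorem L203285 : sm gd N18878 = N18376 := ded_33_1 (flp_h L198297) (flp_d L192690) (flp_h L192543) L198124 L203282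
theorem L203287 : sm gg N18356 = N18879 := rfl
theorem L203289 : sm gc N18879 = N18357 := ded_27_1 (flp_g L198137) (flp_c L198131) L203287
theorem L203291 : sm gh N18879 = N18377 := ded_42_2 (flp_g L198303) (flp_h L198133) L203287
theorem L203293 : sm gi N18879 = N18359 := ded_43_2 (flp_g L198147) (flp_i L198135) L203287
theorem L203295 : sm ge N18358 = N18880 := rfl
theorem L203297 : sm gf N18880 = N18880 := ded_35_2 (flp_e L203295) (flp_f L198143) L192555 L198143 L203295
theorem L203298 : sm gg N18358 = N18881 := rfl
theorem L203300 : sm gd N18881 = N18359 := ded_32_1 (flp_g L198147) (flp_d L198145) L203298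
theorem L203302 : sm gg N18361 = N18882 := rfl
theorem L203304 : sm ga N18882 = N18573 := ded_14_1 (flp_g L200448) (flp_a L198163) L203302
theorem L203306 : sm gc N18882 = N18362 := ded_27_1 (flp_g L198173) (flp_c L198165) L203302
theorem L203308 : sm gd N18882 = N18451 := ded_32_1 (flp_g L199174) (flp_d L198167) L203302
theorem L203310 : sm ge N18882 = N18782 := ded_36_1 (flp_g L202466) (flp_e L198171) L203302
theorem L203312 : sm gh N18882 = N18672 := ded_42_2 (flp_g L201383) (flp_h L198169) L203302
theorem L203314 : sm gg N18363 = N18883 := rfl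
theorem L203316 : sm gc N18883 = N18364 := ded_27_1 (flp_g L198185) (flp_c L198181) L203314
theorem L203318 : sm gh N18883 = N18383 := ded_42_2 (flp_g L198339) (flp_h L198183) L203314
theorem L203320 : sm gf N18883 = N18371 := ded_39_1 (flp_g L198255) (flp_f L192660) (flp_g L192606) L198179 L203314
theorem L203322 : sm gf N18365 = N18884 := rfl
theorem L203324 : sm ga N18884 = N18752 := ded_13_1 (flp_f L202150) (flp_a L198193) L203322
theorem L203326 : sm gb N18884 = N18367 := ded_20_1 (flp_f L198217) (flp_b L198195) L203322
theorem L203328 : sm gc N18884 = N18634 := ded_26_1 (flp_f L201006) (flp_c L198197) L203322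
theorem L203330 : sm gd N18884 = N18756 := ded_31_1 (flp_f L202186) (flp_d L198201) L203322
theorem L203332 : sm gi N18884 = N18369 := ded_41_2 (flp_f L198231) (flp_i L198199) L203322
theorem L203334 : sm ge N18884 = N18374 := ded_35_1 (flp_f L198281) (flp_e L192684) (flp_f L192618) L198191 L203322
theorem L203336 : sm gf N18366 = N18885 := rfl
theorem L203338 : sm ga N18885 = N18576 := ded_13_1 (flp_f L200470) (flp_a L198205) L203336
theorem L203340 : sm gb N18885 = N18756 := ded_20_1 (flp_f L202186) (flp_b L198207) L203336
theorem L203342 : sm gc N18885 = N18450 := ded_26_1 (flp_f L199162) (flp_c L198213) L203336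
theorem L203344 : sm gd N18885 = N18367 := ded_31_1 (flp_f L198217) L198203 L203336
theorem L203346 : sm gi N18885 = N18370 := ded_41_2 (flp_f L198241) (flp_i L198211) L203336
theorem L203348 : sm ge N18885 = N18452 := ded_35_1 (flp_f L199182) (flp_e L193626) (flp_f L192794) (flp_e L198215) L203336
theorem L203350 : sm gg N18367 = N18886 := rfl
theorem L203352 : sm gc N18886 = N18368 := ded_27_1 (flp_g L198225) (flp_c L198219) L203350
theorem L203354 : sm ge N18886 = N18377 := ded_36_1 (flp_g L198303) (flp_e L198223) L203350
theorem L203356 : sm gi N18886 = N18371 := ded_43_2 (flp_g L198255) (flp_i L198221) L203350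
theorem L203358 : sm gg N18369 = N18887 := rfl
theorem L203360 : sm gb N18887 = N18371 := ded_21_1 (flp_g L198255) (flp_b L198233) L203358
theorem L203362 : sm gd N18887 = N18883 := ded_32_1 (flp_g L203314) (flp_d L198235) L203358
theorem L203364 : sm ge N18887 = N18381 := ded_36_1 (flp_g L198327) (flp_e L198239) L203358
theorem L203366 : sm gh N18887 = N18384 := ded_42_2 (flp_g L198345) (flp_h L198237) L203358
theorem L203368 : sm gg N18370 = N18888 := rfl
theorem L203370 : sm ga N18888 = N18579 := ded_14_1 (flp_g L200494) (flp_a L198243) L203368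
theorem L203372 : sm gb N18888 = N18883 := ded_21_1 (flp_g L203314) (flp_b L198245) L203368
theorem L203374 : sm gc N18888 = N18451 := ded_27_1 (flp_g L199174) (flp_c L198247) L203368
theorem L203376 : sm gd N18888 = N18371 := ded_32_1 (flp_g L198255) (flp_d L198249) L203368
theorem L203378 : sm ge N18888 = N18456 := ded_36_1 (flp_g L199224) (flp_e L198253) L203368
theorem L203380 : sm gh N18888 = N18458 := ded_42_2 (flp_g L199248) (flp_h L198251) L203368
theorem L203382 : sm gf N18888 = N18887 := ded_39_1 (flp_g L203358) (flp_f L198231) (flp_g L192652) L198241 L203368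
theorem L203384 : sm gd N18372 = N18889 := rfl
theorem L203386 : sm ga N18889 = N18373 := ded_11_1 (flp_d L198271) (flp_a L198265) L203384
theorem L203388 : sm gi N18889 = N18378 := ded_34_2 (flp_d L198309) (flp_i L198269) L203384
theorem L203390 : sm gc N18889 = N18714 := ded_24_1 (flp_d L201832) L196547 (flp_d L196505) (flp_c L198267) L203384
theorem L203392 : sm ge N18889 = N18388 := ded_30_2 (flp_d L198375) (flp_e L192802) (flp_d L192678) L198263 L203384
theorem L203394 : sm gf N18372 = N18890 := rfl
theorem L203396 : sm ga N18890 = N18374 := ded_13_1 (flp_f L198281) (flp_a L198265) L203394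
theorem L203398 : sm gc N18890 = N18709 := ded_26_1 (flp_f L201772) (flp_c L198267) L203394
theorem L203400 : sm gi N18890 = N18379 := ded_41_2 (flp_f L198315) (flp_i L198269) L203394
theorem L203402 : sm ge N18890 = N18752 := ded_35_1 (flp_f L202150) (flp_e L196863) (flp_f L192680) L198263 L203394
theorem L203404 : sm gf N18373 = N18891 := rfl
theorem L203406 : sm gb N18891 = N18375 := ded_20_1 (flp_f L198287) (flp_b L198273) L203404
theorem L203408 : sm gc N18891 = N18726 := ded_26_1 (flp_f L201924) (flp_c L198277) L203404
theorem L203410 : sm gd N18891 = N18374 := ded_31_1 (flp_f L198281) L198271 L203404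
theorem L203412 : sm gi N18891 = N18380 := ded_41_2 (flp_f L198321) (flp_i L198275) L203404
theorem L203414 : sm ge N18891 = N18707 := ded_35_1 (flp_f L201756) (flp_e L196469) (flp_f L192817) (flp_e L198279) L203404
theorem L203416 : sm gh N18373 = N18892 := rfl
theorem L203418 : sm gb N18892 = N18376 := ded_22_1 (flp_h L198297) (flp_b L198273) L203416
theorem L203420 : sm gc N18892 = N18713 := ded_28_1 L201830 (flp_c L198277) L203416
theorem L203422 : sm ge N18892 = N18389 := ded_37_1 (flp_h L198385) (flp_e L198279) L203416
theorem L203424 : sm gg N18374 = N18893 := rfl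
theorem L203426 : sm gb N18893 = N18377 := ded_21_1 (flp_g L198303) (flp_b L198283) L203424
theorem L203428 : sm gi N18893 = N18381 := ded_43_2 (flp_g L198327) (flp_i L198285) L203424
theorem L203430 : sm gg N18375 = N18894 := rfl
theorem L203432 : sm gc N18894 = N18705 := ded_27_1 (flp_g L201736) (flp_c L198289) L203430
theorem L203434 : sm gd N18894 = N18377 := ded_32_1 (flp_g L198303) (flp_d L198291) L203430
theorem L203436 : sm ge N18894 = N18708 := ded_36_1 (flp_g L201764) (flp_e L198295) L203430
theorem L203438 : sm gi N18894 = N18382 := ded_43_2 (flp_g L198333) (flp_i L198293) L203430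
theorem L203440 : sm gh N18375 = N18895 := rfl
theorem L203442 : sm gc N18895 = N18696 := ded_28_1 L201649 (flp_c L198289) L203440
theorem L203444 : sm ge N18895 = N18703 := ded_37_1 L201724 (flp_e L198295) L203440
theorem L203446 : sm gf N18895 = N18376 := ded_40_1 (flp_h L198297) L198287 L203440
theorem L203448 : sm gf N18378 = N18896 := rfl
theorem L203450 : sm ga N18896 = N18380 := ded_13_1 (flp_f L198321) (flp_a L198311) L203448
theorem L203452 : sm gd N18896 = N18379 := ded_31_1 (flp_f L198315) L198309 L203448
theorem L203454 : sm gg N18379 = N18897 := rfl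
theorem L203456 : sm ga N18897 = N18381 := ded_14_1 (flp_g L198327) (flp_a L198317) L203454
theorem L203458 : sm gh N18897 = N18387 := ded_42_2 (flp_g L198371) (flp_h L198319) L203454
theorem L203460 : sm gg N18380 = N18898 := rfl
theorem L203462 : sm gb N18898 = N18382 := ded_21_1 (flp_g L198333) (flp_b L198323) L203460
theorem L203464 : sm gd N18898 = N18381 := ded_32_1 (flp_g L198327) (flp_d L198325) L203460
theorem L203466 : sm gh N18385 = N18899 := rfl
theorem L203468 : sm ga N18899 = N18439 := ded_15_1 (flp_h L200680) L200672 L203466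
theorem L203470 : sm gb N18899 = N18600 := ded_22_1 L200696 L199076 L203466
theorem L203472 : sm gc N18899 = N18438 := ded_28_1 L199008 L198960 L203466
theorem L203474 : sm ge N18899 = N18599 := ded_37_1 L200680 L199022 L203466
theorem L203476 : sm gf N18899 = N18443 := ded_40_1 (flp_h L200696) L200698 L203466
theorem L203478 : sm gg N18899 = N18386 := ded_42_1 (flp_h L198355) L198351 L203466
theorem L203480 : sm gd N18899 = N18458 := ded_33_1 (flp_h L203380) L203376 L198261 (flp_d L198353) L203466
theorem L203482 : sm gi N18688 = N18899 := ded_29_0 L203472 L199010 (flp_c L201563)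
theorem L203484 : sm gh N18388 = N18900 := rfl
theorem L203486 : sm ga N18900 = N18389 := ded_15_1 (flp_h L198385) (flp_a L198377) L203484
theorem L203488 : sm gc N18900 = N18630 := ded_28_1 L200972 (flp_c L198383) L203484
theorem L203490 : sm gf N18900 = N18700 := ded_40_1 L201701 (flp_f L198379) L203484
theorem L203492 : sm gd N18900 = N18900 := ded_33_1 (flp_h L203484) (flp_d L198375) L192808 L198375 L203484
theorem L203493 : sm gd N18390 = N18901 := rfl
theorem L203495 : sm ga N18901 = N18395 := ded_11_1 (flp_d L198463) (flp_a L198396) L203493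
theorem L203497 : sm gb N18901 = N18638 := ded_18_1 (flp_d L201054) (flp_b L198398) L203493
theorem L203499 : sm gg N18901 = N18680 := ded_32_2 (flp_d L201479) (flp_g L198402) L203493
theorem L203501 : sm gi N18901 = N18869 := ded_34_2 (flp_d L203202) (flp_i L198406) L203493
theorem L203503 : sm gc N18901 = N18872 := ded_24_1 (flp_d L203241) L198093 (flp_d L192861) (flp_c L198400) L203493
theorem L203505 : sm ge N18901 = N18901 := ded_30_2 (flp_d L203493) (flp_e L198394) L192848 L198394 L203493
theorem L203506 : sm gh N18901 = N18661 := ded_33_2 (flp_d L201305) L195947 (flp_d L193153) (flp_h L198404) L203493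
theorem L203508 : sm gf N18390 = N18902 := rfl
theorem L203510 : sm ga N18902 = N18396 := ded_13_1 (flp_f L198468) (flp_a L198396) L203508
theorem L203512 : sm gb N18902 = N18639 := ded_20_1 (flp_f L201063) (flp_b L198398) L203508
theorem L203514 : sm gc N18902 = N18391 := ded_26_1 (flp_f L198408) (flp_c L198400) L203508
theorem L203516 : sm gh N18902 = N18416 := ded_40_2 (flp_f L198727) (flp_h L198404) L203508
theorem L203518 : sm gi N18902 = N18870 := ded_41_2 (flp_f L203215) (flp_i L198406) L203508
theorem L203520 : sm ge N18902 = N18609 := ded_35_1 (flp_f L200784) (flp_e L195345) (flp_f L192838) L198394 L203508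
theorem L203522 : sm gg N18391 = N18903 := rfl
theorem L203524 : sm ga N18903 = N18397 := ded_14_1 (flp_g L198478) (flp_a L198410) L203522
theorem L203526 : sm gb N18903 = N18464 := ded_21_1 (flp_g L199332) (flp_b L198412) L203522
theorem L203528 : sm gd N18903 = N18874 := ded_32_1 (flp_g L203256) (flp_d L198414) L203522
theorem L203530 : sm ge N18903 = N18610 := ded_36_1 (flp_g L200794) (flp_e L198420) L203522
theorem L203532 : sm gh N18903 = N18417 := ded_42_2 (flp_g L198741) (flp_h L198416) L203522
theorem L203534 : sm gi N18903 = N18871 := ded_43_2 (flp_g L203227) (flp_i L198418) L203522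
theorem L203536 : sm gf N18903 = N18682 := ded_39_1 (flp_g L201494) (flp_f L196200) (flp_g L192855) L198408 L203522
theorem L203538 : sm ge N18392 = N18904 := rfl
theorem L203540 : sm ga N18904 = N18807 := ded_12_1 L202687 (flp_a L198433) L203538
theorem L203542 : sm gb N18904 = N18393 := ded_19_1 (flp_e L198437) L198422 L203538
theorem L203544 : sm gc N18904 = N18405 := ded_25_1 (flp_e L198585) (flp_c L198435) L203538
theorem L203546 : sm gg N18904 = N18559 := ded_36_2 (flp_e L200326) (flp_g L198427) L203538
theorem L203548 : sm gh N18904 = N18648 := ded_37_2 L201162 (flp_h L198429) L203538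
theorem L203550 : sm gi N18904 = N18523 := ded_38_2 (flp_e L199943) (flp_i L198431) L203538
theorem L203552 : sm gd N18393 = N18905 := rfl
theorem L203554 : sm ga N18905 = N18872 := ded_11_1 (flp_d L203241) (flp_a L198439) L203552
theorem L203556 : sm gg N18905 = N18560 := ded_32_2 (flp_d L200336) (flp_g L198443) L203552
theorem L203558 : sm gi N18905 = N18524 := ded_34_2 (flp_d L199955) (flp_i L198447) L203552
theorem L203560 : sm gc N18905 = N18395 := ded_24_1 (flp_d L198463) L192894 (flp_d L192888) (flp_c L198441) L203552
theorem L203562 : sm ge N18905 = N18905 := ded_30_2 (flp_d L203552) (flp_e L198437) L192875 L198437 L203552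
theorem L203563 : sm gf N18393 = N18906 := rfl
theorem L203565 : sm ga N18906 = N18873 := ded_13_1 (flp_f L203246) (flp_a L198439) L203563
theorem L203567 : sm gc N18906 = N18394 := ded_26_1 (flp_f L198449) (flp_c L198441) L203563
theorem L203569 : sm gh N18906 = N18835 := ded_40_2 (flp_f L202886) (flp_h L198445) L203563
theorem L203571 : sm gi N18906 = N18525 := ded_41_2 (flp_f L199966) (flp_i L198447) L203563
theorem L203573 : sm ge N18906 = N18810 := ded_35_1 (flp_f L202706) (flp_e L197545) (flp_f L192867) L198437 L203563
theorem L203575 : sm gg N18394 = N18907 := rfl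
theorem L203577 : sm ga N18907 = N18874 := ded_14_1 (flp_g L203256) (flp_a L198451) L203575
theorem L203579 : sm gb N18907 = N18407 := ded_21_1 (flp_g L198605) (flp_b L198453) L203575
theorem L203581 : sm gd N18907 = N18397 := ded_32_1 (flp_g L198478) (flp_d L198455) L203575
theorem L203583 : sm ge N18907 = N18811 := ded_36_1 (flp_g L202716) (flp_e L198461) L203575
theorem L203585 : sm gh N18907 = N18836 := ded_42_2 (flp_g L202898) (flp_h L198457) L203575
theorem L203587 : sm gi N18907 = N18526 := ded_43_2 (flp_g L199976) (flp_i L198459) L203575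
theorem L203589 : sm gf N18907 = N18562 := ded_39_1 (flp_g L200347) (flp_f L194858) (flp_g L192882) L198449 L203575
theorem L203591 : sm gf N18395 = N18908 := rfl
theorem L203593 : sm gb N18908 = N18788 := ded_20_1 (flp_f L202518) (flp_b L198465) L203591
theorem L203595 : sm gd N18908 = N18396 := ded_31_1 (flp_f L198468) L198463 L203591
theorem L203597 : sm gh N18395 = N18909 := rfl
theorem L203599 : sm ga N18909 = N18661 := ded_15_1 (flp_h L203506) L203495 L203597
theorem L203601 : sm gb N18909 = N18789 := ded_22_1 (flp_h L202524) (flp_b L198465) L203597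
theorem L203603 : sm ge N18909 = N18909 := ded_37_1 (flp_h L203597) L198467 L203597
theorem L203604 : sm gg N18909 = N18501 := ded_42_1 (flp_h L201517) L201510 L203597
theorem L203606 : sm gd N18909 = N18421 := ded_33_1 (flp_h L198801) (flp_d L193197) (flp_h L192896) L198463 L203597
theorem L203608 : sm gg N18396 = N18910 := rfl
theorem L203610 : sm gb N18910 = N18790 := ded_21_1 (flp_g L202529) (flp_b L198470) L203608
theorem L203612 : sm gc N18910 = N18397 := ded_27_1 (flp_g L198478) (flp_c L198472) L203608
theorem L203614 : sm ge N18910 = N18619 := ded_36_1 (flp_g L200868) (flp_e L198476) L203608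
theorem L203616 : sm gh N18910 = N18422 := ded_42_2 (flp_g L198813) (flp_h L198474) L203608
theorem L203618 : sm ge N18398 = N18911 := rfl
theorem L203620 : sm ga N18911 = N18829 := ded_12_1 L202840 (flp_a L198497) L203618
theorem L203622 : sm gb N18911 = N18399 := ded_19_1 (flp_e L198501) L198486 L203618
theorem L203624 : sm gc N18911 = N18648 := ded_25_1 L201162 (flp_c L198499) L203618
theorem L203626 : sm gg N18911 = N18505 := ded_36_2 (flp_e L199766) (flp_g L198491) L203618
theorem L203628 : sm gh N18911 = N18405 := ded_37_2 (flp_e L198585) (flp_h L198493) L203618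
theorem L203630 : sm gi N18911 = N18481 := ded_38_2 (flp_e L199510) (flp_i L198495) L203618
theorem L203632 : sm gd N18399 = N18912 := rfl
theorem L203634 : sm ga N18912 = N18470 := ded_11_1 (flp_d L199406) (flp_a L198503) L203632
theorem L203636 : sm gg N18912 = N18506 := ded_32_2 (flp_d L199776) (flp_g L198507) L203632
theorem L203638 : sm gi N18912 = N18482 := ded_34_2 (flp_d L199522) (flp_i L198511) L203632
theorem L203640 : sm gc N18912 = N18428 := ded_24_1 (flp_d L198881) L193294 (flp_d L192931) (flp_c L198505) L203632
theorem L203642 : sm ge N18912 = N18912 := ded_30_2 (flp_d L203632) (flp_e L198501) L192918 L198501 L203632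
theorem L203643 : sm gh N18912 = N18793 := ded_33_2 (flp_d L202552) L197410 (flp_d L192977) (flp_h L198509) L203632
theorem L203645 : sm gf N18399 = N18913 := rfl
theorem L203647 : sm ga N18913 = N18471 := ded_13_1 (flp_f L199413) (flp_a L198503) L203645
theorem L203649 : sm gc N18913 = N18400 := ded_26_1 (flp_f L198513) (flp_c L198505) L203645
theorem L203651 : sm gh N18913 = N18406 := ded_40_2 (flp_f L198595) (flp_h L198509) L203645
theorem L203653 : sm gi N18913 = N18483 := ded_41_2 (flp_f L199529) (flp_i L198511) L203645
theorem L203655 : sm ge N18913 = N18819 := ded_35_1 (flp_f L202770) (flp_e L197609) (flp_f L192910) L198501 L203645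
theorem L203657 : sm gg N18400 = N18914 := rfl
theorem L203659 : sm ga N18914 = N18472 := ded_14_1 (flp_g L199419) (flp_a L198515) L203657
theorem L203661 : sm gb N18914 = N18836 := ded_21_1 (flp_g L202898) (flp_b L198517) L203657
theorem L203663 : sm gd N18914 = N18430 := ded_32_1 (flp_g L198896) (flp_d L198519) L203657
theorem L203665 : sm ge N18914 = N18820 := ded_36_1 (flp_g L202776) (flp_e L198525) L203657
theorem L203667 : sm gh N18914 = N18407 := ded_42_2 (flp_g L198605) (flp_h L198521) L203657
theorem L203669 : sm gi N18914 = N18484 := ded_43_2 (flp_g L199537) (flp_i L198523) L203657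
theorem L203671 : sm gf N18914 = N18508 := ded_39_1 (flp_g L199789) (flp_f L194272) (flp_g L192925) L198513 L203657
theorem L203673 : sm ge N18401 = N18915 := rfl
theorem L203675 : sm ga N18915 = N18765 := ded_12_1 (flp_e L202292) (flp_a L198539) L203673
theorem L203677 : sm gb N18915 = N18402 := ded_19_1 (flp_e L198543) L198527 L203673
theorem L203679 : sm gc N18915 = N18808 := ded_25_1 (flp_e L202691) (flp_c L198541) L203673
theorem L203681 : sm gg N18915 = N18838 := ded_36_2 (flp_e L202918) (flp_g L198533) L203673
theorem L203683 : sm gh N18915 = N18817 := ded_37_2 (flp_e L202755) (flp_h L198535) L203673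
theorem L203685 : sm gi N18915 = N18530 := ded_38_2 (flp_e L200030) (flp_i L198537) L203673
theorem L203687 : sm gd N18402 = N18916 := rfl
theorem L203689 : sm ga N18916 = N18474 := ded_11_1 (flp_d L199437) (flp_a L198545) L203687
theorem L203691 : sm gg N18916 = N18889 := ded_32_2 (flp_d L203384) (flp_g L198549) L203687
theorem L203693 : sm gi N18916 = N18531 := ded_34_2 (flp_d L200042) (flp_i L198553) L203687
theorem L203695 : sm gc N18916 = N18624 := ded_24_1 (flp_d L200914) L195458 (flp_d L192957) (flp_c L198547) L203687
theorem L203697 : sm ge N18916 = N18408 := ded_30_2 (flp_d L198615) (flp_e L193009) (flp_d L192945) L198543 L203687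
theorem L203699 : sm gf N18402 = N18917 := rfl
theorem L203701 : sm ga N18917 = N18475 := ded_13_1 (flp_f L199449) (flp_a L198545) L203699
theorem L203703 : sm gc N18917 = N18403 := ded_26_1 (flp_f L198555) (flp_c L198547) L203699
theorem L203705 : sm gh N18917 = N18819 := ded_40_2 (flp_f L202770) (flp_h L198551) L203699
theorem L203707 : sm gi N18917 = N18532 := ded_41_2 (flp_f L200050) (flp_i L198553) L203699
theorem L203709 : sm ge N18917 = N18406 := ded_35_1 (flp_f L198595) (flp_e L192967) (flp_f L192937) L198543 L203699
theorem L203711 : sm gg N18403 = N18918 := rfl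
theorem L203713 : sm ga N18918 = N18476 := ded_14_1 (flp_g L199459) (flp_a L198557) L203711
theorem L203715 : sm gb N18918 = N18811 := ded_21_1 (flp_g L202716) (flp_b L198559) L203711
theorem L203717 : sm gd N18918 = N18626 := ded_32_1 (flp_g L200928) (flp_d L198561) L203711
theorem L203719 : sm ge N18918 = N18407 := ded_36_1 (flp_g L198605) (flp_e L198567) L203711
theorem L203721 : sm gh N18918 = N18820 := ded_42_2 (flp_g L202776) (flp_h L198563) L203711
theorem L203723 : sm gi N18918 = N18533 := ded_43_2 (flp_g L200060) (flp_i L198565) L203711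
theorem L203725 : sm ge N18404 = N18919 := rfl
theorem L203727 : sm ga N18919 = N18405 := ded_12_1 (flp_e L198585) L198569 L203725
theorem L203729 : sm gb N18919 = N18477 := ded_19_1 (flp_e L199469) (flp_b L198583) L203725
theorem L203731 : sm gc N18919 = N18807 := ded_25_1 L202687 (flp_c L198571) L203725
theorem L203733 : sm gg N18919 = N18580 := ded_36_2 (flp_e L200502) (flp_g L198577) L203725
theorem L203735 : sm gh N18919 = N18829 := ded_37_2 L202840 (flp_h L198579) L203725
theorem L203737 : sm gi N18919 = N18534 := ded_38_2 (flp_e L200070) (flp_i L198581) L203725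
theorem L203739 : sm gd N18919 = N18801 := ded_30_1 (flp_e L202639) L197460 (flp_e L193025) (flp_d L198573) L203725
theorem L203741 : sm gf N18405 = N18920 := rfl
theorem L203743 : sm gb N18920 = N18406 := ded_20_1 (flp_f L198595) (flp_b L198587) L203741
theorem L203745 : sm gd N18920 = N18802 := ded_31_1 (flp_f L202647) (flp_d L198593) L203741
theorem L203747 : sm gi N18920 = N18535 := ded_41_2 (flp_f L200082) (flp_i L198591) L203741
theorem L203749 : sm gg N18406 = N18921 := rfl
theorem L203751 : sm ga N18921 = N18479 := ded_14_1 (flp_g L199491) (flp_a L198597) L203749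
theorem L203753 : sm gc N18921 = N18407 := ded_27_1 (flp_g L198605) (flp_c L198599) L203749
theorem L203755 : sm gd N18921 = N18803 := ded_32_1 (flp_g L202653) (flp_d L198601) L203749
theorem L203757 : sm gi N18921 = N18536 := ded_43_2 (flp_g L200088) (flp_i L198603) L203749
theorem L203759 : sm gf N18921 = N18585 := ded_39_1 (flp_g L200546) (flp_f L195039) (flp_g L192973) L198595 L203749
theorem L203761 : sm gh N18408 = N18922 := rfl
theorem L203763 : sm ga N18922 = N18480 := ded_15_1 (flp_h L199497) (flp_a L198617) L203761
theorem L203765 : sm gb N18922 = N18851 := ded_22_1 L203054 L201862 L203761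
theorem L203767 : sm gc N18922 = N18622 := ded_28_1 L200904 (flp_c L198625) L203761
theorem L203769 : sm gf N18922 = N18613 := ded_40_1 L200837 (flp_f L198619) L203761
theorem L203771 : sm gg N18922 = N18900 := ded_42_1 (flp_h L203484) (flp_g L198621) L203761
theorem L203773 : sm gd N18922 = N18922 := ded_33_1 (flp_h L203761) (flp_d L198615) L193017 L198615 L203761
theorem L203774 : sm gi N18922 = N18791 := ded_44_2 L202542 L197462 L195472 (flp_i L198623) L203761
theorem L203776 : sm gg N18410 = N18923 := rfl
theorem L203778 : sm ga N18923 = N18688 := ded_14_1 (flp_g L201561) (flp_a L198645) L203776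
theorem L203780 : sm gb N18923 = N18632 := ded_21_1 (flp_g L200986) (flp_b L198647) L203776
theorem L203782 : sm gc N18923 = N18411 := ded_27_1 (flp_g L198657) (flp_c L198649) L203776
theorem L203784 : sm gd N18923 = N18516 := ded_32_1 (flp_g L199862) (flp_d L198651) L203776
theorem L203786 : sm ge N18923 = N18641 := ded_36_1 (flp_g L201079) (flp_e L198655) L203776
theorem L203788 : sm gi N18923 = N18439 := ded_43_2 (flp_g L199014) (flp_i L198653) L203776
theorem L203790 : sm gf N18923 = N18422 := ded_39_1 (flp_g L198813) (flp_f L193211) (flp_g L193058) L198643 L203776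
theorem L203792 : sm gd N18412 = N18924 := rfl
theorem L203794 : sm ga N18924 = N18482 := ded_11_1 (flp_d L199522) (flp_a L198673) L203792
theorem L203796 : sm gb N18924 = N18743 := ded_18_1 (flp_d L202086) (flp_b L198675) L203792
theorem L203798 : sm gg N18924 = N18428 := ded_32_2 (flp_d L198881) (flp_g L198679) L203792
theorem L203800 : sm gi N18924 = N18470 := ded_34_2 (flp_d L199406) (flp_i L198683) L203792
theorem L203802 : sm gc N18924 = N18506 := ded_24_1 (flp_d L199776) L194266 (flp_d L193103) (flp_c L198677) L203792
theorem L203804 : sm ge N18924 = N18924 := ded_30_2 (flp_d L203792) (flp_e L198671) L193090 L198671 L203792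
theorem L203805 : sm gh N18924 = N18735 := ded_33_2 (flp_d L202003) L196711 (flp_d L193117) (flp_h L198681) L203792
theorem L203807 : sm gf N18412 = N18925 := rfl
theorem L203809 : sm ga N18925 = N18483 := ded_13_1 (flp_f L199529) (flp_a L198673) L203807
theorem L203811 : sm gb N18925 = N18744 := ded_20_1 (flp_f L202089) (flp_b L198675) L203807
theorem L203813 : sm gc N18925 = N18413 := ded_26_1 (flp_f L198685) (flp_c L198677) L203807
theorem L203815 : sm gh N18925 = N18414 := ded_40_2 (flp_f L198699) (flp_h L198681) L203807
theorem L203817 : sm gi N18925 = N18471 := ded_41_2 (flp_f L199413) (flp_i L198683) L203807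
theorem L203819 : sm ge N18925 = N18643 := ded_35_1 (flp_f L201098) (flp_e L195702) (flp_f L193080) L198671 L203807
theorem L203821 : sm gg N18413 = N18926 := rfl
theorem L203823 : sm ga N18926 = N18484 := ded_14_1 (flp_g L199537) (flp_a L198687) L203821
theorem L203825 : sm gb N18926 = N18649 := ded_21_1 (flp_g L201166) (flp_b L198689) L203821
theorem L203827 : sm gd N18926 = N18508 := ded_32_1 (flp_g L199789) (flp_d L198691) L203821
theorem L203829 : sm ge N18926 = N18644 := ded_36_1 (flp_g L201108) (flp_e L198697) L203821
theorem L203831 : sm gh N18926 = N18415 := ded_42_2 (flp_g L198713) (flp_h L198693) L203821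
theorem L203833 : sm gi N18926 = N18472 := ded_43_2 (flp_g L199419) (flp_i L198695) L203821
theorem L203835 : sm gf N18926 = N18430 := ded_39_1 (flp_g L198896) (flp_f L193298) (flp_g L193097) L198685 L203821
theorem L203837 : sm gg N18414 = N18927 := rfl
theorem L203839 : sm ga N18927 = N18486 := ded_14_1 (flp_g L199561) (flp_a L198701) L203837
theorem L203841 : sm gb N18927 = N18751 := ded_21_1 (flp_g L202142) (flp_b L198703) L203837
theorem L203843 : sm gc N18927 = N18415 := ded_27_1 (flp_g L198713) (flp_c L198705) L203837
theorem L203845 : sm gd N18927 = N18739 := ded_32_1 (flp_g L202040) (flp_d L198707) L203837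
theorem L203847 : sm ge N18927 = N18645 := ded_36_1 (flp_g L201118) (flp_e L198711) L203837
theorem L203849 : sm gi N18927 = N18440 := ded_43_2 (flp_g L199026) (flp_i L198709) L203837
theorem L203851 : sm gf N18927 = N18434 := ded_39_1 (flp_g L198944) (flp_f L193344) (flp_g L193113) L198699 L203837
theorem L203853 : sm gg N18416 = N18928 := rfl
theorem L203855 : sm ga N18928 = N18422 := ded_14_1 (flp_g L198813) (flp_a L198729) L203853
theorem L203857 : sm gb N18928 = N18641 := ded_21_1 (flp_g L201079) (flp_b L198731) L203853
theorem L203859 : sm gc N18928 = N18417 := ded_27_1 (flp_g L198741) (flp_c L198733) L203853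
theorem L203861 : sm gd N18928 = N18669 := ded_32_1 (flp_g L201365) (flp_d L198735) L203853
theorem L203863 : sm ge N18928 = N18632 := ded_36_1 (flp_g L200986) (flp_e L198739) L203853
theorem L203865 : sm gi N18928 = N18443 := ded_43_2 (flp_g L199072) (flp_i L198737) L203853
theorem L203867 : sm gf N18928 = N18688 := ded_39_1 (flp_g L201561) (flp_f L196257) (flp_g L193149) L198727 L203853
theorem L203869 : sm gg N18418 = N18929 := rfl
theorem L203871 : sm ga N18929 = N18758 := ded_14_1 (flp_g L202202) (flp_a L198757) L203869
theorem L203873 : sm gb N18929 = N18430 := ded_21_1 (flp_g L198896) (flp_b L198759) L203869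
theorem L203875 : sm gc N18929 = N18754 := ded_27_1 (flp_g L202164) (flp_c L198761) L203869
theorem L203877 : sm gd N18929 = N18836 := ded_32_1 (flp_g L202898) (flp_d L198763) L203869
theorem L203879 : sm ge N18929 = N18673 := ded_36_1 (flp_g L201389) (flp_e L198769) L203869
theorem L203881 : sm gh N18929 = N18419 := ded_42_2 (flp_g L198771) (flp_h L198765) L203869
theorem L203883 : sm gi N18929 = N18834 := ded_43_2 (flp_g L202874) (flp_i L198767) L203869
theorem L203885 : sm gf N18929 = N18649 := ded_39_1 (flp_g L201166) (flp_f L195774) (flp_g L193175) L198755 L203869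
theorem L203887 : sm gg N18420 = N18930 := rfl
theorem L203889 : sm ga N18930 = N18669 := ded_14_1 (flp_g L201365) (flp_a L198789) L203887
theorem L203891 : sm gb N18930 = N18805 := ded_21_1 (flp_g L202673) (flp_b L198791) L203887
theorem L203893 : sm gc N18930 = N18514 := ded_27_1 (flp_g L199834) (flp_c L198793) L203887
theorem L203895 : sm gd N18930 = N18422 := ded_32_1 (flp_g L198813) (flp_d L198795) L203887
theorem L203897 : sm ge N18930 = N18656 := ded_36_1 (flp_g L201241) (flp_e L198799) L203887
theorem L203899 : sm gi N18930 = N18447 := ded_43_2 (flp_g L199124) (flp_i L198797) L203887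
theorem L203901 : sm gf N18930 = N18516 := ded_39_1 (flp_g L199862) (flp_f L194340) (flp_g L193203) L198787 L203887
theorem L203903 : sm gh N18420 = N18931 := rfl
theorem L203905 : sm ga N18931 = N18662 := ded_15_1 L201316 (flp_a L198789) L203903
theorem L203907 : sm gb N18931 = N18806 := ded_22_1 (flp_h L202679) (flp_b L198791) L203903
theorem L203909 : sm gc N18931 = N18496 := ded_28_1 L199681 (flp_c L198793) L203903
theorem L203911 : sm ge N18931 = N18654 := ded_37_1 L201227 (flp_e L198799) L203903
theorem L203913 : sm gf N18931 = N18421 := ded_40_1 (flp_h L198801) L198787 L203903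
theorem L203915 : sm gd N18423 = N18932 := rfl
theorem L203917 : sm ga N18932 = N18501 := ded_11_1 (flp_d L199734) (flp_a L198825) L203915
theorem L203919 : sm gb N18932 = N18545 := ded_18_1 (flp_d L200194) (flp_b L198827) L203915
theorem L203921 : sm gg N18932 = N18661 := ded_32_2 (flp_d L201305) (flp_g L198831) L203915
theorem L203923 : sm ge N18932 = N18932 := ded_30_2 (flp_d L203915) (flp_e L198823) L193241 L198823 L203915
theorem L203924 : sm gh N18932 = N18680 := ded_33_2 (flp_d L201479) L196196 (flp_d L193316) (flp_h L198833) L203915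
theorem L203926 : sm gf N18423 = N18933 := rfl
theorem L203928 : sm ga N18933 = N18502 := ded_13_1 (flp_f L199737) (flp_a L198825) L203926
theorem L203930 : sm gb N18933 = N18546 := ded_20_1 (flp_f L200201) (flp_b L198827) L203926
theorem L203932 : sm gc N18933 = N18424 := ded_26_1 (flp_f L198835) (flp_c L198829) L203926
theorem L203934 : sm gh N18933 = N18431 := ded_40_2 (flp_f L198902) (flp_h L198833) L203926
theorem L203936 : sm ge N18933 = N18429 := ded_35_1 (flp_f L198888) (flp_e L193290) (flp_f L193233) L198823 L203926
theorem L203938 : sm gg N18424 = N18934 := rfl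
theorem L203940 : sm ga N18934 = N18503 := ded_14_1 (flp_g L199745) (flp_a L198837) L203938
theorem L203942 : sm gb N18934 = N18673 := ded_21_1 (flp_g L201389) (flp_b L198839) L203938
theorem L203944 : sm ge N18934 = N18430 := ded_36_1 (flp_g L198896) (flp_e L198843) L203938
theorem L203946 : sm gh N18934 = N18432 := ded_42_2 (flp_g L198916) (flp_h L198841) L203938
theorem L203948 : sm gf N18934 = N18663 := ded_39_1 (flp_g L201320) (flp_f L195949) (flp_g L193248) L198835 L203938
theorem L203950 : sm gd N18425 = N18935 := rfl
theorem L203952 : sm ga N18935 = N18506 := ded_11_1 (flp_d L199776) (flp_a L198847) L203950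
theorem L203954 : sm gg N18935 = N18470 := ded_32_2 (flp_d L199406) (flp_g L198851) L203950
theorem L203956 : sm gi N18935 = N18428 := ded_34_2 (flp_d L198881) (flp_i L198855) L203950
theorem L203958 : sm gc N18935 = N18482 := ded_24_1 (flp_d L199522) L194026 (flp_d L193275) (flp_c L198849) L203950
theorem L203960 : sm ge N18935 = N18935 := ded_30_2 (flp_d L203950) (flp_e L198845) L193262 L198845 L203950
theorem L203961 : sm gh N18935 = N18702 := ded_33_2 (flp_d L201713) L196439 (flp_d L193636) (flp_h L198853) L203950
theorem L203963 : sm gf N18425 = N18936 := rfl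
theorem L203965 : sm ga N18936 = N18507 := ded_13_1 (flp_f L199781) (flp_a L198847) L203963
theorem L203967 : sm gc N18936 = N18426 := ded_26_1 (flp_f L198857) (flp_c L198849) L203963
theorem L203969 : sm gh N18936 = N18452 := ded_40_2 (flp_f L199182) (flp_h L198853) L203963
theorem L203971 : sm gi N18936 = N18429 := ded_41_2 (flp_f L198888) (flp_i L198855) L203963
theorem L203973 : sm gg N18426 = N18937 := rfl
theorem L203975 : sm ga N18937 = N18508 := ded_14_1 (flp_g L199789) (flp_a L198859) L203973
theorem L203977 : sm gb N18937 = N18834 := ded_21_1 (flp_g L202874) (flp_b L198861) L203973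
theorem L203979 : sm gd N18937 = N18484 := ded_32_1 (flp_g L199537) (flp_d L198863) L203973
theorem L203981 : sm gh N18937 = N18453 := ded_42_2 (flp_g L199192) (flp_h L198865) L203973
theorem L203983 : sm gi N18937 = N18430 := ded_43_2 (flp_g L198896) (flp_i L198867) L203973
theorem L203985 : sm gf N18937 = N18472 := ded_39_1 (flp_g L199419) (flp_f L193899) (flp_g L193269) L198857 L203973
theorem L203987 : sm gd N18427 = N18938 := rfl
theorem L203989 : sm ga N18938 = N18556 := ded_11_1 (flp_d L200307) (flp_a L198871) L203987
theorem L203991 : sm gb N18938 = N18428 := ded_18_1 (flp_d L198881) (flp_b L198873) L203987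
theorem L203993 : sm gg N18938 = N18743 := ded_32_2 (flp_d L202086) (flp_g L198877) L203987
theorem L203995 : sm ge N18938 = N18938 := ded_30_2 (flp_d L203987) (flp_e L198869) L193279 L198869 L203987
theorem L203996 : sm gh N18938 = N18812 := ded_33_2 (flp_d L202724) L197567 (flp_d L193342) (flp_h L198879) L203987
theorem L203998 : sm gf N18427 = N18939 := rfl
theorem L204000 : sm ga N18939 = N18557 := ded_13_1 (flp_f L200310) (flp_a L198871) L203998
theorem L204002 : sm gb N18939 = N18429 := ded_20_1 (flp_f L198888) (flp_b L198873) L203998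
theorem L204004 : sm gc N18939 = N18542 := ded_26_1 (flp_f L200160) (flp_c L198875) L203998
theorem L204006 : sm gh N18939 = N18433 := ded_40_2 (flp_f L198930) (flp_h L198879) L203998
theorem L204008 : sm ge N18939 = N18546 := ded_35_1 (flp_f L200201) (flp_e L194718) (flp_f L193280) L198869 L203998
theorem L204010 : sm gf N18428 = N18940 := rfl
theorem L204012 : sm ga N18940 = N18512 := ded_13_1 (flp_f L199822) (flp_a L198883) L204010
theorem L204014 : sm gd N18940 = N18429 := ded_31_1 (flp_f L198888) L198881 L204010
theorem L204016 : sm gh N18940 = N18814 := ded_40_2 (flp_f L202735) (flp_h L198886) L204010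
theorem L204018 : sm gg N18429 = N18941 := rfl
theorem L204020 : sm ga N18941 = N18513 := ded_14_1 (flp_g L199828) (flp_a L198890) L204018
theorem L204022 : sm gc N18941 = N18430 := ded_27_1 (flp_g L198896) (flp_c L198892) L204018
theorem L204024 : sm gh N18941 = N18434 := ded_42_2 (flp_g L198944) (flp_h L198894) L204018
theorem L204026 : sm gg N18431 = N18942 := rfl
theorem L204028 : sm ga N18942 = N18516 := ded_14_1 (flp_g L199862) (flp_a L198904) L204026
theorem L204030 : sm gb N18942 = N18549 := ded_21_1 (flp_g L200231) (flp_b L198906) L204026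
theorem L204032 : sm gc N18942 = N18432 := ded_27_1 (flp_g L198916) (flp_c L198908) L204026
theorem L204034 : sm gd N18942 = N18688 := ded_32_1 (flp_g L201561) (flp_d L198910) L204026
theorem L204036 : sm ge N18942 = N18434 := ded_36_1 (flp_g L198944) (flp_e L198914) L204026
theorem L204038 : sm gi N18942 = N18458 := ded_43_2 (flp_g L199248) (flp_i L198912) L204026
theorem L204040 : sm gf N18942 = N18669 := ded_39_1 (flp_g L201365) (flp_f L195992) (flp_g L193312) L198902 L204026
theorem L204042 : sm gg N18433 = N18943 := rfl
theorem L204044 : sm ga N18943 = N18571 := ded_14_1 (flp_g L200432) (flp_a L198932) L204042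
theorem L204046 : sm gb N18943 = N18434 := ded_21_1 (flp_g L198944) (flp_b L198934) L204042
theorem L204048 : sm gc N18943 = N18548 := ded_27_1 (flp_g L200217) (flp_c L198936) L204042
theorem L204050 : sm gd N18943 = N18816 := ded_32_1 (flp_g L202749) (flp_d L198938) L204042
theorem L204052 : sm ge N18943 = N18549 := ded_36_1 (flp_g L200231) (flp_e L198942) L204042
theorem L204054 : sm gi N18943 = N18460 := ded_43_2 (flp_g L199274) (flp_i L198940) L204042
theorem L204056 : sm gf N18943 = N18751 := ded_39_1 (flp_g L202142) (flp_f L196839) (flp_g L193338) L198930 L204042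
theorem L204058 : sm gg N18436 = N18944 := rfl
theorem L204060 : sm ga N18944 = N18522 := ded_14_1 (flp_g L199929) (flp_a L198972) L204058
theorem L204062 : sm gb N18944 = N18688 := ded_21_1 (flp_g L201561) (flp_b L198974) L204058
theorem L204064 : sm gc N18944 = N18437 := ded_27_1 (flp_g L198984) (flp_c L198976) L204058
theorem L204066 : sm gd N18944 = N18549 := ded_32_1 (flp_g L200231) (flp_d L198978) L204058
theorem L204068 : sm ge N18944 = N18631 := ded_36_1 (flp_g L200974) (flp_e L198982) L204058
theorem L204070 : sm gi N18944 = N18600 := ded_43_2 (flp_g L200686) (flp_i L198980) L204058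
theorem L204072 : sm gf N18944 = N18641 := ded_39_1 (flp_g L201079) (flp_f L195686) (flp_g L193384) L198970 L204058
theorem L204074 : sm gg N18441 = N18945 := rfl
theorem L204076 : sm ga N18945 = N18445 := ded_14_1 (flp_g L199098) (flp_a L199042) L204074
theorem L204078 : sm gb N18945 = N18547 := ded_21_1 (flp_g L200209) (flp_b L199044) L204074
theorem L204080 : sm gc N18945 = N18673 := ded_27_1 (flp_g L201389) (flp_c L199046) L204074
theorem L204082 : sm gd N18945 = N18690 := ded_32_1 (flp_g L201577) (flp_d L199048) L204074
theorem L204084 : sm ge N18945 = N18754 := ded_36_1 (flp_g L202164) (flp_e L199054) L204074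
theorem L204086 : sm gh N18945 = N18442 := ded_42_2 (flp_g L199056) (flp_h L199050) L204074
theorem L204088 : sm gi N18945 = N18689 := ded_43_2 (flp_g L201567) (flp_i L199052) L204074
theorem L204090 : sm gf N18945 = N18675 := ded_39_1 (flp_g L201411) (flp_f L196052) (flp_g L193476) L199040 L204074
theorem L204092 : sm gg N18444 = N18946 := rfl
theorem L204094 : sm ga N18946 = N18754 := ded_14_1 (flp_g L202164) (flp_a L199086) L204092
theorem L204096 : sm gb N18946 = N18451 := ded_21_1 (flp_g L199174) (flp_b L199088) L204092
theorem L204098 : sm gc N18946 = N18758 := ded_27_1 (flp_g L202202) (flp_c L199090) L204092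
theorem L204100 : sm ge N18946 = N18445 := ded_36_1 (flp_g L199098) (flp_e L199096) L204092
theorem L204102 : sm gh N18946 = N18446 := ded_42_2 (flp_g L199108) (flp_h L199092) L204092
theorem L204104 : sm gi N18946 = N18882 := ded_43_2 (flp_g L203302) (flp_i L199094) L204092
theorem L204106 : sm gf N18946 = N18636 := ded_39_1 (flp_g L201032) (flp_f L195630) (flp_g L193526) L199084 L204092
theorem L204108 : sm gh N18447 = N18947 := rfl
theorem L204110 : sm ga N18947 = N18887 := ded_15_1 L203366 (flp_a L199126) L204108
theorem L204112 : sm gb N18947 = N18832 := ded_22_1 (flp_h L202860) (flp_b L199128) L204108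
theorem L204114 : sm gc N18947 = N18574 := ded_28_1 L200456 (flp_c L199130) L204108
theorem L204116 : sm ge N18947 = N18897 := ded_37_1 L203458 (flp_e L199134) L204108
theorem L204118 : sm gf N18947 = N18579 := ded_40_1 L200500 (flp_f L199136) L204108
theorem L204120 : sm gg N18947 = N18448 := ded_42_1 (flp_h L199138) L199124 L204108
theorem L204122 : sm gg N18449 = N18948 := rfl
theorem L204124 : sm ga N18948 = N18574 := ded_14_1 (flp_g L200454) (flp_a L199152) L204122
theorem L204126 : sm gb N18948 = N18636 := ded_21_1 (flp_g L201032) (flp_b L199154) L204122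
theorem L204128 : sm gc N18948 = N18887 := ded_27_1 (flp_g L203358) (flp_c L199156) L204122
theorem L204130 : sm ge N18948 = N18633 := ded_36_1 (flp_g L200996) (flp_e L199160) L204122
theorem L204132 : sm gh N18948 = N18457 := ded_42_2 (flp_g L199232) (flp_h L199158) L204122
theorem L204134 : sm gf N18948 = N18451 := ded_39_1 (flp_g L199174) (flp_f L193618) (flp_g L193604) L199150 L204122
theorem L204136 : sm gg N18450 = N18949 := rfl
theorem L204138 : sm ga N18949 = N18577 := ded_14_1 (flp_g L200478) (flp_a L199164) L204136
theorem L204140 : sm gb N18949 = N18882 := ded_21_1 (flp_g L203302) (flp_b L199166) L204136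
theorem L204142 : sm gd N18949 = N18946 := ded_32_1 (flp_g L204092) (flp_d L199168) L204136
theorem L204144 : sm ge N18949 = N18453 := ded_36_1 (flp_g L199192) (flp_e L199172) L204136
theorem L204146 : sm gi N18949 = N18451 := ded_43_2 (flp_g L199174) (flp_i L199170) L204136
theorem L204148 : sm gg N18452 = N18950 := rfl
theorem L204150 : sm ga N18950 = N18585 := ded_14_1 (flp_g L200546) (flp_a L199184) L204148
theorem L204152 : sm gc N18950 = N18453 := ded_27_1 (flp_g L199192) (flp_c L199186) L204148
theorem L204154 : sm gd N18950 = N18708 := ded_32_1 (flp_g L201764) (flp_d L199188) L204148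
theorem L204156 : sm gi N18950 = N18456 := ded_43_2 (flp_g L199224) (flp_i L199190) L204148
theorem L204158 : sm gf N18950 = N18479 := ded_39_1 (flp_g L199491) (flp_f L193959) (flp_g L193632) L199182 L204148
theorem L204160 : sm gf N18454 = N18951 := rfl
theorem L204162 : sm ga N18951 = N18455 := ded_13_1 (flp_f L199214) (flp_a L199204) L204160
theorem L204164 : sm gb N18951 = N18587 := ded_20_1 (flp_f L200560) (flp_b L199206) L204160
theorem L204166 : sm gc N18951 = N18487 := ded_26_1 (flp_f L199573) (flp_c L199208) L204160
theorem L204168 : sm gh N18951 = N18459 := ded_40_2 (flp_f L199260) (flp_h L199212) L204160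
theorem L204170 : sm ge N18951 = N18490 := ded_35_1 (flp_f L199611) (flp_e L194126) (flp_f L193652) L199202 L204160
theorem L204172 : sm gg N18455 = N18952 := rfl
theorem L204174 : sm gb N18952 = N18456 := ded_21_1 (flp_g L199224) (flp_b L199216) L204172
theorem L204176 : sm gc N18952 = N18774 := ded_27_1 (flp_g L202378) (flp_c L199218) L204172
theorem L204178 : sm ge N18952 = N18883 := ded_36_1 (flp_g L203314) (flp_e L199222) L204172
theorem L204180 : sm gh N18952 = N18460 := ded_42_2 (flp_g L199274) (flp_h L199220) L204172
theorem L204182 : sm gf N18952 = N18776 := ded_39_1 (flp_g L202402) (flp_f L197161) (flp_g L193666) L199214 L204172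
theorem L204184 : sm gg N18459 = N18953 := rfl
theorem L204186 : sm ga N18953 = N18460 := ded_14_1 (flp_g L199274) (flp_a L199262) L204184
theorem L204188 : sm gb N18953 = N18593 := ded_21_1 (flp_g L200608) (flp_b L199264) L204184
theorem L204190 : sm gc N18953 = N18492 := ded_27_1 (flp_g L199633) (flp_c L199266) L204184
theorem L204192 : sm gd N18953 = N18830 := ded_32_1 (flp_g L202842) (flp_d L199268) L204184
theorem L204194 : sm ge N18953 = N18493 := ded_36_1 (flp_g L199647) (flp_e L199272) L204184
theorem L204196 : sm gi N18953 = N18571 := ded_43_2 (flp_g L200432) (flp_i L199270) L204184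
theorem L204198 : sm gf N18953 = N18770 := ded_39_1 (flp_g L202342) (flp_f L197093) (flp_g L193724) L199260 L204184
theorem L204200 : sm gg N18463 = N18954 := rfl
theorem L204202 : sm ga N18954 = N18466 := ded_14_1 (flp_g L199358) (flp_a L199318) L204200
theorem L204204 : sm gb N18954 = N18874 := ded_21_1 (flp_g L203256) (flp_b L199320) L204200
theorem L204206 : sm gc N18954 = N18674 := ded_27_1 (flp_g L201399) (flp_c L199322) L204200
theorem L204208 : sm gd N18954 = N18464 := ded_32_1 (flp_g L199332) (flp_d L199324) L204200
theorem L204210 : sm ge N18954 = N18677 := ded_36_1 (flp_g L201437) (flp_e L199330) L204200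
theorem L204212 : sm gh N18954 = N18759 := ded_42_2 (flp_g L202216) (flp_h L199326) L204200
theorem L204214 : sm gi N18954 = N18675 := ded_43_2 (flp_g L201411) (flp_i L199328) L204200
theorem L204216 : sm gf N18954 = N18689 := ded_39_1 (flp_g L201567) (flp_f L196275) (flp_g L193803) L199316 L204200
theorem L204218 : sm gg N18465 = N18955 := rfl
theorem L204220 : sm ga N18955 = N18759 := ded_14_1 (flp_g L202216) (flp_a L199344) L204218
theorem L204222 : sm gb N18955 = N18472 := ded_21_1 (flp_g L199419) (flp_b L199346) L204218
theorem L204224 : sm gc N18955 = N18755 := ded_27_1 (flp_g L202174) (flp_c L199348) L204218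
theorem L204226 : sm gd N18955 = N18491 := ded_32_1 (flp_g L199623) (flp_d L199350) L204218
theorem L204228 : sm ge N18955 = N18650 := ded_36_1 (flp_g L201176) (flp_e L199356) L204218
theorem L204230 : sm gh N18955 = N18466 := ded_42_2 (flp_g L199358) (flp_h L199352) L204218
theorem L204232 : sm gi N18955 = N18649 := ded_43_2 (flp_g L201166) (flp_i L199354) L204218
theorem L204234 : sm gf N18955 = N18834 := ded_39_1 (flp_g L202874) (flp_f L197698) (flp_g L193827) L199342 L204218
theorem L204236 : sm gd N18467 = N18956 := rfl
theorem L204238 : sm ga N18956 = N18818 := ded_11_1 (flp_d L202763) (flp_a L199372) L204236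
theorem L204240 : sm gb N18956 = N18746 := ded_18_1 (flp_d L202105) (flp_b L199374) L204236
theorem L204242 : sm gg N18956 = N18664 := ded_32_2 (flp_d L201328) (flp_g L199378) L204236
theorem L204244 : sm gi N18956 = N18642 := ded_34_2 (flp_d L201089) (flp_i L199382) L204236
theorem L204246 : sm ge N18956 = N18956 := ded_30_2 (flp_d L204236) (flp_e L199370) L193869 L199370 L204236
theorem L204247 : sm gf N18467 = N18957 := rfl
theorem L204249 : sm ga N18957 = N18819 := ded_13_1 (flp_f L202770) (flp_a L199372) L204247
theorem L204251 : sm gb N18957 = N18747 := ded_20_1 (flp_f L202112) (flp_b L199374) L204247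
theorem L204253 : sm gc N18957 = N18468 := ded_26_1 (flp_f L199384) (flp_c L199376) L204247
theorem L204255 : sm gh N18957 = N18475 := ded_40_2 (flp_f L199449) (flp_h L199380) L204247
theorem L204257 : sm gi N18957 = N18643 := ded_41_2 (flp_f L201098) (flp_i L199382) L204247
theorem L204259 : sm ge N18957 = N18471 := ded_35_1 (flp_f L199413) (flp_e L193893) (flp_f L193859) L199370 L204247
theorem L204261 : sm gg N18468 = N18958 := rfl
theorem L204263 : sm ga N18958 = N18820 := ded_14_1 (flp_g L202776) (flp_a L199386) L204261
theorem L204265 : sm gb N18958 = N18650 := ded_21_1 (flp_g L201176) (flp_b L199388) L204261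
theorem L204267 : sm ge N18958 = N18472 := ded_36_1 (flp_g L199419) (flp_e L199394) L204261
theorem L204269 : sm gh N18958 = N18476 := ded_42_2 (flp_g L199459) (flp_h L199390) L204261
theorem L204271 : sm gi N18958 = N18644 := ded_43_2 (flp_g L201108) (flp_i L199392) L204261
theorem L204273 : sm gf N18958 = N18666 := ded_39_1 (flp_g L201345) (flp_f L195967) (flp_g L193876) L199384 L204261
theorem L204275 : sm gd N18469 = N18959 := rfl
theorem L204277 : sm gb N18959 = N18470 := ded_18_1 (flp_d L199406) (flp_b L199398) L204275
theorem L204279 : sm gi N18959 = N18743 := ded_34_2 (flp_d L202086) (flp_i L199404) L204275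
theorem L204281 : sm ge N18959 = N18959 := ded_30_2 (flp_d L204275) (flp_e L199396) L193884 L199396 L204275
theorem L204282 : sm gh N18959 = N18857 := ded_33_2 (flp_d L203099) L197958 (flp_d L193957) (flp_h L199402) L204275
theorem L204284 : sm gf N18469 = N18960 := rfl
theorem L204286 : sm gb N18960 = N18471 := ded_20_1 (flp_f L199413) (flp_b L199398) L204284
theorem L204288 : sm gc N18960 = N18742 := ded_26_1 (flp_f L202072) (flp_c L199400) L204284
theorem L204290 : sm gh N18960 = N18478 := ded_40_2 (flp_f L199479) (flp_h L199402) L204284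
theorem L204292 : sm gi N18960 = N18744 := ded_41_2 (flp_f L202089) (flp_i L199404) L204284
theorem L204294 : sm ge N18960 = N18747 := ded_35_1 (flp_f L202112) (flp_e L196802) (flp_f L193885) L199396 L204284
theorem L204296 : sm gf N18470 = N18961 := rfl
theorem L204298 : sm gc N18961 = N18512 := ded_26_1 (flp_f L199822) (flp_c L199408) L204296
theorem L204300 : sm gd N18961 = N18471 := ded_31_1 (flp_f L199413) L199406 L204296
theorem L204302 : sm gh N18961 = N18859 := ded_40_2 (flp_f L203114) (flp_h L199411) L204296
theorem L204304 : sm gg N18471 = N18962 := rfl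
theorem L204306 : sm gc N18962 = N18472 := ded_27_1 (flp_g L199419) (flp_c L199415) L204304
theorem L204308 : sm gh N18962 = N18479 := ded_42_2 (flp_g L199491) (flp_h L199417) L204304
theorem L204310 : sm gg N18473 = N18963 := rfl
theorem L204312 : sm gb N18963 = N18637 := ded_21_1 (flp_g L201042) (flp_b L199427) L204310
theorem L204314 : sm gc N18963 = N18893 := ded_27_1 (flp_g L203424) (flp_c L199429) L204310
theorem L204316 : sm gd N18963 = N18725 := ded_32_1 (flp_g L201914) (flp_d L199431) L204310
theorem L204318 : sm gh N18963 = N18666 := ded_42_2 (flp_g L201345) (flp_h L199433) L204310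
theorem L204320 : sm gi N18963 = N18633 := ded_43_2 (flp_g L200996) (flp_i L199435) L204310
theorem L204322 : sm gf N18963 = N18476 := ded_39_1 (flp_g L199459) (flp_f L193929) (flp_g L193911) L199425 L204310
theorem L204324 : sm gf N18474 = N18964 := rfl
theorem L204326 : sm gb N18964 = N18777 := ded_20_1 (flp_f L202414) (flp_b L199439) L204324
theorem L204328 : sm gc N18964 = N18727 := ded_26_1 (flp_f L201932) (flp_c L199445) L204324
theorem L204330 : sm gd N18964 = N18475 := ded_31_1 (flp_f L199449) L199437 L204324
theorem L204332 : sm gi N18964 = N18779 := ded_41_2 (flp_f L202432) (flp_i L199443) L204324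
theorem L204334 : sm ge N18964 = N18865 := ded_35_1 (flp_f L203172) L198029 (flp_f L193973) (flp_e L199447) L204324
theorem L204336 : sm gh N18474 = N18965 := rfl
theorem L204338 : sm gb N18965 = N18611 := ded_22_1 L200814 (flp_b L199439) L204336
theorem L204340 : sm gc N18965 = N18623 := ded_28_1 L200912 (flp_c L199445) L204336
theorem L204342 : sm ge N18965 = N18480 := ded_37_1 (flp_h L199497) (flp_e L199447) L204336
theorem L204344 : sm gg N18965 = N18892 := ded_42_1 (flp_h L203416) (flp_g L199441) L204336
theorem L204346 : sm gi N18965 = N18792 := ded_44_2 L202550 L197470 (flp_h L197217) (flp_i L199443) L204336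
theorem L204348 : sm gg N18475 = N18966 := rfl
theorem L204350 : sm gb N18966 = N18778 := ded_21_1 (flp_g L202424) (flp_b L199451) L204348
theorem L204352 : sm gc N18966 = N18476 := ded_27_1 (flp_g L199459) (flp_c L199453) L204348
theorem L204354 : sm ge N18966 = N18479 := ded_36_1 (flp_g L199491) (flp_e L199457) L204348
theorem L204356 : sm gi N18966 = N18780 := ded_43_2 (flp_g L202442) (flp_i L199455) L204348
theorem L204358 : sm gf N18966 = N18893 := ded_39_1 (flp_g L203424) (flp_f L198281) (flp_g L193925) L199449 L204348
theorem L204360 : sm gf N18477 = N18967 := rfl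
theorem L204362 : sm ga N18967 = N18478 := ded_13_1 (flp_f L199479) (flp_a L199471) L204360
theorem L204364 : sm gc N18967 = N18762 := ded_26_1 (flp_f L202258) (flp_c L199473) L204360
theorem L204366 : sm gd N18967 = N18867 := ded_31_1 (flp_f L203190) (flp_d L199477) L204360
theorem L204368 : sm gi N18967 = N18763 := ded_41_2 (flp_f L202272) (flp_i L199475) L204360
theorem L204370 : sm ge N18967 = N18766 := ded_35_1 (flp_f L202302) (flp_e L197043) (flp_f L193945) L199469 L204360
theorem L204372 : sm gg N18478 = N18968 := rfl
theorem L204374 : sm gb N18968 = N18479 := ded_21_1 (flp_g L199491) (flp_b L199481) L204372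
theorem L204376 : sm gc N18968 = N18775 := ded_27_1 (flp_g L202390) (flp_c L199483) L204372
theorem L204378 : sm gd N18968 = N18868 := ded_32_1 (flp_g L203196) (flp_d L199485) L204372
theorem L204380 : sm ge N18968 = N18778 := ded_36_1 (flp_g L202424) (flp_e L199489) L204372
theorem L204382 : sm gi N18968 = N18776 := ded_43_2 (flp_g L202402) (flp_i L199487) L204372
theorem L204384 : sm gd N18481 = N18969 := rfl
theorem L204386 : sm ga N18969 = N18824 := ded_11_1 L202808 (flp_a L199512) L204384
theorem L204388 : sm gb N18969 = N18482 := ded_18_1 (flp_d L199522) (flp_b L199514) L204384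
theorem L204390 : sm gg N18969 = N18510 := ded_32_2 (flp_d L199807) (flp_g L199518) L204384
theorem L204392 : sm ge N18969 = N18969 := ded_30_2 (flp_d L204384) (flp_e L199510) L194013 L199510 L204384
theorem L204393 : sm gh N18969 = N18642 := ded_33_2 (flp_d L201089) L195712 (flp_d L194052) (flp_h L199520) L204384
theorem L204395 : sm gf N18481 = N18970 := rfl
theorem L204397 : sm ga N18970 = N18828 := ded_13_1 L202832 (flp_a L199512) L204395
theorem L204399 : sm gb N18970 = N18483 := ded_20_1 (flp_f L199529) (flp_b L199514) L204395
theorem L204401 : sm gc N18970 = N18647 := ded_26_1 L201150 (flp_c L199516) L204395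
theorem L204403 : sm gh N18970 = N18485 := ded_40_2 (flp_f L199547) (flp_h L199520) L204395
theorem L204405 : sm ge N18970 = N18822 := ded_35_1 (flp_f L202789) (flp_e L197623) (flp_f L194014) L199510 L204395
theorem L204407 : sm gf N18482 = N18971 := rfl
theorem L204409 : sm gd N18971 = N18483 := ded_31_1 (flp_f L199529) L199522 L204407
theorem L204411 : sm gh N18971 = N18749 := ded_40_2 (flp_f L202130) (flp_h L199527) L204407
theorem L204413 : sm gg N18483 = N18972 := rfl
theorem L204415 : sm gc N18972 = N18484 := ded_27_1 (flp_g L199537) (flp_c L199531) L204413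
theorem L204417 : sm ge N18972 = N18825 := ded_36_1 (flp_g L202810) (flp_e L199535) L204413
theorem L204419 : sm gh N18972 = N18486 := ded_42_2 (flp_g L199561) (flp_h L199533) L204413
theorem L204421 : sm gf N18972 = N18513 := ded_39_1 (flp_g L199828) (flp_f L194304) (flp_g L194028) L199529 L204413
theorem L204423 : sm gg N18485 = N18973 := rfl
theorem L204425 : sm ga N18973 = N18827 := ded_14_1 (flp_g L202822) (flp_a L199549) L204423
theorem L204427 : sm gb N18973 = N18486 := ded_21_1 (flp_g L199561) (flp_b L199551) L204423
theorem L204429 : sm gc N18973 = N18646 := ded_27_1 (flp_g L201130) (flp_c L199553) L204423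
theorem L204431 : sm gd N18973 = N18645 := ded_32_1 (flp_g L201118) (flp_d L199555) L204423
theorem L204433 : sm ge N18973 = N18826 := ded_36_1 (flp_g L202816) (flp_e L199559) L204423
theorem L204435 : sm gi N18973 = N18541 := ded_43_2 (flp_g L200152) (flp_i L199557) L204423
theorem L204437 : sm gf N18973 = N18518 := ded_39_1 (flp_g L199884) (flp_f L194370) (flp_g L194048) L199547 L204423
theorem L204439 : sm gg N18487 = N18974 := rfl
theorem L204441 : sm ga N18974 = N18774 := ded_14_1 (flp_g L202378) (flp_a L199575) L204439
theorem L204443 : sm gb N18974 = N18503 := ded_21_1 (flp_g L199745) (flp_b L199577) L204439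
theorem L204445 : sm ge N18974 = N18491 := ded_36_1 (flp_g L199623) (flp_e L199581) L204439
theorem L204447 : sm gh N18974 = N18492 := ded_42_2 (flp_g L199633) (flp_h L199579) L204439
theorem L204449 : sm gf N18974 = N18764 := ded_39_1 (flp_g L202284) (flp_f L197027) (flp_g L194094) L199573 L204439
theorem L204451 : sm gf N18488 = N18975 := rfl
theorem L204453 : sm ga N18975 = N18756 := ded_13_1 (flp_f L202186) (flp_a L199585) L204451
theorem L204455 : sm gb N18975 = N18671 := ded_20_1 L201381 (flp_b L199587) L204451
theorem L204457 : sm gc N18975 = N18489 := ded_26_1 (flp_f L199599) (flp_c L199589) L204451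
theorem L204459 : sm gd N18975 = N18752 := ded_31_1 (flp_f L202150) (flp_d L199597) L204451
theorem L204461 : sm gh N18975 = N18561 := ded_40_2 (flp_f L200341) (flp_h L199593) L204451
theorem L204463 : sm gi N18975 = N18490 := ded_41_2 (flp_f L199611) (flp_i L199595) L204451
theorem L204465 : sm gg N18489 = N18976 := rfl
theorem L204467 : sm ga N18976 = N18757 := ded_14_1 (flp_g L202192) (flp_a L199601) L204465
theorem L204469 : sm gb N18976 = N18508 := ded_21_1 (flp_g L199789) (flp_b L199603) L204465
theorem L204471 : sm gd N18976 = N18649 := ded_32_1 (flp_g L201166) (flp_d L199605) L204465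
theorem L204473 : sm gh N18976 = N18562 := ded_42_2 (flp_g L200347) (flp_h L199607) L204465
theorem L204475 : sm gi N18976 = N18491 := ded_43_2 (flp_g L199623) (flp_i L199609) L204465
theorem L204477 : sm gf N18976 = N18836 := ded_39_1 (flp_g L202898) (flp_f L197720) (flp_g L194118) L199599 L204465
theorem L204479 : sm gg N18490 = N18977 := rfl
theorem L204481 : sm ga N18977 = N18883 := ded_14_1 (flp_g L203314) (flp_a L199613) L204479
theorem L204483 : sm gb N18977 = N18670 := ded_21_1 L201377 (flp_b L199615) L204479
theorem L204485 : sm gc N18977 = N18491 := ded_27_1 (flp_g L199623) (flp_c L199617) L204479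
theorem L204487 : sm gd N18977 = N18947 := ded_32_1 L204120 (flp_d L199619) L204479
theorem L204489 : sm gh N18977 = N18493 := ded_42_2 (flp_g L199647) (flp_h L199621) L204479
theorem L204491 : sm gf N18977 = N18837 := ded_39_1 (flp_g L202906) (flp_f L197728) (flp_g L194134) L199611 L204479
theorem L204493 : sm gd N18494 = N18978 := rfl
theorem L204495 : sm gi N18978 = N18909 := ded_34_2 L203606 (flp_i L199667) L204493
theorem L204497 : sm gc N18978 = N18501 := ded_24_1 (flp_d L199734) L194245 (flp_d L194195) (flp_c L199663) L204493
theorem L204499 : sm ge N18978 = N18978 := ded_30_2 (flp_d L204493) (flp_e L199661) L194190 L199661 L204493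
theorem L204500 : sm gh N18978 = N18560 := ded_33_2 (flp_d L200336) (flp_h L199593) L199597 (flp_h L199665) L204493
theorem L204502 : sm gf N18494 = N18979 := rfl
theorem L204504 : sm gc N18979 = N18495 := ded_26_1 (flp_f L199669) (flp_c L199663) L204502
theorem L204506 : sm gh N18979 = N18752 := ded_40_2 (flp_f L202150) (flp_h L199665) L204502
theorem L204508 : sm gi N18979 = N18931 := ded_41_2 L203913 (flp_i L199667) L204502
theorem L204510 : sm gg N18495 = N18980 := rfl
theorem L204512 : sm gd N18980 = N18503 := ded_32_1 (flp_g L199745) (flp_d L199671) L204510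
theorem L204514 : sm gh N18980 = N18753 := ded_42_2 (flp_g L202156) (flp_h L199673) L204510
theorem L204516 : sm gg N18496 = N18981 := rfl
theorem L204518 : sm ga N18981 = N18663 := ded_14_1 (flp_g L201320) (flp_a L199677) L204516
theorem L204520 : sm gb N18981 = N18764 := ded_21_1 (flp_g L202284) (flp_b L199679) L204516
theorem L204522 : sm ge N18981 = N18655 := ded_36_1 (flp_g L201229) (flp_e L199685) L204516
theorem L204524 : sm gh N18981 = N18514 := ded_42_2 (flp_g L199834) (flp_h L199681) L204516
theorem L204526 : sm gi N18981 = N18980 := ded_43_2 (flp_g L204510) (flp_i L199683) L204516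
theorem L204528 : sm gf N18981 = N18503 := ded_39_1 (flp_g L199745) (flp_f L194249) (flp_g L194203) L199675 L204516
theorem L204530 : sm ge N18497 = N18982 := rfl
theorem L204532 : sm ga N18982 = N18559 := ded_12_1 (flp_e L200326) (flp_a L199698) L204530
theorem L204534 : sm gb N18982 = N18498 := ded_19_1 (flp_e L199702) L199687 L204530
theorem L204536 : sm gc N18982 = N18580 := ded_25_1 (flp_e L200502) (flp_c L199700) L204530
theorem L204538 : sm gg N18982 = N18807 := ded_36_2 L202687 (flp_g L199692) L204530
theorem L204540 : sm gh N18982 = N18575 := ded_37_2 (flp_e L200460) (flp_h L199694) L204530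
theorem L204542 : sm gi N18982 = N18500 := ded_38_2 (flp_e L199722) (flp_i L199696) L204530
theorem L204544 : sm gd N18498 = N18983 := rfl
theorem L204546 : sm gg N18983 = N18978 := ded_32_2 (flp_d L204493) (flp_g L199706) L204544
theorem L204548 : sm gi N18983 = N18501 := ded_34_2 (flp_d L199734) (flp_i L199710) L204544
theorem L204550 : sm gc N18983 = N18909 := ded_24_1 L203606 L198807 (flp_d L194228) (flp_c L199704) L204544
theorem L204552 : sm ge N18983 = N18983 := ded_30_2 (flp_d L204544) (flp_e L199702) L194219 L199702 L204544
theorem L204553 : sm gh N18983 = N18905 := ded_33_2 (flp_d L203552) L198445 L197718 (flp_h L199708) L204544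
theorem L204555 : sm gf N18498 = N18984 := rfl
theorem L204557 : sm gc N18984 = N18499 := ded_26_1 (flp_f L199712) (flp_c L199704) L204555
theorem L204559 : sm gh N18984 = N18576 := ded_40_2 (flp_f L200470) (flp_h L199708) L204555
theorem L204561 : sm gi N18984 = N18502 := ded_41_2 (flp_f L199737) (flp_i L199710) L204555
theorem L204563 : sm ge N18984 = N18507 := ded_35_1 (flp_f L199781) (flp_e L194264) (flp_f L194211) L199702 L204555
theorem L204565 : sm gg N18499 = N18985 := rfl
theorem L204567 : sm gd N18985 = N18981 := ded_32_1 (flp_g L204516) (flp_d L199714) L204565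
theorem L204569 : sm ge N18985 = N18508 := ded_36_1 (flp_g L199789) (flp_e L199720) L204565
theorem L204571 : sm gh N18985 = N18577 := ded_42_2 (flp_g L200478) (flp_h L199716) L204565
theorem L204573 : sm gi N18985 = N18503 := ded_43_2 (flp_g L199745) (flp_i L199718) L204565
theorem L204575 : sm gf N18985 = N18980 := ded_39_1 (flp_g L204510) (flp_f L199669) (flp_g L194222) L199712 L204565
theorem L204577 : sm gd N18500 = N18986 := rfl
theorem L204579 : sm ga N18986 = N18563 := ded_11_1 (flp_d L200353) (flp_a L199724) L204577
theorem L204581 : sm gb N18986 = N18501 := ded_18_1 (flp_d L199734) (flp_b L199726) L204577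
theorem L204583 : sm gg N18986 = N18789 := ded_32_2 L202527 (flp_g L199730) L204577
theorem L204585 : sm ge N18986 = N18986 := ded_30_2 (flp_d L204577) (flp_e L199722) L194232 L199722 L204577
theorem L204586 : sm gh N18986 = N18608 := ded_33_2 (flp_d L200775) L195353 (flp_d L194338) (flp_h L199732) L204577
theorem L204588 : sm gf N18500 = N18987 := rfl
theorem L204590 : sm ga N18987 = N18564 := ded_13_1 (flp_f L200360) (flp_a L199724) L204588
theorem L204592 : sm gb N18987 = N18502 := ded_20_1 (flp_f L199737) (flp_b L199726) L204588
theorem L204594 : sm gc N18987 = N18587 := ded_26_1 (flp_f L200560) (flp_c L199728) L204588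
theorem L204596 : sm gh N18987 = N18515 := ded_40_2 (flp_f L199848) (flp_h L199732) L204588
theorem L204598 : sm ge N18987 = N18511 := ded_35_1 (flp_f L199814) (flp_e L194291) (flp_f L194233) L199722 L204588
theorem L204600 : sm gf N18501 = N18988 := rfl
theorem L204602 : sm gd N18988 = N18502 := ded_31_1 (flp_f L199737) L199734 L204600
theorem L204604 : sm gg N18502 = N18989 := rfl
theorem L204606 : sm gc N18989 = N18503 := ded_27_1 (flp_g L199745) (flp_c L199739) L204604
theorem L204608 : sm ge N18989 = N18513 := ded_36_1 (flp_g L199828) (flp_e L199743) L204604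
theorem L204610 : sm gh N18989 = N18516 := ded_42_2 (flp_g L199862) (flp_h L199741) L204604
theorem L204612 : sm ge N18504 = N18990 := rfl
theorem L204614 : sm ga N18990 = N18505 := ded_12_1 (flp_e L199766) L199751 L204612
theorem L204616 : sm gb N18990 = N18554 := ded_19_1 (flp_e L200287) (flp_b L199764) L204612
theorem L204618 : sm gc N18990 = N18575 := ded_25_1 (flp_e L200460) (flp_c L199753) L204612
theorem L204620 : sm gg N18990 = N18829 := ded_36_2 L202840 (flp_g L199758) L204612
theorem L204622 : sm gh N18990 = N18580 := ded_37_2 (flp_e L200502) (flp_h L199760) L204612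
theorem L204624 : sm gi N18990 = N18509 := ded_38_2 (flp_e L199795) (flp_i L199762) L204612
theorem L204626 : sm gd N18505 = N18991 := rfl
theorem L204628 : sm gb N18991 = N18506 := ded_18_1 (flp_d L199776) (flp_b L199768) L204626
theorem L204630 : sm gi N18991 = N18510 := ded_34_2 (flp_d L199807) (flp_i L199774) L204626
theorem L204632 : sm ge N18991 = N18991 := ded_30_2 (flp_d L204626) (flp_e L199766) L194257 L199766 L204626
theorem L204633 : sm gf N18505 = N18992 := rfl
theorem L204635 : sm gb N18992 = N18507 := ded_20_1 (flp_f L199781) (flp_b L199768) L204633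
theorem L204637 : sm gc N18992 = N18671 := ded_26_1 L201381 (flp_c L199770) L204633
theorem L204639 : sm gh N18992 = N18582 := ded_40_2 (flp_f L200518) (flp_h L199772) L204633
theorem L204641 : sm gi N18992 = N18511 := ded_41_2 (flp_f L199814) (flp_i L199774) L204633
theorem L204643 : sm gf N18506 = N18993 := rfl
theorem L204645 : sm gd N18993 = N18507 := ded_31_1 (flp_f L199781) L199776 L204643
theorem L204647 : sm gi N18993 = N18512 := ded_41_2 (flp_f L199822) (flp_i L199778) L204643
theorem L204649 : sm gh N18506 = N18994 := rfl
theorem L204651 : sm ga N18994 = N18702 := ded_15_1 (flp_h L203961) L203952 L204649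
theorem L204653 : sm gc N18994 = N18735 := ded_28_1 (flp_h L203805) L203802 L204649
theorem L204655 : sm ge N18994 = N18994 := ded_37_1 (flp_h L204649) L199780 L204649
theorem L204656 : sm gg N18994 = N18793 := ded_42_1 (flp_h L203643) L203636 L204649
theorem L204658 : sm gd N18994 = N18584 := ded_33_1 (flp_h L200534) (flp_d L195027) (flp_h L194268) L199776 L204649
theorem L204660 : sm gi N18994 = N18878 := ded_44_2 (flp_h L203282) L198126 (flp_h L194302) (flp_i L199778) L204649
theorem L204662 : sm gg N18507 = N18995 := rfl
theorem L204664 : sm gc N18995 = N18508 := ded_27_1 (flp_g L199789) (flp_c L199783) L204662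
theorem L204666 : sm gh N18995 = N18585 := ded_42_2 (flp_g L200546) (flp_h L199785) L204662
theorem L204668 : sm gi N18995 = N18513 := ded_43_2 (flp_g L199828) (flp_i L199787) L204662
theorem L204670 : sm gd N18509 = N18996 := rfl
theorem L204672 : sm ga N18996 = N18510 := ded_11_1 (flp_d L199807) (flp_a L199797) L204670
theorem L204674 : sm gb N18996 = N18556 := ded_18_1 (flp_d L200307) (flp_b L199799) L204670
theorem L204676 : sm gg N18996 = N18824 := ded_32_2 L202808 (flp_g L199803) L204670
theorem L204678 : sm gc N18996 = N18969 := ded_24_1 (flp_d L204384) L199516 L195764 (flp_c L199801) L204670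
theorem L204680 : sm ge N18996 = N18996 := ded_30_2 (flp_d L204670) (flp_e L199795) L194282 L199795 L204670
theorem L204681 : sm gh N18996 = N18653 := ded_33_2 (flp_d L201212) L195847 (flp_d L194368) (flp_h L199805) L204670
theorem L204683 : sm gf N18509 = N18997 := rfl
theorem L204685 : sm ga N18997 = N18511 := ded_13_1 (flp_f L199814) (flp_a L199797) L204683
theorem L204687 : sm gb N18997 = N18557 := ded_20_1 (flp_f L200310) (flp_b L199799) L204683
theorem L204689 : sm gc N18997 = N18578 := ded_26_1 (flp_f L200484) (flp_c L199801) L204683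
theorem L204691 : sm gh N18997 = N18517 := ded_40_2 (flp_f L199870) (flp_h L199805) L204683
theorem L204693 : sm ge N18997 = N18564 := ded_35_1 (flp_f L200360) (flp_e L194864) (flp_f L194283) L199795 L204683
theorem L204695 : sm gf N18510 = N18998 := rfl
theorem L204697 : sm gb N18998 = N18512 := ded_20_1 (flp_f L199822) (flp_b L199809) L204695
theorem L204699 : sm gd N18998 = N18511 := ded_31_1 (flp_f L199814) L199807 L204695
theorem L204701 : sm gh N18998 = N18667 := ded_40_2 (flp_f L201351) (flp_h L199812) L204695
theorem L204703 : sm gg N18511 = N18999 := rfl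
theorem L204705 : sm gb N18999 = N18513 := ded_21_1 (flp_g L199828) (flp_b L199816) L204703
theorem L204707 : sm gc N18999 = N18670 := ded_27_1 L201377 (flp_c L199818) L204703
theorem L204709 : sm gh N18999 = N18518 := ded_42_2 (flp_g L199884) (flp_h L199820) L204703
theorem L204711 : sm ge N18512 = N19000 := rfl

end Cfsg.Agent.Helper28.FibA
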