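import Cfsg.Agent.Helper28.FibB15

/-! # The Fi₂₂ presentation, cosets of the subgroup generated by b, …, i: the coset enumeration, part 16 (helper28; generated) -/

set_option autoImplicit false

noncomputable section

namespace Cfsg.Agent.Helper28.FibA

open Cfsg.Agent.Helper28.CosetTable

theorem L204713 : sm gh N19000 = N18880 := ded_37_2 (flp_e L203295) (flp_h L199826) L204711
theorem L204715 : sm gf N19000 = N19000 := ded_35_2 (flp_e L204711) (flp_f L199822) L194301 L199822 L204711
theorem L204716 : sm gg N18512 = N19001 := rfl
theorem L204718 : sm gd N19001 = N18513 := ded_32_1 (flp_g L199828) (flp_d L199824) L204716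
theorem L204720 : sm gh N19001 = N18881 := ded_42_2 (flp_g L203298) (flp_h L199826) L204716
theorem L204722 : sm gg N18515 = N19002 := rfl
theorem L204724 : sm ga N19002 = N18572 := ded_14_1 (flp_g L200438) (flp_a L199850) L204722
theorem L204726 : sm gb N19002 = N18516 := ded_21_1 (flp_g L199862) (flp_b L199852) L204722
theorem L204728 : sm gc N19002 = N18593 := ded_27_1 (flp_g L200608) (flp_c L199854) L204722
theorem L204730 : sm gd N19002 = N18632 := ded_32_1 (flp_g L200986) (flp_d L199856) L204722
theorem L204732 : sm ge N19002 = N18518 := ded_36_1 (flp_g L199884) (flp_e L199860) L204722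
theorem L204734 : sm gi N19002 = N18592 := ded_43_2 (flp_g L200596) (flp_i L199858) L204722
theorem L204736 : sm gf N19002 = N18805 := ded_39_1 (flp_g L202673) (flp_f L197522) (flp_g L194334) L199848 L204722
theorem L204738 : sm gg N18517 = N19003 := rfl
theorem L204740 : sm ga N19003 = N18518 := ded_14_1 (flp_g L199884) (flp_a L199872) L204738
theorem L204742 : sm gb N19003 = N18571 := ded_21_1 (flp_g L200432) (flp_b L199874) L204738
theorem L204744 : sm gc N19003 = N18592 := ded_27_1 (flp_g L200596) (flp_c L199876) L204738
theorem L204746 : sm gd N19003 = N18656 := ded_32_1 (flp_g L201241) (flp_d L199878) L204738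
theorem L204748 : sm ge N19003 = N18572 := ded_36_1 (flp_g L200438) (flp_e L199882) L204738
theorem L204750 : sm gi N19003 = N18593 := ded_43_2 (flp_g L200608) (flp_i L199880) L204738
theorem L204752 : sm gf N19003 = N18827 := ded_39_1 (flp_g L202822) (flp_f L197656) (flp_g L194364) L199870 L204738
theorem L204754 : sm gf N18519 = N19004 := rfl
theorem L204756 : sm gb N19004 = N18618 := ded_20_1 (flp_f L200864) (flp_b L199896) L204754
theorem L204758 : sm gd N19004 = N18520 := ded_31_1 (flp_f L199905) L199894 L204754
theorem L204760 : sm gh N19004 = N18565 := ded_40_2 (flp_f L200368) (flp_h L199903) L204754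
theorem L204762 : sm gi N19004 = N18908 := ded_41_2 (flp_f L203591) (flp_i L199900) L204754
theorem L204764 : sm gg N18520 = N19005 := rfl
theorem L204766 : sm gb N19005 = N18619 := ded_21_1 (flp_g L200868) (flp_b L199907) L204764
theorem L204768 : sm gc N19005 = N18521 := ded_27_1 (flp_g L199917) (flp_c L199909) L204764
theorem L204770 : sm ge N19005 = N18790 := ded_36_1 (flp_g L202529) (flp_e L199915) L204764
theorem L204772 : sm gh N19005 = N18522 := ded_42_2 (flp_g L199929) (flp_h L199911) L204764
theorem L204774 : sm gi N19005 = N18910 := ded_43_2 (flp_g L203608) (flp_i L199913) L204764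
theorem L204776 : sm gf N19005 = N18687 := ded_39_1 (flp_g L201555) (flp_f L196243) (flp_g L194394) L199905 L204764
theorem L204778 : sm gd N18523 = N19006 := rfl
theorem L204780 : sm ga N19006 = N18789 := ded_11_1 L202527 (flp_a L199945) L204778
theorem L204782 : sm gb N19006 = N18524 := ded_18_1 (flp_d L199955) (flp_b L199947) L204778
theorem L204784 : sm gg N19006 = N18563 := ded_32_2 (flp_d L200353) (flp_g L199951) L204778
theorem L204786 : sm ge N19006 = N19006 := ded_30_2 (flp_d L204778) (flp_e L199943) L194452 L199943 L204778
theorem L204787 : sm gh N19006 = N18602 := ded_33_2 (flp_d L200712) L195292 (flp_d L194497) (flp_h L199953) L204778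
theorem L204789 : sm gf N18523 = N19007 := rfl
theorem L204791 : sm ga N19007 = N18806 := ded_13_1 L202681 (flp_a L199945) L204789
theorem L204793 : sm gb N19007 = N18525 := ded_20_1 (flp_f L199966) (flp_b L199947) L204789
theorem L204795 : sm gc N19007 = N18535 := ded_26_1 (flp_f L200082) (flp_c L199949) L204789
theorem L204797 : sm gh N19007 = N18527 := ded_40_2 (flp_f L199990) (flp_h L199953) L204789
theorem L204799 : sm ge N19007 = N18813 := ded_35_1 (flp_f L202729) (flp_e L197563) (flp_f L194453) L199943 L204789
theorem L204801 : sm gf N18524 = N19008 := rfl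
theorem L204803 : sm ga N19008 = N18875 := ded_13_1 (flp_f L203264) (flp_a L199957) L204801
theorem L204805 : sm gc N19008 = N19004 := ded_26_1 (flp_f L204754) (flp_c L199961) L204801
theorem L204807 : sm gd N19008 = N18525 := ded_31_1 (flp_f L199966) L199955 L204801
theorem L204809 : sm gh N19008 = N18686 := ded_40_2 (flp_f L201549) (flp_h L199964) L204801
theorem L204811 : sm gg N18525 = N19009 := rfl
theorem L204813 : sm ga N19009 = N18876 := ded_14_1 (flp_g L203268) (flp_a L199968) L204811
theorem L204815 : sm gc N19009 = N18526 := ded_27_1 (flp_g L199976) (flp_c L199970) L204811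
theorem L204817 : sm ge N19009 = N18815 := ded_36_1 (flp_g L202741) (flp_e L199974) L204811
theorem L204819 : sm gh N19009 = N18528 := ded_42_2 (flp_g L200004) (flp_h L199972) L204811
theorem L204821 : sm gf N19009 = N18566 := ded_39_1 (flp_g L200372) (flp_f L194875) (flp_g L194469) L199966 L204811
theorem L204823 : sm gg N18527 = N19010 := rfl
theorem L204825 : sm ga N19010 = N18805 := ded_14_1 (flp_g L202673) (flp_a L199992) L204823
theorem L204827 : sm gb N19010 = N18528 := ded_21_1 (flp_g L200004) (flp_b L199994) L204823
theorem L204829 : sm gc N19010 = N18541 := ded_27_1 (flp_g L200152) (flp_c L199996) L204823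
theorem L204831 : sm gd N19010 = N18631 := ded_32_1 (flp_g L200974) (flp_d L199998) L204823
theorem L204833 : sm ge N19010 = N18816 := ded_36_1 (flp_g L202749) (flp_e L200002) L204823
theorem L204835 : sm gi N19010 = N18646 := ded_43_2 (flp_g L201130) (flp_i L200000) L204823
theorem L204837 : sm gf N19010 = N18572 := ded_39_1 (flp_g L200438) (flp_f L194941) (flp_g L194493) L199990 L204823
theorem L204839 : sm gg N18529 = N19011 := rfl
theorem L204841 : sm ga N19011 = N18633 := ded_14_1 (flp_g L200996) (flp_a L200020) L204839
theorem L204843 : sm gb N19011 = N18737 := ded_21_1 (flp_g L202018) (flp_b L200022) L204839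
theorem L204845 : sm gc N19011 = N18897 := ded_27_1 (flp_g L203454) (flp_c L200024) L204839
theorem L204847 : sm ge N19011 = N18574 := ded_36_1 (flp_g L200454) (flp_e L200028) L204839
theorem L204849 : sm gh N19011 = N18537 := ded_42_2 (flp_g L200096) (flp_h L200026) L204839
theorem L204851 : sm gf N19011 = N18533 := ded_39_1 (flp_g L200060) (flp_f L194561) (flp_g L194533) L200018 L204839
theorem L204853 : sm gf N18530 = N19012 := rfl
theorem L204855 : sm ga N19012 = N18768 := ded_13_1 (flp_f L202322) (flp_a L200032) L204853
theorem L204857 : sm gb N19012 = N18532 := ded_20_1 (flp_f L200050) (flp_b L200034) L204853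
theorem L204859 : sm gc N19012 = N18813 := ded_26_1 (flp_f L202729) (flp_c L200036) L204853
theorem L204861 : sm gh N19012 = N18538 := ded_40_2 (flp_f L200112) (flp_h L200040) L204853
theorem L204863 : sm ge N19012 = N18535 := ded_35_1 (flp_f L200082) (flp_e L194585) (flp_f L194541) L200030 L204853
theorem L204865 : sm gf N18531 = N19013 := rfl
theorem L204867 : sm ga N19013 = N18779 := ded_13_1 (flp_f L202432) (flp_a L200044) L204865
theorem L204869 : sm gd N19013 = N18532 := ded_31_1 (flp_f L200050) L200042 L204865
theorem L204871 : sm gg N18532 = N19014 := rfl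
theorem L204873 : sm ga N19014 = N18780 := ded_14_1 (flp_g L202442) (flp_a L200052) L204871
theorem L204875 : sm gc N19014 = N18533 := ded_27_1 (flp_g L200060) (flp_c L200054) L204871
theorem L204877 : sm ge N19014 = N18536 := ded_36_1 (flp_g L200088) (flp_e L200058) L204871
theorem L204879 : sm gh N19014 = N18540 := ded_42_2 (flp_g L200140) (flp_h L200056) L204871
theorem L204881 : sm gf N19014 = N18897 := ded_39_1 (flp_g L203454) (flp_f L198315) (flp_g L194557) L200050 L204871
theorem L204883 : sm gf N18534 = N19015 := rfl
theorem L204885 : sm ga N19015 = N18535 := ded_13_1 (flp_f L200082) (flp_a L200072) L204883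
theorem L204887 : sm gb N19015 = N18763 := ded_20_1 (flp_f L202272) (flp_b L200074) L204883
theorem L204889 : sm gc N19015 = N18806 := ded_26_1 L202681 (flp_c L200076) L204883
theorem L204891 : sm gh N19015 = N18539 := ded_40_2 (flp_f L200126) (flp_h L200080) L204883
theorem L204893 : sm ge N19015 = N18768 := ded_35_1 (flp_f L202322) (flp_e L197063) (flp_f L194577) L200070 L204883
theorem L204895 : sm gg N18535 = N19016 := rfl
theorem L204897 : sm gb N19016 = N18536 := ded_21_1 (flp_g L200088) (flp_b L200084) L204895
theorem L204899 : sm gh N19016 = N18541 := ded_42_2 (flp_g L200152) (flp_h L200086) L204895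
theorem L204901 : sm gf N19016 = N18590 := ded_39_1 (flp_g L200584) (flp_f L195063) (flp_g L194589) L200082 L204895
theorem L204903 : sm gg N18538 = N19017 := rfl
theorem L204905 : sm ga N19017 = N18771 := ded_14_1 (flp_g L202350) (flp_a L200114) L204903
theorem L204907 : sm gb N19017 = N18540 := ded_21_1 (flp_g L200140) (flp_b L200116) L204903
theorem L204909 : sm gc N19017 = N18816 := ded_27_1 (flp_g L202749) (flp_c L200118) L204903
theorem L204911 : sm gd N19017 = N18770 := ded_32_1 (flp_g L202342) (flp_d L200120) L204903
theorem L204913 : sm ge N19017 = N18541 := ded_36_1 (flp_g L200152) (flp_e L200124) L204903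
theorem L204915 : sm gi N19017 = N18826 := ded_43_2 (flp_g L202816) (flp_i L200122) L204903
theorem L204917 : sm gf N19017 = N18830 := ded_39_1 (flp_g L202842) L197678 (flp_g L194627) L200112 L204903
theorem L204919 : sm gg N18539 = N19018 := rfl
theorem L204921 : sm ga N19018 = N18541 := ded_14_1 (flp_g L200152) (flp_a L200128) L204919
theorem L204923 : sm gb N19018 = N18770 := ded_21_1 (flp_g L202342) (flp_b L200130) L204919
theorem L204925 : sm gc N19018 = N18805 := ded_27_1 (flp_g L202673) (flp_c L200132) L204919
theorem L204927 : sm gd N19018 = N18540 := ded_32_1 (flp_g L200140) (flp_d L200134) L204919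
theorem L204929 : sm ge N19018 = N18771 := ded_36_1 (flp_g L202350) (flp_e L200138) L204919
theorem L204931 : sm gi N19018 = N18827 := ded_43_2 (flp_g L202822) (flp_i L200136) L204919
theorem L204933 : sm gf N19018 = N18593 := ded_39_1 (flp_g L200608) (flp_f L195103) (flp_g L194639) L200126 L204919
theorem L204935 : sm gg N18542 = N19019 := rfl
theorem L204937 : sm ga N19019 = N18558 := ded_14_1 (flp_g L200318) (flp_a L200162) L204935
theorem L204939 : sm gb N19019 = N18754 := ded_21_1 (flp_g L202164) (flp_b L200164) L204935
theorem L204941 : sm ge N19019 = N18547 := ded_36_1 (flp_g L200209) (flp_e L200168) L204935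
theorem L204943 : sm gh N19019 = N18548 := ded_42_2 (flp_g L200217) (flp_h L200166) L204935
theorem L204945 : sm gf N19019 = N18745 := ded_39_1 (flp_g L202097) (flp_f L196794) (flp_g L194689) L200160 L204935
theorem L204947 : sm gd N18543 = N19020 := rfl
theorem L204949 : sm ga N19020 = N18560 := ded_11_1 (flp_d L200336) (flp_a L200172) L204947
theorem L204951 : sm gg N19020 = N18872 := ded_32_2 (flp_d L203241) (flp_g L200176) L204947
theorem L204953 : sm gi N19020 = N18545 := ded_34_2 (flp_d L200194) (flp_i L200180) L204947
theorem L204955 : sm gc N19020 = N18680 := ded_24_1 (flp_d L201479) L196194 (flp_d L194716) (flp_c L200174) L204947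
theorem L204957 : sm ge N19020 = N19020 := ded_30_2 (flp_d L204947) (flp_e L200170) L194703 L200170 L204947
theorem L204958 : sm gf N18543 = N19021 := rfl
theorem L204960 : sm ga N19021 = N18561 := ded_13_1 (flp_f L200341) (flp_a L200172) L204958
theorem L204962 : sm gc N19021 = N18544 := ded_26_1 (flp_f L200182) (flp_c L200174) L204958
theorem L204964 : sm gh N19021 = N18756 := ded_40_2 (flp_f L202186) (flp_h L200178) L204958
theorem L204966 : sm gi N19021 = N18546 := ded_41_2 (flp_f L200201) (flp_i L200180) L204958
theorem L204968 : sm gg N18544 = N19022 := rfl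
theorem L204970 : sm ga N19022 = N18562 := ded_14_1 (flp_g L200347) (flp_a L200184) L204968
theorem L204972 : sm gb N19022 = N18689 := ded_21_1 (flp_g L201567) (flp_b L200186) L204968
theorem L204974 : sm gd N19022 = N18682 := ded_32_1 (flp_g L201494) (flp_d L200188) L204968
theorem L204976 : sm gh N19022 = N18757 := ded_42_2 (flp_g L202192) (flp_h L200190) L204968
theorem L204978 : sm gi N19022 = N18547 := ded_43_2 (flp_g L200209) (flp_i L200192) L204968
theorem L204980 : sm gf N19022 = N18874 := ded_39_1 (flp_g L203256) (flp_f L198099) (flp_g L194710) L200182 L204968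
theorem L204982 : sm gf N18545 = N19023 := rfl
theorem L204984 : sm ga N19023 = N18565 := ded_13_1 (flp_f L200368) (flp_a L200196) L204982
theorem L204986 : sm gd N19023 = N18546 := ded_31_1 (flp_f L200201) L200194 L204982
theorem L204988 : sm gg N18546 = N19024 := rfl
theorem L204990 : sm ga N19024 = N18566 := ded_14_1 (flp_g L200372) (flp_a L200203) L204988
theorem L204992 : sm gc N19024 = N18547 := ded_27_1 (flp_g L200209) (flp_c L200205) L204988
theorem L204994 : sm gh N19024 = N18549 := ded_42_2 (flp_g L200231) (flp_h L200207) L204988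
theorem L204996 : sm gf N19024 = N18876 := ded_39_1 (flp_g L203268) (flp_f L198110) (flp_g L194724) L200201 L204988
theorem L204998 : sm gd N18550 = N19025 := rfl
theorem L205000 : sm gb N19025 = N18935 := ded_18_1 (flp_d L203950) (flp_b L200243) L204998
theorem L205002 : sm gg N19025 = N18959 := ded_32_2 (flp_d L204275) (flp_g L200247) L204998
theorem L205004 : sm gi N19025 = N18938 := ded_34_2 (flp_d L203987) (flp_i L200251) L204998
theorem L205006 : sm gc N19025 = N18556 := ded_24_1 (flp_d L200307) L194831 (flp_d L194785) (flp_c L200245) L204998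
theorem L205008 : sm ge N19025 = N19025 := ded_30_2 (flp_d L204998) (flp_e L200241) L194776 L200241 L204998
theorem L205009 : sm gf N18550 = N19026 := rfl
theorem L205011 : sm gb N19026 = N18936 := ded_20_1 (flp_f L203963) (flp_b L200243) L205009
theorem L205013 : sm gc N19026 = N18551 := ded_26_1 (flp_f L200253) (flp_c L200245) L205009
theorem L205015 : sm gh N19026 = N18772 := ded_40_2 (flp_f L202358) (flp_h L200249) L205009
theorem L205017 : sm gi N19026 = N18939 := ded_41_2 (flp_f L203998) (flp_i L200251) L205009
theorem L205019 : sm ge N19026 = N19021 := ded_35_1 (flp_f L204958) (flp_e L200170) (flp_f L194766) L200241 L205009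
theorem L205021 : sm gg N18551 = N19027 := rfl
theorem L205023 : sm gb N19027 = N18573 := ded_21_1 (flp_g L200448) (flp_b L200255) L205021
theorem L205025 : sm gd N19027 = N18558 := ded_32_1 (flp_g L200318) (flp_d L200257) L205021
theorem L205027 : sm ge N19027 = N19022 := ded_36_1 (flp_g L204968) (flp_e L200263) L205021
theorem L205029 : sm gh N19027 = N18773 := ded_42_2 (flp_g L202370) (flp_h L200259) L205021
theorem L205031 : sm gi N19027 = N19019 := ded_43_2 (flp_g L204935) (flp_i L200261) L205021
theorem L205033 : sm gd N18552 = N19028 := rfl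
theorem L205035 : sm ga N19028 = N18743 := ded_11_1 (flp_d L202086) (flp_a L200267) L205033
theorem L205037 : sm gb N19028 = N18824 := ded_18_1 L202808 (flp_b L200269) L205033
theorem L205039 : sm gg N19028 = N18556 := ded_32_2 (flp_d L200307) (flp_g L200273) L205033
theorem L205041 : sm gc N19028 = N18959 := ded_24_1 (flp_d L204275) L199400 L196786 (flp_c L200271) L205033
theorem L205043 : sm ge N19028 = N19028 := ded_30_2 (flp_d L205033) (flp_e L200265) L194799 L200265 L205033
theorem L205044 : sm gh N19028 = N18821 := ded_33_2 (flp_d L202784) L197629 (flp_d L194899) (flp_h L200275) L205033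
theorem L205046 : sm gf N18552 = N19029 := rfl
theorem L205048 : sm ga N19029 = N18744 := ded_13_1 (flp_f L202089) (flp_a L200267) L205046
theorem L205050 : sm gb N19029 = N18828 := ded_20_1 L202832 (flp_b L200269) L205046
theorem L205052 : sm gc N19029 = N18553 := ded_26_1 (flp_f L200277) (flp_c L200271) L205046
theorem L205054 : sm gh N19029 = N18567 := ded_40_2 (flp_f L200378) (flp_h L200275) L205046
theorem L205056 : sm ge N19029 = N18736 := ded_35_1 (flp_f L202010) (flp_e L196703) (flp_f L194791) L200265 L205046
theorem L205058 : sm gg N18553 = N19030 := rfl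
theorem L205060 : sm ga N19030 = N18745 := ded_14_1 (flp_g L202097) (flp_a L200279) L205058
theorem L205062 : sm gb N19030 = N18574 := ded_21_1 (flp_g L200454) (flp_b L200281) L205058
theorem L205064 : sm ge N19030 = N18737 := ded_36_1 (flp_g L202018) (flp_e L200285) L205058
theorem L205066 : sm gh N19030 = N18568 := ded_42_2 (flp_g L200392) (flp_h L200283) L205058
theorem L205068 : sm gf N19030 = N18558 := ded_39_1 (flp_g L200318) (flp_f L194835) (flp_g L194806) L200277 L205058
theorem L205070 : sm gd N18554 = N19031 := rfl
theorem L205072 : sm ga N19031 = N19025 := ded_11_1 (flp_d L204998) (flp_a L200289) L205070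
theorem L205074 : sm gi N19031 = N18556 := ded_34_2 (flp_d L200307) (flp_i L200293) L205070
theorem L205076 : sm gc N19031 = N18938 := ded_24_1 (flp_d L203987) L198875 (flp_d L194827) (flp_c L200291) L205070
theorem L205078 : sm ge N19031 = N19031 := ded_30_2 (flp_d L205070) (flp_e L200287) L194818 L200287 L205070
theorem L205079 : sm gf N18554 = N19032 := rfl
theorem L205081 : sm ga N19032 = N19026 := ded_13_1 (flp_f L205009) (flp_a L200289) L205079
theorem L205083 : sm gc N19032 = N18555 := ded_26_1 (flp_f L200295) (flp_c L200291) L205079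
theorem L205085 : sm gi N19032 = N18557 := ded_41_2 (flp_f L200310) (flp_i L200293) L205079
theorem L205087 : sm ge N19032 = N18561 := ded_35_1 (flp_f L200341) (flp_e L194852) (flp_f L194814) L200287 L205079
theorem L205089 : sm gg N18555 = N19033 := rfl
theorem L205091 : sm ga N19033 = N19027 := ded_14_1 (flp_g L205021) (flp_a L200297) L205089
theorem L205093 : sm gb N19033 = N18577 := ded_21_1 (flp_g L200478) (flp_b L200299) L205089
theorem L205095 : sm gd N19033 = N19019 := ded_32_1 (flp_g L204935) (flp_d L200301) L205089
theorem L205097 : sm ge N19033 = N18562 := ded_36_1 (flp_g L200347) (flp_e L200305) L205089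
theorem L205099 : sm gi N19033 = N18558 := ded_43_2 (flp_g L200318) (flp_i L200303) L205089
theorem L205101 : sm gf N18556 = N19034 := rfl
theorem L205103 : sm gd N19034 = N18557 := ded_31_1 (flp_f L200310) L200307 L205101
theorem L205105 : sm gh N18556 = N19035 := rfl
theorem L205107 : sm ga N19035 = N18812 := ded_15_1 (flp_h L203996) L203989 L205105
theorem L205109 : sm gb N19035 = N18653 := ded_22_1 (flp_h L204681) L204674 L205105
theorem L205111 : sm ge N19035 = N19035 := ded_37_1 (flp_h L205105) L200309 L205105
theorem L205112 : sm gg N19035 = N18821 := ded_42_1 (flp_h L205044) L205039 L205105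
theorem L205114 : sm gd N19035 = N18570 := ded_33_1 (flp_h L200420) (flp_d L194913) (flp_h L194833) L200307 L205105
theorem L205116 : sm gg N18557 = N19036 := rfl
theorem L205118 : sm gc N19036 = N18558 := ded_27_1 (flp_g L200318) (flp_c L200312) L205116
theorem L205120 : sm ge N19036 = N18566 := ded_36_1 (flp_g L200372) (flp_e L200316) L205116
theorem L205122 : sm gh N19036 = N18571 := ded_42_2 (flp_g L200432) (flp_h L200314) L205116
theorem L205124 : sm gd N18559 = N19037 := rfl
theorem L205126 : sm gb N19037 = N18560 := ded_18_1 (flp_d L200336) (flp_b L200328) L205124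
theorem L205128 : sm gi N19037 = N18563 := ded_34_2 (flp_d L200353) (flp_i L200334) L205124
theorem L205130 : sm ge N19037 = N19037 := ded_30_2 (flp_d L205124) (flp_e L200326) L194845 L200326 L205124
theorem L205131 : sm gf N18559 = N19038 := rfl
theorem L205133 : sm gb N19038 = N18561 := ded_20_1 (flp_f L200341) (flp_b L200328) L205131
theorem L205135 : sm gc N19038 = N18582 := ded_26_1 (flp_f L200518) (flp_c L200330) L205131
theorem L205137 : sm gh N19038 = N18671 := ded_40_2 L201381 (flp_h L200332) L205131
theorem L205139 : sm gi N19038 = N18564 := ded_41_2 (flp_f L200360) (flp_i L200334) L205131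
theorem L205141 : sm gf N18560 = N19039 := rfl
theorem L205143 : sm gd N19039 = N18561 := ded_31_1 (flp_f L200341) L200336 L205141
theorem L205145 : sm gi N19039 = N18565 := ded_41_2 (flp_f L200368) (flp_i L200338) L205141
theorem L205147 : sm gg N18561 = N19040 := rfl
theorem L205149 : sm gc N19040 = N18562 := ded_27_1 (flp_g L200347) (flp_c L200343) L205147
theorem L205151 : sm gi N19040 = N18566 := ded_43_2 (flp_g L200372) (flp_i L200345) L205147
theorem L205153 : sm gc N18563 = N19041 := rfl
theorem L205155 : sm ge N19041 = N19041 := ded_25_2 (flp_c L205153) L200357 L205153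
theorem L205156 : sm gh N19041 = N18615 := ded_28_2 L200851 (flp_h L200358) L205153
theorem L205158 : sm gb N19041 = N18848 := ded_17_1 L203022 L200716 L196240 (flp_b L200355) L205153
theorem L205160 : sm gd N19041 = N18588 := ded_24_2 (flp_c L200568) (flp_d L195055) (flp_c L194868) L200353 L205153
theorem L205162 : sm gf N18563 = N19042 := rfl
theorem L205164 : sm gb N19042 = N18565 := ded_20_1 (flp_f L200368) (flp_b L200355) L205162
theorem L205166 : sm gd N19042 = N18564 := ded_31_1 (flp_f L200360) L200353 L205162
theorem L205168 : sm gh N19042 = N18618 := ded_40_2 (flp_f L200864) (flp_h L200358) L205162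
theorem L205170 : sm gg N18564 = N19043 := rfl
theorem L205172 : sm gb N19043 = N18566 := ded_21_1 (flp_g L200372) (flp_b L200362) L205170
theorem L205174 : sm gc N19043 = N18590 := ded_27_1 (flp_g L200584) (flp_c L200364) L205170
theorem L205176 : sm gh N19043 = N18572 := ded_42_2 (flp_g L200438) (flp_h L200366) L205170
theorem L205178 : sm ge N18565 = N19044 := rfl
theorem L205180 : sm gf N19044 = N19044 := ded_35_2 (flp_e L205178) (flp_f L200368) L194874 L200368 L205178
theorem L205181 : sm gg N18565 = N19045 := rfl
theorem L205183 : sm gd N19045 = N18566 := ded_32_1 (flp_g L200372) (flp_d L200370) L205181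
theorem L205185 : sm gg N18567 = N19046 := rfl
theorem L205187 : sm ga N19046 = N18751 := ded_14_1 (flp_g L202142) (flp_a L200380) L205185
theorem L205189 : sm gb N19046 = N18827 := ded_21_1 (flp_g L202822) (flp_b L200382) L205185
theorem L205191 : sm gc N19046 = N18568 := ded_27_1 (flp_g L200392) (flp_c L200384) L205185
theorem L205193 : sm gd N19046 = N18826 := ded_32_1 (flp_g L202816) (flp_d L200386) L205185
theorem L205195 : sm ge N19046 = N18739 := ded_36_1 (flp_g L202040) (flp_e L200390) L205185
theorem L205197 : sm gi N19046 = N18770 := ded_43_2 (flp_g L202342) (flp_i L200388) L205185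
theorem L205199 : sm gf N19046 = N18571 := ded_39_1 (flp_g L200432) (flp_f L194927) (flp_g L194895) L200378 L205185
theorem L205201 : sm gg N18569 = N19047 := rfl
theorem L205203 : sm ga N19047 = N18816 := ded_14_1 (flp_g L202749) (flp_a L200408) L205201
theorem L205205 : sm gb N19047 = N18656 := ded_21_1 (flp_g L201241) (flp_b L200410) L205201
theorem L205207 : sm gc N19047 = N18771 := ded_27_1 (flp_g L202350) (flp_c L200412) L205201
theorem L205209 : sm gd N19047 = N18571 := ded_32_1 (flp_g L200432) (flp_d L200414) L205201
theorem L205211 : sm ge N19047 = N18805 := ded_36_1 (flp_g L202673) (flp_e L200418) L205201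
theorem L205213 : sm gi N19047 = N18830 := ded_43_2 (flp_g L202842) (flp_i L200416) L205201
theorem L205215 : sm gf N19047 = N18826 := ded_39_1 (flp_g L202816) (flp_f L197650) (flp_g L194919) L200406 L205201
theorem L205217 : sm gh N18569 = N19048 := rfl
theorem L205219 : sm ga N19048 = N18813 := ded_15_1 L202733 (flp_a L200408) L205217
theorem L205221 : sm gb N19048 = N18654 := ded_22_1 L201227 (flp_b L200410) L205217
theorem L205223 : sm gc N19048 = N18768 := ded_28_1 L202328 (flp_c L200412) L205217
theorem L205225 : sm ge N19048 = N18806 := ded_37_1 (flp_h L202679) (flp_e L200418) L205217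
theorem L205227 : sm gf N19048 = N18570 := ded_40_1 (flp_h L200420) L200406 L205217
theorem L205229 : sm gi N18570 = N19049 := rfl
theorem L205231 : sm ga N19049 = N18808 := ded_16_1 L202697 (flp_a L200422) L205229
theorem L205233 : sm gb N19049 = N18651 := ded_23_1 L201198 (flp_b L200424) L205229
theorem L205235 : sm gc N19049 = N18765 := ded_29_1 L202298 (flp_c L200426) L205229
theorem L205237 : sm ge N19049 = N18598 := ded_38_1 (flp_i L200655) (flp_e L200428) L205229
theorem L205239 : sm gg N19049 = N18817 := ded_43_1 L202761 (flp_g L200430) L205229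
theorem L205241 : sm gh N19049 = N18838 := ded_44_1 L202924 L197798 (flp_i L194921) L200420 L205229
theorem L205243 : sm gf N18575 = N19050 := rfl
theorem L205245 : sm ga N19050 = N18671 := ded_13_1 L201381 (flp_a L200462) L205243
theorem L205247 : sm gb N19050 = N18576 := ded_20_1 (flp_f L200470) (flp_b L200464) L205243
theorem L205249 : sm gi N19050 = N18578 := ded_41_2 (flp_f L200484) (flp_i L200468) L205243
theorem L205251 : sm ge N19050 = N18582 := ded_35_1 (flp_f L200518) (flp_e L195021) (flp_f L194969) L200460 L205243
theorem L205253 : sm gg N18576 = N19051 := rfl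
theorem L205255 : sm gc N19051 = N18577 := ded_27_1 (flp_g L200478) (flp_c L200472) L205253
theorem L205257 : sm ge N19051 = N18585 := ded_36_1 (flp_g L200546) (flp_e L200476) L205253
theorem L205259 : sm gi N19051 = N18579 := ded_43_2 (flp_g L200494) (flp_i L200474) L205253
theorem L205261 : sm gg N18578 = N19052 := rfl
theorem L205263 : sm ga N19052 = N18670 := ded_14_1 L201377 (flp_a L200486) L205261
theorem L205265 : sm gb N19052 = N18579 := ded_21_1 (flp_g L200494) (flp_b L200488) L205261
theorem L205267 : sm ge N19052 = N18590 := ded_36_1 (flp_g L200584) (flp_e L200492) L205261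
theorem L205269 : sm gh N19052 = N18592 := ded_42_2 (flp_g L200596) (flp_h L200490) L205261
theorem L205271 : sm gf N19052 = N18832 := ded_39_1 L202862 L197686 (flp_g L194995) L200484 L205261
theorem L205273 : sm gd N18580 = N19053 := rfl
theorem L205275 : sm ga N19053 = N18581 := ded_11_1 (flp_d L200508) (flp_a L200504) L205273
theorem L205277 : sm gb N19053 = N18706 := ded_18_1 (flp_d L202242) L202232 L205273
theorem L205279 : sm gg N19053 = N18801 := ded_32_2 (flp_d L203739) L203733 L205273
theorem L205281 : sm gi N19053 = N18586 := ded_34_2 (flp_d L200552) (flp_i L200506) L205273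
theorem L205283 : sm ge N19053 = N18594 := ded_30_2 (flp_d L200616) (flp_e L195123) (flp_d L195015) L200502 L205273
theorem L205285 : sm gf N18580 = N19054 := rfl
theorem L205287 : sm ga N19054 = N18582 := ded_13_1 (flp_f L200518) (flp_a L200504) L205285
theorem L205289 : sm gi N19054 = N18587 := ded_41_2 (flp_f L200560) (flp_i L200506) L205285
theorem L205291 : sm ge N19054 = N18671 := ded_35_1 L201381 L196026 (flp_f L195017) L200502 L205285
theorem L205293 : sm gc N18581 = N19055 := rfl
theorem L205295 : sm ge N19055 = N18595 := ded_25_2 (flp_c L200626) (flp_e L200516) L205293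
theorem L205297 : sm gg N19055 = N18784 := ded_27_2 L202493 (flp_g L200512) L205293
theorem L205299 : sm gi N19055 = N18588 := ded_29_2 (flp_c L200568) (flp_i L200514) L205293
theorem L205301 : sm gb N19055 = N18606 := ded_17_1 L200757 L195337 (flp_c L195035) (flp_b L200510) L205293
theorem L205303 : sm gf N18581 = N19056 := rfl
theorem L205305 : sm gb N19056 = N18583 := ded_20_1 (flp_f L200524) (flp_b L200510) L205303
theorem L205307 : sm gd N19056 = N18582 := ded_31_1 (flp_f L200518) L200508 L205303
theorem L205309 : sm gi N19056 = N18589 := ded_41_2 (flp_f L200576) (flp_i L200514) L205303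
theorem L205311 : sm gh N18581 = N19057 := rfl
theorem L205313 : sm gb N19057 = N18584 := ded_22_1 (flp_h L200534) (flp_b L200510) L205311
theorem L205315 : sm ge N19057 = N18596 := ded_37_1 (flp_h L200637) (flp_e L200516) L205311
theorem L205317 : sm gg N19057 = N18792 := ded_42_1 L202550 (flp_g L200512) L205311
theorem L205319 : sm gi N19057 = N18892 := ded_44_2 (flp_h L203416) L198275 (flp_h L195061) (flp_i L200514) L205311
theorem L205321 : sm gg N18582 = N19058 := rfl
theorem L205323 : sm gb N19058 = N18585 := ded_21_1 (flp_g L200546) (flp_b L200520) L205321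
theorem L205325 : sm gi N19058 = N18590 := ded_43_2 (flp_g L200584) (flp_i L200522) L205321
theorem L205327 : sm gg N18583 = N19059 := rfl
theorem L205329 : sm ga N19059 = N18708 := ded_14_1 (flp_g L201764) (flp_a L200526) L205327
theorem L205331 : sm gc N19059 = N18695 := ded_27_1 (flp_g L201635) (flp_c L200528) L205327
theorem L205333 : sm gd N19059 = N18585 := ded_32_1 (flp_g L200546) (flp_d L200530) L205327
theorem L205335 : sm gi N19059 = N18591 := ded_43_2 (flp_g L200590) (flp_i L200532) L205327
theorem L205337 : sm gf N19059 = N18803 := ded_39_1 (flp_g L202653) (flp_f L197472) (flp_g L195031) L200524 L205327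
theorem L205339 : sm gh N18583 = N19060 := rfl
theorem L205341 : sm ga N19060 = N18703 := ded_15_1 L201724 (flp_a L200526) L205339
theorem L205343 : sm gc N19060 = N18694 := ded_28_1 L201633 (flp_c L200528) L205339
theorem L205345 : sm gf N19060 = N18584 := ded_40_1 (flp_h L200534) L200524 L205339
theorem L205347 : sm gi N19060 = N18895 := ded_44_2 (flp_h L203440) L198293 (flp_h L195073) (flp_i L200532) L205339
theorem L205349 : sm gc N18586 = N19061 := rfl
theorem L205351 : sm ga N19061 = N18588 := ded_10_1 (flp_c L200568) (flp_a L200554) L205349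
theorem L205353 : sm ge N19061 = N18597 := ded_25_2 (flp_c L200646) (flp_e L200556) L205349
theorem L205355 : sm gh N19061 = N18863 := ded_28_2 L203152 (flp_h L200558) L205349
theorem L205357 : sm gf N18586 = N19062 := rfl
theorem L205359 : sm ga N19062 = N18589 := ded_13_1 (flp_f L200576) (flp_a L200554) L205357
theorem L205361 : sm gd N19062 = N18587 := ded_31_1 (flp_f L200560) L200552 L205357
theorem L205363 : sm gh N19062 = N18896 := ded_40_2 (flp_f L203448) (flp_h L200558) L205357
theorem L205365 : sm gg N18587 = N19063 := rfl
theorem L205367 : sm ga N19063 = N18590 := ded_14_1 (flp_g L200584) (flp_a L200562) L205365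
theorem L205369 : sm ge N19063 = N18670 := ded_36_1 L201377 (flp_e L200566) L205365
theorem L205371 : sm gh N19063 = N18593 := ded_42_2 (flp_g L200608) (flp_h L200564) L205365
theorem L205373 : sm gf N18588 = N19064 := rfl
theorem L205375 : sm gb N19064 = N18849 := ded_20_1 (flp_f L203025) (flp_b L200574) L205373
theorem L205377 : sm gc N19064 = N18589 := ded_26_1 (flp_f L200576) L200568 L205373
theorem L205379 : sm gh N19064 = N18864 := ded_40_2 (flp_f L203160) (flp_h L200572) L205373
theorem L205381 : sm ge N19064 = N18858 := ded_35_1 (flp_f L203106) (flp_e L197952) (flp_f L195162) (flp_e L200570) L205373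
theorem L205383 : sm gg N18589 = N19065 := rfl
theorem L205385 : sm gb N19065 = N18591 := ded_21_1 (flp_g L200590) (flp_b L200578) L205383
theorem L205387 : sm gd N19065 = N18590 := ded_32_1 (flp_g L200584) (flp_d L200580) L205383
theorem L205389 : sm gh N19065 = N18898 := ded_42_2 (flp_g L203460) (flp_h L200582) L205383
theorem L205391 : sm gc N18594 = N19066 := rfl
theorem L205393 : sm ga N19066 = N18595 := ded_10_1 (flp_c L200626) (flp_a L200618) L205391
theorem L205395 : sm gf N19066 = N18851 := ded_26_2 L203051 L203010 L205391
theorem L205397 : sm gg N19066 = N18783 := ded_27_2 L202482 (flp_g L200622) L205391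
theorem L205399 : sm gi N19066 = N18597 := ded_29_2 (flp_c L200646) (flp_i L200624) L205391
theorem L205401 : sm gb N19066 = N18613 := ded_17_1 L200832 L195474 (flp_c L196461) (flp_b L200620) L205391
theorem L205403 : sm gd N19066 = N19066 := ded_24_2 (flp_c L205391) (flp_d L200616) L195129 L200616 L205391
theorem L205404 : sm gh N18804 = N19066 := ded_15_0 L205393 (flp_h L201792) (flp_a L202663)
theorem L205406 : sm gh N18594 = N19067 := rfl
theorem L205408 : sm ga N19067 = N18596 := ded_15_1 (flp_h L200637) (flp_a L200618) L205406
theorem L205410 : sm gb N19067 = N18700 := ded_22_1 L201701 (flp_b L200620) L205406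
theorem L205412 : sm gc N19067 = N18804 := ded_28_1 L205404 (flp_c L205391) L205406
theorem L205414 : sm gg N19067 = N18791 := ded_42_1 L202542 (flp_g L200622) L205406
theorem L205416 : sm gd N19067 = N19067 := ded_33_1 (flp_h L205406) (flp_d L200616) L195132 L200616 L205406
theorem L205417 : sm gi N19067 = N18900 := ded_44_2 (flp_h L203484) L198381 (flp_h L195158) (flp_i L200624) L205406
theorem L205419 : sm gf N18602 = N19068 := rfl
theorem L205421 : sm ga N19068 = N18788 := ded_13_1 (flp_f L202518) (flp_a L200714) L205419
theorem L205423 : sm gb N19068 = N18686 := ded_20_1 (flp_f L201549) (flp_b L200716) L205419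
theorem L205425 : sm gd N19068 = N18603 := ded_31_1 (flp_f L200721) L200712 L205419
theorem L205427 : sm gg N18603 = N19069 := rfl
theorem L205429 : sm ga N19069 = N18790 := ded_14_1 (flp_g L202529) (flp_a L200723) L205427
theorem L205431 : sm gb N19069 = N18687 := ded_21_1 (flp_g L201555) (flp_b L200725) L205427
theorem L205433 : sm gc N19069 = N18604 := ded_27_1 (flp_g L200731) (flp_c L200727) L205427
theorem L205435 : sm gh N19069 = N18631 := ded_42_2 (flp_g L200974) (flp_h L200729) L205427
theorem L205437 : sm gf N19069 = N18619 := ded_39_1 (flp_g L200868) (flp_f L195412) (flp_g L195290) L200721 L205427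
theorem L205439 : sm gd N18606 = N19070 := rfl
theorem L205441 : sm ga N19070 = N18615 := ded_11_1 (flp_d L200849) (flp_a L200755) L205439
theorem L205443 : sm gg N19070 = N18785 := ded_32_2 (flp_d L202497) (flp_g L200759) L205439
theorem L205445 : sm gi N19070 = N18848 := ded_34_2 (flp_d L203016) (flp_i L200761) L205439
theorem L205447 : sm gc N19070 = N18608 := ded_24_1 (flp_d L200775) L195349 (flp_d L195343) (flp_c L200757) L205439
theorem L205449 : sm ge N19070 = N19070 := ded_30_2 (flp_d L205439) (flp_e L200753) L195332 L200753 L205439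
theorem L205450 : sm gf N18606 = N19071 := rfl
theorem L205452 : sm ga N19071 = N18616 := ded_13_1 (flp_f L200854) (flp_a L200755) L205450
theorem L205454 : sm gc N19071 = N18607 := ded_26_1 (flp_f L200763) (flp_c L200757) L205450
theorem L205456 : sm gi N19071 = N18849 := ded_41_2 (flp_f L203025) (flp_i L200761) L205450
theorem L205458 : sm ge N19071 = N18854 := ded_35_1 (flp_f L203075) (flp_e L197929) (flp_f L195326) L200753 L205450
theorem L205460 : sm gg N18607 = N19072 := rfl
theorem L205462 : sm ga N19072 = N18617 := ded_14_1 (flp_g L200858) (flp_a L200765) L205460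
theorem L205464 : sm gb N19072 = N18695 := ded_21_1 (flp_g L201635) (flp_b L200767) L205460
theorem L205466 : sm gd N19072 = N18610 := ded_32_1 (flp_g L200794) (flp_d L200769) L205460
theorem L205468 : sm ge N19072 = N18855 := ded_36_1 (flp_g L203083) (flp_e L200773) L205460
theorem L205470 : sm gi N19072 = N18850 := ded_43_2 (flp_g L203035) (flp_i L200771) L205460
theorem L205472 : sm gf N19072 = N18787 := ded_39_1 (flp_g L202510) (flp_f L197368) (flp_g L195339) L200763 L205460
theorem L205474 : sm gf N18608 = N19073 := rfl
theorem L205476 : sm ga N19073 = N18618 := ded_13_1 (flp_f L200864) (flp_a L200777) L205474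
theorem L205478 : sm gd N19073 = N18609 := ded_31_1 (flp_f L200784) L200775 L205474
theorem L205480 : sm gi N19073 = N19068 := ded_41_2 (flp_f L205419) (flp_i L200781) L205474
theorem L205482 : sm gg N18609 = N19074 := rfl
theorem L205484 : sm ga N19074 = N18619 := ded_14_1 (flp_g L200868) (flp_a L200786) L205482
theorem L205486 : sm gc N19074 = N18610 := ded_27_1 (flp_g L200794) (flp_c L200788) L205482
theorem L205488 : sm gh N19074 = N18632 := ded_42_2 (flp_g L200986) (flp_h L200790) L205482
theorem L205490 : sm gi N19074 = N19069 := ded_43_2 (flp_g L205427) (flp_i L200792) L205482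
theorem L205492 : sm gf N19074 = N18790 := ded_39_1 (flp_g L202529) (flp_f L197381) (flp_g L195351) L200784 L205482
theorem L205494 : sm gd N18611 = N19075 := rfl
theorem L205496 : sm ga N19075 = N18853 := ded_11_1 (flp_d L203068) (flp_a L200808) L205494
theorem L205498 : sm gg N19075 = N18878 := ded_32_2 L203285 (flp_g L200812) L205494
theorem L205500 : sm gi N19075 = N18793 := ded_34_2 (flp_d L202552) (flp_i L200816) L205494
theorem L205502 : sm gc N19075 = N18809 := ded_24_1 (flp_d L202699) L197549 (flp_d L195388) (flp_c L200810) L205494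
theorem L205504 : sm ge N19075 = N19075 := ded_30_2 (flp_d L205494) (flp_e L200806) L195379 L200806 L205494
theorem L205505 : sm gh N19075 = N18746 := ded_33_2 (flp_d L202105) L196808 L197181 (flp_h L200814) L205494
theorem L205507 : sm gf N18611 = N19076 := rfl
theorem L205509 : sm ga N19076 = N18854 := ded_13_1 (flp_f L203075) (flp_a L200808) L205507
theorem L205511 : sm gc N19076 = N18612 := ded_26_1 (flp_f L200818) (flp_c L200810) L205507
theorem L205513 : sm gh N19076 = N18777 := ded_40_2 (flp_f L202414) (flp_h L200814) L205507
theorem L205515 : sm gi N19076 = N18794 := ded_41_2 (flp_f L202559) (flp_i L200816) L205507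
theorem L205517 : sm ge N19076 = N18616 := ded_35_1 (flp_f L200854) (flp_e L195399) (flp_f L195371) L200806 L205507
theorem L205519 : sm gg N18612 = N19077 := rfl
theorem L205521 : sm ga N19077 = N18855 := ded_14_1 (flp_g L203083) (flp_a L200820) L205519
theorem L205523 : sm gb N19077 = N18626 := ded_21_1 (flp_g L200928) (flp_b L200822) L205519
theorem L205525 : sm gd N19077 = N18811 := ded_32_1 (flp_g L202716) (flp_d L200824) L205519
theorem L205527 : sm ge N19077 = N18617 := ded_36_1 (flp_g L200858) (flp_e L200828) L205519
theorem L205529 : sm gi N19077 = N18795 := ded_43_2 (flp_g L202569) (flp_i L200826) L205519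
theorem L205531 : sm ge N18613 = N19078 := rfl
theorem L205533 : sm ga N19078 = N18614 := ded_12_1 (flp_e L200839) L200830 L205531
theorem L205535 : sm gc N19078 = N18627 := ded_25_1 (flp_e L200934) (flp_c L200832) L205531
theorem L205537 : sm gg N19078 = N19061 := ded_36_2 L205353 (flp_g L200835) L205531
theorem L205539 : sm gh N19078 = N18798 := ded_37_2 L202611 (flp_h L200837) L205531
theorem L205541 : sm gd N18614 = N19079 := rfl
theorem L205543 : sm gb N19079 = N18615 := ded_18_1 (flp_d L200849) (flp_b L200841) L205541
theorem L205545 : sm gg N19079 = N19041 := ded_32_2 L205160 (flp_g L200845) L205541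
theorem L205547 : sm gc N19079 = N19006 := ded_24_1 (flp_d L204778) L199949 (flp_d L195482) (flp_c L200843) L205541
theorem L205549 : sm ge N19079 = N19079 := ded_30_2 (flp_d L205541) (flp_e L200839) L195392 L200839 L205541
theorem L205550 : sm gh N19079 = N18848 := ded_33_2 (flp_d L203016) L197906 L198019 (flp_h L200847) L205541
theorem L205552 : sm gf N18614 = N19080 := rfl
theorem L205554 : sm gb N19080 = N18616 := ded_20_1 (flp_f L200854) (flp_b L200841) L205552
theorem L205556 : sm gc N19080 = N18628 := ded_26_1 (flp_f L200946) (flp_c L200843) L205552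
theorem L205558 : sm gh N19080 = N18865 := ded_40_2 (flp_f L203172) (flp_h L200847) L205552
theorem L205560 : sm gf N18615 = N19081 := rfl
theorem L205562 : sm gc N19081 = N18618 := ded_26_1 (flp_f L200864) (flp_c L200851) L205560
theorem L205564 : sm gd N19081 = N18616 := ded_31_1 (flp_f L200854) L200849 L205560
theorem L205566 : sm gg N18616 = N19082 := rfl
theorem L205568 : sm gc N19082 = N18617 := ded_27_1 (flp_g L200858) (flp_c L200856) L205566
theorem L205570 : sm ge N18618 = N19083 := rfl
theorem L205572 : sm gf N19083 = N19083 := ded_35_2 (flp_e L205570) (flp_f L200864) L195411 L200864 L205570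
theorem L205573 : sm gg N18618 = N19084 := rfl
theorem L205575 : sm gd N19084 = N18619 := ded_32_1 (flp_g L200868) (flp_d L200866) L205573
theorem L205577 : sm gg N18620 = N19085 := rfl
theorem L205579 : sm ga N19085 = N18720 := ded_14_1 (flp_g L201876) (flp_a L200876) L205577
theorem L205581 : sm gb N19085 = N18725 := ded_21_1 (flp_g L201914) (flp_b L200878) L205577
theorem L205583 : sm gd N19085 = N18637 := ded_32_1 (flp_g L201042) (flp_d L200880) L205577
theorem L205585 : sm ge N19085 = N18862 := ded_36_1 (flp_g L203136) (flp_e L200886) L205577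
theorem L205587 : sm gh N19085 = N19077 := ded_42_2 (flp_g L205519) (flp_h L200882) L205577
theorem L205589 : sm gi N19085 = N18621 := ded_43_2 (flp_g L200888) (flp_i L200884) L205577
theorem L205591 : sm gf N19085 = N18705 := ded_39_1 (flp_g L201736) (flp_f L196449) (flp_g L195430) L200874 L205577
theorem L205593 : sm ge N18622 = N19086 := rfl
theorem L205595 : sm ga N19086 = N18623 := ded_12_1 (flp_e L200908) L200898 L205593
theorem L205597 : sm gb N19086 = N18714 := ded_19_1 L201838 (flp_b L200906) L205593
theorem L205599 : sm gh N19086 = N18624 := ded_37_2 L200918 (flp_h L200904) L205593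
theorem L205601 : sm gd N19086 = N18713 := ded_30_1 (flp_e L201824) L196537 L195507 (flp_d L200900) L205593
theorem L205603 : sm gd N18623 = N19087 := rfl
theorem L205605 : sm ga N19087 = N18713 := ded_11_1 (flp_d L205601) L205595 L205603
theorem L205607 : sm gb N19087 = N18624 := ded_18_1 (flp_d L200914) (flp_b L200910) L205603
theorem L205609 : sm gg N19087 = N19086 := ded_32_2 L205601 L201828 L205603
theorem L205611 : sm ge N19087 = N18630 := ded_30_2 (flp_d L200962) (flp_e L195509) (flp_d L195448) L200908 L205603
theorem L205613 : sm gh N19087 = N18714 := ded_33_2 (flp_d L201832) L196551 L196635 (flp_h L200912) L205603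
theorem L205615 : sm gf N18623 = N19088 := rfl
theorem L205617 : sm gb N19088 = N18625 := ded_20_1 (flp_f L200920) (flp_b L200910) L205615
theorem L205619 : sm gh N19088 = N18727 := ded_40_2 (flp_f L201932) (flp_h L200912) L205615
theorem L205621 : sm ge N19088 = N18628 := ded_35_1 (flp_f L200946) (flp_e L195476) (flp_f L195450) L200908 L205615
theorem L205623 : sm gf N18624 = N19089 := rfl
theorem L205625 : sm ga N19089 = N18727 := ded_13_1 (flp_f L201932) (flp_a L200916) L205623
theorem L205627 : sm gd N19089 = N18625 := ded_31_1 (flp_f L200920) L200914 L205623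
theorem L205629 : sm ge N19089 = N19013 := ded_35_1 (flp_f L204865) L200048 (flp_f L195526) (flp_e L200918) L205623
theorem L205631 : sm gg N18625 = N19090 := rfl
theorem L205633 : sm ga N19090 = N18728 := ded_14_1 (flp_g L201938) (flp_a L200922) L205631
theorem L205635 : sm gc N19090 = N18626 := ded_27_1 (flp_g L200928) (flp_c L200924) L205631
theorem L205637 : sm ge N19090 = N18629 := ded_36_1 (flp_g L200952) (flp_e L200926) L205631
theorem L205639 : sm gf N18627 = N19091 := rfl
theorem L205641 : sm ga N19091 = N18628 := ded_13_1 (flp_f L200946) (flp_a L200936) L205639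
theorem L205643 : sm gb N19091 = N18729 := ded_20_1 (flp_f L201944) (flp_b L200938) L205639
theorem L205645 : sm gd N19091 = N19015 := ded_31_1 (flp_f L204883) (flp_d L200944) L205639
theorem L205647 : sm gh N19091 = N19013 := ded_40_2 (flp_f L204865) (flp_h L200942) L205639
theorem L205649 : sm gg N18628 = N19092 := rfl
theorem L205651 : sm gb N19092 = N18629 := ded_21_1 (flp_g L200952) (flp_b L200948) L205649
theorem L205653 : sm gd N19092 = N19016 := ded_32_1 (flp_g L204895) (flp_d L200950) L205649
theorem L205655 : sm gf N19092 = N19065 := ded_39_1 (flp_g L205383) (flp_f L200576) (flp_g L195480) L200946 L205649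
theorem L205657 : sm gg N18634 = N19093 := rfl
theorem L205659 : sm ga N19093 = N18753 := ded_14_1 (flp_g L202156) (flp_a L201008) L205657
theorem L205661 : sm gd N19093 = N18636 := ded_32_1 (flp_g L201032) (flp_d L201010) L205657
theorem L205663 : sm ge N19093 = N18963 := ded_36_1 (flp_g L204310) (flp_e L201014) L205657
theorem L205665 : sm gi N19093 = N18948 := ded_43_2 (flp_g L204122) (flp_i L201012) L205657
theorem L205667 : sm gf N19093 = N18949 := ded_39_1 (flp_g L204136) (flp_f L199162) (flp_g L195608) L201006 L205657
theorem L205669 : sm gg N18635 = N19094 := rfl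
theorem L205671 : sm ga N19094 = N18755 := ded_14_1 (flp_g L202174) (flp_a L201018) L205669
theorem L205673 : sm gb N19094 = N19093 := ded_21_1 (flp_g L205657) (flp_b L201020) L205669
theorem L205675 : sm gc N19094 = N18759 := ded_27_1 (flp_g L202216) (flp_c L201022) L205669
theorem L205677 : sm gd N19094 = N18948 := ded_32_1 (flp_g L204122) (flp_d L201024) L205669
theorem L205679 : sm ge N19094 = N18637 := ded_36_1 (flp_g L201042) (flp_e L201030) L205669
theorem L205681 : sm gh N19094 = N18674 := ded_42_2 (flp_g L201399) (flp_h L201026) L205669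
theorem L205683 : sm gi N19094 = N18636 := ded_43_2 (flp_g L201032) (flp_i L201028) L205669
theorem L205685 : sm gf N19094 = N18882 := ded_39_1 (flp_g L203302) (flp_f L198161) (flp_g L195622) L201016 L205669
theorem L205687 : sm gf N18638 = N19095 := rfl
theorem L205689 : sm ga N19095 = N18686 := ded_13_1 (flp_f L201549) (flp_a L201056) L205687
theorem L205691 : sm gc N19095 = N19023 := ded_26_1 (flp_f L204982) (flp_c L201058) L205687
theorem L205693 : sm gd N19095 = N18639 := ded_31_1 (flp_f L201063) L201054 L205687
theorem L205695 : sm gh N19095 = N18875 := ded_40_2 (flp_f L203264) (flp_h L201061) L205687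
theorem L205697 : sm gg N18639 = N19096 := rfl
theorem L205699 : sm ga N19096 = N18687 := ded_14_1 (flp_g L201555) (flp_a L201065) L205697
theorem L205701 : sm gc N19096 = N18640 := ded_27_1 (flp_g L201071) (flp_c L201067) L205697
theorem L205703 : sm gh N19096 = N18641 := ded_42_2 (flp_g L201079) (flp_h L201069) L205697
theorem L205705 : sm gf N18642 = N19097 := rfl
theorem L205707 : sm ga N19097 = N18823 := ded_13_1 (flp_f L202797) (flp_a L201091) L205705
theorem L205709 : sm gb N19097 = N18749 := ded_20_1 (flp_f L202130) (flp_b L201093) L205705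
theorem L205711 : sm gd N19097 = N18643 := ded_31_1 (flp_f L201098) L201089 L205705
theorem L205713 : sm gg N18643 = N19098 := rfl
theorem L205715 : sm ga N19098 = N18825 := ded_14_1 (flp_g L202810) (flp_a L201100) L205713
theorem L205717 : sm gb N19098 = N18750 := ded_21_1 (flp_g L202134) (flp_b L201102) L205713
theorem L205719 : sm gc N19098 = N18644 := ded_27_1 (flp_g L201108) (flp_c L201104) L205713
theorem L205721 : sm gh N19098 = N18645 := ded_42_2 (flp_g L201118) (flp_h L201106) L205713
theorem L205723 : sm gf N19098 = N18668 := ded_39_1 (flp_g L201357) (flp_f L195978) (flp_g L195710) L201098 L205713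
theorem L205725 : sm gh N18646 = N19099 := rfl
theorem L205727 : sm ga N19099 = N18832 := ded_15_1 (flp_h L202860) (flp_a L201132) L205725
theorem L205729 : sm gb N19099 = N18837 := ded_22_1 L202916 (flp_b L201134) L205725
theorem L205731 : sm ge N19099 = N18845 := ded_37_1 L202988 (flp_e L201138) L205725
theorem L205733 : sm gf N19099 = N18670 := ded_40_1 (flp_h L201375) (flp_f L201140) L205725
theorem L205735 : sm gg N19099 = N18647 := ded_42_1 (flp_h L201142) L201130 L205725
theorem L205737 : sm gd N19099 = N19052 := ded_33_1 L205269 L200602 L195883 (flp_d L201136) L205725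
theorem L205739 : sm gi N18647 = N19100 := rfl
theorem L205741 : sm ga N19100 = N18833 := ded_16_1 (flp_i L202866) (flp_a L201144) L205739
theorem L205743 : sm gb N19100 = N18835 := ded_23_1 L202894 (flp_b L201146) L205739
theorem L205745 : sm gd N19100 = N19050 := ded_34_1 L205249 (flp_d L201152) L205739
theorem L205747 : sm ge N19100 = N18840 := ded_38_1 L202940 (flp_e L201148) L205739
theorem L205749 : sm gf N19100 = N18648 := ded_41_1 (flp_i L201154) (flp_f L201150) L205739
theorem L205751 : sm gd N18651 = N19101 := rfl
theorem L205753 : sm ga N19101 = N18664 := ded_11_1 (flp_d L201328) (flp_a L201190) L205751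
theorem L205755 : sm gg N19101 = N18818 := ded_32_2 (flp_d L202763) (flp_g L201194) L205751
theorem L205757 : sm gi N19101 = N18653 := ded_34_2 (flp_d L201212) (flp_i L201198) L205751
theorem L205759 : sm gc N19101 = N18956 := ded_24_1 (flp_d L204236) L199376 (flp_d L195837) (flp_c L201192) L205751
theorem L205761 : sm ge N19101 = N19101 := ded_30_2 (flp_d L205751) (flp_e L201188) L195826 L201188 L205751
theorem L205762 : sm gf N18651 = N19102 := rfl
theorem L205764 : sm ga N19102 = N18665 := ded_13_1 (flp_f L201335) (flp_a L201190) L205762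
theorem L205766 : sm gc N19102 = N18652 := ded_26_1 (flp_f L201200) (flp_c L201192) L205762
theorem L205768 : sm gh N19102 = N18890 := ded_40_2 (flp_f L203394) (flp_h L201196) L205762
theorem L205770 : sm gi N19102 = N18654 := ded_41_2 (flp_f L201221) (flp_i L201198) L205762
theorem L205772 : sm ge N19102 = N18979 := ded_35_1 (flp_f L204502) (flp_e L199661) (flp_f L195818) L201188 L205762
theorem L205774 : sm gg N18652 = N19103 := rfl
theorem L205776 : sm ga N19103 = N18666 := ded_14_1 (flp_g L201345) (flp_a L201202) L205774
theorem L205778 : sm gb N19103 = N18767 := ded_21_1 (flp_g L202312) (flp_b L201204) L205774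
theorem L205780 : sm gd N19103 = N18958 := ded_32_1 (flp_g L204261) (flp_d L201206) L205774
theorem L205782 : sm ge N19103 = N18980 := ded_36_1 (flp_g L204510) (flp_e L201210) L205774
theorem L205784 : sm gi N19103 = N18655 := ded_43_2 (flp_g L201229) (flp_i L201208) L205774
theorem L205786 : sm gf N19103 = N18820 := ded_39_1 (flp_g L202776) (flp_f L197615) (flp_g L195833) L201200 L205774
theorem L205788 : sm gf N18653 = N19104 := rfl
theorem L205790 : sm ga N19104 = N18667 := ded_13_1 (flp_f L201351) (flp_a L201214) L205788
theorem L205792 : sm gc N19104 = N19097 := ded_26_1 (flp_f L205705) (flp_c L201218) L205788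
theorem L205794 : sm gd N19104 = N18654 := ded_31_1 (flp_f L201221) L201212 L205788
theorem L205796 : sm gg N18654 = N19105 := rfl
theorem L205798 : sm ga N19105 = N18668 := ded_14_1 (flp_g L201357) (flp_a L201223) L205796
theorem L205800 : sm gc N19105 = N18655 := ded_27_1 (flp_g L201229) (flp_c L201225) L205796
theorem L205802 : sm gh N19105 = N18656 := ded_42_2 (flp_g L201241) (flp_h L201227) L205796
theorem L205804 : sm gf N19105 = N18825 := ded_39_1 (flp_g L202810) (flp_f L197636) (flp_g L195845) L201221 L205796
theorem L205806 : sm gd N18657 = N19106 := rfl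
theorem L205808 : sm ga N19106 = N18983 := ded_11_1 (flp_d L204544) (flp_a L201253) L205806
theorem L205810 : sm gb N19106 = N19020 := ded_18_1 (flp_d L204947) (flp_b L201255) L205806
theorem L205812 : sm gi N19106 = N18932 := ded_34_2 (flp_d L203915) (flp_i L201261) L205806
theorem L205814 : sm gc N19106 = N18661 := ded_24_1 (flp_d L201305) L195945 (flp_d L195910) (flp_c L201257) L205806
theorem L205816 : sm ge N19106 = N19106 := ded_30_2 (flp_d L205806) (flp_e L201251) L195899 L201251 L205806
theorem L205817 : sm gh N19106 = N18872 := ded_33_2 (flp_d L203241) L198095 L198203 (flp_h L201259) L205806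
theorem L205819 : sm gf N18657 = N19107 := rfl
theorem L205821 : sm ga N19107 = N18984 := ded_13_1 (flp_f L204555) (flp_a L201253) L205819
theorem L205823 : sm gb N19107 = N19021 := ded_20_1 (flp_f L204958) (flp_b L201255) L205819
theorem L205825 : sm gc N19107 = N18658 := ded_26_1 (flp_f L201263) (flp_c L201257) L205819
theorem L205827 : sm gh N19107 = N18885 := ded_40_2 (flp_f L203336) (flp_h L201259) L205819
theorem L205829 : sm gi N19107 = N18933 := ded_41_2 (flp_f L203926) (flp_i L201261) L205819
theorem L205831 : sm ge N19107 = N18936 := ded_35_1 (flp_f L203963) (flp_e L198845) (flp_f L195891) L201251 L205819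
theorem L205833 : sm gg N18658 = N19108 := rfl
theorem L205835 : sm ga N19108 = N18985 := ded_14_1 (flp_g L204565) (flp_a L201265) L205833
theorem L205837 : sm gb N19108 = N18672 := ded_21_1 (flp_g L201383) (flp_b L201267) L205833
theorem L205839 : sm gd N19108 = N18663 := ded_32_1 (flp_g L201320) (flp_d L201269) L205833
theorem L205841 : sm ge N19108 = N18937 := ded_36_1 (flp_g L203973) (flp_e L201275) L205833
theorem L205843 : sm gh N19108 = N18949 := ded_42_2 (flp_g L204136) (flp_h L201271) L205833
theorem L205845 : sm gi N19108 = N18934 := ded_43_2 (flp_g L203938) (flp_i L201273) L205833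
theorem L205847 : sm gd N18659 = N19109 := rfl
theorem L205849 : sm ga N19109 = N18978 := ded_11_1 (flp_d L204493) (flp_a L201279) L205847
theorem L205851 : sm gb N19109 = N18872 := ded_18_1 (flp_d L203241) (flp_b L201281) L205847
theorem L205853 : sm gg N19109 = N19106 := ded_32_2 (flp_d L205806) (flp_g L201285) L205847
theorem L205855 : sm gi N19109 = N18661 := ded_34_2 (flp_d L201305) (flp_i L201289) L205847
theorem L205857 : sm gc N19109 = N18932 := ded_24_1 (flp_d L203915) L198829 (flp_d L195939) (flp_c L201283) L205847
theorem L205859 : sm ge N19109 = N19109 := ded_30_2 (flp_d L205847) (flp_e L201277) L195926 L201277 L205847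
theorem L205860 : sm gh N19109 = N19020 := ded_33_2 (flp_d L204947) L200178 (flp_d L198201) (flp_h L201287) L205847
theorem L205862 : sm gf N18659 = N19110 := rfl
theorem L205864 : sm ga N19110 = N18979 := ded_13_1 (flp_f L204502) (flp_a L201279) L205862
theorem L205866 : sm gb N19110 = N18873 := ded_20_1 (flp_f L203246) (flp_b L201281) L205862
theorem L205868 : sm gc N19110 = N18660 := ded_26_1 (flp_f L201291) (flp_c L201283) L205862
theorem L205870 : sm gh N19110 = N18884 := ded_40_2 (flp_f L203322) (flp_h L201287) L205862
theorem L205872 : sm gi N19110 = N18662 := ded_41_2 (flp_f L201310) (flp_i L201289) L205862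
theorem L205874 : sm ge N19110 = N18665 := ded_35_1 (flp_f L201335) (flp_e L195957) (flp_f L195916) L201277 L205862
theorem L205876 : sm gg N18660 = N19111 := rfl
theorem L205878 : sm ga N19111 = N18980 := ded_14_1 (flp_g L204510) (flp_a L201293) L205876
theorem L205880 : sm gb N19111 = N18674 := ded_21_1 (flp_g L201399) (flp_b L201295) L205876
theorem L205882 : sm gd N19111 = N18934 := ded_32_1 (flp_g L203938) (flp_d L201297) L205876
theorem L205884 : sm ge N19111 = N18666 := ded_36_1 (flp_g L201345) (flp_e L201303) L205876
theorem L205886 : sm gh N19111 = N19093 := ded_42_2 (flp_g L205657) (flp_h L201299) L205876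
theorem L205888 : sm gi N19111 = N18663 := ded_43_2 (flp_g L201320) (flp_i L201301) L205876
theorem L205890 : sm gf N19111 = N19108 := ded_39_1 (flp_g L205833) (flp_f L201263) (flp_g L195933) L201291 L205876
theorem L205892 : sm gf N18661 = N19112 := rfl
theorem L205894 : sm gb N19112 = N18875 := ded_20_1 (flp_f L203264) (flp_b L201307) L205892
theorem L205896 : sm gd N19112 = N18662 := ded_31_1 (flp_f L201310) L201305 L205892
theorem L205898 : sm gg N18662 = N19113 := rfl
theorem L205900 : sm gb N19113 = N18876 := ded_21_1 (flp_g L203268) (flp_b L201312) L205898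
theorem L205902 : sm gc N19113 = N18663 := ded_27_1 (flp_g L201320) (flp_c L201314) L205898
theorem L205904 : sm ge N19113 = N18668 := ded_36_1 (flp_g L201357) (flp_e L201318) L205898
theorem L205906 : sm gh N19113 = N18669 := ded_42_2 (flp_g L201365) (flp_h L201316) L205898
theorem L205908 : sm gf N18664 = N19114 := rfl
theorem L205910 : sm gb N19114 = N18877 := ded_20_1 (flp_f L203276) (flp_b L201330) L205908
theorem L205912 : sm gd N19114 = N18665 := ded_31_1 (flp_f L201335) L201328 L205908
theorem L205914 : sm gi N19114 = N18667 := ded_41_2 (flp_f L201351) (flp_i L201332) L205908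
theorem L205916 : sm gh N18664 = N19115 := rfl
theorem L205918 : sm gb N19115 = N18878 := ded_22_1 (flp_h L203282) (flp_b L201330) L205916
theorem L205920 : sm ge N19115 = N19115 := ded_37_1 (flp_h L205916) L201334 L205916
theorem L205921 : sm gd N19115 = N18892 := ded_33_1 (flp_h L203416) (flp_d L198271) (flp_h L195963) L201328 L205916
theorem L205923 : sm gg N18665 = N19116 := rfl
theorem L205925 : sm gb N19116 = N18879 := ded_21_1 (flp_g L203287) (flp_b L201337) L205923
theorem L205927 : sm gc N19116 = N18666 := ded_27_1 (flp_g L201345) (flp_c L201339) L205923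
theorem L205929 : sm gh N19116 = N18893 := ded_42_2 (flp_g L203424) (flp_h L201341) L205923
theorem L205931 : sm gi N19116 = N18668 := ded_43_2 (flp_g L201357) (flp_i L201343) L205923
theorem L205933 : sm ge N18667 = N19117 := rfl
theorem L205935 : sm gb N19117 = N18880 := ded_19_1 (flp_e L203295) (flp_b L201353) L205933
theorem L205937 : sm gf N19117 = N19117 := ded_35_2 (flp_e L205933) (flp_f L201351) L195977 L201351 L205933
theorem L205938 : sm gg N18667 = N19118 := rfl
theorem L205940 : sm gb N19118 = N18881 := ded_21_1 (flp_g L203298) (flp_b L201353) L205938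
theorem L205942 : sm gd N19118 = N18668 := ded_32_1 (flp_g L201357) (flp_d L201355) L205938
theorem L205944 : sm gi N18670 = N19119 := rfl
theorem L205946 : sm gg N19119 = N18671 := ded_43_1 (flp_i L201379) (flp_g L201377) L205944
theorem L205948 : sm gg N18676 = N19120 := rfl
theorem L205950 : sm ga N19120 = N18705 := ded_14_1 (flp_g L201736) (flp_a L201427) L205948
theorem L205952 : sm gb N19120 = N18855 := ded_21_1 (flp_g L203083) (flp_b L201429) L205948
theorem L205954 : sm gd N19120 = N18677 := ded_32_1 (flp_g L201437) (flp_d L201431) L205948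
theorem L205956 : sm ge N19120 = N18695 := ded_36_1 (flp_g L201635) (flp_e L201435) L205948
theorem L205958 : sm gi N19120 = N18678 := ded_43_2 (flp_g L201451) (flp_i L201433) L205948
theorem L205960 : sm gf N19120 = N18720 := ded_39_1 (flp_g L201876) (flp_f L196571) (flp_g L196080) L201425 L205948
theorem L205962 : sm gf N18680 = N19121 := rfl
theorem L205964 : sm gd N19121 = N18681 := ded_31_1 (flp_f L201484) L201479 L205962
theorem L205966 : sm gi N19121 = N19095 := ded_41_2 (flp_f L205687) (flp_i L201481) L205962
theorem L205968 : sm gg N18681 = N19122 := rfl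
theorem L205970 : sm gc N19122 = N18682 := ded_27_1 (flp_g L201494) (flp_c L201486) L205968
theorem L205972 : sm ge N19122 = N18687 := ded_36_1 (flp_g L201555) (flp_e L201492) L205968
theorem L205974 : sm gh N19122 = N18688 := ded_42_2 (flp_g L201561) (flp_h L201488) L205968
theorem L205976 : sm gi N19122 = N19096 := ded_43_2 (flp_g L205697) (flp_i L201490) L205968
theorem L205978 : sm gf N18683 = N19123 := rfl
theorem L205980 : sm ga N19123 = N19121 := ded_13_1 (flp_f L205962) (flp_a L201506) L205978
theorem L205982 : sm gb N19123 = N19073 := ded_20_1 (flp_f L205474) (flp_b L201508) L205978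
theorem L205984 : sm gc N19123 = N19039 := ded_26_1 (flp_f L205141) (flp_c L201514) L205978
theorem L205986 : sm gd N19123 = N18684 := ded_31_1 (flp_f L201519) L201504 L205978
theorem L205988 : sm gh N19123 = N18988 := ded_40_2 (flp_f L204600) (flp_h L201517) L205978
theorem L205990 : sm gi N19123 = N18686 := ded_41_2 (flp_f L201549) (flp_i L201512) L205978
theorem L205992 : sm gg N18684 = N19124 := rfl
theorem L205994 : sm ga N19124 = N19122 := ded_14_1 (flp_g L205968) (flp_a L201521) L205992
theorem L205996 : sm gb N19124 = N19074 := ded_21_1 (flp_g L205482) (flp_b L201523) L205992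
theorem L205998 : sm gc N19124 = N18685 := ded_27_1 (flp_g L201533) (flp_c L201525) L205992
theorem L206000 : sm ge N19124 = N19096 := ded_36_1 (flp_g L205697) (flp_e L201531) L205992
theorem L206002 : sm gh N19124 = N18923 := ded_42_2 (flp_g L203776) (flp_h L201527) L205992
theorem L206004 : sm gi N19124 = N18687 := ded_43_2 (flp_g L201555) (flp_i L201529) L205992
theorem L206006 : sm gf N19124 = N18910 := ded_39_1 (flp_g L203608) (flp_f L198468) (flp_g L196218) L201519 L205992
theorem L206008 : sm ge N18686 = N19125 := rfl
theorem L206010 : sm gc N19125 = N19044 := ded_25_1 (flp_e L205178) (flp_c L201551) L206008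
theorem L206012 : sm gf N19125 = N19125 := ded_35_2 (flp_e L206008) (flp_f L201549) L196242 L201549 L206008
theorem L206013 : sm gg N18686 = N19126 := rfl
theorem L206015 : sm gc N19126 = N19045 := ded_27_1 (flp_g L205181) (flp_c L201551) L206013
theorem L206017 : sm gd N19126 = N18687 := ded_32_1 (flp_g L201555) (flp_d L201553) L206013
theorem L206019 : sm gf N18691 = N19127 := rfl
theorem L206021 : sm ga N19127 = N18692 := ded_13_1 (flp_f L201605) (flp_a L201595) L206019
theorem L206023 : sm gb N19127 = N19062 := ded_20_1 (flp_f L205357) (flp_b L201597) L206019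
theorem L206025 : sm gc N19127 = N18867 := ded_26_1 (flp_f L203190) (flp_c L201599) L206019
theorem L206027 : sm gd N19127 = N18951 := ded_31_1 (flp_f L204160) (flp_d L201603) L206019
theorem L206029 : sm ge N19127 = N18896 := ded_35_1 (flp_f L203448) L198313 (flp_f L196323) L201593 L206019
theorem L206031 : sm gg N18692 = N19128 := rfl
theorem L206033 : sm gb N19128 = N18693 := ded_21_1 (flp_g L201615) (flp_b L201607) L206031
theorem L206035 : sm gc N19128 = N18868 := ded_27_1 (flp_g L203196) (flp_c L201609) L206031
theorem L206037 : sm gd N19128 = N18952 := ded_32_1 (flp_g L204172) (flp_d L201611) L206031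
theorem L206039 : sm ge N19128 = N18898 := ded_36_1 (flp_g L203460) (flp_e L201613) L206031
theorem L206041 : sm gf N19128 = N18730 := ded_39_1 (flp_g L201948) (flp_f L196657) (flp_g L196335) L201605 L206031
theorem L206043 : sm gg N18694 = N19129 := rfl
theorem L206045 : sm ga N19129 = N18704 := ded_14_1 (flp_g L201726) (flp_a L201629) L206043
theorem L206047 : sm gd N19129 = N18737 := ded_32_1 (flp_g L202018) (flp_d L201631) L206043
theorem L206049 : sm gh N19129 = N18695 := ded_42_2 (flp_g L201635) (flp_h L201633) L206043
theorem L206051 : sm gf N19129 = N18795 := ded_39_1 (flp_g L202569) (flp_f L197412) (flp_g L196361) L201627 L206043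
theorem L206053 : sm gg N18696 = N19130 := rfl
theorem L206055 : sm gb N19130 = N18716 := ded_21_1 (flp_g L201848) (flp_b L201647) L206053
theorem L206057 : sm ge N19130 = N18704 := ded_36_1 (flp_g L201726) (flp_e L201653) L206053
theorem L206059 : sm gh N19130 = N18705 := ded_42_2 (flp_g L201736) (flp_h L201649) L206053
theorem L206061 : sm gi N19130 = N19129 := ded_43_2 (flp_g L206043) (flp_i L201651) L206053
theorem L206063 : sm gf N19130 = N19077 := ded_39_1 (flp_g L205519) (flp_f L200818) (flp_g L196391) L201645 L206053
theorem L206065 : sm ga N18697 = N19131 := rfl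
theorem L206067 : sm gc N19131 = N18717 := ded_10_2 (flp_a L201856) (flp_c L201666) L206065
theorem L206069 : sm gd N19131 = N19131 := ded_11_2 (flp_a L206065) L201657 L206065
theorem L206070 : sm gf N19131 = N19067 := ded_13_2 L205408 (flp_f L201658) L206065
theorem L206072 : sm gg N19131 = N18851 := ded_14_2 (flp_a L203049) (flp_g L201660) L206065
theorem L206074 : sm gh N19131 = N18847 := ded_15_2 L203006 (flp_h L201662) L206065
theorem L206076 : sm gi N19131 = N18700 := ded_16_2 (flp_a L201694) (flp_i L201664) L206065
theorem L206078 : sm gb N19131 = N18900 := ded_9_2 L203486 L198387 (flp_a L196399) L201655 L206065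
theorem L206080 : sm ge N18697 = N19132 := rfl
theorem L206082 : sm gb N19132 = N18698 := ded_19_1 (flp_e L201668) L201655 L206080
theorem L206084 : sm gc N19132 = N18718 := ded_25_1 (flp_e L201864) (flp_c L201666) L206080
theorem L206086 : sm gg N19132 = N18852 := ded_36_2 (flp_e L203058) (flp_g L201660) L206080
theorem L206088 : sm gh N19132 = N18839 := ded_37_2 L202934 (flp_h L201662) L206080
theorem L206090 : sm gi N19132 = N18701 := ded_38_2 (flp_e L201703) (flp_i L201664) L206080
theorem L206092 : sm gd N18698 = N19133 := rfl
theorem L206094 : sm ga N19133 = N18878 := ded_11_1 L203285 (flp_a L201670) L206092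
theorem L206096 : sm gg N19133 = N18853 := ded_32_2 (flp_d L203068) (flp_g L201674) L206092
theorem L206098 : sm gi N19133 = N18702 := ded_34_2 (flp_d L201713) (flp_i L201678) L206092
theorem L206100 : sm gc N19133 = N18746 := ded_24_1 (flp_d L202105) L196804 (flp_d L196422) (flp_c L201672) L206092
theorem L206102 : sm ge N19133 = N19133 := ded_30_2 (flp_d L206092) (flp_e L201668) L196409 L201668 L206092
theorem L206103 : sm gh N19133 = N18809 := ded_33_2 (flp_d L202699) L197551 L197764 (flp_h L201676) L206092
theorem L206105 : sm gf N18698 = N19134 := rfl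
theorem L206107 : sm ga N19134 = N18895 := ded_13_1 L203446 (flp_a L201670) L206105
theorem L206109 : sm gc N19134 = N18699 := ded_26_1 (flp_f L201680) (flp_c L201672) L206105
theorem L206111 : sm gh N19134 = N18841 := ded_40_2 (flp_f L202942) (flp_h L201676) L206105
theorem L206113 : sm gi N19134 = N18703 := ded_41_2 (flp_f L201720) (flp_i L201678) L206105
theorem L206115 : sm ge N19134 = N19060 := ded_35_1 L205345 L200540 (flp_f L196401) L201668 L206105
theorem L206117 : sm gg N18699 = N19135 := rfl
theorem L206119 : sm ga N19135 = N19130 := ded_14_1 (flp_g L206053) (flp_a L201682) L206117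
theorem L206121 : sm gb N19135 = N18720 := ded_21_1 (flp_g L201876) (flp_b L201684) L206117
theorem L206123 : sm gd N19135 = N18748 := ded_32_1 (flp_g L202120) (flp_d L201686) L206117
theorem L206125 : sm ge N19135 = N19129 := ded_36_1 (flp_g L206043) (flp_e L201692) L206117
theorem L206127 : sm gh N19135 = N19120 := ded_42_2 (flp_g L205948) (flp_h L201688) L206117
theorem L206129 : sm gi N19135 = N18704 := ded_43_2 (flp_g L201726) (flp_i L201690) L206117
theorem L206131 : sm gf N19135 = N18855 := ded_39_1 (flp_g L203083) (flp_f L197937) (flp_g L196416) L201680 L206117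
theorem L206133 : sm ge N18700 = N19136 := rfl
theorem L206135 : sm ga N19136 = N18701 := ded_12_1 (flp_e L201703) L201694 L206133
theorem L206137 : sm gc N19136 = N18721 := ded_25_1 (flp_e L201882) (flp_c L201696) L206133
theorem L206139 : sm gg N19136 = N18856 := ded_36_2 (flp_e L203091) (flp_g L201699) L206133
theorem L206141 : sm gh N19136 = N18706 := ded_37_2 (flp_e L201746) (flp_h L201701) L206133
theorem L206143 : sm gd N18701 = N19137 := rfl
theorem L206145 : sm gb N19137 = N18702 := ded_18_1 (flp_d L201713) (flp_b L201705) L206143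
theorem L206147 : sm gg N19137 = N18857 := ded_32_2 (flp_d L203099) (flp_g L201709) L206143
theorem L206149 : sm gc N19137 = N19035 := ded_24_1 L205114 L200426 L197071 (flp_c L201707) L206143
theorem L206151 : sm ge N19137 = N19137 := ded_30_2 (flp_d L206143) (flp_e L201703) L196426 L201703 L206143
theorem L206152 : sm gh N19137 = N19025 := ded_33_2 (flp_d L204998) L200249 L197131 (flp_h L201711) L206143
theorem L206154 : sm gf N18701 = N19138 := rfl
theorem L206156 : sm gb N19138 = N18703 := ded_20_1 (flp_f L201720) (flp_b L201705) L206154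
theorem L206158 : sm gc N19138 = N18722 := ded_26_1 (flp_f L201892) (flp_c L201707) L206154
theorem L206160 : sm gh N19138 = N18707 := ded_40_2 (flp_f L201756) (flp_h L201711) L206154
theorem L206162 : sm gf N18702 = N19139 := rfl
theorem L206164 : sm gc N19139 = N18749 := ded_26_1 (flp_f L202130) (flp_c L201717) L206162
theorem L206166 : sm gd N19139 = N18703 := ded_31_1 (flp_f L201720) L201713 L206162
theorem L206168 : sm gg N18703 = N19140 := rfl
theorem L206170 : sm gc N19140 = N18704 := ded_27_1 (flp_g L201726) (flp_c L201722) L206168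
theorem L206172 : sm gh N19140 = N18708 := ded_42_2 (flp_g L201764) (flp_h L201724) L206168
theorem L206174 : sm gf N19140 = N18860 := ded_39_1 (flp_g L203120) (flp_f L197965) (flp_g L196437) L201720 L206168
theorem L206176 : sm gf N18706 = N19141 := rfl
theorem L206178 : sm ga N19141 = N18707 := ded_13_1 (flp_f L201756) (flp_a L201748) L206176
theorem L206180 : sm gc N19141 = N18729 := ded_26_1 (flp_f L201944) (flp_c L201750) L206176
theorem L206182 : sm gi N19141 = N19127 := ded_41_2 (flp_f L206019) (flp_i L201754) L206176
theorem L206184 : sm gg N18707 = N19142 := rfl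
theorem L206186 : sm gb N19142 = N18708 := ded_21_1 (flp_g L201764) (flp_b L201758) L206184
theorem L206188 : sm gc N19142 = N18730 := ded_27_1 (flp_g L201948) (flp_c L201760) L206184
theorem L206190 : sm gi N19142 = N19128 := ded_43_2 (flp_g L206031) (flp_i L201762) L206184
theorem L206192 : sm gf N19142 = N18868 := ded_39_1 (flp_g L203196) (flp_f L198055) (flp_g L196475) L201756 L206184
theorem L206194 : sm gg N18709 = N19143 := rfl
theorem L206196 : sm ga N19143 = N18963 := ded_14_1 (flp_g L204310) (flp_a L201774) L206194
theorem L206198 : sm gd N19143 = N18716 := ded_32_1 (flp_g L201848) (flp_d L201776) L206194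
theorem L206200 : sm ge N19143 = N18753 := ded_36_1 (flp_g L202156) (flp_e L201782) L206194
theorem L206202 : sm gh N19143 = N19103 := ded_42_2 (flp_g L205774) (flp_h L201778) L206194
theorem L206204 : sm gi N19143 = N19011 := ded_43_2 (flp_g L204839) (flp_i L201780) L206194
theorem L206206 : sm gf N19143 = N18918 := ded_39_1 (flp_g L203711) (flp_f L198555) (flp_g L196499) L201772 L206194
theorem L206208 : sm ge N18710 = N19144 := rfl
theorem L206210 : sm gb N19144 = N18711 := ded_19_1 (flp_e L201798) L201784 L206208
theorem L206212 : sm gc N19144 = N19057 := ded_25_1 L205315 (flp_c L201796) L206208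
theorem L206214 : sm gg N19144 = N18797 := ded_36_2 (flp_e L202593) (flp_g L201790) L206208
theorem L206216 : sm gh N19144 = N19055 := ded_37_2 L205295 (flp_h L201792) L206208
theorem L206218 : sm gi N19144 = N18713 := ded_38_2 (flp_e L201824) (flp_i L201794) L206208
theorem L206220 : sm gf N18711 = N19145 := rfl
theorem L206222 : sm ga N19145 = N18861 := ded_13_1 (flp_f L203126) (flp_a L201800) L206220
theorem L206224 : sm gc N19145 = N18712 := ded_26_1 (flp_f L201810) (flp_c L201802) L206220
theorem L206226 : sm gh N19145 = N19071 := ded_40_2 (flp_f L205450) (flp_h L201806) L206220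
theorem L206228 : sm gi N19145 = N18715 := ded_41_2 (flp_f L201840) (flp_i L201808) L206220
theorem L206230 : sm ge N19145 = N18719 := ded_35_1 (flp_f L201870) (flp_e L196565) (flp_f L196511) L201798 L206220
theorem L206232 : sm gg N18712 = N19146 := rfl
theorem L206234 : sm ga N19146 = N18862 := ded_14_1 (flp_g L203136) (flp_a L201812) L206232
theorem L206236 : sm gb N19146 = N19129 := ded_21_1 (flp_g L206043) (flp_b L201814) L206232
theorem L206238 : sm gd N19146 = N19011 := ded_32_1 (flp_g L204839) (flp_d L201816) L206232
theorem L206240 : sm ge N19146 = N18720 := ded_36_1 (flp_g L201876) (flp_e L201822) L206232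
theorem L206242 : sm gh N19146 = N19072 := ded_42_2 (flp_g L205460) (flp_h L201818) L206232
theorem L206244 : sm gi N19146 = N18716 := ded_43_2 (flp_g L201848) (flp_i L201820) L206232
theorem L206246 : sm gf N19146 = N18800 := ded_39_1 (flp_g L202625) (flp_f L197444) (flp_g L196527) L201810 L206232
theorem L206248 : sm gf N18713 = N19147 := rfl
theorem L206250 : sm gb N19147 = N18715 := ded_20_1 (flp_f L201840) (flp_b L201826) L206248
theorem L206252 : sm gh N19147 = N18726 := ded_40_2 (flp_f L201924) (flp_h L201830) L206248
theorem L206254 : sm ge N19147 = N18722 := ded_35_1 (flp_f L201892) (flp_e L196585) (flp_f L196539) L201824 L206248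
theorem L206256 : sm gf N18714 = N19148 := rfl
theorem L206258 : sm ga N19148 = N18726 := ded_13_1 (flp_f L201924) (flp_a L201834) L206256
theorem L206260 : sm gd N19148 = N18715 := ded_31_1 (flp_f L201840) L201832 L206256
theorem L206262 : sm ge N19148 = N18729 := ded_35_1 (flp_f L201944) (flp_e L196653) (flp_f L196625) (flp_e L201838) L206256
theorem L206264 : sm gg N18715 = N19149 := rfl
theorem L206266 : sm gc N19149 = N18716 := ded_27_1 (flp_g L201848) (flp_c L201842) L206264
theorem L206268 : sm ge N19149 = N18723 := ded_36_1 (flp_g L201898) (flp_e L201846) L206264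
theorem L206270 : sm gh N19149 = N18728 := ded_42_2 (flp_g L201938) (flp_h L201844) L206264
theorem L206272 : sm gf N19149 = N19090 := ded_39_1 (flp_g L205631) (flp_f L200920) (flp_g L196549) L201840 L206264
theorem L206274 : sm ge N18717 = N19150 := rfl
theorem L206276 : sm ga N19150 = N18718 := ded_12_1 (flp_e L201864) L201856 L206274
theorem L206278 : sm gb N19150 = N18916 := ded_19_1 L203697 (flp_b L201862) L206274
theorem L206280 : sm gi N19150 = N18721 := ded_38_2 (flp_e L201882) (flp_i L201860) L206274
theorem L206282 : sm gd N19150 = N18915 := ded_30_1 (flp_e L203673) L198529 (flp_e L197348) (flp_d L201858) L206274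
theorem L206284 : sm gf N18718 = N19151 := rfl
theorem L206286 : sm gb N19151 = N18719 := ded_20_1 (flp_f L201870) (flp_b L201866) L206284
theorem L206288 : sm gi N19151 = N18722 := ded_41_2 (flp_f L201892) (flp_i L201868) L206284
theorem L206290 : sm gg N18719 = N19152 := rfl
theorem L206292 : sm gc N19152 = N18720 := ded_27_1 (flp_g L201876) (flp_c L201872) L206290
theorem L206294 : sm gi N19152 = N18723 := ded_43_2 (flp_g L201898) (flp_i L201874) L206290
theorem L206296 : sm gf N18721 = N19153 := rfl
theorem L206298 : sm ga N19153 = N18722 := ded_13_1 (flp_f L201892) (flp_a L201884) L206296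
theorem L206300 : sm gb N19153 = N19013 := ded_20_1 (flp_f L204865) (flp_b L201886) L206296
theorem L206302 : sm gd N19153 = N19012 := ded_31_1 (flp_f L204853) (flp_d L201890) L206296
theorem L206304 : sm gh N19153 = N18729 := ded_40_2 (flp_f L201944) (flp_h L201888) L206296
theorem L206306 : sm gg N18722 = N19154 := rfl
theorem L206308 : sm gb N19154 = N18723 := ded_21_1 (flp_g L201898) (flp_b L201894) L206306
theorem L206310 : sm gh N19154 = N18730 := ded_42_2 (flp_g L201948) (flp_h L201896) L206306
theorem L206312 : sm gg N18724 = N19155 := rfl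
theorem L206314 : sm ga N19155 = N19149 := ded_14_1 (flp_g L206264) (flp_a L201906) L206312
theorem L206316 : sm gc N19155 = N18725 := ded_27_1 (flp_g L201914) (flp_c L201908) L206312
theorem L206318 : sm ge N19155 = N18781 := ded_36_1 (flp_g L202454) (flp_e L201912) L206312
theorem L206320 : sm gh N19155 = N19090 := ded_42_2 (flp_g L205631) (flp_h L201910) L206312
theorem L206322 : sm gf N19155 = N18728 := ded_39_1 (flp_g L201938) (flp_f L196643) (flp_g L196609) L201904 L206312
theorem L206324 : sm gg N18726 = N19156 := rfl
theorem L206326 : sm gb N19156 = N18728 := ded_21_1 (flp_g L201938) (flp_b L201926) L206324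
theorem L206328 : sm gd N19156 = N19155 := ded_32_1 (flp_g L206312) (flp_d L201928) L206324
theorem L206330 : sm ge N19156 = N18730 := ded_36_1 (flp_g L201948) (flp_e L201930) L206324
theorem L206332 : sm gg N18727 = N19157 := rfl
theorem L206334 : sm gb N19157 = N19155 := ded_21_1 (flp_g L206312) (flp_b L201934) L206332
theorem L206336 : sm gd N19157 = N18728 := ded_32_1 (flp_g L201938) (flp_d L201936) L206332
theorem L206338 : sm gf N19157 = N19156 := ded_39_1 (flp_g L206324) (flp_f L201924) (flp_g L196639) L201932 L206332
theorem L206340 : sm gg N18729 = N19158 := rfl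
theorem L206342 : sm ga N19158 = N18730 := ded_14_1 (flp_g L201948) (flp_a L201946) L206340
theorem L206344 : sm ge N18731 = N19159 := rfl
theorem L206346 : sm ga N19159 = N18817 := ded_12_1 (flp_e L202755) (flp_a L201963) L206344
theorem L206348 : sm gb N19159 = N18732 := ded_19_1 (flp_e L201967) L201952 L206344
theorem L206350 : sm gc N19159 = N18838 := ded_25_1 (flp_e L202918) (flp_c L201965) L206344
theorem L206352 : sm gg N19159 = N18808 := ded_36_2 (flp_e L202691) (flp_g L201957) L206344
theorem L206354 : sm gh N19159 = N18765 := ded_37_2 (flp_e L202292) (flp_h L201959) L206344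
theorem L206356 : sm gi N19159 = N18734 := ded_38_2 (flp_e L201991) (flp_i L201961) L206344
theorem L206358 : sm gd N18732 = N19160 := rfl
theorem L206360 : sm ga N19160 = N18746 := ded_11_1 (flp_d L202105) (flp_a L201969) L206358
theorem L206362 : sm gg N19160 = N18809 := ded_32_2 (flp_d L202699) (flp_g L201973) L206358
theorem L206364 : sm gi N19160 = N18735 := ded_34_2 (flp_d L202003) (flp_i L201977) L206358
theorem L206366 : sm gc N19160 = N18878 := ded_24_1 L203285 L198299 (flp_d L196688) (flp_c L201971) L206358
theorem L206368 : sm ge N19160 = N19160 := ded_30_2 (flp_d L206358) (flp_e L201967) L196675 L201967 L206358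
theorem L206369 : sm gh N19160 = N18853 := ded_33_2 (flp_d L203068) L197933 (flp_d L197053) (flp_h L201975) L206358
theorem L206371 : sm gf N18732 = N19161 := rfl
theorem L206373 : sm ga N19161 = N18747 := ded_13_1 (flp_f L202112) (flp_a L201969) L206371
theorem L206375 : sm gc N19161 = N18733 := ded_26_1 (flp_f L201979) (flp_c L201971) L206371
theorem L206377 : sm gh N19161 = N18766 := ded_40_2 (flp_f L202302) (flp_h L201975) L206371
theorem L206379 : sm gi N19161 = N18736 := ded_41_2 (flp_f L202010) (flp_i L201977) L206371
theorem L206381 : sm gg N18733 = N19162 := rfl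
theorem L206383 : sm ga N19162 = N18748 := ded_14_1 (flp_g L202120) (flp_a L201981) L206381
theorem L206385 : sm gb N19162 = N19143 := ded_21_1 (flp_g L206194) (flp_b L201983) L206381
theorem L206387 : sm gd N19162 = N19130 := ded_32_1 (flp_g L206053) (flp_d L201985) L206381
theorem L206389 : sm gh N19162 = N18767 := ded_42_2 (flp_g L202312) (flp_h L201987) L206381
theorem L206391 : sm gi N19162 = N18737 := ded_43_2 (flp_g L202018) (flp_i L201989) L206381
theorem L206393 : sm gf N19162 = N18811 := ded_39_1 (flp_g L202716) (flp_f L197555) (flp_g L196682) L201979 L206381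
theorem L206395 : sm gd N18734 = N19163 := rfl
theorem L206397 : sm ga N19163 = N18821 := ded_11_1 (flp_d L202784) (flp_a L201993) L206395
theorem L206399 : sm gb N19163 = N18735 := ded_18_1 (flp_d L202003) (flp_b L201995) L206395
theorem L206401 : sm gg N19163 = N18812 := ded_32_2 (flp_d L202724) (flp_g L201999) L206395
theorem L206403 : sm ge N19163 = N19163 := ded_30_2 (flp_d L206395) (flp_e L201991) L196692 L201991 L206395
theorem L206404 : sm gh N19163 = N18743 := ded_33_2 (flp_d L202086) L196792 (flp_d L196731) (flp_h L202001) L206395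
theorem L206406 : sm gf N18734 = N19164 := rfl
theorem L206408 : sm ga N19164 = N18822 := ded_13_1 (flp_f L202789) (flp_a L201993) L206406
theorem L206410 : sm gb N19164 = N18736 := ded_20_1 (flp_f L202010) (flp_b L201995) L206406
theorem L206412 : sm gc N19164 = N18831 := ded_26_1 L202858 (flp_c L201997) L206406
theorem L206414 : sm gh N19164 = N18738 := ded_40_2 (flp_f L202026) (flp_h L202001) L206406
theorem L206416 : sm ge N19164 = N18828 := ded_35_1 L202832 L197666 (flp_f L196693) L201991 L206406
theorem L206418 : sm gf N18735 = N19165 := rfl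
theorem L206420 : sm ga N19165 = N18749 := ded_13_1 (flp_f L202130) (flp_a L202005) L206418
theorem L206422 : sm gd N19165 = N18736 := ded_31_1 (flp_f L202010) L202003 L206418
theorem L206424 : sm gg N18736 = N19166 := rfl
theorem L206426 : sm ga N19166 = N18750 := ded_14_1 (flp_g L202134) (flp_a L202012) L206424
theorem L206428 : sm gc N19166 = N18737 := ded_27_1 (flp_g L202018) (flp_c L202014) L206424
theorem L206430 : sm gh N19166 = N18739 := ded_42_2 (flp_g L202040) (flp_h L202016) L206424
theorem L206432 : sm gf N19166 = N18815 := ded_39_1 (flp_g L202741) (flp_f L197574) (flp_g L196709) L202010 L206424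
theorem L206434 : sm gg N18738 = N19167 := rfl
theorem L206436 : sm ga N19167 = N18826 := ded_14_1 (flp_g L202816) (flp_a L202028) L206434
theorem L206438 : sm gb N19167 = N18739 := ded_21_1 (flp_g L202040) (flp_b L202030) L206434
theorem L206440 : sm gc N19167 = N18830 := ded_27_1 (flp_g L202842) (flp_c L202032) L206434
theorem L206442 : sm gd N19167 = N18751 := ded_32_1 (flp_g L202142) (flp_d L202034) L206434
theorem L206444 : sm ge N19167 = N18827 := ded_36_1 (flp_g L202822) (flp_e L202038) L206434
theorem L206446 : sm gi N19167 = N18771 := ded_43_2 (flp_g L202350) (flp_i L202036) L206434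
theorem L206448 : sm gf N19167 = N18816 := ded_39_1 (flp_g L202749) (flp_f L197588) (flp_g L196727) L202026 L206434
theorem L206450 : sm gd N18740 = N19168 := rfl
theorem L206452 : sm ga N19168 = N18959 := ded_11_1 (flp_d L204275) (flp_a L202052) L206450
theorem L206454 : sm gg N19168 = N19031 := ded_32_2 (flp_d L205070) (flp_g L202056) L206450
theorem L206456 : sm gi N19168 = N19028 := ded_34_2 (flp_d L205033) (flp_i L202060) L206450
theorem L206458 : sm gc N19168 = N18743 := ded_24_1 (flp_d L202086) L196790 (flp_d L196772) (flp_c L202054) L206450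
theorem L206460 : sm ge N19168 = N19168 := ded_30_2 (flp_d L206450) (flp_e L202050) L196763 L202050 L206450
theorem L206461 : sm gf N18740 = N19169 := rfl
theorem L206463 : sm ga N19169 = N18960 := ded_13_1 (flp_f L204284) (flp_a L202052) L206461
theorem L206465 : sm gc N19169 = N18741 := ded_26_1 (flp_f L202062) (flp_c L202054) L206461
theorem L206467 : sm gh N19169 = N18967 := ded_40_2 (flp_f L204360) (flp_h L202058) L206461
theorem L206469 : sm gi N19169 = N19029 := ded_41_2 (flp_f L205046) (flp_i L202060) L206461
theorem L206471 : sm ge N19169 = N19161 := ded_35_1 (flp_f L206371) (flp_e L201967) (flp_f L196755) L202050 L206461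
theorem L206473 : sm gg N18741 = N19170 := rfl
theorem L206475 : sm gb N19170 = N18753 := ded_21_1 (flp_g L202156) (flp_b L202064) L206473
theorem L206477 : sm gd N19170 = N18745 := ded_32_1 (flp_g L202097) (flp_d L202066) L206473
theorem L206479 : sm ge N19170 = N19162 := ded_36_1 (flp_g L206381) (flp_e L202070) L206473
theorem L206481 : sm gi N19170 = N19030 := ded_43_2 (flp_g L205058) (flp_i L202068) L206473
theorem L206483 : sm gf N19170 = N19033 := ded_39_1 (flp_g L205089) (flp_f L200295) (flp_g L196768) L202062 L206473
theorem L206485 : sm gg N18742 = N19171 := rfl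
theorem L206487 : sm ga N19171 = N19170 := ded_14_1 (flp_g L206473) (flp_a L202074) L206485
theorem L206489 : sm gb N19171 = N18755 := ded_21_1 (flp_g L202174) (flp_b L202076) L206485
theorem L206491 : sm gd N19171 = N19030 := ded_32_1 (flp_g L205058) (flp_d L202078) L206485
theorem L206493 : sm ge N19171 = N18748 := ded_36_1 (flp_g L202120) (flp_e L202084) L206485
theorem L206495 : sm gh N19171 = N18775 := ded_42_2 (flp_g L202390) (flp_h L202080) L206485
theorem L206497 : sm gi N19171 = N18745 := ded_43_2 (flp_g L202097) (flp_i L202082) L206485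
theorem L206499 : sm gf N19171 = N19027 := ded_39_1 (flp_g L205021) (flp_f L200253) (flp_g L196780) L202072 L206485
theorem L206501 : sm gf N18743 = N19172 := rfl
theorem L206503 : sm gd N19172 = N18744 := ded_31_1 (flp_f L202089) L202086 L206501
theorem L206505 : sm gg N18744 = N19173 := rfl
theorem L206507 : sm gc N19173 = N18745 := ded_27_1 (flp_g L202097) (flp_c L202091) L206505
theorem L206509 : sm ge N19173 = N18750 := ded_36_1 (flp_g L202134) (flp_e L202095) L206505
theorem L206511 : sm gh N19173 = N18751 := ded_42_2 (flp_g L202142) (flp_h L202093) L206505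
theorem L206513 : sm gf N18746 = N19174 := rfl
theorem L206515 : sm gd N19174 = N18747 := ded_31_1 (flp_f L202112) L202105 L206513
theorem L206517 : sm gi N19174 = N18749 := ded_41_2 (flp_f L202130) (flp_i L202109) L206513
theorem L206519 : sm gg N18747 = N19175 := rfl
theorem L206521 : sm gc N19175 = N18748 := ded_27_1 (flp_g L202120) (flp_c L202114) L206519
theorem L206523 : sm gh N19175 = N18778 := ded_42_2 (flp_g L202424) (flp_h L202116) L206519
theorem L206525 : sm gi N19175 = N18750 := ded_43_2 (flp_g L202134) (flp_i L202118) L206519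
theorem L206527 : sm gf N19175 = N18879 := ded_39_1 (flp_g L203287) (flp_f L198129) (flp_g L196806) L202112 L206519
theorem L206529 : sm ge N18749 = N19176 := rfl
theorem L206531 : sm gf N19176 = N19176 := ded_35_2 (flp_e L206529) (flp_f L202130) L196824 L202130 L206529
theorem L206532 : sm gg N18749 = N19177 := rfl
theorem L206534 : sm gd N19177 = N18750 := ded_32_1 (flp_g L202134) (flp_d L202132) L206532
theorem L206536 : sm gf N19177 = N18881 := ded_39_1 (flp_g L203298) (flp_f L198143) (flp_g L196822) L202130 L206532
theorem L206538 : sm gg N18752 = N19178 := rfl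
theorem L206540 : sm gc N19178 = N18753 := ded_27_1 (flp_g L202156) (flp_c L202152) L206538
theorem L206542 : sm gi N19178 = N18947 := ded_43_2 L204120 (flp_i L202154) L206538
theorem L206544 : sm gf N19178 = N19051 := ded_39_1 (flp_g L205253) (flp_f L200470) (flp_g L196867) L202150 L206538
theorem L206546 : sm gg N18756 = N19179 := rfl
theorem L206548 : sm gc N19179 = N18757 := ded_27_1 (flp_g L202192) (flp_c L202188) L206546
theorem L206550 : sm gi N19179 = N18883 := ded_43_2 (flp_g L203314) (flp_i L202190) L206546
theorem L206552 : sm gf N19179 = N18886 := ded_39_1 (flp_g L203350) (flp_f L198217) (flp_g L196917) L202186 L206546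
theorem L206554 : sm gf N18760 = N19180 := rfl
theorem L206556 : sm ga N19180 = N18772 := ded_13_1 (flp_f L202358) (flp_a L202230) L206554
theorem L206558 : sm gb N19180 = N19054 := ded_20_1 (flp_f L205285) (flp_b L202232) L206554
theorem L206560 : sm gc N19180 = N18761 := ded_26_1 (flp_f L202244) (flp_c L202234) L206554
theorem L206562 : sm gd N19180 = N19141 := ded_31_1 (flp_f L206176) (flp_d L202242) L206554
theorem L206564 : sm gh N19180 = N19032 := ded_40_2 (flp_f L205079) (flp_h L202238) L206554
theorem L206566 : sm gi N19180 = N18951 := ded_41_2 (flp_f L204160) (flp_i L202240) L206554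
theorem L206568 : sm ge N19180 = N18975 := ded_35_1 (flp_f L204451) (flp_e L199583) (flp_f L196979) L202228 L206554
theorem L206570 : sm gg N18761 = N19181 := rfl
theorem L206572 : sm ga N19181 = N18773 := ded_14_1 (flp_g L202370) (flp_a L202246) L206570
theorem L206574 : sm gb N19181 = N18985 := ded_21_1 (flp_g L204565) (flp_b L202248) L206570
theorem L206576 : sm gd N19181 = N18764 := ded_32_1 (flp_g L202284) (flp_d L202250) L206570
theorem L206578 : sm ge N19181 = N18976 := ded_36_1 (flp_g L204465) (flp_e L202256) L206570
theorem L206580 : sm gh N19181 = N19033 := ded_42_2 (flp_g L205089) (flp_h L202252) L206570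
theorem L206582 : sm gi N19181 = N18974 := ded_43_2 (flp_g L204439) (flp_i L202254) L206570
theorem L206584 : sm gg N18762 = N19182 := rfl
theorem L206586 : sm ga N19182 = N18775 := ded_14_1 (flp_g L202390) (flp_a L202260) L206584
theorem L206588 : sm gb N19182 = N18980 := ded_21_1 (flp_g L204510) (flp_b L202262) L206584
theorem L206590 : sm gd N19182 = N18974 := ded_32_1 (flp_g L204439) (flp_d L202264) L206584
theorem L206592 : sm ge N19182 = N18767 := ded_36_1 (flp_g L202312) (flp_e L202270) L206584
theorem L206594 : sm gh N19182 = N19170 := ded_42_2 (flp_g L206473) (flp_h L202266) L206584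
theorem L206596 : sm gi N19182 = N18764 := ded_43_2 (flp_g L202284) (flp_i L202268) L206584
theorem L206598 : sm gf N19182 = N19181 := ded_39_1 (flp_g L206570) (flp_f L202244) (flp_g L197009) L202258 L206584
theorem L206600 : sm gg N18763 = N19183 := rfl
theorem L206602 : sm ga N19183 = N18776 := ded_14_1 (flp_g L202402) (flp_a L202274) L206600
theorem L206604 : sm gc N19183 = N18764 := ded_27_1 (flp_g L202284) (flp_c L202276) L206600
theorem L206606 : sm gd N19183 = N19158 := ded_32_1 (flp_g L206340) (flp_d L202278) L206600
theorem L206608 : sm ge N19183 = N18769 := ded_36_1 (flp_g L202330) (flp_e L202282) L206600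
theorem L206610 : sm gh N19183 = N18770 := ded_42_2 (flp_g L202342) (flp_h L202280) L206600
theorem L206612 : sm gf N18765 = N19184 := rfl
theorem L206614 : sm gb N19184 = N18766 := ded_20_1 (flp_f L202302) (flp_b L202294) L206612
theorem L206616 : sm gd N19184 = N19151 := ded_31_1 (flp_f L206284) (flp_d L202300) L206612
theorem L206618 : sm gi N19184 = N18768 := ded_41_2 (flp_f L202322) (flp_i L202298) L206612
theorem L206620 : sm gg N18766 = N19185 := rfl
theorem L206622 : sm ga N19185 = N18778 := ded_14_1 (flp_g L202424) (flp_a L202304) L206620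
theorem L206624 : sm gc N19185 = N18767 := ded_27_1 (flp_g L202312) (flp_c L202306) L206620
theorem L206626 : sm gd N19185 = N19152 := ded_32_1 (flp_g L206290) (flp_d L202308) L206620
theorem L206628 : sm gi N19185 = N18769 := ded_43_2 (flp_g L202330) (flp_i L202310) L206620
theorem L206630 : sm gf N19185 = N18842 := ded_39_1 (flp_g L202954) (flp_f L197776) (flp_g L197049) L202302 L206620
theorem L206632 : sm gg N18768 = N19186 := rfl
theorem L206634 : sm gb N19186 = N18769 := ded_21_1 (flp_g L202330) (flp_b L202324) L206632
theorem L206636 : sm gd N19186 = N19154 := ded_32_1 (flp_g L206306) (flp_d L202326) L206632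
theorem L206638 : sm gh N19186 = N18771 := ded_42_2 (flp_g L202350) (flp_h L202328) L206632
theorem L206640 : sm gf N19186 = N18845 := ded_39_1 (flp_g L202984) (flp_f L197810) (flp_g L197067) L202322 L206632
theorem L206642 : sm gg N18772 = N19187 := rfl
theorem L206644 : sm gb N19187 = N18950 := ded_21_1 (flp_g L204148) (flp_b L202360) L206642
theorem L206646 : sm gc N19187 = N18773 := ded_27_1 (flp_g L202370) (flp_c L202362) L206642
theorem L206648 : sm gd N19187 = N19142 := ded_32_1 (flp_g L206184) (flp_d L202364) L206642
theorem L206650 : sm ge N19187 = N19179 := ded_36_1 (flp_g L206546) (flp_e L202368) L206642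
theorem L206652 : sm gi N19187 = N18952 := ded_43_2 (flp_g L204172) (flp_i L202366) L206642
theorem L206654 : sm gf N19187 = N18968 := ded_39_1 (flp_g L204372) (flp_f L199479) (flp_g L197127) L202358 L206642
theorem L206656 : sm gg N18777 = N19188 := rfl
theorem L206658 : sm ga N19188 = N19152 := ded_14_1 (flp_g L206290) (flp_a L202416) L206656
theorem L206660 : sm gc N19188 = N19085 := ded_27_1 (flp_g L205577) (flp_c L202418) L206656
theorem L206662 : sm gd N19188 = N18778 := ded_32_1 (flp_g L202424) (flp_d L202420) L206656
theorem L206664 : sm gi N19188 = N18781 := ded_43_2 (flp_g L202454) (flp_i L202422) L206656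
theorem L206666 : sm gf N19188 = N18894 := ded_39_1 (flp_g L203430) (flp_f L198287) (flp_g L197185) L202414 L206656
theorem L206668 : sm gg N18779 = N19189 := rfl
theorem L206670 : sm gb N19189 = N18781 := ded_21_1 (flp_g L202454) (flp_b L202434) L206668
theorem L206672 : sm gd N19189 = N18780 := ded_32_1 (flp_g L202442) (flp_d L202436) L206668
theorem L206674 : sm ge N19189 = N19157 := ded_36_1 (flp_g L206332) (flp_e L202440) L206668
theorem L206676 : sm gh N19189 = N19092 := ded_42_2 (flp_g L205649) (flp_h L202438) L206668
theorem L206678 : sm gf N19189 = N18898 := ded_39_1 (flp_g L203460) (flp_f L198321) (flp_g L197213) L202432 L206668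
theorem L206680 : sm ge N18783 = N19190 := rfl
theorem L206682 : sm ga N19190 = N18784 := ded_12_1 (flp_e L202489) L202480 L206680
theorem L206684 : sm gb N19190 = N19061 := ded_19_1 L205353 (flp_b L202487) L206680
theorem L206686 : sm gc N19190 = N18801 := ded_25_1 (flp_e L202639) (flp_c L202482) L206680
theorem L206688 : sm gi N19190 = N19078 := ded_38_2 (flp_e L205531) (flp_i L202485) L206680
theorem L206690 : sm gd N18784 = N19191 := rfl
theorem L206692 : sm gb N19191 = N18785 := ded_18_1 (flp_d L202497) (flp_b L202491) L206690
theorem L206694 : sm gi N19191 = N19079 := ded_34_2 (flp_d L205541) (flp_i L202495) L206690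
theorem L206696 : sm ge N19191 = N19191 := ded_30_2 (flp_d L206690) (flp_e L202489) L197357 L202489 L206690
theorem L206697 : sm gf N18784 = N19192 := rfl
theorem L206699 : sm gb N19192 = N18786 := ded_20_1 (flp_f L202504) (flp_b L202491) L206697
theorem L206701 : sm gc N19192 = N18802 := ded_26_1 (flp_f L202647) (flp_c L202493) L206697
theorem L206703 : sm gi N19192 = N19080 := ded_41_2 (flp_f L205552) (flp_i L202495) L206697
theorem L206705 : sm gf N18785 = N19193 := rfl
theorem L206707 : sm gc N19193 = N18788 := ded_26_1 (flp_f L202518) (flp_c L202501) L206705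
theorem L206709 : sm gd N19193 = N18786 := ded_31_1 (flp_f L202504) L202497 L206705
theorem L206711 : sm gi N19193 = N19081 := ded_41_2 (flp_f L205560) (flp_i L202499) L206705
theorem L206713 : sm gh N18785 = N19194 := rfl
theorem L206715 : sm ga N19194 = N19079 := ded_15_1 L205550 L203018 L206713
theorem L206717 : sm gc N19194 = N18789 := ded_28_1 (flp_h L202524) (flp_c L202501) L206713
theorem L206719 : sm ge N19194 = N19194 := ded_37_1 (flp_h L206713) L202503 L206713
theorem L206720 : sm gd N19194 = N19078 := ded_33_1 L205539 (flp_d L202603) L197440 L202497 L206713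
theorem L206722 : sm gg N18786 = N19195 := rfl
theorem L206724 : sm gc N19195 = N18787 := ded_27_1 (flp_g L202510) (flp_c L202506) L206722
theorem L206726 : sm gi N19195 = N19082 := ded_43_2 (flp_g L205566) (flp_i L202508) L206722
theorem L206728 : sm ge N18788 = N19196 := rfl
theorem L206730 : sm gi N19196 = N19083 := ded_38_2 (flp_e L205570) (flp_i L202522) L206728
theorem L206732 : sm gf N19196 = N19196 := ded_35_2 (flp_e L206728) (flp_f L202518) L197380 L202518 L206728
theorem L206733 : sm gg N18788 = N19197 := rfl
theorem L206735 : sm gd N19197 = N18790 := ded_32_1 (flp_g L202529) (flp_d L202520) L206733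
theorem L206737 : sm gi N19197 = N19084 := ded_43_2 (flp_g L205573) (flp_i L202522) L206733
theorem L206739 : sm gh N18788 = N19198 := rfl
theorem L206741 : sm gf N19198 = N18789 := ded_40_1 (flp_h L202524) L202518 L206739
theorem L206743 : sm gd N19198 = N18806 := ded_33_1 (flp_h L202679) L197524 (flp_h L197385) (flp_d L202520) L206739
theorem L206745 : sm gi N18789 = N19199 := rfl
theorem L206747 : sm gb N19199 = N18978 := ded_23_1 L204495 L203601 L206745
theorem L206749 : sm gd N19199 = N18807 := ded_34_1 (flp_i L202683) (flp_d L202527) L206745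
theorem L206751 : sm ge N19199 = N19199 := ded_38_1 (flp_i L206745) L202526 L206745
theorem L206752 : sm gh N19199 = N19037 := ded_44_1 L205128 L200358 (flp_i L197378) L202524 L206745
theorem L206754 : sm ge N18791 = N19200 := rfl
theorem L206756 : sm ga N19200 = N18792 := ded_12_1 (flp_e L202546) L202537 L206754
theorem L206758 : sm gb N19200 = N18856 := ded_19_1 (flp_e L203091) (flp_b L202544) L206754
theorem L206760 : sm gh N19200 = N18801 := ded_37_2 (flp_e L202639) (flp_h L202542) L206754
theorem L206762 : sm gd N18792 = N19201 := rfl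
theorem L206764 : sm gb N19201 = N18793 := ded_18_1 (flp_d L202552) (flp_b L202548) L206762
theorem L206766 : sm ge N19201 = N19201 := ded_30_2 (flp_d L206762) (flp_e L202546) L197399 L202546 L206762
theorem L206767 : sm gf N18792 = N19202 := rfl
theorem L206769 : sm gb N19202 = N18794 := ded_20_1 (flp_f L202559) (flp_b L202548) L206767
theorem L206771 : sm gh N19202 = N18802 := ded_40_2 (flp_f L202647) (flp_h L202550) L206767
theorem L206773 : sm ge N19202 = N19192 := ded_35_1 (flp_f L206697) (flp_e L202489) (flp_f L197400) L202546 L206767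
theorem L206775 : sm gf N18793 = N19203 := rfl
theorem L206777 : sm ga N19203 = N18859 := ded_13_1 (flp_f L203114) (flp_a L202554) L206775
theorem L206779 : sm gc N19203 = N18814 := ded_26_1 (flp_f L202735) (flp_c L202556) L206775
theorem L206781 : sm gd N19203 = N18794 := ded_31_1 (flp_f L202559) L202552 L206775
theorem L206783 : sm gg N18794 = N19204 := rfl
theorem L206785 : sm ga N19204 = N18860 := ded_14_1 (flp_g L203120) (flp_a L202561) L206783
theorem L206787 : sm gc N19204 = N18795 := ded_27_1 (flp_g L202569) (flp_c L202563) L206783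
theorem L206789 : sm ge N19204 = N19195 := ded_36_1 (flp_g L206722) (flp_e L202567) L206783
theorem L206791 : sm gh N19204 = N18803 := ded_42_2 (flp_g L202653) (flp_h L202565) L206783
theorem L206793 : sm ge N18796 = N19205 := rfl
theorem L206795 : sm ga N19205 = N18797 := ded_12_1 (flp_e L202593) L202579 L206793
theorem L206797 : sm gb N19205 = N18863 := ded_19_1 (flp_e L203148) (flp_b L202591) L206793
theorem L206799 : sm gc N19205 = N19200 := ded_25_1 (flp_e L206754) (flp_c L202581) L206793
theorem L206801 : sm gh N19205 = N19190 := ded_37_2 (flp_e L206680) (flp_h L202587) L206793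
theorem L206803 : sm gi N19205 = N19086 := ded_38_2 (flp_e L205593) (flp_i L202589) L206793
theorem L206805 : sm gd N19205 = N19144 := ded_30_1 (flp_e L206208) L201786 L197498 (flp_d L202583) L206793
theorem L206807 : sm gd N18797 = N19206 := rfl
theorem L206809 : sm ga N19206 = N19144 := ded_11_1 (flp_d L206805) L206795 L206807
theorem L206811 : sm gb N19206 = N18798 := ded_18_1 (flp_d L202603) (flp_b L202595) L206807
theorem L206813 : sm gg N19206 = N19205 := ded_32_2 L206805 L206214 L206807
theorem L206815 : sm gi N19206 = N19087 := ded_34_2 (flp_d L205603) (flp_i L202601) L206807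
theorem L206817 : sm ge N19206 = N18804 := ded_30_2 (flp_d L202661) (flp_e L197500) (flp_d L197424) L202593 L206807
theorem L206819 : sm gf N18797 = N19207 := rfl
theorem L206821 : sm gb N19207 = N18799 := ded_20_1 (flp_f L202613) (flp_b L202595) L206819
theorem L206823 : sm gc N19207 = N19202 := ded_26_1 (flp_f L206767) (flp_c L202597) L206819
theorem L206825 : sm gh N19207 = N19192 := ded_40_2 (flp_f L206697) (flp_h L202599) L206819
theorem L206827 : sm gi N19207 = N19088 := ded_41_2 (flp_f L205615) (flp_i L202601) L206819
theorem L206829 : sm ge N19207 = N18802 := ded_35_1 (flp_f L202647) (flp_e L197466) (flp_f L197426) L202593 L206819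
theorem L206831 : sm gf N18798 = N19208 := rfl
theorem L206833 : sm ga N19208 = N18865 := ded_13_1 (flp_f L203172) (flp_a L202605) L206831
theorem L206835 : sm gc N19208 = N19013 := ded_26_1 (flp_f L204865) (flp_c L202609) L206831
theorem L206837 : sm gd N19208 = N18799 := ded_31_1 (flp_f L202613) L202603 L206831
theorem L206839 : sm gi N19208 = N19089 := ded_41_2 (flp_f L205623) (flp_i L202607) L206831
theorem L206841 : sm gg N18799 = N19209 := rfl
theorem L206843 : sm ga N19209 = N18866 := ded_14_1 (flp_g L203182) (flp_a L202615) L206841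
theorem L206845 : sm gc N19209 = N18800 := ded_27_1 (flp_g L202625) (flp_c L202617) L206841
theorem L206847 : sm ge N19209 = N18803 := ded_36_1 (flp_g L202653) (flp_e L202623) L206841
theorem L206849 : sm gh N19209 = N19195 := ded_42_2 (flp_g L206722) (flp_h L202619) L206841
theorem L206851 : sm gi N19209 = N19090 := ded_43_2 (flp_g L205631) (flp_i L202621) L206841
theorem L206853 : sm gf N18801 = N19210 := rfl
theorem L206855 : sm ga N19210 = N18802 := ded_13_1 (flp_f L202647) (flp_a L202641) L206853
theorem L206857 : sm gb N19210 = N18867 := ded_20_1 (flp_f L203190) (flp_b L202643) L206853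
theorem L206859 : sm gi N19210 = N19091 := ded_41_2 (flp_f L205639) (flp_i L202645) L206853
theorem L206861 : sm gg N18802 = N19211 := rfl
theorem L206863 : sm gb N19211 = N18803 := ded_21_1 (flp_g L202653) (flp_b L202649) L206861
theorem L206865 : sm gi N19211 = N19092 := ded_43_2 (flp_g L205649) (flp_i L202651) L206861
theorem L206867 : sm gh N18805 = N19212 := rfl
theorem L206869 : sm gg N19212 = N18806 := ded_42_1 (flp_h L202679) L202673 L206867
theorem L206871 : sm gi N18806 = N19213 := rfl
theorem L206873 : sm gb N19213 = N18979 := ded_23_1 L204508 L203907 L206871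
theorem L206875 : sm gf N19213 = N18807 := ded_41_1 (flp_i L202683) (flp_f L202681) L206871
theorem L206877 : sm gh N19213 = N18833 := ded_44_1 (flp_i L202866) (flp_h L197684) (flp_i L197526) L202679 L206871
theorem L206879 : sm gd N18808 = N19214 := rfl
theorem L206881 : sm gb N19214 = N18809 := ded_18_1 (flp_d L202699) (flp_b L202693) L206879
theorem L206883 : sm gi N19214 = N18812 := ded_34_2 (flp_d L202724) (flp_i L202697) L206879
theorem L206885 : sm ge N19214 = N19214 := ded_30_2 (flp_d L206879) (flp_e L202691) L197540 L202691 L206879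
theorem L206886 : sm gf N18808 = N19215 := rfl
theorem L206888 : sm gb N19215 = N18810 := ded_20_1 (flp_f L202706) (flp_b L202693) L206886
theorem L206890 : sm gh N19215 = N18840 := ded_40_2 (flp_f L202936) (flp_h L202695) L206886
theorem L206892 : sm gi N19215 = N18813 := ded_41_2 (flp_f L202729) (flp_i L202697) L206886
theorem L206894 : sm gf N18809 = N19216 := rfl
theorem L206896 : sm ga N19216 = N18877 := ded_13_1 (flp_f L203276) (flp_a L202701) L206894
theorem L206898 : sm gd N19216 = N18810 := ded_31_1 (flp_f L202706) L202699 L206894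
theorem L206900 : sm gi N19216 = N18814 := ded_41_2 (flp_f L202735) (flp_i L202703) L206894
theorem L206902 : sm gg N18810 = N19217 := rfl
theorem L206904 : sm ga N19217 = N18879 := ded_14_1 (flp_g L203287) (flp_a L202708) L206902
theorem L206906 : sm gc N19217 = N18811 := ded_27_1 (flp_g L202716) (flp_c L202710) L206902
theorem L206908 : sm gh N19217 = N18842 := ded_42_2 (flp_g L202954) (flp_h L202712) L206902
theorem L206910 : sm gi N19217 = N18815 := ded_43_2 (flp_g L202741) (flp_i L202714) L206902
theorem L206912 : sm gc N18812 = N19218 := rfl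
theorem L206914 : sm ga N19218 = N19137 := ded_10_1 L206149 L205107 L206912
theorem L206916 : sm ge N19218 = N19218 := ded_25_2 (flp_c L206912) L202728 L206912
theorem L206917 : sm gh N19218 = N19031 := ded_28_2 L205076 L203996 L206912
theorem L206919 : sm gd N19218 = N19136 := ded_24_2 L206137 L201890 L200036 L202724 L206912
theorem L206921 : sm gf N18812 = N19219 := rfl
theorem L206923 : sm gb N19219 = N18814 := ded_20_1 (flp_f L202735) (flp_b L202726) L206921
theorem L206925 : sm gd N19219 = N18813 := ded_31_1 (flp_f L202729) L202724 L206921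
theorem L206927 : sm gg N18813 = N19220 := rfl
theorem L206929 : sm gb N19220 = N18815 := ded_21_1 (flp_g L202741) (flp_b L202731) L206927
theorem L206931 : sm gh N19220 = N18816 := ded_42_2 (flp_g L202749) (flp_h L202733) L206927
theorem L206933 : sm ge N18814 = N19221 := rfl
theorem L206935 : sm ga N19221 = N18880 := ded_12_1 (flp_e L203295) (flp_a L202737) L206933
theorem L206937 : sm gf N19221 = N19221 := ded_35_2 (flp_e L206933) (flp_f L202735) L197573 L202735 L206933
theorem L206938 : sm gg N18814 = N19222 := rfl
theorem L206940 : sm ga N19222 = N18881 := ded_14_1 (flp_g L203298) (flp_a L202737) L206938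
theorem L206942 : sm gd N19222 = N18815 := ded_32_1 (flp_g L202741) (flp_d L202739) L206938
theorem L206944 : sm gd N18817 = N19223 := rfl
theorem L206946 : sm gb N19223 = N18818 := ded_18_1 (flp_d L202763) (flp_b L202757) L206944
theorem L206948 : sm gi N19223 = N18821 := ded_34_2 (flp_d L202784) (flp_i L202761) L206944
theorem L206950 : sm ge N19223 = N19223 := ded_30_2 (flp_d L206944) (flp_e L202755) L197604 L202755 L206944
theorem L206951 : sm gf N18817 = N19224 := rfl
theorem L206953 : sm gb N19224 = N18819 := ded_20_1 (flp_f L202770) (flp_b L202757) L206951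
theorem L206955 : sm gc N19224 = N18840 := ded_26_1 (flp_f L202936) (flp_c L202759) L206951
theorem L206957 : sm gi N19224 = N18822 := ded_41_2 (flp_f L202789) (flp_i L202761) L206951
theorem L206959 : sm gf N18818 = N19225 := rfl
theorem L206961 : sm gc N19225 = N19114 := ded_26_1 (flp_f L205908) (flp_c L202767) L206959
theorem L206963 : sm gd N19225 = N18819 := ded_31_1 (flp_f L202770) L202763 L206959
theorem L206965 : sm gi N19225 = N18823 := ded_41_2 (flp_f L202797) (flp_i L202765) L206959
theorem L206967 : sm gh N18818 = N19226 := rfl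
theorem L206969 : sm gc N19226 = N19115 := ded_28_1 (flp_h L205916) (flp_c L202767) L206967
theorem L206971 : sm ge N19226 = N19226 := ded_37_1 (flp_h L206967) L202769 L206967
theorem L206972 : sm gg N18819 = N19227 := rfl
theorem L206974 : sm gc N19227 = N18820 := ded_27_1 (flp_g L202776) (flp_c L202772) L206972
theorem L206976 : sm gi N19227 = N18825 := ded_43_2 (flp_g L202810) (flp_i L202774) L206972
theorem L206978 : sm gf N18821 = N19228 := rfl
theorem L206980 : sm gb N19228 = N18823 := ded_20_1 (flp_f L202797) (flp_b L202786) L206978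
theorem L206982 : sm gd N19228 = N18822 := ded_31_1 (flp_f L202789) L202784 L206978
theorem L206984 : sm gg N18822 = N19229 := rfl
theorem L206986 : sm gb N19229 = N18825 := ded_21_1 (flp_g L202810) (flp_b L202791) L206984
theorem L206988 : sm gc N19229 = N18845 := ded_27_1 (flp_g L202984) (flp_c L202793) L206984
theorem L206990 : sm gh N19229 = N18826 := ded_42_2 (flp_g L202816) (flp_h L202795) L206984
theorem L206992 : sm ge N18823 = N19230 := rfl
theorem L206994 : sm gc N19230 = N19117 := ded_25_1 (flp_e L205933) (flp_c L202799) L206992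
theorem L206996 : sm gf N19230 = N19230 := ded_35_2 (flp_e L206992) (flp_f L202797) L197635 L202797 L206992
theorem L206997 : sm gg N18823 = N19231 := rfl
theorem L206999 : sm gc N19231 = N19118 := ded_27_1 (flp_g L205938) (flp_c L202799) L206997
theorem L207001 : sm gd N19231 = N18825 := ded_32_1 (flp_g L202810) (flp_d L202801) L206997
theorem L207003 : sm gh N18823 = N19232 := rfl
theorem L207005 : sm gc N19232 = N18998 := ded_28_1 L204701 (flp_c L202799) L207003
theorem L207007 : sm gf N19232 = N18824 := ded_40_1 (flp_h L202803) L202797 L207003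
theorem L207009 : sm gd N19232 = N18828 := ded_33_1 (flp_h L202828) L197660 (flp_h L197640) (flp_d L202801) L207003
theorem L207011 : sm gi N18824 = N19233 := rfl
theorem L207013 : sm gb N19233 = N19168 := ded_23_1 L206456 L205037 L207011
theorem L207015 : sm gc N19233 = N18991 := ded_29_1 L204630 (flp_c L202805) L207011
theorem L207017 : sm gd N19233 = N18829 := ded_34_1 (flp_i L202834) (flp_d L202808) L207011
theorem L207019 : sm ge N19233 = N19233 := ded_38_1 (flp_i L207011) L202807 L207011
theorem L207020 : sm gh N18827 = N19234 := rfl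
theorem L207022 : sm gc N19234 = N18832 := ded_28_1 (flp_h L202860) (flp_c L202824) L207020
theorem L207024 : sm gg N19234 = N18828 := ded_42_1 (flp_h L202828) L202822 L207020
theorem L207026 : sm gi N18828 = N19235 := rfl
theorem L207028 : sm gb N19235 = N19169 := ded_23_1 L206469 L205050 L207026
theorem L207030 : sm gc N19235 = N18833 := ded_29_1 (flp_i L202866) (flp_c L202830) L207026
theorem L207032 : sm gf N19235 = N18829 := ded_41_1 (flp_i L202834) (flp_f L202832) L207026
theorem L207034 : sm gh N18830 = N19236 := rfl
theorem L207036 : sm ga N19236 = N18845 := ded_15_1 L202988 (flp_a L202844) L207034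
theorem L207038 : sm gb N19236 = N18897 := ded_22_1 L203458 (flp_b L202846) L207034
theorem L207040 : sm ge N19236 = N18832 := ded_37_1 (flp_h L202860) (flp_e L202848) L207034
theorem L207042 : sm gg N19236 = N18831 := ded_42_1 (flp_h L202850) L202842 L207034
theorem L207044 : sm gd N18831 = N19237 := rfl
theorem L207046 : sm ga N19237 = N18844 := ded_11_1 L202978 (flp_a L202852) L207044
theorem L207048 : sm gb N19237 = N18896 := ded_18_1 L203452 (flp_b L202854) L207044
theorem L207050 : sm gf N19237 = N18843 := ded_31_2 (flp_d L202962) (flp_f L202858) L207044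
theorem L207052 : sm ge N19237 = N19062 := ded_30_2 L205361 L200566 (flp_d L197688) (flp_e L202856) L207044
theorem L207054 : sm gh N19237 = N19127 := ded_33_2 L206027 L204168 L199268 L202850 L207044
theorem L207056 : sm gi N18831 = N19238 := rfl
theorem L207058 : sm ga N19238 = N18840 := ded_16_1 L202940 (flp_a L202852) L207056
theorem L207060 : sm gb N19238 = N18890 := ded_23_1 L203400 (flp_b L202854) L207056
theorem L207062 : sm ge N19238 = N18833 := ded_38_1 (flp_i L202866) (flp_e L202856) L207056
theorem L207064 : sm gf N19238 = N18838 := ded_41_1 L202924 (flp_f L202858) L207056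
theorem L207066 : sm gi N18832 = N19239 := rfl
theorem L207068 : sm gb N19239 = N19178 := ded_23_1 L206542 L204112 L207066
theorem L207070 : sm gd N19239 = N19119 := ded_34_1 (flp_i L205944) (flp_d L202864) L207066
theorem L207072 : sm gg N19239 = N18833 := ded_43_1 (flp_i L202866) (flp_g L202862) L207066
theorem L207074 : sm gg N18835 = N19240 := rfl
theorem L207076 : sm ga N19240 = N18886 := ded_14_1 (flp_g L203350) (flp_a L202888) L207074
theorem L207078 : sm gc N19240 = N18836 := ded_27_1 (flp_g L202898) (flp_c L202890) L207074
theorem L207080 : sm gd N19240 = N19051 := ded_32_1 (flp_g L205253) (flp_d L202892) L207074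
theorem L207082 : sm ge N19240 = N18842 := ded_36_1 (flp_g L202954) (flp_e L202896) L207074
theorem L207084 : sm gi N19240 = N18837 := ded_43_2 (flp_g L202906) (flp_i L202894) L207074
theorem L207086 : sm gd N18838 = N19241 := rfl
theorem L207088 : sm ga N19241 = N18839 := ded_11_1 (flp_d L202926) (flp_a L202920) L207086
theorem L207090 : sm gb N19241 = N18889 := ded_18_1 (flp_d L203384) (flp_b L202922) L207086
theorem L207092 : sm gg N19241 = N19150 := ded_32_2 L206282 L203681 L207086
theorem L207094 : sm gi N19241 = N18843 := ded_34_2 (flp_d L202962) (flp_i L202924) L207086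
theorem L207096 : sm ge N19241 = N18847 := ded_30_2 (flp_d L203004) (flp_e L197848) (flp_d L197750) L202918 L207086
theorem L207098 : sm gf N18839 = N19242 := rfl
theorem L207100 : sm gb N19242 = N18841 := ded_20_1 (flp_f L202942) (flp_b L202928) L207098
theorem L207102 : sm gd N19242 = N18840 := ded_31_1 (flp_f L202936) L202926 L207098
theorem L207104 : sm gi N19242 = N18844 := ded_41_2 (flp_f L202974) (flp_i L202932) L207098
theorem L207106 : sm ge N19242 = N19056 := ded_35_1 (flp_f L205303) L200516 (flp_f L197866) (flp_e L202934) L207098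
theorem L207108 : sm gg N18840 = N19243 := rfl
theorem L207110 : sm gb N19243 = N18842 := ded_21_1 (flp_g L202954) (flp_b L202938) L207108
theorem L207112 : sm gi N19243 = N18845 := ded_43_2 (flp_g L202984) (flp_i L202940) L207108
theorem L207114 : sm gg N18841 = N19244 := rfl
theorem L207116 : sm ga N19244 = N18894 := ded_14_1 (flp_g L203430) (flp_a L202944) L207114
theorem L207118 : sm gc N19244 = N19120 := ded_27_1 (flp_g L205948) (flp_c L202946) L207114
theorem L207120 : sm gd N19244 = N18842 := ded_32_1 (flp_g L202954) (flp_d L202948) L207114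
theorem L207122 : sm ge N19244 = N19059 := ded_36_1 (flp_g L205327) (flp_e L202952) L207114
theorem L207124 : sm gi N19244 = N18846 := ded_43_2 (flp_g L202990) (flp_i L202950) L207114
theorem L207126 : sm gf N19244 = N19152 := ded_39_1 (flp_g L206290) (flp_f L201870) (flp_g L197768) L202942 L207114
theorem L207128 : sm gg N18844 = N19245 := rfl
theorem L207130 : sm gb N19245 = N18846 := ded_21_1 (flp_g L202990) (flp_b L202976) L207128
theorem L207132 : sm gd N19245 = N18845 := ded_32_1 (flp_g L202984) (flp_d L202978) L207128
theorem L207134 : sm ge N19245 = N19065 := ded_36_1 (flp_g L205383) (flp_e L202982) L207128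
theorem L207136 : sm gh N19245 = N19128 := ded_42_2 (flp_g L206031) (flp_h L202980) L207128
theorem L207138 : sm gf N19245 = N19154 := ded_39_1 (flp_g L206306) (flp_f L201892) (flp_g L197804) L202974 L207128
theorem L207140 : sm gf N18848 = N19246 := rfl
theorem L207142 : sm ga N19246 = N19193 := ded_13_1 (flp_f L206705) (flp_a L203018) L207140
theorem L207144 : sm gc N19246 = N19068 := ded_26_1 (flp_f L205419) (flp_c L203022) L207140
theorem L207146 : sm gd N19246 = N18849 := ded_31_1 (flp_f L203025) L203016 L207140
theorem L207148 : sm gg N18849 = N19247 := rfl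
theorem L207150 : sm ga N19247 = N19195 := ded_14_1 (flp_g L206722) (flp_a L203027) L207148
theorem L207152 : sm gc N19247 = N18850 := ded_27_1 (flp_g L203035) (flp_c L203029) L207148
theorem L207154 : sm ge N19247 = N18860 := ded_36_1 (flp_g L203120) (flp_e L203033) L207148
theorem L207156 : sm gh N19247 = N18866 := ded_42_2 (flp_g L203182) (flp_h L203031) L207148
theorem L207158 : sm gf N19247 = N19082 := ded_39_1 (flp_g L205566) (flp_f L200854) (flp_g L197904) L203025 L207148
theorem L207160 : sm ge N18851 = N19248 := rfl
theorem L207162 : sm ga N19248 = N18852 := ded_12_1 (flp_e L203058) L203049 L207160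
theorem L207164 : sm gc N19248 = N19241 := ded_25_1 L207096 (flp_c L203051) L207160
theorem L207166 : sm gh N19248 = N19150 := ded_37_2 (flp_e L206274) (flp_h L203054) L207160
theorem L207168 : sm gi N19248 = N18856 := ded_38_2 (flp_e L203091) (flp_i L203056) L207160
theorem L207170 : sm gd N18852 = N19249 := rfl
theorem L207172 : sm gb N19249 = N18853 := ded_18_1 (flp_d L203068) (flp_b L203060) L207170
theorem L207174 : sm gi N19249 = N18857 := ded_34_2 (flp_d L203099) (flp_i L203066) L207170
theorem L207176 : sm gc N19249 = N19223 := ded_24_1 (flp_d L206944) L202759 L202926 (flp_c L203062) L207170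
theorem L207178 : sm ge N19249 = N19249 := ded_30_2 (flp_d L207170) (flp_e L203058) L197922 L203058 L207170
theorem L207179 : sm gf N18852 = N19250 := rfl
theorem L207181 : sm gb N19250 = N18854 := ded_20_1 (flp_f L203075) (flp_b L203060) L207179
theorem L207183 : sm gc N19250 = N19242 := ded_26_1 (flp_f L207098) (flp_c L203062) L207179
theorem L207185 : sm gh N19250 = N19151 := ded_40_2 (flp_f L206284) (flp_h L203064) L207179
theorem L207187 : sm gi N19250 = N18858 := ded_41_2 (flp_f L203106) (flp_i L203066) L207179
theorem L207189 : sm gf N18853 = N19251 := rfl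
theorem L207191 : sm gc N19251 = N18877 := ded_26_1 (flp_f L203276) (flp_c L203072) L207189
theorem L207193 : sm gd N19251 = N18854 := ded_31_1 (flp_f L203075) L203068 L207189
theorem L207195 : sm gi N19251 = N18859 := ded_41_2 (flp_f L203114) (flp_i L203070) L207189
theorem L207197 : sm gg N18854 = N19252 := rfl
theorem L207199 : sm gc N19252 = N18855 := ded_27_1 (flp_g L203083) (flp_c L203077) L207197
theorem L207201 : sm gh N19252 = N19152 := ded_42_2 (flp_g L206290) (flp_h L203079) L207197
theorem L207203 : sm gi N19252 = N18860 := ded_43_2 (flp_g L203120) (flp_i L203081) L207197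
theorem L207205 : sm gd N18856 = N19253 := rfl
theorem L207207 : sm ga N19253 = N18857 := ded_11_1 (flp_d L203099) (flp_a L203093) L207205
theorem L207209 : sm gg N19253 = N19218 := ded_32_2 L206919 L206139 L207205
theorem L207211 : sm gc N19253 = N19163 := ded_24_1 (flp_d L206395) L201997 L202962 (flp_c L203095) L207205
theorem L207213 : sm ge N19253 = N19253 := ded_30_2 (flp_d L207205) (flp_e L203091) L197949 L203091 L207205
theorem L207214 : sm gh N19253 = N19168 := ded_33_2 (flp_d L206450) L202058 L199477 (flp_h L203097) L207205
theorem L207216 : sm gf N18856 = N19254 := rfl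
theorem L207218 : sm ga N19254 = N18858 := ded_13_1 (flp_f L203106) (flp_a L203093) L207216
theorem L207220 : sm gc N19254 = N19237 := ded_26_1 L207050 (flp_c L203095) L207216
theorem L207222 : sm gh N19254 = N18867 := ded_40_2 (flp_f L203190) (flp_h L203097) L207216
theorem L207224 : sm gf N18857 = N19255 := rfl
theorem L207226 : sm gb N19255 = N18859 := ded_20_1 (flp_f L203114) (flp_b L203101) L207224
theorem L207228 : sm gc N19255 = N19228 := ded_26_1 (flp_f L206978) (flp_c L203103) L207224
theorem L207230 : sm gd N19255 = N18858 := ded_31_1 (flp_f L203106) L203099 L207224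
theorem L207232 : sm gg N18858 = N19256 := rfl
theorem L207234 : sm gb N19256 = N18860 := ded_21_1 (flp_g L203120) (flp_b L203108) L207232
theorem L207236 : sm gc N19256 = N19245 := ded_27_1 (flp_g L207128) (flp_c L203110) L207232
theorem L207238 : sm gh N19256 = N18868 := ded_42_2 (flp_g L203196) (flp_h L203112) L207232
theorem L207240 : sm ge N18859 = N19257 := rfl
theorem L207242 : sm gc N19257 = N18880 := ded_25_1 (flp_e L203295) (flp_c L203116) L207240
theorem L207244 : sm gf N19257 = N19257 := ded_35_2 (flp_e L207240) (flp_f L203114) L197964 L203114 L207240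
theorem L207245 : sm gg N18859 = N19258 := rfl
theorem L207247 : sm gc N19258 = N18881 := ded_27_1 (flp_g L203298) (flp_c L203116) L207245
theorem L207249 : sm gd N19258 = N18860 := ded_32_1 (flp_g L203120) (flp_d L203118) L207245
theorem L207251 : sm gg N18861 = N19259 := rfl
theorem L207253 : sm gc N19259 = N18862 := ded_27_1 (flp_g L203136) (flp_c L203128) L207251
theorem L207255 : sm ge N19259 = N19188 := ded_36_1 (flp_g L206656) (flp_e L203134) L207251
theorem L207257 : sm gh N19259 = N19082 := ded_42_2 (flp_g L205566) (flp_h L203130) L207251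
theorem L207259 : sm gi N19259 = N19155 := ded_43_2 (flp_g L206312) (flp_i L203132) L207251
theorem L207261 : sm gf N19259 = N18866 := ded_39_1 (flp_g L203182) (flp_f L198031) (flp_g L197981) L203126 L207251
theorem L207263 : sm gf N18863 = N19260 := rfl
theorem L207265 : sm ga N19260 = N18864 := ded_13_1 (flp_f L203160) (flp_a L203150) L207263
theorem L207267 : sm gc N19260 = N18896 := ded_26_1 (flp_f L203448) (flp_c L203152) L207263
theorem L207269 : sm gd N19260 = N19145 := ded_31_1 (flp_f L206220) (flp_d L203158) L207263
theorem L207271 : sm gi N19260 = N19148 := ded_41_2 (flp_f L206256) (flp_i L203156) L207263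
theorem L207273 : sm ge N19260 = N18867 := ded_35_1 (flp_f L203190) (flp_e L198049) (flp_f L198003) L203148 L207263
theorem L207275 : sm gg N18864 = N19261 := rfl
theorem L207277 : sm gb N19261 = N18866 := ded_21_1 (flp_g L203182) (flp_b L203162) L207275
theorem L207279 : sm gc N19261 = N18898 := ded_27_1 (flp_g L203460) (flp_c L203164) L207275
theorem L207281 : sm gd N19261 = N19259 := ded_32_1 (flp_g L207251) (flp_d L203166) L207275
theorem L207283 : sm ge N19261 = N18868 := ded_36_1 (flp_g L203196) (flp_e L203170) L207275
theorem L207285 : sm gi N19261 = N19156 := ded_43_2 (flp_g L206324) (flp_i L203168) L207275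
theorem L207287 : sm gg N18865 = N19262 := rfl
theorem L207289 : sm gb N19262 = N19259 := ded_21_1 (flp_g L207251) (flp_b L203174) L207287
theorem L207291 : sm gc N19262 = N19189 := ded_27_1 (flp_g L206668) (flp_c L203176) L207287
theorem L207293 : sm gd N19262 = N18866 := ded_32_1 (flp_g L203182) (flp_d L203178) L207287
theorem L207295 : sm gi N19262 = N19157 := ded_43_2 (flp_g L206332) (flp_i L203180) L207287
theorem L207297 : sm gf N19262 = N19261 := ded_39_1 (flp_g L207275) (flp_f L203160) (flp_g L198023) L203172 L207287
theorem L207299 : sm gg N18867 = N19263 := rfl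
theorem L207301 : sm ga N19263 = N18868 := ded_14_1 (flp_g L203196) (flp_a L203192) L207299
theorem L207303 : sm gi N19263 = N19158 := ded_43_2 (flp_g L206340) (flp_i L203194) L207299
theorem L207305 : sm gf N18869 = N19264 := rfl
theorem L207307 : sm ga N19264 = N19004 := ded_13_1 (flp_f L204754) (flp_a L203204) L207305
theorem L207309 : sm gb N19264 = N19121 := ded_20_1 (flp_f L205962) (flp_b L203206) L207305
theorem L207311 : sm gc N19264 = N18875 := ded_26_1 (flp_f L203264) (flp_c L203210) L207305
theorem L207313 : sm gd N19264 = N18870 := ded_31_1 (flp_f L203215) L203202 L207305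
theorem L207315 : sm gh N19264 = N19023 := ded_40_2 (flp_f L204982) (flp_h L203213) L207305
theorem L207317 : sm gg N18870 = N19265 := rfl
theorem L207319 : sm ga N19265 = N19005 := ded_14_1 (flp_g L204764) (flp_a L203217) L207317
theorem L207321 : sm gb N19265 = N19122 := ded_21_1 (flp_g L205968) (flp_b L203219) L207317
theorem L207323 : sm gc N19265 = N18871 := ded_27_1 (flp_g L203227) (flp_c L203221) L207317
theorem L207325 : sm ge N19265 = N19069 := ded_36_1 (flp_g L205427) (flp_e L203225) L207317
theorem L207327 : sm gh N19265 = N18944 := ded_42_2 (flp_g L204058) (flp_h L203223) L207317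
theorem L207329 : sm gf N19265 = N19096 := ded_39_1 (flp_g L205697) (flp_f L201063) (flp_g L198075) L203215 L207317
theorem L207331 : sm gf N18872 = N19266 := rfl
theorem L207333 : sm gd N19266 = N18873 := ded_31_1 (flp_f L203246) L203241 L207331
theorem L207335 : sm gi N19266 = N18875 := ded_41_2 (flp_f L203264) (flp_i L203243) L207331
theorem L207337 : sm gg N18873 = N19267 := rfl
theorem L207339 : sm gc N19267 = N18874 := ded_27_1 (flp_g L203256) (flp_c L203248) L207337
theorem L207341 : sm ge N19267 = N18879 := ded_36_1 (flp_g L203287) (flp_e L203254) L207337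
theorem L207343 : sm gh N19267 = N18886 := ded_42_2 (flp_g L203350) (flp_h L203250) L207337
theorem L207345 : sm gi N19267 = N18876 := ded_43_2 (flp_g L203268) (flp_i L203252) L207337
theorem L207347 : sm ge N18875 = N19268 := rfl
theorem L207349 : sm gd N19268 = N18880 := ded_30_1 (flp_e L203295) L198145 (flp_e L198116) (flp_d L203266) L207347
theorem L207351 : sm gf N19268 = N19268 := ded_35_2 (flp_e L207347) (flp_f L203264) L198109 L203264 L207347
theorem L207352 : sm gg N18875 = N19269 := rfl
theorem L207354 : sm gd N19269 = N18876 := ded_32_1 (flp_g L203268) (flp_d L203266) L207352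
theorem L207356 : sm ge N18877 = N19270 := rfl
theorem L207358 : sm gi N19270 = N18880 := ded_38_2 (flp_e L203295) (flp_i L203280) L207356
theorem L207360 : sm gf N19270 = N19270 := ded_35_2 (flp_e L207356) (flp_f L203276) L198128 L203276 L207356
theorem L207361 : sm gg N18877 = N19271 := rfl
theorem L207363 : sm gd N19271 = N18879 := ded_32_1 (flp_g L203287) (flp_d L203278) L207361
theorem L207365 : sm gi N19271 = N18881 := ded_43_2 (flp_g L203298) (flp_i L203280) L207361
theorem L207367 : sm gh N18877 = N19272 := rfl
theorem L207369 : sm gf N19272 = N18878 := ded_40_1 (flp_h L203282) L203276 L207367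
theorem L207371 : sm gd N19272 = N18895 := ded_33_1 (flp_h L203440) L198291 (flp_h L198133) (flp_d L203278) L207367
theorem L207373 : sm gg N18880 = N19273 := rfl
theorem L207375 : sm ge N19273 = N18881 := ded_36_1 (flp_g L203298) L203295 L207373
theorem L207377 : sm gg N18884 = N19274 := rfl
theorem L207379 : sm ga N19274 = N19178 := ded_14_1 (flp_g L206538) (flp_a L203324) L207377
theorem L207381 : sm gb N19274 = N18886 := ded_21_1 (flp_g L203350) (flp_b L203326) L207377
theorem L207383 : sm gc N19274 = N19093 := ded_27_1 (flp_g L205657) (flp_c L203328) L207377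
theorem L207385 : sm gd N19274 = N19179 := ded_32_1 (flp_g L206546) (flp_d L203330) L207377
theorem L207387 : sm ge N19274 = N18893 := ded_36_1 (flp_g L203424) (flp_e L203334) L207377
theorem L207389 : sm gi N19274 = N18887 := ded_43_2 (flp_g L203358) (flp_i L203332) L207377
theorem L207391 : sm gg N18885 = N19275 := rfl
theorem L207393 : sm ga N19275 = N19051 := ded_14_1 (flp_g L205253) (flp_a L203338) L207391
theorem L207395 : sm gb N19275 = N19179 := ded_21_1 (flp_g L206546) (flp_b L203340) L207391
theorem L207397 : sm gc N19275 = N18949 := ded_27_1 (flp_g L204136) (flp_c L203342) L207391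
theorem L207399 : sm gd N19275 = N18886 := ded_32_1 (flp_g L203350) (flp_d L203344) L207391
theorem L207401 : sm ge N19275 = N18950 := ded_36_1 (flp_g L204148) (flp_e L203348) L207391
theorem L207403 : sm gi N19275 = N18888 := ded_43_2 (flp_g L203368) (flp_i L203346) L207391
theorem L207405 : sm gf N19275 = N19274 := ded_39_1 (flp_g L207377) (flp_f L203322) (flp_g L198209) L203336 L207391
theorem L207407 : sm gf N18889 = N19276 := rfl
theorem L207409 : sm ga N19276 = N18891 := ded_13_1 (flp_f L203404) (flp_a L203386) L207407
theorem L207411 : sm gc N19276 = N19148 := ded_26_1 (flp_f L206256) (flp_c L203390) L207407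
theorem L207413 : sm gd N19276 = N18890 := ded_31_1 (flp_f L203394) L203384 L207407
theorem L207415 : sm gi N19276 = N18896 := ded_41_2 (flp_f L203448) (flp_i L203388) L207407
theorem L207417 : sm ge N19276 = N19141 := ded_35_1 (flp_f L206176) (flp_e L201746) (flp_f L198379) (flp_e L203392) L207407
theorem L207419 : sm gh N18889 = N19277 := rfl
theorem L207421 : sm ga N19277 = N18892 := ded_15_1 (flp_h L203416) (flp_a L203386) L207419
theorem L207423 : sm gc N19277 = N19087 := ded_28_1 L205613 (flp_c L203390) L207419
theorem L207425 : sm ge N19277 = N18900 := ded_37_1 (flp_h L203484) (flp_e L203392) L207419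
theorem L207427 : sm gg N18890 = N19278 := rfl
theorem L207429 : sm ga N19278 = N18893 := ded_14_1 (flp_g L203424) (flp_a L203396) L207427
theorem L207431 : sm gc N19278 = N19143 := ded_27_1 (flp_g L206194) (flp_c L203398) L207427
theorem L207433 : sm ge N19278 = N19178 := ded_36_1 (flp_g L206538) (flp_e L203402) L207427
theorem L207435 : sm gi N19278 = N18897 := ded_43_2 (flp_g L203454) (flp_i L203400) L207427
theorem L207437 : sm gg N18891 = N19279 := rfl
theorem L207439 : sm gb N19279 = N18894 := ded_21_1 (flp_g L203430) (flp_b L203406) L207437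
theorem L207441 : sm gc N19279 = N19156 := ded_27_1 (flp_g L206324) (flp_c L203408) L207437
theorem L207443 : sm gd N19279 = N18893 := ded_32_1 (flp_g L203424) (flp_d L203410) L207437
theorem L207445 : sm ge N19279 = N19142 := ded_36_1 (flp_g L206184) (flp_e L203414) L207437
theorem L207447 : sm gi N19279 = N18898 := ded_43_2 (flp_g L203460) (flp_i L203412) L207437
theorem L207449 : sm gh N18891 = N19280 := rfl
theorem L207451 : sm gb N19280 = N18895 := ded_22_1 (flp_h L203440) (flp_b L203406) L207449
theorem L207453 : sm gc N19280 = N19147 := ded_28_1 L206252 (flp_c L203408) L207449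
theorem L207455 : sm ge N19280 = N19138 := ded_37_1 L206160 (flp_e L203414) L207449
theorem L207457 : sm gf N19280 = N18892 := ded_40_1 (flp_h L203416) L203404 L207449
theorem L207459 : sm gh N18894 = N19281 := rfl
theorem L207461 : sm gc N19281 = N19130 := ded_28_1 L206059 (flp_c L203432) L207459
theorem L207463 : sm ge N19281 = N19140 := ded_37_1 L206172 (flp_e L203436) L207459
theorem L207465 : sm gg N19281 = N18895 := ded_42_1 (flp_h L203440) L203430 L207459
theorem L207467 : sm gg N18896 = N19282 := rfl
theorem L207469 : sm ga N19282 = N18898 := ded_14_1 (flp_g L203460) (flp_a L203450) L207467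
theorem L207471 : sm gd N19282 = N18897 := ded_32_1 (flp_g L203454) (flp_d L203452) L207467
theorem L207473 : sm gf N18901 = N19283 := rfl
theorem L207475 : sm ga N19283 = N18908 := ded_13_1 (flp_f L203591) (flp_a L203495) L207473
theorem L207477 : sm gb N19283 = N19095 := ded_20_1 (flp_f L205687) (flp_b L203497) L207473
theorem L207479 : sm gc N19283 = N19266 := ded_26_1 (flp_f L207331) (flp_c L203503) L207473
theorem L207481 : sm gd N19283 = N18902 := ded_31_1 (flp_f L203508) L203493 L207473
theorem L207483 : sm gh N19283 = N19112 := ded_40_2 (flp_f L205892) (flp_h L203506) L207473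
theorem L207485 : sm gi N19283 = N19264 := ded_41_2 (flp_f L207305) (flp_i L203501) L207473
theorem L207487 : sm gg N18902 = N19284 := rfl
theorem L207489 : sm ga N19284 = N18910 := ded_14_1 (flp_g L203608) (flp_a L203510) L207487
theorem L207491 : sm gb N19284 = N19096 := ded_21_1 (flp_g L205697) (flp_b L203512) L207487
theorem L207493 : sm gc N19284 = N18903 := ded_27_1 (flp_g L203522) (flp_c L203514) L207487
theorem L207495 : sm ge N19284 = N19074 := ded_36_1 (flp_g L205482) (flp_e L203520) L207487
theorem L207497 : sm gh N19284 = N18928 := ded_42_2 (flp_g L203853) (flp_h L203516) L207487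
theorem L207499 : sm gi N19284 = N19265 := ded_43_2 (flp_g L207317) (flp_i L203518) L207487
theorem L207501 : sm gf N19284 = N19122 := ded_39_1 (flp_g L205968) (flp_f L201484) (flp_g L198402) L203508 L207487
theorem L207503 : sm gd N18904 = N19285 := rfl
theorem L207505 : sm ga N19285 = N19199 := ded_11_1 L206749 (flp_a L203540) L207503
theorem L207507 : sm gb N19285 = N18905 := ded_18_1 (flp_d L203552) (flp_b L203542) L207503
theorem L207509 : sm gg N19285 = N19037 := ded_32_2 (flp_d L205124) (flp_g L203546) L207503
theorem L207511 : sm gi N19285 = N19006 := ded_34_2 (flp_d L204778) (flp_i L203550) L207503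
theorem L207513 : sm gc N19285 = N19191 := ded_24_1 (flp_d L206690) L202493 (flp_d L198593) (flp_c L203544) L207503
theorem L207515 : sm ge N19285 = N19285 := ded_30_2 (flp_d L207503) (flp_e L203538) L198424 L203538 L207503
theorem L207516 : sm gf N18904 = N19286 := rfl
theorem L207518 : sm ga N19286 = N19213 := ded_13_1 L206875 (flp_a L203540) L207516
theorem L207520 : sm gb N19286 = N18906 := ded_20_1 (flp_f L203563) (flp_b L203542) L207516
theorem L207522 : sm gc N19286 = N18920 := ded_26_1 (flp_f L203741) (flp_c L203544) L207516
theorem L207524 : sm gh N19286 = N19100 := ded_40_2 L205749 (flp_h L203548) L207516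
theorem L207526 : sm gi N19286 = N19007 := ded_41_2 (flp_f L204789) (flp_i L203550) L207516
theorem L207528 : sm ge N19286 = N19215 := ded_35_1 (flp_f L206886) (flp_e L202691) (flp_f L198425) L203538 L207516
theorem L207530 : sm gf N18905 = N19287 := rfl
theorem L207532 : sm ga N19287 = N19266 := ded_13_1 (flp_f L207331) (flp_a L203554) L207530
theorem L207534 : sm gc N19287 = N18908 := ded_26_1 (flp_f L203591) (flp_c L203560) L207530
theorem L207536 : sm gd N19287 = N18906 := ded_31_1 (flp_f L203563) L203552 L207530
theorem L207538 : sm gi N19287 = N19008 := ded_41_2 (flp_f L204801) (flp_i L203558) L207530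
theorem L207540 : sm gg N18906 = N19288 := rfl
theorem L207542 : sm ga N19288 = N19267 := ded_14_1 (flp_g L207337) (flp_a L203565) L207540
theorem L207544 : sm gc N19288 = N18907 := ded_27_1 (flp_g L203575) (flp_c L203567) L207540
theorem L207546 : sm ge N19288 = N19217 := ded_36_1 (flp_g L206902) (flp_e L203573) L207540
theorem L207548 : sm gh N19288 = N19240 := ded_42_2 (flp_g L207074) (flp_h L203569) L207540
theorem L207550 : sm gi N19288 = N19009 := ded_43_2 (flp_g L204811) (flp_i L203571) L207540
theorem L207552 : sm gf N19288 = N19040 := ded_39_1 (flp_g L205147) (flp_f L200341) (flp_g L198443) L203563 L207540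
theorem L207554 : sm ge N18908 = N19289 := rfl
theorem L207556 : sm gb N19289 = N19196 := ded_19_1 (flp_e L206728) (flp_b L203593) L207554
theorem L207558 : sm gd N19289 = N19083 := ded_30_1 (flp_e L205570) L200866 (flp_e L198476) (flp_d L203595) L207554
theorem L207560 : sm gf N19289 = N19289 := ded_35_2 (flp_e L207554) (flp_f L203591) L198467 L203591 L207554
theorem L207561 : sm gg N18908 = N19290 := rfl
theorem L207563 : sm gb N19290 = N19197 := ded_21_1 (flp_g L206733) (flp_b L203593) L207561
theorem L207565 : sm gd N19290 = N18910 := ded_32_1 (flp_g L203608) (flp_d L203595) L207561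
theorem L207567 : sm gh N18908 = N19291 := rfl
theorem L207569 : sm ga N19291 = N19112 := ded_15_1 (flp_h L207483) L207475 L207567
theorem L207571 : sm gb N19291 = N19198 := ded_22_1 (flp_h L206739) (flp_b L203593) L207567
theorem L207573 : sm gf N19291 = N18909 := ded_40_1 (flp_h L203597) L203591 L207567
theorem L207575 : sm gd N19291 = N18931 := ded_33_1 (flp_h L203903) L198795 (flp_h L198474) (flp_d L203595) L207567
theorem L207577 : sm gd N18911 = N19292 := rfl
theorem L207579 : sm ga N19292 = N19233 := ded_11_1 L207017 (flp_a L203620) L207577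
theorem L207581 : sm gb N19292 = N18912 := ded_18_1 (flp_d L203632) (flp_b L203622) L207577
theorem L207583 : sm gg N19292 = N18991 := ded_32_2 (flp_d L204626) (flp_g L203626) L207577
theorem L207585 : sm gi N19292 = N18969 := ded_34_2 (flp_d L204384) (flp_i L203630) L207577
theorem L207587 : sm ge N19292 = N19292 := ded_30_2 (flp_d L207577) (flp_e L203618) L198488 L203618 L207577
theorem L207588 : sm gh N19292 = N19201 := ded_33_2 (flp_d L206762) L202550 (flp_d L198593) (flp_h L203628) L207577
theorem L207590 : sm gf N18911 = N19293 := rfl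
theorem L207592 : sm ga N19293 = N19235 := ded_13_1 L207032 (flp_a L203620) L207590
theorem L207594 : sm gb N19293 = N18913 := ded_20_1 (flp_f L203645) (flp_b L203622) L207590
theorem L207596 : sm gc N19293 = N19100 := ded_26_1 L205749 (flp_c L203624) L207590
theorem L207598 : sm gh N19293 = N18920 := ded_40_2 (flp_f L203741) (flp_h L203628) L207590
theorem L207600 : sm gi N19293 = N18970 := ded_41_2 (flp_f L204395) (flp_i L203630) L207590
theorem L207602 : sm ge N19293 = N19224 := ded_35_1 (flp_f L206951) (flp_e L202755) (flp_f L198489) L203618 L207590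
theorem L207604 : sm gf N18912 = N19294 := rfl
theorem L207606 : sm ga N19294 = N18961 := ded_13_1 (flp_f L204296) (flp_a L203634) L207604
theorem L207608 : sm gc N19294 = N18940 := ded_26_1 (flp_f L204010) (flp_c L203640) L207604
theorem L207610 : sm gd N19294 = N18913 := ded_31_1 (flp_f L203645) L203632 L207604
theorem L207612 : sm gh N19294 = N19203 := ded_40_2 (flp_f L206775) (flp_h L203643) L207604
theorem L207614 : sm gi N19294 = N18971 := ded_41_2 (flp_f L204407) (flp_i L203638) L207604
theorem L207616 : sm gg N18913 = N19295 := rfl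
theorem L207618 : sm ga N19295 = N18962 := ded_14_1 (flp_g L204304) (flp_a L203647) L207616
theorem L207620 : sm gc N19295 = N18914 := ded_27_1 (flp_g L203657) (flp_c L203649) L207616
theorem L207622 : sm ge N19295 = N19227 := ded_36_1 (flp_g L206972) (flp_e L203655) L207616
theorem L207624 : sm gh N19295 = N18921 := ded_42_2 (flp_g L203749) (flp_h L203651) L207616
theorem L207626 : sm gi N19295 = N18972 := ded_43_2 (flp_g L204413) (flp_i L203653) L207616
theorem L207628 : sm gf N19295 = N18995 := ded_39_1 (flp_g L204662) (flp_f L199781) (flp_g L198507) L203645 L207616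
theorem L207630 : sm gf N18915 = N19296 := rfl
theorem L207632 : sm ga N19296 = N19184 := ded_13_1 (flp_f L206612) (flp_a L203675) L207630
theorem L207634 : sm gb N19296 = N18917 := ded_20_1 (flp_f L203699) (flp_b L203677) L207630
theorem L207636 : sm gc N19296 = N19215 := ded_26_1 (flp_f L206886) (flp_c L203679) L207630
theorem L207638 : sm gh N19296 = N19224 := ded_40_2 (flp_f L206951) (flp_h L203683) L207630
theorem L207640 : sm gi N19296 = N19012 := ded_41_2 (flp_f L204853) (flp_i L203685) L207630
theorem L207642 : sm ge N19296 = N18920 := ded_35_1 (flp_f L203741) (flp_e L198585) (flp_f L198531) L203673 L207630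
theorem L207644 : sm gf N18916 = N19297 := rfl
theorem L207646 : sm ga N19297 = N18964 := ded_13_1 (flp_f L204324) (flp_a L203689) L207644
theorem L207648 : sm gc N19297 = N19089 := ded_26_1 (flp_f L205623) (flp_c L203695) L207644
theorem L207650 : sm gd N19297 = N18917 := ded_31_1 (flp_f L203699) L203687 L207644
theorem L207652 : sm gi N19297 = N19013 := ded_41_2 (flp_f L204865) (flp_i L203693) L207644
theorem L207654 : sm ge N19297 = N19208 := ded_35_1 (flp_f L206831) L202611 (flp_f L198619) (flp_e L203697) L207644
theorem L207656 : sm gh N18916 = N19298 := rfl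
theorem L207658 : sm ga N19298 = N18965 := ded_15_1 (flp_h L204336) (flp_a L203689) L207656
theorem L207660 : sm gb N19298 = N19248 := ded_22_1 L207166 L206278 L207656
theorem L207662 : sm gc N19298 = N19086 := ded_28_1 L205599 (flp_c L203695) L207656
theorem L207664 : sm ge N19298 = N18922 := ded_37_1 (flp_h L203761) (flp_e L203697) L207656
theorem L207666 : sm gg N19298 = N19277 := ded_42_1 (flp_h L207419) (flp_g L203691) L207656
theorem L207668 : sm gd N19298 = N19226 := ded_33_1 (flp_h L206967) (flp_d L202763) (flp_h L198551) L203687 L207656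
theorem L207670 : sm gi N19298 = N19200 := ded_44_2 L206760 L202645 L200942 (flp_i L203693) L207656
theorem L207672 : sm gg N18917 = N19299 := rfl
theorem L207674 : sm ga N19299 = N18966 := ded_14_1 (flp_g L204348) (flp_a L203701) L207672
theorem L207676 : sm gc N19299 = N18918 := ded_27_1 (flp_g L203711) (flp_c L203703) L207672
theorem L207678 : sm ge N19299 = N18921 := ded_36_1 (flp_g L203749) (flp_e L203709) L207672
theorem L207680 : sm gh N19299 = N19227 := ded_42_2 (flp_g L206972) (flp_h L203705) L207672
theorem L207682 : sm gi N19299 = N19014 := ded_43_2 (flp_g L204871) (flp_i L203707) L207672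
theorem L207684 : sm gf N19299 = N19278 := ded_39_1 (flp_g L207427) (flp_f L203394) (flp_g L198549) L203699 L207672
theorem L207686 : sm gf N18919 = N19300 := rfl
theorem L207688 : sm ga N19300 = N18920 := ded_13_1 (flp_f L203741) (flp_a L203727) L207686
theorem L207690 : sm gb N19300 = N18967 := ded_20_1 (flp_f L204360) (flp_b L203729) L207686
theorem L207692 : sm gc N19300 = N19213 := ded_26_1 L206875 (flp_c L203731) L207686
theorem L207694 : sm gd N19300 = N19210 := ded_31_1 (flp_f L206853) (flp_d L203739) L207686
theorem L207696 : sm gh N19300 = N19235 := ded_40_2 L207032 (flp_h L203735) L207686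
theorem L207698 : sm gi N19300 = N19015 := ded_41_2 (flp_f L204883) (flp_i L203737) L207686
theorem L207700 : sm ge N19300 = N19184 := ded_35_1 (flp_f L206612) (flp_e L202292) (flp_f L198575) L203725 L207686
theorem L207702 : sm gg N18920 = N19301 := rfl
theorem L207704 : sm gb N19301 = N18921 := ded_21_1 (flp_g L203749) (flp_b L203743) L207702
theorem L207706 : sm gd N19301 = N19211 := ded_32_1 (flp_g L206861) (flp_d L203745) L207702
theorem L207708 : sm gi N19301 = N19016 := ded_43_2 (flp_g L204895) (flp_i L203747) L207702
theorem L207710 : sm gf N19301 = N19058 := ded_39_1 (flp_g L205321) (flp_f L200518) (flp_g L198589) L203741 L207702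
theorem L207712 : sm gf N18924 = N19302 := rfl
theorem L207714 : sm ga N19302 = N18971 := ded_13_1 (flp_f L204407) (flp_a L203794) L207712
theorem L207716 : sm gb N19302 = N19172 := ded_20_1 (flp_f L206501) (flp_b L203796) L207712
theorem L207718 : sm gc N19302 = N18993 := ded_26_1 (flp_f L204643) (flp_c L203802) L207712
theorem L207720 : sm gd N19302 = N18925 := ded_31_1 (flp_f L203807) L203792 L207712
theorem L207722 : sm gh N19302 = N19165 := ded_40_2 (flp_f L206418) (flp_h L203805) L207712
theorem L207724 : sm gi N19302 = N18961 := ded_41_2 (flp_f L204296) (flp_i L203800) L207712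
theorem L207726 : sm gg N18925 = N19303 := rfl
theorem L207728 : sm ga N19303 = N18972 := ded_14_1 (flp_g L204413) (flp_a L203809) L207726
theorem L207730 : sm gb N19303 = N19173 := ded_21_1 (flp_g L206505) (flp_b L203811) L207726
theorem L207732 : sm gc N19303 = N18926 := ded_27_1 (flp_g L203821) (flp_c L203813) L207726
theorem L207734 : sm ge N19303 = N19098 := ded_36_1 (flp_g L205713) (flp_e L203819) L207726
theorem L207736 : sm gh N19303 = N18927 := ded_42_2 (flp_g L203837) (flp_h L203815) L207726
theorem L207738 : sm gi N19303 = N18962 := ded_43_2 (flp_g L204304) (flp_i L203817) L207726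
theorem L207740 : sm gf N19303 = N18941 := ded_39_1 (flp_g L204018) (flp_f L198888) (flp_g L198679) L203807 L207726
theorem L207742 : sm gh N18930 = N19304 := rfl
theorem L207744 : sm ga N19304 = N19113 := ded_15_1 L205906 (flp_a L203889) L207742
theorem L207746 : sm gb N19304 = N19212 := ded_22_1 (flp_h L206867) (flp_b L203891) L207742
theorem L207748 : sm gc N19304 = N18981 := ded_28_1 L204524 (flp_c L203893) L207742
theorem L207750 : sm ge N19304 = N19105 := ded_37_1 L205802 (flp_e L203897) L207742
theorem L207752 : sm gf N19304 = N18989 := ded_40_1 L204610 (flp_f L203901) L207742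
theorem L207754 : sm gg N19304 = N18931 := ded_42_1 (flp_h L203903) L203887 L207742
theorem L207756 : sm gf N18932 = N19305 := rfl
theorem L207758 : sm ga N19305 = N18988 := ded_13_1 (flp_f L204600) (flp_a L203917) L207756
theorem L207760 : sm gb N19305 = N19023 := ded_20_1 (flp_f L204982) (flp_b L203919) L207756
theorem L207762 : sm gd N19305 = N18933 := ded_31_1 (flp_f L203926) L203915 L207756
theorem L207764 : sm gh N19305 = N19121 := ded_40_2 (flp_f L205962) (flp_h L203924) L207756
theorem L207766 : sm gg N18933 = N19306 := rfl
theorem L207768 : sm ga N19306 = N18989 := ded_14_1 (flp_g L204604) (flp_a L203928) L207766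
theorem L207770 : sm gb N19306 = N19024 := ded_21_1 (flp_g L204988) (flp_b L203930) L207766
theorem L207772 : sm gc N19306 = N18934 := ded_27_1 (flp_g L203938) (flp_c L203932) L207766
theorem L207774 : sm ge N19306 = N18941 := ded_36_1 (flp_g L204018) (flp_e L203936) L207766
theorem L207776 : sm gh N19306 = N18942 := ded_42_2 (flp_g L204026) (flp_h L203934) L207766
theorem L207778 : sm gf N19306 = N19113 := ded_39_1 (flp_g L205898) (flp_f L201310) (flp_g L198831) L203926 L207766
theorem L207780 : sm gf N18935 = N19307 := rfl
theorem L207782 : sm ga N19307 = N18993 := ded_13_1 (flp_f L204643) (flp_a L203952) L207780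
theorem L207784 : sm gc N19307 = N18971 := ded_26_1 (flp_f L204407) (flp_c L203958) L207780
theorem L207786 : sm gd N19307 = N18936 := ded_31_1 (flp_f L203963) L203950 L207780
theorem L207788 : sm gh N19307 = N19139 := ded_40_2 (flp_f L206162) (flp_h L203961) L207780
theorem L207790 : sm gi N19307 = N18940 := ded_41_2 (flp_f L204010) (flp_i L203956) L207780
theorem L207792 : sm gg N18936 = N19308 := rfl
theorem L207794 : sm ga N19308 = N18995 := ded_14_1 (flp_g L204662) (flp_a L203965) L207792
theorem L207796 : sm gc N19308 = N18937 := ded_27_1 (flp_g L203973) (flp_c L203967) L207792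
theorem L207798 : sm gh N19308 = N18950 := ded_42_2 (flp_g L204148) (flp_h L203969) L207792
theorem L207800 : sm gi N19308 = N18941 := ded_43_2 (flp_g L204018) (flp_i L203971) L207792
theorem L207802 : sm gf N19308 = N18962 := ded_39_1 (flp_g L204304) (flp_f L199413) (flp_g L198851) L203963 L207792
theorem L207804 : sm gf N18938 = N19309 := rfl
theorem L207806 : sm ga N19309 = N19034 := ded_13_1 (flp_f L205101) (flp_a L203989) L207804
theorem L207808 : sm gb N19309 = N18940 := ded_20_1 (flp_f L204010) (flp_b L203991) L207804
theorem L207810 : sm gd N19309 = N18939 := ded_31_1 (flp_f L203998) L203987 L207804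
theorem L207812 : sm gh N19309 = N19219 := ded_40_2 (flp_f L206921) (flp_h L203996) L207804
theorem L207814 : sm gg N18939 = N19310 := rfl
theorem L207816 : sm ga N19310 = N19036 := ded_14_1 (flp_g L205116) (flp_a L204000) L207814
theorem L207818 : sm gb N19310 = N18941 := ded_21_1 (flp_g L204018) (flp_b L204002) L207814
theorem L207820 : sm gc N19310 = N19019 := ded_27_1 (flp_g L204935) (flp_c L204004) L207814
theorem L207822 : sm ge N19310 = N19024 := ded_36_1 (flp_g L204988) (flp_e L204008) L207814
theorem L207824 : sm gh N19310 = N18943 := ded_42_2 (flp_g L204042) (flp_h L204006) L207814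
theorem L207826 : sm gf N19310 = N19173 := ded_39_1 (flp_g L206505) (flp_f L202089) (flp_g L198877) L203998 L207814
theorem L207828 : sm ge N18940 = N19311 := rfl
theorem L207830 : sm ga N19311 = N19000 := ded_12_1 (flp_e L204711) (flp_a L204012) L207828
theorem L207832 : sm gh N19311 = N19221 := ded_37_2 (flp_e L206933) (flp_h L204016) L207828
theorem L207834 : sm gf N19311 = N19311 := ded_35_2 (flp_e L207828) (flp_f L204010) L198885 L204010 L207828
theorem L207835 : sm gg N18940 = N19312 := rfl
theorem L207837 : sm ga N19312 = N19001 := ded_14_1 (flp_g L204716) (flp_a L204012) L207835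
theorem L207839 : sm gd N19312 = N18941 := ded_32_1 (flp_g L204018) (flp_d L204014) L207835
theorem L207841 : sm gh N19312 = N19222 := ded_42_2 (flp_g L206938) (flp_h L204016) L207835
theorem L207843 : sm gg N18951 = N19313 := rfl
theorem L207845 : sm ga N19313 = N18952 := ded_14_1 (flp_g L204172) (flp_a L204162) L207843
theorem L207847 : sm gb N19313 = N19063 := ded_21_1 (flp_g L205365) (flp_b L204164) L207843
theorem L207849 : sm gc N19313 = N18974 := ded_27_1 (flp_g L204439) (flp_c L204166) L207843
theorem L207851 : sm ge N19313 = N18977 := ded_36_1 (flp_g L204479) (flp_e L204170) L207843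
theorem L207853 : sm gh N19313 = N18953 := ded_42_2 (flp_g L204184) (flp_h L204168) L207843
theorem L207855 : sm gf N19313 = N19183 := ded_39_1 (flp_g L206600) (flp_f L202272) (flp_g L199210) L204160 L207843
theorem L207857 : sm gf N18956 = N19314 := rfl
theorem L207859 : sm ga N19314 = N19225 := ded_13_1 (flp_f L206959) (flp_a L204238) L207857
theorem L207861 : sm gb N19314 = N19174 := ded_20_1 (flp_f L206513) (flp_b L204240) L207857
theorem L207863 : sm gd N19314 = N18957 := ded_31_1 (flp_f L204247) L204236 L207857
theorem L207865 : sm gi N19314 = N19097 := ded_41_2 (flp_f L205705) (flp_i L204244) L207857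
theorem L207867 : sm gh N18956 = N19315 := rfl
theorem L207869 : sm ga N19315 = N19226 := ded_15_1 (flp_h L206967) (flp_a L204238) L207867
theorem L207871 : sm gb N19315 = N19075 := ded_22_1 L205505 (flp_b L204240) L207867
theorem L207873 : sm ge N19315 = N19315 := ded_37_1 (flp_h L207867) L204246 L207867
theorem L207874 : sm gg N19315 = N19115 := ded_42_1 (flp_h L205916) (flp_g L204242) L207867
theorem L207876 : sm gd N19315 = N18965 := ded_33_1 (flp_h L204336) (flp_d L199437) (flp_h L199380) L204236 L207867
theorem L207878 : sm gi N19315 = N19201 := ded_44_2 (flp_h L207588) L207585 L204393 (flp_i L204244) L207867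
theorem L207880 : sm gg N18957 = N19316 := rfl
theorem L207882 : sm ga N19316 = N19227 := ded_14_1 (flp_g L206972) (flp_a L204249) L207880
theorem L207884 : sm gb N19316 = N19175 := ded_21_1 (flp_g L206519) (flp_b L204251) L207880
theorem L207886 : sm gc N19316 = N18958 := ded_27_1 (flp_g L204261) (flp_c L204253) L207880
theorem L207888 : sm ge N19316 = N18962 := ded_36_1 (flp_g L204304) (flp_e L204259) L207880
theorem L207890 : sm gh N19316 = N18966 := ded_42_2 (flp_g L204348) (flp_h L204255) L207880
theorem L207892 : sm gi N19316 = N19098 := ded_43_2 (flp_g L205713) (flp_i L204257) L207880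
theorem L207894 : sm gf N19316 = N19116 := ded_39_1 (flp_g L205923) (flp_f L201335) (flp_g L199378) L204247 L207880
theorem L207896 : sm gf N18959 = N19317 := rfl
theorem L207898 : sm gb N19317 = N18961 := ded_20_1 (flp_f L204296) (flp_b L204277) L207896
theorem L207900 : sm gd N19317 = N18960 := ded_31_1 (flp_f L204284) L204275 L207896
theorem L207902 : sm gh N19317 = N19255 := ded_40_2 (flp_f L207224) (flp_h L204282) L207896
theorem L207904 : sm gi N19317 = N19172 := ded_41_2 (flp_f L206501) (flp_i L204279) L207896
theorem L207906 : sm gg N18960 = N19318 := rfl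
theorem L207908 : sm gb N19318 = N18962 := ded_21_1 (flp_g L204304) (flp_b L204286) L207906
theorem L207910 : sm gc N19318 = N19171 := ded_27_1 (flp_g L206485) (flp_c L204288) L207906
theorem L207912 : sm ge N19318 = N19175 := ded_36_1 (flp_g L206519) (flp_e L204294) L207906
theorem L207914 : sm gh N19318 = N18968 := ded_42_2 (flp_g L204372) (flp_h L204290) L207906
theorem L207916 : sm gi N19318 = N19173 := ded_43_2 (flp_g L206505) (flp_i L204292) L207906
theorem L207918 : sm ge N18961 = N19319 := rfl
theorem L207920 : sm gc N19319 = N19000 := ded_25_1 (flp_e L204711) (flp_c L204298) L207918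
theorem L207922 : sm gh N19319 = N19257 := ded_37_2 (flp_e L207240) (flp_h L204302) L207918
theorem L207924 : sm gf N19319 = N19319 := ded_35_2 (flp_e L207918) (flp_f L204296) L199410 L204296 L207918
theorem L207925 : sm gg N18961 = N19320 := rfl
theorem L207927 : sm gc N19320 = N19001 := ded_27_1 (flp_g L204716) (flp_c L204298) L207925
theorem L207929 : sm gd N19320 = N18962 := ded_32_1 (flp_g L204304) (flp_d L204300) L207925
theorem L207931 : sm gh N19320 = N19258 := ded_42_2 (flp_g L207245) (flp_h L204302) L207925
theorem L207933 : sm gg N18964 = N19321 := rfl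
theorem L207935 : sm gb N19321 = N19188 := ded_21_1 (flp_g L206656) (flp_b L204326) L207933
theorem L207937 : sm gc N19321 = N19157 := ded_27_1 (flp_g L206332) (flp_c L204328) L207933
theorem L207939 : sm gd N19321 = N18966 := ded_32_1 (flp_g L204348) (flp_d L204330) L207933
theorem L207941 : sm ge N19321 = N19262 := ded_36_1 (flp_g L207287) (flp_e L204334) L207933
theorem L207943 : sm gi N19321 = N19189 := ded_43_2 (flp_g L206668) (flp_i L204332) L207933
theorem L207945 : sm gf N19321 = N19279 := ded_39_1 (flp_g L207437) (flp_f L203404) (flp_g L199441) L204324 L207933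
theorem L207947 : sm gh N18964 = N19322 := rfl
theorem L207949 : sm gb N19322 = N19076 := ded_22_1 L205513 (flp_b L204326) L207947
theorem L207951 : sm gc N19322 = N19088 := ded_28_1 L205619 (flp_c L204328) L207947
theorem L207953 : sm ge N19322 = N19080 := ded_37_1 L205558 (flp_e L204334) L207947
theorem L207955 : sm gf N19322 = N18965 := ded_40_1 (flp_h L204336) L204324 L207947
theorem L207957 : sm gi N19322 = N19202 := ded_44_2 L206771 L202651 (flp_h L202438) (flp_i L204332) L207947
theorem L207959 : sm gg N18967 = N19323 := rfl
theorem L207961 : sm ga N19323 = N18968 := ded_14_1 (flp_g L204372) (flp_a L204362) L207959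
theorem L207963 : sm gc N19323 = N19182 := ded_27_1 (flp_g L206584) (flp_c L204364) L207959
theorem L207965 : sm gd N19323 = N19263 := ded_32_1 (flp_g L207299) (flp_d L204366) L207959
theorem L207967 : sm ge N19323 = N19185 := ded_36_1 (flp_g L206620) (flp_e L204370) L207959
theorem L207969 : sm gi N19323 = N19183 := ded_43_2 (flp_g L206600) (flp_i L204368) L207959
theorem L207971 : sm gf N18969 = N19324 := rfl
theorem L207973 : sm ga N19324 = N19232 := ded_13_1 L207007 (flp_a L204386) L207971
theorem L207975 : sm gb N19324 = N18971 := ded_20_1 (flp_f L204407) (flp_b L204388) L207971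
theorem L207977 : sm gd N19324 = N18970 := ded_31_1 (flp_f L204395) L204384 L207971
theorem L207979 : sm gh N19324 = N19097 := ded_40_2 (flp_f L205705) (flp_h L204393) L207971
theorem L207981 : sm gg N18970 = N19325 := rfl
theorem L207983 : sm ga N19325 = N19234 := ded_14_1 L207024 (flp_a L204397) L207981
theorem L207985 : sm gb N19325 = N18972 := ded_21_1 (flp_g L204413) (flp_b L204399) L207981
theorem L207987 : sm gc N19325 = N19099 := ded_27_1 L205735 (flp_c L204401) L207981
theorem L207989 : sm ge N19325 = N19229 := ded_36_1 (flp_g L206984) (flp_e L204405) L207981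
theorem L207991 : sm gh N19325 = N18973 := ded_42_2 (flp_g L204423) (flp_h L204403) L207981
theorem L207993 : sm gf N19325 = N18999 := ded_39_1 (flp_g L204703) (flp_f L199814) (flp_g L199518) L204395 L207981
theorem L207995 : sm ge N18971 = N19326 := rfl
theorem L207997 : sm gh N19326 = N19176 := ded_37_2 (flp_e L206529) (flp_h L204411) L207995
theorem L207999 : sm gd N19326 = N19230 := ded_30_1 (flp_e L206992) L202801 (flp_e L199535) (flp_d L204409) L207995
theorem L208001 : sm gf N19326 = N19326 := ded_35_2 (flp_e L207995) (flp_f L204407) L199526 L204407 L207995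
theorem L208002 : sm gg N18971 = N19327 := rfl
theorem L208004 : sm gd N19327 = N18972 := ded_32_1 (flp_g L204413) (flp_d L204409) L208002
theorem L208006 : sm gh N19327 = N19177 := ded_42_2 (flp_g L206532) (flp_h L204411) L208002
theorem L208008 : sm gf N19327 = N19001 := ded_39_1 (flp_g L204716) (flp_f L199822) (flp_g L199524) L204407 L208002
theorem L208010 : sm gg N18975 = N19328 := rfl
theorem L208012 : sm ga N19328 = N19179 := ded_14_1 (flp_g L206546) (flp_a L204453) L208010
theorem L208014 : sm gb N19328 = N19119 := ded_21_1 L205946 (flp_b L204455) L208010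
theorem L208016 : sm gc N19328 = N18976 := ded_27_1 (flp_g L204465) (flp_c L204457) L208010
theorem L208018 : sm gd N19328 = N19178 := ded_32_1 (flp_g L206538) (flp_d L204459) L208010
theorem L208020 : sm gh N19328 = N19040 := ded_42_2 (flp_g L205147) (flp_h L204461) L208010
theorem L208022 : sm gi N19328 = N18977 := ded_43_2 (flp_g L204479) (flp_i L204463) L208010
theorem L208024 : sm gf N19328 = N19240 := ded_39_1 (flp_g L207074) (flp_f L202886) (flp_g L199591) L204451 L208010
theorem L208026 : sm gf N18978 = N19329 := rfl
theorem L208028 : sm gc N19329 = N18988 := ded_26_1 (flp_f L204600) (flp_c L204497) L208026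
theorem L208030 : sm gd N19329 = N18979 := ded_31_1 (flp_f L204502) L204493 L208026
theorem L208032 : sm gh N19329 = N19039 := ded_40_2 (flp_f L205141) (flp_h L204500) L208026
theorem L208034 : sm gi N19329 = N19291 := ded_41_2 L207573 (flp_i L204495) L208026
theorem L208036 : sm gg N18979 = N19330 := rfl
theorem L208038 : sm gc N19330 = N18980 := ded_27_1 (flp_g L204510) (flp_c L204504) L208036
theorem L208040 : sm gh N19330 = N19178 := ded_42_2 (flp_g L206538) (flp_h L204506) L208036
theorem L208042 : sm gi N19330 = N19304 := ded_43_2 L207754 (flp_i L204508) L208036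
theorem L208044 : sm gd N18982 = N19331 := rfl
theorem L208046 : sm ga N19331 = N19037 := ded_11_1 (flp_d L205124) (flp_a L204532) L208044
theorem L208048 : sm gb N19331 = N18983 := ded_18_1 (flp_d L204544) (flp_b L204534) L208044
theorem L208050 : sm gg N19331 = N19199 := ded_32_2 L206749 (flp_g L204538) L208044
theorem L208052 : sm gi N19331 = N18986 := ded_34_2 (flp_d L204577) (flp_i L204542) L208044
theorem L208054 : sm ge N19331 = N19331 := ded_30_2 (flp_d L208044) (flp_e L204530) L199689 L204530 L208044
theorem L208055 : sm gh N19331 = N19285 := ded_33_2 (flp_d L207503) L203548 L201160 (flp_h L204540) L208044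
theorem L208057 : sm gf N18982 = N19332 := rfl
theorem L208059 : sm ga N19332 = N19038 := ded_13_1 (flp_f L205131) (flp_a L204532) L208057
theorem L208061 : sm gb N19332 = N18984 := ded_20_1 (flp_f L204555) (flp_b L204534) L208057
theorem L208063 : sm gc N19332 = N19054 := ded_26_1 (flp_f L205285) (flp_c L204536) L208057
theorem L208065 : sm gh N19332 = N19050 := ded_40_2 (flp_f L205243) (flp_h L204540) L208057
theorem L208067 : sm gi N19332 = N18987 := ded_41_2 (flp_f L204588) (flp_i L204542) L208057
theorem L208069 : sm ge N19332 = N18992 := ded_35_1 (flp_f L204633) (flp_e L199766) (flp_f L199690) L204530 L208057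
theorem L208071 : sm gf N18983 = N19333 := rfl
theorem L208073 : sm gc N19333 = N19291 := ded_26_1 L207573 (flp_c L204550) L208071
theorem L208075 : sm gd N19333 = N18984 := ded_31_1 (flp_f L204555) L204544 L208071
theorem L208077 : sm gh N19333 = N19287 := ded_40_2 (flp_f L207530) (flp_h L204553) L208071
theorem L208079 : sm gi N19333 = N18988 := ded_41_2 (flp_f L204600) (flp_i L204548) L208071
theorem L208081 : sm gg N18984 = N19334 := rfl
theorem L208083 : sm gc N19334 = N18985 := ded_27_1 (flp_g L204565) (flp_c L204557) L208081
theorem L208085 : sm ge N19334 = N18995 := ded_36_1 (flp_g L204662) (flp_e L204563) L208081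
theorem L208087 : sm gh N19334 = N19051 := ded_42_2 (flp_g L205253) (flp_h L204559) L208081
theorem L208089 : sm gi N19334 = N18989 := ded_43_2 (flp_g L204604) (flp_i L204561) L208081
theorem L208091 : sm gf N19334 = N19330 := ded_39_1 (flp_g L208036) (flp_f L204502) (flp_g L199706) L204555 L208081
theorem L208093 : sm gc N18986 = N19335 := rfl
theorem L208095 : sm ga N19335 = N19041 := ded_10_1 (flp_c L205153) (flp_a L204579) L208093
theorem L208097 : sm ge N19335 = N19335 := ded_25_2 (flp_c L208093) L204585 L208093
theorem L208098 : sm gg N19335 = N19194 := ded_27_2 L206717 (flp_g L204583) L208093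
theorem L208100 : sm gh N19335 = N19070 := ded_28_2 L205447 (flp_h L204586) L208093
theorem L208102 : sm gd N19335 = N19061 := ded_24_2 (flp_c L205349) (flp_d L200552) (flp_c L199728) L204577 L208093
theorem L208104 : sm gf N18986 = N19336 := rfl
theorem L208106 : sm ga N19336 = N19042 := ded_13_1 (flp_f L205162) (flp_a L204579) L208104
theorem L208108 : sm gb N19336 = N18988 := ded_20_1 (flp_f L204600) (flp_b L204581) L208104
theorem L208110 : sm gd N19336 = N18987 := ded_31_1 (flp_f L204588) L204577 L208104
theorem L208112 : sm gh N19336 = N19073 := ded_40_2 (flp_f L205474) (flp_h L204586) L208104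
theorem L208114 : sm gg N18987 = N19337 := rfl
theorem L208116 : sm ga N19337 = N19043 := ded_14_1 (flp_g L205170) (flp_a L204590) L208114
theorem L208118 : sm gb N19337 = N18989 := ded_21_1 (flp_g L204604) (flp_b L204592) L208114
theorem L208120 : sm gc N19337 = N19063 := ded_27_1 (flp_g L205365) (flp_c L204594) L208114
theorem L208122 : sm ge N19337 = N18999 := ded_36_1 (flp_g L204703) (flp_e L204598) L208114
theorem L208124 : sm gh N19337 = N19002 := ded_42_2 (flp_g L204722) (flp_h L204596) L208114
theorem L208126 : sm gf N19337 = N19212 := ded_39_1 L206869 L202681 (flp_g L199730) L204588 L208114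
theorem L208128 : sm ge N18988 = N19338 := rfl
theorem L208130 : sm gd N19338 = N19000 := ded_30_1 (flp_e L204711) L199824 (flp_e L199743) (flp_d L204602) L208128
theorem L208132 : sm gf N19338 = N19338 := ded_35_2 (flp_e L208128) (flp_f L204600) L199736 L204600 L208128
theorem L208133 : sm gg N18988 = N19339 := rfl
theorem L208135 : sm gd N19339 = N18989 := ded_32_1 (flp_g L204604) (flp_d L204602) L208133
theorem L208137 : sm gd N18990 = N19340 := rfl
theorem L208139 : sm ga N19340 = N18991 := ded_11_1 (flp_d L204626) (flp_a L204614) L208137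
theorem L208141 : sm gb N19340 = N19031 := ded_18_1 (flp_d L205070) (flp_b L204616) L208137
theorem L208143 : sm gg N19340 = N19233 := ded_32_2 L207017 (flp_g L204620) L208137
theorem L208145 : sm gi N19340 = N18996 := ded_34_2 (flp_d L204670) (flp_i L204624) L208137
theorem L208147 : sm gc N19340 = N19292 := ded_24_1 (flp_d L207577) L203624 L201160 (flp_c L204618) L208137
theorem L208149 : sm ge N19340 = N19340 := ded_30_2 (flp_d L208137) (flp_e L204612) L199755 L204612 L208137
theorem L208150 : sm gf N18990 = N19341 := rfl
theorem L208152 : sm ga N19341 = N18992 := ded_13_1 (flp_f L204633) (flp_a L204614) L208150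
theorem L208154 : sm gb N19341 = N19032 := ded_20_1 (flp_f L205079) (flp_b L204616) L208150
theorem L208156 : sm gc N19341 = N19050 := ded_26_1 (flp_f L205243) (flp_c L204618) L208150
theorem L208158 : sm gh N19341 = N19054 := ded_40_2 (flp_f L205285) (flp_h L204622) L208150
theorem L208160 : sm gi N19341 = N18997 := ded_41_2 (flp_f L204683) (flp_i L204624) L208150
theorem L208162 : sm ge N19341 = N19038 := ded_35_1 (flp_f L205131) (flp_e L200326) (flp_f L199756) L204612 L208150
theorem L208164 : sm gf N18991 = N19342 := rfl
theorem L208166 : sm gb N19342 = N18993 := ded_20_1 (flp_f L204643) (flp_b L204628) L208164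
theorem L208168 : sm gd N19342 = N18992 := ded_31_1 (flp_f L204633) L204626 L208164
theorem L208170 : sm gi N19342 = N18998 := ded_41_2 (flp_f L204695) (flp_i L204630) L208164
theorem L208172 : sm gh N18991 = N19343 := rfl
theorem L208174 : sm gb N19343 = N18994 := ded_22_1 (flp_h L204649) (flp_b L204628) L208172
theorem L208176 : sm ge N19343 = N19343 := ded_37_1 (flp_h L208172) L204632 L208172
theorem L208177 : sm gg N19343 = N19201 := ded_42_1 (flp_h L207588) L207583 L208172
theorem L208179 : sm gd N19343 = N19057 := ded_33_1 (flp_h L205311) (flp_d L200508) (flp_h L199772) L204626 L208172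
theorem L208181 : sm gi N19343 = N19115 := ded_44_2 (flp_h L205916) L201332 (flp_h L199812) (flp_i L204630) L208172
theorem L208183 : sm gg N18992 = N19344 := rfl
theorem L208185 : sm gb N19344 = N18995 := ded_21_1 (flp_g L204662) (flp_b L204635) L208183
theorem L208187 : sm gc N19344 = N19119 := ded_27_1 L205946 (flp_c L204637) L208183
theorem L208189 : sm gh N19344 = N19058 := ded_42_2 (flp_g L205321) (flp_h L204639) L208183
theorem L208191 : sm gi N19344 = N18999 := ded_43_2 (flp_g L204703) (flp_i L204641) L208183
theorem L208193 : sm ge N18993 = N19345 := rfl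
theorem L208195 : sm gi N19345 = N19000 := ded_38_2 (flp_e L204711) (flp_i L204647) L208193
theorem L208197 : sm gf N19345 = N19345 := ded_35_2 (flp_e L208193) (flp_f L204643) L199780 L204643 L208193
theorem L208198 : sm gg N18993 = N19346 := rfl
theorem L208200 : sm gd N19346 = N18995 := ded_32_1 (flp_g L204662) (flp_d L204645) L208198
theorem L208202 : sm gi N19346 = N19001 := ded_43_2 (flp_g L204716) (flp_i L204647) L208198
theorem L208204 : sm gh N18993 = N19347 := rfl
theorem L208206 : sm ga N19347 = N19139 := ded_15_1 (flp_h L207788) L207782 L208204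
theorem L208208 : sm gc N19347 = N19165 := ded_28_1 (flp_h L207722) L207718 L208204
theorem L208210 : sm gf N19347 = N18994 := ded_40_1 (flp_h L204649) L204643 L208204
theorem L208212 : sm gd N19347 = N19060 := ded_33_1 (flp_h L205339) L200530 (flp_h L199785) (flp_d L204645) L208204
theorem L208214 : sm gi N19347 = N19272 := ded_44_2 (flp_h L207367) L203280 (flp_h L199826) (flp_i L204647) L208204
theorem L208216 : sm gf N18996 = N19348 := rfl
theorem L208218 : sm ga N19348 = N18998 := ded_13_1 (flp_f L204695) (flp_a L204672) L208216
theorem L208220 : sm gb N19348 = N19034 := ded_20_1 (flp_f L205101) (flp_b L204674) L208216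
theorem L208222 : sm gc N19348 = N19324 := ded_26_1 (flp_f L207971) (flp_c L204678) L208216
theorem L208224 : sm gd N19348 = N18997 := ded_31_1 (flp_f L204683) L204670 L208216
theorem L208226 : sm gh N19348 = N19104 := ded_40_2 (flp_f L205788) (flp_h L204681) L208216
theorem L208228 : sm gg N18997 = N19349 := rfl
theorem L208230 : sm ga N19349 = N18999 := ded_14_1 (flp_g L204703) (flp_a L204685) L208228
theorem L208232 : sm gb N19349 = N19036 := ded_21_1 (flp_g L205116) (flp_b L204687) L208228
theorem L208234 : sm gc N19349 = N19052 := ded_27_1 (flp_g L205261) (flp_c L204689) L208228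
theorem L208236 : sm ge N19349 = N19043 := ded_36_1 (flp_g L205170) (flp_e L204693) L208228
theorem L208238 : sm gh N19349 = N19003 := ded_42_2 (flp_g L204738) (flp_h L204691) L208228
theorem L208240 : sm gf N19349 = N19234 := ded_39_1 L207024 L202832 (flp_g L199803) L204683 L208228
theorem L208242 : sm ge N18998 = N19350 := rfl
theorem L208244 : sm gb N19350 = N19000 := ded_19_1 (flp_e L204711) (flp_b L204697) L208242
theorem L208246 : sm gh N19350 = N19117 := ded_37_2 (flp_e L205933) (flp_h L204701) L208242
theorem L208248 : sm gf N19350 = N19350 := ded_35_2 (flp_e L208242) (flp_f L204695) L199811 L204695 L208242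
theorem L208249 : sm gg N18998 = N19351 := rfl
theorem L208251 : sm gb N19351 = N19001 := ded_21_1 (flp_g L204716) (flp_b L204697) L208249
theorem L208253 : sm gd N19351 = N18999 := ded_32_1 (flp_g L204703) (flp_d L204699) L208249
theorem L208255 : sm gh N19351 = N19118 := ded_42_2 (flp_g L205938) (flp_h L204701) L208249
theorem L208257 : sm gg N19000 = N19352 := rfl
theorem L208259 : sm ge N19352 = N19001 := ded_36_1 (flp_g L204716) L204711 L208257
theorem L208261 : sm gh N19352 = N19273 := ded_42_2 (flp_g L207373) (flp_h L204713) L208257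
theorem L208263 : sm ge N19004 = N19353 := rfl
theorem L208265 : sm gb N19353 = N19083 := ded_19_1 (flp_e L205570) (flp_b L204756) L208263
theorem L208267 : sm gh N19353 = N19044 := ded_37_2 (flp_e L205178) (flp_h L204760) L208263
theorem L208269 : sm gi N19353 = N19289 := ded_38_2 (flp_e L207554) (flp_i L204762) L208263
theorem L208271 : sm gd N19353 = N19196 := ded_30_1 (flp_e L206728) L202520 (flp_e L199915) (flp_d L204758) L208263
theorem L208273 : sm gf N19353 = N19353 := ded_35_2 (flp_e L208263) (flp_f L204754) L199902 L204754 L208263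
theorem L208274 : sm gg N19004 = N19354 := rfl
theorem L208276 : sm gb N19354 = N19084 := ded_21_1 (flp_g L205573) (flp_b L204756) L208274
theorem L208278 : sm gd N19354 = N19005 := ded_32_1 (flp_g L204764) (flp_d L204758) L208274
theorem L208280 : sm gh N19354 = N19045 := ded_42_2 (flp_g L205181) (flp_h L204760) L208274
theorem L208282 : sm gi N19354 = N19290 := ded_43_2 (flp_g L207561) (flp_i L204762) L208274
theorem L208284 : sm gf N19354 = N19126 := ded_39_1 (flp_g L206013) (flp_f L201549) (flp_g L199898) L204754 L208274
theorem L208286 : sm gf N19006 = N19355 := rfl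
theorem L208288 : sm ga N19355 = N19198 := ded_13_1 L206741 (flp_a L204780) L208286
theorem L208290 : sm gb N19355 = N19008 := ded_20_1 (flp_f L204801) (flp_b L204782) L208286
theorem L208292 : sm gd N19355 = N19007 := ded_31_1 (flp_f L204789) L204778 L208286
theorem L208294 : sm gh N19355 = N19068 := ded_40_2 (flp_f L205419) (flp_h L204787) L208286
theorem L208296 : sm gg N19007 = N19356 := rfl
theorem L208298 : sm ga N19356 = N19212 := ded_14_1 L206869 (flp_a L204791) L208296
theorem L208300 : sm gb N19356 = N19009 := ded_21_1 (flp_g L204811) (flp_b L204793) L208296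
theorem L208302 : sm gc N19356 = N19016 := ded_27_1 (flp_g L204895) (flp_c L204795) L208296
theorem L208304 : sm ge N19356 = N19220 := ded_36_1 (flp_g L206927) (flp_e L204799) L208296
theorem L208306 : sm gh N19356 = N19010 := ded_42_2 (flp_g L204823) (flp_h L204797) L208296
theorem L208308 : sm gf N19356 = N19043 := ded_39_1 (flp_g L205170) (flp_f L200360) (flp_g L199951) L204789 L208296
theorem L208310 : sm ge N19008 = N19357 := rfl
theorem L208312 : sm ga N19357 = N19268 := ded_12_1 (flp_e L207347) (flp_a L204803) L208310
theorem L208314 : sm gc N19357 = N19353 := ded_25_1 (flp_e L208263) (flp_c L204805) L208310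
theorem L208316 : sm gh N19357 = N19125 := ded_37_2 (flp_e L206008) (flp_h L204809) L208310
theorem L208318 : sm gd N19357 = N19221 := ded_30_1 (flp_e L206933) L202739 (flp_e L199974) (flp_d L204807) L208310
theorem L208320 : sm gf N19357 = N19357 := ded_35_2 (flp_e L208310) (flp_f L204801) L199963 L204801 L208310
theorem L208321 : sm gg N19008 = N19358 := rfl
theorem L208323 : sm ga N19358 = N19269 := ded_14_1 (flp_g L207352) (flp_a L204803) L208321
theorem L208325 : sm gc N19358 = N19354 := ded_27_1 (flp_g L208274) (flp_c L204805) L208321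
theorem L208327 : sm gd N19358 = N19009 := ded_32_1 (flp_g L204811) (flp_d L204807) L208321
theorem L208329 : sm gh N19358 = N19126 := ded_42_2 (flp_g L206013) (flp_h L204809) L208321
theorem L208331 : sm gf N19358 = N19045 := ded_39_1 (flp_g L205181) (flp_f L200368) (flp_g L199959) L204801 L208321
theorem L208333 : sm gg N19012 = N19359 := rfl
theorem L208335 : sm ga N19359 = N19186 := ded_14_1 (flp_g L206632) (flp_a L204855) L208333
theorem L208337 : sm gb N19359 = N19014 := ded_21_1 (flp_g L204871) (flp_b L204857) L208333
theorem L208339 : sm gc N19359 = N19220 := ded_27_1 (flp_g L206927) (flp_c L204859) L208333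
theorem L208341 : sm ge N19359 = N19016 := ded_36_1 (flp_g L204895) (flp_e L204863) L208333
theorem L208343 : sm gh N19359 = N19017 := ded_42_2 (flp_g L204903) (flp_h L204861) L208333
theorem L208345 : sm gf N19359 = N19236 := ded_39_1 L207042 L202858 (flp_g L200038) L204853 L208333
theorem L208347 : sm gg N19013 = N19360 := rfl
theorem L208349 : sm ga N19360 = N19189 := ded_14_1 (flp_g L206668) (flp_a L204867) L208347
theorem L208351 : sm gd N19360 = N19014 := ded_32_1 (flp_g L204871) (flp_d L204869) L208347
theorem L208353 : sm gf N19360 = N19282 := ded_39_1 (flp_g L207467) (flp_f L203448) (flp_g L200046) L204865 L208347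
theorem L208355 : sm gg N19015 = N19361 := rfl
theorem L208357 : sm ga N19361 = N19016 := ded_14_1 (flp_g L204895) (flp_a L204885) L208355
theorem L208359 : sm gb N19361 = N19183 := ded_21_1 (flp_g L206600) (flp_b L204887) L208355
theorem L208361 : sm gc N19361 = N19212 := ded_27_1 L206869 (flp_c L204889) L208355
theorem L208363 : sm ge N19361 = N19186 := ded_36_1 (flp_g L206632) (flp_e L204893) L208355
theorem L208365 : sm gh N19361 = N19018 := ded_42_2 (flp_g L204919) (flp_h L204891) L208355
theorem L208367 : sm gf N19361 = N19063 := ded_39_1 (flp_g L205365) (flp_f L200560) (flp_g L200078) L204883 L208355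
theorem L208369 : sm gf N19020 = N19362 := rfl
theorem L208371 : sm ga N19362 = N19039 := ded_13_1 (flp_f L205141) (flp_a L204949) L208369
theorem L208373 : sm gc N19362 = N19121 := ded_26_1 (flp_f L205962) (flp_c L204955) L208369
theorem L208375 : sm gd N19362 = N19021 := ded_31_1 (flp_f L204958) L204947 L208369
theorem L208377 : sm gi N19362 = N19023 := ded_41_2 (flp_f L204982) (flp_i L204953) L208369
theorem L208379 : sm gg N19021 = N19363 := rfl
theorem L208381 : sm ga N19363 = N19040 := ded_14_1 (flp_g L205147) (flp_a L204960) L208379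
theorem L208383 : sm gc N19363 = N19022 := ded_27_1 (flp_g L204968) (flp_c L204962) L208379
theorem L208385 : sm gh N19363 = N19179 := ded_42_2 (flp_g L206546) (flp_h L204964) L208379
theorem L208387 : sm gi N19363 = N19024 := ded_43_2 (flp_g L204988) (flp_i L204966) L208379
theorem L208389 : sm gf N19363 = N19267 := ded_39_1 (flp_g L207337) (flp_f L203246) (flp_g L200176) L204958 L208379
theorem L208391 : sm ge N19023 = N19364 := rfl
theorem L208393 : sm ga N19364 = N19044 := ded_12_1 (flp_e L205178) (flp_a L204984) L208391
theorem L208395 : sm gf N19364 = N19364 := ded_35_2 (flp_e L208391) (flp_f L204982) L200200 L204982 L208391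
theorem L208396 : sm gg N19023 = N19365 := rfl
theorem L208398 : sm ga N19365 = N19045 := ded_14_1 (flp_g L205181) (flp_a L204984) L208396
theorem L208400 : sm gd N19365 = N19024 := ded_32_1 (flp_g L204988) (flp_d L204986) L208396
theorem L208402 : sm gf N19365 = N19269 := ded_39_1 (flp_g L207352) (flp_f L203264) (flp_g L200198) L204982 L208396
theorem L208404 : sm gf N19025 = N19366 := rfl
theorem L208406 : sm gb N19366 = N19307 := ded_20_1 (flp_f L207780) (flp_b L205000) L208404
theorem L208408 : sm gc N19366 = N19034 := ded_26_1 (flp_f L205101) (flp_c L205006) L208404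
theorem L208410 : sm gd N19366 = N19026 := ded_31_1 (flp_f L205009) L204998 L208404
theorem L208412 : sm gi N19366 = N19309 := ded_41_2 (flp_f L207804) (flp_i L205004) L208404
theorem L208414 : sm gg N19026 = N19367 := rfl
theorem L208416 : sm gb N19367 = N19308 := ded_21_1 (flp_g L207792) (flp_b L205011) L208414
theorem L208418 : sm gc N19367 = N19027 := ded_27_1 (flp_g L205021) (flp_c L205013) L208414
theorem L208420 : sm ge N19367 = N19363 := ded_36_1 (flp_g L208379) (flp_e L205019) L208414
theorem L208422 : sm gh N19367 = N19187 := ded_42_2 (flp_g L206642) (flp_h L205015) L208414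
theorem L208424 : sm gi N19367 = N19310 := ded_43_2 (flp_g L207814) (flp_i L205017) L208414
theorem L208426 : sm gf N19367 = N19318 := ded_39_1 (flp_g L207906) (flp_f L204284) (flp_g L200247) L205009 L208414
theorem L208428 : sm gf N19028 = N19368 := rfl
theorem L208430 : sm ga N19368 = N19172 := ded_13_1 (flp_f L206501) (flp_a L205035) L208428
theorem L208432 : sm gb N19368 = N19232 := ded_20_1 L207007 (flp_b L205037) L208428
theorem L208434 : sm gc N19368 = N19317 := ded_26_1 (flp_f L207896) (flp_c L205041) L208428
theorem L208436 : sm gd N19368 = N19029 := ded_31_1 (flp_f L205046) L205033 L208428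
theorem L208438 : sm gh N19368 = N19228 := ded_40_2 (flp_f L206978) (flp_h L205044) L208428
theorem L208440 : sm gg N19029 = N19369 := rfl
theorem L208442 : sm ga N19369 = N19173 := ded_14_1 (flp_g L206505) (flp_a L205048) L208440
theorem L208444 : sm gb N19369 = N19234 := ded_21_1 L207024 (flp_b L205050) L208440
theorem L208446 : sm gc N19369 = N19030 := ded_27_1 (flp_g L205058) (flp_c L205052) L208440
theorem L208448 : sm ge N19369 = N19166 := ded_36_1 (flp_g L206424) (flp_e L205056) L208440
theorem L208450 : sm gh N19369 = N19046 := ded_42_2 (flp_g L205185) (flp_h L205054) L208440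
theorem L208452 : sm gf N19369 = N19036 := ded_39_1 (flp_g L205116) (flp_f L200310) (flp_g L200273) L205046 L208440
theorem L208454 : sm gf N19031 = N19370 := rfl
theorem L208456 : sm ga N19370 = N19366 := ded_13_1 (flp_f L208404) (flp_a L205072) L208454
theorem L208458 : sm gc N19370 = N19309 := ded_26_1 (flp_f L207804) (flp_c L205076) L208454
theorem L208460 : sm gd N19370 = N19032 := ded_31_1 (flp_f L205079) L205070 L208454
theorem L208462 : sm gi N19370 = N19034 := ded_41_2 (flp_f L205101) (flp_i L205074) L208454
theorem L208464 : sm gg N19032 = N19371 := rfl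
theorem L208466 : sm ga N19371 = N19367 := ded_14_1 (flp_g L208414) (flp_a L205081) L208464
theorem L208468 : sm gc N19371 = N19033 := ded_27_1 (flp_g L205089) (flp_c L205083) L208464
theorem L208470 : sm ge N19371 = N19040 := ded_36_1 (flp_g L205147) (flp_e L205087) L208464
theorem L208472 : sm gi N19371 = N19036 := ded_43_2 (flp_g L205116) (flp_i L205085) L208464
theorem L208474 : sm ge N19034 = N19372 := rfl
theorem L208476 : sm gd N19372 = N19044 := ded_30_1 (flp_e L205178) L200370 (flp_e L200316) (flp_d L205103) L208474
theorem L208478 : sm gf N19372 = N19372 := ded_35_2 (flp_e L208474) (flp_f L205101) L200309 L205101 L208474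
theorem L208479 : sm gg N19034 = N19373 := rfl
theorem L208481 : sm gd N19373 = N19036 := ded_32_1 (flp_g L205116) (flp_d L205103) L208479
theorem L208483 : sm gh N19034 = N19374 := rfl
theorem L208485 : sm ga N19374 = N19219 := ded_15_1 (flp_h L207812) L207806 L208483
theorem L208487 : sm gb N19374 = N19104 := ded_22_1 (flp_h L208226) L208220 L208483
theorem L208489 : sm gf N19374 = N19035 := ded_40_1 (flp_h L205105) L205101 L208483
theorem L208491 : sm gd N19374 = N19048 := ded_33_1 (flp_h L205217) L200414 (flp_h L200314) (flp_d L205103) L208483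
theorem L208493 : sm gi N19035 = N19375 := rfl
theorem L208495 : sm ga N19375 = N19214 := ded_16_1 L206883 (flp_a L205107) L208493
theorem L208497 : sm gb N19375 = N19101 := ded_23_1 L205757 (flp_b L205109) L208493
theorem L208499 : sm gd N19375 = N19049 := ded_34_1 (flp_i L205229) (flp_d L205114) L208493
theorem L208501 : sm ge N19375 = N19375 := ded_38_1 (flp_i L208493) L205111 L208493
theorem L208502 : sm gg N19375 = N19223 := ded_43_1 L206948 (flp_g L205112) L208493
theorem L208504 : sm gc N19037 = N19376 := rfl
theorem L208506 : sm ge N19376 = N19376 := ded_25_2 (flp_c L208504) L205130 L208504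
theorem L208507 : sm gg N19376 = N19191 := ded_27_2 (flp_c L207513) L207509 L208504
theorem L208509 : sm gi N19376 = N19041 := ded_29_2 (flp_c L205153) (flp_i L205128) L208504
theorem L208511 : sm gb N19376 = N19070 := ded_17_1 L205447 (flp_b L201508) L201514 (flp_b L205126) L208504
theorem L208513 : sm gd N19376 = N19055 := ded_24_2 (flp_c L205293) (flp_d L200508) (flp_c L200330) L205124 L208504
theorem L208515 : sm gf N19037 = N19377 := rfl
theorem L208517 : sm gb N19377 = N19039 := ded_20_1 (flp_f L205141) (flp_b L205126) L208515
theorem L208519 : sm gd N19377 = N19038 := ded_31_1 (flp_f L205131) L205124 L208515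
theorem L208521 : sm gi N19377 = N19042 := ded_41_2 (flp_f L205162) (flp_i L205128) L208515
theorem L208523 : sm gg N19038 = N19378 := rfl
theorem L208525 : sm gb N19378 = N19040 := ded_21_1 (flp_g L205147) (flp_b L205133) L208523
theorem L208527 : sm gc N19378 = N19058 := ded_27_1 (flp_g L205321) (flp_c L205135) L208523
theorem L208529 : sm gh N19378 = N19119 := ded_42_2 L205946 (flp_h L205137) L208523
theorem L208531 : sm gi N19378 = N19043 := ded_43_2 (flp_g L205170) (flp_i L205139) L208523
theorem L208533 : sm ge N19039 = N19379 := rfl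
theorem L208535 : sm gi N19379 = N19044 := ded_38_2 (flp_e L205178) (flp_i L205145) L208533
theorem L208537 : sm gf N19379 = N19379 := ded_35_2 (flp_e L208533) (flp_f L205141) L200340 L205141 L208533
theorem L208538 : sm gg N19039 = N19380 := rfl
theorem L208540 : sm gd N19380 = N19040 := ded_32_1 (flp_g L205147) (flp_d L205143) L208538
theorem L208542 : sm gi N19380 = N19045 := ded_43_2 (flp_g L205181) (flp_i L205145) L208538
theorem L208544 : sm gf N19041 = N19381 := rfl
theorem L208546 : sm gb N19381 = N19246 := ded_20_1 (flp_f L207140) (flp_b L205158) L208544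
theorem L208548 : sm gc N19381 = N19042 := ded_26_1 (flp_f L205162) L205153 L208544
theorem L208550 : sm gd N19381 = N19064 := ded_31_1 (flp_f L205373) (flp_d L205160) L208544
theorem L208552 : sm gh N19381 = N19081 := ded_40_2 (flp_f L205560) (flp_h L205156) L208544
theorem L208554 : sm ge N19042 = N19382 := rfl
theorem L208556 : sm gb N19382 = N19044 := ded_19_1 (flp_e L205178) (flp_b L205164) L208554
theorem L208558 : sm gh N19382 = N19083 := ded_37_2 (flp_e L205570) (flp_h L205168) L208554
theorem L208560 : sm gf N19382 = N19382 := ded_35_2 (flp_e L208554) (flp_f L205162) L200357 L205162 L208554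
theorem L208561 : sm gg N19042 = N19383 := rfl
theorem L208563 : sm gb N19383 = N19045 := ded_21_1 (flp_g L205181) (flp_b L205164) L208561
theorem L208565 : sm gd N19383 = N19043 := ded_32_1 (flp_g L205170) (flp_d L205166) L208561
theorem L208567 : sm gh N19383 = N19084 := ded_42_2 (flp_g L205573) (flp_h L205168) L208561
theorem L208569 : sm gg N19044 = N19384 := rfl
theorem L208571 : sm ge N19384 = N19045 := ded_36_1 (flp_g L205181) L205178 L208569
theorem L208573 : sm gh N19047 = N19385 := rfl
theorem L208575 : sm ga N19385 = N19220 := ded_15_1 L206931 (flp_a L205203) L208573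
theorem L208577 : sm gb N19385 = N19105 := ded_22_1 L205802 (flp_b L205205) L208573
theorem L208579 : sm gc N19385 = N19186 := ded_28_1 L206638 (flp_c L205207) L208573
theorem L208581 : sm ge N19385 = N19212 := ded_37_1 (flp_h L206867) (flp_e L205211) L208573
theorem L208583 : sm gf N19385 = N19229 := ded_40_1 L206990 (flp_f L205215) L208573
theorem L208585 : sm gg N19385 = N19048 := ded_42_1 (flp_h L205217) L205201 L208573
theorem L208587 : sm gi N19048 = N19386 := rfl
theorem L208589 : sm ga N19386 = N19215 := ded_16_1 L206892 (flp_a L205219) L208587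
theorem L208591 : sm gb N19386 = N19102 := ded_23_1 L205770 (flp_b L205221) L208587
theorem L208593 : sm gc N19386 = N19184 := ded_29_1 L206618 (flp_c L205223) L208587
theorem L208595 : sm ge N19386 = N19213 := ded_38_1 (flp_i L206871) (flp_e L205225) L208587
theorem L208597 : sm gf N19386 = N19049 := ded_41_1 (flp_i L205229) (flp_f L205227) L208587
theorem L208599 : sm gh N19386 = N19238 := ded_44_1 (flp_i L207056) (flp_h L202850) (flp_i L200416) L205217 L208587
theorem L208601 : sm gg N19050 = N19387 := rfl
theorem L208603 : sm ga N19387 = N19119 := ded_14_1 L205946 (flp_a L205245) L208601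
theorem L208605 : sm gb N19387 = N19051 := ded_21_1 (flp_g L205253) (flp_b L205247) L208601
theorem L208607 : sm ge N19387 = N19058 := ded_36_1 (flp_g L205321) (flp_e L205251) L208601
theorem L208609 : sm gi N19387 = N19052 := ded_43_2 (flp_g L205261) (flp_i L205249) L208601
theorem L208611 : sm gf N19387 = N19239 := ded_39_1 L207072 L202872 (flp_g L200466) L205243 L208601
theorem L208613 : sm gc N19053 = N19388 := rfl
theorem L208615 : sm ga N19388 = N19055 := ded_10_1 (flp_c L205293) (flp_a L205275) L208613
theorem L208617 : sm ge N19388 = N19066 := ded_25_2 (flp_c L205391) (flp_e L205283) L208613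
theorem L208619 : sm gg N19388 = N19190 := ded_27_2 L206686 (flp_g L205279) L208613
theorem L208621 : sm gi N19388 = N19061 := ded_29_2 (flp_c L205349) (flp_i L205281) L208613
theorem L208623 : sm gb N19388 = N19078 := ded_17_1 L205535 L200938 (flp_c L201750) (flp_b L205277) L208613
theorem L208625 : sm gh N19206 = N19388 := ded_15_0 L208615 (flp_h L206216) (flp_a L206809)
theorem L208627 : sm gf N19053 = N19389 := rfl
theorem L208629 : sm ga N19389 = N19056 := ded_13_1 (flp_f L205303) (flp_a L205275) L208627
theorem L208631 : sm gb N19389 = N19141 := ded_20_1 (flp_f L206176) (flp_b L205277) L208627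
theorem L208633 : sm gd N19389 = N19054 := ded_31_1 (flp_f L205285) L205273 L208627
theorem L208635 : sm gi N19389 = N19062 := ded_41_2 (flp_f L205357) (flp_i L205281) L208627
theorem L208637 : sm gh N19053 = N19390 := rfl
theorem L208639 : sm ga N19390 = N19057 := ded_15_1 (flp_h L205311) (flp_a L205275) L208637
theorem L208641 : sm gb N19390 = N19136 := ded_22_1 L206141 (flp_b L205277) L208637
theorem L208643 : sm gc N19390 = N19206 := ded_28_1 L208625 (flp_c L208613) L208637
theorem L208645 : sm ge N19390 = N19067 := ded_37_1 (flp_h L205406) (flp_e L205283) L208637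
theorem L208647 : sm gg N19390 = N19200 := ded_42_1 L206760 (flp_g L205279) L208637
theorem L208649 : sm gi N19390 = N19277 := ded_44_2 (flp_h L207419) L203388 (flp_h L200558) (flp_i L205281) L208637
theorem L208651 : sm gg N19054 = N19391 := rfl
theorem L208653 : sm ga N19391 = N19058 := ded_14_1 (flp_g L205321) (flp_a L205287) L208651
theorem L208655 : sm ge N19391 = N19119 := ded_36_1 L205946 (flp_e L205291) L208651
theorem L208657 : sm gi N19391 = N19063 := ded_43_2 (flp_g L205365) (flp_i L205289) L208651
theorem L208659 : sm gf N19055 = N19392 := rfl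
theorem L208661 : sm gb N19392 = N19071 := ded_20_1 (flp_f L205450) (flp_b L205301) L208659
theorem L208663 : sm gc N19392 = N19056 := ded_26_1 (flp_f L205303) L205293 L208659
theorem L208665 : sm gi N19392 = N19064 := ded_41_2 (flp_f L205373) (flp_i L205299) L208659
theorem L208667 : sm ge N19392 = N19250 := ded_35_1 (flp_f L207179) (flp_e L203058) (flp_f L200628) (flp_e L205295) L208659
theorem L208669 : sm gg N19056 = N19393 := rfl
theorem L208671 : sm gb N19393 = N19059 := ded_21_1 (flp_g L205327) (flp_b L205305) L208669
theorem L208673 : sm gd N19393 = N19058 := ded_32_1 (flp_g L205321) (flp_d L205307) L208669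
theorem L208675 : sm gi N19393 = N19065 := ded_43_2 (flp_g L205383) (flp_i L205309) L208669
theorem L208677 : sm gf N19393 = N19211 := ded_39_1 (flp_g L206861) (flp_f L202647) (flp_g L200512) L205303 L208669
theorem L208679 : sm gh N19056 = N19394 := rfl
theorem L208681 : sm gb N19394 = N19060 := ded_22_1 (flp_h L205339) (flp_b L205305) L208679
theorem L208683 : sm gf N19394 = N19057 := ded_40_1 (flp_h L205311) L205303 L208679
theorem L208685 : sm gi N19394 = N19280 := ded_44_2 (flp_h L207449) L203412 (flp_h L200582) (flp_i L205309) L208679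
theorem L208687 : sm gh N19059 = N19395 := rfl
theorem L208689 : sm ga N19395 = N19140 := ded_15_1 L206172 (flp_a L205329) L208687
theorem L208691 : sm gc N19395 = N19129 := ded_28_1 L206049 (flp_c L205331) L208687
theorem L208693 : sm gf N19395 = N19204 := ded_40_1 L206791 (flp_f L205337) L208687
theorem L208695 : sm gg N19395 = N19060 := ded_42_1 (flp_h L205339) L205327 L208687
theorem L208697 : sm gi N19395 = N19281 := ded_44_2 (flp_h L207459) L203438 (flp_h L200594) (flp_i L205335) L208687
theorem L208699 : sm gf N19061 = N19396 := rfl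
theorem L208701 : sm ga N19396 = N19064 := ded_13_1 (flp_f L205373) (flp_a L205351) L208699
theorem L208703 : sm gc N19396 = N19062 := ded_26_1 (flp_f L205357) L205349 L208699
theorem L208705 : sm gh N19396 = N19260 := ded_40_2 (flp_f L207263) (flp_h L205355) L208699
theorem L208707 : sm ge N19396 = N19254 := ded_35_1 (flp_f L207216) (flp_e L203091) (flp_f L200650) (flp_e L205353) L208699
theorem L208709 : sm gg N19062 = N19397 := rfl
theorem L208711 : sm ga N19397 = N19065 := ded_14_1 (flp_g L205383) (flp_a L205359) L208709
theorem L208713 : sm gd N19397 = N19063 := ded_32_1 (flp_g L205365) (flp_d L205361) L208709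
theorem L208715 : sm gh N19397 = N19282 := ded_42_2 (flp_g L207467) (flp_h L205363) L208709
theorem L208717 : sm gg N19064 = N19398 := rfl
theorem L208719 : sm gb N19398 = N19247 := ded_21_1 (flp_g L207148) (flp_b L205375) L208717
theorem L208721 : sm gc N19398 = N19065 := ded_27_1 (flp_g L205383) (flp_c L205377) L208717
theorem L208723 : sm ge N19398 = N19256 := ded_36_1 (flp_g L207232) (flp_e L205381) L208717
theorem L208725 : sm gh N19398 = N19261 := ded_42_2 (flp_g L207275) (flp_h L205379) L208717
theorem L208727 : sm ge N19068 = N19399 := rfl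
theorem L208729 : sm ga N19399 = N19196 := ded_12_1 (flp_e L206728) (flp_a L205421) L208727
theorem L208731 : sm gb N19399 = N19125 := ded_19_1 (flp_e L206008) (flp_b L205423) L208727
theorem L208733 : sm gf N19399 = N19399 := ded_35_2 (flp_e L208727) (flp_f L205419) L200720 L205419 L208727
theorem L208734 : sm gg N19068 = N19400 := rfl
theorem L208736 : sm ga N19400 = N19197 := ded_14_1 (flp_g L206733) (flp_a L205421) L208734
theorem L208738 : sm gb N19400 = N19126 := ded_21_1 (flp_g L206013) (flp_b L205423) L208734
theorem L208740 : sm gd N19400 = N19069 := ded_32_1 (flp_g L205427) (flp_d L205425) L208734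
theorem L208742 : sm gf N19400 = N19084 := ded_39_1 (flp_g L205573) (flp_f L200864) (flp_g L200718) L205419 L208734
theorem L208744 : sm gf N19070 = N19401 := rfl
theorem L208746 : sm ga N19401 = N19081 := ded_13_1 (flp_f L205560) (flp_a L205441) L208744
theorem L208748 : sm gc N19401 = N19073 := ded_26_1 (flp_f L205474) (flp_c L205447) L208744
theorem L208750 : sm gd N19401 = N19071 := ded_31_1 (flp_f L205450) L205439 L208744
theorem L208752 : sm gi N19401 = N19246 := ded_41_2 (flp_f L207140) (flp_i L205445) L208744
theorem L208754 : sm gg N19071 = N19402 := rfl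
theorem L208756 : sm ga N19402 = N19082 := ded_14_1 (flp_g L205566) (flp_a L205452) L208754
theorem L208758 : sm gc N19402 = N19072 := ded_27_1 (flp_g L205460) (flp_c L205454) L208754
theorem L208760 : sm ge N19402 = N19252 := ded_36_1 (flp_g L207197) (flp_e L205458) L208754
theorem L208762 : sm gi N19402 = N19247 := ded_43_2 (flp_g L207148) (flp_i L205456) L208754
theorem L208764 : sm gf N19402 = N19195 := ded_39_1 (flp_g L206722) (flp_f L202504) (flp_g L200759) L205450 L208754
theorem L208766 : sm ge N19073 = N19403 := rfl
theorem L208768 : sm ga N19403 = N19083 := ded_12_1 (flp_e L205570) (flp_a L205476) L208766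
theorem L208770 : sm gi N19403 = N19399 := ded_38_2 (flp_e L208727) (flp_i L205480) L208766
theorem L208772 : sm gf N19403 = N19403 := ded_35_2 (flp_e L208766) (flp_f L205474) L200783 L205474 L208766
theorem L208773 : sm gg N19073 = N19404 := rfl
theorem L208775 : sm ga N19404 = N19084 := ded_14_1 (flp_g L205573) (flp_a L205476) L208773
theorem L208777 : sm gd N19404 = N19074 := ded_32_1 (flp_g L205482) (flp_d L205478) L208773
theorem L208779 : sm gi N19404 = N19400 := ded_43_2 (flp_g L208734) (flp_i L205480) L208773
theorem L208781 : sm gf N19404 = N19197 := ded_39_1 (flp_g L206733) (flp_f L202518) (flp_g L200779) L205474 L208773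
theorem L208783 : sm gf N19075 = N19405 := rfl
theorem L208785 : sm ga N19405 = N19251 := ded_13_1 (flp_f L207189) (flp_a L205496) L208783
theorem L208787 : sm gc N19405 = N19216 := ded_26_1 (flp_f L206894) (flp_c L205502) L208783
theorem L208789 : sm gd N19405 = N19076 := ded_31_1 (flp_f L205507) L205494 L208783
theorem L208791 : sm gh N19405 = N19174 := ded_40_2 (flp_f L206513) (flp_h L205505) L208783
theorem L208793 : sm gi N19405 = N19203 := ded_41_2 (flp_f L206775) (flp_i L205500) L208783
theorem L208795 : sm gg N19076 = N19406 := rfl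
theorem L208797 : sm ga N19406 = N19252 := ded_14_1 (flp_g L207197) (flp_a L205509) L208795
theorem L208799 : sm gc N19406 = N19077 := ded_27_1 (flp_g L205519) (flp_c L205511) L208795
theorem L208801 : sm ge N19406 = N19082 := ded_36_1 (flp_g L205566) (flp_e L205517) L208795
theorem L208803 : sm gh N19406 = N19188 := ded_42_2 (flp_g L206656) (flp_h L205513) L208795
theorem L208805 : sm gi N19406 = N19204 := ded_43_2 (flp_g L206783) (flp_i L205515) L208795
theorem L208807 : sm gf N19406 = N19281 := ded_39_1 L207465 L203446 (flp_g L200812) L205507 L208795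
theorem L208809 : sm gf N19078 = N19407 := rfl
theorem L208811 : sm ga N19407 = N19080 := ded_13_1 (flp_f L205552) (flp_a L205533) L208809
theorem L208813 : sm gc N19407 = N19091 := ded_26_1 (flp_f L205639) (flp_c L205535) L208809
theorem L208815 : sm gh N19407 = N19208 := ded_40_2 (flp_f L206831) (flp_h L205539) L208809
theorem L208817 : sm gf N19079 = N19408 := rfl
theorem L208819 : sm gb N19408 = N19081 := ded_20_1 (flp_f L205560) (flp_b L205543) L208817
theorem L208821 : sm gc N19408 = N19355 := ded_26_1 (flp_f L208286) (flp_c L205547) L208817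
theorem L208823 : sm gd N19408 = N19080 := ded_31_1 (flp_f L205552) L205541 L208817
theorem L208825 : sm gh N19408 = N19246 := ded_40_2 (flp_f L207140) (flp_h L205550) L208817
theorem L208827 : sm gg N19080 = N19409 := rfl
theorem L208829 : sm gb N19409 = N19082 := ded_21_1 (flp_g L205566) (flp_b L205554) L208827
theorem L208831 : sm gc N19409 = N19092 := ded_27_1 (flp_g L205649) (flp_c L205556) L208827
theorem L208833 : sm gh N19409 = N19262 := ded_42_2 (flp_g L207287) (flp_h L205558) L208827
theorem L208835 : sm gf N19409 = N19398 := ded_39_1 (flp_g L208717) (flp_f L205373) (flp_g L200845) L205552 L208827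
theorem L208837 : sm ge N19081 = N19410 := rfl
theorem L208839 : sm gc N19410 = N19083 := ded_25_1 (flp_e L205570) (flp_c L205562) L208837
theorem L208841 : sm gf N19410 = N19410 := ded_35_2 (flp_e L208837) (flp_f L205560) L200853 L205560 L208837
theorem L208842 : sm gg N19081 = N19411 := rfl
theorem L208844 : sm gc N19411 = N19084 := ded_27_1 (flp_g L205573) (flp_c L205562) L208842
theorem L208846 : sm gd N19411 = N19082 := ded_32_1 (flp_g L205566) (flp_d L205564) L208842
theorem L208848 : sm gg N19083 = N19412 := rfl
theorem L208850 : sm ge N19412 = N19084 := ded_36_1 (flp_g L205573) L205570 L208848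
theorem L208852 : sm gf N19086 = N19413 := rfl
theorem L208854 : sm ga N19413 = N19088 := ded_13_1 (flp_f L205615) (flp_a L205595) L208852
theorem L208856 : sm gb N19413 = N19148 := ded_20_1 (flp_f L206256) (flp_b L205597) L208852
theorem L208858 : sm gd N19413 = N19147 := ded_31_1 (flp_f L206248) (flp_d L205601) L208852
theorem L208860 : sm gh N19413 = N19089 := ded_40_2 (flp_f L205623) (flp_h L205599) L208852
theorem L208862 : sm ge N19413 = N19091 := ded_35_1 (flp_f L205639) (flp_e L200934) (flp_f L200902) L205593 L208852
theorem L208864 : sm gf N19087 = N19414 := rfl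
theorem L208866 : sm ga N19414 = N19147 := ded_13_1 (flp_f L206248) (flp_a L205605) L208864
theorem L208868 : sm gb N19414 = N19089 := ded_20_1 (flp_f L205623) (flp_b L205607) L208864
theorem L208870 : sm gd N19414 = N19088 := ded_31_1 (flp_f L205615) L205603 L208864
theorem L208872 : sm gh N19414 = N19148 := ded_40_2 (flp_f L206256) (flp_h L205613) L208864
theorem L208874 : sm ge N19414 = N19153 := ded_35_1 (flp_f L206296) (flp_e L201882) (flp_f L200968) (flp_e L205611) L208864
theorem L208876 : sm gg N19088 = N19415 := rfl
theorem L208878 : sm gb N19415 = N19090 := ded_21_1 (flp_g L205631) (flp_b L205617) L208876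
theorem L208880 : sm ge N19415 = N19092 := ded_36_1 (flp_g L205649) (flp_e L205621) L208876
theorem L208882 : sm gh N19415 = N19157 := ded_42_2 (flp_g L206332) (flp_h L205619) L208876
theorem L208884 : sm gg N19089 = N19416 := rfl
theorem L208886 : sm ga N19416 = N19157 := ded_14_1 (flp_g L206332) (flp_a L205625) L208884
theorem L208888 : sm gd N19416 = N19090 := ded_32_1 (flp_g L205631) (flp_d L205627) L208884
theorem L208890 : sm ge N19416 = N19360 := ded_36_1 (flp_g L208347) (flp_e L205629) L208884
theorem L208892 : sm gg N19091 = N19417 := rfl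
theorem L208894 : sm ga N19417 = N19092 := ded_14_1 (flp_g L205649) (flp_a L205641) L208892
theorem L208896 : sm gb N19417 = N19158 := ded_21_1 (flp_g L206340) (flp_b L205643) L208892
theorem L208898 : sm gd N19417 = N19361 := ded_32_1 (flp_g L208355) (flp_d L205645) L208892
theorem L208900 : sm gh N19417 = N19360 := ded_42_2 (flp_g L208347) (flp_h L205647) L208892
theorem L208902 : sm gf N19417 = N19397 := ded_39_1 (flp_g L208709) (flp_f L205357) (flp_g L200940) L205639 L208892
theorem L208904 : sm ge N19095 = N19418 := rfl
theorem L208906 : sm ga N19418 = N19125 := ded_12_1 (flp_e L206008) (flp_a L205689) L208904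
theorem L208908 : sm gc N19418 = N19364 := ded_25_1 (flp_e L208391) (flp_c L205691) L208904
theorem L208910 : sm gh N19418 = N19268 := ded_37_2 (flp_e L207347) (flp_h L205695) L208904
theorem L208912 : sm gf N19418 = N19418 := ded_35_2 (flp_e L208904) (flp_f L205687) L201060 L205687 L208904
theorem L208913 : sm gg N19095 = N19419 := rfl
theorem L208915 : sm ga N19419 = N19126 := ded_14_1 (flp_g L206013) (flp_a L205689) L208913
theorem L208917 : sm gc N19419 = N19365 := ded_27_1 (flp_g L208396) (flp_c L205691) L208913
theorem L208919 : sm gd N19419 = N19096 := ded_32_1 (flp_g L205697) (flp_d L205693) L208913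
theorem L208921 : sm gh N19419 = N19269 := ded_42_2 (flp_g L207352) (flp_h L205695) L208913
theorem L208923 : sm ge N19097 = N19420 := rfl
theorem L208925 : sm ga N19420 = N19230 := ded_12_1 (flp_e L206992) (flp_a L205707) L208923
theorem L208927 : sm gb N19420 = N19176 := ded_19_1 (flp_e L206529) (flp_b L205709) L208923
theorem L208929 : sm gf N19420 = N19420 := ded_35_2 (flp_e L208923) (flp_f L205705) L201097 L205705 L208923
theorem L208930 : sm gg N19097 = N19421 := rfl
theorem L208932 : sm ga N19421 = N19231 := ded_14_1 (flp_g L206997) (flp_a L205707) L208930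
theorem L208934 : sm gb N19421 = N19177 := ded_21_1 (flp_g L206532) (flp_b L205709) L208930
theorem L208936 : sm gd N19421 = N19098 := ded_32_1 (flp_g L205713) (flp_d L205711) L208930
theorem L208938 : sm gf N19421 = N19118 := ded_39_1 (flp_g L205938) (flp_f L201351) (flp_g L201095) L205705 L208930
theorem L208940 : sm gi N19099 = N19422 := rfl
theorem L208942 : sm ga N19422 = N19239 := ded_16_1 (flp_i L207066) (flp_a L205727) L208940
theorem L208944 : sm gb N19422 = N19240 := ded_23_1 L207084 (flp_b L205729) L208940
theorem L208946 : sm gd N19422 = N19387 := ded_34_1 L208609 (flp_d L205737) L208940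
theorem L208948 : sm ge N19422 = N19243 := ded_38_1 L207112 (flp_e L205731) L208940
theorem L208950 : sm gf N19422 = N19119 := ded_41_1 (flp_i L205944) (flp_f L205733) L208940
theorem L208952 : sm gg N19422 = N19100 := ded_43_1 (flp_i L205739) (flp_g L205735) L208940
theorem L208954 : sm gf N19101 = N19423 := rfl
theorem L208956 : sm ga N19423 = N19114 := ded_13_1 (flp_f L205908) (flp_a L205753) L208954
theorem L208958 : sm gc N19423 = N19314 := ded_26_1 (flp_f L207857) (flp_c L205759) L208954
theorem L208960 : sm gd N19423 = N19102 := ded_31_1 (flp_f L205762) L205751 L208954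
theorem L208962 : sm gi N19423 = N19104 := ded_41_2 (flp_f L205788) (flp_i L205757) L208954
theorem L208964 : sm gh N19101 = N19424 := rfl
theorem L208966 : sm ga N19424 = N19115 := ded_15_1 (flp_h L205916) (flp_a L205753) L208964
theorem L208968 : sm gc N19424 = N19315 := ded_28_1 (flp_h L207867) (flp_c L205759) L208964
theorem L208970 : sm ge N19424 = N19424 := ded_37_1 (flp_h L208964) L205761 L208964
theorem L208971 : sm gg N19424 = N19226 := ded_42_1 (flp_h L206967) (flp_g L205755) L208964
theorem L208973 : sm gd N19424 = N19277 := ded_33_1 (flp_h L207419) (flp_d L203384) (flp_h L201196) L205751 L208964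
theorem L208975 : sm gg N19102 = N19425 := rfl
theorem L208977 : sm ga N19425 = N19116 := ded_14_1 (flp_g L205923) (flp_a L205764) L208975
theorem L208979 : sm gc N19425 = N19103 := ded_27_1 (flp_g L205774) (flp_c L205766) L208975
theorem L208981 : sm ge N19425 = N19330 := ded_36_1 (flp_g L208036) (flp_e L205772) L208975
theorem L208983 : sm gh N19425 = N19278 := ded_42_2 (flp_g L207427) (flp_h L205768) L208975
theorem L208985 : sm gi N19425 = N19105 := ded_43_2 (flp_g L205796) (flp_i L205770) L208975
theorem L208987 : sm gf N19425 = N19227 := ded_39_1 (flp_g L206972) (flp_f L202770) (flp_g L201194) L205762 L208975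
theorem L208989 : sm ge N19104 = N19426 := rfl
theorem L208991 : sm ga N19426 = N19117 := ded_12_1 (flp_e L205933) (flp_a L205790) L208989
theorem L208993 : sm gc N19426 = N19420 := ded_25_1 (flp_e L208923) (flp_c L205792) L208989
theorem L208995 : sm gf N19426 = N19426 := ded_35_2 (flp_e L208989) (flp_f L205788) L201220 L205788 L208989
theorem L208996 : sm gg N19104 = N19427 := rfl
theorem L208998 : sm ga N19427 = N19118 := ded_14_1 (flp_g L205938) (flp_a L205790) L208996
theorem L209000 : sm gc N19427 = N19421 := ded_27_1 (flp_g L208930) (flp_c L205792) L208996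
theorem L209002 : sm gd N19427 = N19105 := ded_32_1 (flp_g L205796) (flp_d L205794) L208996
theorem L209004 : sm gf N19427 = N19231 := ded_39_1 (flp_g L206997) (flp_f L202797) (flp_g L201216) L205788 L208996
theorem L209006 : sm gf N19106 = N19428 := rfl
theorem L209008 : sm ga N19428 = N19333 := ded_13_1 (flp_f L208071) (flp_a L205808) L209006
theorem L209010 : sm gb N19428 = N19362 := ded_20_1 (flp_f L208369) (flp_b L205810) L209006
theorem L209012 : sm gc N19428 = N19112 := ded_26_1 (flp_f L205892) (flp_c L205814) L209006
theorem L209014 : sm gd N19428 = N19107 := ded_31_1 (flp_f L205819) L205806 L209006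
theorem L209016 : sm gh N19428 = N19266 := ded_40_2 (flp_f L207331) (flp_h L205817) L209006
theorem L209018 : sm gi N19428 = N19305 := ded_41_2 (flp_f L207756) (flp_i L205812) L209006
theorem L209020 : sm gg N19107 = N19429 := rfl
theorem L209022 : sm ga N19429 = N19334 := ded_14_1 (flp_g L208081) (flp_a L205821) L209020
theorem L209024 : sm gb N19429 = N19363 := ded_21_1 (flp_g L208379) (flp_b L205823) L209020
theorem L209026 : sm gc N19429 = N19108 := ded_27_1 (flp_g L205833) (flp_c L205825) L209020
theorem L209028 : sm ge N19429 = N19308 := ded_36_1 (flp_g L207792) (flp_e L205831) L209020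
theorem L209030 : sm gh N19429 = N19275 := ded_42_2 (flp_g L207391) (flp_h L205827) L209020
theorem L209032 : sm gi N19429 = N19306 := ded_43_2 (flp_g L207766) (flp_i L205829) L209020
theorem L209034 : sm gf N19109 = N19430 := rfl
theorem L209036 : sm ga N19430 = N19329 := ded_13_1 (flp_f L208026) (flp_a L205849) L209034
theorem L209038 : sm gb N19430 = N19266 := ded_20_1 (flp_f L207331) (flp_b L205851) L209034
theorem L209040 : sm gc N19430 = N19305 := ded_26_1 (flp_f L207756) (flp_c L205857) L209034
theorem L209042 : sm gd N19430 = N19110 := ded_31_1 (flp_f L205862) L205847 L209034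
theorem L209044 : sm gh N19430 = N19362 := ded_40_2 (flp_f L208369) (flp_h L205860) L209034
theorem L209046 : sm gi N19430 = N19112 := ded_41_2 (flp_f L205892) (flp_i L205855) L209034
theorem L209048 : sm gg N19110 = N19431 := rfl
theorem L209050 : sm ga N19431 = N19330 := ded_14_1 (flp_g L208036) (flp_a L205864) L209048
theorem L209052 : sm gb N19431 = N19267 := ded_21_1 (flp_g L207337) (flp_b L205866) L209048
theorem L209054 : sm gc N19431 = N19111 := ded_27_1 (flp_g L205876) (flp_c L205868) L209048
theorem L209056 : sm ge N19431 = N19116 := ded_36_1 (flp_g L205923) (flp_e L205874) L209048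
theorem L209058 : sm gh N19431 = N19274 := ded_42_2 (flp_g L207377) (flp_h L205870) L209048
theorem L209060 : sm gi N19431 = N19113 := ded_43_2 (flp_g L205898) (flp_i L205872) L209048
theorem L209062 : sm gf N19431 = N19429 := ded_39_1 (flp_g L209020) (flp_f L205819) (flp_g L201285) L205862 L209048
theorem L209064 : sm ge N19112 = N19432 := rfl
theorem L209066 : sm gb N19432 = N19268 := ded_19_1 (flp_e L207347) (flp_b L205894) L209064
theorem L209068 : sm gd N19432 = N19117 := ded_30_1 (flp_e L205933) L201355 (flp_e L201318) (flp_d L205896) L209064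
theorem L209070 : sm gf N19432 = N19432 := ded_35_2 (flp_e L209064) (flp_f L205892) L201309 L205892 L209064
theorem L209071 : sm gg N19112 = N19433 := rfl
theorem L209073 : sm gb N19433 = N19269 := ded_21_1 (flp_g L207352) (flp_b L205894) L209071
theorem L209075 : sm gd N19433 = N19113 := ded_32_1 (flp_g L205898) (flp_d L205896) L209071
theorem L209077 : sm ge N19114 = N19434 := rfl
theorem L209079 : sm gb N19434 = N19270 := ded_19_1 (flp_e L207356) (flp_b L205910) L209077
theorem L209081 : sm gi N19434 = N19117 := ded_38_2 (flp_e L205933) (flp_i L205914) L209077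
theorem L209083 : sm gf N19434 = N19434 := ded_35_2 (flp_e L209077) (flp_f L205908) L201334 L205908 L209077
theorem L209084 : sm gg N19114 = N19435 := rfl
theorem L209086 : sm gb N19435 = N19271 := ded_21_1 (flp_g L207361) (flp_b L205910) L209084
theorem L209088 : sm gd N19435 = N19116 := ded_32_1 (flp_g L205923) (flp_d L205912) L209084
theorem L209090 : sm gi N19435 = N19118 := ded_43_2 (flp_g L205938) (flp_i L205914) L209084
theorem L209092 : sm gh N19114 = N19436 := rfl
theorem L209094 : sm gb N19436 = N19272 := ded_22_1 (flp_h L207367) (flp_b L205910) L209092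
theorem L209096 : sm gf N19436 = N19115 := ded_40_1 (flp_h L205916) L205908 L209092
theorem L209098 : sm gd N19436 = N19280 := ded_33_1 (flp_h L207449) L203410 (flp_h L201341) (flp_d L205912) L209092
theorem L209100 : sm gg N19117 = N19437 := rfl
theorem L209102 : sm gb N19437 = N19273 := ded_21_1 (flp_g L207373) (flp_b L205935) L209100
theorem L209104 : sm ge N19437 = N19118 := ded_36_1 (flp_g L205938) L205933 L209100
theorem L209106 : sm ge N19121 = N19438 := rfl
theorem L209108 : sm gi N19438 = N19418 := ded_38_2 (flp_e L208904) (flp_i L205966) L209106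
theorem L209110 : sm gd N19438 = N19125 := ded_30_1 (flp_e L206008) L201553 (flp_e L201492) (flp_d L205964) L209106
theorem L209112 : sm gf N19438 = N19438 := ded_35_2 (flp_e L209106) (flp_f L205962) L201483 L205962 L209106
theorem L209113 : sm gg N19121 = N19439 := rfl
theorem L209115 : sm gd N19439 = N19122 := ded_32_1 (flp_g L205968) (flp_d L205964) L209113
theorem L209117 : sm gi N19439 = N19419 := ded_43_2 (flp_g L208913) (flp_i L205966) L209113
theorem L209119 : sm ge N19123 = N19440 := rfl
theorem L209121 : sm ga N19440 = N19438 := ded_12_1 (flp_e L209106) (flp_a L205980) L209119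
theorem L209123 : sm gb N19440 = N19403 := ded_19_1 (flp_e L208766) (flp_b L205982) L209119
theorem L209125 : sm gc N19440 = N19379 := ded_25_1 (flp_e L208533) (flp_c L205984) L209119
theorem L209127 : sm gh N19440 = N19338 := ded_37_2 (flp_e L208128) (flp_h L205988) L209119
theorem L209129 : sm gi N19440 = N19125 := ded_38_2 (flp_e L206008) (flp_i L205990) L209119
theorem L209131 : sm gd N19440 = N19418 := ded_30_1 (flp_e L208904) L205693 (flp_e L201531) (flp_d L205986) L209119
theorem L209133 : sm gf N19440 = N19440 := ded_35_2 (flp_e L209119) (flp_f L205978) L201516 L205978 L209119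
theorem L209134 : sm gg N19123 = N19441 := rfl
theorem L209136 : sm ga N19441 = N19439 := ded_14_1 (flp_g L209113) (flp_a L205980) L209134
theorem L209138 : sm gb N19441 = N19404 := ded_21_1 (flp_g L208773) (flp_b L205982) L209134
theorem L209140 : sm gc N19441 = N19380 := ded_27_1 (flp_g L208538) (flp_c L205984) L209134
theorem L209142 : sm gd N19441 = N19124 := ded_32_1 (flp_g L205992) (flp_d L205986) L209134
theorem L209144 : sm gh N19441 = N19339 := ded_42_2 (flp_g L208133) (flp_h L205988) L209134
theorem L209146 : sm gi N19441 = N19126 := ded_43_2 (flp_g L206013) (flp_i L205990) L209134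
theorem L209148 : sm gf N19441 = N19290 := ded_39_1 (flp_g L207561) (flp_f L203591) (flp_g L201510) L205978 L209134
theorem L209150 : sm gg N19125 = N19442 := rfl
theorem L209152 : sm gc N19442 = N19384 := ded_27_1 (flp_g L208569) (flp_c L206010) L209150
theorem L209154 : sm ge N19442 = N19126 := ded_36_1 (flp_g L206013) L206008 L209150
theorem L209156 : sm gg N19127 = N19443 := rfl
theorem L209158 : sm ga N19443 = N19128 := ded_14_1 (flp_g L206031) (flp_a L206021) L209156
theorem L209160 : sm gb N19443 = N19397 := ded_21_1 (flp_g L208709) (flp_b L206023) L209156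
theorem L209162 : sm gc N19443 = N19263 := ded_27_1 (flp_g L207299) (flp_c L206025) L209156
theorem L209164 : sm gd N19443 = N19313 := ded_32_1 (flp_g L207843) (flp_d L206027) L209156
theorem L209166 : sm ge N19443 = N19282 := ded_36_1 (flp_g L207467) (flp_e L206029) L209156
theorem L209168 : sm gf N19443 = N19158 := ded_39_1 (flp_g L206340) (flp_f L201944) (flp_g L201601) L206019 L209156
theorem L209170 : sm ge N19131 = N19444 := rfl
theorem L209172 : sm ga N19444 = N19132 := ded_12_1 (flp_e L206080) L206065 L209170
theorem L209174 : sm gb N19444 = N19277 := ded_19_1 L207425 (flp_b L206078) L209170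
theorem L209176 : sm gc N19444 = N19150 := ded_25_1 (flp_e L206274) (flp_c L206067) L209170
theorem L209178 : sm gg N19444 = N19248 := ded_36_2 (flp_e L207160) (flp_g L206072) L209170
theorem L209180 : sm gh N19444 = N19241 := ded_37_2 L207096 (flp_h L206074) L209170
theorem L209182 : sm gi N19444 = N19136 := ded_38_2 (flp_e L206133) (flp_i L206076) L209170
theorem L209184 : sm gd N19132 = N19445 := rfl
theorem L209186 : sm gb N19445 = N19133 := ded_18_1 (flp_d L206092) (flp_b L206082) L209184
theorem L209188 : sm gg N19445 = N19249 := ded_32_2 (flp_d L207170) (flp_g L206086) L209184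
theorem L209190 : sm gi N19445 = N19137 := ded_34_2 (flp_d L206143) (flp_i L206090) L209184
theorem L209192 : sm gc N19445 = N19375 := ded_24_1 L208499 L205235 L202300 (flp_c L206084) L209184
theorem L209194 : sm ge N19445 = N19445 := ded_30_2 (flp_d L209184) (flp_e L206080) L201657 L206080 L209184
theorem L209195 : sm gh N19445 = N19214 := ded_33_2 (flp_d L206879) L202695 L202926 (flp_h L206088) L209184
theorem L209197 : sm gf N19132 = N19446 := rfl
theorem L209199 : sm gb N19446 = N19134 := ded_20_1 (flp_f L206105) (flp_b L206082) L209197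
theorem L209201 : sm gc N19446 = N19151 := ded_26_1 (flp_f L206284) (flp_c L206084) L209197
theorem L209203 : sm gh N19446 = N19242 := ded_40_2 (flp_f L207098) (flp_h L206088) L209197
theorem L209205 : sm gi N19446 = N19138 := ded_41_2 (flp_f L206154) (flp_i L206090) L209197
theorem L209207 : sm ge N19446 = N19394 := ded_35_1 L208683 L205315 (flp_f L201658) L206080 L209197
theorem L209209 : sm gf N19133 = N19447 := rfl
theorem L209211 : sm ga N19447 = N19272 := ded_13_1 L207369 (flp_a L206094) L209209
theorem L209213 : sm gc N19447 = N19174 := ded_26_1 (flp_f L206513) (flp_c L206100) L209209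
theorem L209215 : sm gd N19447 = N19134 := ded_31_1 (flp_f L206105) L206092 L209209
theorem L209217 : sm gh N19447 = N19216 := ded_40_2 (flp_f L206894) (flp_h L206103) L209209
theorem L209219 : sm gi N19447 = N19139 := ded_41_2 (flp_f L206162) (flp_i L206098) L209209
theorem L209221 : sm gg N19134 = N19448 := rfl
theorem L209223 : sm ga N19448 = N19281 := ded_14_1 L207465 (flp_a L206107) L209221
theorem L209225 : sm gc N19448 = N19135 := ded_27_1 (flp_g L206117) (flp_c L206109) L209221
theorem L209227 : sm ge N19448 = N19395 := ded_36_1 L208695 (flp_e L206115) L209221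
theorem L209229 : sm gh N19448 = N19244 := ded_42_2 (flp_g L207114) (flp_h L206111) L209221
theorem L209231 : sm gi N19448 = N19140 := ded_43_2 (flp_g L206168) (flp_i L206113) L209221
theorem L209233 : sm gf N19448 = N19252 := ded_39_1 (flp_g L207197) (flp_f L203075) (flp_g L201674) L206105 L209221
theorem L209235 : sm gf N19136 = N19449 := rfl
theorem L209237 : sm ga N19449 = N19138 := ded_13_1 (flp_f L206154) (flp_a L206135) L209235
theorem L209239 : sm gc N19449 = N19153 := ded_26_1 (flp_f L206296) (flp_c L206137) L209235
theorem L209241 : sm gh N19449 = N19141 := ded_40_2 (flp_f L206176) (flp_h L206141) L209235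
theorem L209243 : sm gf N19137 = N19450 := rfl
theorem L209245 : sm gb N19450 = N19139 := ded_20_1 (flp_f L206162) (flp_b L206145) L209243
theorem L209247 : sm gc N19450 = N19374 := ded_26_1 L208489 (flp_c L206149) L209243
theorem L209249 : sm gd N19450 = N19138 := ded_31_1 (flp_f L206154) L206143 L209243
theorem L209251 : sm gh N19450 = N19366 := ded_40_2 (flp_f L208404) (flp_h L206152) L209243
theorem L209253 : sm gg N19138 = N19451 := rfl
theorem L209255 : sm gb N19451 = N19140 := ded_21_1 (flp_g L206168) (flp_b L206156) L209253
theorem L209257 : sm gc N19451 = N19154 := ded_27_1 (flp_g L206306) (flp_c L206158) L209253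
theorem L209259 : sm gh N19451 = N19142 := ded_42_2 (flp_g L206184) (flp_h L206160) L209253
theorem L209261 : sm gf N19451 = N19256 := ded_39_1 (flp_g L207232) (flp_f L203106) (flp_g L201709) L206154 L209253
theorem L209263 : sm ge N19139 = N19452 := rfl
theorem L209265 : sm gc N19452 = N19176 := ded_25_1 (flp_e L206529) (flp_c L206164) L209263
theorem L209267 : sm gf N19452 = N19452 := ded_35_2 (flp_e L209263) (flp_f L206162) L201719 L206162 L209263
theorem L209268 : sm gg N19139 = N19453 := rfl
theorem L209270 : sm gc N19453 = N19177 := ded_27_1 (flp_g L206532) (flp_c L206164) L209268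
theorem L209272 : sm gd N19453 = N19140 := ded_32_1 (flp_g L206168) (flp_d L206166) L209268
theorem L209274 : sm gf N19453 = N19258 := ded_39_1 (flp_g L207245) (flp_f L203114) (flp_g L201715) L206162 L209268
theorem L209276 : sm gg N19141 = N19454 := rfl
theorem L209278 : sm ga N19454 = N19142 := ded_14_1 (flp_g L206184) (flp_a L206178) L209276
theorem L209280 : sm gc N19454 = N19158 := ded_27_1 (flp_g L206340) (flp_c L206180) L209276
theorem L209282 : sm gi N19454 = N19443 := ded_43_2 (flp_g L209156) (flp_i L206182) L209276
theorem L209284 : sm gf N19454 = N19263 := ded_39_1 (flp_g L207299) (flp_f L203190) (flp_g L201752) L206176 L209276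
theorem L209286 : sm gf N19144 = N19455 := rfl
theorem L209288 : sm gb N19455 = N19145 := ded_20_1 (flp_f L206220) (flp_b L206210) L209286
theorem L209290 : sm gc N19455 = N19394 := ded_26_1 L208683 (flp_c L206212) L209286
theorem L209292 : sm gh N19455 = N19392 := ded_40_2 (flp_f L208659) (flp_h L206216) L209286
theorem L209294 : sm gi N19455 = N19147 := ded_41_2 (flp_f L206248) (flp_i L206218) L209286
theorem L209296 : sm ge N19455 = N19151 := ded_35_1 (flp_f L206284) (flp_e L201864) (flp_f L201788) L206208 L209286
theorem L209298 : sm gg N19145 = N19456 := rfl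
theorem L209300 : sm ga N19456 = N19259 := ded_14_1 (flp_g L207251) (flp_a L206222) L209298
theorem L209302 : sm gc N19456 = N19146 := ded_27_1 (flp_g L206232) (flp_c L206224) L209298
theorem L209304 : sm ge N19456 = N19152 := ded_36_1 (flp_g L206290) (flp_e L206230) L209298
theorem L209306 : sm gh N19456 = N19402 := ded_42_2 (flp_g L208754) (flp_h L206226) L209298
theorem L209308 : sm gi N19456 = N19149 := ded_43_2 (flp_g L206264) (flp_i L206228) L209298
theorem L209310 : sm gf N19456 = N19209 := ded_39_1 (flp_g L206841) (flp_f L202613) (flp_g L201804) L206220 L209298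
theorem L209312 : sm gg N19147 = N19457 := rfl
theorem L209314 : sm gb N19457 = N19149 := ded_21_1 (flp_g L206264) (flp_b L206250) L209312
theorem L209316 : sm ge N19457 = N19154 := ded_36_1 (flp_g L206306) (flp_e L206254) L209312
theorem L209318 : sm gh N19457 = N19156 := ded_42_2 (flp_g L206324) (flp_h L206252) L209312
theorem L209320 : sm gf N19457 = N19415 := ded_39_1 (flp_g L208876) (flp_f L205615) (flp_g L201828) L206248 L209312
theorem L209322 : sm gg N19148 = N19458 := rfl
theorem L209324 : sm ga N19458 = N19156 := ded_14_1 (flp_g L206324) (flp_a L206258) L209322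
theorem L209326 : sm gd N19458 = N19149 := ded_32_1 (flp_g L206264) (flp_d L206260) L209322
theorem L209328 : sm ge N19458 = N19158 := ded_36_1 (flp_g L206340) (flp_e L206262) L209322
theorem L209330 : sm gf N19458 = N19416 := ded_39_1 (flp_g L208884) (flp_f L205623) (flp_g L201836) L206256 L209322
theorem L209332 : sm gf N19150 = N19459 := rfl
theorem L209334 : sm ga N19459 = N19151 := ded_13_1 (flp_f L206284) (flp_a L206276) L209332
theorem L209336 : sm gb N19459 = N19297 := ded_20_1 (flp_f L207644) (flp_b L206278) L209332
theorem L209338 : sm gd N19459 = N19296 := ded_31_1 (flp_f L207630) (flp_d L206282) L209332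
theorem L209340 : sm gi N19459 = N19153 := ded_41_2 (flp_f L206296) (flp_i L206280) L209332
theorem L209342 : sm gg N19151 = N19460 := rfl
theorem L209344 : sm gb N19460 = N19152 := ded_21_1 (flp_g L206290) (flp_b L206286) L209342
theorem L209346 : sm gi N19460 = N19154 := ded_43_2 (flp_g L206306) (flp_i L206288) L209342
theorem L209348 : sm gg N19153 = N19461 := rfl
theorem L209350 : sm ga N19461 = N19154 := ded_14_1 (flp_g L206306) (flp_a L206298) L209348
theorem L209352 : sm gb N19461 = N19360 := ded_21_1 (flp_g L208347) (flp_b L206300) L209348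
theorem L209354 : sm gd N19461 = N19359 := ded_32_1 (flp_g L208333) (flp_d L206302) L209348
theorem L209356 : sm gh N19461 = N19158 := ded_42_2 (flp_g L206340) (flp_h L206304) L209348
theorem L209358 : sm gd N19159 = N19462 := rfl
theorem L209360 : sm ga N19462 = N19223 := ded_11_1 (flp_d L206944) (flp_a L206346) L209358
theorem L209362 : sm gb N19462 = N19160 := ded_18_1 (flp_d L206358) (flp_b L206348) L209358
theorem L209364 : sm gg N19462 = N19214 := ded_32_2 (flp_d L206879) (flp_g L206352) L209358
theorem L209366 : sm gi N19462 = N19163 := ded_34_2 (flp_d L206395) (flp_i L206356) L209358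
theorem L209368 : sm ge N19462 = N19462 := ded_30_2 (flp_d L209358) (flp_e L206344) L201954 L206344 L209358
theorem L209369 : sm gh N19462 = N19249 := ded_33_2 (flp_d L207170) L203064 (flp_d L202300) (flp_h L206354) L209358
theorem L209371 : sm gf N19159 = N19463 := rfl
theorem L209373 : sm ga N19463 = N19224 := ded_13_1 (flp_f L206951) (flp_a L206346) L209371
theorem L209375 : sm gb N19463 = N19161 := ded_20_1 (flp_f L206371) (flp_b L206348) L209371
theorem L209377 : sm gc N19463 = N19238 := ded_26_1 L207064 (flp_c L206350) L209371
theorem L209379 : sm gh N19463 = N19184 := ded_40_2 (flp_f L206612) (flp_h L206354) L209371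
theorem L209381 : sm gi N19463 = N19164 := ded_41_2 (flp_f L206406) (flp_i L206356) L209371
theorem L209383 : sm ge N19463 = N19235 := ded_35_1 L207032 L202840 (flp_f L201955) L206344 L209371
theorem L209385 : sm gf N19160 = N19464 := rfl
theorem L209387 : sm ga N19464 = N19174 := ded_13_1 (flp_f L206513) (flp_a L206360) L209385
theorem L209389 : sm gc N19464 = N19272 := ded_26_1 L207369 (flp_c L206366) L209385
theorem L209391 : sm gd N19464 = N19161 := ded_31_1 (flp_f L206371) L206358 L209385
theorem L209393 : sm gh N19464 = N19251 := ded_40_2 (flp_f L207189) (flp_h L206369) L209385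
theorem L209395 : sm gi N19464 = N19165 := ded_41_2 (flp_f L206418) (flp_i L206364) L209385
theorem L209397 : sm gg N19161 = N19465 := rfl
theorem L209399 : sm ga N19465 = N19175 := ded_14_1 (flp_g L206519) (flp_a L206373) L209397
theorem L209401 : sm gc N19465 = N19162 := ded_27_1 (flp_g L206381) (flp_c L206375) L209397
theorem L209403 : sm gh N19465 = N19185 := ded_42_2 (flp_g L206620) (flp_h L206377) L209397
theorem L209405 : sm gi N19465 = N19166 := ded_43_2 (flp_g L206424) (flp_i L206379) L209397
theorem L209407 : sm gf N19465 = N19217 := ded_39_1 (flp_g L206902) (flp_f L202706) (flp_g L201973) L206371 L209397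
theorem L209409 : sm gf N19163 = N19466 := rfl
theorem L209411 : sm ga N19466 = N19228 := ded_13_1 (flp_f L206978) (flp_a L206397) L209409
theorem L209413 : sm gb N19466 = N19165 := ded_20_1 (flp_f L206418) (flp_b L206399) L209409
theorem L209415 : sm gd N19466 = N19164 := ded_31_1 (flp_f L206406) L206395 L209409
theorem L209417 : sm gh N19466 = N19172 := ded_40_2 (flp_f L206501) (flp_h L206404) L209409
theorem L209419 : sm gg N19164 = N19467 := rfl
theorem L209421 : sm ga N19467 = N19229 := ded_14_1 (flp_g L206984) (flp_a L206408) L209419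
theorem L209423 : sm gb N19467 = N19166 := ded_21_1 (flp_g L206424) (flp_b L206410) L209419
theorem L209425 : sm gc N19467 = N19236 := ded_27_1 L207042 (flp_c L206412) L209419
theorem L209427 : sm ge N19467 = N19234 := ded_36_1 L207024 (flp_e L206416) L209419
theorem L209429 : sm gh N19467 = N19167 := ded_42_2 (flp_g L206434) (flp_h L206414) L209419
theorem L209431 : sm gf N19467 = N19220 := ded_39_1 (flp_g L206927) (flp_f L202729) (flp_g L201999) L206406 L209419
theorem L209433 : sm ge N19165 = N19468 := rfl
theorem L209435 : sm ga N19468 = N19176 := ded_12_1 (flp_e L206529) (flp_a L206420) L209433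
theorem L209437 : sm gf N19468 = N19468 := ded_35_2 (flp_e L209433) (flp_f L206418) L202009 L206418 L209433
theorem L209438 : sm gg N19165 = N19469 := rfl
theorem L209440 : sm ga N19469 = N19177 := ded_14_1 (flp_g L206532) (flp_a L206420) L209438
theorem L209442 : sm gd N19469 = N19166 := ded_32_1 (flp_g L206424) (flp_d L206422) L209438
theorem L209444 : sm gf N19469 = N19222 := ded_39_1 (flp_g L206938) (flp_f L202735) (flp_g L202007) L206418 L209438
theorem L209446 : sm gf N19168 = N19470 := rfl
theorem L209448 : sm ga N19470 = N19317 := ded_13_1 (flp_f L207896) (flp_a L206452) L209446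
theorem L209450 : sm gc N19470 = N19172 := ded_26_1 (flp_f L206501) (flp_c L206458) L209446
theorem L209452 : sm gd N19470 = N19169 := ded_31_1 (flp_f L206461) L206450 L209446
theorem L209454 : sm gi N19470 = N19368 := ded_41_2 (flp_f L208428) (flp_i L206456) L209446
theorem L209456 : sm gg N19169 = N19471 := rfl
theorem L209458 : sm ga N19471 = N19318 := ded_14_1 (flp_g L207906) (flp_a L206463) L209456
theorem L209460 : sm gc N19471 = N19170 := ded_27_1 (flp_g L206473) (flp_c L206465) L209456
theorem L209462 : sm ge N19471 = N19465 := ded_36_1 (flp_g L209397) (flp_e L206471) L209456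
theorem L209464 : sm gh N19471 = N19323 := ded_42_2 (flp_g L207959) (flp_h L206467) L209456
theorem L209466 : sm gi N19471 = N19369 := ded_43_2 (flp_g L208440) (flp_i L206469) L209456
theorem L209468 : sm gf N19471 = N19371 := ded_39_1 (flp_g L208464) (flp_f L205079) (flp_g L202056) L206461 L209456
theorem L209470 : sm ge N19172 = N19472 := rfl
theorem L209472 : sm gd N19472 = N19176 := ded_30_1 (flp_e L206529) L202132 (flp_e L202095) (flp_d L206503) L209470
theorem L209474 : sm gf N19472 = N19472 := ded_35_2 (flp_e L209470) (flp_f L206501) L202088 L206501 L209470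
theorem L209475 : sm gg N19172 = N19473 := rfl
theorem L209477 : sm gd N19473 = N19173 := ded_32_1 (flp_g L206505) (flp_d L206503) L209475
theorem L209479 : sm ge N19174 = N19474 := rfl
theorem L209481 : sm gi N19474 = N19176 := ded_38_2 (flp_e L206529) (flp_i L206517) L209479
theorem L209483 : sm gf N19474 = N19474 := ded_35_2 (flp_e L209479) (flp_f L206513) L202111 L206513 L209479
theorem L209484 : sm gg N19174 = N19475 := rfl
theorem L209486 : sm gd N19475 = N19175 := ded_32_1 (flp_g L206519) (flp_d L206515) L209484
theorem L209488 : sm gi N19475 = N19177 := ded_43_2 (flp_g L206532) (flp_i L206517) L209484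
theorem L209490 : sm gf N19475 = N19271 := ded_39_1 (flp_g L207361) (flp_f L203276) (flp_g L202107) L206513 L209484
theorem L209492 : sm gg N19176 = N19476 := rfl
theorem L209494 : sm ge N19476 = N19177 := ded_36_1 (flp_g L206532) L206529 L209492
theorem L209496 : sm gg N19180 = N19477 := rfl
theorem L209498 : sm ga N19477 = N19187 := ded_14_1 (flp_g L206642) (flp_a L206556) L209496
theorem L209500 : sm gb N19477 = N19391 := ded_21_1 (flp_g L208651) (flp_b L206558) L209496
theorem L209502 : sm gc N19477 = N19181 := ded_27_1 (flp_g L206570) (flp_c L206560) L209496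
theorem L209504 : sm gd N19477 = N19454 := ded_32_1 (flp_g L209276) (flp_d L206562) L209496
theorem L209506 : sm ge N19477 = N19328 := ded_36_1 (flp_g L208010) (flp_e L206568) L209496
theorem L209508 : sm gh N19477 = N19371 := ded_42_2 (flp_g L208464) (flp_h L206564) L209496
theorem L209510 : sm gi N19477 = N19313 := ded_43_2 (flp_g L207843) (flp_i L206566) L209496
theorem L209512 : sm gf N19477 = N19323 := ded_39_1 (flp_g L207959) (flp_f L204360) (flp_g L202236) L206554 L209496
theorem L209514 : sm gg N19184 = N19478 := rfl
theorem L209516 : sm gb N19478 = N19185 := ded_21_1 (flp_g L206620) (flp_b L206614) L209514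
theorem L209518 : sm gd N19478 = N19460 := ded_32_1 (flp_g L209342) (flp_d L206616) L209514
theorem L209520 : sm gi N19478 = N19186 := ded_43_2 (flp_g L206632) (flp_i L206618) L209514
theorem L209522 : sm gf N19478 = N19243 := ded_39_1 (flp_g L207108) (flp_f L202936) (flp_g L202296) L206612 L209514
theorem L209524 : sm gd N19190 = N19479 := rfl
theorem L209526 : sm ga N19479 = N19191 := ded_11_1 (flp_d L206690) (flp_a L206682) L209524
theorem L209528 : sm gb N19479 = N19335 := ded_18_1 L208102 (flp_b L206684) L209524
theorem L209530 : sm gi N19479 = N19194 := ded_34_2 L206720 (flp_i L206688) L209524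
theorem L209532 : sm gc N19479 = N19199 := ded_24_1 L206749 (flp_c L203731) L203739 (flp_c L206686) L209524
theorem L209534 : sm ge N19479 = N19479 := ded_30_2 (flp_d L209524) (flp_e L206680) L202484 L206680 L209524
theorem L209535 : sm gh N19479 = N19376 := ded_33_2 L208513 (flp_h L206216) (flp_d L206805) L206801 L209524
theorem L209537 : sm gf N19190 = N19480 := rfl
theorem L209539 : sm ga N19480 = N19192 := ded_13_1 (flp_f L206697) (flp_a L206682) L209537
theorem L209541 : sm gb N19480 = N19396 := ded_20_1 (flp_f L208699) (flp_b L206684) L209537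
theorem L209543 : sm gc N19480 = N19210 := ded_26_1 (flp_f L206853) (flp_c L206686) L209537
theorem L209545 : sm gi N19480 = N19407 := ded_41_2 (flp_f L208809) (flp_i L206688) L209537
theorem L209547 : sm gf N19191 = N19481 := rfl
theorem L209549 : sm gb N19481 = N19193 := ded_20_1 (flp_f L206705) (flp_b L206692) L209547
theorem L209551 : sm gd N19481 = N19192 := ded_31_1 (flp_f L206697) L206690 L209547
theorem L209553 : sm gi N19481 = N19408 := ded_41_2 (flp_f L208817) (flp_i L206694) L209547
theorem L209555 : sm gh N19191 = N19482 := rfl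
theorem L209557 : sm ga N19482 = N19376 := ded_15_1 (flp_h L209535) L209526 L209555
theorem L209559 : sm gb N19482 = N19194 := ded_22_1 (flp_h L206713) (flp_b L206692) L209555
theorem L209561 : sm gc N19482 = N19331 := ded_28_1 L208055 L207513 L209555
theorem L209563 : sm ge N19482 = N19482 := ded_37_1 (flp_h L209555) L206696 L209555
theorem L209564 : sm gg N19482 = N19479 := ded_42_1 L209535 L208507 L209555
theorem L209566 : sm gd N19482 = N19388 := ded_33_1 (flp_h L208625) (flp_d L206807) L202599 L206690 L209555
theorem L209568 : sm gi N19482 = N19335 := ded_44_2 L208100 L205445 (flp_h L205550) (flp_i L206694) L209555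
theorem L209570 : sm gg N19192 = N19483 := rfl
theorem L209572 : sm gb N19483 = N19195 := ded_21_1 (flp_g L206722) (flp_b L206699) L209570
theorem L209574 : sm gc N19483 = N19211 := ded_27_1 (flp_g L206861) (flp_c L206701) L209570
theorem L209576 : sm gi N19483 = N19409 := ded_43_2 (flp_g L208827) (flp_i L206703) L209570
theorem L209578 : sm ge N19193 = N19484 := rfl
theorem L209580 : sm gc N19484 = N19196 := ded_25_1 (flp_e L206728) (flp_c L206707) L209578
theorem L209582 : sm gi N19484 = N19410 := ded_38_2 (flp_e L208837) (flp_i L206711) L209578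
theorem L209584 : sm gf N19484 = N19484 := ded_35_2 (flp_e L209578) (flp_f L206705) L202503 L206705 L209578
theorem L209585 : sm gg N19193 = N19485 := rfl
theorem L209587 : sm gc N19485 = N19197 := ded_27_1 (flp_g L206733) (flp_c L206707) L209585
theorem L209589 : sm gd N19485 = N19195 := ded_32_1 (flp_g L206722) (flp_d L206709) L209585
theorem L209591 : sm gi N19485 = N19411 := ded_43_2 (flp_g L208842) (flp_i L206711) L209585
theorem L209593 : sm gh N19193 = N19486 := rfl
theorem L209595 : sm ga N19486 = N19408 := ded_15_1 L208825 L207142 L209593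
theorem L209597 : sm gc N19486 = N19198 := ded_28_1 (flp_h L206739) (flp_c L206707) L209593
theorem L209599 : sm gf N19486 = N19194 := ded_40_1 (flp_h L206713) L206705 L209593
theorem L209601 : sm gd N19486 = N19407 := ded_33_1 L208815 L206837 L202619 (flp_d L206709) L209593
theorem L209603 : sm gg N19196 = N19487 := rfl
theorem L209605 : sm ge N19487 = N19197 := ded_36_1 (flp_g L206733) L206728 L209603
theorem L209607 : sm gi N19487 = N19412 := ded_43_2 (flp_g L208848) (flp_i L206730) L209603
theorem L209609 : sm gh N19196 = N19488 := rfl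
theorem L209611 : sm ge N19488 = N19198 := ded_37_1 (flp_h L206739) L206728 L209609
theorem L209613 : sm gf N19488 = N19488 := ded_40_1 (flp_h L209609) L206732 L209609
theorem L209614 : sm gh N19197 = N19489 := rfl
theorem L209616 : sm gg N19489 = N19198 := ded_42_1 (flp_h L206739) L206733 L209614
theorem L209618 : sm gd N19489 = N19212 := ded_33_1 (flp_h L206867) L202675 (flp_h L202533) (flp_d L206735) L209614
theorem L209620 : sm gi N19198 = N19490 := rfl
theorem L209622 : sm gb N19490 = N19329 := ded_23_1 L208034 L207571 L209620
theorem L209624 : sm gd N19490 = N19213 := ded_34_1 (flp_i L206871) (flp_d L206743) L209620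
theorem L209626 : sm gf N19490 = N19199 := ded_41_1 (flp_i L206745) (flp_f L206741) L209620
theorem L209628 : sm gh N19490 = N19377 := ded_44_1 L208521 L205168 (flp_i L202522) L206739 L209620
theorem L209630 : sm gd N19200 = N19491 := rfl
theorem L209632 : sm ga N19491 = N19201 := ded_11_1 (flp_d L206762) (flp_a L206756) L209630
theorem L209634 : sm gb N19491 = N19253 := ded_18_1 (flp_d L207205) (flp_b L206758) L209630
theorem L209636 : sm gi N19491 = N19226 := ded_34_2 (flp_d L207668) L207670 L209630
theorem L209638 : sm gc N19491 = N19343 := ded_24_1 L208179 (flp_c L206212) (flp_d L206805) L206799 L209630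
theorem L209640 : sm ge N19491 = N19491 := ded_30_2 (flp_d L209630) (flp_e L206754) L202539 L206754 L209630
theorem L209641 : sm gh N19491 = N19233 := ded_33_2 L207017 (flp_h L203735) L203739 (flp_h L206760) L209630
theorem L209643 : sm gf N19200 = N19492 := rfl
theorem L209645 : sm ga N19492 = N19202 := ded_13_1 (flp_f L206767) (flp_a L206756) L209643
theorem L209647 : sm gb N19492 = N19254 := ded_20_1 (flp_f L207216) (flp_b L206758) L209643
theorem L209649 : sm gh N19492 = N19210 := ded_40_2 (flp_f L206853) (flp_h L206760) L209643
theorem L209651 : sm ge N19492 = N19480 := ded_35_1 (flp_f L209537) (flp_e L206680) (flp_f L202540) L206754 L209643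
theorem L209653 : sm gc N19201 = N19493 := rfl
theorem L209655 : sm ga N19493 = N19343 := ded_10_1 (flp_c L209638) L209632 L209653
theorem L209657 : sm ge N19493 = N19493 := ded_25_2 (flp_c L209653) L206766 L209653
theorem L209658 : sm gg N19493 = N19491 := ded_27_2 L209638 L208177 L209653
theorem L209660 : sm gh N19493 = N19340 := ded_28_2 L208147 L207588 L209653
theorem L209662 : sm gi N19493 = N19424 := ded_29_2 L208968 L207878 L209653
theorem L209664 : sm gb N19493 = N19218 := ded_17_1 (flp_c L206912) L202726 (flp_c L202556) (flp_b L206764) L209653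
theorem L209666 : sm gd N19493 = N19390 := ded_24_2 L208643 (flp_d L206807) L202597 L206762 L209653
theorem L209668 : sm gf N19201 = N19494 := rfl
theorem L209670 : sm gb N19494 = N19203 := ded_20_1 (flp_f L206775) (flp_b L206764) L209668
theorem L209672 : sm gd N19494 = N19202 := ded_31_1 (flp_f L206767) L206762 L209668
theorem L209674 : sm gg N19202 = N19495 := rfl
theorem L209676 : sm gb N19495 = N19204 := ded_21_1 (flp_g L206783) (flp_b L206769) L209674
theorem L209678 : sm ge N19495 = N19483 := ded_36_1 (flp_g L209570) (flp_e L206773) L209674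
theorem L209680 : sm gh N19495 = N19211 := ded_42_2 (flp_g L206861) (flp_h L206771) L209674
theorem L209682 : sm ge N19203 = N19496 := rfl
theorem L209684 : sm ga N19496 = N19257 := ded_12_1 (flp_e L207240) (flp_a L206777) L209682
theorem L209686 : sm gc N19496 = N19221 := ded_25_1 (flp_e L206933) (flp_c L206779) L209682
theorem L209688 : sm gd N19496 = N19484 := ded_30_1 (flp_e L209578) L206709 (flp_e L202567) (flp_d L206781) L209682
theorem L209690 : sm gf N19496 = N19496 := ded_35_2 (flp_e L209682) (flp_f L206775) L202558 L206775 L209682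
theorem L209691 : sm gg N19203 = N19497 := rfl
theorem L209693 : sm ga N19497 = N19258 := ded_14_1 (flp_g L207245) (flp_a L206777) L209691
theorem L209695 : sm gc N19497 = N19222 := ded_27_1 (flp_g L206938) (flp_c L206779) L209691
theorem L209697 : sm gd N19497 = N19204 := ded_32_1 (flp_g L206783) (flp_d L206781) L209691
theorem L209699 : sm gf N19205 = N19498 := rfl
theorem L209701 : sm ga N19498 = N19207 := ded_13_1 (flp_f L206819) (flp_a L206795) L209699
theorem L209703 : sm gb N19498 = N19260 := ded_20_1 (flp_f L207263) (flp_b L206797) L209699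
theorem L209705 : sm gc N19498 = N19492 := ded_26_1 (flp_f L209643) (flp_c L206799) L209699
theorem L209707 : sm gd N19498 = N19455 := ded_31_1 (flp_f L209286) (flp_d L206805) L209699
theorem L209709 : sm gh N19498 = N19480 := ded_40_2 (flp_f L209537) (flp_h L206801) L209699
theorem L209711 : sm gi N19498 = N19413 := ded_41_2 (flp_f L208852) (flp_i L206803) L209699
theorem L209713 : sm ge N19498 = N19210 := ded_35_1 (flp_f L206853) (flp_e L202639) (flp_f L202585) L206793 L209699
theorem L209715 : sm gf N19206 = N19499 := rfl
theorem L209717 : sm ga N19499 = N19455 := ded_13_1 (flp_f L209286) (flp_a L206809) L209715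
theorem L209719 : sm gb N19499 = N19208 := ded_20_1 (flp_f L206831) (flp_b L206811) L209715
theorem L209721 : sm gd N19499 = N19207 := ded_31_1 (flp_f L206819) L206807 L209715
theorem L209723 : sm gi N19499 = N19414 := ded_41_2 (flp_f L208864) (flp_i L206815) L209715
theorem L209725 : sm ge N19499 = N19459 := ded_35_1 (flp_f L209332) (flp_e L206274) (flp_f L202667) (flp_e L206817) L209715
theorem L209727 : sm gg N19207 = N19500 := rfl
theorem L209729 : sm gb N19500 = N19209 := ded_21_1 (flp_g L206841) (flp_b L206821) L209727
theorem L209731 : sm gc N19500 = N19495 := ded_27_1 (flp_g L209674) (flp_c L206823) L209727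
theorem L209733 : sm ge N19500 = N19211 := ded_36_1 (flp_g L206861) (flp_e L206829) L209727
theorem L209735 : sm gh N19500 = N19483 := ded_42_2 (flp_g L209570) (flp_h L206825) L209727
theorem L209737 : sm gi N19500 = N19415 := ded_43_2 (flp_g L208876) (flp_i L206827) L209727
theorem L209739 : sm gg N19208 = N19501 := rfl
theorem L209741 : sm ga N19501 = N19262 := ded_14_1 (flp_g L207287) (flp_a L206833) L209739
theorem L209743 : sm gc N19501 = N19360 := ded_27_1 (flp_g L208347) (flp_c L206835) L209739
theorem L209745 : sm gd N19501 = N19209 := ded_32_1 (flp_g L206841) (flp_d L206837) L209739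
theorem L209747 : sm gi N19501 = N19416 := ded_43_2 (flp_g L208884) (flp_i L206839) L209739
theorem L209749 : sm gg N19210 = N19502 := rfl
theorem L209751 : sm ga N19502 = N19211 := ded_14_1 (flp_g L206861) (flp_a L206855) L209749
theorem L209753 : sm gb N19502 = N19263 := ded_21_1 (flp_g L207299) (flp_b L206857) L209749
theorem L209755 : sm gi N19502 = N19417 := ded_43_2 (flp_g L208892) (flp_i L206859) L209749
theorem L209757 : sm gi N19212 = N19503 := rfl
theorem L209759 : sm gb N19503 = N19330 := ded_23_1 L208042 L207746 L209757
theorem L209761 : sm gg N19503 = N19213 := ded_43_1 (flp_i L206871) (flp_g L206869) L209757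
theorem L209763 : sm gh N19503 = N19239 := ded_44_1 (flp_i L207066) (flp_h L202860) (flp_i L202677) L206867 L209757
theorem L209765 : sm gc N19214 = N19504 := rfl
theorem L209767 : sm ga N19504 = N19445 := ded_10_1 L209192 L208495 L209765
theorem L209769 : sm ge N19504 = N19504 := ded_25_2 (flp_c L209765) L206885 L209765
theorem L209770 : sm gh N19504 = N19375 := ded_28_2 (flp_c L209192) L209195 L209765
theorem L209772 : sm gi N19504 = N19218 := ded_29_2 (flp_c L206912) (flp_i L206883) L209765
theorem L209774 : sm gb N19504 = N19424 := ded_17_1 L208968 L207871 L205502 (flp_b L206881) L209765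
theorem L209776 : sm gd N19504 = N19444 := ded_24_2 L209176 L206282 L203679 L206879 L209765
theorem L209778 : sm gf N19214 = N19505 := rfl
theorem L209780 : sm gb N19505 = N19216 := ded_20_1 (flp_f L206894) (flp_b L206881) L209778
theorem L209782 : sm gd N19505 = N19215 := ded_31_1 (flp_f L206886) L206879 L209778
theorem L209784 : sm gi N19505 = N19219 := ded_41_2 (flp_f L206921) (flp_i L206883) L209778
theorem L209786 : sm gg N19215 = N19506 := rfl
theorem L209788 : sm gb N19506 = N19217 := ded_21_1 (flp_g L206902) (flp_b L206888) L209786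
theorem L209790 : sm gh N19506 = N19243 := ded_42_2 (flp_g L207108) (flp_h L206890) L209786
theorem L209792 : sm gi N19506 = N19220 := ded_43_2 (flp_g L206927) (flp_i L206892) L209786
theorem L209794 : sm ge N19216 = N19507 := rfl
theorem L209796 : sm ga N19507 = N19270 := ded_12_1 (flp_e L207356) (flp_a L206896) L209794
theorem L209798 : sm gi N19507 = N19221 := ded_38_2 (flp_e L206933) (flp_i L206900) L209794
theorem L209800 : sm gf N19507 = N19507 := ded_35_2 (flp_e L209794) (flp_f L206894) L202705 L206894 L209794
theorem L209801 : sm gg N19216 = N19508 := rfl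
theorem L209803 : sm ga N19508 = N19271 := ded_14_1 (flp_g L207361) (flp_a L206896) L209801
theorem L209805 : sm gd N19508 = N19217 := ded_32_1 (flp_g L206902) (flp_d L206898) L209801
theorem L209807 : sm gi N19508 = N19222 := ded_43_2 (flp_g L206938) (flp_i L206900) L209801
theorem L209809 : sm gf N19218 = N19509 := rfl
theorem L209811 : sm ga N19509 = N19450 := ded_13_1 (flp_f L209243) (flp_a L206914) L209809
theorem L209813 : sm gc N19509 = N19219 := ded_26_1 (flp_f L206921) L206912 L209809
theorem L209815 : sm gd N19509 = N19449 := ded_31_1 (flp_f L209235) (flp_d L206919) L209809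
theorem L209817 : sm gh N19509 = N19370 := ded_40_2 (flp_f L208454) (flp_h L206917) L209809
theorem L209819 : sm ge N19219 = N19510 := rfl
theorem L209821 : sm gb N19510 = N19221 := ded_19_1 (flp_e L206933) (flp_b L206923) L209819
theorem L209823 : sm gf N19510 = N19510 := ded_35_2 (flp_e L209819) (flp_f L206921) L202728 L206921 L209819
theorem L209824 : sm gg N19219 = N19511 := rfl
theorem L209826 : sm gb N19511 = N19222 := ded_21_1 (flp_g L206938) (flp_b L206923) L209824
theorem L209828 : sm gd N19511 = N19220 := ded_32_1 (flp_g L206927) (flp_d L206925) L209824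
theorem L209830 : sm gg N19221 = N19512 := rfl
theorem L209832 : sm ga N19512 = N19273 := ded_14_1 (flp_g L207373) (flp_a L206935) L209830
theorem L209834 : sm ge N19512 = N19222 := ded_36_1 (flp_g L206938) L206933 L209830
theorem L209836 : sm gf N19223 = N19513 := rfl
theorem L209838 : sm gb N19513 = N19225 := ded_20_1 (flp_f L206959) (flp_b L206946) L209836
theorem L209840 : sm gd N19513 = N19224 := ded_31_1 (flp_f L206951) L206944 L209836
theorem L209842 : sm gi N19513 = N19228 := ded_41_2 (flp_f L206978) (flp_i L206948) L209836
theorem L209844 : sm gh N19223 = N19514 := rfl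
theorem L209846 : sm ga N19514 = N19249 := ded_15_1 (flp_h L209369) L209360 L209844
theorem L209848 : sm gb N19514 = N19226 := ded_22_1 (flp_h L206967) (flp_b L206946) L209844
theorem L209850 : sm gc N19514 = N19462 := ded_28_1 L209369 L207176 L209844
theorem L209852 : sm ge N19514 = N19514 := ded_37_1 (flp_h L209844) L206950 L209844
theorem L209853 : sm gg N19514 = N19504 := ded_42_1 L209770 L208502 L209844
theorem L209855 : sm gd N19514 = N19248 := ded_33_1 L207166 L206282 L203683 L206944 L209844
theorem L209857 : sm gi N19514 = N19253 := ded_44_2 L207214 L206456 L205044 (flp_i L206948) L209844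
theorem L209859 : sm gg N19224 = N19515 := rfl
theorem L209861 : sm gb N19515 = N19227 := ded_21_1 (flp_g L206972) (flp_b L206953) L209859
theorem L209863 : sm gc N19515 = N19243 := ded_27_1 (flp_g L207108) (flp_c L206955) L209859
theorem L209865 : sm gi N19515 = N19229 := ded_43_2 (flp_g L206984) (flp_i L206957) L209859
theorem L209867 : sm ge N19225 = N19516 := rfl
theorem L209869 : sm gc N19516 = N19434 := ded_25_1 (flp_e L209077) (flp_c L206961) L209867
theorem L209871 : sm gi N19516 = N19230 := ded_38_2 (flp_e L206992) (flp_i L206965) L209867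
theorem L209873 : sm gf N19516 = N19516 := ded_35_2 (flp_e L209867) (flp_f L206959) L202769 L206959 L209867
theorem L209874 : sm gg N19225 = N19517 := rfl
theorem L209876 : sm gc N19517 = N19435 := ded_27_1 (flp_g L209084) (flp_c L206961) L209874
theorem L209878 : sm gd N19517 = N19227 := ded_32_1 (flp_g L206972) (flp_d L206963) L209874
theorem L209880 : sm gi N19517 = N19231 := ded_43_2 (flp_g L206997) (flp_i L206965) L209874
theorem L209882 : sm gh N19225 = N19518 := rfl
theorem L209884 : sm gc N19518 = N19436 := ded_28_1 (flp_h L209092) (flp_c L206961) L209882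
theorem L209886 : sm gf N19518 = N19226 := ded_40_1 (flp_h L206967) L206959 L209882
theorem L209888 : sm ge N19228 = N19519 := rfl
theorem L209890 : sm gb N19519 = N19230 := ded_19_1 (flp_e L206992) (flp_b L206980) L209888
theorem L209892 : sm gf N19519 = N19519 := ded_35_2 (flp_e L209888) (flp_f L206978) L202788 L206978 L209888
theorem L209893 : sm gg N19228 = N19520 := rfl
theorem L209895 : sm gb N19520 = N19231 := ded_21_1 (flp_g L206997) (flp_b L206980) L209893
theorem L209897 : sm gd N19520 = N19229 := ded_32_1 (flp_g L206984) (flp_d L206982) L209893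
theorem L209899 : sm gg N19230 = N19521 := rfl
theorem L209901 : sm gc N19521 = N19437 := ded_27_1 (flp_g L209100) (flp_c L206994) L209899
theorem L209903 : sm ge N19521 = N19231 := ded_36_1 (flp_g L206997) L206992 L209899
theorem L209905 : sm gh N19230 = N19522 := rfl
theorem L209907 : sm gc N19522 = N19350 := ded_28_1 L208246 (flp_c L206994) L209905
theorem L209909 : sm ge N19522 = N19232 := ded_37_1 (flp_h L207003) L206992 L209905
theorem L209911 : sm gf N19522 = N19522 := ded_40_1 (flp_h L209905) L206996 L209905
theorem L209912 : sm gh N19231 = N19523 := rfl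
theorem L209914 : sm gc N19523 = N19351 := ded_28_1 L208255 (flp_c L206999) L209912
theorem L209916 : sm gg N19523 = N19232 := ded_42_1 (flp_h L207003) L206997 L209912
theorem L209918 : sm gd N19523 = N19234 := ded_33_1 (flp_h L207020) L202826 (flp_h L202814) (flp_d L207001) L209912
theorem L209920 : sm gi N19232 = N19524 := rfl
theorem L209922 : sm gb N19524 = N19470 := ded_23_1 L209454 L208432 L209920
theorem L209924 : sm gc N19524 = N19342 := ded_29_1 L208170 (flp_c L207005) L209920
theorem L209926 : sm gd N19524 = N19235 := ded_34_1 (flp_i L207026) (flp_d L207009) L209920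
theorem L209928 : sm gf N19524 = N19233 := ded_41_1 (flp_i L207011) (flp_f L207007) L209920
theorem L209930 : sm gi N19234 = N19525 := rfl
theorem L209932 : sm gb N19525 = N19471 := ded_23_1 L209466 L208444 L209930
theorem L209934 : sm gc N19525 = N19239 := ded_29_1 (flp_i L207066) (flp_c L207022) L209930
theorem L209936 : sm gg N19525 = N19235 := ded_43_1 (flp_i L207026) (flp_g L207024) L209930
theorem L209938 : sm gd N19236 = N19526 := rfl
theorem L209940 : sm ga N19526 = N19245 := ded_11_1 L207132 (flp_a L207036) L209938
theorem L209942 : sm gb N19526 = N19282 := ded_18_1 L207471 (flp_b L207038) L209938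
theorem L209944 : sm gf N19526 = N19461 := ded_31_2 L209354 L208345 L209938
theorem L209946 : sm gg N19526 = N19237 := ded_32_2 (flp_d L207044) (flp_g L207042) L209938
theorem L209948 : sm ge N19526 = N19397 := ded_30_2 L208713 L205369 (flp_d L202864) (flp_e L207040) L209938
theorem L209950 : sm gh N19526 = N19443 := ded_33_2 L209164 L207853 L204192 L207034 L209938
theorem L209952 : sm gi N19236 = N19527 := rfl
theorem L209954 : sm ga N19527 = N19243 := ded_16_1 L207112 (flp_a L207036) L209952
theorem L209956 : sm gb N19527 = N19278 := ded_23_1 L207435 (flp_b L207038) L209952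
theorem L209958 : sm ge N19527 = N19239 := ded_38_1 (flp_i L207066) (flp_e L207040) L209952
theorem L209960 : sm gg N19527 = N19238 := ded_43_1 (flp_i L207056) (flp_g L207042) L209952
theorem L209962 : sm gi N19237 = N19528 := rfl
theorem L209964 : sm ga N19528 = N19242 := ded_16_1 L207104 (flp_a L207046) L209962
theorem L209966 : sm gb N19528 = N19276 := ded_23_1 L207415 (flp_b L207048) L209962
theorem L209968 : sm gd N19528 = N19238 := ded_34_1 (flp_i L207056) L207044 L209962
theorem L209970 : sm ge N19528 = N19389 := ded_38_1 L208635 (flp_e L207052) L209962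
theorem L209972 : sm gf N19528 = N19241 := ded_41_1 L207094 (flp_f L207050) L209962
theorem L209974 : sm gg N19242 = N19529 := rfl
theorem L209976 : sm gb N19529 = N19244 := ded_21_1 (flp_g L207114) (flp_b L207100) L209974
theorem L209978 : sm gd N19529 = N19243 := ded_32_1 (flp_g L207108) (flp_d L207102) L209974
theorem L209980 : sm ge N19529 = N19393 := ded_36_1 (flp_g L208669) (flp_e L207106) L209974
theorem L209982 : sm gi N19529 = N19245 := ded_43_2 (flp_g L207128) (flp_i L207104) L209974
theorem L209984 : sm gf N19529 = N19460 := ded_39_1 (flp_g L209342) (flp_f L206284) (flp_g L202930) L207098 L209974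
theorem L209986 : sm ge N19246 = N19530 := rfl
theorem L209988 : sm ga N19530 = N19484 := ded_12_1 (flp_e L209578) (flp_a L207142) L209986
theorem L209990 : sm gc N19530 = N19399 := ded_25_1 (flp_e L208727) (flp_c L207144) L209986
theorem L209992 : sm gd N19530 = N19257 := ded_30_1 (flp_e L207240) L203118 (flp_e L203033) (flp_d L207146) L209986
theorem L209994 : sm gf N19530 = N19530 := ded_35_2 (flp_e L209986) (flp_f L207140) L203024 L207140 L209986
theorem L209995 : sm gg N19246 = N19531 := rfl
theorem L209997 : sm ga N19531 = N19485 := ded_14_1 (flp_g L209585) (flp_a L207142) L209995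
theorem L209999 : sm gc N19531 = N19400 := ded_27_1 (flp_g L208734) (flp_c L207144) L209995
theorem L210001 : sm gd N19531 = N19247 := ded_32_1 (flp_g L207148) (flp_d L207146) L209995
theorem L210003 : sm gf N19531 = N19411 := ded_39_1 (flp_g L208842) (flp_f L205560) (flp_g L203020) L207140 L209995
theorem L210005 : sm gf N19248 = N19532 := rfl
theorem L210007 : sm ga N19532 = N19250 := ded_13_1 (flp_f L207179) (flp_a L207162) L210005
theorem L210009 : sm gc N19532 = N19528 := ded_26_1 L209972 (flp_c L207164) L210005
theorem L210011 : sm gh N19532 = N19459 := ded_40_2 (flp_f L209332) (flp_h L207166) L210005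
theorem L210013 : sm gi N19532 = N19254 := ded_41_2 (flp_f L207216) (flp_i L207168) L210005
theorem L210015 : sm gf N19249 = N19533 := rfl
theorem L210017 : sm gb N19533 = N19251 := ded_20_1 (flp_f L207189) (flp_b L207172) L210015
theorem L210019 : sm gc N19533 = N19513 := ded_26_1 (flp_f L209836) (flp_c L207176) L210015
theorem L210021 : sm gd N19533 = N19250 := ded_31_1 (flp_f L207179) L207170 L210015
theorem L210023 : sm gi N19533 = N19255 := ded_41_2 (flp_f L207224) (flp_i L207174) L210015
theorem L210025 : sm gg N19250 = N19534 := rfl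
theorem L210027 : sm gb N19534 = N19252 := ded_21_1 (flp_g L207197) (flp_b L207181) L210025
theorem L210029 : sm gc N19534 = N19529 := ded_27_1 (flp_g L209974) (flp_c L207183) L210025
theorem L210031 : sm gh N19534 = N19460 := ded_42_2 (flp_g L209342) (flp_h L207185) L210025
theorem L210033 : sm gi N19534 = N19256 := ded_43_2 (flp_g L207232) (flp_i L207187) L210025
theorem L210035 : sm ge N19251 = N19535 := rfl
theorem L210037 : sm gc N19535 = N19270 := ded_25_1 (flp_e L207356) (flp_c L207191) L210035
theorem L210039 : sm gi N19535 = N19257 := ded_38_2 (flp_e L207240) (flp_i L207195) L210035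
theorem L210041 : sm gf N19535 = N19535 := ded_35_2 (flp_e L210035) (flp_f L207189) L203074 L207189 L210035
theorem L210042 : sm gg N19251 = N19536 := rfl
theorem L210044 : sm gc N19536 = N19271 := ded_27_1 (flp_g L207361) (flp_c L207191) L210042
theorem L210046 : sm gd N19536 = N19252 := ded_32_1 (flp_g L207197) (flp_d L207193) L210042
theorem L210048 : sm gi N19536 = N19258 := ded_43_2 (flp_g L207245) (flp_i L207195) L210042
theorem L210050 : sm gf N19253 = N19537 := rfl
theorem L210052 : sm ga N19537 = N19255 := ded_13_1 (flp_f L207224) (flp_a L207207) L210050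
theorem L210054 : sm gc N19537 = N19466 := ded_26_1 (flp_f L209409) (flp_c L207211) L210050
theorem L210056 : sm gd N19537 = N19254 := ded_31_1 (flp_f L207216) L207205 L210050
theorem L210058 : sm gh N19537 = N19470 := ded_40_2 (flp_f L209446) (flp_h L207214) L210050
theorem L210060 : sm gg N19254 = N19538 := rfl
theorem L210062 : sm ga N19538 = N19256 := ded_14_1 (flp_g L207232) (flp_a L207218) L210060
theorem L210064 : sm gc N19538 = N19526 := ded_27_1 L209946 (flp_c L207220) L210060
theorem L210066 : sm gh N19538 = N19263 := ded_42_2 (flp_g L207299) (flp_h L207222) L210060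
theorem L210068 : sm ge N19255 = N19539 := rfl
theorem L210070 : sm gb N19539 = N19257 := ded_19_1 (flp_e L207240) (flp_b L207226) L210068
theorem L210072 : sm gc N19539 = N19519 := ded_25_1 (flp_e L209888) (flp_c L207228) L210068
theorem L210074 : sm gf N19539 = N19539 := ded_35_2 (flp_e L210068) (flp_f L207224) L203105 L207224 L210068
theorem L210075 : sm gg N19255 = N19540 := rfl
theorem L210077 : sm gb N19540 = N19258 := ded_21_1 (flp_g L207245) (flp_b L207226) L210075
theorem L210079 : sm gc N19540 = N19520 := ded_27_1 (flp_g L209893) (flp_c L207228) L210075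
theorem L210081 : sm gd N19540 = N19256 := ded_32_1 (flp_g L207232) (flp_d L207230) L210075
theorem L210083 : sm gg N19257 = N19541 := rfl
theorem L210085 : sm gc N19541 = N19273 := ded_27_1 (flp_g L207373) (flp_c L207242) L210083
theorem L210087 : sm ge N19541 = N19258 := ded_36_1 (flp_g L207245) L207240 L210083
theorem L210089 : sm gg N19260 = N19542 := rfl
theorem L210091 : sm ga N19542 = N19261 := ded_14_1 (flp_g L207275) (flp_a L207265) L210089
theorem L210093 : sm gc N19542 = N19282 := ded_27_1 (flp_g L207467) (flp_c L207267) L210089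
theorem L210095 : sm gd N19542 = N19456 := ded_32_1 (flp_g L209298) (flp_d L207269) L210089
theorem L210097 : sm ge N19542 = N19263 := ded_36_1 (flp_g L207299) (flp_e L207273) L210089
theorem L210099 : sm gi N19542 = N19458 := ded_43_2 (flp_g L209322) (flp_i L207271) L210089
theorem L210101 : sm gf N19542 = N19501 := ded_39_1 (flp_g L209739) (flp_f L206831) (flp_g L203154) L207263 L210089
theorem L210103 : sm ge N19264 = N19543 := rfl
theorem L210105 : sm ga N19543 = N19353 := ded_12_1 (flp_e L208263) (flp_a L207307) L210103
theorem L210107 : sm gb N19543 = N19438 := ded_19_1 (flp_e L209106) (flp_b L207309) L210103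
theorem L210109 : sm gc N19543 = N19268 := ded_25_1 (flp_e L207347) (flp_c L207311) L210103
theorem L210111 : sm gh N19543 = N19364 := ded_37_2 (flp_e L208391) (flp_h L207315) L210103
theorem L210113 : sm gd N19543 = N19399 := ded_30_1 (flp_e L208727) L205425 (flp_e L203225) (flp_d L207313) L210103
theorem L210115 : sm gf N19543 = N19543 := ded_35_2 (flp_e L210103) (flp_f L207305) L203212 L207305 L210103
theorem L210116 : sm gg N19264 = N19544 := rfl
theorem L210118 : sm ga N19544 = N19354 := ded_14_1 (flp_g L208274) (flp_a L207307) L210116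
theorem L210120 : sm gb N19544 = N19439 := ded_21_1 (flp_g L209113) (flp_b L207309) L210116
theorem L210122 : sm gc N19544 = N19269 := ded_27_1 (flp_g L207352) (flp_c L207311) L210116
theorem L210124 : sm gd N19544 = N19265 := ded_32_1 (flp_g L207317) (flp_d L207313) L210116
theorem L210126 : sm gh N19544 = N19365 := ded_42_2 (flp_g L208396) (flp_h L207315) L210116
theorem L210128 : sm gf N19544 = N19419 := ded_39_1 (flp_g L208913) (flp_f L205687) (flp_g L203208) L207305 L210116
theorem L210130 : sm ge N19266 = N19545 := rfl
theorem L210132 : sm gi N19545 = N19268 := ded_38_2 (flp_e L207347) (flp_i L207335) L210130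
theorem L210134 : sm gd N19545 = N19270 := ded_30_1 (flp_e L207356) L203278 (flp_e L203254) (flp_d L207333) L210130
theorem L210136 : sm gf N19545 = N19545 := ded_35_2 (flp_e L210130) (flp_f L207331) L203245 L207331 L210130
theorem L210137 : sm gg N19266 = N19546 := rfl
theorem L210139 : sm gd N19546 = N19267 := ded_32_1 (flp_g L207337) (flp_d L207333) L210137
theorem L210141 : sm gi N19546 = N19269 := ded_43_2 (flp_g L207352) (flp_i L207335) L210137
theorem L210143 : sm gg N19268 = N19547 := rfl
theorem L210145 : sm gd N19547 = N19273 := ded_32_1 (flp_g L207373) (flp_d L207349) L210143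
theorem L210147 : sm ge N19547 = N19269 := ded_36_1 (flp_g L207352) L207347 L210143
theorem L210149 : sm gg N19270 = N19548 := rfl
theorem L210151 : sm ge N19548 = N19271 := ded_36_1 (flp_g L207361) L207356 L210149
theorem L210153 : sm gi N19548 = N19273 := ded_43_2 (flp_g L207373) (flp_i L207358) L210149
theorem L210155 : sm gh N19270 = N19549 := rfl
theorem L210157 : sm ge N19549 = N19272 := ded_37_1 (flp_h L207367) L207356 L210155
theorem L210159 : sm gf N19549 = N19549 := ded_40_1 (flp_h L210155) L207360 L210155
theorem L210160 : sm gd N19452 = N19549 := ded_30_5 L210157 L207371 L203444 (flp_d L206166) L209263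
theorem L210162 : sm gh N19271 = N19550 := rfl
theorem L210164 : sm gg N19550 = N19272 := ded_42_1 (flp_h L207367) L207361 L210162
theorem L210166 : sm gd N19550 = N19281 := ded_33_1 (flp_h L207459) L203434 (flp_h L203291) (flp_d L207363) L210162
theorem L210168 : sm gf N19273 = N19551 := rfl
theorem L210170 : sm gg N19551 = N19551 := ded_39_2 (flp_f L210168) (flp_g L207373) L203297 L207373 L210168
theorem L210171 : sm gg N19276 = N19552 := rfl
theorem L210173 : sm ga N19552 = N19279 := ded_14_1 (flp_g L207437) (flp_a L207409) L210171
theorem L210175 : sm gc N19552 = N19458 := ded_27_1 (flp_g L209322) (flp_c L207411) L210171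
theorem L210177 : sm gd N19552 = N19278 := ded_32_1 (flp_g L207427) (flp_d L207413) L210171
theorem L210179 : sm ge N19552 = N19454 := ded_36_1 (flp_g L209276) (flp_e L207417) L210171
theorem L210181 : sm gi N19552 = N19282 := ded_43_2 (flp_g L207467) (flp_i L207415) L210171
theorem L210183 : sm gh N19276 = N19553 := rfl
theorem L210185 : sm ga N19553 = N19280 := ded_15_1 (flp_h L207449) (flp_a L207409) L210183
theorem L210187 : sm gc N19553 = N19414 := ded_28_1 L208872 (flp_c L207411) L210183
theorem L210189 : sm ge N19553 = N19449 := ded_37_1 L209241 (flp_e L207417) L210183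
theorem L210191 : sm gf N19553 = N19277 := ded_40_1 (flp_h L207419) L207407 L210183
theorem L210193 : sm gh N19279 = N19554 := rfl
theorem L210195 : sm gb N19554 = N19281 := ded_22_1 (flp_h L207459) (flp_b L207439) L210193
theorem L210197 : sm gc N19554 = N19457 := ded_28_1 L209318 (flp_c L207441) L210193
theorem L210199 : sm ge N19554 = N19451 := ded_37_1 L209259 (flp_e L207445) L210193
theorem L210201 : sm gg N19554 = N19280 := ded_42_1 (flp_h L207449) L207437 L210193
theorem L210203 : sm ge N19283 = N19555 := rfl
theorem L210205 : sm ga N19555 = N19289 := ded_12_1 (flp_e L207554) (flp_a L207475) L210203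
theorem L210207 : sm gb N19555 = N19418 := ded_19_1 (flp_e L208904) (flp_b L207477) L210203
theorem L210209 : sm gc N19555 = N19545 := ded_25_1 (flp_e L210130) (flp_c L207479) L210203
theorem L210211 : sm gh N19555 = N19432 := ded_37_2 (flp_e L209064) (flp_h L207483) L210203
theorem L210213 : sm gi N19555 = N19543 := ded_38_2 (flp_e L210103) (flp_i L207485) L210203
theorem L210215 : sm gd N19555 = N19403 := ded_30_1 (flp_e L208766) L205478 (flp_e L203520) (flp_d L207481) L210203
theorem L210217 : sm gf N19555 = N19555 := ded_35_2 (flp_e L210203) (flp_f L207473) L203505 L207473 L210203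
theorem L210218 : sm gg N19283 = N19556 := rfl
theorem L210220 : sm ga N19556 = N19290 := ded_14_1 (flp_g L207561) (flp_a L207475) L210218
theorem L210222 : sm gb N19556 = N19419 := ded_21_1 (flp_g L208913) (flp_b L207477) L210218
theorem L210224 : sm gc N19556 = N19546 := ded_27_1 (flp_g L210137) (flp_c L207479) L210218
theorem L210226 : sm gd N19556 = N19284 := ded_32_1 (flp_g L207487) (flp_d L207481) L210218
theorem L210228 : sm gh N19556 = N19433 := ded_42_2 (flp_g L209071) (flp_h L207483) L210218
theorem L210230 : sm gi N19556 = N19544 := ded_43_2 (flp_g L210116) (flp_i L207485) L210218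
theorem L210232 : sm gf N19556 = N19439 := ded_39_1 (flp_g L209113) (flp_f L205962) (flp_g L203499) L207473 L210218
theorem L210234 : sm gf N19285 = N19557 := rfl
theorem L210236 : sm ga N19557 = N19490 := ded_13_1 L209626 (flp_a L207505) L210234
theorem L210238 : sm gb N19557 = N19287 := ded_20_1 (flp_f L207530) (flp_b L207507) L210234
theorem L210240 : sm gc N19557 = N19481 := ded_26_1 (flp_f L209547) (flp_c L207513) L210234
theorem L210242 : sm gd N19557 = N19286 := ded_31_1 (flp_f L207516) L207503 L210234
theorem L210244 : sm gi N19557 = N19355 := ded_41_2 (flp_f L208286) (flp_i L207511) L210234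
theorem L210246 : sm gg N19286 = N19558 := rfl
theorem L210248 : sm ga N19558 = N19503 := ded_14_1 L209761 (flp_a L207518) L210246
theorem L210250 : sm gb N19558 = N19288 := ded_21_1 (flp_g L207540) (flp_b L207520) L210246
theorem L210252 : sm gc N19558 = N19301 := ded_27_1 (flp_g L207702) (flp_c L207522) L210246
theorem L210254 : sm ge N19558 = N19506 := ded_36_1 (flp_g L209786) (flp_e L207528) L210246
theorem L210256 : sm gh N19558 = N19422 := ded_42_2 L208952 (flp_h L207524) L210246
theorem L210258 : sm gi N19558 = N19356 := ded_43_2 (flp_g L208296) (flp_i L207526) L210246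
theorem L210260 : sm gf N19558 = N19378 := ded_39_1 (flp_g L208523) (flp_f L205131) (flp_g L203546) L207516 L210246
theorem L210262 : sm ge N19287 = N19559 := rfl
theorem L210264 : sm ga N19559 = N19545 := ded_12_1 (flp_e L210130) (flp_a L207532) L210262
theorem L210266 : sm gc N19559 = N19289 := ded_25_1 (flp_e L207554) (flp_c L207534) L210262
theorem L210268 : sm gi N19559 = N19357 := ded_38_2 (flp_e L208310) (flp_i L207538) L210262
theorem L210270 : sm gd N19559 = N19507 := ded_30_1 (flp_e L209794) L206898 (flp_e L203573) (flp_d L207536) L210262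
theorem L210272 : sm gf N19559 = N19559 := ded_35_2 (flp_e L210262) (flp_f L207530) L203562 L207530 L210262
theorem L210273 : sm gg N19287 = N19560 := rfl
theorem L210275 : sm ga N19560 = N19546 := ded_14_1 (flp_g L210137) (flp_a L207532) L210273
theorem L210277 : sm gc N19560 = N19290 := ded_27_1 (flp_g L207561) (flp_c L207534) L210273
theorem L210279 : sm gd N19560 = N19288 := ded_32_1 (flp_g L207540) (flp_d L207536) L210273
theorem L210281 : sm gi N19560 = N19358 := ded_43_2 (flp_g L208321) (flp_i L207538) L210273
theorem L210283 : sm gf N19560 = N19380 := ded_39_1 (flp_g L208538) (flp_f L205141) (flp_g L203556) L207530 L210273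
theorem L210285 : sm gg N19289 = N19561 := rfl
theorem L210287 : sm gb N19561 = N19487 := ded_21_1 (flp_g L209603) (flp_b L207556) L210285
theorem L210289 : sm gd N19561 = N19412 := ded_32_1 (flp_g L208848) (flp_d L207558) L210285
theorem L210291 : sm ge N19561 = N19290 := ded_36_1 (flp_g L207561) L207554 L210285
theorem L210293 : sm gh N19289 = N19562 := rfl
theorem L210295 : sm ga N19562 = N19432 := ded_15_1 (flp_h L210211) L210205 L210293
theorem L210297 : sm gb N19562 = N19488 := ded_22_1 (flp_h L209609) (flp_b L207556) L210293
theorem L210299 : sm ge N19562 = N19291 := ded_37_1 (flp_h L207567) L207554 L210293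
theorem L210301 : sm gf N19562 = N19562 := ded_40_1 (flp_h L210293) L207560 L210293
theorem L210302 : sm gd N19426 = N19562 := ded_11_0 L210295 L209068 (flp_a L208991)
theorem L210304 : sm gh N19290 = N19563 := rfl
theorem L210306 : sm ga N19563 = N19433 := ded_15_1 (flp_h L210228) L210220 L210304
theorem L210308 : sm gb N19563 = N19489 := ded_22_1 (flp_h L209614) (flp_b L207563) L210304
theorem L210310 : sm gf N19563 = N19339 := ded_40_1 (flp_h L209144) L209148 L210304
theorem L210312 : sm gg N19563 = N19291 := ded_42_1 (flp_h L207567) L207561 L210304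
theorem L210314 : sm gd N19563 = N19304 := ded_33_1 (flp_h L207742) L203895 (flp_h L203616) (flp_d L207565) L210304
theorem L210316 : sm gf N19292 = N19564 := rfl
theorem L210318 : sm ga N19564 = N19524 := ded_13_1 L209928 (flp_a L207579) L210316
theorem L210320 : sm gb N19564 = N19294 := ded_20_1 (flp_f L207604) (flp_b L207581) L210316
theorem L210322 : sm gd N19564 = N19293 := ded_31_1 (flp_f L207590) L207577 L210316
theorem L210324 : sm gh N19564 = N19494 := ded_40_2 (flp_f L209668) (flp_h L207588) L210316
theorem L210326 : sm gi N19564 = N19324 := ded_41_2 (flp_f L207971) (flp_i L207585) L210316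
theorem L210328 : sm gg N19293 = N19565 := rfl
theorem L210330 : sm ga N19565 = N19525 := ded_14_1 L209936 (flp_a L207592) L210328
theorem L210332 : sm gb N19565 = N19295 := ded_21_1 (flp_g L207616) (flp_b L207594) L210328
theorem L210334 : sm gc N19565 = N19422 := ded_27_1 L208952 (flp_c L207596) L210328
theorem L210336 : sm ge N19565 = N19515 := ded_36_1 (flp_g L209859) (flp_e L207602) L210328
theorem L210338 : sm gh N19565 = N19301 := ded_42_2 (flp_g L207702) (flp_h L207598) L210328
theorem L210340 : sm gi N19565 = N19325 := ded_43_2 (flp_g L207981) (flp_i L207600) L210328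
theorem L210342 : sm gf N19565 = N19344 := ded_39_1 (flp_g L208183) (flp_f L204633) (flp_g L203626) L207590 L210328
theorem L210344 : sm ge N19294 = N19566 := rfl
theorem L210346 : sm ga N19566 = N19319 := ded_12_1 (flp_e L207918) (flp_a L207606) L210344
theorem L210348 : sm gc N19566 = N19311 := ded_25_1 (flp_e L207828) (flp_c L207608) L210344
theorem L210350 : sm gh N19566 = N19496 := ded_37_2 (flp_e L209682) (flp_h L207612) L210344
theorem L210352 : sm gi N19566 = N19326 := ded_38_2 (flp_e L207995) (flp_i L207614) L210344
theorem L210354 : sm gd N19566 = N19516 := ded_30_1 (flp_e L209867) L206963 (flp_e L203655) (flp_d L207610) L210344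
theorem L210356 : sm gf N19566 = N19566 := ded_35_2 (flp_e L210344) (flp_f L207604) L203642 L207604 L210344
theorem L210357 : sm gg N19294 = N19567 := rfl
theorem L210359 : sm ga N19567 = N19320 := ded_14_1 (flp_g L207925) (flp_a L207606) L210357
theorem L210361 : sm gc N19567 = N19312 := ded_27_1 (flp_g L207835) (flp_c L207608) L210357
theorem L210363 : sm gd N19567 = N19295 := ded_32_1 (flp_g L207616) (flp_d L207610) L210357
theorem L210365 : sm gh N19567 = N19497 := ded_42_2 (flp_g L209691) (flp_h L207612) L210357
theorem L210367 : sm gi N19567 = N19327 := ded_43_2 (flp_g L208002) (flp_i L207614) L210357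
theorem L210369 : sm gf N19567 = N19346 := ded_39_1 (flp_g L208198) (flp_f L204643) (flp_g L203636) L207604 L210357
theorem L210371 : sm gg N19296 = N19568 := rfl
theorem L210373 : sm ga N19568 = N19478 := ded_14_1 (flp_g L209514) (flp_a L207632) L210371
theorem L210375 : sm gb N19568 = N19299 := ded_21_1 (flp_g L207672) (flp_b L207634) L210371
theorem L210377 : sm gc N19568 = N19506 := ded_27_1 (flp_g L209786) (flp_c L207636) L210371
theorem L210379 : sm ge N19568 = N19301 := ded_36_1 (flp_g L207702) (flp_e L207642) L210371
theorem L210381 : sm gh N19568 = N19515 := ded_42_2 (flp_g L209859) (flp_h L207638) L210371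
theorem L210383 : sm gi N19568 = N19359 := ded_43_2 (flp_g L208333) (flp_i L207640) L210371
theorem L210385 : sm gf N19568 = N19527 := ded_39_1 L209960 L207064 (flp_g L203681) L207630 L210371
theorem L210387 : sm gg N19297 = N19569 := rfl
theorem L210389 : sm ga N19569 = N19321 := ded_14_1 (flp_g L207933) (flp_a L207646) L210387
theorem L210391 : sm gc N19569 = N19416 := ded_27_1 (flp_g L208884) (flp_c L207648) L210387
theorem L210393 : sm gd N19569 = N19299 := ded_32_1 (flp_g L207672) (flp_d L207650) L210387
theorem L210395 : sm ge N19569 = N19501 := ded_36_1 (flp_g L209739) (flp_e L207654) L210387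
theorem L210397 : sm gi N19569 = N19360 := ded_43_2 (flp_g L208347) (flp_i L207652) L210387
theorem L210399 : sm gf N19569 = N19552 := ded_39_1 (flp_g L210171) (flp_f L207407) (flp_g L203691) L207644 L210387
theorem L210401 : sm gh N19297 = N19570 := rfl
theorem L210403 : sm ga N19570 = N19322 := ded_15_1 (flp_h L207947) (flp_a L207646) L210401
theorem L210405 : sm gb N19570 = N19532 := ded_22_1 L210011 L209336 L210401
theorem L210407 : sm gc N19570 = N19413 := ded_28_1 L208860 (flp_c L207648) L210401
theorem L210409 : sm ge N19570 = N19407 := ded_37_1 L208815 (flp_e L207654) L210401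
theorem L210411 : sm gf N19570 = N19298 := ded_40_1 (flp_h L207656) L207644 L210401
theorem L210413 : sm gd N19570 = N19518 := ded_33_1 (flp_h L209882) L206963 (flp_h L203705) (flp_d L207650) L210401
theorem L210415 : sm gi N19570 = N19492 := ded_44_2 L209649 L206859 L205647 (flp_i L207652) L210401
theorem L210417 : sm gg N19300 = N19571 := rfl
theorem L210419 : sm ga N19571 = N19301 := ded_14_1 (flp_g L207702) (flp_a L207688) L210417
theorem L210421 : sm gb N19571 = N19323 := ded_21_1 (flp_g L207959) (flp_b L207690) L210417
theorem L210423 : sm gc N19571 = N19503 := ded_27_1 L209761 (flp_c L207692) L210417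
theorem L210425 : sm gd N19571 = N19502 := ded_32_1 (flp_g L209749) (flp_d L207694) L210417
theorem L210427 : sm ge N19571 = N19478 := ded_36_1 (flp_g L209514) (flp_e L207700) L210417
theorem L210429 : sm gh N19571 = N19525 := ded_42_2 L209936 (flp_h L207696) L210417
theorem L210431 : sm gi N19571 = N19361 := ded_43_2 (flp_g L208355) (flp_i L207698) L210417
theorem L210433 : sm gf N19571 = N19391 := ded_39_1 (flp_g L208651) (flp_f L205285) (flp_g L203733) L207686 L210417
theorem L210435 : sm ge N19302 = N19572 := rfl
theorem L210437 : sm ga N19572 = N19326 := ded_12_1 (flp_e L207995) (flp_a L207714) L210435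
theorem L210439 : sm gb N19572 = N19472 := ded_19_1 (flp_e L209470) (flp_b L207716) L210435
theorem L210441 : sm gc N19572 = N19345 := ded_25_1 (flp_e L208193) (flp_c L207718) L210435
theorem L210443 : sm gh N19572 = N19468 := ded_37_2 (flp_e L209433) (flp_h L207722) L210435
theorem L210445 : sm gi N19572 = N19319 := ded_38_2 (flp_e L207918) (flp_i L207724) L210435
theorem L210447 : sm gd N19572 = N19420 := ded_30_1 (flp_e L208923) L205711 (flp_e L203819) (flp_d L207720) L210435
theorem L210449 : sm gf N19572 = N19572 := ded_35_2 (flp_e L210435) (flp_f L207712) L203804 L207712 L210435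
theorem L210450 : sm gg N19302 = N19573 := rfl
theorem L210452 : sm ga N19573 = N19327 := ded_14_1 (flp_g L208002) (flp_a L207714) L210450
theorem L210454 : sm gb N19573 = N19473 := ded_21_1 (flp_g L209475) (flp_b L207716) L210450
theorem L210456 : sm gc N19573 = N19346 := ded_27_1 (flp_g L208198) (flp_c L207718) L210450
theorem L210458 : sm gd N19573 = N19303 := ded_32_1 (flp_g L207726) (flp_d L207720) L210450
theorem L210460 : sm gh N19573 = N19469 := ded_42_2 (flp_g L209438) (flp_h L207722) L210450
theorem L210462 : sm gi N19573 = N19320 := ded_43_2 (flp_g L207925) (flp_i L207724) L210450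
theorem L210464 : sm gf N19573 = N19312 := ded_39_1 (flp_g L207835) (flp_f L204010) (flp_g L203798) L207712 L210450
theorem L210466 : sm ge N19305 = N19574 := rfl
theorem L210468 : sm ga N19574 = N19338 := ded_12_1 (flp_e L208128) (flp_a L207758) L210466
theorem L210470 : sm gb N19574 = N19364 := ded_19_1 (flp_e L208391) (flp_b L207760) L210466
theorem L210472 : sm gh N19574 = N19438 := ded_37_2 (flp_e L209106) (flp_h L207764) L210466
theorem L210474 : sm gd N19574 = N19311 := ded_30_1 (flp_e L207828) L204014 (flp_e L203936) (flp_d L207762) L210466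
theorem L210476 : sm gf N19574 = N19574 := ded_35_2 (flp_e L210466) (flp_f L207756) L203923 L207756 L210466
theorem L210477 : sm gg N19305 = N19575 := rfl
theorem L210479 : sm ga N19575 = N19339 := ded_14_1 (flp_g L208133) (flp_a L207758) L210477
theorem L210481 : sm gb N19575 = N19365 := ded_21_1 (flp_g L208396) (flp_b L207760) L210477
theorem L210483 : sm gd N19575 = N19306 := ded_32_1 (flp_g L207766) (flp_d L207762) L210477
theorem L210485 : sm gh N19575 = N19439 := ded_42_2 (flp_g L209113) (flp_h L207764) L210477
theorem L210487 : sm gf N19575 = N19433 := ded_39_1 (flp_g L209071) (flp_f L205892) (flp_g L203921) L207756 L210477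
theorem L210489 : sm ge N19307 = N19576 := rfl
theorem L210491 : sm ga N19576 = N19345 := ded_12_1 (flp_e L208193) (flp_a L207782) L210489
theorem L210493 : sm gc N19576 = N19326 := ded_25_1 (flp_e L207995) (flp_c L207784) L210489
theorem L210495 : sm gh N19576 = N19452 := ded_37_2 (flp_e L209263) (flp_h L207788) L210489
theorem L210497 : sm gi N19576 = N19311 := ded_38_2 (flp_e L207828) (flp_i L207790) L210489
theorem L210499 : sm gf N19576 = N19576 := ded_35_2 (flp_e L210489) (flp_f L207780) L203960 L207780 L210489
theorem L210500 : sm gg N19307 = N19577 := rfl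
theorem L210502 : sm ga N19577 = N19346 := ded_14_1 (flp_g L208198) (flp_a L207782) L210500
theorem L210504 : sm gc N19577 = N19327 := ded_27_1 (flp_g L208002) (flp_c L207784) L210500
theorem L210506 : sm gd N19577 = N19308 := ded_32_1 (flp_g L207792) (flp_d L207786) L210500
theorem L210508 : sm gh N19577 = N19453 := ded_42_2 (flp_g L209268) (flp_h L207788) L210500
theorem L210510 : sm gi N19577 = N19312 := ded_43_2 (flp_g L207835) (flp_i L207790) L210500
theorem L210512 : sm gf N19577 = N19320 := ded_39_1 (flp_g L207925) (flp_f L204296) (flp_g L203954) L207780 L210500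
theorem L210514 : sm ge N19309 = N19578 := rfl
theorem L210516 : sm ga N19578 = N19372 := ded_12_1 (flp_e L208474) (flp_a L207806) L210514
theorem L210518 : sm gb N19578 = N19311 := ded_19_1 (flp_e L207828) (flp_b L207808) L210514
theorem L210520 : sm gh N19578 = N19510 := ded_37_2 (flp_e L209819) (flp_h L207812) L210514
theorem L210522 : sm gd N19578 = N19364 := ded_30_1 (flp_e L208391) L204986 (flp_e L204008) (flp_d L207810) L210514
theorem L210524 : sm gf N19578 = N19578 := ded_35_2 (flp_e L210514) (flp_f L207804) L203995 L207804 L210514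
theorem L210525 : sm gg N19309 = N19579 := rfl
theorem L210527 : sm ga N19579 = N19373 := ded_14_1 (flp_g L208479) (flp_a L207806) L210525
theorem L210529 : sm gb N19579 = N19312 := ded_21_1 (flp_g L207835) (flp_b L207808) L210525
theorem L210531 : sm gd N19579 = N19310 := ded_32_1 (flp_g L207814) (flp_d L207810) L210525
theorem L210533 : sm gh N19579 = N19511 := ded_42_2 (flp_g L209824) (flp_h L207812) L210525
theorem L210535 : sm gf N19579 = N19473 := ded_39_1 (flp_g L209475) (flp_f L206501) (flp_g L203993) L207804 L210525
theorem L210537 : sm gg N19311 = N19580 := rfl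
theorem L210539 : sm ga N19580 = N19352 := ded_14_1 (flp_g L208257) (flp_a L207830) L210537
theorem L210541 : sm ge N19580 = N19312 := ded_36_1 (flp_g L207835) L207828 L210537
theorem L210543 : sm gh N19580 = N19512 := ded_42_2 (flp_g L209830) (flp_h L207832) L210537
theorem L210545 : sm ge N19314 = N19581 := rfl
theorem L210547 : sm ga N19581 = N19516 := ded_12_1 (flp_e L209867) (flp_a L207859) L210545
theorem L210549 : sm gb N19581 = N19474 := ded_19_1 (flp_e L209479) (flp_b L207861) L210545
theorem L210551 : sm gi N19581 = N19420 := ded_38_2 (flp_e L208923) (flp_i L207865) L210545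
theorem L210553 : sm gd N19581 = N19319 := ded_30_1 (flp_e L207918) L204300 (flp_e L204259) (flp_d L207863) L210545
theorem L210555 : sm gf N19581 = N19581 := ded_35_2 (flp_e L210545) (flp_f L207857) L204246 L207857 L210545
theorem L210556 : sm gg N19314 = N19582 := rfl
theorem L210558 : sm ga N19582 = N19517 := ded_14_1 (flp_g L209874) (flp_a L207859) L210556
theorem L210560 : sm gb N19582 = N19475 := ded_21_1 (flp_g L209484) (flp_b L207861) L210556
theorem L210562 : sm gd N19582 = N19316 := ded_32_1 (flp_g L207880) (flp_d L207863) L210556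
theorem L210564 : sm gi N19582 = N19421 := ded_43_2 (flp_g L208930) (flp_i L207865) L210556
theorem L210566 : sm gf N19582 = N19435 := ded_39_1 (flp_g L209084) (flp_f L205908) (flp_g L204242) L207857 L210556
theorem L210568 : sm gh N19314 = N19583 := rfl
theorem L210570 : sm ga N19583 = N19518 := ded_15_1 (flp_h L209882) (flp_a L207859) L210568
theorem L210572 : sm gb N19583 = N19405 := ded_22_1 L208791 (flp_b L207861) L210568
theorem L210574 : sm gf N19583 = N19315 := ded_40_1 (flp_h L207867) L207857 L210568
theorem L210576 : sm gd N19583 = N19322 := ded_33_1 (flp_h L207947) L204330 (flp_h L204255) (flp_d L207863) L210568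
theorem L210578 : sm gi N19583 = N19494 := ded_44_2 (flp_h L210324) L210326 L207979 (flp_i L207865) L210568
theorem L210580 : sm ge N19317 = N19584 := rfl
theorem L210582 : sm gb N19584 = N19319 := ded_19_1 (flp_e L207918) (flp_b L207898) L210580
theorem L210584 : sm gh N19584 = N19539 := ded_37_2 (flp_e L210068) (flp_h L207902) L210580
theorem L210586 : sm gi N19584 = N19472 := ded_38_2 (flp_e L209470) (flp_i L207904) L210580
theorem L210588 : sm gd N19584 = N19474 := ded_30_1 (flp_e L209479) L206515 (flp_e L204294) (flp_d L207900) L210580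
theorem L210590 : sm gf N19584 = N19584 := ded_35_2 (flp_e L210580) (flp_f L207896) L204281 L207896 L210580
theorem L210591 : sm gg N19317 = N19585 := rfl
theorem L210593 : sm gb N19585 = N19320 := ded_21_1 (flp_g L207925) (flp_b L207898) L210591
theorem L210595 : sm gd N19585 = N19318 := ded_32_1 (flp_g L207906) (flp_d L207900) L210591
theorem L210597 : sm gh N19585 = N19540 := ded_42_2 (flp_g L210075) (flp_h L207902) L210591
theorem L210599 : sm gi N19585 = N19473 := ded_43_2 (flp_g L209475) (flp_i L207904) L210591
theorem L210601 : sm gg N19319 = N19586 := rfl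
theorem L210603 : sm gc N19586 = N19352 := ded_27_1 (flp_g L208257) (flp_c L207920) L210601
theorem L210605 : sm ge N19586 = N19320 := ded_36_1 (flp_g L207925) L207918 L210601
theorem L210607 : sm gh N19586 = N19541 := ded_42_2 (flp_g L210083) (flp_h L207922) L210601
theorem L210609 : sm gh N19321 = N19587 := rfl
theorem L210611 : sm gb N19587 = N19406 := ded_22_1 L208803 (flp_b L207935) L210609
theorem L210613 : sm gc N19587 = N19415 := ded_28_1 L208882 (flp_c L207937) L210609
theorem L210615 : sm ge N19587 = N19409 := ded_37_1 L208833 (flp_e L207941) L210609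
theorem L210617 : sm gf N19587 = N19554 := ded_40_1 (flp_h L210193) (flp_f L207945) L210609
theorem L210619 : sm gg N19587 = N19322 := ded_42_1 (flp_h L207947) L207933 L210609
theorem L210621 : sm gi N19587 = N19495 := ded_44_2 L209680 L206865 (flp_h L206676) (flp_i L207943) L210609
theorem L210623 : sm ge N19324 = N19588 := rfl
theorem L210625 : sm ga N19588 = N19522 := ded_12_1 L209909 (flp_a L207973) L210623
theorem L210627 : sm gb N19588 = N19326 := ded_19_1 (flp_e L207995) (flp_b L207975) L210623
theorem L210629 : sm gh N19588 = N19420 := ded_37_2 (flp_e L208923) (flp_h L207979) L210623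
theorem L210631 : sm gd N19588 = N19519 := ded_30_1 (flp_e L209888) L206982 (flp_e L204405) (flp_d L207977) L210623
theorem L210633 : sm gf N19588 = N19588 := ded_35_2 (flp_e L210623) (flp_f L207971) L204392 L207971 L210623
theorem L210634 : sm gg N19324 = N19589 := rfl
theorem L210636 : sm ga N19589 = N19523 := ded_14_1 L209916 (flp_a L207973) L210634
theorem L210638 : sm gb N19589 = N19327 := ded_21_1 (flp_g L208002) (flp_b L207975) L210634
theorem L210640 : sm gd N19589 = N19325 := ded_32_1 (flp_g L207981) (flp_d L207977) L210634
theorem L210642 : sm gh N19589 = N19421 := ded_42_2 (flp_g L208930) (flp_h L207979) L210634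
theorem L210644 : sm gf N19589 = N19351 := ded_39_1 (flp_g L208249) (flp_f L204695) (flp_g L204390) L207971 L210634
theorem L210646 : sm gg N19326 = N19590 := rfl
theorem L210648 : sm gd N19590 = N19521 := ded_32_1 (flp_g L209899) (flp_d L207999) L210646
theorem L210650 : sm ge N19590 = N19327 := ded_36_1 (flp_g L208002) L207995 L210646
theorem L210652 : sm gh N19590 = N19476 := ded_42_2 (flp_g L209492) (flp_h L207997) L210646
theorem L210654 : sm ge N19329 = N19591 := rfl
theorem L210656 : sm gc N19591 = N19338 := ded_25_1 (flp_e L208128) (flp_c L208028) L210654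
theorem L210658 : sm gh N19591 = N19379 := ded_37_2 (flp_e L208533) (flp_h L208032) L210654
theorem L210660 : sm gi N19591 = N19562 := ded_38_2 L210299 (flp_i L208034) L210654
theorem L210662 : sm gf N19591 = N19591 := ded_35_2 (flp_e L210654) (flp_f L208026) L204499 L208026 L210654
theorem L210663 : sm gg N19329 = N19592 := rfl
theorem L210665 : sm gc N19592 = N19339 := ded_27_1 (flp_g L208133) (flp_c L208028) L210663
theorem L210667 : sm gd N19592 = N19330 := ded_32_1 (flp_g L208036) (flp_d L208030) L210663
theorem L210669 : sm gh N19592 = N19380 := ded_42_2 (flp_g L208538) (flp_h L208032) L210663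
theorem L210671 : sm gi N19592 = N19563 := ded_43_2 L210312 (flp_i L208034) L210663
theorem L210673 : sm gf N19331 = N19593 := rfl
theorem L210675 : sm ga N19593 = N19377 := ded_13_1 (flp_f L208515) (flp_a L208046) L210673
theorem L210677 : sm gb N19593 = N19333 := ded_20_1 (flp_f L208071) (flp_b L208048) L210673
theorem L210679 : sm gd N19593 = N19332 := ded_31_1 (flp_f L208057) L208044 L210673
theorem L210681 : sm gh N19593 = N19557 := ded_40_2 (flp_f L210234) (flp_h L208055) L210673
theorem L210683 : sm gi N19593 = N19336 := ded_41_2 (flp_f L208104) (flp_i L208052) L210673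
theorem L210685 : sm gg N19332 = N19594 := rfl
theorem L210687 : sm ga N19594 = N19378 := ded_14_1 (flp_g L208523) (flp_a L208059) L210685
theorem L210689 : sm gb N19594 = N19334 := ded_21_1 (flp_g L208081) (flp_b L208061) L210685
theorem L210691 : sm gc N19594 = N19391 := ded_27_1 (flp_g L208651) (flp_c L208063) L210685
theorem L210693 : sm ge N19594 = N19344 := ded_36_1 (flp_g L208183) (flp_e L208069) L210685
theorem L210695 : sm gh N19594 = N19387 := ded_42_2 (flp_g L208601) (flp_h L208065) L210685
theorem L210697 : sm gi N19594 = N19337 := ded_43_2 (flp_g L208114) (flp_i L208067) L210685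
theorem L210699 : sm gf N19594 = N19503 := ded_39_1 L209761 L206875 (flp_g L204538) L208057 L210685
theorem L210701 : sm ge N19333 = N19595 := rfl
theorem L210703 : sm gc N19595 = N19562 := ded_25_1 L210299 (flp_c L208073) L210701
theorem L210705 : sm gh N19595 = N19559 := ded_37_2 (flp_e L210262) (flp_h L208077) L210701
theorem L210707 : sm gi N19595 = N19338 := ded_38_2 (flp_e L208128) (flp_i L208079) L210701
theorem L210709 : sm gd N19595 = N19345 := ded_30_1 (flp_e L208193) L204645 (flp_e L204563) (flp_d L208075) L210701
theorem L210711 : sm gf N19595 = N19595 := ded_35_2 (flp_e L210701) (flp_f L208071) L204552 L208071 L210701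
theorem L210712 : sm gg N19333 = N19596 := rfl
theorem L210714 : sm gc N19596 = N19563 := ded_27_1 L210312 (flp_c L208073) L210712
theorem L210716 : sm gd N19596 = N19334 := ded_32_1 (flp_g L208081) (flp_d L208075) L210712
theorem L210718 : sm gh N19596 = N19560 := ded_42_2 (flp_g L210273) (flp_h L208077) L210712
theorem L210720 : sm gi N19596 = N19339 := ded_43_2 (flp_g L208133) (flp_i L208079) L210712
theorem L210722 : sm gf N19596 = N19592 := ded_39_1 (flp_g L210663) (flp_f L208026) (flp_g L204546) L208071 L210712
theorem L210724 : sm gf N19335 = N19597 := rfl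
theorem L210726 : sm ga N19597 = N19381 := ded_13_1 (flp_f L208544) (flp_a L208095) L210724
theorem L210728 : sm gc N19597 = N19336 := ded_26_1 (flp_f L208104) L208093 L210724
theorem L210730 : sm gd N19597 = N19396 := ded_31_1 (flp_f L208699) (flp_d L208102) L210724
theorem L210732 : sm gh N19597 = N19401 := ded_40_2 (flp_f L208744) (flp_h L208100) L210724
theorem L210734 : sm ge N19336 = N19598 := rfl
theorem L210736 : sm ga N19598 = N19382 := ded_12_1 (flp_e L208554) (flp_a L208106) L210734
theorem L210738 : sm gb N19598 = N19338 := ded_19_1 (flp_e L208128) (flp_b L208108) L210734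
theorem L210740 : sm gh N19598 = N19403 := ded_37_2 (flp_e L208766) (flp_h L208112) L210734
theorem L210742 : sm gd N19598 = N19350 := ded_30_1 (flp_e L208242) L204699 (flp_e L204598) (flp_d L208110) L210734
theorem L210744 : sm gf N19598 = N19598 := ded_35_2 (flp_e L210734) (flp_f L208104) L204585 L208104 L210734
theorem L210745 : sm gg N19336 = N19599 := rfl
theorem L210747 : sm ga N19599 = N19383 := ded_14_1 (flp_g L208561) (flp_a L208106) L210745
theorem L210749 : sm gb N19599 = N19339 := ded_21_1 (flp_g L208133) (flp_b L208108) L210745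
theorem L210751 : sm gd N19599 = N19337 := ded_32_1 (flp_g L208114) (flp_d L208110) L210745
theorem L210753 : sm gh N19599 = N19404 := ded_42_2 (flp_g L208773) (flp_h L208112) L210745
theorem L210755 : sm gf N19599 = N19489 := ded_39_1 L209616 L206741 (flp_g L204583) L208104 L210745
theorem L210757 : sm gg N19338 = N19600 := rfl
theorem L210759 : sm gd N19600 = N19352 := ded_32_1 (flp_g L208257) (flp_d L208130) L210757
theorem L210761 : sm ge N19600 = N19339 := ded_36_1 (flp_g L208133) L208128 L210757
theorem L210763 : sm gf N19340 = N19601 := rfl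
theorem L210765 : sm ga N19601 = N19342 := ded_13_1 (flp_f L208164) (flp_a L208139) L210763
theorem L210767 : sm gb N19601 = N19370 := ded_20_1 (flp_f L208454) (flp_b L208141) L210763
theorem L210769 : sm gc N19601 = N19564 := ded_26_1 (flp_f L210316) (flp_c L208147) L210763
theorem L210771 : sm gd N19601 = N19341 := ded_31_1 (flp_f L208150) L208137 L210763
theorem L210773 : sm gi N19601 = N19348 := ded_41_2 (flp_f L208216) (flp_i L208145) L210763
theorem L210775 : sm gg N19341 = N19602 := rfl
theorem L210777 : sm ga N19602 = N19344 := ded_14_1 (flp_g L208183) (flp_a L208152) L210775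
theorem L210779 : sm gb N19602 = N19371 := ded_21_1 (flp_g L208464) (flp_b L208154) L210775
theorem L210781 : sm gc N19602 = N19387 := ded_27_1 (flp_g L208601) (flp_c L208156) L210775
theorem L210783 : sm ge N19602 = N19378 := ded_36_1 (flp_g L208523) (flp_e L208162) L210775
theorem L210785 : sm gh N19602 = N19391 := ded_42_2 (flp_g L208651) (flp_h L208158) L210775
theorem L210787 : sm gi N19602 = N19349 := ded_43_2 (flp_g L208228) (flp_i L208160) L210775
theorem L210789 : sm gf N19602 = N19525 := ded_39_1 L209936 L207032 (flp_g L204620) L208150 L210775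
theorem L210791 : sm ge N19342 = N19603 := rfl
theorem L210793 : sm gb N19603 = N19345 := ded_19_1 (flp_e L208193) (flp_b L208166) L210791
theorem L210795 : sm gi N19603 = N19350 := ded_38_2 (flp_e L208242) (flp_i L208170) L210791
theorem L210797 : sm gf N19603 = N19603 := ded_35_2 (flp_e L210791) (flp_f L208164) L204632 L208164 L210791
theorem L210798 : sm gg N19342 = N19604 := rfl
theorem L210800 : sm gb N19604 = N19346 := ded_21_1 (flp_g L208198) (flp_b L208166) L210798
theorem L210802 : sm gd N19604 = N19344 := ded_32_1 (flp_g L208183) (flp_d L208168) L210798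
theorem L210804 : sm gi N19604 = N19351 := ded_43_2 (flp_g L208249) (flp_i L208170) L210798
theorem L210806 : sm gh N19342 = N19605 := rfl
theorem L210808 : sm gb N19605 = N19347 := ded_22_1 (flp_h L208204) (flp_b L208166) L210806
theorem L210810 : sm gf N19605 = N19343 := ded_40_1 (flp_h L208172) L208164 L210806
theorem L210812 : sm gd N19605 = N19394 := ded_33_1 (flp_h L208679) L205307 (flp_h L204639) (flp_d L208168) L210806
theorem L210814 : sm gi N19605 = N19436 := ded_44_2 (flp_h L209092) L205914 (flp_h L204701) (flp_i L208170) L210806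
theorem L210816 : sm gg N19345 = N19606 := rfl
theorem L210818 : sm ge N19606 = N19346 := ded_36_1 (flp_g L208198) L208193 L210816
theorem L210820 : sm gi N19606 = N19352 := ded_43_2 (flp_g L208257) (flp_i L208195) L210816
theorem L210822 : sm gh N19345 = N19607 := rfl
theorem L210824 : sm ga N19607 = N19452 := ded_15_1 (flp_h L210495) L210491 L210822
theorem L210826 : sm gc N19607 = N19468 := ded_28_1 (flp_h L210443) L210441 L210822
theorem L210828 : sm ge N19607 = N19347 := ded_37_1 (flp_h L208204) L208193 L210822
theorem L210830 : sm gf N19607 = N19607 := ded_40_1 (flp_h L210822) L208197 L210822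
theorem L210831 : sm gi N19607 = N19549 := ded_44_2 (flp_h L210155) L207358 (flp_h L204713) (flp_i L208195) L210822
theorem L210833 : sm gh N19346 = N19608 := rfl
theorem L210835 : sm ga N19608 = N19453 := ded_15_1 (flp_h L210508) L210502 L210833
theorem L210837 : sm gc N19608 = N19469 := ded_28_1 (flp_h L210460) L210456 L210833
theorem L210839 : sm gf N19608 = N19497 := ded_40_1 (flp_h L210365) L210369 L210833
theorem L210841 : sm gg N19608 = N19347 := ded_42_1 (flp_h L208204) L208198 L210833
theorem L210843 : sm gd N19608 = N19395 := ded_33_1 (flp_h L208687) L205333 (flp_h L204666) (flp_d L208200) L210833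
theorem L210845 : sm gi N19608 = N19550 := ded_44_2 (flp_h L210162) L207365 (flp_h L204720) (flp_i L208202) L210833
theorem L210847 : sm ge N19348 = N19609 := rfl
theorem L210849 : sm ga N19609 = N19350 := ded_12_1 (flp_e L208242) (flp_a L208218) L210847
theorem L210851 : sm gb N19609 = N19372 := ded_19_1 (flp_e L208474) (flp_b L208220) L210847
theorem L210853 : sm gc N19609 = N19588 := ded_25_1 (flp_e L210623) (flp_c L208222) L210847
theorem L210855 : sm gh N19609 = N19426 := ded_37_2 (flp_e L208989) (flp_h L208226) L210847
theorem L210857 : sm gd N19609 = N19382 := ded_30_1 (flp_e L208554) L205166 (flp_e L204693) (flp_d L208224) L210847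
theorem L210859 : sm gf N19609 = N19609 := ded_35_2 (flp_e L210847) (flp_f L208216) L204680 L208216 L210847
theorem L210860 : sm gg N19348 = N19610 := rfl
theorem L210862 : sm ga N19610 = N19351 := ded_14_1 (flp_g L208249) (flp_a L208218) L210860
theorem L210864 : sm gb N19610 = N19373 := ded_21_1 (flp_g L208479) (flp_b L208220) L210860
theorem L210866 : sm gc N19610 = N19589 := ded_27_1 (flp_g L210634) (flp_c L208222) L210860
theorem L210868 : sm gd N19610 = N19349 := ded_32_1 (flp_g L208228) (flp_d L208224) L210860
theorem L210870 : sm gh N19610 = N19427 := ded_42_2 (flp_g L208996) (flp_h L208226) L210860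
theorem L210872 : sm gf N19610 = N19523 := ded_39_1 L209916 L207007 (flp_g L204676) L208216 L210860
theorem L210874 : sm gg N19350 = N19611 := rfl
theorem L210876 : sm gb N19611 = N19352 := ded_21_1 (flp_g L208257) (flp_b L208244) L210874
theorem L210878 : sm ge N19611 = N19351 := ded_36_1 (flp_g L208249) L208242 L210874
theorem L210880 : sm gh N19611 = N19437 := ded_42_2 (flp_g L209100) (flp_h L208246) L210874
theorem L210882 : sm gf N19352 = N19612 := rfl
theorem L210884 : sm gh N19612 = N19551 := ded_40_2 (flp_f L210168) (flp_h L208261) L210882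
theorem L210886 : sm gg N19612 = N19612 := ded_39_2 (flp_f L210882) (flp_g L208257) L204715 L208257 L210882
theorem L210887 : sm gg N19353 = N19613 := rfl
theorem L210889 : sm gb N19613 = N19412 := ded_21_1 (flp_g L208848) (flp_b L208265) L210887
theorem L210891 : sm gd N19613 = N19487 := ded_32_1 (flp_g L209603) (flp_d L208271) L210887
theorem L210893 : sm ge N19613 = N19354 := ded_36_1 (flp_g L208274) L208263 L210887
theorem L210895 : sm gh N19613 = N19384 := ded_42_2 (flp_g L208569) (flp_h L208267) L210887
theorem L210897 : sm gi N19613 = N19561 := ded_43_2 (flp_g L210285) (flp_i L208269) L210887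
theorem L210899 : sm ge N19355 = N19614 := rfl
theorem L210901 : sm ga N19614 = N19488 := ded_12_1 L209611 (flp_a L208288) L210899
theorem L210903 : sm gb N19614 = N19357 := ded_19_1 (flp_e L208310) (flp_b L208290) L210899
theorem L210905 : sm gh N19614 = N19399 := ded_37_2 (flp_e L208727) (flp_h L208294) L210899
theorem L210907 : sm gd N19614 = N19510 := ded_30_1 (flp_e L209819) L206925 (flp_e L204799) (flp_d L208292) L210899
theorem L210909 : sm gf N19614 = N19614 := ded_35_2 (flp_e L210899) (flp_f L208286) L204786 L208286 L210899
theorem L210910 : sm gg N19355 = N19615 := rfl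
theorem L210912 : sm ga N19615 = N19489 := ded_14_1 L209616 (flp_a L208288) L210910
theorem L210914 : sm gb N19615 = N19358 := ded_21_1 (flp_g L208321) (flp_b L208290) L210910
theorem L210916 : sm gd N19615 = N19356 := ded_32_1 (flp_g L208296) (flp_d L208292) L210910
theorem L210918 : sm gh N19615 = N19400 := ded_42_2 (flp_g L208734) (flp_h L208294) L210910
theorem L210920 : sm gf N19615 = N19383 := ded_39_1 (flp_g L208561) (flp_f L205162) (flp_g L204784) L208286 L210910
theorem L210922 : sm gg N19357 = N19616 := rfl
theorem L210924 : sm ga N19616 = N19547 := ded_14_1 (flp_g L210143) (flp_a L208312) L210922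
theorem L210926 : sm gc N19616 = N19613 := ded_27_1 (flp_g L210887) (flp_c L208314) L210922
theorem L210928 : sm gd N19616 = N19512 := ded_32_1 (flp_g L209830) (flp_d L208318) L210922
theorem L210930 : sm ge N19616 = N19358 := ded_36_1 (flp_g L208321) L208310 L210922
theorem L210932 : sm gh N19616 = N19442 := ded_42_2 (flp_g L209150) (flp_h L208316) L210922
theorem L210934 : sm ge N19362 = N19617 := rfl
theorem L210936 : sm ga N19617 = N19379 := ded_12_1 (flp_e L208533) (flp_a L208371) L210934
theorem L210938 : sm gc N19617 = N19438 := ded_25_1 (flp_e L209106) (flp_c L208373) L210934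
theorem L210940 : sm gi N19617 = N19364 := ded_38_2 (flp_e L208391) (flp_i L208377) L210934
theorem L210942 : sm gf N19617 = N19617 := ded_35_2 (flp_e L210934) (flp_f L208369) L204957 L208369 L210934
theorem L210943 : sm gg N19362 = N19618 := rfl
theorem L210945 : sm ga N19618 = N19380 := ded_14_1 (flp_g L208538) (flp_a L208371) L210943
theorem L210947 : sm gc N19618 = N19439 := ded_27_1 (flp_g L209113) (flp_c L208373) L210943
theorem L210949 : sm gd N19618 = N19363 := ded_32_1 (flp_g L208379) (flp_d L208375) L210943
theorem L210951 : sm gi N19618 = N19365 := ded_43_2 (flp_g L208396) (flp_i L208377) L210943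
theorem L210953 : sm gf N19618 = N19546 := ded_39_1 (flp_g L210137) (flp_f L207331) (flp_g L204951) L208369 L210943
theorem L210955 : sm gg N19364 = N19619 := rfl
theorem L210957 : sm ga N19619 = N19384 := ded_14_1 (flp_g L208569) (flp_a L208393) L210955
theorem L210959 : sm ge N19619 = N19365 := ded_36_1 (flp_g L208396) L208391 L210955
theorem L210961 : sm ge N19366 = N19620 := rfl
theorem L210963 : sm gb N19620 = N19576 := ded_19_1 (flp_e L210489) (flp_b L208406) L210961
theorem L210965 : sm gc N19620 = N19372 := ded_25_1 (flp_e L208474) (flp_c L208408) L210961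
theorem L210967 : sm gi N19620 = N19578 := ded_38_2 (flp_e L210514) (flp_i L208412) L210961
theorem L210969 : sm gd N19620 = N19617 := ded_30_1 (flp_e L210934) L208375 (flp_e L205019) (flp_d L208410) L210961
theorem L210971 : sm gf N19620 = N19620 := ded_35_2 (flp_e L210961) (flp_f L208404) L205008 L208404 L210961
theorem L210972 : sm gg N19366 = N19621 := rfl
theorem L210974 : sm gb N19621 = N19577 := ded_21_1 (flp_g L210500) (flp_b L208406) L210972
theorem L210976 : sm gc N19621 = N19373 := ded_27_1 (flp_g L208479) (flp_c L208408) L210972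
theorem L210978 : sm gd N19621 = N19367 := ded_32_1 (flp_g L208414) (flp_d L208410) L210972
theorem L210980 : sm gi N19621 = N19579 := ded_43_2 (flp_g L210525) (flp_i L208412) L210972
theorem L210982 : sm gf N19621 = N19585 := ded_39_1 (flp_g L210591) (flp_f L207896) (flp_g L205002) L208404 L210972
theorem L210984 : sm ge N19368 = N19622 := rfl
theorem L210986 : sm ga N19622 = N19472 := ded_12_1 (flp_e L209470) (flp_a L208430) L210984
theorem L210988 : sm gb N19622 = N19522 := ded_19_1 L209909 (flp_b L208432) L210984
theorem L210990 : sm gc N19622 = N19584 := ded_25_1 (flp_e L210580) (flp_c L208434) L210984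
theorem L210992 : sm gh N19622 = N19519 := ded_37_2 (flp_e L209888) (flp_h L208438) L210984
theorem L210994 : sm gd N19622 = N19468 := ded_30_1 (flp_e L209433) L206422 (flp_e L205056) (flp_d L208436) L210984
theorem L210996 : sm gf N19622 = N19622 := ded_35_2 (flp_e L210984) (flp_f L208428) L205043 L208428 L210984
theorem L210997 : sm gg N19368 = N19623 := rfl
theorem L210999 : sm ga N19623 = N19473 := ded_14_1 (flp_g L209475) (flp_a L208430) L210997
theorem L211001 : sm gb N19623 = N19523 := ded_21_1 L209916 (flp_b L208432) L210997
theorem L211003 : sm gc N19623 = N19585 := ded_27_1 (flp_g L210591) (flp_c L208434) L210997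
theorem L211005 : sm gd N19623 = N19369 := ded_32_1 (flp_g L208440) (flp_d L208436) L210997
theorem L211007 : sm gh N19623 = N19520 := ded_42_2 (flp_g L209893) (flp_h L208438) L210997
theorem L211009 : sm gf N19623 = N19373 := ded_39_1 (flp_g L208479) (flp_f L205101) (flp_g L205039) L208428 L210997
theorem L211011 : sm ge N19370 = N19624 := rfl
theorem L211013 : sm ga N19624 = N19620 := ded_12_1 (flp_e L210961) (flp_a L208456) L211011
theorem L211015 : sm gc N19624 = N19578 := ded_25_1 (flp_e L210514) (flp_c L208458) L211011
theorem L211017 : sm gi N19624 = N19372 := ded_38_2 (flp_e L208474) (flp_i L208462) L211011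
theorem L211019 : sm gd N19624 = N19379 := ded_30_1 (flp_e L208533) L205143 (flp_e L205087) (flp_d L208460) L211011
theorem L211021 : sm gf N19624 = N19624 := ded_35_2 (flp_e L211011) (flp_f L208454) L205078 L208454 L211011
theorem L211022 : sm gg N19370 = N19625 := rfl
theorem L211024 : sm ga N19625 = N19621 := ded_14_1 (flp_g L210972) (flp_a L208456) L211022
theorem L211026 : sm gc N19625 = N19579 := ded_27_1 (flp_g L210525) (flp_c L208458) L211022
theorem L211028 : sm gd N19625 = N19371 := ded_32_1 (flp_g L208464) (flp_d L208460) L211022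
theorem L211030 : sm gi N19625 = N19373 := ded_43_2 (flp_g L208479) (flp_i L208462) L211022
theorem L211032 : sm gg N19372 = N19626 := rfl
theorem L211034 : sm gd N19626 = N19384 := ded_32_1 (flp_g L208569) (flp_d L208476) L211032
theorem L211036 : sm ge N19626 = N19373 := ded_36_1 (flp_g L208479) L208474 L211032
theorem L211038 : sm gh N19372 = N19627 := rfl
theorem L211040 : sm ga N19627 = N19510 := ded_15_1 (flp_h L210520) L210516 L211038
theorem L211042 : sm gb N19627 = N19426 := ded_22_1 (flp_h L210855) L210851 L211038
theorem L211044 : sm ge N19627 = N19374 := ded_37_1 (flp_h L208483) L208474 L211038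
theorem L211046 : sm gf N19627 = N19627 := ded_40_1 (flp_h L211038) L208478 L211038
theorem L211047 : sm gd N19627 = N19488 := ded_33_1 (flp_h L209609) (flp_d L208271) L208267 (flp_d L208476) L211038
theorem L211049 : sm gh N19373 = N19628 := rfl
theorem L211051 : sm ga N19628 = N19511 := ded_15_1 (flp_h L210533) L210527 L211049
theorem L211053 : sm gb N19628 = N19427 := ded_22_1 (flp_h L210870) L210864 L211049
theorem L211055 : sm gf N19628 = N19520 := ded_40_1 (flp_h L211007) L211009 L211049
theorem L211057 : sm gg N19628 = N19374 := ded_42_1 (flp_h L208483) L208479 L211049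
theorem L211059 : sm gd N19628 = N19385 := ded_33_1 (flp_h L208573) L205209 (flp_h L205122) (flp_d L208481) L211049
theorem L211061 : sm gi N19374 = N19629 := rfl
theorem L211063 : sm ga N19629 = N19505 := ded_16_1 L209784 (flp_a L208485) L211061
theorem L211065 : sm gb N19629 = N19423 := ded_23_1 L208962 (flp_b L208487) L211061
theorem L211067 : sm gd N19629 = N19386 := ded_34_1 (flp_i L208587) (flp_d L208491) L211061
theorem L211069 : sm gf N19629 = N19375 := ded_41_1 (flp_i L208493) (flp_f L208489) L211061
theorem L211071 : sm gf N19376 = N19630 := rfl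
theorem L211073 : sm gb N19630 = N19401 := ded_20_1 (flp_f L208744) (flp_b L208511) L211071
theorem L211075 : sm gc N19630 = N19377 := ded_26_1 (flp_f L208515) L208504 L211071
theorem L211077 : sm gd N19630 = N19392 := ded_31_1 (flp_f L208659) (flp_d L208513) L211071
theorem L211079 : sm gi N19630 = N19381 := ded_41_2 (flp_f L208544) (flp_i L208509) L211071
theorem L211081 : sm ge N19377 = N19631 := rfl
theorem L211083 : sm gb N19631 = N19379 := ded_19_1 (flp_e L208533) (flp_b L208517) L211081
theorem L211085 : sm gi N19631 = N19382 := ded_38_2 (flp_e L208554) (flp_i L208521) L211081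
theorem L211087 : sm gf N19631 = N19631 := ded_35_2 (flp_e L211081) (flp_f L208515) L205130 L208515 L211081
theorem L211088 : sm gg N19377 = N19632 := rfl
theorem L211090 : sm gb N19632 = N19380 := ded_21_1 (flp_g L208538) (flp_b L208517) L211088
theorem L211092 : sm gd N19632 = N19378 := ded_32_1 (flp_g L208523) (flp_d L208519) L211088
theorem L211094 : sm gi N19632 = N19383 := ded_43_2 (flp_g L208561) (flp_i L208521) L211088
theorem L211096 : sm gg N19379 = N19633 := rfl
theorem L211098 : sm ge N19633 = N19380 := ded_36_1 (flp_g L208538) L208533 L211096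
theorem L211100 : sm gi N19633 = N19384 := ded_43_2 (flp_g L208569) (flp_i L208535) L211096
theorem L211102 : sm ge N19381 = N19634 := rfl
theorem L211104 : sm gb N19634 = N19530 := ded_19_1 (flp_e L209986) (flp_b L208546) L211102
theorem L211106 : sm gc N19634 = N19382 := ded_25_1 (flp_e L208554) (flp_c L208548) L211102
theorem L211108 : sm gh N19634 = N19410 := ded_37_2 (flp_e L208837) (flp_h L208552) L211102
theorem L211110 : sm gd N19634 = N19539 := ded_30_1 (flp_e L210068) L207230 (flp_e L205381) (flp_d L208550) L211102
theorem L211112 : sm gf N19634 = N19634 := ded_35_2 (flp_e L211102) (flp_f L208544) L205155 L208544 L211102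
theorem L211113 : sm gg N19381 = N19635 := rfl
theorem L211115 : sm gb N19635 = N19531 := ded_21_1 (flp_g L209995) (flp_b L208546) L211113
theorem L211117 : sm gc N19635 = N19383 := ded_27_1 (flp_g L208561) (flp_c L208548) L211113
theorem L211119 : sm gd N19635 = N19398 := ded_32_1 (flp_g L208717) (flp_d L208550) L211113
theorem L211121 : sm gh N19635 = N19411 := ded_42_2 (flp_g L208842) (flp_h L208552) L211113
theorem L211123 : sm gg N19382 = N19636 := rfl
theorem L211125 : sm gb N19636 = N19384 := ded_21_1 (flp_g L208569) (flp_b L208556) L211123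
theorem L211127 : sm ge N19636 = N19383 := ded_36_1 (flp_g L208561) L208554 L211123
theorem L211129 : sm gh N19636 = N19412 := ded_42_2 (flp_g L208848) (flp_h L208558) L211123
theorem L211131 : sm gf N19384 = N19637 := rfl
theorem L211133 : sm gg N19637 = N19637 := ded_39_2 (flp_f L211131) (flp_g L208569) L205180 L208569 L211131
theorem L211134 : sm gi N19385 = N19638 := rfl
theorem L211136 : sm ga N19638 = N19506 := ded_16_1 L209792 (flp_a L208575) L211134
theorem L211138 : sm gb N19638 = N19425 := ded_23_1 L208985 (flp_b L208577) L211134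
theorem L211140 : sm gc N19638 = N19478 := ded_29_1 L209520 (flp_c L208579) L211134
theorem L211142 : sm ge N19638 = N19503 := ded_38_1 (flp_i L209757) (flp_e L208581) L211134
theorem L211144 : sm gf N19638 = N19515 := ded_41_1 L209865 (flp_f L208583) L211134
theorem L211146 : sm gg N19638 = N19386 := ded_43_1 (flp_i L208587) (flp_g L208585) L211134
theorem L211148 : sm gh N19638 = N19527 := ded_44_1 (flp_i L209952) (flp_h L207034) (flp_i L205213) L208573 L211134
theorem L211150 : sm gf N19388 = N19639 := rfl
theorem L211152 : sm ga N19639 = N19392 := ded_13_1 (flp_f L208659) (flp_a L208615) L211150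
theorem L211154 : sm gb N19639 = N19407 := ded_20_1 (flp_f L208809) (flp_b L208623) L211150
theorem L211156 : sm gc N19639 = N19389 := ded_26_1 (flp_f L208627) L208613 L211150
theorem L211158 : sm gh N19639 = N19499 := ded_40_2 (flp_f L209715) L208625 L211150
theorem L211160 : sm gi N19639 = N19396 := ded_41_2 (flp_f L208699) (flp_i L208621) L211150
theorem L211162 : sm ge N19639 = N19532 := ded_35_1 (flp_f L210005) (flp_e L207160) (flp_f L205395) (flp_e L208617) L211150
theorem L211164 : sm gg N19389 = N19640 := rfl
theorem L211166 : sm ga N19640 = N19393 := ded_14_1 (flp_g L208669) (flp_a L208629) L211164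
theorem L211168 : sm gb N19640 = N19454 := ded_21_1 (flp_g L209276) (flp_b L208631) L211164
theorem L211170 : sm gd N19640 = N19391 := ded_32_1 (flp_g L208651) (flp_d L208633) L211164
theorem L211172 : sm gi N19640 = N19397 := ded_43_2 (flp_g L208709) (flp_i L208635) L211164
theorem L211174 : sm gf N19640 = N19502 := ded_39_1 (flp_g L209749) (flp_f L206853) (flp_g L205279) L208627 L211164
theorem L211176 : sm gh N19389 = N19641 := rfl
theorem L211178 : sm ga N19641 = N19394 := ded_15_1 (flp_h L208679) (flp_a L208629) L211176
theorem L211180 : sm gb N19641 = N19449 := ded_22_1 L209241 (flp_b L208631) L211176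
theorem L211182 : sm gc N19641 = N19499 := ded_28_1 (flp_h L211158) L211156 L211176
theorem L211184 : sm gf N19641 = N19390 := ded_40_1 (flp_h L208637) L208627 L211176
theorem L211186 : sm gi N19641 = N19553 := ded_44_2 (flp_h L210183) L207415 (flp_h L205363) (flp_i L208635) L211176
theorem L211188 : sm gg N19392 = N19642 := rfl
theorem L211190 : sm gb N19642 = N19402 := ded_21_1 (flp_g L208754) (flp_b L208661) L211188
theorem L211192 : sm gc N19642 = N19393 := ded_27_1 (flp_g L208669) (flp_c L208663) L211188
theorem L211194 : sm ge N19642 = N19534 := ded_36_1 (flp_g L210025) (flp_e L208667) L211188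
theorem L211196 : sm gi N19642 = N19398 := ded_43_2 (flp_g L208717) (flp_i L208665) L211188
theorem L211198 : sm gf N19642 = N19483 := ded_39_1 (flp_g L209570) (flp_f L206697) (flp_g L205297) L208659 L211188
theorem L211200 : sm gh N19393 = N19643 := rfl
theorem L211202 : sm gb N19643 = N19395 := ded_22_1 (flp_h L208687) (flp_b L208671) L211200
theorem L211204 : sm gf N19643 = N19495 := ded_40_1 L209680 (flp_f L208677) L211200
theorem L211206 : sm gg N19643 = N19394 := ded_42_1 (flp_h L208679) L208669 L211200
theorem L211208 : sm gi N19643 = N19554 := ded_44_2 (flp_h L210193) L207447 (flp_h L205389) (flp_i L208675) L211200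
theorem L211210 : sm gg N19396 = N19644 := rfl
theorem L211212 : sm ga N19644 = N19398 := ded_14_1 (flp_g L208717) (flp_a L208701) L211210
theorem L211214 : sm gc N19644 = N19397 := ded_27_1 (flp_g L208709) (flp_c L208703) L211210
theorem L211216 : sm ge N19644 = N19538 := ded_36_1 (flp_g L210060) (flp_e L208707) L211210
theorem L211218 : sm gh N19644 = N19542 := ded_42_2 (flp_g L210089) (flp_h L208705) L211210
theorem L211220 : sm gg N19399 = N19645 := rfl
theorem L211222 : sm ga N19645 = N19487 := ded_14_1 (flp_g L209603) (flp_a L208729) L211220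
theorem L211224 : sm gb N19645 = N19442 := ded_21_1 (flp_g L209150) (flp_b L208731) L211220
theorem L211226 : sm ge N19645 = N19400 := ded_36_1 (flp_g L208734) L208727 L211220
theorem L211228 : sm ge N19401 = N19646 := rfl
theorem L211230 : sm ga N19646 = N19410 := ded_12_1 (flp_e L208837) (flp_a L208746) L211228
theorem L211232 : sm gc N19646 = N19403 := ded_25_1 (flp_e L208766) (flp_c L208748) L211228
theorem L211234 : sm gi N19646 = N19530 := ded_38_2 (flp_e L209986) (flp_i L208752) L211228
theorem L211236 : sm gd N19646 = N19535 := ded_30_1 (flp_e L210035) L207193 (flp_e L205458) (flp_d L208750) L211228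
theorem L211238 : sm gf N19646 = N19646 := ded_35_2 (flp_e L211228) (flp_f L208744) L205449 L208744 L211228
theorem L211239 : sm gg N19401 = N19647 := rfl
theorem L211241 : sm ga N19647 = N19411 := ded_14_1 (flp_g L208842) (flp_a L208746) L211239
theorem L211243 : sm gc N19647 = N19404 := ded_27_1 (flp_g L208773) (flp_c L208748) L211239
theorem L211245 : sm gd N19647 = N19402 := ded_32_1 (flp_g L208754) (flp_d L208750) L211239
theorem L211247 : sm gi N19647 = N19531 := ded_43_2 (flp_g L209995) (flp_i L208752) L211239
theorem L211249 : sm gf N19647 = N19485 := ded_39_1 (flp_g L209585) (flp_f L206705) (flp_g L205443) L208744 L211239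
theorem L211251 : sm gg N19403 = N19648 := rfl
theorem L211253 : sm ga N19648 = N19412 := ded_14_1 (flp_g L208848) (flp_a L208768) L211251
theorem L211255 : sm ge N19648 = N19404 := ded_36_1 (flp_g L208773) L208766 L211251
theorem L211257 : sm gi N19648 = N19645 := ded_43_2 (flp_g L211220) (flp_i L208770) L211251
theorem L211259 : sm ge N19405 = N19649 := rfl
theorem L211261 : sm ga N19649 = N19535 := ded_12_1 (flp_e L210035) (flp_a L208785) L211259
theorem L211263 : sm gc N19649 = N19507 := ded_25_1 (flp_e L209794) (flp_c L208787) L211259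
theorem L211265 : sm gh N19649 = N19474 := ded_37_2 (flp_e L209479) (flp_h L208791) L211259
theorem L211267 : sm gi N19649 = N19496 := ded_38_2 (flp_e L209682) (flp_i L208793) L211259
theorem L211269 : sm gd N19649 = N19410 := ded_30_1 (flp_e L208837) L205564 (flp_e L205517) (flp_d L208789) L211259
theorem L211271 : sm gf N19649 = N19649 := ded_35_2 (flp_e L211259) (flp_f L208783) L205504 L208783 L211259
theorem L211272 : sm gg N19405 = N19650 := rfl
theorem L211274 : sm ga N19650 = N19536 := ded_14_1 (flp_g L210042) (flp_a L208785) L211272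
theorem L211276 : sm gc N19650 = N19508 := ded_27_1 (flp_g L209801) (flp_c L208787) L211272
theorem L211278 : sm gd N19650 = N19406 := ded_32_1 (flp_g L208795) (flp_d L208789) L211272
theorem L211280 : sm gh N19650 = N19475 := ded_42_2 (flp_g L209484) (flp_h L208791) L211272
theorem L211282 : sm gi N19650 = N19497 := ded_43_2 (flp_g L209691) (flp_i L208793) L211272
theorem L211284 : sm gf N19650 = N19550 := ded_39_1 L210164 L207369 (flp_g L205498) L208783 L211272
theorem L211286 : sm gg N19407 = N19651 := rfl
theorem L211288 : sm ga N19651 = N19409 := ded_14_1 (flp_g L208827) (flp_a L208811) L211286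
theorem L211290 : sm gc N19651 = N19417 := ded_27_1 (flp_g L208892) (flp_c L208813) L211286
theorem L211292 : sm gh N19651 = N19501 := ded_42_2 (flp_g L209739) (flp_h L208815) L211286
theorem L211294 : sm gf N19651 = N19644 := ded_39_1 (flp_g L211210) (flp_f L208699) (flp_g L205537) L208809 L211286
theorem L211296 : sm ge N19408 = N19652 := rfl
theorem L211298 : sm gb N19652 = N19410 := ded_19_1 (flp_e L208837) (flp_b L208819) L211296
theorem L211300 : sm gc N19652 = N19614 := ded_25_1 (flp_e L210899) (flp_c L208821) L211296
theorem L211302 : sm gh N19652 = N19530 := ded_37_2 (flp_e L209986) (flp_h L208825) L211296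
theorem L211304 : sm gf N19652 = N19652 := ded_35_2 (flp_e L211296) (flp_f L208817) L205549 L208817 L211296
theorem L211305 : sm gg N19408 = N19653 := rfl
theorem L211307 : sm gb N19653 = N19411 := ded_21_1 (flp_g L208842) (flp_b L208819) L211305
theorem L211309 : sm gc N19653 = N19615 := ded_27_1 (flp_g L210910) (flp_c L208821) L211305
theorem L211311 : sm gd N19653 = N19409 := ded_32_1 (flp_g L208827) (flp_d L208823) L211305
theorem L211313 : sm gh N19653 = N19531 := ded_42_2 (flp_g L209995) (flp_h L208825) L211305
theorem L211315 : sm gf N19653 = N19635 := ded_39_1 (flp_g L211113) (flp_f L208544) (flp_g L205545) L208817 L211305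
theorem L211317 : sm gg N19410 = N19654 := rfl
theorem L211319 : sm gc N19654 = N19412 := ded_27_1 (flp_g L208848) (flp_c L208839) L211317
theorem L211321 : sm ge N19654 = N19411 := ded_36_1 (flp_g L208842) L208837 L211317
theorem L211323 : sm gf N19412 = N19655 := rfl
theorem L211325 : sm gg N19655 = N19655 := ded_39_2 (flp_f L211323) (flp_g L208848) L205572 L208848 L211323
theorem L211326 : sm gg N19413 = N19656 := rfl
theorem L211328 : sm ga N19656 = N19415 := ded_14_1 (flp_g L208876) (flp_a L208854) L211326
theorem L211330 : sm gb N19656 = N19458 := ded_21_1 (flp_g L209322) (flp_b L208856) L211326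
theorem L211332 : sm gd N19656 = N19457 := ded_32_1 (flp_g L209312) (flp_d L208858) L211326
theorem L211334 : sm ge N19656 = N19417 := ded_36_1 (flp_g L208892) (flp_e L208862) L211326
theorem L211336 : sm gh N19656 = N19416 := ded_42_2 (flp_g L208884) (flp_h L208860) L211326
theorem L211338 : sm gg N19414 = N19657 := rfl
theorem L211340 : sm ga N19657 = N19457 := ded_14_1 (flp_g L209312) (flp_a L208866) L211338
theorem L211342 : sm gb N19657 = N19416 := ded_21_1 (flp_g L208884) (flp_b L208868) L211338
theorem L211344 : sm gd N19657 = N19415 := ded_32_1 (flp_g L208876) (flp_d L208870) L211338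
theorem L211346 : sm ge N19657 = N19461 := ded_36_1 (flp_g L209348) (flp_e L208874) L211338
theorem L211348 : sm gh N19657 = N19458 := ded_42_2 (flp_g L209322) (flp_h L208872) L211338
theorem L211350 : sm gf N19657 = N19656 := ded_39_1 (flp_g L211326) (flp_f L208852) (flp_g L205609) L208864 L211338
theorem L211352 : sm gg N19418 = N19658 := rfl
theorem L211354 : sm ga N19658 = N19442 := ded_14_1 (flp_g L209150) (flp_a L208906) L211352
theorem L211356 : sm gc N19658 = N19619 := ded_27_1 (flp_g L210955) (flp_c L208908) L211352
theorem L211358 : sm ge N19658 = N19419 := ded_36_1 (flp_g L208913) L208904 L211352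
theorem L211360 : sm gh N19658 = N19547 := ded_42_2 (flp_g L210143) (flp_h L208910) L211352
theorem L211362 : sm gg N19420 = N19659 := rfl
theorem L211364 : sm ga N19659 = N19521 := ded_14_1 (flp_g L209899) (flp_a L208925) L211362
theorem L211366 : sm gb N19659 = N19476 := ded_21_1 (flp_g L209492) (flp_b L208927) L211362
theorem L211368 : sm ge N19659 = N19421 := ded_36_1 (flp_g L208930) L208923 L211362
theorem L211370 : sm ge N19423 = N19660 := rfl
theorem L211372 : sm ga N19660 = N19434 := ded_12_1 (flp_e L209077) (flp_a L208956) L211370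
theorem L211374 : sm gc N19660 = N19581 := ded_25_1 (flp_e L210545) (flp_c L208958) L211370
theorem L211376 : sm gi N19660 = N19426 := ded_38_2 (flp_e L208989) (flp_i L208962) L211370
theorem L211378 : sm gd N19660 = N19591 := ded_30_1 (flp_e L210654) L208030 (flp_e L205772) (flp_d L208960) L211370
theorem L211380 : sm gf N19660 = N19660 := ded_35_2 (flp_e L211370) (flp_f L208954) L205761 L208954 L211370
theorem L211381 : sm gg N19423 = N19661 := rfl
theorem L211383 : sm ga N19661 = N19435 := ded_14_1 (flp_g L209084) (flp_a L208956) L211381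
theorem L211385 : sm gc N19661 = N19582 := ded_27_1 (flp_g L210556) (flp_c L208958) L211381
theorem L211387 : sm gd N19661 = N19425 := ded_32_1 (flp_g L208975) (flp_d L208960) L211381
theorem L211389 : sm gi N19661 = N19427 := ded_43_2 (flp_g L208996) (flp_i L208962) L211381
theorem L211391 : sm gf N19661 = N19517 := ded_39_1 (flp_g L209874) (flp_f L206959) (flp_g L205755) L208954 L211381
theorem L211393 : sm gh N19423 = N19662 := rfl
theorem L211395 : sm ga N19662 = N19436 := ded_15_1 (flp_h L209092) (flp_a L208956) L211393
theorem L211397 : sm gc N19662 = N19583 := ded_28_1 (flp_h L210568) (flp_c L208958) L211393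
theorem L211399 : sm gf N19662 = N19424 := ded_40_1 (flp_h L208964) L208954 L211393
theorem L211401 : sm gd N19662 = N19553 := ded_33_1 (flp_h L210183) L207413 (flp_h L205768) (flp_d L208960) L211393
theorem L211403 : sm gg N19426 = N19663 := rfl
theorem L211405 : sm ga N19663 = N19437 := ded_14_1 (flp_g L209100) (flp_a L208991) L211403
theorem L211407 : sm gc N19663 = N19659 := ded_27_1 (flp_g L211362) (flp_c L208993) L211403
theorem L211409 : sm ge N19663 = N19427 := ded_36_1 (flp_g L208996) L208989 L211403
theorem L211411 : sm ge N19428 = N19664 := rfl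
theorem L211413 : sm ga N19664 = N19595 := ded_12_1 (flp_e L210701) (flp_a L209008) L211411
theorem L211415 : sm gb N19664 = N19617 := ded_19_1 (flp_e L210934) (flp_b L209010) L211411
theorem L211417 : sm gc N19664 = N19432 := ded_25_1 (flp_e L209064) (flp_c L209012) L211411
theorem L211419 : sm gh N19664 = N19545 := ded_37_2 (flp_e L210130) (flp_h L209016) L211411
theorem L211421 : sm gi N19664 = N19574 := ded_38_2 (flp_e L210466) (flp_i L209018) L211411
theorem L211423 : sm gd N19664 = N19576 := ded_30_1 (flp_e L210489) L207786 (flp_e L205831) (flp_d L209014) L211411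
theorem L211425 : sm gf N19664 = N19664 := ded_35_2 (flp_e L211411) (flp_f L209006) L205816 L209006 L211411
theorem L211426 : sm gg N19428 = N19665 := rfl
theorem L211428 : sm ga N19665 = N19596 := ded_14_1 (flp_g L210712) (flp_a L209008) L211426
theorem L211430 : sm gb N19665 = N19618 := ded_21_1 (flp_g L210943) (flp_b L209010) L211426
theorem L211432 : sm gc N19665 = N19433 := ded_27_1 (flp_g L209071) (flp_c L209012) L211426
theorem L211434 : sm gd N19665 = N19429 := ded_32_1 (flp_g L209020) (flp_d L209014) L211426
theorem L211436 : sm gh N19665 = N19546 := ded_42_2 (flp_g L210137) (flp_h L209016) L211426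
theorem L211438 : sm gi N19665 = N19575 := ded_43_2 (flp_g L210477) (flp_i L209018) L211426
theorem L211440 : sm ge N19430 = N19666 := rfl
theorem L211442 : sm ga N19666 = N19591 := ded_12_1 (flp_e L210654) (flp_a L209036) L211440
theorem L211444 : sm gb N19666 = N19545 := ded_19_1 (flp_e L210130) (flp_b L209038) L211440
theorem L211446 : sm gc N19666 = N19574 := ded_25_1 (flp_e L210466) (flp_c L209040) L211440
theorem L211448 : sm gh N19666 = N19617 := ded_37_2 (flp_e L210934) (flp_h L209044) L211440
theorem L211450 : sm gi N19666 = N19432 := ded_38_2 (flp_e L209064) (flp_i L209046) L211440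
theorem L211452 : sm gd N19666 = N19434 := ded_30_1 (flp_e L209077) L205912 (flp_e L205874) (flp_d L209042) L211440
theorem L211454 : sm gf N19666 = N19666 := ded_35_2 (flp_e L211440) (flp_f L209034) L205859 L209034 L211440
theorem L211455 : sm gg N19430 = N19667 := rfl
theorem L211457 : sm ga N19667 = N19592 := ded_14_1 (flp_g L210663) (flp_a L209036) L211455
theorem L211459 : sm gb N19667 = N19546 := ded_21_1 (flp_g L210137) (flp_b L209038) L211455
theorem L211461 : sm gc N19667 = N19575 := ded_27_1 (flp_g L210477) (flp_c L209040) L211455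
theorem L211463 : sm gd N19667 = N19431 := ded_32_1 (flp_g L209048) (flp_d L209042) L211455
theorem L211465 : sm gh N19667 = N19618 := ded_42_2 (flp_g L210943) (flp_h L209044) L211455
theorem L211467 : sm gi N19667 = N19433 := ded_43_2 (flp_g L209071) (flp_i L209046) L211455
theorem L211469 : sm gf N19667 = N19665 := ded_39_1 (flp_g L211426) (flp_f L209006) (flp_g L205853) L209034 L211455
theorem L211471 : sm gg N19432 = N19668 := rfl
theorem L211473 : sm gb N19668 = N19547 := ded_21_1 (flp_g L210143) (flp_b L209066) L211471
theorem L211475 : sm gd N19668 = N19437 := ded_32_1 (flp_g L209100) (flp_d L209068) L211471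
theorem L211477 : sm ge N19668 = N19433 := ded_36_1 (flp_g L209071) L209064 L211471
theorem L211479 : sm gg N19434 = N19669 := rfl
theorem L211481 : sm gb N19669 = N19548 := ded_21_1 (flp_g L210149) (flp_b L209079) L211479
theorem L211483 : sm ge N19669 = N19435 := ded_36_1 (flp_g L209084) L209077 L211479
theorem L211485 : sm gi N19669 = N19437 := ded_43_2 (flp_g L209100) (flp_i L209081) L211479
theorem L211487 : sm gh N19434 = N19670 := rfl
theorem L211489 : sm gb N19670 = N19549 := ded_22_1 (flp_h L210155) (flp_b L209079) L211487
theorem L211491 : sm ge N19670 = N19436 := ded_37_1 (flp_h L209092) L209077 L211487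
theorem L211493 : sm gf N19670 = N19670 := ded_40_1 (flp_h L211487) L209083 L211487
theorem L211494 : sm gh N19435 = N19671 := rfl
theorem L211496 : sm gb N19671 = N19550 := ded_22_1 (flp_h L210162) (flp_b L209086) L211494
theorem L211498 : sm gg N19671 = N19436 := ded_42_1 (flp_h L209092) L209084 L211494
theorem L211500 : sm gd N19671 = N19554 := ded_33_1 (flp_h L210193) L207443 (flp_h L205929) (flp_d L209088) L211494
theorem L211502 : sm gf N19437 = N19672 := rfl
theorem L211504 : sm gb N19672 = N19551 := ded_20_1 (flp_f L210168) (flp_b L209102) L211502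
theorem L211506 : sm gg N19672 = N19672 := ded_39_2 (flp_f L211502) (flp_g L209100) L205937 L209100 L211502
theorem L211507 : sm gg N19438 = N19673 := rfl
theorem L211509 : sm gd N19673 = N19442 := ded_32_1 (flp_g L209150) (flp_d L209110) L211507
theorem L211511 : sm ge N19673 = N19439 := ded_36_1 (flp_g L209113) L209106 L211507
theorem L211513 : sm gi N19673 = N19658 := ded_43_2 (flp_g L211352) (flp_i L209108) L211507
theorem L211515 : sm gg N19440 = N19674 := rfl
theorem L211517 : sm ga N19674 = N19673 := ded_14_1 (flp_g L211507) (flp_a L209121) L211515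
theorem L211519 : sm gb N19674 = N19648 := ded_21_1 (flp_g L211251) (flp_b L209123) L211515
theorem L211521 : sm gc N19674 = N19633 := ded_27_1 (flp_g L211096) (flp_c L209125) L211515
theorem L211523 : sm gd N19674 = N19658 := ded_32_1 (flp_g L211352) (flp_d L209131) L211515
theorem L211525 : sm ge N19674 = N19441 := ded_36_1 (flp_g L209134) L209119 L211515
theorem L211527 : sm gh N19674 = N19600 := ded_42_2 (flp_g L210757) (flp_h L209127) L211515
theorem L211529 : sm gi N19674 = N19442 := ded_43_2 (flp_g L209150) (flp_i L209129) L211515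
theorem L211531 : sm gf N19442 = N19675 := rfl
theorem L211533 : sm gc N19675 = N19637 := ded_26_1 (flp_f L211131) (flp_c L209152) L211531
theorem L211535 : sm gg N19675 = N19675 := ded_39_2 (flp_f L211531) (flp_g L209150) L206012 L209150 L211531
theorem L211536 : sm gf N19444 = N19676 := rfl
theorem L211538 : sm ga N19676 = N19446 := ded_13_1 (flp_f L209197) (flp_a L209172) L211536
theorem L211540 : sm gb N19676 = N19553 := ded_20_1 L210191 (flp_b L209174) L211536
theorem L211542 : sm gc N19676 = N19459 := ded_26_1 (flp_f L209332) (flp_c L209176) L211536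
theorem L211544 : sm gh N19676 = N19528 := ded_40_2 L209972 (flp_h L209180) L211536
theorem L211546 : sm gi N19676 = N19449 := ded_41_2 (flp_f L209235) (flp_i L209182) L211536
theorem L211548 : sm ge N19676 = N19641 := ded_35_1 L211184 L208645 (flp_f L206070) L209170 L211536
theorem L211550 : sm gf N19445 = N19677 := rfl
theorem L211552 : sm gb N19677 = N19447 := ded_20_1 (flp_f L209209) (flp_b L209186) L211550
theorem L211554 : sm gc N19677 = N19629 := ded_26_1 L211069 (flp_c L209192) L211550
theorem L211556 : sm gd N19677 = N19446 := ded_31_1 (flp_f L209197) L209184 L211550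
theorem L211558 : sm gh N19677 = N19505 := ded_40_2 (flp_f L209778) (flp_h L209195) L211550
theorem L211560 : sm gi N19677 = N19450 := ded_41_2 (flp_f L209243) (flp_i L209190) L211550
theorem L211562 : sm gg N19446 = N19678 := rfl
theorem L211564 : sm gb N19678 = N19448 := ded_21_1 (flp_g L209221) (flp_b L209199) L211562
theorem L211566 : sm gc N19678 = N19460 := ded_27_1 (flp_g L209342) (flp_c L209201) L211562
theorem L211568 : sm ge N19678 = N19643 := ded_36_1 L211206 (flp_e L209207) L211562
theorem L211570 : sm gh N19678 = N19529 := ded_42_2 (flp_g L209974) (flp_h L209203) L211562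
theorem L211572 : sm gi N19678 = N19451 := ded_43_2 (flp_g L209253) (flp_i L209205) L211562
theorem L211574 : sm gf N19678 = N19534 := ded_39_1 (flp_g L210025) (flp_f L207179) (flp_g L206086) L209197 L211562
theorem L211576 : sm ge N19447 = N19679 := rfl
theorem L211578 : sm ga N19679 = N19549 := ded_12_1 L210157 (flp_a L209211) L211576
theorem L211580 : sm gc N19679 = N19474 := ded_25_1 (flp_e L209479) (flp_c L209213) L211576
theorem L211582 : sm gh N19679 = N19507 := ded_37_2 (flp_e L209794) (flp_h L209217) L211576
theorem L211584 : sm gi N19679 = N19452 := ded_38_2 (flp_e L209263) (flp_i L209219) L211576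
theorem L211586 : sm gd N19679 = N19607 := ded_30_1 L210828 L208212 (flp_e L206115) (flp_d L209215) L211576
theorem L211588 : sm gf N19679 = N19679 := ded_35_2 (flp_e L211576) (flp_f L209209) L206102 L209209 L211576
theorem L211589 : sm gg N19447 = N19680 := rfl
theorem L211591 : sm ga N19680 = N19550 := ded_14_1 L210164 (flp_a L209211) L211589
theorem L211593 : sm gc N19680 = N19475 := ded_27_1 (flp_g L209484) (flp_c L209213) L211589
theorem L211595 : sm gd N19680 = N19448 := ded_32_1 (flp_g L209221) (flp_d L209215) L211589
theorem L211597 : sm gh N19680 = N19508 := ded_42_2 (flp_g L209801) (flp_h L209217) L211589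
theorem L211599 : sm gi N19680 = N19453 := ded_43_2 (flp_g L209268) (flp_i L209219) L211589
theorem L211601 : sm gf N19680 = N19536 := ded_39_1 (flp_g L210042) (flp_f L207189) (flp_g L206096) L209209 L211589
theorem L211603 : sm gg N19449 = N19681 := rfl
theorem L211605 : sm ga N19681 = N19451 := ded_14_1 (flp_g L209253) (flp_a L209237) L211603
theorem L211607 : sm gc N19681 = N19461 := ded_27_1 (flp_g L209348) (flp_c L209239) L211603
theorem L211609 : sm gh N19681 = N19454 := ded_42_2 (flp_g L209276) (flp_h L209241) L211603
theorem L211611 : sm gf N19681 = N19538 := ded_39_1 (flp_g L210060) (flp_f L207216) (flp_g L206139) L209235 L211603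
theorem L211613 : sm ge N19450 = N19682 := rfl
theorem L211615 : sm gb N19682 = N19452 := ded_19_1 (flp_e L209263) (flp_b L209245) L211613
theorem L211617 : sm gc N19682 = N19627 := ded_25_1 L211044 (flp_c L209247) L211613
theorem L211619 : sm gh N19682 = N19620 := ded_37_2 (flp_e L210961) (flp_h L209251) L211613
theorem L211621 : sm gd N19682 = N19670 := ded_30_1 L211491 L209098 L207455 (flp_d L209249) L211613
theorem L211623 : sm gf N19682 = N19682 := ded_35_2 (flp_e L211613) (flp_f L209243) L206151 L209243 L211613
theorem L211624 : sm gg N19450 = N19683 := rfl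
theorem L211626 : sm gb N19683 = N19453 := ded_21_1 (flp_g L209268) (flp_b L209245) L211624
theorem L211628 : sm gc N19683 = N19628 := ded_27_1 L211057 (flp_c L209247) L211624
theorem L211630 : sm gd N19683 = N19451 := ded_32_1 (flp_g L209253) (flp_d L209249) L211624
theorem L211632 : sm gh N19683 = N19621 := ded_42_2 (flp_g L210972) (flp_h L209251) L211624
theorem L211634 : sm gf N19683 = N19540 := ded_39_1 (flp_g L210075) (flp_f L207224) (flp_g L206147) L209243 L211624
theorem L211636 : sm gg N19452 = N19684 := rfl
theorem L211638 : sm gc N19684 = N19476 := ded_27_1 (flp_g L209492) (flp_c L209265) L211636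
theorem L211640 : sm ge N19684 = N19453 := ded_36_1 (flp_g L209268) L209263 L211636
theorem L211642 : sm gg N19455 = N19685 := rfl
theorem L211644 : sm gb N19685 = N19456 := ded_21_1 (flp_g L209298) (flp_b L209288) L211642
theorem L211646 : sm gc N19685 = N19643 := ded_27_1 L211206 (flp_c L209290) L211642
theorem L211648 : sm ge N19685 = N19460 := ded_36_1 (flp_g L209342) (flp_e L209296) L211642
theorem L211650 : sm gh N19685 = N19642 := ded_42_2 (flp_g L211188) (flp_h L209292) L211642
theorem L211652 : sm gi N19685 = N19457 := ded_43_2 (flp_g L209312) (flp_i L209294) L211642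
theorem L211654 : sm gf N19685 = N19500 := ded_39_1 (flp_g L209727) (flp_f L206819) (flp_g L206214) L209286 L211642
theorem L211656 : sm gg N19459 = N19686 := rfl
theorem L211658 : sm ga N19686 = N19460 := ded_14_1 (flp_g L209342) (flp_a L209334) L211656
theorem L211660 : sm gb N19686 = N19569 := ded_21_1 (flp_g L210387) (flp_b L209336) L211656
theorem L211662 : sm gd N19686 = N19568 := ded_32_1 (flp_g L210371) (flp_d L209338) L211656
theorem L211664 : sm gi N19686 = N19461 := ded_43_2 (flp_g L209348) (flp_i L209340) L211656
theorem L211666 : sm gf N19462 = N19687 := rfl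
theorem L211668 : sm ga N19687 = N19513 := ded_13_1 (flp_f L209836) (flp_a L209360) L211666
theorem L211670 : sm gb N19687 = N19464 := ded_20_1 (flp_f L209385) (flp_b L209362) L211666
theorem L211672 : sm gd N19687 = N19463 := ded_31_1 (flp_f L209371) L209358 L211666
theorem L211674 : sm gh N19687 = N19533 := ded_40_2 (flp_f L210015) (flp_h L209369) L211666
theorem L211676 : sm gi N19687 = N19466 := ded_41_2 (flp_f L209409) (flp_i L209366) L211666
theorem L211678 : sm gg N19463 = N19688 := rfl
theorem L211680 : sm ga N19688 = N19515 := ded_14_1 (flp_g L209859) (flp_a L209373) L211678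
theorem L211682 : sm gb N19688 = N19465 := ded_21_1 (flp_g L209397) (flp_b L209375) L211678
theorem L211684 : sm gc N19688 = N19527 := ded_27_1 L209960 (flp_c L209377) L211678
theorem L211686 : sm ge N19688 = N19525 := ded_36_1 L209936 (flp_e L209383) L211678
theorem L211688 : sm gh N19688 = N19478 := ded_42_2 (flp_g L209514) (flp_h L209379) L211678
theorem L211690 : sm gi N19688 = N19467 := ded_43_2 (flp_g L209419) (flp_i L209381) L211678
theorem L211692 : sm gf N19688 = N19506 := ded_39_1 (flp_g L209786) (flp_f L206886) (flp_g L206352) L209371 L211678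
theorem L211694 : sm ge N19464 = N19689 := rfl
theorem L211696 : sm ga N19689 = N19474 := ded_12_1 (flp_e L209479) (flp_a L209387) L211694
theorem L211698 : sm gc N19689 = N19549 := ded_25_1 L210157 (flp_c L209389) L211694
theorem L211700 : sm gh N19689 = N19535 := ded_37_2 (flp_e L210035) (flp_h L209393) L211694
theorem L211702 : sm gi N19689 = N19468 := ded_38_2 (flp_e L209433) (flp_i L209395) L211694
theorem L211704 : sm gf N19689 = N19689 := ded_35_2 (flp_e L211694) (flp_f L209385) L206368 L209385 L211694
theorem L211705 : sm gg N19464 = N19690 := rfl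
theorem L211707 : sm ga N19690 = N19475 := ded_14_1 (flp_g L209484) (flp_a L209387) L211705
theorem L211709 : sm gc N19690 = N19550 := ded_27_1 L210164 (flp_c L209389) L211705
theorem L211711 : sm gd N19690 = N19465 := ded_32_1 (flp_g L209397) (flp_d L209391) L211705
theorem L211713 : sm gh N19690 = N19536 := ded_42_2 (flp_g L210042) (flp_h L209393) L211705
theorem L211715 : sm gi N19690 = N19469 := ded_43_2 (flp_g L209438) (flp_i L209395) L211705
theorem L211717 : sm gf N19690 = N19508 := ded_39_1 (flp_g L209801) (flp_f L206894) (flp_g L206362) L209385 L211705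
theorem L211719 : sm ge N19466 = N19691 := rfl
theorem L211721 : sm ga N19691 = N19519 := ded_12_1 (flp_e L209888) (flp_a L209411) L211719
theorem L211723 : sm gb N19691 = N19468 := ded_19_1 (flp_e L209433) (flp_b L209413) L211719
theorem L211725 : sm gh N19691 = N19472 := ded_37_2 (flp_e L209470) (flp_h L209417) L211719
theorem L211727 : sm gd N19691 = N19522 := ded_30_1 L209909 L207009 (flp_e L206416) (flp_d L209415) L211719
theorem L211729 : sm gf N19691 = N19691 := ded_35_2 (flp_e L211719) (flp_f L209409) L206403 L209409 L211719
theorem L211730 : sm gg N19466 = N19692 := rfl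
theorem L211732 : sm ga N19692 = N19520 := ded_14_1 (flp_g L209893) (flp_a L209411) L211730
theorem L211734 : sm gb N19692 = N19469 := ded_21_1 (flp_g L209438) (flp_b L209413) L211730
theorem L211736 : sm gd N19692 = N19467 := ded_32_1 (flp_g L209419) (flp_d L209415) L211730
theorem L211738 : sm gh N19692 = N19473 := ded_42_2 (flp_g L209475) (flp_h L209417) L211730
theorem L211740 : sm gf N19692 = N19511 := ded_39_1 (flp_g L209824) (flp_f L206921) (flp_g L206401) L209409 L211730
theorem L211742 : sm gg N19468 = N19693 := rfl
theorem L211744 : sm ga N19693 = N19476 := ded_14_1 (flp_g L209492) (flp_a L209435) L211742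
theorem L211746 : sm ge N19693 = N19469 := ded_36_1 (flp_g L209438) L209433 L211742
theorem L211748 : sm ge N19470 = N19694 := rfl
theorem L211750 : sm ga N19694 = N19584 := ded_12_1 (flp_e L210580) (flp_a L209448) L211748
theorem L211752 : sm gc N19694 = N19472 := ded_25_1 (flp_e L209470) (flp_c L209450) L211748
theorem L211754 : sm gi N19694 = N19622 := ded_38_2 (flp_e L210984) (flp_i L209454) L211748
theorem L211756 : sm gd N19694 = N19689 := ded_30_1 (flp_e L211694) L209391 (flp_e L206471) (flp_d L209452) L211748
theorem L211758 : sm gf N19694 = N19694 := ded_35_2 (flp_e L211748) (flp_f L209446) L206460 L209446 L211748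
theorem L211759 : sm gg N19470 = N19695 := rfl
theorem L211761 : sm ga N19695 = N19585 := ded_14_1 (flp_g L210591) (flp_a L209448) L211759
theorem L211763 : sm gc N19695 = N19473 := ded_27_1 (flp_g L209475) (flp_c L209450) L211759
theorem L211765 : sm gd N19695 = N19471 := ded_32_1 (flp_g L209456) (flp_d L209452) L211759
theorem L211767 : sm gi N19695 = N19623 := ded_43_2 (flp_g L210997) (flp_i L209454) L211759
theorem L211769 : sm gf N19695 = N19625 := ded_39_1 (flp_g L211022) (flp_f L208454) (flp_g L206454) L209446 L211759
theorem L211771 : sm gg N19472 = N19696 := rfl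
theorem L211773 : sm gd N19696 = N19476 := ded_32_1 (flp_g L209492) (flp_d L209472) L211771
theorem L211775 : sm ge N19696 = N19473 := ded_36_1 (flp_g L209475) L209470 L211771
theorem L211777 : sm gg N19474 = N19697 := rfl
theorem L211779 : sm ge N19697 = N19475 := ded_36_1 (flp_g L209484) L209479 L211777
theorem L211781 : sm gi N19697 = N19476 := ded_43_2 (flp_g L209492) (flp_i L209481) L211777
theorem L211783 : sm gf N19476 = N19698 := rfl
theorem L211785 : sm ge N19698 = N19551 := ded_35_1 (flp_f L210168) L207375 (flp_f L206536) (flp_e L209494) L211783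
theorem L211787 : sm gg N19698 = N19698 := ded_39_2 (flp_f L211783) (flp_g L209492) L206531 L209492 L211783
theorem L211788 : sm gf N19479 = N19699 := rfl
theorem L211790 : sm ga N19699 = N19481 := ded_13_1 (flp_f L209547) (flp_a L209526) L211788
theorem L211792 : sm gb N19699 = N19597 := ded_20_1 (flp_f L210724) (flp_b L209528) L211788
theorem L211794 : sm gc N19699 = N19490 := ded_26_1 L209626 (flp_c L209532) L211788
theorem L211796 : sm gd N19699 = N19480 := ded_31_1 (flp_f L209537) L209524 L211788
theorem L211798 : sm gh N19699 = N19630 := ded_40_2 (flp_f L211071) (flp_h L209535) L211788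
theorem L211800 : sm gi N19699 = N19486 := ded_41_2 L209599 (flp_i L209530) L211788
theorem L211802 : sm gg N19480 = N19700 := rfl
theorem L211804 : sm ga N19700 = N19483 := ded_14_1 (flp_g L209570) (flp_a L209539) L211802
theorem L211806 : sm gb N19700 = N19644 := ded_21_1 (flp_g L211210) (flp_b L209541) L211802
theorem L211808 : sm gc N19700 = N19502 := ded_27_1 (flp_g L209749) (flp_c L209543) L211802
theorem L211810 : sm gi N19700 = N19651 := ded_43_2 (flp_g L211286) (flp_i L209545) L211802
theorem L211812 : sm ge N19481 = N19701 := rfl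
theorem L211814 : sm gb N19701 = N19484 := ded_19_1 (flp_e L209578) (flp_b L209549) L211812
theorem L211816 : sm gi N19701 = N19652 := ded_38_2 (flp_e L211296) (flp_i L209553) L211812
theorem L211818 : sm gf N19701 = N19701 := ded_35_2 (flp_e L211812) (flp_f L209547) L206696 L209547 L211812
theorem L211819 : sm gg N19481 = N19702 := rfl
theorem L211821 : sm gb N19702 = N19485 := ded_21_1 (flp_g L209585) (flp_b L209549) L211819
theorem L211823 : sm gd N19702 = N19483 := ded_32_1 (flp_g L209570) (flp_d L209551) L211819
theorem L211825 : sm gi N19702 = N19653 := ded_43_2 (flp_g L211305) (flp_i L209553) L211819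
theorem L211827 : sm gh N19481 = N19703 := rfl
theorem L211829 : sm ga N19703 = N19630 := ded_15_1 (flp_h L211798) L211790 L211827
theorem L211831 : sm gb N19703 = N19486 := ded_22_1 (flp_h L209593) (flp_b L209549) L211827
theorem L211833 : sm gc N19703 = N19593 := ded_28_1 L210681 L210240 L211827
theorem L211835 : sm gf N19703 = N19482 := ded_40_1 (flp_h L209555) L209547 L211827
theorem L211837 : sm gd N19703 = N19639 := ded_33_1 L211158 L209721 L206825 (flp_d L209551) L211827
theorem L211839 : sm gi N19703 = N19597 := ded_44_2 L210732 L208752 (flp_h L208825) (flp_i L209553) L211827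
theorem L211841 : sm gg N19484 = N19704 := rfl
theorem L211843 : sm gc N19704 = N19487 := ded_27_1 (flp_g L209603) (flp_c L209580) L211841
theorem L211845 : sm ge N19704 = N19485 := ded_36_1 (flp_g L209585) L209578 L211841
theorem L211847 : sm gi N19704 = N19654 := ded_43_2 (flp_g L211317) (flp_i L209582) L211841
theorem L211849 : sm gh N19484 = N19705 := rfl
theorem L211851 : sm ga N19705 = N19652 := ded_15_1 L211302 L209988 L211849
theorem L211853 : sm gc N19705 = N19488 := ded_28_1 (flp_h L209609) (flp_c L209580) L211849
theorem L211855 : sm ge N19705 = N19486 := ded_37_1 (flp_h L209593) L209578 L211849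
theorem L211857 : sm gf N19705 = N19705 := ded_40_1 (flp_h L211849) L209584 L211849
theorem L211858 : sm gh N19485 = N19706 := rfl
theorem L211860 : sm ga N19706 = N19653 := ded_15_1 L211313 L209997 L211858
theorem L211862 : sm gc N19706 = N19489 := ded_28_1 (flp_h L209614) (flp_c L209587) L211858
theorem L211864 : sm gg N19706 = N19486 := ded_42_1 (flp_h L209593) L209585 L211858
theorem L211866 : sm gd N19706 = N19651 := ded_33_1 L211292 L209745 L206849 (flp_d L209589) L211858
theorem L211868 : sm gf N19487 = N19707 := rfl
theorem L211870 : sm gi N19707 = N19655 := ded_41_2 (flp_f L211323) (flp_i L209607) L211868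
theorem L211872 : sm gg N19707 = N19707 := ded_39_2 (flp_f L211868) (flp_g L209603) L206732 L209603 L211868
theorem L211873 : sm gh N19487 = N19708 := rfl
theorem L211875 : sm ge N19708 = N19489 := ded_37_1 (flp_h L209614) (flp_e L209605) L211873
theorem L211877 : sm gg N19708 = N19488 := ded_42_1 (flp_h L209609) L209603 L211873
theorem L211879 : sm gi N19488 = N19709 := rfl
theorem L211881 : sm gb N19709 = N19591 := ded_23_1 L210660 L210297 L211879
theorem L211883 : sm ge N19709 = N19490 := ded_38_1 (flp_i L209620) (flp_e L209611) L211879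
theorem L211885 : sm gf N19709 = N19709 := ded_41_1 (flp_i L211879) L209613 L211879
theorem L211886 : sm gh N19709 = N19631 := ded_44_1 L211085 L208558 (flp_i L206730) L209609 L211879
theorem L211888 : sm gi N19489 = N19710 := rfl
theorem L211890 : sm gb N19710 = N19592 := ded_23_1 L210671 L210308 L211888
theorem L211892 : sm gd N19710 = N19503 := ded_34_1 (flp_i L209757) (flp_d L209618) L211888
theorem L211894 : sm gg N19710 = N19490 := ded_43_1 (flp_i L209620) (flp_g L209616) L211888
theorem L211896 : sm gh N19710 = N19632 := ded_44_1 L211094 L208567 (flp_i L206737) L209614 L211888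
theorem L211898 : sm gf N19491 = N19711 := rfl
theorem L211900 : sm ga N19711 = N19494 := ded_13_1 (flp_f L209668) (flp_a L209632) L211898
theorem L211902 : sm gb N19711 = N19537 := ded_20_1 (flp_f L210050) (flp_b L209634) L211898
theorem L211904 : sm gc N19711 = N19605 := ded_26_1 L210810 (flp_c L209638) L211898
theorem L211906 : sm gd N19711 = N19492 := ded_31_1 (flp_f L209643) L209630 L211898
theorem L211908 : sm gh N19711 = N19524 := ded_40_2 L209928 (flp_h L209641) L211898
theorem L211910 : sm gi N19711 = N19518 := ded_41_2 L209886 (flp_i L209636) L211898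
theorem L211912 : sm gg N19492 = N19712 := rfl
theorem L211914 : sm ga N19712 = N19495 := ded_14_1 (flp_g L209674) (flp_a L209645) L211912
theorem L211916 : sm gb N19712 = N19538 := ded_21_1 (flp_g L210060) (flp_b L209647) L211912
theorem L211918 : sm ge N19712 = N19700 := ded_36_1 (flp_g L211802) (flp_e L209651) L211912
theorem L211920 : sm gh N19712 = N19502 := ded_42_2 (flp_g L209749) (flp_h L209649) L211912
theorem L211922 : sm gf N19493 = N19713 := rfl
theorem L211924 : sm ga N19713 = N19605 := ded_13_1 L210810 (flp_a L209655) L211922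
theorem L211926 : sm gb N19713 = N19509 := ded_20_1 (flp_f L209809) (flp_b L209664) L211922
theorem L211928 : sm gc N19713 = N19494 := ded_26_1 (flp_f L209668) L209653 L211922
theorem L211930 : sm gd N19713 = N19641 := ded_31_1 L211184 (flp_d L209666) L211922
theorem L211932 : sm gh N19713 = N19601 := ded_40_2 (flp_f L210763) (flp_h L209660) L211922
theorem L211934 : sm gi N19713 = N19662 := ded_41_2 L211399 (flp_i L209662) L211922
theorem L211936 : sm ge N19494 = N19714 := rfl
theorem L211938 : sm gb N19714 = N19496 := ded_19_1 (flp_e L209682) (flp_b L209670) L211936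
theorem L211940 : sm gd N19714 = N19701 := ded_30_1 (flp_e L211812) L209551 (flp_e L206773) (flp_d L209672) L211936
theorem L211942 : sm gf N19714 = N19714 := ded_35_2 (flp_e L211936) (flp_f L209668) L206766 L209668 L211936
theorem L211943 : sm gg N19494 = N19715 := rfl
theorem L211945 : sm gb N19715 = N19497 := ded_21_1 (flp_g L209691) (flp_b L209670) L211943
theorem L211947 : sm gd N19715 = N19495 := ded_32_1 (flp_g L209674) (flp_d L209672) L211943
theorem L211949 : sm gg N19496 = N19716 := rfl
theorem L211951 : sm ga N19716 = N19541 := ded_14_1 (flp_g L210083) (flp_a L209684) L211949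
theorem L211953 : sm gc N19716 = N19512 := ded_27_1 (flp_g L209830) (flp_c L209686) L211949
theorem L211955 : sm gd N19716 = N19704 := ded_32_1 (flp_g L211841) (flp_d L209688) L211949
theorem L211957 : sm ge N19716 = N19497 := ded_36_1 (flp_g L209691) L209682 L211949
theorem L211959 : sm gg N19498 = N19717 := rfl
theorem L211961 : sm ga N19717 = N19500 := ded_14_1 (flp_g L209727) (flp_a L209701) L211959
theorem L211963 : sm gb N19717 = N19542 := ded_21_1 (flp_g L210089) (flp_b L209703) L211959
theorem L211965 : sm gc N19717 = N19712 := ded_27_1 (flp_g L211912) (flp_c L209705) L211959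
theorem L211967 : sm gd N19717 = N19685 := ded_32_1 (flp_g L211642) (flp_d L209707) L211959
theorem L211969 : sm ge N19717 = N19502 := ded_36_1 (flp_g L209749) (flp_e L209713) L211959
theorem L211971 : sm gh N19717 = N19700 := ded_42_2 (flp_g L211802) (flp_h L209709) L211959
theorem L211973 : sm gi N19717 = N19656 := ded_43_2 (flp_g L211326) (flp_i L209711) L211959
theorem L211975 : sm gg N19499 = N19718 := rfl
theorem L211977 : sm ga N19718 = N19685 := ded_14_1 (flp_g L211642) (flp_a L209717) L211975
theorem L211979 : sm gb N19718 = N19501 := ded_21_1 (flp_g L209739) (flp_b L209719) L211975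
theorem L211981 : sm gd N19718 = N19500 := ded_32_1 (flp_g L209727) (flp_d L209721) L211975
theorem L211983 : sm ge N19718 = N19686 := ded_36_1 (flp_g L211656) (flp_e L209725) L211975
theorem L211985 : sm gi N19718 = N19657 := ded_43_2 (flp_g L211338) (flp_i L209723) L211975
theorem L211987 : sm gf N19718 = N19717 := ded_39_1 (flp_g L211959) (flp_f L209699) (flp_g L206813) L209715 L211975
theorem L211989 : sm gf N19504 = N19719 := rfl
theorem L211991 : sm ga N19719 = N19677 := ded_13_1 (flp_f L211550) (flp_a L209767) L211989
theorem L211993 : sm gb N19719 = N19662 := ded_20_1 L211399 (flp_b L209774) L211989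
theorem L211995 : sm gc N19719 = N19505 := ded_26_1 (flp_f L209778) L209765 L211989
theorem L211997 : sm gd N19719 = N19676 := ded_31_1 (flp_f L211536) (flp_d L209776) L211989
theorem L211999 : sm gh N19719 = N19629 := ded_40_2 L211069 (flp_h L209770) L211989
theorem L212001 : sm gi N19719 = N19509 := ded_41_2 (flp_f L209809) (flp_i L209772) L211989
theorem L212003 : sm ge N19505 = N19720 := rfl
theorem L212005 : sm gb N19720 = N19507 := ded_19_1 (flp_e L209794) (flp_b L209780) L212003
theorem L212007 : sm gi N19720 = N19510 := ded_38_2 (flp_e L209819) (flp_i L209784) L212003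
theorem L212009 : sm gf N19720 = N19720 := ded_35_2 (flp_e L212003) (flp_f L209778) L206885 L209778 L212003
theorem L212010 : sm gg N19505 = N19721 := rfl
theorem L212012 : sm gb N19721 = N19508 := ded_21_1 (flp_g L209801) (flp_b L209780) L212010
theorem L212014 : sm gd N19721 = N19506 := ded_32_1 (flp_g L209786) (flp_d L209782) L212010
theorem L212016 : sm gi N19721 = N19511 := ded_43_2 (flp_g L209824) (flp_i L209784) L212010
theorem L212018 : sm gg N19507 = N19722 := rfl
theorem L212020 : sm ga N19722 = N19548 := ded_14_1 (flp_g L210149) (flp_a L209796) L212018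
theorem L212022 : sm ge N19722 = N19508 := ded_36_1 (flp_g L209801) L209794 L212018
theorem L212024 : sm gi N19722 = N19512 := ded_43_2 (flp_g L209830) (flp_i L209798) L212018
theorem L212026 : sm ge N19509 = N19723 := rfl
theorem L212028 : sm ga N19723 = N19682 := ded_12_1 (flp_e L211613) (flp_a L209811) L212026
theorem L212030 : sm gc N19723 = N19510 := ded_25_1 (flp_e L209819) (flp_c L209813) L212026
theorem L212032 : sm gh N19723 = N19624 := ded_37_2 (flp_e L211011) (flp_h L209817) L212026
theorem L212034 : sm gf N19723 = N19723 := ded_35_2 (flp_e L212026) (flp_f L209809) L206916 L209809 L212026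
theorem L212035 : sm gg N19509 = N19724 := rfl
theorem L212037 : sm ga N19724 = N19683 := ded_14_1 (flp_g L211624) (flp_a L209811) L212035
theorem L212039 : sm gc N19724 = N19511 := ded_27_1 (flp_g L209824) (flp_c L209813) L212035
theorem L212041 : sm gd N19724 = N19681 := ded_32_1 (flp_g L211603) (flp_d L209815) L212035
theorem L212043 : sm gh N19724 = N19625 := ded_42_2 (flp_g L211022) (flp_h L209817) L212035
theorem L212045 : sm gg N19510 = N19725 := rfl
theorem L212047 : sm gb N19725 = N19512 := ded_21_1 (flp_g L209830) (flp_b L209821) L212045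
theorem L212049 : sm ge N19725 = N19511 := ded_36_1 (flp_g L209824) L209819 L212045
theorem L212051 : sm gf N19512 = N19726 := rfl
theorem L212053 : sm ga N19726 = N19551 := ded_13_1 (flp_f L210168) (flp_a L209832) L212051
theorem L212055 : sm gg N19726 = N19726 := ded_39_2 (flp_f L212051) (flp_g L209830) L206937 L209830 L212051
theorem L212056 : sm ge N19513 = N19727 := rfl
theorem L212058 : sm gb N19727 = N19516 := ded_19_1 (flp_e L209867) (flp_b L209838) L212056
theorem L212060 : sm gi N19727 = N19519 := ded_38_2 (flp_e L209888) (flp_i L209842) L212056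
theorem L212062 : sm gf N19727 = N19727 := ded_35_2 (flp_e L212056) (flp_f L209836) L206950 L209836 L212056
theorem L212063 : sm gg N19513 = N19728 := rfl
theorem L212065 : sm gb N19728 = N19517 := ded_21_1 (flp_g L209874) (flp_b L209838) L212063
theorem L212067 : sm gd N19728 = N19515 := ded_32_1 (flp_g L209859) (flp_d L209840) L212063
theorem L212069 : sm gi N19728 = N19520 := ded_43_2 (flp_g L209893) (flp_i L209842) L212063
theorem L212071 : sm gh N19513 = N19729 := rfl
theorem L212073 : sm ga N19729 = N19533 := ded_15_1 (flp_h L211674) L211668 L212071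
theorem L212075 : sm gb N19729 = N19518 := ded_22_1 (flp_h L209882) (flp_b L209838) L212071
theorem L212077 : sm gc N19729 = N19687 := ded_28_1 L211674 L210019 L212071
theorem L212079 : sm gf N19729 = N19514 := ded_40_1 (flp_h L209844) L209836 L212071
theorem L212081 : sm gd N19729 = N19532 := ded_33_1 L210011 L209338 L207638 (flp_d L209840) L212071
theorem L212083 : sm gi N19729 = N19537 := ded_44_2 L210058 L209454 L208438 (flp_i L209842) L212071
theorem L212085 : sm gg N19516 = N19730 := rfl
theorem L212087 : sm gc N19730 = N19669 := ded_27_1 (flp_g L211479) (flp_c L209869) L212085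
theorem L212089 : sm ge N19730 = N19517 := ded_36_1 (flp_g L209874) L209867 L212085
theorem L212091 : sm gi N19730 = N19521 := ded_43_2 (flp_g L209899) (flp_i L209871) L212085
theorem L212093 : sm gh N19516 = N19731 := rfl
theorem L212095 : sm gc N19731 = N19670 := ded_28_1 (flp_h L211487) (flp_c L209869) L212093
theorem L212097 : sm ge N19731 = N19518 := ded_37_1 (flp_h L209882) L209867 L212093
theorem L212099 : sm gf N19731 = N19731 := ded_40_1 (flp_h L212093) L209873 L212093
theorem L212100 : sm gd N19731 = N19705 := ded_33_1 (flp_h L211849) (flp_d L209688) (flp_h L210350) L210354 L212093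
theorem L212102 : sm gh N19517 = N19732 := rfl
theorem L212104 : sm gc N19732 = N19671 := ded_28_1 (flp_h L211494) (flp_c L209876) L212102
theorem L212106 : sm gg N19732 = N19518 := ded_42_1 (flp_h L209882) L209874 L212102
theorem L212108 : sm gg N19519 = N19733 := rfl
theorem L212110 : sm gb N19733 = N19521 := ded_21_1 (flp_g L209899) (flp_b L209890) L212108
theorem L212112 : sm ge N19733 = N19520 := ded_36_1 (flp_g L209893) L209888 L212108
theorem L212114 : sm gf N19521 = N19734 := rfl
theorem L212116 : sm gc N19734 = N19672 := ded_26_1 (flp_f L211502) (flp_c L209901) L212114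
theorem L212118 : sm gg N19734 = N19734 := ded_39_2 (flp_f L212114) (flp_g L209899) L206996 L209899 L212114
theorem L212119 : sm gh N19521 = N19735 := rfl
theorem L212121 : sm gc N19735 = N19611 := ded_28_1 L210880 (flp_c L209901) L212119
theorem L212123 : sm ge N19735 = N19523 := ded_37_1 (flp_h L209912) (flp_e L209903) L212119
theorem L212125 : sm gg N19735 = N19522 := ded_42_1 (flp_h L209905) L209899 L212119
theorem L212127 : sm gi N19522 = N19736 := rfl
theorem L212129 : sm gb N19736 = N19694 := ded_23_1 L211754 L210988 L212127
theorem L212131 : sm gc N19736 = N19603 := ded_29_1 L210795 (flp_c L209907) L212127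
theorem L212133 : sm ge N19736 = N19524 := ded_38_1 (flp_i L209920) (flp_e L209909) L212127
theorem L212135 : sm gf N19736 = N19736 := ded_41_1 (flp_i L212127) L209911 L212127
theorem L212136 : sm gi N19523 = N19737 := rfl
theorem L212138 : sm gb N19737 = N19695 := ded_23_1 L211767 L211001 L212136
theorem L212140 : sm gc N19737 = N19604 := ded_29_1 L210804 (flp_c L209914) L212136
theorem L212142 : sm gd N19737 = N19525 := ded_34_1 (flp_i L209930) (flp_d L209918) L212136
theorem L212144 : sm gg N19737 = N19524 := ded_43_1 (flp_i L209920) (flp_g L209916) L212136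
theorem L212146 : sm gi N19526 = N19738 := rfl
theorem L212148 : sm ga N19738 = N19529 := ded_16_1 L209982 (flp_a L209940) L212146
theorem L212150 : sm gb N19738 = N19552 := ded_23_1 L210181 (flp_b L209942) L212146
theorem L212152 : sm gd N19738 = N19527 := ded_34_1 (flp_i L209952) L209938 L212146
theorem L212154 : sm ge N19738 = N19640 := ded_38_1 L211172 (flp_e L209948) L212146
theorem L212156 : sm gf N19738 = N19686 := ded_41_1 L211664 (flp_f L209944) L212146
theorem L212158 : sm gg N19738 = N19528 := ded_43_1 (flp_i L209962) (flp_g L209946) L212146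
theorem L212160 : sm gg N19530 = N19739 := rfl
theorem L212162 : sm ga N19739 = N19704 := ded_14_1 (flp_g L211841) (flp_a L209988) L212160
theorem L212164 : sm gc N19739 = N19645 := ded_27_1 (flp_g L211220) (flp_c L209990) L212160
theorem L212166 : sm gd N19739 = N19541 := ded_32_1 (flp_g L210083) (flp_d L209992) L212160
theorem L212168 : sm ge N19739 = N19531 := ded_36_1 (flp_g L209995) L209986 L212160
theorem L212170 : sm gg N19532 = N19740 := rfl
theorem L212172 : sm ga N19740 = N19534 := ded_14_1 (flp_g L210025) (flp_a L210007) L212170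
theorem L212174 : sm gc N19740 = N19738 := ded_27_1 L212158 (flp_c L210009) L212170
theorem L212176 : sm gh N19740 = N19686 := ded_42_2 (flp_g L211656) (flp_h L210011) L212170
theorem L212178 : sm gi N19740 = N19538 := ded_43_2 (flp_g L210060) (flp_i L210013) L212170
theorem L212180 : sm ge N19533 = N19741 := rfl
theorem L212182 : sm gb N19741 = N19535 := ded_19_1 (flp_e L210035) (flp_b L210017) L212180
theorem L212184 : sm gc N19741 = N19727 := ded_25_1 (flp_e L212056) (flp_c L210019) L212180
theorem L212186 : sm gi N19741 = N19539 := ded_38_2 (flp_e L210068) (flp_i L210023) L212180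
theorem L212188 : sm gf N19741 = N19741 := ded_35_2 (flp_e L212180) (flp_f L210015) L207178 L210015 L212180
theorem L212189 : sm gg N19533 = N19742 := rfl
theorem L212191 : sm gb N19742 = N19536 := ded_21_1 (flp_g L210042) (flp_b L210017) L212189
theorem L212193 : sm gc N19742 = N19728 := ded_27_1 (flp_g L212063) (flp_c L210019) L212189
theorem L212195 : sm gd N19742 = N19534 := ded_32_1 (flp_g L210025) (flp_d L210021) L212189
theorem L212197 : sm gi N19742 = N19540 := ded_43_2 (flp_g L210075) (flp_i L210023) L212189
theorem L212199 : sm gg N19535 = N19743 := rfl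
theorem L212201 : sm gc N19743 = N19548 := ded_27_1 (flp_g L210149) (flp_c L210037) L212199
theorem L212203 : sm ge N19743 = N19536 := ded_36_1 (flp_g L210042) L210035 L212199
theorem L212205 : sm gi N19743 = N19541 := ded_43_2 (flp_g L210083) (flp_i L210039) L212199
theorem L212207 : sm ge N19537 = N19744 := rfl
theorem L212209 : sm ga N19744 = N19539 := ded_12_1 (flp_e L210068) (flp_a L210052) L212207
theorem L212211 : sm gc N19744 = N19691 := ded_25_1 (flp_e L211719) (flp_c L210054) L212207
theorem L212213 : sm gh N19744 = N19694 := ded_37_2 (flp_e L211748) (flp_h L210058) L212207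
theorem L212215 : sm gf N19744 = N19744 := ded_35_2 (flp_e L212207) (flp_f L210050) L207213 L210050 L212207
theorem L212216 : sm gg N19537 = N19745 := rfl
theorem L212218 : sm ga N19745 = N19540 := ded_14_1 (flp_g L210075) (flp_a L210052) L212216
theorem L212220 : sm gc N19745 = N19692 := ded_27_1 (flp_g L211730) (flp_c L210054) L212216
theorem L212222 : sm gd N19745 = N19538 := ded_32_1 (flp_g L210060) (flp_d L210056) L212216
theorem L212224 : sm gh N19745 = N19695 := ded_42_2 (flp_g L211759) (flp_h L210058) L212216
theorem L212226 : sm gf N19745 = N19724 := ded_39_1 (flp_g L212035) (flp_f L209809) (flp_g L207209) L210050 L212216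
theorem L212228 : sm gg N19539 = N19746 := rfl
theorem L212230 : sm gb N19746 = N19541 := ded_21_1 (flp_g L210083) (flp_b L210070) L212228
theorem L212232 : sm gc N19746 = N19733 := ded_27_1 (flp_g L212108) (flp_c L210072) L212228
theorem L212234 : sm ge N19746 = N19540 := ded_36_1 (flp_g L210075) L210068 L212228
theorem L212236 : sm gf N19541 = N19747 := rfl
theorem L212238 : sm gc N19747 = N19551 := ded_26_1 (flp_f L210168) (flp_c L210085) L212236
theorem L212240 : sm gg N19747 = N19747 := ded_39_2 (flp_f L212236) (flp_g L210083) L207244 L210083 L212236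
theorem L212241 : sm gg N19543 = N19748 := rfl
theorem L212243 : sm ga N19748 = N19613 := ded_14_1 (flp_g L210887) (flp_a L210105) L212241
theorem L212245 : sm gb N19748 = N19673 := ded_21_1 (flp_g L211507) (flp_b L210107) L212241
theorem L212247 : sm gc N19748 = N19547 := ded_27_1 (flp_g L210143) (flp_c L210109) L212241
theorem L212249 : sm gd N19748 = N19645 := ded_32_1 (flp_g L211220) (flp_d L210113) L212241
theorem L212251 : sm ge N19748 = N19544 := ded_36_1 (flp_g L210116) L210103 L212241
theorem L212253 : sm gh N19748 = N19619 := ded_42_2 (flp_g L210955) (flp_h L210111) L212241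
theorem L212255 : sm gg N19545 = N19749 := rfl
theorem L212257 : sm gd N19749 = N19548 := ded_32_1 (flp_g L210149) (flp_d L210134) L212255
theorem L212259 : sm ge N19749 = N19546 := ded_36_1 (flp_g L210137) L210130 L212255
theorem L212261 : sm gi N19749 = N19547 := ded_43_2 (flp_g L210143) (flp_i L210132) L212255
theorem L212263 : sm gf N19547 = N19750 := rfl
theorem L212265 : sm gd N19750 = N19551 := ded_31_1 (flp_f L210168) (flp_d L210145) L212263
theorem L212267 : sm gg N19750 = N19750 := ded_39_2 (flp_f L212263) (flp_g L210143) L207351 L210143 L212263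
theorem L212268 : sm gf N19548 = N19751 := rfl
theorem L212270 : sm gi N19751 = N19551 := ded_41_2 (flp_f L210168) (flp_i L210153) L212268
theorem L212272 : sm gg N19751 = N19751 := ded_39_2 (flp_f L212268) (flp_g L210149) L207360 L210149 L212268
theorem L212273 : sm gh N19548 = N19752 := rfl
theorem L212275 : sm ge N19752 = N19550 := ded_37_1 (flp_h L210162) (flp_e L210151) L212273
theorem L212277 : sm gg N19752 = N19549 := ded_42_1 (flp_h L210155) L210149 L212273
theorem L212279 : sm gd N19684 = N19752 := ded_30_5 L212275 L210166 L207463 (flp_d L209272) (flp_e L211640)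
theorem L212281 : sm gh N19552 = N19753 := rfl
theorem L212283 : sm ga N19753 = N19554 := ded_15_1 (flp_h L210193) (flp_a L210173) L212281
theorem L212285 : sm gc N19753 = N19657 := ded_28_1 L211348 (flp_c L210175) L212281
theorem L212287 : sm ge N19753 = N19681 := ded_37_1 L211609 (flp_e L210179) L212281
theorem L212289 : sm gg N19753 = N19553 := ded_42_1 (flp_h L210183) L210171 L212281
theorem L212291 : sm gg N19555 = N19754 := rfl
theorem L212293 : sm ga N19754 = N19561 := ded_14_1 (flp_g L210285) (flp_a L210205) L212291
theorem L212295 : sm gb N19754 = N19658 := ded_21_1 (flp_g L211352) (flp_b L210207) L212291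
theorem L212297 : sm gc N19754 = N19749 := ded_27_1 (flp_g L212255) (flp_c L210209) L212291
theorem L212299 : sm gd N19754 = N19648 := ded_32_1 (flp_g L211251) (flp_d L210215) L212291
theorem L212301 : sm ge N19754 = N19556 := ded_36_1 (flp_g L210218) L210203 L212291
theorem L212303 : sm gh N19754 = N19668 := ded_42_2 (flp_g L211471) (flp_h L210211) L212291
theorem L212305 : sm gi N19754 = N19748 := ded_43_2 (flp_g L212241) (flp_i L210213) L212291
theorem L212307 : sm ge N19557 = N19755 := rfl
theorem L212309 : sm ga N19755 = N19709 := ded_12_1 L211883 (flp_a L210236) L212307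
theorem L212311 : sm gb N19755 = N19559 := ded_19_1 (flp_e L210262) (flp_b L210238) L212307
theorem L212313 : sm gc N19755 = N19701 := ded_25_1 (flp_e L211812) (flp_c L210240) L212307
theorem L212315 : sm gi N19755 = N19614 := ded_38_2 (flp_e L210899) (flp_i L210244) L212307
theorem L212317 : sm gd N19755 = N19720 := ded_30_1 (flp_e L212003) L209782 (flp_e L207528) (flp_d L210242) L212307
theorem L212319 : sm gf N19755 = N19755 := ded_35_2 (flp_e L212307) (flp_f L210234) L207515 L210234 L212307
theorem L212320 : sm gg N19557 = N19756 := rfl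
theorem L212322 : sm ga N19756 = N19710 := ded_14_1 L211894 (flp_a L210236) L212320
theorem L212324 : sm gb N19756 = N19560 := ded_21_1 (flp_g L210273) (flp_b L210238) L212320
theorem L212326 : sm gc N19756 = N19702 := ded_27_1 (flp_g L211819) (flp_c L210240) L212320
theorem L212328 : sm gd N19756 = N19558 := ded_32_1 (flp_g L210246) (flp_d L210242) L212320
theorem L212330 : sm gi N19756 = N19615 := ded_43_2 (flp_g L210910) (flp_i L210244) L212320
theorem L212332 : sm gf N19756 = N19632 := ded_39_1 (flp_g L211088) (flp_f L208515) (flp_g L207509) L210234 L212320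
theorem L212334 : sm gg N19559 = N19757 := rfl
theorem L212336 : sm ga N19757 = N19749 := ded_14_1 (flp_g L212255) (flp_a L210264) L212334
theorem L212338 : sm gc N19757 = N19561 := ded_27_1 (flp_g L210285) (flp_c L210266) L212334
theorem L212340 : sm gd N19757 = N19722 := ded_32_1 (flp_g L212018) (flp_d L210270) L212334
theorem L212342 : sm ge N19757 = N19560 := ded_36_1 (flp_g L210273) L210262 L212334
theorem L212344 : sm gi N19757 = N19616 := ded_43_2 (flp_g L210922) (flp_i L210268) L212334
theorem L212346 : sm gf N19561 = N19758 := rfl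
theorem L212348 : sm gb N19758 = N19707 := ded_20_1 (flp_f L211868) (flp_b L210287) L212346
theorem L212350 : sm gd N19758 = N19655 := ded_31_1 (flp_f L211323) (flp_d L210289) L212346
theorem L212352 : sm gg N19758 = N19758 := ded_39_2 (flp_f L212346) (flp_g L210285) L207560 L210285 L212346
theorem L212353 : sm gh N19561 = N19759 := rfl
theorem L212355 : sm ga N19759 = N19668 := ded_15_1 (flp_h L212303) L212293 L212353
theorem L212357 : sm gb N19759 = N19708 := ded_22_1 (flp_h L211873) (flp_b L210287) L212353
theorem L212359 : sm ge N19759 = N19563 := ded_37_1 (flp_h L210304) (flp_e L210291) L212353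
theorem L212361 : sm gg N19759 = N19562 := ded_42_1 (flp_h L210293) L210285 L212353
theorem L212363 : sm gd N19663 = N19759 := ded_11_0 L212355 L211475 (flp_a L211405)
theorem L212365 : sm ge N19564 = N19760 := rfl
theorem L212367 : sm ga N19760 = N19736 := ded_12_1 L212133 (flp_a L210318) L212365
theorem L212369 : sm gb N19760 = N19566 := ded_19_1 (flp_e L210344) (flp_b L210320) L212365
theorem L212371 : sm gh N19760 = N19714 := ded_37_2 (flp_e L211936) (flp_h L210324) L212365
theorem L212373 : sm gi N19760 = N19588 := ded_38_2 (flp_e L210623) (flp_i L210326) L212365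
theorem L212375 : sm gd N19760 = N19727 := ded_30_1 (flp_e L212056) L209840 (flp_e L207602) (flp_d L210322) L212365
theorem L212377 : sm gf N19760 = N19760 := ded_35_2 (flp_e L212365) (flp_f L210316) L207587 L210316 L212365
theorem L212378 : sm gg N19564 = N19761 := rfl
theorem L212380 : sm ga N19761 = N19737 := ded_14_1 L212144 (flp_a L210318) L212378
theorem L212382 : sm gb N19761 = N19567 := ded_21_1 (flp_g L210357) (flp_b L210320) L212378
theorem L212384 : sm gd N19761 = N19565 := ded_32_1 (flp_g L210328) (flp_d L210322) L212378
theorem L212386 : sm gh N19761 = N19715 := ded_42_2 (flp_g L211943) (flp_h L210324) L212378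
theorem L212388 : sm gi N19761 = N19589 := ded_43_2 (flp_g L210634) (flp_i L210326) L212378
theorem L212390 : sm gf N19761 = N19604 := ded_39_1 (flp_g L210798) (flp_f L208164) (flp_g L207583) L210316 L212378
theorem L212392 : sm gg N19566 = N19762 := rfl
theorem L212394 : sm ga N19762 = N19586 := ded_14_1 (flp_g L210601) (flp_a L210346) L212392
theorem L212396 : sm gc N19762 = N19580 := ded_27_1 (flp_g L210537) (flp_c L210348) L212392
theorem L212398 : sm gd N19762 = N19730 := ded_32_1 (flp_g L212085) (flp_d L210354) L212392
theorem L212400 : sm ge N19762 = N19567 := ded_36_1 (flp_g L210357) L210344 L212392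
theorem L212402 : sm gh N19762 = N19716 := ded_42_2 (flp_g L211949) (flp_h L210350) L212392
theorem L212404 : sm gi N19762 = N19590 := ded_43_2 (flp_g L210646) (flp_i L210352) L212392
theorem L212406 : sm gh N19569 = N19763 := rfl
theorem L212408 : sm ga N19763 = N19587 := ded_15_1 (flp_h L210609) (flp_a L210389) L212406
theorem L212410 : sm gb N19763 = N19740 := ded_22_1 L212176 L211660 L212406
theorem L212412 : sm gc N19763 = N19656 := ded_28_1 L211336 (flp_c L210391) L212406
theorem L212414 : sm ge N19763 = N19651 := ded_37_1 L211292 (flp_e L210395) L212406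
theorem L212416 : sm gf N19763 = N19753 := ded_40_1 (flp_h L212281) (flp_f L210399) L212406
theorem L212418 : sm gg N19763 = N19570 := ded_42_1 (flp_h L210401) L210387 L212406
theorem L212420 : sm gd N19763 = N19732 := ded_33_1 (flp_h L212102) L209878 (flp_h L207680) (flp_d L210393) L212406
theorem L212422 : sm gi N19763 = N19712 := ded_44_2 L211920 L209755 L208900 (flp_i L210397) L212406
theorem L212424 : sm gg N19572 = N19764 := rfl
theorem L212426 : sm ga N19764 = N19590 := ded_14_1 (flp_g L210646) (flp_a L210437) L212424
theorem L212428 : sm gb N19764 = N19696 := ded_21_1 (flp_g L211771) (flp_b L210439) L212424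
theorem L212430 : sm gc N19764 = N19606 := ded_27_1 (flp_g L210816) (flp_c L210441) L212424
theorem L212432 : sm gd N19764 = N19659 := ded_32_1 (flp_g L211362) (flp_d L210447) L212424
theorem L212434 : sm ge N19764 = N19573 := ded_36_1 (flp_g L210450) L210435 L212424
theorem L212436 : sm gh N19764 = N19693 := ded_42_2 (flp_g L211742) (flp_h L210443) L212424
theorem L212438 : sm gi N19764 = N19586 := ded_43_2 (flp_g L210601) (flp_i L210445) L212424
theorem L212440 : sm gg N19574 = N19765 := rfl
theorem L212442 : sm ga N19765 = N19600 := ded_14_1 (flp_g L210757) (flp_a L210468) L212440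
theorem L212444 : sm gb N19765 = N19619 := ded_21_1 (flp_g L210955) (flp_b L210470) L212440
theorem L212446 : sm gd N19765 = N19580 := ded_32_1 (flp_g L210537) (flp_d L210474) L212440
theorem L212448 : sm ge N19765 = N19575 := ded_36_1 (flp_g L210477) L210466 L212440
theorem L212450 : sm gh N19765 = N19673 := ded_42_2 (flp_g L211507) (flp_h L210472) L212440
theorem L212452 : sm gg N19576 = N19766 := rfl
theorem L212454 : sm ga N19766 = N19606 := ded_14_1 (flp_g L210816) (flp_a L210491) L212452
theorem L212456 : sm gc N19766 = N19590 := ded_27_1 (flp_g L210646) (flp_c L210493) L212452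
theorem L212458 : sm ge N19766 = N19577 := ded_36_1 (flp_g L210500) L210489 L212452
theorem L212460 : sm gh N19766 = N19684 := ded_42_2 (flp_g L211636) (flp_h L210495) L212452
theorem L212462 : sm gi N19766 = N19580 := ded_43_2 (flp_g L210537) (flp_i L210497) L212452
theorem L212464 : sm gg N19578 = N19767 := rfl
theorem L212466 : sm ga N19767 = N19626 := ded_14_1 (flp_g L211032) (flp_a L210516) L212464
theorem L212468 : sm gb N19767 = N19580 := ded_21_1 (flp_g L210537) (flp_b L210518) L212464
theorem L212470 : sm gd N19767 = N19619 := ded_32_1 (flp_g L210955) (flp_d L210522) L212464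
theorem L212472 : sm ge N19767 = N19579 := ded_36_1 (flp_g L210525) L210514 L212464
theorem L212474 : sm gh N19767 = N19725 := ded_42_2 (flp_g L212045) (flp_h L210520) L212464
theorem L212476 : sm gf N19580 = N19768 := rfl
theorem L212478 : sm ga N19768 = N19612 := ded_13_1 (flp_f L210882) (flp_a L210539) L212476
theorem L212480 : sm gh N19768 = N19726 := ded_40_2 (flp_f L212051) (flp_h L210543) L212476
theorem L212482 : sm gg N19768 = N19768 := ded_39_2 (flp_f L212476) (flp_g L210537) L207834 L210537 L212476
theorem L212483 : sm gg N19581 = N19769 := rfl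
theorem L212485 : sm ga N19769 = N19730 := ded_14_1 (flp_g L212085) (flp_a L210547) L212483
theorem L212487 : sm gb N19769 = N19697 := ded_21_1 (flp_g L211777) (flp_b L210549) L212483
theorem L212489 : sm gd N19769 = N19586 := ded_32_1 (flp_g L210601) (flp_d L210553) L212483
theorem L212491 : sm ge N19769 = N19582 := ded_36_1 (flp_g L210556) L210545 L212483
theorem L212493 : sm gi N19769 = N19659 := ded_43_2 (flp_g L211362) (flp_i L210551) L212483
theorem L212495 : sm gh N19581 = N19770 := rfl
theorem L212497 : sm ga N19770 = N19731 := ded_15_1 (flp_h L212093) (flp_a L210547) L212495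
theorem L212499 : sm gb N19770 = N19649 := ded_22_1 L211265 (flp_b L210549) L212495
theorem L212501 : sm ge N19770 = N19583 := ded_37_1 (flp_h L210568) L210545 L212495
theorem L212503 : sm gf N19770 = N19770 := ded_40_1 (flp_h L212495) L210555 L212495
theorem L212504 : sm gd N19770 = N19652 := ded_33_1 L211302 L209992 (flp_h L207922) (flp_d L210553) L212495
theorem L212506 : sm gi N19770 = N19714 := ded_44_2 (flp_h L212371) L212373 L210629 (flp_i L210551) L212495
theorem L212508 : sm gh N19582 = N19771 := rfl
theorem L212510 : sm ga N19771 = N19732 := ded_15_1 (flp_h L212102) (flp_a L210558) L212508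
theorem L212512 : sm gb N19771 = N19650 := ded_22_1 L211280 (flp_b L210560) L212508
theorem L212514 : sm gf N19771 = N19671 := ded_40_1 (flp_h L211494) (flp_f L210566) L212508
theorem L212516 : sm gg N19771 = N19583 := ded_42_1 (flp_h L210568) L210556 L212508
theorem L212518 : sm gd N19771 = N19587 := ded_33_1 (flp_h L210609) L207939 (flp_h L207890) (flp_d L210562) L212508
theorem L212520 : sm gi N19771 = N19715 := ded_44_2 (flp_h L212386) L212388 L210642 (flp_i L210564) L212508
theorem L212522 : sm gg N19584 = N19772 := rfl
theorem L212524 : sm gb N19772 = N19586 := ded_21_1 (flp_g L210601) (flp_b L210582) L212522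
theorem L212526 : sm gd N19772 = N19697 := ded_32_1 (flp_g L211777) (flp_d L210588) L212522
theorem L212528 : sm ge N19772 = N19585 := ded_36_1 (flp_g L210591) L210580 L212522
theorem L212530 : sm gh N19772 = N19746 := ded_42_2 (flp_g L212228) (flp_h L210584) L212522
theorem L212532 : sm gi N19772 = N19696 := ded_43_2 (flp_g L211771) (flp_i L210586) L212522
theorem L212534 : sm gf N19586 = N19773 := rfl
theorem L212536 : sm gc N19773 = N19612 := ded_26_1 (flp_f L210882) (flp_c L210603) L212534
theorem L212538 : sm gh N19773 = N19747 := ded_40_2 (flp_f L212236) (flp_h L210607) L212534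
theorem L212540 : sm gg N19773 = N19773 := ded_39_2 (flp_f L212534) (flp_g L210601) L207924 L210601 L212534
theorem L212541 : sm gg N19588 = N19774 := rfl
theorem L212543 : sm ga N19774 = N19735 := ded_14_1 L212125 (flp_a L210625) L212541
theorem L212545 : sm gb N19774 = N19590 := ded_21_1 (flp_g L210646) (flp_b L210627) L212541
theorem L212547 : sm gd N19774 = N19733 := ded_32_1 (flp_g L212108) (flp_d L210631) L212541
theorem L212549 : sm ge N19774 = N19589 := ded_36_1 (flp_g L210634) L210623 L212541
theorem L212551 : sm gh N19774 = N19659 := ded_42_2 (flp_g L211362) (flp_h L210629) L212541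
theorem L212553 : sm gf N19590 = N19775 := rfl
theorem L212555 : sm gd N19775 = N19734 := ded_31_1 (flp_f L212114) (flp_d L210648) L212553
theorem L212557 : sm gh N19775 = N19698 := ded_40_2 (flp_f L211783) (flp_h L210652) L212553
theorem L212559 : sm ge N19775 = N19612 := ded_35_1 (flp_f L210882) L208259 (flp_f L208008) (flp_e L210650) L212553
theorem L212561 : sm gg N19775 = N19775 := ded_39_2 (flp_f L212553) (flp_g L210646) L208001 L210646 L212553
theorem L212562 : sm gg N19591 = N19776 := rfl
theorem L212564 : sm gc N19776 = N19600 := ded_27_1 (flp_g L210757) (flp_c L210656) L212562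
theorem L212566 : sm ge N19776 = N19592 := ded_36_1 (flp_g L210663) L210654 L212562
theorem L212568 : sm gh N19776 = N19633 := ded_42_2 (flp_g L211096) (flp_h L210658) L212562
theorem L212570 : sm gi N19776 = N19759 := ded_43_2 L212361 (flp_i L210660) L212562
theorem L212572 : sm ge N19593 = N19777 := rfl
theorem L212574 : sm ga N19777 = N19631 := ded_12_1 (flp_e L211081) (flp_a L210675) L212572
theorem L212576 : sm gb N19777 = N19595 := ded_19_1 (flp_e L210701) (flp_b L210677) L212572
theorem L212578 : sm gh N19777 = N19755 := ded_37_2 (flp_e L212307) (flp_h L210681) L212572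
theorem L212580 : sm gi N19777 = N19598 := ded_38_2 (flp_e L210734) (flp_i L210683) L212572
theorem L212582 : sm gd N19777 = N19603 := ded_30_1 (flp_e L210791) L208168 (flp_e L208069) (flp_d L210679) L212572
theorem L212584 : sm gf N19777 = N19777 := ded_35_2 (flp_e L212572) (flp_f L210673) L208054 L210673 L212572
theorem L212585 : sm gg N19593 = N19778 := rfl
theorem L212587 : sm ga N19778 = N19632 := ded_14_1 (flp_g L211088) (flp_a L210675) L212585
theorem L212589 : sm gb N19778 = N19596 := ded_21_1 (flp_g L210712) (flp_b L210677) L212585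
theorem L212591 : sm gd N19778 = N19594 := ded_32_1 (flp_g L210685) (flp_d L210679) L212585
theorem L212593 : sm gh N19778 = N19756 := ded_42_2 (flp_g L212320) (flp_h L210681) L212585
theorem L212595 : sm gi N19778 = N19599 := ded_43_2 (flp_g L210745) (flp_i L210683) L212585
theorem L212597 : sm gf N19778 = N19710 := ded_39_1 L211894 L209626 (flp_g L208050) L210673 L212585
theorem L212599 : sm gg N19595 = N19779 := rfl
theorem L212601 : sm gc N19779 = N19759 := ded_27_1 L212361 (flp_c L210703) L212599
theorem L212603 : sm gd N19779 = N19606 := ded_32_1 (flp_g L210816) (flp_d L210709) L212599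
theorem L212605 : sm ge N19779 = N19596 := ded_36_1 (flp_g L210712) L210701 L212599
theorem L212607 : sm gh N19779 = N19757 := ded_42_2 (flp_g L212334) (flp_h L210705) L212599
theorem L212609 : sm gi N19779 = N19600 := ded_43_2 (flp_g L210757) (flp_i L210707) L212599
theorem L212611 : sm ge N19597 = N19780 := rfl
theorem L212613 : sm ga N19780 = N19634 := ded_12_1 (flp_e L211102) (flp_a L210726) L212611
theorem L212615 : sm gc N19780 = N19598 := ded_25_1 (flp_e L210734) (flp_c L210728) L212611
theorem L212617 : sm gh N19780 = N19646 := ded_37_2 (flp_e L211228) (flp_h L210732) L212611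
theorem L212619 : sm gd N19780 = N19744 := ded_30_1 (flp_e L212207) L210056 (flp_e L208707) (flp_d L210730) L212611
theorem L212621 : sm gf N19780 = N19780 := ded_35_2 (flp_e L212611) (flp_f L210724) L208097 L210724 L212611
theorem L212622 : sm gg N19597 = N19781 := rfl
theorem L212624 : sm ga N19781 = N19635 := ded_14_1 (flp_g L211113) (flp_a L210726) L212622
theorem L212626 : sm gc N19781 = N19599 := ded_27_1 (flp_g L210745) (flp_c L210728) L212622
theorem L212628 : sm gd N19781 = N19644 := ded_32_1 (flp_g L211210) (flp_d L210730) L212622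
theorem L212630 : sm gh N19781 = N19647 := ded_42_2 (flp_g L211239) (flp_h L210732) L212622
theorem L212632 : sm gf N19781 = N19706 := ded_39_1 L211864 L209599 (flp_g L208098) L210724 L212622
theorem L212634 : sm gg N19598 = N19782 := rfl
theorem L212636 : sm ga N19782 = N19636 := ded_14_1 (flp_g L211123) (flp_a L210736) L212634
theorem L212638 : sm gb N19782 = N19600 := ded_21_1 (flp_g L210757) (flp_b L210738) L212634
theorem L212640 : sm gd N19782 = N19611 := ded_32_1 (flp_g L210874) (flp_d L210742) L212634
theorem L212642 : sm ge N19782 = N19599 := ded_36_1 (flp_g L210745) L210734 L212634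
theorem L212644 : sm gh N19782 = N19648 := ded_42_2 (flp_g L211251) (flp_h L210740) L212634
theorem L212646 : sm gf N19600 = N19783 := rfl
theorem L212648 : sm gd N19783 = N19612 := ded_31_1 (flp_f L210882) (flp_d L210759) L212646
theorem L212650 : sm gg N19783 = N19783 := ded_39_2 (flp_f L212646) (flp_g L210757) L208132 L210757 L212646
theorem L212651 : sm ge N19601 = N19784 := rfl
theorem L212653 : sm ga N19784 = N19603 := ded_12_1 (flp_e L210791) (flp_a L210765) L212651
theorem L212655 : sm gb N19784 = N19624 := ded_19_1 (flp_e L211011) (flp_b L210767) L212651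
theorem L212657 : sm gc N19784 = N19760 := ded_25_1 (flp_e L212365) (flp_c L210769) L212651
theorem L212659 : sm gi N19784 = N19609 := ded_38_2 (flp_e L210847) (flp_i L210773) L212651
theorem L212661 : sm gd N19784 = N19631 := ded_30_1 (flp_e L211081) L208519 (flp_e L208162) (flp_d L210771) L212651
theorem L212663 : sm gf N19784 = N19784 := ded_35_2 (flp_e L212651) (flp_f L210763) L208149 L210763 L212651
theorem L212664 : sm gg N19601 = N19785 := rfl
theorem L212666 : sm ga N19785 = N19604 := ded_14_1 (flp_g L210798) (flp_a L210765) L212664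
theorem L212668 : sm gb N19785 = N19625 := ded_21_1 (flp_g L211022) (flp_b L210767) L212664
theorem L212670 : sm gc N19785 = N19761 := ded_27_1 (flp_g L212378) (flp_c L210769) L212664
theorem L212672 : sm gd N19785 = N19602 := ded_32_1 (flp_g L210775) (flp_d L210771) L212664
theorem L212674 : sm gi N19785 = N19610 := ded_43_2 (flp_g L210860) (flp_i L210773) L212664
theorem L212676 : sm gf N19785 = N19737 := ded_39_1 L212144 L209928 (flp_g L208143) L210763 L212664
theorem L212678 : sm gg N19603 = N19786 := rfl
theorem L212680 : sm gb N19786 = N19606 := ded_21_1 (flp_g L210816) (flp_b L210793) L212678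
theorem L212682 : sm ge N19786 = N19604 := ded_36_1 (flp_g L210798) L210791 L212678
theorem L212684 : sm gi N19786 = N19611 := ded_43_2 (flp_g L210874) (flp_i L210795) L212678
theorem L212686 : sm gh N19603 = N19787 := rfl
theorem L212688 : sm gb N19787 = N19607 := ded_22_1 (flp_h L210822) (flp_b L210793) L212686
theorem L212690 : sm ge N19787 = N19605 := ded_37_1 (flp_h L210806) L210791 L212686
theorem L212692 : sm gf N19787 = N19787 := ded_40_1 (flp_h L212686) L210797 L212686
theorem L212693 : sm gi N19787 = N19670 := ded_44_2 (flp_h L211487) L209081 (flp_h L208246) (flp_i L210795) L212686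
theorem L212695 : sm gh N19604 = N19788 := rfl
theorem L212697 : sm gb N19788 = N19608 := ded_22_1 (flp_h L210833) (flp_b L210800) L212695
theorem L212699 : sm gf N19788 = N19715 := ded_40_1 (flp_h L212386) L212390 L212695
theorem L212701 : sm gg N19788 = N19605 := ded_42_1 (flp_h L210806) L210798 L212695
theorem L212703 : sm gd N19788 = N19643 := ded_33_1 (flp_h L211200) L208673 (flp_h L208189) (flp_d L210802) L212695
theorem L212705 : sm gi N19788 = N19671 := ded_44_2 (flp_h L211494) L209090 (flp_h L208255) (flp_i L210804) L212695
theorem L212707 : sm gf N19606 = N19789 := rfl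
theorem L212709 : sm gi N19789 = N19612 := ded_41_2 (flp_f L210882) (flp_i L210820) L212707
theorem L212711 : sm gg N19789 = N19789 := ded_39_2 (flp_f L212707) (flp_g L210816) L208197 L210816 L212707
theorem L212712 : sm gh N19606 = N19790 := rfl
theorem L212714 : sm ga N19790 = N19684 := ded_15_1 (flp_h L212460) L212454 L212712
theorem L212716 : sm gc N19790 = N19693 := ded_28_1 (flp_h L212436) L212430 L212712
theorem L212718 : sm ge N19790 = N19608 := ded_37_1 (flp_h L210833) (flp_e L210818) L212712
theorem L212720 : sm gg N19790 = N19607 := ded_42_1 (flp_h L210822) L210816 L212712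
theorem L212722 : sm gi N19790 = N19752 := ded_44_2 (flp_h L212273) L210153 (flp_h L208261) (flp_i L210820) L212712
theorem L212724 : sm gg N19609 = N19791 := rfl
theorem L212726 : sm ga N19791 = N19611 := ded_14_1 (flp_g L210874) (flp_a L210849) L212724
theorem L212728 : sm gb N19791 = N19626 := ded_21_1 (flp_g L211032) (flp_b L210851) L212724
theorem L212730 : sm gc N19791 = N19774 := ded_27_1 (flp_g L212541) (flp_c L210853) L212724
theorem L212732 : sm gd N19791 = N19636 := ded_32_1 (flp_g L211123) (flp_d L210857) L212724
theorem L212734 : sm ge N19791 = N19610 := ded_36_1 (flp_g L210860) L210847 L212724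
theorem L212736 : sm gh N19791 = N19663 := ded_42_2 (flp_g L211403) (flp_h L210855) L212724
theorem L212738 : sm gf N19611 = N19792 := rfl
theorem L212740 : sm gb N19792 = N19612 := ded_20_1 (flp_f L210882) (flp_b L210876) L212738
theorem L212742 : sm gh N19792 = N19672 := ded_40_2 (flp_f L211502) (flp_h L210880) L212738
theorem L212744 : sm gg N19792 = N19792 := ded_39_2 (flp_f L212738) (flp_g L210874) L208248 L210874 L212738
theorem L212745 : sm gf N19613 = N19793 := rfl
theorem L212747 : sm gb N19793 = N19655 := ded_20_1 (flp_f L211323) (flp_b L210889) L212745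
theorem L212749 : sm gd N19793 = N19707 := ded_31_1 (flp_f L211868) (flp_d L210891) L212745
theorem L212751 : sm gh N19793 = N19637 := ded_40_2 (flp_f L211131) (flp_h L210895) L212745
theorem L212753 : sm gi N19793 = N19758 := ded_41_2 (flp_f L212346) (flp_i L210897) L212745
theorem L212755 : sm ge N19793 = N19675 := ded_35_1 (flp_f L211531) L209154 (flp_f L208284) (flp_e L210893) L212745
theorem L212757 : sm gg N19793 = N19793 := ded_39_2 (flp_f L212745) (flp_g L210887) L208273 L210887 L212745
theorem L212758 : sm gg N19614 = N19794 := rfl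
theorem L212760 : sm ga N19794 = N19708 := ded_14_1 L211877 (flp_a L210901) L212758
theorem L212762 : sm gb N19794 = N19616 := ded_21_1 (flp_g L210922) (flp_b L210903) L212758
theorem L212764 : sm gd N19794 = N19725 := ded_32_1 (flp_g L212045) (flp_d L210907) L212758
theorem L212766 : sm ge N19794 = N19615 := ded_36_1 (flp_g L210910) L210899 L212758
theorem L212768 : sm gh N19794 = N19645 := ded_42_2 (flp_g L211220) (flp_h L210905) L212758
theorem L212770 : sm gf N19616 = N19795 := rfl
theorem L212772 : sm ga N19795 = N19750 := ded_13_1 (flp_f L212263) (flp_a L210924) L212770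
theorem L212774 : sm gc N19795 = N19793 := ded_26_1 (flp_f L212745) (flp_c L210926) L212770
theorem L212776 : sm gd N19795 = N19726 := ded_31_1 (flp_f L212051) (flp_d L210928) L212770
theorem L212778 : sm gh N19795 = N19675 := ded_40_2 (flp_f L211531) (flp_h L210932) L212770
theorem L212780 : sm ge N19795 = N19637 := ded_35_1 (flp_f L211131) L208571 (flp_f L208331) (flp_e L210930) L212770
theorem L212782 : sm gg N19795 = N19795 := ded_39_2 (flp_f L212770) (flp_g L210922) L208320 L210922 L212770
theorem L212783 : sm gg N19617 = N19796 := rfl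
theorem L212785 : sm ga N19796 = N19633 := ded_14_1 (flp_g L211096) (flp_a L210936) L212783
theorem L212787 : sm gc N19796 = N19673 := ded_27_1 (flp_g L211507) (flp_c L210938) L212783
theorem L212789 : sm ge N19796 = N19618 := ded_36_1 (flp_g L210943) L210934 L212783
theorem L212791 : sm gi N19796 = N19619 := ded_43_2 (flp_g L210955) (flp_i L210940) L212783
theorem L212793 : sm gf N19619 = N19797 := rfl
theorem L212795 : sm ga N19797 = N19637 := ded_13_1 (flp_f L211131) (flp_a L210957) L212793
theorem L212797 : sm ge N19797 = N19750 := ded_35_1 (flp_f L212263) L210147 (flp_f L208402) (flp_e L210959) L212793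
theorem L212799 : sm gg N19797 = N19797 := ded_39_2 (flp_f L212793) (flp_g L210955) L208395 L210955 L212793
theorem L212800 : sm gg N19620 = N19798 := rfl
theorem L212802 : sm gb N19798 = N19766 := ded_21_1 (flp_g L212452) (flp_b L210963) L212800
theorem L212804 : sm gc N19798 = N19626 := ded_27_1 (flp_g L211032) (flp_c L210965) L212800
theorem L212806 : sm gd N19798 = N19796 := ded_32_1 (flp_g L212783) (flp_d L210969) L212800
theorem L212808 : sm ge N19798 = N19621 := ded_36_1 (flp_g L210972) L210961 L212800
theorem L212810 : sm gi N19798 = N19767 := ded_43_2 (flp_g L212464) (flp_i L210967) L212800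
theorem L212812 : sm gg N19622 = N19799 := rfl
theorem L212814 : sm ga N19799 = N19696 := ded_14_1 (flp_g L211771) (flp_a L210986) L212812
theorem L212816 : sm gb N19799 = N19735 := ded_21_1 L212125 (flp_b L210988) L212812
theorem L212818 : sm gc N19799 = N19772 := ded_27_1 (flp_g L212522) (flp_c L210990) L212812
theorem L212820 : sm gd N19799 = N19693 := ded_32_1 (flp_g L211742) (flp_d L210994) L212812
theorem L212822 : sm ge N19799 = N19623 := ded_36_1 (flp_g L210997) L210984 L212812
theorem L212824 : sm gh N19799 = N19733 := ded_42_2 (flp_g L212108) (flp_h L210992) L212812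
theorem L212826 : sm gg N19624 = N19800 := rfl
theorem L212828 : sm ga N19800 = N19798 := ded_14_1 (flp_g L212800) (flp_a L211013) L212826
theorem L212830 : sm gc N19800 = N19767 := ded_27_1 (flp_g L212464) (flp_c L211015) L212826
theorem L212832 : sm gd N19800 = N19633 := ded_32_1 (flp_g L211096) (flp_d L211019) L212826
theorem L212834 : sm ge N19800 = N19625 := ded_36_1 (flp_g L211022) L211011 L212826
theorem L212836 : sm gi N19800 = N19626 := ded_43_2 (flp_g L211032) (flp_i L211017) L212826
theorem L212838 : sm gf N19626 = N19801 := rfl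
theorem L212840 : sm gd N19801 = N19637 := ded_31_1 (flp_f L211131) (flp_d L211034) L212838
theorem L212842 : sm gg N19801 = N19801 := ded_39_2 (flp_f L212838) (flp_g L211032) L208478 L211032 L212838
theorem L212843 : sm gh N19626 = N19802 := rfl
theorem L212845 : sm ga N19802 = N19725 := ded_15_1 (flp_h L212474) L212466 L212843
theorem L212847 : sm gb N19802 = N19663 := ded_22_1 (flp_h L212736) L212728 L212843
theorem L212849 : sm ge N19802 = N19628 := ded_37_1 (flp_h L211049) (flp_e L211036) L212843
theorem L212851 : sm gg N19802 = N19627 := ded_42_1 (flp_h L211038) L211032 L212843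
theorem L212853 : sm gd N19802 = N19708 := ded_33_1 (flp_h L211873) (flp_d L210891) L210895 (flp_d L211034) L212843
theorem L212855 : sm gi N19627 = N19803 := rfl
theorem L212857 : sm ga N19803 = N19720 := ded_16_1 L212007 (flp_a L211040) L212855
theorem L212859 : sm gb N19803 = N19660 := ded_23_1 L211376 (flp_b L211042) L212855
theorem L212861 : sm gd N19803 = N19709 := ded_34_1 (flp_i L211879) (flp_d L211047) L212855
theorem L212863 : sm ge N19803 = N19629 := ded_38_1 (flp_i L211061) (flp_e L211044) L212855
theorem L212865 : sm gf N19803 = N19803 := ded_41_1 (flp_i L212855) L211046 L212855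
theorem L212866 : sm gi N19628 = N19804 := rfl
theorem L212868 : sm ga N19804 = N19721 := ded_16_1 L212016 (flp_a L211051) L212866
theorem L212870 : sm gb N19804 = N19661 := ded_23_1 L211389 (flp_b L211053) L212866
theorem L212872 : sm gd N19804 = N19638 := ded_34_1 (flp_i L211134) (flp_d L211059) L212866
theorem L212874 : sm gf N19804 = N19728 := ded_41_1 L212069 (flp_f L211055) L212866
theorem L212876 : sm gg N19804 = N19629 := ded_43_1 (flp_i L211061) (flp_g L211057) L212866
theorem L212878 : sm ge N19630 = N19805 := rfl
theorem L212880 : sm gb N19805 = N19646 := ded_19_1 (flp_e L211228) (flp_b L211073) L212878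
theorem L212882 : sm gc N19805 = N19631 := ded_25_1 (flp_e L211081) (flp_c L211075) L212878
theorem L212884 : sm gi N19805 = N19634 := ded_38_2 (flp_e L211102) (flp_i L211079) L212878
theorem L212886 : sm gd N19805 = N19741 := ded_30_1 (flp_e L212180) L210021 (flp_e L208667) (flp_d L211077) L212878
theorem L212888 : sm gf N19805 = N19805 := ded_35_2 (flp_e L212878) (flp_f L211071) L208506 L211071 L212878
theorem L212889 : sm gg N19630 = N19806 := rfl
theorem L212891 : sm gb N19806 = N19647 := ded_21_1 (flp_g L211239) (flp_b L211073) L212889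
theorem L212893 : sm gc N19806 = N19632 := ded_27_1 (flp_g L211088) (flp_c L211075) L212889
theorem L212895 : sm gd N19806 = N19642 := ded_32_1 (flp_g L211188) (flp_d L211077) L212889
theorem L212897 : sm gi N19806 = N19635 := ded_43_2 (flp_g L211113) (flp_i L211079) L212889
theorem L212899 : sm gf N19806 = N19702 := ded_39_1 (flp_g L211819) (flp_f L209547) (flp_g L208507) L211071 L212889
theorem L212901 : sm gg N19631 = N19807 := rfl
theorem L212903 : sm gb N19807 = N19633 := ded_21_1 (flp_g L211096) (flp_b L211083) L212901
theorem L212905 : sm ge N19807 = N19632 := ded_36_1 (flp_g L211088) L211081 L212901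
theorem L212907 : sm gi N19807 = N19636 := ded_43_2 (flp_g L211123) (flp_i L211085) L212901
theorem L212909 : sm gf N19633 = N19808 := rfl
theorem L212911 : sm gi N19808 = N19637 := ded_41_2 (flp_f L211131) (flp_i L211100) L212909
theorem L212913 : sm gg N19808 = N19808 := ded_39_2 (flp_f L212909) (flp_g L211096) L208537 L211096 L212909
theorem L212914 : sm gg N19634 = N19809 := rfl
theorem L212916 : sm gb N19809 = N19739 := ded_21_1 (flp_g L212160) (flp_b L211104) L212914
theorem L212918 : sm gc N19809 = N19636 := ded_27_1 (flp_g L211123) (flp_c L211106) L212914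
theorem L212920 : sm gd N19809 = N19746 := ded_32_1 (flp_g L212228) (flp_d L211110) L212914
theorem L212922 : sm ge N19809 = N19635 := ded_36_1 (flp_g L211113) L211102 L212914
theorem L212924 : sm gh N19809 = N19654 := ded_42_2 (flp_g L211317) (flp_h L211108) L212914
theorem L212926 : sm gf N19636 = N19810 := rfl
theorem L212928 : sm gb N19810 = N19637 := ded_20_1 (flp_f L211131) (flp_b L211125) L212926
theorem L212930 : sm gh N19810 = N19655 := ded_40_2 (flp_f L211323) (flp_h L211129) L212926
theorem L212932 : sm gg N19810 = N19810 := ded_39_2 (flp_f L212926) (flp_g L211123) L208560 L211123 L212926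
theorem L212933 : sm gg N19639 = N19811 := rfl
theorem L212935 : sm ga N19811 = N19642 := ded_14_1 (flp_g L211188) (flp_a L211152) L212933
theorem L212937 : sm gb N19811 = N19651 := ded_21_1 (flp_g L211286) (flp_b L211154) L212933
theorem L212939 : sm gc N19811 = N19640 := ded_27_1 (flp_g L211164) (flp_c L211156) L212933
theorem L212941 : sm ge N19811 = N19740 := ded_36_1 (flp_g L212170) (flp_e L211162) L212933
theorem L212943 : sm gh N19811 = N19718 := ded_42_2 (flp_g L211975) (flp_h L211158) L212933
theorem L212945 : sm gi N19811 = N19644 := ded_43_2 (flp_g L211210) (flp_i L211160) L212933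
theorem L212947 : sm gf N19811 = N19700 := ded_39_1 (flp_g L211802) (flp_f L209537) (flp_g L208619) L211150 L212933
theorem L212949 : sm gh N19640 = N19812 := rfl
theorem L212951 : sm ga N19812 = N19643 := ded_15_1 (flp_h L211200) (flp_a L211166) L212949
theorem L212953 : sm gb N19812 = N19681 := ded_22_1 L211609 (flp_b L211168) L212949
theorem L212955 : sm gc N19812 = N19718 := ded_28_1 (flp_h L212943) L212939 L212949
theorem L212957 : sm gf N19812 = N19712 := ded_40_1 L211920 (flp_f L211174) L212949
theorem L212959 : sm gg N19812 = N19641 := ded_42_1 (flp_h L211176) L211164 L212949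
theorem L212961 : sm gi N19812 = N19753 := ded_44_2 (flp_h L212281) L210181 (flp_h L208715) (flp_i L211172) L212949
theorem L212963 : sm gf N19645 = N19813 := rfl
theorem L212965 : sm ga N19813 = N19707 := ded_13_1 (flp_f L211868) (flp_a L211222) L212963
theorem L212967 : sm gb N19813 = N19675 := ded_20_1 (flp_f L211531) (flp_b L211224) L212963
theorem L212969 : sm ge N19813 = N19655 := ded_35_1 (flp_f L211323) L208850 (flp_f L208742) (flp_e L211226) L212963
theorem L212971 : sm gg N19813 = N19813 := ded_39_2 (flp_f L212963) (flp_g L211220) L208733 L211220 L212963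
theorem L212972 : sm gg N19646 = N19814 := rfl
theorem L212974 : sm ga N19814 = N19654 := ded_14_1 (flp_g L211317) (flp_a L211230) L212972
theorem L212976 : sm gc N19814 = N19648 := ded_27_1 (flp_g L211251) (flp_c L211232) L212972
theorem L212978 : sm gd N19814 = N19743 := ded_32_1 (flp_g L212199) (flp_d L211236) L212972
theorem L212980 : sm ge N19814 = N19647 := ded_36_1 (flp_g L211239) L211228 L212972
theorem L212982 : sm gi N19814 = N19739 := ded_43_2 (flp_g L212160) (flp_i L211234) L212972
theorem L212984 : sm gf N19648 = N19815 := rfl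
theorem L212986 : sm ga N19815 = N19655 := ded_13_1 (flp_f L211323) (flp_a L211253) L212984
theorem L212988 : sm gi N19815 = N19813 := ded_41_2 (flp_f L212963) (flp_i L211257) L212984
theorem L212990 : sm ge N19815 = N19707 := ded_35_1 (flp_f L211868) L209605 (flp_f L208781) (flp_e L211255) L212984
theorem L212992 : sm gg N19815 = N19815 := ded_39_2 (flp_f L212984) (flp_g L211251) L208772 L211251 L212984
theorem L212993 : sm gg N19649 = N19816 := rfl
theorem L212995 : sm ga N19816 = N19743 := ded_14_1 (flp_g L212199) (flp_a L211261) L212993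
theorem L212997 : sm gc N19816 = N19722 := ded_27_1 (flp_g L212018) (flp_c L211263) L212993
theorem L212999 : sm gd N19816 = N19654 := ded_32_1 (flp_g L211317) (flp_d L211269) L212993
theorem L213001 : sm ge N19816 = N19650 := ded_36_1 (flp_g L211272) L211259 L212993
theorem L213003 : sm gh N19816 = N19697 := ded_42_2 (flp_g L211777) (flp_h L211265) L212993
theorem L213005 : sm gi N19816 = N19716 := ded_43_2 (flp_g L211949) (flp_i L211267) L212993
theorem L213007 : sm gg N19652 = N19817 := rfl
theorem L213009 : sm gb N19817 = N19654 := ded_21_1 (flp_g L211317) (flp_b L211298) L213007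
theorem L213011 : sm gc N19817 = N19794 := ded_27_1 (flp_g L212758) (flp_c L211300) L213007
theorem L213013 : sm ge N19817 = N19653 := ded_36_1 (flp_g L211305) L211296 L213007
theorem L213015 : sm gh N19817 = N19739 := ded_42_2 (flp_g L212160) (flp_h L211302) L213007
theorem L213017 : sm gf N19654 = N19818 := rfl
theorem L213019 : sm gc N19818 = N19655 := ded_26_1 (flp_f L211323) (flp_c L211319) L213017
theorem L213021 : sm gg N19818 = N19818 := ded_39_2 (flp_f L213017) (flp_g L211317) L208841 L211317 L213017
theorem L213022 : sm gf N19658 = N19819 := rfl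
theorem L213024 : sm ga N19819 = N19675 := ded_13_1 (flp_f L211531) (flp_a L211354) L213022
theorem L213026 : sm gc N19819 = N19797 := ded_26_1 (flp_f L212793) (flp_c L211356) L213022
theorem L213028 : sm gh N19819 = N19750 := ded_40_2 (flp_f L212263) (flp_h L211360) L213022
theorem L213030 : sm gg N19819 = N19819 := ded_39_2 (flp_f L213022) (flp_g L211352) L208912 L211352 L213022
theorem L213031 : sm gf N19659 = N19820 := rfl
theorem L213033 : sm ga N19820 = N19734 := ded_13_1 (flp_f L212114) (flp_a L211364) L213031
theorem L213035 : sm gb N19820 = N19698 := ded_20_1 (flp_f L211783) (flp_b L211366) L213031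
theorem L213037 : sm ge N19820 = N19672 := ded_35_1 (flp_f L211502) L209104 (flp_f L208938) (flp_e L211368) L213031
theorem L213039 : sm gg N19820 = N19820 := ded_39_2 (flp_f L213031) (flp_g L211362) L208929 L211362 L213031
theorem L213040 : sm gg N19660 = N19821 := rfl
theorem L213042 : sm ga N19821 = N19669 := ded_14_1 (flp_g L211479) (flp_a L211372) L213040
theorem L213044 : sm gc N19821 = N19769 := ded_27_1 (flp_g L212483) (flp_c L211374) L213040
theorem L213046 : sm gd N19821 = N19776 := ded_32_1 (flp_g L212562) (flp_d L211378) L213040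
theorem L213048 : sm ge N19821 = N19661 := ded_36_1 (flp_g L211381) L211370 L213040
theorem L213050 : sm gi N19821 = N19663 := ded_43_2 (flp_g L211403) (flp_i L211376) L213040
theorem L213052 : sm gh N19660 = N19822 := rfl
theorem L213054 : sm ga N19822 = N19670 := ded_15_1 (flp_h L211487) (flp_a L211372) L213052
theorem L213056 : sm gc N19822 = N19770 := ded_28_1 (flp_h L212495) (flp_c L211374) L213052
theorem L213058 : sm ge N19822 = N19662 := ded_37_1 (flp_h L211393) L211370 L213052
theorem L213060 : sm gf N19822 = N19822 := ded_40_1 (flp_h L213052) L211380 L213052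
theorem L213061 : sm gd N19822 = N19723 := ded_33_1 L212032 L211019 (flp_h L210658) (flp_d L211378) L213052
theorem L213063 : sm gh N19661 = N19823 := rfl
theorem L213065 : sm ga N19823 = N19671 := ded_15_1 (flp_h L211494) (flp_a L211383) L213063
theorem L213067 : sm gc N19823 = N19771 := ded_28_1 (flp_h L212508) (flp_c L211385) L213063
theorem L213069 : sm gf N19823 = N19732 := ded_40_1 (flp_h L212102) (flp_f L211391) L213063
theorem L213071 : sm gg N19823 = N19662 := ded_42_1 (flp_h L211393) L211381 L213063
theorem L213073 : sm gd N19823 = N19753 := ded_33_1 (flp_h L212281) L210177 (flp_h L208983) (flp_d L211387) L213063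
theorem L213075 : sm gf N19663 = N19824 := rfl
theorem L213077 : sm ga N19824 = N19672 := ded_13_1 (flp_f L211502) (flp_a L211405) L213075
theorem L213079 : sm gc N19824 = N19820 := ded_26_1 (flp_f L213031) (flp_c L211407) L213075
theorem L213081 : sm ge N19824 = N19734 := ded_35_1 (flp_f L212114) L209903 (flp_f L209004) (flp_e L211409) L213075
theorem L213083 : sm gg N19824 = N19824 := ded_39_2 (flp_f L213075) (flp_g L211403) L208995 L211403 L213075
theorem L213084 : sm gg N19664 = N19825 := rfl
theorem L213086 : sm ga N19825 = N19779 := ded_14_1 (flp_g L212599) (flp_a L211413) L213084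
theorem L213088 : sm gb N19825 = N19796 := ded_21_1 (flp_g L212783) (flp_b L211415) L213084
theorem L213090 : sm gc N19825 = N19668 := ded_27_1 (flp_g L211471) (flp_c L211417) L213084
theorem L213092 : sm gd N19825 = N19766 := ded_32_1 (flp_g L212452) (flp_d L211423) L213084
theorem L213094 : sm ge N19825 = N19665 := ded_36_1 (flp_g L211426) L211411 L213084
theorem L213096 : sm gh N19825 = N19749 := ded_42_2 (flp_g L212255) (flp_h L211419) L213084
theorem L213098 : sm gi N19825 = N19765 := ded_43_2 (flp_g L212440) (flp_i L211421) L213084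
theorem L213100 : sm gg N19666 = N19826 := rfl
theorem L213102 : sm ga N19826 = N19776 := ded_14_1 (flp_g L212562) (flp_a L211442) L213100
theorem L213104 : sm gb N19826 = N19749 := ded_21_1 (flp_g L212255) (flp_b L211444) L213100
theorem L213106 : sm gc N19826 = N19765 := ded_27_1 (flp_g L212440) (flp_c L211446) L213100
theorem L213108 : sm gd N19826 = N19669 := ded_32_1 (flp_g L211479) (flp_d L211452) L213100
theorem L213110 : sm ge N19826 = N19667 := ded_36_1 (flp_g L211455) L211440 L213100
theorem L213112 : sm gh N19826 = N19796 := ded_42_2 (flp_g L212783) (flp_h L211448) L213100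
theorem L213114 : sm gi N19826 = N19668 := ded_43_2 (flp_g L211471) (flp_i L211450) L213100
theorem L213116 : sm gf N19668 = N19827 := rfl
theorem L213118 : sm gb N19827 = N19750 := ded_20_1 (flp_f L212263) (flp_b L211473) L213116
theorem L213120 : sm gd N19827 = N19672 := ded_31_1 (flp_f L211502) (flp_d L211475) L213116
theorem L213122 : sm gg N19827 = N19827 := ded_39_2 (flp_f L213116) (flp_g L211471) L209070 L211471 L213116
theorem L213123 : sm gf N19669 = N19828 := rfl
theorem L213125 : sm gb N19828 = N19751 := ded_20_1 (flp_f L212268) (flp_b L211481) L213123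
theorem L213127 : sm gi N19828 = N19672 := ded_41_2 (flp_f L211502) (flp_i L211485) L213123
theorem L213129 : sm gg N19828 = N19828 := ded_39_2 (flp_f L213123) (flp_g L211479) L209083 L211479 L213123
theorem L213130 : sm gh N19669 = N19829 := rfl
theorem L213132 : sm gb N19829 = N19752 := ded_22_1 (flp_h L212273) (flp_b L211481) L213130
theorem L213134 : sm ge N19829 = N19671 := ded_37_1 (flp_h L211494) (flp_e L211483) L213130
theorem L213136 : sm gg N19829 = N19670 := ded_42_1 (flp_h L211487) L211479 L213130
theorem L213138 : sm gf N19673 = N19830 := rfl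
theorem L213140 : sm gd N19830 = N19675 := ded_31_1 (flp_f L211531) (flp_d L211509) L213138
theorem L213142 : sm gi N19830 = N19819 := ded_41_2 (flp_f L213022) (flp_i L211513) L213138
theorem L213144 : sm gg N19830 = N19830 := ded_39_2 (flp_f L213138) (flp_g L211507) L209112 L211507 L213138
theorem L213145 : sm gf N19674 = N19831 := rfl
theorem L213147 : sm ga N19831 = N19830 := ded_13_1 (flp_f L213138) (flp_a L211517) L213145
theorem L213149 : sm gb N19831 = N19815 := ded_20_1 (flp_f L212984) (flp_b L211519) L213145
theorem L213151 : sm gc N19831 = N19808 := ded_26_1 (flp_f L212909) (flp_c L211521) L213145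
theorem L213153 : sm gd N19831 = N19819 := ded_31_1 (flp_f L213022) (flp_d L211523) L213145
theorem L213155 : sm gh N19831 = N19783 := ded_40_2 (flp_f L212646) (flp_h L211527) L213145
theorem L213157 : sm gi N19831 = N19675 := ded_41_2 (flp_f L211531) (flp_i L211529) L213145
theorem L213159 : sm ge N19831 = N19758 := ded_35_1 (flp_f L212346) L210291 (flp_f L209148) (flp_e L211525) L213145
theorem L213161 : sm gg N19831 = N19831 := ded_39_2 (flp_f L213145) (flp_g L211515) L209133 L211515 L213145
theorem L213162 : sm gg N19676 = N19832 := rfl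
theorem L213164 : sm ga N19832 = N19678 := ded_14_1 (flp_g L211562) (flp_a L211538) L213162
theorem L213166 : sm gb N19832 = N19753 := ded_21_1 L212289 (flp_b L211540) L213162
theorem L213168 : sm gc N19832 = N19686 := ded_27_1 (flp_g L211656) (flp_c L211542) L213162
theorem L213170 : sm ge N19832 = N19812 := ded_36_1 L212959 (flp_e L211548) L213162
theorem L213172 : sm gh N19832 = N19738 := ded_42_2 L212158 (flp_h L211544) L213162
theorem L213174 : sm gi N19832 = N19681 := ded_43_2 (flp_g L211603) (flp_i L211546) L213162
theorem L213176 : sm gf N19832 = N19740 := ded_39_1 (flp_g L212170) (flp_f L210005) (flp_g L209178) L211536 L213162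
theorem L213178 : sm ge N19677 = N19833 := rfl
theorem L213180 : sm gb N19833 = N19679 := ded_19_1 (flp_e L211576) (flp_b L211552) L213178
theorem L213182 : sm gc N19833 = N19803 := ded_25_1 L212863 (flp_c L211554) L213178
theorem L213184 : sm gh N19833 = N19720 := ded_37_2 (flp_e L212003) (flp_h L211558) L213178
theorem L213186 : sm gi N19833 = N19682 := ded_38_2 (flp_e L211613) (flp_i L211560) L213178
theorem L213188 : sm gd N19833 = N19787 := ded_30_1 L212690 L210812 (flp_e L209207) (flp_d L211556) L213178
theorem L213190 : sm gf N19833 = N19833 := ded_35_2 (flp_e L213178) (flp_f L211550) L209194 L211550 L213178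
theorem L213191 : sm gg N19677 = N19834 := rfl
theorem L213193 : sm gb N19834 = N19680 := ded_21_1 (flp_g L211589) (flp_b L211552) L213191
theorem L213195 : sm gc N19834 = N19804 := ded_27_1 L212876 (flp_c L211554) L213191
theorem L213197 : sm gd N19834 = N19678 := ded_32_1 (flp_g L211562) (flp_d L211556) L213191
theorem L213199 : sm gh N19834 = N19721 := ded_42_2 (flp_g L212010) (flp_h L211558) L213191
theorem L213201 : sm gi N19834 = N19683 := ded_43_2 (flp_g L211624) (flp_i L211560) L213191
theorem L213203 : sm gf N19834 = N19742 := ded_39_1 (flp_g L212189) (flp_f L210015) (flp_g L209188) L211550 L213191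
theorem L213205 : sm gg N19679 = N19835 := rfl
theorem L213207 : sm ga N19835 = N19752 := ded_14_1 L212277 (flp_a L211578) L213205
theorem L213209 : sm gc N19835 = N19697 := ded_27_1 (flp_g L211777) (flp_c L211580) L213205
theorem L213211 : sm gd N19835 = N19790 := ded_32_1 L212720 (flp_d L211586) L213205
theorem L213213 : sm ge N19835 = N19680 := ded_36_1 (flp_g L211589) L211576 L213205
theorem L213215 : sm gh N19835 = N19722 := ded_42_2 (flp_g L212018) (flp_h L211582) L213205
theorem L213217 : sm gi N19835 = N19684 := ded_43_2 (flp_g L211636) (flp_i L211584) L213205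
theorem L213219 : sm gg N19682 = N19836 := rfl
theorem L213221 : sm gb N19836 = N19684 := ded_21_1 (flp_g L211636) (flp_b L211615) L213219
theorem L213223 : sm gc N19836 = N19802 := ded_27_1 L212851 (flp_c L211617) L213219
theorem L213225 : sm gd N19836 = N19829 := ded_32_1 L213136 (flp_d L211621) L213219
theorem L213227 : sm ge N19836 = N19683 := ded_36_1 (flp_g L211624) L211613 L213219
theorem L213229 : sm gh N19836 = N19798 := ded_42_2 (flp_g L212800) (flp_h L211619) L213219
theorem L213231 : sm gf N19684 = N19837 := rfl
theorem L213233 : sm gc N19837 = N19698 := ded_26_1 (flp_f L211783) (flp_c L211638) L213231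
theorem L213235 : sm ge N19837 = N19747 := ded_35_1 (flp_f L212236) L210087 (flp_f L209274) (flp_e L211640) L213231
theorem L213237 : sm gg N19837 = N19837 := ded_39_2 (flp_f L213231) (flp_g L211636) L209267 L211636 L213231
theorem L213238 : sm ge N19687 = N19838 := rfl
theorem L213240 : sm ga N19838 = N19727 := ded_12_1 (flp_e L212056) (flp_a L211668) L213238
theorem L213242 : sm gb N19838 = N19689 := ded_19_1 (flp_e L211694) (flp_b L211670) L213238
theorem L213244 : sm gh N19838 = N19741 := ded_37_2 (flp_e L212180) (flp_h L211674) L213238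
theorem L213246 : sm gi N19838 = N19691 := ded_38_2 (flp_e L211719) (flp_i L211676) L213238
theorem L213248 : sm gd N19838 = N19736 := ded_30_1 L212133 L209926 (flp_e L209383) (flp_d L211672) L213238
theorem L213250 : sm gf N19838 = N19838 := ded_35_2 (flp_e L213238) (flp_f L211666) L209368 L211666 L213238
theorem L213251 : sm gg N19687 = N19839 := rfl
theorem L213253 : sm ga N19839 = N19728 := ded_14_1 (flp_g L212063) (flp_a L211668) L213251
theorem L213255 : sm gb N19839 = N19690 := ded_21_1 (flp_g L211705) (flp_b L211670) L213251
theorem L213257 : sm gd N19839 = N19688 := ded_32_1 (flp_g L211678) (flp_d L211672) L213251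
theorem L213259 : sm gh N19839 = N19742 := ded_42_2 (flp_g L212189) (flp_h L211674) L213251
theorem L213261 : sm gi N19839 = N19692 := ded_43_2 (flp_g L211730) (flp_i L211676) L213251
theorem L213263 : sm gf N19839 = N19721 := ded_39_1 (flp_g L212010) (flp_f L209778) (flp_g L209364) L211666 L213251
theorem L213265 : sm gg N19689 = N19840 := rfl
theorem L213267 : sm ga N19840 = N19697 := ded_14_1 (flp_g L211777) (flp_a L211696) L213265
theorem L213269 : sm gc N19840 = N19752 := ded_27_1 L212277 (flp_c L211698) L213265
theorem L213271 : sm ge N19840 = N19690 := ded_36_1 (flp_g L211705) L211694 L213265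
theorem L213273 : sm gh N19840 = N19743 := ded_42_2 (flp_g L212199) (flp_h L211700) L213265
theorem L213275 : sm gi N19840 = N19693 := ded_43_2 (flp_g L211742) (flp_i L211702) L213265
theorem L213277 : sm gg N19691 = N19841 := rfl
theorem L213279 : sm ga N19841 = N19733 := ded_14_1 (flp_g L212108) (flp_a L211721) L213277
theorem L213281 : sm gb N19841 = N19693 := ded_21_1 (flp_g L211742) (flp_b L211723) L213277
theorem L213283 : sm gd N19841 = N19735 := ded_32_1 L212125 (flp_d L211727) L213277
theorem L213285 : sm ge N19841 = N19692 := ded_36_1 (flp_g L211730) L211719 L213277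
theorem L213287 : sm gh N19841 = N19696 := ded_42_2 (flp_g L211771) (flp_h L211725) L213277
theorem L213289 : sm gf N19693 = N19842 := rfl
theorem L213291 : sm ga N19842 = N19698 := ded_13_1 (flp_f L211783) (flp_a L211744) L213289
theorem L213293 : sm ge N19842 = N19726 := ded_35_1 (flp_f L212051) L209834 (flp_f L209444) (flp_e L211746) L213289
theorem L213295 : sm gg N19842 = N19842 := ded_39_2 (flp_f L213289) (flp_g L211742) L209437 L211742 L213289
theorem L213296 : sm gg N19694 = N19843 := rfl
theorem L213298 : sm ga N19843 = N19772 := ded_14_1 (flp_g L212522) (flp_a L211750) L213296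
theorem L213300 : sm gc N19843 = N19696 := ded_27_1 (flp_g L211771) (flp_c L211752) L213296
theorem L213302 : sm gd N19843 = N19840 := ded_32_1 (flp_g L213265) (flp_d L211756) L213296
theorem L213304 : sm ge N19843 = N19695 := ded_36_1 (flp_g L211759) L211748 L213296
theorem L213306 : sm gi N19843 = N19799 := ded_43_2 (flp_g L212812) (flp_i L211754) L213296
theorem L213308 : sm gf N19696 = N19844 := rfl
theorem L213310 : sm gd N19844 = N19698 := ded_31_1 (flp_f L211783) (flp_d L211773) L213308
theorem L213312 : sm gg N19844 = N19844 := ded_39_2 (flp_f L213308) (flp_g L211771) L209474 L211771 L213308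
theorem L213313 : sm gf N19697 = N19845 := rfl
theorem L213315 : sm gi N19845 = N19698 := ded_41_2 (flp_f L211783) (flp_i L211781) L213313
theorem L213317 : sm ge N19845 = N19751 := ded_35_1 (flp_f L212268) L210151 (flp_f L209490) (flp_e L211779) L213313
theorem L213319 : sm gg N19845 = N19845 := ded_39_2 (flp_f L213313) (flp_g L211777) L209483 L211777 L213313
theorem L213320 : sm ge N19699 = N19846 := rfl
theorem L213322 : sm ga N19846 = N19701 := ded_12_1 (flp_e L211812) (flp_a L211790) L213320
theorem L213324 : sm gb N19846 = N19780 := ded_19_1 (flp_e L212611) (flp_b L211792) L213320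
theorem L213326 : sm gc N19846 = N19709 := ded_25_1 L211883 (flp_c L211794) L213320
theorem L213328 : sm gh N19846 = N19805 := ded_37_2 (flp_e L212878) (flp_h L211798) L213320
theorem L213330 : sm gi N19846 = N19705 := ded_38_2 L211855 (flp_i L211800) L213320
theorem L213332 : sm gf N19846 = N19846 := ded_35_2 (flp_e L213320) (flp_f L211788) L209534 L211788 L213320
theorem L213333 : sm gg N19699 = N19847 := rfl
theorem L213335 : sm ga N19847 = N19702 := ded_14_1 (flp_g L211819) (flp_a L211790) L213333
theorem L213337 : sm gb N19847 = N19781 := ded_21_1 (flp_g L212622) (flp_b L211792) L213333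
theorem L213339 : sm gc N19847 = N19710 := ded_27_1 L211894 (flp_c L211794) L213333
theorem L213341 : sm gd N19847 = N19700 := ded_32_1 (flp_g L211802) (flp_d L211796) L213333
theorem L213343 : sm gh N19847 = N19806 := ded_42_2 (flp_g L212889) (flp_h L211798) L213333
theorem L213345 : sm gi N19847 = N19706 := ded_43_2 L211864 (flp_i L211800) L213333
theorem L213347 : sm gg N19701 = N19848 := rfl
theorem L213349 : sm gb N19848 = N19704 := ded_21_1 (flp_g L211841) (flp_b L211814) L213347
theorem L213351 : sm ge N19848 = N19702 := ded_36_1 (flp_g L211819) L211812 L213347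
theorem L213353 : sm gi N19848 = N19817 := ded_43_2 (flp_g L213007) (flp_i L211816) L213347
theorem L213355 : sm gh N19701 = N19849 := rfl
theorem L213357 : sm ga N19849 = N19805 := ded_15_1 (flp_h L213328) L213322 L213355
theorem L213359 : sm gb N19849 = N19705 := ded_22_1 (flp_h L211849) (flp_b L211814) L213355
theorem L213361 : sm gc N19849 = N19777 := ded_28_1 L212578 L212313 L213355
theorem L213363 : sm ge N19849 = N19703 := ded_37_1 (flp_h L211827) L211812 L213355
theorem L213365 : sm gf N19849 = N19849 := ded_40_1 (flp_h L213355) L211818 L213355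
theorem L213366 : sm gi N19849 = N19780 := ded_44_2 L212617 L211234 (flp_h L211302) (flp_i L211816) L213355
theorem L213368 : sm gh N19702 = N19850 := rfl
theorem L213370 : sm ga N19850 = N19806 := ded_15_1 (flp_h L213343) L213335 L213368
theorem L213372 : sm gb N19850 = N19706 := ded_22_1 (flp_h L211858) (flp_b L211821) L213368
theorem L213374 : sm gc N19850 = N19778 := ded_28_1 L212593 L212326 L213368
theorem L213376 : sm gf N19850 = N19847 := ded_40_1 L213343 L212899 L213368
theorem L213378 : sm gg N19850 = N19703 := ded_42_1 (flp_h L211827) L211819 L213368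
theorem L213380 : sm gd N19850 = N19811 := ded_33_1 L212943 L211981 L209735 (flp_d L211823) L213368
theorem L213382 : sm gi N19850 = N19781 := ded_44_2 L212630 L211247 (flp_h L211313) (flp_i L211825) L213368
theorem L213384 : sm gf N19704 = N19851 := rfl
theorem L213386 : sm gc N19851 = N19707 := ded_26_1 (flp_f L211868) (flp_c L211843) L213384
theorem L213388 : sm gi N19851 = N19818 := ded_41_2 (flp_f L213017) (flp_i L211847) L213384
theorem L213390 : sm gg N19851 = N19851 := ded_39_2 (flp_f L213384) (flp_g L211841) L209584 L211841 L213384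
theorem L213391 : sm gh N19704 = N19852 := rfl
theorem L213393 : sm ga N19852 = N19817 := ded_15_1 L213015 L212162 L213391
theorem L213395 : sm gc N19852 = N19708 := ded_28_1 (flp_h L211873) (flp_c L211843) L213391
theorem L213397 : sm ge N19852 = N19706 := ded_37_1 (flp_h L211858) (flp_e L211845) L213391
theorem L213399 : sm gg N19852 = N19705 := ded_42_1 (flp_h L211849) L211841 L213391
theorem L213401 : sm gh N19707 = N19853 := rfl
theorem L213403 : sm gf N19853 = N19708 := ded_40_1 (flp_h L211873) L211868 L213401
theorem L213405 : sm gg N19853 = N19853 := ded_42_1 (flp_h L213401) L211872 L213401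
theorem L213406 : sm gi N19708 = N19854 := rfl
theorem L213408 : sm gb N19854 = N19776 := ded_23_1 L212570 L212357 L213406
theorem L213410 : sm ge N19854 = N19710 := ded_38_1 (flp_i L211888) (flp_e L211875) L213406
theorem L213412 : sm gg N19854 = N19709 := ded_43_1 (flp_i L211879) (flp_g L211877) L213406
theorem L213414 : sm gh N19854 = N19807 := ded_44_1 L212907 L211129 (flp_i L209607) L211873 L213406
theorem L213416 : sm ge N19711 = N19855 := rfl
theorem L213418 : sm ga N19855 = N19714 := ded_12_1 (flp_e L211936) (flp_a L211900) L213416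
theorem L213420 : sm gb N19855 = N19744 := ded_19_1 (flp_e L212207) (flp_b L211902) L213416
theorem L213422 : sm gc N19855 = N19787 := ded_25_1 L212690 (flp_c L211904) L213416
theorem L213424 : sm gh N19855 = N19736 := ded_37_2 L212133 (flp_h L211908) L213416
theorem L213426 : sm gi N19855 = N19731 := ded_38_2 L212097 (flp_i L211910) L213416
theorem L213428 : sm gd N19855 = N19846 := ded_30_1 (flp_e L213320) L211796 (flp_e L209651) (flp_d L211906) L213416
theorem L213430 : sm gf N19855 = N19855 := ded_35_2 (flp_e L213416) (flp_f L211898) L209640 L211898 L213416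
theorem L213431 : sm gg N19711 = N19856 := rfl
theorem L213433 : sm ga N19856 = N19715 := ded_14_1 (flp_g L211943) (flp_a L211900) L213431
theorem L213435 : sm gb N19856 = N19745 := ded_21_1 (flp_g L212216) (flp_b L211902) L213431
theorem L213437 : sm gc N19856 = N19788 := ded_27_1 L212701 (flp_c L211904) L213431
theorem L213439 : sm gd N19856 = N19712 := ded_32_1 (flp_g L211912) (flp_d L211906) L213431
theorem L213441 : sm gh N19856 = N19737 := ded_42_2 L212144 (flp_h L211908) L213431
theorem L213443 : sm gi N19856 = N19732 := ded_43_2 L212106 (flp_i L211910) L213431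
theorem L213445 : sm ge N19713 = N19857 := rfl
theorem L213447 : sm ga N19857 = N19787 := ded_12_1 L212690 (flp_a L211924) L213445
theorem L213449 : sm gb N19857 = N19723 := ded_19_1 (flp_e L212026) (flp_b L211926) L213445
theorem L213451 : sm gc N19857 = N19714 := ded_25_1 (flp_e L211936) (flp_c L211928) L213445
theorem L213453 : sm gh N19857 = N19784 := ded_37_2 (flp_e L212651) (flp_h L211932) L213445
theorem L213455 : sm gi N19857 = N19822 := ded_38_2 L213058 (flp_i L211934) L213445
theorem L213457 : sm gf N19857 = N19857 := ded_35_2 (flp_e L213445) (flp_f L211922) L209657 L211922 L213445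
theorem L213458 : sm gg N19713 = N19858 := rfl
theorem L213460 : sm ga N19858 = N19788 := ded_14_1 L212701 (flp_a L211924) L213458
theorem L213462 : sm gb N19858 = N19724 := ded_21_1 (flp_g L212035) (flp_b L211926) L213458
theorem L213464 : sm gc N19858 = N19715 := ded_27_1 (flp_g L211943) (flp_c L211928) L213458
theorem L213466 : sm gd N19858 = N19812 := ded_32_1 L212959 (flp_d L211930) L213458
theorem L213468 : sm gh N19858 = N19785 := ded_42_2 (flp_g L212664) (flp_h L211932) L213458
theorem L213470 : sm gi N19858 = N19823 := ded_43_2 L213071 (flp_i L211934) L213458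
theorem L213472 : sm gf N19858 = N19856 := ded_39_1 (flp_g L213431) (flp_f L211898) (flp_g L209658) L211922 L213458
theorem L213474 : sm gg N19714 = N19859 := rfl
theorem L213476 : sm gb N19859 = N19716 := ded_21_1 (flp_g L211949) (flp_b L211938) L213474
theorem L213478 : sm gd N19859 = N19848 := ded_32_1 (flp_g L213347) (flp_d L211940) L213474
theorem L213480 : sm ge N19859 = N19715 := ded_36_1 (flp_g L211943) L211936 L213474
theorem L213482 : sm gf N19716 = N19860 := rfl
theorem L213484 : sm ga N19860 = N19747 := ded_13_1 (flp_f L212236) (flp_a L211951) L213482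
theorem L213486 : sm gc N19860 = N19726 := ded_26_1 (flp_f L212051) (flp_c L211953) L213482
theorem L213488 : sm gd N19860 = N19851 := ded_31_1 (flp_f L213384) (flp_d L211955) L213482
theorem L213490 : sm gg N19860 = N19860 := ded_39_2 (flp_f L213482) (flp_g L211949) L209690 L211949 L213482
theorem L213491 : sm ge N19719 = N19861 := rfl
theorem L213493 : sm ga N19861 = N19833 := ded_12_1 (flp_e L213178) (flp_a L211991) L213491
theorem L213495 : sm gb N19861 = N19822 := ded_19_1 L213058 (flp_b L211993) L213491
theorem L213497 : sm gc N19861 = N19720 := ded_25_1 (flp_e L212003) (flp_c L211995) L213491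
theorem L213499 : sm gh N19861 = N19803 := ded_37_2 L212863 (flp_h L211999) L213491
theorem L213501 : sm gi N19861 = N19723 := ded_38_2 (flp_e L212026) (flp_i L212001) L213491
theorem L213503 : sm gd N19861 = N19857 := ded_30_1 (flp_e L213445) L211930 (flp_e L211548) (flp_d L211997) L213491
theorem L213505 : sm gf N19861 = N19861 := ded_35_2 (flp_e L213491) (flp_f L211989) L209769 L211989 L213491
theorem L213506 : sm gg N19719 = N19862 := rfl
theorem L213508 : sm ga N19862 = N19834 := ded_14_1 (flp_g L213191) (flp_a L211991) L213506
theorem L213510 : sm gb N19862 = N19823 := ded_21_1 L213071 (flp_b L211993) L213506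
theorem L213512 : sm gc N19862 = N19721 := ded_27_1 (flp_g L212010) (flp_c L211995) L213506
theorem L213514 : sm gd N19862 = N19832 := ded_32_1 (flp_g L213162) (flp_d L211997) L213506
theorem L213516 : sm gh N19862 = N19804 := ded_42_2 L212876 (flp_h L211999) L213506
theorem L213518 : sm gi N19862 = N19724 := ded_43_2 (flp_g L212035) (flp_i L212001) L213506
theorem L213520 : sm gg N19720 = N19863 := rfl
theorem L213522 : sm gb N19863 = N19722 := ded_21_1 (flp_g L212018) (flp_b L212005) L213520
theorem L213524 : sm ge N19863 = N19721 := ded_36_1 (flp_g L212010) L212003 L213520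
theorem L213526 : sm gi N19863 = N19725 := ded_43_2 (flp_g L212045) (flp_i L212007) L213520
theorem L213528 : sm gf N19722 = N19864 := rfl
theorem L213530 : sm ga N19864 = N19751 := ded_13_1 (flp_f L212268) (flp_a L212020) L213528
theorem L213532 : sm gi N19864 = N19726 := ded_41_2 (flp_f L212051) (flp_i L212024) L213528
theorem L213534 : sm gg N19864 = N19864 := ded_39_2 (flp_f L213528) (flp_g L212018) L209800 L212018 L213528
theorem L213535 : sm gg N19723 = N19865 := rfl
theorem L213537 : sm ga N19865 = N19836 := ded_14_1 (flp_g L213219) (flp_a L212028) L213535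
theorem L213539 : sm gc N19865 = N19725 := ded_27_1 (flp_g L212045) (flp_c L212030) L213535
theorem L213541 : sm ge N19865 = N19724 := ded_36_1 (flp_g L212035) L212026 L213535
theorem L213543 : sm gh N19865 = N19800 := ded_42_2 (flp_g L212826) (flp_h L212032) L213535
theorem L213545 : sm gf N19725 = N19866 := rfl
theorem L213547 : sm gb N19866 = N19726 := ded_20_1 (flp_f L212051) (flp_b L212047) L213545
theorem L213549 : sm gg N19866 = N19866 := ded_39_2 (flp_f L213545) (flp_g L212045) L209823 L212045 L213545
theorem L213550 : sm gg N19727 = N19867 := rfl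
theorem L213552 : sm gb N19867 = N19730 := ded_21_1 (flp_g L212085) (flp_b L212058) L213550
theorem L213554 : sm ge N19867 = N19728 := ded_36_1 (flp_g L212063) L212056 L213550
theorem L213556 : sm gi N19867 = N19733 := ded_43_2 (flp_g L212108) (flp_i L212060) L213550
theorem L213558 : sm gh N19727 = N19868 := rfl
theorem L213560 : sm ga N19868 = N19741 := ded_15_1 (flp_h L213244) L213240 L213558
theorem L213562 : sm gb N19868 = N19731 := ded_22_1 (flp_h L212093) (flp_b L212058) L213558
theorem L213564 : sm gc N19868 = N19838 := ded_28_1 L213244 L212184 L213558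
theorem L213566 : sm ge N19868 = N19729 := ded_37_1 (flp_h L212071) L212056 L213558
theorem L213568 : sm gf N19868 = N19868 := ded_40_1 (flp_h L213558) L212062 L213558
theorem L213569 : sm gd N19868 = N19849 := ded_33_1 (flp_h L213355) (flp_d L211940) (flp_h L212371) L212375 L213558
theorem L213571 : sm gi N19868 = N19744 := ded_44_2 L212213 L211754 L210992 (flp_i L212060) L213558
theorem L213573 : sm gh N19728 = N19869 := rfl
theorem L213575 : sm ga N19869 = N19742 := ded_15_1 (flp_h L213259) L213253 L213573
theorem L213577 : sm gb N19869 = N19732 := ded_22_1 (flp_h L212102) (flp_b L212065) L213573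
theorem L213579 : sm gc N19869 = N19839 := ded_28_1 L213259 L212193 L213573
theorem L213581 : sm gf N19869 = N19862 := ded_40_1 L213516 L212874 L213573
theorem L213583 : sm gg N19869 = N19729 := ded_42_1 (flp_h L212071) L212063 L213573
theorem L213585 : sm gd N19869 = N19740 := ded_33_1 L212176 L211662 L210381 (flp_d L212067) L213573
theorem L213587 : sm gi N19869 = N19745 := ded_44_2 L212224 L211767 L211007 (flp_i L212069) L213573
theorem L213589 : sm gf N19730 = N19870 := rfl
theorem L213591 : sm gc N19870 = N19828 := ded_26_1 (flp_f L213123) (flp_c L212087) L213589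
theorem L213593 : sm gi N19870 = N19734 := ded_41_2 (flp_f L212114) (flp_i L212091) L213589
theorem L213595 : sm gg N19870 = N19870 := ded_39_2 (flp_f L213589) (flp_g L212085) L209873 L212085 L213589
theorem L213596 : sm gh N19730 = N19871 := rfl
theorem L213598 : sm gc N19871 = N19829 := ded_28_1 (flp_h L213130) (flp_c L212087) L213596
theorem L213600 : sm ge N19871 = N19732 := ded_37_1 (flp_h L212102) (flp_e L212089) L213596
theorem L213602 : sm gg N19871 = N19731 := ded_42_1 (flp_h L212093) L212085 L213596
theorem L213604 : sm gd N19871 = N19852 := ded_33_1 (flp_h L213391) (flp_d L211955) (flp_h L212402) L212398 L213596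
theorem L213606 : sm gf N19733 = N19872 := rfl
theorem L213608 : sm gb N19872 = N19734 := ded_20_1 (flp_f L212114) (flp_b L212110) L213606
theorem L213610 : sm gg N19872 = N19872 := ded_39_2 (flp_f L213606) (flp_g L212108) L209892 L212108 L213606
theorem L213611 : sm gh N19734 = N19873 := rfl
theorem L213613 : sm gc N19873 = N19792 := ded_28_1 L212742 (flp_c L212116) L213611
theorem L213615 : sm gf N19873 = N19735 := ded_40_1 (flp_h L212119) L212114 L213611
theorem L213617 : sm gg N19873 = N19873 := ded_42_1 (flp_h L213611) L212118 L213611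
theorem L213618 : sm gi N19735 = N19874 := rfl
theorem L213620 : sm gb N19874 = N19843 := ded_23_1 L213306 L212816 L213618
theorem L213622 : sm gc N19874 = N19786 := ded_29_1 L212684 (flp_c L212121) L213618
theorem L213624 : sm ge N19874 = N19737 := ded_38_1 (flp_i L212136) (flp_e L212123) L213618
theorem L213626 : sm gg N19874 = N19736 := ded_43_1 (flp_i L212127) (flp_g L212125) L213618
theorem L213628 : sm gf N19739 = N19875 := rfl
theorem L213630 : sm ga N19875 = N19851 := ded_13_1 (flp_f L213384) (flp_a L212162) L213628
theorem L213632 : sm gc N19875 = N19813 := ded_26_1 (flp_f L212963) (flp_c L212164) L213628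
theorem L213634 : sm gd N19875 = N19747 := ded_31_1 (flp_f L212236) (flp_d L212166) L213628
theorem L213636 : sm ge N19875 = N19818 := ded_35_1 (flp_f L213017) L211321 (flp_f L210003) (flp_e L212168) L213628
theorem L213638 : sm gg N19875 = N19875 := ded_39_2 (flp_f L213628) (flp_g L212160) L209994 L212160 L213628
theorem L213639 : sm gg N19741 = N19876 := rfl
theorem L213641 : sm gb N19876 = N19743 := ded_21_1 (flp_g L212199) (flp_b L212182) L213639
theorem L213643 : sm gc N19876 = N19867 := ded_27_1 (flp_g L213550) (flp_c L212184) L213639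
theorem L213645 : sm ge N19876 = N19742 := ded_36_1 (flp_g L212189) L212180 L213639
theorem L213647 : sm gi N19876 = N19746 := ded_43_2 (flp_g L212228) (flp_i L212186) L213639
theorem L213649 : sm gf N19743 = N19877 := rfl
theorem L213651 : sm gc N19877 = N19751 := ded_26_1 (flp_f L212268) (flp_c L212201) L213649
theorem L213653 : sm gi N19877 = N19747 := ded_41_2 (flp_f L212236) (flp_i L212205) L213649
theorem L213655 : sm gg N19877 = N19877 := ded_39_2 (flp_f L213649) (flp_g L212199) L210041 L212199 L213649
theorem L213656 : sm gg N19744 = N19878 := rfl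
theorem L213658 : sm ga N19878 = N19746 := ded_14_1 (flp_g L212228) (flp_a L212209) L213656
theorem L213660 : sm gc N19878 = N19841 := ded_27_1 (flp_g L213277) (flp_c L212211) L213656
theorem L213662 : sm ge N19878 = N19745 := ded_36_1 (flp_g L212216) L212207 L213656
theorem L213664 : sm gh N19878 = N19843 := ded_42_2 (flp_g L213296) (flp_h L212213) L213656
theorem L213666 : sm gf N19746 = N19879 := rfl
theorem L213668 : sm gb N19879 = N19747 := ded_20_1 (flp_f L212236) (flp_b L212230) L213666
theorem L213670 : sm gc N19879 = N19872 := ded_26_1 (flp_f L213606) (flp_c L212232) L213666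
theorem L213672 : sm gg N19879 = N19879 := ded_39_2 (flp_f L213666) (flp_g L212228) L210074 L212228 L213666
theorem L213673 : sm gf N19748 = N19880 := rfl
theorem L213675 : sm ga N19880 = N19793 := ded_13_1 (flp_f L212745) (flp_a L212243) L213673
theorem L213677 : sm gb N19880 = N19830 := ded_20_1 (flp_f L213138) (flp_b L212245) L213673
theorem L213679 : sm gc N19880 = N19750 := ded_26_1 (flp_f L212263) (flp_c L212247) L213673
theorem L213681 : sm gd N19880 = N19813 := ded_31_1 (flp_f L212963) (flp_d L212249) L213673
theorem L213683 : sm gh N19880 = N19797 := ded_40_2 (flp_f L212793) (flp_h L212253) L213673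
theorem L213685 : sm ge N19880 = N19819 := ded_35_1 (flp_f L213022) L211358 (flp_f L210128) (flp_e L212251) L213673
theorem L213687 : sm gg N19880 = N19880 := ded_39_2 (flp_f L213673) (flp_g L212241) L210115 L212241 L213673
theorem L213688 : sm gf N19749 = N19881 := rfl
theorem L213690 : sm gd N19881 = N19751 := ded_31_1 (flp_f L212268) (flp_d L212257) L213688
theorem L213692 : sm gi N19881 = N19750 := ded_41_2 (flp_f L212263) (flp_i L212261) L213688
theorem L213694 : sm gg N19881 = N19881 := ded_39_2 (flp_f L213688) (flp_g L212255) L210136 L212255 L213688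
theorem L213695 : sm gh N19751 = N19882 := rfl
theorem L213697 : sm gf N19882 = N19752 := ded_40_1 (flp_h L212273) L212268 L213695
theorem L213699 : sm gg N19882 = N19882 := ded_42_1 (flp_h L213695) L212272 L213695
theorem L213700 : sm gd N19837 = N19882 := ded_31_3 L213697 (flp_d L212279) L213231
theorem L213702 : sm gf N19754 = N19883 := rfl
theorem L213704 : sm ga N19883 = N19758 := ded_13_1 (flp_f L212346) (flp_a L212293) L213702
theorem L213706 : sm gb N19883 = N19819 := ded_20_1 (flp_f L213022) (flp_b L212295) L213702
theorem L213708 : sm gc N19883 = N19881 := ded_26_1 (flp_f L213688) (flp_c L212297) L213702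
theorem L213710 : sm gd N19883 = N19815 := ded_31_1 (flp_f L212984) (flp_d L212299) L213702
theorem L213712 : sm gh N19883 = N19827 := ded_40_2 (flp_f L213116) (flp_h L212303) L213702
theorem L213714 : sm gi N19883 = N19880 := ded_41_2 (flp_f L213673) (flp_i L212305) L213702
theorem L213716 : sm ge N19883 = N19830 := ded_35_1 (flp_f L213138) L211511 (flp_f L210232) (flp_e L212301) L213702
theorem L213718 : sm gg N19883 = N19883 := ded_39_2 (flp_f L213702) (flp_g L212291) L210217 L212291 L213702
theorem L213719 : sm gg N19755 = N19884 := rfl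
theorem L213721 : sm ga N19884 = N19854 := ded_14_1 L213412 (flp_a L212309) L213719
theorem L213723 : sm gb N19884 = N19757 := ded_21_1 (flp_g L212334) (flp_b L212311) L213719
theorem L213725 : sm gc N19884 = N19848 := ded_27_1 (flp_g L213347) (flp_c L212313) L213719
theorem L213727 : sm gd N19884 = N19863 := ded_32_1 (flp_g L213520) (flp_d L212317) L213719
theorem L213729 : sm ge N19884 = N19756 := ded_36_1 (flp_g L212320) L212307 L213719
theorem L213731 : sm gi N19884 = N19794 := ded_43_2 (flp_g L212758) (flp_i L212315) L213719
theorem L213733 : sm gf N19757 = N19885 := rfl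
theorem L213735 : sm ga N19885 = N19881 := ded_13_1 (flp_f L213688) (flp_a L212336) L213733
theorem L213737 : sm gc N19885 = N19758 := ded_26_1 (flp_f L212346) (flp_c L212338) L213733
theorem L213739 : sm gd N19885 = N19864 := ded_31_1 (flp_f L213528) (flp_d L212340) L213733
theorem L213741 : sm gi N19885 = N19795 := ded_41_2 (flp_f L212770) (flp_i L212344) L213733
theorem L213743 : sm ge N19885 = N19808 := ded_35_1 (flp_f L212909) L211098 (flp_f L210283) (flp_e L212342) L213733
theorem L213745 : sm gg N19885 = N19885 := ded_39_2 (flp_f L213733) (flp_g L212334) L210272 L212334 L213733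
theorem L213746 : sm gh N19758 = N19886 := rfl
theorem L213748 : sm ga N19886 = N19827 := ded_15_1 (flp_h L213712) L213704 L213746
theorem L213750 : sm gb N19886 = N19853 := ded_22_1 (flp_h L213401) (flp_b L212348) L213746
theorem L213752 : sm ge N19886 = N19783 := ded_37_1 (flp_h L213155) L213159 L213746
theorem L213754 : sm gf N19886 = N19759 := ded_40_1 (flp_h L212353) L212346 L213746
theorem L213756 : sm gg N19886 = N19886 := ded_42_1 (flp_h L213746) L212352 L213746
theorem L213757 : sm gd N19824 = N19886 := ded_11_0 L213748 L213120 (flp_a L213077)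
theorem L213759 : sm gg N19760 = N19887 := rfl
theorem L213761 : sm ga N19887 = N19874 := ded_14_1 L213626 (flp_a L212367) L213759
theorem L213763 : sm gb N19887 = N19762 := ded_21_1 (flp_g L212392) (flp_b L212369) L213759
theorem L213765 : sm gd N19887 = N19867 := ded_32_1 (flp_g L213550) (flp_d L212375) L213759
theorem L213767 : sm ge N19887 = N19761 := ded_36_1 (flp_g L212378) L212365 L213759
theorem L213769 : sm gh N19887 = N19859 := ded_42_2 (flp_g L213474) (flp_h L212371) L213759
theorem L213771 : sm gi N19887 = N19774 := ded_43_2 (flp_g L212541) (flp_i L212373) L213759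
theorem L213773 : sm gf N19762 = N19888 := rfl
theorem L213775 : sm ga N19888 = N19773 := ded_13_1 (flp_f L212534) (flp_a L212394) L213773
theorem L213777 : sm gc N19888 = N19768 := ded_26_1 (flp_f L212476) (flp_c L212396) L213773
theorem L213779 : sm gd N19888 = N19870 := ded_31_1 (flp_f L213589) (flp_d L212398) L213773
theorem L213781 : sm gh N19888 = N19860 := ded_40_2 (flp_f L213482) (flp_h L212402) L213773
theorem L213783 : sm gi N19888 = N19775 := ded_41_2 (flp_f L212553) (flp_i L212404) L213773
theorem L213785 : sm ge N19888 = N19789 := ded_35_1 (flp_f L212707) L210818 (flp_f L210369) (flp_e L212400) L213773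
theorem L213787 : sm gg N19888 = N19888 := ded_39_2 (flp_f L213773) (flp_g L212392) L210356 L212392 L213773
theorem L213788 : sm gf N19764 = N19889 := rfl
theorem L213790 : sm ga N19889 = N19775 := ded_13_1 (flp_f L212553) (flp_a L212426) L213788
theorem L213792 : sm gb N19889 = N19844 := ded_20_1 (flp_f L213308) (flp_b L212428) L213788
theorem L213794 : sm gc N19889 = N19789 := ded_26_1 (flp_f L212707) (flp_c L212430) L213788
theorem L213796 : sm gd N19889 = N19820 := ded_31_1 (flp_f L213031) (flp_d L212432) L213788
theorem L213798 : sm gh N19889 = N19842 := ded_40_2 (flp_f L213289) (flp_h L212436) L213788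
theorem L213800 : sm gi N19889 = N19773 := ded_41_2 (flp_f L212534) (flp_i L212438) L213788
theorem L213802 : sm ge N19889 = N19768 := ded_35_1 (flp_f L212476) L210541 (flp_f L210464) (flp_e L212434) L213788
theorem L213804 : sm gg N19889 = N19889 := ded_39_2 (flp_f L213788) (flp_g L212424) L210449 L212424 L213788
theorem L213805 : sm gf N19765 = N19890 := rfl
theorem L213807 : sm ga N19890 = N19783 := ded_13_1 (flp_f L212646) (flp_a L212442) L213805
theorem L213809 : sm gb N19890 = N19797 := ded_20_1 (flp_f L212793) (flp_b L212444) L213805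
theorem L213811 : sm gd N19890 = N19768 := ded_31_1 (flp_f L212476) (flp_d L212446) L213805
theorem L213813 : sm gh N19890 = N19830 := ded_40_2 (flp_f L213138) (flp_h L212450) L213805
theorem L213815 : sm ge N19890 = N19827 := ded_35_1 (flp_f L213116) L211477 (flp_f L210487) (flp_e L212448) L213805
theorem L213817 : sm gg N19890 = N19890 := ded_39_2 (flp_f L213805) (flp_g L212440) L210476 L212440 L213805
theorem L213818 : sm gf N19766 = N19891 := rfl
theorem L213820 : sm ga N19891 = N19789 := ded_13_1 (flp_f L212707) (flp_a L212454) L213818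
theorem L213822 : sm gc N19891 = N19775 := ded_26_1 (flp_f L212553) (flp_c L212456) L213818
theorem L213824 : sm gh N19891 = N19837 := ded_40_2 (flp_f L213231) (flp_h L212460) L213818
theorem L213826 : sm gi N19891 = N19768 := ded_41_2 (flp_f L212476) (flp_i L212462) L213818
theorem L213828 : sm ge N19891 = N19773 := ded_35_1 (flp_f L212534) L210605 (flp_f L210512) (flp_e L212458) L213818
theorem L213830 : sm gg N19891 = N19891 := ded_39_2 (flp_f L213818) (flp_g L212452) L210499 L212452 L213818
theorem L213831 : sm gf N19767 = N19892 := rfl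
theorem L213833 : sm ga N19892 = N19801 := ded_13_1 (flp_f L212838) (flp_a L212466) L213831
theorem L213835 : sm gb N19892 = N19768 := ded_20_1 (flp_f L212476) (flp_b L212468) L213831
theorem L213837 : sm gd N19892 = N19797 := ded_31_1 (flp_f L212793) (flp_d L212470) L213831
theorem L213839 : sm gh N19892 = N19866 := ded_40_2 (flp_f L213545) (flp_h L212474) L213831
theorem L213841 : sm ge N19892 = N19844 := ded_35_1 (flp_f L213308) L211775 (flp_f L210535) (flp_e L212472) L213831
theorem L213843 : sm gg N19892 = N19892 := ded_39_2 (flp_f L213831) (flp_g L212464) L210524 L212464 L213831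
theorem L213844 : sm gf N19769 = N19893 := rfl
theorem L213846 : sm ga N19893 = N19870 := ded_13_1 (flp_f L213589) (flp_a L212485) L213844
theorem L213848 : sm gb N19893 = N19845 := ded_20_1 (flp_f L213313) (flp_b L212487) L213844
theorem L213850 : sm gd N19893 = N19773 := ded_31_1 (flp_f L212534) (flp_d L212489) L213844
theorem L213852 : sm gi N19893 = N19820 := ded_41_2 (flp_f L213031) (flp_i L212493) L213844
theorem L213854 : sm ge N19893 = N19828 := ded_35_1 (flp_f L213123) L211483 (flp_f L210566) (flp_e L212491) L213844
theorem L213856 : sm gg N19893 = N19893 := ded_39_2 (flp_f L213844) (flp_g L212483) L210555 L212483 L213844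
theorem L213857 : sm gh N19769 = N19894 := rfl
theorem L213859 : sm ga N19894 = N19871 := ded_15_1 (flp_h L213596) (flp_a L212485) L213857
theorem L213861 : sm gb N19894 = N19816 := ded_22_1 L213003 (flp_b L212487) L213857
theorem L213863 : sm ge N19894 = N19771 := ded_37_1 (flp_h L212508) (flp_e L212491) L213857
theorem L213865 : sm gg N19894 = N19770 := ded_42_1 (flp_h L212495) L212483 L213857
theorem L213867 : sm gd N19894 = N19817 := ded_33_1 L213015 L212166 (flp_h L210607) (flp_d L212489) L213857
theorem L213869 : sm gi N19894 = N19859 := ded_44_2 (flp_h L213769) L213771 L212551 (flp_i L212493) L213857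
theorem L213871 : sm gf N19772 = N19895 := rfl
theorem L213873 : sm gb N19895 = N19773 := ded_20_1 (flp_f L212534) (flp_b L212524) L213871
theorem L213875 : sm gd N19895 = N19845 := ded_31_1 (flp_f L213313) (flp_d L212526) L213871
theorem L213877 : sm gh N19895 = N19879 := ded_40_2 (flp_f L213666) (flp_h L212530) L213871
theorem L213879 : sm gi N19895 = N19844 := ded_41_2 (flp_f L213308) (flp_i L212532) L213871
theorem L213881 : sm gg N19895 = N19895 := ded_39_2 (flp_f L213871) (flp_g L212522) L210590 L212522 L213871
theorem L213882 : sm gf N19774 = N19896 := rfl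
theorem L213884 : sm ga N19896 = N19873 := ded_13_1 L213615 (flp_a L212543) L213882
theorem L213886 : sm gb N19896 = N19775 := ded_20_1 (flp_f L212553) (flp_b L212545) L213882
theorem L213888 : sm gd N19896 = N19872 := ded_31_1 (flp_f L213606) (flp_d L212547) L213882
theorem L213890 : sm gh N19896 = N19820 := ded_40_2 (flp_f L213031) (flp_h L212551) L213882
theorem L213892 : sm ge N19896 = N19792 := ded_35_1 (flp_f L212738) L210878 (flp_f L210644) (flp_e L212549) L213882
theorem L213894 : sm gg N19896 = N19896 := ded_39_2 (flp_f L213882) (flp_g L212541) L210633 L212541 L213882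
theorem L213895 : sm gf N19776 = N19897 := rfl
theorem L213897 : sm gc N19897 = N19783 := ded_26_1 (flp_f L212646) (flp_c L212564) L213895
theorem L213899 : sm gh N19897 = N19808 := ded_40_2 (flp_f L212909) (flp_h L212568) L213895
theorem L213901 : sm gi N19897 = N19886 := ded_41_2 L213754 (flp_i L212570) L213895
theorem L213903 : sm gg N19897 = N19897 := ded_39_2 (flp_f L213895) (flp_g L212562) L210662 L212562 L213895
theorem L213904 : sm gg N19777 = N19898 := rfl
theorem L213906 : sm ga N19898 = N19807 := ded_14_1 (flp_g L212901) (flp_a L212574) L213904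
theorem L213908 : sm gb N19898 = N19779 := ded_21_1 (flp_g L212599) (flp_b L212576) L213904
theorem L213910 : sm gd N19898 = N19786 := ded_32_1 (flp_g L212678) (flp_d L212582) L213904
theorem L213912 : sm ge N19898 = N19778 := ded_36_1 (flp_g L212585) L212572 L213904
theorem L213914 : sm gh N19898 = N19884 := ded_42_2 (flp_g L213719) (flp_h L212578) L213904
theorem L213916 : sm gi N19898 = N19782 := ded_43_2 (flp_g L212634) (flp_i L212580) L213904
theorem L213918 : sm gf N19779 = N19899 := rfl
theorem L213920 : sm gc N19899 = N19886 := ded_26_1 L213754 (flp_c L212601) L213918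
theorem L213922 : sm gd N19899 = N19789 := ded_31_1 (flp_f L212707) (flp_d L212603) L213918
theorem L213924 : sm gh N19899 = N19885 := ded_40_2 (flp_f L213733) (flp_h L212607) L213918
theorem L213926 : sm gi N19899 = N19783 := ded_41_2 (flp_f L212646) (flp_i L212609) L213918
theorem L213928 : sm ge N19899 = N19897 := ded_35_1 (flp_f L213895) L212566 (flp_f L210722) (flp_e L212605) L213918
theorem L213930 : sm gg N19899 = N19899 := ded_39_2 (flp_f L213918) (flp_g L212599) L210711 L212599 L213918
theorem L213931 : sm gg N19780 = N19900 := rfl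
theorem L213933 : sm ga N19900 = N19809 := ded_14_1 (flp_g L212914) (flp_a L212613) L213931
theorem L213935 : sm gc N19900 = N19782 := ded_27_1 (flp_g L212634) (flp_c L212615) L213931
theorem L213937 : sm gd N19900 = N19878 := ded_32_1 (flp_g L213656) (flp_d L212619) L213931
theorem L213939 : sm ge N19900 = N19781 := ded_36_1 (flp_g L212622) L212611 L213931
theorem L213941 : sm gh N19900 = N19814 := ded_42_2 (flp_g L212972) (flp_h L212617) L213931
theorem L213943 : sm gf N19782 = N19901 := rfl
theorem L213945 : sm ga N19901 = N19810 := ded_13_1 (flp_f L212926) (flp_a L212636) L213943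
theorem L213947 : sm gb N19901 = N19783 := ded_20_1 (flp_f L212646) (flp_b L212638) L213943
theorem L213949 : sm gd N19901 = N19792 := ded_31_1 (flp_f L212738) (flp_d L212640) L213943
theorem L213951 : sm gh N19901 = N19815 := ded_40_2 (flp_f L212984) (flp_h L212644) L213943
theorem L213953 : sm ge N19901 = N19853 := ded_35_1 L213403 L211875 (flp_f L210755) (flp_e L212642) L213943
theorem L213955 : sm gg N19901 = N19901 := ded_39_2 (flp_f L213943) (flp_g L212634) L210744 L212634 L213943
theorem L213956 : sm gg N19784 = N19902 := rfl
theorem L213958 : sm ga N19902 = N19786 := ded_14_1 (flp_g L212678) (flp_a L212653) L213956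
theorem L213960 : sm gb N19902 = N19800 := ded_21_1 (flp_g L212826) (flp_b L212655) L213956
theorem L213962 : sm gc N19902 = N19887 := ded_27_1 (flp_g L213759) (flp_c L212657) L213956
theorem L213964 : sm gd N19902 = N19807 := ded_32_1 (flp_g L212901) (flp_d L212661) L213956
theorem L213966 : sm ge N19902 = N19785 := ded_36_1 (flp_g L212664) L212651 L213956
theorem L213968 : sm gi N19902 = N19791 := ded_43_2 (flp_g L212724) (flp_i L212659) L213956
theorem L213970 : sm gf N19786 = N19903 := rfl
theorem L213972 : sm gb N19903 = N19789 := ded_20_1 (flp_f L212707) (flp_b L212680) L213970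
theorem L213974 : sm gi N19903 = N19792 := ded_41_2 (flp_f L212738) (flp_i L212684) L213970
theorem L213976 : sm gg N19903 = N19903 := ded_39_2 (flp_f L213970) (flp_g L212678) L210797 L212678 L213970
theorem L213977 : sm gh N19786 = N19904 := rfl
theorem L213979 : sm gb N19904 = N19790 := ded_22_1 (flp_h L212712) (flp_b L212680) L213977
theorem L213981 : sm ge N19904 = N19788 := ded_37_1 (flp_h L212695) (flp_e L212682) L213977
theorem L213983 : sm gg N19904 = N19787 := ded_42_1 (flp_h L212686) L212678 L213977
theorem L213985 : sm gi N19904 = N19829 := ded_44_2 (flp_h L213130) L211485 (flp_h L210880) (flp_i L212684) L213977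
theorem L213987 : sm gh N19789 = N19905 := rfl
theorem L213989 : sm ga N19905 = N19837 := ded_15_1 (flp_h L213824) L213820 L213987
theorem L213991 : sm gc N19905 = N19842 := ded_28_1 (flp_h L213798) L213794 L213987
theorem L213993 : sm ge N19905 = N19860 := ded_37_1 (flp_h L213781) L213785 L213987
theorem L213995 : sm gf N19905 = N19790 := ded_40_1 (flp_h L212712) L212707 L213987
theorem L213997 : sm gg N19905 = N19905 := ded_42_1 (flp_h L213987) L212711 L213987
theorem L213998 : sm gi N19905 = N19882 := ded_44_2 (flp_h L213695) L212270 (flp_h L210884) (flp_i L212709) L213987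
theorem L214000 : sm gf N19791 = N19906 := rfl
theorem L214002 : sm ga N19906 = N19792 := ded_13_1 (flp_f L212738) (flp_a L212726) L214000
theorem L214004 : sm gb N19906 = N19801 := ded_20_1 (flp_f L212838) (flp_b L212728) L214000
theorem L214006 : sm gc N19906 = N19896 := ded_26_1 (flp_f L213882) (flp_c L212730) L214000
theorem L214008 : sm gd N19906 = N19810 := ded_31_1 (flp_f L212926) (flp_d L212732) L214000
theorem L214010 : sm gh N19906 = N19824 := ded_40_2 (flp_f L213075) (flp_h L212736) L214000
theorem L214012 : sm ge N19906 = N19873 := ded_35_1 L213615 L212123 (flp_f L210872) (flp_e L212734) L214000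
theorem L214014 : sm gg N19906 = N19906 := ded_39_2 (flp_f L214000) (flp_g L212724) L210859 L212724 L214000
theorem L214015 : sm gf N19794 = N19907 := rfl
theorem L214017 : sm ga N19907 = N19853 := ded_13_1 L213403 (flp_a L212760) L214015
theorem L214019 : sm gb N19907 = N19795 := ded_20_1 (flp_f L212770) (flp_b L212762) L214015
theorem L214021 : sm gd N19907 = N19866 := ded_31_1 (flp_f L213545) (flp_d L212764) L214015
theorem L214023 : sm gh N19907 = N19813 := ded_40_2 (flp_f L212963) (flp_h L212768) L214015
theorem L214025 : sm ge N19907 = N19810 := ded_35_1 (flp_f L212926) L211127 (flp_f L210920) (flp_e L212766) L214015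
theorem L214027 : sm gg N19907 = N19907 := ded_39_2 (flp_f L214015) (flp_g L212758) L210909 L212758 L214015
theorem L214028 : sm gf N19796 = N19908 := rfl
theorem L214030 : sm ga N19908 = N19808 := ded_13_1 (flp_f L212909) (flp_a L212785) L214028
theorem L214032 : sm gc N19908 = N19830 := ded_26_1 (flp_f L213138) (flp_c L212787) L214028
theorem L214034 : sm gi N19908 = N19797 := ded_41_2 (flp_f L212793) (flp_i L212791) L214028
theorem L214036 : sm ge N19908 = N19881 := ded_35_1 (flp_f L213688) L212259 (flp_f L210953) (flp_e L212789) L214028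
theorem L214038 : sm gg N19908 = N19908 := ded_39_2 (flp_f L214028) (flp_g L212783) L210942 L212783 L214028
theorem L214039 : sm gf N19798 = N19909 := rfl
theorem L214041 : sm gb N19909 = N19891 := ded_20_1 (flp_f L213818) (flp_b L212802) L214039
theorem L214043 : sm gc N19909 = N19801 := ded_26_1 (flp_f L212838) (flp_c L212804) L214039
theorem L214045 : sm gd N19909 = N19908 := ded_31_1 (flp_f L214028) (flp_d L212806) L214039
theorem L214047 : sm gi N19909 = N19892 := ded_41_2 (flp_f L213831) (flp_i L212810) L214039
theorem L214049 : sm ge N19909 = N19895 := ded_35_1 (flp_f L213871) L212528 (flp_f L210982) (flp_e L212808) L214039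
theorem L214051 : sm gg N19909 = N19909 := ded_39_2 (flp_f L214039) (flp_g L212800) L210971 L212800 L214039
theorem L214052 : sm gf N19799 = N19910 := rfl
theorem L214054 : sm ga N19910 = N19844 := ded_13_1 (flp_f L213308) (flp_a L212814) L214052
theorem L214056 : sm gb N19910 = N19873 := ded_20_1 L213615 (flp_b L212816) L214052
theorem L214058 : sm gc N19910 = N19895 := ded_26_1 (flp_f L213871) (flp_c L212818) L214052
theorem L214060 : sm gd N19910 = N19842 := ded_31_1 (flp_f L213289) (flp_d L212820) L214052
theorem L214062 : sm gh N19910 = N19872 := ded_40_2 (flp_f L213606) (flp_h L212824) L214052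
theorem L214064 : sm ge N19910 = N19801 := ded_35_1 (flp_f L212838) L211036 (flp_f L211009) (flp_e L212822) L214052
theorem L214066 : sm gg N19910 = N19910 := ded_39_2 (flp_f L214052) (flp_g L212812) L210996 L212812 L214052
theorem L214067 : sm gf N19800 = N19911 := rfl
theorem L214069 : sm ga N19911 = N19909 := ded_13_1 (flp_f L214039) (flp_a L212828) L214067
theorem L214071 : sm gc N19911 = N19892 := ded_26_1 (flp_f L213831) (flp_c L212830) L214067
theorem L214073 : sm gd N19911 = N19808 := ded_31_1 (flp_f L212909) (flp_d L212832) L214067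
theorem L214075 : sm gi N19911 = N19801 := ded_41_2 (flp_f L212838) (flp_i L212836) L214067
theorem L214077 : sm gg N19911 = N19911 := ded_39_2 (flp_f L214067) (flp_g L212826) L211021 L212826 L214067
theorem L214078 : sm gh N19801 = N19912 := rfl
theorem L214080 : sm ga N19912 = N19866 := ded_15_1 (flp_h L213839) L213833 L214078
theorem L214082 : sm gb N19912 = N19824 := ded_22_1 (flp_h L214010) L214004 L214078
theorem L214084 : sm ge N19912 = N19872 := ded_37_1 (flp_h L214062) L214064 L214078
theorem L214086 : sm gf N19912 = N19802 := ded_40_1 (flp_h L212843) L212838 L214078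
theorem L214088 : sm gg N19912 = N19912 := ded_42_1 (flp_h L214078) L212842 L214078
theorem L214089 : sm gd N19912 = N19853 := ded_33_1 (flp_h L213401) (flp_d L212749) L212751 (flp_d L212840) L214078
theorem L214091 : sm gi N19802 = N19913 := rfl
theorem L214093 : sm ga N19913 = N19863 := ded_16_1 L213526 (flp_a L212845) L214091
theorem L214095 : sm gb N19913 = N19821 := ded_23_1 L213050 (flp_b L212847) L214091
theorem L214097 : sm gd N19913 = N19854 := ded_34_1 (flp_i L213406) (flp_d L212853) L214091
theorem L214099 : sm ge N19913 = N19804 := ded_38_1 (flp_i L212866) (flp_e L212849) L214091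
theorem L214101 : sm gg N19913 = N19803 := ded_43_1 (flp_i L212855) (flp_g L212851) L214091
theorem L214103 : sm gg N19805 = N19914 := rfl
theorem L214105 : sm gb N19914 = N19814 := ded_21_1 (flp_g L212972) (flp_b L212880) L214103
theorem L214107 : sm gc N19914 = N19807 := ded_27_1 (flp_g L212901) (flp_c L212882) L214103
theorem L214109 : sm gd N19914 = N19876 := ded_32_1 (flp_g L213639) (flp_d L212886) L214103
theorem L214111 : sm ge N19914 = N19806 := ded_36_1 (flp_g L212889) L212878 L214103
theorem L214113 : sm gi N19914 = N19809 := ded_43_2 (flp_g L212914) (flp_i L212884) L214103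
theorem L214115 : sm gf N19807 = N19915 := rfl
theorem L214117 : sm gb N19915 = N19808 := ded_20_1 (flp_f L212909) (flp_b L212903) L214115
theorem L214119 : sm gi N19915 = N19810 := ded_41_2 (flp_f L212926) (flp_i L212907) L214115
theorem L214121 : sm gg N19915 = N19915 := ded_39_2 (flp_f L214115) (flp_g L212901) L211087 L212901 L214115
theorem L214122 : sm gf N19809 = N19916 := rfl
theorem L214124 : sm gb N19916 = N19875 := ded_20_1 (flp_f L213628) (flp_b L212916) L214122
theorem L214126 : sm gc N19916 = N19810 := ded_26_1 (flp_f L212926) (flp_c L212918) L214122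
theorem L214128 : sm gd N19916 = N19879 := ded_31_1 (flp_f L213666) (flp_d L212920) L214122
theorem L214130 : sm gh N19916 = N19818 := ded_40_2 (flp_f L213017) (flp_h L212924) L214122
theorem L214132 : sm gg N19916 = N19916 := ded_39_2 (flp_f L214122) (flp_g L212914) L211112 L212914 L214122
theorem L214133 : sm gf N19814 = N19917 := rfl
theorem L214135 : sm ga N19917 = N19818 := ded_13_1 (flp_f L213017) (flp_a L212974) L214133
theorem L214137 : sm gc N19917 = N19815 := ded_26_1 (flp_f L212984) (flp_c L212976) L214133
theorem L214139 : sm gd N19917 = N19877 := ded_31_1 (flp_f L213649) (flp_d L212978) L214133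
theorem L214141 : sm gi N19917 = N19875 := ded_41_2 (flp_f L213628) (flp_i L212982) L214133
theorem L214143 : sm ge N19917 = N19851 := ded_35_1 (flp_f L213384) L211845 (flp_f L211249) (flp_e L212980) L214133
theorem L214145 : sm gg N19917 = N19917 := ded_39_2 (flp_f L214133) (flp_g L212972) L211238 L212972 L214133
theorem L214146 : sm gf N19816 = N19918 := rfl
theorem L214148 : sm ga N19918 = N19877 := ded_13_1 (flp_f L213649) (flp_a L212995) L214146
theorem L214150 : sm gc N19918 = N19864 := ded_26_1 (flp_f L213528) (flp_c L212997) L214146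
theorem L214152 : sm gd N19918 = N19818 := ded_31_1 (flp_f L213017) (flp_d L212999) L214146
theorem L214154 : sm gh N19918 = N19845 := ded_40_2 (flp_f L213313) (flp_h L213003) L214146
theorem L214156 : sm gi N19918 = N19860 := ded_41_2 (flp_f L213482) (flp_i L213005) L214146
theorem L214158 : sm ge N19918 = N19882 := ded_35_1 L213697 L212275 (flp_f L211284) (flp_e L213001) L214146
theorem L214160 : sm gg N19918 = N19918 := ded_39_2 (flp_f L214146) (flp_g L212993) L211271 L212993 L214146
theorem L214161 : sm gf N19817 = N19919 := rfl
theorem L214163 : sm gb N19919 = N19818 := ded_20_1 (flp_f L213017) (flp_b L213009) L214161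
theorem L214165 : sm gc N19919 = N19907 := ded_26_1 (flp_f L214015) (flp_c L213011) L214161
theorem L214167 : sm gh N19919 = N19875 := ded_40_2 (flp_f L213628) (flp_h L213015) L214161
theorem L214169 : sm ge N19919 = N19916 := ded_35_1 (flp_f L214122) L212922 (flp_f L211315) (flp_e L213013) L214161
theorem L214171 : sm gg N19919 = N19919 := ded_39_2 (flp_f L214161) (flp_g L213007) L211304 L213007 L214161
theorem L214172 : sm gf N19821 = N19920 := rfl
theorem L214174 : sm ga N19920 = N19828 := ded_13_1 (flp_f L213123) (flp_a L213042) L214172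
theorem L214176 : sm gc N19920 = N19893 := ded_26_1 (flp_f L213844) (flp_c L213044) L214172
theorem L214178 : sm gd N19920 = N19897 := ded_31_1 (flp_f L213895) (flp_d L213046) L214172
theorem L214180 : sm gi N19920 = N19824 := ded_41_2 (flp_f L213075) (flp_i L213050) L214172
theorem L214182 : sm ge N19920 = N19870 := ded_35_1 (flp_f L213589) L212089 (flp_f L211391) (flp_e L213048) L214172
theorem L214184 : sm gg N19920 = N19920 := ded_39_2 (flp_f L214172) (flp_g L213040) L211380 L213040 L214172
theorem L214185 : sm gh N19821 = N19921 := rfl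
theorem L214187 : sm ga N19921 = N19829 := ded_15_1 (flp_h L213130) (flp_a L213042) L214185
theorem L214189 : sm gc N19921 = N19894 := ded_28_1 (flp_h L213857) (flp_c L213044) L214185
theorem L214191 : sm ge N19921 = N19823 := ded_37_1 (flp_h L213063) (flp_e L213048) L214185
theorem L214193 : sm gg N19921 = N19822 := ded_42_1 (flp_h L213052) L213040 L214185
theorem L214195 : sm gd N19921 = N19865 := ded_33_1 L213543 L212832 (flp_h L212568) (flp_d L213046) L214185
theorem L214197 : sm gf N19825 = N19922 := rfl
theorem L214199 : sm ga N19922 = N19899 := ded_13_1 (flp_f L213918) (flp_a L213086) L214197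
theorem L214201 : sm gb N19922 = N19908 := ded_20_1 (flp_f L214028) (flp_b L213088) L214197
theorem L214203 : sm gc N19922 = N19827 := ded_26_1 (flp_f L213116) (flp_c L213090) L214197
theorem L214205 : sm gd N19922 = N19891 := ded_31_1 (flp_f L213818) (flp_d L213092) L214197
theorem L214207 : sm gh N19922 = N19881 := ded_40_2 (flp_f L213688) (flp_h L213096) L214197
theorem L214209 : sm gi N19922 = N19890 := ded_41_2 (flp_f L213805) (flp_i L213098) L214197
theorem L214211 : sm gg N19922 = N19922 := ded_39_2 (flp_f L214197) (flp_g L213084) L211425 L213084 L214197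
theorem L214212 : sm gf N19826 = N19923 := rfl
theorem L214214 : sm ga N19923 = N19897 := ded_13_1 (flp_f L213895) (flp_a L213102) L214212
theorem L214216 : sm gb N19923 = N19881 := ded_20_1 (flp_f L213688) (flp_b L213104) L214212
theorem L214218 : sm gc N19923 = N19890 := ded_26_1 (flp_f L213805) (flp_c L213106) L214212
theorem L214220 : sm gd N19923 = N19828 := ded_31_1 (flp_f L213123) (flp_d L213108) L214212
theorem L214222 : sm gh N19923 = N19908 := ded_40_2 (flp_f L214028) (flp_h L213112) L214212
theorem L214224 : sm gi N19923 = N19827 := ded_41_2 (flp_f L213116) (flp_i L213114) L214212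
theorem L214226 : sm ge N19923 = N19922 := ded_35_1 (flp_f L214197) L213094 (flp_f L211469) (flp_e L213110) L214212
theorem L214228 : sm gg N19923 = N19923 := ded_39_2 (flp_f L214212) (flp_g L213100) L211454 L213100 L214212
theorem L214229 : sm gh N19828 = N19924 := rfl
theorem L214231 : sm gb N19924 = N19882 := ded_22_1 (flp_h L213695) (flp_b L213125) L214229
theorem L214233 : sm gf N19924 = N19829 := ded_40_1 (flp_h L213130) L213123 L214229
theorem L214235 : sm gg N19924 = N19924 := ded_42_1 (flp_h L214229) L213129 L214229
theorem L214236 : sm gg N19833 = N19925 := rfl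
theorem L214238 : sm gb N19925 = N19835 := ded_21_1 (flp_g L213205) (flp_b L213180) L214236
theorem L214240 : sm gc N19925 = N19913 := ded_27_1 L214101 (flp_c L213182) L214236
theorem L214242 : sm gd N19925 = N19904 := ded_32_1 L213983 (flp_d L213188) L214236
theorem L214244 : sm ge N19925 = N19834 := ded_36_1 (flp_g L213191) L213178 L214236
theorem L214246 : sm gh N19925 = N19863 := ded_42_2 (flp_g L213520) (flp_h L213184) L214236
theorem L214248 : sm gi N19925 = N19836 := ded_43_2 (flp_g L213219) (flp_i L213186) L214236
theorem L214250 : sm gf N19835 = N19926 := rfl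
theorem L214252 : sm ga N19926 = N19882 := ded_13_1 L213697 (flp_a L213207) L214250
theorem L214254 : sm gc N19926 = N19845 := ded_26_1 (flp_f L213313) (flp_c L213209) L214250
theorem L214256 : sm gd N19926 = N19905 := ded_31_1 L213995 (flp_d L213211) L214250
theorem L214258 : sm gh N19926 = N19864 := ded_40_2 (flp_f L213528) (flp_h L213215) L214250
theorem L214260 : sm gi N19926 = N19837 := ded_41_2 (flp_f L213231) (flp_i L213217) L214250
theorem L214262 : sm ge N19926 = N19877 := ded_35_1 (flp_f L213649) L212203 (flp_f L211601) (flp_e L213213) L214250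
theorem L214264 : sm gg N19926 = N19926 := ded_39_2 (flp_f L214250) (flp_g L213205) L211588 L213205 L214250
theorem L214265 : sm gf N19836 = N19927 := rfl
theorem L214267 : sm gb N19927 = N19837 := ded_20_1 (flp_f L213231) (flp_b L213221) L214265
theorem L214269 : sm gc N19927 = N19912 := ded_26_1 L214086 (flp_c L213223) L214265
theorem L214271 : sm gd N19927 = N19924 := ded_31_1 L214233 (flp_d L213225) L214265
theorem L214273 : sm gh N19927 = N19909 := ded_40_2 (flp_f L214039) (flp_h L213229) L214265
theorem L214275 : sm ge N19927 = N19879 := ded_35_1 (flp_f L213666) L212234 (flp_f L211634) (flp_e L213227) L214265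
theorem L214277 : sm gg N19927 = N19927 := ded_39_2 (flp_f L214265) (flp_g L213219) L211623 L213219 L214265
theorem L214278 : sm gg N19838 = N19928 := rfl
theorem L214280 : sm ga N19928 = N19867 := ded_14_1 (flp_g L213550) (flp_a L213240) L214278
theorem L214282 : sm gb N19928 = N19840 := ded_21_1 (flp_g L213265) (flp_b L213242) L214278
theorem L214284 : sm gd N19928 = N19874 := ded_32_1 L213626 (flp_d L213248) L214278
theorem L214286 : sm ge N19928 = N19839 := ded_36_1 (flp_g L213251) L213238 L214278
theorem L214288 : sm gh N19928 = N19876 := ded_42_2 (flp_g L213639) (flp_h L213244) L214278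
theorem L214290 : sm gi N19928 = N19841 := ded_43_2 (flp_g L213277) (flp_i L213246) L214278
theorem L214292 : sm gf N19840 = N19929 := rfl
theorem L214294 : sm ga N19929 = N19845 := ded_13_1 (flp_f L213313) (flp_a L213267) L214292
theorem L214296 : sm gc N19929 = N19882 := ded_26_1 L213697 (flp_c L213269) L214292
theorem L214298 : sm gh N19929 = N19877 := ded_40_2 (flp_f L213649) (flp_h L213273) L214292
theorem L214300 : sm gi N19929 = N19842 := ded_41_2 (flp_f L213289) (flp_i L213275) L214292
theorem L214302 : sm ge N19929 = N19864 := ded_35_1 (flp_f L213528) L212022 (flp_f L211717) (flp_e L213271) L214292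
theorem L214304 : sm gg N19929 = N19929 := ded_39_2 (flp_f L214292) (flp_g L213265) L211704 L213265 L214292
theorem L214305 : sm gf N19841 = N19930 := rfl
theorem L214307 : sm ga N19930 = N19872 := ded_13_1 (flp_f L213606) (flp_a L213279) L214305
theorem L214309 : sm gb N19930 = N19842 := ded_20_1 (flp_f L213289) (flp_b L213281) L214305
theorem L214311 : sm gd N19930 = N19873 := ded_31_1 L213615 (flp_d L213283) L214305
theorem L214313 : sm gh N19930 = N19844 := ded_40_2 (flp_f L213308) (flp_h L213287) L214305
theorem L214315 : sm ge N19930 = N19866 := ded_35_1 (flp_f L213545) L212049 (flp_f L211740) (flp_e L213285) L214305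
theorem L214317 : sm gg N19930 = N19930 := ded_39_2 (flp_f L214305) (flp_g L213277) L211729 L213277 L214305
theorem L214318 : sm gf N19843 = N19931 := rfl
theorem L214320 : sm ga N19931 = N19895 := ded_13_1 (flp_f L213871) (flp_a L213298) L214318
theorem L214322 : sm gc N19931 = N19844 := ded_26_1 (flp_f L213308) (flp_c L213300) L214318
theorem L214324 : sm gd N19931 = N19929 := ded_31_1 (flp_f L214292) (flp_d L213302) L214318
theorem L214326 : sm gi N19931 = N19910 := ded_41_2 (flp_f L214052) (flp_i L213306) L214318
theorem L214328 : sm ge N19931 = N19911 := ded_35_1 (flp_f L214067) L212834 (flp_f L211769) (flp_e L213304) L214318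
theorem L214330 : sm gg N19931 = N19931 := ded_39_2 (flp_f L214318) (flp_g L213296) L211758 L213296 L214318
theorem L214331 : sm gg N19846 = N19932 := rfl
theorem L214333 : sm ga N19932 = N19848 := ded_14_1 (flp_g L213347) (flp_a L213322) L214331
theorem L214335 : sm gb N19932 = N19900 := ded_21_1 (flp_g L213931) (flp_b L213324) L214331
theorem L214337 : sm gc N19932 = N19854 := ded_27_1 L213412 (flp_c L213326) L214331
theorem L214339 : sm ge N19932 = N19847 := ded_36_1 (flp_g L213333) L213320 L214331
theorem L214341 : sm gh N19932 = N19914 := ded_42_2 (flp_g L214103) (flp_h L213328) L214331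
theorem L214343 : sm gi N19932 = N19852 := ded_43_2 L213399 (flp_i L213330) L214331
theorem L214345 : sm gf N19848 = N19933 := rfl
theorem L214347 : sm gb N19933 = N19851 := ded_20_1 (flp_f L213384) (flp_b L213349) L214345
theorem L214349 : sm gi N19933 = N19919 := ded_41_2 (flp_f L214161) (flp_i L213353) L214345
theorem L214351 : sm gg N19933 = N19933 := ded_39_2 (flp_f L214345) (flp_g L213347) L211818 L213347 L214345
theorem L214352 : sm gh N19848 = N19934 := rfl
theorem L214354 : sm ga N19934 = N19914 := ded_15_1 (flp_h L214341) L214333 L214352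
theorem L214356 : sm gb N19934 = N19852 := ded_22_1 (flp_h L213391) (flp_b L213349) L214352
theorem L214358 : sm gc N19934 = N19898 := ded_28_1 L213914 L213725 L214352
theorem L214360 : sm ge N19934 = N19850 := ded_37_1 (flp_h L213368) (flp_e L213351) L214352
theorem L214362 : sm gg N19934 = N19849 := ded_42_1 (flp_h L213355) L213347 L214352
theorem L214364 : sm gi N19934 = N19900 := ded_44_2 L213941 L212982 (flp_h L213015) (flp_i L213353) L214352
theorem L214366 : sm gh N19851 = N19935 := rfl
theorem L214368 : sm ga N19935 = N19919 := ded_15_1 L214167 L213630 L214366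
theorem L214370 : sm gc N19935 = N19853 := ded_28_1 (flp_h L213401) (flp_c L213386) L214366
theorem L214372 : sm gf N19935 = N19852 := ded_40_1 (flp_h L213391) L213384 L214366
theorem L214374 : sm gg N19935 = N19935 := ded_42_1 (flp_h L214366) L213390 L214366
theorem L214375 : sm gi N19853 = N19936 := rfl
theorem L214377 : sm gb N19936 = N19897 := ded_23_1 L213901 L213750 L214375
theorem L214379 : sm gf N19936 = N19854 := ded_41_1 (flp_i L213406) (flp_f L213403) L214375
theorem L214381 : sm gg N19936 = N19936 := ded_43_1 (flp_i L214375) L213405 L214375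
theorem L214382 : sm gh N19936 = N19915 := ded_44_1 L214119 L212930 (flp_i L211870) L213401 L214375
theorem L214384 : sm gg N19855 = N19937 := rfl
theorem L214386 : sm ga N19937 = N19859 := ded_14_1 (flp_g L213474) (flp_a L213418) L214384
theorem L214388 : sm gb N19937 = N19878 := ded_21_1 (flp_g L213656) (flp_b L213420) L214384
theorem L214390 : sm gc N19937 = N19904 := ded_27_1 L213983 (flp_c L213422) L214384
theorem L214392 : sm gd N19937 = N19932 := ded_32_1 (flp_g L214331) (flp_d L213428) L214384
theorem L214394 : sm ge N19937 = N19856 := ded_36_1 (flp_g L213431) L213416 L214384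
theorem L214396 : sm gh N19937 = N19874 := ded_42_2 L213626 (flp_h L213424) L214384
theorem L214398 : sm gi N19937 = N19871 := ded_43_2 L213602 (flp_i L213426) L214384
theorem L214400 : sm gg N19857 = N19938 := rfl
theorem L214402 : sm ga N19938 = N19904 := ded_14_1 L213983 (flp_a L213447) L214400
theorem L214404 : sm gb N19938 = N19865 := ded_21_1 (flp_g L213535) (flp_b L213449) L214400
theorem L214406 : sm gc N19938 = N19859 := ded_27_1 (flp_g L213474) (flp_c L213451) L214400
theorem L214408 : sm ge N19938 = N19858 := ded_36_1 (flp_g L213458) L213445 L214400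
theorem L214410 : sm gh N19938 = N19902 := ded_42_2 (flp_g L213956) (flp_h L213453) L214400
theorem L214412 : sm gi N19938 = N19921 := ded_43_2 L214193 (flp_i L213455) L214400
theorem L214414 : sm gf N19859 = N19939 := rfl
theorem L214416 : sm gb N19939 = N19860 := ded_20_1 (flp_f L213482) (flp_b L213476) L214414
theorem L214418 : sm gd N19939 = N19933 := ded_31_1 (flp_f L214345) (flp_d L213478) L214414
theorem L214420 : sm gg N19939 = N19939 := ded_39_2 (flp_f L214414) (flp_g L213474) L211942 L213474 L214414
theorem L214421 : sm gg N19861 = N19940 := rfl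
theorem L214423 : sm ga N19940 = N19925 := ded_14_1 (flp_g L214236) (flp_a L213493) L214421
theorem L214425 : sm gb N19940 = N19921 := ded_21_1 L214193 (flp_b L213495) L214421
theorem L214427 : sm gc N19940 = N19863 := ded_27_1 (flp_g L213520) (flp_c L213497) L214421
theorem L214429 : sm gd N19940 = N19938 := ded_32_1 (flp_g L214400) (flp_d L213503) L214421
theorem L214431 : sm ge N19940 = N19862 := ded_36_1 (flp_g L213506) L213491 L214421
theorem L214433 : sm gh N19940 = N19913 := ded_42_2 L214101 (flp_h L213499) L214421
theorem L214435 : sm gi N19940 = N19865 := ded_43_2 (flp_g L213535) (flp_i L213501) L214421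
theorem L214437 : sm gf N19863 = N19941 := rfl
theorem L214439 : sm gb N19941 = N19864 := ded_20_1 (flp_f L213528) (flp_b L213522) L214437
theorem L214441 : sm gi N19941 = N19866 := ded_41_2 (flp_f L213545) (flp_i L213526) L214437
theorem L214443 : sm gg N19941 = N19941 := ded_39_2 (flp_f L214437) (flp_g L213520) L212009 L213520 L214437
theorem L214444 : sm gf N19865 = N19942 := rfl
theorem L214446 : sm ga N19942 = N19927 := ded_13_1 (flp_f L214265) (flp_a L213537) L214444
theorem L214448 : sm gc N19942 = N19866 := ded_26_1 (flp_f L213545) (flp_c L213539) L214444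
theorem L214450 : sm gh N19942 = N19911 := ded_40_2 (flp_f L214067) (flp_h L213543) L214444
theorem L214452 : sm gg N19942 = N19942 := ded_39_2 (flp_f L214444) (flp_g L213535) L212034 L213535 L214444
theorem L214453 : sm gf N19867 = N19943 := rfl
theorem L214455 : sm gb N19943 = N19870 := ded_20_1 (flp_f L213589) (flp_b L213552) L214453
theorem L214457 : sm gi N19943 = N19872 := ded_41_2 (flp_f L213606) (flp_i L213556) L214453
theorem L214459 : sm gg N19943 = N19943 := ded_39_2 (flp_f L214453) (flp_g L213550) L212062 L213550 L214453
theorem L214460 : sm gh N19867 = N19944 := rfl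
theorem L214462 : sm ga N19944 = N19876 := ded_15_1 (flp_h L214288) L214280 L214460
theorem L214464 : sm gb N19944 = N19871 := ded_22_1 (flp_h L213596) (flp_b L213552) L214460
theorem L214466 : sm gc N19944 = N19928 := ded_28_1 L214288 L213643 L214460
theorem L214468 : sm ge N19944 = N19869 := ded_37_1 (flp_h L213573) (flp_e L213554) L214460
theorem L214470 : sm gg N19944 = N19868 := ded_42_1 (flp_h L213558) L213550 L214460
theorem L214472 : sm gd N19944 = N19934 := ded_33_1 (flp_h L214352) (flp_d L213478) (flp_h L213769) L213765 L214460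
theorem L214474 : sm gi N19944 = N19878 := ded_44_2 L213664 L213306 L212824 (flp_i L213556) L214460
theorem L214476 : sm gh N19870 = N19945 := rfl
theorem L214478 : sm gc N19945 = N19924 := ded_28_1 (flp_h L214229) (flp_c L213591) L214476
theorem L214480 : sm gf N19945 = N19871 := ded_40_1 (flp_h L213596) L213589 L214476
theorem L214482 : sm gg N19945 = N19945 := ded_42_1 (flp_h L214476) L213595 L214476
theorem L214483 : sm gd N19945 = N19935 := ded_33_1 (flp_h L214366) (flp_d L213488) (flp_h L213781) L213779 L214476
theorem L214485 : sm gi N19873 = N19946 := rfl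
theorem L214487 : sm gb N19946 = N19931 := ded_23_1 L214326 L214056 L214485
theorem L214489 : sm gc N19946 = N19903 := ded_29_1 L213974 (flp_c L213613) L214485
theorem L214491 : sm gf N19946 = N19874 := ded_41_1 (flp_i L213618) (flp_f L213615) L214485
theorem L214493 : sm gg N19946 = N19946 := ded_43_1 (flp_i L214485) L213617 L214485
theorem L214494 : sm gf N19876 = N19947 := rfl
theorem L214496 : sm gb N19947 = N19877 := ded_20_1 (flp_f L213649) (flp_b L213641) L214494
theorem L214498 : sm gc N19947 = N19943 := ded_26_1 (flp_f L214453) (flp_c L213643) L214494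
theorem L214500 : sm gi N19947 = N19879 := ded_41_2 (flp_f L213666) (flp_i L213647) L214494
theorem L214502 : sm gg N19947 = N19947 := ded_39_2 (flp_f L214494) (flp_g L213639) L212188 L213639 L214494
theorem L214503 : sm gf N19878 = N19948 := rfl
theorem L214505 : sm ga N19948 = N19879 := ded_13_1 (flp_f L213666) (flp_a L213658) L214503
theorem L214507 : sm gc N19948 = N19930 := ded_26_1 (flp_f L214305) (flp_c L213660) L214503
theorem L214509 : sm gh N19948 = N19931 := ded_40_2 (flp_f L214318) (flp_h L213664) L214503
theorem L214511 : sm ge N19948 = N19942 := ded_35_1 (flp_f L214444) L213541 (flp_f L212226) (flp_e L213662) L214503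
theorem L214513 : sm gg N19948 = N19948 := ded_39_2 (flp_f L214503) (flp_g L213656) L212215 L213656 L214503
theorem L214514 : sm gf N19884 = N19949 := rfl
theorem L214516 : sm ga N19949 = N19936 := ded_13_1 L214379 (flp_a L213721) L214514
theorem L214518 : sm gb N19949 = N19885 := ded_20_1 (flp_f L213733) (flp_b L213723) L214514
theorem L214520 : sm gc N19949 = N19933 := ded_26_1 (flp_f L214345) (flp_c L213725) L214514
theorem L214522 : sm gd N19949 = N19941 := ded_31_1 (flp_f L214437) (flp_d L213727) L214514
theorem L214524 : sm gi N19949 = N19907 := ded_41_2 (flp_f L214015) (flp_i L213731) L214514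
theorem L214526 : sm ge N19949 = N19915 := ded_35_1 (flp_f L214115) L212905 (flp_f L212332) (flp_e L213729) L214514
theorem L214528 : sm gg N19949 = N19949 := ded_39_2 (flp_f L214514) (flp_g L213719) L212319 L213719 L214514
theorem L214529 : sm gf N19887 = N19950 := rfl
theorem L214531 : sm ga N19950 = N19946 := ded_13_1 L214491 (flp_a L213761) L214529
theorem L214533 : sm gb N19950 = N19888 := ded_20_1 (flp_f L213773) (flp_b L213763) L214529
theorem L214535 : sm gd N19950 = N19943 := ded_31_1 (flp_f L214453) (flp_d L213765) L214529
theorem L214537 : sm gh N19950 = N19939 := ded_40_2 (flp_f L214414) (flp_h L213769) L214529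
theorem L214539 : sm gi N19950 = N19896 := ded_41_2 (flp_f L213882) (flp_i L213771) L214529
theorem L214541 : sm ge N19950 = N19903 := ded_35_1 (flp_f L213970) L212682 (flp_f L212390) (flp_e L213767) L214529
theorem L214543 : sm gg N19950 = N19950 := ded_39_2 (flp_f L214529) (flp_g L213759) L212377 L213759 L214529
theorem L214544 : sm gh N19893 = N19951 := rfl
theorem L214546 : sm ga N19951 = N19945 := ded_15_1 (flp_h L214476) (flp_a L213846) L214544
theorem L214548 : sm gb N19951 = N19918 := ded_22_1 L214154 (flp_b L213848) L214544
theorem L214550 : sm ge N19951 = N19924 := ded_37_1 (flp_h L214229) (flp_e L213854) L214544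
theorem L214552 : sm gf N19951 = N19894 := ded_40_1 (flp_h L213857) L213844 L214544
theorem L214554 : sm gg N19951 = N19951 := ded_42_1 (flp_h L214544) L213856 L214544
theorem L214555 : sm gd N19951 = N19919 := ded_33_1 L214167 L213634 (flp_h L212538) (flp_d L213850) L214544
theorem L214557 : sm gi N19951 = N19939 := ded_44_2 (flp_h L214537) L214539 L213890 (flp_i L213852) L214544
theorem L214559 : sm gf N19898 = N19952 := rfl
theorem L214561 : sm ga N19952 = N19915 := ded_13_1 (flp_f L214115) (flp_a L213906) L214559
theorem L214563 : sm gb N19952 = N19899 := ded_20_1 (flp_f L213918) (flp_b L213908) L214559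
theorem L214565 : sm gd N19952 = N19903 := ded_31_1 (flp_f L213970) (flp_d L213910) L214559
theorem L214567 : sm gh N19952 = N19949 := ded_40_2 (flp_f L214514) (flp_h L213914) L214559
theorem L214569 : sm gi N19952 = N19901 := ded_41_2 (flp_f L213943) (flp_i L213916) L214559
theorem L214571 : sm ge N19952 = N19936 := ded_35_1 L214379 L213410 (flp_f L212597) (flp_e L213912) L214559
theorem L214573 : sm gg N19952 = N19952 := ded_39_2 (flp_f L214559) (flp_g L213904) L212584 L213904 L214559
theorem L214574 : sm gf N19900 = N19953 := rfl
theorem L214576 : sm ga N19953 = N19916 := ded_13_1 (flp_f L214122) (flp_a L213933) L214574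
theorem L214578 : sm gc N19953 = N19901 := ded_26_1 (flp_f L213943) (flp_c L213935) L214574
theorem L214580 : sm gd N19953 = N19948 := ded_31_1 (flp_f L214503) (flp_d L213937) L214574
theorem L214582 : sm gh N19953 = N19917 := ded_40_2 (flp_f L214133) (flp_h L213941) L214574
theorem L214584 : sm ge N19953 = N19935 := ded_35_1 L214372 L213397 (flp_f L212632) (flp_e L213939) L214574
theorem L214586 : sm gg N19953 = N19953 := ded_39_2 (flp_f L214574) (flp_g L213931) L212621 L213931 L214574
theorem L214587 : sm gf N19902 = N19954 := rfl
theorem L214589 : sm ga N19954 = N19903 := ded_13_1 (flp_f L213970) (flp_a L213958) L214587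
theorem L214591 : sm gb N19954 = N19911 := ded_20_1 (flp_f L214067) (flp_b L213960) L214587
theorem L214593 : sm gc N19954 = N19950 := ded_26_1 (flp_f L214529) (flp_c L213962) L214587
theorem L214595 : sm gd N19954 = N19915 := ded_31_1 (flp_f L214115) (flp_d L213964) L214587
theorem L214597 : sm gi N19954 = N19906 := ded_41_2 (flp_f L214000) (flp_i L213968) L214587
theorem L214599 : sm ge N19954 = N19946 := ded_35_1 L214491 L213624 (flp_f L212676) (flp_e L213966) L214587
theorem L214601 : sm gg N19954 = N19954 := ded_39_2 (flp_f L214587) (flp_g L213956) L212663 L213956 L214587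
theorem L214602 : sm gh N19903 = N19955 := rfl
theorem L214604 : sm gb N19955 = N19905 := ded_22_1 (flp_h L213987) (flp_b L213972) L214602
theorem L214606 : sm ge N19955 = N19939 := ded_37_1 (flp_h L214537) L214541 L214602
theorem L214608 : sm gf N19955 = N19904 := ded_40_1 (flp_h L213977) L213970 L214602
theorem L214610 : sm gg N19955 = N19955 := ded_42_1 (flp_h L214602) L213976 L214602
theorem L214611 : sm gi N19955 = N19924 := ded_44_2 (flp_h L214229) L213127 (flp_h L212742) (flp_i L213974) L214602
theorem L214613 : sm gi N19912 = N19956 := rfl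
theorem L214615 : sm ga N19956 = N19941 := ded_16_1 L214441 (flp_a L214080) L214613
theorem L214617 : sm gb N19956 = N19920 := ded_23_1 L214180 (flp_b L214082) L214613
theorem L214619 : sm gd N19956 = N19936 := ded_34_1 (flp_i L214375) (flp_d L214089) L214613
theorem L214621 : sm ge N19956 = N19943 := ded_38_1 L214457 (flp_e L214084) L214613
theorem L214623 : sm gf N19956 = N19913 := ded_41_1 (flp_i L214091) (flp_f L214086) L214613
theorem L214625 : sm gg N19956 = N19956 := ded_43_1 (flp_i L214613) L214088 L214613
theorem L214626 : sm gf N19914 = N19957 := rfl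
theorem L214628 : sm gb N19957 = N19917 := ded_20_1 (flp_f L214133) (flp_b L214105) L214626
theorem L214630 : sm gc N19957 = N19915 := ded_26_1 (flp_f L214115) (flp_c L214107) L214626
theorem L214632 : sm gd N19957 = N19947 := ded_31_1 (flp_f L214494) (flp_d L214109) L214626
theorem L214634 : sm gi N19957 = N19916 := ded_41_2 (flp_f L214122) (flp_i L214113) L214626
theorem L214636 : sm ge N19957 = N19933 := ded_35_1 (flp_f L214345) L213351 (flp_f L212899) (flp_e L214111) L214626
theorem L214638 : sm gg N19957 = N19957 := ded_39_2 (flp_f L214626) (flp_g L214103) L212888 L214103 L214626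
theorem L214639 : sm gh N19920 = N19958 := rfl
theorem L214641 : sm ga N19958 = N19924 := ded_15_1 (flp_h L214229) (flp_a L214174) L214639
theorem L214643 : sm gc N19958 = N19951 := ded_28_1 (flp_h L214544) (flp_c L214176) L214639
theorem L214645 : sm ge N19958 = N19945 := ded_37_1 (flp_h L214476) (flp_e L214182) L214639
theorem L214647 : sm gf N19958 = N19921 := ded_40_1 (flp_h L214185) L214172 L214639
theorem L214649 : sm gg N19958 = N19958 := ded_42_1 (flp_h L214639) L214184 L214639
theorem L214650 : sm gd N19958 = N19942 := ded_33_1 L214450 L214073 (flp_h L213899) (flp_d L214178) L214639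
theorem L214652 : sm gf N19925 = N19959 := rfl
theorem L214654 : sm gb N19959 = N19926 := ded_20_1 (flp_f L214250) (flp_b L214238) L214652
theorem L214656 : sm gc N19959 = N19956 := ded_26_1 L214623 (flp_c L214240) L214652
theorem L214658 : sm gd N19959 = N19955 := ded_31_1 L214608 (flp_d L214242) L214652
theorem L214660 : sm gh N19959 = N19941 := ded_40_2 (flp_f L214437) (flp_h L214246) L214652
theorem L214662 : sm gi N19959 = N19927 := ded_41_2 (flp_f L214265) (flp_i L214248) L214652
theorem L214664 : sm ge N19959 = N19947 := ded_35_1 (flp_f L214494) L213645 (flp_f L213203) (flp_e L214244) L214652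
theorem L214666 : sm gg N19959 = N19959 := ded_39_2 (flp_f L214652) (flp_g L214236) L213190 L214236 L214652
theorem L214667 : sm gf N19928 = N19960 := rfl
theorem L214669 : sm ga N19960 = N19943 := ded_13_1 (flp_f L214453) (flp_a L214280) L214667
theorem L214671 : sm gb N19960 = N19929 := ded_20_1 (flp_f L214292) (flp_b L214282) L214667
theorem L214673 : sm gd N19960 = N19946 := ded_31_1 L214491 (flp_d L214284) L214667
theorem L214675 : sm gh N19960 = N19947 := ded_40_2 (flp_f L214494) (flp_h L214288) L214667
theorem L214677 : sm gi N19960 = N19930 := ded_41_2 (flp_f L214305) (flp_i L214290) L214667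
theorem L214679 : sm ge N19960 = N19941 := ded_35_1 (flp_f L214437) L213524 (flp_f L213263) (flp_e L214286) L214667
theorem L214681 : sm gg N19960 = N19960 := ded_39_2 (flp_f L214667) (flp_g L214278) L213250 L214278 L214667
theorem L214682 : sm gf N19932 = N19961 := rfl
theorem L214684 : sm ga N19961 = N19933 := ded_13_1 (flp_f L214345) (flp_a L214333) L214682
theorem L214686 : sm gb N19961 = N19953 := ded_20_1 (flp_f L214574) (flp_b L214335) L214682
theorem L214688 : sm gc N19961 = N19936 := ded_26_1 L214379 (flp_c L214337) L214682
theorem L214690 : sm gh N19961 = N19957 := ded_40_2 (flp_f L214626) (flp_h L214341) L214682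
theorem L214692 : sm gi N19961 = N19935 := ded_41_2 L214372 (flp_i L214343) L214682
theorem L214694 : sm gg N19961 = N19961 := ded_39_2 (flp_f L214682) (flp_g L214331) L213332 L214331 L214682
theorem L214695 : sm gh N19933 = N19962 := rfl
theorem L214697 : sm ga N19962 = N19957 := ded_15_1 (flp_h L214690) L214684 L214695
theorem L214699 : sm gb N19962 = N19935 := ded_22_1 (flp_h L214366) (flp_b L214347) L214695
theorem L214701 : sm gc N19962 = N19952 := ded_28_1 L214567 L214520 L214695
theorem L214703 : sm ge N19962 = N19961 := ded_37_1 L214690 L214636 L214695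
theorem L214705 : sm gf N19962 = N19934 := ded_40_1 (flp_h L214352) L214345 L214695
theorem L214707 : sm gg N19962 = N19962 := ded_42_1 (flp_h L214695) L214351 L214695
theorem L214708 : sm gi N19962 = N19953 := ded_44_2 L214582 L214141 (flp_h L214167) (flp_i L214349) L214695
theorem L214710 : sm gf N19937 = N19963 := rfl
theorem L214712 : sm ga N19963 = N19939 := ded_13_1 (flp_f L214414) (flp_a L214386) L214710
theorem L214714 : sm gb N19963 = N19948 := ded_20_1 (flp_f L214503) (flp_b L214388) L214710
theorem L214716 : sm gc N19963 = N19955 := ded_26_1 L214608 (flp_c L214390) L214710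
theorem L214718 : sm gd N19963 = N19961 := ded_31_1 (flp_f L214682) (flp_d L214392) L214710
theorem L214720 : sm gh N19963 = N19946 := ded_40_2 L214491 (flp_h L214396) L214710
theorem L214722 : sm gi N19963 = N19945 := ded_41_2 L214480 (flp_i L214398) L214710
theorem L214724 : sm gg N19963 = N19963 := ded_39_2 (flp_f L214710) (flp_g L214384) L213430 L214384 L214710
theorem L214725 : sm gf N19938 = N19964 := rfl
theorem L214727 : sm ga N19964 = N19955 := ded_13_1 L214608 (flp_a L214402) L214725
theorem L214729 : sm gb N19964 = N19942 := ded_20_1 (flp_f L214444) (flp_b L214404) L214725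
theorem L214731 : sm gc N19964 = N19939 := ded_26_1 (flp_f L214414) (flp_c L214406) L214725
theorem L214733 : sm gh N19964 = N19954 := ded_40_2 (flp_f L214587) (flp_h L214410) L214725
theorem L214735 : sm gi N19964 = N19958 := ded_41_2 L214647 (flp_i L214412) L214725
theorem L214737 : sm ge N19964 = N19963 := ded_35_1 (flp_f L214710) L214394 (flp_f L213472) (flp_e L214408) L214725
theorem L214739 : sm gg N19964 = N19964 := ded_39_2 (flp_f L214725) (flp_g L214400) L213457 L214400 L214725
theorem L214740 : sm gf N19940 = N19965 := rfl
theorem L214742 : sm ga N19965 = N19959 := ded_13_1 (flp_f L214652) (flp_a L214423) L214740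
theorem L214744 : sm gb N19965 = N19958 := ded_20_1 L214647 (flp_b L214425) L214740
theorem L214746 : sm gc N19965 = N19941 := ded_26_1 (flp_f L214437) (flp_c L214427) L214740
theorem L214748 : sm gd N19965 = N19964 := ded_31_1 (flp_f L214725) (flp_d L214429) L214740
theorem L214750 : sm gh N19965 = N19956 := ded_40_2 L214623 (flp_h L214433) L214740
theorem L214752 : sm gi N19965 = N19942 := ded_41_2 (flp_f L214444) (flp_i L214435) L214740
theorem L214754 : sm gg N19965 = N19965 := ded_39_2 (flp_f L214740) (flp_g L214421) L213505 L214421 L214740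
theorem L214755 : sm gh N19943 = N19966 := rfl
theorem L214757 : sm ga N19966 = N19947 := ded_15_1 (flp_h L214675) L214669 L214755
theorem L214759 : sm gb N19966 = N19945 := ded_22_1 (flp_h L214476) (flp_b L214455) L214755
theorem L214761 : sm gc N19966 = N19960 := ded_28_1 L214675 L214498 L214755
theorem L214763 : sm ge N19966 = N19965 := ded_37_1 L214750 L214621 L214755
theorem L214765 : sm gf N19966 = N19944 := ded_40_1 (flp_h L214460) L214453 L214755
theorem L214767 : sm gg N19966 = N19966 := ded_42_1 (flp_h L214755) L214459 L214755
theorem L214768 : sm gd N19966 = N19962 := ded_33_1 (flp_h L214695) (flp_d L214418) (flp_h L214537) L214535 L214755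
theorem L214770 : sm gi N19966 = N19948 := ded_44_2 L214509 L214326 L214062 (flp_i L214457) L214755

end Cfsg.Agent.Helper28.FibA
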