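import Cfsg.Agent.Helper28.FibB1

/-! # The Fi₂₂ presentation, cosets of the subgroup generated by b, …, i: the coset enumeration, part 2 (helper28; generated) -/

set_option autoImplicit false

noncomputable section

namespace Cfsg.Agent.Helper28.FibA

open Cfsg.Agent.Helper28.CosetTable

def N14639 : Q := sm gh N13779
def N14640 : Q := sm gi N13781
def N14641 : Q := sm gi N13782
def N14642 : Q := sm gh N13783
def N14643 : Q := sm gh N13784
def N14644 : Q := sm gd N13785
def N14645 : Q := sm gh N13786
def N14646 : Q := sm gd N13787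
def N14647 : Q := sm gi N13788
def N14648 : Q := sm gh N13789
def N14649 : Q := sm gh N13790
def N14650 : Q := sm gi N13792
def N14651 : Q := sm gh N13793
def N14652 : Q := sm gd N13794
def N14653 : Q := sm gd N13795
def N14654 : Q := sm gi N13796
def N14655 : Q := sm gh N13797
def N14656 : Q := sm gi N13798
def N14657 : Q := sm gh N13799
def N14658 : Q := sm gd N13800
def N14659 : Q := sm gh N13801
def N14660 : Q := sm ge N13803
def N14661 : Q := sm gh N13804
def N14662 : Q := sm gd N13805
def N14663 : Q := sm gc N13806
def N14664 : Q := sm ge N13808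
def N14665 : Q := sm gb N13809
def N14666 : Q := sm gd N13813
def N14667 : Q := sm gd N13815
def N14668 : Q := sm gc N13816
def N14669 : Q := sm ge N13816
def N14670 : Q := sm gd N13819
def N14671 : Q := sm gd N13820
def N14672 : Q := sm gh N13821
def N14673 : Q := sm gd N13822
def N14674 : Q := sm ge N13824
def N14675 : Q := sm gd N13825
def N14676 : Q := sm gc N13826
def N14677 : Q := sm gd N13828
def N14678 : Q := sm gh N13829
def N14679 : Q := sm gd N13830
def N14680 : Q := sm gh N13833
def N14681 : Q := sm gd N13834
def N14682 : Q := sm gb N13841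
def N14683 : Q := sm ga N13843
def N14684 : Q := sm gc N13845
def N14685 : Q := sm gi N13845
def N14686 : Q := sm gb N13847
def N14687 : Q := sm gi N13847
def N14688 : Q := sm gh N13848
def N14689 : Q := sm ga N13849
def N14690 : Q := sm ge N13849
def N14691 : Q := sm gi N13849
def N14692 : Q := sm gd N13850
def N14693 : Q := sm gf N13850
def N14694 : Q := sm gi N13850
def N14695 : Q := sm gh N13851
def N14696 : Q := sm gg N13852
def N14697 : Q := sm gi N13852
def N14698 : Q := sm gh N13853
def N14699 : Q := sm gi N13856
def N14700 : Q := sm gh N13857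
def N14701 : Q := sm gi N13858
def N14702 : Q := sm gd N13859
def N14703 : Q := sm gi N13859
def N14704 : Q := sm gh N13860
def N14705 : Q := sm gh N13861
def N14706 : Q := sm gi N13863
def N14707 : Q := sm gd N13864
def N14708 : Q := sm gf N13864
def N14709 : Q := sm gi N13864
def N14710 : Q := sm gh N13865
def N14711 : Q := sm gf N13866
def N14712 : Q := sm gh N13866
def N14713 : Q := sm gi N13866
def N14714 : Q := sm gg N13867
def N14715 : Q := sm gi N13867
def N14716 : Q := sm gh N13868
def N14717 : Q := sm gd N13869
def N14718 : Q := sm gi N13870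
def N14719 : Q := sm gh N13871
def N14720 : Q := sm gd N13872
def N14721 : Q := sm gd N13873
def N14722 : Q := sm gi N13873
def N14723 : Q := sm gh N13874
def N14724 : Q := sm gh N13875
def N14725 : Q := sm gi N13877
def N14726 : Q := sm gd N13878
def N14727 : Q := sm gi N13878
def N14728 : Q := sm gh N13879
def N14729 : Q := sm gf N13880
def N14730 : Q := sm gi N13880
def N14731 : Q := sm gg N13881
def N14732 : Q := sm gi N13881
def N14733 : Q := sm gh N13882
def N14734 : Q := sm gd N13883
def N14735 : Q := sm gi N13884
def N14736 : Q := sm gh N13885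
def N14737 : Q := sm gd N13886
def N14738 : Q := sm gd N13887
def N14739 : Q := sm gf N13887
def N14740 : Q := sm gi N13887
def N14741 : Q := sm gh N13888
def N14742 : Q := sm gf N13889
def N14743 : Q := sm gh N13889
def N14744 : Q := sm gi N13889
def N14745 : Q := sm gg N13890
def N14746 : Q := sm gi N13890
def N14747 : Q := sm gh N13891
def N14748 : Q := sm gd N13892
def N14749 : Q := sm ge N13893
def N14750 : Q := sm gg N13893
def N14751 : Q := sm gh N13893
def N14752 : Q := sm gi N13893
def N14753 : Q := sm gi N13894
def N14754 : Q := sm gh N13895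
def N14755 : Q := sm gi N13896
def N14756 : Q := sm gh N13897
def N14757 : Q := sm gd N13898
def N14758 : Q := sm ge N13899
def N14759 : Q := sm gh N13900
def N14760 : Q := sm gd N13901
def N14761 : Q := sm gc N13902
def N14762 : Q := sm gg N13903
def N14763 : Q := sm gi N13903
def N14764 : Q := sm gh N13904
def N14765 : Q := sm gi N13905
def N14766 : Q := sm gh N13906
def N14767 : Q := sm gd N13907
def N14768 : Q := sm gd N13909
def N14769 : Q := sm gc N13910
def N14770 : Q := sm gi N13911
def N14771 : Q := sm gi N13912
def N14772 : Q := sm gi N13913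
def N14773 : Q := sm gh N13914
def N14774 : Q := sm gh N13915
def N14775 : Q := sm gd N13916
def N14776 : Q := sm gh N13917
def N14777 : Q := sm gd N13918
def N14778 : Q := sm gc N13919
def N14779 : Q := sm ge N13919
def N14780 : Q := sm gc N13922
def N14781 : Q := sm gb N13923
def N14782 : Q := sm gh N13928
def N14783 : Q := sm gd N13930
def N14784 : Q := sm gh N13931
def N14785 : Q := sm gi N13932
def N14786 : Q := sm gh N13933
def N14787 : Q := sm gh N13935
def N14788 : Q := sm gd N13936
def N14789 : Q := sm gh N13937
def N14790 : Q := sm gd N13938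
def N14791 : Q := sm gc N13939
def N14792 : Q := sm gd N13940
def N14793 : Q := sm gh N13941
def N14794 : Q := sm gh N13942
def N14795 : Q := sm gd N13944
def N14796 : Q := sm gh N13945
def N14797 : Q := sm gd N13946
def N14798 : Q := sm gc N13947
def N14799 : Q := sm gi N13948
def N14800 : Q := sm gh N13949
def N14801 : Q := sm gi N13951
def N14802 : Q := sm gh N13952
def N14803 : Q := sm gd N13953
def N14804 : Q := sm gh N13954
def N14805 : Q := sm gd N13955
def N14806 : Q := sm gc N13956
def N14807 : Q := sm gc N13958
def N14808 : Q := sm gb N13959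
def N14809 : Q := sm gc N13960
def N14810 : Q := sm ge N13960
def N14811 : Q := sm gb N13961
def N14812 : Q := sm gb N13962
def N14813 : Q := sm ga N13963
def N14814 : Q := sm gc N13964
def N14815 : Q := sm gc N13969
def N14816 : Q := sm gb N13970
def N14817 : Q := sm gc N13973
def N14818 : Q := sm gc N13975
def N14819 : Q := sm ge N13975
def N14820 : Q := sm gh N13977
def N14821 : Q := sm gd N13978
def N14822 : Q := sm gd N13981
def N14823 : Q := sm ge N13982
def N14824 : Q := sm ga N13985
def N14825 : Q := sm gh N13989
def N14826 : Q := sm ge N13990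
def N14827 : Q := sm gi N13990
def N14828 : Q := sm gf N13991
def N14829 : Q := sm gh N13992
def N14830 : Q := sm gi N13993
def N14831 : Q := sm gh N13994
def N14832 : Q := sm ge N13996
def N14833 : Q := sm gi N13996
def N14834 : Q := sm gi N13997
def N14835 : Q := sm gh N13998
def N14836 : Q := sm gh N13999
def N14837 : Q := sm gi N14001
def N14838 : Q := sm gh N14002
def N14839 : Q := sm gd N14003
def N14840 : Q := sm gi N14010
def N14841 : Q := sm gh N14011
def N14842 : Q := sm gh N14012
def N14843 : Q := sm gi N14014
def N14844 : Q := sm gh N14015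
def N14845 : Q := sm gi N14017
def N14846 : Q := sm gh N14018
def N14847 : Q := sm gi N14019
def N14848 : Q := sm gh N14020
def N14849 : Q := sm gd N14021
def N14850 : Q := sm gh N14023
def N14851 : Q := sm gh N14025
def N14852 : Q := sm gd N14026
def N14853 : Q := sm gh N14027
def N14854 : Q := sm gd N14028
def N14855 : Q := sm gd N14030
def N14856 : Q := sm gd N14032
def N14857 : Q := sm gc N14033
def N14858 : Q := sm ge N14033
def N14859 : Q := sm gd N14036
def N14860 : Q := sm gc N14039
def N14861 : Q := sm gi N14039
def N14862 : Q := sm gb N14041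
def N14863 : Q := sm ge N14041
def N14864 : Q := sm gi N14041
def N14865 : Q := sm gi N14042
def N14866 : Q := sm gh N14043
def N14867 : Q := sm ga N14044
def N14868 : Q := sm ge N14044
def N14869 : Q := sm gi N14044
def N14870 : Q := sm gd N14045
def N14871 : Q := sm gf N14045
def N14872 : Q := sm gi N14045
def N14873 : Q := sm gh N14046
def N14874 : Q := sm gi N14047
def N14875 : Q := sm gh N14048
def N14876 : Q := sm gi N14050
def N14877 : Q := sm gh N14051
def N14878 : Q := sm gi N14052
def N14879 : Q := sm gh N14053
def N14880 : Q := sm gi N14055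
def N14881 : Q := sm gd N14056
def N14882 : Q := sm gi N14056
def N14883 : Q := sm gh N14057
def N14884 : Q := sm gf N14058
def N14885 : Q := sm gh N14058
def N14886 : Q := sm gi N14058
def N14887 : Q := sm gi N14059
def N14888 : Q := sm gh N14060
def N14889 : Q := sm gd N14061
def N14890 : Q := sm gh N14062
def N14891 : Q := sm gd N14064
def N14892 : Q := sm gi N14064
def N14893 : Q := sm gh N14065
def N14894 : Q := sm gh N14066
def N14895 : Q := sm gd N14068
def N14896 : Q := sm gi N14068
def N14897 : Q := sm gh N14069
def N14898 : Q := sm gf N14070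
def N14899 : Q := sm gh N14070
def N14900 : Q := sm gi N14070
def N14901 : Q := sm gi N14071
def N14902 : Q := sm gh N14072
def N14903 : Q := sm gd N14073
def N14904 : Q := sm gh N14074
def N14905 : Q := sm gd N14076
def N14906 : Q := sm gi N14076
def N14907 : Q := sm gh N14077
def N14908 : Q := sm gf N14078
def N14909 : Q := sm gh N14078
def N14910 : Q := sm gi N14078
def N14911 : Q := sm gi N14079
def N14912 : Q := sm gh N14080
def N14913 : Q := sm gd N14081
def N14914 : Q := sm ge N14082
def N14915 : Q := sm gg N14082
def N14916 : Q := sm gh N14082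
def N14917 : Q := sm gi N14082
def N14918 : Q := sm gi N14083
def N14919 : Q := sm gh N14084
def N14920 : Q := sm gi N14085
def N14921 : Q := sm gh N14086
def N14922 : Q := sm gd N14087
def N14923 : Q := sm ge N14088
def N14924 : Q := sm gh N14089
def N14925 : Q := sm gd N14090
def N14926 : Q := sm gc N14091
def N14927 : Q := sm ge N14092
def N14928 : Q := sm gg N14092
def N14929 : Q := sm gh N14092
def N14930 : Q := sm gi N14092
def N14931 : Q := sm gi N14093
def N14932 : Q := sm gh N14094
def N14933 : Q := sm gi N14095
def N14934 : Q := sm gi N14098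
def N14935 : Q := sm gi N14099
def N14936 : Q := sm gi N14100
def N14937 : Q := sm gh N14101
def N14938 : Q := sm gh N14102
def N14939 : Q := sm gd N14103
def N14940 : Q := sm gh N14104
def N14941 : Q := sm gd N14105
def N14942 : Q := sm gc N14106
def N14943 : Q := sm ge N14106
def N14944 : Q := sm gc N14109
def N14945 : Q := sm gh N14115
def N14946 : Q := sm gd N14116
def N14947 : Q := sm gh N14117
def N14948 : Q := sm gh N14118
def N14949 : Q := sm gd N14119
def N14950 : Q := sm gd N14123
def N14951 : Q := sm gh N14124
def N14952 : Q := sm gd N14125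
def N14953 : Q := sm gd N14126
def N14954 : Q := sm ge N14127
def N14955 : Q := sm gh N14129
def N14956 : Q := sm gd N14130
def N14957 : Q := sm gh N14131
def N14958 : Q := sm gd N14132
def N14959 : Q := sm gc N14133
def N14960 : Q := sm ge N14133
def N14961 : Q := sm gd N14134
def N14962 : Q := sm gc N14139
def N14963 : Q := sm ge N14139
def N14964 : Q := sm gc N14141
def N14965 : Q := sm ge N14142
def N14966 : Q := sm gd N14145
def N14967 : Q := sm gd N14150
def N14968 : Q := sm gi N14154
def N14969 : Q := sm gi N14155
def N14970 : Q := sm gh N14156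
def N14971 : Q := sm gh N14157
def N14972 : Q := sm gh N14159
def N14973 : Q := sm gd N14160
def N14974 : Q := sm gd N14161
def N14975 : Q := sm gf N14162
def N14976 : Q := sm gh N14162
def N14977 : Q := sm gi N14162
def N14978 : Q := sm gi N14163
def N14979 : Q := sm gh N14164
def N14980 : Q := sm gd N14165
def N14981 : Q := sm ge N14166
def N14982 : Q := sm gh N14166
def N14983 : Q := sm gi N14166
def N14984 : Q := sm gi N14167
def N14985 : Q := sm gh N14168
def N14986 : Q := sm gh N14169
def N14987 : Q := sm gd N14170
def N14988 : Q := sm ge N14171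
def N14989 : Q := sm gh N14173
def N14990 : Q := sm gi N14173
def N14991 : Q := sm gi N14174
def N14992 : Q := sm gh N14175
def N14993 : Q := sm gh N14176
def N14994 : Q := sm gi N14179
def N14995 : Q := sm gh N14186
def N14996 : Q := sm gd N14187
def N14997 : Q := sm gd N14188
def N14998 : Q := sm gh N14191
def N14999 : Q := sm gd N14192
def N15000 : Q := sm gi N14192
def N15001 : Q := sm gh N14193
def N15002 : Q := sm gh N14194
def N15003 : Q := sm ge N14196
def N15004 : Q := sm gi N14196
def N15005 : Q := sm gd N14197
def N15006 : Q := sm gf N14197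
def N15007 : Q := sm gi N14197
def N15008 : Q := sm gh N14198
def N15009 : Q := sm gf N14199
def N15010 : Q := sm gh N14199
def N15011 : Q := sm gi N14199
def N15012 : Q := sm gg N14200
def N15013 : Q := sm gi N14200
def N15014 : Q := sm gh N14201
def N15015 : Q := sm gd N14202
def N15016 : Q := sm gi N14203
def N15017 : Q := sm gh N14204
def N15018 : Q := sm gd N14205
def N15019 : Q := sm gf N14206
def N15020 : Q := sm gh N14206
def N15021 : Q := sm gd N14208
def N15022 : Q := sm gd N14209
def N15023 : Q := sm gi N14209
def N15024 : Q := sm gh N14210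
def N15025 : Q := sm gf N14211
def N15026 : Q := sm gh N14211
def N15027 : Q := sm gi N14211
def N15028 : Q := sm gi N14212
def N15029 : Q := sm gh N14213
def N15030 : Q := sm gd N14214
def N15031 : Q := sm ge N14215
def N15032 : Q := sm gg N14215
def N15033 : Q := sm gh N14215
def N15034 : Q := sm gi N14215
def N15035 : Q := sm gi N14216
def N15036 : Q := sm gh N14217
def N15037 : Q := sm gi N14218
def N15038 : Q := sm gh N14219
def N15039 : Q := sm gd N14220
def N15040 : Q := sm ge N14221
def N15041 : Q := sm gh N14222
def N15042 : Q := sm ge N14224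
def N15043 : Q := sm gg N14224
def N15044 : Q := sm gh N14224
def N15045 : Q := sm gi N14224
def N15046 : Q := sm gi N14225
def N15047 : Q := sm gh N14226
def N15048 : Q := sm gi N14227
def N15049 : Q := sm gh N14228
def N15050 : Q := sm gd N14229
def N15051 : Q := sm ge N14230
def N15052 : Q := sm gh N14231
def N15053 : Q := sm gf N14233
def N15054 : Q := sm gh N14233
def N15055 : Q := sm gi N14233
def N15056 : Q := sm gi N14234
def N15057 : Q := sm gh N14235
def N15058 : Q := sm gd N14236
def N15059 : Q := sm ge N14237
def N15060 : Q := sm gg N14237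
def N15061 : Q := sm gh N14237
def N15062 : Q := sm gi N14237
def N15063 : Q := sm gi N14238
def N15064 : Q := sm gh N14239
def N15065 : Q := sm gi N14240
def N15066 : Q := sm gh N14241
def N15067 : Q := sm gd N14242
def N15068 : Q := sm ge N14243
def N15069 : Q := sm gi N14244
def N15070 : Q := sm gi N14245
def N15071 : Q := sm gi N14246
def N15072 : Q := sm gh N14247
def N15073 : Q := sm gh N14248
def N15074 : Q := sm gd N14249
def N15075 : Q := sm gh N14250
def N15076 : Q := sm gd N14251
def N15077 : Q := sm gc N14252
def N15078 : Q := sm ge N14252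
def N15079 : Q := sm gf N14253
def N15080 : Q := sm gc N14255
def N15081 : Q := sm gb N14256
def N15082 : Q := sm gi N14257
def N15083 : Q := sm gi N14258
def N15084 : Q := sm gi N14259
def N15085 : Q := sm gh N14260
def N15086 : Q := sm gh N14261
def N15087 : Q := sm gd N14262
def N15088 : Q := sm gh N14263
def N15089 : Q := sm gd N14264
def N15090 : Q := sm ge N14265
def N15091 : Q := sm gh N14268
def N15092 : Q := sm gh N14269
def N15093 : Q := sm gh N14270
def N15094 : Q := sm gd N14271
def N15095 : Q := sm gd N14272
def N15096 : Q := sm gc N14273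
def N15097 : Q := sm ge N14273
def N15098 : Q := sm gd N14274
def N15099 : Q := sm gc N14275
def N15100 : Q := sm gb N14276
def N15101 : Q := sm ge N14276
def N15102 : Q := sm gd N14280
def N15103 : Q := sm gh N14283
def N15104 : Q := sm gh N14285
def N15105 : Q := sm gd N14286
def N15106 : Q := sm gd N14287
def N15107 : Q := sm gh N14291
def N15108 : Q := sm gd N14292
def N15109 : Q := sm gh N14293
def N15110 : Q := sm gd N14294
def N15111 : Q := sm gc N14295
def N15112 : Q := sm ge N14297
def N15113 : Q := sm gb N14298
def N15114 : Q := sm gd N14300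
def N15115 : Q := sm gc N14301
def N15116 : Q := sm gd N14303
def N15117 : Q := sm gi N14307
def N15118 : Q := sm gh N14308
def N15119 : Q := sm gd N14311
def N15120 : Q := sm gd N14312
def N15121 : Q := sm gf N14313
def N15122 : Q := sm gi N14313
def N15123 : Q := sm gh N14314
def N15124 : Q := sm gg N14315
def N15125 : Q := sm gi N14315
def N15126 : Q := sm gh N14316
def N15127 : Q := sm gi N14318
def N15128 : Q := sm gh N14319
def N15129 : Q := sm gd N14320
def N15130 : Q := sm gh N14321
def N15131 : Q := sm gd N14322
def N15132 : Q := sm gc N14323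
def N15133 : Q := sm ge N14324
def N15134 : Q := sm gg N14324
def N15135 : Q := sm gh N14324
def N15136 : Q := sm gi N14324
def N15137 : Q := sm gi N14325
def N15138 : Q := sm gh N14326
def N15139 : Q := sm gi N14327
def N15140 : Q := sm gh N14328
def N15141 : Q := sm gd N14329
def N15142 : Q := sm gi N14330
def N15143 : Q := sm gi N14331
def N15144 : Q := sm gi N14332
def N15145 : Q := sm gh N14333
def N15146 : Q := sm gh N14334
def N15147 : Q := sm gd N14335
def N15148 : Q := sm gh N14336
def N15149 : Q := sm gd N14337
def N15150 : Q := sm gc N14338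
def N15151 : Q := sm ge N14338
def N15152 : Q := sm gf N14339
def N15153 : Q := sm gh N14340
def N15154 : Q := sm gh N14341
def N15155 : Q := sm gh N14342
def N15156 : Q := sm gd N14343
def N15157 : Q := sm gd N14344
def N15158 : Q := sm gc N14345
def N15159 : Q := sm ge N14345
def N15160 : Q := sm gd N14346
def N15161 : Q := sm gb N14348
def N15162 : Q := sm ge N14348
def N15163 : Q := sm gf N14349
def N15164 : Q := sm gh N14352
def N15165 : Q := sm gh N14353
def N15166 : Q := sm gh N14354
def N15167 : Q := sm gd N14355
def N15168 : Q := sm gd N14356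
def N15169 : Q := sm gc N14357
def N15170 : Q := sm ge N14357
def N15171 : Q := sm gd N14358
def N15172 : Q := sm gc N14359
def N15173 : Q := sm ge N14359
def N15174 : Q := sm gb N14360
def N15175 : Q := sm gd N14364
def N15176 : Q := sm gd N14365
def N15177 : Q := sm gb N14369
def N15178 : Q := sm gh N14374
def N15179 : Q := sm gd N14375
def N15180 : Q := sm gc N14376
def N15181 : Q := sm gc N14378
def N15182 : Q := sm ge N14378
def N15183 : Q := sm gb N14379
def N15184 : Q := sm gh N14385
def N15185 : Q := sm gd N14386
def N15186 : Q := sm ge N14387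
def N15187 : Q := sm gg N14387
def N15188 : Q := sm gh N14387
def N15189 : Q := sm gi N14388
def N15190 : Q := sm gi N14392
def N15191 : Q := sm gi N14396
def N15192 : Q := sm gd N14399
def N15193 : Q := sm gd N14404
def N15194 : Q := sm gd N14406
def N15195 : Q := sm ge N14407
def N15196 : Q := sm gh N14407
def N15197 : Q := sm gi N14407
def N15198 : Q := sm gi N14408
def N15199 : Q := sm gh N14409
def N15200 : Q := sm gh N14410
def N15201 : Q := sm gd N14411
def N15202 : Q := sm gd N14413
def N15203 : Q := sm gc N14414
def N15204 : Q := sm gi N14415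
def N15205 : Q := sm gi N14416
def N15206 : Q := sm gi N14417
def N15207 : Q := sm gh N14418
def N15208 : Q := sm gh N14419
def N15209 : Q := sm gc N14425
def N15210 : Q := sm gd N14432
def N15211 : Q := sm gc N14434
def N15212 : Q := sm gc N14435
def N15213 : Q := sm ge N14435
def N15214 : Q := sm gb N14436
def N15215 : Q := sm gd N14439
def N15216 : Q := sm ge N14446
def N15217 : Q := sm gi N14446
def N15218 : Q := sm gd N14447
def N15219 : Q := sm gf N14447
def N15220 : Q := sm gi N14447
def N15221 : Q := sm gh N14448
def N15222 : Q := sm gi N14449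
def N15223 : Q := sm gh N14450
def N15224 : Q := sm gh N14452
def N15225 : Q := sm gh N14453
def N15226 : Q := sm gi N14453
def N15227 : Q := sm gh N14454
def N15228 : Q := sm gd N14455
def N15229 : Q := sm gd N14456
def N15230 : Q := sm gh N14457
def N15231 : Q := sm gi N14457
def N15232 : Q := sm gh N14458
def N15233 : Q := sm gd N14459
def N15234 : Q := sm ge N14460
def N15235 : Q := sm gh N14460
def N15236 : Q := sm gi N14460
def N15237 : Q := sm gi N14461
def N15238 : Q := sm gh N14462
def N15239 : Q := sm gh N14463
def N15240 : Q := sm gd N14464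
def N15241 : Q := sm ge N14465
def N15242 : Q := sm gd N14466
def N15243 : Q := sm gc N14467
def N15244 : Q := sm gi N14468
def N15245 : Q := sm gi N14469
def N15246 : Q := sm gi N14470
def N15247 : Q := sm gh N14471
def N15248 : Q := sm gh N14472
def N15249 : Q := sm gd N14473
def N15250 : Q := sm gh N14474
def N15251 : Q := sm gd N14475
def N15252 : Q := sm gc N14476
def N15253 : Q := sm ge N14476
def N15254 : Q := sm gc N14479
def N15255 : Q := sm gb N14480
def N15256 : Q := sm gd N14484
def N15257 : Q := sm ge N14485
def N15258 : Q := sm gc N14486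
def N15259 : Q := sm gd N14487
def N15260 : Q := sm gc N14488
def N15261 : Q := sm ge N14488
def N15262 : Q := sm gc N14489
def N15263 : Q := sm ge N14489
def N15264 : Q := sm gf N14490
def N15265 : Q := sm gb N14492
def N15266 : Q := sm ga N14493
def N15267 : Q := sm ge N14494
def N15268 : Q := sm gf N14502
def N15269 : Q := sm gh N14502
def N15270 : Q := sm gi N14502
def N15271 : Q := sm gg N14503
def N15272 : Q := sm gi N14503
def N15273 : Q := sm gh N14504
def N15274 : Q := sm gd N14505
def N15275 : Q := sm gi N14506
def N15276 : Q := sm gh N14507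
def N15277 : Q := sm gd N14508
def N15278 : Q := sm ge N14509
def N15279 : Q := sm gh N14509
def N15280 : Q := sm gi N14509
def N15281 : Q := sm gi N14510
def N15282 : Q := sm gh N14511
def N15283 : Q := sm gh N14512
def N15284 : Q := sm gd N14513
def N15285 : Q := sm ge N14514
def N15286 : Q := sm gd N14515
def N15287 : Q := sm gc N14516
def N15288 : Q := sm gi N14517
def N15289 : Q := sm gi N14518
def N15290 : Q := sm gi N14519
def N15291 : Q := sm gh N14520
def N15292 : Q := sm gh N14521
def N15293 : Q := sm gd N14522
def N15294 : Q := sm gh N14523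
def N15295 : Q := sm gd N14524
def N15296 : Q := sm gc N14525
def N15297 : Q := sm ge N14525
def N15298 : Q := sm gf N14526
def N15299 : Q := sm gd N14527
def N15300 : Q := sm gc N14528
def N15301 : Q := sm ge N14528
def N15302 : Q := sm gb N14529
def N15303 : Q := sm gh N14530
def N15304 : Q := sm gh N14531
def N15305 : Q := sm gh N14532
def N15306 : Q := sm gd N14533
def N15307 : Q := sm gd N14534
def N15308 : Q := sm gc N14535
def N15309 : Q := sm ge N14535
def N15310 : Q := sm gd N14536
def N15311 : Q := sm gc N14537
def N15312 : Q := sm ge N14537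
def N15313 : Q := sm gb N14538
def N15314 : Q := sm ge N14538
def N15315 : Q := sm gc N14540
def N15316 : Q := sm gb N14541
def N15317 : Q := sm ge N14541
def N15318 : Q := sm ga N14543
def N15319 : Q := sm gd N14544
def N15320 : Q := sm gd N14549
def N15321 : Q := sm gb N14552
def N15322 : Q := sm ga N14554
def N15323 : Q := sm gh N14558
def N15324 : Q := sm gd N14559
def N15325 : Q := sm gc N14560
def N15326 : Q := sm gd N14561
def N15327 : Q := sm gd N14562
def N15328 : Q := sm gd N14563
def N15329 : Q := sm gc N14564
def N15330 : Q := sm ge N14564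
def N15331 : Q := sm gc N14565
def N15332 : Q := sm ge N14565
def N15333 : Q := sm gb N14566
def N15334 : Q := sm ge N14566
def N15335 : Q := sm gb N14569
def N15336 : Q := sm ga N14571
def N15337 : Q := sm ge N14571
def N15338 : Q := sm ga N14577
def N15339 : Q := sm ge N14577
def N15340 : Q := sm gi N14577
def N15341 : Q := sm gd N14578
def N15342 : Q := sm gf N14578
def N15343 : Q := sm gi N14578
def N15344 : Q := sm gh N14579
def N15345 : Q := sm gi N14580
def N15346 : Q := sm gh N14581
def N15347 : Q := sm gi N14583
def N15348 : Q := sm gh N14584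
def N15349 : Q := sm gi N14585
def N15350 : Q := sm gd N14586
def N15351 : Q := sm gi N14586
def N15352 : Q := sm gh N14587
def N15353 : Q := sm gh N14588
def N15354 : Q := sm gi N14590
def N15355 : Q := sm gd N14591
def N15356 : Q := sm gi N14591
def N15357 : Q := sm gh N14592
def N15358 : Q := sm gf N14593
def N15359 : Q := sm gh N14593
def N15360 : Q := sm gi N14593
def N15361 : Q := sm gi N14594
def N15362 : Q := sm gh N14595
def N15363 : Q := sm gd N14596
def N15364 : Q := sm gh N14597
def N15365 : Q := sm gd N14598
def N15366 : Q := sm gi N14599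
def N15367 : Q := sm gi N14600
def N15368 : Q := sm gh N14601
def N15369 : Q := sm gh N14602
def N15370 : Q := sm gi N14604
def N15371 : Q := sm gh N14605
def N15372 : Q := sm gh N14606
def N15373 : Q := sm gd N14607
def N15374 : Q := sm gd N14608
def N15375 : Q := sm gd N14609
def N15376 : Q := sm gi N14609
def N15377 : Q := sm gh N14610
def N15378 : Q := sm gf N14611
def N15379 : Q := sm gh N14611
def N15380 : Q := sm gi N14611
def N15381 : Q := sm gi N14612
def N15382 : Q := sm gh N14613
def N15383 : Q := sm gd N14614
def N15384 : Q := sm ge N14615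
def N15385 : Q := sm gg N14615
def N15386 : Q := sm gh N14615
def N15387 : Q := sm gi N14615
def N15388 : Q := sm gi N14616
def N15389 : Q := sm gh N14617
def N15390 : Q := sm gi N14618
def N15391 : Q := sm gh N14619
def N15392 : Q := sm gd N14620
def N15393 : Q := sm ge N14621
def N15394 : Q := sm gh N14622
def N15395 : Q := sm gd N14623
def N15396 : Q := sm gc N14624
def N15397 : Q := sm gc N14625
def N15398 : Q := sm gi N14627
def N15399 : Q := sm gi N14628
def N15400 : Q := sm gh N14629
def N15401 : Q := sm gh N14630
def N15402 : Q := sm gd N14631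
def N15403 : Q := sm gc N14633
def N15404 : Q := sm gc N14634
def N15405 : Q := sm gb N14635
def N15406 : Q := sm gh N14637
def N15407 : Q := sm gd N14638
def N15408 : Q := sm gd N14639
def N15409 : Q := sm gh N14640
def N15410 : Q := sm gh N14641
def N15411 : Q := sm gd N14642
def N15412 : Q := sm ge N14644
def N15413 : Q := sm gd N14645
def N15414 : Q := sm gc N14646
def N15415 : Q := sm gh N14647
def N15416 : Q := sm gd N14649
def N15417 : Q := sm gh N14650
def N15418 : Q := sm gd N14651
def N15419 : Q := sm gh N14654
def N15420 : Q := sm gd N14655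
def N15421 : Q := sm gh N14656
def N15422 : Q := sm gc N14658
def N15423 : Q := sm ge N14658
def N15424 : Q := sm ge N14662
def N15425 : Q := sm gb N14663
def N15426 : Q := sm ga N14665
def N15427 : Q := sm gc N14666
def N15428 : Q := sm gc N14667
def N15429 : Q := sm ge N14668
def N15430 : Q := sm gd N14672
def N15431 : Q := sm ga N14682
def N15432 : Q := sm gi N14684
def N15433 : Q := sm gh N14685
def N15434 : Q := sm gi N14686
def N15435 : Q := sm gh N14687
def N15436 : Q := sm ge N14689
def N15437 : Q := sm gi N14689
def N15438 : Q := sm gd N14690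
def N15439 : Q := sm gi N14690
def N15440 : Q := sm gh N14691
def N15441 : Q := sm gf N14692
def N15442 : Q := sm gi N14692
def N15443 : Q := sm gg N14693
def N15444 : Q := sm gi N14693
def N15445 : Q := sm gh N14694
def N15446 : Q := sm gd N14695
def N15447 : Q := sm gi N14696
def N15448 : Q := sm gh N14697
def N15449 : Q := sm gd N14698
def N15450 : Q := sm gh N14699
def N15451 : Q := sm gh N14701
def N15452 : Q := sm gi N14702
def N15453 : Q := sm gh N14703
def N15454 : Q := sm gd N14704
def N15455 : Q := sm gd N14705
def N15456 : Q := sm gh N14706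
def N15457 : Q := sm gf N14707
def N15458 : Q := sm gh N14707
def N15459 : Q := sm gi N14707
def N15460 : Q := sm gi N14708
def N15461 : Q := sm gh N14709
def N15462 : Q := sm gd N14710
def N15463 : Q := sm ge N14711
def N15464 : Q := sm gg N14711
def N15465 : Q := sm gh N14711
def N15466 : Q := sm gi N14711
def N15467 : Q := sm gi N14712
def N15468 : Q := sm gh N14713
def N15469 : Q := sm gi N14714
def N15470 : Q := sm gh N14715
def N15471 : Q := sm gd N14716
def N15472 : Q := sm ge N14717
def N15473 : Q := sm gh N14718
def N15474 : Q := sm gd N14719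
def N15475 : Q := sm gc N14720
def N15476 : Q := sm gi N14721
def N15477 : Q := sm gh N14722
def N15478 : Q := sm gd N14723
def N15479 : Q := sm gd N14724
def N15480 : Q := sm gh N14725
def N15481 : Q := sm gi N14726
def N15482 : Q := sm gh N14727
def N15483 : Q := sm gd N14728
def N15484 : Q := sm gg N14729
def N15485 : Q := sm gi N14729
def N15486 : Q := sm gh N14730
def N15487 : Q := sm gi N14731
def N15488 : Q := sm gh N14732
def N15489 : Q := sm gd N14733
def N15490 : Q := sm ge N14734
def N15491 : Q := sm gh N14735
def N15492 : Q := sm gd N14736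
def N15493 : Q := sm gc N14737
def N15494 : Q := sm gf N14738
def N15495 : Q := sm gh N14738
def N15496 : Q := sm gi N14738
def N15497 : Q := sm gi N14739
def N15498 : Q := sm gh N14740
def N15499 : Q := sm gd N14741
def N15500 : Q := sm ge N14742
def N15501 : Q := sm gg N14742
def N15502 : Q := sm gh N14742
def N15503 : Q := sm gi N14742
def N15504 : Q := sm gi N14743
def N15505 : Q := sm gh N14744
def N15506 : Q := sm gi N14745
def N15507 : Q := sm gh N14746
def N15508 : Q := sm gd N14747
def N15509 : Q := sm ge N14748
def N15510 : Q := sm gi N14749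
def N15511 : Q := sm gi N14750
def N15512 : Q := sm gi N14751
def N15513 : Q := sm gh N14752
def N15514 : Q := sm gh N14753
def N15515 : Q := sm gd N14754
def N15516 : Q := sm gh N14755
def N15517 : Q := sm gd N14756
def N15518 : Q := sm gc N14757
def N15519 : Q := sm ge N14757
def N15520 : Q := sm gf N14758
def N15521 : Q := sm gc N14760
def N15522 : Q := sm gb N14761
def N15523 : Q := sm gi N14762
def N15524 : Q := sm gh N14763
def N15525 : Q := sm gd N14764
def N15526 : Q := sm gd N14766
def N15527 : Q := sm gc N14767
def N15528 : Q := sm gc N14768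
def N15529 : Q := sm ge N14768
def N15530 : Q := sm gb N14769
def N15531 : Q := sm gh N14770
def N15532 : Q := sm gh N14771
def N15533 : Q := sm gh N14772
def N15534 : Q := sm gd N14773
def N15535 : Q := sm gd N14774
def N15536 : Q := sm gc N14775
def N15537 : Q := sm ge N14775
def N15538 : Q := sm gd N14776
def N15539 : Q := sm gc N14777
def N15540 : Q := sm gb N14778
def N15541 : Q := sm ge N14778
def N15542 : Q := sm gb N14780
def N15543 : Q := sm ga N14781
def N15544 : Q := sm gc N14783
def N15545 : Q := sm gh N14785
def N15546 : Q := sm gd N14786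
def N15547 : Q := sm gc N14790
def N15548 : Q := sm gb N14791
def N15549 : Q := sm gd N14794
def N15550 : Q := sm gc N14795
def N15551 : Q := sm gc N14797
def N15552 : Q := sm ge N14797
def N15553 : Q := sm gb N14798
def N15554 : Q := sm gh N14799
def N15555 : Q := sm gd N14800
def N15556 : Q := sm gh N14801
def N15557 : Q := sm gd N14802
def N15558 : Q := sm gc N14803
def N15559 : Q := sm gd N14804
def N15560 : Q := sm gc N14805
def N15561 : Q := sm ge N14805
def N15562 : Q := sm gb N14806
def N15563 : Q := sm gb N14807
def N15564 : Q := sm ga N14808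
def N15565 : Q := sm gb N14809
def N15566 : Q := sm gh N14827
def N15567 : Q := sm gh N14830
def N15568 : Q := sm gd N14831
def N15569 : Q := sm gi N14832
def N15570 : Q := sm gh N14833
def N15571 : Q := sm gh N14834
def N15572 : Q := sm gh N14837
def N15573 : Q := sm gd N14838
def N15574 : Q := sm gc N14839
def N15575 : Q := sm gh N14840
def N15576 : Q := sm gd N14842
def N15577 : Q := sm gh N14843
def N15578 : Q := sm gd N14844
def N15579 : Q := sm gh N14845
def N15580 : Q := sm gd N14846
def N15581 : Q := sm gh N14847
def N15582 : Q := sm gd N14848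
def N15583 : Q := sm ge N14849
def N15584 : Q := sm gd N14851
def N15585 : Q := sm gd N14853
def N15586 : Q := sm gc N14854
def N15587 : Q := sm gc N14855
def N15588 : Q := sm gc N14856
def N15589 : Q := sm ge N14857
def N15590 : Q := sm gi N14860
def N15591 : Q := sm gh N14861
def N15592 : Q := sm gi N14862
def N15593 : Q := sm gi N14863
def N15594 : Q := sm gh N14864
def N15595 : Q := sm gh N14865
def N15596 : Q := sm ge N14867
def N15597 : Q := sm gi N14867
def N15598 : Q := sm gf N14868
def N15599 : Q := sm gi N14868
def N15600 : Q := sm gh N14869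
def N15601 : Q := sm gh N14870
def N15602 : Q := sm gi N14870
def N15603 : Q := sm gi N14871
def N15604 : Q := sm gh N14872
def N15605 : Q := sm gd N14873
def N15606 : Q := sm gh N14874
def N15607 : Q := sm gd N14875
def N15608 : Q := sm gh N14876
def N15609 : Q := sm gh N14878
def N15610 : Q := sm gd N14879
def N15611 : Q := sm gh N14880
def N15612 : Q := sm gi N14881
def N15613 : Q := sm gh N14882
def N15614 : Q := sm gd N14883
def N15615 : Q := sm ge N14884
def N15616 : Q := sm gh N14884
def N15617 : Q := sm gi N14884
def N15618 : Q := sm gi N14885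
def N15619 : Q := sm gh N14886
def N15620 : Q := sm gh N14887
def N15621 : Q := sm gd N14888
def N15622 : Q := sm ge N14889
def N15623 : Q := sm gi N14891
def N15624 : Q := sm gh N14892
def N15625 : Q := sm gd N14893
def N15626 : Q := sm gd N14894
def N15627 : Q := sm gi N14895
def N15628 : Q := sm gh N14896
def N15629 : Q := sm gd N14897
def N15630 : Q := sm gi N14898
def N15631 : Q := sm gi N14899
def N15632 : Q := sm gh N14900
def N15633 : Q := sm gh N14901
def N15634 : Q := sm gd N14902
def N15635 : Q := sm ge N14903
def N15636 : Q := sm gh N14905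
def N15637 : Q := sm gi N14905
def N15638 : Q := sm gh N14906
def N15639 : Q := sm gd N14907
def N15640 : Q := sm ge N14908
def N15641 : Q := sm gh N14908
def N15642 : Q := sm gi N14908
def N15643 : Q := sm gi N14909
def N15644 : Q := sm gh N14910
def N15645 : Q := sm gh N14911
def N15646 : Q := sm gd N14912
def N15647 : Q := sm gc N14913
def N15648 : Q := sm ge N14913
def N15649 : Q := sm gi N14914
def N15650 : Q := sm gi N14915
def N15651 : Q := sm gi N14916
def N15652 : Q := sm gh N14917
def N15653 : Q := sm gh N14918
def N15654 : Q := sm gd N14919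
def N15655 : Q := sm gh N14920
def N15656 : Q := sm gd N14921
def N15657 : Q := sm gc N14922
def N15658 : Q := sm ge N14922
def N15659 : Q := sm gf N14923
def N15660 : Q := sm gc N14925
def N15661 : Q := sm gi N14927
def N15662 : Q := sm gi N14928
def N15663 : Q := sm gi N14929
def N15664 : Q := sm gh N14930
def N15665 : Q := sm gh N14931
def N15666 : Q := sm gh N14934
def N15667 : Q := sm gh N14935
def N15668 : Q := sm gh N14936
def N15669 : Q := sm gd N14937
def N15670 : Q := sm gd N14938
def N15671 : Q := sm gc N14939
def N15672 : Q := sm ge N14939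
def N15673 : Q := sm gd N14940
def N15674 : Q := sm gc N14941
def N15675 : Q := sm ge N14942
def N15676 : Q := sm gd N14945
def N15677 : Q := sm gd N14947
def N15678 : Q := sm gc N14949
def N15679 : Q := sm gd N14951
def N15680 : Q := sm gc N14952
def N15681 : Q := sm ge N14952
def N15682 : Q := sm gd N14955
def N15683 : Q := sm gc N14956
def N15684 : Q := sm gd N14957
def N15685 : Q := sm gc N14958
def N15686 : Q := sm ge N14959
def N15687 : Q := sm ge N14962
def N15688 : Q := sm gd N14965
def N15689 : Q := sm gh N14968
def N15690 : Q := sm gh N14969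
def N15691 : Q := sm gd N14970
def N15692 : Q := sm gd N14971
def N15693 : Q := sm gd N14972
def N15694 : Q := sm ge N14973
def N15695 : Q := sm ge N14974
def N15696 : Q := sm gi N14975
def N15697 : Q := sm gi N14976
def N15698 : Q := sm gh N14977
def N15699 : Q := sm gh N14978
def N15700 : Q := sm gd N14979
def N15701 : Q := sm ge N14980
def N15702 : Q := sm gi N14981
def N15703 : Q := sm gi N14982
def N15704 : Q := sm gh N14983
def N15705 : Q := sm gh N14984
def N15706 : Q := sm gd N14985
def N15707 : Q := sm gd N14986
def N15708 : Q := sm ge N14987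
def N15709 : Q := sm gf N14988
def N15710 : Q := sm gh N14990
def N15711 : Q := sm gh N14991
def N15712 : Q := sm gd N14995
def N15713 : Q := sm gc N14996
def N15714 : Q := sm gh N14999
def N15715 : Q := sm gh N15000
def N15716 : Q := sm gd N15001
def N15717 : Q := sm gd N15002
def N15718 : Q := sm gd N15003
def N15719 : Q := sm gi N15003
def N15720 : Q := sm gh N15004
def N15721 : Q := sm gf N15005
def N15722 : Q := sm gh N15005
def N15723 : Q := sm gi N15005
def N15724 : Q := sm gi N15006
def N15725 : Q := sm gh N15007
def N15726 : Q := sm gd N15008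
def N15727 : Q := sm ge N15009
def N15728 : Q := sm gh N15009
def N15729 : Q := sm gi N15009
def N15730 : Q := sm gi N15010
def N15731 : Q := sm gh N15011
def N15732 : Q := sm gi N15012
def N15733 : Q := sm gh N15013
def N15734 : Q := sm gd N15014
def N15735 : Q := sm ge N15015
def N15736 : Q := sm gh N15016
def N15737 : Q := sm gd N15017
def N15738 : Q := sm gc N15018
def N15739 : Q := sm gi N15020
def N15740 : Q := sm ge N15021
def N15741 : Q := sm gh N15022
def N15742 : Q := sm gi N15022
def N15743 : Q := sm gh N15023
def N15744 : Q := sm gd N15024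
def N15745 : Q := sm ge N15025
def N15746 : Q := sm gh N15025
def N15747 : Q := sm gi N15025
def N15748 : Q := sm gi N15026
def N15749 : Q := sm gh N15027
def N15750 : Q := sm gh N15028
def N15751 : Q := sm gd N15029
def N15752 : Q := sm ge N15030
def N15753 : Q := sm gi N15031
def N15754 : Q := sm gi N15032
def N15755 : Q := sm gi N15033
def N15756 : Q := sm gh N15034
def N15757 : Q := sm gh N15035
def N15758 : Q := sm gd N15036
def N15759 : Q := sm gh N15037
def N15760 : Q := sm gd N15038
def N15761 : Q := sm ge N15039
def N15762 : Q := sm gf N15040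
def N15763 : Q := sm gi N15042
def N15764 : Q := sm gi N15043
def N15765 : Q := sm gi N15044
def N15766 : Q := sm gh N15045
def N15767 : Q := sm gh N15046
def N15768 : Q := sm gd N15047
def N15769 : Q := sm gh N15048
def N15770 : Q := sm gd N15049
def N15771 : Q := sm ge N15050
def N15772 : Q := sm gf N15051
def N15773 : Q := sm ge N15053
def N15774 : Q := sm gh N15053
def N15775 : Q := sm gi N15053
def N15776 : Q := sm gi N15054
def N15777 : Q := sm gh N15055
def N15778 : Q := sm gh N15056
def N15779 : Q := sm gd N15057
def N15780 : Q := sm ge N15058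
def N15781 : Q := sm gi N15059
def N15782 : Q := sm gi N15060
def N15783 : Q := sm gi N15061
def N15784 : Q := sm gh N15062
def N15785 : Q := sm gh N15063
def N15786 : Q := sm gd N15064
def N15787 : Q := sm gh N15065
def N15788 : Q := sm gd N15066
def N15789 : Q := sm gc N15067
def N15790 : Q := sm ge N15067
def N15791 : Q := sm gf N15068
def N15792 : Q := sm gh N15069
def N15793 : Q := sm gh N15070
def N15794 : Q := sm gh N15071
def N15795 : Q := sm gd N15072
def N15796 : Q := sm gd N15073
def N15797 : Q := sm gc N15074
def N15798 : Q := sm ge N15074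
def N15799 : Q := sm gd N15075
def N15800 : Q := sm gc N15076
def N15801 : Q := sm ge N15076
def N15802 : Q := sm gb N15077
def N15803 : Q := sm ge N15077
def N15804 : Q := sm gf N15078
def N15805 : Q := sm gg N15079
def N15806 : Q := sm gh N15082
def N15807 : Q := sm gh N15083
def N15808 : Q := sm gh N15084
def N15809 : Q := sm gd N15085
def N15810 : Q := sm gd N15086
def N15811 : Q := sm ge N15087
def N15812 : Q := sm gd N15088
def N15813 : Q := sm ge N15089
def N15814 : Q := sm gd N15091
def N15815 : Q := sm gd N15092
def N15816 : Q := sm gc N15094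
def N15817 : Q := sm gc N15095
def N15818 : Q := sm ge N15095
def N15819 : Q := sm gb N15096
def N15820 : Q := sm ge N15096
def N15821 : Q := sm gc N15102
def N15822 : Q := sm gd N15103
def N15823 : Q := sm gd N15104
def N15824 : Q := sm gc N15105
def N15825 : Q := sm ge N15106
def N15826 : Q := sm gd N15107
def N15827 : Q := sm gc N15108
def N15828 : Q := sm gc N15110
def N15829 : Q := sm ge N15110
def N15830 : Q := sm gb N15111
def N15831 : Q := sm gh N15117
def N15832 : Q := sm gd N15118
def N15833 : Q := sm gc N15120
def N15834 : Q := sm gi N15121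
def N15835 : Q := sm gh N15122
def N15836 : Q := sm gi N15124
def N15837 : Q := sm gd N15126
def N15838 : Q := sm gh N15127
def N15839 : Q := sm gc N15129
def N15840 : Q := sm gd N15130
def N15841 : Q := sm gc N15131
def N15842 : Q := sm ge N15131
def N15843 : Q := sm gb N15132
def N15844 : Q := sm gi N15133
def N15845 : Q := sm gi N15134
def N15846 : Q := sm gi N15135
def N15847 : Q := sm gh N15136
def N15848 : Q := sm gh N15137
def N15849 : Q := sm gd N15138
def N15850 : Q := sm gh N15139
def N15851 : Q := sm gd N15140
def N15852 : Q := sm gc N15141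
def N15853 : Q := sm gh N15142
def N15854 : Q := sm gh N15143
def N15855 : Q := sm gh N15144
def N15856 : Q := sm gd N15145
def N15857 : Q := sm gd N15146
def N15858 : Q := sm gc N15147
def N15859 : Q := sm ge N15147
def N15860 : Q := sm gd N15148
def N15861 : Q := sm gc N15149
def N15862 : Q := sm gb N15150
def N15863 : Q := sm ge N15150
def N15864 : Q := sm gf N15151
def N15865 : Q := sm gd N15153
def N15866 : Q := sm gd N15154
def N15867 : Q := sm ge N15157
def N15868 : Q := sm gb N15158
def N15869 : Q := sm ge N15158
def N15870 : Q := sm ge N15161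
def N15871 : Q := sm gd N15164
def N15872 : Q := sm gd N15165
def N15873 : Q := sm gd N15166
def N15874 : Q := sm gc N15167
def N15875 : Q := sm ge N15167
def N15876 : Q := sm gb N15169
def N15877 : Q := sm gc N15179
def N15878 : Q := sm gb N15180
def N15879 : Q := sm gd N15184
def N15880 : Q := sm gc N15185
def N15881 : Q := sm gi N15188
def N15882 : Q := sm gc N15193
def N15883 : Q := sm gc N15194
def N15884 : Q := sm gi N15195
def N15885 : Q := sm gi N15196
def N15886 : Q := sm gh N15197
def N15887 : Q := sm gh N15198
def N15888 : Q := sm gd N15199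
def N15889 : Q := sm gd N15200
def N15890 : Q := sm gc N15201
def N15891 : Q := sm gc N15202
def N15892 : Q := sm ge N15202
def N15893 : Q := sm gb N15203
def N15894 : Q := sm gh N15204
def N15895 : Q := sm gh N15205
def N15896 : Q := sm gh N15206
def N15897 : Q := sm gb N15211
def N15898 : Q := sm gb N15212
def N15899 : Q := sm ga N15214
def N15900 : Q := sm gi N15216
def N15901 : Q := sm gh N15217
def N15902 : Q := sm gi N15218
def N15903 : Q := sm gi N15219
def N15904 : Q := sm gh N15220
def N15905 : Q := sm gd N15221
def N15906 : Q := sm gh N15222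
def N15907 : Q := sm gd N15223
def N15908 : Q := sm gd N15224
def N15909 : Q := sm gi N15225
def N15910 : Q := sm gh N15226
def N15911 : Q := sm gd N15227
def N15912 : Q := sm ge N15228
def N15913 : Q := sm gc N15229
def N15914 : Q := sm gi N15230
def N15915 : Q := sm gh N15231
def N15916 : Q := sm gd N15232
def N15917 : Q := sm gc N15233
def N15918 : Q := sm ge N15233
def N15919 : Q := sm gi N15234
def N15920 : Q := sm gi N15235
def N15921 : Q := sm gh N15236
def N15922 : Q := sm gh N15237
def N15923 : Q := sm gd N15238
def N15924 : Q := sm gd N15239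
def N15925 : Q := sm gc N15240
def N15926 : Q := sm ge N15240
def N15927 : Q := sm gf N15241
def N15928 : Q := sm gc N15242
def N15929 : Q := sm gb N15243
def N15930 : Q := sm gh N15244
def N15931 : Q := sm gh N15245
def N15932 : Q := sm gh N15246
def N15933 : Q := sm gd N15247
def N15934 : Q := sm gd N15248
def N15935 : Q := sm gc N15249
def N15936 : Q := sm ge N15249
def N15937 : Q := sm gd N15250
def N15938 : Q := sm gc N15251
def N15939 : Q := sm gb N15252
def N15940 : Q := sm ge N15252
def N15941 : Q := sm ga N15255
def N15942 : Q := sm gc N15256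
def N15943 : Q := sm ge N15256
def N15944 : Q := sm gb N15258
def N15945 : Q := sm gc N15259
def N15946 : Q := sm ge N15259
def N15947 : Q := sm ge N15260
def N15948 : Q := sm gf N15261
def N15949 : Q := sm gb N15262
def N15950 : Q := sm gd N15267
def N15951 : Q := sm gi N15268
def N15952 : Q := sm gi N15269
def N15953 : Q := sm gh N15270
def N15954 : Q := sm gi N15271
def N15955 : Q := sm gh N15272
def N15956 : Q := sm gd N15273
def N15957 : Q := sm ge N15274
def N15958 : Q := sm gh N15275
def N15959 : Q := sm gd N15276
def N15960 : Q := sm gc N15277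
def N15961 : Q := sm gi N15278
def N15962 : Q := sm gi N15279
def N15963 : Q := sm gh N15280
def N15964 : Q := sm gh N15281
def N15965 : Q := sm gd N15282
def N15966 : Q := sm gd N15283
def N15967 : Q := sm gc N15284
def N15968 : Q := sm ge N15284
def N15969 : Q := sm gf N15285
def N15970 : Q := sm gc N15286
def N15971 : Q := sm gh N15288
def N15972 : Q := sm gh N15289
def N15973 : Q := sm gh N15290
def N15974 : Q := sm gd N15291
def N15975 : Q := sm gd N15292
def N15976 : Q := sm gc N15293
def N15977 : Q := sm ge N15293
def N15978 : Q := sm gd N15294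
def N15979 : Q := sm gc N15295
def N15980 : Q := sm ge N15295
def N15981 : Q := sm gb N15296
def N15982 : Q := sm ge N15296
def N15983 : Q := sm gf N15297
def N15984 : Q := sm gg N15298
def N15985 : Q := sm gc N15299
def N15986 : Q := sm gb N15300
def N15987 : Q := sm ge N15300
def N15988 : Q := sm ga N15302
def N15989 : Q := sm gd N15303
def N15990 : Q := sm gd N15304
def N15991 : Q := sm gd N15305
def N15992 : Q := sm gc N15306
def N15993 : Q := sm ge N15306
def N15994 : Q := sm gc N15307
def N15995 : Q := sm ge N15307
def N15996 : Q := sm gb N15308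
def N15997 : Q := sm ge N15308
def N15998 : Q := sm gc N15310
def N15999 : Q := sm gb N15311
def N16000 : Q := sm ge N15311
def N16001 : Q := sm ga N15313
def N16002 : Q := sm ge N15313
def N16003 : Q := sm gd N15317
def N16004 : Q := sm gc N15319
def N16005 : Q := sm gh N15320
def N16006 : Q := sm gd N15323
def N16007 : Q := sm gc N15324
def N16008 : Q := sm ge N15324
def N16009 : Q := sm gb N15325
def N16010 : Q := sm gc N15328
def N16011 : Q := sm ge N15328
def N16012 : Q := sm gb N15329
def N16013 : Q := sm gb N15331
def N16014 : Q := sm ge N15331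
def N16015 : Q := sm ga N15333
def N16016 : Q := sm ge N15333
def N16017 : Q := sm ge N15336
def N16018 : Q := sm gi N15338
def N16019 : Q := sm gi N15339
def N16020 : Q := sm gh N15340
def N16021 : Q := sm gi N15341
def N16022 : Q := sm gi N15342
def N16023 : Q := sm gh N15343
def N16024 : Q := sm gd N15344
def N16025 : Q := sm gh N15345
def N16026 : Q := sm gd N15346
def N16027 : Q := sm gh N15347
def N16028 : Q := sm gh N15349
def N16029 : Q := sm gi N15350
def N16030 : Q := sm gh N15351
def N16031 : Q := sm gd N15352
def N16032 : Q := sm gd N15353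
def N16033 : Q := sm gh N15354
def N16034 : Q := sm gi N15355
def N16035 : Q := sm gh N15356
def N16036 : Q := sm gd N15357
def N16037 : Q := sm gi N15358
def N16038 : Q := sm gi N15359
def N16039 : Q := sm gh N15360
def N16040 : Q := sm gh N15361
def N16041 : Q := sm gd N15362
def N16042 : Q := sm ge N15363
def N16043 : Q := sm gd N15364
def N16044 : Q := sm gc N15365
def N16045 : Q := sm gh N15366
def N16046 : Q := sm gh N15367
def N16047 : Q := sm gd N15368
def N16048 : Q := sm gd N15369
def N16049 : Q := sm gh N15370
def N16050 : Q := sm gd N15371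
def N16051 : Q := sm gd N15372
def N16052 : Q := sm ge N15373
def N16053 : Q := sm gc N15374
def N16054 : Q := sm gi N15375
def N16055 : Q := sm gh N15376
def N16056 : Q := sm gd N15377
def N16057 : Q := sm gi N15378
def N16058 : Q := sm gh N15380
def N16059 : Q := sm gh N15381
def N16060 : Q := sm gd N15382
def N16061 : Q := sm gc N15383
def N16062 : Q := sm ge N15383
def N16063 : Q := sm gi N15385
def N16064 : Q := sm gi N15386
def N16065 : Q := sm gh N15387
def N16066 : Q := sm gh N15388
def N16067 : Q := sm gd N15389
def N16068 : Q := sm gh N15390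
def N16069 : Q := sm gd N15391
def N16070 : Q := sm gc N15392
def N16071 : Q := sm ge N15392
def N16072 : Q := sm gf N15393
def N16073 : Q := sm gc N15395
def N16074 : Q := sm gb N15396
def N16075 : Q := sm gh N15398
def N16076 : Q := sm gh N15399
def N16077 : Q := sm gd N15401
def N16078 : Q := sm gc N15402
def N16079 : Q := sm gb N15403
def N16080 : Q := sm ga N15405
def N16081 : Q := sm gd N15406
def N16082 : Q := sm gd N15409
def N16083 : Q := sm gc N15411
def N16084 : Q := sm ge N15411
def N16085 : Q := sm gb N15414
def N16086 : Q := sm gc N15418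
def N16087 : Q := sm gc N15420
def N16088 : Q := sm ge N15422
def N16089 : Q := sm ga N15425
def N16090 : Q := sm gd N15429
def N16091 : Q := sm gh N15432
def N16092 : Q := sm gh N15434
def N16093 : Q := sm gd N15435
def N16094 : Q := sm gi N15436
def N16095 : Q := sm gh N15437
def N16096 : Q := sm gi N15438
def N16097 : Q := sm gh N15439
def N16098 : Q := sm gd N15440
def N16099 : Q := sm gi N15441
def N16100 : Q := sm gh N15442
def N16101 : Q := sm gi N15443
def N16102 : Q := sm gh N15444
def N16103 : Q := sm gd N15445
def N16104 : Q := sm ge N15446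
def N16105 : Q := sm gh N15447
def N16106 : Q := sm gd N15448
def N16107 : Q := sm gc N15449
def N16108 : Q := sm gd N15450
def N16109 : Q := sm gd N15451
def N16110 : Q := sm gh N15452
def N16111 : Q := sm gd N15453
def N16112 : Q := sm ge N15454
def N16113 : Q := sm gc N15455
def N16114 : Q := sm gd N15456
def N16115 : Q := sm gi N15457
def N16116 : Q := sm gi N15458
def N16117 : Q := sm gh N15459
def N16118 : Q := sm gh N15460
def N16119 : Q := sm gd N15461
def N16120 : Q := sm ge N15462
def N16121 : Q := sm gi N15463
def N16122 : Q := sm gi N15464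
def N16123 : Q := sm gi N15465
def N16124 : Q := sm gh N15466
def N16125 : Q := sm gh N15467
def N16126 : Q := sm gd N15468
def N16127 : Q := sm gh N15469
def N16128 : Q := sm gd N15470
def N16129 : Q := sm gc N15471
def N16130 : Q := sm ge N15471
def N16131 : Q := sm gf N15472
def N16132 : Q := sm gc N15474
def N16133 : Q := sm gb N15475
def N16134 : Q := sm gh N15476
def N16135 : Q := sm gd N15477
def N16136 : Q := sm ge N15478
def N16137 : Q := sm gc N15479
def N16138 : Q := sm gd N15480
def N16139 : Q := sm gh N15481
def N16140 : Q := sm gd N15482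
def N16141 : Q := sm ge N15483
def N16142 : Q := sm gi N15484
def N16143 : Q := sm gh N15485
def N16144 : Q := sm gd N15486
def N16145 : Q := sm gh N15487
def N16146 : Q := sm gd N15488
def N16147 : Q := sm gc N15489
def N16148 : Q := sm ge N15489
def N16149 : Q := sm gf N15490
def N16150 : Q := sm gc N15492
def N16151 : Q := sm ge N15492
def N16152 : Q := sm gb N15493
def N16153 : Q := sm gi N15494
def N16154 : Q := sm gi N15495
def N16155 : Q := sm gh N15496
def N16156 : Q := sm gh N15497
def N16157 : Q := sm gd N15498
def N16158 : Q := sm ge N15499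
def N16159 : Q := sm gi N15500
def N16160 : Q := sm gi N15501
def N16161 : Q := sm gi N15502
def N16162 : Q := sm gh N15503
def N16163 : Q := sm gh N15504
def N16164 : Q := sm gd N15505
def N16165 : Q := sm gh N15506
def N16166 : Q := sm gd N15507
def N16167 : Q := sm gc N15508
def N16168 : Q := sm ge N15508
def N16169 : Q := sm gf N15509
def N16170 : Q := sm gh N15510
def N16171 : Q := sm gh N15511
def N16172 : Q := sm gh N15512
def N16173 : Q := sm gd N15513
def N16174 : Q := sm gd N15514
def N16175 : Q := sm gc N15515
def N16176 : Q := sm ge N15515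
def N16177 : Q := sm gd N15516
def N16178 : Q := sm gc N15517
def N16179 : Q := sm ge N15517
def N16180 : Q := sm gb N15518
def N16181 : Q := sm ge N15518
def N16182 : Q := sm gf N15519
def N16183 : Q := sm gg N15520
def N16184 : Q := sm gb N15521
def N16185 : Q := sm ga N15522
def N16186 : Q := sm gh N15523
def N16187 : Q := sm gd N15524
def N16188 : Q := sm gc N15525
def N16189 : Q := sm gc N15526
def N16190 : Q := sm ge N15526
def N16191 : Q := sm gb N15527
def N16192 : Q := sm gb N15528
def N16193 : Q := sm ge N15528
def N16194 : Q := sm gd N15532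
def N16195 : Q := sm gd N15533
def N16196 : Q := sm gc N15534
def N16197 : Q := sm gc N15535
def N16198 : Q := sm ge N15535
def N16199 : Q := sm gb N15536
def N16200 : Q := sm ge N15536
def N16201 : Q := sm gb N15539
def N16202 : Q := sm ga N15540
def N16203 : Q := sm ge N15540
def N16204 : Q := sm gb N15544
def N16205 : Q := sm gc N15546
def N16206 : Q := sm gb N15547
def N16207 : Q := sm ga N15548
def N16208 : Q := sm gc N15549
def N16209 : Q := sm gb N15550
def N16210 : Q := sm gb N15551
def N16211 : Q := sm gc N15555
def N16212 : Q := sm gd N15556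
def N16213 : Q := sm gc N15557
def N16214 : Q := sm ge N15557
def N16215 : Q := sm gb N15558
def N16216 : Q := sm gh N15569
def N16217 : Q := sm ge N15573
def N16218 : Q := sm gb N15574
def N16219 : Q := sm gd N15575
def N16220 : Q := sm ge N15576
def N16221 : Q := sm gd N15577
def N16222 : Q := sm ge N15578
def N16223 : Q := sm gd N15579
def N16224 : Q := sm gc N15580
def N16225 : Q := sm ge N15580
def N16226 : Q := sm gd N15581
def N16227 : Q := sm ge N15582
def N16228 : Q := sm gf N15583
def N16229 : Q := sm gc N15584
def N16230 : Q := sm gc N15585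
def N16231 : Q := sm gd N15589
def N16232 : Q := sm gh N15590
def N16233 : Q := sm gh N15592
def N16234 : Q := sm gh N15593
def N16235 : Q := sm gd N15594
def N16236 : Q := sm gi N15596
def N16237 : Q := sm gh N15597
def N16238 : Q := sm gi N15598
def N16239 : Q := sm gh N15599
def N16240 : Q := sm gd N15600
def N16241 : Q := sm gi N15601
def N16242 : Q := sm gh N15602
def N16243 : Q := sm gh N15603
def N16244 : Q := sm gd N15604
def N16245 : Q := sm ge N15605
def N16246 : Q := sm gd N15606
def N16247 : Q := sm gc N15607
def N16248 : Q := sm gd N15608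
def N16249 : Q := sm gd N15609
def N16250 : Q := sm ge N15610
def N16251 : Q := sm gd N15611
def N16252 : Q := sm gh N15612
def N16253 : Q := sm gd N15613
def N16254 : Q := sm gc N15614
def N16255 : Q := sm ge N15614
def N16256 : Q := sm gi N15615
def N16257 : Q := sm gi N15616
def N16258 : Q := sm gh N15617
def N16259 : Q := sm gh N15618
def N16260 : Q := sm gd N15619
def N16261 : Q := sm gd N15620
def N16262 : Q := sm ge N15621
def N16263 : Q := sm gf N15622
def N16264 : Q := sm gh N15623
def N16265 : Q := sm gd N15624
def N16266 : Q := sm ge N15625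
def N16267 : Q := sm gc N15626
def N16268 : Q := sm gh N15627
def N16269 : Q := sm gd N15628
def N16270 : Q := sm gc N15629
def N16271 : Q := sm ge N15629
def N16272 : Q := sm gh N15630
def N16273 : Q := sm gh N15631
def N16274 : Q := sm gd N15632
def N16275 : Q := sm gd N15633
def N16276 : Q := sm ge N15634
def N16277 : Q := sm gf N15635
def N16278 : Q := sm gi N15636
def N16279 : Q := sm gh N15637
def N16280 : Q := sm gd N15638
def N16281 : Q := sm gc N15639
def N16282 : Q := sm ge N15639
def N16283 : Q := sm gi N15640
def N16284 : Q := sm gi N15641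
def N16285 : Q := sm gh N15642
def N16286 : Q := sm gh N15643
def N16287 : Q := sm gd N15644
def N16288 : Q := sm gd N15645
def N16289 : Q := sm gc N15646
def N16290 : Q := sm ge N15646
def N16291 : Q := sm ge N15647
def N16292 : Q := sm gf N15648
def N16293 : Q := sm gh N15649
def N16294 : Q := sm gh N15650
def N16295 : Q := sm gh N15651
def N16296 : Q := sm gd N15652
def N16297 : Q := sm gd N15653
def N16298 : Q := sm gc N15654
def N16299 : Q := sm ge N15654
def N16300 : Q := sm gd N15655
def N16301 : Q := sm gc N15656
def N16302 : Q := sm ge N15656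
def N16303 : Q := sm ge N15657
def N16304 : Q := sm gf N15658
def N16305 : Q := sm gg N15659
def N16306 : Q := sm gh N15661
def N16307 : Q := sm gh N15662
def N16308 : Q := sm gh N15663
def N16309 : Q := sm gd N15667
def N16310 : Q := sm gc N15669
def N16311 : Q := sm gc N15670
def N16312 : Q := sm ge N15670
def N16313 : Q := sm ge N15671
def N16314 : Q := sm gc N15676
def N16315 : Q := sm gc N15677
def N16316 : Q := sm gc N15679
def N16317 : Q := sm ge N15680
def N16318 : Q := sm gc N15682
def N16319 : Q := sm gc N15684
def N16320 : Q := sm gd N15686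
def N16321 : Q := sm gd N15687
def N16322 : Q := sm gh N15688
def N16323 : Q := sm gd N15689
def N16324 : Q := sm gd N15690
def N16325 : Q := sm ge N15691
def N16326 : Q := sm gc N15692
def N16327 : Q := sm ge N15693
def N16328 : Q := sm gf N15694
def N16329 : Q := sm gf N15695
def N16330 : Q := sm gh N15696
def N16331 : Q := sm gh N15697
def N16332 : Q := sm gd N15698
def N16333 : Q := sm gd N15699
def N16334 : Q := sm gc N15700
def N16335 : Q := sm ge N15700
def N16336 : Q := sm gf N15701
def N16337 : Q := sm gh N15702
def N16338 : Q := sm gh N15703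
def N16339 : Q := sm gd N15704
def N16340 : Q := sm gd N15705
def N16341 : Q := sm ge N15706
def N16342 : Q := sm ge N15707
def N16343 : Q := sm gf N15708
def N16344 : Q := sm gg N15709
def N16345 : Q := sm gc N15712
def N16346 : Q := sm gi N15714
def N16347 : Q := sm gd N15715
def N16348 : Q := sm ge N15716
def N16349 : Q := sm gc N15717
def N16350 : Q := sm gi N15718
def N16351 : Q := sm gh N15719
def N16352 : Q := sm gd N15720
def N16353 : Q := sm gi N15721
def N16354 : Q := sm gi N15722
def N16355 : Q := sm gh N15723
def N16356 : Q := sm gh N15724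
def N16357 : Q := sm gd N15725
def N16358 : Q := sm ge N15726
def N16359 : Q := sm gi N15727
def N16360 : Q := sm gi N15728
def N16361 : Q := sm gh N15729
def N16362 : Q := sm gh N15730
def N16363 : Q := sm gd N15731
def N16364 : Q := sm gh N15732
def N16365 : Q := sm gd N15733
def N16366 : Q := sm gc N15734
def N16367 : Q := sm ge N15734
def N16368 : Q := sm gf N15735
def N16369 : Q := sm gd N15736
def N16370 : Q := sm gc N15737
def N16371 : Q := sm ge N15737
def N16372 : Q := sm gb N15738
def N16373 : Q := sm gf N15740
def N16374 : Q := sm gi N15741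
def N16375 : Q := sm gh N15742
def N16376 : Q := sm gd N15743
def N16377 : Q := sm ge N15744
def N16378 : Q := sm gi N15745
def N16379 : Q := sm gi N15746
def N16380 : Q := sm gh N15747
def N16381 : Q := sm gh N15748
def N16382 : Q := sm gd N15749
def N16383 : Q := sm gd N15750
def N16384 : Q := sm gc N15751
def N16385 : Q := sm ge N15751
def N16386 : Q := sm gf N15752
def N16387 : Q := sm gh N15753
def N16388 : Q := sm gh N15754
def N16389 : Q := sm gh N15755
def N16390 : Q := sm gd N15756
def N16391 : Q := sm gd N15757
def N16392 : Q := sm ge N15758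
def N16393 : Q := sm gd N15759
def N16394 : Q := sm ge N15760
def N16395 : Q := sm gf N15761
def N16396 : Q := sm gg N15762
def N16397 : Q := sm gh N15763
def N16398 : Q := sm gh N15764
def N16399 : Q := sm gh N15765
def N16400 : Q := sm gd N15766
def N16401 : Q := sm gd N15767
def N16402 : Q := sm ge N15768
def N16403 : Q := sm gd N15769
def N16404 : Q := sm ge N15770
def N16405 : Q := sm gf N15771
def N16406 : Q := sm gg N15772
def N16407 : Q := sm gi N15773
def N16408 : Q := sm gi N15774
def N16409 : Q := sm gh N15775
def N16410 : Q := sm gh N15776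
def N16411 : Q := sm gd N15777
def N16412 : Q := sm gd N15778
def N16413 : Q := sm gc N15779
def N16414 : Q := sm ge N15779
def N16415 : Q := sm gf N15780
def N16416 : Q := sm gh N15781
def N16417 : Q := sm gh N15782
def N16418 : Q := sm gh N15783
def N16419 : Q := sm gd N15784
def N16420 : Q := sm gd N15785
def N16421 : Q := sm gc N15786
def N16422 : Q := sm ge N15786
def N16423 : Q := sm gd N15787
def N16424 : Q := sm gc N15788
def N16425 : Q := sm ge N15788
def N16426 : Q := sm gb N15789
def N16427 : Q := sm ge N15789
def N16428 : Q := sm gf N15790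
def N16429 : Q := sm gg N15791
def N16430 : Q := sm gd N15792
def N16431 : Q := sm gd N15793
def N16432 : Q := sm gd N15794
def N16433 : Q := sm gc N15795
def N16434 : Q := sm ge N15795
def N16435 : Q := sm gc N15796
def N16436 : Q := sm ge N15796
def N16437 : Q := sm gb N15797
def N16438 : Q := sm ge N15797
def N16439 : Q := sm gf N15798
def N16440 : Q := sm ge N15799
def N16441 : Q := sm ge N15800
def N16442 : Q := sm gf N15801
def N16443 : Q := sm ge N15802
def N16444 : Q := sm gf N15803
def N16445 : Q := sm gg N15804
def N16446 : Q := sm gd N15806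
def N16447 : Q := sm gd N15807
def N16448 : Q := sm gd N15808
def N16449 : Q := sm ge N15809
def N16450 : Q := sm ge N15810
def N16451 : Q := sm gc N15814
def N16452 : Q := sm gd N15820
def N16453 : Q := sm gc N15822
def N16454 : Q := sm gc N15823
def N16455 : Q := sm ge N15823
def N16456 : Q := sm gc N15826
def N16457 : Q := sm gb N15827
def N16458 : Q := sm gb N15833
def N16459 : Q := sm gc N15837
def N16460 : Q := sm gb N15839
def N16461 : Q := sm gb N15841
def N16462 : Q := sm ga N15843
def N16463 : Q := sm gh N15844
def N16464 : Q := sm gh N15845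
def N16465 : Q := sm gh N15846
def N16466 : Q := sm gd N15847
def N16467 : Q := sm gd N15848
def N16468 : Q := sm gc N15849
def N16469 : Q := sm gd N15850
def N16470 : Q := sm gc N15851
def N16471 : Q := sm gb N15852
def N16472 : Q := sm gd N15853
def N16473 : Q := sm gd N15854
def N16474 : Q := sm gc N15856
def N16475 : Q := sm gc N15857
def N16476 : Q := sm ge N15857
def N16477 : Q := sm gb N15858
def N16478 : Q := sm ge N15858
def N16479 : Q := sm ge N15862
def N16480 : Q := sm gf N15863
def N16481 : Q := sm ge N15868
def N16482 : Q := sm gc N15879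
def N16483 : Q := sm ge N15879
def N16484 : Q := sm gb N15880
def N16485 : Q := sm gb N15883
def N16486 : Q := sm gh N15884
def N16487 : Q := sm gh N15885
def N16488 : Q := sm gd N15886
def N16489 : Q := sm gd N15887
def N16490 : Q := sm gc N15888
def N16491 : Q := sm gc N15889
def N16492 : Q := sm ge N15889
def N16493 : Q := sm gb N15890
def N16494 : Q := sm gb N15891
def N16495 : Q := sm ge N15891
def N16496 : Q := sm ga N15893
def N16497 : Q := sm gd N15894
def N16498 : Q := sm ga N15897
def N16499 : Q := sm gh N15900
def N16500 : Q := sm gd N15901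
def N16501 : Q := sm gh N15902
def N16502 : Q := sm gh N15903
def N16503 : Q := sm gd N15904
def N16504 : Q := sm ge N15905
def N16505 : Q := sm gd N15906
def N16506 : Q := sm gc N15907
def N16507 : Q := sm gc N15908
def N16508 : Q := sm ge N15908
def N16509 : Q := sm gh N15909
def N16510 : Q := sm gd N15910
def N16511 : Q := sm gc N15911
def N16512 : Q := sm ge N15911
def N16513 : Q := sm gf N15912
def N16514 : Q := sm gb N15913
def N16515 : Q := sm gh N15914
def N16516 : Q := sm gd N15915
def N16517 : Q := sm gc N15916
def N16518 : Q := sm ge N15916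
def N16519 : Q := sm ge N15917
def N16520 : Q := sm gf N15918
def N16521 : Q := sm gh N15919
def N16522 : Q := sm gh N15920
def N16523 : Q := sm gd N15921
def N16524 : Q := sm gd N15922
def N16525 : Q := sm gc N15923
def N16526 : Q := sm ge N15923
def N16527 : Q := sm gc N15924
def N16528 : Q := sm ge N15924
def N16529 : Q := sm gb N15925
def N16530 : Q := sm ge N15925
def N16531 : Q := sm gf N15926
def N16532 : Q := sm gg N15927
def N16533 : Q := sm ga N15929
def N16534 : Q := sm gd N15931
def N16535 : Q := sm gd N15932
def N16536 : Q := sm gc N15933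
def N16537 : Q := sm gc N15934
def N16538 : Q := sm ge N15934
def N16539 : Q := sm gb N15935
def N16540 : Q := sm ge N15935
def N16541 : Q := sm ga N15939
def N16542 : Q := sm ge N15939
def N16543 : Q := sm ge N15942
def N16544 : Q := sm gb N15945
def N16545 : Q := sm ge N15945
def N16546 : Q := sm gd N15947
def N16547 : Q := sm gh N15950
def N16548 : Q := sm gh N15951
def N16549 : Q := sm gh N15952
def N16550 : Q := sm gd N15953
def N16551 : Q := sm gh N15954
def N16552 : Q := sm gd N15955
def N16553 : Q := sm gc N15956
def N16554 : Q := sm ge N15956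
def N16555 : Q := sm gf N15957
def N16556 : Q := sm gd N15958
def N16557 : Q := sm gc N15959
def N16558 : Q := sm ge N15959
def N16559 : Q := sm gb N15960
def N16560 : Q := sm gh N15961
def N16561 : Q := sm gh N15962
def N16562 : Q := sm gd N15963
def N16563 : Q := sm gd N15964
def N16564 : Q := sm gc N15965
def N16565 : Q := sm ge N15965
def N16566 : Q := sm gc N15966
def N16567 : Q := sm ge N15966
def N16568 : Q := sm ge N15967
def N16569 : Q := sm gf N15968
def N16570 : Q := sm gg N15969
def N16571 : Q := sm gd N15971
def N16572 : Q := sm gd N15972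
def N16573 : Q := sm gd N15973
def N16574 : Q := sm gc N15974
def N16575 : Q := sm ge N15974
def N16576 : Q := sm gc N15975
def N16577 : Q := sm ge N15975
def N16578 : Q := sm gb N15976
def N16579 : Q := sm ge N15976
def N16580 : Q := sm gf N15977
def N16581 : Q := sm gc N15978
def N16582 : Q := sm ge N15978
def N16583 : Q := sm gb N15979
def N16584 : Q := sm ge N15979
def N16585 : Q := sm gf N15980
def N16586 : Q := sm ga N15981
def N16587 : Q := sm ge N15981
def N16588 : Q := sm gf N15982
def N16589 : Q := sm gg N15983
def N16590 : Q := sm gd N15987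
def N16591 : Q := sm gc N15989
def N16592 : Q := sm gc N15990
def N16593 : Q := sm gc N15991
def N16594 : Q := sm ge N15991
def N16595 : Q := sm gb N15992
def N16596 : Q := sm ge N15992
def N16597 : Q := sm gb N15994
def N16598 : Q := sm ge N15994
def N16599 : Q := sm ga N15996
def N16600 : Q := sm ge N15996
def N16601 : Q := sm gd N15997
def N16602 : Q := sm ge N16001
def N16603 : Q := sm gh N16003
def N16604 : Q := sm gb N16007
def N16605 : Q := sm ga N16009
def N16606 : Q := sm gb N16010
def N16607 : Q := sm ga N16013
def N16608 : Q := sm ge N16013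
def N16609 : Q := sm ge N16015
def N16610 : Q := sm gh N16018
def N16611 : Q := sm gh N16019
def N16612 : Q := sm gd N16020
def N16613 : Q := sm gh N16021
def N16614 : Q := sm gh N16022
def N16615 : Q := sm gd N16023
def N16616 : Q := sm ge N16024
def N16617 : Q := sm gd N16025
def N16618 : Q := sm gc N16026
def N16619 : Q := sm gd N16027
def N16620 : Q := sm gd N16028
def N16621 : Q := sm gh N16029
def N16622 : Q := sm gd N16030
def N16623 : Q := sm ge N16031
def N16624 : Q := sm gc N16032
def N16625 : Q := sm gd N16033
def N16626 : Q := sm gh N16034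
def N16627 : Q := sm gd N16035
def N16628 : Q := sm gc N16036
def N16629 : Q := sm ge N16036
def N16630 : Q := sm gh N16037
def N16631 : Q := sm gh N16038
def N16632 : Q := sm gd N16039
def N16633 : Q := sm gd N16040
def N16634 : Q := sm gc N16041
def N16635 : Q := sm ge N16041
def N16636 : Q := sm gf N16042
def N16637 : Q := sm gc N16043
def N16638 : Q := sm gb N16044
def N16639 : Q := sm gd N16045
def N16640 : Q := sm gd N16046
def N16641 : Q := sm ge N16047
def N16642 : Q := sm gc N16048
def N16643 : Q := sm gd N16049
def N16644 : Q := sm gc N16050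
def N16645 : Q := sm ge N16050
def N16646 : Q := sm gc N16051
def N16647 : Q := sm ge N16051
def N16648 : Q := sm gf N16052
def N16649 : Q := sm gh N16054
def N16650 : Q := sm gd N16055
def N16651 : Q := sm gc N16056
def N16652 : Q := sm ge N16056
def N16653 : Q := sm gh N16057
def N16654 : Q := sm gd N16058
def N16655 : Q := sm gd N16059
def N16656 : Q := sm ge N16060
def N16657 : Q := sm ge N16061
def N16658 : Q := sm gf N16062
def N16659 : Q := sm gh N16063
def N16660 : Q := sm gh N16064
def N16661 : Q := sm gd N16065
def N16662 : Q := sm gd N16066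
def N16663 : Q := sm gc N16067
def N16664 : Q := sm ge N16067
def N16665 : Q := sm gd N16068
def N16666 : Q := sm gc N16069
def N16667 : Q := sm ge N16069
def N16668 : Q := sm gb N16070
def N16669 : Q := sm ge N16070
def N16670 : Q := sm gf N16071
def N16671 : Q := sm gg N16072
def N16672 : Q := sm ga N16074
def N16673 : Q := sm gc N16077
def N16674 : Q := sm gb N16078
def N16675 : Q := sm ga N16079
def N16676 : Q := sm gc N16081
def N16677 : Q := sm gc N16082
def N16678 : Q := sm ge N16083
def N16679 : Q := sm gd N16088
def N16680 : Q := sm gh N16090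
def N16681 : Q := sm gd N16091
def N16682 : Q := sm gd N16092
def N16683 : Q := sm ge N16093
def N16684 : Q := sm gh N16094
def N16685 : Q := sm gd N16095
def N16686 : Q := sm gh N16096
def N16687 : Q := sm gd N16097
def N16688 : Q := sm ge N16098
def N16689 : Q := sm gh N16099
def N16690 : Q := sm gd N16100
def N16691 : Q := sm gh N16101
def N16692 : Q := sm gd N16102
def N16693 : Q := sm gc N16103
def N16694 : Q := sm ge N16103
def N16695 : Q := sm gf N16104
def N16696 : Q := sm gc N16106
def N16697 : Q := sm ge N16106
def N16698 : Q := sm gb N16107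
def N16699 : Q := sm ge N16108
def N16700 : Q := sm ge N16109
def N16701 : Q := sm gd N16110
def N16702 : Q := sm gc N16111
def N16703 : Q := sm ge N16111
def N16704 : Q := sm gf N16112
def N16705 : Q := sm gb N16113
def N16706 : Q := sm ge N16114
def N16707 : Q := sm gh N16115
def N16708 : Q := sm gh N16116
def N16709 : Q := sm gd N16117
def N16710 : Q := sm gd N16118
def N16711 : Q := sm gc N16119
def N16712 : Q := sm ge N16119
def N16713 : Q := sm gf N16120
def N16714 : Q := sm gh N16121
def N16715 : Q := sm gh N16122
def N16716 : Q := sm gh N16123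
def N16717 : Q := sm gd N16124
def N16718 : Q := sm gd N16125
def N16719 : Q := sm gc N16126
def N16720 : Q := sm ge N16126
def N16721 : Q := sm gd N16127
def N16722 : Q := sm gc N16128
def N16723 : Q := sm ge N16128
def N16724 : Q := sm gb N16129
def N16725 : Q := sm ge N16129
def N16726 : Q := sm gf N16130
def N16727 : Q := sm gg N16131
def N16728 : Q := sm gb N16132
def N16729 : Q := sm ga N16133
def N16730 : Q := sm gd N16134
def N16731 : Q := sm gc N16135
def N16732 : Q := sm ge N16135
def N16733 : Q := sm gf N16136
def N16734 : Q := sm ge N16138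
def N16735 : Q := sm gd N16139
def N16736 : Q := sm gc N16140
def N16737 : Q := sm ge N16140
def N16738 : Q := sm gf N16141
def N16739 : Q := sm gh N16142
def N16740 : Q := sm gd N16143
def N16741 : Q := sm gc N16144
def N16742 : Q := sm ge N16144
def N16743 : Q := sm gd N16145
def N16744 : Q := sm gc N16146
def N16745 : Q := sm ge N16146
def N16746 : Q := sm gb N16147
def N16747 : Q := sm ge N16147
def N16748 : Q := sm gf N16148
def N16749 : Q := sm gg N16149
def N16750 : Q := sm gb N16150
def N16751 : Q := sm ge N16150
def N16752 : Q := sm gh N16153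
def N16753 : Q := sm gh N16154
def N16754 : Q := sm gd N16155
def N16755 : Q := sm gd N16156
def N16756 : Q := sm gc N16157
def N16757 : Q := sm ge N16157
def N16758 : Q := sm gf N16158
def N16759 : Q := sm gh N16159
def N16760 : Q := sm gh N16160
def N16761 : Q := sm gh N16161
def N16762 : Q := sm gd N16162
def N16763 : Q := sm gd N16163
def N16764 : Q := sm gc N16164
def N16765 : Q := sm ge N16164
def N16766 : Q := sm gd N16165
def N16767 : Q := sm gc N16166
def N16768 : Q := sm ge N16166
def N16769 : Q := sm gb N16167
def N16770 : Q := sm ge N16167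
def N16771 : Q := sm gf N16168
def N16772 : Q := sm gg N16169
def N16773 : Q := sm gd N16170
def N16774 : Q := sm gd N16171
def N16775 : Q := sm gd N16172
def N16776 : Q := sm gc N16173
def N16777 : Q := sm ge N16173
def N16778 : Q := sm gc N16174
def N16779 : Q := sm ge N16174
def N16780 : Q := sm gb N16175
def N16781 : Q := sm ge N16175
def N16782 : Q := sm gf N16176
def N16783 : Q := sm ge N16177
def N16784 : Q := sm gb N16178
def N16785 : Q := sm ge N16178
def N16786 : Q := sm gf N16179
def N16787 : Q := sm ga N16180
def N16788 : Q := sm ge N16180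
def N16789 : Q := sm gf N16181
def N16790 : Q := sm gg N16182
def N16791 : Q := sm gc N16187
def N16792 : Q := sm ge N16187
def N16793 : Q := sm gb N16188
def N16794 : Q := sm gb N16189
def N16795 : Q := sm ge N16189
def N16796 : Q := sm ga N16191
def N16797 : Q := sm gc N16195
def N16798 : Q := sm gb N16196
def N16799 : Q := sm gb N16197
def N16800 : Q := sm ge N16197
def N16801 : Q := sm ga N16199
def N16802 : Q := sm ge N16199
def N16803 : Q := sm gd N16200
def N16804 : Q := sm ge N16202
def N16805 : Q := sm gb N16208
def N16806 : Q := sm gc N16212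
def N16807 : Q := sm ge N16213
def N16808 : Q := sm ga N16218
def N16809 : Q := sm ge N16219
def N16810 : Q := sm gf N16220
def N16811 : Q := sm gc N16221
def N16812 : Q := sm ge N16221
def N16813 : Q := sm gf N16222
def N16814 : Q := sm gc N16223
def N16815 : Q := sm ge N16223
def N16816 : Q := sm ge N16224
def N16817 : Q := sm gf N16225
def N16818 : Q := sm ge N16226
def N16819 : Q := sm gf N16227
def N16820 : Q := sm gg N16228
def N16821 : Q := sm gh N16231
def N16822 : Q := sm gd N16232
def N16823 : Q := sm gd N16233
def N16824 : Q := sm gd N16234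
def N16825 : Q := sm ge N16235
def N16826 : Q := sm gh N16236
def N16827 : Q := sm gd N16237
def N16828 : Q := sm gh N16238
def N16829 : Q := sm gd N16239
def N16830 : Q := sm gc N16240
def N16831 : Q := sm ge N16240
def N16832 : Q := sm gh N16241
def N16833 : Q := sm gd N16242
def N16834 : Q := sm gd N16243
def N16835 : Q := sm gc N16244
def N16836 : Q := sm ge N16244
def N16837 : Q := sm gf N16245
def N16838 : Q := sm gc N16246
def N16839 : Q := sm ge N16246
def N16840 : Q := sm gb N16247
def N16841 : Q := sm ge N16248
def N16842 : Q := sm gc N16249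
def N16843 : Q := sm ge N16249
def N16844 : Q := sm gf N16250
def N16845 : Q := sm gc N16251
def N16846 : Q := sm ge N16251
def N16847 : Q := sm gd N16252
def N16848 : Q := sm ge N16253
def N16849 : Q := sm ge N16254
def N16850 : Q := sm gf N16255
def N16851 : Q := sm gh N16256
def N16852 : Q := sm gh N16257
def N16853 : Q := sm gd N16258
def N16854 : Q := sm gd N16259
def N16855 : Q := sm ge N16260
def N16856 : Q := sm ge N16261
def N16857 : Q := sm gf N16262
def N16858 : Q := sm gg N16263
def N16859 : Q := sm gd N16264
def N16860 : Q := sm gc N16265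
def N16861 : Q := sm ge N16265
def N16862 : Q := sm gf N16266
def N16863 : Q := sm gd N16268
def N16864 : Q := sm gc N16269
def N16865 : Q := sm ge N16269
def N16866 : Q := sm ge N16270
def N16867 : Q := sm gf N16271
def N16868 : Q := sm gd N16272
def N16869 : Q := sm gd N16273
def N16870 : Q := sm ge N16274
def N16871 : Q := sm ge N16275
def N16872 : Q := sm gf N16276
def N16873 : Q := sm gg N16277
def N16874 : Q := sm gh N16278
def N16875 : Q := sm gd N16279
def N16876 : Q := sm gc N16280
def N16877 : Q := sm ge N16280
def N16878 : Q := sm ge N16281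
def N16879 : Q := sm gf N16282
def N16880 : Q := sm gh N16283
def N16881 : Q := sm gh N16284
def N16882 : Q := sm gd N16285
def N16883 : Q := sm gd N16286
def N16884 : Q := sm gc N16287
def N16885 : Q := sm ge N16287
def N16886 : Q := sm gc N16288
def N16887 : Q := sm ge N16288
def N16888 : Q := sm ge N16289
def N16889 : Q := sm gf N16290
def N16890 : Q := sm gd N16291
def N16891 : Q := sm gf N16291
def N16892 : Q := sm gg N16292
def N16893 : Q := sm gd N16293
def N16894 : Q := sm gd N16294
def N16895 : Q := sm gd N16295
def N16896 : Q := sm gc N16296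
def N16897 : Q := sm ge N16296
def N16898 : Q := sm gc N16297
def N16899 : Q := sm ge N16297
def N16900 : Q := sm ge N16298
def N16901 : Q := sm gf N16299
def N16902 : Q := sm ge N16300
def N16903 : Q := sm ge N16301
def N16904 : Q := sm gf N16302
def N16905 : Q := sm gf N16303
def N16906 : Q := sm gg N16304
def N16907 : Q := sm gd N16306
def N16908 : Q := sm ge N16311
def N16909 : Q := sm gd N16313
def N16910 : Q := sm gd N16317
def N16911 : Q := sm gh N16320
def N16912 : Q := sm gh N16321
def N16913 : Q := sm gi N16322
def N16914 : Q := sm ge N16323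
def N16915 : Q := sm gc N16324
def N16916 : Q := sm ge N16324
def N16917 : Q := sm gf N16325
def N16918 : Q := sm gf N16327
def N16919 : Q := sm gg N16328
def N16920 : Q := sm gg N16329
def N16921 : Q := sm gd N16330
def N16922 : Q := sm gd N16331
def N16923 : Q := sm gc N16332
def N16924 : Q := sm ge N16332
def N16925 : Q := sm gc N16333
def N16926 : Q := sm ge N16333
def N16927 : Q := sm ge N16334
def N16928 : Q := sm gf N16335
def N16929 : Q := sm gg N16336
def N16930 : Q := sm gd N16337
def N16931 : Q := sm gd N16338
def N16932 : Q := sm ge N16339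
def N16933 : Q := sm ge N16340
def N16934 : Q := sm gf N16341
def N16935 : Q := sm gf N16342
def N16936 : Q := sm gg N16343
def N16937 : Q := sm gc N16347
def N16938 : Q := sm ge N16347
def N16939 : Q := sm gf N16348
def N16940 : Q := sm gb N16349
def N16941 : Q := sm gh N16350
def N16942 : Q := sm gd N16351
def N16943 : Q := sm ge N16352
def N16944 : Q := sm gh N16353
def N16945 : Q := sm gh N16354
def N16946 : Q := sm gd N16355
def N16947 : Q := sm gd N16356
def N16948 : Q := sm gc N16357
def N16949 : Q := sm ge N16357
def N16950 : Q := sm gf N16358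
def N16951 : Q := sm gh N16359
def N16952 : Q := sm gh N16360
def N16953 : Q := sm gd N16361
def N16954 : Q := sm gd N16362
def N16955 : Q := sm gc N16363
def N16956 : Q := sm ge N16363
def N16957 : Q := sm gd N16364
def N16958 : Q := sm gc N16365
def N16959 : Q := sm ge N16365
def N16960 : Q := sm gb N16366
def N16961 : Q := sm ge N16366
def N16962 : Q := sm gf N16367
def N16963 : Q := sm gg N16368
def N16964 : Q := sm gc N16369
def N16965 : Q := sm gb N16370
def N16966 : Q := sm ge N16370
def N16967 : Q := sm ga N16372
def N16968 : Q := sm gg N16373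
def N16969 : Q := sm gh N16374
def N16970 : Q := sm gd N16375
def N16971 : Q := sm gc N16376
def N16972 : Q := sm ge N16376
def N16973 : Q := sm gf N16377
def N16974 : Q := sm gh N16378
def N16975 : Q := sm gh N16379
def N16976 : Q := sm gd N16380
def N16977 : Q := sm gd N16381
def N16978 : Q := sm gc N16382
def N16979 : Q := sm ge N16382
def N16980 : Q := sm gc N16383
def N16981 : Q := sm ge N16383
def N16982 : Q := sm ge N16384
def N16983 : Q := sm gf N16385
def N16984 : Q := sm gg N16386
def N16985 : Q := sm gd N16387
def N16986 : Q := sm gd N16388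
def N16987 : Q := sm gd N16389
def N16988 : Q := sm ge N16390
def N16989 : Q := sm ge N16391
def N16990 : Q := sm gf N16392
def N16991 : Q := sm ge N16393
def N16992 : Q := sm gf N16394
def N16993 : Q := sm gg N16395
def N16994 : Q := sm gd N16397
def N16995 : Q := sm gd N16398
def N16996 : Q := sm gd N16399
def N16997 : Q := sm ge N16400
def N16998 : Q := sm ge N16401
def N16999 : Q := sm gf N16402
def N17000 : Q := sm ge N16403
def N17001 : Q := sm gf N16404
def N17002 : Q := sm gg N16405
def N17003 : Q := sm gh N16407
def N17004 : Q := sm gh N16408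
def N17005 : Q := sm gd N16409
def N17006 : Q := sm gd N16410
def N17007 : Q := sm gc N16411
def N17008 : Q := sm ge N16411
def N17009 : Q := sm gc N16412
def N17010 : Q := sm ge N16412
def N17011 : Q := sm gb N16413
def N17012 : Q := sm ge N16413
def N17013 : Q := sm gf N16414
def N17014 : Q := sm gg N16415
def N17015 : Q := sm gd N16416
def N17016 : Q := sm gd N16417
def N17017 : Q := sm gd N16418
def N17018 : Q := sm gc N16419
def N17019 : Q := sm ge N16419
def N17020 : Q := sm gc N16420
def N17021 : Q := sm ge N16420
def N17022 : Q := sm gb N16421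
def N17023 : Q := sm ge N16421
def N17024 : Q := sm gf N16422
def N17025 : Q := sm ge N16423
def N17026 : Q := sm ge N16424
def N17027 : Q := sm gf N16425
def N17028 : Q := sm ge N16426
def N17029 : Q := sm gf N16427
def N17030 : Q := sm gg N16428
def N17031 : Q := sm gc N16430
def N17032 : Q := sm ge N16430
def N17033 : Q := sm ge N16431
def N17034 : Q := sm ge N16432
def N17035 : Q := sm ge N16433
def N17036 : Q := sm gf N16434
def N17037 : Q := sm ge N16435
def N17038 : Q := sm gf N16436
def N17039 : Q := sm ge N16437
def N17040 : Q := sm gd N16438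
def N17041 : Q := sm gf N16438
def N17042 : Q := sm gg N16439
def N17043 : Q := sm gf N16440
def N17044 : Q := sm gf N16441
def N17045 : Q := sm gg N16442
def N17046 : Q := sm gf N16443
def N17047 : Q := sm gg N16444
def N17048 : Q := sm gc N16446
def N17049 : Q := sm gb N16453
def N17050 : Q := sm ga N16458
def N17051 : Q := sm gb N16459
def N17052 : Q := sm ga N16460
def N17053 : Q := sm ga N16461
def N17054 : Q := sm gd N16463
def N17055 : Q := sm gd N16464
def N17056 : Q := sm gc N16466
def N17057 : Q := sm gc N16467
def N17058 : Q := sm gb N16468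
def N17059 : Q := sm gc N16472
def N17060 : Q := sm ge N16475
def N17061 : Q := sm ge N16477
def N17062 : Q := sm gd N16478
def N17063 : Q := sm gb N16482
def N17064 : Q := sm ge N16482
def N17065 : Q := sm ga N16484
def N17066 : Q := sm ga N16485
def N17067 : Q := sm gd N16487
def N17068 : Q := sm gc N16488
def N17069 : Q := sm gc N16489
def N17070 : Q := sm gb N16490
def N17071 : Q := sm gb N16491
def N17072 : Q := sm ge N16491
def N17073 : Q := sm ga N16493
def N17074 : Q := sm gc N16497
def N17075 : Q := sm gd N16499
def N17076 : Q := sm gc N16500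
def N17077 : Q := sm ge N16500
def N17078 : Q := sm gd N16501
def N17079 : Q := sm gd N16502
def N17080 : Q := sm gc N16503
def N17081 : Q := sm ge N16503
def N17082 : Q := sm gf N16504
def N17083 : Q := sm gc N16505
def N17084 : Q := sm ge N16505
def N17085 : Q := sm gb N16506
def N17086 : Q := sm ge N16507
def N17087 : Q := sm gf N16508
def N17088 : Q := sm gd N16509
def N17089 : Q := sm gc N16510
def N17090 : Q := sm ge N16510
def N17091 : Q := sm gb N16511
def N17092 : Q := sm ge N16511
def N17093 : Q := sm gf N16512
def N17094 : Q := sm gg N16513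
def N17095 : Q := sm gd N16515
def N17096 : Q := sm gc N16516
def N17097 : Q := sm ge N16516
def N17098 : Q := sm gb N16517
def N17099 : Q := sm ge N16517
def N17100 : Q := sm gf N16518
def N17101 : Q := sm gd N16519
def N17102 : Q := sm gf N16519
def N17103 : Q := sm gg N16520
def N17104 : Q := sm gd N16521
def N17105 : Q := sm gd N16522
def N17106 : Q := sm gc N16523
def N17107 : Q := sm ge N16523
def N17108 : Q := sm gc N16524
def N17109 : Q := sm ge N16524
def N17110 : Q := sm gb N16525
def N17111 : Q := sm ge N16525
def N17112 : Q := sm gf N16526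
def N17113 : Q := sm ge N16527
def N17114 : Q := sm gf N16528
def N17115 : Q := sm ga N16529
def N17116 : Q := sm ge N16529
def N17117 : Q := sm gf N16530
def N17118 : Q := sm gg N16531
def N17119 : Q := sm gc N16535
def N17120 : Q := sm gb N16537
def N17121 : Q := sm ge N16537
def N17122 : Q := sm ga N16539
def N17123 : Q := sm ge N16539
def N17124 : Q := sm gd N16540
def N17125 : Q := sm ge N16541
def N17126 : Q := sm gd N16543
def N17127 : Q := sm gd N16545
def N17128 : Q := sm gh N16546
def N17129 : Q := sm gi N16547
def N17130 : Q := sm gd N16548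
def N17131 : Q := sm gd N16549
def N17132 : Q := sm gc N16550
def N17133 : Q := sm ge N16550
def N17134 : Q := sm gd N16551
def N17135 : Q := sm gc N16552
def N17136 : Q := sm ge N16552
def N17137 : Q := sm gb N16553
def N17138 : Q := sm ge N16553
def N17139 : Q := sm gf N16554
def N17140 : Q := sm gg N16555
def N17141 : Q := sm gc N16556
def N17142 : Q := sm gb N16557
def N17143 : Q := sm ge N16557
def N17144 : Q := sm ga N16559
def N17145 : Q := sm gd N16560
def N17146 : Q := sm gd N16561
def N17147 : Q := sm gc N16562
def N17148 : Q := sm ge N16562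
def N17149 : Q := sm gc N16563
def N17150 : Q := sm ge N16563
def N17151 : Q := sm ge N16564
def N17152 : Q := sm gf N16565
def N17153 : Q := sm ge N16566
def N17154 : Q := sm gf N16567
def N17155 : Q := sm gf N16568
def N17156 : Q := sm gg N16569
def N17157 : Q := sm gc N16571
def N17158 : Q := sm ge N16571
def N17159 : Q := sm gc N16572
def N17160 : Q := sm ge N16572
def N17161 : Q := sm gc N16573
def N17162 : Q := sm ge N16573
def N17163 : Q := sm gb N16574
def N17164 : Q := sm ge N16574
def N17165 : Q := sm gf N16575
def N17166 : Q := sm gb N16576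
def N17167 : Q := sm ge N16576
def N17168 : Q := sm gf N16577
def N17169 : Q := sm ga N16578
def N17170 : Q := sm ge N16578
def N17171 : Q := sm gd N16579
def N17172 : Q := sm gf N16579
def N17173 : Q := sm gg N16580
def N17174 : Q := sm ge N16581
def N17175 : Q := sm gf N16582
def N17176 : Q := sm ge N16583
def N17177 : Q := sm gd N16584
def N17178 : Q := sm gf N16584
def N17179 : Q := sm gg N16585
def N17180 : Q := sm ge N16586
def N17181 : Q := sm gf N16587
def N17182 : Q := sm gg N16588
def N17183 : Q := sm gh N16590
def N17184 : Q := sm gb N16593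
def N17185 : Q := sm ge N16593
def N17186 : Q := sm gd N16596
def N17187 : Q := sm ga N16597
def N17188 : Q := sm ge N16597
def N17189 : Q := sm gd N16598
def N17190 : Q := sm ge N16599
def N17191 : Q := sm gd N16600
def N17192 : Q := sm ga N16604
def N17193 : Q := sm ge N16607
def N17194 : Q := sm gd N16610
def N17195 : Q := sm gd N16611
def N17196 : Q := sm gc N16612
def N17197 : Q := sm ge N16612
def N17198 : Q := sm gd N16613
def N17199 : Q := sm gd N16614
def N17200 : Q := sm gc N16615
def N17201 : Q := sm ge N16615
def N17202 : Q := sm gf N16616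
def N17203 : Q := sm gc N16617
def N17204 : Q := sm ge N16617
def N17205 : Q := sm gb N16618
def N17206 : Q := sm ge N16619
def N17207 : Q := sm gc N16620
def N17208 : Q := sm ge N16620
def N17209 : Q := sm gd N16621
def N17210 : Q := sm gc N16622
def N17211 : Q := sm ge N16622
def N17212 : Q := sm gf N16623
def N17213 : Q := sm gc N16625
def N17214 : Q := sm ge N16625
def N17215 : Q := sm gd N16626
def N17216 : Q := sm ge N16627
def N17217 : Q := sm ge N16628
def N17218 : Q := sm gf N16629
def N17219 : Q := sm gd N16630
def N17220 : Q := sm gd N16631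
def N17221 : Q := sm gc N16632
def N17222 : Q := sm ge N16632
def N17223 : Q := sm gc N16633
def N17224 : Q := sm ge N16633
def N17225 : Q := sm gb N16634
def N17226 : Q := sm ge N16634
def N17227 : Q := sm gf N16635
def N17228 : Q := sm gg N16636
def N17229 : Q := sm ge N16639
def N17230 : Q := sm gc N16640
def N17231 : Q := sm ge N16640
def N17232 : Q := sm gf N16641
def N17233 : Q := sm ge N16643
def N17234 : Q := sm ge N16644
def N17235 : Q := sm gf N16645
def N17236 : Q := sm ge N16646
def N17237 : Q := sm gf N16647
def N17238 : Q := sm gg N16648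
def N17239 : Q := sm gd N16649
def N17240 : Q := sm ge N16650
def N17241 : Q := sm ge N16651
def N17242 : Q := sm gf N16652
def N17243 : Q := sm gd N16653
def N17244 : Q := sm ge N16654
def N17245 : Q := sm ge N16655
def N17246 : Q := sm gf N16656
def N17247 : Q := sm gd N16657
def N17248 : Q := sm gf N16657
def N17249 : Q := sm gg N16658
def N17250 : Q := sm gd N16659
def N17251 : Q := sm gd N16660
def N17252 : Q := sm ge N16661
def N17253 : Q := sm gc N16662
def N17254 : Q := sm ge N16662
def N17255 : Q := sm gb N16663
def N17256 : Q := sm ge N16663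
def N17257 : Q := sm gf N16664
def N17258 : Q := sm ge N16665
def N17259 : Q := sm ge N16666
def N17260 : Q := sm gf N16667
def N17261 : Q := sm ga N16668
def N17262 : Q := sm ge N16668
def N17263 : Q := sm gf N16669
def N17264 : Q := sm gg N16670
def N17265 : Q := sm ga N16674
def N17266 : Q := sm gd N16678
def N17267 : Q := sm gh N16679
def N17268 : Q := sm ge N16681
def N17269 : Q := sm ge N16682
def N17270 : Q := sm gf N16683
def N17271 : Q := sm gd N16684
def N17272 : Q := sm ge N16685
def N17273 : Q := sm gd N16686
def N17274 : Q := sm ge N16687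
def N17275 : Q := sm gf N16688
def N17276 : Q := sm gd N16689
def N17277 : Q := sm gc N16690
def N17278 : Q := sm ge N16690
def N17279 : Q := sm gd N16691
def N17280 : Q := sm gc N16692
def N17281 : Q := sm ge N16692
def N17282 : Q := sm gb N16693
def N17283 : Q := sm ge N16693
def N17284 : Q := sm gf N16694
def N17285 : Q := sm gg N16695
def N17286 : Q := sm ge N16696
def N17287 : Q := sm ga N16698
def N17288 : Q := sm gf N16699
def N17289 : Q := sm gf N16700
def N17290 : Q := sm gc N16701
def N17291 : Q := sm ge N16701
def N17292 : Q := sm gb N16702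
def N17293 : Q := sm ge N16702
def N17294 : Q := sm gf N16703
def N17295 : Q := sm gg N16704
def N17296 : Q := sm gf N16706
def N17297 : Q := sm gd N16707
def N17298 : Q := sm gd N16708
def N17299 : Q := sm gc N16709
def N17300 : Q := sm ge N16709
def N17301 : Q := sm ge N16710
def N17302 : Q := sm ge N16711
def N17303 : Q := sm gf N16712
def N17304 : Q := sm gg N16713
def N17305 : Q := sm gd N16714
def N17306 : Q := sm gd N16715
def N17307 : Q := sm gd N16716
def N17308 : Q := sm gc N16717
def N17309 : Q := sm ge N16717
def N17310 : Q := sm gc N16718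
def N17311 : Q := sm ge N16718
def N17312 : Q := sm gb N16719
def N17313 : Q := sm ge N16719
def N17314 : Q := sm gf N16720
def N17315 : Q := sm ge N16721
def N17316 : Q := sm gb N16722
def N17317 : Q := sm ge N16722
def N17318 : Q := sm gf N16723
def N17319 : Q := sm ga N16724
def N17320 : Q := sm ge N16724
def N17321 : Q := sm gf N16725
def N17322 : Q := sm gg N16726
def N17323 : Q := sm gc N16730
def N17324 : Q := sm ge N16730
def N17325 : Q := sm ge N16731
def N17326 : Q := sm gf N16732
def N17327 : Q := sm gg N16733
def N17328 : Q := sm gf N16734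
def N17329 : Q := sm gc N16735
def N17330 : Q := sm ge N16735
def N17331 : Q := sm gb N16736
def N17332 : Q := sm ge N16736
def N17333 : Q := sm gf N16737
def N17334 : Q := sm gg N16738
def N17335 : Q := sm gd N16739
def N17336 : Q := sm gc N16740
def N17337 : Q := sm ge N16740
def N17338 : Q := sm gb N16741
def N17339 : Q := sm ge N16741
def N17340 : Q := sm gf N16742
def N17341 : Q := sm ge N16743
def N17342 : Q := sm gb N16744
def N17343 : Q := sm ge N16744
def N17344 : Q := sm gf N16745
def N17345 : Q := sm ga N16746
def N17346 : Q := sm ge N16746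
def N17347 : Q := sm gf N16747
def N17348 : Q := sm gg N16748
def N17349 : Q := sm gd N16752
def N17350 : Q := sm gd N16753
def N17351 : Q := sm gc N16754
def N17352 : Q := sm ge N16754
def N17353 : Q := sm ge N16755
def N17354 : Q := sm ge N16756
def N17355 : Q := sm gf N16757
def N17356 : Q := sm gg N16758
def N17357 : Q := sm gd N16759
def N17358 : Q := sm gd N16760
def N17359 : Q := sm gd N16761
def N17360 : Q := sm gc N16762
def N17361 : Q := sm ge N16762
def N17362 : Q := sm gc N16763
def N17363 : Q := sm ge N16763
def N17364 : Q := sm gb N16764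
def N17365 : Q := sm ge N16764
def N17366 : Q := sm gf N16765
def N17367 : Q := sm gc N16766
def N17368 : Q := sm ge N16766
def N17369 : Q := sm ge N16767
def N17370 : Q := sm gf N16768
def N17371 : Q := sm ge N16769
def N17372 : Q := sm gf N16770
def N17373 : Q := sm gg N16771
def N17374 : Q := sm ge N16773
def N17375 : Q := sm ge N16774
def N17376 : Q := sm gc N16775
def N17377 : Q := sm ge N16775
def N17378 : Q := sm gb N16776
def N17379 : Q := sm ge N16776
def N17380 : Q := sm gf N16777
def N17381 : Q := sm gb N16778
def N17382 : Q := sm ge N16778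
def N17383 : Q := sm gf N16779
def N17384 : Q := sm ga N16780
def N17385 : Q := sm ge N16780
def N17386 : Q := sm gd N16781
def N17387 : Q := sm gf N16781
def N17388 : Q := sm gg N16782
def N17389 : Q := sm gf N16783
def N17390 : Q := sm ge N16784
def N17391 : Q := sm gf N16785
def N17392 : Q := sm gg N16786
def N17393 : Q := sm ge N16787
def N17394 : Q := sm gf N16788
def N17395 : Q := sm gg N16789
def N17396 : Q := sm gb N16791
def N17397 : Q := sm ge N16791
def N17398 : Q := sm ga N16793
def N17399 : Q := sm gb N16797
def N17400 : Q := sm ga N16799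
def N17401 : Q := sm ge N16799
def N17402 : Q := sm gd N16800
def N17403 : Q := sm ge N16801
def N17404 : Q := sm gd N16802
def N17405 : Q := sm gd N16807
def N17406 : Q := sm gf N16809
def N17407 : Q := sm gg N16810
def N17408 : Q := sm ge N16811
def N17409 : Q := sm gf N16812
def N17410 : Q := sm gg N16813
def N17411 : Q := sm ge N16814
def N17412 : Q := sm gf N16815
def N17413 : Q := sm gf N16816
def N17414 : Q := sm gg N16817
def N17415 : Q := sm gf N16818
def N17416 : Q := sm gg N16819
def N17417 : Q := sm gi N16821
def N17418 : Q := sm ge N16822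
def N17419 : Q := sm gc N16823
def N17420 : Q := sm ge N16823
def N17421 : Q := sm ge N16824
def N17422 : Q := sm gf N16825
def N17423 : Q := sm gd N16826
def N17424 : Q := sm gc N16827
def N17425 : Q := sm ge N16827
def N17426 : Q := sm gd N16828
def N17427 : Q := sm gc N16829
def N17428 : Q := sm ge N16829
def N17429 : Q := sm ge N16830
def N17430 : Q := sm gf N16831
def N17431 : Q := sm gd N16832
def N17432 : Q := sm ge N16833
def N17433 : Q := sm gc N16834
def N17434 : Q := sm ge N16834
def N17435 : Q := sm gb N16835
def N17436 : Q := sm ge N16835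
def N17437 : Q := sm gf N16836
def N17438 : Q := sm gg N16837
def N17439 : Q := sm gb N16838
def N17440 : Q := sm ge N16838
def N17441 : Q := sm ga N16840
def N17442 : Q := sm gf N16841
def N17443 : Q := sm ge N16842
def N17444 : Q := sm gf N16843
def N17445 : Q := sm gg N16844
def N17446 : Q := sm ge N16845
def N17447 : Q := sm gf N16846
def N17448 : Q := sm ge N16847
def N17449 : Q := sm gf N16848
def N17450 : Q := sm gf N16849
def N17451 : Q := sm gg N16850
def N17452 : Q := sm gd N16851
def N17453 : Q := sm gd N16852
def N17454 : Q := sm ge N16853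
def N17455 : Q := sm ge N16854
def N17456 : Q := sm gf N16855
def N17457 : Q := sm gf N16856
def N17458 : Q := sm gg N16857
def N17459 : Q := sm gc N16859
def N17460 : Q := sm ge N16859
def N17461 : Q := sm ge N16860
def N17462 : Q := sm gf N16861
def N17463 : Q := sm gg N16862
def N17464 : Q := sm gc N16863
def N17465 : Q := sm ge N16863
def N17466 : Q := sm ge N16864
def N17467 : Q := sm gf N16865
def N17468 : Q := sm gd N16866
def N17469 : Q := sm gf N16866
def N17470 : Q := sm gg N16867
def N17471 : Q := sm ge N16868
def N17472 : Q := sm ge N16869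
def N17473 : Q := sm gf N16870
def N17474 : Q := sm gf N16871
def N17475 : Q := sm gg N16872
def N17476 : Q := sm gd N16874
def N17477 : Q := sm gc N16875
def N17478 : Q := sm ge N16875
def N17479 : Q := sm ge N16876
def N17480 : Q := sm gf N16877
def N17481 : Q := sm gf N16878
def N17482 : Q := sm gg N16879
def N17483 : Q := sm gd N16880
def N17484 : Q := sm gd N16881
def N17485 : Q := sm gc N16882
def N17486 : Q := sm ge N16882
def N17487 : Q := sm gc N16883
def N17488 : Q := sm ge N16883
def N17489 : Q := sm ge N16884
def N17490 : Q := sm gf N16885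
def N17491 : Q := sm ge N16886
def N17492 : Q := sm gf N16887
def N17493 : Q := sm gf N16888
def N17494 : Q := sm gg N16889
def N17495 : Q := sm gf N16890
def N17496 : Q := sm gh N16890
def N17497 : Q := sm gg N16891
def N17498 : Q := sm ge N16893
def N17499 : Q := sm ge N16894
def N17500 : Q := sm ge N16895
def N17501 : Q := sm ge N16896
def N17502 : Q := sm gf N16897
def N17503 : Q := sm ge N16898
def N17504 : Q := sm gf N16899
def N17505 : Q := sm gd N16900
def N17506 : Q := sm gf N16900
def N17507 : Q := sm gg N16901
def N17508 : Q := sm gf N16902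
def N17509 : Q := sm gf N16903
def N17510 : Q := sm gg N16904
def N17511 : Q := sm gg N16905
def N17512 : Q := sm gd N16908
def N17513 : Q := sm gh N16910
def N17514 : Q := sm gi N16911
def N17515 : Q := sm gi N16912
def N17516 : Q := sm gf N16914
def N17517 : Q := sm ge N16915
def N17518 : Q := sm gf N16916
def N17519 : Q := sm gg N16917
def N17520 : Q := sm gg N16918
def N17521 : Q := sm gc N16921
def N17522 : Q := sm ge N16921
def N17523 : Q := sm gc N16922
def N17524 : Q := sm ge N16922
def N17525 : Q := sm ge N16923
def N17526 : Q := sm gf N16924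
def N17527 : Q := sm ge N16925
def N17528 : Q := sm gf N16926
def N17529 : Q := sm gf N16927
def N17530 : Q := sm gg N16928
def N17531 : Q := sm ge N16930
def N17532 : Q := sm ge N16931
def N17533 : Q := sm gf N16932
def N17534 : Q := sm gf N16933
def N17535 : Q := sm gg N16934
def N17536 : Q := sm gg N16935
def N17537 : Q := sm gb N16937
def N17538 : Q := sm ge N16937
def N17539 : Q := sm gf N16938
def N17540 : Q := sm gg N16939
def N17541 : Q := sm ga N16940
def N17542 : Q := sm gd N16941
def N17543 : Q := sm ge N16942
def N17544 : Q := sm gf N16943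
def N17545 : Q := sm gd N16944
def N17546 : Q := sm gd N16945
def N17547 : Q := sm gc N16946
def N17548 : Q := sm ge N16946
def N17549 : Q := sm ge N16947
def N17550 : Q := sm gb N16948
def N17551 : Q := sm ge N16948
def N17552 : Q := sm gf N16949
def N17553 : Q := sm gg N16950
def N17554 : Q := sm gd N16951
def N17555 : Q := sm gd N16952
def N17556 : Q := sm gc N16953
def N17557 : Q := sm ge N16953
def N17558 : Q := sm gc N16954
def N17559 : Q := sm ge N16954
def N17560 : Q := sm gb N16955
def N17561 : Q := sm ge N16955
def N17562 : Q := sm gf N16956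
def N17563 : Q := sm gc N16957
def N17564 : Q := sm ge N16957
def N17565 : Q := sm gb N16958
def N17566 : Q := sm ge N16958
def N17567 : Q := sm gf N16959
def N17568 : Q := sm ga N16960
def N17569 : Q := sm ge N16960
def N17570 : Q := sm gf N16961
def N17571 : Q := sm gg N16962
def N17572 : Q := sm ga N16965
def N17573 : Q := sm gd N16966
def N17574 : Q := sm gd N16969
def N17575 : Q := sm gc N16970
def N17576 : Q := sm ge N16970
def N17577 : Q := sm gb N16971
def N17578 : Q := sm ge N16971
def N17579 : Q := sm gf N16972
def N17580 : Q := sm gg N16973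
def N17581 : Q := sm gd N16974
def N17582 : Q := sm gd N16975
def N17583 : Q := sm gc N16976
def N17584 : Q := sm ge N16976
def N17585 : Q := sm gc N16977
def N17586 : Q := sm ge N16977
def N17587 : Q := sm ge N16978
def N17588 : Q := sm gf N16979
def N17589 : Q := sm ge N16980
def N17590 : Q := sm gf N16981
def N17591 : Q := sm gf N16982
def N17592 : Q := sm gg N16983
def N17593 : Q := sm gc N16985
def N17594 : Q := sm ge N16985
def N17595 : Q := sm ge N16986
def N17596 : Q := sm ge N16987
def N17597 : Q := sm gf N16988
def N17598 : Q := sm gf N16989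
def N17599 : Q := sm gg N16990
def N17600 : Q := sm gf N16991
def N17601 : Q := sm gg N16992
def N17602 : Q := sm gc N16994
def N17603 : Q := sm ge N16994
def N17604 : Q := sm ge N16995
def N17605 : Q := sm ge N16996
def N17606 : Q := sm gf N16997
def N17607 : Q := sm gf N16998
def N17608 : Q := sm gg N16999
def N17609 : Q := sm gf N17000
def N17610 : Q := sm gg N17001
def N17611 : Q := sm gd N17003
def N17612 : Q := sm gd N17004
def N17613 : Q := sm gc N17005
def N17614 : Q := sm ge N17005
def N17615 : Q := sm gc N17006
def N17616 : Q := sm ge N17006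
def N17617 : Q := sm gb N17007
def N17618 : Q := sm ge N17007
def N17619 : Q := sm gf N17008
def N17620 : Q := sm ge N17009
def N17621 : Q := sm gf N17010
def N17622 : Q := sm ge N17011
def N17623 : Q := sm gf N17012
def N17624 : Q := sm gg N17013
def N17625 : Q := sm gc N17015
def N17626 : Q := sm ge N17015
def N17627 : Q := sm ge N17016
def N17628 : Q := sm ge N17017
def N17629 : Q := sm ge N17018
def N17630 : Q := sm gf N17019
def N17631 : Q := sm ge N17020
def N17632 : Q := sm gf N17021
def N17633 : Q := sm ge N17022
def N17634 : Q := sm gd N17023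
def N17635 : Q := sm gf N17023
def N17636 : Q := sm gg N17024
def N17637 : Q := sm gf N17025
def N17638 : Q := sm gf N17026
def N17639 : Q := sm gg N17027
def N17640 : Q := sm gf N17028
def N17641 : Q := sm gg N17029
def N17642 : Q := sm ge N17031
def N17643 : Q := sm gf N17032
def N17644 : Q := sm gf N17033
def N17645 : Q := sm gf N17034
def N17646 : Q := sm gf N17035
def N17647 : Q := sm gg N17036
def N17648 : Q := sm gf N17037
def N17649 : Q := sm gg N17038
def N17650 : Q := sm gf N17039
def N17651 : Q := sm gf N17040
def N17652 : Q := sm gg N17041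
def N17653 : Q := sm gg N17043
def N17654 : Q := sm gg N17044
def N17655 : Q := sm gg N17046
def N17656 : Q := sm ga N17051
def N17657 : Q := sm gc N17054
def N17658 : Q := sm gb N17057
def N17659 : Q := sm gd N17060
def N17660 : Q := sm gd N17061
def N17661 : Q := sm ga N17063
def N17662 : Q := sm ge N17063
def N17663 : Q := sm gc N17067
def N17664 : Q := sm gb N17068
def N17665 : Q := sm gb N17069
def N17666 : Q := sm ga N17070
def N17667 : Q := sm gc N17075
def N17668 : Q := sm ge N17075
def N17669 : Q := sm ge N17076
def N17670 : Q := sm gf N17077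
def N17671 : Q := sm gc N17078
def N17672 : Q := sm ge N17078
def N17673 : Q := sm gc N17079
def N17674 : Q := sm ge N17079
def N17675 : Q := sm gb N17080
def N17676 : Q := sm ge N17080
def N17677 : Q := sm gf N17081
def N17678 : Q := sm gg N17082
def N17679 : Q := sm gb N17083
def N17680 : Q := sm ge N17083
def N17681 : Q := sm ga N17085
def N17682 : Q := sm gd N17086
def N17683 : Q := sm gf N17086
def N17684 : Q := sm gg N17087
def N17685 : Q := sm gc N17088
def N17686 : Q := sm ge N17088
def N17687 : Q := sm gb N17089
def N17688 : Q := sm ge N17089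
def N17689 : Q := sm gf N17090
def N17690 : Q := sm ge N17091
def N17691 : Q := sm gf N17092
def N17692 : Q := sm gg N17093
def N17693 : Q := sm gc N17095
def N17694 : Q := sm ge N17095
def N17695 : Q := sm gb N17096
def N17696 : Q := sm ge N17096
def N17697 : Q := sm gf N17097
def N17698 : Q := sm ge N17098
def N17699 : Q := sm gd N17099
def N17700 : Q := sm gf N17099
def N17701 : Q := sm gg N17100
def N17702 : Q := sm gf N17101
def N17703 : Q := sm gh N17101
def N17704 : Q := sm gg N17102
def N17705 : Q := sm ge N17104
def N17706 : Q := sm gc N17105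
def N17707 : Q := sm ge N17105
def N17708 : Q := sm ge N17106
def N17709 : Q := sm gf N17107
def N17710 : Q := sm gb N17108
def N17711 : Q := sm ge N17108
def N17712 : Q := sm gf N17109
def N17713 : Q := sm ga N17110
def N17714 : Q := sm ge N17110
def N17715 : Q := sm gd N17111
def N17716 : Q := sm gf N17111
def N17717 : Q := sm gg N17112
def N17718 : Q := sm gf N17113
def N17719 : Q := sm gg N17114
def N17720 : Q := sm ge N17115
def N17721 : Q := sm gf N17116
def N17722 : Q := sm gg N17117
def N17723 : Q := sm ga N17120
def N17724 : Q := sm ge N17120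
def N17725 : Q := sm gd N17121
def N17726 : Q := sm ge N17122
def N17727 : Q := sm gd N17123
def N17728 : Q := sm gh N17126
def N17729 : Q := sm gh N17127
def N17730 : Q := sm gi N17128
def N17731 : Q := sm gc N17130
def N17732 : Q := sm ge N17130
def N17733 : Q := sm gc N17131
def N17734 : Q := sm ge N17131
def N17735 : Q := sm gb N17132
def N17736 : Q := sm ge N17132
def N17737 : Q := sm gf N17133
def N17738 : Q := sm gc N17134
def N17739 : Q := sm ge N17134
def N17740 : Q := sm gb N17135
def N17741 : Q := sm ge N17135
def N17742 : Q := sm gf N17136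
def N17743 : Q := sm ga N17137
def N17744 : Q := sm ge N17137
def N17745 : Q := sm gf N17138
def N17746 : Q := sm gg N17139
def N17747 : Q := sm ga N17142
def N17748 : Q := sm gd N17143
def N17749 : Q := sm gc N17145
def N17750 : Q := sm ge N17145
def N17751 : Q := sm gc N17146
def N17752 : Q := sm ge N17146
def N17753 : Q := sm ge N17147
def N17754 : Q := sm gf N17148
def N17755 : Q := sm ge N17149
def N17756 : Q := sm gf N17150
def N17757 : Q := sm gd N17151
def N17758 : Q := sm gf N17151
def N17759 : Q := sm gg N17152
def N17760 : Q := sm gf N17153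
def N17761 : Q := sm gg N17154
def N17762 : Q := sm gg N17155
def N17763 : Q := sm ge N17157
def N17764 : Q := sm gf N17158
def N17765 : Q := sm ge N17159
def N17766 : Q := sm gf N17160
def N17767 : Q := sm gb N17161
def N17768 : Q := sm ge N17161
def N17769 : Q := sm gf N17162
def N17770 : Q := sm ge N17163
def N17771 : Q := sm gd N17164
def N17772 : Q := sm gf N17164
def N17773 : Q := sm gg N17165
def N17774 : Q := sm ga N17166
def N17775 : Q := sm ge N17166
def N17776 : Q := sm gd N17167
def N17777 : Q := sm gf N17167
def N17778 : Q := sm gg N17168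
def N17779 : Q := sm ge N17169
def N17780 : Q := sm gd N17170
def N17781 : Q := sm gf N17170
def N17782 : Q := sm gf N17171
def N17783 : Q := sm gg N17172
def N17784 : Q := sm gf N17174
def N17785 : Q := sm gg N17175
def N17786 : Q := sm gf N17176
def N17787 : Q := sm gf N17177
def N17788 : Q := sm gh N17177
def N17789 : Q := sm gg N17178
def N17790 : Q := sm gf N17180
def N17791 : Q := sm gg N17181
def N17792 : Q := sm gd N17185
def N17793 : Q := sm ge N17187
def N17794 : Q := sm gd N17188
def N17795 : Q := sm gh N17189
def N17796 : Q := sm gd N17190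
def N17797 : Q := sm gc N17194
def N17798 : Q := sm ge N17194
def N17799 : Q := sm gc N17195
def N17800 : Q := sm ge N17195
def N17801 : Q := sm ge N17196
def N17802 : Q := sm gf N17197
def N17803 : Q := sm gc N17198
def N17804 : Q := sm ge N17198
def N17805 : Q := sm gc N17199
def N17806 : Q := sm ge N17199
def N17807 : Q := sm gb N17200
def N17808 : Q := sm ge N17200
def N17809 : Q := sm gf N17201
def N17810 : Q := sm gg N17202
def N17811 : Q := sm gb N17203
def N17812 : Q := sm ge N17203
def N17813 : Q := sm ga N17205
def N17814 : Q := sm gf N17206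
def N17815 : Q := sm ge N17207
def N17816 : Q := sm gf N17208
def N17817 : Q := sm gc N17209
def N17818 : Q := sm ge N17209
def N17819 : Q := sm ge N17210
def N17820 : Q := sm gf N17211
def N17821 : Q := sm gg N17212
def N17822 : Q := sm ge N17213
def N17823 : Q := sm gf N17214
def N17824 : Q := sm ge N17215
def N17825 : Q := sm gf N17216
def N17826 : Q := sm gd N17217
def N17827 : Q := sm gf N17217
def N17828 : Q := sm gg N17218
def N17829 : Q := sm gc N17219
def N17830 : Q := sm ge N17219
def N17831 : Q := sm gc N17220
def N17832 : Q := sm ge N17220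
def N17833 : Q := sm gb N17221
def N17834 : Q := sm ge N17221
def N17835 : Q := sm gf N17222
def N17836 : Q := sm ge N17223
def N17837 : Q := sm gf N17224
def N17838 : Q := sm ge N17225
def N17839 : Q := sm gf N17226
def N17840 : Q := sm gg N17227
def N17841 : Q := sm gf N17229
def N17842 : Q := sm ge N17230
def N17843 : Q := sm gf N17231
def N17844 : Q := sm gg N17232
def N17845 : Q := sm gf N17233
def N17846 : Q := sm gf N17234
def N17847 : Q := sm gg N17235
def N17848 : Q := sm gf N17236
def N17849 : Q := sm gg N17237
def N17850 : Q := sm ge N17239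
def N17851 : Q := sm gf N17240
def N17852 : Q := sm gf N17241
def N17853 : Q := sm gg N17242
def N17854 : Q := sm ge N17243
def N17855 : Q := sm gf N17244
def N17856 : Q := sm gf N17245
def N17857 : Q := sm gg N17246
def N17858 : Q := sm gf N17247
def N17859 : Q := sm gh N17247
def N17860 : Q := sm gg N17248
def N17861 : Q := sm ge N17250
def N17862 : Q := sm ge N17251
def N17863 : Q := sm gf N17252
def N17864 : Q := sm ge N17253
def N17865 : Q := sm gf N17254
def N17866 : Q := sm ga N17255
def N17867 : Q := sm ge N17255
def N17868 : Q := sm gf N17256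
def N17869 : Q := sm gg N17257
def N17870 : Q := sm gf N17258
def N17871 : Q := sm gf N17259
def N17872 : Q := sm gg N17260
def N17873 : Q := sm ge N17261
def N17874 : Q := sm gf N17262
def N17875 : Q := sm gg N17263
def N17876 : Q := sm gh N17266
def N17877 : Q := sm gf N17268
def N17878 : Q := sm gf N17269
def N17879 : Q := sm gg N17270
def N17880 : Q := sm ge N17271
def N17881 : Q := sm gf N17272
def N17882 : Q := sm ge N17273
def N17883 : Q := sm gf N17274
def N17884 : Q := sm gg N17275
def N17885 : Q := sm gc N17276
def N17886 : Q := sm ge N17276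
def N17887 : Q := sm gb N17277
def N17888 : Q := sm ge N17277
def N17889 : Q := sm gf N17278
def N17890 : Q := sm ge N17279
def N17891 : Q := sm ge N17280
def N17892 : Q := sm gf N17281
def N17893 : Q := sm ga N17282
def N17894 : Q := sm ge N17282
def N17895 : Q := sm gf N17283
def N17896 : Q := sm gg N17284
def N17897 : Q := sm gd N17286
def N17898 : Q := sm gg N17288
def N17899 : Q := sm gg N17289
def N17900 : Q := sm gb N17290
def N17901 : Q := sm ge N17290
def N17902 : Q := sm gf N17291
def N17903 : Q := sm ge N17292
def N17904 : Q := sm gf N17293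
def N17905 : Q := sm gg N17294
def N17906 : Q := sm gg N17296
def N17907 : Q := sm ge N17297
def N17908 : Q := sm gc N17298
def N17909 : Q := sm ge N17298
def N17910 : Q := sm ge N17299
def N17911 : Q := sm gf N17300
def N17912 : Q := sm gf N17301
def N17913 : Q := sm gf N17302
def N17914 : Q := sm gg N17303
def N17915 : Q := sm gc N17305
def N17916 : Q := sm ge N17305
def N17917 : Q := sm ge N17306
def N17918 : Q := sm gc N17307
def N17919 : Q := sm ge N17307
def N17920 : Q := sm gb N17308
def N17921 : Q := sm ge N17308
def N17922 : Q := sm gf N17309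
def N17923 : Q := sm gb N17310
def N17924 : Q := sm ge N17310
def N17925 : Q := sm gf N17311
def N17926 : Q := sm ga N17312
def N17927 : Q := sm ge N17312
def N17928 : Q := sm gd N17313
def N17929 : Q := sm gf N17313
def N17930 : Q := sm gg N17314
def N17931 : Q := sm gf N17315
def N17932 : Q := sm ge N17316
def N17933 : Q := sm gf N17317
def N17934 : Q := sm gg N17318
def N17935 : Q := sm ge N17319
def N17936 : Q := sm gf N17320
def N17937 : Q := sm gg N17321
def N17938 : Q := sm ge N17323
def N17939 : Q := sm gf N17324
def N17940 : Q := sm gf N17325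
def N17941 : Q := sm gg N17326
def N17942 : Q := sm gg N17328
def N17943 : Q := sm gb N17329
def N17944 : Q := sm ge N17329
def N17945 : Q := sm gf N17330
def N17946 : Q := sm ge N17331
def N17947 : Q := sm gf N17332
def N17948 : Q := sm gg N17333
def N17949 : Q := sm ge N17335
def N17950 : Q := sm gb N17336
def N17951 : Q := sm ge N17336
def N17952 : Q := sm gf N17337
def N17953 : Q := sm ga N17338
def N17954 : Q := sm ge N17338
def N17955 : Q := sm gf N17339
def N17956 : Q := sm gg N17340
def N17957 : Q := sm gf N17341
def N17958 : Q := sm ge N17342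
def N17959 : Q := sm gd N17343
def N17960 : Q := sm gf N17343
def N17961 : Q := sm gg N17344
def N17962 : Q := sm gf N17346
def N17963 : Q := sm gg N17347
def N17964 : Q := sm ge N17349
def N17965 : Q := sm gc N17350
def N17966 : Q := sm ge N17350
def N17967 : Q := sm ge N17351
def N17968 : Q := sm gf N17352
def N17969 : Q := sm gf N17353
def N17970 : Q := sm gf N17354
def N17971 : Q := sm gg N17355
def N17972 : Q := sm gc N17357
def N17973 : Q := sm ge N17357
def N17974 : Q := sm gc N17358
def N17975 : Q := sm ge N17358
def N17976 : Q := sm gc N17359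
def N17977 : Q := sm ge N17359
def N17978 : Q := sm ge N17360
def N17979 : Q := sm gf N17361
def N17980 : Q := sm gb N17362
def N17981 : Q := sm ge N17362
def N17982 : Q := sm gf N17363
def N17983 : Q := sm ge N17364
def N17984 : Q := sm gd N17365
def N17985 : Q := sm gf N17365
def N17986 : Q := sm gg N17366
def N17987 : Q := sm ge N17367
def N17988 : Q := sm gf N17368
def N17989 : Q := sm gd N17369
def N17990 : Q := sm gf N17369
def N17991 : Q := sm gg N17370
def N17992 : Q := sm gf N17371
def N17993 : Q := sm gg N17372
def N17994 : Q := sm gf N17374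
def N17995 : Q := sm gf N17375
def N17996 : Q := sm gb N17376
def N17997 : Q := sm ge N17376
def N17998 : Q := sm gf N17377
def N17999 : Q := sm ge N17378
def N18000 : Q := sm gf N17379
def N18001 : Q := sm gg N17380
def N18002 : Q := sm ga N17381
def N18003 : Q := sm ge N17381
def N18004 : Q := sm gd N17382
def N18005 : Q := sm gf N17382
def N18006 : Q := sm gg N17383
def N18007 : Q := sm ge N17384
def N18008 : Q := sm gd N17385
def N18009 : Q := sm gf N17385
def N18010 : Q := sm gf N17386
def N18011 : Q := sm gg N17387
def N18012 : Q := sm gg N17389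
def N18013 : Q := sm gf N17390
def N18014 : Q := sm gg N17391
def N18015 : Q := sm gf N17393
def N18016 : Q := sm gg N17394
def N18017 : Q := sm gd N17397
def N18018 : Q := sm ge N17400
def N18019 : Q := sm gd N17401
def N18020 : Q := sm gh N17402
def N18021 : Q := sm gd N17403
def N18022 : Q := sm gc N17404
def N18023 : Q := sm gh N17405
def N18024 : Q := sm gg N17406
def N18025 : Q := sm gf N17408
def N18026 : Q := sm gg N17409
def N18027 : Q := sm gf N17411
def N18028 : Q := sm gg N17412
def N18029 : Q := sm gg N17413
def N18030 : Q := sm gg N17415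
def N18031 : Q := sm gf N17418
def N18032 : Q := sm ge N17419
def N18033 : Q := sm gf N17420
def N18034 : Q := sm gf N17421
def N18035 : Q := sm gg N17422
def N18036 : Q := sm gc N17423
def N18037 : Q := sm ge N17423
def N18038 : Q := sm ge N17424
def N18039 : Q := sm gf N17425
def N18040 : Q := sm gc N17426
def N18041 : Q := sm ge N17426
def N18042 : Q := sm gb N17427
def N18043 : Q := sm ge N17427
def N18044 : Q := sm gf N17428
def N18045 : Q := sm gd N17429
def N18046 : Q := sm gf N17429
def N18047 : Q := sm gg N17430
def N18048 : Q := sm ge N17431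
def N18049 : Q := sm gf N17432
def N18050 : Q := sm gb N17433
def N18051 : Q := sm ge N17433
def N18052 : Q := sm gf N17434
def N18053 : Q := sm ga N17435
def N18054 : Q := sm ge N17435
def N18055 : Q := sm gf N17436
def N18056 : Q := sm gg N17437
def N18057 : Q := sm ga N17439
def N18058 : Q := sm ge N17439
def N18059 : Q := sm gd N17440
def N18060 : Q := sm gg N17442
def N18061 : Q := sm gf N17443
def N18062 : Q := sm gg N17444
def N18063 : Q := sm gf N17446
def N18064 : Q := sm gg N17447
def N18065 : Q := sm gf N17448
def N18066 : Q := sm gg N17449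
def N18067 : Q := sm gg N17450
def N18068 : Q := sm ge N17452
def N18069 : Q := sm ge N17453
def N18070 : Q := sm gf N17454
def N18071 : Q := sm gf N17455
def N18072 : Q := sm gg N17456
def N18073 : Q := sm gg N17457
def N18074 : Q := sm ge N17459
def N18075 : Q := sm gf N17460
def N18076 : Q := sm gf N17461
def N18077 : Q := sm gg N17462
def N18078 : Q := sm ge N17464
def N18079 : Q := sm gf N17465
def N18080 : Q := sm gf N17466
def N18081 : Q := sm gg N17467
def N18082 : Q := sm gf N17468
def N18083 : Q := sm gh N17468
def N18084 : Q := sm gg N17469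
def N18085 : Q := sm gf N17471
def N18086 : Q := sm gf N17472
def N18087 : Q := sm gg N17473
def N18088 : Q := sm gg N17474
def N18089 : Q := sm gc N17476
def N18090 : Q := sm ge N17476
def N18091 : Q := sm ge N17477
def N18092 : Q := sm gf N17478
def N18093 : Q := sm gf N17479
def N18094 : Q := sm gg N17480
def N18095 : Q := sm gg N17481
def N18096 : Q := sm gc N17483
def N18097 : Q := sm ge N17483
def N18098 : Q := sm gc N17484
def N18099 : Q := sm ge N17484
def N18100 : Q := sm ge N17485
def N18101 : Q := sm gf N17486
def N18102 : Q := sm ge N17487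
def N18103 : Q := sm gf N17488
def N18104 : Q := sm gd N17489
def N18105 : Q := sm gf N17489
def N18106 : Q := sm gg N17490
def N18107 : Q := sm gf N17491
def N18108 : Q := sm gg N17492
def N18109 : Q := sm gg N17493
def N18110 : Q := sm gg N17495
def N18111 : Q := sm gh N17495
def N18112 : Q := sm gi N17496
def N18113 : Q := sm gf N17498
def N18114 : Q := sm gf N17499
def N18115 : Q := sm gf N17500
def N18116 : Q := sm gf N17501
def N18117 : Q := sm gg N17502
def N18118 : Q := sm gd N17503
def N18119 : Q := sm gf N17503
def N18120 : Q := sm gg N17504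
def N18121 : Q := sm gf N17505
def N18122 : Q := sm gg N17506
def N18123 : Q := sm gg N17508
def N18124 : Q := sm gg N17509
def N18125 : Q := sm gi N17513
def N18126 : Q := sm gg N17516
def N18127 : Q := sm gf N17517
def N18128 : Q := sm gg N17518
def N18129 : Q := sm ge N17521
def N18130 : Q := sm gf N17522
def N18131 : Q := sm ge N17523
def N18132 : Q := sm gf N17524
def N18133 : Q := sm gd N17525
def N18134 : Q := sm gf N17525
def N18135 : Q := sm gg N17526
def N18136 : Q := sm gf N17527
def N18137 : Q := sm gg N17528
def N18138 : Q := sm gg N17529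
def N18139 : Q := sm gf N17531
def N18140 : Q := sm gf N17532
def N18141 : Q := sm gg N17533
def N18142 : Q := sm gg N17534
def N18143 : Q := sm ga N17537
def N18144 : Q := sm ge N17537
def N18145 : Q := sm gf N17538
def N18146 : Q := sm gg N17539
def N18147 : Q := sm ge N17542
def N18148 : Q := sm gf N17543
def N18149 : Q := sm gg N17544
def N18150 : Q := sm ge N17545
def N18151 : Q := sm gc N17546
def N18152 : Q := sm ge N17546
def N18153 : Q := sm gb N17547
def N18154 : Q := sm ge N17547
def N18155 : Q := sm gf N17548
def N18156 : Q := sm gf N17549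
def N18157 : Q := sm ga N17550
def N18158 : Q := sm ge N17550
def N18159 : Q := sm gf N17551
def N18160 : Q := sm gg N17552
def N18161 : Q := sm ge N17554
def N18162 : Q := sm gc N17555
def N18163 : Q := sm ge N17555
def N18164 : Q := sm gb N17556
def N18165 : Q := sm ge N17556
def N18166 : Q := sm gf N17557
def N18167 : Q := sm gb N17558
def N18168 : Q := sm ge N17558
def N18169 : Q := sm gf N17559
def N18170 : Q := sm ga N17560
def N18171 : Q := sm ge N17560
def N18172 : Q := sm gf N17561
def N18173 : Q := sm gg N17562
def N18174 : Q := sm ge N17563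
def N18175 : Q := sm gf N17564
def N18176 : Q := sm ga N17565
def N18177 : Q := sm ge N17565
def N18178 : Q := sm gd N17566
def N18179 : Q := sm gf N17566
def N18180 : Q := sm gg N17567
def N18181 : Q := sm ge N17568
def N18182 : Q := sm gf N17569
def N18183 : Q := sm gg N17570
def N18184 : Q := sm gc N17574
def N18185 : Q := sm ge N17574
def N18186 : Q := sm gb N17575
def N18187 : Q := sm ge N17575
def N18188 : Q := sm gf N17576
def N18189 : Q := sm ge N17577
def N18190 : Q := sm gf N17578
def N18191 : Q := sm gg N17579
def N18192 : Q := sm gc N17581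
def N18193 : Q := sm ge N17581
def N18194 : Q := sm ge N17582
def N18195 : Q := sm ge N17583
def N18196 : Q := sm gf N17584
def N18197 : Q := sm ge N17585
def N18198 : Q := sm gf N17586
def N18199 : Q := sm gd N17587
def N18200 : Q := sm gf N17587
def N18201 : Q := sm gg N17588
def N18202 : Q := sm gf N17589
def N18203 : Q := sm gg N17590
def N18204 : Q := sm gg N17591
def N18205 : Q := sm ge N17593
def N18206 : Q := sm gf N17594
def N18207 : Q := sm gf N17595
def N18208 : Q := sm gf N17596
def N18209 : Q := sm gg N17597
def N18210 : Q := sm gg N17598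
def N18211 : Q := sm gg N17600
def N18212 : Q := sm ge N17602
def N18213 : Q := sm gf N17603
def N18214 : Q := sm gf N17604
def N18215 : Q := sm gf N17605
def N18216 : Q := sm gg N17606
def N18217 : Q := sm gg N17607
def N18218 : Q := sm gg N17609
def N18219 : Q := sm gc N17611
def N18220 : Q := sm ge N17611
def N18221 : Q := sm ge N17612
def N18222 : Q := sm ge N17613
def N18223 : Q := sm gf N17614
def N18224 : Q := sm gb N17615
def N18225 : Q := sm ge N17615
def N18226 : Q := sm gf N17616
def N18227 : Q := sm ge N17617
def N18228 : Q := sm gf N17618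
def N18229 : Q := sm gg N17619
def N18230 : Q := sm gf N17620
def N18231 : Q := sm gg N17621
def N18232 : Q := sm gf N17622
def N18233 : Q := sm gg N17623
def N18234 : Q := sm ge N17625
def N18235 : Q := sm gf N17626
def N18236 : Q := sm gf N17627
def N18237 : Q := sm gf N17628
def N18238 : Q := sm gf N17629
def N18239 : Q := sm gg N17630
def N18240 : Q := sm gd N17631
def N18241 : Q := sm gf N17631
def N18242 : Q := sm gg N17632
def N18243 : Q := sm gd N17633
def N18244 : Q := sm gf N17633
def N18245 : Q := sm gf N17634
def N18246 : Q := sm gg N17635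
def N18247 : Q := sm gg N17637
def N18248 : Q := sm gg N17638
def N18249 : Q := sm gg N17640
def N18250 : Q := sm gf N17642
def N18251 : Q := sm gg N17643
def N18252 : Q := sm gg N17644
def N18253 : Q := sm gg N17645
def N18254 : Q := sm gg N17646
def N18255 : Q := sm gg N17648
def N18256 : Q := sm gg N17650
def N18257 : Q := sm gg N17651
def N18258 : Q := sm gb N17663
def N18259 : Q := sm ga N17665
def N18260 : Q := sm gb N17667
def N18261 : Q := sm ge N17667
def N18262 : Q := sm gf N17668
def N18263 : Q := sm gd N17669
def N18264 : Q := sm gf N17669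
def N18265 : Q := sm gg N17670
def N18266 : Q := sm gb N17671
def N18267 : Q := sm ge N17671
def N18268 : Q := sm gf N17672
def N18269 : Q := sm gb N17673
def N18270 : Q := sm ge N17673
def N18271 : Q := sm gf N17674
def N18272 : Q := sm ga N17675
def N18273 : Q := sm ge N17675
def N18274 : Q := sm gf N17676
def N18275 : Q := sm gg N17677
def N18276 : Q := sm ga N17679
def N18277 : Q := sm ge N17679
def N18278 : Q := sm gd N17680
def N18279 : Q := sm gf N17682
def N18280 : Q := sm gh N17682
def N18281 : Q := sm gg N17683
def N18282 : Q := sm gb N17685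
def N18283 : Q := sm ge N17685
def N18284 : Q := sm gf N17686
def N18285 : Q := sm ge N17687
def N18286 : Q := sm gd N17688
def N18287 : Q := sm gf N17688
def N18288 : Q := sm gg N17689
def N18289 : Q := sm gf N17690
def N18290 : Q := sm gg N17691
def N18291 : Q := sm gb N17693
def N18292 : Q := sm ge N17693
def N18293 : Q := sm gf N17694
def N18294 : Q := sm ge N17695
def N18295 : Q := sm gd N17696
def N18296 : Q := sm gf N17696
def N18297 : Q := sm gg N17697
def N18298 : Q := sm gf N17698
def N18299 : Q := sm gf N17699
def N18300 : Q := sm gh N17699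
def N18301 : Q := sm gg N17700
def N18302 : Q := sm ge N17702
def N18303 : Q := sm gg N17702
def N18304 : Q := sm gh N17702
def N18305 : Q := sm gi N17703
def N18306 : Q := sm gf N17705
def N18307 : Q := sm ge N17706
def N18308 : Q := sm gf N17707
def N18309 : Q := sm gf N17708
def N18310 : Q := sm gg N17709
def N18311 : Q := sm ga N17710
def N18312 : Q := sm ge N17710
def N18313 : Q := sm gd N17711
def N18314 : Q := sm gf N17711
def N18315 : Q := sm gg N17712
def N18316 : Q := sm ge N17713
def N18317 : Q := sm gd N17714
def N18318 : Q := sm gf N17714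
def N18319 : Q := sm gf N17715
def N18320 : Q := sm gg N17716
def N18321 : Q := sm gg N17718
def N18322 : Q := sm gg N17721
def N18323 : Q := sm ge N17723
def N18324 : Q := sm gd N17724
def N18325 : Q := sm gd N17726
def N18326 : Q := sm gi N17728
def N18327 : Q := sm gi N17729
def N18328 : Q := sm ge N17731
def N18329 : Q := sm gf N17732
def N18330 : Q := sm gb N17733
def N18331 : Q := sm ge N17733
def N18332 : Q := sm gf N17734
def N18333 : Q := sm ga N17735
def N18334 : Q := sm ge N17735
def N18335 : Q := sm gd N17736
def N18336 : Q := sm gf N17736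
def N18337 : Q := sm gg N17737
def N18338 : Q := sm ge N17738
def N18339 : Q := sm gf N17739
def N18340 : Q := sm ga N17740
def N18341 : Q := sm ge N17740
def N18342 : Q := sm gd N17741
def N18343 : Q := sm gf N17741
def N18344 : Q := sm gg N17742
def N18345 : Q := sm ge N17743
def N18346 : Q := sm gf N17744
def N18347 : Q := sm gg N17745
def N18348 : Q := sm ge N17749
def N18349 : Q := sm gf N17750
def N18350 : Q := sm ge N17751
def N18351 : Q := sm gf N17752
def N18352 : Q := sm gd N17753
def N18353 : Q := sm gf N17753
def N18354 : Q := sm gg N17754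
def N18355 : Q := sm gd N17755
def N18356 : Q := sm gf N17755
def N18357 : Q := sm gg N17756
def N18358 : Q := sm gf N17757
def N18359 : Q := sm gg N17758
def N18360 : Q := sm gg N17760
def N18361 : Q := sm gf N17763
def N18362 : Q := sm gg N17764
def N18363 : Q := sm gf N17765
def N18364 : Q := sm gg N17766
def N18365 : Q := sm ge N17767
def N18366 : Q := sm gd N17768
def N18367 : Q := sm gf N17768
def N18368 : Q := sm gg N17769
def N18369 : Q := sm gf N17770
def N18370 : Q := sm gf N17771
def N18371 : Q := sm gg N17772
def N18372 : Q := sm ge N17774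
def N18373 : Q := sm gd N17775
def N18374 : Q := sm gf N17775
def N18375 : Q := sm gf N17776
def N18376 : Q := sm gh N17776
def N18377 : Q := sm gg N17777
def N18378 : Q := sm gd N17779
def N18379 : Q := sm gf N17779
def N18380 : Q := sm gf N17780
def N18381 : Q := sm gg N17781
def N18382 : Q := sm gg N17782
def N18383 : Q := sm gg N17784
def N18384 : Q := sm gg N17786
def N18385 : Q := sm gg N17787
def N18386 : Q := sm gh N17787
def N18387 : Q := sm gg N17790
def N18388 : Q := sm gd N17793
def N18389 : Q := sm gh N17794
def N18390 : Q := sm ge N17797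
def N18391 : Q := sm gf N17798
def N18392 : Q := sm gb N17799
def N18393 : Q := sm ge N17799
def N18394 : Q := sm gf N17800
def N18395 : Q := sm gd N17801
def N18396 : Q := sm gf N17801
def N18397 : Q := sm gg N17802
def N18398 : Q := sm gb N17803
def N18399 : Q := sm ge N17803
def N18400 : Q := sm gf N17804
def N18401 : Q := sm gb N17805
def N18402 : Q := sm ge N17805
def N18403 : Q := sm gf N17806
def N18404 : Q := sm ga N17807
def N18405 : Q := sm ge N17807
def N18406 : Q := sm gf N17808
def N18407 : Q := sm gg N17809
def N18408 : Q := sm gd N17812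
def N18409 : Q := sm gg N17814
def N18410 : Q := sm gf N17815
def N18411 : Q := sm gg N17816
def N18412 : Q := sm ge N17817
def N18413 : Q := sm gf N17818
def N18414 : Q := sm gf N17819
def N18415 : Q := sm gg N17820
def N18416 : Q := sm gf N17822
def N18417 : Q := sm gg N17823
def N18418 : Q := sm gf N17824
def N18419 : Q := sm gg N17825
def N18420 : Q := sm gf N17826
def N18421 : Q := sm gh N17826
def N18422 : Q := sm gg N17827
def N18423 : Q := sm ge N17829
def N18424 : Q := sm gf N17830
def N18425 : Q := sm ge N17831
def N18426 : Q := sm gf N17832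
def N18427 : Q := sm ge N17833
def N18428 : Q := sm gd N17834
def N18429 : Q := sm gf N17834
def N18430 : Q := sm gg N17835
def N18431 : Q := sm gf N17836
def N18432 : Q := sm gg N17837
def N18433 : Q := sm gf N17838
def N18434 : Q := sm gg N17839
def N18435 : Q := sm gg N17841
def N18436 : Q := sm gf N17842
def N18437 : Q := sm gg N17843
def N18438 : Q := sm gg N17845
def N18439 : Q := sm gg N17846
def N18440 : Q := sm gg N17848
def N18441 : Q := sm gf N17850
def N18442 : Q := sm gg N17851
def N18443 : Q := sm gg N17852
def N18444 : Q := sm gf N17854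
def N18445 : Q := sm gg N17855
def N18446 : Q := sm gg N17856
def N18447 : Q := sm gg N17858
def N18448 : Q := sm gh N17858
def N18449 : Q := sm gf N17861
def N18450 : Q := sm gf N17862
def N18451 : Q := sm gg N17863
def N18452 : Q := sm gf N17864
def N18453 : Q := sm gg N17865
def N18454 : Q := sm ge N17866
def N18455 : Q := sm gf N17867
def N18456 : Q := sm gg N17868
def N18457 : Q := sm gg N17870
def N18458 : Q := sm gg N17871
def N18459 : Q := sm gf N17873
def N18460 : Q := sm gg N17874
def N18461 : Q := sm gg N17877
def N18462 : Q := sm gg N17878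
def N18463 : Q := sm gf N17880
def N18464 : Q := sm gg N17881
def N18465 : Q := sm gf N17882
def N18466 : Q := sm gg N17883
def N18467 : Q := sm ge N17885
def N18468 : Q := sm gf N17886
def N18469 : Q := sm ge N17887
def N18470 : Q := sm gd N17888
def N18471 : Q := sm gf N17888
def N18472 : Q := sm gg N17889
def N18473 : Q := sm gf N17890
def N18474 : Q := sm gd N17891
def N18475 : Q := sm gf N17891
def N18476 : Q := sm gg N17892
def N18477 : Q := sm ge N17893
def N18478 : Q := sm gf N17894
def N18479 : Q := sm gg N17895
def N18480 : Q := sm gh N17897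
def N18481 : Q := sm ge N17900
def N18482 : Q := sm gd N17901
def N18483 : Q := sm gf N17901
def N18484 : Q := sm gg N17902
def N18485 : Q := sm gf N17903
def N18486 : Q := sm gg N17904
def N18487 : Q := sm gf N17907
def N18488 : Q := sm ge N17908
def N18489 : Q := sm gf N17909
def N18490 : Q := sm gf N17910
def N18491 : Q := sm gg N17911
def N18492 : Q := sm gg N17912
def N18493 : Q := sm gg N17913
def N18494 : Q := sm ge N17915
def N18495 : Q := sm gf N17916
def N18496 : Q := sm gf N17917
def N18497 : Q := sm gb N17918
def N18498 : Q := sm ge N17918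
def N18499 : Q := sm gf N17919
def N18500 : Q := sm ge N17920
def N18501 : Q := sm gd N17921
def N18502 : Q := sm gf N17921
def N18503 : Q := sm gg N17922
def N18504 : Q := sm ga N17923
def N18505 : Q := sm ge N17923
def N18506 : Q := sm gd N17924
def N18507 : Q := sm gf N17924
def N18508 : Q := sm gg N17925
def N18509 : Q := sm ge N17926
def N18510 : Q := sm gd N17927
def N18511 : Q := sm gf N17927
def N18512 : Q := sm gf N17928
def N18513 : Q := sm gg N17929
def N18514 : Q := sm gg N17931
def N18515 : Q := sm gf N17932
def N18516 : Q := sm gg N17933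
def N18517 : Q := sm gf N17935
def N18518 : Q := sm gg N17936
def N18519 : Q := sm gd N17938
def N18520 : Q := sm gf N17938
def N18521 : Q := sm gg N17939
def N18522 : Q := sm gg N17940
def N18523 : Q := sm ge N17943
def N18524 : Q := sm gd N17944
def N18525 : Q := sm gf N17944
def N18526 : Q := sm gg N17945
def N18527 : Q := sm gf N17946
def N18528 : Q := sm gg N17947
def N18529 : Q := sm gf N17949
def N18530 : Q := sm ge N17950
def N18531 : Q := sm gd N17951
def N18532 : Q := sm gf N17951
def N18533 : Q := sm gg N17952
def N18534 : Q := sm ge N17953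
def N18535 : Q := sm gf N17954
def N18536 : Q := sm gg N17955
def N18537 : Q := sm gg N17957
def N18538 : Q := sm gf N17958
def N18539 : Q := sm gf N17959
def N18540 : Q := sm gg N17960
def N18541 : Q := sm gg N17962
def N18542 : Q := sm gf N17964
def N18543 : Q := sm ge N17965
def N18544 : Q := sm gf N17966
def N18545 : Q := sm gd N17967
def N18546 : Q := sm gf N17967
def N18547 : Q := sm gg N17968
def N18548 : Q := sm gg N17969
def N18549 : Q := sm gg N17970
def N18550 : Q := sm ge N17972
def N18551 : Q := sm gf N17973
def N18552 : Q := sm ge N17974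
def N18553 : Q := sm gf N17975
def N18554 : Q := sm ge N17976
def N18555 : Q := sm gf N17977
def N18556 : Q := sm gd N17978
def N18557 : Q := sm gf N17978
def N18558 : Q := sm gg N17979
def N18559 : Q := sm ge N17980
def N18560 : Q := sm gd N17981
def N18561 : Q := sm gf N17981
def N18562 : Q := sm gg N17982
def N18563 : Q := sm gd N17983
def N18564 : Q := sm gf N17983
def N18565 : Q := sm gf N17984
def N18566 : Q := sm gg N17985
def N18567 : Q := sm gf N17987
def N18568 : Q := sm gg N17988
def N18569 : Q := sm gf N17989
def N18570 : Q := sm gh N17989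
def N18571 : Q := sm gg N17990
def N18572 : Q := sm gg N17992
def N18573 : Q := sm gg N17994
def N18574 : Q := sm gg N17995
def N18575 : Q := sm ge N17996
def N18576 : Q := sm gf N17997
def N18577 : Q := sm gg N17998
def N18578 : Q := sm gf N17999
def N18579 : Q := sm gg N18000
def N18580 : Q := sm ge N18002
def N18581 : Q := sm gd N18003
def N18582 : Q := sm gf N18003
def N18583 : Q := sm gf N18004
def N18584 : Q := sm gh N18004
def N18585 : Q := sm gg N18005
def N18586 : Q := sm gd N18007
def N18587 : Q := sm gf N18007
def N18588 : Q := sm gc N18008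
def N18589 : Q := sm gf N18008
def N18590 : Q := sm gg N18009
def N18591 : Q := sm gg N18010
def N18592 : Q := sm gg N18013
def N18593 : Q := sm gg N18015
def N18594 : Q := sm gd N18018
def N18595 : Q := sm gc N18019
def N18596 : Q := sm gh N18019
def N18597 : Q := sm gc N18021
def N18598 : Q := sm gi N18023
def N18599 : Q := sm gg N18025
def N18600 : Q := sm gg N18027
def N18601 : Q := sm gg N18031
def N18602 : Q := sm gd N18032
def N18603 : Q := sm gf N18032
def N18604 : Q := sm gg N18033
def N18605 : Q := sm gg N18034
def N18606 : Q := sm ge N18036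
def N18607 : Q := sm gf N18037
def N18608 : Q := sm gd N18038
def N18609 : Q := sm gf N18038
def N18610 : Q := sm gg N18039
def N18611 : Q := sm ge N18040
def N18612 : Q := sm gf N18041
def N18613 : Q := sm ga N18042
def N18614 : Q := sm ge N18042
def N18615 : Q := sm gd N18043
def N18616 : Q := sm gf N18043
def N18617 : Q := sm gg N18044
def N18618 : Q := sm gf N18045
def N18619 : Q := sm gg N18046
def N18620 : Q := sm gf N18048
def N18621 : Q := sm gg N18049
def N18622 : Q := sm ga N18050
def N18623 : Q := sm ge N18050
def N18624 : Q := sm gd N18051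
def N18625 : Q := sm gf N18051
def N18626 : Q := sm gg N18052
def N18627 : Q := sm ge N18053
def N18628 : Q := sm gf N18054
def N18629 : Q := sm gg N18055
def N18630 : Q := sm gd N18058
def N18631 : Q := sm gg N18061
def N18632 : Q := sm gg N18063
def N18633 : Q := sm gg N18065
def N18634 : Q := sm gf N18068
def N18635 : Q := sm gf N18069
def N18636 : Q := sm gg N18070
def N18637 : Q := sm gg N18071
def N18638 : Q := sm gd N18074
def N18639 : Q := sm gf N18074
def N18640 : Q := sm gg N18075
def N18641 : Q := sm gg N18076
def N18642 : Q := sm gd N18078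
def N18643 : Q := sm gf N18078
def N18644 : Q := sm gg N18079
def N18645 : Q := sm gg N18080
def N18646 : Q := sm gg N18082
def N18647 : Q := sm gh N18082
def N18648 : Q := sm gi N18083
def N18649 : Q := sm gg N18085
def N18650 : Q := sm gg N18086
def N18651 : Q := sm ge N18089
def N18652 : Q := sm gf N18090
def N18653 : Q := sm gd N18091
def N18654 : Q := sm gf N18091
def N18655 : Q := sm gg N18092
def N18656 : Q := sm gg N18093
def N18657 : Q := sm ge N18096
def N18658 : Q := sm gf N18097
def N18659 : Q := sm ge N18098
def N18660 : Q := sm gf N18099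
def N18661 : Q := sm gd N18100
def N18662 : Q := sm gf N18100
def N18663 : Q := sm gg N18101
def N18664 : Q := sm gd N18102
def N18665 : Q := sm gf N18102
def N18666 : Q := sm gg N18103
def N18667 : Q := sm gf N18104
def N18668 : Q := sm gg N18105
def N18669 : Q := sm gg N18107
def N18670 : Q := sm gh N18110
def N18671 : Q := sm gi N18111
def N18672 : Q := sm gg N18113
def N18673 : Q := sm gg N18114
def N18674 : Q := sm gg N18115
def N18675 : Q := sm gg N18116
def N18676 : Q := sm gf N18118
def N18677 : Q := sm gg N18119
def N18678 : Q := sm gg N18121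
def N18679 : Q := sm gg N18127
def N18680 : Q := sm gd N18129
def N18681 : Q := sm gf N18129
def N18682 : Q := sm gg N18130
def N18683 : Q := sm gd N18131
def N18684 : Q := sm gf N18131
def N18685 : Q := sm gg N18132
def N18686 : Q := sm gf N18133
def N18687 : Q := sm gg N18134
def N18688 : Q := sm gg N18136
def N18689 : Q := sm gg N18139
def N18690 : Q := sm gg N18140
def N18691 : Q := sm ge N18143
def N18692 : Q := sm gf N18144
def N18693 : Q := sm gg N18145
def N18694 : Q := sm gf N18147
def N18695 : Q := sm gg N18148
def N18696 : Q := sm gf N18150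
def N18697 : Q := sm gb N18151
def N18698 : Q := sm ge N18151
def N18699 : Q := sm gf N18152
def N18700 : Q := sm ga N18153
def N18701 : Q := sm ge N18153
def N18702 : Q := sm gd N18154
def N18703 : Q := sm gf N18154
def N18704 : Q := sm gg N18155
def N18705 : Q := sm gg N18156
def N18706 : Q := sm ge N18157
def N18707 : Q := sm gf N18158
def N18708 : Q := sm gg N18159
def N18709 : Q := sm gf N18161
def N18710 : Q := sm gb N18162
def N18711 : Q := sm ge N18162
def N18712 : Q := sm gf N18163
def N18713 : Q := sm ge N18164
def N18714 : Q := sm gd N18165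
def N18715 : Q := sm gf N18165
def N18716 : Q := sm gg N18166
def N18717 : Q := sm ga N18167
def N18718 : Q := sm ge N18167
def N18719 : Q := sm gf N18168
def N18720 : Q := sm gg N18169
def N18721 : Q := sm ge N18170
def N18722 : Q := sm gf N18171
def N18723 : Q := sm gg N18172
def N18724 : Q := sm gf N18174
def N18725 : Q := sm gg N18175
def N18726 : Q := sm gf N18177
def N18727 : Q := sm gf N18178
def N18728 : Q := sm gg N18179
def N18729 : Q := sm gf N18181
def N18730 : Q := sm gg N18182
def N18731 : Q := sm gb N18184
def N18732 : Q := sm ge N18184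
def N18733 : Q := sm gf N18185
def N18734 : Q := sm ge N18186
def N18735 : Q := sm gd N18187
def N18736 : Q := sm gf N18187
def N18737 : Q := sm gg N18188
def N18738 : Q := sm gf N18189
def N18739 : Q := sm gg N18190
def N18740 : Q := sm ge N18192
def N18741 : Q := sm gf N18193
def N18742 : Q := sm gf N18194
def N18743 : Q := sm gd N18195
def N18744 : Q := sm gf N18195
def N18745 : Q := sm gg N18196
def N18746 : Q := sm gd N18197
def N18747 : Q := sm gf N18197
def N18748 : Q := sm gg N18198
def N18749 : Q := sm gf N18199
def N18750 : Q := sm gg N18200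
def N18751 : Q := sm gg N18202
def N18752 : Q := sm gf N18205
def N18753 : Q := sm gg N18206
def N18754 : Q := sm gg N18207
def N18755 : Q := sm gg N18208
def N18756 : Q := sm gf N18212
def N18757 : Q := sm gg N18213
def N18758 : Q := sm gg N18214
def N18759 : Q := sm gg N18215
def N18760 : Q := sm ge N18219
def N18761 : Q := sm gf N18220
def N18762 : Q := sm gf N18221
def N18763 : Q := sm gf N18222
def N18764 : Q := sm gg N18223
def N18765 : Q := sm ge N18224
def N18766 : Q := sm gf N18225
def N18767 : Q := sm gg N18226
def N18768 : Q := sm gf N18227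
def N18769 : Q := sm gg N18228
def N18770 : Q := sm gg N18230
def N18771 : Q := sm gg N18232
def N18772 : Q := sm gf N18234
def N18773 : Q := sm gg N18235
def N18774 : Q := sm gg N18236
def N18775 : Q := sm gg N18237
def N18776 : Q := sm gg N18238
def N18777 : Q := sm gf N18240
def N18778 : Q := sm gg N18241
def N18779 : Q := sm gf N18243
def N18780 : Q := sm gg N18244
def N18781 : Q := sm gg N18245
def N18782 : Q := sm gg N18250
def N18783 : Q := sm ga N18260
def N18784 : Q := sm ge N18260
def N18785 : Q := sm gd N18261
def N18786 : Q := sm gf N18261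
def N18787 : Q := sm gg N18262
def N18788 : Q := sm gf N18263
def N18789 : Q := sm gh N18263
def N18790 : Q := sm gg N18264
def N18791 : Q := sm ga N18266
def N18792 : Q := sm ge N18266
def N18793 : Q := sm gd N18267
def N18794 : Q := sm gf N18267
def N18795 : Q := sm gg N18268
def N18796 : Q := sm ga N18269
def N18797 : Q := sm ge N18269
def N18798 : Q := sm gd N18270
def N18799 : Q := sm gf N18270
def N18800 : Q := sm gg N18271
def N18801 : Q := sm ge N18272
def N18802 : Q := sm gf N18273
def N18803 : Q := sm gg N18274
def N18804 : Q := sm gd N18277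
def N18805 : Q := sm gg N18279
def N18806 : Q := sm gh N18279
def N18807 : Q := sm gi N18280
def N18808 : Q := sm ge N18282
def N18809 : Q := sm gd N18283
def N18810 : Q := sm gf N18283
def N18811 : Q := sm gg N18284
def N18812 : Q := sm gd N18285
def N18813 : Q := sm gf N18285
def N18814 : Q := sm gf N18286
def N18815 : Q := sm gg N18287
def N18816 : Q := sm gg N18289
def N18817 : Q := sm ge N18291
def N18818 : Q := sm gd N18292
def N18819 : Q := sm gf N18292
def N18820 : Q := sm gg N18293
def N18821 : Q := sm gd N18294
def N18822 : Q := sm gf N18294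
def N18823 : Q := sm gf N18295
def N18824 : Q := sm gh N18295
def N18825 : Q := sm gg N18296
def N18826 : Q := sm gg N18298
def N18827 : Q := sm gg N18299
def N18828 : Q := sm gh N18299
def N18829 : Q := sm gi N18300
def N18830 : Q := sm gg N18302
def N18831 : Q := sm gh N18302
def N18832 : Q := sm gh N18303
def N18833 : Q := sm gi N18304
def N18834 : Q := sm gg N18306
def N18835 : Q := sm gf N18307
def N18836 : Q := sm gg N18308
def N18837 : Q := sm gg N18309
def N18838 : Q := sm ge N18311
def N18839 : Q := sm gd N18312
def N18840 : Q := sm gf N18312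
def N18841 : Q := sm gf N18313
def N18842 : Q := sm gg N18314
def N18843 : Q := sm gd N18316
def N18844 : Q := sm gf N18317
def N18845 : Q := sm gg N18318
def N18846 : Q := sm gg N18319
def N18847 : Q := sm gd N18323
def N18848 : Q := sm gd N18328
def N18849 : Q := sm gf N18328
def N18850 : Q := sm gg N18329
def N18851 : Q := sm ga N18330
def N18852 : Q := sm ge N18330
def N18853 : Q := sm gd N18331
def N18854 : Q := sm gf N18331
def N18855 : Q := sm gg N18332
def N18856 : Q := sm ge N18333
def N18857 : Q := sm gd N18334
def N18858 : Q := sm gf N18334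
def N18859 : Q := sm gf N18335
def N18860 : Q := sm gg N18336
def N18861 : Q := sm gf N18338
def N18862 : Q := sm gg N18339
def N18863 : Q := sm ge N18340
def N18864 : Q := sm gf N18341
def N18865 : Q := sm gf N18342
def N18866 : Q := sm gg N18343
def N18867 : Q := sm gf N18345
def N18868 : Q := sm gg N18346
def N18869 : Q := sm gd N18348
def N18870 : Q := sm gf N18348
def N18871 : Q := sm gg N18349
def N18872 : Q := sm gd N18350
def N18873 : Q := sm gf N18350
def N18874 : Q := sm gg N18351
def N18875 : Q := sm gf N18352
def N18876 : Q := sm gg N18353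
def N18877 : Q := sm gf N18355
def N18878 : Q := sm gh N18355
def N18879 : Q := sm gg N18356
def N18880 : Q := sm ge N18358
def N18881 : Q := sm gg N18358
def N18882 : Q := sm gg N18361
def N18883 : Q := sm gg N18363
def N18884 : Q := sm gf N18365
def N18885 : Q := sm gf N18366
def N18886 : Q := sm gg N18367
def N18887 : Q := sm gg N18369
def N18888 : Q := sm gg N18370
def N18889 : Q := sm gd N18372
def N18890 : Q := sm gf N18372
def N18891 : Q := sm gf N18373
def N18892 : Q := sm gh N18373
def N18893 : Q := sm gg N18374
def N18894 : Q := sm gg N18375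
def N18895 : Q := sm gh N18375
def N18896 : Q := sm gf N18378
def N18897 : Q := sm gg N18379
def N18898 : Q := sm gg N18380
def N18899 : Q := sm gh N18385
def N18900 : Q := sm gh N18388
def N18901 : Q := sm gd N18390
def N18902 : Q := sm gf N18390
def N18903 : Q := sm gg N18391
def N18904 : Q := sm ge N18392
def N18905 : Q := sm gd N18393
def N18906 : Q := sm gf N18393
def N18907 : Q := sm gg N18394
def N18908 : Q := sm gf N18395
def N18909 : Q := sm gh N18395
def N18910 : Q := sm gg N18396
def N18911 : Q := sm ge N18398
def N18912 : Q := sm gd N18399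
def N18913 : Q := sm gf N18399
def N18914 : Q := sm gg N18400
def N18915 : Q := sm ge N18401
def N18916 : Q := sm gd N18402
def N18917 : Q := sm gf N18402
def N18918 : Q := sm gg N18403
def N18919 : Q := sm ge N18404
def N18920 : Q := sm gf N18405
def N18921 : Q := sm gg N18406
def N18922 : Q := sm gh N18408
def N18923 : Q := sm gg N18410
def N18924 : Q := sm gd N18412
def N18925 : Q := sm gf N18412
def N18926 : Q := sm gg N18413
def N18927 : Q := sm gg N18414
def N18928 : Q := sm gg N18416
def N18929 : Q := sm gg N18418
def N18930 : Q := sm gg N18420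
def N18931 : Q := sm gh N18420
def N18932 : Q := sm gd N18423
def N18933 : Q := sm gf N18423
def N18934 : Q := sm gg N18424
def N18935 : Q := sm gd N18425
def N18936 : Q := sm gf N18425
def N18937 : Q := sm gg N18426
def N18938 : Q := sm gd N18427
def N18939 : Q := sm gf N18427
def N18940 : Q := sm gf N18428
def N18941 : Q := sm gg N18429
def N18942 : Q := sm gg N18431
def N18943 : Q := sm gg N18433
def N18944 : Q := sm gg N18436
def N18945 : Q := sm gg N18441
def N18946 : Q := sm gg N18444
def N18947 : Q := sm gh N18447
def N18948 : Q := sm gg N18449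
def N18949 : Q := sm gg N18450
def N18950 : Q := sm gg N18452
def N18951 : Q := sm gf N18454
def N18952 : Q := sm gg N18455
def N18953 : Q := sm gg N18459
def N18954 : Q := sm gg N18463
def N18955 : Q := sm gg N18465
def N18956 : Q := sm gd N18467
def N18957 : Q := sm gf N18467
def N18958 : Q := sm gg N18468
def N18959 : Q := sm gd N18469
def N18960 : Q := sm gf N18469
def N18961 : Q := sm gf N18470
def N18962 : Q := sm gg N18471
def N18963 : Q := sm gg N18473
def N18964 : Q := sm gf N18474
def N18965 : Q := sm gh N18474
def N18966 : Q := sm gg N18475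
def N18967 : Q := sm gf N18477
def N18968 : Q := sm gg N18478
def N18969 : Q := sm gd N18481
def N18970 : Q := sm gf N18481
def N18971 : Q := sm gf N18482
def N18972 : Q := sm gg N18483
def N18973 : Q := sm gg N18485
def N18974 : Q := sm gg N18487
def N18975 : Q := sm gf N18488
def N18976 : Q := sm gg N18489
def N18977 : Q := sm gg N18490
def N18978 : Q := sm gd N18494
def N18979 : Q := sm gf N18494
def N18980 : Q := sm gg N18495
def N18981 : Q := sm gg N18496
def N18982 : Q := sm ge N18497
def N18983 : Q := sm gd N18498
def N18984 : Q := sm gf N18498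
def N18985 : Q := sm gg N18499
def N18986 : Q := sm gd N18500
def N18987 : Q := sm gf N18500
def N18988 : Q := sm gf N18501
def N18989 : Q := sm gg N18502
def N18990 : Q := sm ge N18504
def N18991 : Q := sm gd N18505
def N18992 : Q := sm gf N18505
def N18993 : Q := sm gf N18506
def N18994 : Q := sm gh N18506
def N18995 : Q := sm gg N18507
def N18996 : Q := sm gd N18509
def N18997 : Q := sm gf N18509
def N18998 : Q := sm gf N18510
def N18999 : Q := sm gg N18511
def N19000 : Q := sm ge N18512
def N19001 : Q := sm gg N18512
def N19002 : Q := sm gg N18515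
def N19003 : Q := sm gg N18517
def N19004 : Q := sm gf N18519
def N19005 : Q := sm gg N18520
def N19006 : Q := sm gd N18523
def N19007 : Q := sm gf N18523
def N19008 : Q := sm gf N18524
def N19009 : Q := sm gg N18525
def N19010 : Q := sm gg N18527
def N19011 : Q := sm gg N18529
def N19012 : Q := sm gf N18530
def N19013 : Q := sm gf N18531
def N19014 : Q := sm gg N18532
def N19015 : Q := sm gf N18534
def N19016 : Q := sm gg N18535
def N19017 : Q := sm gg N18538
def N19018 : Q := sm gg N18539
def N19019 : Q := sm gg N18542
def N19020 : Q := sm gd N18543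
def N19021 : Q := sm gf N18543
def N19022 : Q := sm gg N18544
def N19023 : Q := sm gf N18545
def N19024 : Q := sm gg N18546
def N19025 : Q := sm gd N18550
def N19026 : Q := sm gf N18550
def N19027 : Q := sm gg N18551
def N19028 : Q := sm gd N18552
def N19029 : Q := sm gf N18552
def N19030 : Q := sm gg N18553
def N19031 : Q := sm gd N18554
def N19032 : Q := sm gf N18554
def N19033 : Q := sm gg N18555
def N19034 : Q := sm gf N18556
def N19035 : Q := sm gh N18556
def N19036 : Q := sm gg N18557
def N19037 : Q := sm gd N18559
def N19038 : Q := sm gf N18559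
def N19039 : Q := sm gf N18560
def N19040 : Q := sm gg N18561
def N19041 : Q := sm gc N18563
def N19042 : Q := sm gf N18563
def N19043 : Q := sm gg N18564
def N19044 : Q := sm ge N18565
def N19045 : Q := sm gg N18565
def N19046 : Q := sm gg N18567
def N19047 : Q := sm gg N18569
def N19048 : Q := sm gh N18569
def N19049 : Q := sm gi N18570
def N19050 : Q := sm gf N18575
def N19051 : Q := sm gg N18576
def N19052 : Q := sm gg N18578
def N19053 : Q := sm gd N18580
def N19054 : Q := sm gf N18580
def N19055 : Q := sm gc N18581
def N19056 : Q := sm gf N18581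
def N19057 : Q := sm gh N18581
def N19058 : Q := sm gg N18582
def N19059 : Q := sm gg N18583
def N19060 : Q := sm gh N18583
def N19061 : Q := sm gc N18586
def N19062 : Q := sm gf N18586
def N19063 : Q := sm gg N18587
def N19064 : Q := sm gf N18588
def N19065 : Q := sm gg N18589
def N19066 : Q := sm gc N18594
def N19067 : Q := sm gh N18594
def N19068 : Q := sm gf N18602
def N19069 : Q := sm gg N18603
def N19070 : Q := sm gd N18606
def N19071 : Q := sm gf N18606
def N19072 : Q := sm gg N18607
def N19073 : Q := sm gf N18608
def N19074 : Q := sm gg N18609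
def N19075 : Q := sm gd N18611
def N19076 : Q := sm gf N18611
def N19077 : Q := sm gg N18612
def N19078 : Q := sm ge N18613
def N19079 : Q := sm gd N18614
def N19080 : Q := sm gf N18614
def N19081 : Q := sm gf N18615
def N19082 : Q := sm gg N18616
def N19083 : Q := sm ge N18618
def N19084 : Q := sm gg N18618
def N19085 : Q := sm gg N18620
def N19086 : Q := sm ge N18622
def N19087 : Q := sm gd N18623
def N19088 : Q := sm gf N18623
def N19089 : Q := sm gf N18624
def N19090 : Q := sm gg N18625
def N19091 : Q := sm gf N18627
def N19092 : Q := sm gg N18628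
def N19093 : Q := sm gg N18634
def N19094 : Q := sm gg N18635
def N19095 : Q := sm gf N18638
def N19096 : Q := sm gg N18639
def N19097 : Q := sm gf N18642
def N19098 : Q := sm gg N18643
def N19099 : Q := sm gh N18646
def N19100 : Q := sm gi N18647
def N19101 : Q := sm gd N18651
def N19102 : Q := sm gf N18651
def N19103 : Q := sm gg N18652
def N19104 : Q := sm gf N18653
def N19105 : Q := sm gg N18654
def N19106 : Q := sm gd N18657
def N19107 : Q := sm gf N18657
def N19108 : Q := sm gg N18658
def N19109 : Q := sm gd N18659
def N19110 : Q := sm gf N18659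
def N19111 : Q := sm gg N18660
def N19112 : Q := sm gf N18661
def N19113 : Q := sm gg N18662
def N19114 : Q := sm gf N18664
def N19115 : Q := sm gh N18664
def N19116 : Q := sm gg N18665
def N19117 : Q := sm ge N18667
def N19118 : Q := sm gg N18667
def N19119 : Q := sm gi N18670
def N19120 : Q := sm gg N18676
def N19121 : Q := sm gf N18680
def N19122 : Q := sm gg N18681
def N19123 : Q := sm gf N18683
def N19124 : Q := sm gg N18684
def N19125 : Q := sm ge N18686
def N19126 : Q := sm gg N18686
def N19127 : Q := sm gf N18691
def N19128 : Q := sm gg N18692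
def N19129 : Q := sm gg N18694
def N19130 : Q := sm gg N18696
def N19131 : Q := sm ga N18697
def N19132 : Q := sm ge N18697
def N19133 : Q := sm gd N18698
def N19134 : Q := sm gf N18698
def N19135 : Q := sm gg N18699
def N19136 : Q := sm ge N18700
def N19137 : Q := sm gd N18701
def N19138 : Q := sm gf N18701
def N19139 : Q := sm gf N18702
def N19140 : Q := sm gg N18703
def N19141 : Q := sm gf N18706
def N19142 : Q := sm gg N18707
def N19143 : Q := sm gg N18709
def N19144 : Q := sm ge N18710
def N19145 : Q := sm gf N18711
def N19146 : Q := sm gg N18712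
def N19147 : Q := sm gf N18713
def N19148 : Q := sm gf N18714
def N19149 : Q := sm gg N18715
def N19150 : Q := sm ge N18717
def N19151 : Q := sm gf N18718
def N19152 : Q := sm gg N18719
def N19153 : Q := sm gf N18721
def N19154 : Q := sm gg N18722
def N19155 : Q := sm gg N18724
def N19156 : Q := sm gg N18726
def N19157 : Q := sm gg N18727
def N19158 : Q := sm gg N18729
def N19159 : Q := sm ge N18731
def N19160 : Q := sm gd N18732
def N19161 : Q := sm gf N18732
def N19162 : Q := sm gg N18733
def N19163 : Q := sm gd N18734
def N19164 : Q := sm gf N18734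
def N19165 : Q := sm gf N18735
def N19166 : Q := sm gg N18736
def N19167 : Q := sm gg N18738
def N19168 : Q := sm gd N18740
def N19169 : Q := sm gf N18740
def N19170 : Q := sm gg N18741
def N19171 : Q := sm gg N18742
def N19172 : Q := sm gf N18743
def N19173 : Q := sm gg N18744
def N19174 : Q := sm gf N18746
def N19175 : Q := sm gg N18747
def N19176 : Q := sm ge N18749
def N19177 : Q := sm gg N18749
def N19178 : Q := sm gg N18752
def N19179 : Q := sm gg N18756
def N19180 : Q := sm gf N18760
def N19181 : Q := sm gg N18761
def N19182 : Q := sm gg N18762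
def N19183 : Q := sm gg N18763
def N19184 : Q := sm gf N18765
def N19185 : Q := sm gg N18766
def N19186 : Q := sm gg N18768
def N19187 : Q := sm gg N18772
def N19188 : Q := sm gg N18777
def N19189 : Q := sm gg N18779
def N19190 : Q := sm ge N18783
def N19191 : Q := sm gd N18784
def N19192 : Q := sm gf N18784
def N19193 : Q := sm gf N18785
def N19194 : Q := sm gh N18785
def N19195 : Q := sm gg N18786
def N19196 : Q := sm ge N18788
def N19197 : Q := sm gg N18788
def N19198 : Q := sm gh N18788
def N19199 : Q := sm gi N18789
def N19200 : Q := sm ge N18791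
def N19201 : Q := sm gd N18792
def N19202 : Q := sm gf N18792
def N19203 : Q := sm gf N18793
def N19204 : Q := sm gg N18794
def N19205 : Q := sm ge N18796
def N19206 : Q := sm gd N18797
def N19207 : Q := sm gf N18797
def N19208 : Q := sm gf N18798
def N19209 : Q := sm gg N18799
def N19210 : Q := sm gf N18801
def N19211 : Q := sm gg N18802
def N19212 : Q := sm gh N18805
def N19213 : Q := sm gi N18806
def N19214 : Q := sm gd N18808
def N19215 : Q := sm gf N18808
def N19216 : Q := sm gf N18809
def N19217 : Q := sm gg N18810
def N19218 : Q := sm gc N18812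
def N19219 : Q := sm gf N18812
def N19220 : Q := sm gg N18813
def N19221 : Q := sm ge N18814
def N19222 : Q := sm gg N18814
def N19223 : Q := sm gd N18817
def N19224 : Q := sm gf N18817
def N19225 : Q := sm gf N18818
def N19226 : Q := sm gh N18818
def N19227 : Q := sm gg N18819
def N19228 : Q := sm gf N18821
def N19229 : Q := sm gg N18822
def N19230 : Q := sm ge N18823
def N19231 : Q := sm gg N18823
def N19232 : Q := sm gh N18823
def N19233 : Q := sm gi N18824
def N19234 : Q := sm gh N18827
def N19235 : Q := sm gi N18828
def N19236 : Q := sm gh N18830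
def N19237 : Q := sm gd N18831
def N19238 : Q := sm gi N18831
def N19239 : Q := sm gi N18832
def N19240 : Q := sm gg N18835
def N19241 : Q := sm gd N18838
def N19242 : Q := sm gf N18839
def N19243 : Q := sm gg N18840
def N19244 : Q := sm gg N18841
def N19245 : Q := sm gg N18844
def N19246 : Q := sm gf N18848
def N19247 : Q := sm gg N18849
def N19248 : Q := sm ge N18851
def N19249 : Q := sm gd N18852
def N19250 : Q := sm gf N18852
def N19251 : Q := sm gf N18853
def N19252 : Q := sm gg N18854
def N19253 : Q := sm gd N18856
def N19254 : Q := sm gf N18856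
def N19255 : Q := sm gf N18857
def N19256 : Q := sm gg N18858
def N19257 : Q := sm ge N18859
def N19258 : Q := sm gg N18859
def N19259 : Q := sm gg N18861
def N19260 : Q := sm gf N18863
def N19261 : Q := sm gg N18864
def N19262 : Q := sm gg N18865
def N19263 : Q := sm gg N18867
def N19264 : Q := sm gf N18869
def N19265 : Q := sm gg N18870
def N19266 : Q := sm gf N18872
def N19267 : Q := sm gg N18873
def N19268 : Q := sm ge N18875
def N19269 : Q := sm gg N18875
def N19270 : Q := sm ge N18877
def N19271 : Q := sm gg N18877
def N19272 : Q := sm gh N18877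
def N19273 : Q := sm gg N18880
def N19274 : Q := sm gg N18884
def N19275 : Q := sm gg N18885
def N19276 : Q := sm gf N18889
def N19277 : Q := sm gh N18889
def N19278 : Q := sm gg N18890
def N19279 : Q := sm gg N18891
def N19280 : Q := sm gh N18891
def N19281 : Q := sm gh N18894
def N19282 : Q := sm gg N18896
def N19283 : Q := sm gf N18901
def N19284 : Q := sm gg N18902
def N19285 : Q := sm gd N18904
def N19286 : Q := sm gf N18904
def N19287 : Q := sm gf N18905
def N19288 : Q := sm gg N18906
def N19289 : Q := sm ge N18908
def N19290 : Q := sm gg N18908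
def N19291 : Q := sm gh N18908
def N19292 : Q := sm gd N18911
def N19293 : Q := sm gf N18911
def N19294 : Q := sm gf N18912
def N19295 : Q := sm gg N18913
def N19296 : Q := sm gf N18915
def N19297 : Q := sm gf N18916
def N19298 : Q := sm gh N18916
def N19299 : Q := sm gg N18917
def N19300 : Q := sm gf N18919
def N19301 : Q := sm gg N18920
def N19302 : Q := sm gf N18924
def N19303 : Q := sm gg N18925
def N19304 : Q := sm gh N18930
def N19305 : Q := sm gf N18932
def N19306 : Q := sm gg N18933
def N19307 : Q := sm gf N18935
def N19308 : Q := sm gg N18936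
def N19309 : Q := sm gf N18938
def N19310 : Q := sm gg N18939
def N19311 : Q := sm ge N18940
def N19312 : Q := sm gg N18940
def N19313 : Q := sm gg N18951
def N19314 : Q := sm gf N18956
def N19315 : Q := sm gh N18956
def N19316 : Q := sm gg N18957
def N19317 : Q := sm gf N18959
def N19318 : Q := sm gg N18960
def N19319 : Q := sm ge N18961
def N19320 : Q := sm gg N18961
def N19321 : Q := sm gg N18964
def N19322 : Q := sm gh N18964
def N19323 : Q := sm gg N18967
def N19324 : Q := sm gf N18969
def N19325 : Q := sm gg N18970
def N19326 : Q := sm ge N18971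
def N19327 : Q := sm gg N18971
def N19328 : Q := sm gg N18975
def N19329 : Q := sm gf N18978
def N19330 : Q := sm gg N18979
def N19331 : Q := sm gd N18982
def N19332 : Q := sm gf N18982
def N19333 : Q := sm gf N18983
def N19334 : Q := sm gg N18984
def N19335 : Q := sm gc N18986
def N19336 : Q := sm gf N18986
def N19337 : Q := sm gg N18987
def N19338 : Q := sm ge N18988
def N19339 : Q := sm gg N18988
def N19340 : Q := sm gd N18990
def N19341 : Q := sm gf N18990
def N19342 : Q := sm gf N18991
def N19343 : Q := sm gh N18991
def N19344 : Q := sm gg N18992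
def N19345 : Q := sm ge N18993
def N19346 : Q := sm gg N18993
def N19347 : Q := sm gh N18993
def N19348 : Q := sm gf N18996
def N19349 : Q := sm gg N18997
def N19350 : Q := sm ge N18998
def N19351 : Q := sm gg N18998
def N19352 : Q := sm gg N19000
def N19353 : Q := sm ge N19004
def N19354 : Q := sm gg N19004
def N19355 : Q := sm gf N19006
def N19356 : Q := sm gg N19007
def N19357 : Q := sm ge N19008
def N19358 : Q := sm gg N19008
def N19359 : Q := sm gg N19012
def N19360 : Q := sm gg N19013
def N19361 : Q := sm gg N19015
def N19362 : Q := sm gf N19020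
def N19363 : Q := sm gg N19021
def N19364 : Q := sm ge N19023
def N19365 : Q := sm gg N19023
def N19366 : Q := sm gf N19025
def N19367 : Q := sm gg N19026
def N19368 : Q := sm gf N19028
def N19369 : Q := sm gg N19029
def N19370 : Q := sm gf N19031
def N19371 : Q := sm gg N19032
def N19372 : Q := sm ge N19034
def N19373 : Q := sm gg N19034
def N19374 : Q := sm gh N19034
def N19375 : Q := sm gi N19035
def N19376 : Q := sm gc N19037
def N19377 : Q := sm gf N19037
def N19378 : Q := sm gg N19038
def N19379 : Q := sm ge N19039
def N19380 : Q := sm gg N19039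
def N19381 : Q := sm gf N19041
def N19382 : Q := sm ge N19042
def N19383 : Q := sm gg N19042
def N19384 : Q := sm gg N19044
def N19385 : Q := sm gh N19047
def N19386 : Q := sm gi N19048
def N19387 : Q := sm gg N19050
def N19388 : Q := sm gc N19053
def N19389 : Q := sm gf N19053
def N19390 : Q := sm gh N19053
def N19391 : Q := sm gg N19054
def N19392 : Q := sm gf N19055
def N19393 : Q := sm gg N19056
def N19394 : Q := sm gh N19056
def N19395 : Q := sm gh N19059
def N19396 : Q := sm gf N19061
def N19397 : Q := sm gg N19062
def N19398 : Q := sm gg N19064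
def N19399 : Q := sm ge N19068
def N19400 : Q := sm gg N19068
def N19401 : Q := sm gf N19070
def N19402 : Q := sm gg N19071
def N19403 : Q := sm ge N19073
def N19404 : Q := sm gg N19073
def N19405 : Q := sm gf N19075
def N19406 : Q := sm gg N19076
def N19407 : Q := sm gf N19078
def N19408 : Q := sm gf N19079
def N19409 : Q := sm gg N19080
def N19410 : Q := sm ge N19081
def N19411 : Q := sm gg N19081
def N19412 : Q := sm gg N19083
def N19413 : Q := sm gf N19086
def N19414 : Q := sm gf N19087
def N19415 : Q := sm gg N19088
def N19416 : Q := sm gg N19089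
def N19417 : Q := sm gg N19091
def N19418 : Q := sm ge N19095
def N19419 : Q := sm gg N19095
def N19420 : Q := sm ge N19097
def N19421 : Q := sm gg N19097
def N19422 : Q := sm gi N19099
def N19423 : Q := sm gf N19101
def N19424 : Q := sm gh N19101
def N19425 : Q := sm gg N19102
def N19426 : Q := sm ge N19104
def N19427 : Q := sm gg N19104
def N19428 : Q := sm gf N19106
def N19429 : Q := sm gg N19107
def N19430 : Q := sm gf N19109
def N19431 : Q := sm gg N19110
def N19432 : Q := sm ge N19112
def N19433 : Q := sm gg N19112
def N19434 : Q := sm ge N19114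
def N19435 : Q := sm gg N19114
def N19436 : Q := sm gh N19114
def N19437 : Q := sm gg N19117
def N19438 : Q := sm ge N19121
def N19439 : Q := sm gg N19121
def N19440 : Q := sm ge N19123
def N19441 : Q := sm gg N19123
def N19442 : Q := sm gg N19125
def N19443 : Q := sm gg N19127
def N19444 : Q := sm ge N19131
def N19445 : Q := sm gd N19132
def N19446 : Q := sm gf N19132
def N19447 : Q := sm gf N19133
def N19448 : Q := sm gg N19134
def N19449 : Q := sm gf N19136
def N19450 : Q := sm gf N19137
def N19451 : Q := sm gg N19138
def N19452 : Q := sm ge N19139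
def N19453 : Q := sm gg N19139
def N19454 : Q := sm gg N19141
def N19455 : Q := sm gf N19144
def N19456 : Q := sm gg N19145
def N19457 : Q := sm gg N19147
def N19458 : Q := sm gg N19148
def N19459 : Q := sm gf N19150
def N19460 : Q := sm gg N19151
def N19461 : Q := sm gg N19153
def N19462 : Q := sm gd N19159
def N19463 : Q := sm gf N19159
def N19464 : Q := sm gf N19160
def N19465 : Q := sm gg N19161
def N19466 : Q := sm gf N19163
def N19467 : Q := sm gg N19164
def N19468 : Q := sm ge N19165
def N19469 : Q := sm gg N19165
def N19470 : Q := sm gf N19168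
def N19471 : Q := sm gg N19169
def N19472 : Q := sm ge N19172
def N19473 : Q := sm gg N19172
def N19474 : Q := sm ge N19174
def N19475 : Q := sm gg N19174
def N19476 : Q := sm gg N19176
def N19477 : Q := sm gg N19180
def N19478 : Q := sm gg N19184
def N19479 : Q := sm gd N19190
def N19480 : Q := sm gf N19190
def N19481 : Q := sm gf N19191
def N19482 : Q := sm gh N19191
def N19483 : Q := sm gg N19192
def N19484 : Q := sm ge N19193
def N19485 : Q := sm gg N19193
def N19486 : Q := sm gh N19193
def N19487 : Q := sm gg N19196
def N19488 : Q := sm gh N19196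
def N19489 : Q := sm gh N19197
def N19490 : Q := sm gi N19198
def N19491 : Q := sm gd N19200
def N19492 : Q := sm gf N19200
def N19493 : Q := sm gc N19201
def N19494 : Q := sm gf N19201
def N19495 : Q := sm gg N19202
def N19496 : Q := sm ge N19203
def N19497 : Q := sm gg N19203
def N19498 : Q := sm gf N19205
def N19499 : Q := sm gf N19206
def N19500 : Q := sm gg N19207
def N19501 : Q := sm gg N19208
def N19502 : Q := sm gg N19210
def N19503 : Q := sm gi N19212
def N19504 : Q := sm gc N19214
def N19505 : Q := sm gf N19214
def N19506 : Q := sm gg N19215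
def N19507 : Q := sm ge N19216
def N19508 : Q := sm gg N19216
def N19509 : Q := sm gf N19218
def N19510 : Q := sm ge N19219
def N19511 : Q := sm gg N19219
def N19512 : Q := sm gg N19221
def N19513 : Q := sm gf N19223
def N19514 : Q := sm gh N19223
def N19515 : Q := sm gg N19224
def N19516 : Q := sm ge N19225
def N19517 : Q := sm gg N19225
def N19518 : Q := sm gh N19225
def N19519 : Q := sm ge N19228
def N19520 : Q := sm gg N19228
def N19521 : Q := sm gg N19230
def N19522 : Q := sm gh N19230
def N19523 : Q := sm gh N19231
def N19524 : Q := sm gi N19232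
def N19525 : Q := sm gi N19234
def N19526 : Q := sm gd N19236
def N19527 : Q := sm gi N19236
def N19528 : Q := sm gi N19237
def N19529 : Q := sm gg N19242
def N19530 : Q := sm ge N19246
def N19531 : Q := sm gg N19246
def N19532 : Q := sm gf N19248
def N19533 : Q := sm gf N19249
def N19534 : Q := sm gg N19250
def N19535 : Q := sm ge N19251
def N19536 : Q := sm gg N19251
def N19537 : Q := sm gf N19253
def N19538 : Q := sm gg N19254
def N19539 : Q := sm ge N19255
def N19540 : Q := sm gg N19255
def N19541 : Q := sm gg N19257
def N19542 : Q := sm gg N19260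
def N19543 : Q := sm ge N19264
def N19544 : Q := sm gg N19264
def N19545 : Q := sm ge N19266
def N19546 : Q := sm gg N19266
def N19547 : Q := sm gg N19268
def N19548 : Q := sm gg N19270
def N19549 : Q := sm gh N19270
def N19550 : Q := sm gh N19271
def N19551 : Q := sm gf N19273
def N19552 : Q := sm gg N19276
def N19553 : Q := sm gh N19276
def N19554 : Q := sm gh N19279
def N19555 : Q := sm ge N19283
def N19556 : Q := sm gg N19283
def N19557 : Q := sm gf N19285
def N19558 : Q := sm gg N19286
def N19559 : Q := sm ge N19287
def N19560 : Q := sm gg N19287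
def N19561 : Q := sm gg N19289
def N19562 : Q := sm gh N19289
def N19563 : Q := sm gh N19290
def N19564 : Q := sm gf N19292
def N19565 : Q := sm gg N19293
def N19566 : Q := sm ge N19294
def N19567 : Q := sm gg N19294
def N19568 : Q := sm gg N19296
def N19569 : Q := sm gg N19297
def N19570 : Q := sm gh N19297
def N19571 : Q := sm gg N19300
def N19572 : Q := sm ge N19302
def N19573 : Q := sm gg N19302
def N19574 : Q := sm ge N19305
def N19575 : Q := sm gg N19305
def N19576 : Q := sm ge N19307
def N19577 : Q := sm gg N19307
def N19578 : Q := sm ge N19309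
def N19579 : Q := sm gg N19309
def N19580 : Q := sm gg N19311
def N19581 : Q := sm ge N19314
def N19582 : Q := sm gg N19314
def N19583 : Q := sm gh N19314
def N19584 : Q := sm ge N19317
def N19585 : Q := sm gg N19317
def N19586 : Q := sm gg N19319
def N19587 : Q := sm gh N19321
def N19588 : Q := sm ge N19324
def N19589 : Q := sm gg N19324
def N19590 : Q := sm gg N19326
def N19591 : Q := sm ge N19329
def N19592 : Q := sm gg N19329
def N19593 : Q := sm gf N19331
def N19594 : Q := sm gg N19332
def N19595 : Q := sm ge N19333
def N19596 : Q := sm gg N19333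
def N19597 : Q := sm gf N19335
def N19598 : Q := sm ge N19336
def N19599 : Q := sm gg N19336
def N19600 : Q := sm gg N19338
def N19601 : Q := sm gf N19340
def N19602 : Q := sm gg N19341
def N19603 : Q := sm ge N19342
def N19604 : Q := sm gg N19342
def N19605 : Q := sm gh N19342
def N19606 : Q := sm gg N19345
def N19607 : Q := sm gh N19345
def N19608 : Q := sm gh N19346
def N19609 : Q := sm ge N19348
def N19610 : Q := sm gg N19348
def N19611 : Q := sm gg N19350
def N19612 : Q := sm gf N19352
def N19613 : Q := sm gg N19353
def N19614 : Q := sm ge N19355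
def N19615 : Q := sm gg N19355
def N19616 : Q := sm gg N19357
def N19617 : Q := sm ge N19362
def N19618 : Q := sm gg N19362
def N19619 : Q := sm gg N19364
def N19620 : Q := sm ge N19366
def N19621 : Q := sm gg N19366
def N19622 : Q := sm ge N19368
def N19623 : Q := sm gg N19368
def N19624 : Q := sm ge N19370
def N19625 : Q := sm gg N19370
def N19626 : Q := sm gg N19372
def N19627 : Q := sm gh N19372
def N19628 : Q := sm gh N19373
def N19629 : Q := sm gi N19374
def N19630 : Q := sm gf N19376
def N19631 : Q := sm ge N19377
def N19632 : Q := sm gg N19377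
def N19633 : Q := sm gg N19379
def N19634 : Q := sm ge N19381
def N19635 : Q := sm gg N19381
def N19636 : Q := sm gg N19382
def N19637 : Q := sm gf N19384
def N19638 : Q := sm gi N19385
def N19639 : Q := sm gf N19388
def N19640 : Q := sm gg N19389
def N19641 : Q := sm gh N19389
def N19642 : Q := sm gg N19392
def N19643 : Q := sm gh N19393
def N19644 : Q := sm gg N19396
def N19645 : Q := sm gg N19399
def N19646 : Q := sm ge N19401
def N19647 : Q := sm gg N19401
def N19648 : Q := sm gg N19403
def N19649 : Q := sm ge N19405
def N19650 : Q := sm gg N19405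
def N19651 : Q := sm gg N19407
def N19652 : Q := sm ge N19408
def N19653 : Q := sm gg N19408
def N19654 : Q := sm gg N19410
def N19655 : Q := sm gf N19412
def N19656 : Q := sm gg N19413
def N19657 : Q := sm gg N19414
def N19658 : Q := sm gg N19418
def N19659 : Q := sm gg N19420
def N19660 : Q := sm ge N19423
def N19661 : Q := sm gg N19423
def N19662 : Q := sm gh N19423
def N19663 : Q := sm gg N19426
def N19664 : Q := sm ge N19428
def N19665 : Q := sm gg N19428
def N19666 : Q := sm ge N19430
def N19667 : Q := sm gg N19430
def N19668 : Q := sm gg N19432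
def N19669 : Q := sm gg N19434
def N19670 : Q := sm gh N19434
def N19671 : Q := sm gh N19435
def N19672 : Q := sm gf N19437
def N19673 : Q := sm gg N19438
def N19674 : Q := sm gg N19440
def N19675 : Q := sm gf N19442
def N19676 : Q := sm gf N19444
def N19677 : Q := sm gf N19445
def N19678 : Q := sm gg N19446
def N19679 : Q := sm ge N19447
def N19680 : Q := sm gg N19447
def N19681 : Q := sm gg N19449
def N19682 : Q := sm ge N19450
def N19683 : Q := sm gg N19450
def N19684 : Q := sm gg N19452
def N19685 : Q := sm gg N19455
def N19686 : Q := sm gg N19459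
def N19687 : Q := sm gf N19462
def N19688 : Q := sm gg N19463
def N19689 : Q := sm ge N19464
def N19690 : Q := sm gg N19464
def N19691 : Q := sm ge N19466
def N19692 : Q := sm gg N19466
def N19693 : Q := sm gg N19468
def N19694 : Q := sm ge N19470
def N19695 : Q := sm gg N19470
def N19696 : Q := sm gg N19472
def N19697 : Q := sm gg N19474
def N19698 : Q := sm gf N19476
def N19699 : Q := sm gf N19479
def N19700 : Q := sm gg N19480
def N19701 : Q := sm ge N19481
def N19702 : Q := sm gg N19481
def N19703 : Q := sm gh N19481
def N19704 : Q := sm gg N19484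
def N19705 : Q := sm gh N19484
def N19706 : Q := sm gh N19485
def N19707 : Q := sm gf N19487
def N19708 : Q := sm gh N19487
def N19709 : Q := sm gi N19488
def N19710 : Q := sm gi N19489
def N19711 : Q := sm gf N19491
def N19712 : Q := sm gg N19492
def N19713 : Q := sm gf N19493
def N19714 : Q := sm ge N19494
def N19715 : Q := sm gg N19494
def N19716 : Q := sm gg N19496
def N19717 : Q := sm gg N19498
def N19718 : Q := sm gg N19499
def N19719 : Q := sm gf N19504
def N19720 : Q := sm ge N19505
def N19721 : Q := sm gg N19505
def N19722 : Q := sm gg N19507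
def N19723 : Q := sm ge N19509
def N19724 : Q := sm gg N19509
def N19725 : Q := sm gg N19510
def N19726 : Q := sm gf N19512
def N19727 : Q := sm ge N19513
def N19728 : Q := sm gg N19513
def N19729 : Q := sm gh N19513
def N19730 : Q := sm gg N19516
def N19731 : Q := sm gh N19516
def N19732 : Q := sm gh N19517
def N19733 : Q := sm gg N19519
def N19734 : Q := sm gf N19521
def N19735 : Q := sm gh N19521
def N19736 : Q := sm gi N19522
def N19737 : Q := sm gi N19523
def N19738 : Q := sm gi N19526
def N19739 : Q := sm gg N19530
def N19740 : Q := sm gg N19532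
def N19741 : Q := sm ge N19533
def N19742 : Q := sm gg N19533
def N19743 : Q := sm gg N19535
def N19744 : Q := sm ge N19537
def N19745 : Q := sm gg N19537
def N19746 : Q := sm gg N19539
def N19747 : Q := sm gf N19541
def N19748 : Q := sm gg N19543
def N19749 : Q := sm gg N19545
def N19750 : Q := sm gf N19547
def N19751 : Q := sm gf N19548
def N19752 : Q := sm gh N19548
def N19753 : Q := sm gh N19552
def N19754 : Q := sm gg N19555
def N19755 : Q := sm ge N19557
def N19756 : Q := sm gg N19557
def N19757 : Q := sm gg N19559
def N19758 : Q := sm gf N19561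
def N19759 : Q := sm gh N19561
def N19760 : Q := sm ge N19564
def N19761 : Q := sm gg N19564
def N19762 : Q := sm gg N19566
def N19763 : Q := sm gh N19569
def N19764 : Q := sm gg N19572
def N19765 : Q := sm gg N19574
def N19766 : Q := sm gg N19576
def N19767 : Q := sm gg N19578
def N19768 : Q := sm gf N19580
def N19769 : Q := sm gg N19581
def N19770 : Q := sm gh N19581
def N19771 : Q := sm gh N19582
def N19772 : Q := sm gg N19584
def N19773 : Q := sm gf N19586
def N19774 : Q := sm gg N19588
def N19775 : Q := sm gf N19590
def N19776 : Q := sm gg N19591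
def N19777 : Q := sm ge N19593
def N19778 : Q := sm gg N19593
def N19779 : Q := sm gg N19595
def N19780 : Q := sm ge N19597
def N19781 : Q := sm gg N19597
def N19782 : Q := sm gg N19598
def N19783 : Q := sm gf N19600
def N19784 : Q := sm ge N19601
def N19785 : Q := sm gg N19601
def N19786 : Q := sm gg N19603
def N19787 : Q := sm gh N19603
def N19788 : Q := sm gh N19604
def N19789 : Q := sm gf N19606
def N19790 : Q := sm gh N19606
def N19791 : Q := sm gg N19609
def N19792 : Q := sm gf N19611
def N19793 : Q := sm gf N19613
def N19794 : Q := sm gg N19614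
def N19795 : Q := sm gf N19616
def N19796 : Q := sm gg N19617
def N19797 : Q := sm gf N19619
def N19798 : Q := sm gg N19620
def N19799 : Q := sm gg N19622
def N19800 : Q := sm gg N19624
def N19801 : Q := sm gf N19626
def N19802 : Q := sm gh N19626
def N19803 : Q := sm gi N19627
def N19804 : Q := sm gi N19628
def N19805 : Q := sm ge N19630
def N19806 : Q := sm gg N19630
def N19807 : Q := sm gg N19631
def N19808 : Q := sm gf N19633
def N19809 : Q := sm gg N19634
def N19810 : Q := sm gf N19636
def N19811 : Q := sm gg N19639
def N19812 : Q := sm gh N19640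
def N19813 : Q := sm gf N19645
def N19814 : Q := sm gg N19646
def N19815 : Q := sm gf N19648
def N19816 : Q := sm gg N19649
def N19817 : Q := sm gg N19652
def N19818 : Q := sm gf N19654
def N19819 : Q := sm gf N19658
def N19820 : Q := sm gf N19659
def N19821 : Q := sm gg N19660
def N19822 : Q := sm gh N19660
def N19823 : Q := sm gh N19661
def N19824 : Q := sm gf N19663
def N19825 : Q := sm gg N19664
def N19826 : Q := sm gg N19666
def N19827 : Q := sm gf N19668
def N19828 : Q := sm gf N19669
def N19829 : Q := sm gh N19669
def N19830 : Q := sm gf N19673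
def N19831 : Q := sm gf N19674
def N19832 : Q := sm gg N19676
def N19833 : Q := sm ge N19677
def N19834 : Q := sm gg N19677
def N19835 : Q := sm gg N19679
def N19836 : Q := sm gg N19682
def N19837 : Q := sm gf N19684
def N19838 : Q := sm ge N19687
def N19839 : Q := sm gg N19687
def N19840 : Q := sm gg N19689
def N19841 : Q := sm gg N19691
def N19842 : Q := sm gf N19693
def N19843 : Q := sm gg N19694
def N19844 : Q := sm gf N19696
def N19845 : Q := sm gf N19697
def N19846 : Q := sm ge N19699
def N19847 : Q := sm gg N19699
def N19848 : Q := sm gg N19701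
def N19849 : Q := sm gh N19701
def N19850 : Q := sm gh N19702
def N19851 : Q := sm gf N19704
def N19852 : Q := sm gh N19704
def N19853 : Q := sm gh N19707
def N19854 : Q := sm gi N19708
def N19855 : Q := sm ge N19711
def N19856 : Q := sm gg N19711
def N19857 : Q := sm ge N19713
def N19858 : Q := sm gg N19713
def N19859 : Q := sm gg N19714
def N19860 : Q := sm gf N19716
def N19861 : Q := sm ge N19719
def N19862 : Q := sm gg N19719
def N19863 : Q := sm gg N19720
def N19864 : Q := sm gf N19722
def N19865 : Q := sm gg N19723
def N19866 : Q := sm gf N19725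
def N19867 : Q := sm gg N19727
def N19868 : Q := sm gh N19727
def N19869 : Q := sm gh N19728
def N19870 : Q := sm gf N19730
def N19871 : Q := sm gh N19730
def N19872 : Q := sm gf N19733
def N19873 : Q := sm gh N19734
def N19874 : Q := sm gi N19735
def N19875 : Q := sm gf N19739
def N19876 : Q := sm gg N19741
def N19877 : Q := sm gf N19743
def N19878 : Q := sm gg N19744
def N19879 : Q := sm gf N19746
def N19880 : Q := sm gf N19748
def N19881 : Q := sm gf N19749
def N19882 : Q := sm gh N19751
def N19883 : Q := sm gf N19754
def N19884 : Q := sm gg N19755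
def N19885 : Q := sm gf N19757
def N19886 : Q := sm gh N19758
def N19887 : Q := sm gg N19760
def N19888 : Q := sm gf N19762
def N19889 : Q := sm gf N19764
def N19890 : Q := sm gf N19765
def N19891 : Q := sm gf N19766
def N19892 : Q := sm gf N19767
def N19893 : Q := sm gf N19769
def N19894 : Q := sm gh N19769
def N19895 : Q := sm gf N19772
def N19896 : Q := sm gf N19774
def N19897 : Q := sm gf N19776
def N19898 : Q := sm gg N19777
def N19899 : Q := sm gf N19779
def N19900 : Q := sm gg N19780
def N19901 : Q := sm gf N19782
def N19902 : Q := sm gg N19784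
def N19903 : Q := sm gf N19786
def N19904 : Q := sm gh N19786
def N19905 : Q := sm gh N19789
def N19906 : Q := sm gf N19791
def N19907 : Q := sm gf N19794
def N19908 : Q := sm gf N19796
def N19909 : Q := sm gf N19798
def N19910 : Q := sm gf N19799
def N19911 : Q := sm gf N19800
def N19912 : Q := sm gh N19801
def N19913 : Q := sm gi N19802
def N19914 : Q := sm gg N19805
def N19915 : Q := sm gf N19807
def N19916 : Q := sm gf N19809
def N19917 : Q := sm gf N19814
def N19918 : Q := sm gf N19816
def N19919 : Q := sm gf N19817
def N19920 : Q := sm gf N19821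
def N19921 : Q := sm gh N19821
def N19922 : Q := sm gf N19825
def N19923 : Q := sm gf N19826
def N19924 : Q := sm gh N19828
def N19925 : Q := sm gg N19833
def N19926 : Q := sm gf N19835
def N19927 : Q := sm gf N19836
def N19928 : Q := sm gg N19838
def N19929 : Q := sm gf N19840
def N19930 : Q := sm gf N19841
def N19931 : Q := sm gf N19843
def N19932 : Q := sm gg N19846
def N19933 : Q := sm gf N19848
def N19934 : Q := sm gh N19848
def N19935 : Q := sm gh N19851
def N19936 : Q := sm gi N19853
def N19937 : Q := sm gg N19855
def N19938 : Q := sm gg N19857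
def N19939 : Q := sm gf N19859
def N19940 : Q := sm gg N19861
def N19941 : Q := sm gf N19863
def N19942 : Q := sm gf N19865
def N19943 : Q := sm gf N19867
def N19944 : Q := sm gh N19867
def N19945 : Q := sm gh N19870
def N19946 : Q := sm gi N19873
def N19947 : Q := sm gf N19876
def N19948 : Q := sm gf N19878
def N19949 : Q := sm gf N19884
def N19950 : Q := sm gf N19887
def N19951 : Q := sm gh N19893
def N19952 : Q := sm gf N19898
def N19953 : Q := sm gf N19900
def N19954 : Q := sm gf N19902
def N19955 : Q := sm gh N19903
def N19956 : Q := sm gi N19912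
def N19957 : Q := sm gf N19914
def N19958 : Q := sm gh N19920
def N19959 : Q := sm gf N19925
def N19960 : Q := sm gf N19928
def N19961 : Q := sm gf N19932
def N19962 : Q := sm gh N19933
def N19963 : Q := sm gf N19937
def N19964 : Q := sm gf N19938
def N19965 : Q := sm gf N19940
def N19966 : Q := sm gh N19943
theorem L0 : sm gb N0 = N0 := sded_0_0
theorem L1 : sm gc N0 = N0 := sded_1_0
theorem L2 : sm gd N0 = N0 := sded_2_0
theorem L3 : sm ge N0 = N0 := sded_3_0
theorem L4 : sm gf N0 = N0 := sded_4_0
theorem L5 : sm gg N0 = N0 := sded_5_0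
theorem L6 : sm gh N0 = N0 := sded_6_0
theorem L7 : sm gi N0 = N0 := sded_7_0
theorem L8 : sm ga N0 = N1 := rfl
theorem L10 : sm gc N1 = N1 := ded_10_2 (flp_a L8) L1 L8
theorem L11 : sm gd N1 = N1 := ded_11_2 (flp_a L8) L2 L8
theorem L12 : sm ge N1 = N1 := ded_12_2 (flp_a L8) L3 L8
theorem L13 : sm gf N1 = N1 := ded_13_2 (flp_a L8) L4 L8
theorem L14 : sm gg N1 = N1 := ded_14_2 (flp_a L8) L5 L8
theorem L15 : sm gh N1 = N1 := ded_15_2 (flp_a L8) L6 L8
theorem L16 : sm gi N1 = N1 := ded_16_2 (flp_a L8) L7 L8
theorem L17 : sm gb N1 = N2 := rfl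
theorem L19 : sm gd N2 = N2 := ded_18_2 (flp_b L17) L11 L17
theorem L20 : sm ge N2 = N2 := ded_19_2 (flp_b L17) L12 L17
theorem L21 : sm gf N2 = N2 := ded_20_2 (flp_b L17) L13 L17
theorem L22 : sm gg N2 = N2 := ded_21_2 (flp_b L17) L14 L17
theorem L23 : sm gh N2 = N2 := ded_22_2 (flp_b L17) L15 L17
theorem L24 : sm gi N2 = N2 := ded_23_2 (flp_b L17) L16 L17
theorem L25 : sm ga N2 = N2 := ded_9_1 (flp_b L17) (flp_a L8) L0 L8 L17
theorem L26 : sm gc N2 = N3 := rfl
theorem L28 : sm ga N3 = N3 := ded_10_1 (flp_c L26) L25 L26
theorem L29 : sm ge N3 = N3 := ded_25_2 (flp_c L26) L20 L26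
theorem L30 : sm gf N3 = N3 := ded_26_2 (flp_c L26) L21 L26
theorem L31 : sm gg N3 = N3 := ded_27_2 (flp_c L26) L22 L26
theorem L32 : sm gh N3 = N3 := ded_28_2 (flp_c L26) L23 L26
theorem L33 : sm gi N3 = N3 := ded_29_2 (flp_c L26) L24 L26
theorem L34 : sm gb N3 = N3 := ded_17_1 (flp_c L26) (flp_b L17) L10 L17 L26
theorem L35 : sm gd N3 = N4 := rfl
theorem L37 : sm ga N4 = N4 := ded_11_1 (flp_d L35) L28 L35
theorem L38 : sm gb N4 = N4 := ded_18_1 (flp_d L35) L34 L35
theorem L39 : sm gf N4 = N4 := ded_31_2 (flp_d L35) L30 L35
theorem L40 : sm gg N4 = N4 := ded_32_2 (flp_d L35) L31 L35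
theorem L41 : sm gi N4 = N4 := ded_34_2 (flp_d L35) L33 L35
theorem L42 : sm gc N4 = N4 := ded_24_1 (flp_d L35) (flp_c L26) L19 L26 L35
theorem L43 : sm ge N4 = N5 := rfl
theorem L45 : sm ga N5 = N5 := ded_12_1 (flp_e L43) L37 L43
theorem L46 : sm gb N5 = N5 := ded_19_1 (flp_e L43) L38 L43
theorem L47 : sm gc N5 = N5 := ded_25_1 (flp_e L43) L42 L43
theorem L48 : sm gg N5 = N5 := ded_36_2 (flp_e L43) L40 L43
theorem L49 : sm gi N5 = N5 := ded_38_2 (flp_e L43) L41 L43
theorem L50 : sm gd N5 = N5 := ded_30_1 (flp_e L43) (flp_d L35) L29 L35 L43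
theorem L51 : sm gh N4 = N6 := rfl
theorem L53 : sm ga N6 = N6 := ded_15_1 (flp_h L51) L37 L51
theorem L54 : sm gb N6 = N6 := ded_22_1 (flp_h L51) L38 L51
theorem L55 : sm gc N6 = N6 := ded_28_1 (flp_h L51) L42 L51
theorem L56 : sm gf N6 = N6 := ded_40_1 (flp_h L51) L39 L51
theorem L57 : sm gg N6 = N6 := ded_42_1 (flp_h L51) L40 L51
theorem L58 : sm gd N6 = N6 := ded_33_1 (flp_h L51) (flp_d L35) L32 L35 L51
theorem L59 : sm gf N5 = N7 := rfl
theorem L61 : sm ga N7 = N7 := ded_13_1 (flp_f L59) L45 L59
theorem L62 : sm gb N7 = N7 := ded_20_1 (flp_f L59) L46 L59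
theorem L63 : sm gc N7 = N7 := ded_26_1 (flp_f L59) L47 L59
theorem L64 : sm gd N7 = N7 := ded_31_1 (flp_f L59) L50 L59
theorem L65 : sm gi N7 = N7 := ded_41_2 (flp_f L59) L49 L59
theorem L66 : sm ge N7 = N7 := ded_35_1 (flp_f L59) (flp_e L43) L39 L43 L59
theorem L67 : sm gh N5 = N8 := rfl
theorem L69 : sm ga N8 = N8 := ded_15_1 (flp_h L67) L45 L67
theorem L70 : sm gb N8 = N8 := ded_22_1 (flp_h L67) L46 L67
theorem L71 : sm gc N8 = N8 := ded_28_1 (flp_h L67) L47 L67
theorem L72 : sm ge N8 = N6 := ded_37_1 (flp_h L51) L43 L67
theorem L74 : sm gg N8 = N8 := ded_42_1 (flp_h L67) L48 L67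
theorem L75 : sm gi N6 = N9 := rfl
theorem L77 : sm ga N9 = N9 := ded_16_1 (flp_i L75) L53 L75
theorem L78 : sm gb N9 = N9 := ded_23_1 (flp_i L75) L54 L75
theorem L79 : sm gc N9 = N9 := ded_29_1 (flp_i L75) L55 L75
theorem L80 : sm gd N9 = N9 := ded_34_1 (flp_i L75) L58 L75
theorem L81 : sm gf N9 = N9 := ded_41_1 (flp_i L75) L56 L75
theorem L82 : sm gg N9 = N9 := ded_43_1 (flp_i L75) L57 L75
theorem L83 : sm gh N9 = N9 := ded_44_1 (flp_i L75) (flp_h L51) L41 L51 L75
theorem L84 : sm gg N7 = N10 := rfl
theorem L86 : sm ga N10 = N10 := ded_14_1 (flp_g L84) L61 L84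
theorem L87 : sm gb N10 = N10 := ded_21_1 (flp_g L84) L62 L84
theorem L88 : sm gc N10 = N10 := ded_27_1 (flp_g L84) L63 L84
theorem L89 : sm gd N10 = N10 := ded_32_1 (flp_g L84) L64 L84
theorem L90 : sm ge N10 = N10 := ded_36_1 (flp_g L84) L66 L84
theorem L91 : sm gi N10 = N10 := ded_43_2 (flp_g L84) L65 L84
theorem L92 : sm gf N10 = N10 := ded_39_1 (flp_g L84) (flp_f L59) L48 L59 L84
theorem L93 : sm gh N7 = N11 := rfl
theorem L95 : sm ga N11 = N11 := ded_15_1 (flp_h L93) L61 L93
theorem L96 : sm gb N11 = N11 := ded_22_1 (flp_h L93) L62 L93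
theorem L97 : sm gc N11 = N11 := ded_28_1 (flp_h L93) L63 L93
theorem L98 : sm ge N11 = N11 := ded_37_1 (flp_h L93) L66 L93
theorem L99 : sm gf N11 = N8 := ded_40_1 (flp_h L67) L59 L93
theorem L101 : sm gd N8 = N12 := rfl
theorem L103 : sm ga N12 = N12 := ded_11_1 (flp_d L101) L69 L101
theorem L104 : sm gb N12 = N12 := ded_18_1 (flp_d L101) L70 L101
theorem L105 : sm gg N12 = N12 := ded_32_2 (flp_d L101) L74 L101
theorem L106 : sm ge N12 = N12 := ded_30_2 (flp_d L101) L72 L58 (flp_e L72) L101
theorem L107 : sm gh N12 = N12 := ded_33_2 (flp_d L101) (flp_h L67) L50 L67 L101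
theorem L108 : sm gi N8 = N13 := rfl
theorem L110 : sm ga N13 = N13 := ded_16_1 (flp_i L108) L69 L108
theorem L111 : sm gb N13 = N13 := ded_23_1 (flp_i L108) L70 L108
theorem L112 : sm gc N13 = N13 := ded_29_1 (flp_i L108) L71 L108
theorem L113 : sm ge N13 = N9 := ded_38_1 (flp_i L75) (flp_e L72) L108
theorem L115 : sm gg N13 = N13 := ded_43_1 (flp_i L108) L74 L108
theorem L116 : sm gh N13 = N13 := ded_44_1 (flp_i L108) (flp_h L67) L49 L67 L108
theorem L117 : sm gh N10 = N14 := rfl
theorem L119 : sm ga N14 = N14 := ded_15_1 (flp_h L117) L86 L117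
theorem L120 : sm gb N14 = N14 := ded_22_1 (flp_h L117) L87 L117
theorem L121 : sm gc N14 = N14 := ded_28_1 (flp_h L117) L88 L117
theorem L122 : sm ge N14 = N14 := ded_37_1 (flp_h L117) L90 L117
theorem L123 : sm gf N14 = N14 := ded_40_1 (flp_h L117) L92 L117
theorem L124 : sm gg N14 = N11 := ded_42_1 (flp_h L93) L84 L117
theorem L126 : sm gd N11 = N15 := rfl
theorem L128 : sm ga N15 = N15 := ded_11_1 (flp_d L126) L95 L126
theorem L129 : sm gb N15 = N15 := ded_18_1 (flp_d L126) L96 L126
theorem L130 : sm gf N15 = N12 := ded_31_2 (flp_d L101) (flp_f L99) L126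
theorem L132 : sm gh N15 = N15 := ded_33_2 (flp_d L126) (flp_h L93) L64 L93 L126
theorem L133 : sm gi N11 = N16 := rfl
theorem L135 : sm ga N16 = N16 := ded_16_1 (flp_i L133) L95 L133
theorem L136 : sm gb N16 = N16 := ded_23_1 (flp_i L133) L96 L133
theorem L137 : sm gc N16 = N16 := ded_29_1 (flp_i L133) L97 L133
theorem L138 : sm ge N16 = N16 := ded_38_1 (flp_i L133) L98 L133
theorem L139 : sm gf N16 = N13 := ded_41_1 (flp_i L108) (flp_f L99) L133
theorem L141 : sm gh N16 = N16 := ded_44_1 (flp_i L133) (flp_h L93) L65 L93 L133
theorem L142 : sm gc N12 = N17 := rfl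
theorem L144 : sm ga N17 = N17 := ded_10_1 (flp_c L142) L103 L142
theorem L145 : sm ge N17 = N17 := ded_25_2 (flp_c L142) L106 L142
theorem L146 : sm gg N17 = N17 := ded_27_2 (flp_c L142) L105 L142
theorem L147 : sm gh N17 = N17 := ded_28_2 (flp_c L142) L107 L142
theorem L148 : sm gd N17 = N17 := ded_24_2 (flp_c L142) (flp_d L101) L71 L101 L142
theorem L149 : sm gi N12 = N18 := rfl
theorem L151 : sm ga N18 = N18 := ded_16_1 (flp_i L149) L103 L149
theorem L152 : sm gb N18 = N18 := ded_23_1 (flp_i L149) L104 L149
theorem L153 : sm gd N18 = N13 := ded_34_1 (flp_i L108) L101 L149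
theorem L155 : sm ge N18 = N18 := ded_38_1 (flp_i L149) L106 L149
theorem L156 : sm gg N18 = N18 := ded_43_1 (flp_i L149) L105 L149
theorem L157 : sm gd N14 = N19 := rfl
theorem L159 : sm ga N19 = N19 := ded_11_1 (flp_d L157) L119 L157
theorem L160 : sm gb N19 = N19 := ded_18_1 (flp_d L157) L120 L157
theorem L161 : sm gf N19 = N19 := ded_31_2 (flp_d L157) L123 L157
theorem L162 : sm gg N19 = N15 := ded_32_2 (flp_d L126) (flp_g L124) L157
theorem L164 : sm gh N19 = N19 := ded_33_2 (flp_d L157) (flp_h L117) L89 L117 L157
theorem L165 : sm gi N14 = N20 := rfl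
theorem L167 : sm ga N20 = N20 := ded_16_1 (flp_i L165) L119 L165
theorem L168 : sm gb N20 = N20 := ded_23_1 (flp_i L165) L120 L165
theorem L169 : sm gc N20 = N20 := ded_29_1 (flp_i L165) L121 L165
theorem L170 : sm ge N20 = N20 := ded_38_1 (flp_i L165) L122 L165
theorem L171 : sm gf N20 = N20 := ded_41_1 (flp_i L165) L123 L165
theorem L172 : sm gg N20 = N16 := ded_43_1 (flp_i L133) (flp_g L124) L165
theorem L174 : sm gh N20 = N20 := ded_44_1 (flp_i L165) (flp_h L117) L91 L117 L165
theorem L175 : sm gc N15 = N21 := rfl
theorem L177 : sm ga N21 = N21 := ded_10_1 (flp_c L175) L128 L175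
theorem L178 : sm gf N21 = N17 := ded_26_2 (flp_c L142) (flp_f L130) L175
theorem L180 : sm gh N21 = N21 := ded_28_2 (flp_c L175) L132 L175
theorem L181 : sm gd N21 = N21 := ded_24_2 (flp_c L175) (flp_d L126) L97 L126 L175
theorem L182 : sm ge N15 = N22 := rfl
theorem L184 : sm ga N22 = N22 := ded_12_1 (flp_e L182) L128 L182
theorem L185 : sm gb N22 = N22 := ded_19_1 (flp_e L182) L129 L182
theorem L186 : sm gh N22 = N22 := ded_37_2 (flp_e L182) L132 L182
theorem L187 : sm gd N22 = N22 := ded_30_1 (flp_e L182) (flp_d L126) L98 L126 L182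
theorem L188 : sm gf N22 = N22 := ded_35_2 (flp_e L182) L130 L106 (flp_f L130) L182
theorem L189 : sm gi N15 = N23 := rfl
theorem L191 : sm ga N23 = N23 := ded_16_1 (flp_i L189) L128 L189
theorem L192 : sm gb N23 = N23 := ded_23_1 (flp_i L189) L129 L189
theorem L193 : sm gd N23 = N16 := ded_34_1 (flp_i L133) L126 L189
theorem L195 : sm gf N23 = N18 := ded_41_1 (flp_i L149) (flp_f L130) L189
theorem L197 : sm gb N17 = N24 := rfl
theorem L199 : sm gd N24 = N24 := ded_18_2 (flp_b L197) L148 L197
theorem L200 : sm ge N24 = N24 := ded_19_2 (flp_b L197) L145 L197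
theorem L201 : sm gg N24 = N24 := ded_21_2 (flp_b L197) L146 L197
theorem L202 : sm gh N24 = N24 := ded_22_2 (flp_b L197) L147 L197
theorem L203 : sm gc N24 = N24 := ded_17_2 (flp_b L197) (flp_c L142) L104 L142 L197
theorem L204 : sm gi N17 = N25 := rfl
theorem L206 : sm ga N25 = N25 := ded_16_1 (flp_i L204) L144 L204
theorem L207 : sm gc N25 = N18 := ded_29_1 (flp_i L149) L142 L204
theorem L209 : sm gd N25 = N25 := ded_34_1 (flp_i L204) L148 L204
theorem L210 : sm ge N25 = N25 := ded_38_1 (flp_i L204) L145 L204
theorem L211 : sm gg N25 = N25 := ded_43_1 (flp_i L204) L146 L204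
theorem L212 : sm gh N18 = N26 := rfl
theorem L214 : sm ga N26 = N26 := ded_15_1 (flp_h L212) L151 L212
theorem L215 : sm gb N26 = N26 := ded_22_1 (flp_h L212) L152 L212
theorem L216 : sm ge N26 = N26 := ded_37_1 (flp_h L212) L155 L212
theorem L217 : sm gg N26 = N26 := ded_42_1 (flp_h L212) L156 L212
theorem L218 : sm gd N26 = N26 := ded_33_1 (flp_h L212) L153 L116 (flp_d L153) L212
theorem L219 : sm gi N26 = N26 := ded_44_2 (flp_h L212) (flp_i L149) L107 L149 L212
theorem L220 : sm gc N19 = N27 := rfl
theorem L222 : sm ga N27 = N27 := ded_10_1 (flp_c L220) L159 L220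
theorem L223 : sm gf N27 = N27 := ded_26_2 (flp_c L220) L161 L220
theorem L224 : sm gg N27 = N21 := ded_27_2 (flp_c L175) (flp_g L162) L220
theorem L226 : sm gh N27 = N27 := ded_28_2 (flp_c L220) L164 L220
theorem L227 : sm gd N27 = N27 := ded_24_2 (flp_c L220) (flp_d L157) L121 L157 L220
theorem L228 : sm ge N19 = N28 := rfl
theorem L230 : sm ga N28 = N28 := ded_12_1 (flp_e L228) L159 L228
theorem L231 : sm gb N28 = N28 := ded_19_1 (flp_e L228) L160 L228
theorem L232 : sm gg N28 = N22 := ded_36_2 (flp_e L182) (flp_g L162) L228
theorem L234 : sm gh N28 = N28 := ded_37_2 (flp_e L228) L164 L228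
theorem L235 : sm gd N28 = N28 := ded_30_1 (flp_e L228) (flp_d L157) L122 L157 L228
theorem L236 : sm gi N19 = N29 := rfl
theorem L238 : sm ga N29 = N29 := ded_16_1 (flp_i L236) L159 L236
theorem L239 : sm gb N29 = N29 := ded_23_1 (flp_i L236) L160 L236
theorem L240 : sm gd N29 = N20 := ded_34_1 (flp_i L165) L157 L236
theorem L242 : sm gf N29 = N29 := ded_41_1 (flp_i L236) L161 L236
theorem L243 : sm gg N29 = N23 := ded_43_1 (flp_i L189) (flp_g L162) L236
theorem L245 : sm gb N21 = N30 := rfl
theorem L247 : sm gd N30 = N30 := ded_18_2 (flp_b L245) L181 L245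
theorem L248 : sm gf N30 = N24 := ded_20_2 (flp_b L197) (flp_f L178) L245
theorem L250 : sm gh N30 = N30 := ded_22_2 (flp_b L245) L180 L245
theorem L251 : sm gc N30 = N30 := ded_17_2 (flp_b L245) (flp_c L175) L129 L175 L245
theorem L252 : sm ge N21 = N31 := rfl
theorem L254 : sm ga N31 = N31 := ded_12_1 (flp_e L252) L177 L252
theorem L255 : sm gc N31 = N22 := ded_25_1 (flp_e L182) L175 L252
theorem L257 : sm gh N31 = N31 := ded_37_2 (flp_e L252) L180 L252
theorem L258 : sm gf N31 = N31 := ded_35_2 (flp_e L252) L178 L145 (flp_f L178) L252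
theorem L259 : sm gi N21 = N32 := rfl
theorem L261 : sm ga N32 = N32 := ded_16_1 (flp_i L259) L177 L259
theorem L262 : sm gc N32 = N23 := ded_29_1 (flp_i L189) L175 L259
theorem L264 : sm gd N32 = N32 := ded_34_1 (flp_i L259) L181 L259
theorem L265 : sm gf N32 = N25 := ded_41_1 (flp_i L204) (flp_f L178) L259
theorem L267 : sm gi N22 = N33 := rfl
theorem L269 : sm ga N33 = N33 := ded_16_1 (flp_i L267) L184 L267
theorem L270 : sm gb N33 = N33 := ded_23_1 (flp_i L267) L185 L267
theorem L271 : sm gd N33 = N33 := ded_34_1 (flp_i L267) L187 L267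
theorem L272 : sm ge N33 = N23 := ded_38_1 (flp_i L189) L182 L267
theorem L274 : sm gf N33 = N33 := ded_41_1 (flp_i L267) L188 L267
theorem L275 : sm gh N23 = N34 := rfl
theorem L277 : sm ga N34 = N34 := ded_15_1 (flp_h L275) L191 L275
theorem L278 : sm gb N34 = N34 := ded_22_1 (flp_h L275) L192 L275
theorem L279 : sm gf N34 = N26 := ded_40_1 (flp_h L212) (flp_f L195) L275
theorem L281 : sm gd N34 = N34 := ded_33_1 (flp_h L275) L193 L141 (flp_d L193) L275
theorem L282 : sm gi N34 = N34 := ded_44_2 (flp_h L275) (flp_i L189) L132 L189 L275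
theorem L283 : sm ga N24 = N35 := rfl
theorem L285 : sm gc N35 = N35 := ded_10_2 (flp_a L283) L203 L283
theorem L286 : sm gd N35 = N35 := ded_11_2 (flp_a L283) L199 L283
theorem L287 : sm ge N35 = N35 := ded_12_2 (flp_a L283) L200 L283
theorem L288 : sm gg N35 = N35 := ded_14_2 (flp_a L283) L201 L283
theorem L289 : sm gh N35 = N35 := ded_15_2 (flp_a L283) L202 L283
theorem L290 : sm gb N35 = N35 := ded_9_2 (flp_a L283) (flp_b L197) L144 L197 L283
theorem L291 : sm gi N24 = N36 := rfl
theorem L293 : sm gb N36 = N25 := ded_23_1 (flp_i L204) L197 L291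
theorem L295 : sm gc N36 = N36 := ded_29_1 (flp_i L291) L203 L291
theorem L296 : sm gd N36 = N36 := ded_34_1 (flp_i L291) L199 L291
theorem L297 : sm ge N36 = N36 := ded_38_1 (flp_i L291) L200 L291
theorem L298 : sm gg N36 = N36 := ded_43_1 (flp_i L291) L201 L291
theorem L299 : sm gh N25 = N37 := rfl
theorem L301 : sm ga N37 = N37 := ded_15_1 (flp_h L299) L206 L299
theorem L302 : sm gc N37 = N26 := ded_28_1 (flp_h L212) (flp_c L207) L299
theorem L304 : sm ge N37 = N37 := ded_37_1 (flp_h L299) L210 L299
theorem L305 : sm gg N37 = N37 := ded_42_1 (flp_h L299) L211 L299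
theorem L306 : sm gi N37 = N37 := ded_44_2 (flp_h L299) (flp_i L204) L147 L204 L299
theorem L307 : sm gb N27 = N38 := rfl
theorem L309 : sm gd N38 = N38 := ded_18_2 (flp_b L307) L227 L307
theorem L310 : sm gf N38 = N38 := ded_20_2 (flp_b L307) L223 L307
theorem L311 : sm gg N38 = N30 := ded_21_2 (flp_b L245) (flp_g L224) L307
theorem L313 : sm gh N38 = N38 := ded_22_2 (flp_b L307) L226 L307
theorem L314 : sm gc N38 = N38 := ded_17_2 (flp_b L307) (flp_c L220) L160 L220 L307
theorem L315 : sm ge N27 = N39 := rfl
theorem L317 : sm ga N39 = N39 := ded_12_1 (flp_e L315) L222 L315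
theorem L318 : sm gc N39 = N28 := ded_25_1 (flp_e L228) L220 L315
theorem L320 : sm gg N39 = N31 := ded_36_2 (flp_e L252) (flp_g L224) L315
theorem L322 : sm gh N39 = N39 := ded_37_2 (flp_e L315) L226 L315
theorem L323 : sm gi N27 = N40 := rfl
theorem L325 : sm ga N40 = N40 := ded_16_1 (flp_i L323) L222 L323
theorem L326 : sm gc N40 = N29 := ded_29_1 (flp_i L236) L220 L323
theorem L328 : sm gd N40 = N40 := ded_34_1 (flp_i L323) L227 L323
theorem L329 : sm gf N40 = N40 := ded_41_1 (flp_i L323) L223 L323
theorem L330 : sm gg N40 = N32 := ded_43_1 (flp_i L259) (flp_g L224) L323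
theorem L332 : sm gf N28 = N41 := rfl
theorem L334 : sm ga N41 = N41 := ded_13_1 (flp_f L332) L230 L332
theorem L335 : sm gb N41 = N41 := ded_20_1 (flp_f L332) L231 L332
theorem L336 : sm gd N41 = N41 := ded_31_1 (flp_f L332) L235 L332
theorem L337 : sm gh N41 = N41 := ded_40_2 (flp_f L332) L234 L332
theorem L338 : sm ge N41 = N41 := ded_35_1 (flp_f L332) (flp_e L228) L161 L228 L332
theorem L339 : sm gg N41 = N41 := ded_39_2 (flp_f L332) L232 L188 (flp_g L232) L332
theorem L340 : sm gi N28 = N42 := rfl
theorem L342 : sm ga N42 = N42 := ded_16_1 (flp_i L340) L230 L340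
theorem L343 : sm gb N42 = N42 := ded_23_1 (flp_i L340) L231 L340
theorem L344 : sm gd N42 = N42 := ded_34_1 (flp_i L340) L235 L340
theorem L345 : sm ge N42 = N29 := ded_38_1 (flp_i L236) L228 L340
theorem L347 : sm gg N42 = N33 := ded_43_1 (flp_i L267) (flp_g L232) L340
theorem L349 : sm gh N29 = N43 := rfl
theorem L351 : sm ga N43 = N43 := ded_15_1 (flp_h L349) L238 L349
theorem L352 : sm gb N43 = N43 := ded_22_1 (flp_h L349) L239 L349
theorem L353 : sm gf N43 = N43 := ded_40_1 (flp_h L349) L242 L349
theorem L354 : sm gg N43 = N34 := ded_42_1 (flp_h L275) (flp_g L243) L349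
theorem L356 : sm gd N43 = N43 := ded_33_1 (flp_h L349) L240 L174 (flp_d L240) L349
theorem L357 : sm gi N43 = N43 := ded_44_2 (flp_h L349) (flp_i L236) L164 L236 L349
theorem L358 : sm ga N30 = N44 := rfl
theorem L360 : sm gc N44 = N44 := ded_10_2 (flp_a L358) L251 L358
theorem L361 : sm gd N44 = N44 := ded_11_2 (flp_a L358) L247 L358
theorem L362 : sm gf N44 = N35 := ded_13_2 (flp_a L283) (flp_f L248) L358
theorem L364 : sm gh N44 = N44 := ded_15_2 (flp_a L358) L250 L358
theorem L365 : sm gb N44 = N44 := ded_9_2 (flp_a L358) (flp_b L245) L177 L245 L358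
theorem L366 : sm ge N30 = N45 := rfl
theorem L368 : sm gb N45 = N31 := ded_19_1 (flp_e L252) L245 L366
theorem L370 : sm gc N45 = N45 := ded_25_1 (flp_e L366) L251 L366
theorem L371 : sm gh N45 = N45 := ded_37_2 (flp_e L366) L250 L366
theorem L372 : sm gf N45 = N45 := ded_35_2 (flp_e L366) L248 L200 (flp_f L248) L366
theorem L373 : sm gi N30 = N46 := rfl
theorem L375 : sm gb N46 = N32 := ded_23_1 (flp_i L259) L245 L373
theorem L377 : sm gc N46 = N46 := ded_29_1 (flp_i L373) L251 L373
theorem L378 : sm gd N46 = N46 := ded_34_1 (flp_i L373) L247 L373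
theorem L379 : sm gf N46 = N36 := ded_41_1 (flp_i L291) (flp_f L248) L373
theorem L381 : sm gd N31 = N47 := rfl
theorem L383 : sm ga N47 = N47 := ded_11_1 (flp_d L381) L254 L381
theorem L384 : sm gf N47 = N47 := ded_31_2 (flp_d L381) L258 L381
theorem L385 : sm gc N47 = N47 := ded_24_1 (flp_d L381) L255 L187 (flp_c L255) L381
theorem L386 : sm ge N47 = N47 := ded_30_2 (flp_d L381) (flp_e L252) L181 L252 L381
theorem L387 : sm gi N31 = N48 := rfl
theorem L389 : sm ga N48 = N48 := ded_16_1 (flp_i L387) L254 L387
theorem L390 : sm gc N48 = N33 := ded_29_1 (flp_i L267) (flp_c L255) L387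
theorem L392 : sm ge N48 = N32 := ded_38_1 (flp_i L259) L252 L387
theorem L394 : sm gf N48 = N48 := ded_41_1 (flp_i L387) L258 L387
theorem L395 : sm gh N32 = N49 := rfl
theorem L397 : sm ga N49 = N49 := ded_15_1 (flp_h L395) L261 L395
theorem L398 : sm gc N49 = N34 := ded_28_1 (flp_h L275) (flp_c L262) L395
theorem L400 : sm gf N49 = N37 := ded_40_1 (flp_h L299) (flp_f L265) L395
theorem L402 : sm gi N49 = N49 := ded_44_2 (flp_h L395) (flp_i L259) L180 L259 L395
theorem L403 : sm gh N33 = N50 := rfl
theorem L405 : sm ga N50 = N50 := ded_15_1 (flp_h L403) L269 L403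
theorem L406 : sm gb N50 = N50 := ded_22_1 (flp_h L403) L270 L403
theorem L407 : sm ge N50 = N34 := ded_37_1 (flp_h L275) (flp_e L272) L403
theorem L409 : sm gf N50 = N50 := ded_40_1 (flp_h L403) L274 L403
theorem L410 : sm gi N50 = N50 := ded_44_2 (flp_h L403) (flp_i L267) L186 L267 L403
theorem L411 : sm gi N35 = N51 := rfl
theorem L413 : sm ga N51 = N36 := ded_16_1 (flp_i L291) L283 L411
theorem L415 : sm gb N51 = N51 := ded_23_1 (flp_i L411) L290 L411
theorem L416 : sm gc N51 = N51 := ded_29_1 (flp_i L411) L285 L411
theorem L417 : sm gd N51 = N51 := ded_34_1 (flp_i L411) L286 L411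
theorem L418 : sm ge N51 = N51 := ded_38_1 (flp_i L411) L287 L411
theorem L419 : sm gg N51 = N51 := ded_43_1 (flp_i L411) L288 L411
theorem L420 : sm gh N36 = N52 := rfl
theorem L422 : sm gb N52 = N37 := ded_22_1 (flp_h L299) (flp_b L293) L420
theorem L424 : sm gc N52 = N52 := ded_28_1 (flp_h L420) L295 L420
theorem L425 : sm ge N52 = N52 := ded_37_1 (flp_h L420) L297 L420
theorem L426 : sm gg N52 = N52 := ded_42_1 (flp_h L420) L298 L420
theorem L427 : sm gi N52 = N52 := ded_44_2 (flp_h L420) (flp_i L291) L202 L291 L420
theorem L428 : sm gd N37 = N53 := rfl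
theorem L430 : sm ga N53 = N53 := ded_11_1 (flp_d L428) L301 L428
theorem L431 : sm gg N53 = N53 := ded_32_2 (flp_d L428) L305 L428
theorem L432 : sm gi N53 = N53 := ded_34_2 (flp_d L428) L306 L428
theorem L433 : sm gc N53 = N53 := ded_24_1 (flp_d L428) L302 L218 (flp_c L302) L428
theorem L434 : sm gh N53 = N53 := ded_33_2 (flp_d L428) (flp_h L299) L209 L299 L428
theorem L435 : sm ga N38 = N54 := rfl
theorem L437 : sm gc N54 = N54 := ded_10_2 (flp_a L435) L314 L435
theorem L438 : sm gd N54 = N54 := ded_11_2 (flp_a L435) L309 L435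
theorem L439 : sm gf N54 = N54 := ded_13_2 (flp_a L435) L310 L435
theorem L440 : sm gg N54 = N44 := ded_14_2 (flp_a L358) (flp_g L311) L435
theorem L442 : sm gh N54 = N54 := ded_15_2 (flp_a L435) L313 L435
theorem L443 : sm gb N54 = N54 := ded_9_2 (flp_a L435) (flp_b L307) L222 L307 L435
theorem L444 : sm ge N38 = N55 := rfl
theorem L446 : sm gb N55 = N39 := ded_19_1 (flp_e L315) L307 L444
theorem L448 : sm gc N55 = N55 := ded_25_1 (flp_e L444) L314 L444
theorem L449 : sm gg N55 = N45 := ded_36_2 (flp_e L366) (flp_g L311) L444
theorem L451 : sm gh N55 = N55 := ded_37_2 (flp_e L444) L313 L444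
theorem L452 : sm gi N38 = N56 := rfl
theorem L454 : sm gb N56 = N40 := ded_23_1 (flp_i L323) L307 L452
theorem L456 : sm gc N56 = N56 := ded_29_1 (flp_i L452) L314 L452
theorem L457 : sm gd N56 = N56 := ded_34_1 (flp_i L452) L309 L452
theorem L458 : sm gf N56 = N56 := ded_41_1 (flp_i L452) L310 L452
theorem L459 : sm gg N56 = N46 := ded_43_1 (flp_i L373) (flp_g L311) L452
theorem L461 : sm gd N39 = N57 := rfl
theorem L463 : sm ga N57 = N57 := ded_11_1 (flp_d L461) L317 L461
theorem L464 : sm gg N57 = N47 := ded_32_2 (flp_d L381) (flp_g L320) L461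
theorem L466 : sm gc N57 = N57 := ded_24_1 (flp_d L461) L318 L235 (flp_c L318) L461
theorem L467 : sm ge N57 = N57 := ded_30_2 (flp_d L461) (flp_e L315) L227 L315 L461
theorem L468 : sm gf N39 = N58 := rfl
theorem L470 : sm ga N58 = N58 := ded_13_1 (flp_f L468) L317 L468
theorem L471 : sm gc N58 = N41 := ded_26_1 (flp_f L332) (flp_c L318) L468
theorem L473 : sm gh N58 = N58 := ded_40_2 (flp_f L468) L322 L468
theorem L474 : sm ge N58 = N58 := ded_35_1 (flp_f L468) (flp_e L315) L223 L315 L468
theorem L475 : sm gg N58 = N58 := ded_39_2 (flp_f L468) L320 L258 (flp_g L320) L468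
theorem L476 : sm gi N39 = N59 := rfl
theorem L478 : sm ga N59 = N59 := ded_16_1 (flp_i L476) L317 L476
theorem L479 : sm gc N59 = N42 := ded_29_1 (flp_i L340) (flp_c L318) L476
theorem L481 : sm ge N59 = N40 := ded_38_1 (flp_i L323) L315 L476
theorem L483 : sm gg N59 = N48 := ded_43_1 (flp_i L387) (flp_g L320) L476
theorem L485 : sm gh N40 = N60 := rfl
theorem L487 : sm ga N60 = N60 := ded_15_1 (flp_h L485) L325 L485
theorem L488 : sm gc N60 = N43 := ded_28_1 (flp_h L349) (flp_c L326) L485
theorem L490 : sm gf N60 = N60 := ded_40_1 (flp_h L485) L329 L485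
theorem L491 : sm gg N60 = N49 := ded_42_1 (flp_h L395) (flp_g L330) L485
theorem L493 : sm gi N60 = N60 := ded_44_2 (flp_h L485) (flp_i L323) L226 L323 L485
theorem L494 : sm gi N41 = N61 := rfl
theorem L496 : sm ga N61 = N61 := ded_16_1 (flp_i L494) L334 L494
theorem L497 : sm gb N61 = N61 := ded_23_1 (flp_i L494) L335 L494
theorem L498 : sm gd N61 = N61 := ded_34_1 (flp_i L494) L336 L494
theorem L499 : sm ge N61 = N61 := ded_38_1 (flp_i L494) L338 L494
theorem L500 : sm gf N61 = N42 := ded_41_1 (flp_i L340) L332 L494
theorem L502 : sm gg N61 = N61 := ded_43_1 (flp_i L494) L339 L494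
theorem L503 : sm gh N42 = N62 := rfl
theorem L505 : sm ga N62 = N62 := ded_15_1 (flp_h L503) L342 L503
theorem L506 : sm gb N62 = N62 := ded_22_1 (flp_h L503) L343 L503
theorem L507 : sm ge N62 = N43 := ded_37_1 (flp_h L349) (flp_e L345) L503
theorem L509 : sm gg N62 = N50 := ded_42_1 (flp_h L403) (flp_g L347) L503
theorem L511 : sm gi N62 = N62 := ded_44_2 (flp_h L503) (flp_i L340) L234 L340 L503
theorem L512 : sm ge N44 = N63 := rfl
theorem L514 : sm ga N63 = N45 := ded_12_1 (flp_e L366) L358 L512
theorem L516 : sm gb N63 = N63 := ded_19_1 (flp_e L512) L365 L512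
theorem L517 : sm gc N63 = N63 := ded_25_1 (flp_e L512) L360 L512
theorem L518 : sm gh N63 = N63 := ded_37_2 (flp_e L512) L364 L512
theorem L519 : sm gf N63 = N63 := ded_35_2 (flp_e L512) L362 L287 (flp_f L362) L512
theorem L520 : sm gi N44 = N64 := rfl
theorem L522 : sm ga N64 = N46 := ded_16_1 (flp_i L373) L358 L520
theorem L524 : sm gb N64 = N64 := ded_23_1 (flp_i L520) L365 L520
theorem L525 : sm gc N64 = N64 := ded_29_1 (flp_i L520) L360 L520
theorem L526 : sm gd N64 = N64 := ded_34_1 (flp_i L520) L361 L520
theorem L527 : sm gf N64 = N51 := ded_41_1 (flp_i L411) (flp_f L362) L520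
theorem L529 : sm gd N45 = N65 := rfl
theorem L531 : sm gb N65 = N47 := ded_18_1 (flp_d L381) (flp_b L368) L529
theorem L533 : sm gf N65 = N65 := ded_31_2 (flp_d L529) L372 L529
theorem L534 : sm ge N65 = N65 := ded_30_2 (flp_d L529) (flp_e L366) L247 L366 L529
theorem L535 : sm gi N45 = N66 := rfl
theorem L537 : sm gb N66 = N48 := ded_23_1 (flp_i L387) (flp_b L368) L535
theorem L539 : sm gc N66 = N66 := ded_29_1 (flp_i L535) L370 L535
theorem L540 : sm ge N66 = N46 := ded_38_1 (flp_i L373) L366 L535
theorem L542 : sm gf N66 = N66 := ded_41_1 (flp_i L535) L372 L535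
theorem L543 : sm gh N46 = N67 := rfl
theorem L545 : sm gb N67 = N49 := ded_22_1 (flp_h L395) (flp_b L375) L543
theorem L547 : sm gc N67 = N67 := ded_28_1 (flp_h L543) L377 L543
theorem L548 : sm gf N67 = N52 := ded_40_1 (flp_h L420) (flp_f L379) L543
theorem L550 : sm gi N67 = N67 := ded_44_2 (flp_h L543) (flp_i L373) L250 L373 L543
theorem L551 : sm gh N47 = N68 := rfl
theorem L553 : sm ga N68 = N68 := ded_15_1 (flp_h L551) L383 L551
theorem L554 : sm gc N68 = N68 := ded_28_1 (flp_h L551) L385 L551
theorem L555 : sm ge N68 = N68 := ded_37_1 (flp_h L551) L386 L551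
theorem L556 : sm gf N68 = N68 := ded_40_1 (flp_h L551) L384 L551
theorem L557 : sm gd N68 = N68 := ded_33_1 (flp_h L551) (flp_d L381) L257 L381 L551
theorem L558 : sm gi N47 = N69 := rfl
theorem L560 : sm ga N69 = N69 := ded_16_1 (flp_i L558) L383 L558
theorem L561 : sm gc N69 = N69 := ded_29_1 (flp_i L558) L385 L558
theorem L562 : sm gd N69 = N48 := ded_34_1 (flp_i L387) L381 L558
theorem L564 : sm ge N69 = N69 := ded_38_1 (flp_i L558) L386 L558
theorem L565 : sm gf N69 = N69 := ded_41_1 (flp_i L558) L384 L558
theorem L566 : sm gh N48 = N70 := rfl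
theorem L568 : sm ga N70 = N70 := ded_15_1 (flp_h L566) L389 L566
theorem L569 : sm gc N70 = N50 := ded_28_1 (flp_h L403) (flp_c L390) L566
theorem L571 : sm ge N70 = N49 := ded_37_1 (flp_h L395) (flp_e L392) L566
theorem L573 : sm gf N70 = N70 := ded_40_1 (flp_h L566) L394 L566
theorem L574 : sm gi N70 = N70 := ded_44_2 (flp_h L566) (flp_i L387) L257 L387 L566
theorem L575 : sm gd N49 = N71 := rfl
theorem L577 : sm ga N71 = N71 := ded_11_1 (flp_d L575) L397 L575
theorem L578 : sm gf N71 = N53 := ded_31_2 (flp_d L428) (flp_f L400) L575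
theorem L580 : sm gi N71 = N71 := ded_34_2 (flp_d L575) L402 L575
theorem L581 : sm gc N71 = N71 := ded_24_1 (flp_d L575) L398 L281 (flp_c L398) L575
theorem L582 : sm gh N71 = N71 := ded_33_2 (flp_d L575) (flp_h L395) L264 L395 L575
theorem L583 : sm gd N50 = N72 := rfl
theorem L585 : sm ga N72 = N72 := ded_11_1 (flp_d L583) L405 L583
theorem L586 : sm gb N72 = N72 := ded_18_1 (flp_d L583) L406 L583
theorem L587 : sm gf N72 = N72 := ded_31_2 (flp_d L583) L409 L583
theorem L588 : sm gi N72 = N72 := ded_34_2 (flp_d L583) L410 L583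
theorem L589 : sm ge N72 = N72 := ded_30_2 (flp_d L583) L407 L281 (flp_e L407) L583
theorem L590 : sm gh N72 = N72 := ded_33_2 (flp_d L583) (flp_h L403) L271 L403 L583
theorem L591 : sm gh N51 = N73 := rfl
theorem L593 : sm ga N73 = N52 := ded_15_1 (flp_h L420) (flp_a L413) L591
theorem L595 : sm gb N73 = N73 := ded_22_1 (flp_h L591) L415 L591
theorem L596 : sm gc N73 = N73 := ded_28_1 (flp_h L591) L416 L591
theorem L597 : sm ge N73 = N73 := ded_37_1 (flp_h L591) L418 L591
theorem L598 : sm gg N73 = N73 := ded_42_1 (flp_h L591) L419 L591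
theorem L599 : sm gi N73 = N73 := ded_44_2 (flp_h L591) (flp_i L411) L289 L411 L591
theorem L600 : sm gd N52 = N74 := rfl
theorem L602 : sm gb N74 = N53 := ded_18_1 (flp_d L428) (flp_b L422) L600
theorem L604 : sm gg N74 = N74 := ded_32_2 (flp_d L600) L426 L600
theorem L605 : sm gi N74 = N74 := ded_34_2 (flp_d L600) L427 L600
theorem L606 : sm gh N74 = N74 := ded_33_2 (flp_d L600) (flp_h L420) L296 L420 L600
theorem L607 : sm ge N53 = N75 := rfl
theorem L609 : sm ga N75 = N75 := ded_12_1 (flp_e L607) L430 L607
theorem L610 : sm gc N75 = N75 := ded_25_1 (flp_e L607) L433 L607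
theorem L611 : sm gg N75 = N75 := ded_36_2 (flp_e L607) L431 L607
theorem L612 : sm gh N75 = N75 := ded_37_2 (flp_e L607) L434 L607
theorem L613 : sm gi N75 = N75 := ded_38_2 (flp_e L607) L432 L607
theorem L614 : sm gd N75 = N75 := ded_30_1 (flp_e L607) (flp_d L428) L304 L428 L607
theorem L615 : sm ge N54 = N76 := rfl
theorem L617 : sm ga N76 = N55 := ded_12_1 (flp_e L444) L435 L615
theorem L619 : sm gb N76 = N76 := ded_19_1 (flp_e L615) L443 L615
theorem L620 : sm gc N76 = N76 := ded_25_1 (flp_e L615) L437 L615
theorem L621 : sm gg N76 = N63 := ded_36_2 (flp_e L512) (flp_g L440) L615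
theorem L623 : sm gh N76 = N76 := ded_37_2 (flp_e L615) L442 L615
theorem L624 : sm gi N54 = N77 := rfl
theorem L626 : sm ga N77 = N56 := ded_16_1 (flp_i L452) L435 L624
theorem L628 : sm gb N77 = N77 := ded_23_1 (flp_i L624) L443 L624
theorem L629 : sm gc N77 = N77 := ded_29_1 (flp_i L624) L437 L624
theorem L630 : sm gd N77 = N77 := ded_34_1 (flp_i L624) L438 L624
theorem L631 : sm gf N77 = N77 := ded_41_1 (flp_i L624) L439 L624
theorem L632 : sm gg N77 = N64 := ded_43_1 (flp_i L520) (flp_g L440) L624
theorem L634 : sm gd N55 = N78 := rfl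
theorem L636 : sm gb N78 = N57 := ded_18_1 (flp_d L461) (flp_b L446) L634
theorem L638 : sm gg N78 = N65 := ded_32_2 (flp_d L529) (flp_g L449) L634
theorem L640 : sm ge N78 = N78 := ded_30_2 (flp_d L634) (flp_e L444) L309 L444 L634
theorem L641 : sm gf N55 = N79 := rfl
theorem L643 : sm gb N79 = N58 := ded_20_1 (flp_f L468) (flp_b L446) L641
theorem L645 : sm gc N79 = N79 := ded_26_1 (flp_f L641) L448 L641
theorem L646 : sm gh N79 = N79 := ded_40_2 (flp_f L641) L451 L641
theorem L647 : sm ge N79 = N79 := ded_35_1 (flp_f L641) (flp_e L444) L310 L444 L641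
theorem L648 : sm gg N79 = N79 := ded_39_2 (flp_f L641) L449 L372 (flp_g L449) L641
theorem L649 : sm gi N55 = N80 := rfl
theorem L651 : sm gb N80 = N59 := ded_23_1 (flp_i L476) (flp_b L446) L649
theorem L653 : sm gc N80 = N80 := ded_29_1 (flp_i L649) L448 L649
theorem L654 : sm ge N80 = N56 := ded_38_1 (flp_i L452) L444 L649
theorem L656 : sm gg N80 = N66 := ded_43_1 (flp_i L535) (flp_g L449) L649
theorem L658 : sm gh N56 = N81 := rfl
theorem L660 : sm gb N81 = N60 := ded_22_1 (flp_h L485) (flp_b L454) L658
theorem L662 : sm gc N81 = N81 := ded_28_1 (flp_h L658) L456 L658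
theorem L663 : sm gf N81 = N81 := ded_40_1 (flp_h L658) L458 L658
theorem L664 : sm gg N81 = N67 := ded_42_1 (flp_h L543) (flp_g L459) L658
theorem L666 : sm gi N81 = N81 := ded_44_2 (flp_h L658) (flp_i L452) L313 L452 L658
theorem L667 : sm gf N57 = N82 := rfl
theorem L669 : sm ga N82 = N82 := ded_13_1 (flp_f L667) L463 L667
theorem L670 : sm gc N82 = N82 := ded_26_1 (flp_f L667) L466 L667
theorem L671 : sm gd N82 = N58 := ded_31_1 (flp_f L468) L461 L667
theorem L673 : sm gg N82 = N82 := ded_39_2 (flp_f L667) L464 L384 (flp_g L464) L667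
theorem L674 : sm gh N57 = N83 := rfl
theorem L676 : sm ga N83 = N83 := ded_15_1 (flp_h L674) L463 L674
theorem L677 : sm gc N83 = N83 := ded_28_1 (flp_h L674) L466 L674
theorem L678 : sm ge N83 = N83 := ded_37_1 (flp_h L674) L467 L674
theorem L679 : sm gg N83 = N68 := ded_42_1 (flp_h L551) (flp_g L464) L674
theorem L681 : sm gd N83 = N83 := ded_33_1 (flp_h L674) (flp_d L461) L322 L461 L674
theorem L682 : sm gi N57 = N84 := rfl
theorem L684 : sm ga N84 = N84 := ded_16_1 (flp_i L682) L463 L682
theorem L685 : sm gc N84 = N84 := ded_29_1 (flp_i L682) L466 L682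
theorem L686 : sm gd N84 = N59 := ded_34_1 (flp_i L476) L461 L682
theorem L688 : sm ge N84 = N84 := ded_38_1 (flp_i L682) L467 L682
theorem L689 : sm gg N84 = N69 := ded_43_1 (flp_i L558) (flp_g L464) L682
theorem L691 : sm gi N58 = N85 := rfl
theorem L693 : sm ga N85 = N85 := ded_16_1 (flp_i L691) L470 L691
theorem L694 : sm gc N85 = N61 := ded_29_1 (flp_i L494) (flp_c L471) L691
theorem L696 : sm ge N85 = N85 := ded_38_1 (flp_i L691) L474 L691
theorem L697 : sm gf N85 = N59 := ded_41_1 (flp_i L476) L468 L691
theorem L699 : sm gg N85 = N85 := ded_43_1 (flp_i L691) L475 L691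
theorem L700 : sm gh N59 = N86 := rfl
theorem L702 : sm ga N86 = N86 := ded_15_1 (flp_h L700) L478 L700
theorem L703 : sm gc N86 = N62 := ded_28_1 (flp_h L503) (flp_c L479) L700
theorem L705 : sm ge N86 = N60 := ded_37_1 (flp_h L485) (flp_e L481) L700
theorem L707 : sm gg N86 = N70 := ded_42_1 (flp_h L566) (flp_g L483) L700
theorem L709 : sm gi N86 = N86 := ded_44_2 (flp_h L700) (flp_i L476) L322 L476 L700
theorem L710 : sm gd N60 = N87 := rfl
theorem L712 : sm ga N87 = N87 := ded_11_1 (flp_d L710) L487 L710
theorem L713 : sm gf N87 = N87 := ded_31_2 (flp_d L710) L490 L710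
theorem L714 : sm gg N87 = N71 := ded_32_2 (flp_d L575) (flp_g L491) L710
theorem L716 : sm gi N87 = N87 := ded_34_2 (flp_d L710) L493 L710
theorem L717 : sm gc N87 = N87 := ded_24_1 (flp_d L710) L488 L356 (flp_c L488) L710
theorem L718 : sm gh N87 = N87 := ded_33_2 (flp_d L710) (flp_h L485) L328 L485 L710
theorem L719 : sm gh N61 = N88 := rfl
theorem L721 : sm ga N88 = N88 := ded_15_1 (flp_h L719) L496 L719
theorem L722 : sm gb N88 = N88 := ded_22_1 (flp_h L719) L497 L719
theorem L723 : sm ge N88 = N88 := ded_37_1 (flp_h L719) L499 L719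
theorem L724 : sm gf N88 = N62 := ded_40_1 (flp_h L503) (flp_f L500) L719
theorem L726 : sm gg N88 = N88 := ded_42_1 (flp_h L719) L502 L719
theorem L727 : sm gi N88 = N88 := ded_44_2 (flp_h L719) (flp_i L494) L337 L494 L719
theorem L728 : sm gd N62 = N89 := rfl
theorem L730 : sm ga N89 = N89 := ded_11_1 (flp_d L728) L505 L728
theorem L731 : sm gb N89 = N89 := ded_18_1 (flp_d L728) L506 L728
theorem L732 : sm gg N89 = N72 := ded_32_2 (flp_d L583) (flp_g L509) L728
theorem L734 : sm gi N89 = N89 := ded_34_2 (flp_d L728) L511 L728
theorem L735 : sm ge N89 = N89 := ded_30_2 (flp_d L728) L507 L356 (flp_e L507) L728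
theorem L736 : sm gh N89 = N89 := ded_33_2 (flp_d L728) (flp_h L503) L344 L503 L728
theorem L737 : sm gd N63 = N90 := rfl
theorem L739 : sm ga N90 = N65 := ded_11_1 (flp_d L529) (flp_a L514) L737
theorem L741 : sm gb N90 = N90 := ded_18_1 (flp_d L737) L516 L737
theorem L742 : sm gf N90 = N90 := ded_31_2 (flp_d L737) L519 L737
theorem L743 : sm ge N90 = N90 := ded_30_2 (flp_d L737) (flp_e L512) L361 L512 L737
theorem L744 : sm gi N63 = N91 := rfl
theorem L746 : sm ga N91 = N66 := ded_16_1 (flp_i L535) (flp_a L514) L744
theorem L748 : sm gb N91 = N91 := ded_23_1 (flp_i L744) L516 L744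
theorem L749 : sm gc N91 = N91 := ded_29_1 (flp_i L744) L517 L744
theorem L750 : sm ge N91 = N64 := ded_38_1 (flp_i L520) L512 L744
theorem L752 : sm gf N91 = N91 := ded_41_1 (flp_i L744) L519 L744
theorem L753 : sm gh N64 = N92 := rfl
theorem L755 : sm ga N92 = N67 := ded_15_1 (flp_h L543) (flp_a L522) L753
theorem L757 : sm gb N92 = N92 := ded_22_1 (flp_h L753) L524 L753
theorem L758 : sm gc N92 = N92 := ded_28_1 (flp_h L753) L525 L753
theorem L759 : sm gf N92 = N73 := ded_40_1 (flp_h L591) (flp_f L527) L753
theorem L761 : sm gi N92 = N92 := ded_44_2 (flp_h L753) (flp_i L520) L364 L520 L753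
theorem L762 : sm gc N65 = N93 := rfl
theorem L764 : sm ge N93 = N93 := ded_25_2 (flp_c L762) L534 L762
theorem L765 : sm gf N93 = N93 := ded_26_2 (flp_c L762) L533 L762
theorem L766 : sm gb N93 = N93 := ded_17_1 (flp_c L762) L531 L385 (flp_b L531) L762
theorem L767 : sm gd N93 = N93 := ded_24_2 (flp_c L762) (flp_d L529) L370 L529 L762
theorem L768 : sm gh N65 = N94 := rfl
theorem L770 : sm gb N94 = N68 := ded_22_1 (flp_h L551) (flp_b L531) L768
theorem L772 : sm ge N94 = N94 := ded_37_1 (flp_h L768) L534 L768
theorem L773 : sm gf N94 = N94 := ded_40_1 (flp_h L768) L533 L768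
theorem L774 : sm gd N94 = N94 := ded_33_1 (flp_h L768) (flp_d L529) L371 L529 L768
theorem L775 : sm ga N93 = N94 := ded_46_62 (flp_h L768) L533 L534 (flp_d L529) L370 L368 L254 L257 L258 (flp_e L252) L181 (flp_c L175) L129 L128 L132 L130 L106 (flp_d L101) L71 L70 L69 (flp_h L67) L59 L66 L64 L63 L62 L61 L93 L99 L72 L58 L55 L54 L53 (flp_h L51) L39 L43 L50 L47 L46 L45 L67 (flp_f L99) L98 L126 L175 L245 L358 L364 L362 L287 L286 L285 L290 (flp_a L283) L202 (flp_f L248) L366 L529 L762 L766
theorem L777 : sm gh N90 = N93 := ded_15_2 L775 (flp_h L768) (flp_a L739)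
theorem L779 : sm gc N90 = N94 := ded_28_3 (flp_h L768) L762 (flp_h L777)
theorem L781 : sm gi N65 = N95 := rfl
theorem L783 : sm gb N95 = N69 := ded_23_1 (flp_i L558) (flp_b L531) L781
theorem L785 : sm gd N95 = N66 := ded_34_1 (flp_i L535) L529 L781
theorem L787 : sm ge N95 = N95 := ded_38_1 (flp_i L781) L534 L781
theorem L788 : sm gf N95 = N95 := ded_41_1 (flp_i L781) L533 L781
theorem L789 : sm gh N66 = N96 := rfl
theorem L791 : sm gb N96 = N70 := ded_22_1 (flp_h L566) (flp_b L537) L789
theorem L793 : sm gc N96 = N96 := ded_28_1 (flp_h L789) L539 L789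
theorem L794 : sm ge N96 = N67 := ded_37_1 (flp_h L543) (flp_e L540) L789
theorem L796 : sm gf N96 = N96 := ded_40_1 (flp_h L789) L542 L789
theorem L797 : sm gi N96 = N96 := ded_44_2 (flp_h L789) (flp_i L535) L371 L535 L789
theorem L798 : sm gd N67 = N97 := rfl
theorem L800 : sm gb N97 = N71 := ded_18_1 (flp_d L575) (flp_b L545) L798
theorem L802 : sm gf N97 = N74 := ded_31_2 (flp_d L600) (flp_f L548) L798
theorem L804 : sm gi N97 = N97 := ded_34_2 (flp_d L798) L550 L798
theorem L805 : sm gh N97 = N97 := ded_33_2 (flp_d L798) (flp_h L543) L378 L543 L798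
theorem L806 : sm gi N68 = N98 := rfl
theorem L808 : sm ga N98 = N98 := ded_16_1 (flp_i L806) L553 L806
theorem L809 : sm gc N98 = N98 := ded_29_1 (flp_i L806) L554 L806
theorem L810 : sm gd N98 = N98 := ded_34_1 (flp_i L806) L557 L806
theorem L811 : sm ge N98 = N98 := ded_38_1 (flp_i L806) L555 L806
theorem L812 : sm gf N98 = N98 := ded_41_1 (flp_i L806) L556 L806
theorem L813 : sm gh N69 = N99 := rfl
theorem L815 : sm ga N99 = N99 := ded_15_1 (flp_h L813) L560 L813
theorem L816 : sm gc N99 = N99 := ded_28_1 (flp_h L813) L561 L813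
theorem L817 : sm ge N99 = N99 := ded_37_1 (flp_h L813) L564 L813
theorem L818 : sm gf N99 = N99 := ded_40_1 (flp_h L813) L565 L813
theorem L819 : sm gd N70 = N100 := rfl
theorem L821 : sm ga N100 = N100 := ded_11_1 (flp_d L819) L568 L819
theorem L822 : sm gf N100 = N100 := ded_31_2 (flp_d L819) L573 L819
theorem L823 : sm gi N100 = N100 := ded_34_2 (flp_d L819) L574 L819
theorem L824 : sm ge N71 = N101 := rfl
theorem L826 : sm ga N101 = N101 := ded_12_1 (flp_e L824) L577 L824
theorem L827 : sm gc N101 = N101 := ded_25_1 (flp_e L824) L581 L824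
theorem L828 : sm gh N101 = N101 := ded_37_2 (flp_e L824) L582 L824
theorem L829 : sm gi N101 = N101 := ded_38_2 (flp_e L824) L580 L824
theorem L830 : sm gc N72 = N102 := rfl
theorem L832 : sm ga N102 = N102 := ded_10_1 (flp_c L830) L585 L830
theorem L833 : sm ge N102 = N102 := ded_25_2 (flp_c L830) L589 L830
theorem L834 : sm gf N102 = N102 := ded_26_2 (flp_c L830) L587 L830
theorem L835 : sm gh N102 = N102 := ded_28_2 (flp_c L830) L590 L830
theorem L836 : sm gi N102 = N102 := ded_29_2 (flp_c L830) L588 L830
theorem L837 : sm gd N73 = N103 := rfl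
theorem L839 : sm ga N103 = N74 := ded_11_1 (flp_d L600) (flp_a L593) L837
theorem L841 : sm gb N103 = N103 := ded_18_1 (flp_d L837) L595 L837
theorem L842 : sm gg N103 = N103 := ded_32_2 (flp_d L837) L598 L837
theorem L843 : sm gi N103 = N103 := ded_34_2 (flp_d L837) L599 L837
theorem L844 : sm gh N103 = N103 := ded_33_2 (flp_d L837) (flp_h L591) L417 L591 L837
theorem L845 : sm gc N74 = N104 := rfl
theorem L847 : sm gg N104 = N104 := ded_27_2 (flp_c L845) L604 L845
theorem L848 : sm gh N104 = N104 := ded_28_2 (flp_c L845) L606 L845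
theorem L849 : sm gi N104 = N104 := ded_29_2 (flp_c L845) L605 L845
theorem L850 : sm gb N104 = N104 := ded_17_1 (flp_c L845) L602 L433 (flp_b L602) L845
theorem L851 : sm gd N104 = N104 := ded_24_2 (flp_c L845) (flp_d L600) L424 L600 L845
theorem L852 : sm ge N74 = N105 := rfl
theorem L854 : sm gb N105 = N75 := ded_19_1 (flp_e L607) (flp_b L602) L852
theorem L856 : sm gg N105 = N105 := ded_36_2 (flp_e L852) L604 L852
theorem L857 : sm gh N105 = N105 := ded_37_2 (flp_e L852) L606 L852
theorem L858 : sm gi N105 = N105 := ded_38_2 (flp_e L852) L605 L852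
theorem L859 : sm gd N105 = N105 := ded_30_1 (flp_e L852) (flp_d L600) L425 L600 L852
theorem L860 : sm gf N75 = N106 := rfl
theorem L862 : sm ga N106 = N106 := ded_13_1 (flp_f L860) L609 L860
theorem L863 : sm gc N106 = N106 := ded_26_1 (flp_f L860) L610 L860
theorem L864 : sm gd N106 = N106 := ded_31_1 (flp_f L860) L614 L860
theorem L865 : sm gh N106 = N106 := ded_40_2 (flp_f L860) L612 L860
theorem L866 : sm gi N106 = N106 := ded_41_2 (flp_f L860) L613 L860
theorem L867 : sm gd N76 = N107 := rfl
theorem L869 : sm ga N107 = N78 := ded_11_1 (flp_d L634) (flp_a L617) L867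
theorem L871 : sm gb N107 = N107 := ded_18_1 (flp_d L867) L619 L867
theorem L872 : sm gg N107 = N90 := ded_32_2 (flp_d L737) (flp_g L621) L867
theorem L874 : sm ge N107 = N107 := ded_30_2 (flp_d L867) (flp_e L615) L438 L615 L867
theorem L875 : sm gf N76 = N108 := rfl
theorem L877 : sm ga N108 = N79 := ded_13_1 (flp_f L641) (flp_a L617) L875
theorem L879 : sm gb N108 = N108 := ded_20_1 (flp_f L875) L619 L875
theorem L880 : sm gc N108 = N108 := ded_26_1 (flp_f L875) L620 L875
theorem L881 : sm gh N108 = N108 := ded_40_2 (flp_f L875) L623 L875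
theorem L882 : sm ge N108 = N108 := ded_35_1 (flp_f L875) (flp_e L615) L439 L615 L875
theorem L883 : sm gg N108 = N108 := ded_39_2 (flp_f L875) L621 L519 (flp_g L621) L875
theorem L884 : sm gi N76 = N109 := rfl
theorem L886 : sm ga N109 = N80 := ded_16_1 (flp_i L649) (flp_a L617) L884
theorem L888 : sm gb N109 = N109 := ded_23_1 (flp_i L884) L619 L884
theorem L889 : sm gc N109 = N109 := ded_29_1 (flp_i L884) L620 L884
theorem L890 : sm ge N109 = N77 := ded_38_1 (flp_i L624) L615 L884
theorem L892 : sm gg N109 = N91 := ded_43_1 (flp_i L744) (flp_g L621) L884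
theorem L894 : sm gh N77 = N110 := rfl
theorem L896 : sm ga N110 = N81 := ded_15_1 (flp_h L658) (flp_a L626) L894
theorem L898 : sm gb N110 = N110 := ded_22_1 (flp_h L894) L628 L894
theorem L899 : sm gc N110 = N110 := ded_28_1 (flp_h L894) L629 L894
theorem L900 : sm gf N110 = N110 := ded_40_1 (flp_h L894) L631 L894
theorem L901 : sm gg N110 = N92 := ded_42_1 (flp_h L753) (flp_g L632) L894
theorem L903 : sm gi N110 = N110 := ded_44_2 (flp_h L894) (flp_i L624) L442 L624 L894

end Cfsg.Agent.Helper28.FibA
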