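import Cfsg.Agent.Helper28.FibB2

/-! # The Fi₂₂ presentation, cosets of the subgroup generated by b, …, i: the coset enumeration, part 3 (helper28; generated) -/

set_option autoImplicit false

noncomputable section

namespace Cfsg.Agent.Helper28.FibA

open Cfsg.Agent.Helper28.CosetTable

theorem L904 : sm gc N78 = N111 := rfl
theorem L906 : sm ge N111 = N111 := ded_25_2 (flp_c L904) L640 L904
theorem L907 : sm gg N111 = N93 := ded_27_2 (flp_c L762) (flp_g L638) L904
theorem L909 : sm gb N111 = N111 := ded_17_1 (flp_c L904) L636 L466 (flp_b L636) L904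
theorem L910 : sm gd N111 = N111 := ded_24_2 (flp_c L904) (flp_d L634) L448 L634 L904
theorem L911 : sm gh N107 = N111 := ded_42_0 L907 (flp_h L777) (flp_g L872)
theorem L913 : sm gf N78 = N112 := rfl
theorem L915 : sm gb N112 = N82 := ded_20_1 (flp_f L667) (flp_b L636) L913
theorem L917 : sm gd N112 = N79 := ded_31_1 (flp_f L641) L634 L913
theorem L919 : sm gg N112 = N112 := ded_39_2 (flp_f L913) L638 L533 (flp_g L638) L913
theorem L920 : sm gh N78 = N113 := rfl
theorem L922 : sm ga N113 = N111 := ded_15_1 (flp_h L911) L869 L920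
theorem L924 : sm gb N113 = N83 := ded_22_1 (flp_h L674) (flp_b L636) L920
theorem L926 : sm gc N113 = N107 := ded_28_1 L911 (flp_c L904) L920
theorem L928 : sm ge N113 = N113 := ded_37_1 (flp_h L920) L640 L920
theorem L929 : sm gg N113 = N94 := ded_42_1 (flp_h L768) (flp_g L638) L920
theorem L931 : sm gd N113 = N113 := ded_33_1 (flp_h L920) (flp_d L634) L451 L634 L920
theorem L932 : sm gi N78 = N114 := rfl
theorem L934 : sm gb N114 = N84 := ded_23_1 (flp_i L682) (flp_b L636) L932
theorem L936 : sm gd N114 = N80 := ded_34_1 (flp_i L649) L634 L932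
theorem L938 : sm ge N114 = N114 := ded_38_1 (flp_i L932) L640 L932
theorem L939 : sm gg N114 = N95 := ded_43_1 (flp_i L781) (flp_g L638) L932
theorem L941 : sm gi N79 = N115 := rfl
theorem L943 : sm gb N115 = N85 := ded_23_1 (flp_i L691) (flp_b L643) L941
theorem L945 : sm gc N115 = N115 := ded_29_1 (flp_i L941) L645 L941
theorem L946 : sm ge N115 = N115 := ded_38_1 (flp_i L941) L647 L941
theorem L947 : sm gf N115 = N80 := ded_41_1 (flp_i L649) L641 L941
theorem L949 : sm gg N115 = N115 := ded_43_1 (flp_i L941) L648 L941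
theorem L950 : sm gh N80 = N116 := rfl
theorem L952 : sm gb N116 = N86 := ded_22_1 (flp_h L700) (flp_b L651) L950
theorem L954 : sm gc N116 = N116 := ded_28_1 (flp_h L950) L653 L950
theorem L955 : sm ge N116 = N81 := ded_37_1 (flp_h L658) (flp_e L654) L950
theorem L957 : sm gg N116 = N96 := ded_42_1 (flp_h L789) (flp_g L656) L950
theorem L959 : sm gi N116 = N116 := ded_44_2 (flp_h L950) (flp_i L649) L451 L649 L950
theorem L960 : sm gd N81 = N117 := rfl
theorem L962 : sm gb N117 = N87 := ded_18_1 (flp_d L710) (flp_b L660) L960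
theorem L964 : sm gf N117 = N117 := ded_31_2 (flp_d L960) L663 L960
theorem L965 : sm gg N117 = N97 := ded_32_2 (flp_d L798) (flp_g L664) L960
theorem L967 : sm gi N117 = N117 := ded_34_2 (flp_d L960) L666 L960
theorem L968 : sm gh N117 = N117 := ded_33_2 (flp_d L960) (flp_h L658) L457 L658 L960
theorem L969 : sm ge N82 = N118 := rfl
theorem L971 : sm ga N118 = N118 := ded_12_1 (flp_e L969) L669 L969
theorem L972 : sm gc N118 = N118 := ded_25_1 (flp_e L969) L670 L969
theorem L973 : sm gg N118 = N118 := ded_36_2 (flp_e L969) L673 L969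
theorem L974 : sm gd N118 = N118 := ded_30_1 (flp_e L969) L671 L474 (flp_d L671) L969
theorem L975 : sm gf N118 = N118 := ded_35_2 (flp_e L969) (flp_f L667) L467 L667 L969
theorem L976 : sm gh N82 = N119 := rfl
theorem L978 : sm ga N119 = N119 := ded_15_1 (flp_h L976) L669 L976
theorem L979 : sm gc N119 = N119 := ded_28_1 (flp_h L976) L670 L976
theorem L980 : sm gf N119 = N83 := ded_40_1 (flp_h L674) L667 L976
theorem L982 : sm gg N119 = N119 := ded_42_1 (flp_h L976) L673 L976
theorem L983 : sm gd N119 = N119 := ded_33_1 (flp_h L976) L671 L473 (flp_d L671) L976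
theorem L984 : sm gi N82 = N120 := rfl
theorem L986 : sm ga N120 = N120 := ded_16_1 (flp_i L984) L669 L984
theorem L987 : sm gc N120 = N120 := ded_29_1 (flp_i L984) L670 L984
theorem L988 : sm gd N120 = N85 := ded_34_1 (flp_i L691) (flp_d L671) L984
theorem L990 : sm gf N120 = N84 := ded_41_1 (flp_i L682) L667 L984
theorem L992 : sm gg N120 = N120 := ded_43_1 (flp_i L984) L673 L984
theorem L993 : sm gi N83 = N121 := rfl
theorem L995 : sm ga N121 = N121 := ded_16_1 (flp_i L993) L676 L993
theorem L996 : sm gc N121 = N121 := ded_29_1 (flp_i L993) L677 L993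
theorem L997 : sm gd N121 = N121 := ded_34_1 (flp_i L993) L681 L993
theorem L998 : sm ge N121 = N121 := ded_38_1 (flp_i L993) L678 L993
theorem L999 : sm gg N121 = N98 := ded_43_1 (flp_i L806) (flp_g L679) L993
theorem L1001 : sm gh N84 = N122 := rfl
theorem L1003 : sm ga N122 = N122 := ded_15_1 (flp_h L1001) L684 L1001
theorem L1004 : sm gc N122 = N122 := ded_28_1 (flp_h L1001) L685 L1001
theorem L1005 : sm ge N122 = N122 := ded_37_1 (flp_h L1001) L688 L1001
theorem L1006 : sm gg N122 = N99 := ded_42_1 (flp_h L813) (flp_g L689) L1001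
theorem L1008 : sm gh N85 = N123 := rfl
theorem L1010 : sm ga N123 = N123 := ded_15_1 (flp_h L1008) L693 L1008
theorem L1011 : sm gc N123 = N88 := ded_28_1 (flp_h L719) (flp_c L694) L1008
theorem L1013 : sm ge N123 = N123 := ded_37_1 (flp_h L1008) L696 L1008
theorem L1014 : sm gf N123 = N86 := ded_40_1 (flp_h L700) (flp_f L697) L1008
theorem L1016 : sm gg N123 = N123 := ded_42_1 (flp_h L1008) L699 L1008
theorem L1017 : sm gi N123 = N123 := ded_44_2 (flp_h L1008) (flp_i L691) L473 L691 L1008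
theorem L1018 : sm gd N86 = N124 := rfl
theorem L1020 : sm ga N124 = N124 := ded_11_1 (flp_d L1018) L702 L1018
theorem L1021 : sm gg N124 = N100 := ded_32_2 (flp_d L819) (flp_g L707) L1018
theorem L1023 : sm gi N124 = N124 := ded_34_2 (flp_d L1018) L709 L1018
theorem L1024 : sm ge N87 = N125 := rfl
theorem L1026 : sm ga N125 = N125 := ded_12_1 (flp_e L1024) L712 L1024
theorem L1027 : sm gc N125 = N125 := ded_25_1 (flp_e L1024) L717 L1024
theorem L1028 : sm gg N125 = N101 := ded_36_2 (flp_e L824) (flp_g L714) L1024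
theorem L1030 : sm gh N125 = N125 := ded_37_2 (flp_e L1024) L718 L1024
theorem L1031 : sm gi N125 = N125 := ded_38_2 (flp_e L1024) L716 L1024
theorem L1032 : sm gd N88 = N126 := rfl
theorem L1034 : sm ga N126 = N126 := ded_11_1 (flp_d L1032) L721 L1032
theorem L1035 : sm gb N126 = N126 := ded_18_1 (flp_d L1032) L722 L1032
theorem L1036 : sm gf N126 = N89 := ded_31_2 (flp_d L728) (flp_f L724) L1032
theorem L1038 : sm gg N126 = N126 := ded_32_2 (flp_d L1032) L726 L1032
theorem L1039 : sm gi N126 = N126 := ded_34_2 (flp_d L1032) L727 L1032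
theorem L1040 : sm gh N126 = N126 := ded_33_2 (flp_d L1032) (flp_h L719) L498 L719 L1032
theorem L1041 : sm gc N89 = N127 := rfl
theorem L1043 : sm ga N127 = N127 := ded_10_1 (flp_c L1041) L730 L1041
theorem L1044 : sm ge N127 = N127 := ded_25_2 (flp_c L1041) L735 L1041
theorem L1045 : sm gg N127 = N102 := ded_27_2 (flp_c L830) (flp_g L732) L1041
theorem L1047 : sm gh N127 = N127 := ded_28_2 (flp_c L1041) L736 L1041
theorem L1048 : sm gi N127 = N127 := ded_29_2 (flp_c L1041) L734 L1041
theorem L1049 : sm gi N90 = N128 := rfl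
theorem L1051 : sm ga N128 = N95 := ded_16_1 (flp_i L781) (flp_a L739) L1049
theorem L1053 : sm gb N128 = N128 := ded_23_1 (flp_i L1049) L741 L1049
theorem L1054 : sm gd N128 = N91 := ded_34_1 (flp_i L744) L737 L1049
theorem L1056 : sm ge N128 = N128 := ded_38_1 (flp_i L1049) L743 L1049
theorem L1057 : sm gf N128 = N128 := ded_41_1 (flp_i L1049) L742 L1049
theorem L1058 : sm gh N91 = N129 := rfl
theorem L1060 : sm ga N129 = N96 := ded_15_1 (flp_h L789) (flp_a L746) L1058
theorem L1062 : sm gb N129 = N129 := ded_22_1 (flp_h L1058) L748 L1058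
theorem L1063 : sm gc N129 = N129 := ded_28_1 (flp_h L1058) L749 L1058
theorem L1064 : sm ge N129 = N92 := ded_37_1 (flp_h L753) (flp_e L750) L1058
theorem L1066 : sm gf N129 = N129 := ded_40_1 (flp_h L1058) L752 L1058
theorem L1067 : sm gi N129 = N129 := ded_44_2 (flp_h L1058) (flp_i L744) L518 L744 L1058
theorem L1068 : sm gd N92 = N130 := rfl
theorem L1070 : sm ga N130 = N97 := ded_11_1 (flp_d L798) (flp_a L755) L1068
theorem L1072 : sm gb N130 = N130 := ded_18_1 (flp_d L1068) L757 L1068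
theorem L1073 : sm gf N130 = N103 := ded_31_2 (flp_d L837) (flp_f L759) L1068
theorem L1075 : sm gi N130 = N130 := ded_34_2 (flp_d L1068) L761 L1068
theorem L1076 : sm gh N130 = N130 := ded_33_2 (flp_d L1068) (flp_h L753) L526 L753 L1068
theorem L1077 : sm gi N93 = N131 := rfl
theorem L1079 : sm gb N131 = N131 := ded_23_1 (flp_i L1077) L766 L1077
theorem L1080 : sm gc N131 = N95 := ded_29_1 (flp_i L781) L762 L1077
theorem L1082 : sm gd N131 = N131 := ded_34_1 (flp_i L1077) L767 L1077
theorem L1083 : sm ge N131 = N131 := ded_38_1 (flp_i L1077) L764 L1077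
theorem L1084 : sm gf N131 = N131 := ded_41_1 (flp_i L1077) L765 L1077
theorem L1085 : sm gi N94 = N132 := rfl
theorem L1087 : sm ga N132 = N131 := ded_16_1 (flp_i L1077) L775 L1085
theorem L1089 : sm gb N132 = N98 := ded_23_1 (flp_i L806) (flp_b L770) L1085
theorem L1091 : sm gc N132 = N128 := ded_29_1 (flp_i L1049) L779 L1085
theorem L1093 : sm gd N132 = N132 := ded_34_1 (flp_i L1085) L774 L1085
theorem L1094 : sm ge N132 = N132 := ded_38_1 (flp_i L1085) L772 L1085
theorem L1095 : sm gf N132 = N132 := ded_41_1 (flp_i L1085) L773 L1085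
theorem L1096 : sm gh N95 = N133 := rfl
theorem L1098 : sm gb N133 = N99 := ded_22_1 (flp_h L813) (flp_b L783) L1096
theorem L1100 : sm ge N133 = N133 := ded_37_1 (flp_h L1096) L787 L1096
theorem L1101 : sm gf N133 = N133 := ded_40_1 (flp_h L1096) L788 L1096
theorem L1102 : sm gd N96 = N134 := rfl
theorem L1104 : sm gb N134 = N100 := ded_18_1 (flp_d L819) (flp_b L791) L1102
theorem L1106 : sm gf N134 = N134 := ded_31_2 (flp_d L1102) L796 L1102
theorem L1107 : sm gi N134 = N134 := ded_34_2 (flp_d L1102) L797 L1102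
theorem L1108 : sm gc N97 = N135 := rfl
theorem L1110 : sm gf N135 = N104 := ded_26_2 (flp_c L845) (flp_f L802) L1108
theorem L1112 : sm gh N135 = N135 := ded_28_2 (flp_c L1108) L805 L1108
theorem L1113 : sm gi N135 = N135 := ded_29_2 (flp_c L1108) L804 L1108
theorem L1114 : sm gb N135 = N135 := ded_17_1 (flp_c L1108) L800 L581 (flp_b L800) L1108
theorem L1115 : sm gd N135 = N135 := ded_24_2 (flp_c L1108) (flp_d L798) L547 L798 L1108
theorem L1116 : sm ge N97 = N136 := rfl
theorem L1118 : sm gb N136 = N101 := ded_19_1 (flp_e L824) (flp_b L800) L1116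
theorem L1120 : sm gh N136 = N136 := ded_37_2 (flp_e L1116) L805 L1116
theorem L1121 : sm gi N136 = N136 := ded_38_2 (flp_e L1116) L804 L1116
theorem L1122 : sm gh N98 = N137 := rfl
theorem L1124 : sm ga N137 = N137 := ded_15_1 (flp_h L1122) L808 L1122
theorem L1125 : sm gc N137 = N137 := ded_28_1 (flp_h L1122) L809 L1122
theorem L1126 : sm ge N137 = N137 := ded_37_1 (flp_h L1122) L811 L1122
theorem L1127 : sm gf N137 = N137 := ded_40_1 (flp_h L1122) L812 L1122
theorem L1128 : sm gi N137 = N99 := ded_44_2 (flp_h L813) (flp_i L558) L551 L806 L1122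
theorem L1130 : sm gd N99 = N138 := rfl
theorem L1132 : sm ga N138 = N138 := ded_11_1 (flp_d L1130) L815 L1130
theorem L1133 : sm gf N138 = N138 := ded_31_2 (flp_d L1130) L818 L1130
theorem L1134 : sm gh N138 = N100 := ded_33_2 (flp_d L819) (flp_h L566) (flp_d L562) L813 L1130
theorem L1136 : sm gc N100 = N139 := rfl
theorem L1138 : sm ga N139 = N139 := ded_10_1 (flp_c L1136) L821 L1136
theorem L1139 : sm gf N139 = N139 := ded_26_2 (flp_c L1136) L822 L1136
theorem L1140 : sm gi N139 = N139 := ded_29_2 (flp_c L1136) L823 L1136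
theorem L1141 : sm gd N139 = N102 := ded_24_2 (flp_c L830) (flp_d L583) (flp_c L569) L819 L1136
theorem L1143 : sm ge N100 = N140 := rfl
theorem L1145 : sm ga N140 = N140 := ded_12_1 (flp_e L1143) L821 L1143
theorem L1146 : sm gi N140 = N140 := ded_38_2 (flp_e L1143) L823 L1143
theorem L1147 : sm gd N140 = N101 := ded_30_1 (flp_e L824) (flp_d L575) (flp_e L571) L819 L1143
theorem L1149 : sm gf N101 = N141 := rfl
theorem L1151 : sm ga N141 = N141 := ded_13_1 (flp_f L1149) L826 L1149
theorem L1152 : sm gc N141 = N141 := ded_26_1 (flp_f L1149) L827 L1149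
theorem L1153 : sm gh N141 = N141 := ded_40_2 (flp_f L1149) L828 L1149
theorem L1154 : sm gi N141 = N141 := ded_41_2 (flp_f L1149) L829 L1149
theorem L1155 : sm ge N141 = N106 := ded_35_1 (flp_f L860) (flp_e L607) (flp_f L578) L824 L1149
theorem L1157 : sm gb N102 = N142 := rfl
theorem L1159 : sm ge N142 = N142 := ded_19_2 (flp_b L1157) L833 L1157
theorem L1160 : sm gf N142 = N142 := ded_20_2 (flp_b L1157) L834 L1157
theorem L1161 : sm gh N142 = N142 := ded_22_2 (flp_b L1157) L835 L1157
theorem L1162 : sm gi N142 = N142 := ded_23_2 (flp_b L1157) L836 L1157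
theorem L1163 : sm gc N142 = N142 := ded_17_2 (flp_b L1157) (flp_c L830) L586 L830 L1157
theorem L1164 : sm gc N103 = N143 := rfl
theorem L1166 : sm ga N143 = N104 := ded_10_1 (flp_c L845) (flp_a L839) L1164
theorem L1168 : sm gg N143 = N143 := ded_27_2 (flp_c L1164) L842 L1164
theorem L1170 : sm gi N143 = N143 := ded_29_2 (flp_c L1164) L843 L1164
theorem L1172 : sm ge N103 = N144 := rfl
theorem L1174 : sm ga N144 = N105 := ded_12_1 (flp_e L852) (flp_a L839) L1172
theorem L1181 : sm ge N104 = N145 := rfl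
theorem L1184 : sm gc N145 = N105 := ded_25_1 (flp_e L852) L845 L1181
theorem L1189 : sm gf N105 = N146 := rfl
theorem L1191 : sm gb N146 = N106 := ded_20_1 (flp_f L860) (flp_b L854) L1189
theorem L1193 : sm gd N146 = N146 := ded_31_1 (flp_f L1189) L859 L1189
theorem L1194 : sm gh N146 = N146 := ded_40_2 (flp_f L1189) L857 L1189
theorem L1195 : sm gi N146 = N146 := ded_41_2 (flp_f L1189) L858 L1189
theorem L1196 : sm gg N106 = N147 := rfl
theorem L1198 : sm ga N147 = N147 := ded_14_1 (flp_g L1196) L862 L1196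
theorem L1199 : sm gc N147 = N147 := ded_27_1 (flp_g L1196) L863 L1196
theorem L1200 : sm gd N147 = N147 := ded_32_1 (flp_g L1196) L864 L1196
theorem L1201 : sm gh N147 = N147 := ded_42_2 (flp_g L1196) L865 L1196
theorem L1202 : sm gi N147 = N147 := ded_43_2 (flp_g L1196) L866 L1196
theorem L1203 : sm gf N147 = N147 := ded_39_1 (flp_g L1196) (flp_f L860) L611 L860 L1196
theorem L1204 : sm gf N107 = N148 := rfl
theorem L1206 : sm ga N148 = N112 := ded_13_1 (flp_f L913) (flp_a L869) L1204
theorem L1208 : sm gb N148 = N148 := ded_20_1 (flp_f L1204) L871 L1204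
theorem L1209 : sm gd N148 = N108 := ded_31_1 (flp_f L875) L867 L1204
theorem L1211 : sm gg N148 = N148 := ded_39_2 (flp_f L1204) L872 L742 (flp_g L872) L1204
theorem L1212 : sm gi N107 = N149 := rfl
theorem L1214 : sm ga N149 = N114 := ded_16_1 (flp_i L932) (flp_a L869) L1212
theorem L1216 : sm gb N149 = N149 := ded_23_1 (flp_i L1212) L871 L1212
theorem L1217 : sm gd N149 = N109 := ded_34_1 (flp_i L884) L867 L1212
theorem L1219 : sm ge N149 = N149 := ded_38_1 (flp_i L1212) L874 L1212
theorem L1220 : sm gg N149 = N128 := ded_43_1 (flp_i L1049) (flp_g L872) L1212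
theorem L1222 : sm gi N108 = N150 := rfl
theorem L1224 : sm ga N150 = N115 := ded_16_1 (flp_i L941) (flp_a L877) L1222
theorem L1226 : sm gb N150 = N150 := ded_23_1 (flp_i L1222) L879 L1222
theorem L1227 : sm gc N150 = N150 := ded_29_1 (flp_i L1222) L880 L1222
theorem L1228 : sm ge N150 = N150 := ded_38_1 (flp_i L1222) L882 L1222
theorem L1229 : sm gf N150 = N109 := ded_41_1 (flp_i L884) L875 L1222
theorem L1231 : sm gg N150 = N150 := ded_43_1 (flp_i L1222) L883 L1222
theorem L1232 : sm gh N109 = N151 := rfl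
theorem L1234 : sm ga N151 = N116 := ded_15_1 (flp_h L950) (flp_a L886) L1232
theorem L1236 : sm gb N151 = N151 := ded_22_1 (flp_h L1232) L888 L1232
theorem L1237 : sm gc N151 = N151 := ded_28_1 (flp_h L1232) L889 L1232
theorem L1238 : sm ge N151 = N110 := ded_37_1 (flp_h L894) (flp_e L890) L1232
theorem L1240 : sm gg N151 = N129 := ded_42_1 (flp_h L1058) (flp_g L892) L1232
theorem L1242 : sm gi N151 = N151 := ded_44_2 (flp_h L1232) (flp_i L884) L623 L884 L1232
theorem L1243 : sm gd N110 = N152 := rfl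
theorem L1245 : sm ga N152 = N117 := ded_11_1 (flp_d L960) (flp_a L896) L1243
theorem L1247 : sm gb N152 = N152 := ded_18_1 (flp_d L1243) L898 L1243
theorem L1248 : sm gf N152 = N152 := ded_31_2 (flp_d L1243) L900 L1243
theorem L1249 : sm gg N152 = N130 := ded_32_2 (flp_d L1068) (flp_g L901) L1243
theorem L1251 : sm gi N152 = N152 := ded_34_2 (flp_d L1243) L903 L1243
theorem L1252 : sm gh N152 = N152 := ded_33_2 (flp_d L1243) (flp_h L894) L630 L894 L1243
theorem L1253 : sm gf N111 = N153 := rfl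
theorem L1255 : sm gb N153 = N153 := ded_20_1 (flp_f L1253) L909 L1253
theorem L1256 : sm gc N153 = N112 := ded_26_1 (flp_f L913) L904 L1253
theorem L1258 : sm gd N153 = N153 := ded_31_1 (flp_f L1253) L910 L1253
theorem L1259 : sm gh N153 = N148 := ded_40_2 (flp_f L1204) L911 L1253
theorem L1261 : sm gg N153 = N153 := ded_39_2 (flp_f L1253) L907 L765 (flp_g L907) L1253
theorem L1262 : sm gi N111 = N154 := rfl
theorem L1264 : sm gb N154 = N154 := ded_23_1 (flp_i L1262) L909 L1262
theorem L1265 : sm gc N154 = N114 := ded_29_1 (flp_i L932) L904 L1262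
theorem L1267 : sm gd N154 = N154 := ded_34_1 (flp_i L1262) L910 L1262
theorem L1268 : sm ge N154 = N154 := ded_38_1 (flp_i L1262) L906 L1262
theorem L1269 : sm gg N154 = N131 := ded_43_1 (flp_i L1077) (flp_g L907) L1262
theorem L1271 : sm ge N112 = N155 := rfl
theorem L1273 : sm gb N155 = N118 := ded_19_1 (flp_e L969) (flp_b L915) L1271
theorem L1275 : sm gg N155 = N155 := ded_36_2 (flp_e L1271) L919 L1271
theorem L1276 : sm gd N155 = N155 := ded_30_1 (flp_e L1271) L917 L647 (flp_d L917) L1271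
theorem L1277 : sm gf N155 = N155 := ded_35_2 (flp_e L1271) (flp_f L913) L640 L913 L1271
theorem L1278 : sm gh N112 = N156 := rfl
theorem L1280 : sm ga N156 = N153 := ded_15_1 L1259 L1206 L1278
theorem L1282 : sm gb N156 = N119 := ded_22_1 (flp_h L976) (flp_b L915) L1278
theorem L1284 : sm gc N156 = N148 := ded_28_1 (flp_h L1259) L1256 L1278
theorem L1286 : sm gf N156 = N113 := ded_40_1 (flp_h L920) L913 L1278
theorem L1288 : sm gg N156 = N156 := ded_42_1 (flp_h L1278) L919 L1278
theorem L1289 : sm gd N156 = N156 := ded_33_1 (flp_h L1278) L917 L646 (flp_d L917) L1278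
theorem L1290 : sm gi N112 = N157 := rfl
theorem L1292 : sm gb N157 = N120 := ded_23_1 (flp_i L984) (flp_b L915) L1290
theorem L1294 : sm gd N157 = N115 := ded_34_1 (flp_i L941) (flp_d L917) L1290
theorem L1296 : sm gf N157 = N114 := ded_41_1 (flp_i L932) L913 L1290
theorem L1298 : sm gg N157 = N157 := ded_43_1 (flp_i L1290) L919 L1290
theorem L1299 : sm gi N113 = N158 := rfl
theorem L1301 : sm ga N158 = N154 := ded_16_1 (flp_i L1262) (flp_a L922) L1299
theorem L1303 : sm gb N158 = N121 := ded_23_1 (flp_i L993) (flp_b L924) L1299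
theorem L1305 : sm gc N158 = N149 := ded_29_1 (flp_i L1212) (flp_c L926) L1299
theorem L1307 : sm gd N158 = N158 := ded_34_1 (flp_i L1299) L931 L1299
theorem L1308 : sm ge N158 = N158 := ded_38_1 (flp_i L1299) L928 L1299
theorem L1309 : sm gg N158 = N132 := ded_43_1 (flp_i L1085) (flp_g L929) L1299
theorem L1311 : sm gh N114 = N159 := rfl
theorem L1313 : sm gb N159 = N122 := ded_22_1 (flp_h L1001) (flp_b L934) L1311
theorem L1315 : sm ge N159 = N159 := ded_37_1 (flp_h L1311) L938 L1311
theorem L1316 : sm gg N159 = N133 := ded_42_1 (flp_h L1096) (flp_g L939) L1311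
theorem L1318 : sm gh N115 = N160 := rfl
theorem L1320 : sm gb N160 = N123 := ded_22_1 (flp_h L1008) (flp_b L943) L1318
theorem L1322 : sm gc N160 = N160 := ded_28_1 (flp_h L1318) L945 L1318
theorem L1323 : sm ge N160 = N160 := ded_37_1 (flp_h L1318) L946 L1318
theorem L1324 : sm gf N160 = N116 := ded_40_1 (flp_h L950) (flp_f L947) L1318
theorem L1326 : sm gg N160 = N160 := ded_42_1 (flp_h L1318) L949 L1318
theorem L1327 : sm gi N160 = N160 := ded_44_2 (flp_h L1318) (flp_i L941) L646 L941 L1318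
theorem L1328 : sm gd N116 = N161 := rfl
theorem L1330 : sm gb N161 = N124 := ded_18_1 (flp_d L1018) (flp_b L952) L1328
theorem L1332 : sm gg N161 = N134 := ded_32_2 (flp_d L1102) (flp_g L957) L1328
theorem L1334 : sm gi N161 = N161 := ded_34_2 (flp_d L1328) L959 L1328
theorem L1335 : sm gc N117 = N162 := rfl
theorem L1337 : sm gf N162 = N162 := ded_26_2 (flp_c L1335) L964 L1335
theorem L1338 : sm gg N162 = N135 := ded_27_2 (flp_c L1108) (flp_g L965) L1335
theorem L1340 : sm gh N162 = N162 := ded_28_2 (flp_c L1335) L968 L1335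
theorem L1341 : sm gi N162 = N162 := ded_29_2 (flp_c L1335) L967 L1335
theorem L1342 : sm gb N162 = N162 := ded_17_1 (flp_c L1335) L962 L717 (flp_b L962) L1335
theorem L1343 : sm gd N162 = N162 := ded_24_2 (flp_c L1335) (flp_d L960) L662 L960 L1335
theorem L1344 : sm ge N117 = N163 := rfl
theorem L1346 : sm gb N163 = N125 := ded_19_1 (flp_e L1024) (flp_b L962) L1344
theorem L1348 : sm gg N163 = N136 := ded_36_2 (flp_e L1116) (flp_g L965) L1344
theorem L1350 : sm gh N163 = N163 := ded_37_2 (flp_e L1344) L968 L1344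
theorem L1351 : sm gi N163 = N163 := ded_38_2 (flp_e L1344) L967 L1344
theorem L1352 : sm gh N118 = N164 := rfl
theorem L1354 : sm ga N164 = N164 := ded_15_1 (flp_h L1352) L971 L1352
theorem L1355 : sm gc N164 = N164 := ded_28_1 (flp_h L1352) L972 L1352
theorem L1356 : sm ge N164 = N119 := ded_37_1 (flp_h L976) L969 L1352
theorem L1358 : sm gf N164 = N164 := ded_40_1 (flp_h L1352) L975 L1352
theorem L1359 : sm gg N164 = N164 := ded_42_1 (flp_h L1352) L973 L1352
theorem L1360 : sm gi N118 = N165 := rfl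
theorem L1362 : sm ga N165 = N165 := ded_16_1 (flp_i L1360) L971 L1360
theorem L1363 : sm gc N165 = N165 := ded_29_1 (flp_i L1360) L972 L1360
theorem L1364 : sm gd N165 = N165 := ded_34_1 (flp_i L1360) L974 L1360
theorem L1365 : sm ge N165 = N120 := ded_38_1 (flp_i L984) L969 L1360
theorem L1367 : sm gf N165 = N165 := ded_41_1 (flp_i L1360) L975 L1360
theorem L1368 : sm gg N165 = N165 := ded_43_1 (flp_i L1360) L973 L1360
theorem L1369 : sm gi N119 = N166 := rfl
theorem L1371 : sm ga N166 = N166 := ded_16_1 (flp_i L1369) L978 L1369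
theorem L1372 : sm gc N166 = N166 := ded_29_1 (flp_i L1369) L979 L1369
theorem L1373 : sm gd N166 = N166 := ded_34_1 (flp_i L1369) L983 L1369
theorem L1374 : sm gf N166 = N121 := ded_41_1 (flp_i L993) (flp_f L980) L1369
theorem L1376 : sm gg N166 = N166 := ded_43_1 (flp_i L1369) L982 L1369
theorem L1377 : sm gh N120 = N167 := rfl
theorem L1379 : sm ga N167 = N167 := ded_15_1 (flp_h L1377) L986 L1377
theorem L1380 : sm gc N167 = N167 := ded_28_1 (flp_h L1377) L987 L1377
theorem L1381 : sm gf N167 = N122 := ded_40_1 (flp_h L1001) (flp_f L990) L1377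
theorem L1383 : sm gg N167 = N167 := ded_42_1 (flp_h L1377) L992 L1377
theorem L1384 : sm gh N121 = N168 := rfl
theorem L1386 : sm ga N168 = N168 := ded_15_1 (flp_h L1384) L995 L1384
theorem L1387 : sm gc N168 = N168 := ded_28_1 (flp_h L1384) L996 L1384
theorem L1388 : sm ge N168 = N168 := ded_37_1 (flp_h L1384) L998 L1384
theorem L1389 : sm gg N168 = N137 := ded_42_1 (flp_h L1122) (flp_g L999) L1384
theorem L1391 : sm gi N168 = N122 := ded_44_2 (flp_h L1001) (flp_i L682) L674 L993 L1384
theorem L1393 : sm gd N122 = N169 := rfl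
theorem L1395 : sm ga N169 = N169 := ded_11_1 (flp_d L1393) L1003 L1393
theorem L1396 : sm gg N169 = N138 := ded_32_2 (flp_d L1130) (flp_g L1006) L1393
theorem L1398 : sm gh N169 = N124 := ded_33_2 (flp_d L1018) (flp_h L700) (flp_d L686) L1001 L1393
theorem L1400 : sm gd N123 = N170 := rfl
theorem L1402 : sm ga N170 = N170 := ded_11_1 (flp_d L1400) L1010 L1400
theorem L1403 : sm gf N170 = N124 := ded_31_2 (flp_d L1018) (flp_f L1014) L1400
theorem L1405 : sm gg N170 = N170 := ded_32_2 (flp_d L1400) L1016 L1400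
theorem L1406 : sm gi N170 = N170 := ded_34_2 (flp_d L1400) L1017 L1400
theorem L1407 : sm gc N124 = N171 := rfl
theorem L1409 : sm ga N171 = N171 := ded_10_1 (flp_c L1407) L1020 L1407
theorem L1410 : sm gg N171 = N139 := ded_27_2 (flp_c L1136) (flp_g L1021) L1407
theorem L1412 : sm gi N171 = N171 := ded_29_2 (flp_c L1407) L1023 L1407
theorem L1413 : sm gd N171 = N127 := ded_24_2 (flp_c L1041) (flp_d L728) (flp_c L703) L1018 L1407
theorem L1415 : sm ge N124 = N172 := rfl
theorem L1417 : sm ga N172 = N172 := ded_12_1 (flp_e L1415) L1020 L1415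
theorem L1418 : sm gg N172 = N140 := ded_36_2 (flp_e L1143) (flp_g L1021) L1415
theorem L1420 : sm gi N172 = N172 := ded_38_2 (flp_e L1415) L1023 L1415
theorem L1421 : sm gd N172 = N125 := ded_30_1 (flp_e L1024) (flp_d L710) (flp_e L705) L1018 L1415
theorem L1423 : sm gf N125 = N173 := rfl
theorem L1425 : sm ga N173 = N173 := ded_13_1 (flp_f L1423) L1026 L1423
theorem L1426 : sm gc N173 = N173 := ded_26_1 (flp_f L1423) L1027 L1423
theorem L1427 : sm gh N173 = N173 := ded_40_2 (flp_f L1423) L1030 L1423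
theorem L1428 : sm gi N173 = N173 := ded_41_2 (flp_f L1423) L1031 L1423
theorem L1429 : sm ge N173 = N173 := ded_35_1 (flp_f L1423) (flp_e L1024) L713 L1024 L1423
theorem L1430 : sm gc N126 = N174 := rfl
theorem L1432 : sm ga N174 = N174 := ded_10_1 (flp_c L1430) L1034 L1430
theorem L1433 : sm gf N174 = N127 := ded_26_2 (flp_c L1041) (flp_f L1036) L1430
theorem L1435 : sm gg N174 = N174 := ded_27_2 (flp_c L1430) L1038 L1430
theorem L1436 : sm gh N174 = N174 := ded_28_2 (flp_c L1430) L1040 L1430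
theorem L1437 : sm gi N174 = N174 := ded_29_2 (flp_c L1430) L1039 L1430
theorem L1438 : sm ge N126 = N175 := rfl
theorem L1440 : sm ga N175 = N175 := ded_12_1 (flp_e L1438) L1034 L1438
theorem L1441 : sm gb N175 = N175 := ded_19_1 (flp_e L1438) L1035 L1438
theorem L1442 : sm gg N175 = N175 := ded_36_2 (flp_e L1438) L1038 L1438
theorem L1443 : sm gh N175 = N175 := ded_37_2 (flp_e L1438) L1040 L1438
theorem L1444 : sm gi N175 = N175 := ded_38_2 (flp_e L1438) L1039 L1438
theorem L1445 : sm gd N175 = N175 := ded_30_1 (flp_e L1438) (flp_d L1032) L723 L1032 L1438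
theorem L1446 : sm gf N175 = N175 := ded_35_2 (flp_e L1438) L1036 L735 (flp_f L1036) L1438
theorem L1447 : sm gb N127 = N176 := rfl
theorem L1449 : sm ge N176 = N176 := ded_19_2 (flp_b L1447) L1044 L1447
theorem L1450 : sm gg N176 = N142 := ded_21_2 (flp_b L1157) (flp_g L1045) L1447
theorem L1452 : sm gh N176 = N176 := ded_22_2 (flp_b L1447) L1047 L1447
theorem L1453 : sm gi N176 = N176 := ded_23_2 (flp_b L1447) L1048 L1447
theorem L1454 : sm gc N176 = N176 := ded_17_2 (flp_b L1447) (flp_c L1041) L731 L1041 L1447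
theorem L1455 : sm gh N128 = N177 := rfl
theorem L1457 : sm ga N177 = N133 := ded_15_1 (flp_h L1096) (flp_a L1051) L1455
theorem L1459 : sm gb N177 = N177 := ded_22_1 (flp_h L1455) L1053 L1455
theorem L1460 : sm ge N177 = N177 := ded_37_1 (flp_h L1455) L1056 L1455
theorem L1461 : sm gf N177 = N177 := ded_40_1 (flp_h L1455) L1057 L1455
theorem L1462 : sm gd N129 = N178 := rfl
theorem L1464 : sm ga N178 = N134 := ded_11_1 (flp_d L1102) (flp_a L1060) L1462
theorem L1466 : sm gb N178 = N178 := ded_18_1 (flp_d L1462) L1062 L1462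
theorem L1467 : sm gf N178 = N178 := ded_31_2 (flp_d L1462) L1066 L1462
theorem L1468 : sm gi N178 = N178 := ded_34_2 (flp_d L1462) L1067 L1462
theorem L1469 : sm gc N130 = N179 := rfl
theorem L1471 : sm ga N179 = N135 := ded_10_1 (flp_c L1108) (flp_a L1070) L1469
theorem L1473 : sm gf N179 = N143 := ded_26_2 (flp_c L1164) (flp_f L1073) L1469
theorem L1476 : sm gi N179 = N179 := ded_29_2 (flp_c L1469) L1075 L1469
theorem L1478 : sm ge N130 = N180 := rfl
theorem L1480 : sm ga N180 = N136 := ded_12_1 (flp_e L1116) (flp_a L1070) L1478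
theorem L1482 : sm gb N180 = N180 := ded_19_1 (flp_e L1478) L1072 L1478
theorem L1483 : sm gh N180 = N180 := ded_37_2 (flp_e L1478) L1076 L1478
theorem L1484 : sm gi N180 = N180 := ded_38_2 (flp_e L1478) L1075 L1478
theorem L1485 : sm gh N131 = N181 := rfl
theorem L1487 : sm gb N181 = N181 := ded_22_1 (flp_h L1485) L1079 L1485
theorem L1488 : sm gc N181 = N133 := ded_28_1 (flp_h L1096) (flp_c L1080) L1485
theorem L1490 : sm ge N181 = N181 := ded_37_1 (flp_h L1485) L1083 L1485
theorem L1491 : sm gf N181 = N181 := ded_40_1 (flp_h L1485) L1084 L1485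
theorem L1492 : sm gi N181 = N177 := ded_44_2 (flp_h L1455) (flp_i L1049) L777 L1077 L1485
theorem L1494 : sm gh N132 = N182 := rfl
theorem L1496 : sm ga N182 = N181 := ded_15_1 (flp_h L1485) (flp_a L1087) L1494
theorem L1498 : sm gb N182 = N137 := ded_22_1 (flp_h L1122) (flp_b L1089) L1494
theorem L1500 : sm gc N182 = N177 := ded_28_1 (flp_h L1455) (flp_c L1091) L1494
theorem L1502 : sm ge N182 = N182 := ded_37_1 (flp_h L1494) L1094 L1494
theorem L1503 : sm gf N182 = N182 := ded_40_1 (flp_h L1494) L1095 L1494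
theorem L1504 : sm gi N182 = N133 := ded_44_2 (flp_h L1096) (flp_i L781) L768 L1085 L1494
theorem L1506 : sm gd N133 = N183 := rfl
theorem L1508 : sm gb N183 = N138 := ded_18_1 (flp_d L1130) (flp_b L1098) L1506
theorem L1510 : sm gf N183 = N183 := ded_31_2 (flp_d L1506) L1101 L1506
theorem L1511 : sm gh N183 = N134 := ded_33_2 (flp_d L1102) (flp_h L789) (flp_d L785) L1096 L1506
theorem L1513 : sm gc N134 = N184 := rfl
theorem L1515 : sm gf N184 = N184 := ded_26_2 (flp_c L1513) L1106 L1513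
theorem L1516 : sm gi N184 = N184 := ded_29_2 (flp_c L1513) L1107 L1513
theorem L1517 : sm gd N184 = N184 := ded_24_2 (flp_c L1513) (flp_d L1102) L793 L1102 L1513
theorem L1518 : sm ge N134 = N185 := rfl
theorem L1520 : sm gb N185 = N140 := ded_19_1 (flp_e L1143) (flp_b L1104) L1518
theorem L1522 : sm gi N185 = N185 := ded_38_2 (flp_e L1518) L1107 L1518
theorem L1523 : sm gd N185 = N136 := ded_30_1 (flp_e L1116) (flp_d L798) (flp_e L794) L1102 L1518
theorem L1525 : sm ge N135 = N186 := rfl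
theorem L1527 : sm gb N186 = N186 := ded_19_1 (flp_e L1525) L1114 L1525
theorem L1528 : sm gc N186 = N136 := ded_25_1 (flp_e L1116) L1108 L1525
theorem L1530 : sm gh N186 = N186 := ded_37_2 (flp_e L1525) L1112 L1525
theorem L1531 : sm gi N186 = N186 := ded_38_2 (flp_e L1525) L1113 L1525
theorem L1532 : sm gf N136 = N187 := rfl
theorem L1534 : sm gb N187 = N141 := ded_20_1 (flp_f L1149) (flp_b L1118) L1532
theorem L1536 : sm gh N187 = N187 := ded_40_2 (flp_f L1532) L1120 L1532
theorem L1537 : sm gi N187 = N187 := ded_41_2 (flp_f L1532) L1121 L1532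
theorem L1538 : sm ge N187 = N146 := ded_35_1 (flp_f L1189) (flp_e L852) (flp_f L802) L1116 L1532
theorem L1540 : sm gd N137 = N188 := rfl
theorem L1542 : sm ga N188 = N188 := ded_11_1 (flp_d L1540) L1124 L1540
theorem L1543 : sm gf N188 = N188 := ded_31_2 (flp_d L1540) L1127 L1540
theorem L1544 : sm gi N188 = N138 := ded_34_2 (flp_d L1130) (flp_i L1128) L1540
theorem L1546 : sm gh N188 = N188 := ded_33_2 (flp_d L1540) (flp_h L1122) L810 L1122 L1540
theorem L1547 : sm gc N138 = N189 := rfl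
theorem L1549 : sm ga N189 = N189 := ded_10_1 (flp_c L1547) L1132 L1547
theorem L1550 : sm gf N189 = N189 := ded_26_2 (flp_c L1547) L1133 L1547
theorem L1551 : sm gh N189 = N139 := ded_28_2 (flp_c L1136) (flp_h L1134) L1547
theorem L1553 : sm gd N189 = N189 := ded_24_2 (flp_c L1547) (flp_d L1130) L816 L1130 L1547
theorem L1554 : sm ge N138 = N190 := rfl
theorem L1556 : sm ga N190 = N190 := ded_12_1 (flp_e L1554) L1132 L1554
theorem L1557 : sm gh N190 = N140 := ded_37_2 (flp_e L1143) (flp_h L1134) L1554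
theorem L1559 : sm gd N190 = N190 := ded_30_1 (flp_e L1554) (flp_d L1130) L817 L1130 L1554
theorem L1560 : sm gb N139 = N191 := rfl
theorem L1562 : sm gd N191 = N142 := ded_18_2 (flp_b L1157) (flp_d L1141) L1560
theorem L1564 : sm gf N191 = N191 := ded_20_2 (flp_b L1560) L1139 L1560
theorem L1565 : sm gi N191 = N191 := ded_23_2 (flp_b L1560) L1140 L1560
theorem L1566 : sm ge N139 = N192 := rfl
theorem L1568 : sm ga N192 = N192 := ded_12_1 (flp_e L1566) L1138 L1566
theorem L1569 : sm gc N192 = N140 := ded_25_1 (flp_e L1143) L1136 L1566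
theorem L1571 : sm gi N192 = N192 := ded_38_2 (flp_e L1566) L1140 L1566
theorem L1572 : sm gd N192 = N192 := ded_30_1 (flp_e L1566) L1141 L833 (flp_d L1141) L1566
theorem L1573 : sm gf N140 = N193 := rfl
theorem L1575 : sm ga N193 = N193 := ded_13_1 (flp_f L1573) L1145 L1573
theorem L1576 : sm gd N193 = N141 := ded_31_1 (flp_f L1149) (flp_d L1147) L1573
theorem L1578 : sm gi N193 = N193 := ded_41_2 (flp_f L1573) L1146 L1573
theorem L1579 : sm ge N193 = N193 := ded_35_1 (flp_f L1573) (flp_e L1143) L822 L1143 L1573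
theorem L1580 : sm gg N141 = N194 := rfl
theorem L1582 : sm ga N194 = N194 := ded_14_1 (flp_g L1580) L1151 L1580
theorem L1583 : sm gc N194 = N194 := ded_27_1 (flp_g L1580) L1152 L1580
theorem L1584 : sm ge N194 = N147 := ded_36_1 (flp_g L1196) (flp_e L1155) L1580
theorem L1586 : sm gh N194 = N194 := ded_42_2 (flp_g L1580) L1153 L1580
theorem L1587 : sm gi N194 = N194 := ded_43_2 (flp_g L1580) L1154 L1580
theorem L1588 : sm ga N142 = N195 := rfl
theorem L1590 : sm gc N195 = N195 := ded_10_2 (flp_a L1588) L1163 L1588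
theorem L1591 : sm ge N195 = N195 := ded_12_2 (flp_a L1588) L1159 L1588
theorem L1592 : sm gf N195 = N195 := ded_13_2 (flp_a L1588) L1160 L1588
theorem L1593 : sm gh N195 = N195 := ded_15_2 (flp_a L1588) L1161 L1588
theorem L1594 : sm gi N195 = N195 := ded_16_2 (flp_a L1588) L1162 L1588
theorem L1595 : sm gb N195 = N195 := ded_9_2 (flp_a L1588) (flp_b L1157) L832 L1157 L1588
theorem L1596 : sm gb N143 = N196 := rfl
theorem L1599 : sm gg N196 = N196 := ded_21_2 (flp_b L1596) L1168 L1596
theorem L1601 : sm gi N196 = N196 := ded_23_2 (flp_b L1596) L1170 L1596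
theorem L1604 : sm ge N143 = N197 := rfl
theorem L1606 : sm ga N197 = N145 := ded_12_1 (flp_e L1181) (flp_a L1166) L1604
theorem L1610 : sm gg N197 = N197 := ded_36_2 (flp_e L1604) L1168 L1604
theorem L1612 : sm gi N197 = N197 := ded_38_2 (flp_e L1604) L1170 L1604
theorem L1613 : sm gf N144 = N198 := rfl
theorem L1615 : sm ga N198 = N146 := ded_13_1 (flp_f L1189) (flp_a L1174) L1613
theorem L1621 : sm gd N145 = N199 := rfl
theorem L1628 : sm gf N145 = N200 := rfl
theorem L1631 : sm gc N200 = N146 := ded_26_1 (flp_f L1189) (flp_c L1184) L1628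
theorem L1635 : sm gg N146 = N201 := rfl
theorem L1637 : sm gb N201 = N147 := ded_21_1 (flp_g L1196) (flp_b L1191) L1635
theorem L1639 : sm gd N201 = N201 := ded_32_1 (flp_g L1635) L1193 L1635
theorem L1640 : sm gh N201 = N201 := ded_42_2 (flp_g L1635) L1194 L1635
theorem L1641 : sm gi N201 = N201 := ded_43_2 (flp_g L1635) L1195 L1635
theorem L1642 : sm gf N201 = N201 := ded_39_1 (flp_g L1635) (flp_f L1189) L856 L1189 L1635
theorem L1643 : sm ge N148 = N202 := rfl
theorem L1645 : sm ga N202 = N155 := ded_12_1 (flp_e L1271) (flp_a L1206) L1643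
theorem L1647 : sm gb N202 = N202 := ded_19_1 (flp_e L1643) L1208 L1643
theorem L1648 : sm gg N202 = N202 := ded_36_2 (flp_e L1643) L1211 L1643
theorem L1649 : sm gd N202 = N202 := ded_30_1 (flp_e L1643) L1209 L882 (flp_d L1209) L1643
theorem L1650 : sm gf N202 = N202 := ded_35_2 (flp_e L1643) (flp_f L1204) L874 L1204 L1643
theorem L1651 : sm gi N148 = N203 := rfl
theorem L1653 : sm ga N203 = N157 := ded_16_1 (flp_i L1290) (flp_a L1206) L1651
theorem L1655 : sm gb N203 = N203 := ded_23_1 (flp_i L1651) L1208 L1651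
theorem L1656 : sm gd N203 = N150 := ded_34_1 (flp_i L1222) (flp_d L1209) L1651
theorem L1658 : sm gf N203 = N149 := ded_41_1 (flp_i L1212) L1204 L1651
theorem L1660 : sm gg N203 = N203 := ded_43_1 (flp_i L1651) L1211 L1651
theorem L1661 : sm gh N149 = N204 := rfl
theorem L1663 : sm ga N204 = N159 := ded_15_1 (flp_h L1311) (flp_a L1214) L1661
theorem L1665 : sm gb N204 = N204 := ded_22_1 (flp_h L1661) L1216 L1661
theorem L1666 : sm ge N204 = N204 := ded_37_1 (flp_h L1661) L1219 L1661
theorem L1667 : sm gg N204 = N177 := ded_42_1 (flp_h L1455) (flp_g L1220) L1661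
theorem L1669 : sm gh N150 = N205 := rfl
theorem L1671 : sm ga N205 = N160 := ded_15_1 (flp_h L1318) (flp_a L1224) L1669
theorem L1673 : sm gb N205 = N205 := ded_22_1 (flp_h L1669) L1226 L1669
theorem L1674 : sm gc N205 = N205 := ded_28_1 (flp_h L1669) L1227 L1669
theorem L1675 : sm ge N205 = N205 := ded_37_1 (flp_h L1669) L1228 L1669
theorem L1676 : sm gf N205 = N151 := ded_40_1 (flp_h L1232) (flp_f L1229) L1669
theorem L1678 : sm gg N205 = N205 := ded_42_1 (flp_h L1669) L1231 L1669
theorem L1679 : sm gi N205 = N205 := ded_44_2 (flp_h L1669) (flp_i L1222) L881 L1222 L1669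
theorem L1680 : sm gd N151 = N206 := rfl
theorem L1682 : sm ga N206 = N161 := ded_11_1 (flp_d L1328) (flp_a L1234) L1680
theorem L1684 : sm gb N206 = N206 := ded_18_1 (flp_d L1680) L1236 L1680
theorem L1685 : sm gg N206 = N178 := ded_32_2 (flp_d L1462) (flp_g L1240) L1680
theorem L1687 : sm gi N206 = N206 := ded_34_2 (flp_d L1680) L1242 L1680
theorem L1688 : sm gc N152 = N207 := rfl
theorem L1690 : sm ga N207 = N162 := ded_10_1 (flp_c L1335) (flp_a L1245) L1688
theorem L1693 : sm gg N207 = N179 := ded_27_2 (flp_c L1469) (flp_g L1249) L1688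
theorem L1696 : sm gi N207 = N207 := ded_29_2 (flp_c L1688) L1251 L1688
theorem L1698 : sm ge N152 = N208 := rfl
theorem L1700 : sm ga N208 = N163 := ded_12_1 (flp_e L1344) (flp_a L1245) L1698
theorem L1702 : sm gb N208 = N208 := ded_19_1 (flp_e L1698) L1247 L1698
theorem L1703 : sm gg N208 = N180 := ded_36_2 (flp_e L1478) (flp_g L1249) L1698
theorem L1705 : sm gh N208 = N208 := ded_37_2 (flp_e L1698) L1252 L1698
theorem L1706 : sm gi N208 = N208 := ded_38_2 (flp_e L1698) L1251 L1698
theorem L1707 : sm ge N153 = N209 := rfl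
theorem L1709 : sm gb N209 = N209 := ded_19_1 (flp_e L1707) L1255 L1707
theorem L1710 : sm gc N209 = N155 := ded_25_1 (flp_e L1271) (flp_c L1256) L1707
theorem L1712 : sm gg N209 = N209 := ded_36_2 (flp_e L1707) L1261 L1707
theorem L1713 : sm gh N209 = N202 := ded_37_2 (flp_e L1643) (flp_h L1259) L1707
theorem L1715 : sm gf N209 = N209 := ded_35_2 (flp_e L1707) (flp_f L1253) L906 L1253 L1707
theorem L1716 : sm gi N153 = N210 := rfl
theorem L1718 : sm gb N210 = N210 := ded_23_1 (flp_i L1716) L1255 L1716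
theorem L1719 : sm gc N210 = N157 := ded_29_1 (flp_i L1290) (flp_c L1256) L1716
theorem L1721 : sm gd N210 = N210 := ded_34_1 (flp_i L1716) L1258 L1716
theorem L1722 : sm gf N210 = N154 := ded_41_1 (flp_i L1262) L1253 L1716
theorem L1724 : sm gg N210 = N210 := ded_43_1 (flp_i L1716) L1261 L1716
theorem L1725 : sm gh N154 = N211 := rfl
theorem L1727 : sm gb N211 = N211 := ded_22_1 (flp_h L1725) L1264 L1725
theorem L1728 : sm gc N211 = N159 := ded_28_1 (flp_h L1311) (flp_c L1265) L1725
theorem L1730 : sm ge N211 = N211 := ded_37_1 (flp_h L1725) L1268 L1725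
theorem L1731 : sm gg N211 = N181 := ded_42_1 (flp_h L1485) (flp_g L1269) L1725
theorem L1733 : sm gi N211 = N204 := ded_44_2 (flp_h L1661) (flp_i L1212) L911 L1262 L1725
theorem L1735 : sm gh N155 = N212 := rfl
theorem L1737 : sm ga N212 = N209 := ded_15_1 L1713 L1645 L1735
theorem L1739 : sm gb N212 = N164 := ded_22_1 (flp_h L1352) (flp_b L1273) L1735
theorem L1741 : sm gc N212 = N202 := ded_28_1 (flp_h L1713) L1710 L1735
theorem L1743 : sm ge N212 = N156 := ded_37_1 (flp_h L1278) L1271 L1735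
theorem L1745 : sm gf N212 = N212 := ded_40_1 (flp_h L1735) L1277 L1735
theorem L1746 : sm gg N212 = N212 := ded_42_1 (flp_h L1735) L1275 L1735
theorem L1747 : sm gi N155 = N213 := rfl
theorem L1749 : sm gb N213 = N165 := ded_23_1 (flp_i L1360) (flp_b L1273) L1747
theorem L1751 : sm gd N213 = N213 := ded_34_1 (flp_i L1747) L1276 L1747
theorem L1752 : sm ge N213 = N157 := ded_38_1 (flp_i L1290) L1271 L1747
theorem L1754 : sm gf N213 = N213 := ded_41_1 (flp_i L1747) L1277 L1747
theorem L1755 : sm gg N213 = N213 := ded_43_1 (flp_i L1747) L1275 L1747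
theorem L1756 : sm gi N156 = N214 := rfl
theorem L1758 : sm ga N214 = N210 := ded_16_1 (flp_i L1716) (flp_a L1280) L1756
theorem L1760 : sm gb N214 = N166 := ded_23_1 (flp_i L1369) (flp_b L1282) L1756
theorem L1762 : sm gc N214 = N203 := ded_29_1 (flp_i L1651) (flp_c L1284) L1756
theorem L1764 : sm gd N214 = N214 := ded_34_1 (flp_i L1756) L1289 L1756
theorem L1765 : sm gf N214 = N158 := ded_41_1 (flp_i L1299) (flp_f L1286) L1756
theorem L1767 : sm gg N214 = N214 := ded_43_1 (flp_i L1756) L1288 L1756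
theorem L1768 : sm gh N157 = N215 := rfl
theorem L1770 : sm gb N215 = N167 := ded_22_1 (flp_h L1377) (flp_b L1292) L1768
theorem L1772 : sm gf N215 = N159 := ded_40_1 (flp_h L1311) (flp_f L1296) L1768
theorem L1774 : sm gg N215 = N215 := ded_42_1 (flp_h L1768) L1298 L1768
theorem L1775 : sm gh N158 = N216 := rfl
theorem L1777 : sm ga N216 = N211 := ded_15_1 (flp_h L1725) (flp_a L1301) L1775
theorem L1779 : sm gb N216 = N168 := ded_22_1 (flp_h L1384) (flp_b L1303) L1775
theorem L1781 : sm gc N216 = N204 := ded_28_1 (flp_h L1661) (flp_c L1305) L1775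
theorem L1783 : sm ge N216 = N216 := ded_37_1 (flp_h L1775) L1308 L1775
theorem L1784 : sm gg N216 = N182 := ded_42_1 (flp_h L1494) (flp_g L1309) L1775
theorem L1786 : sm gi N216 = N159 := ded_44_2 (flp_h L1311) (flp_i L932) L920 L1299 L1775
theorem L1788 : sm gd N159 = N217 := rfl
theorem L1790 : sm gb N217 = N169 := ded_18_1 (flp_d L1393) (flp_b L1313) L1788
theorem L1792 : sm gg N217 = N183 := ded_32_2 (flp_d L1506) (flp_g L1316) L1788
theorem L1794 : sm gh N217 = N161 := ded_33_2 (flp_d L1328) (flp_h L950) (flp_d L936) L1311 L1788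
theorem L1796 : sm gd N160 = N218 := rfl
theorem L1798 : sm gb N218 = N170 := ded_18_1 (flp_d L1400) (flp_b L1320) L1796
theorem L1800 : sm gf N218 = N161 := ded_31_2 (flp_d L1328) (flp_f L1324) L1796
theorem L1802 : sm gg N218 = N218 := ded_32_2 (flp_d L1796) L1326 L1796
theorem L1803 : sm gi N218 = N218 := ded_34_2 (flp_d L1796) L1327 L1796
theorem L1804 : sm gc N161 = N219 := rfl
theorem L1806 : sm gg N219 = N184 := ded_27_2 (flp_c L1513) (flp_g L1332) L1804
theorem L1808 : sm gi N219 = N219 := ded_29_2 (flp_c L1804) L1334 L1804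
theorem L1809 : sm gd N219 = N219 := ded_24_2 (flp_c L1804) (flp_d L1328) L954 L1328 L1804
theorem L1810 : sm ge N161 = N220 := rfl
theorem L1812 : sm gb N220 = N172 := ded_19_1 (flp_e L1415) (flp_b L1330) L1810
theorem L1814 : sm gg N220 = N185 := ded_36_2 (flp_e L1518) (flp_g L1332) L1810
theorem L1816 : sm gi N220 = N220 := ded_38_2 (flp_e L1810) L1334 L1810
theorem L1817 : sm gd N220 = N163 := ded_30_1 (flp_e L1344) (flp_d L960) (flp_e L955) L1328 L1810
theorem L1819 : sm ge N162 = N221 := rfl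
theorem L1821 : sm gb N221 = N221 := ded_19_1 (flp_e L1819) L1342 L1819
theorem L1822 : sm gc N221 = N163 := ded_25_1 (flp_e L1344) L1335 L1819
theorem L1824 : sm gg N221 = N186 := ded_36_2 (flp_e L1525) (flp_g L1338) L1819
theorem L1826 : sm gh N221 = N221 := ded_37_2 (flp_e L1819) L1340 L1819
theorem L1827 : sm gi N221 = N221 := ded_38_2 (flp_e L1819) L1341 L1819
theorem L1828 : sm gf N163 = N222 := rfl
theorem L1830 : sm gb N222 = N173 := ded_20_1 (flp_f L1423) (flp_b L1346) L1828
theorem L1832 : sm gh N222 = N222 := ded_40_2 (flp_f L1828) L1350 L1828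
theorem L1833 : sm gi N222 = N222 := ded_41_2 (flp_f L1828) L1351 L1828
theorem L1834 : sm ge N222 = N222 := ded_35_1 (flp_f L1828) (flp_e L1344) L964 L1344 L1828
theorem L1835 : sm gd N164 = N223 := rfl
theorem L1837 : sm ga N223 = N223 := ded_11_1 (flp_d L1835) L1354 L1835
theorem L1838 : sm gf N223 = N223 := ded_31_2 (flp_d L1835) L1358 L1835
theorem L1839 : sm gg N223 = N223 := ded_32_2 (flp_d L1835) L1359 L1835
theorem L1840 : sm ge N223 = N223 := ded_30_2 (flp_d L1835) L1356 L983 (flp_e L1356) L1835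
theorem L1841 : sm gh N223 = N223 := ded_33_2 (flp_d L1835) (flp_h L1352) L974 L1352 L1835
theorem L1842 : sm gi N164 = N224 := rfl
theorem L1844 : sm ga N224 = N224 := ded_16_1 (flp_i L1842) L1354 L1842
theorem L1845 : sm gc N224 = N224 := ded_29_1 (flp_i L1842) L1355 L1842
theorem L1846 : sm ge N224 = N166 := ded_38_1 (flp_i L1369) (flp_e L1356) L1842
theorem L1848 : sm gf N224 = N224 := ded_41_1 (flp_i L1842) L1358 L1842
theorem L1849 : sm gg N224 = N224 := ded_43_1 (flp_i L1842) L1359 L1842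
theorem L1850 : sm gh N165 = N225 := rfl
theorem L1852 : sm ga N225 = N225 := ded_15_1 (flp_h L1850) L1362 L1850
theorem L1853 : sm gc N225 = N225 := ded_28_1 (flp_h L1850) L1363 L1850
theorem L1854 : sm ge N225 = N167 := ded_37_1 (flp_h L1377) (flp_e L1365) L1850
theorem L1856 : sm gf N225 = N225 := ded_40_1 (flp_h L1850) L1367 L1850
theorem L1857 : sm gg N225 = N225 := ded_42_1 (flp_h L1850) L1368 L1850
theorem L1858 : sm gh N166 = N226 := rfl
theorem L1860 : sm ga N226 = N226 := ded_15_1 (flp_h L1858) L1371 L1858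
theorem L1861 : sm gc N226 = N226 := ded_28_1 (flp_h L1858) L1372 L1858
theorem L1862 : sm gf N226 = N168 := ded_40_1 (flp_h L1384) (flp_f L1374) L1858
theorem L1864 : sm gg N226 = N226 := ded_42_1 (flp_h L1858) L1376 L1858
theorem L1865 : sm gi N226 = N167 := ded_44_2 (flp_h L1377) (flp_i L984) L976 L1369 L1858
theorem L1867 : sm gd N167 = N227 := rfl
theorem L1869 : sm ga N227 = N227 := ded_11_1 (flp_d L1867) L1379 L1867
theorem L1870 : sm gf N227 = N169 := ded_31_2 (flp_d L1393) (flp_f L1381) L1867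
theorem L1872 : sm gg N227 = N227 := ded_32_2 (flp_d L1867) L1383 L1867
theorem L1873 : sm gh N227 = N170 := ded_33_2 (flp_d L1400) (flp_h L1008) (flp_d L988) L1377 L1867
theorem L1875 : sm gd N168 = N228 := rfl
theorem L1877 : sm ga N228 = N228 := ded_11_1 (flp_d L1875) L1386 L1875
theorem L1878 : sm gg N228 = N188 := ded_32_2 (flp_d L1540) (flp_g L1389) L1875
theorem L1880 : sm gi N228 = N169 := ded_34_2 (flp_d L1393) (flp_i L1391) L1875
theorem L1882 : sm gh N228 = N228 := ded_33_2 (flp_d L1875) (flp_h L1384) L997 L1384 L1875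
theorem L1883 : sm gc N169 = N229 := rfl
theorem L1885 : sm ga N229 = N229 := ded_10_1 (flp_c L1883) L1395 L1883
theorem L1886 : sm gg N229 = N189 := ded_27_2 (flp_c L1547) (flp_g L1396) L1883
theorem L1888 : sm gh N229 = N171 := ded_28_2 (flp_c L1407) (flp_h L1398) L1883
theorem L1890 : sm gd N229 = N229 := ded_24_2 (flp_c L1883) (flp_d L1393) L1004 L1393 L1883
theorem L1891 : sm ge N169 = N230 := rfl
theorem L1893 : sm ga N230 = N230 := ded_12_1 (flp_e L1891) L1395 L1891
theorem L1894 : sm gg N230 = N190 := ded_36_2 (flp_e L1554) (flp_g L1396) L1891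
theorem L1896 : sm gh N230 = N172 := ded_37_2 (flp_e L1415) (flp_h L1398) L1891
theorem L1898 : sm gd N230 = N230 := ded_30_1 (flp_e L1891) (flp_d L1393) L1005 L1393 L1891
theorem L1899 : sm gc N170 = N231 := rfl
theorem L1901 : sm ga N231 = N231 := ded_10_1 (flp_c L1899) L1402 L1899
theorem L1902 : sm gf N231 = N171 := ded_26_2 (flp_c L1407) (flp_f L1403) L1899
theorem L1904 : sm gg N231 = N231 := ded_27_2 (flp_c L1899) L1405 L1899
theorem L1905 : sm gi N231 = N231 := ded_29_2 (flp_c L1899) L1406 L1899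
theorem L1906 : sm gd N231 = N174 := ded_24_2 (flp_c L1430) (flp_d L1032) (flp_c L1011) L1400 L1899
theorem L1908 : sm ge N170 = N232 := rfl
theorem L1910 : sm ga N232 = N232 := ded_12_1 (flp_e L1908) L1402 L1908
theorem L1911 : sm gg N232 = N232 := ded_36_2 (flp_e L1908) L1405 L1908
theorem L1912 : sm gi N232 = N232 := ded_38_2 (flp_e L1908) L1406 L1908
theorem L1913 : sm gd N232 = N232 := ded_30_1 (flp_e L1908) (flp_d L1400) L1013 L1400 L1908
theorem L1914 : sm gb N171 = N233 := rfl
theorem L1916 : sm gd N233 = N176 := ded_18_2 (flp_b L1447) (flp_d L1413) L1914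
theorem L1918 : sm gg N233 = N191 := ded_21_2 (flp_b L1560) (flp_g L1410) L1914
theorem L1920 : sm gi N233 = N233 := ded_23_2 (flp_b L1914) L1412 L1914
theorem L1921 : sm ge N171 = N234 := rfl
theorem L1923 : sm ga N234 = N234 := ded_12_1 (flp_e L1921) L1409 L1921
theorem L1924 : sm gc N234 = N172 := ded_25_1 (flp_e L1415) L1407 L1921
theorem L1926 : sm gg N234 = N192 := ded_36_2 (flp_e L1566) (flp_g L1410) L1921
theorem L1928 : sm gi N234 = N234 := ded_38_2 (flp_e L1921) L1412 L1921
theorem L1929 : sm gd N234 = N234 := ded_30_1 (flp_e L1921) L1413 L1044 (flp_d L1413) L1921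
theorem L1930 : sm gf N172 = N235 := rfl
theorem L1932 : sm ga N235 = N235 := ded_13_1 (flp_f L1930) L1417 L1930
theorem L1933 : sm gd N235 = N173 := ded_31_1 (flp_f L1423) (flp_d L1421) L1930
theorem L1935 : sm gi N235 = N235 := ded_41_2 (flp_f L1930) L1420 L1930
theorem L1936 : sm gg N173 = N236 := rfl
theorem L1938 : sm ga N236 = N236 := ded_14_1 (flp_g L1936) L1425 L1936
theorem L1939 : sm gc N236 = N236 := ded_27_1 (flp_g L1936) L1426 L1936
theorem L1940 : sm ge N236 = N236 := ded_36_1 (flp_g L1936) L1429 L1936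
theorem L1941 : sm gh N236 = N236 := ded_42_2 (flp_g L1936) L1427 L1936
theorem L1942 : sm gi N236 = N236 := ded_43_2 (flp_g L1936) L1428 L1936
theorem L1943 : sm gf N236 = N194 := ded_39_1 (flp_g L1580) (flp_f L1149) (flp_g L1028) L1423 L1936
theorem L1945 : sm gb N174 = N237 := rfl
theorem L1947 : sm gf N237 = N176 := ded_20_2 (flp_b L1447) (flp_f L1433) L1945
theorem L1949 : sm gg N237 = N237 := ded_21_2 (flp_b L1945) L1435 L1945
theorem L1950 : sm gh N237 = N237 := ded_22_2 (flp_b L1945) L1436 L1945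
theorem L1951 : sm gi N237 = N237 := ded_23_2 (flp_b L1945) L1437 L1945
theorem L1952 : sm gc N237 = N237 := ded_17_2 (flp_b L1945) (flp_c L1430) L1035 L1430 L1945
theorem L1953 : sm ge N174 = N238 := rfl
theorem L1955 : sm ga N238 = N238 := ded_12_1 (flp_e L1953) L1432 L1953
theorem L1956 : sm gc N238 = N175 := ded_25_1 (flp_e L1438) L1430 L1953
theorem L1958 : sm gg N238 = N238 := ded_36_2 (flp_e L1953) L1435 L1953
theorem L1959 : sm gh N238 = N238 := ded_37_2 (flp_e L1953) L1436 L1953
theorem L1960 : sm gi N238 = N238 := ded_38_2 (flp_e L1953) L1437 L1953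
theorem L1961 : sm gf N238 = N238 := ded_35_2 (flp_e L1953) L1433 L1044 (flp_f L1433) L1953
theorem L1962 : sm ga N176 = N239 := rfl
theorem L1964 : sm gc N239 = N239 := ded_10_2 (flp_a L1962) L1454 L1962
theorem L1965 : sm ge N239 = N239 := ded_12_2 (flp_a L1962) L1449 L1962
theorem L1966 : sm gg N239 = N195 := ded_14_2 (flp_a L1588) (flp_g L1450) L1962
theorem L1968 : sm gh N239 = N239 := ded_15_2 (flp_a L1962) L1452 L1962
theorem L1969 : sm gi N239 = N239 := ded_16_2 (flp_a L1962) L1453 L1962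
theorem L1970 : sm gb N239 = N239 := ded_9_2 (flp_a L1962) (flp_b L1447) L1043 L1447 L1962
theorem L1971 : sm gd N177 = N240 := rfl
theorem L1973 : sm ga N240 = N183 := ded_11_1 (flp_d L1506) (flp_a L1457) L1971
theorem L1975 : sm gb N240 = N240 := ded_18_1 (flp_d L1971) L1459 L1971
theorem L1976 : sm gf N240 = N240 := ded_31_2 (flp_d L1971) L1461 L1971
theorem L1977 : sm gh N240 = N178 := ded_33_2 (flp_d L1462) (flp_h L1058) (flp_d L1054) L1455 L1971
theorem L1979 : sm gc N178 = N241 := rfl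
theorem L1981 : sm ga N241 = N184 := ded_10_1 (flp_c L1513) (flp_a L1464) L1979
theorem L1983 : sm gf N241 = N241 := ded_26_2 (flp_c L1979) L1467 L1979
theorem L1984 : sm gi N241 = N241 := ded_29_2 (flp_c L1979) L1468 L1979
theorem L1985 : sm gd N241 = N241 := ded_24_2 (flp_c L1979) (flp_d L1462) L1063 L1462 L1979
theorem L1986 : sm ge N178 = N242 := rfl
theorem L1988 : sm ga N242 = N185 := ded_12_1 (flp_e L1518) (flp_a L1464) L1986
theorem L1990 : sm gb N242 = N242 := ded_19_1 (flp_e L1986) L1466 L1986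
theorem L1991 : sm gi N242 = N242 := ded_38_2 (flp_e L1986) L1468 L1986
theorem L1992 : sm gd N242 = N180 := ded_30_1 (flp_e L1478) (flp_d L1068) (flp_e L1064) L1462 L1986
theorem L1994 : sm gb N179 = N243 := rfl
theorem L1997 : sm gf N243 = N196 := ded_20_2 (flp_b L1596) (flp_f L1473) L1994
theorem L2000 : sm gi N243 = N243 := ded_23_2 (flp_b L1994) L1476 L1994
theorem L2003 : sm ge N179 = N244 := rfl
theorem L2005 : sm ga N244 = N186 := ded_12_1 (flp_e L1525) (flp_a L1471) L2003
theorem L2007 : sm gc N244 = N180 := ded_25_1 (flp_e L1478) L1469 L2003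
theorem L2011 : sm gf N180 = N245 := rfl
theorem L2013 : sm ga N245 = N187 := ded_13_1 (flp_f L1532) (flp_a L1480) L2011
theorem L2018 : sm ge N245 = N198 := ded_35_1 (flp_f L1613) (flp_e L1172) (flp_f L1073) L1478 L2011
theorem L2020 : sm gd N181 = N246 := rfl
theorem L2022 : sm gb N246 = N246 := ded_18_1 (flp_d L2020) L1487 L2020
theorem L2023 : sm gf N246 = N246 := ded_31_2 (flp_d L2020) L1491 L2020
theorem L2024 : sm gi N246 = N240 := ded_34_2 (flp_d L1971) (flp_i L1492) L2020
theorem L2026 : sm gh N246 = N246 := ded_33_2 (flp_d L2020) (flp_h L1485) L1082 L1485 L2020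
theorem L2027 : sm gd N182 = N247 := rfl
theorem L2029 : sm ga N247 = N246 := ded_11_1 (flp_d L2020) (flp_a L1496) L2027
theorem L2031 : sm gb N247 = N188 := ded_18_1 (flp_d L1540) (flp_b L1498) L2027
theorem L2033 : sm gf N247 = N247 := ded_31_2 (flp_d L2027) L1503 L2027
theorem L2034 : sm gi N247 = N183 := ded_34_2 (flp_d L1506) (flp_i L1504) L2027
theorem L2036 : sm gh N247 = N247 := ded_33_2 (flp_d L2027) (flp_h L1494) L1093 L1494 L2027
theorem L2037 : sm gc N183 = N248 := rfl
theorem L2039 : sm gf N248 = N248 := ded_26_2 (flp_c L2037) L1510 L2037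
theorem L2040 : sm gh N248 = N184 := ded_28_2 (flp_c L1513) (flp_h L1511) L2037
theorem L2042 : sm ge N183 = N249 := rfl
theorem L2044 : sm gb N249 = N190 := ded_19_1 (flp_e L1554) (flp_b L1508) L2042
theorem L2046 : sm gh N249 = N185 := ded_37_2 (flp_e L1518) (flp_h L1511) L2042
theorem L2048 : sm gd N249 = N249 := ded_30_1 (flp_e L2042) (flp_d L1506) L1100 L1506 L2042
theorem L2049 : sm gb N184 = N250 := rfl
theorem L2051 : sm gd N250 = N250 := ded_18_2 (flp_b L2049) L1517 L2049
theorem L2052 : sm gf N250 = N250 := ded_20_2 (flp_b L2049) L1515 L2049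
theorem L2053 : sm gi N250 = N250 := ded_23_2 (flp_b L2049) L1516 L2049
theorem L2054 : sm gc N250 = N191 := ded_17_2 (flp_b L1560) (flp_c L1136) (flp_b L1104) L1513 L2049
theorem L2056 : sm ge N184 = N251 := rfl
theorem L2058 : sm gc N251 = N185 := ded_25_1 (flp_e L1518) L1513 L2056
theorem L2060 : sm gi N251 = N251 := ded_38_2 (flp_e L2056) L1516 L2056
theorem L2061 : sm gf N185 = N252 := rfl
theorem L2063 : sm gb N252 = N193 := ded_20_1 (flp_f L1573) (flp_b L1520) L2061
theorem L2065 : sm gd N252 = N187 := ded_31_1 (flp_f L1532) (flp_d L1523) L2061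
theorem L2067 : sm gi N252 = N252 := ded_41_2 (flp_f L2061) L1522 L2061
theorem L2068 : sm ge N252 = N252 := ded_35_1 (flp_f L2061) (flp_e L1518) L1106 L1518 L2061
theorem L2069 : sm gd N186 = N253 := rfl
theorem L2071 : sm gb N253 = N253 := ded_18_1 (flp_d L2069) L1527 L2069
theorem L2072 : sm gi N253 = N253 := ded_34_2 (flp_d L2069) L1531 L2069
theorem L2073 : sm ge N253 = N253 := ded_30_2 (flp_d L2069) (flp_e L1525) L1115 L1525 L2069
theorem L2074 : sm gf N186 = N254 := rfl
theorem L2077 : sm gc N254 = N187 := ded_26_1 (flp_f L1532) (flp_c L1528) L2074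
theorem L2081 : sm ge N254 = N200 := ded_35_1 (flp_f L1628) (flp_e L1181) (flp_f L1110) L1525 L2074
theorem L2083 : sm gg N187 = N255 := rfl
theorem L2085 : sm gb N255 = N194 := ded_21_1 (flp_g L1580) (flp_b L1534) L2083
theorem L2087 : sm ge N255 = N201 := ded_36_1 (flp_g L1635) (flp_e L1538) L2083
theorem L2089 : sm gh N255 = N255 := ded_42_2 (flp_g L2083) L1536 L2083
theorem L2090 : sm gi N255 = N255 := ded_43_2 (flp_g L2083) L1537 L2083
theorem L2091 : sm gc N188 = N256 := rfl
theorem L2093 : sm ga N256 = N256 := ded_10_1 (flp_c L2091) L1542 L2091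
theorem L2094 : sm gf N256 = N256 := ded_26_2 (flp_c L2091) L1543 L2091
theorem L2095 : sm gh N256 = N256 := ded_28_2 (flp_c L2091) L1546 L2091
theorem L2096 : sm gi N256 = N189 := ded_29_2 (flp_c L1547) (flp_i L1544) L2091
theorem L2098 : sm gd N256 = N256 := ded_24_2 (flp_c L2091) (flp_d L1540) L1125 L1540 L2091
theorem L2099 : sm ge N188 = N257 := rfl
theorem L2101 : sm ga N257 = N257 := ded_12_1 (flp_e L2099) L1542 L2099
theorem L2102 : sm gh N257 = N257 := ded_37_2 (flp_e L2099) L1546 L2099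
theorem L2103 : sm gi N257 = N190 := ded_38_2 (flp_e L1554) (flp_i L1544) L2099
theorem L2105 : sm gd N257 = N257 := ded_30_1 (flp_e L2099) (flp_d L1540) L1126 L1540 L2099
theorem L2106 : sm gb N189 = N258 := rfl
theorem L2108 : sm gd N258 = N258 := ded_18_2 (flp_b L2106) L1553 L2106
theorem L2109 : sm gf N258 = N258 := ded_20_2 (flp_b L2106) L1550 L2106
theorem L2110 : sm gh N258 = N191 := ded_22_2 (flp_b L1560) (flp_h L1551) L2106
theorem L2112 : sm ge N189 = N259 := rfl
theorem L2114 : sm ga N259 = N259 := ded_12_1 (flp_e L2112) L1549 L2112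
theorem L2115 : sm gc N259 = N190 := ded_25_1 (flp_e L1554) L1547 L2112
theorem L2117 : sm gh N259 = N192 := ded_37_2 (flp_e L1566) (flp_h L1551) L2112
theorem L2119 : sm gf N190 = N260 := rfl
theorem L2121 : sm ga N260 = N260 := ded_13_1 (flp_f L2119) L1556 L2119
theorem L2122 : sm gd N260 = N260 := ded_31_1 (flp_f L2119) L1559 L2119
theorem L2123 : sm gh N260 = N193 := ded_40_2 (flp_f L1573) (flp_h L1557) L2119
theorem L2125 : sm ge N260 = N260 := ded_35_1 (flp_f L2119) (flp_e L1554) L1133 L1554 L2119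
theorem L2126 : sm ga N191 = N261 := rfl
theorem L2128 : sm gd N261 = N195 := ded_11_2 (flp_a L1588) (flp_d L1562) L2126
theorem L2130 : sm gf N261 = N261 := ded_13_2 (flp_a L2126) L1564 L2126
theorem L2131 : sm gi N261 = N261 := ded_16_2 (flp_a L2126) L1565 L2126
theorem L2132 : sm gb N261 = N261 := ded_9_2 (flp_a L2126) (flp_b L1560) L1138 L1560 L2126
theorem L2133 : sm ge N191 = N262 := rfl
theorem L2135 : sm gb N262 = N192 := ded_19_1 (flp_e L1566) L1560 L2133
theorem L2137 : sm gi N262 = N262 := ded_38_2 (flp_e L2133) L1565 L2133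
theorem L2138 : sm gd N262 = N262 := ded_30_1 (flp_e L2133) L1562 L1159 (flp_d L1562) L2133
theorem L2139 : sm gf N192 = N263 := rfl
theorem L2141 : sm ga N263 = N263 := ded_13_1 (flp_f L2139) L1568 L2139
theorem L2142 : sm gc N263 = N193 := ded_26_1 (flp_f L1573) (flp_c L1569) L2139
theorem L2144 : sm gd N263 = N263 := ded_31_1 (flp_f L2139) L1572 L2139
theorem L2145 : sm gi N263 = N263 := ded_41_2 (flp_f L2139) L1571 L2139
theorem L2146 : sm ge N263 = N263 := ded_35_1 (flp_f L2139) (flp_e L1566) L1139 L1566 L2139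
theorem L2147 : sm gg N193 = N264 := rfl
theorem L2149 : sm ga N264 = N264 := ded_14_1 (flp_g L2147) L1575 L2147
theorem L2150 : sm gd N264 = N194 := ded_32_1 (flp_g L1580) (flp_d L1576) L2147
theorem L2152 : sm ge N264 = N264 := ded_36_1 (flp_g L2147) L1579 L2147
theorem L2153 : sm gi N264 = N264 := ded_43_2 (flp_g L2147) L1578 L2147
theorem L2154 : sm ge N196 = N265 := rfl
theorem L2157 : sm gb N265 = N197 := ded_19_1 (flp_e L1604) L1596 L2154
theorem L2160 : sm gg N265 = N265 := ded_36_2 (flp_e L2154) L1599 L2154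
theorem L2162 : sm gi N265 = N265 := ded_38_2 (flp_e L2154) L1601 L2154
theorem L2163 : sm gd N197 = N266 := rfl
theorem L2165 : sm ga N266 = N199 := ded_11_1 (flp_d L1621) (flp_a L1606) L2163
theorem L2167 : sm gg N266 = N266 := ded_32_2 (flp_d L2163) L1610 L2163
theorem L2168 : sm gi N266 = N266 := ded_34_2 (flp_d L2163) L1612 L2163
theorem L2171 : sm gf N197 = N267 := rfl
theorem L2179 : sm gg N198 = N268 := rfl
theorem L2181 : sm ga N268 = N201 := ded_14_1 (flp_g L1635) (flp_a L1615) L2179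
theorem L2188 : sm gf N199 = N269 := rfl
theorem L2192 : sm gd N269 = N200 := ded_31_1 (flp_f L1628) L1621 L2188
theorem L2195 : sm gh N199 = N270 := rfl
theorem L2202 : sm gg N200 = N271 := rfl
theorem L2205 : sm gc N271 = N201 := ded_27_1 (flp_g L1635) (flp_c L1631) L2202
theorem L2210 : sm gi N202 = N272 := rfl
theorem L2212 : sm ga N272 = N213 := ded_16_1 (flp_i L1747) (flp_a L1645) L2210
theorem L2214 : sm gb N272 = N272 := ded_23_1 (flp_i L2210) L1647 L2210
theorem L2215 : sm gd N272 = N272 := ded_34_1 (flp_i L2210) L1649 L2210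
theorem L2216 : sm ge N272 = N203 := ded_38_1 (flp_i L1651) L1643 L2210
theorem L2218 : sm gf N272 = N272 := ded_41_1 (flp_i L2210) L1650 L2210
theorem L2219 : sm gg N272 = N272 := ded_43_1 (flp_i L2210) L1648 L2210
theorem L2220 : sm gh N203 = N273 := rfl
theorem L2222 : sm ga N273 = N215 := ded_15_1 (flp_h L1768) (flp_a L1653) L2220
theorem L2224 : sm gb N273 = N273 := ded_22_1 (flp_h L2220) L1655 L2220
theorem L2225 : sm gf N273 = N204 := ded_40_1 (flp_h L1661) (flp_f L1658) L2220
theorem L2227 : sm gg N273 = N273 := ded_42_1 (flp_h L2220) L1660 L2220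
theorem L2228 : sm gd N204 = N274 := rfl
theorem L2230 : sm ga N274 = N217 := ded_11_1 (flp_d L1788) (flp_a L1663) L2228
theorem L2232 : sm gb N274 = N274 := ded_18_1 (flp_d L2228) L1665 L2228
theorem L2233 : sm gg N274 = N240 := ded_32_2 (flp_d L1971) (flp_g L1667) L2228
theorem L2235 : sm gh N274 = N206 := ded_33_2 (flp_d L1680) (flp_h L1232) (flp_d L1217) L1661 L2228
theorem L2237 : sm gd N205 = N275 := rfl
theorem L2239 : sm ga N275 = N218 := ded_11_1 (flp_d L1796) (flp_a L1671) L2237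
theorem L2241 : sm gb N275 = N275 := ded_18_1 (flp_d L2237) L1673 L2237
theorem L2242 : sm gf N275 = N206 := ded_31_2 (flp_d L1680) (flp_f L1676) L2237
theorem L2244 : sm gg N275 = N275 := ded_32_2 (flp_d L2237) L1678 L2237
theorem L2245 : sm gi N275 = N275 := ded_34_2 (flp_d L2237) L1679 L2237
theorem L2246 : sm gc N206 = N276 := rfl
theorem L2248 : sm ga N276 = N219 := ded_10_1 (flp_c L1804) (flp_a L1682) L2246
theorem L2250 : sm gg N276 = N241 := ded_27_2 (flp_c L1979) (flp_g L1685) L2246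
theorem L2252 : sm gi N276 = N276 := ded_29_2 (flp_c L2246) L1687 L2246
theorem L2253 : sm gd N276 = N276 := ded_24_2 (flp_c L2246) (flp_d L1680) L1237 L1680 L2246
theorem L2254 : sm ge N206 = N277 := rfl
theorem L2256 : sm ga N277 = N220 := ded_12_1 (flp_e L1810) (flp_a L1682) L2254
theorem L2258 : sm gb N277 = N277 := ded_19_1 (flp_e L2254) L1684 L2254
theorem L2259 : sm gg N277 = N242 := ded_36_2 (flp_e L1986) (flp_g L1685) L2254
theorem L2261 : sm gi N277 = N277 := ded_38_2 (flp_e L2254) L1687 L2254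
theorem L2262 : sm gd N277 = N208 := ded_30_1 (flp_e L1698) (flp_d L1243) (flp_e L1238) L1680 L2254
theorem L2264 : sm gb N207 = N278 := rfl
theorem L2268 : sm gg N278 = N243 := ded_21_2 (flp_b L1994) (flp_g L1693) L2264
theorem L2271 : sm gi N278 = N278 := ded_23_2 (flp_b L2264) L1696 L2264
theorem L2274 : sm ge N207 = N279 := rfl
theorem L2276 : sm ga N279 = N221 := ded_12_1 (flp_e L1819) (flp_a L1690) L2274
theorem L2278 : sm gc N279 = N208 := ded_25_1 (flp_e L1698) L1688 L2274
theorem L2284 : sm gf N208 = N280 := rfl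
theorem L2286 : sm ga N280 = N222 := ded_13_1 (flp_f L1828) (flp_a L1700) L2284
theorem L2288 : sm gb N280 = N280 := ded_20_1 (flp_f L2284) L1702 L2284
theorem L2289 : sm gh N280 = N280 := ded_40_2 (flp_f L2284) L1705 L2284
theorem L2290 : sm gi N280 = N280 := ded_41_2 (flp_f L2284) L1706 L2284
theorem L2291 : sm ge N280 = N280 := ded_35_1 (flp_f L2284) (flp_e L1698) L1248 L1698 L2284
theorem L2292 : sm gd N209 = N281 := rfl
theorem L2294 : sm gb N281 = N281 := ded_18_1 (flp_d L2292) L1709 L2292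
theorem L2295 : sm gf N281 = N281 := ded_31_2 (flp_d L2292) L1715 L2292
theorem L2296 : sm gg N281 = N281 := ded_32_2 (flp_d L2292) L1712 L2292
theorem L2297 : sm gc N281 = N281 := ded_24_1 (flp_d L2292) L1710 L1276 (flp_c L1710) L2292
theorem L2298 : sm ge N281 = N281 := ded_30_2 (flp_d L2292) (flp_e L1707) L1258 L1707 L2292
theorem L2299 : sm gh N281 = N281 := ded_33_2 (flp_d L2292) L1713 L1649 (flp_h L1713) L2292
theorem L2300 : sm gi N209 = N282 := rfl
theorem L2302 : sm gb N282 = N282 := ded_23_1 (flp_i L2300) L1709 L2300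
theorem L2303 : sm gc N282 = N213 := ded_29_1 (flp_i L1747) (flp_c L1710) L2300
theorem L2305 : sm ge N282 = N210 := ded_38_1 (flp_i L1716) L1707 L2300
theorem L2307 : sm gf N282 = N282 := ded_41_1 (flp_i L2300) L1715 L2300
theorem L2308 : sm gg N282 = N282 := ded_43_1 (flp_i L2300) L1712 L2300
theorem L2309 : sm gh N210 = N283 := rfl
theorem L2311 : sm gb N283 = N283 := ded_22_1 (flp_h L2309) L1718 L2309
theorem L2312 : sm gc N283 = N215 := ded_28_1 (flp_h L1768) (flp_c L1719) L2309
theorem L2314 : sm gf N283 = N211 := ded_40_1 (flp_h L1725) (flp_f L1722) L2309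
theorem L2316 : sm gg N283 = N283 := ded_42_1 (flp_h L2309) L1724 L2309
theorem L2317 : sm gi N283 = N273 := ded_44_2 (flp_h L2220) (flp_i L1651) (flp_h L1259) L1716 L2309
theorem L2319 : sm gd N211 = N284 := rfl
theorem L2321 : sm gb N284 = N284 := ded_18_1 (flp_d L2319) L1727 L2319
theorem L2322 : sm gg N284 = N246 := ded_32_2 (flp_d L2020) (flp_g L1731) L2319
theorem L2324 : sm gi N284 = N274 := ded_34_2 (flp_d L2228) (flp_i L1733) L2319
theorem L2326 : sm gh N284 = N284 := ded_33_2 (flp_d L2319) (flp_h L1725) L1267 L1725 L2319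
theorem L2327 : sm gd N212 = N285 := rfl
theorem L2329 : sm ga N285 = N281 := ded_11_1 (flp_d L2292) (flp_a L1737) L2327
theorem L2331 : sm gb N285 = N223 := ded_18_1 (flp_d L1835) (flp_b L1739) L2327
theorem L2333 : sm gf N285 = N285 := ded_31_2 (flp_d L2327) L1745 L2327
theorem L2334 : sm gg N285 = N285 := ded_32_2 (flp_d L2327) L1746 L2327
theorem L2335 : sm gc N285 = N285 := ded_24_1 (flp_d L2327) L1741 L1649 (flp_c L1741) L2327
theorem L2336 : sm ge N285 = N285 := ded_30_2 (flp_d L2327) L1743 L1289 (flp_e L1743) L2327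
theorem L2337 : sm gh N285 = N285 := ded_33_2 (flp_d L2327) (flp_h L1735) L1276 L1735 L2327
theorem L2338 : sm gi N212 = N286 := rfl
theorem L2340 : sm ga N286 = N282 := ded_16_1 (flp_i L2300) (flp_a L1737) L2338
theorem L2342 : sm gb N286 = N224 := ded_23_1 (flp_i L1842) (flp_b L1739) L2338
theorem L2344 : sm gc N286 = N272 := ded_29_1 (flp_i L2210) (flp_c L1741) L2338
theorem L2346 : sm ge N286 = N214 := ded_38_1 (flp_i L1756) (flp_e L1743) L2338
theorem L2348 : sm gf N286 = N286 := ded_41_1 (flp_i L2338) L1745 L2338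
theorem L2349 : sm gg N286 = N286 := ded_43_1 (flp_i L2338) L1746 L2338
theorem L2350 : sm gh N213 = N287 := rfl
theorem L2352 : sm gb N287 = N225 := ded_22_1 (flp_h L1850) (flp_b L1749) L2350
theorem L2354 : sm ge N287 = N215 := ded_37_1 (flp_h L1768) (flp_e L1752) L2350
theorem L2356 : sm gf N287 = N287 := ded_40_1 (flp_h L2350) L1754 L2350
theorem L2357 : sm gg N287 = N287 := ded_42_1 (flp_h L2350) L1755 L2350
theorem L2358 : sm gh N214 = N288 := rfl
theorem L2360 : sm ga N288 = N283 := ded_15_1 (flp_h L2309) (flp_a L1758) L2358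
theorem L2362 : sm gb N288 = N226 := ded_22_1 (flp_h L1858) (flp_b L1760) L2358
theorem L2364 : sm gc N288 = N273 := ded_28_1 (flp_h L2220) (flp_c L1762) L2358
theorem L2366 : sm gf N288 = N216 := ded_40_1 (flp_h L1775) (flp_f L1765) L2358
theorem L2368 : sm gg N288 = N288 := ded_42_1 (flp_h L2358) L1767 L2358
theorem L2369 : sm gi N288 = N215 := ded_44_2 (flp_h L1768) (flp_i L1290) L1278 L1756 L2358
theorem L2371 : sm gd N215 = N289 := rfl
theorem L2373 : sm gb N289 = N227 := ded_18_1 (flp_d L1867) (flp_b L1770) L2371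
theorem L2375 : sm gf N289 = N217 := ded_31_2 (flp_d L1788) (flp_f L1772) L2371
theorem L2377 : sm gg N289 = N289 := ded_32_2 (flp_d L2371) L1774 L2371
theorem L2378 : sm gh N289 = N218 := ded_33_2 (flp_d L1796) (flp_h L1318) (flp_d L1294) L1768 L2371
theorem L2380 : sm gd N216 = N290 := rfl
theorem L2382 : sm ga N290 = N284 := ded_11_1 (flp_d L2319) (flp_a L1777) L2380
theorem L2384 : sm gb N290 = N228 := ded_18_1 (flp_d L1875) (flp_b L1779) L2380
theorem L2386 : sm gg N290 = N247 := ded_32_2 (flp_d L2027) (flp_g L1784) L2380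
theorem L2388 : sm gi N290 = N217 := ded_34_2 (flp_d L1788) (flp_i L1786) L2380
theorem L2390 : sm gh N290 = N290 := ded_33_2 (flp_d L2380) (flp_h L1775) L1307 L1775 L2380
theorem L2391 : sm gc N217 = N291 := rfl
theorem L2393 : sm gg N291 = N248 := ded_27_2 (flp_c L2037) (flp_g L1792) L2391
theorem L2395 : sm gh N291 = N219 := ded_28_2 (flp_c L1804) (flp_h L1794) L2391
theorem L2397 : sm ge N217 = N292 := rfl
theorem L2399 : sm gb N292 = N230 := ded_19_1 (flp_e L1891) (flp_b L1790) L2397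
theorem L2401 : sm gg N292 = N249 := ded_36_2 (flp_e L2042) (flp_g L1792) L2397
theorem L2403 : sm gh N292 = N220 := ded_37_2 (flp_e L1810) (flp_h L1794) L2397
theorem L2405 : sm gd N292 = N292 := ded_30_1 (flp_e L2397) (flp_d L1788) L1315 L1788 L2397
theorem L2406 : sm gc N218 = N293 := rfl
theorem L2408 : sm gf N293 = N219 := ded_26_2 (flp_c L1804) (flp_f L1800) L2406
theorem L2410 : sm gg N293 = N293 := ded_27_2 (flp_c L2406) L1802 L2406
theorem L2411 : sm gi N293 = N293 := ded_29_2 (flp_c L2406) L1803 L2406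
theorem L2412 : sm gd N293 = N293 := ded_24_2 (flp_c L2406) (flp_d L1796) L1322 L1796 L2406
theorem L2413 : sm ge N218 = N294 := rfl
theorem L2415 : sm gb N294 = N232 := ded_19_1 (flp_e L1908) (flp_b L1798) L2413
theorem L2417 : sm gg N294 = N294 := ded_36_2 (flp_e L2413) L1802 L2413
theorem L2418 : sm gi N294 = N294 := ded_38_2 (flp_e L2413) L1803 L2413
theorem L2419 : sm gd N294 = N294 := ded_30_1 (flp_e L2413) (flp_d L1796) L1323 L1796 L2413
theorem L2420 : sm gb N219 = N295 := rfl
theorem L2422 : sm gd N295 = N295 := ded_18_2 (flp_b L2420) L1809 L2420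
theorem L2423 : sm gg N295 = N250 := ded_21_2 (flp_b L2049) (flp_g L1806) L2420
theorem L2425 : sm gi N295 = N295 := ded_23_2 (flp_b L2420) L1808 L2420
theorem L2426 : sm gc N295 = N233 := ded_17_2 (flp_b L1914) (flp_c L1407) (flp_b L1330) L1804 L2420
theorem L2428 : sm ge N219 = N296 := rfl
theorem L2430 : sm gc N296 = N220 := ded_25_1 (flp_e L1810) L1804 L2428
theorem L2432 : sm gg N296 = N251 := ded_36_2 (flp_e L2056) (flp_g L1806) L2428
theorem L2434 : sm gi N296 = N296 := ded_38_2 (flp_e L2428) L1808 L2428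
theorem L2435 : sm gf N220 = N297 := rfl
theorem L2437 : sm gb N297 = N235 := ded_20_1 (flp_f L1930) (flp_b L1812) L2435
theorem L2439 : sm gd N297 = N222 := ded_31_1 (flp_f L1828) (flp_d L1817) L2435
theorem L2441 : sm gi N297 = N297 := ded_41_2 (flp_f L2435) L1816 L2435
theorem L2442 : sm gd N221 = N298 := rfl
theorem L2444 : sm gb N298 = N298 := ded_18_1 (flp_d L2442) L1821 L2442
theorem L2445 : sm gg N298 = N253 := ded_32_2 (flp_d L2069) (flp_g L1824) L2442
theorem L2447 : sm gi N298 = N298 := ded_34_2 (flp_d L2442) L1827 L2442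
theorem L2448 : sm ge N298 = N298 := ded_30_2 (flp_d L2442) (flp_e L1819) L1343 L1819 L2442
theorem L2449 : sm gf N221 = N299 := rfl
theorem L2451 : sm gb N299 = N299 := ded_20_1 (flp_f L2449) L1821 L2449
theorem L2452 : sm gc N299 = N222 := ded_26_1 (flp_f L1828) (flp_c L1822) L2449
theorem L2454 : sm gh N299 = N299 := ded_40_2 (flp_f L2449) L1826 L2449
theorem L2455 : sm gi N299 = N299 := ded_41_2 (flp_f L2449) L1827 L2449
theorem L2456 : sm ge N299 = N299 := ded_35_1 (flp_f L2449) (flp_e L1819) L1337 L1819 L2449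
theorem L2457 : sm gg N222 = N300 := rfl
theorem L2459 : sm gb N300 = N236 := ded_21_1 (flp_g L1936) (flp_b L1830) L2457
theorem L2461 : sm ge N300 = N300 := ded_36_1 (flp_g L2457) L1834 L2457
theorem L2462 : sm gh N300 = N300 := ded_42_2 (flp_g L2457) L1832 L2457
theorem L2463 : sm gi N300 = N300 := ded_43_2 (flp_g L2457) L1833 L2457
theorem L2464 : sm gf N300 = N255 := ded_39_1 (flp_g L2083) (flp_f L1532) (flp_g L1348) L1828 L2457
theorem L2466 : sm gc N223 = N301 := rfl
theorem L2468 : sm ga N301 = N301 := ded_10_1 (flp_c L2466) L1837 L2466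
theorem L2469 : sm ge N301 = N301 := ded_25_2 (flp_c L2466) L1840 L2466
theorem L2470 : sm gf N301 = N301 := ded_26_2 (flp_c L2466) L1838 L2466
theorem L2471 : sm gg N301 = N301 := ded_27_2 (flp_c L2466) L1839 L2466
theorem L2472 : sm gh N301 = N301 := ded_28_2 (flp_c L2466) L1841 L2466
theorem L2473 : sm gb N301 = N301 := ded_17_1 (flp_c L2466) (flp_b L2331) L2335 L2331 L2466
theorem L2474 : sm gd N301 = N301 := ded_24_2 (flp_c L2466) (flp_d L1835) L1355 L1835 L2466
theorem L2475 : sm gi N223 = N302 := rfl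
theorem L2477 : sm ga N302 = N302 := ded_16_1 (flp_i L2475) L1837 L2475
theorem L2478 : sm gd N302 = N224 := ded_34_1 (flp_i L1842) L1835 L2475
theorem L2480 : sm ge N302 = N302 := ded_38_1 (flp_i L2475) L1840 L2475
theorem L2481 : sm gf N302 = N302 := ded_41_1 (flp_i L2475) L1838 L2475
theorem L2482 : sm gg N302 = N302 := ded_43_1 (flp_i L2475) L1839 L2475
theorem L2483 : sm gh N224 = N303 := rfl
theorem L2485 : sm ga N303 = N303 := ded_15_1 (flp_h L2483) L1844 L2483
theorem L2486 : sm gc N303 = N303 := ded_28_1 (flp_h L2483) L1845 L2483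
theorem L2487 : sm ge N303 = N226 := ded_37_1 (flp_h L1858) (flp_e L1846) L2483
theorem L2489 : sm gf N303 = N303 := ded_40_1 (flp_h L2483) L1848 L2483
theorem L2490 : sm gg N303 = N303 := ded_42_1 (flp_h L2483) L1849 L2483
theorem L2491 : sm gi N303 = N225 := ded_44_2 (flp_h L1850) (flp_i L1360) L1352 L1842 L2483
theorem L2493 : sm gd N225 = N304 := rfl
theorem L2495 : sm ga N304 = N304 := ded_11_1 (flp_d L2493) L1852 L2493
theorem L2496 : sm gf N304 = N304 := ded_31_2 (flp_d L2493) L1856 L2493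
theorem L2497 : sm gg N304 = N304 := ded_32_2 (flp_d L2493) L1857 L2493
theorem L2498 : sm gh N304 = N304 := ded_33_2 (flp_d L2493) (flp_h L1850) L1364 L1850 L2493
theorem L2499 : sm gd N226 = N305 := rfl
theorem L2501 : sm ga N305 = N305 := ded_11_1 (flp_d L2499) L1860 L2499
theorem L2502 : sm gf N305 = N228 := ded_31_2 (flp_d L1875) (flp_f L1862) L2499
theorem L2504 : sm gg N305 = N305 := ded_32_2 (flp_d L2499) L1864 L2499
theorem L2505 : sm gi N305 = N227 := ded_34_2 (flp_d L1867) (flp_i L1865) L2499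
theorem L2507 : sm gh N305 = N305 := ded_33_2 (flp_d L2499) (flp_h L1858) L1373 L1858 L2499
theorem L2508 : sm gc N227 = N306 := rfl
theorem L2510 : sm ga N306 = N306 := ded_10_1 (flp_c L2508) L1869 L2508
theorem L2511 : sm gf N306 = N229 := ded_26_2 (flp_c L1883) (flp_f L1870) L2508
theorem L2513 : sm gg N306 = N306 := ded_27_2 (flp_c L2508) L1872 L2508
theorem L2514 : sm gh N306 = N231 := ded_28_2 (flp_c L1899) (flp_h L1873) L2508
theorem L2516 : sm gd N306 = N306 := ded_24_2 (flp_c L2508) (flp_d L1867) L1380 L1867 L2508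
theorem L2517 : sm ge N227 = N307 := rfl
theorem L2519 : sm ga N307 = N307 := ded_12_1 (flp_e L2517) L1869 L2517
theorem L2520 : sm gg N307 = N307 := ded_36_2 (flp_e L2517) L1872 L2517
theorem L2521 : sm gh N307 = N232 := ded_37_2 (flp_e L1908) (flp_h L1873) L2517
theorem L2523 : sm gc N228 = N308 := rfl
theorem L2525 : sm ga N308 = N308 := ded_10_1 (flp_c L2523) L1877 L2523
theorem L2526 : sm gg N308 = N256 := ded_27_2 (flp_c L2091) (flp_g L1878) L2523
theorem L2528 : sm gh N308 = N308 := ded_28_2 (flp_c L2523) L1882 L2523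
theorem L2529 : sm gi N308 = N229 := ded_29_2 (flp_c L1883) (flp_i L1880) L2523
theorem L2531 : sm gd N308 = N308 := ded_24_2 (flp_c L2523) (flp_d L1875) L1387 L1875 L2523
theorem L2532 : sm ge N228 = N309 := rfl
theorem L2534 : sm ga N309 = N309 := ded_12_1 (flp_e L2532) L1877 L2532
theorem L2535 : sm gg N309 = N257 := ded_36_2 (flp_e L2099) (flp_g L1878) L2532
theorem L2537 : sm gh N309 = N309 := ded_37_2 (flp_e L2532) L1882 L2532
theorem L2538 : sm gi N309 = N230 := ded_38_2 (flp_e L1891) (flp_i L1880) L2532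
theorem L2540 : sm gd N309 = N309 := ded_30_1 (flp_e L2532) (flp_d L1875) L1388 L1875 L2532
theorem L2541 : sm gb N229 = N310 := rfl
theorem L2543 : sm gd N310 = N310 := ded_18_2 (flp_b L2541) L1890 L2541
theorem L2544 : sm gg N310 = N258 := ded_21_2 (flp_b L2106) (flp_g L1886) L2541
theorem L2546 : sm gh N310 = N233 := ded_22_2 (flp_b L1914) (flp_h L1888) L2541
theorem L2548 : sm ge N229 = N311 := rfl
theorem L2550 : sm ga N311 = N311 := ded_12_1 (flp_e L2548) L1885 L2548
theorem L2551 : sm gc N311 = N230 := ded_25_1 (flp_e L1891) L1883 L2548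
theorem L2553 : sm gg N311 = N259 := ded_36_2 (flp_e L2112) (flp_g L1886) L2548
theorem L2555 : sm gh N311 = N234 := ded_37_2 (flp_e L1921) (flp_h L1888) L2548
theorem L2557 : sm gf N230 = N312 := rfl
theorem L2559 : sm ga N312 = N312 := ded_13_1 (flp_f L2557) L1893 L2557
theorem L2560 : sm gd N312 = N312 := ded_31_1 (flp_f L2557) L1898 L2557
theorem L2561 : sm gh N312 = N235 := ded_40_2 (flp_f L1930) (flp_h L1896) L2557
theorem L2563 : sm gb N231 = N313 := rfl
theorem L2565 : sm gd N313 = N237 := ded_18_2 (flp_b L1945) (flp_d L1906) L2563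
theorem L2567 : sm gf N313 = N233 := ded_20_2 (flp_b L1914) (flp_f L1902) L2563
theorem L2569 : sm gg N313 = N313 := ded_21_2 (flp_b L2563) L1904 L2563
theorem L2570 : sm gi N313 = N313 := ded_23_2 (flp_b L2563) L1905 L2563
theorem L2571 : sm ge N231 = N314 := rfl
theorem L2573 : sm ga N314 = N314 := ded_12_1 (flp_e L2571) L1901 L2571
theorem L2574 : sm gc N314 = N232 := ded_25_1 (flp_e L1908) L1899 L2571
theorem L2576 : sm gg N314 = N314 := ded_36_2 (flp_e L2571) L1904 L2571
theorem L2577 : sm gi N314 = N314 := ded_38_2 (flp_e L2571) L1905 L2571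
theorem L2578 : sm gf N232 = N315 := rfl
theorem L2580 : sm ga N315 = N315 := ded_13_1 (flp_f L2578) L1910 L2578
theorem L2581 : sm gd N315 = N315 := ded_31_1 (flp_f L2578) L1913 L2578
theorem L2582 : sm gi N315 = N315 := ded_41_2 (flp_f L2578) L1912 L2578
theorem L2583 : sm ge N315 = N235 := ded_35_1 (flp_f L1930) (flp_e L1415) (flp_f L1403) L1908 L2578
theorem L2585 : sm ga N233 = N316 := rfl
theorem L2587 : sm gd N316 = N239 := ded_11_2 (flp_a L1962) (flp_d L1916) L2585
theorem L2589 : sm gg N316 = N261 := ded_14_2 (flp_a L2126) (flp_g L1918) L2585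
theorem L2591 : sm gi N316 = N316 := ded_16_2 (flp_a L2585) L1920 L2585
theorem L2592 : sm gb N316 = N316 := ded_9_2 (flp_a L2585) (flp_b L1914) L1409 L1914 L2585
theorem L2593 : sm ge N233 = N317 := rfl
theorem L2595 : sm gb N317 = N234 := ded_19_1 (flp_e L1921) L1914 L2593
theorem L2597 : sm gg N317 = N262 := ded_36_2 (flp_e L2133) (flp_g L1918) L2593
theorem L2599 : sm gi N317 = N317 := ded_38_2 (flp_e L2593) L1920 L2593
theorem L2600 : sm gd N317 = N317 := ded_30_1 (flp_e L2593) L1916 L1449 (flp_d L1916) L2593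
theorem L2601 : sm gf N234 = N318 := rfl
theorem L2603 : sm ga N318 = N318 := ded_13_1 (flp_f L2601) L1923 L2601
theorem L2604 : sm gc N318 = N235 := ded_26_1 (flp_f L1930) (flp_c L1924) L2601
theorem L2606 : sm gd N318 = N318 := ded_31_1 (flp_f L2601) L1929 L2601
theorem L2607 : sm gi N318 = N318 := ded_41_2 (flp_f L2601) L1928 L2601
theorem L2608 : sm gg N235 = N319 := rfl
theorem L2610 : sm ga N319 = N319 := ded_14_1 (flp_g L2608) L1932 L2608
theorem L2611 : sm gd N319 = N236 := ded_32_1 (flp_g L1936) (flp_d L1933) L2608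
theorem L2613 : sm gi N319 = N319 := ded_43_2 (flp_g L2608) L1935 L2608
theorem L2614 : sm gf N319 = N264 := ded_39_1 (flp_g L2147) (flp_f L1573) (flp_g L1418) L1930 L2608
theorem L2616 : sm ga N237 = N320 := rfl
theorem L2618 : sm gc N320 = N320 := ded_10_2 (flp_a L2616) L1952 L2616
theorem L2619 : sm gf N320 = N239 := ded_13_2 (flp_a L1962) (flp_f L1947) L2616
theorem L2621 : sm gg N320 = N320 := ded_14_2 (flp_a L2616) L1949 L2616
theorem L2622 : sm gh N320 = N320 := ded_15_2 (flp_a L2616) L1950 L2616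
theorem L2623 : sm gi N320 = N320 := ded_16_2 (flp_a L2616) L1951 L2616
theorem L2624 : sm gb N320 = N320 := ded_9_2 (flp_a L2616) (flp_b L1945) L1432 L1945 L2616
theorem L2625 : sm ge N237 = N321 := rfl
theorem L2627 : sm gb N321 = N238 := ded_19_1 (flp_e L1953) L1945 L2625
theorem L2629 : sm gc N321 = N321 := ded_25_1 (flp_e L2625) L1952 L2625
theorem L2630 : sm gg N321 = N321 := ded_36_2 (flp_e L2625) L1949 L2625
theorem L2631 : sm gh N321 = N321 := ded_37_2 (flp_e L2625) L1950 L2625
theorem L2632 : sm gi N321 = N321 := ded_38_2 (flp_e L2625) L1951 L2625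
theorem L2633 : sm gf N321 = N321 := ded_35_2 (flp_e L2625) L1947 L1449 (flp_f L1947) L2625
theorem L2634 : sm gd N238 = N322 := rfl
theorem L2636 : sm ga N322 = N322 := ded_11_1 (flp_d L2634) L1955 L2634
theorem L2637 : sm gf N322 = N322 := ded_31_2 (flp_d L2634) L1961 L2634
theorem L2638 : sm gg N322 = N322 := ded_32_2 (flp_d L2634) L1958 L2634
theorem L2639 : sm gi N322 = N322 := ded_34_2 (flp_d L2634) L1960 L2634
theorem L2640 : sm gc N322 = N322 := ded_24_1 (flp_d L2634) L1956 L1445 (flp_c L1956) L2634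
theorem L2641 : sm gc N240 = N323 := rfl
theorem L2643 : sm ga N323 = N248 := ded_10_1 (flp_c L2037) (flp_a L1973) L2641
theorem L2645 : sm gf N323 = N323 := ded_26_2 (flp_c L2641) L1976 L2641
theorem L2646 : sm gh N323 = N241 := ded_28_2 (flp_c L1979) (flp_h L1977) L2641
theorem L2648 : sm ge N240 = N324 := rfl
theorem L2650 : sm ga N324 = N249 := ded_12_1 (flp_e L2042) (flp_a L1973) L2648
theorem L2652 : sm gb N324 = N324 := ded_19_1 (flp_e L2648) L1975 L2648
theorem L2653 : sm gh N324 = N242 := ded_37_2 (flp_e L1986) (flp_h L1977) L2648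
theorem L2655 : sm gd N324 = N324 := ded_30_1 (flp_e L2648) (flp_d L1971) L1460 L1971 L2648
theorem L2656 : sm gb N241 = N325 := rfl
theorem L2658 : sm gd N325 = N325 := ded_18_2 (flp_b L2656) L1985 L2656
theorem L2659 : sm gf N325 = N325 := ded_20_2 (flp_b L2656) L1983 L2656
theorem L2660 : sm gi N325 = N325 := ded_23_2 (flp_b L2656) L1984 L2656
theorem L2661 : sm gc N325 = N325 := ded_17_2 (flp_b L2656) (flp_c L1979) L1466 L1979 L2656
theorem L2662 : sm ge N241 = N326 := rfl
theorem L2664 : sm ga N326 = N251 := ded_12_1 (flp_e L2056) (flp_a L1981) L2662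
theorem L2666 : sm gc N326 = N242 := ded_25_1 (flp_e L1986) L1979 L2662
theorem L2668 : sm gi N326 = N326 := ded_38_2 (flp_e L2662) L1984 L2662
theorem L2669 : sm gf N242 = N327 := rfl
theorem L2671 : sm ga N327 = N252 := ded_13_1 (flp_f L2061) (flp_a L1988) L2669
theorem L2674 : sm gd N327 = N245 := ded_31_1 (flp_f L2011) (flp_d L1992) L2669
theorem L2678 : sm ge N243 = N328 := rfl
theorem L2681 : sm gb N328 = N244 := ded_19_1 (flp_e L2003) L1994 L2678
theorem L2685 : sm gi N328 = N328 := ded_38_2 (flp_e L2678) L2000 L2678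
theorem L2686 : sm gd N244 = N329 := rfl
theorem L2688 : sm ga N329 = N253 := ded_11_1 (flp_d L2069) (flp_a L2005) L2686
theorem L2692 : sm gf N244 = N330 := rfl
theorem L2700 : sm ge N330 = N267 := ded_35_1 (flp_f L2171) (flp_e L1604) (flp_f L1473) L2003 L2692
theorem L2702 : sm gg N245 = N331 := rfl
theorem L2704 : sm ga N331 = N255 := ded_14_1 (flp_g L2083) (flp_a L2013) L2702
theorem L2707 : sm ge N331 = N268 := ded_36_1 (flp_g L2179) (flp_e L2018) L2702
theorem L2711 : sm gc N246 = N332 := rfl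
theorem L2713 : sm gf N332 = N332 := ded_26_2 (flp_c L2711) L2023 L2711
theorem L2714 : sm gh N332 = N332 := ded_28_2 (flp_c L2711) L2026 L2711
theorem L2715 : sm gi N332 = N323 := ded_29_2 (flp_c L2641) (flp_i L2024) L2711
theorem L2717 : sm gd N332 = N248 := ded_24_2 (flp_c L2037) (flp_d L1506) (flp_c L1488) L2020 L2711
theorem L2719 : sm ge N246 = N333 := rfl
theorem L2721 : sm gb N333 = N333 := ded_19_1 (flp_e L2719) L2022 L2719
theorem L2722 : sm gh N333 = N333 := ded_37_2 (flp_e L2719) L2026 L2719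
theorem L2723 : sm gi N333 = N324 := ded_38_2 (flp_e L2648) (flp_i L2024) L2719
theorem L2725 : sm gd N333 = N333 := ded_30_1 (flp_e L2719) (flp_d L2020) L1490 L2020 L2719
theorem L2726 : sm gc N247 = N334 := rfl
theorem L2728 : sm ga N334 = N332 := ded_10_1 (flp_c L2711) (flp_a L2029) L2726
theorem L2730 : sm gf N334 = N334 := ded_26_2 (flp_c L2726) L2033 L2726
theorem L2731 : sm gh N334 = N334 := ded_28_2 (flp_c L2726) L2036 L2726
theorem L2732 : sm gi N334 = N248 := ded_29_2 (flp_c L2037) (flp_i L2034) L2726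
theorem L2734 : sm gd N334 = N323 := ded_24_2 (flp_c L2641) (flp_d L1971) (flp_c L1500) L2027 L2726
theorem L2736 : sm ge N247 = N335 := rfl
theorem L2738 : sm ga N335 = N333 := ded_12_1 (flp_e L2719) (flp_a L2029) L2736
theorem L2740 : sm gb N335 = N257 := ded_19_1 (flp_e L2099) (flp_b L2031) L2736
theorem L2742 : sm gh N335 = N335 := ded_37_2 (flp_e L2736) L2036 L2736
theorem L2743 : sm gi N335 = N249 := ded_38_2 (flp_e L2042) (flp_i L2034) L2736
theorem L2745 : sm gd N335 = N335 := ded_30_1 (flp_e L2736) (flp_d L2027) L1502 L2027 L2736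
theorem L2746 : sm gb N248 = N336 := rfl
theorem L2748 : sm gf N336 = N336 := ded_20_2 (flp_b L2746) L2039 L2746
theorem L2749 : sm gh N336 = N250 := ded_22_2 (flp_b L2049) (flp_h L2040) L2746
theorem L2751 : sm gc N336 = N258 := ded_17_2 (flp_b L2106) (flp_c L1547) (flp_b L1508) L2037 L2746
theorem L2753 : sm ge N248 = N337 := rfl
theorem L2755 : sm gc N337 = N249 := ded_25_1 (flp_e L2042) L2037 L2753
theorem L2757 : sm gh N337 = N251 := ded_37_2 (flp_e L2056) (flp_h L2040) L2753
theorem L2759 : sm gf N249 = N338 := rfl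
theorem L2761 : sm gb N338 = N260 := ded_20_1 (flp_f L2119) (flp_b L2044) L2759
theorem L2763 : sm gd N338 = N338 := ded_31_1 (flp_f L2759) L2048 L2759
theorem L2764 : sm gh N338 = N252 := ded_40_2 (flp_f L2061) (flp_h L2046) L2759
theorem L2766 : sm ge N338 = N338 := ded_35_1 (flp_f L2759) (flp_e L2042) L1510 L2042 L2759
theorem L2767 : sm ga N250 = N339 := rfl
theorem L2769 : sm gc N339 = N261 := ded_10_2 (flp_a L2126) (flp_c L2054) L2767
theorem L2771 : sm gd N339 = N339 := ded_11_2 (flp_a L2767) L2051 L2767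
theorem L2772 : sm gf N339 = N339 := ded_13_2 (flp_a L2767) L2052 L2767
theorem L2773 : sm gi N339 = N339 := ded_16_2 (flp_a L2767) L2053 L2767
theorem L2774 : sm ge N250 = N340 := rfl
theorem L2776 : sm gb N340 = N251 := ded_19_1 (flp_e L2056) L2049 L2774
theorem L2778 : sm gc N340 = N262 := ded_25_1 (flp_e L2133) (flp_c L2054) L2774
theorem L2780 : sm gi N340 = N340 := ded_38_2 (flp_e L2774) L2053 L2774
theorem L2781 : sm gd N251 = N341 := rfl
theorem L2783 : sm gi N341 = N341 := ded_34_2 (flp_d L2781) L2060 L2781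
theorem L2784 : sm gc N341 = N253 := ded_24_1 (flp_d L2069) L1528 (flp_d L1523) (flp_c L2058) L2781
theorem L2786 : sm ge N341 = N341 := ded_30_2 (flp_d L2781) (flp_e L2056) L1517 L2056 L2781
theorem L2787 : sm gf N251 = N342 := rfl
theorem L2789 : sm gc N342 = N252 := ded_26_1 (flp_f L2061) (flp_c L2058) L2787
theorem L2791 : sm gi N342 = N342 := ded_41_2 (flp_f L2787) L2060 L2787
theorem L2792 : sm ge N342 = N342 := ded_35_1 (flp_f L2787) (flp_e L2056) L1515 L2056 L2787
theorem L2793 : sm gg N252 = N343 := rfl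
theorem L2795 : sm gb N343 = N264 := ded_21_1 (flp_g L2147) (flp_b L2063) L2793
theorem L2797 : sm gd N343 = N255 := ded_32_1 (flp_g L2083) (flp_d L2065) L2793
theorem L2799 : sm ge N343 = N343 := ded_36_1 (flp_g L2793) L2068 L2793
theorem L2800 : sm gi N343 = N343 := ded_43_2 (flp_g L2793) L2067 L2793
theorem L2801 : sm gf N253 = N344 := rfl
theorem L2804 : sm gd N344 = N254 := ded_31_1 (flp_f L2074) L2069 L2801
theorem L2807 : sm gh N253 = N345 := rfl
theorem L2809 : sm gb N345 = N345 := ded_22_1 (flp_h L2807) L2071 L2807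
theorem L2810 : sm ge N345 = N345 := ded_37_1 (flp_h L2807) L2073 L2807
theorem L2811 : sm gd N345 = N345 := ded_33_1 (flp_h L2807) (flp_d L2069) L1530 L2069 L2807
theorem L2812 : sm gg N254 = N346 := rfl
theorem L2815 : sm gc N346 = N255 := ded_27_1 (flp_g L2083) (flp_c L2077) L2812
theorem L2821 : sm gb N256 = N347 := rfl
theorem L2823 : sm gd N347 = N347 := ded_18_2 (flp_b L2821) L2098 L2821
theorem L2824 : sm gf N347 = N347 := ded_20_2 (flp_b L2821) L2094 L2821
theorem L2825 : sm gh N347 = N347 := ded_22_2 (flp_b L2821) L2095 L2821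
theorem L2826 : sm gi N347 = N258 := ded_23_2 (flp_b L2106) (flp_i L2096) L2821
theorem L2828 : sm ge N256 = N348 := rfl
theorem L2830 : sm ga N348 = N348 := ded_12_1 (flp_e L2828) L2093 L2828
theorem L2831 : sm gc N348 = N257 := ded_25_1 (flp_e L2099) L2091 L2828
theorem L2833 : sm gh N348 = N348 := ded_37_2 (flp_e L2828) L2095 L2828
theorem L2834 : sm gi N348 = N259 := ded_38_2 (flp_e L2112) (flp_i L2096) L2828
theorem L2836 : sm gf N257 = N349 := rfl
theorem L2838 : sm ga N349 = N349 := ded_13_1 (flp_f L2836) L2101 L2836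
theorem L2839 : sm gd N349 = N349 := ded_31_1 (flp_f L2836) L2105 L2836
theorem L2840 : sm gh N349 = N349 := ded_40_2 (flp_f L2836) L2102 L2836
theorem L2841 : sm gi N349 = N260 := ded_41_2 (flp_f L2119) (flp_i L2103) L2836
theorem L2843 : sm ge N349 = N349 := ded_35_1 (flp_f L2836) (flp_e L2099) L1543 L2099 L2836
theorem L2844 : sm ga N258 = N350 := rfl
theorem L2846 : sm gd N350 = N350 := ded_11_2 (flp_a L2844) L2108 L2844
theorem L2847 : sm gf N350 = N350 := ded_13_2 (flp_a L2844) L2109 L2844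
theorem L2848 : sm gh N350 = N261 := ded_15_2 (flp_a L2126) (flp_h L2110) L2844
theorem L2850 : sm gb N350 = N350 := ded_9_2 (flp_a L2844) (flp_b L2106) L1549 L2106 L2844
theorem L2851 : sm ge N258 = N351 := rfl
theorem L2853 : sm gb N351 = N259 := ded_19_1 (flp_e L2112) L2106 L2851
theorem L2855 : sm gh N351 = N262 := ded_37_2 (flp_e L2133) (flp_h L2110) L2851
theorem L2857 : sm gd N259 = N352 := rfl
theorem L2859 : sm ga N352 = N352 := ded_11_1 (flp_d L2857) L2114 L2857
theorem L2860 : sm gc N352 = N352 := ded_24_1 (flp_d L2857) L2115 L1559 (flp_c L2115) L2857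
theorem L2861 : sm ge N352 = N352 := ded_30_2 (flp_d L2857) (flp_e L2112) L1553 L2112 L2857
theorem L2862 : sm gh N352 = N352 := ded_33_2 (flp_d L2857) L2117 L1572 (flp_h L2117) L2857
theorem L2863 : sm gf N259 = N353 := rfl
theorem L2865 : sm ga N353 = N353 := ded_13_1 (flp_f L2863) L2114 L2863
theorem L2866 : sm gc N353 = N260 := ded_26_1 (flp_f L2119) (flp_c L2115) L2863
theorem L2868 : sm gh N353 = N263 := ded_40_2 (flp_f L2139) (flp_h L2117) L2863
theorem L2870 : sm ge N353 = N353 := ded_35_1 (flp_f L2863) (flp_e L2112) L1550 L2112 L2863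
theorem L2871 : sm gg N260 = N354 := rfl
theorem L2873 : sm ga N354 = N354 := ded_14_1 (flp_g L2871) L2121 L2871
theorem L2874 : sm gd N354 = N354 := ded_32_1 (flp_g L2871) L2122 L2871
theorem L2875 : sm ge N354 = N354 := ded_36_1 (flp_g L2871) L2125 L2871
theorem L2876 : sm gh N354 = N264 := ded_42_2 (flp_g L2147) (flp_h L2123) L2871
theorem L2878 : sm ge N261 = N355 := rfl
theorem L2880 : sm ga N355 = N262 := ded_12_1 (flp_e L2133) L2126 L2878
theorem L2882 : sm gb N355 = N355 := ded_19_1 (flp_e L2878) L2132 L2878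
theorem L2883 : sm gi N355 = N355 := ded_38_2 (flp_e L2878) L2131 L2878
theorem L2884 : sm gd N355 = N355 := ded_30_1 (flp_e L2878) L2128 L1591 (flp_d L2128) L2878
theorem L2885 : sm gf N262 = N356 := rfl
theorem L2887 : sm gb N356 = N263 := ded_20_1 (flp_f L2139) (flp_b L2135) L2885
theorem L2889 : sm gd N356 = N356 := ded_31_1 (flp_f L2885) L2138 L2885
theorem L2890 : sm gi N356 = N356 := ded_41_2 (flp_f L2885) L2137 L2885
theorem L2891 : sm ge N356 = N356 := ded_35_1 (flp_f L2885) (flp_e L2133) L1564 L2133 L2885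
theorem L2892 : sm gg N263 = N357 := rfl
theorem L2894 : sm ga N357 = N357 := ded_14_1 (flp_g L2892) L2141 L2892
theorem L2895 : sm gc N357 = N264 := ded_27_1 (flp_g L2147) (flp_c L2142) L2892
theorem L2897 : sm gd N357 = N357 := ded_32_1 (flp_g L2892) L2144 L2892
theorem L2898 : sm ge N357 = N357 := ded_36_1 (flp_g L2892) L2146 L2892
theorem L2899 : sm gi N357 = N357 := ded_43_2 (flp_g L2892) L2145 L2892
theorem L2900 : sm gd N265 = N358 := rfl
theorem L2903 : sm gb N358 = N266 := ded_18_1 (flp_d L2163) (flp_b L2157) L2900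
theorem L2905 : sm gg N358 = N358 := ded_32_2 (flp_d L2900) L2160 L2900
theorem L2906 : sm gi N358 = N358 := ded_34_2 (flp_d L2900) L2162 L2900
theorem L2908 : sm gf N265 = N359 := rfl
theorem L2915 : sm gi N359 = N359 := ded_41_2 (flp_f L2908) L2162 L2908
theorem L2916 : sm gf N266 = N360 := rfl
theorem L2918 : sm ga N360 = N269 := ded_13_1 (flp_f L2188) (flp_a L2165) L2916
theorem L2921 : sm gd N360 = N267 := ded_31_1 (flp_f L2171) L2163 L2916
theorem L2923 : sm gi N360 = N360 := ded_41_2 (flp_f L2916) L2168 L2916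
theorem L2924 : sm gh N266 = N361 := rfl
theorem L2926 : sm ga N361 = N270 := ded_15_1 (flp_h L2195) (flp_a L2165) L2924
theorem L2941 : sm ge N269 = N363 := rfl
theorem L2947 : sm gg N269 = N364 := rfl
theorem L2951 : sm gd N364 = N271 := ded_32_1 (flp_g L2202) (flp_d L2192) L2947
theorem L2955 : sm gh N269 = N365 := rfl
theorem L2959 : sm gf N365 = N270 := ded_40_1 (flp_h L2195) L2188 L2955
theorem L2962 : sm gi N270 = N366 := rfl
theorem L2970 : sm gh N272 = N367 := rfl
theorem L2972 : sm ga N367 = N287 := ded_15_1 (flp_h L2350) (flp_a L2212) L2970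
theorem L2974 : sm gb N367 = N367 := ded_22_1 (flp_h L2970) L2214 L2970
theorem L2975 : sm ge N367 = N273 := ded_37_1 (flp_h L2220) (flp_e L2216) L2970
theorem L2977 : sm gf N367 = N367 := ded_40_1 (flp_h L2970) L2218 L2970
theorem L2978 : sm gg N367 = N367 := ded_42_1 (flp_h L2970) L2219 L2970
theorem L2979 : sm gd N273 = N368 := rfl
theorem L2981 : sm ga N368 = N289 := ded_11_1 (flp_d L2371) (flp_a L2222) L2979
theorem L2983 : sm gb N368 = N368 := ded_18_1 (flp_d L2979) L2224 L2979
theorem L2984 : sm gf N368 = N274 := ded_31_2 (flp_d L2228) (flp_f L2225) L2979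
theorem L2986 : sm gg N368 = N368 := ded_32_2 (flp_d L2979) L2227 L2979
theorem L2987 : sm gh N368 = N275 := ded_33_2 (flp_d L2237) (flp_h L1669) (flp_d L1656) L2220 L2979
theorem L2989 : sm gc N274 = N369 := rfl
theorem L2991 : sm ga N369 = N291 := ded_10_1 (flp_c L2391) (flp_a L2230) L2989
theorem L2993 : sm gg N369 = N323 := ded_27_2 (flp_c L2641) (flp_g L2233) L2989
theorem L2995 : sm gh N369 = N276 := ded_28_2 (flp_c L2246) (flp_h L2235) L2989
theorem L2997 : sm ge N274 = N370 := rfl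
theorem L2999 : sm ga N370 = N292 := ded_12_1 (flp_e L2397) (flp_a L2230) L2997
theorem L3001 : sm gb N370 = N370 := ded_19_1 (flp_e L2997) L2232 L2997
theorem L3002 : sm gg N370 = N324 := ded_36_2 (flp_e L2648) (flp_g L2233) L2997
theorem L3004 : sm gh N370 = N277 := ded_37_2 (flp_e L2254) (flp_h L2235) L2997
theorem L3006 : sm gd N370 = N370 := ded_30_1 (flp_e L2997) (flp_d L2228) L1666 L2228 L2997
theorem L3007 : sm gc N275 = N371 := rfl
theorem L3009 : sm ga N371 = N293 := ded_10_1 (flp_c L2406) (flp_a L2239) L3007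
theorem L3011 : sm gf N371 = N276 := ded_26_2 (flp_c L2246) (flp_f L2242) L3007
theorem L3013 : sm gg N371 = N371 := ded_27_2 (flp_c L3007) L2244 L3007
theorem L3014 : sm gi N371 = N371 := ded_29_2 (flp_c L3007) L2245 L3007
theorem L3015 : sm gd N371 = N371 := ded_24_2 (flp_c L3007) (flp_d L2237) L1674 L2237 L3007
theorem L3016 : sm ge N275 = N372 := rfl
theorem L3018 : sm ga N372 = N294 := ded_12_1 (flp_e L2413) (flp_a L2239) L3016
theorem L3020 : sm gb N372 = N372 := ded_19_1 (flp_e L3016) L2241 L3016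
theorem L3021 : sm gg N372 = N372 := ded_36_2 (flp_e L3016) L2244 L3016
theorem L3022 : sm gi N372 = N372 := ded_38_2 (flp_e L3016) L2245 L3016
theorem L3023 : sm gd N372 = N372 := ded_30_1 (flp_e L3016) (flp_d L2237) L1675 L2237 L3016
theorem L3024 : sm gb N276 = N373 := rfl
theorem L3026 : sm gd N373 = N373 := ded_18_2 (flp_b L3024) L2253 L3024
theorem L3027 : sm gg N373 = N325 := ded_21_2 (flp_b L2656) (flp_g L2250) L3024
theorem L3029 : sm gi N373 = N373 := ded_23_2 (flp_b L3024) L2252 L3024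
theorem L3030 : sm gc N373 = N373 := ded_17_2 (flp_b L3024) (flp_c L2246) L1684 L2246 L3024
theorem L3031 : sm ge N276 = N374 := rfl
theorem L3033 : sm ga N374 = N296 := ded_12_1 (flp_e L2428) (flp_a L2248) L3031
theorem L3035 : sm gc N374 = N277 := ded_25_1 (flp_e L2254) L2246 L3031
theorem L3037 : sm gg N374 = N326 := ded_36_2 (flp_e L2662) (flp_g L2250) L3031
theorem L3039 : sm gi N374 = N374 := ded_38_2 (flp_e L3031) L2252 L3031
theorem L3040 : sm gf N277 = N375 := rfl
theorem L3042 : sm ga N375 = N297 := ded_13_1 (flp_f L2435) (flp_a L2256) L3040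
theorem L3044 : sm gb N375 = N375 := ded_20_1 (flp_f L3040) L2258 L3040
theorem L3045 : sm gd N375 = N280 := ded_31_1 (flp_f L2284) (flp_d L2262) L3040
theorem L3047 : sm gi N375 = N375 := ded_41_2 (flp_f L3040) L2261 L3040
theorem L3048 : sm ge N278 = N376 := rfl
theorem L3051 : sm gb N376 = N279 := ded_19_1 (flp_e L2274) L2264 L3048
theorem L3054 : sm gg N376 = N328 := ded_36_2 (flp_e L2678) (flp_g L2268) L3048
theorem L3057 : sm gi N376 = N376 := ded_38_2 (flp_e L3048) L2271 L3048
theorem L3058 : sm gd N279 = N377 := rfl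
theorem L3060 : sm ga N377 = N298 := ded_11_1 (flp_d L2442) (flp_a L2276) L3058
theorem L3075 : sm gg N280 = N379 := rfl
theorem L3077 : sm ga N379 = N300 := ded_14_1 (flp_g L2457) (flp_a L2286) L3075
theorem L3083 : sm gf N379 = N331 := ded_39_1 (flp_g L2702) (flp_f L2011) (flp_g L1703) L2284 L3075
theorem L3085 : sm gi N281 = N380 := rfl
theorem L3087 : sm gb N380 = N380 := ded_23_1 (flp_i L3085) L2294 L3085
theorem L3088 : sm gc N380 = N380 := ded_29_1 (flp_i L3085) L2297 L3085
theorem L3089 : sm gd N380 = N282 := ded_34_1 (flp_i L2300) L2292 L3085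
theorem L3091 : sm ge N380 = N380 := ded_38_1 (flp_i L3085) L2298 L3085
theorem L3092 : sm gf N380 = N380 := ded_41_1 (flp_i L3085) L2295 L3085
theorem L3093 : sm gg N380 = N380 := ded_43_1 (flp_i L3085) L2296 L3085
theorem L3094 : sm gh N282 = N381 := rfl
theorem L3096 : sm gb N381 = N381 := ded_22_1 (flp_h L3094) L2302 L3094
theorem L3097 : sm gc N381 = N287 := ded_28_1 (flp_h L2350) (flp_c L2303) L3094
theorem L3099 : sm ge N381 = N283 := ded_37_1 (flp_h L2309) (flp_e L2305) L3094
theorem L3101 : sm gf N381 = N381 := ded_40_1 (flp_h L3094) L2307 L3094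
theorem L3102 : sm gg N381 = N381 := ded_42_1 (flp_h L3094) L2308 L3094
theorem L3103 : sm gi N381 = N367 := ded_44_2 (flp_h L2970) (flp_i L2210) (flp_h L1713) L2300 L3094
theorem L3105 : sm gd N283 = N382 := rfl
theorem L3107 : sm gb N382 = N382 := ded_18_1 (flp_d L3105) L2311 L3105
theorem L3108 : sm gf N382 = N284 := ded_31_2 (flp_d L2319) (flp_f L2314) L3105
theorem L3110 : sm gg N382 = N382 := ded_32_2 (flp_d L3105) L2316 L3105
theorem L3111 : sm gi N382 = N368 := ded_34_2 (flp_d L2979) (flp_i L2317) L3105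
theorem L3113 : sm gh N382 = N382 := ded_33_2 (flp_d L3105) (flp_h L2309) L1721 L2309 L3105
theorem L3114 : sm gc N284 = N383 := rfl
theorem L3116 : sm gg N383 = N332 := ded_27_2 (flp_c L2711) (flp_g L2322) L3114
theorem L3118 : sm gh N383 = N383 := ded_28_2 (flp_c L3114) L2326 L3114
theorem L3119 : sm gi N383 = N369 := ded_29_2 (flp_c L2989) (flp_i L2324) L3114
theorem L3121 : sm gd N383 = N291 := ded_24_2 (flp_c L2391) (flp_d L1788) (flp_c L1728) L2319 L3114
theorem L3123 : sm ge N284 = N384 := rfl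
theorem L3125 : sm gb N384 = N384 := ded_19_1 (flp_e L3123) L2321 L3123
theorem L3126 : sm gg N384 = N333 := ded_36_2 (flp_e L2719) (flp_g L2322) L3123
theorem L3128 : sm gh N384 = N384 := ded_37_2 (flp_e L3123) L2326 L3123
theorem L3129 : sm gi N384 = N370 := ded_38_2 (flp_e L2997) (flp_i L2324) L3123
theorem L3131 : sm gd N384 = N384 := ded_30_1 (flp_e L3123) (flp_d L2319) L1730 L2319 L3123
theorem L3132 : sm gi N285 = N385 := rfl
theorem L3134 : sm ga N385 = N380 := ded_16_1 (flp_i L3085) (flp_a L2329) L3132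
theorem L3136 : sm gb N385 = N302 := ded_23_1 (flp_i L2475) (flp_b L2331) L3132
theorem L3138 : sm gc N385 = N385 := ded_29_1 (flp_i L3132) L2335 L3132
theorem L3139 : sm gd N385 = N286 := ded_34_1 (flp_i L2338) L2327 L3132
theorem L3141 : sm ge N385 = N385 := ded_38_1 (flp_i L3132) L2336 L3132
theorem L3142 : sm gf N385 = N385 := ded_41_1 (flp_i L3132) L2333 L3132
theorem L3143 : sm gg N385 = N385 := ded_43_1 (flp_i L3132) L2334 L3132
theorem L3144 : sm gh N286 = N386 := rfl
theorem L3146 : sm ga N386 = N381 := ded_15_1 (flp_h L3094) (flp_a L2340) L3144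
theorem L3148 : sm gb N386 = N303 := ded_22_1 (flp_h L2483) (flp_b L2342) L3144
theorem L3150 : sm gc N386 = N367 := ded_28_1 (flp_h L2970) (flp_c L2344) L3144
theorem L3152 : sm ge N386 = N288 := ded_37_1 (flp_h L2358) (flp_e L2346) L3144
theorem L3154 : sm gf N386 = N386 := ded_40_1 (flp_h L3144) L2348 L3144
theorem L3155 : sm gg N386 = N386 := ded_42_1 (flp_h L3144) L2349 L3144
theorem L3156 : sm gi N386 = N287 := ded_44_2 (flp_h L2350) (flp_i L1747) L1735 L2338 L3144
theorem L3158 : sm gd N287 = N387 := rfl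
theorem L3160 : sm gb N387 = N304 := ded_18_1 (flp_d L2493) (flp_b L2352) L3158
theorem L3162 : sm gf N387 = N387 := ded_31_2 (flp_d L3158) L2356 L3158
theorem L3163 : sm gg N387 = N387 := ded_32_2 (flp_d L3158) L2357 L3158
theorem L3164 : sm gh N387 = N387 := ded_33_2 (flp_d L3158) (flp_h L2350) L1751 L2350 L3158
theorem L3165 : sm gd N288 = N388 := rfl
theorem L3167 : sm ga N388 = N382 := ded_11_1 (flp_d L3105) (flp_a L2360) L3165
theorem L3169 : sm gb N388 = N305 := ded_18_1 (flp_d L2499) (flp_b L2362) L3165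
theorem L3171 : sm gf N388 = N290 := ded_31_2 (flp_d L2380) (flp_f L2366) L3165
theorem L3173 : sm gg N388 = N388 := ded_32_2 (flp_d L3165) L2368 L3165
theorem L3174 : sm gi N388 = N289 := ded_34_2 (flp_d L2371) (flp_i L2369) L3165
theorem L3176 : sm gh N388 = N388 := ded_33_2 (flp_d L3165) (flp_h L2358) L1764 L2358 L3165
theorem L3177 : sm gc N289 = N389 := rfl
theorem L3179 : sm gf N389 = N291 := ded_26_2 (flp_c L2391) (flp_f L2375) L3177
theorem L3181 : sm gg N389 = N389 := ded_27_2 (flp_c L3177) L2377 L3177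
theorem L3182 : sm gh N389 = N293 := ded_28_2 (flp_c L2406) (flp_h L2378) L3177
theorem L3184 : sm ge N289 = N390 := rfl
theorem L3186 : sm gb N390 = N307 := ded_19_1 (flp_e L2517) (flp_b L2373) L3184
theorem L3188 : sm gg N390 = N390 := ded_36_2 (flp_e L3184) L2377 L3184
theorem L3189 : sm gh N390 = N294 := ded_37_2 (flp_e L2413) (flp_h L2378) L3184
theorem L3191 : sm gc N290 = N391 := rfl
theorem L3193 : sm ga N391 = N383 := ded_10_1 (flp_c L3114) (flp_a L2382) L3191
theorem L3195 : sm gg N391 = N334 := ded_27_2 (flp_c L2726) (flp_g L2386) L3191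
theorem L3197 : sm gh N391 = N391 := ded_28_2 (flp_c L3191) L2390 L3191
theorem L3198 : sm gi N391 = N291 := ded_29_2 (flp_c L2391) (flp_i L2388) L3191
theorem L3200 : sm gd N391 = N369 := ded_24_2 (flp_c L2989) (flp_d L2228) (flp_c L1781) L2380 L3191
theorem L3202 : sm ge N290 = N392 := rfl
theorem L3204 : sm ga N392 = N384 := ded_12_1 (flp_e L3123) (flp_a L2382) L3202
theorem L3206 : sm gb N392 = N309 := ded_19_1 (flp_e L2532) (flp_b L2384) L3202
theorem L3208 : sm gg N392 = N335 := ded_36_2 (flp_e L2736) (flp_g L2386) L3202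
theorem L3210 : sm gh N392 = N392 := ded_37_2 (flp_e L3202) L2390 L3202
theorem L3211 : sm gi N392 = N292 := ded_38_2 (flp_e L2397) (flp_i L2388) L3202
theorem L3213 : sm gd N392 = N392 := ded_30_1 (flp_e L3202) (flp_d L2380) L1783 L2380 L3202
theorem L3214 : sm gb N291 = N393 := rfl
theorem L3216 : sm gg N393 = N336 := ded_21_2 (flp_b L2746) (flp_g L2393) L3214
theorem L3218 : sm gh N393 = N295 := ded_22_2 (flp_b L2420) (flp_h L2395) L3214
theorem L3220 : sm gc N393 = N310 := ded_17_2 (flp_b L2541) (flp_c L1883) (flp_b L1790) L2391 L3214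
theorem L3222 : sm ge N291 = N394 := rfl
theorem L3224 : sm gc N394 = N292 := ded_25_1 (flp_e L2397) L2391 L3222
theorem L3226 : sm gg N394 = N337 := ded_36_2 (flp_e L2753) (flp_g L2393) L3222
theorem L3228 : sm gh N394 = N296 := ded_37_2 (flp_e L2428) (flp_h L2395) L3222
theorem L3230 : sm gf N292 = N395 := rfl
theorem L3232 : sm gb N395 = N312 := ded_20_1 (flp_f L2557) (flp_b L2399) L3230
theorem L3234 : sm gd N395 = N395 := ded_31_1 (flp_f L3230) L2405 L3230
theorem L3235 : sm gh N395 = N297 := ded_40_2 (flp_f L2435) (flp_h L2403) L3230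
theorem L3237 : sm gb N293 = N396 := rfl
theorem L3239 : sm gd N396 = N396 := ded_18_2 (flp_b L3237) L2412 L3237
theorem L3240 : sm gf N396 = N295 := ded_20_2 (flp_b L2420) (flp_f L2408) L3237
theorem L3242 : sm gg N396 = N396 := ded_21_2 (flp_b L3237) L2410 L3237
theorem L3243 : sm gi N396 = N396 := ded_23_2 (flp_b L3237) L2411 L3237
theorem L3244 : sm gc N396 = N313 := ded_17_2 (flp_b L2563) (flp_c L1899) (flp_b L1798) L2406 L3237
theorem L3246 : sm ge N293 = N397 := rfl
theorem L3248 : sm gc N397 = N294 := ded_25_1 (flp_e L2413) L2406 L3246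
theorem L3250 : sm gg N397 = N397 := ded_36_2 (flp_e L3246) L2410 L3246
theorem L3251 : sm gi N397 = N397 := ded_38_2 (flp_e L3246) L2411 L3246
theorem L3252 : sm gf N294 = N398 := rfl
theorem L3254 : sm gb N398 = N315 := ded_20_1 (flp_f L2578) (flp_b L2415) L3252
theorem L3256 : sm gd N398 = N398 := ded_31_1 (flp_f L3252) L2419 L3252
theorem L3257 : sm gi N398 = N398 := ded_41_2 (flp_f L3252) L2418 L3252
theorem L3258 : sm ge N398 = N297 := ded_35_1 (flp_f L2435) (flp_e L1810) (flp_f L1800) L2413 L3252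
theorem L3260 : sm ga N295 = N399 := rfl
theorem L3262 : sm gc N399 = N316 := ded_10_2 (flp_a L2585) (flp_c L2426) L3260
theorem L3264 : sm gd N399 = N399 := ded_11_2 (flp_a L3260) L2422 L3260
theorem L3265 : sm gg N399 = N339 := ded_14_2 (flp_a L2767) (flp_g L2423) L3260
theorem L3267 : sm gi N399 = N399 := ded_16_2 (flp_a L3260) L2425 L3260
theorem L3268 : sm ge N295 = N400 := rfl
theorem L3270 : sm gb N400 = N296 := ded_19_1 (flp_e L2428) L2420 L3268
theorem L3272 : sm gc N400 = N317 := ded_25_1 (flp_e L2593) (flp_c L2426) L3268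
theorem L3274 : sm gg N400 = N340 := ded_36_2 (flp_e L2774) (flp_g L2423) L3268
theorem L3276 : sm gi N400 = N400 := ded_38_2 (flp_e L3268) L2425 L3268
theorem L3277 : sm gd N296 = N401 := rfl
theorem L3279 : sm gg N401 = N341 := ded_32_2 (flp_d L2781) (flp_g L2432) L3277
theorem L3281 : sm gi N401 = N401 := ded_34_2 (flp_d L3277) L2434 L3277
theorem L3282 : sm gc N401 = N298 := ded_24_1 (flp_d L2442) L1822 (flp_d L1817) (flp_c L2430) L3277
theorem L3284 : sm ge N401 = N401 := ded_30_2 (flp_d L3277) (flp_e L2428) L1809 L2428 L3277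
theorem L3285 : sm gf N296 = N402 := rfl
theorem L3287 : sm gc N402 = N297 := ded_26_1 (flp_f L2435) (flp_c L2430) L3285
theorem L3289 : sm gi N402 = N402 := ded_41_2 (flp_f L3285) L2434 L3285
theorem L3290 : sm gg N297 = N403 := rfl
theorem L3292 : sm gb N403 = N319 := ded_21_1 (flp_g L2608) (flp_b L2437) L3290
theorem L3294 : sm gd N403 = N300 := ded_32_1 (flp_g L2457) (flp_d L2439) L3290
theorem L3296 : sm gi N403 = N403 := ded_43_2 (flp_g L3290) L2441 L3290
theorem L3297 : sm gf N403 = N343 := ded_39_1 (flp_g L2793) (flp_f L2061) (flp_g L1814) L2435 L3290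
theorem L3299 : sm gf N298 = N404 := rfl
theorem L3301 : sm gb N404 = N404 := ded_20_1 (flp_f L3299) L2444 L3299
theorem L3302 : sm gd N404 = N299 := ded_31_1 (flp_f L2449) L2442 L3299
theorem L3304 : sm gi N404 = N404 := ded_41_2 (flp_f L3299) L2447 L3299
theorem L3305 : sm gh N298 = N405 := rfl
theorem L3307 : sm gb N405 = N405 := ded_22_1 (flp_h L3305) L2444 L3305
theorem L3308 : sm ge N405 = N405 := ded_37_1 (flp_h L3305) L2448 L3305
theorem L3309 : sm gg N405 = N345 := ded_42_1 (flp_h L2807) (flp_g L2445) L3305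
theorem L3311 : sm gd N405 = N405 := ded_33_1 (flp_h L3305) (flp_d L2442) L1826 L2442 L3305
theorem L3312 : sm gg N299 = N406 := rfl
theorem L3315 : sm gc N406 = N300 := ded_27_1 (flp_g L2457) (flp_c L2452) L3312
theorem L3322 : sm gi N301 = N407 := rfl
theorem L3324 : sm ga N407 = N407 := ded_16_1 (flp_i L3322) L2468 L3322
theorem L3325 : sm gb N407 = N407 := ded_23_1 (flp_i L3322) L2473 L3322
theorem L3326 : sm gc N407 = N302 := ded_29_1 (flp_i L2475) L2466 L3322
theorem L3328 : sm gd N407 = N407 := ded_34_1 (flp_i L3322) L2474 L3322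
theorem L3329 : sm ge N407 = N407 := ded_38_1 (flp_i L3322) L2469 L3322
theorem L3330 : sm gf N407 = N407 := ded_41_1 (flp_i L3322) L2470 L3322
theorem L3331 : sm gg N407 = N407 := ded_43_1 (flp_i L3322) L2471 L3322
theorem L3332 : sm gh N302 = N408 := rfl
theorem L3334 : sm ga N408 = N408 := ded_15_1 (flp_h L3332) L2477 L3332
theorem L3335 : sm ge N408 = N408 := ded_37_1 (flp_h L3332) L2480 L3332
theorem L3336 : sm gf N408 = N408 := ded_40_1 (flp_h L3332) L2481 L3332
theorem L3337 : sm gg N408 = N408 := ded_42_1 (flp_h L3332) L2482 L3332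
theorem L3338 : sm gi N408 = N408 := ded_44_2 (flp_h L3332) (flp_i L2475) L1841 L2475 L3332
theorem L3339 : sm gd N303 = N409 := rfl
theorem L3341 : sm ga N409 = N409 := ded_11_1 (flp_d L3339) L2485 L3339
theorem L3342 : sm gf N409 = N409 := ded_31_2 (flp_d L3339) L2489 L3339
theorem L3343 : sm gg N409 = N409 := ded_32_2 (flp_d L3339) L2490 L3339
theorem L3344 : sm gi N409 = N304 := ded_34_2 (flp_d L2493) (flp_i L2491) L3339
theorem L3346 : sm gc N304 = N410 := rfl
theorem L3348 : sm ga N410 = N410 := ded_10_1 (flp_c L3346) L2495 L3346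
theorem L3349 : sm gf N410 = N410 := ded_26_2 (flp_c L3346) L2496 L3346
theorem L3350 : sm gg N410 = N410 := ded_27_2 (flp_c L3346) L2497 L3346
theorem L3351 : sm gh N410 = N410 := ded_28_2 (flp_c L3346) L2498 L3346
theorem L3352 : sm gd N410 = N410 := ded_24_2 (flp_c L3346) (flp_d L2493) L1853 L2493 L3346
theorem L3353 : sm ge N304 = N411 := rfl
theorem L3355 : sm ga N411 = N411 := ded_12_1 (flp_e L3353) L2495 L3353
theorem L3356 : sm gg N411 = N411 := ded_36_2 (flp_e L3353) L2497 L3353
theorem L3357 : sm gh N411 = N411 := ded_37_2 (flp_e L3353) L2498 L3353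
theorem L3358 : sm gd N411 = N307 := ded_30_1 (flp_e L2517) (flp_d L1867) (flp_e L1854) L2493 L3353
theorem L3360 : sm gc N305 = N412 := rfl
theorem L3362 : sm ga N412 = N412 := ded_10_1 (flp_c L3360) L2501 L3360
theorem L3363 : sm gf N412 = N308 := ded_26_2 (flp_c L2523) (flp_f L2502) L3360
theorem L3365 : sm gg N412 = N412 := ded_27_2 (flp_c L3360) L2504 L3360
theorem L3366 : sm gh N412 = N412 := ded_28_2 (flp_c L3360) L2507 L3360
theorem L3367 : sm gi N412 = N306 := ded_29_2 (flp_c L2508) (flp_i L2505) L3360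
theorem L3369 : sm gd N412 = N412 := ded_24_2 (flp_c L3360) (flp_d L2499) L1861 L2499 L3360
theorem L3370 : sm ge N305 = N413 := rfl
theorem L3372 : sm ga N413 = N413 := ded_12_1 (flp_e L3370) L2501 L3370
theorem L3373 : sm gg N413 = N413 := ded_36_2 (flp_e L3370) L2504 L3370
theorem L3374 : sm gh N413 = N413 := ded_37_2 (flp_e L3370) L2507 L3370
theorem L3375 : sm gi N413 = N307 := ded_38_2 (flp_e L2517) (flp_i L2505) L3370
theorem L3377 : sm gb N306 = N414 := rfl
theorem L3379 : sm gd N414 = N414 := ded_18_2 (flp_b L3377) L2516 L3377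
theorem L3380 : sm gf N414 = N310 := ded_20_2 (flp_b L2541) (flp_f L2511) L3377
theorem L3382 : sm gg N414 = N414 := ded_21_2 (flp_b L3377) L2513 L3377
theorem L3383 : sm gh N414 = N313 := ded_22_2 (flp_b L2563) (flp_h L2514) L3377
theorem L3385 : sm ge N306 = N415 := rfl
theorem L3387 : sm ga N415 = N415 := ded_12_1 (flp_e L3385) L2510 L3385
theorem L3388 : sm gc N415 = N307 := ded_25_1 (flp_e L2517) L2508 L3385
theorem L3390 : sm gg N415 = N415 := ded_36_2 (flp_e L3385) L2513 L3385
theorem L3391 : sm gh N415 = N314 := ded_37_2 (flp_e L2571) (flp_h L2514) L3385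
theorem L3393 : sm gf N307 = N416 := rfl
theorem L3395 : sm ga N416 = N416 := ded_13_1 (flp_f L3393) L2519 L3393
theorem L3396 : sm gh N416 = N315 := ded_40_2 (flp_f L2578) (flp_h L2521) L3393
theorem L3398 : sm ge N416 = N312 := ded_35_1 (flp_f L2557) (flp_e L1891) (flp_f L1870) L2517 L3393
theorem L3400 : sm gb N308 = N417 := rfl
theorem L3402 : sm gd N417 = N417 := ded_18_2 (flp_b L3400) L2531 L3400
theorem L3403 : sm gg N417 = N347 := ded_21_2 (flp_b L2821) (flp_g L2526) L3400
theorem L3405 : sm gh N417 = N417 := ded_22_2 (flp_b L3400) L2528 L3400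
theorem L3406 : sm gi N417 = N310 := ded_23_2 (flp_b L2541) (flp_i L2529) L3400
theorem L3408 : sm ge N308 = N418 := rfl
theorem L3410 : sm ga N418 = N418 := ded_12_1 (flp_e L3408) L2525 L3408
theorem L3411 : sm gc N418 = N309 := ded_25_1 (flp_e L2532) L2523 L3408
theorem L3413 : sm gg N418 = N348 := ded_36_2 (flp_e L2828) (flp_g L2526) L3408
theorem L3415 : sm gh N418 = N418 := ded_37_2 (flp_e L3408) L2528 L3408
theorem L3416 : sm gi N418 = N311 := ded_38_2 (flp_e L2548) (flp_i L2529) L3408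
theorem L3418 : sm gf N309 = N419 := rfl
theorem L3420 : sm ga N419 = N419 := ded_13_1 (flp_f L3418) L2534 L3418
theorem L3421 : sm gd N419 = N419 := ded_31_1 (flp_f L3418) L2540 L3418
theorem L3422 : sm gh N419 = N419 := ded_40_2 (flp_f L3418) L2537 L3418
theorem L3423 : sm gi N419 = N312 := ded_41_2 (flp_f L2557) (flp_i L2538) L3418
theorem L3425 : sm ga N310 = N420 := rfl
theorem L3427 : sm gd N420 = N420 := ded_11_2 (flp_a L3425) L2543 L3425
theorem L3428 : sm gg N420 = N350 := ded_14_2 (flp_a L2844) (flp_g L2544) L3425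
theorem L3430 : sm gh N420 = N316 := ded_15_2 (flp_a L2585) (flp_h L2546) L3425
theorem L3432 : sm gb N420 = N420 := ded_9_2 (flp_a L3425) (flp_b L2541) L1885 L2541 L3425
theorem L3433 : sm ge N310 = N421 := rfl
theorem L3435 : sm gb N421 = N311 := ded_19_1 (flp_e L2548) L2541 L3433
theorem L3437 : sm gg N421 = N351 := ded_36_2 (flp_e L2851) (flp_g L2544) L3433
theorem L3439 : sm gh N421 = N317 := ded_37_2 (flp_e L2593) (flp_h L2546) L3433
theorem L3441 : sm gd N311 = N422 := rfl
theorem L3443 : sm ga N422 = N422 := ded_11_1 (flp_d L3441) L2550 L3441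
theorem L3444 : sm gg N422 = N352 := ded_32_2 (flp_d L2857) (flp_g L2553) L3441
theorem L3446 : sm gc N422 = N422 := ded_24_1 (flp_d L3441) L2551 L1898 (flp_c L2551) L3441
theorem L3447 : sm ge N422 = N422 := ded_30_2 (flp_d L3441) (flp_e L2548) L1890 L2548 L3441
theorem L3448 : sm gh N422 = N422 := ded_33_2 (flp_d L3441) L2555 L1929 (flp_h L2555) L3441
theorem L3449 : sm gf N311 = N423 := rfl
theorem L3451 : sm ga N423 = N423 := ded_13_1 (flp_f L3449) L2550 L3449
theorem L3452 : sm gc N423 = N312 := ded_26_1 (flp_f L2557) (flp_c L2551) L3449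
theorem L3454 : sm gh N423 = N318 := ded_40_2 (flp_f L2601) (flp_h L2555) L3449
theorem L3456 : sm gg N312 = N424 := rfl
theorem L3458 : sm ga N424 = N424 := ded_14_1 (flp_g L3456) L2559 L3456
theorem L3459 : sm gd N424 = N424 := ded_32_1 (flp_g L3456) L2560 L3456
theorem L3460 : sm gh N424 = N319 := ded_42_2 (flp_g L2608) (flp_h L2561) L3456
theorem L3462 : sm gf N424 = N354 := ded_39_1 (flp_g L2871) (flp_f L2119) (flp_g L1894) L2557 L3456
theorem L3464 : sm ga N313 = N425 := rfl
theorem L3466 : sm gd N425 = N320 := ded_11_2 (flp_a L2616) (flp_d L2565) L3464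
theorem L3468 : sm gf N425 = N316 := ded_13_2 (flp_a L2585) (flp_f L2567) L3464
theorem L3470 : sm gg N425 = N425 := ded_14_2 (flp_a L3464) L2569 L3464
theorem L3471 : sm gi N425 = N425 := ded_16_2 (flp_a L3464) L2570 L3464
theorem L3472 : sm gb N425 = N425 := ded_9_2 (flp_a L3464) (flp_b L2563) L1901 L2563 L3464
theorem L3473 : sm ge N313 = N426 := rfl
theorem L3475 : sm gb N426 = N314 := ded_19_1 (flp_e L2571) L2563 L3473
theorem L3477 : sm gg N426 = N426 := ded_36_2 (flp_e L3473) L2569 L3473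
theorem L3478 : sm gi N426 = N426 := ded_38_2 (flp_e L3473) L2570 L3473
theorem L3479 : sm gd N314 = N427 := rfl
theorem L3481 : sm ga N427 = N427 := ded_11_1 (flp_d L3479) L2573 L3479
theorem L3482 : sm gg N427 = N427 := ded_32_2 (flp_d L3479) L2576 L3479
theorem L3483 : sm gi N427 = N427 := ded_34_2 (flp_d L3479) L2577 L3479
theorem L3484 : sm gc N427 = N427 := ded_24_1 (flp_d L3479) L2574 L1913 (flp_c L2574) L3479
theorem L3485 : sm ge N427 = N322 := ded_30_2 (flp_d L2634) (flp_e L1953) (flp_d L1906) L2571 L3479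
theorem L3487 : sm gf N314 = N428 := rfl
theorem L3489 : sm ga N428 = N428 := ded_13_1 (flp_f L3487) L2573 L3487
theorem L3490 : sm gc N428 = N315 := ded_26_1 (flp_f L2578) (flp_c L2574) L3487
theorem L3492 : sm gi N428 = N428 := ded_41_2 (flp_f L3487) L2577 L3487
theorem L3493 : sm ge N428 = N318 := ded_35_1 (flp_f L2601) (flp_e L1921) (flp_f L1902) L2571 L3487
theorem L3495 : sm gg N315 = N429 := rfl
theorem L3497 : sm ga N429 = N429 := ded_14_1 (flp_g L3495) L2580 L3495
theorem L3498 : sm gd N429 = N429 := ded_32_1 (flp_g L3495) L2581 L3495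
theorem L3499 : sm ge N429 = N319 := ded_36_1 (flp_g L2608) (flp_e L2583) L3495
theorem L3501 : sm gi N429 = N429 := ded_43_2 (flp_g L3495) L2582 L3495
theorem L3502 : sm gf N429 = N429 := ded_39_1 (flp_g L3495) (flp_f L2578) L1911 L2578 L3495
theorem L3503 : sm ge N316 = N430 := rfl
theorem L3505 : sm ga N430 = N317 := ded_12_1 (flp_e L2593) L2585 L3503
theorem L3507 : sm gb N430 = N430 := ded_19_1 (flp_e L3503) L2592 L3503
theorem L3508 : sm gg N430 = N355 := ded_36_2 (flp_e L2878) (flp_g L2589) L3503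
theorem L3510 : sm gi N430 = N430 := ded_38_2 (flp_e L3503) L2591 L3503
theorem L3511 : sm gd N430 = N430 := ded_30_1 (flp_e L3503) L2587 L1965 (flp_d L2587) L3503
theorem L3512 : sm gf N317 = N431 := rfl
theorem L3514 : sm gb N431 = N318 := ded_20_1 (flp_f L2601) (flp_b L2595) L3512
theorem L3516 : sm gd N431 = N431 := ded_31_1 (flp_f L3512) L2600 L3512
theorem L3517 : sm gi N431 = N431 := ded_41_2 (flp_f L3512) L2599 L3512
theorem L3518 : sm gg N318 = N432 := rfl
theorem L3520 : sm ga N432 = N432 := ded_14_1 (flp_g L3518) L2603 L3518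
theorem L3521 : sm gc N432 = N319 := ded_27_1 (flp_g L2608) (flp_c L2604) L3518
theorem L3523 : sm gd N432 = N432 := ded_32_1 (flp_g L3518) L2606 L3518
theorem L3524 : sm gi N432 = N432 := ded_43_2 (flp_g L3518) L2607 L3518
theorem L3525 : sm gf N432 = N357 := ded_39_1 (flp_g L2892) (flp_f L2139) (flp_g L1926) L2601 L3518
theorem L3527 : sm ge N320 = N433 := rfl
theorem L3529 : sm ga N433 = N321 := ded_12_1 (flp_e L2625) L2616 L3527
theorem L3531 : sm gb N433 = N433 := ded_19_1 (flp_e L3527) L2624 L3527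
theorem L3532 : sm gc N433 = N433 := ded_25_1 (flp_e L3527) L2618 L3527
theorem L3533 : sm gg N433 = N433 := ded_36_2 (flp_e L3527) L2621 L3527
theorem L3534 : sm gh N433 = N433 := ded_37_2 (flp_e L3527) L2622 L3527
theorem L3535 : sm gi N433 = N433 := ded_38_2 (flp_e L3527) L2623 L3527
theorem L3536 : sm gf N433 = N433 := ded_35_2 (flp_e L3527) L2619 L1965 (flp_f L2619) L3527
theorem L3537 : sm gd N321 = N434 := rfl
theorem L3539 : sm gb N434 = N322 := ded_18_1 (flp_d L2634) (flp_b L2627) L3537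
theorem L3541 : sm gf N434 = N434 := ded_31_2 (flp_d L3537) L2633 L3537
theorem L3542 : sm gg N434 = N434 := ded_32_2 (flp_d L3537) L2630 L3537
theorem L3543 : sm gi N434 = N434 := ded_34_2 (flp_d L3537) L2632 L3537
theorem L3544 : sm gh N322 = N435 := rfl
theorem L3546 : sm ga N435 = N435 := ded_15_1 (flp_h L3544) L2636 L3544
theorem L3547 : sm gc N435 = N435 := ded_28_1 (flp_h L3544) L2640 L3544
theorem L3548 : sm gf N435 = N435 := ded_40_1 (flp_h L3544) L2637 L3544
theorem L3549 : sm gg N435 = N435 := ded_42_1 (flp_h L3544) L2638 L3544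
theorem L3550 : sm gd N435 = N435 := ded_33_1 (flp_h L3544) (flp_d L2634) L1959 L2634 L3544
theorem L3551 : sm gb N323 = N436 := rfl
theorem L3553 : sm gf N436 = N436 := ded_20_2 (flp_b L3551) L2645 L3551
theorem L3554 : sm gh N436 = N325 := ded_22_2 (flp_b L2656) (flp_h L2646) L3551
theorem L3556 : sm gc N436 = N436 := ded_17_2 (flp_b L3551) (flp_c L2641) L1975 L2641 L3551
theorem L3557 : sm ge N323 = N437 := rfl
theorem L3559 : sm ga N437 = N337 := ded_12_1 (flp_e L2753) (flp_a L2643) L3557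
theorem L3561 : sm gc N437 = N324 := ded_25_1 (flp_e L2648) L2641 L3557
theorem L3563 : sm gh N437 = N326 := ded_37_2 (flp_e L2662) (flp_h L2646) L3557
theorem L3565 : sm gf N324 = N438 := rfl
theorem L3567 : sm ga N438 = N338 := ded_13_1 (flp_f L2759) (flp_a L2650) L3565
theorem L3571 : sm gh N438 = N327 := ded_40_2 (flp_f L2669) (flp_h L2653) L3565
theorem L3574 : sm ga N325 = N439 := rfl
theorem L3576 : sm gc N439 = N439 := ded_10_2 (flp_a L3574) L2661 L3574
theorem L3577 : sm gd N439 = N439 := ded_11_2 (flp_a L3574) L2658 L3574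
theorem L3578 : sm gf N439 = N439 := ded_13_2 (flp_a L3574) L2659 L3574
theorem L3579 : sm gi N439 = N439 := ded_16_2 (flp_a L3574) L2660 L3574
theorem L3580 : sm gb N439 = N339 := ded_9_2 (flp_a L2767) (flp_b L2049) (flp_a L1981) L2656 L3574
theorem L3582 : sm ge N325 = N440 := rfl
theorem L3584 : sm gb N440 = N326 := ded_19_1 (flp_e L2662) L2656 L3582
theorem L3586 : sm gc N440 = N440 := ded_25_1 (flp_e L3582) L2661 L3582
theorem L3587 : sm gi N440 = N440 := ded_38_2 (flp_e L3582) L2660 L3582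
theorem L3588 : sm gd N326 = N441 := rfl
theorem L3590 : sm ga N441 = N341 := ded_11_1 (flp_d L2781) (flp_a L2664) L3588
theorem L3592 : sm gi N441 = N441 := ded_34_2 (flp_d L3588) L2668 L3588
theorem L3593 : sm gc N441 = N329 := ded_24_1 (flp_d L2686) L2007 (flp_d L1992) (flp_c L2666) L3588
theorem L3596 : sm gf N326 = N442 := rfl
theorem L3598 : sm ga N442 = N342 := ded_13_1 (flp_f L2787) (flp_a L2664) L3596
theorem L3604 : sm gg N327 = N443 := rfl
theorem L3606 : sm ga N443 = N343 := ded_14_1 (flp_g L2793) (flp_a L2671) L3604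
theorem L3609 : sm gd N443 = N331 := ded_32_1 (flp_g L2702) (flp_d L2674) L3604
theorem L3613 : sm gd N328 = N444 := rfl
theorem L3616 : sm gb N444 = N329 := ded_18_1 (flp_d L2686) (flp_b L2681) L3613
theorem L3618 : sm gi N444 = N444 := ded_34_2 (flp_d L3613) L2685 L3613
theorem L3620 : sm gf N328 = N445 := rfl
theorem L3628 : sm ge N445 = N359 := ded_35_1 (flp_f L2908) (flp_e L2154) (flp_f L1997) L2678 L3620
theorem L3630 : sm gf N329 = N446 := rfl
theorem L3632 : sm ga N446 = N344 := ded_13_1 (flp_f L2801) (flp_a L2688) L3630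
theorem L3634 : sm gd N446 = N330 := ded_31_1 (flp_f L2692) L2686 L3630
theorem L3653 : sm gb N332 = N449 := rfl
theorem L3655 : sm gd N449 = N336 := ded_18_2 (flp_b L2746) (flp_d L2717) L3653
theorem L3657 : sm gf N449 = N449 := ded_20_2 (flp_b L3653) L2713 L3653
theorem L3658 : sm gh N449 = N449 := ded_22_2 (flp_b L3653) L2714 L3653
theorem L3659 : sm gi N449 = N436 := ded_23_2 (flp_b L3551) (flp_i L2715) L3653
theorem L3661 : sm gc N449 = N449 := ded_17_2 (flp_b L3653) (flp_c L2711) L2022 L2711 L3653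
theorem L3662 : sm ge N332 = N450 := rfl
theorem L3664 : sm gc N450 = N333 := ded_25_1 (flp_e L2719) L2711 L3662
theorem L3666 : sm gh N450 = N450 := ded_37_2 (flp_e L3662) L2714 L3662
theorem L3667 : sm gi N450 = N437 := ded_38_2 (flp_e L3557) (flp_i L2715) L3662
theorem L3669 : sm gf N333 = N451 := rfl
theorem L3671 : sm gb N451 = N451 := ded_20_1 (flp_f L3669) L2721 L3669
theorem L3672 : sm gd N451 = N451 := ded_31_1 (flp_f L3669) L2725 L3669
theorem L3673 : sm gh N451 = N451 := ded_40_2 (flp_f L3669) L2722 L3669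
theorem L3674 : sm gi N451 = N438 := ded_41_2 (flp_f L3565) (flp_i L2723) L3669
theorem L3676 : sm ge N451 = N451 := ded_35_1 (flp_f L3669) (flp_e L2719) L2023 L2719 L3669
theorem L3677 : sm gb N334 = N452 := rfl
theorem L3679 : sm gd N452 = N436 := ded_18_2 (flp_b L3551) (flp_d L2734) L3677
theorem L3681 : sm gf N452 = N452 := ded_20_2 (flp_b L3677) L2730 L3677
theorem L3682 : sm gh N452 = N452 := ded_22_2 (flp_b L3677) L2731 L3677
theorem L3683 : sm gi N452 = N336 := ded_23_2 (flp_b L2746) (flp_i L2732) L3677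
theorem L3685 : sm gc N452 = N347 := ded_17_2 (flp_b L2821) (flp_c L2091) (flp_b L2031) L2726 L3677
theorem L3687 : sm ge N334 = N453 := rfl
theorem L3689 : sm ga N453 = N450 := ded_12_1 (flp_e L3662) (flp_a L2728) L3687
theorem L3691 : sm gc N453 = N335 := ded_25_1 (flp_e L2736) L2726 L3687
theorem L3693 : sm gh N453 = N453 := ded_37_2 (flp_e L3687) L2731 L3687
theorem L3694 : sm gi N453 = N337 := ded_38_2 (flp_e L2753) (flp_i L2732) L3687
theorem L3696 : sm gf N335 = N454 := rfl
theorem L3698 : sm ga N454 = N451 := ded_13_1 (flp_f L3669) (flp_a L2738) L3696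
theorem L3700 : sm gb N454 = N349 := ded_20_1 (flp_f L2836) (flp_b L2740) L3696
theorem L3702 : sm gd N454 = N454 := ded_31_1 (flp_f L3696) L2745 L3696
theorem L3703 : sm gh N454 = N454 := ded_40_2 (flp_f L3696) L2742 L3696
theorem L3704 : sm gi N454 = N338 := ded_41_2 (flp_f L2759) (flp_i L2743) L3696
theorem L3706 : sm ge N454 = N454 := ded_35_1 (flp_f L3696) (flp_e L2736) L2033 L2736 L3696
theorem L3707 : sm ga N336 = N455 := rfl
theorem L3709 : sm gc N455 = N350 := ded_10_2 (flp_a L2844) (flp_c L2751) L3707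
theorem L3711 : sm gf N455 = N455 := ded_13_2 (flp_a L3707) L2748 L3707
theorem L3712 : sm gh N455 = N339 := ded_15_2 (flp_a L2767) (flp_h L2749) L3707
theorem L3714 : sm ge N336 = N456 := rfl
theorem L3716 : sm gb N456 = N337 := ded_19_1 (flp_e L2753) L2746 L3714
theorem L3718 : sm gc N456 = N351 := ded_25_1 (flp_e L2851) (flp_c L2751) L3714
theorem L3720 : sm gh N456 = N340 := ded_37_2 (flp_e L2774) (flp_h L2749) L3714
theorem L3722 : sm gd N337 = N457 := rfl
theorem L3724 : sm gc N457 = N457 := ded_24_1 (flp_d L3722) L2755 L2048 (flp_c L2755) L3722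
theorem L3725 : sm gf N337 = N458 := rfl
theorem L3727 : sm gc N458 = N338 := ded_26_1 (flp_f L2759) (flp_c L2755) L3725
theorem L3729 : sm gh N458 = N342 := ded_40_2 (flp_f L2787) (flp_h L2757) L3725
theorem L3731 : sm ge N458 = N458 := ded_35_1 (flp_f L3725) (flp_e L2753) L2039 L2753 L3725
theorem L3732 : sm gg N338 = N459 := rfl
theorem L3734 : sm gb N459 = N354 := ded_21_1 (flp_g L2871) (flp_b L2761) L3732
theorem L3736 : sm gd N459 = N459 := ded_32_1 (flp_g L3732) L2763 L3732
theorem L3737 : sm ge N459 = N459 := ded_36_1 (flp_g L3732) L2766 L3732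
theorem L3738 : sm gh N459 = N343 := ded_42_2 (flp_g L2793) (flp_h L2764) L3732
theorem L3740 : sm ge N339 = N460 := rfl
theorem L3742 : sm ga N460 = N340 := ded_12_1 (flp_e L2774) L2767 L3740
theorem L3744 : sm gc N460 = N355 := ded_25_1 (flp_e L2878) (flp_c L2769) L3740
theorem L3746 : sm gi N460 = N460 := ded_38_2 (flp_e L3740) L2773 L3740
theorem L3747 : sm gd N340 = N461 := rfl
theorem L3749 : sm gb N461 = N341 := ded_18_1 (flp_d L2781) (flp_b L2776) L3747
theorem L3751 : sm gi N461 = N461 := ded_34_2 (flp_d L3747) L2780 L3747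
theorem L3752 : sm gc N461 = N461 := ded_24_1 (flp_d L3747) L2778 L2138 (flp_c L2778) L3747
theorem L3753 : sm ge N461 = N461 := ded_30_2 (flp_d L3747) (flp_e L2774) L2051 L2774 L3747
theorem L3754 : sm gf N340 = N462 := rfl
theorem L3756 : sm gb N462 = N342 := ded_20_1 (flp_f L2787) (flp_b L2776) L3754
theorem L3758 : sm gc N462 = N356 := ded_26_1 (flp_f L2885) (flp_c L2778) L3754
theorem L3760 : sm gi N462 = N462 := ded_41_2 (flp_f L3754) L2780 L3754
theorem L3761 : sm ge N462 = N462 := ded_35_1 (flp_f L3754) (flp_e L2774) L2052 L2774 L3754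
theorem L3762 : sm gf N341 = N463 := rfl
theorem L3764 : sm gc N463 = N344 := ded_26_1 (flp_f L2801) (flp_c L2784) L3762
theorem L3766 : sm gd N463 = N342 := ded_31_1 (flp_f L2787) L2781 L3762
theorem L3769 : sm gh N341 = N464 := rfl
theorem L3771 : sm gc N464 = N345 := ded_28_1 (flp_h L2807) (flp_c L2784) L3769
theorem L3773 : sm ge N464 = N464 := ded_37_1 (flp_h L3769) L2786 L3769
theorem L3774 : sm gg N342 = N465 := rfl
theorem L3776 : sm gc N465 = N343 := ded_27_1 (flp_g L2793) (flp_c L2789) L3774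
theorem L3778 : sm ge N465 = N465 := ded_36_1 (flp_g L3774) L2792 L3774
theorem L3779 : sm gi N465 = N465 := ded_43_2 (flp_g L3774) L2791 L3774
theorem L3780 : sm ge N344 = N466 := rfl
theorem L3784 : sm gd N466 = N363 := ded_30_1 (flp_e L2941) L2192 (flp_e L2081) (flp_d L2804) L3780
theorem L3787 : sm gg N344 = N467 := rfl
theorem L3790 : sm gd N467 = N346 := ded_32_1 (flp_g L2812) (flp_d L2804) L3787
theorem L3793 : sm gh N344 = N468 := rfl
theorem L3796 : sm gf N468 = N345 := ded_40_1 (flp_h L2807) L2801 L3793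
theorem L3799 : sm gi N345 = N469 := rfl
theorem L3805 : sm ga N347 = N470 := rfl
theorem L3807 : sm gd N470 = N470 := ded_11_2 (flp_a L3805) L2823 L3805
theorem L3808 : sm gf N470 = N470 := ded_13_2 (flp_a L3805) L2824 L3805
theorem L3809 : sm gh N470 = N470 := ded_15_2 (flp_a L3805) L2825 L3805
theorem L3810 : sm gi N470 = N350 := ded_16_2 (flp_a L2844) (flp_i L2826) L3805
theorem L3812 : sm gb N470 = N470 := ded_9_2 (flp_a L3805) (flp_b L2821) L2093 L2821 L3805
theorem L3813 : sm ge N347 = N471 := rfl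
theorem L3815 : sm gb N471 = N348 := ded_19_1 (flp_e L2828) L2821 L3813
theorem L3817 : sm gh N471 = N471 := ded_37_2 (flp_e L3813) L2825 L3813
theorem L3818 : sm gi N471 = N351 := ded_38_2 (flp_e L2851) (flp_i L2826) L3813
theorem L3820 : sm gd N348 = N472 := rfl
theorem L3822 : sm ga N472 = N472 := ded_11_1 (flp_d L3820) L2830 L3820
theorem L3823 : sm gi N472 = N352 := ded_34_2 (flp_d L2857) (flp_i L2834) L3820
theorem L3825 : sm gc N472 = N472 := ded_24_1 (flp_d L3820) L2831 L2105 (flp_c L2831) L3820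
theorem L3826 : sm ge N472 = N472 := ded_30_2 (flp_d L3820) (flp_e L2828) L2098 L2828 L3820
theorem L3827 : sm gf N348 = N473 := rfl
theorem L3829 : sm ga N473 = N473 := ded_13_1 (flp_f L3827) L2830 L3827
theorem L3830 : sm gc N473 = N349 := ded_26_1 (flp_f L2836) (flp_c L2831) L3827
theorem L3832 : sm gh N473 = N473 := ded_40_2 (flp_f L3827) L2833 L3827
theorem L3833 : sm gi N473 = N353 := ded_41_2 (flp_f L2863) (flp_i L2834) L3827
theorem L3835 : sm ge N473 = N473 := ded_35_1 (flp_f L3827) (flp_e L2828) L2094 L2828 L3827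
theorem L3836 : sm gg N349 = N474 := rfl
theorem L3838 : sm ga N474 = N474 := ded_14_1 (flp_g L3836) L2838 L3836
theorem L3839 : sm gd N474 = N474 := ded_32_1 (flp_g L3836) L2839 L3836
theorem L3840 : sm ge N474 = N474 := ded_36_1 (flp_g L3836) L2843 L3836
theorem L3841 : sm gh N474 = N474 := ded_42_2 (flp_g L3836) L2840 L3836
theorem L3842 : sm gi N474 = N354 := ded_43_2 (flp_g L2871) (flp_i L2841) L3836
theorem L3844 : sm ge N350 = N475 := rfl
theorem L3846 : sm ga N475 = N351 := ded_12_1 (flp_e L2851) L2844 L3844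
theorem L3848 : sm gb N475 = N475 := ded_19_1 (flp_e L3844) L2850 L3844
theorem L3849 : sm gh N475 = N355 := ded_37_2 (flp_e L2878) (flp_h L2848) L3844
theorem L3851 : sm gd N351 = N476 := rfl
theorem L3853 : sm gb N476 = N352 := ded_18_1 (flp_d L2857) (flp_b L2853) L3851
theorem L3855 : sm ge N476 = N476 := ded_30_2 (flp_d L3851) (flp_e L2851) L2108 L2851 L3851
theorem L3856 : sm gh N476 = N476 := ded_33_2 (flp_d L3851) L2855 L2138 (flp_h L2855) L3851
theorem L3857 : sm gf N351 = N477 := rfl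
theorem L3859 : sm gb N477 = N353 := ded_20_1 (flp_f L2863) (flp_b L2853) L3857
theorem L3861 : sm gh N477 = N356 := ded_40_2 (flp_f L2885) (flp_h L2855) L3857
theorem L3863 : sm ge N477 = N477 := ded_35_1 (flp_f L3857) (flp_e L2851) L2109 L2851 L3857
theorem L3864 : sm gf N352 = N478 := rfl
theorem L3866 : sm ga N478 = N478 := ded_13_1 (flp_f L3864) L2859 L3864
theorem L3867 : sm gc N478 = N478 := ded_26_1 (flp_f L3864) L2860 L3864
theorem L3868 : sm gd N478 = N353 := ded_31_1 (flp_f L2863) L2857 L3864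
theorem L3870 : sm gh N478 = N478 := ded_40_2 (flp_f L3864) L2862 L3864
theorem L3871 : sm gg N353 = N479 := rfl
theorem L3873 : sm ga N479 = N479 := ded_14_1 (flp_g L3871) L2865 L3871
theorem L3874 : sm gc N479 = N354 := ded_27_1 (flp_g L2871) (flp_c L2866) L3871
theorem L3876 : sm ge N479 = N479 := ded_36_1 (flp_g L3871) L2870 L3871
theorem L3877 : sm gh N479 = N357 := ded_42_2 (flp_g L2892) (flp_h L2868) L3871
theorem L3879 : sm gf N355 = N480 := rfl
theorem L3881 : sm ga N480 = N356 := ded_13_1 (flp_f L2885) (flp_a L2880) L3879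
theorem L3883 : sm gb N480 = N480 := ded_20_1 (flp_f L3879) L2882 L3879
theorem L3884 : sm gd N480 = N480 := ded_31_1 (flp_f L3879) L2884 L3879
theorem L3885 : sm gi N480 = N480 := ded_41_2 (flp_f L3879) L2883 L3879
theorem L3886 : sm ge N480 = N480 := ded_35_1 (flp_f L3879) (flp_e L2878) L2130 L2878 L3879
theorem L3887 : sm gg N356 = N481 := rfl
theorem L3889 : sm gb N481 = N357 := ded_21_1 (flp_g L2892) (flp_b L2887) L3887
theorem L3891 : sm gd N481 = N481 := ded_32_1 (flp_g L3887) L2889 L3887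
theorem L3892 : sm ge N481 = N481 := ded_36_1 (flp_g L3887) L2891 L3887
theorem L3893 : sm gi N481 = N481 := ded_43_2 (flp_g L3887) L2890 L3887
theorem L3894 : sm gc N358 = N482 := rfl
theorem L3898 : sm gg N482 = N482 := ded_27_2 (flp_c L3894) L2905 L3894
theorem L3899 : sm gi N482 = N482 := ded_29_2 (flp_c L3894) L2906 L3894
theorem L3902 : sm gf N358 = N483 := rfl
theorem L3905 : sm gb N483 = N360 := ded_20_1 (flp_f L2916) (flp_b L2903) L3902
theorem L3907 : sm gd N483 = N359 := ded_31_1 (flp_f L2908) L2900 L3902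
theorem L3909 : sm gi N483 = N483 := ded_41_2 (flp_f L3902) L2906 L3902
theorem L3918 : sm gg N359 = N485 := rfl
theorem L3927 : sm ge N360 = N486 := rfl
theorem L3929 : sm ga N486 = N363 := ded_12_1 (flp_e L2941) (flp_a L2918) L3927
theorem L3932 : sm gi N486 = N486 := ded_38_2 (flp_e L3927) L2923 L3927
theorem L3934 : sm gg N360 = N487 := rfl
theorem L3936 : sm ga N487 = N364 := ded_14_1 (flp_g L2947) (flp_a L2918) L3934
theorem L3942 : sm gf N487 = N487 := ded_39_1 (flp_g L3934) (flp_f L2916) L2167 L2916 L3934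
theorem L3943 : sm gh N360 = N488 := rfl
theorem L3960 : sm gg N363 = N490 := rfl
theorem L3964 : sm ge N490 = N364 := ded_36_1 (flp_g L2947) L2941 L3960
theorem L3967 : sm gh N363 = N491 := rfl
theorem L3974 : sm gh N364 = N492 := rfl
theorem L3979 : sm gg N492 = N365 := ded_42_1 (flp_h L2955) L2947 L3974
theorem L3982 : sm gi N365 = N493 := rfl
theorem L3987 : sm gf N493 = N366 := ded_41_1 (flp_i L2962) (flp_f L2959) L3982
theorem L3990 : sm gd N367 = N494 := rfl
theorem L3992 : sm ga N494 = N387 := ded_11_1 (flp_d L3158) (flp_a L2972) L3990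
theorem L3994 : sm gb N494 = N494 := ded_18_1 (flp_d L3990) L2974 L3990
theorem L3995 : sm gf N494 = N494 := ded_31_2 (flp_d L3990) L2977 L3990
theorem L3996 : sm gg N494 = N494 := ded_32_2 (flp_d L3990) L2978 L3990
theorem L3997 : sm gh N494 = N494 := ded_33_2 (flp_d L3990) (flp_h L2970) L2215 L2970 L3990
theorem L3998 : sm gc N368 = N495 := rfl
theorem L4000 : sm ga N495 = N389 := ded_10_1 (flp_c L3177) (flp_a L2981) L3998
theorem L4002 : sm gf N495 = N369 := ded_26_2 (flp_c L2989) (flp_f L2984) L3998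
theorem L4004 : sm gg N495 = N495 := ded_27_2 (flp_c L3998) L2986 L3998
theorem L4005 : sm gh N495 = N371 := ded_28_2 (flp_c L3007) (flp_h L2987) L3998
theorem L4007 : sm ge N368 = N496 := rfl
theorem L4009 : sm ga N496 = N390 := ded_12_1 (flp_e L3184) (flp_a L2981) L4007
theorem L4011 : sm gb N496 = N496 := ded_19_1 (flp_e L4007) L2983 L4007
theorem L4012 : sm gg N496 = N496 := ded_36_2 (flp_e L4007) L2986 L4007
theorem L4013 : sm gh N496 = N372 := ded_37_2 (flp_e L3016) (flp_h L2987) L4007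
theorem L4015 : sm gb N369 = N497 := rfl
theorem L4017 : sm gg N497 = N436 := ded_21_2 (flp_b L3551) (flp_g L2993) L4015
theorem L4019 : sm gh N497 = N373 := ded_22_2 (flp_b L3024) (flp_h L2995) L4015
theorem L4021 : sm gc N497 = N497 := ded_17_2 (flp_b L4015) (flp_c L2989) L2232 L2989 L4015
theorem L4022 : sm ge N369 = N498 := rfl
theorem L4024 : sm ga N498 = N394 := ded_12_1 (flp_e L3222) (flp_a L2991) L4022
theorem L4026 : sm gc N498 = N370 := ded_25_1 (flp_e L2997) L2989 L4022
theorem L4028 : sm gg N498 = N437 := ded_36_2 (flp_e L3557) (flp_g L2993) L4022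
theorem L4030 : sm gh N498 = N374 := ded_37_2 (flp_e L3031) (flp_h L2995) L4022
theorem L4032 : sm gf N370 = N499 := rfl
theorem L4034 : sm ga N499 = N395 := ded_13_1 (flp_f L3230) (flp_a L2999) L4032
theorem L4036 : sm gb N499 = N499 := ded_20_1 (flp_f L4032) L3001 L4032
theorem L4037 : sm gd N499 = N499 := ded_31_1 (flp_f L4032) L3006 L4032
theorem L4038 : sm gh N499 = N375 := ded_40_2 (flp_f L3040) (flp_h L3004) L4032
theorem L4040 : sm gb N371 = N500 := rfl
theorem L4042 : sm gd N500 = N500 := ded_18_2 (flp_b L4040) L3015 L4040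
theorem L4043 : sm gf N500 = N373 := ded_20_2 (flp_b L3024) (flp_f L3011) L4040
theorem L4045 : sm gg N500 = N500 := ded_21_2 (flp_b L4040) L3013 L4040
theorem L4046 : sm gi N500 = N500 := ded_23_2 (flp_b L4040) L3014 L4040
theorem L4047 : sm gc N500 = N500 := ded_17_2 (flp_b L4040) (flp_c L3007) L2241 L3007 L4040
theorem L4048 : sm ge N371 = N501 := rfl
theorem L4050 : sm ga N501 = N397 := ded_12_1 (flp_e L3246) (flp_a L3009) L4048
theorem L4052 : sm gc N501 = N372 := ded_25_1 (flp_e L3016) L3007 L4048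
theorem L4054 : sm gg N501 = N501 := ded_36_2 (flp_e L4048) L3013 L4048
theorem L4055 : sm gi N501 = N501 := ded_38_2 (flp_e L4048) L3014 L4048
theorem L4056 : sm gf N372 = N502 := rfl
theorem L4058 : sm ga N502 = N398 := ded_13_1 (flp_f L3252) (flp_a L3018) L4056
theorem L4060 : sm gb N502 = N502 := ded_20_1 (flp_f L4056) L3020 L4056
theorem L4061 : sm gd N502 = N502 := ded_31_1 (flp_f L4056) L3023 L4056
theorem L4062 : sm gi N502 = N502 := ded_41_2 (flp_f L4056) L3022 L4056
theorem L4063 : sm ge N502 = N375 := ded_35_1 (flp_f L3040) (flp_e L2254) (flp_f L2242) L3016 L4056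
theorem L4065 : sm ga N373 = N503 := rfl
theorem L4067 : sm gc N503 = N503 := ded_10_2 (flp_a L4065) L3030 L4065
theorem L4068 : sm gd N503 = N503 := ded_11_2 (flp_a L4065) L3026 L4065
theorem L4069 : sm gg N503 = N439 := ded_14_2 (flp_a L3574) (flp_g L3027) L4065
theorem L4071 : sm gi N503 = N503 := ded_16_2 (flp_a L4065) L3029 L4065
theorem L4072 : sm gb N503 = N399 := ded_9_2 (flp_a L3260) (flp_b L2420) (flp_a L2248) L3024 L4065
theorem L4074 : sm ge N373 = N504 := rfl
theorem L4076 : sm gb N504 = N374 := ded_19_1 (flp_e L3031) L3024 L4074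
theorem L4078 : sm gc N504 = N504 := ded_25_1 (flp_e L4074) L3030 L4074
theorem L4079 : sm gg N504 = N440 := ded_36_2 (flp_e L3582) (flp_g L3027) L4074
theorem L4081 : sm gi N504 = N504 := ded_38_2 (flp_e L4074) L3029 L4074
theorem L4082 : sm gd N374 = N505 := rfl
theorem L4084 : sm ga N505 = N401 := ded_11_1 (flp_d L3277) (flp_a L3033) L4082
theorem L4089 : sm gc N505 = N377 := ded_24_1 (flp_d L3058) L2278 (flp_d L2262) (flp_c L3035) L4082
theorem L4092 : sm gf N374 = N506 := rfl
theorem L4094 : sm ga N506 = N402 := ded_13_1 (flp_f L3285) (flp_a L3033) L4092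
theorem L4096 : sm gc N506 = N375 := ded_26_1 (flp_f L3040) (flp_c L3035) L4092
theorem L4098 : sm gi N506 = N506 := ded_41_2 (flp_f L4092) L3039 L4092
theorem L4099 : sm gg N375 = N507 := rfl
theorem L4101 : sm ga N507 = N403 := ded_14_1 (flp_g L3290) (flp_a L3042) L4099
theorem L4109 : sm gd N376 = N508 := rfl
theorem L4112 : sm gb N508 = N377 := ded_18_1 (flp_d L3058) (flp_b L3051) L4109
theorem L4114 : sm gg N508 = N444 := ded_32_2 (flp_d L3613) (flp_g L3054) L4109
theorem L4116 : sm gi N508 = N508 := ded_34_2 (flp_d L4109) L3057 L4109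
theorem L4127 : sm gf N377 = N510 := rfl
theorem L4129 : sm ga N510 = N404 := ded_13_1 (flp_f L3299) (flp_a L3060) L4127
theorem L4134 : sm gh N377 = N511 := rfl
theorem L4136 : sm ga N511 = N405 := ded_15_1 (flp_h L3305) (flp_a L3060) L4134
theorem L4153 : sm gh N380 = N513 := rfl
theorem L4155 : sm gb N513 = N513 := ded_22_1 (flp_h L4153) L3087 L4153
theorem L4156 : sm gc N513 = N513 := ded_28_1 (flp_h L4153) L3088 L4153
theorem L4157 : sm ge N513 = N513 := ded_37_1 (flp_h L4153) L3091 L4153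
theorem L4158 : sm gf N513 = N513 := ded_40_1 (flp_h L4153) L3092 L4153
theorem L4159 : sm gg N513 = N513 := ded_42_1 (flp_h L4153) L3093 L4153
theorem L4160 : sm gi N513 = N513 := ded_44_2 (flp_h L4153) (flp_i L3085) L2299 L3085 L4153
theorem L4161 : sm gd N381 = N514 := rfl
theorem L4163 : sm gb N514 = N514 := ded_18_1 (flp_d L4161) L3096 L4161
theorem L4164 : sm gf N514 = N514 := ded_31_2 (flp_d L4161) L3101 L4161
theorem L4165 : sm gg N514 = N514 := ded_32_2 (flp_d L4161) L3102 L4161
theorem L4166 : sm gi N514 = N494 := ded_34_2 (flp_d L3990) (flp_i L3103) L4161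
theorem L4168 : sm gc N382 = N515 := rfl
theorem L4170 : sm gf N515 = N383 := ded_26_2 (flp_c L3114) (flp_f L3108) L4168
theorem L4172 : sm gg N515 = N515 := ded_27_2 (flp_c L4168) L3110 L4168
theorem L4173 : sm gh N515 = N515 := ded_28_2 (flp_c L4168) L3113 L4168
theorem L4174 : sm gi N515 = N495 := ded_29_2 (flp_c L3998) (flp_i L3111) L4168
theorem L4176 : sm gd N515 = N389 := ded_24_2 (flp_c L3177) (flp_d L2371) (flp_c L2312) L3105 L4168
theorem L4178 : sm ge N382 = N516 := rfl
theorem L4180 : sm gb N516 = N516 := ded_19_1 (flp_e L4178) L3107 L4178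
theorem L4181 : sm gg N516 = N516 := ded_36_2 (flp_e L4178) L3110 L4178
theorem L4182 : sm gh N516 = N516 := ded_37_2 (flp_e L4178) L3113 L4178
theorem L4183 : sm gi N516 = N496 := ded_38_2 (flp_e L4007) (flp_i L3111) L4178
theorem L4185 : sm gb N383 = N517 := rfl
theorem L4187 : sm gd N517 = N393 := ded_18_2 (flp_b L3214) (flp_d L3121) L4185
theorem L4189 : sm gg N517 = N449 := ded_21_2 (flp_b L3653) (flp_g L3116) L4185
theorem L4191 : sm gh N517 = N517 := ded_22_2 (flp_b L4185) L3118 L4185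
theorem L4192 : sm gi N517 = N497 := ded_23_2 (flp_b L4015) (flp_i L3119) L4185
theorem L4194 : sm gc N517 = N517 := ded_17_2 (flp_b L4185) (flp_c L3114) L2321 L3114 L4185
theorem L4195 : sm ge N383 = N518 := rfl
theorem L4197 : sm gc N518 = N384 := ded_25_1 (flp_e L3123) L3114 L4195
theorem L4199 : sm gg N518 = N450 := ded_36_2 (flp_e L3662) (flp_g L3116) L4195
theorem L4201 : sm gh N518 = N518 := ded_37_2 (flp_e L4195) L3118 L4195
theorem L4202 : sm gi N518 = N498 := ded_38_2 (flp_e L4022) (flp_i L3119) L4195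
theorem L4204 : sm gf N384 = N519 := rfl
theorem L4206 : sm gb N519 = N519 := ded_20_1 (flp_f L4204) L3125 L4204
theorem L4207 : sm gd N519 = N519 := ded_31_1 (flp_f L4204) L3131 L4204
theorem L4208 : sm gh N519 = N519 := ded_40_2 (flp_f L4204) L3128 L4204
theorem L4209 : sm gi N519 = N499 := ded_41_2 (flp_f L4032) (flp_i L3129) L4204
theorem L4211 : sm gh N385 = N520 := rfl
theorem L4213 : sm ga N520 = N513 := ded_15_1 (flp_h L4153) (flp_a L3134) L4211
theorem L4215 : sm gb N520 = N408 := ded_22_1 (flp_h L3332) (flp_b L3136) L4211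
theorem L4217 : sm gc N520 = N520 := ded_28_1 (flp_h L4211) L3138 L4211
theorem L4218 : sm ge N520 = N520 := ded_37_1 (flp_h L4211) L3141 L4211
theorem L4219 : sm gf N520 = N520 := ded_40_1 (flp_h L4211) L3142 L4211
theorem L4220 : sm gg N520 = N520 := ded_42_1 (flp_h L4211) L3143 L4211
theorem L4221 : sm gi N520 = N520 := ded_44_2 (flp_h L4211) (flp_i L3132) L2337 L3132 L4211
theorem L4222 : sm gd N386 = N521 := rfl
theorem L4224 : sm ga N521 = N514 := ded_11_1 (flp_d L4161) (flp_a L3146) L4222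
theorem L4226 : sm gb N521 = N409 := ded_18_1 (flp_d L3339) (flp_b L3148) L4222
theorem L4228 : sm gf N521 = N521 := ded_31_2 (flp_d L4222) L3154 L4222
theorem L4229 : sm gg N521 = N521 := ded_32_2 (flp_d L4222) L3155 L4222
theorem L4230 : sm gi N521 = N387 := ded_34_2 (flp_d L3158) (flp_i L3156) L4222
theorem L4232 : sm gc N387 = N522 := rfl
theorem L4234 : sm gf N522 = N522 := ded_26_2 (flp_c L4232) L3162 L4232
theorem L4235 : sm gg N522 = N522 := ded_27_2 (flp_c L4232) L3163 L4232
theorem L4236 : sm gh N522 = N522 := ded_28_2 (flp_c L4232) L3164 L4232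
theorem L4237 : sm ge N387 = N523 := rfl
theorem L4239 : sm gb N523 = N411 := ded_19_1 (flp_e L3353) (flp_b L3160) L4237
theorem L4241 : sm gg N523 = N523 := ded_36_2 (flp_e L4237) L3163 L4237
theorem L4242 : sm gh N523 = N523 := ded_37_2 (flp_e L4237) L3164 L4237
theorem L4243 : sm gd N523 = N390 := ded_30_1 (flp_e L3184) (flp_d L2371) (flp_e L2354) L3158 L4237
theorem L4245 : sm gc N388 = N524 := rfl
theorem L4247 : sm ga N524 = N515 := ded_10_1 (flp_c L4168) (flp_a L3167) L4245
theorem L4249 : sm gf N524 = N391 := ded_26_2 (flp_c L3191) (flp_f L3171) L4245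
theorem L4251 : sm gg N524 = N524 := ded_27_2 (flp_c L4245) L3173 L4245
theorem L4252 : sm gh N524 = N524 := ded_28_2 (flp_c L4245) L3176 L4245
theorem L4253 : sm gi N524 = N389 := ded_29_2 (flp_c L3177) (flp_i L3174) L4245
theorem L4255 : sm gd N524 = N495 := ded_24_2 (flp_c L3998) (flp_d L2979) (flp_c L2364) L3165 L4245
theorem L4257 : sm ge N388 = N525 := rfl
theorem L4259 : sm ga N525 = N516 := ded_12_1 (flp_e L4178) (flp_a L3167) L4257
theorem L4261 : sm gb N525 = N413 := ded_19_1 (flp_e L3370) (flp_b L3169) L4257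
theorem L4263 : sm gg N525 = N525 := ded_36_2 (flp_e L4257) L3173 L4257
theorem L4264 : sm gh N525 = N525 := ded_37_2 (flp_e L4257) L3176 L4257
theorem L4265 : sm gi N525 = N390 := ded_38_2 (flp_e L3184) (flp_i L3174) L4257
theorem L4267 : sm gb N389 = N526 := rfl
theorem L4269 : sm gf N526 = N393 := ded_20_2 (flp_b L3214) (flp_f L3179) L4267
theorem L4271 : sm gg N526 = N526 := ded_21_2 (flp_b L4267) L3181 L4267
theorem L4272 : sm gh N526 = N396 := ded_22_2 (flp_b L3237) (flp_h L3182) L4267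
theorem L4274 : sm gc N526 = N414 := ded_17_2 (flp_b L3377) (flp_c L2508) (flp_b L2373) L3177 L4267
theorem L4276 : sm ge N389 = N527 := rfl
theorem L4278 : sm gc N527 = N390 := ded_25_1 (flp_e L3184) L3177 L4276
theorem L4280 : sm gg N527 = N527 := ded_36_2 (flp_e L4276) L3181 L4276
theorem L4281 : sm gh N527 = N397 := ded_37_2 (flp_e L3246) (flp_h L3182) L4276
theorem L4283 : sm gf N390 = N528 := rfl
theorem L4285 : sm gb N528 = N416 := ded_20_1 (flp_f L3393) (flp_b L3186) L4283
theorem L4287 : sm gh N528 = N398 := ded_40_2 (flp_f L3252) (flp_h L3189) L4283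
theorem L4289 : sm ge N528 = N395 := ded_35_1 (flp_f L3230) (flp_e L2397) (flp_f L2375) L3184 L4283
theorem L4291 : sm gb N391 = N529 := rfl
theorem L4293 : sm gd N529 = N497 := ded_18_2 (flp_b L4015) (flp_d L3200) L4291
theorem L4295 : sm gg N529 = N452 := ded_21_2 (flp_b L3677) (flp_g L3195) L4291
theorem L4297 : sm gh N529 = N529 := ded_22_2 (flp_b L4291) L3197 L4291
theorem L4298 : sm gi N529 = N393 := ded_23_2 (flp_b L3214) (flp_i L3198) L4291
theorem L4300 : sm gc N529 = N417 := ded_17_2 (flp_b L3400) (flp_c L2523) (flp_b L2384) L3191 L4291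
theorem L4302 : sm ge N391 = N530 := rfl
theorem L4304 : sm ga N530 = N518 := ded_12_1 (flp_e L4195) (flp_a L3193) L4302
theorem L4306 : sm gc N530 = N392 := ded_25_1 (flp_e L3202) L3191 L4302
theorem L4308 : sm gg N530 = N453 := ded_36_2 (flp_e L3687) (flp_g L3195) L4302
theorem L4310 : sm gh N530 = N530 := ded_37_2 (flp_e L4302) L3197 L4302
theorem L4311 : sm gi N530 = N394 := ded_38_2 (flp_e L3222) (flp_i L3198) L4302
theorem L4313 : sm gf N392 = N531 := rfl
theorem L4315 : sm ga N531 = N519 := ded_13_1 (flp_f L4204) (flp_a L3204) L4313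
theorem L4317 : sm gb N531 = N419 := ded_20_1 (flp_f L3418) (flp_b L3206) L4313
theorem L4319 : sm gd N531 = N531 := ded_31_1 (flp_f L4313) L3213 L4313
theorem L4320 : sm gh N531 = N531 := ded_40_2 (flp_f L4313) L3210 L4313
theorem L4321 : sm gi N531 = N395 := ded_41_2 (flp_f L3230) (flp_i L3211) L4313
theorem L4323 : sm ga N393 = N532 := rfl
theorem L4325 : sm gc N532 = N420 := ded_10_2 (flp_a L3425) (flp_c L3220) L4323
theorem L4327 : sm gg N532 = N455 := ded_14_2 (flp_a L3707) (flp_g L3216) L4323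
theorem L4329 : sm gh N532 = N399 := ded_15_2 (flp_a L3260) (flp_h L3218) L4323
theorem L4331 : sm ge N393 = N533 := rfl
theorem L4333 : sm gb N533 = N394 := ded_19_1 (flp_e L3222) L3214 L4331
theorem L4335 : sm gc N533 = N421 := ded_25_1 (flp_e L3433) (flp_c L3220) L4331
theorem L4337 : sm gg N533 = N456 := ded_36_2 (flp_e L3714) (flp_g L3216) L4331
theorem L4339 : sm gh N533 = N400 := ded_37_2 (flp_e L3268) (flp_h L3218) L4331
theorem L4341 : sm gd N394 = N534 := rfl
theorem L4343 : sm gg N534 = N457 := ded_32_2 (flp_d L3722) (flp_g L3226) L4341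
theorem L4345 : sm gc N534 = N534 := ded_24_1 (flp_d L4341) L3224 L2405 (flp_c L3224) L4341
theorem L4346 : sm gf N394 = N535 := rfl
theorem L4348 : sm gc N535 = N395 := ded_26_1 (flp_f L3230) (flp_c L3224) L4346
theorem L4350 : sm gh N535 = N402 := ded_40_2 (flp_f L3285) (flp_h L3228) L4346
theorem L4352 : sm gg N395 = N536 := rfl
theorem L4354 : sm gb N536 = N424 := ded_21_1 (flp_g L3456) (flp_b L3232) L4352
theorem L4356 : sm gd N536 = N536 := ded_32_1 (flp_g L4352) L3234 L4352
theorem L4357 : sm gh N536 = N403 := ded_42_2 (flp_g L3290) (flp_h L3235) L4352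
theorem L4359 : sm gf N536 = N459 := ded_39_1 (flp_g L3732) (flp_f L2759) (flp_g L2401) L3230 L4352
theorem L4361 : sm ga N396 = N537 := rfl
theorem L4363 : sm gc N537 = N425 := ded_10_2 (flp_a L3464) (flp_c L3244) L4361
theorem L4365 : sm gd N537 = N537 := ded_11_2 (flp_a L4361) L3239 L4361
theorem L4366 : sm gf N537 = N399 := ded_13_2 (flp_a L3260) (flp_f L3240) L4361
theorem L4368 : sm gg N537 = N537 := ded_14_2 (flp_a L4361) L3242 L4361
theorem L4369 : sm gi N537 = N537 := ded_16_2 (flp_a L4361) L3243 L4361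
theorem L4370 : sm ge N396 = N538 := rfl
theorem L4372 : sm gb N538 = N397 := ded_19_1 (flp_e L3246) L3237 L4370
theorem L4374 : sm gc N538 = N426 := ded_25_1 (flp_e L3473) (flp_c L3244) L4370
theorem L4376 : sm gg N538 = N538 := ded_36_2 (flp_e L4370) L3242 L4370
theorem L4377 : sm gi N538 = N538 := ded_38_2 (flp_e L4370) L3243 L4370
theorem L4378 : sm gd N397 = N539 := rfl
theorem L4380 : sm gg N539 = N539 := ded_32_2 (flp_d L4378) L3250 L4378
theorem L4381 : sm gi N539 = N539 := ded_34_2 (flp_d L4378) L3251 L4378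
theorem L4382 : sm gc N539 = N539 := ded_24_1 (flp_d L4378) L3248 L2419 (flp_c L3248) L4378
theorem L4383 : sm ge N539 = N539 := ded_30_2 (flp_d L4378) (flp_e L3246) L2412 L3246 L4378
theorem L4384 : sm gf N397 = N540 := rfl
theorem L4386 : sm gc N540 = N398 := ded_26_1 (flp_f L3252) (flp_c L3248) L4384
theorem L4388 : sm gi N540 = N540 := ded_41_2 (flp_f L4384) L3251 L4384
theorem L4389 : sm ge N540 = N402 := ded_35_1 (flp_f L3285) (flp_e L2428) (flp_f L2408) L3246 L4384
theorem L4391 : sm gg N398 = N541 := rfl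
theorem L4393 : sm gb N541 = N429 := ded_21_1 (flp_g L3495) (flp_b L3254) L4391
theorem L4395 : sm gd N541 = N541 := ded_32_1 (flp_g L4391) L3256 L4391
theorem L4396 : sm ge N541 = N403 := ded_36_1 (flp_g L3290) (flp_e L3258) L4391
theorem L4398 : sm gi N541 = N541 := ded_43_2 (flp_g L4391) L3257 L4391
theorem L4399 : sm gf N541 = N541 := ded_39_1 (flp_g L4391) (flp_f L3252) L2417 L3252 L4391
theorem L4400 : sm ge N399 = N542 := rfl
theorem L4402 : sm ga N542 = N400 := ded_12_1 (flp_e L3268) L3260 L4400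
theorem L4404 : sm gc N542 = N430 := ded_25_1 (flp_e L3503) (flp_c L3262) L4400
theorem L4406 : sm gg N542 = N460 := ded_36_2 (flp_e L3740) (flp_g L3265) L4400
theorem L4408 : sm gi N542 = N542 := ded_38_2 (flp_e L4400) L3267 L4400
theorem L4409 : sm gd N400 = N543 := rfl
theorem L4411 : sm gb N543 = N401 := ded_18_1 (flp_d L3277) (flp_b L3270) L4409
theorem L4413 : sm gg N543 = N461 := ded_32_2 (flp_d L3747) (flp_g L3274) L4409
theorem L4415 : sm gi N543 = N543 := ded_34_2 (flp_d L4409) L3276 L4409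
theorem L4416 : sm gc N543 = N543 := ded_24_1 (flp_d L4409) L3272 L2600 (flp_c L3272) L4409
theorem L4417 : sm ge N543 = N543 := ded_30_2 (flp_d L4409) (flp_e L3268) L2422 L3268 L4409
theorem L4418 : sm gf N400 = N544 := rfl
theorem L4420 : sm gb N544 = N402 := ded_20_1 (flp_f L3285) (flp_b L3270) L4418
theorem L4422 : sm gc N544 = N431 := ded_26_1 (flp_f L3512) (flp_c L3272) L4418
theorem L4424 : sm gi N544 = N544 := ded_41_2 (flp_f L4418) L3276 L4418
theorem L4425 : sm gf N401 = N545 := rfl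
theorem L4427 : sm gc N545 = N404 := ded_26_1 (flp_f L3299) (flp_c L3282) L4425
theorem L4429 : sm gd N545 = N402 := ded_31_1 (flp_f L3285) L3277 L4425
theorem L4431 : sm gi N545 = N545 := ded_41_2 (flp_f L4425) L3281 L4425
theorem L4432 : sm gh N401 = N546 := rfl
theorem L4434 : sm gc N546 = N405 := ded_28_1 (flp_h L3305) (flp_c L3282) L4432
theorem L4436 : sm ge N546 = N546 := ded_37_1 (flp_h L4432) L3284 L4432
theorem L4437 : sm gg N546 = N464 := ded_42_1 (flp_h L3769) (flp_g L3279) L4432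
theorem L4439 : sm gg N402 = N547 := rfl
theorem L4441 : sm gc N547 = N403 := ded_27_1 (flp_g L3290) (flp_c L3287) L4439
theorem L4443 : sm gi N547 = N547 := ded_43_2 (flp_g L4439) L3289 L4439
theorem L4444 : sm gf N547 = N465 := ded_39_1 (flp_g L3774) (flp_f L2787) (flp_g L2432) L3285 L4439
theorem L4446 : sm ge N404 = N548 := rfl
theorem L4448 : sm gb N548 = N548 := ded_19_1 (flp_e L4446) L3301 L4446
theorem L4449 : sm gi N548 = N548 := ded_38_2 (flp_e L4446) L3304 L4446
theorem L4450 : sm gd N548 = N548 := ded_30_1 (flp_e L4446) L3302 L2456 (flp_d L3302) L4446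
theorem L4451 : sm gf N548 = N548 := ded_35_2 (flp_e L4446) (flp_f L3299) L2448 L3299 L4446
theorem L4452 : sm gg N404 = N549 := rfl
theorem L4455 : sm gd N549 = N406 := ded_32_1 (flp_g L3312) (flp_d L3302) L4452
theorem L4458 : sm gf N549 = N467 := ded_39_1 (flp_g L3787) (flp_f L2801) (flp_g L2445) L3299 L4452
theorem L4460 : sm gh N404 = N550 := rfl
theorem L4462 : sm gb N550 = N550 := ded_22_1 (flp_h L4460) L3301 L4460
theorem L4463 : sm gf N550 = N405 := ded_40_1 (flp_h L3305) L3299 L4460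
theorem L4465 : sm gd N550 = N550 := ded_33_1 (flp_h L4460) L3302 L2454 (flp_d L3302) L4460
theorem L4466 : sm gi N405 = N551 := rfl
theorem L4468 : sm gb N551 = N551 := ded_23_1 (flp_i L4466) L3307 L4466
theorem L4469 : sm gd N551 = N551 := ded_34_1 (flp_i L4466) L3311 L4466
theorem L4470 : sm ge N551 = N551 := ded_38_1 (flp_i L4466) L3308 L4466
theorem L4471 : sm gg N551 = N469 := ded_43_1 (flp_i L3799) (flp_g L3309) L4466
theorem L4473 : sm gh N551 = N551 := ded_44_1 (flp_i L4466) (flp_h L3305) L2447 L3305 L4466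
theorem L4474 : sm gh N407 = N552 := rfl
theorem L4476 : sm ga N552 = N552 := ded_15_1 (flp_h L4474) L3324 L4474
theorem L4477 : sm gb N552 = N552 := ded_22_1 (flp_h L4474) L3325 L4474
theorem L4478 : sm gc N552 = N408 := ded_28_1 (flp_h L3332) (flp_c L3326) L4474
theorem L4480 : sm ge N552 = N552 := ded_37_1 (flp_h L4474) L3329 L4474
theorem L4481 : sm gf N552 = N552 := ded_40_1 (flp_h L4474) L3330 L4474
theorem L4482 : sm gg N552 = N552 := ded_42_1 (flp_h L4474) L3331 L4474
theorem L4483 : sm gi N552 = N552 := ded_44_2 (flp_h L4474) (flp_i L3322) L2472 L3322 L4474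
theorem L4484 : sm gd N408 = N553 := rfl
theorem L4486 : sm ga N553 = N553 := ded_11_1 (flp_d L4484) L3334 L4484
theorem L4487 : sm gf N553 = N553 := ded_31_2 (flp_d L4484) L3336 L4484
theorem L4488 : sm gg N553 = N553 := ded_32_2 (flp_d L4484) L3337 L4484
theorem L4489 : sm gi N553 = N553 := ded_34_2 (flp_d L4484) L3338 L4484
theorem L4490 : sm gh N553 = N409 := ded_33_2 (flp_d L3339) (flp_h L2483) (flp_d L2478) L3332 L4484
theorem L4492 : sm gc N409 = N554 := rfl
theorem L4494 : sm ga N554 = N554 := ded_10_1 (flp_c L4492) L3341 L4492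
theorem L4495 : sm gf N554 = N554 := ded_26_2 (flp_c L4492) L3342 L4492
theorem L4496 : sm gg N554 = N554 := ded_27_2 (flp_c L4492) L3343 L4492
theorem L4497 : sm gi N554 = N410 := ded_29_2 (flp_c L3346) (flp_i L3344) L4492
theorem L4499 : sm gd N554 = N554 := ded_24_2 (flp_c L4492) (flp_d L3339) L2486 L3339 L4492
theorem L4500 : sm ge N409 = N555 := rfl
theorem L4502 : sm ga N555 = N555 := ded_12_1 (flp_e L4500) L3341 L4500
theorem L4503 : sm gg N555 = N555 := ded_36_2 (flp_e L4500) L3343 L4500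
theorem L4504 : sm gi N555 = N411 := ded_38_2 (flp_e L3353) (flp_i L3344) L4500
theorem L4506 : sm gd N555 = N413 := ded_30_1 (flp_e L3370) (flp_d L2499) (flp_e L2487) L3339 L4500
theorem L4508 : sm gb N410 = N556 := rfl
theorem L4510 : sm gd N556 = N556 := ded_18_2 (flp_b L4508) L3352 L4508
theorem L4511 : sm gf N556 = N556 := ded_20_2 (flp_b L4508) L3349 L4508
theorem L4512 : sm gg N556 = N556 := ded_21_2 (flp_b L4508) L3350 L4508
theorem L4513 : sm gh N556 = N556 := ded_22_2 (flp_b L4508) L3351 L4508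
theorem L4514 : sm ge N410 = N557 := rfl
theorem L4516 : sm ga N557 = N557 := ded_12_1 (flp_e L4514) L3348 L4514
theorem L4517 : sm gc N557 = N411 := ded_25_1 (flp_e L3353) L3346 L4514
theorem L4519 : sm gg N557 = N557 := ded_36_2 (flp_e L4514) L3350 L4514
theorem L4520 : sm gh N557 = N557 := ded_37_2 (flp_e L4514) L3351 L4514
theorem L4521 : sm gf N411 = N558 := rfl
theorem L4523 : sm ga N558 = N558 := ded_13_1 (flp_f L4521) L3355 L4521
theorem L4524 : sm gd N558 = N416 := ded_31_1 (flp_f L3393) (flp_d L3358) L4521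
theorem L4526 : sm gh N558 = N558 := ded_40_2 (flp_f L4521) L3357 L4521
theorem L4527 : sm ge N558 = N558 := ded_35_1 (flp_f L4521) (flp_e L3353) L2496 L3353 L4521
theorem L4528 : sm gb N412 = N559 := rfl
theorem L4530 : sm gd N559 = N559 := ded_18_2 (flp_b L4528) L3369 L4528
theorem L4531 : sm gf N559 = N417 := ded_20_2 (flp_b L3400) (flp_f L3363) L4528
theorem L4533 : sm gg N559 = N559 := ded_21_2 (flp_b L4528) L3365 L4528
theorem L4534 : sm gh N559 = N559 := ded_22_2 (flp_b L4528) L3366 L4528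
theorem L4535 : sm gi N559 = N414 := ded_23_2 (flp_b L3377) (flp_i L3367) L4528
theorem L4537 : sm ge N412 = N560 := rfl
theorem L4539 : sm ga N560 = N560 := ded_12_1 (flp_e L4537) L3362 L4537
theorem L4540 : sm gc N560 = N413 := ded_25_1 (flp_e L3370) L3360 L4537
theorem L4542 : sm gg N560 = N560 := ded_36_2 (flp_e L4537) L3365 L4537
theorem L4543 : sm gh N560 = N560 := ded_37_2 (flp_e L4537) L3366 L4537
theorem L4544 : sm gi N560 = N415 := ded_38_2 (flp_e L3385) (flp_i L3367) L4537
theorem L4546 : sm gf N413 = N561 := rfl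
theorem L4548 : sm ga N561 = N561 := ded_13_1 (flp_f L4546) L3372 L4546
theorem L4549 : sm gh N561 = N561 := ded_40_2 (flp_f L4546) L3374 L4546
theorem L4550 : sm gi N561 = N416 := ded_41_2 (flp_f L3393) (flp_i L3375) L4546
theorem L4552 : sm ge N561 = N419 := ded_35_1 (flp_f L3418) (flp_e L2532) (flp_f L2502) L3370 L4546
theorem L4554 : sm ga N414 = N562 := rfl
theorem L4556 : sm gd N562 = N562 := ded_11_2 (flp_a L4554) L3379 L4554
theorem L4557 : sm gf N562 = N420 := ded_13_2 (flp_a L3425) (flp_f L3380) L4554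
theorem L4559 : sm gg N562 = N562 := ded_14_2 (flp_a L4554) L3382 L4554
theorem L4560 : sm gh N562 = N425 := ded_15_2 (flp_a L3464) (flp_h L3383) L4554
theorem L4562 : sm gb N562 = N562 := ded_9_2 (flp_a L4554) (flp_b L3377) L2510 L3377 L4554
theorem L4563 : sm ge N414 = N563 := rfl
theorem L4565 : sm gb N563 = N415 := ded_19_1 (flp_e L3385) L3377 L4563
theorem L4567 : sm gg N563 = N563 := ded_36_2 (flp_e L4563) L3382 L4563
theorem L4568 : sm gh N563 = N426 := ded_37_2 (flp_e L3473) (flp_h L3383) L4563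
theorem L4570 : sm gd N415 = N564 := rfl
theorem L4572 : sm ga N564 = N564 := ded_11_1 (flp_d L4570) L3387 L4570
theorem L4573 : sm gg N564 = N564 := ded_32_2 (flp_d L4570) L3390 L4570
theorem L4574 : sm ge N564 = N564 := ded_30_2 (flp_d L4570) (flp_e L3385) L2516 L3385 L4570
theorem L4575 : sm gf N415 = N565 := rfl
theorem L4577 : sm ga N565 = N565 := ded_13_1 (flp_f L4575) L3387 L4575
theorem L4578 : sm gc N565 = N416 := ded_26_1 (flp_f L3393) (flp_c L3388) L4575
theorem L4580 : sm gh N565 = N428 := ded_40_2 (flp_f L3487) (flp_h L3391) L4575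
theorem L4582 : sm ge N565 = N423 := ded_35_1 (flp_f L3449) (flp_e L2548) (flp_f L2511) L3385 L4575
theorem L4584 : sm gg N416 = N566 := rfl
theorem L4586 : sm ga N566 = N566 := ded_14_1 (flp_g L4584) L3395 L4584
theorem L4587 : sm ge N566 = N424 := ded_36_1 (flp_g L3456) (flp_e L3398) L4584
theorem L4589 : sm gh N566 = N429 := ded_42_2 (flp_g L3495) (flp_h L3396) L4584
theorem L4591 : sm gf N566 = N566 := ded_39_1 (flp_g L4584) (flp_f L3393) L2520 L3393 L4584
theorem L4592 : sm ga N417 = N567 := rfl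
theorem L4594 : sm gd N567 = N567 := ded_11_2 (flp_a L4592) L3402 L4592
theorem L4595 : sm gg N567 = N470 := ded_14_2 (flp_a L3805) (flp_g L3403) L4592
theorem L4597 : sm gh N567 = N567 := ded_15_2 (flp_a L4592) L3405 L4592
theorem L4598 : sm gi N567 = N420 := ded_16_2 (flp_a L3425) (flp_i L3406) L4592
theorem L4600 : sm gb N567 = N567 := ded_9_2 (flp_a L4592) (flp_b L3400) L2525 L3400 L4592
theorem L4601 : sm ge N417 = N568 := rfl
theorem L4603 : sm gb N568 = N418 := ded_19_1 (flp_e L3408) L3400 L4601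
theorem L4605 : sm gg N568 = N471 := ded_36_2 (flp_e L3813) (flp_g L3403) L4601
theorem L4607 : sm gh N568 = N568 := ded_37_2 (flp_e L4601) L3405 L4601
theorem L4608 : sm gi N568 = N421 := ded_38_2 (flp_e L3433) (flp_i L3406) L4601
theorem L4610 : sm gd N418 = N569 := rfl
theorem L4612 : sm ga N569 = N569 := ded_11_1 (flp_d L4610) L3410 L4610
theorem L4613 : sm gg N569 = N472 := ded_32_2 (flp_d L3820) (flp_g L3413) L4610
theorem L4615 : sm gi N569 = N422 := ded_34_2 (flp_d L3441) (flp_i L3416) L4610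
theorem L4617 : sm gc N569 = N569 := ded_24_1 (flp_d L4610) L3411 L2540 (flp_c L3411) L4610
theorem L4618 : sm ge N569 = N569 := ded_30_2 (flp_d L4610) (flp_e L3408) L2531 L3408 L4610
theorem L4619 : sm gf N418 = N570 := rfl
theorem L4621 : sm ga N570 = N570 := ded_13_1 (flp_f L4619) L3410 L4619
theorem L4622 : sm gc N570 = N419 := ded_26_1 (flp_f L3418) (flp_c L3411) L4619
theorem L4624 : sm gh N570 = N570 := ded_40_2 (flp_f L4619) L3415 L4619
theorem L4625 : sm gi N570 = N423 := ded_41_2 (flp_f L3449) (flp_i L3416) L4619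
theorem L4627 : sm gg N419 = N571 := rfl
theorem L4629 : sm ga N571 = N571 := ded_14_1 (flp_g L4627) L3420 L4627
theorem L4630 : sm gd N571 = N571 := ded_32_1 (flp_g L4627) L3421 L4627
theorem L4631 : sm gh N571 = N571 := ded_42_2 (flp_g L4627) L3422 L4627
theorem L4632 : sm gi N571 = N424 := ded_43_2 (flp_g L3456) (flp_i L3423) L4627
theorem L4634 : sm gf N571 = N474 := ded_39_1 (flp_g L3836) (flp_f L2836) (flp_g L2535) L3418 L4627
theorem L4636 : sm ge N420 = N572 := rfl
theorem L4638 : sm ga N572 = N421 := ded_12_1 (flp_e L3433) L3425 L4636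
theorem L4640 : sm gb N572 = N572 := ded_19_1 (flp_e L4636) L3432 L4636
theorem L4641 : sm gg N572 = N475 := ded_36_2 (flp_e L3844) (flp_g L3428) L4636
theorem L4643 : sm gh N572 = N430 := ded_37_2 (flp_e L3503) (flp_h L3430) L4636
theorem L4645 : sm gd N421 = N573 := rfl
theorem L4647 : sm gb N573 = N422 := ded_18_1 (flp_d L3441) (flp_b L3435) L4645
theorem L4649 : sm gg N573 = N476 := ded_32_2 (flp_d L3851) (flp_g L3437) L4645
theorem L4651 : sm ge N573 = N573 := ded_30_2 (flp_d L4645) (flp_e L3433) L2543 L3433 L4645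
theorem L4652 : sm gh N573 = N573 := ded_33_2 (flp_d L4645) L3439 L2600 (flp_h L3439) L4645
theorem L4653 : sm gf N421 = N574 := rfl
theorem L4655 : sm gb N574 = N423 := ded_20_1 (flp_f L3449) (flp_b L3435) L4653
theorem L4657 : sm gh N574 = N431 := ded_40_2 (flp_f L3512) (flp_h L3439) L4653
theorem L4659 : sm gf N422 = N575 := rfl
theorem L4661 : sm ga N575 = N575 := ded_13_1 (flp_f L4659) L3443 L4659
theorem L4662 : sm gc N575 = N575 := ded_26_1 (flp_f L4659) L3446 L4659
theorem L4663 : sm gd N575 = N423 := ded_31_1 (flp_f L3449) L3441 L4659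
theorem L4665 : sm gh N575 = N575 := ded_40_2 (flp_f L4659) L3448 L4659
theorem L4666 : sm gg N423 = N576 := rfl
theorem L4668 : sm ga N576 = N576 := ded_14_1 (flp_g L4666) L3451 L4666
theorem L4669 : sm gc N576 = N424 := ded_27_1 (flp_g L3456) (flp_c L3452) L4666
theorem L4671 : sm gh N576 = N432 := ded_42_2 (flp_g L3518) (flp_h L3454) L4666
theorem L4673 : sm gf N576 = N479 := ded_39_1 (flp_g L3871) (flp_f L2863) (flp_g L2553) L3449 L4666
theorem L4675 : sm ge N425 = N577 := rfl
theorem L4677 : sm ga N577 = N426 := ded_12_1 (flp_e L3473) L3464 L4675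
theorem L4679 : sm gb N577 = N577 := ded_19_1 (flp_e L4675) L3472 L4675
theorem L4680 : sm gg N577 = N577 := ded_36_2 (flp_e L4675) L3470 L4675
theorem L4681 : sm gi N577 = N577 := ded_38_2 (flp_e L4675) L3471 L4675
theorem L4682 : sm gd N426 = N578 := rfl
theorem L4684 : sm gb N578 = N427 := ded_18_1 (flp_d L3479) (flp_b L3475) L4682
theorem L4686 : sm gg N578 = N578 := ded_32_2 (flp_d L4682) L3477 L4682
theorem L4687 : sm gi N578 = N578 := ded_34_2 (flp_d L4682) L3478 L4682
theorem L4688 : sm ge N578 = N434 := ded_30_2 (flp_d L3537) (flp_e L2625) (flp_d L2565) L3473 L4682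
theorem L4690 : sm gf N426 = N579 := rfl
theorem L4692 : sm gb N579 = N428 := ded_20_1 (flp_f L3487) (flp_b L3475) L4690
theorem L4694 : sm gi N579 = N579 := ded_41_2 (flp_f L4690) L3478 L4690
theorem L4695 : sm ge N579 = N431 := ded_35_1 (flp_f L3512) (flp_e L2593) (flp_f L2567) L3473 L4690
theorem L4697 : sm gf N427 = N580 := rfl
theorem L4699 : sm ga N580 = N580 := ded_13_1 (flp_f L4697) L3481 L4697
theorem L4700 : sm gc N580 = N580 := ded_26_1 (flp_f L4697) L3484 L4697
theorem L4701 : sm gd N580 = N428 := ded_31_1 (flp_f L3487) L3479 L4697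
theorem L4703 : sm gi N580 = N580 := ded_41_2 (flp_f L4697) L3483 L4697
theorem L4704 : sm ge N580 = N580 := ded_35_1 (flp_f L4697) L3485 L2637 (flp_e L3485) L4697
theorem L4705 : sm gh N427 = N581 := rfl
theorem L4707 : sm ga N581 = N581 := ded_15_1 (flp_h L4705) L3481 L4705
theorem L4708 : sm gc N581 = N581 := ded_28_1 (flp_h L4705) L3484 L4705
theorem L4709 : sm ge N581 = N435 := ded_37_1 (flp_h L3544) (flp_e L3485) L4705
theorem L4711 : sm gg N581 = N581 := ded_42_1 (flp_h L4705) L3482 L4705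
theorem L4712 : sm gg N428 = N582 := rfl
theorem L4714 : sm ga N582 = N582 := ded_14_1 (flp_g L4712) L3489 L4712
theorem L4715 : sm gc N582 = N429 := ded_27_1 (flp_g L3495) (flp_c L3490) L4712
theorem L4717 : sm ge N582 = N432 := ded_36_1 (flp_g L3518) (flp_e L3493) L4712
theorem L4719 : sm gi N582 = N582 := ded_43_2 (flp_g L4712) L3492 L4712
theorem L4720 : sm gf N582 = N582 := ded_39_1 (flp_g L4712) (flp_f L3487) L2576 L3487 L4712
theorem L4721 : sm gf N430 = N583 := rfl
theorem L4723 : sm ga N583 = N431 := ded_13_1 (flp_f L3512) (flp_a L3505) L4721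
theorem L4725 : sm gb N583 = N583 := ded_20_1 (flp_f L4721) L3507 L4721
theorem L4726 : sm gd N583 = N583 := ded_31_1 (flp_f L4721) L3511 L4721
theorem L4727 : sm gi N583 = N583 := ded_41_2 (flp_f L4721) L3510 L4721
theorem L4728 : sm gg N431 = N584 := rfl
theorem L4730 : sm gb N584 = N432 := ded_21_1 (flp_g L3518) (flp_b L3514) L4728
theorem L4732 : sm gd N584 = N584 := ded_32_1 (flp_g L4728) L3516 L4728
theorem L4733 : sm gi N584 = N584 := ded_43_2 (flp_g L4728) L3517 L4728
theorem L4734 : sm gf N584 = N481 := ded_39_1 (flp_g L3887) (flp_f L2885) (flp_g L2597) L3512 L4728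
theorem L4736 : sm gd N433 = N585 := rfl
theorem L4738 : sm ga N585 = N434 := ded_11_1 (flp_d L3537) (flp_a L3529) L4736
theorem L4740 : sm gb N585 = N585 := ded_18_1 (flp_d L4736) L3531 L4736
theorem L4741 : sm gf N585 = N585 := ded_31_2 (flp_d L4736) L3536 L4736
theorem L4742 : sm gg N585 = N585 := ded_32_2 (flp_d L4736) L3533 L4736
theorem L4743 : sm gi N585 = N585 := ded_34_2 (flp_d L4736) L3535 L4736
theorem L4744 : sm gc N434 = N586 := rfl
theorem L4746 : sm gf N586 = N586 := ded_26_2 (flp_c L4744) L3541 L4744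
theorem L4747 : sm gg N586 = N586 := ded_27_2 (flp_c L4744) L3542 L4744
theorem L4748 : sm gi N586 = N586 := ded_29_2 (flp_c L4744) L3543 L4744
theorem L4749 : sm gb N586 = N586 := ded_17_1 (flp_c L4744) L3539 L2640 (flp_b L3539) L4744
theorem L4750 : sm gd N586 = N586 := ded_24_2 (flp_c L4744) (flp_d L3537) L2629 L3537 L4744
theorem L4751 : sm gh N434 = N587 := rfl
theorem L4753 : sm gb N587 = N435 := ded_22_1 (flp_h L3544) (flp_b L3539) L4751
theorem L4755 : sm gf N587 = N587 := ded_40_1 (flp_h L4751) L3541 L4751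
theorem L4756 : sm gg N587 = N587 := ded_42_1 (flp_h L4751) L3542 L4751
theorem L4757 : sm gd N587 = N587 := ded_33_1 (flp_h L4751) (flp_d L3537) L2631 L3537 L4751
theorem L4758 : sm gi N435 = N588 := rfl
theorem L4760 : sm ga N588 = N588 := ded_16_1 (flp_i L4758) L3546 L4758
theorem L4761 : sm gc N588 = N588 := ded_29_1 (flp_i L4758) L3547 L4758
theorem L4762 : sm gd N588 = N588 := ded_34_1 (flp_i L4758) L3550 L4758
theorem L4763 : sm gf N588 = N588 := ded_41_1 (flp_i L4758) L3548 L4758
theorem L4764 : sm gg N588 = N588 := ded_43_1 (flp_i L4758) L3549 L4758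
theorem L4765 : sm gh N588 = N588 := ded_44_1 (flp_i L4758) (flp_h L3544) L2639 L3544 L4758
theorem L4766 : sm ga N436 = N589 := rfl
theorem L4768 : sm gc N589 = N589 := ded_10_2 (flp_a L4766) L3556 L4766
theorem L4769 : sm gf N589 = N589 := ded_13_2 (flp_a L4766) L3553 L4766
theorem L4770 : sm gh N589 = N439 := ded_15_2 (flp_a L3574) (flp_h L3554) L4766
theorem L4772 : sm gb N589 = N455 := ded_9_2 (flp_a L3707) (flp_b L2746) (flp_a L2643) L3551 L4766
theorem L4774 : sm ge N436 = N590 := rfl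
theorem L4776 : sm gb N590 = N437 := ded_19_1 (flp_e L3557) L3551 L4774
theorem L4778 : sm gc N590 = N590 := ded_25_1 (flp_e L4774) L3556 L4774
theorem L4779 : sm gh N590 = N440 := ded_37_2 (flp_e L3582) (flp_h L3554) L4774
theorem L4781 : sm gd N437 = N591 := rfl
theorem L4783 : sm ga N591 = N457 := ded_11_1 (flp_d L3722) (flp_a L3559) L4781
theorem L4785 : sm gc N591 = N591 := ded_24_1 (flp_d L4781) L3561 L2655 (flp_c L3561) L4781
theorem L4786 : sm gf N437 = N592 := rfl
theorem L4788 : sm ga N592 = N458 := ded_13_1 (flp_f L3725) (flp_a L3559) L4786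
theorem L4792 : sm gh N592 = N442 := ded_40_2 (flp_f L3596) (flp_h L3563) L4786
theorem L4795 : sm gg N438 = N593 := rfl
theorem L4797 : sm ga N593 = N459 := ded_14_1 (flp_g L3732) (flp_a L3567) L4795
theorem L4802 : sm gh N593 = N443 := ded_42_2 (flp_g L3604) (flp_h L3571) L4795
theorem L4804 : sm ge N439 = N594 := rfl
theorem L4806 : sm ga N594 = N440 := ded_12_1 (flp_e L3582) L3574 L4804
theorem L4808 : sm gb N594 = N460 := ded_19_1 (flp_e L3740) (flp_b L3580) L4804
theorem L4810 : sm gc N594 = N594 := ded_25_1 (flp_e L4804) L3576 L4804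
theorem L4811 : sm gi N594 = N594 := ded_38_2 (flp_e L4804) L3579 L4804
theorem L4812 : sm gd N440 = N595 := rfl
theorem L4814 : sm gb N595 = N441 := ded_18_1 (flp_d L3588) (flp_b L3584) L4812
theorem L4816 : sm gi N595 = N595 := ded_34_2 (flp_d L4812) L3587 L4812
theorem L4818 : sm gf N440 = N596 := rfl
theorem L4820 : sm gb N596 = N442 := ded_20_1 (flp_f L3596) (flp_b L3584) L4818
theorem L4825 : sm gf N441 = N597 := rfl
theorem L4827 : sm ga N597 = N463 := ded_13_1 (flp_f L3762) (flp_a L3590) L4825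
theorem L4829 : sm gc N597 = N446 := ded_26_1 (flp_f L3630) (flp_c L3593) L4825
theorem L4831 : sm gd N597 = N442 := ded_31_1 (flp_f L3596) L3588 L4825
theorem L4833 : sm gi N597 = N597 := ded_41_2 (flp_f L4825) L3592 L4825
theorem L4841 : sm gg N442 = N599 := rfl
theorem L4849 : sm gc N444 = N600 := rfl
theorem L4853 : sm gi N600 = N600 := ded_29_2 (flp_c L4849) L3618 L4849
theorem L4855 : sm gf N444 = N601 := rfl
theorem L4858 : sm gb N601 = N446 := ded_20_1 (flp_f L3630) (flp_b L3616) L4855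
theorem L4860 : sm gd N601 = N445 := ded_31_1 (flp_f L3620) L3613 L4855
theorem L4862 : sm gi N601 = N601 := ded_41_2 (flp_f L4855) L3618 L4855
theorem L4863 : sm gh N444 = N602 := rfl
theorem L4880 : sm ge N446 = N604 := rfl
theorem L4882 : sm ga N604 = N466 := ded_12_1 (flp_e L3780) (flp_a L3632) L4880
theorem L4885 : sm gd N604 = N486 := ded_30_1 (flp_e L3927) L2921 (flp_e L2700) (flp_d L3634) L4880
theorem L4888 : sm gg N446 = N605 := rfl
theorem L4909 : sm ga N449 = N608 := rfl
theorem L4911 : sm gc N608 = N608 := ded_10_2 (flp_a L4909) L3661 L4909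
theorem L4912 : sm gd N608 = N455 := ded_11_2 (flp_a L3707) (flp_d L3655) L4909
theorem L4914 : sm gf N608 = N608 := ded_13_2 (flp_a L4909) L3657 L4909
theorem L4915 : sm gh N608 = N608 := ded_15_2 (flp_a L4909) L3658 L4909
theorem L4916 : sm gi N608 = N589 := ded_16_2 (flp_a L4766) (flp_i L3659) L4909
theorem L4918 : sm ge N449 = N609 := rfl
theorem L4920 : sm gb N609 = N450 := ded_19_1 (flp_e L3662) L3653 L4918
theorem L4922 : sm gc N609 = N609 := ded_25_1 (flp_e L4918) L3661 L4918
theorem L4923 : sm gh N609 = N609 := ded_37_2 (flp_e L4918) L3658 L4918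
theorem L4924 : sm gi N609 = N590 := ded_38_2 (flp_e L4774) (flp_i L3659) L4918
theorem L4926 : sm gd N450 = N610 := rfl
theorem L4928 : sm gi N610 = N591 := ded_34_2 (flp_d L4781) (flp_i L3667) L4926
theorem L4930 : sm gc N610 = N610 := ded_24_1 (flp_d L4926) L3664 L2725 (flp_c L3664) L4926
theorem L4931 : sm ge N610 = N457 := ded_30_2 (flp_d L3722) (flp_e L2753) (flp_d L2717) L3662 L4926
theorem L4933 : sm gf N450 = N611 := rfl
theorem L4935 : sm gc N611 = N451 := ded_26_1 (flp_f L3669) (flp_c L3664) L4933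
theorem L4937 : sm gh N611 = N611 := ded_40_2 (flp_f L4933) L3666 L4933
theorem L4940 : sm ge N611 = N611 := ded_35_1 (flp_f L4933) (flp_e L3662) L2713 L3662 L4933
theorem L4941 : sm gg N451 = N612 := rfl
theorem L4947 : sm gi N612 = N593 := ded_43_2 (flp_g L4795) (flp_i L3674) L4941
theorem L4949 : sm ga N452 = N613 := rfl
theorem L4951 : sm gc N613 = N470 := ded_10_2 (flp_a L3805) (flp_c L3685) L4949
theorem L4953 : sm gd N613 = N589 := ded_11_2 (flp_a L4766) (flp_d L3679) L4949
theorem L4955 : sm gf N613 = N613 := ded_13_2 (flp_a L4949) L3681 L4949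
theorem L4956 : sm gh N613 = N613 := ded_15_2 (flp_a L4949) L3682 L4949
theorem L4957 : sm gi N613 = N455 := ded_16_2 (flp_a L3707) (flp_i L3683) L4949
theorem L4959 : sm gb N613 = N608 := ded_9_2 (flp_a L4909) (flp_b L3653) (flp_a L2728) L3677 L4949
theorem L4961 : sm ge N452 = N614 := rfl
theorem L4963 : sm gb N614 = N453 := ded_19_1 (flp_e L3687) L3677 L4961
theorem L4965 : sm gc N614 = N471 := ded_25_1 (flp_e L3813) (flp_c L3685) L4961
theorem L4967 : sm gh N614 = N614 := ded_37_2 (flp_e L4961) L3682 L4961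
theorem L4968 : sm gi N614 = N456 := ded_38_2 (flp_e L3714) (flp_i L3683) L4961
theorem L4970 : sm gd N453 = N615 := rfl
theorem L4972 : sm ga N615 = N610 := ded_11_1 (flp_d L4926) (flp_a L3689) L4970
theorem L4974 : sm gi N615 = N457 := ded_34_2 (flp_d L3722) (flp_i L3694) L4970
theorem L4976 : sm gc N615 = N615 := ded_24_1 (flp_d L4970) L3691 L2745 (flp_c L3691) L4970
theorem L4977 : sm ge N615 = N591 := ded_30_2 (flp_d L4781) (flp_e L3557) (flp_d L2734) L3687 L4970
theorem L4979 : sm gf N453 = N616 := rfl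
theorem L4981 : sm ga N616 = N611 := ded_13_1 (flp_f L4933) (flp_a L3689) L4979
theorem L4983 : sm gc N616 = N454 := ded_26_1 (flp_f L3696) (flp_c L3691) L4979
theorem L4985 : sm gh N616 = N616 := ded_40_2 (flp_f L4979) L3693 L4979
theorem L4986 : sm gi N616 = N458 := ded_41_2 (flp_f L3725) (flp_i L3694) L4979
theorem L4988 : sm ge N616 = N616 := ded_35_1 (flp_f L4979) (flp_e L3687) L2730 L3687 L4979
theorem L4989 : sm gg N454 = N617 := rfl
theorem L4991 : sm ga N617 = N612 := ded_14_1 (flp_g L4941) (flp_a L3698) L4989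
theorem L4993 : sm gb N617 = N474 := ded_21_1 (flp_g L3836) (flp_b L3700) L4989
theorem L4995 : sm gd N617 = N617 := ded_32_1 (flp_g L4989) L3702 L4989
theorem L4996 : sm ge N617 = N617 := ded_36_1 (flp_g L4989) L3706 L4989
theorem L4997 : sm gh N617 = N617 := ded_42_2 (flp_g L4989) L3703 L4989
theorem L4998 : sm gi N617 = N459 := ded_43_2 (flp_g L3732) (flp_i L3704) L4989
theorem L5000 : sm ge N455 = N618 := rfl
theorem L5002 : sm ga N618 = N456 := ded_12_1 (flp_e L3714) L3707 L5000
theorem L5004 : sm gc N618 = N475 := ded_25_1 (flp_e L3844) (flp_c L3709) L5000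
theorem L5006 : sm gh N618 = N460 := ded_37_2 (flp_e L3740) (flp_h L3712) L5000
theorem L5008 : sm gd N456 = N619 := rfl
theorem L5010 : sm gb N619 = N457 := ded_18_1 (flp_d L3722) (flp_b L3716) L5008
theorem L5012 : sm gf N456 = N620 := rfl
theorem L5014 : sm gb N620 = N458 := ded_20_1 (flp_f L3725) (flp_b L3716) L5012
theorem L5016 : sm gc N620 = N477 := ded_26_1 (flp_f L3857) (flp_c L3718) L5012
theorem L5018 : sm gh N620 = N462 := ded_40_2 (flp_f L3754) (flp_h L3720) L5012
theorem L5020 : sm ge N620 = N620 := ded_35_1 (flp_f L5012) (flp_e L3714) L2748 L3714 L5012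
theorem L5021 : sm gf N457 = N621 := rfl
theorem L5023 : sm gc N621 = N621 := ded_26_1 (flp_f L5021) L3724 L5021
theorem L5024 : sm gd N621 = N458 := ded_31_1 (flp_f L3725) L3722 L5021
theorem L5026 : sm gh N457 = N622 := rfl
theorem L5028 : sm gc N622 = N622 := ded_28_1 (flp_h L5026) L3724 L5026
theorem L5029 : sm gd N622 = N464 := ded_33_1 (flp_h L3769) (flp_d L2781) (flp_h L2757) L3722 L5026
theorem L5031 : sm gg N458 = N623 := rfl
theorem L5033 : sm gc N623 = N459 := ded_27_1 (flp_g L3732) (flp_c L3727) L5031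
theorem L5035 : sm ge N623 = N623 := ded_36_1 (flp_g L5031) L3731 L5031
theorem L5036 : sm gh N623 = N465 := ded_42_2 (flp_g L3774) (flp_h L3729) L5031
theorem L5038 : sm gd N460 = N624 := rfl
theorem L5040 : sm ga N624 = N461 := ded_11_1 (flp_d L3747) (flp_a L3742) L5038
theorem L5042 : sm gi N624 = N624 := ded_34_2 (flp_d L5038) L3746 L5038
theorem L5043 : sm gc N624 = N624 := ded_24_1 (flp_d L5038) L3744 L2884 (flp_c L3744) L5038
theorem L5044 : sm ge N624 = N624 := ded_30_2 (flp_d L5038) (flp_e L3740) L2771 L3740 L5038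
theorem L5045 : sm gf N460 = N625 := rfl
theorem L5047 : sm ga N625 = N462 := ded_13_1 (flp_f L3754) (flp_a L3742) L5045
theorem L5049 : sm gc N625 = N480 := ded_26_1 (flp_f L3879) (flp_c L3744) L5045
theorem L5051 : sm gi N625 = N625 := ded_41_2 (flp_f L5045) L3746 L5045
theorem L5052 : sm ge N625 = N625 := ded_35_1 (flp_f L5045) (flp_e L3740) L2772 L3740 L5045
theorem L5053 : sm gf N461 = N626 := rfl
theorem L5055 : sm gb N626 = N463 := ded_20_1 (flp_f L3762) (flp_b L3749) L5053
theorem L5058 : sm gd N626 = N462 := ded_31_1 (flp_f L3754) L3747 L5053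
theorem L5061 : sm gh N461 = N627 := rfl
theorem L5063 : sm gb N627 = N464 := ded_22_1 (flp_h L3769) (flp_b L3749) L5061
theorem L5065 : sm gc N627 = N627 := ded_28_1 (flp_h L5061) L3752 L5061
theorem L5066 : sm ge N627 = N627 := ded_37_1 (flp_h L5061) L3753 L5061
theorem L5067 : sm gg N462 = N628 := rfl
theorem L5069 : sm gb N628 = N465 := ded_21_1 (flp_g L3774) (flp_b L3756) L5067
theorem L5071 : sm gc N628 = N481 := ded_27_1 (flp_g L3887) (flp_c L3758) L5067
theorem L5073 : sm ge N628 = N628 := ded_36_1 (flp_g L5067) L3761 L5067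
theorem L5074 : sm gi N628 = N628 := ded_43_2 (flp_g L5067) L3760 L5067
theorem L5075 : sm ge N463 = N629 := rfl
theorem L5077 : sm gc N629 = N466 := ded_25_1 (flp_e L3780) (flp_c L3764) L5075
theorem L5082 : sm gg N463 = N630 := rfl
theorem L5086 : sm gd N630 = N465 := ded_32_1 (flp_g L3774) (flp_d L3766) L5082
theorem L5089 : sm gh N463 = N631 := rfl
theorem L5095 : sm gi N464 = N632 := rfl
theorem L5101 : sm gg N466 = N633 := rfl
theorem L5104 : sm gd N633 = N490 := ded_32_1 (flp_g L3960) (flp_d L3784) L5101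
theorem L5106 : sm ge N633 = N467 := ded_36_1 (flp_g L3787) L3780 L5101
theorem L5109 : sm gh N466 = N634 := rfl
theorem L5112 : sm ge N634 = N468 := ded_37_1 (flp_h L3793) L3780 L5109
theorem L5128 : sm ge N470 = N637 := rfl
theorem L5130 : sm ga N637 = N471 := ded_12_1 (flp_e L3813) L3805 L5128
theorem L5132 : sm gb N637 = N637 := ded_19_1 (flp_e L5128) L3812 L5128
theorem L5133 : sm gh N637 = N637 := ded_37_2 (flp_e L5128) L3809 L5128
theorem L5134 : sm gi N637 = N475 := ded_38_2 (flp_e L3844) (flp_i L3810) L5128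
theorem L5136 : sm gd N471 = N638 := rfl
theorem L5138 : sm gb N638 = N472 := ded_18_1 (flp_d L3820) (flp_b L3815) L5136
theorem L5140 : sm gi N638 = N476 := ded_34_2 (flp_d L3851) (flp_i L3818) L5136
theorem L5142 : sm ge N638 = N638 := ded_30_2 (flp_d L5136) (flp_e L3813) L2823 L3813 L5136
theorem L5143 : sm gf N471 = N639 := rfl
theorem L5145 : sm gb N639 = N473 := ded_20_1 (flp_f L3827) (flp_b L3815) L5143
theorem L5147 : sm gh N639 = N639 := ded_40_2 (flp_f L5143) L3817 L5143
theorem L5148 : sm gi N639 = N477 := ded_41_2 (flp_f L3857) (flp_i L3818) L5143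
theorem L5150 : sm ge N639 = N639 := ded_35_1 (flp_f L5143) (flp_e L3813) L2824 L3813 L5143
theorem L5151 : sm gf N472 = N640 := rfl
theorem L5153 : sm ga N640 = N640 := ded_13_1 (flp_f L5151) L3822 L5151
theorem L5154 : sm gc N640 = N640 := ded_26_1 (flp_f L5151) L3825 L5151
theorem L5155 : sm gd N640 = N473 := ded_31_1 (flp_f L3827) L3820 L5151
theorem L5157 : sm gi N640 = N478 := ded_41_2 (flp_f L3864) (flp_i L3823) L5151
theorem L5159 : sm gh N472 = N641 := rfl
theorem L5161 : sm ga N641 = N641 := ded_15_1 (flp_h L5159) L3822 L5159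
theorem L5162 : sm gc N641 = N641 := ded_28_1 (flp_h L5159) L3825 L5159
theorem L5163 : sm ge N641 = N641 := ded_37_1 (flp_h L5159) L3826 L5159
theorem L5164 : sm gd N641 = N641 := ded_33_1 (flp_h L5159) (flp_d L3820) L2833 L3820 L5159
theorem L5165 : sm gi N641 = N641 := ded_44_2 (flp_h L5159) L3823 L2862 (flp_i L3823) L5159
theorem L5166 : sm gg N473 = N642 := rfl
theorem L5168 : sm ga N642 = N642 := ded_14_1 (flp_g L5166) L3829 L5166
theorem L5169 : sm gc N642 = N474 := ded_27_1 (flp_g L3836) (flp_c L3830) L5166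
theorem L5171 : sm ge N642 = N642 := ded_36_1 (flp_g L5166) L3835 L5166
theorem L5172 : sm gh N642 = N642 := ded_42_2 (flp_g L5166) L3832 L5166
theorem L5173 : sm gi N642 = N479 := ded_43_2 (flp_g L3871) (flp_i L3833) L5166
theorem L5175 : sm gd N475 = N643 := rfl
theorem L5177 : sm ga N643 = N476 := ded_11_1 (flp_d L3851) (flp_a L3846) L5175
theorem L5179 : sm gb N643 = N643 := ded_18_1 (flp_d L5175) L3848 L5175
theorem L5180 : sm ge N643 = N643 := ded_30_2 (flp_d L5175) (flp_e L3844) L2846 L3844 L5175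
theorem L5181 : sm gh N643 = N643 := ded_33_2 (flp_d L5175) L3849 L2884 (flp_h L3849) L5175
theorem L5182 : sm gf N475 = N644 := rfl
theorem L5184 : sm ga N644 = N477 := ded_13_1 (flp_f L3857) (flp_a L3846) L5182
theorem L5186 : sm gb N644 = N644 := ded_20_1 (flp_f L5182) L3848 L5182
theorem L5187 : sm gh N644 = N480 := ded_40_2 (flp_f L3879) (flp_h L3849) L5182
theorem L5189 : sm ge N644 = N644 := ded_35_1 (flp_f L5182) (flp_e L3844) L2847 L3844 L5182
theorem L5190 : sm gc N476 = N645 := rfl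
theorem L5192 : sm ge N645 = N645 := ded_25_2 (flp_c L5190) L3855 L5190
theorem L5193 : sm gh N645 = N645 := ded_28_2 (flp_c L5190) L3856 L5190
theorem L5194 : sm gb N645 = N645 := ded_17_1 (flp_c L5190) L3853 L2860 (flp_b L3853) L5190
theorem L5195 : sm gf N476 = N646 := rfl
theorem L5197 : sm gb N646 = N478 := ded_20_1 (flp_f L3864) (flp_b L3853) L5195
theorem L5199 : sm gd N646 = N477 := ded_31_1 (flp_f L3857) L3851 L5195
theorem L5201 : sm gh N646 = N646 := ded_40_2 (flp_f L5195) L3856 L5195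
theorem L5202 : sm gg N477 = N647 := rfl
theorem L5204 : sm gb N647 = N479 := ded_21_1 (flp_g L3871) (flp_b L3859) L5202
theorem L5206 : sm ge N647 = N647 := ded_36_1 (flp_g L5202) L3863 L5202
theorem L5207 : sm gh N647 = N481 := ded_42_2 (flp_g L3887) (flp_h L3861) L5202
theorem L5209 : sm ge N478 = N648 := rfl
theorem L5211 : sm ga N648 = N648 := ded_12_1 (flp_e L5209) L3866 L5209
theorem L5212 : sm gc N648 = N648 := ded_25_1 (flp_e L5209) L3867 L5209
theorem L5213 : sm gh N648 = N648 := ded_37_2 (flp_e L5209) L3870 L5209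
theorem L5214 : sm gd N648 = N648 := ded_30_1 (flp_e L5209) L3868 L2870 (flp_d L3868) L5209
theorem L5215 : sm gf N648 = N648 := ded_35_2 (flp_e L5209) (flp_f L3864) L2861 L3864 L5209
theorem L5216 : sm gg N478 = N649 := rfl
theorem L5218 : sm ga N649 = N649 := ded_14_1 (flp_g L5216) L3866 L5216
theorem L5219 : sm gc N649 = N649 := ded_27_1 (flp_g L5216) L3867 L5216
theorem L5220 : sm gd N649 = N479 := ded_32_1 (flp_g L3871) (flp_d L3868) L5216
theorem L5222 : sm gh N649 = N649 := ded_42_2 (flp_g L5216) L3870 L5216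
theorem L5223 : sm gg N480 = N650 := rfl
theorem L5225 : sm ga N650 = N481 := ded_14_1 (flp_g L3887) (flp_a L3881) L5223
theorem L5227 : sm gb N650 = N650 := ded_21_1 (flp_g L5223) L3883 L5223
theorem L5228 : sm gd N650 = N650 := ded_32_1 (flp_g L5223) L3884 L5223
theorem L5229 : sm ge N650 = N650 := ded_36_1 (flp_g L5223) L3886 L5223
theorem L5230 : sm gi N650 = N650 := ded_43_2 (flp_g L5223) L3885 L5223
theorem L5231 : sm gf N482 = N651 := rfl
theorem L5235 : sm gc N651 = N483 := ded_26_1 (flp_f L3902) L3894 L5231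
theorem L5238 : sm gi N651 = N651 := ded_41_2 (flp_f L5231) L3899 L5231
theorem L5239 : sm gh N482 = N652 := rfl
theorem L5247 : sm ge N483 = N653 := rfl
theorem L5250 : sm gb N653 = N486 := ded_19_1 (flp_e L3927) (flp_b L3905) L5247
theorem L5252 : sm gi N653 = N653 := ded_38_2 (flp_e L5247) L3909 L5247
theorem L5254 : sm gg N483 = N654 := rfl
theorem L5259 : sm gd N654 = N485 := ded_32_1 (flp_g L3918) (flp_d L3907) L5254
theorem L5262 : sm gf N654 = N654 := ded_39_1 (flp_g L5254) (flp_f L3902) L2905 L3902 L5254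
theorem L5263 : sm gh N483 = N655 := rfl
theorem L5266 : sm gb N655 = N488 := ded_22_1 (flp_h L3943) (flp_b L3905) L5263
theorem L5280 : sm gg N486 = N657 := rfl
theorem L5282 : sm ga N657 = N490 := ded_14_1 (flp_g L3960) (flp_a L3929) L5280
theorem L5285 : sm ge N657 = N487 := ded_36_1 (flp_g L3934) L3927 L5280
theorem L5288 : sm gh N486 = N658 := rfl
theorem L5296 : sm gh N487 = N659 := rfl
theorem L5298 : sm ga N659 = N492 := ded_15_1 (flp_h L3974) (flp_a L3936) L5296
theorem L5302 : sm gg N659 = N488 := ded_42_1 (flp_h L3943) L3934 L5296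
theorem L5305 : sm gi N488 = N660 := rfl
theorem L5314 : sm gf N490 = N661 := rfl
theorem L5321 : sm gh N490 = N662 := rfl
theorem L5325 : sm ge N662 = N492 := ded_37_1 (flp_h L3974) (flp_e L3964) L5321
theorem L5327 : sm gg N662 = N491 := ded_42_1 (flp_h L3967) L3960 L5321
theorem L5329 : sm gd N491 = N663 := rfl
theorem L5334 : sm gi N491 = N664 := rfl
theorem L5342 : sm gi N492 = N665 := rfl
theorem L5348 : sm gg N665 = N493 := ded_43_1 (flp_i L3982) (flp_g L3979) L5342
theorem L5351 : sm gc N494 = N666 := rfl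
theorem L5353 : sm ga N666 = N522 := ded_10_1 (flp_c L4232) (flp_a L3992) L5351
theorem L5355 : sm gf N666 = N666 := ded_26_2 (flp_c L5351) L3995 L5351
theorem L5356 : sm gg N666 = N666 := ded_27_2 (flp_c L5351) L3996 L5351
theorem L5357 : sm gh N666 = N666 := ded_28_2 (flp_c L5351) L3997 L5351
theorem L5358 : sm ge N494 = N667 := rfl
theorem L5360 : sm ga N667 = N523 := ded_12_1 (flp_e L4237) (flp_a L3992) L5358
theorem L5362 : sm gb N667 = N667 := ded_19_1 (flp_e L5358) L3994 L5358
theorem L5363 : sm gg N667 = N667 := ded_36_2 (flp_e L5358) L3996 L5358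
theorem L5364 : sm gh N667 = N667 := ded_37_2 (flp_e L5358) L3997 L5358
theorem L5365 : sm gd N667 = N496 := ded_30_1 (flp_e L4007) (flp_d L2979) (flp_e L2975) L3990 L5358
theorem L5367 : sm gb N495 = N668 := rfl
theorem L5369 : sm gf N668 = N497 := ded_20_2 (flp_b L4015) (flp_f L4002) L5367
theorem L5371 : sm gg N668 = N668 := ded_21_2 (flp_b L5367) L4004 L5367
theorem L5372 : sm gh N668 = N500 := ded_22_2 (flp_b L4040) (flp_h L4005) L5367
theorem L5374 : sm gc N668 = N668 := ded_17_2 (flp_b L5367) (flp_c L3998) L2983 L3998 L5367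
theorem L5375 : sm ge N495 = N669 := rfl
theorem L5377 : sm ga N669 = N527 := ded_12_1 (flp_e L4276) (flp_a L4000) L5375
theorem L5379 : sm gc N669 = N496 := ded_25_1 (flp_e L4007) L3998 L5375
theorem L5381 : sm gg N669 = N669 := ded_36_2 (flp_e L5375) L4004 L5375
theorem L5382 : sm gh N669 = N501 := ded_37_2 (flp_e L4048) (flp_h L4005) L5375
theorem L5384 : sm gf N496 = N670 := rfl
theorem L5386 : sm ga N670 = N528 := ded_13_1 (flp_f L4283) (flp_a L4009) L5384
theorem L5388 : sm gb N670 = N670 := ded_20_1 (flp_f L5384) L4011 L5384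
theorem L5389 : sm gh N670 = N502 := ded_40_2 (flp_f L4056) (flp_h L4013) L5384
theorem L5391 : sm ge N670 = N499 := ded_35_1 (flp_f L4032) (flp_e L2997) (flp_f L2984) L4007 L5384
theorem L5393 : sm ga N497 = N671 := rfl
theorem L5395 : sm gc N671 = N671 := ded_10_2 (flp_a L5393) L4021 L5393
theorem L5396 : sm gg N671 = N589 := ded_14_2 (flp_a L4766) (flp_g L4017) L5393
theorem L5398 : sm gh N671 = N503 := ded_15_2 (flp_a L4065) (flp_h L4019) L5393
theorem L5400 : sm gb N671 = N532 := ded_9_2 (flp_a L4323) (flp_b L3214) (flp_a L2991) L4015 L5393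
theorem L5402 : sm ge N497 = N672 := rfl
theorem L5404 : sm gb N672 = N498 := ded_19_1 (flp_e L4022) L4015 L5402
theorem L5406 : sm gc N672 = N672 := ded_25_1 (flp_e L5402) L4021 L5402
theorem L5407 : sm gg N672 = N590 := ded_36_2 (flp_e L4774) (flp_g L4017) L5402
theorem L5409 : sm gh N672 = N504 := ded_37_2 (flp_e L4074) (flp_h L4019) L5402
theorem L5411 : sm gd N498 = N673 := rfl
theorem L5413 : sm ga N673 = N534 := ded_11_1 (flp_d L4341) (flp_a L4024) L5411
theorem L5415 : sm gg N673 = N591 := ded_32_2 (flp_d L4781) (flp_g L4028) L5411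
theorem L5417 : sm gc N673 = N673 := ded_24_1 (flp_d L5411) L4026 L3006 (flp_c L4026) L5411
theorem L5418 : sm gf N498 = N674 := rfl
theorem L5420 : sm ga N674 = N535 := ded_13_1 (flp_f L4346) (flp_a L4024) L5418
theorem L5422 : sm gc N674 = N499 := ded_26_1 (flp_f L4032) (flp_c L4026) L5418
theorem L5424 : sm gh N674 = N506 := ded_40_2 (flp_f L4092) (flp_h L4030) L5418
theorem L5426 : sm gg N499 = N675 := rfl
theorem L5428 : sm ga N675 = N536 := ded_14_1 (flp_g L4352) (flp_a L4034) L5426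
theorem L5436 : sm ga N500 = N676 := rfl
theorem L5438 : sm gc N676 = N676 := ded_10_2 (flp_a L5436) L4047 L5436
theorem L5439 : sm gd N676 = N676 := ded_11_2 (flp_a L5436) L4042 L5436
theorem L5440 : sm gf N676 = N503 := ded_13_2 (flp_a L4065) (flp_f L4043) L5436
theorem L5442 : sm gg N676 = N676 := ded_14_2 (flp_a L5436) L4045 L5436
theorem L5443 : sm gi N676 = N676 := ded_16_2 (flp_a L5436) L4046 L5436
theorem L5444 : sm gb N676 = N537 := ded_9_2 (flp_a L4361) (flp_b L3237) (flp_a L3009) L4040 L5436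
theorem L5446 : sm ge N500 = N677 := rfl
theorem L5448 : sm gb N677 = N501 := ded_19_1 (flp_e L4048) L4040 L5446
theorem L5450 : sm gc N677 = N677 := ded_25_1 (flp_e L5446) L4047 L5446
theorem L5451 : sm gg N677 = N677 := ded_36_2 (flp_e L5446) L4045 L5446
theorem L5452 : sm gi N677 = N677 := ded_38_2 (flp_e L5446) L4046 L5446
theorem L5453 : sm gd N501 = N678 := rfl
theorem L5455 : sm ga N678 = N539 := ded_11_1 (flp_d L4378) (flp_a L4050) L5453
theorem L5457 : sm gg N678 = N678 := ded_32_2 (flp_d L5453) L4054 L5453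
theorem L5458 : sm gi N678 = N678 := ded_34_2 (flp_d L5453) L4055 L5453
theorem L5459 : sm gc N678 = N678 := ded_24_1 (flp_d L5453) L4052 L3023 (flp_c L4052) L5453
theorem L5460 : sm ge N678 = N678 := ded_30_2 (flp_d L5453) (flp_e L4048) L3015 L4048 L5453
theorem L5461 : sm gf N501 = N679 := rfl
theorem L5463 : sm ga N679 = N540 := ded_13_1 (flp_f L4384) (flp_a L4050) L5461
theorem L5465 : sm gc N679 = N502 := ded_26_1 (flp_f L4056) (flp_c L4052) L5461
theorem L5467 : sm gi N679 = N679 := ded_41_2 (flp_f L5461) L4055 L5461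
theorem L5468 : sm ge N679 = N506 := ded_35_1 (flp_f L4092) (flp_e L3031) (flp_f L3011) L4048 L5461
theorem L5470 : sm gg N502 = N680 := rfl
theorem L5480 : sm ge N503 = N681 := rfl
theorem L5482 : sm ga N681 = N504 := ded_12_1 (flp_e L4074) L4065 L5480
theorem L5484 : sm gb N681 = N542 := ded_19_1 (flp_e L4400) (flp_b L4072) L5480
theorem L5486 : sm gc N681 = N681 := ded_25_1 (flp_e L5480) L4067 L5480
theorem L5487 : sm gg N681 = N594 := ded_36_2 (flp_e L4804) (flp_g L4069) L5480
theorem L5489 : sm gi N681 = N681 := ded_38_2 (flp_e L5480) L4071 L5480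
theorem L5490 : sm gd N504 = N682 := rfl
theorem L5492 : sm gb N682 = N505 := ded_18_1 (flp_d L4082) (flp_b L4076) L5490
theorem L5494 : sm gg N682 = N595 := ded_32_2 (flp_d L4812) (flp_g L4079) L5490
theorem L5498 : sm gf N504 = N683 := rfl
theorem L5500 : sm gb N683 = N506 := ded_20_1 (flp_f L4092) (flp_b L4076) L5498
theorem L5502 : sm gc N683 = N683 := ded_26_1 (flp_f L5498) L4078 L5498
theorem L5503 : sm gi N683 = N683 := ded_41_2 (flp_f L5498) L4081 L5498
theorem L5504 : sm gf N505 = N684 := rfl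
theorem L5506 : sm ga N684 = N545 := ded_13_1 (flp_f L4425) (flp_a L4084) L5504
theorem L5508 : sm gc N684 = N510 := ded_26_1 (flp_f L4127) (flp_c L4089) L5504
theorem L5510 : sm gd N684 = N506 := ded_31_1 (flp_f L4092) L4082 L5504
theorem L5513 : sm gh N505 = N685 := rfl
theorem L5515 : sm ga N685 = N546 := ded_15_1 (flp_h L4432) (flp_a L4084) L5513
theorem L5522 : sm gg N506 = N686 := rfl
theorem L5524 : sm ga N686 = N547 := ded_14_1 (flp_g L4439) (flp_a L4094) L5522
theorem L5531 : sm gc N508 = N687 := rfl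
theorem L5535 : sm gg N687 = N600 := ded_27_2 (flp_c L4849) (flp_g L4114) L5531
theorem L5537 : sm gi N687 = N687 := ded_29_2 (flp_c L5531) L4116 L5531
theorem L5539 : sm gf N508 = N688 := rfl
theorem L5542 : sm gb N688 = N510 := ded_20_1 (flp_f L4127) (flp_b L4112) L5539
theorem L5547 : sm gh N508 = N689 := rfl
theorem L5553 : sm gg N689 = N602 := ded_42_1 (flp_h L4863) (flp_g L4114) L5547
theorem L5567 : sm ge N510 = N691 := rfl
theorem L5569 : sm ga N691 = N548 := ded_12_1 (flp_e L4446) (flp_a L4129) L5567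
theorem L5590 : sm gi N511 = N694 := rfl
theorem L5592 : sm ga N694 = N551 := ded_16_1 (flp_i L4466) (flp_a L4136) L5590
theorem L5599 : sm gd N513 = N695 := rfl
theorem L5601 : sm gb N695 = N695 := ded_18_1 (flp_d L5599) L4155 L5599
theorem L5602 : sm gf N695 = N695 := ded_31_2 (flp_d L5599) L4158 L5599
theorem L5603 : sm gg N695 = N695 := ded_32_2 (flp_d L5599) L4159 L5599
theorem L5604 : sm gi N695 = N695 := ded_34_2 (flp_d L5599) L4160 L5599
theorem L5605 : sm gh N695 = N514 := ded_33_2 (flp_d L4161) (flp_h L3094) (flp_d L3089) L4153 L5599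
theorem L5607 : sm gc N514 = N696 := rfl
theorem L5609 : sm gf N696 = N696 := ded_26_2 (flp_c L5607) L4164 L5607
theorem L5610 : sm gg N696 = N696 := ded_27_2 (flp_c L5607) L4165 L5607
theorem L5611 : sm gi N696 = N666 := ded_29_2 (flp_c L5351) (flp_i L4166) L5607
theorem L5613 : sm gd N696 = N522 := ded_24_2 (flp_c L4232) (flp_d L3158) (flp_c L3097) L4161 L5607
theorem L5615 : sm ge N514 = N697 := rfl
theorem L5617 : sm gb N697 = N697 := ded_19_1 (flp_e L5615) L4163 L5615
theorem L5618 : sm gg N697 = N697 := ded_36_2 (flp_e L5615) L4165 L5615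
theorem L5619 : sm gi N697 = N667 := ded_38_2 (flp_e L5358) (flp_i L4166) L5615
theorem L5621 : sm gd N697 = N516 := ded_30_1 (flp_e L4178) (flp_d L3105) (flp_e L3099) L4161 L5615
theorem L5623 : sm gb N515 = N698 := rfl
theorem L5625 : sm gd N698 = N526 := ded_18_2 (flp_b L4267) (flp_d L4176) L5623
theorem L5627 : sm gf N698 = N517 := ded_20_2 (flp_b L4185) (flp_f L4170) L5623
theorem L5629 : sm gg N698 = N698 := ded_21_2 (flp_b L5623) L4172 L5623
theorem L5630 : sm gh N698 = N698 := ded_22_2 (flp_b L5623) L4173 L5623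
theorem L5631 : sm gi N698 = N668 := ded_23_2 (flp_b L5367) (flp_i L4174) L5623
theorem L5633 : sm gc N698 = N698 := ded_17_2 (flp_b L5623) (flp_c L4168) L3107 L4168 L5623
theorem L5634 : sm ge N515 = N699 := rfl
theorem L5636 : sm gc N699 = N516 := ded_25_1 (flp_e L4178) L4168 L5634
theorem L5638 : sm gg N699 = N699 := ded_36_2 (flp_e L5634) L4172 L5634
theorem L5639 : sm gh N699 = N699 := ded_37_2 (flp_e L5634) L4173 L5634
theorem L5640 : sm gi N699 = N669 := ded_38_2 (flp_e L5375) (flp_i L4174) L5634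
theorem L5642 : sm gf N516 = N700 := rfl
theorem L5644 : sm gb N700 = N700 := ded_20_1 (flp_f L5642) L4180 L5642
theorem L5645 : sm gh N700 = N700 := ded_40_2 (flp_f L5642) L4182 L5642
theorem L5646 : sm gi N700 = N670 := ded_41_2 (flp_f L5384) (flp_i L4183) L5642
theorem L5648 : sm ge N700 = N519 := ded_35_1 (flp_f L4204) (flp_e L3123) (flp_f L3108) L4178 L5642
theorem L5650 : sm ga N517 = N701 := rfl
theorem L5652 : sm gc N701 = N701 := ded_10_2 (flp_a L5650) L4194 L5650
theorem L5653 : sm gd N701 = N532 := ded_11_2 (flp_a L4323) (flp_d L4187) L5650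
theorem L5655 : sm gg N701 = N608 := ded_14_2 (flp_a L4909) (flp_g L4189) L5650
theorem L5657 : sm gh N701 = N701 := ded_15_2 (flp_a L5650) L4191 L5650
theorem L5658 : sm gi N701 = N671 := ded_16_2 (flp_a L5393) (flp_i L4192) L5650
theorem L5660 : sm ge N517 = N702 := rfl
theorem L5662 : sm gb N702 = N518 := ded_19_1 (flp_e L4195) L4185 L5660
theorem L5664 : sm gc N702 = N702 := ded_25_1 (flp_e L5660) L4194 L5660
theorem L5665 : sm gg N702 = N609 := ded_36_2 (flp_e L4918) (flp_g L4189) L5660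
theorem L5667 : sm gh N702 = N702 := ded_37_2 (flp_e L5660) L4191 L5660
theorem L5668 : sm gi N702 = N672 := ded_38_2 (flp_e L5402) (flp_i L4192) L5660
theorem L5670 : sm gd N518 = N703 := rfl
theorem L5672 : sm gg N703 = N610 := ded_32_2 (flp_d L4926) (flp_g L4199) L5670
theorem L5674 : sm gi N703 = N673 := ded_34_2 (flp_d L5411) (flp_i L4202) L5670
theorem L5676 : sm gc N703 = N703 := ded_24_1 (flp_d L5670) L4197 L3131 (flp_c L4197) L5670
theorem L5677 : sm ge N703 = N534 := ded_30_2 (flp_d L4341) (flp_e L3222) (flp_d L3121) L4195 L5670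
theorem L5679 : sm gf N518 = N704 := rfl
theorem L5681 : sm gc N704 = N519 := ded_26_1 (flp_f L4204) (flp_c L4197) L5679
theorem L5683 : sm gh N704 = N704 := ded_40_2 (flp_f L5679) L4201 L5679
theorem L5684 : sm gi N704 = N674 := ded_41_2 (flp_f L5418) (flp_i L4202) L5679
theorem L5686 : sm gg N519 = N705 := rfl
theorem L5688 : sm gb N705 = N705 := ded_21_1 (flp_g L5686) L4206 L5686
theorem L5689 : sm gd N705 = N705 := ded_32_1 (flp_g L5686) L4207 L5686
theorem L5690 : sm gh N705 = N705 := ded_42_2 (flp_g L5686) L4208 L5686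
theorem L5691 : sm gi N705 = N675 := ded_43_2 (flp_g L5426) (flp_i L4209) L5686
theorem L5693 : sm gf N705 = N612 := ded_39_1 (flp_g L4941) (flp_f L3669) (flp_g L3126) L4204 L5686
theorem L5695 : sm gd N520 = N706 := rfl
theorem L5697 : sm ga N706 = N695 := ded_11_1 (flp_d L5599) (flp_a L4213) L5695
theorem L5699 : sm gb N706 = N553 := ded_18_1 (flp_d L4484) (flp_b L4215) L5695
theorem L5701 : sm gf N706 = N706 := ded_31_2 (flp_d L5695) L4219 L5695
theorem L5702 : sm gg N706 = N706 := ded_32_2 (flp_d L5695) L4220 L5695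
theorem L5703 : sm gi N706 = N706 := ded_34_2 (flp_d L5695) L4221 L5695
theorem L5704 : sm gh N706 = N521 := ded_33_2 (flp_d L4222) (flp_h L3144) (flp_d L3139) L4211 L5695
theorem L5706 : sm gc N521 = N707 := rfl
theorem L5708 : sm ga N707 = N696 := ded_10_1 (flp_c L5607) (flp_a L4224) L5706
theorem L5710 : sm gf N707 = N707 := ded_26_2 (flp_c L5706) L4228 L5706
theorem L5711 : sm gg N707 = N707 := ded_27_2 (flp_c L5706) L4229 L5706
theorem L5712 : sm gi N707 = N522 := ded_29_2 (flp_c L4232) (flp_i L4230) L5706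
theorem L5714 : sm gd N707 = N666 := ded_24_2 (flp_c L5351) (flp_d L3990) (flp_c L3150) L4222 L5706
theorem L5716 : sm ge N521 = N708 := rfl
theorem L5718 : sm ga N708 = N697 := ded_12_1 (flp_e L5615) (flp_a L4224) L5716
theorem L5720 : sm gb N708 = N555 := ded_19_1 (flp_e L4500) (flp_b L4226) L5716
theorem L5722 : sm gg N708 = N708 := ded_36_2 (flp_e L5716) L4229 L5716
theorem L5723 : sm gi N708 = N523 := ded_38_2 (flp_e L4237) (flp_i L4230) L5716
theorem L5725 : sm gd N708 = N525 := ded_30_1 (flp_e L4257) (flp_d L3165) (flp_e L3152) L4222 L5716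
theorem L5727 : sm gb N522 = N709 := rfl
theorem L5729 : sm gf N709 = N709 := ded_20_2 (flp_b L5727) L4234 L5727
theorem L5730 : sm gg N709 = N709 := ded_21_2 (flp_b L5727) L4235 L5727
theorem L5731 : sm gh N709 = N709 := ded_22_2 (flp_b L5727) L4236 L5727
theorem L5732 : sm gc N709 = N556 := ded_17_2 (flp_b L4508) (flp_c L3346) (flp_b L3160) L4232 L5727
theorem L5734 : sm ge N522 = N710 := rfl
theorem L5736 : sm gc N710 = N523 := ded_25_1 (flp_e L4237) L4232 L5734
theorem L5738 : sm gg N710 = N710 := ded_36_2 (flp_e L5734) L4235 L5734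
theorem L5739 : sm gh N710 = N710 := ded_37_2 (flp_e L5734) L4236 L5734
theorem L5740 : sm gf N523 = N711 := rfl
theorem L5742 : sm gb N711 = N558 := ded_20_1 (flp_f L4521) (flp_b L4239) L5740
theorem L5744 : sm gd N711 = N528 := ded_31_1 (flp_f L4283) (flp_d L4243) L5740
theorem L5746 : sm gh N711 = N711 := ded_40_2 (flp_f L5740) L4242 L5740
theorem L5747 : sm ge N711 = N711 := ded_35_1 (flp_f L5740) (flp_e L4237) L3162 L4237 L5740
theorem L5748 : sm gb N524 = N712 := rfl
theorem L5750 : sm gd N712 = N668 := ded_18_2 (flp_b L5367) (flp_d L4255) L5748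
theorem L5752 : sm gf N712 = N529 := ded_20_2 (flp_b L4291) (flp_f L4249) L5748
theorem L5754 : sm gg N712 = N712 := ded_21_2 (flp_b L5748) L4251 L5748
theorem L5755 : sm gh N712 = N712 := ded_22_2 (flp_b L5748) L4252 L5748
theorem L5756 : sm gi N712 = N526 := ded_23_2 (flp_b L4267) (flp_i L4253) L5748
theorem L5758 : sm gc N712 = N559 := ded_17_2 (flp_b L4528) (flp_c L3360) (flp_b L3169) L4245 L5748
theorem L5760 : sm ge N524 = N713 := rfl
theorem L5762 : sm ga N713 = N699 := ded_12_1 (flp_e L5634) (flp_a L4247) L5760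
theorem L5764 : sm gc N713 = N525 := ded_25_1 (flp_e L4257) L4245 L5760
theorem L5766 : sm gg N713 = N713 := ded_36_2 (flp_e L5760) L4251 L5760
theorem L5767 : sm gh N713 = N713 := ded_37_2 (flp_e L5760) L4252 L5760
theorem L5768 : sm gi N713 = N527 := ded_38_2 (flp_e L4276) (flp_i L4253) L5760
theorem L5770 : sm gf N525 = N714 := rfl
theorem L5772 : sm ga N714 = N700 := ded_13_1 (flp_f L5642) (flp_a L4259) L5770
theorem L5774 : sm gb N714 = N561 := ded_20_1 (flp_f L4546) (flp_b L4261) L5770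
theorem L5776 : sm gh N714 = N714 := ded_40_2 (flp_f L5770) L4264 L5770
theorem L5777 : sm gi N714 = N528 := ded_41_2 (flp_f L4283) (flp_i L4265) L5770
theorem L5779 : sm ge N714 = N531 := ded_35_1 (flp_f L4313) (flp_e L3202) (flp_f L3171) L4257 L5770
theorem L5781 : sm ga N526 = N715 := rfl
theorem L5783 : sm gc N715 = N562 := ded_10_2 (flp_a L4554) (flp_c L4274) L5781
theorem L5785 : sm gf N715 = N532 := ded_13_2 (flp_a L4323) (flp_f L4269) L5781
theorem L5787 : sm gg N715 = N715 := ded_14_2 (flp_a L5781) L4271 L5781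
theorem L5788 : sm gh N715 = N537 := ded_15_2 (flp_a L4361) (flp_h L4272) L5781
theorem L5790 : sm ge N526 = N716 := rfl
theorem L5792 : sm gb N716 = N527 := ded_19_1 (flp_e L4276) L4267 L5790
theorem L5794 : sm gc N716 = N563 := ded_25_1 (flp_e L4563) (flp_c L4274) L5790
theorem L5796 : sm gg N716 = N716 := ded_36_2 (flp_e L5790) L4271 L5790
theorem L5797 : sm gh N716 = N538 := ded_37_2 (flp_e L4370) (flp_h L4272) L5790
theorem L5799 : sm gd N527 = N717 := rfl
theorem L5801 : sm gg N717 = N717 := ded_32_2 (flp_d L5799) L4280 L5799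
theorem L5802 : sm gf N527 = N718 := rfl
theorem L5804 : sm gc N718 = N528 := ded_26_1 (flp_f L4283) (flp_c L4278) L5802
theorem L5806 : sm gh N718 = N540 := ded_40_2 (flp_f L4384) (flp_h L4281) L5802
theorem L5808 : sm ge N718 = N535 := ded_35_1 (flp_f L4346) (flp_e L3222) (flp_f L3179) L4276 L5802
theorem L5810 : sm gg N528 = N719 := rfl
theorem L5812 : sm gb N719 = N566 := ded_21_1 (flp_g L4584) (flp_b L4285) L5810
theorem L5814 : sm ge N719 = N536 := ded_36_1 (flp_g L4352) (flp_e L4289) L5810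
theorem L5816 : sm gh N719 = N541 := ded_42_2 (flp_g L4391) (flp_h L4287) L5810
theorem L5818 : sm gf N719 = N719 := ded_39_1 (flp_g L5810) (flp_f L4283) L3188 L4283 L5810
theorem L5819 : sm ga N529 = N720 := rfl
theorem L5821 : sm gc N720 = N567 := ded_10_2 (flp_a L4592) (flp_c L4300) L5819
theorem L5823 : sm gd N720 = N671 := ded_11_2 (flp_a L5393) (flp_d L4293) L5819
theorem L5825 : sm gg N720 = N613 := ded_14_2 (flp_a L4949) (flp_g L4295) L5819
theorem L5827 : sm gh N720 = N720 := ded_15_2 (flp_a L5819) L4297 L5819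
theorem L5828 : sm gi N720 = N532 := ded_16_2 (flp_a L4323) (flp_i L4298) L5819
theorem L5830 : sm gb N720 = N701 := ded_9_2 (flp_a L5650) (flp_b L4185) (flp_a L3193) L4291 L5819
theorem L5832 : sm ge N529 = N721 := rfl
theorem L5834 : sm gb N721 = N530 := ded_19_1 (flp_e L4302) L4291 L5832
theorem L5836 : sm gc N721 = N568 := ded_25_1 (flp_e L4601) (flp_c L4300) L5832
theorem L5838 : sm gg N721 = N614 := ded_36_2 (flp_e L4961) (flp_g L4295) L5832
theorem L5840 : sm gh N721 = N721 := ded_37_2 (flp_e L5832) L4297 L5832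
theorem L5841 : sm gi N721 = N533 := ded_38_2 (flp_e L4331) (flp_i L4298) L5832
theorem L5843 : sm gd N530 = N722 := rfl
theorem L5845 : sm ga N722 = N703 := ded_11_1 (flp_d L5670) (flp_a L4304) L5843
theorem L5847 : sm gg N722 = N615 := ded_32_2 (flp_d L4970) (flp_g L4308) L5843
theorem L5849 : sm gi N722 = N534 := ded_34_2 (flp_d L4341) (flp_i L4311) L5843
theorem L5851 : sm gc N722 = N722 := ded_24_1 (flp_d L5843) L4306 L3213 (flp_c L4306) L5843
theorem L5852 : sm ge N722 = N673 := ded_30_2 (flp_d L5411) (flp_e L4022) (flp_d L3200) L4302 L5843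
theorem L5854 : sm gf N530 = N723 := rfl
theorem L5856 : sm ga N723 = N704 := ded_13_1 (flp_f L5679) (flp_a L4304) L5854
theorem L5858 : sm gc N723 = N531 := ded_26_1 (flp_f L4313) (flp_c L4306) L5854
theorem L5860 : sm gh N723 = N723 := ded_40_2 (flp_f L5854) L4310 L5854
theorem L5861 : sm gi N723 = N535 := ded_41_2 (flp_f L4346) (flp_i L4311) L5854
theorem L5863 : sm gg N531 = N724 := rfl
theorem L5865 : sm ga N724 = N705 := ded_14_1 (flp_g L5686) (flp_a L4315) L5863
theorem L5867 : sm gb N724 = N571 := ded_21_1 (flp_g L4627) (flp_b L4317) L5863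
theorem L5869 : sm gd N724 = N724 := ded_32_1 (flp_g L5863) L4319 L5863
theorem L5870 : sm gh N724 = N724 := ded_42_2 (flp_g L5863) L4320 L5863
theorem L5871 : sm gi N724 = N536 := ded_43_2 (flp_g L4352) (flp_i L4321) L5863
theorem L5873 : sm gf N724 = N617 := ded_39_1 (flp_g L4989) (flp_f L3696) (flp_g L3208) L4313 L5863
theorem L5875 : sm ge N532 = N725 := rfl
theorem L5877 : sm ga N725 = N533 := ded_12_1 (flp_e L4331) L4323 L5875
theorem L5879 : sm gc N725 = N572 := ded_25_1 (flp_e L4636) (flp_c L4325) L5875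
theorem L5881 : sm gg N725 = N618 := ded_36_2 (flp_e L5000) (flp_g L4327) L5875
theorem L5883 : sm gh N725 = N542 := ded_37_2 (flp_e L4400) (flp_h L4329) L5875
theorem L5885 : sm gd N533 = N726 := rfl
theorem L5887 : sm gb N726 = N534 := ded_18_1 (flp_d L4341) (flp_b L4333) L5885
theorem L5889 : sm gg N726 = N619 := ded_32_2 (flp_d L5008) (flp_g L4337) L5885
theorem L5891 : sm gf N533 = N727 := rfl
theorem L5893 : sm gb N727 = N535 := ded_20_1 (flp_f L4346) (flp_b L4333) L5891
theorem L5895 : sm gc N727 = N574 := ded_26_1 (flp_f L4653) (flp_c L4335) L5891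
theorem L5897 : sm gh N727 = N544 := ded_40_2 (flp_f L4418) (flp_h L4339) L5891
theorem L5899 : sm gf N534 = N728 := rfl
theorem L5901 : sm gc N728 = N728 := ded_26_1 (flp_f L5899) L4345 L5899
theorem L5902 : sm gd N728 = N535 := ded_31_1 (flp_f L4346) L4341 L5899
theorem L5904 : sm gh N534 = N729 := rfl
theorem L5906 : sm gc N729 = N729 := ded_28_1 (flp_h L5904) L4345 L5904
theorem L5907 : sm gg N729 = N622 := ded_42_1 (flp_h L5026) (flp_g L4343) L5904
theorem L5909 : sm gd N729 = N546 := ded_33_1 (flp_h L4432) (flp_d L3277) (flp_h L3228) L4341 L5904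
theorem L5911 : sm gg N535 = N730 := rfl
theorem L5913 : sm gc N730 = N536 := ded_27_1 (flp_g L4352) (flp_c L4348) L5911
theorem L5915 : sm gh N730 = N547 := ded_42_2 (flp_g L4439) (flp_h L4350) L5911
theorem L5917 : sm gf N730 = N623 := ded_39_1 (flp_g L5031) (flp_f L3725) (flp_g L3226) L4346 L5911
theorem L5919 : sm ge N537 = N731 := rfl
theorem L5921 : sm ga N731 = N538 := ded_12_1 (flp_e L4370) L4361 L5919
theorem L5923 : sm gc N731 = N577 := ded_25_1 (flp_e L4675) (flp_c L4363) L5919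
theorem L5925 : sm gg N731 = N731 := ded_36_2 (flp_e L5919) L4368 L5919
theorem L5926 : sm gi N731 = N731 := ded_38_2 (flp_e L5919) L4369 L5919
theorem L5927 : sm gd N538 = N732 := rfl
theorem L5929 : sm gb N732 = N539 := ded_18_1 (flp_d L4378) (flp_b L4372) L5927
theorem L5931 : sm gg N732 = N732 := ded_32_2 (flp_d L5927) L4376 L5927
theorem L5932 : sm gi N732 = N732 := ded_34_2 (flp_d L5927) L4377 L5927
theorem L5933 : sm ge N732 = N732 := ded_30_2 (flp_d L5927) (flp_e L4370) L3239 L4370 L5927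
theorem L5934 : sm gf N538 = N733 := rfl
theorem L5936 : sm gb N733 = N540 := ded_20_1 (flp_f L4384) (flp_b L4372) L5934
theorem L5938 : sm gc N733 = N579 := ded_26_1 (flp_f L4690) (flp_c L4374) L5934
theorem L5940 : sm gi N733 = N733 := ded_41_2 (flp_f L5934) L4377 L5934
theorem L5941 : sm ge N733 = N544 := ded_35_1 (flp_f L4418) (flp_e L3268) (flp_f L3240) L4370 L5934
theorem L5943 : sm gf N539 = N734 := rfl
theorem L5945 : sm gc N734 = N734 := ded_26_1 (flp_f L5943) L4382 L5943
theorem L5946 : sm gd N734 = N540 := ded_31_1 (flp_f L4384) L4378 L5943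
theorem L5948 : sm gi N734 = N734 := ded_41_2 (flp_f L5943) L4381 L5943
theorem L5949 : sm gh N539 = N735 := rfl
theorem L5951 : sm gc N735 = N735 := ded_28_1 (flp_h L5949) L4382 L5949
theorem L5952 : sm ge N735 = N735 := ded_37_1 (flp_h L5949) L4383 L5949
theorem L5953 : sm gg N735 = N735 := ded_42_1 (flp_h L5949) L4380 L5949
theorem L5954 : sm gg N540 = N736 := rfl
theorem L5956 : sm gc N736 = N541 := ded_27_1 (flp_g L4391) (flp_c L4386) L5954
theorem L5958 : sm ge N736 = N547 := ded_36_1 (flp_g L4439) (flp_e L4389) L5954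
theorem L5960 : sm gi N736 = N736 := ded_43_2 (flp_g L5954) L4388 L5954
theorem L5961 : sm gf N736 = N736 := ded_39_1 (flp_g L5954) (flp_f L4384) L3250 L4384 L5954
theorem L5962 : sm gd N542 = N737 := rfl
theorem L5964 : sm ga N737 = N543 := ded_11_1 (flp_d L4409) (flp_a L4402) L5962
theorem L5966 : sm gg N737 = N624 := ded_32_2 (flp_d L5038) (flp_g L4406) L5962
theorem L5968 : sm gi N737 = N737 := ded_34_2 (flp_d L5962) L4408 L5962
theorem L5969 : sm gc N737 = N737 := ded_24_1 (flp_d L5962) L4404 L3511 (flp_c L4404) L5962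
theorem L5970 : sm ge N737 = N737 := ded_30_2 (flp_d L5962) (flp_e L4400) L3264 L4400 L5962
theorem L5971 : sm gf N542 = N738 := rfl
theorem L5973 : sm ga N738 = N544 := ded_13_1 (flp_f L4418) (flp_a L4402) L5971
theorem L5975 : sm gc N738 = N583 := ded_26_1 (flp_f L4721) (flp_c L4404) L5971
theorem L5977 : sm gi N738 = N738 := ded_41_2 (flp_f L5971) L4408 L5971
theorem L5978 : sm gf N543 = N739 := rfl
theorem L5980 : sm gb N739 = N545 := ded_20_1 (flp_f L4425) (flp_b L4411) L5978
theorem L5982 : sm gc N739 = N739 := ded_26_1 (flp_f L5978) L4416 L5978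
theorem L5983 : sm gd N739 = N544 := ded_31_1 (flp_f L4418) L4409 L5978
theorem L5985 : sm gi N739 = N739 := ded_41_2 (flp_f L5978) L4415 L5978
theorem L5986 : sm gh N543 = N740 := rfl
theorem L5988 : sm gb N740 = N546 := ded_22_1 (flp_h L4432) (flp_b L4411) L5986
theorem L5990 : sm gc N740 = N740 := ded_28_1 (flp_h L5986) L4416 L5986
theorem L5991 : sm ge N740 = N740 := ded_37_1 (flp_h L5986) L4417 L5986
theorem L5992 : sm gg N740 = N627 := ded_42_1 (flp_h L5061) (flp_g L4413) L5986
theorem L5994 : sm gg N544 = N741 := rfl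
theorem L5996 : sm gb N741 = N547 := ded_21_1 (flp_g L4439) (flp_b L4420) L5994
theorem L5998 : sm gc N741 = N584 := ded_27_1 (flp_g L4728) (flp_c L4422) L5994
theorem L6000 : sm gi N741 = N741 := ded_43_2 (flp_g L5994) L4424 L5994
theorem L6001 : sm gf N741 = N628 := ded_39_1 (flp_g L5067) (flp_f L3754) (flp_g L3274) L4418 L5994
theorem L6003 : sm ge N545 = N742 := rfl
theorem L6005 : sm gc N742 = N548 := ded_25_1 (flp_e L4446) (flp_c L4427) L6003
theorem L6007 : sm gi N742 = N742 := ded_38_2 (flp_e L6003) L4431 L6003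
theorem L6008 : sm gf N742 = N742 := ded_35_2 (flp_e L6003) (flp_f L4425) L3284 L4425 L6003
theorem L6009 : sm gg N545 = N743 := rfl
theorem L6013 : sm gd N743 = N547 := ded_32_1 (flp_g L4439) (flp_d L4429) L6009
theorem L6016 : sm gf N743 = N630 := ded_39_1 (flp_g L5082) (flp_f L3762) (flp_g L3279) L4425 L6009
theorem L6018 : sm gh N545 = N744 := rfl
theorem L6020 : sm gc N744 = N550 := ded_28_1 (flp_h L4460) (flp_c L4427) L6018
theorem L6022 : sm gf N744 = N546 := ded_40_1 (flp_h L4432) L4425 L6018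
theorem L6024 : sm gi N546 = N745 := rfl
theorem L6026 : sm gc N745 = N551 := ded_29_1 (flp_i L4466) (flp_c L4434) L6024
theorem L6028 : sm ge N745 = N745 := ded_38_1 (flp_i L6024) L4436 L6024
theorem L6029 : sm gg N745 = N632 := ded_43_1 (flp_i L5095) (flp_g L4437) L6024
theorem L6031 : sm gh N745 = N745 := ded_44_1 (flp_i L6024) (flp_h L4432) L3281 L4432 L6024
theorem L6032 : sm gg N548 = N746 := rfl
theorem L6036 : sm ge N746 = N549 := ded_36_1 (flp_g L4452) L4446 L6032
theorem L6039 : sm gh N548 = N747 := rfl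
theorem L6041 : sm gb N747 = N747 := ded_22_1 (flp_h L6039) L4448 L6039
theorem L6042 : sm ge N747 = N550 := ded_37_1 (flp_h L4460) L4446 L6039
theorem L6044 : sm gf N747 = N747 := ded_40_1 (flp_h L6039) L4451 L6039
theorem L6045 : sm gh N549 = N748 := rfl
theorem L6050 : sm gg N748 = N550 := ded_42_1 (flp_h L4460) L4452 L6045
theorem L6053 : sm gi N550 = N749 := rfl
theorem L6057 : sm gf N749 = N551 := ded_41_1 (flp_i L4466) (flp_f L4463) L6053
theorem L6060 : sm gd N552 = N750 := rfl
theorem L6062 : sm ga N750 = N750 := ded_11_1 (flp_d L6060) L4476 L6060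
theorem L6063 : sm gb N750 = N750 := ded_18_1 (flp_d L6060) L4477 L6060
theorem L6064 : sm gf N750 = N750 := ded_31_2 (flp_d L6060) L4481 L6060
theorem L6065 : sm gg N750 = N750 := ded_32_2 (flp_d L6060) L4482 L6060
theorem L6066 : sm gi N750 = N750 := ded_34_2 (flp_d L6060) L4483 L6060
theorem L6067 : sm gh N750 = N750 := ded_33_2 (flp_d L6060) (flp_h L4474) L3328 L4474 L6060
theorem L6068 : sm gc N553 = N751 := rfl
theorem L6070 : sm ga N751 = N751 := ded_10_1 (flp_c L6068) L4486 L6068
theorem L6071 : sm gf N751 = N751 := ded_26_2 (flp_c L6068) L4487 L6068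
theorem L6072 : sm gg N751 = N751 := ded_27_2 (flp_c L6068) L4488 L6068
theorem L6073 : sm gh N751 = N554 := ded_28_2 (flp_c L4492) (flp_h L4490) L6068
theorem L6075 : sm gi N751 = N751 := ded_29_2 (flp_c L6068) L4489 L6068
theorem L6076 : sm ge N553 = N752 := rfl
theorem L6078 : sm ga N752 = N752 := ded_12_1 (flp_e L6076) L4486 L6076
theorem L6079 : sm gg N752 = N752 := ded_36_2 (flp_e L6076) L4488 L6076
theorem L6080 : sm gh N752 = N555 := ded_37_2 (flp_e L4500) (flp_h L4490) L6076
theorem L6082 : sm gi N752 = N752 := ded_38_2 (flp_e L6076) L4489 L6076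
theorem L6083 : sm gd N752 = N752 := ded_30_1 (flp_e L6076) (flp_d L4484) L3335 L4484 L6076
theorem L6084 : sm gb N554 = N753 := rfl
theorem L6086 : sm gd N753 = N753 := ded_18_2 (flp_b L6084) L4499 L6084
theorem L6087 : sm gf N753 = N753 := ded_20_2 (flp_b L6084) L4495 L6084
theorem L6088 : sm gg N753 = N753 := ded_21_2 (flp_b L6084) L4496 L6084
theorem L6089 : sm gi N753 = N556 := ded_23_2 (flp_b L4508) (flp_i L4497) L6084
theorem L6091 : sm ge N554 = N754 := rfl
theorem L6093 : sm ga N754 = N754 := ded_12_1 (flp_e L6091) L4494 L6091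
theorem L6094 : sm gc N754 = N555 := ded_25_1 (flp_e L4500) L4492 L6091
theorem L6096 : sm gg N754 = N754 := ded_36_2 (flp_e L6091) L4496 L6091
theorem L6097 : sm gi N754 = N557 := ded_38_2 (flp_e L4514) (flp_i L4497) L6091
theorem L6099 : sm gf N555 = N755 := rfl
theorem L6101 : sm ga N755 = N755 := ded_13_1 (flp_f L6099) L4502 L6099
theorem L6102 : sm gd N755 = N561 := ded_31_1 (flp_f L4546) (flp_d L4506) L6099
theorem L6104 : sm gi N755 = N558 := ded_41_2 (flp_f L4521) (flp_i L4504) L6099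
theorem L6106 : sm ge N755 = N755 := ded_35_1 (flp_f L6099) (flp_e L4500) L3342 L4500 L6099
theorem L6107 : sm ga N556 = N756 := rfl
theorem L6109 : sm gd N756 = N756 := ded_11_2 (flp_a L6107) L4510 L6107
theorem L6110 : sm gf N756 = N756 := ded_13_2 (flp_a L6107) L4511 L6107
theorem L6111 : sm gg N756 = N756 := ded_14_2 (flp_a L6107) L4512 L6107
theorem L6112 : sm gh N756 = N756 := ded_15_2 (flp_a L6107) L4513 L6107
theorem L6113 : sm gb N756 = N756 := ded_9_2 (flp_a L6107) (flp_b L4508) L3348 L4508 L6107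
theorem L6114 : sm ge N556 = N757 := rfl
theorem L6116 : sm gb N757 = N557 := ded_19_1 (flp_e L4514) L4508 L6114
theorem L6118 : sm gg N757 = N757 := ded_36_2 (flp_e L6114) L4512 L6114
theorem L6119 : sm gh N757 = N757 := ded_37_2 (flp_e L6114) L4513 L6114
theorem L6120 : sm gd N557 = N758 := rfl
theorem L6122 : sm ga N758 = N758 := ded_11_1 (flp_d L6120) L4516 L6120
theorem L6123 : sm gg N758 = N758 := ded_32_2 (flp_d L6120) L4519 L6120
theorem L6124 : sm gc N758 = N564 := ded_24_1 (flp_d L4570) L3388 (flp_d L3358) (flp_c L4517) L6120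
theorem L6126 : sm ge N758 = N758 := ded_30_2 (flp_d L6120) (flp_e L4514) L3352 L4514 L6120
theorem L6127 : sm gf N557 = N759 := rfl
theorem L6129 : sm ga N759 = N759 := ded_13_1 (flp_f L6127) L4516 L6127
theorem L6130 : sm gc N759 = N558 := ded_26_1 (flp_f L4521) (flp_c L4517) L6127
theorem L6132 : sm gh N759 = N759 := ded_40_2 (flp_f L6127) L4520 L6127
theorem L6133 : sm ge N759 = N759 := ded_35_1 (flp_f L6127) (flp_e L4514) L3349 L4514 L6127
theorem L6134 : sm gg N558 = N760 := rfl
theorem L6136 : sm ga N760 = N760 := ded_14_1 (flp_g L6134) L4523 L6134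
theorem L6137 : sm gd N760 = N566 := ded_32_1 (flp_g L4584) (flp_d L4524) L6134
theorem L6139 : sm ge N760 = N760 := ded_36_1 (flp_g L6134) L4527 L6134
theorem L6140 : sm gh N760 = N760 := ded_42_2 (flp_g L6134) L4526 L6134
theorem L6141 : sm gf N760 = N760 := ded_39_1 (flp_g L6134) (flp_f L4521) L3356 L4521 L6134
theorem L6142 : sm ga N559 = N761 := rfl
theorem L6144 : sm gd N761 = N761 := ded_11_2 (flp_a L6142) L4530 L6142
theorem L6145 : sm gf N761 = N567 := ded_13_2 (flp_a L4592) (flp_f L4531) L6142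
theorem L6147 : sm gg N761 = N761 := ded_14_2 (flp_a L6142) L4533 L6142
theorem L6148 : sm gh N761 = N761 := ded_15_2 (flp_a L6142) L4534 L6142
theorem L6149 : sm gi N761 = N562 := ded_16_2 (flp_a L4554) (flp_i L4535) L6142
theorem L6151 : sm gb N761 = N761 := ded_9_2 (flp_a L6142) (flp_b L4528) L3362 L4528 L6142
theorem L6152 : sm ge N559 = N762 := rfl
theorem L6154 : sm gb N762 = N560 := ded_19_1 (flp_e L4537) L4528 L6152
theorem L6156 : sm gg N762 = N762 := ded_36_2 (flp_e L6152) L4533 L6152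
theorem L6157 : sm gh N762 = N762 := ded_37_2 (flp_e L6152) L4534 L6152
theorem L6158 : sm gi N762 = N563 := ded_38_2 (flp_e L4563) (flp_i L4535) L6152
theorem L6160 : sm gd N560 = N763 := rfl
theorem L6162 : sm ga N763 = N763 := ded_11_1 (flp_d L6160) L4539 L6160
theorem L6163 : sm gg N763 = N763 := ded_32_2 (flp_d L6160) L4542 L6160
theorem L6164 : sm gi N763 = N564 := ded_34_2 (flp_d L4570) (flp_i L4544) L6160
theorem L6166 : sm ge N763 = N763 := ded_30_2 (flp_d L6160) (flp_e L4537) L3369 L4537 L6160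
theorem L6167 : sm gf N560 = N764 := rfl
theorem L6169 : sm ga N764 = N764 := ded_13_1 (flp_f L6167) L4539 L6167
theorem L6170 : sm gc N764 = N561 := ded_26_1 (flp_f L4546) (flp_c L4540) L6167
theorem L6172 : sm gh N764 = N764 := ded_40_2 (flp_f L6167) L4543 L6167
theorem L6173 : sm gi N764 = N565 := ded_41_2 (flp_f L4575) (flp_i L4544) L6167
theorem L6175 : sm ge N764 = N570 := ded_35_1 (flp_f L4619) (flp_e L3408) (flp_f L3363) L4537 L6167
theorem L6177 : sm gg N561 = N765 := rfl
theorem L6179 : sm ga N765 = N765 := ded_14_1 (flp_g L6177) L4548 L6177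
theorem L6180 : sm ge N765 = N571 := ded_36_1 (flp_g L4627) (flp_e L4552) L6177
theorem L6182 : sm gh N765 = N765 := ded_42_2 (flp_g L6177) L4549 L6177
theorem L6183 : sm gi N765 = N566 := ded_43_2 (flp_g L4584) (flp_i L4550) L6177
theorem L6185 : sm gf N765 = N765 := ded_39_1 (flp_g L6177) (flp_f L4546) L3373 L4546 L6177
theorem L6186 : sm ge N562 = N766 := rfl
theorem L6188 : sm ga N766 = N563 := ded_12_1 (flp_e L4563) L4554 L6186
theorem L6190 : sm gb N766 = N766 := ded_19_1 (flp_e L6186) L4562 L6186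
theorem L6191 : sm gg N766 = N766 := ded_36_2 (flp_e L6186) L4559 L6186
theorem L6192 : sm gh N766 = N577 := ded_37_2 (flp_e L4675) (flp_h L4560) L6186
theorem L6194 : sm gd N563 = N767 := rfl
theorem L6196 : sm gb N767 = N564 := ded_18_1 (flp_d L4570) (flp_b L4565) L6194
theorem L6198 : sm gg N767 = N767 := ded_32_2 (flp_d L6194) L4567 L6194
theorem L6199 : sm ge N767 = N767 := ded_30_2 (flp_d L6194) (flp_e L4563) L3379 L4563 L6194
theorem L6200 : sm gf N563 = N768 := rfl
theorem L6202 : sm gb N768 = N565 := ded_20_1 (flp_f L4575) (flp_b L4565) L6200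
theorem L6204 : sm gh N768 = N579 := ded_40_2 (flp_f L4690) (flp_h L4568) L6200
theorem L6206 : sm ge N768 = N574 := ded_35_1 (flp_f L4653) (flp_e L3433) (flp_f L3380) L4563 L6200
theorem L6208 : sm gf N564 = N769 := rfl
theorem L6210 : sm ga N769 = N769 := ded_13_1 (flp_f L6208) L4572 L6208
theorem L6211 : sm gd N769 = N565 := ded_31_1 (flp_f L4575) L4570 L6208
theorem L6213 : sm gh N564 = N770 := rfl
theorem L6215 : sm ga N770 = N770 := ded_15_1 (flp_h L6213) L4572 L6213
theorem L6216 : sm ge N770 = N770 := ded_37_1 (flp_h L6213) L4574 L6213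
theorem L6217 : sm gg N770 = N770 := ded_42_1 (flp_h L6213) L4573 L6213
theorem L6218 : sm gd N770 = N581 := ded_33_1 (flp_h L4705) (flp_d L3479) (flp_h L3391) L4570 L6213
theorem L6220 : sm gg N565 = N771 := rfl
theorem L6222 : sm ga N771 = N771 := ded_14_1 (flp_g L6220) L4577 L6220
theorem L6223 : sm gc N771 = N566 := ded_27_1 (flp_g L4584) (flp_c L4578) L6220
theorem L6225 : sm ge N771 = N576 := ded_36_1 (flp_g L4666) (flp_e L4582) L6220
theorem L6227 : sm gh N771 = N582 := ded_42_2 (flp_g L4712) (flp_h L4580) L6220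
theorem L6229 : sm gf N771 = N771 := ded_39_1 (flp_g L6220) (flp_f L4575) L3390 L4575 L6220
theorem L6230 : sm ge N567 = N772 := rfl
theorem L6232 : sm ga N772 = N568 := ded_12_1 (flp_e L4601) L4592 L6230
theorem L6234 : sm gb N772 = N772 := ded_19_1 (flp_e L6230) L4600 L6230
theorem L6235 : sm gg N772 = N637 := ded_36_2 (flp_e L5128) (flp_g L4595) L6230
theorem L6237 : sm gh N772 = N772 := ded_37_2 (flp_e L6230) L4597 L6230
theorem L6238 : sm gi N772 = N572 := ded_38_2 (flp_e L4636) (flp_i L4598) L6230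
theorem L6240 : sm gd N568 = N773 := rfl
theorem L6242 : sm gb N773 = N569 := ded_18_1 (flp_d L4610) (flp_b L4603) L6240
theorem L6244 : sm gg N773 = N638 := ded_32_2 (flp_d L5136) (flp_g L4605) L6240
theorem L6246 : sm gi N773 = N573 := ded_34_2 (flp_d L4645) (flp_i L4608) L6240
theorem L6248 : sm ge N773 = N773 := ded_30_2 (flp_d L6240) (flp_e L4601) L3402 L4601 L6240
theorem L6249 : sm gf N568 = N774 := rfl
theorem L6251 : sm gb N774 = N570 := ded_20_1 (flp_f L4619) (flp_b L4603) L6249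
theorem L6253 : sm gh N774 = N774 := ded_40_2 (flp_f L6249) L4607 L6249
theorem L6254 : sm gi N774 = N574 := ded_41_2 (flp_f L4653) (flp_i L4608) L6249
theorem L6256 : sm gf N569 = N775 := rfl
theorem L6258 : sm ga N775 = N775 := ded_13_1 (flp_f L6256) L4612 L6256
theorem L6259 : sm gc N775 = N775 := ded_26_1 (flp_f L6256) L4617 L6256
theorem L6260 : sm gd N775 = N570 := ded_31_1 (flp_f L4619) L4610 L6256
theorem L6262 : sm gi N775 = N575 := ded_41_2 (flp_f L4659) (flp_i L4615) L6256
theorem L6264 : sm gh N569 = N776 := rfl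
theorem L6266 : sm ga N776 = N776 := ded_15_1 (flp_h L6264) L4612 L6264
theorem L6267 : sm gc N776 = N776 := ded_28_1 (flp_h L6264) L4617 L6264
theorem L6268 : sm ge N776 = N776 := ded_37_1 (flp_h L6264) L4618 L6264
theorem L6269 : sm gg N776 = N641 := ded_42_1 (flp_h L5159) (flp_g L4613) L6264
theorem L6271 : sm gd N776 = N776 := ded_33_1 (flp_h L6264) (flp_d L4610) L3415 L4610 L6264
theorem L6272 : sm gi N776 = N776 := ded_44_2 (flp_h L6264) L4615 L3448 (flp_i L4615) L6264
theorem L6273 : sm gg N570 = N777 := rfl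
theorem L6275 : sm ga N777 = N777 := ded_14_1 (flp_g L6273) L4621 L6273
theorem L6276 : sm gc N777 = N571 := ded_27_1 (flp_g L4627) (flp_c L4622) L6273
theorem L6278 : sm gh N777 = N777 := ded_42_2 (flp_g L6273) L4624 L6273
theorem L6279 : sm gi N777 = N576 := ded_43_2 (flp_g L4666) (flp_i L4625) L6273
theorem L6281 : sm gf N777 = N642 := ded_39_1 (flp_g L5166) (flp_f L3827) (flp_g L3413) L4619 L6273
theorem L6283 : sm gd N572 = N778 := rfl
theorem L6285 : sm ga N778 = N573 := ded_11_1 (flp_d L4645) (flp_a L4638) L6283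
theorem L6287 : sm gb N778 = N778 := ded_18_1 (flp_d L6283) L4640 L6283
theorem L6288 : sm gg N778 = N643 := ded_32_2 (flp_d L5175) (flp_g L4641) L6283
theorem L6290 : sm ge N778 = N778 := ded_30_2 (flp_d L6283) (flp_e L4636) L3427 L4636 L6283
theorem L6291 : sm gh N778 = N778 := ded_33_2 (flp_d L6283) L4643 L3511 (flp_h L4643) L6283
theorem L6292 : sm gf N572 = N779 := rfl
theorem L6294 : sm ga N779 = N574 := ded_13_1 (flp_f L4653) (flp_a L4638) L6292
theorem L6296 : sm gb N779 = N779 := ded_20_1 (flp_f L6292) L4640 L6292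
theorem L6297 : sm gh N779 = N583 := ded_40_2 (flp_f L4721) (flp_h L4643) L6292
theorem L6299 : sm gc N573 = N780 := rfl
theorem L6301 : sm ge N780 = N780 := ded_25_2 (flp_c L6299) L4651 L6299
theorem L6302 : sm gg N780 = N645 := ded_27_2 (flp_c L5190) (flp_g L4649) L6299
theorem L6304 : sm gh N780 = N780 := ded_28_2 (flp_c L6299) L4652 L6299
theorem L6305 : sm gb N780 = N780 := ded_17_1 (flp_c L6299) L4647 L3446 (flp_b L4647) L6299
theorem L6306 : sm gf N573 = N781 := rfl
theorem L6308 : sm gb N781 = N575 := ded_20_1 (flp_f L4659) (flp_b L4647) L6306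
theorem L6310 : sm gd N781 = N574 := ded_31_1 (flp_f L4653) L4645 L6306
theorem L6312 : sm gh N781 = N781 := ded_40_2 (flp_f L6306) L4652 L6306
theorem L6313 : sm gg N574 = N782 := rfl
theorem L6315 : sm gb N782 = N576 := ded_21_1 (flp_g L4666) (flp_b L4655) L6313
theorem L6317 : sm gh N782 = N584 := ded_42_2 (flp_g L4728) (flp_h L4657) L6313
theorem L6319 : sm gf N782 = N647 := ded_39_1 (flp_g L5202) (flp_f L3857) (flp_g L3437) L4653 L6313
theorem L6321 : sm ge N575 = N783 := rfl
theorem L6323 : sm ga N783 = N783 := ded_12_1 (flp_e L6321) L4661 L6321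
theorem L6324 : sm gc N783 = N783 := ded_25_1 (flp_e L6321) L4662 L6321
theorem L6325 : sm gh N783 = N783 := ded_37_2 (flp_e L6321) L4665 L6321
theorem L6326 : sm gf N783 = N783 := ded_35_2 (flp_e L6321) (flp_f L4659) L3447 L4659 L6321
theorem L6327 : sm gg N575 = N784 := rfl
theorem L6329 : sm ga N784 = N784 := ded_14_1 (flp_g L6327) L4661 L6327
theorem L6330 : sm gc N784 = N784 := ded_27_1 (flp_g L6327) L4662 L6327
theorem L6331 : sm gd N784 = N576 := ded_32_1 (flp_g L4666) (flp_d L4663) L6327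
theorem L6333 : sm gh N784 = N784 := ded_42_2 (flp_g L6327) L4665 L6327
theorem L6334 : sm gf N784 = N649 := ded_39_1 (flp_g L5216) (flp_f L3864) (flp_g L3444) L4659 L6327
theorem L6336 : sm gd N577 = N785 := rfl
theorem L6338 : sm ga N785 = N578 := ded_11_1 (flp_d L4682) (flp_a L4677) L6336
theorem L6340 : sm gb N785 = N785 := ded_18_1 (flp_d L6336) L4679 L6336
theorem L6341 : sm gg N785 = N785 := ded_32_2 (flp_d L6336) L4680 L6336
theorem L6342 : sm gi N785 = N785 := ded_34_2 (flp_d L6336) L4681 L6336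
theorem L6343 : sm ge N785 = N585 := ded_30_2 (flp_d L4736) (flp_e L3527) (flp_d L3466) L4675 L6336
theorem L6345 : sm gf N577 = N786 := rfl
theorem L6347 : sm ga N786 = N579 := ded_13_1 (flp_f L4690) (flp_a L4677) L6345
theorem L6349 : sm gb N786 = N786 := ded_20_1 (flp_f L6345) L4679 L6345
theorem L6350 : sm gi N786 = N786 := ded_41_2 (flp_f L6345) L4681 L6345
theorem L6351 : sm ge N786 = N583 := ded_35_1 (flp_f L4721) (flp_e L3503) (flp_f L3468) L4675 L6345
theorem L6353 : sm gc N578 = N787 := rfl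
theorem L6355 : sm ge N787 = N586 := ded_25_2 (flp_c L4744) (flp_e L4688) L6353
theorem L6357 : sm gg N787 = N787 := ded_27_2 (flp_c L6353) L4686 L6353
theorem L6358 : sm gi N787 = N787 := ded_29_2 (flp_c L6353) L4687 L6353
theorem L6359 : sm gb N787 = N787 := ded_17_1 (flp_c L6353) L4684 L3484 (flp_b L4684) L6353
theorem L6360 : sm gf N578 = N788 := rfl
theorem L6362 : sm gb N788 = N580 := ded_20_1 (flp_f L4697) (flp_b L4684) L6360
theorem L6364 : sm gd N788 = N579 := ded_31_1 (flp_f L4690) L4682 L6360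
theorem L6366 : sm gi N788 = N788 := ded_41_2 (flp_f L6360) L4687 L6360
theorem L6367 : sm ge N788 = N788 := ded_35_1 (flp_f L6360) L4688 L3541 (flp_e L4688) L6360
theorem L6368 : sm gh N578 = N789 := rfl
theorem L6370 : sm gb N789 = N581 := ded_22_1 (flp_h L4705) (flp_b L4684) L6368
theorem L6372 : sm ge N789 = N587 := ded_37_1 (flp_h L4751) (flp_e L4688) L6368
theorem L6374 : sm gg N789 = N789 := ded_42_1 (flp_h L6368) L4686 L6368
theorem L6375 : sm gg N579 = N790 := rfl
theorem L6377 : sm gb N790 = N582 := ded_21_1 (flp_g L4712) (flp_b L4692) L6375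
theorem L6379 : sm ge N790 = N584 := ded_36_1 (flp_g L4728) (flp_e L4695) L6375
theorem L6381 : sm gi N790 = N790 := ded_43_2 (flp_g L6375) L4694 L6375
theorem L6382 : sm gf N790 = N790 := ded_39_1 (flp_g L6375) (flp_f L4690) L3477 L4690 L6375
theorem L6383 : sm gg N580 = N791 := rfl
theorem L6385 : sm ga N791 = N791 := ded_14_1 (flp_g L6383) L4699 L6383
theorem L6386 : sm gc N791 = N791 := ded_27_1 (flp_g L6383) L4700 L6383
theorem L6387 : sm gd N791 = N582 := ded_32_1 (flp_g L4712) (flp_d L4701) L6383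
theorem L6389 : sm ge N791 = N791 := ded_36_1 (flp_g L6383) L4704 L6383
theorem L6390 : sm gi N791 = N791 := ded_43_2 (flp_g L6383) L4703 L6383
theorem L6391 : sm gf N791 = N791 := ded_39_1 (flp_g L6383) (flp_f L4697) L3482 L4697 L6383
theorem L6392 : sm gh N580 = N792 := rfl
theorem L6394 : sm ga N792 = N792 := ded_15_1 (flp_h L6392) L4699 L6392
theorem L6395 : sm gc N792 = N792 := ded_28_1 (flp_h L6392) L4700 L6392
theorem L6396 : sm ge N792 = N792 := ded_37_1 (flp_h L6392) L4704 L6392
theorem L6397 : sm gf N792 = N581 := ded_40_1 (flp_h L4705) L4697 L6392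
theorem L6399 : sm gi N581 = N793 := rfl
theorem L6401 : sm ga N793 = N793 := ded_16_1 (flp_i L6399) L4707 L6399
theorem L6402 : sm gc N793 = N793 := ded_29_1 (flp_i L6399) L4708 L6399
theorem L6403 : sm ge N793 = N588 := ded_38_1 (flp_i L4758) (flp_e L4709) L6399
theorem L6405 : sm gg N793 = N793 := ded_43_1 (flp_i L6399) L4711 L6399
theorem L6406 : sm gh N793 = N793 := ded_44_1 (flp_i L6399) (flp_h L4705) L3483 L4705 L6399
theorem L6407 : sm gg N583 = N794 := rfl
theorem L6409 : sm ga N794 = N584 := ded_14_1 (flp_g L4728) (flp_a L4723) L6407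
theorem L6411 : sm gb N794 = N794 := ded_21_1 (flp_g L6407) L4725 L6407
theorem L6412 : sm gd N794 = N794 := ded_32_1 (flp_g L6407) L4726 L6407
theorem L6413 : sm gi N794 = N794 := ded_43_2 (flp_g L6407) L4727 L6407
theorem L6414 : sm gf N794 = N650 := ded_39_1 (flp_g L5223) (flp_f L3879) (flp_g L3508) L4721 L6407
theorem L6416 : sm gc N585 = N795 := rfl
theorem L6418 : sm ga N795 = N586 := ded_10_1 (flp_c L4744) (flp_a L4738) L6416
theorem L6420 : sm gf N795 = N795 := ded_26_2 (flp_c L6416) L4741 L6416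
theorem L6421 : sm gg N795 = N795 := ded_27_2 (flp_c L6416) L4742 L6416
theorem L6422 : sm gi N795 = N795 := ded_29_2 (flp_c L6416) L4743 L6416
theorem L6423 : sm gd N795 = N795 := ded_24_2 (flp_c L6416) (flp_d L4736) L3532 L4736 L6416
theorem L6424 : sm gh N585 = N796 := rfl
theorem L6426 : sm ga N796 = N587 := ded_15_1 (flp_h L4751) (flp_a L4738) L6424
theorem L6428 : sm gb N796 = N796 := ded_22_1 (flp_h L6424) L4740 L6424
theorem L6429 : sm gf N796 = N796 := ded_40_1 (flp_h L6424) L4741 L6424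
theorem L6430 : sm gg N796 = N796 := ded_42_1 (flp_h L6424) L4742 L6424
theorem L6431 : sm gd N796 = N796 := ded_33_1 (flp_h L6424) (flp_d L4736) L3534 L4736 L6424
theorem L6432 : sm gh N586 = N797 := rfl
theorem L6434 : sm gb N797 = N797 := ded_22_1 (flp_h L6432) L4749 L6432
theorem L6435 : sm gc N797 = N587 := ded_28_1 (flp_h L4751) L4744 L6432
theorem L6437 : sm gf N797 = N797 := ded_40_1 (flp_h L6432) L4746 L6432
theorem L6438 : sm gg N797 = N797 := ded_42_1 (flp_h L6432) L4747 L6432
theorem L6439 : sm gi N587 = N798 := rfl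
theorem L6441 : sm gb N798 = N588 := ded_23_1 (flp_i L4758) (flp_b L4753) L6439
theorem L6443 : sm gd N798 = N798 := ded_34_1 (flp_i L6439) L4757 L6439
theorem L6444 : sm gf N798 = N798 := ded_41_1 (flp_i L6439) L4755 L6439
theorem L6445 : sm gg N798 = N798 := ded_43_1 (flp_i L6439) L4756 L6439
theorem L6446 : sm gh N798 = N798 := ded_44_1 (flp_i L6439) (flp_h L4751) L3543 L4751 L6439
theorem L6447 : sm ge N589 = N799 := rfl
theorem L6449 : sm ga N799 = N590 := ded_12_1 (flp_e L4774) L4766 L6447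
theorem L6451 : sm gb N799 = N618 := ded_19_1 (flp_e L5000) (flp_b L4772) L6447
theorem L6453 : sm gc N799 = N799 := ded_25_1 (flp_e L6447) L4768 L6447
theorem L6454 : sm gh N799 = N594 := ded_37_2 (flp_e L4804) (flp_h L4770) L6447
theorem L6456 : sm gd N590 = N800 := rfl
theorem L6458 : sm gb N800 = N591 := ded_18_1 (flp_d L4781) (flp_b L4776) L6456
theorem L6460 : sm gf N590 = N801 := rfl
theorem L6462 : sm gb N801 = N592 := ded_20_1 (flp_f L4786) (flp_b L4776) L6460
theorem L6465 : sm gh N801 = N596 := ded_40_2 (flp_f L4818) (flp_h L4779) L6460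
theorem L6468 : sm gf N591 = N802 := rfl
theorem L6470 : sm ga N802 = N621 := ded_13_1 (flp_f L5021) (flp_a L4783) L6468
theorem L6473 : sm gd N802 = N592 := ded_31_1 (flp_f L4786) L4781 L6468
theorem L6475 : sm gh N591 = N803 := rfl
theorem L6482 : sm gg N592 = N804 := rfl
theorem L6489 : sm gh N804 = N599 := ded_42_2 (flp_g L4841) (flp_h L4792) L6482
theorem L6491 : sm gd N594 = N805 := rfl
theorem L6493 : sm ga N805 = N595 := ded_11_1 (flp_d L4812) (flp_a L4806) L6491
theorem L6495 : sm gb N805 = N624 := ded_18_1 (flp_d L5038) (flp_b L4808) L6491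
theorem L6497 : sm gi N805 = N805 := ded_34_2 (flp_d L6491) L4811 L6491
theorem L6499 : sm gf N594 = N806 := rfl
theorem L6501 : sm ga N806 = N596 := ded_13_1 (flp_f L4818) (flp_a L4806) L6499
theorem L6503 : sm gb N806 = N625 := ded_20_1 (flp_f L5045) (flp_b L4808) L6499
theorem L6508 : sm gc N595 = N807 := rfl
theorem L6512 : sm gb N807 = N600 := ded_17_1 (flp_c L4849) L3616 (flp_c L3593) (flp_b L4814) L6508
theorem L6515 : sm gf N595 = N808 := rfl
theorem L6517 : sm gb N808 = N597 := ded_20_1 (flp_f L4825) (flp_b L4814) L6515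
theorem L6519 : sm gd N808 = N596 := ded_31_1 (flp_f L4818) L4812 L6515
theorem L6521 : sm gi N808 = N808 := ded_41_2 (flp_f L6515) L4816 L6515
theorem L6522 : sm gh N595 = N809 := rfl
theorem L6527 : sm gg N596 = N810 := rfl
theorem L6534 : sm ge N597 = N811 := rfl
theorem L6536 : sm ga N811 = N629 := ded_12_1 (flp_e L5075) (flp_a L4827) L6534
theorem L6538 : sm gc N811 = N604 := ded_25_1 (flp_e L4880) (flp_c L4829) L6534
theorem L6540 : sm gi N811 = N811 := ded_38_2 (flp_e L6534) L4833 L6534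
theorem L6543 : sm gg N597 = N812 := rfl
theorem L6549 : sm gd N812 = N599 := ded_32_1 (flp_g L4841) (flp_d L4831) L6543
theorem L6552 : sm gh N597 = N813 := rfl
theorem L6568 : sm gf N600 = N815 := rfl
theorem L6571 : sm gc N815 = N601 := ded_26_1 (flp_f L4855) L4849 L6568
theorem L6574 : sm gi N815 = N815 := ded_41_2 (flp_f L6568) L4853 L6568
theorem L6575 : sm gh N600 = N816 := rfl
theorem L6578 : sm gc N816 = N602 := ded_28_1 (flp_h L4863) L4849 L6575
theorem L6581 : sm ge N601 = N817 := rfl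
theorem L6584 : sm gb N817 = N604 := ded_19_1 (flp_e L4880) (flp_b L4858) L6581
theorem L6586 : sm gi N817 = N817 := ded_38_2 (flp_e L6581) L4862 L6581
theorem L6587 : sm gd N817 = N653 := ded_30_1 (flp_e L5247) L3907 (flp_e L3628) (flp_d L4860) L6581
theorem L6590 : sm gg N601 = N818 := rfl
theorem L6593 : sm gb N818 = N605 := ded_21_1 (flp_g L4888) (flp_b L4858) L6590
theorem L6606 : sm gi N602 = N820 := rfl
theorem L6613 : sm gh N820 = N820 := ded_44_1 (flp_i L6606) (flp_h L4863) L3618 L4863 L6606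
theorem L6614 : sm gg N604 = N821 := rfl
theorem L6616 : sm ga N821 = N633 := ded_14_1 (flp_g L5101) (flp_a L4882) L6614
theorem L6618 : sm gd N821 = N657 := ded_32_1 (flp_g L5280) (flp_d L4885) L6614
theorem L6620 : sm ge N821 = N605 := ded_36_1 (flp_g L4888) L4880 L6614
theorem L6623 : sm gh N604 = N822 := rfl
theorem L6630 : sm gh N605 = N823 := rfl
theorem L6645 : sm ge N608 = N825 := rfl
theorem L6647 : sm ga N825 = N609 := ded_12_1 (flp_e L4918) L4909 L6645
theorem L6649 : sm gc N825 = N825 := ded_25_1 (flp_e L6645) L4911 L6645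
theorem L6650 : sm gh N825 = N825 := ded_37_2 (flp_e L6645) L4915 L6645
theorem L6651 : sm gi N825 = N799 := ded_38_2 (flp_e L6447) (flp_i L4916) L6645
theorem L6653 : sm gd N609 = N826 := rfl
theorem L6655 : sm gb N826 = N610 := ded_18_1 (flp_d L4926) (flp_b L4920) L6653
theorem L6657 : sm gi N826 = N800 := ded_34_2 (flp_d L6456) (flp_i L4924) L6653
theorem L6659 : sm ge N826 = N619 := ded_30_2 (flp_d L5008) (flp_e L3714) (flp_d L3655) L4918 L6653
theorem L6661 : sm gf N609 = N827 := rfl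
theorem L6663 : sm gb N827 = N611 := ded_20_1 (flp_f L4933) (flp_b L4920) L6661
theorem L6665 : sm gc N827 = N827 := ded_26_1 (flp_f L6661) L4922 L6661
theorem L6666 : sm gh N827 = N827 := ded_40_2 (flp_f L6661) L4923 L6661
theorem L6667 : sm gi N827 = N801 := ded_41_2 (flp_f L6460) (flp_i L4924) L6661
theorem L6669 : sm ge N827 = N827 := ded_35_1 (flp_f L6661) (flp_e L4918) L3657 L4918 L6661
theorem L6670 : sm gf N610 = N828 := rfl
theorem L6672 : sm gc N828 = N828 := ded_26_1 (flp_f L6670) L4930 L6670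
theorem L6673 : sm gd N828 = N611 := ded_31_1 (flp_f L4933) L4926 L6670
theorem L6675 : sm gi N828 = N802 := ded_41_2 (flp_f L6468) (flp_i L4928) L6670
theorem L6677 : sm gh N610 = N829 := rfl
theorem L6679 : sm gc N829 = N829 := ded_28_1 (flp_h L6677) L4930 L6677
theorem L6680 : sm ge N829 = N622 := ded_37_1 (flp_h L5026) (flp_e L4931) L6677
theorem L6682 : sm gd N829 = N829 := ded_33_1 (flp_h L6677) (flp_d L4926) L3666 L4926 L6677
theorem L6691 : sm ge N613 = N831 := rfl
theorem L6693 : sm ga N831 = N614 := ded_12_1 (flp_e L4961) L4949 L6691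
theorem L6695 : sm gb N831 = N825 := ded_19_1 (flp_e L6645) (flp_b L4959) L6691
theorem L6697 : sm gc N831 = N637 := ded_25_1 (flp_e L5128) (flp_c L4951) L6691
theorem L6699 : sm gh N831 = N831 := ded_37_2 (flp_e L6691) L4956 L6691
theorem L6700 : sm gi N831 = N618 := ded_38_2 (flp_e L5000) (flp_i L4957) L6691
theorem L6702 : sm gd N614 = N832 := rfl
theorem L6704 : sm gb N832 = N615 := ded_18_1 (flp_d L4970) (flp_b L4963) L6702
theorem L6706 : sm gi N832 = N619 := ded_34_2 (flp_d L5008) (flp_i L4968) L6702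
theorem L6708 : sm ge N832 = N800 := ded_30_2 (flp_d L6456) (flp_e L4774) (flp_d L3679) L4961 L6702
theorem L6710 : sm gf N614 = N833 := rfl
theorem L6712 : sm gb N833 = N616 := ded_20_1 (flp_f L4979) (flp_b L4963) L6710
theorem L6714 : sm gc N833 = N639 := ded_26_1 (flp_f L5143) (flp_c L4965) L6710
theorem L6716 : sm gh N833 = N833 := ded_40_2 (flp_f L6710) L4967 L6710
theorem L6717 : sm gi N833 = N620 := ded_41_2 (flp_f L5012) (flp_i L4968) L6710
theorem L6719 : sm ge N833 = N833 := ded_35_1 (flp_f L6710) (flp_e L4961) L3681 L4961 L6710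
theorem L6720 : sm gf N615 = N834 := rfl
theorem L6722 : sm ga N834 = N828 := ded_13_1 (flp_f L6670) (flp_a L4972) L6720
theorem L6724 : sm gc N834 = N834 := ded_26_1 (flp_f L6720) L4976 L6720
theorem L6725 : sm gd N834 = N616 := ded_31_1 (flp_f L4979) L4970 L6720
theorem L6727 : sm gi N834 = N621 := ded_41_2 (flp_f L5021) (flp_i L4974) L6720
theorem L6729 : sm gh N615 = N835 := rfl
theorem L6731 : sm ga N835 = N829 := ded_15_1 (flp_h L6677) (flp_a L4972) L6729
theorem L6733 : sm gc N835 = N835 := ded_28_1 (flp_h L6729) L4976 L6729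
theorem L6734 : sm ge N835 = N803 := ded_37_1 (flp_h L6475) (flp_e L4977) L6729
theorem L6736 : sm gd N835 = N835 := ded_33_1 (flp_h L6729) (flp_d L4970) L3693 L4970 L6729
theorem L6737 : sm gg N616 = N836 := rfl
theorem L6741 : sm gc N836 = N617 := ded_27_1 (flp_g L4989) (flp_c L4983) L6737
theorem L6743 : sm ge N836 = N836 := ded_36_1 (flp_g L6737) L4988 L6737
theorem L6744 : sm gh N836 = N836 := ded_42_2 (flp_g L6737) L4985 L6737
theorem L6745 : sm gi N836 = N623 := ded_43_2 (flp_g L5031) (flp_i L4986) L6737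
theorem L6747 : sm gd N618 = N837 := rfl
theorem L6749 : sm ga N837 = N619 := ded_11_1 (flp_d L5008) (flp_a L5002) L6747
theorem L6751 : sm gf N618 = N838 := rfl
theorem L6753 : sm ga N838 = N620 := ded_13_1 (flp_f L5012) (flp_a L5002) L6751
theorem L6755 : sm gc N838 = N644 := ded_26_1 (flp_f L5182) (flp_c L5004) L6751
theorem L6757 : sm gh N838 = N625 := ded_40_2 (flp_f L5045) (flp_h L5006) L6751
theorem L6759 : sm ge N838 = N838 := ded_35_1 (flp_f L6751) (flp_e L5000) L3711 L5000 L6751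
theorem L6760 : sm gc N619 = N839 := rfl
theorem L6762 : sm gb N839 = N839 := ded_17_1 (flp_c L6760) L5010 L3724 (flp_b L5010) L6760
theorem L6763 : sm gd N839 = N645 := ded_24_2 (flp_c L5190) (flp_d L3851) (flp_c L3718) L5008 L6760
theorem L6765 : sm gf N619 = N840 := rfl
theorem L6767 : sm gb N840 = N621 := ded_20_1 (flp_f L5021) (flp_b L5010) L6765
theorem L6769 : sm gd N840 = N620 := ded_31_1 (flp_f L5012) L5008 L6765
theorem L6771 : sm gh N619 = N841 := rfl
theorem L6773 : sm gb N841 = N622 := ded_22_1 (flp_h L5026) (flp_b L5010) L6771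
theorem L6775 : sm gd N841 = N627 := ded_33_1 (flp_h L5061) (flp_d L3747) (flp_h L3720) L5008 L6771
theorem L6777 : sm gg N620 = N842 := rfl
theorem L6779 : sm gb N842 = N623 := ded_21_1 (flp_g L5031) (flp_b L5014) L6777
theorem L6781 : sm gc N842 = N647 := ded_27_1 (flp_g L5202) (flp_c L5016) L6777
theorem L6783 : sm ge N842 = N842 := ded_36_1 (flp_g L6777) L5020 L6777
theorem L6784 : sm gh N842 = N628 := ded_42_2 (flp_g L5067) (flp_h L5018) L6777
theorem L6786 : sm ge N621 = N843 := rfl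
theorem L6790 : sm gg N621 = N844 := rfl
theorem L6792 : sm gc N844 = N844 := ded_27_1 (flp_g L6790) L5023 L6790
theorem L6793 : sm gd N844 = N623 := ded_32_1 (flp_g L5031) (flp_d L5024) L6790
theorem L6795 : sm gh N621 = N845 := rfl
theorem L6800 : sm gd N845 = N631 := ded_33_1 (flp_h L5089) L3766 (flp_h L3729) (flp_d L5024) L6795
theorem L6802 : sm gi N622 = N846 := rfl
theorem L6807 : sm gf N624 = N847 := rfl
theorem L6809 : sm ga N847 = N626 := ded_13_1 (flp_f L5053) (flp_a L5040) L6807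
theorem L6812 : sm gd N847 = N625 := ded_31_1 (flp_f L5045) L5038 L6807
theorem L6815 : sm gh N624 = N848 := rfl
theorem L6817 : sm ga N848 = N627 := ded_15_1 (flp_h L5061) (flp_a L5040) L6815
theorem L6819 : sm gc N848 = N848 := ded_28_1 (flp_h L6815) L5043 L6815
theorem L6820 : sm ge N848 = N848 := ded_37_1 (flp_h L6815) L5044 L6815
theorem L6821 : sm gg N625 = N849 := rfl
theorem L6823 : sm ga N849 = N628 := ded_14_1 (flp_g L5067) (flp_a L5047) L6821
theorem L6825 : sm gc N849 = N650 := ded_27_1 (flp_g L5223) (flp_c L5049) L6821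
theorem L6827 : sm ge N849 = N849 := ded_36_1 (flp_g L6821) L5052 L6821
theorem L6828 : sm gi N849 = N849 := ded_43_2 (flp_g L6821) L5051 L6821
theorem L6829 : sm ge N626 = N850 := rfl
theorem L6831 : sm gb N850 = N629 := ded_19_1 (flp_e L5075) (flp_b L5055) L6829
theorem L6837 : sm gg N626 = N851 := rfl
theorem L6842 : sm gd N851 = N628 := ded_32_1 (flp_g L5067) (flp_d L5058) L6837
theorem L6845 : sm gh N626 = N852 := rfl
theorem L6847 : sm gb N852 = N631 := ded_22_1 (flp_h L5089) (flp_b L5055) L6845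
theorem L6850 : sm gf N852 = N627 := ded_40_1 (flp_h L5061) L5053 L6845
theorem L6852 : sm gi N627 = N853 := rfl
theorem L6854 : sm gb N853 = N632 := ded_23_1 (flp_i L5095) (flp_b L5063) L6852
theorem L6859 : sm gg N629 = N854 := rfl
theorem L6861 : sm gc N854 = N633 := ded_27_1 (flp_g L5101) (flp_c L5077) L6859
theorem L6864 : sm ge N854 = N630 := ded_36_1 (flp_g L5082) L5075 L6859
theorem L6867 : sm gh N629 = N855 := rfl
theorem L6869 : sm gc N855 = N634 := ded_28_1 (flp_h L5109) (flp_c L5077) L6867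
theorem L6871 : sm ge N855 = N631 := ded_37_1 (flp_h L5089) L5075 L6867
theorem L6874 : sm gh N630 = N856 := rfl
theorem L6880 : sm gi N631 = N857 := rfl
theorem L6887 : sm gf N633 = N858 := rfl
theorem L6890 : sm gd N858 = N661 := ded_31_1 (flp_f L5314) (flp_d L5104) L6887
theorem L6894 : sm gh N633 = N859 := rfl
theorem L6899 : sm gg N859 = N634 := ded_42_1 (flp_h L5109) L5101 L6894
theorem L6901 : sm gd N634 = N860 := rfl
theorem L6906 : sm gh N860 = N663 := ded_33_2 (flp_d L5329) (flp_h L3967) (flp_d L3784) L5109 L6901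
theorem L6908 : sm gi N634 = N861 := rfl
theorem L6922 : sm gd N637 = N863 := rfl
theorem L6924 : sm ga N863 = N638 := ded_11_1 (flp_d L5136) (flp_a L5130) L6922
theorem L6926 : sm gb N863 = N863 := ded_18_1 (flp_d L6922) L5132 L6922
theorem L6927 : sm gi N863 = N643 := ded_34_2 (flp_d L5175) (flp_i L5134) L6922
theorem L6929 : sm ge N863 = N863 := ded_30_2 (flp_d L6922) (flp_e L5128) L3807 L5128 L6922
theorem L6930 : sm gf N637 = N864 := rfl
theorem L6932 : sm ga N864 = N639 := ded_13_1 (flp_f L5143) (flp_a L5130) L6930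
theorem L6934 : sm gb N864 = N864 := ded_20_1 (flp_f L6930) L5132 L6930
theorem L6935 : sm gh N864 = N864 := ded_40_2 (flp_f L6930) L5133 L6930
theorem L6936 : sm gi N864 = N644 := ded_41_2 (flp_f L5182) (flp_i L5134) L6930
theorem L6938 : sm ge N864 = N864 := ded_35_1 (flp_f L6930) (flp_e L5128) L3808 L5128 L6930
theorem L6939 : sm gc N638 = N865 := rfl
theorem L6941 : sm ge N865 = N865 := ded_25_2 (flp_c L6939) L5142 L6939
theorem L6942 : sm gi N865 = N645 := ded_29_2 (flp_c L5190) (flp_i L5140) L6939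
theorem L6944 : sm gb N865 = N865 := ded_17_1 (flp_c L6939) L5138 L3825 (flp_b L5138) L6939
theorem L6945 : sm gf N638 = N866 := rfl
theorem L6947 : sm gb N866 = N640 := ded_20_1 (flp_f L5151) (flp_b L5138) L6945
theorem L6949 : sm gd N866 = N639 := ded_31_1 (flp_f L5143) L5136 L6945
theorem L6951 : sm gi N866 = N646 := ded_41_2 (flp_f L5195) (flp_i L5140) L6945
theorem L6953 : sm gh N638 = N867 := rfl
theorem L6955 : sm gb N867 = N641 := ded_22_1 (flp_h L5159) (flp_b L5138) L6953
theorem L6957 : sm ge N867 = N867 := ded_37_1 (flp_h L6953) L5142 L6953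
theorem L6958 : sm gd N867 = N867 := ded_33_1 (flp_h L6953) (flp_d L5136) L3817 L5136 L6953
theorem L6959 : sm gi N867 = N867 := ded_44_2 (flp_h L6953) L5140 L3856 (flp_i L5140) L6953
theorem L6960 : sm gg N639 = N868 := rfl
theorem L6962 : sm gb N868 = N642 := ded_21_1 (flp_g L5166) (flp_b L5145) L6960
theorem L6964 : sm ge N868 = N868 := ded_36_1 (flp_g L6960) L5150 L6960
theorem L6965 : sm gh N868 = N868 := ded_42_2 (flp_g L6960) L5147 L6960
theorem L6966 : sm gi N868 = N647 := ded_43_2 (flp_g L5202) (flp_i L5148) L6960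
theorem L6968 : sm ge N640 = N869 := rfl
theorem L6970 : sm ga N869 = N869 := ded_12_1 (flp_e L6968) L5153 L6968
theorem L6971 : sm gc N869 = N869 := ded_25_1 (flp_e L6968) L5154 L6968
theorem L6972 : sm gi N869 = N648 := ded_38_2 (flp_e L5209) (flp_i L5157) L6968
theorem L6974 : sm gd N869 = N869 := ded_30_1 (flp_e L6968) L5155 L3835 (flp_d L5155) L6968
theorem L6975 : sm gf N869 = N869 := ded_35_2 (flp_e L6968) (flp_f L5151) L3826 L5151 L6968
theorem L6976 : sm gg N640 = N870 := rfl
theorem L6978 : sm ga N870 = N870 := ded_14_1 (flp_g L6976) L5153 L6976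
theorem L6979 : sm gc N870 = N870 := ded_27_1 (flp_g L6976) L5154 L6976
theorem L6980 : sm gd N870 = N642 := ded_32_1 (flp_g L5166) (flp_d L5155) L6976
theorem L6982 : sm gi N870 = N649 := ded_43_2 (flp_g L5216) (flp_i L5157) L6976
theorem L6984 : sm gh N640 = N871 := rfl
theorem L6986 : sm ga N871 = N871 := ded_15_1 (flp_h L6984) L5153 L6984
theorem L6987 : sm gc N871 = N871 := ded_28_1 (flp_h L6984) L5154 L6984
theorem L6988 : sm gf N871 = N641 := ded_40_1 (flp_h L5159) L5151 L6984
theorem L6990 : sm gd N871 = N871 := ded_33_1 (flp_h L6984) L5155 L3832 (flp_d L5155) L6984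
theorem L6991 : sm gi N871 = N871 := ded_44_2 (flp_h L6984) L5157 L3870 (flp_i L5157) L6984
theorem L6992 : sm gc N643 = N872 := rfl
theorem L6994 : sm ga N872 = N645 := ded_10_1 (flp_c L5190) (flp_a L5177) L6992
theorem L6996 : sm ge N872 = N872 := ded_25_2 (flp_c L6992) L5180 L6992
theorem L6997 : sm gh N872 = N872 := ded_28_2 (flp_c L6992) L5181 L6992
theorem L6998 : sm gf N643 = N873 := rfl
theorem L7000 : sm ga N873 = N646 := ded_13_1 (flp_f L5195) (flp_a L5177) L6998
theorem L7002 : sm gb N873 = N873 := ded_20_1 (flp_f L6998) L5179 L6998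
theorem L7003 : sm gd N873 = N644 := ded_31_1 (flp_f L5182) L5175 L6998
theorem L7005 : sm gh N873 = N873 := ded_40_2 (flp_f L6998) L5181 L6998
theorem L7006 : sm gg N644 = N874 := rfl
theorem L7008 : sm ga N874 = N647 := ded_14_1 (flp_g L5202) (flp_a L5184) L7006
theorem L7010 : sm gb N874 = N874 := ded_21_1 (flp_g L7006) L5186 L7006
theorem L7011 : sm ge N874 = N874 := ded_36_1 (flp_g L7006) L5189 L7006
theorem L7012 : sm gh N874 = N650 := ded_42_2 (flp_g L5223) (flp_h L5187) L7006
theorem L7014 : sm gf N645 = N875 := rfl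
theorem L7016 : sm gb N875 = N875 := ded_20_1 (flp_f L7014) L5194 L7014
theorem L7017 : sm gc N875 = N646 := ded_26_1 (flp_f L5195) L5190 L7014
theorem L7019 : sm gh N875 = N875 := ded_40_2 (flp_f L7014) L5193 L7014
theorem L7020 : sm ge N646 = N876 := rfl
theorem L7022 : sm gb N876 = N648 := ded_19_1 (flp_e L5209) (flp_b L5197) L7020
theorem L7024 : sm gh N876 = N876 := ded_37_2 (flp_e L7020) L5201 L7020
theorem L7025 : sm gd N876 = N876 := ded_30_1 (flp_e L7020) L5199 L3863 (flp_d L5199) L7020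
theorem L7026 : sm gf N876 = N876 := ded_35_2 (flp_e L7020) (flp_f L5195) L3855 L5195 L7020
theorem L7027 : sm gg N646 = N877 := rfl
theorem L7029 : sm gb N877 = N649 := ded_21_1 (flp_g L5216) (flp_b L5197) L7027
theorem L7031 : sm gd N877 = N647 := ded_32_1 (flp_g L5202) (flp_d L5199) L7027
theorem L7033 : sm gh N877 = N877 := ded_42_2 (flp_g L7027) L5201 L7027
theorem L7034 : sm gg N648 = N878 := rfl
theorem L7036 : sm ga N878 = N878 := ded_14_1 (flp_g L7034) L5211 L7034
theorem L7037 : sm gc N878 = N878 := ded_27_1 (flp_g L7034) L5212 L7034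
theorem L7038 : sm gd N878 = N878 := ded_32_1 (flp_g L7034) L5214 L7034
theorem L7039 : sm ge N878 = N649 := ded_36_1 (flp_g L5216) L5209 L7034
theorem L7041 : sm gh N878 = N878 := ded_42_2 (flp_g L7034) L5213 L7034
theorem L7042 : sm ge N651 = N879 := rfl
theorem L7046 : sm gc N879 = N653 := ded_25_1 (flp_e L5247) (flp_c L5235) L7042
theorem L7048 : sm gi N879 = N879 := ded_38_2 (flp_e L7042) L5238 L7042
theorem L7050 : sm gg N651 = N880 := rfl
theorem L7054 : sm gc N880 = N654 := ded_27_1 (flp_g L5254) (flp_c L5235) L7050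
theorem L7059 : sm gh N651 = N881 := rfl
theorem L7065 : sm gf N881 = N652 := ded_40_1 (flp_h L5239) L5231 L7059
theorem L7074 : sm gi N652 = N883 := rfl
theorem L7082 : sm gh N883 = N883 := ded_44_1 (flp_i L7074) (flp_h L5239) L3899 L5239 L7074
theorem L7083 : sm gg N653 = N884 := rfl
theorem L7086 : sm gb N884 = N657 := ded_21_1 (flp_g L5280) (flp_b L5250) L7083
theorem L7088 : sm ge N884 = N654 := ded_36_1 (flp_g L5254) L5247 L7083
theorem L7090 : sm gi N884 = N884 := ded_43_2 (flp_g L7083) L5252 L7083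
theorem L7091 : sm gh N653 = N885 := rfl
theorem L7094 : sm gb N885 = N658 := ded_22_1 (flp_h L5288) (flp_b L5250) L7091
theorem L7099 : sm gh N654 = N886 := rfl
theorem L7108 : sm gi N655 = N887 := rfl
theorem L7111 : sm gb N887 = N660 := ded_23_1 (flp_i L5305) (flp_b L5266) L7108
theorem L7116 : sm gh N887 = N887 := ded_44_1 (flp_i L7108) (flp_h L5263) L3909 L5263 L7108
theorem L7117 : sm gf N657 = N888 := rfl
theorem L7119 : sm ga N888 = N661 := ded_13_1 (flp_f L5314) (flp_a L5282) L7117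
theorem L7123 : sm ge N888 = N888 := ded_35_1 (flp_f L7117) L5285 L3942 (flp_e L5285) L7117
theorem L7125 : sm gh N657 = N889 := rfl
theorem L7132 : sm gg N889 = N658 := ded_42_1 (flp_h L5288) L5280 L7125
theorem L7134 : sm gd N658 = N890 := rfl
theorem L7140 : sm gi N658 = N891 := rfl
theorem L7148 : sm gh N891 = N891 := ded_44_1 (flp_i L7140) (flp_h L5288) L3932 L5288 L7140
theorem L7159 : sm gh N661 = N893 := rfl
theorem L7164 : sm gf N893 = N662 := ded_40_1 (flp_h L5321) L5314 L7159
theorem L7167 : sm gd N662 = N894 := rfl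
theorem L7170 : sm gg N894 = N663 := ded_32_2 (flp_d L5329) (flp_g L5327) L7167
theorem L7173 : sm gi N662 = N895 := rfl
theorem L7179 : sm gg N895 = N664 := ded_43_1 (flp_i L5334) (flp_g L5327) L7173
theorem L7182 : sm gc N663 = N896 := rfl
theorem L7187 : sm gi N663 = N897 := rfl
theorem L7190 : sm gd N897 = N664 := ded_34_1 (flp_i L5334) L5329 L7187
theorem L7194 : sm gb N666 = N898 := rfl
theorem L7196 : sm gf N898 = N898 := ded_20_2 (flp_b L7194) L5355 L7194
theorem L7197 : sm gg N898 = N898 := ded_21_2 (flp_b L7194) L5356 L7194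
theorem L7198 : sm gh N898 = N898 := ded_22_2 (flp_b L7194) L5357 L7194
theorem L7199 : sm gc N898 = N898 := ded_17_2 (flp_b L7194) (flp_c L5351) L3994 L5351 L7194
theorem L7200 : sm ge N666 = N899 := rfl
theorem L7202 : sm ga N899 = N710 := ded_12_1 (flp_e L5734) (flp_a L5353) L7200
theorem L7204 : sm gc N899 = N667 := ded_25_1 (flp_e L5358) L5351 L7200
theorem L7206 : sm gg N899 = N899 := ded_36_2 (flp_e L7200) L5356 L7200
theorem L7207 : sm gh N899 = N899 := ded_37_2 (flp_e L7200) L5357 L7200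
theorem L7208 : sm gf N667 = N900 := rfl
theorem L7210 : sm ga N900 = N711 := ded_13_1 (flp_f L5740) (flp_a L5360) L7208
theorem L7212 : sm gb N900 = N900 := ded_20_1 (flp_f L7208) L5362 L7208
theorem L7213 : sm gd N900 = N670 := ded_31_1 (flp_f L5384) (flp_d L5365) L7208
theorem L7215 : sm gh N900 = N900 := ded_40_2 (flp_f L7208) L5364 L7208
theorem L7216 : sm ge N900 = N900 := ded_35_1 (flp_f L7208) (flp_e L5358) L3995 L5358 L7208
theorem L7217 : sm ga N668 = N901 := rfl
theorem L7219 : sm gc N901 = N901 := ded_10_2 (flp_a L7217) L5374 L7217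
theorem L7220 : sm gf N901 = N671 := ded_13_2 (flp_a L5393) (flp_f L5369) L7217
theorem L7222 : sm gg N901 = N901 := ded_14_2 (flp_a L7217) L5371 L7217
theorem L7223 : sm gh N901 = N676 := ded_15_2 (flp_a L5436) (flp_h L5372) L7217
theorem L7225 : sm gb N901 = N715 := ded_9_2 (flp_a L5781) (flp_b L4267) (flp_a L4000) L5367 L7217
theorem L7227 : sm ge N668 = N902 := rfl
theorem L7229 : sm gb N902 = N669 := ded_19_1 (flp_e L5375) L5367 L7227
theorem L7231 : sm gc N902 = N902 := ded_25_1 (flp_e L7227) L5374 L7227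
theorem L7232 : sm gg N902 = N902 := ded_36_2 (flp_e L7227) L5371 L7227
theorem L7233 : sm gh N902 = N677 := ded_37_2 (flp_e L5446) (flp_h L5372) L7227
theorem L7235 : sm gd N669 = N903 := rfl
theorem L7237 : sm ga N903 = N717 := ded_11_1 (flp_d L5799) (flp_a L5377) L7235
theorem L7239 : sm gg N903 = N903 := ded_32_2 (flp_d L7235) L5381 L7235
theorem L7240 : sm gf N669 = N904 := rfl
theorem L7242 : sm ga N904 = N718 := ded_13_1 (flp_f L5802) (flp_a L5377) L7240
theorem L7244 : sm gc N904 = N670 := ded_26_1 (flp_f L5384) (flp_c L5379) L7240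
theorem L7246 : sm gh N904 = N679 := ded_40_2 (flp_f L5461) (flp_h L5382) L7240
theorem L7248 : sm ge N904 = N674 := ded_35_1 (flp_f L5418) (flp_e L4022) (flp_f L4002) L5375 L7240
theorem L7250 : sm gg N670 = N905 := rfl
theorem L7257 : sm gh N905 = N680 := ded_42_2 (flp_g L5470) (flp_h L5389) L7250
theorem L7260 : sm ge N671 = N906 := rfl
theorem L7262 : sm ga N906 = N672 := ded_12_1 (flp_e L5402) L5393 L7260
theorem L7264 : sm gb N906 = N725 := ded_19_1 (flp_e L5875) (flp_b L5400) L7260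
theorem L7266 : sm gc N906 = N906 := ded_25_1 (flp_e L7260) L5395 L7260
theorem L7267 : sm gg N906 = N799 := ded_36_2 (flp_e L6447) (flp_g L5396) L7260
theorem L7269 : sm gh N906 = N681 := ded_37_2 (flp_e L5480) (flp_h L5398) L7260
theorem L7271 : sm gd N672 = N907 := rfl
theorem L7273 : sm gb N907 = N673 := ded_18_1 (flp_d L5411) (flp_b L5404) L7271
theorem L7275 : sm gg N907 = N800 := ded_32_2 (flp_d L6456) (flp_g L5407) L7271
theorem L7277 : sm gf N672 = N908 := rfl
theorem L7279 : sm gb N908 = N674 := ded_20_1 (flp_f L5418) (flp_b L5404) L7277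
theorem L7281 : sm gc N908 = N908 := ded_26_1 (flp_f L7277) L5406 L7277
theorem L7282 : sm gh N908 = N683 := ded_40_2 (flp_f L5498) (flp_h L5409) L7277
theorem L7284 : sm gf N673 = N909 := rfl
theorem L7286 : sm ga N909 = N728 := ded_13_1 (flp_f L5899) (flp_a L5413) L7284
theorem L7288 : sm gc N909 = N909 := ded_26_1 (flp_f L7284) L5417 L7284
theorem L7289 : sm gd N909 = N674 := ded_31_1 (flp_f L5418) L5411 L7284
theorem L7291 : sm gh N673 = N910 := rfl
theorem L7293 : sm ga N910 = N729 := ded_15_1 (flp_h L5904) (flp_a L5413) L7291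
theorem L7300 : sm gg N674 = N911 := rfl
theorem L7302 : sm ga N911 = N730 := ded_14_1 (flp_g L5911) (flp_a L5420) L7300
theorem L7306 : sm gh N911 = N686 := ded_42_2 (flp_g L5522) (flp_h L5424) L7300
theorem L7310 : sm ge N676 = N912 := rfl
theorem L7312 : sm ga N912 = N677 := ded_12_1 (flp_e L5446) L5436 L7310
theorem L7314 : sm gb N912 = N731 := ded_19_1 (flp_e L5919) (flp_b L5444) L7310
theorem L7316 : sm gc N912 = N912 := ded_25_1 (flp_e L7310) L5438 L7310
theorem L7317 : sm gg N912 = N912 := ded_36_2 (flp_e L7310) L5442 L7310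
theorem L7318 : sm gi N912 = N912 := ded_38_2 (flp_e L7310) L5443 L7310
theorem L7319 : sm gd N677 = N913 := rfl
theorem L7321 : sm gb N913 = N678 := ded_18_1 (flp_d L5453) (flp_b L5448) L7319
theorem L7323 : sm gg N913 = N913 := ded_32_2 (flp_d L7319) L5451 L7319
theorem L7324 : sm gi N913 = N913 := ded_34_2 (flp_d L7319) L5452 L7319
theorem L7325 : sm ge N913 = N913 := ded_30_2 (flp_d L7319) (flp_e L5446) L4042 L5446 L7319
theorem L7326 : sm gf N677 = N914 := rfl
theorem L7328 : sm gb N914 = N679 := ded_20_1 (flp_f L5461) (flp_b L5448) L7326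
theorem L7330 : sm gc N914 = N914 := ded_26_1 (flp_f L7326) L5450 L7326
theorem L7331 : sm gi N914 = N914 := ded_41_2 (flp_f L7326) L5452 L7326
theorem L7332 : sm ge N914 = N683 := ded_35_1 (flp_f L5498) (flp_e L4074) (flp_f L4043) L5446 L7326
theorem L7334 : sm gf N678 = N915 := rfl
theorem L7336 : sm ga N915 = N734 := ded_13_1 (flp_f L5943) (flp_a L5455) L7334
theorem L7338 : sm gc N915 = N915 := ded_26_1 (flp_f L7334) L5459 L7334
theorem L7339 : sm gd N915 = N679 := ded_31_1 (flp_f L5461) L5453 L7334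
theorem L7341 : sm gi N915 = N915 := ded_41_2 (flp_f L7334) L5458 L7334
theorem L7342 : sm gh N678 = N916 := rfl
theorem L7344 : sm ga N916 = N735 := ded_15_1 (flp_h L5949) (flp_a L5455) L7342
theorem L7346 : sm gc N916 = N916 := ded_28_1 (flp_h L7342) L5459 L7342
theorem L7347 : sm ge N916 = N916 := ded_37_1 (flp_h L7342) L5460 L7342
theorem L7348 : sm gg N916 = N916 := ded_42_1 (flp_h L7342) L5457 L7342
theorem L7349 : sm gg N679 = N917 := rfl
theorem L7353 : sm gc N917 = N680 := ded_27_1 (flp_g L5470) (flp_c L5465) L7349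
theorem L7359 : sm gd N681 = N918 := rfl
theorem L7361 : sm ga N918 = N682 := ded_11_1 (flp_d L5490) (flp_a L5482) L7359
theorem L7363 : sm gb N918 = N737 := ded_18_1 (flp_d L5962) (flp_b L5484) L7359
theorem L7365 : sm gg N918 = N805 := ded_32_2 (flp_d L6491) (flp_g L5487) L7359
theorem L7369 : sm gf N681 = N919 := rfl
theorem L7371 : sm ga N919 = N683 := ded_13_1 (flp_f L5498) (flp_a L5482) L7369
theorem L7373 : sm gb N919 = N738 := ded_20_1 (flp_f L5971) (flp_b L5484) L7369
theorem L7375 : sm gc N919 = N919 := ded_26_1 (flp_f L7369) L5486 L7369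
theorem L7376 : sm gi N919 = N919 := ded_41_2 (flp_f L7369) L5489 L7369
theorem L7377 : sm gc N682 = N920 := rfl
theorem L7380 : sm gg N920 = N807 := ded_27_2 (flp_c L6508) (flp_g L5494) L7377
theorem L7383 : sm gb N920 = N687 := ded_17_1 (flp_c L5531) L4112 (flp_c L4089) (flp_b L5492) L7377
theorem L7386 : sm gf N682 = N921 := rfl
theorem L7388 : sm gb N921 = N684 := ded_20_1 (flp_f L5504) (flp_b L5492) L7386
theorem L7390 : sm gd N921 = N683 := ded_31_1 (flp_f L5498) L5490 L7386
theorem L7393 : sm gh N682 = N922 := rfl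
theorem L7395 : sm gb N922 = N685 := ded_22_1 (flp_h L5513) (flp_b L5492) L7393
theorem L7398 : sm gg N922 = N809 := ded_42_1 (flp_h L6522) (flp_g L5494) L7393
theorem L7400 : sm gg N683 = N923 := rfl
theorem L7402 : sm gb N923 = N686 := ded_21_1 (flp_g L5522) (flp_b L5500) L7400
theorem L7406 : sm gf N923 = N810 := ded_39_1 (flp_g L6527) (flp_f L4818) (flp_g L4079) L5498 L7400
theorem L7408 : sm ge N684 = N924 := rfl
theorem L7410 : sm ga N924 = N742 := ded_12_1 (flp_e L6003) (flp_a L5506) L7408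
theorem L7412 : sm gc N924 = N691 := ded_25_1 (flp_e L5567) (flp_c L5508) L7408
theorem L7416 : sm gg N684 = N925 := rfl
theorem L7422 : sm gd N925 = N686 := ded_32_1 (flp_g L5522) (flp_d L5510) L7416
theorem L7427 : sm gh N684 = N926 := rfl
theorem L7435 : sm gi N685 = N927 := rfl
theorem L7437 : sm ga N927 = N745 := ded_16_1 (flp_i L6024) (flp_a L5515) L7435
theorem L7445 : sm gf N687 = N928 := rfl
theorem L7448 : sm gc N928 = N688 := ded_26_1 (flp_f L5539) L5531 L7445
theorem L7451 : sm gi N928 = N928 := ded_41_2 (flp_f L7445) L5537 L7445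
theorem L7452 : sm gh N687 = N929 := rfl
theorem L7458 : sm gg N929 = N816 := ded_42_1 (flp_h L6575) (flp_g L5535) L7452
theorem L7460 : sm ge N688 = N930 := rfl
theorem L7463 : sm gb N930 = N691 := ded_19_1 (flp_e L5567) (flp_b L5542) L7460
theorem L7468 : sm gg N688 = N931 := rfl
theorem L7476 : sm gf N931 = N818 := ded_39_1 (flp_g L6590) (flp_f L4855) (flp_g L4114) L5539 L7468
theorem L7478 : sm gh N688 = N932 := rfl
theorem L7483 : sm gf N932 = N689 := ded_40_1 (flp_h L5547) L5539 L7478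
theorem L7486 : sm gi N689 = N933 := rfl
theorem L7493 : sm gg N933 = N820 := ded_43_1 (flp_i L6606) (flp_g L5553) L7486
theorem L7496 : sm gg N691 = N934 := rfl
theorem L7498 : sm ga N934 = N746 := ded_14_1 (flp_g L6032) (flp_a L5569) L7496
theorem L7504 : sm gh N691 = N935 := rfl
theorem L7506 : sm ga N935 = N747 := ded_15_1 (flp_h L6039) (flp_a L5569) L7504
theorem L7528 : sm gc N695 = N938 := rfl
theorem L7530 : sm gf N938 = N938 := ded_26_2 (flp_c L7528) L5602 L7528
theorem L7531 : sm gg N938 = N938 := ded_27_2 (flp_c L7528) L5603 L7528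
theorem L7532 : sm gh N938 = N696 := ded_28_2 (flp_c L5607) (flp_h L5605) L7528
theorem L7534 : sm gi N938 = N938 := ded_29_2 (flp_c L7528) L5604 L7528
theorem L7535 : sm gd N938 = N938 := ded_24_2 (flp_c L7528) (flp_d L5599) L4156 L5599 L7528
theorem L7536 : sm ge N695 = N939 := rfl
theorem L7538 : sm gb N939 = N939 := ded_19_1 (flp_e L7536) L5601 L7536
theorem L7539 : sm gg N939 = N939 := ded_36_2 (flp_e L7536) L5603 L7536
theorem L7540 : sm gh N939 = N697 := ded_37_2 (flp_e L5615) (flp_h L5605) L7536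
theorem L7542 : sm gi N939 = N939 := ded_38_2 (flp_e L7536) L5604 L7536
theorem L7543 : sm gd N939 = N939 := ded_30_1 (flp_e L7536) (flp_d L5599) L4157 L5599 L7536
theorem L7544 : sm gb N696 = N940 := rfl
theorem L7546 : sm gd N940 = N709 := ded_18_2 (flp_b L5727) (flp_d L5613) L7544
theorem L7548 : sm gf N940 = N940 := ded_20_2 (flp_b L7544) L5609 L7544
theorem L7549 : sm gg N940 = N940 := ded_21_2 (flp_b L7544) L5610 L7544
theorem L7550 : sm gi N940 = N898 := ded_23_2 (flp_b L7194) (flp_i L5611) L7544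
theorem L7552 : sm gc N940 = N940 := ded_17_2 (flp_b L7544) (flp_c L5607) L4163 L5607 L7544
theorem L7553 : sm ge N696 = N941 := rfl
theorem L7555 : sm gc N941 = N697 := ded_25_1 (flp_e L5615) L5607 L7553
theorem L7557 : sm gg N941 = N941 := ded_36_2 (flp_e L7553) L5610 L7553
theorem L7558 : sm gi N941 = N899 := ded_38_2 (flp_e L7200) (flp_i L5611) L7553
theorem L7560 : sm gf N697 = N942 := rfl
theorem L7562 : sm gb N942 = N942 := ded_20_1 (flp_f L7560) L5617 L7560
theorem L7563 : sm gd N942 = N700 := ded_31_1 (flp_f L5642) (flp_d L5621) L7560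
theorem L7565 : sm gi N942 = N900 := ded_41_2 (flp_f L7208) (flp_i L5619) L7560
theorem L7567 : sm ge N942 = N942 := ded_35_1 (flp_f L7560) (flp_e L5615) L4164 L5615 L7560
theorem L7568 : sm ga N698 = N943 := rfl
theorem L7570 : sm gc N943 = N943 := ded_10_2 (flp_a L7568) L5633 L7568
theorem L7571 : sm gd N943 = N715 := ded_11_2 (flp_a L5781) (flp_d L5625) L7568
theorem L7573 : sm gf N943 = N701 := ded_13_2 (flp_a L5650) (flp_f L5627) L7568
theorem L7575 : sm gg N943 = N943 := ded_14_2 (flp_a L7568) L5629 L7568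
theorem L7576 : sm gh N943 = N943 := ded_15_2 (flp_a L7568) L5630 L7568
theorem L7577 : sm gi N943 = N901 := ded_16_2 (flp_a L7217) (flp_i L5631) L7568
theorem L7579 : sm ge N698 = N944 := rfl
theorem L7581 : sm gb N944 = N699 := ded_19_1 (flp_e L5634) L5623 L7579
theorem L7583 : sm gc N944 = N944 := ded_25_1 (flp_e L7579) L5633 L7579
theorem L7584 : sm gg N944 = N944 := ded_36_2 (flp_e L7579) L5629 L7579
theorem L7585 : sm gh N944 = N944 := ded_37_2 (flp_e L7579) L5630 L7579
theorem L7586 : sm gi N944 = N902 := ded_38_2 (flp_e L7227) (flp_i L5631) L7579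
theorem L7588 : sm gd N699 = N945 := rfl
theorem L7590 : sm gg N945 = N945 := ded_32_2 (flp_d L7588) L5638 L7588
theorem L7591 : sm gi N945 = N903 := ded_34_2 (flp_d L7235) (flp_i L5640) L7588
theorem L7593 : sm ge N945 = N717 := ded_30_2 (flp_d L5799) (flp_e L4276) (flp_d L4176) L5634 L7588
theorem L7595 : sm gf N699 = N946 := rfl
theorem L7597 : sm gc N946 = N700 := ded_26_1 (flp_f L5642) (flp_c L5636) L7595
theorem L7599 : sm gh N946 = N946 := ded_40_2 (flp_f L7595) L5639 L7595
theorem L7600 : sm gi N946 = N904 := ded_41_2 (flp_f L7240) (flp_i L5640) L7595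
theorem L7602 : sm ge N946 = N704 := ded_35_1 (flp_f L5679) (flp_e L4195) (flp_f L4170) L5634 L7595
theorem L7604 : sm gg N700 = N947 := rfl
theorem L7606 : sm gb N947 = N947 := ded_21_1 (flp_g L7604) L5644 L7604
theorem L7607 : sm ge N947 = N705 := ded_36_1 (flp_g L5686) (flp_e L5648) L7604
theorem L7609 : sm gh N947 = N947 := ded_42_2 (flp_g L7604) L5645 L7604
theorem L7612 : sm gf N947 = N947 := ded_39_1 (flp_g L7604) (flp_f L5642) L4181 L5642 L7604
theorem L7613 : sm ge N701 = N948 := rfl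
theorem L7615 : sm ga N948 = N702 := ded_12_1 (flp_e L5660) L5650 L7613
theorem L7617 : sm gc N948 = N948 := ded_25_1 (flp_e L7613) L5652 L7613
theorem L7618 : sm gg N948 = N825 := ded_36_2 (flp_e L6645) (flp_g L5655) L7613
theorem L7620 : sm gh N948 = N948 := ded_37_2 (flp_e L7613) L5657 L7613
theorem L7621 : sm gi N948 = N906 := ded_38_2 (flp_e L7260) (flp_i L5658) L7613
theorem L7623 : sm gd N702 = N949 := rfl
theorem L7625 : sm gb N949 = N703 := ded_18_1 (flp_d L5670) (flp_b L5662) L7623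
theorem L7627 : sm gg N949 = N826 := ded_32_2 (flp_d L6653) (flp_g L5665) L7623
theorem L7629 : sm gi N949 = N907 := ded_34_2 (flp_d L7271) (flp_i L5668) L7623
theorem L7631 : sm ge N949 = N726 := ded_30_2 (flp_d L5885) (flp_e L4331) (flp_d L4187) L5660 L7623
theorem L7633 : sm gf N702 = N950 := rfl
theorem L7635 : sm gb N950 = N704 := ded_20_1 (flp_f L5679) (flp_b L5662) L7633
theorem L7637 : sm gc N950 = N950 := ded_26_1 (flp_f L7633) L5664 L7633
theorem L7638 : sm gh N950 = N950 := ded_40_2 (flp_f L7633) L5667 L7633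
theorem L7639 : sm gi N950 = N908 := ded_41_2 (flp_f L7277) (flp_i L5668) L7633
theorem L7641 : sm gf N703 = N951 := rfl
theorem L7643 : sm gc N951 = N951 := ded_26_1 (flp_f L7641) L5676 L7641
theorem L7644 : sm gd N951 = N704 := ded_31_1 (flp_f L5679) L5670 L7641
theorem L7646 : sm gi N951 = N909 := ded_41_2 (flp_f L7284) (flp_i L5674) L7641
theorem L7648 : sm gh N703 = N952 := rfl
theorem L7650 : sm gc N952 = N952 := ded_28_1 (flp_h L7648) L5676 L7648
theorem L7651 : sm ge N952 = N729 := ded_37_1 (flp_h L5904) (flp_e L5677) L7648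
theorem L7653 : sm gg N952 = N829 := ded_42_1 (flp_h L6677) (flp_g L5672) L7648
theorem L7655 : sm gd N952 = N952 := ded_33_1 (flp_h L7648) (flp_d L5670) L4201 L5670 L7648
theorem L7656 : sm gg N704 = N953 := rfl
theorem L7658 : sm gc N953 = N705 := ded_27_1 (flp_g L5686) (flp_c L5681) L7656
theorem L7660 : sm gh N953 = N953 := ded_42_2 (flp_g L7656) L5683 L7656
theorem L7661 : sm gi N953 = N911 := ded_43_2 (flp_g L7300) (flp_i L5684) L7656
theorem L7665 : sm gc N706 = N954 := rfl
theorem L7667 : sm ga N954 = N938 := ded_10_1 (flp_c L7528) (flp_a L5697) L7665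
theorem L7669 : sm gf N954 = N954 := ded_26_2 (flp_c L7665) L5701 L7665
theorem L7670 : sm gg N954 = N954 := ded_27_2 (flp_c L7665) L5702 L7665
theorem L7671 : sm gh N954 = N707 := ded_28_2 (flp_c L5706) (flp_h L5704) L7665
theorem L7673 : sm gi N954 = N954 := ded_29_2 (flp_c L7665) L5703 L7665
theorem L7674 : sm gd N954 = N954 := ded_24_2 (flp_c L7665) (flp_d L5695) L4217 L5695 L7665
theorem L7675 : sm ge N706 = N955 := rfl
theorem L7677 : sm ga N955 = N939 := ded_12_1 (flp_e L7536) (flp_a L5697) L7675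
theorem L7679 : sm gb N955 = N752 := ded_19_1 (flp_e L6076) (flp_b L5699) L7675
theorem L7681 : sm gg N955 = N955 := ded_36_2 (flp_e L7675) L5702 L7675
theorem L7682 : sm gh N955 = N708 := ded_37_2 (flp_e L5716) (flp_h L5704) L7675
theorem L7684 : sm gi N955 = N955 := ded_38_2 (flp_e L7675) L5703 L7675
theorem L7685 : sm gd N955 = N955 := ded_30_1 (flp_e L7675) (flp_d L5695) L4218 L5695 L7675
theorem L7686 : sm gb N707 = N956 := rfl
theorem L7688 : sm gd N956 = N898 := ded_18_2 (flp_b L7194) (flp_d L5714) L7686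
theorem L7690 : sm gf N956 = N956 := ded_20_2 (flp_b L7686) L5710 L7686
theorem L7691 : sm gg N956 = N956 := ded_21_2 (flp_b L7686) L5711 L7686
theorem L7692 : sm gi N956 = N709 := ded_23_2 (flp_b L5727) (flp_i L5712) L7686
theorem L7694 : sm gc N956 = N753 := ded_17_2 (flp_b L6084) (flp_c L4492) (flp_b L4226) L5706 L7686
theorem L7696 : sm ge N707 = N957 := rfl
theorem L7698 : sm ga N957 = N941 := ded_12_1 (flp_e L7553) (flp_a L5708) L7696
theorem L7700 : sm gc N957 = N708 := ded_25_1 (flp_e L5716) L5706 L7696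
theorem L7702 : sm gg N957 = N957 := ded_36_2 (flp_e L7696) L5711 L7696
theorem L7703 : sm gi N957 = N710 := ded_38_2 (flp_e L5734) (flp_i L5712) L7696
theorem L7705 : sm gf N708 = N958 := rfl
theorem L7707 : sm ga N958 = N942 := ded_13_1 (flp_f L7560) (flp_a L5718) L7705
theorem L7709 : sm gb N958 = N755 := ded_20_1 (flp_f L6099) (flp_b L5720) L7705
theorem L7711 : sm gd N958 = N714 := ded_31_1 (flp_f L5770) (flp_d L5725) L7705
theorem L7713 : sm gi N958 = N711 := ded_41_2 (flp_f L5740) (flp_i L5723) L7705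
theorem L7715 : sm ge N958 = N958 := ded_35_1 (flp_f L7705) (flp_e L5716) L4228 L5716 L7705
theorem L7716 : sm ga N709 = N959 := rfl
theorem L7718 : sm gc N959 = N756 := ded_10_2 (flp_a L6107) (flp_c L5732) L7716
theorem L7720 : sm gf N959 = N959 := ded_13_2 (flp_a L7716) L5729 L7716
theorem L7721 : sm gg N959 = N959 := ded_14_2 (flp_a L7716) L5730 L7716
theorem L7722 : sm gh N959 = N959 := ded_15_2 (flp_a L7716) L5731 L7716
theorem L7723 : sm ge N709 = N960 := rfl
theorem L7725 : sm gb N960 = N710 := ded_19_1 (flp_e L5734) L5727 L7723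
theorem L7727 : sm gc N960 = N757 := ded_25_1 (flp_e L6114) (flp_c L5732) L7723
theorem L7729 : sm gg N960 = N960 := ded_36_2 (flp_e L7723) L5730 L7723
theorem L7730 : sm gh N960 = N960 := ded_37_2 (flp_e L7723) L5731 L7723
theorem L7731 : sm gd N710 = N961 := rfl
theorem L7733 : sm gg N961 = N961 := ded_32_2 (flp_d L7731) L5738 L7731
theorem L7734 : sm gc N961 = N717 := ded_24_1 (flp_d L5799) L4278 (flp_d L4243) (flp_c L5736) L7731
theorem L7736 : sm gf N710 = N962 := rfl
theorem L7738 : sm gc N962 = N711 := ded_26_1 (flp_f L5740) (flp_c L5736) L7736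
theorem L7740 : sm gh N962 = N962 := ded_40_2 (flp_f L7736) L5739 L7736
theorem L7741 : sm ge N962 = N962 := ded_35_1 (flp_f L7736) (flp_e L5734) L4234 L5734 L7736
theorem L7742 : sm gg N711 = N963 := rfl
theorem L7744 : sm gb N963 = N760 := ded_21_1 (flp_g L6134) (flp_b L5742) L7742
theorem L7746 : sm gd N963 = N719 := ded_32_1 (flp_g L5810) (flp_d L5744) L7742
theorem L7748 : sm ge N963 = N963 := ded_36_1 (flp_g L7742) L5747 L7742
theorem L7749 : sm gh N963 = N963 := ded_42_2 (flp_g L7742) L5746 L7742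
theorem L7750 : sm gf N963 = N963 := ded_39_1 (flp_g L7742) (flp_f L5740) L4241 L5740 L7742
theorem L7751 : sm ga N712 = N964 := rfl
theorem L7753 : sm gc N964 = N761 := ded_10_2 (flp_a L6142) (flp_c L5758) L7751
theorem L7755 : sm gd N964 = N901 := ded_11_2 (flp_a L7217) (flp_d L5750) L7751
theorem L7757 : sm gf N964 = N720 := ded_13_2 (flp_a L5819) (flp_f L5752) L7751
theorem L7759 : sm gg N964 = N964 := ded_14_2 (flp_a L7751) L5754 L7751
theorem L7760 : sm gh N964 = N964 := ded_15_2 (flp_a L7751) L5755 L7751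
theorem L7761 : sm gi N964 = N715 := ded_16_2 (flp_a L5781) (flp_i L5756) L7751
theorem L7763 : sm gb N964 = N943 := ded_9_2 (flp_a L7568) (flp_b L5623) (flp_a L4247) L5748 L7751
theorem L7765 : sm ge N712 = N965 := rfl
theorem L7767 : sm gb N965 = N713 := ded_19_1 (flp_e L5760) L5748 L7765
theorem L7769 : sm gc N965 = N762 := ded_25_1 (flp_e L6152) (flp_c L5758) L7765
theorem L7771 : sm gg N965 = N965 := ded_36_2 (flp_e L7765) L5754 L7765
theorem L7772 : sm gh N965 = N965 := ded_37_2 (flp_e L7765) L5755 L7765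
theorem L7773 : sm gi N965 = N716 := ded_38_2 (flp_e L5790) (flp_i L5756) L7765
theorem L7775 : sm gd N713 = N966 := rfl
theorem L7777 : sm ga N966 = N945 := ded_11_1 (flp_d L7588) (flp_a L5762) L7775
theorem L7779 : sm gg N966 = N966 := ded_32_2 (flp_d L7775) L5766 L7775
theorem L7780 : sm gi N966 = N717 := ded_34_2 (flp_d L5799) (flp_i L5768) L7775
theorem L7782 : sm ge N966 = N903 := ded_30_2 (flp_d L7235) (flp_e L5375) (flp_d L4255) L5760 L7775
theorem L7784 : sm gf N713 = N967 := rfl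
theorem L7786 : sm ga N967 = N946 := ded_13_1 (flp_f L7595) (flp_a L5762) L7784
theorem L7788 : sm gc N967 = N714 := ded_26_1 (flp_f L5770) (flp_c L5764) L7784
theorem L7790 : sm gh N967 = N967 := ded_40_2 (flp_f L7784) L5767 L7784
theorem L7791 : sm gi N967 = N718 := ded_41_2 (flp_f L5802) (flp_i L5768) L7784
theorem L7793 : sm ge N967 = N723 := ded_35_1 (flp_f L5854) (flp_e L4302) (flp_f L4249) L5760 L7784
theorem L7795 : sm gg N714 = N968 := rfl
theorem L7797 : sm ga N968 = N947 := ded_14_1 (flp_g L7604) (flp_a L5772) L7795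
theorem L7799 : sm gb N968 = N765 := ded_21_1 (flp_g L6177) (flp_b L5774) L7795
theorem L7801 : sm ge N968 = N724 := ded_36_1 (flp_g L5863) (flp_e L5779) L7795
theorem L7803 : sm gh N968 = N968 := ded_42_2 (flp_g L7795) L5776 L7795
theorem L7804 : sm gi N968 = N719 := ded_43_2 (flp_g L5810) (flp_i L5777) L7795
theorem L7806 : sm gf N968 = N968 := ded_39_1 (flp_g L7795) (flp_f L5770) L4263 L5770 L7795
theorem L7807 : sm ge N715 = N969 := rfl
theorem L7809 : sm ga N969 = N716 := ded_12_1 (flp_e L5790) L5781 L7807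
theorem L7811 : sm gc N969 = N766 := ded_25_1 (flp_e L6186) (flp_c L5783) L7807
theorem L7813 : sm gg N969 = N969 := ded_36_2 (flp_e L7807) L5787 L7807
theorem L7814 : sm gh N969 = N731 := ded_37_2 (flp_e L5919) (flp_h L5788) L7807
theorem L7816 : sm gd N716 = N970 := rfl
theorem L7818 : sm gb N970 = N717 := ded_18_1 (flp_d L5799) (flp_b L5792) L7816
theorem L7820 : sm gg N970 = N970 := ded_32_2 (flp_d L7816) L5796 L7816
theorem L7821 : sm gf N716 = N971 := rfl
theorem L7823 : sm gb N971 = N718 := ded_20_1 (flp_f L5802) (flp_b L5792) L7821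
theorem L7825 : sm gc N971 = N768 := ded_26_1 (flp_f L6200) (flp_c L5794) L7821
theorem L7827 : sm gh N971 = N733 := ded_40_2 (flp_f L5934) (flp_h L5797) L7821
theorem L7829 : sm ge N971 = N727 := ded_35_1 (flp_f L5891) (flp_e L4331) (flp_f L4269) L5790 L7821
theorem L7831 : sm gf N717 = N972 := rfl
theorem L7833 : sm gd N972 = N718 := ded_31_1 (flp_f L5802) L5799 L7831
theorem L7835 : sm gh N717 = N973 := rfl
theorem L7837 : sm gg N973 = N973 := ded_42_1 (flp_h L7835) L5801 L7835
theorem L7838 : sm gd N973 = N735 := ded_33_1 (flp_h L5949) (flp_d L4378) (flp_h L4281) L5799 L7835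
theorem L7840 : sm gg N718 = N974 := rfl
theorem L7842 : sm gc N974 = N719 := ded_27_1 (flp_g L5810) (flp_c L5804) L7840
theorem L7844 : sm ge N974 = N730 := ded_36_1 (flp_g L5911) (flp_e L5808) L7840
theorem L7846 : sm gh N974 = N736 := ded_42_2 (flp_g L5954) (flp_h L5806) L7840
theorem L7848 : sm gf N974 = N974 := ded_39_1 (flp_g L7840) (flp_f L5802) L4280 L5802 L7840
theorem L7849 : sm ge N720 = N975 := rfl
theorem L7851 : sm ga N975 = N721 := ded_12_1 (flp_e L5832) L5819 L7849
theorem L7853 : sm gb N975 = N948 := ded_19_1 (flp_e L7613) (flp_b L5830) L7849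
theorem L7855 : sm gc N975 = N772 := ded_25_1 (flp_e L6230) (flp_c L5821) L7849
theorem L7857 : sm gg N975 = N831 := ded_36_2 (flp_e L6691) (flp_g L5825) L7849
theorem L7859 : sm gh N975 = N975 := ded_37_2 (flp_e L7849) L5827 L7849
theorem L7860 : sm gi N975 = N725 := ded_38_2 (flp_e L5875) (flp_i L5828) L7849
theorem L7862 : sm gd N721 = N976 := rfl
theorem L7864 : sm gb N976 = N722 := ded_18_1 (flp_d L5843) (flp_b L5834) L7862
theorem L7866 : sm gg N976 = N832 := ded_32_2 (flp_d L6702) (flp_g L5838) L7862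
theorem L7868 : sm gi N976 = N726 := ded_34_2 (flp_d L5885) (flp_i L5841) L7862
theorem L7870 : sm ge N976 = N907 := ded_30_2 (flp_d L7271) (flp_e L5402) (flp_d L4293) L5832 L7862
theorem L7872 : sm gf N721 = N977 := rfl
theorem L7874 : sm gb N977 = N723 := ded_20_1 (flp_f L5854) (flp_b L5834) L7872
theorem L7876 : sm gc N977 = N774 := ded_26_1 (flp_f L6249) (flp_c L5836) L7872
theorem L7878 : sm gh N977 = N977 := ded_40_2 (flp_f L7872) L5840 L7872
theorem L7879 : sm gi N977 = N727 := ded_41_2 (flp_f L5891) (flp_i L5841) L7872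
theorem L7881 : sm gf N722 = N978 := rfl
theorem L7883 : sm ga N978 = N951 := ded_13_1 (flp_f L7641) (flp_a L5845) L7881
theorem L7885 : sm gc N978 = N978 := ded_26_1 (flp_f L7881) L5851 L7881
theorem L7886 : sm gd N978 = N723 := ded_31_1 (flp_f L5854) L5843 L7881
theorem L7888 : sm gi N978 = N728 := ded_41_2 (flp_f L5899) (flp_i L5849) L7881
theorem L7890 : sm gh N722 = N979 := rfl
theorem L7892 : sm ga N979 = N952 := ded_15_1 (flp_h L7648) (flp_a L5845) L7890
theorem L7894 : sm gc N979 = N979 := ded_28_1 (flp_h L7890) L5851 L7890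
theorem L7895 : sm ge N979 = N910 := ded_37_1 (flp_h L7291) (flp_e L5852) L7890
theorem L7897 : sm gg N979 = N835 := ded_42_1 (flp_h L6729) (flp_g L5847) L7890
theorem L7899 : sm gd N979 = N979 := ded_33_1 (flp_h L7890) (flp_d L5843) L4310 L5843 L7890
theorem L7900 : sm gg N723 = N980 := rfl
theorem L7902 : sm ga N980 = N953 := ded_14_1 (flp_g L7656) (flp_a L5856) L7900
theorem L7904 : sm gc N980 = N724 := ded_27_1 (flp_g L5863) (flp_c L5858) L7900
theorem L7906 : sm gh N980 = N980 := ded_42_2 (flp_g L7900) L5860 L7900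
theorem L7907 : sm gi N980 = N730 := ded_43_2 (flp_g L5911) (flp_i L5861) L7900
theorem L7909 : sm gf N980 = N836 := ded_39_1 (flp_g L6737) (flp_f L4979) (flp_g L4308) L5854 L7900
theorem L7911 : sm gd N725 = N981 := rfl
theorem L7913 : sm ga N981 = N726 := ded_11_1 (flp_d L5885) (flp_a L5877) L7911
theorem L7915 : sm gg N981 = N837 := ded_32_2 (flp_d L6747) (flp_g L5881) L7911
theorem L7917 : sm gf N725 = N982 := rfl
theorem L7919 : sm ga N982 = N727 := ded_13_1 (flp_f L5891) (flp_a L5877) L7917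
theorem L7921 : sm gc N982 = N779 := ded_26_1 (flp_f L6292) (flp_c L5879) L7917
theorem L7923 : sm gh N982 = N738 := ded_40_2 (flp_f L5971) (flp_h L5883) L7917
theorem L7925 : sm gc N726 = N983 := rfl
theorem L7927 : sm gg N983 = N839 := ded_27_2 (flp_c L6760) (flp_g L5889) L7925
theorem L7929 : sm gb N983 = N983 := ded_17_1 (flp_c L7925) L5887 L4345 (flp_b L5887) L7925
theorem L7930 : sm gd N983 = N780 := ded_24_2 (flp_c L6299) (flp_d L4645) (flp_c L4335) L5885 L7925
theorem L7932 : sm gf N726 = N984 := rfl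
theorem L7934 : sm gb N984 = N728 := ded_20_1 (flp_f L5899) (flp_b L5887) L7932
theorem L7936 : sm gd N984 = N727 := ded_31_1 (flp_f L5891) L5885 L7932
theorem L7938 : sm gh N726 = N985 := rfl
theorem L7940 : sm gb N985 = N729 := ded_22_1 (flp_h L5904) (flp_b L5887) L7938
theorem L7942 : sm gg N985 = N841 := ded_42_1 (flp_h L6771) (flp_g L5889) L7938
theorem L7944 : sm gd N985 = N740 := ded_33_1 (flp_h L5986) (flp_d L4409) (flp_h L4339) L5885 L7938
theorem L7946 : sm gg N727 = N986 := rfl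
theorem L7948 : sm gb N986 = N730 := ded_21_1 (flp_g L5911) (flp_b L5893) L7946
theorem L7950 : sm gc N986 = N782 := ded_27_1 (flp_g L6313) (flp_c L5895) L7946
theorem L7952 : sm gh N986 = N741 := ded_42_2 (flp_g L5994) (flp_h L5897) L7946
theorem L7954 : sm gf N986 = N842 := ded_39_1 (flp_g L6777) (flp_f L5012) (flp_g L4337) L5891 L7946
theorem L7956 : sm ge N728 = N987 := rfl
theorem L7958 : sm gc N987 = N987 := ded_25_1 (flp_e L7956) L5901 L7956
theorem L7959 : sm gg N728 = N988 := rfl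
theorem L7961 : sm gc N988 = N988 := ded_27_1 (flp_g L7959) L5901 L7959
theorem L7962 : sm gd N988 = N730 := ded_32_1 (flp_g L5911) (flp_d L5902) L7959
theorem L7964 : sm gf N988 = N844 := ded_39_1 (flp_g L6790) (flp_f L5021) (flp_g L4343) L5899 L7959
theorem L7966 : sm gh N728 = N989 := rfl
theorem L7968 : sm gc N989 = N989 := ded_28_1 (flp_h L7966) L5901 L7966
theorem L7969 : sm gf N989 = N729 := ded_40_1 (flp_h L5904) L5899 L7966
theorem L7971 : sm gd N989 = N744 := ded_33_1 (flp_h L6018) L4429 (flp_h L4350) (flp_d L5902) L7966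
theorem L7973 : sm gi N729 = N990 := rfl
theorem L7975 : sm gc N990 = N990 := ded_29_1 (flp_i L7973) L5906 L7973
theorem L7976 : sm gd N990 = N745 := ded_34_1 (flp_i L6024) (flp_d L5909) L7973
theorem L7978 : sm gg N990 = N846 := ded_43_1 (flp_i L6802) (flp_g L5907) L7973
theorem L7980 : sm gd N731 = N991 := rfl
theorem L7982 : sm ga N991 = N732 := ded_11_1 (flp_d L5927) (flp_a L5921) L7980
theorem L7984 : sm gg N991 = N991 := ded_32_2 (flp_d L7980) L5925 L7980
theorem L7985 : sm gi N991 = N991 := ded_34_2 (flp_d L7980) L5926 L7980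
theorem L7986 : sm ge N991 = N991 := ded_30_2 (flp_d L7980) (flp_e L5919) L4365 L5919 L7980
theorem L7987 : sm gf N731 = N992 := rfl
theorem L7989 : sm ga N992 = N733 := ded_13_1 (flp_f L5934) (flp_a L5921) L7987
theorem L7991 : sm gc N992 = N786 := ded_26_1 (flp_f L6345) (flp_c L5923) L7987
theorem L7993 : sm gi N992 = N992 := ded_41_2 (flp_f L7987) L5926 L7987
theorem L7994 : sm ge N992 = N738 := ded_35_1 (flp_f L5971) (flp_e L4400) (flp_f L4366) L5919 L7987
theorem L7996 : sm gc N732 = N993 := rfl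
theorem L7998 : sm ge N993 = N993 := ded_25_2 (flp_c L7996) L5933 L7996
theorem L7999 : sm gg N993 = N993 := ded_27_2 (flp_c L7996) L5931 L7996
theorem L8000 : sm gi N993 = N993 := ded_29_2 (flp_c L7996) L5932 L7996
theorem L8001 : sm gb N993 = N993 := ded_17_1 (flp_c L7996) L5929 L4382 (flp_b L5929) L7996
theorem L8002 : sm gd N993 = N787 := ded_24_2 (flp_c L6353) (flp_d L4682) (flp_c L4374) L5927 L7996
theorem L8004 : sm gf N732 = N994 := rfl
theorem L8006 : sm gb N994 = N734 := ded_20_1 (flp_f L5943) (flp_b L5929) L8004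
theorem L8008 : sm gd N994 = N733 := ded_31_1 (flp_f L5934) L5927 L8004
theorem L8010 : sm gi N994 = N994 := ded_41_2 (flp_f L8004) L5932 L8004
theorem L8011 : sm gh N732 = N995 := rfl
theorem L8013 : sm gb N995 = N735 := ded_22_1 (flp_h L5949) (flp_b L5929) L8011
theorem L8015 : sm ge N995 = N995 := ded_37_1 (flp_h L8011) L5933 L8011
theorem L8016 : sm gg N995 = N995 := ded_42_1 (flp_h L8011) L5931 L8011
theorem L8017 : sm gg N733 = N996 := rfl
theorem L8019 : sm gb N996 = N736 := ded_21_1 (flp_g L5954) (flp_b L5936) L8017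
theorem L8021 : sm gc N996 = N790 := ded_27_1 (flp_g L6375) (flp_c L5938) L8017
theorem L8023 : sm ge N996 = N741 := ded_36_1 (flp_g L5994) (flp_e L5941) L8017
theorem L8025 : sm gi N996 = N996 := ded_43_2 (flp_g L8017) L5940 L8017
theorem L8026 : sm gf N996 = N996 := ded_39_1 (flp_g L8017) (flp_f L5934) L4376 L5934 L8017
theorem L8027 : sm ge N734 = N997 := rfl
theorem L8029 : sm gc N997 = N997 := ded_25_1 (flp_e L8027) L5945 L8027
theorem L8030 : sm gi N997 = N997 := ded_38_2 (flp_e L8027) L5948 L8027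
theorem L8031 : sm gd N997 = N742 := ded_30_1 (flp_e L6003) L4429 (flp_e L4389) (flp_d L5946) L8027
theorem L8033 : sm gf N997 = N997 := ded_35_2 (flp_e L8027) (flp_f L5943) L4383 L5943 L8027
theorem L8034 : sm gg N734 = N998 := rfl
theorem L8036 : sm gc N998 = N998 := ded_27_1 (flp_g L8034) L5945 L8034
theorem L8037 : sm gd N998 = N736 := ded_32_1 (flp_g L5954) (flp_d L5946) L8034
theorem L8039 : sm gi N998 = N998 := ded_43_2 (flp_g L8034) L5948 L8034
theorem L8040 : sm gf N998 = N998 := ded_39_1 (flp_g L8034) (flp_f L5943) L4380 L5943 L8034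
theorem L8041 : sm gh N734 = N999 := rfl
theorem L8043 : sm gc N999 = N999 := ded_28_1 (flp_h L8041) L5945 L8041
theorem L8044 : sm gf N999 = N735 := ded_40_1 (flp_h L5949) L5943 L8041
theorem L8046 : sm gi N735 = N1000 := rfl
theorem L8048 : sm gc N1000 = N1000 := ded_29_1 (flp_i L8046) L5951 L8046
theorem L8049 : sm ge N1000 = N1000 := ded_38_1 (flp_i L8046) L5952 L8046
theorem L8050 : sm gg N1000 = N1000 := ded_43_1 (flp_i L8046) L5953 L8046
theorem L8051 : sm gh N1000 = N1000 := ded_44_1 (flp_i L8046) (flp_h L5949) L4381 L5949 L8046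
theorem L8052 : sm gf N737 = N1001 := rfl
theorem L8054 : sm ga N1001 = N739 := ded_13_1 (flp_f L5978) (flp_a L5964) L8052
theorem L8056 : sm gc N1001 = N1001 := ded_26_1 (flp_f L8052) L5969 L8052
theorem L8057 : sm gd N1001 = N738 := ded_31_1 (flp_f L5971) L5962 L8052
theorem L8059 : sm gi N1001 = N1001 := ded_41_2 (flp_f L8052) L5968 L8052
theorem L8060 : sm gh N737 = N1002 := rfl
theorem L8062 : sm ga N1002 = N740 := ded_15_1 (flp_h L5986) (flp_a L5964) L8060
theorem L8064 : sm gc N1002 = N1002 := ded_28_1 (flp_h L8060) L5969 L8060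
theorem L8065 : sm ge N1002 = N1002 := ded_37_1 (flp_h L8060) L5970 L8060
theorem L8066 : sm gg N1002 = N848 := ded_42_1 (flp_h L6815) (flp_g L5966) L8060
theorem L8068 : sm gg N738 = N1003 := rfl
theorem L8070 : sm ga N1003 = N741 := ded_14_1 (flp_g L5994) (flp_a L5973) L8068
theorem L8072 : sm gc N1003 = N794 := ded_27_1 (flp_g L6407) (flp_c L5975) L8068
theorem L8074 : sm gi N1003 = N1003 := ded_43_2 (flp_g L8068) L5977 L8068
theorem L8075 : sm gf N1003 = N849 := ded_39_1 (flp_g L6821) (flp_f L5045) (flp_g L4406) L5971 L8068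
theorem L8077 : sm ge N739 = N1004 := rfl
theorem L8079 : sm gb N1004 = N742 := ded_19_1 (flp_e L6003) (flp_b L5980) L8077
theorem L8081 : sm gc N1004 = N1004 := ded_25_1 (flp_e L8077) L5982 L8077
theorem L8082 : sm gi N1004 = N1004 := ded_38_2 (flp_e L8077) L5985 L8077
theorem L8083 : sm gf N1004 = N1004 := ded_35_2 (flp_e L8077) (flp_f L5978) L4417 L5978 L8077
theorem L8084 : sm gg N739 = N1005 := rfl
theorem L8089 : sm gd N1005 = N741 := ded_32_1 (flp_g L5994) (flp_d L5983) L8084
theorem L8092 : sm gf N1005 = N851 := ded_39_1 (flp_g L6837) (flp_f L5053) (flp_g L4413) L5978 L8084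
theorem L8094 : sm gh N739 = N1006 := rfl
theorem L8096 : sm gb N1006 = N744 := ded_22_1 (flp_h L6018) (flp_b L5980) L8094
theorem L8098 : sm gc N1006 = N1006 := ded_28_1 (flp_h L8094) L5982 L8094
theorem L8099 : sm gf N1006 = N740 := ded_40_1 (flp_h L5986) L5978 L8094
theorem L8101 : sm gi N740 = N1007 := rfl
theorem L8103 : sm gb N1007 = N745 := ded_23_1 (flp_i L6024) (flp_b L5988) L8101
theorem L8105 : sm gc N1007 = N1007 := ded_29_1 (flp_i L8101) L5990 L8101
theorem L8106 : sm ge N1007 = N1007 := ded_38_1 (flp_i L8101) L5991 L8101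
theorem L8107 : sm gg N1007 = N853 := ded_43_1 (flp_i L6852) (flp_g L5992) L8101
theorem L8109 : sm gh N1007 = N1007 := ded_44_1 (flp_i L8101) (flp_h L5986) L4415 L5986 L8101
theorem L8110 : sm gg N742 = N1008 := rfl
theorem L8112 : sm gc N1008 = N746 := ded_27_1 (flp_g L6032) (flp_c L6005) L8110
theorem L8114 : sm ge N1008 = N743 := ded_36_1 (flp_g L6009) L6003 L8110
theorem L8117 : sm gh N742 = N1009 := rfl
theorem L8119 : sm gc N1009 = N747 := ded_28_1 (flp_h L6039) (flp_c L6005) L8117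
theorem L8121 : sm ge N1009 = N744 := ded_37_1 (flp_h L6018) L6003 L8117
theorem L8123 : sm gf N1009 = N1009 := ded_40_1 (flp_h L8117) L6008 L8117
theorem L8124 : sm gh N743 = N1010 := rfl
theorem L8132 : sm gi N744 = N1011 := rfl
theorem L8136 : sm gf N1011 = N745 := ded_41_1 (flp_i L6024) (flp_f L6022) L8132
theorem L8139 : sm gf N746 = N1012 := rfl
theorem L8144 : sm ge N1012 = N858 := ded_35_1 (flp_f L6887) L5106 (flp_f L4458) (flp_e L6036) L8139
theorem L8147 : sm gh N746 = N1013 := rfl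
theorem L8150 : sm ge N1013 = N748 := ded_37_1 (flp_h L6045) (flp_e L6036) L8147
theorem L8152 : sm gg N1013 = N747 := ded_42_1 (flp_h L6039) L6032 L8147
theorem L8154 : sm gd N747 = N1014 := rfl
theorem L8156 : sm gb N1014 = N1014 := ded_18_1 (flp_d L8154) L6041 L8154
theorem L8157 : sm gf N1014 = N1014 := ded_31_2 (flp_d L8154) L6044 L8154
theorem L8158 : sm ge N1014 = N1014 := ded_30_2 (flp_d L8154) L6042 L4465 (flp_e L6042) L8154
theorem L8159 : sm gh N1014 = N1014 := ded_33_2 (flp_d L8154) (flp_h L6039) L4450 L6039 L8154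
theorem L8160 : sm gi N747 = N1015 := rfl
theorem L8163 : sm ge N1015 = N749 := ded_38_1 (flp_i L6053) (flp_e L6042) L8160
theorem L8167 : sm gi N748 = N1016 := rfl
theorem L8173 : sm gg N1016 = N749 := ded_43_1 (flp_i L6053) (flp_g L6050) L8167
theorem L8176 : sm gc N750 = N1017 := rfl
theorem L8178 : sm ga N1017 = N1017 := ded_10_1 (flp_c L8176) L6062 L8176
theorem L8179 : sm gf N1017 = N1017 := ded_26_2 (flp_c L8176) L6064 L8176
theorem L8180 : sm gg N1017 = N1017 := ded_27_2 (flp_c L8176) L6065 L8176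
theorem L8181 : sm gh N1017 = N1017 := ded_28_2 (flp_c L8176) L6067 L8176
theorem L8182 : sm gi N1017 = N1017 := ded_29_2 (flp_c L8176) L6066 L8176
theorem L8183 : sm gd N1017 = N751 := ded_24_2 (flp_c L6068) (flp_d L4484) (flp_c L4478) L6060 L8176
theorem L8185 : sm ge N750 = N1018 := rfl
theorem L8187 : sm ga N1018 = N1018 := ded_12_1 (flp_e L8185) L6062 L8185
theorem L8188 : sm gb N1018 = N1018 := ded_19_1 (flp_e L8185) L6063 L8185
theorem L8189 : sm gg N1018 = N1018 := ded_36_2 (flp_e L8185) L6065 L8185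
theorem L8190 : sm gh N1018 = N1018 := ded_37_2 (flp_e L8185) L6067 L8185
theorem L8191 : sm gi N1018 = N1018 := ded_38_2 (flp_e L8185) L6066 L8185
theorem L8192 : sm gd N1018 = N1018 := ded_30_1 (flp_e L8185) (flp_d L6060) L4480 L6060 L8185
theorem L8193 : sm gb N751 = N1019 := rfl
theorem L8195 : sm gf N1019 = N1019 := ded_20_2 (flp_b L8193) L6071 L8193
theorem L8196 : sm gg N1019 = N1019 := ded_21_2 (flp_b L8193) L6072 L8193
theorem L8197 : sm gh N1019 = N753 := ded_22_2 (flp_b L6084) (flp_h L6073) L8193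
theorem L8199 : sm gi N1019 = N1019 := ded_23_2 (flp_b L8193) L6075 L8193
theorem L8200 : sm ge N751 = N1020 := rfl
theorem L8202 : sm ga N1020 = N1020 := ded_12_1 (flp_e L8200) L6070 L8200
theorem L8203 : sm gc N1020 = N752 := ded_25_1 (flp_e L6076) L6068 L8200
theorem L8205 : sm gg N1020 = N1020 := ded_36_2 (flp_e L8200) L6072 L8200
theorem L8206 : sm gh N1020 = N754 := ded_37_2 (flp_e L6091) (flp_h L6073) L8200
theorem L8208 : sm gi N1020 = N1020 := ded_38_2 (flp_e L8200) L6075 L8200
theorem L8209 : sm gf N752 = N1021 := rfl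
theorem L8211 : sm ga N1021 = N1021 := ded_13_1 (flp_f L8209) L6078 L8209
theorem L8212 : sm gd N1021 = N1021 := ded_31_1 (flp_f L8209) L6083 L8209
theorem L8213 : sm gh N1021 = N755 := ded_40_2 (flp_f L6099) (flp_h L6080) L8209
theorem L8215 : sm gi N1021 = N1021 := ded_41_2 (flp_f L8209) L6082 L8209
theorem L8216 : sm ge N1021 = N1021 := ded_35_1 (flp_f L8209) (flp_e L6076) L4487 L6076 L8209
theorem L8217 : sm ga N753 = N1022 := rfl
theorem L8219 : sm gd N1022 = N1022 := ded_11_2 (flp_a L8217) L6086 L8217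
theorem L8220 : sm gf N1022 = N1022 := ded_13_2 (flp_a L8217) L6087 L8217
theorem L8221 : sm gg N1022 = N1022 := ded_14_2 (flp_a L8217) L6088 L8217
theorem L8222 : sm gi N1022 = N756 := ded_16_2 (flp_a L6107) (flp_i L6089) L8217
theorem L8224 : sm gb N1022 = N1022 := ded_9_2 (flp_a L8217) (flp_b L6084) L4494 L6084 L8217
theorem L8225 : sm ge N753 = N1023 := rfl
theorem L8227 : sm gb N1023 = N754 := ded_19_1 (flp_e L6091) L6084 L8225
theorem L8229 : sm gg N1023 = N1023 := ded_36_2 (flp_e L8225) L6088 L8225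
theorem L8230 : sm gi N1023 = N757 := ded_38_2 (flp_e L6114) (flp_i L6089) L8225
theorem L8232 : sm gd N754 = N1024 := rfl
theorem L8234 : sm ga N1024 = N1024 := ded_11_1 (flp_d L8232) L6093 L8232
theorem L8235 : sm gg N1024 = N1024 := ded_32_2 (flp_d L8232) L6096 L8232
theorem L8236 : sm gi N1024 = N758 := ded_34_2 (flp_d L6120) (flp_i L6097) L8232
theorem L8238 : sm gc N1024 = N763 := ded_24_1 (flp_d L6160) L4540 (flp_d L4506) (flp_c L6094) L8232
theorem L8240 : sm ge N1024 = N1024 := ded_30_2 (flp_d L8232) (flp_e L6091) L4499 L6091 L8232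
theorem L8241 : sm gf N754 = N1025 := rfl
theorem L8243 : sm ga N1025 = N1025 := ded_13_1 (flp_f L8241) L6093 L8241
theorem L8244 : sm gc N1025 = N755 := ded_26_1 (flp_f L6099) (flp_c L6094) L8241
theorem L8246 : sm gi N1025 = N759 := ded_41_2 (flp_f L6127) (flp_i L6097) L8241
theorem L8248 : sm ge N1025 = N1025 := ded_35_1 (flp_f L8241) (flp_e L6091) L4495 L6091 L8241
theorem L8249 : sm gg N755 = N1026 := rfl
theorem L8251 : sm ga N1026 = N1026 := ded_14_1 (flp_g L8249) L6101 L8249
theorem L8252 : sm gd N1026 = N765 := ded_32_1 (flp_g L6177) (flp_d L6102) L8249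
theorem L8254 : sm ge N1026 = N1026 := ded_36_1 (flp_g L8249) L6106 L8249
theorem L8255 : sm gi N1026 = N760 := ded_43_2 (flp_g L6134) (flp_i L6104) L8249
theorem L8257 : sm gf N1026 = N1026 := ded_39_1 (flp_g L8249) (flp_f L6099) L4503 L6099 L8249
theorem L8258 : sm ge N756 = N1027 := rfl
theorem L8260 : sm ga N1027 = N757 := ded_12_1 (flp_e L6114) L6107 L8258
theorem L8262 : sm gb N1027 = N1027 := ded_19_1 (flp_e L8258) L6113 L8258
theorem L8263 : sm gg N1027 = N1027 := ded_36_2 (flp_e L8258) L6111 L8258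
theorem L8264 : sm gh N1027 = N1027 := ded_37_2 (flp_e L8258) L6112 L8258
theorem L8265 : sm gd N757 = N1028 := rfl
theorem L8267 : sm gb N1028 = N758 := ded_18_1 (flp_d L6120) (flp_b L6116) L8265
theorem L8269 : sm gg N1028 = N1028 := ded_32_2 (flp_d L8265) L6118 L8265
theorem L8270 : sm ge N1028 = N1028 := ded_30_2 (flp_d L8265) (flp_e L6114) L4510 L6114 L8265
theorem L8271 : sm gf N757 = N1029 := rfl
theorem L8273 : sm gb N1029 = N759 := ded_20_1 (flp_f L6127) (flp_b L6116) L8271
theorem L8275 : sm gh N1029 = N1029 := ded_40_2 (flp_f L8271) L6119 L8271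
theorem L8276 : sm ge N1029 = N1029 := ded_35_1 (flp_f L8271) (flp_e L6114) L4511 L6114 L8271
theorem L8277 : sm gf N758 = N1030 := rfl
theorem L8279 : sm ga N1030 = N1030 := ded_13_1 (flp_f L8277) L6122 L8277
theorem L8280 : sm gc N1030 = N769 := ded_26_1 (flp_f L6208) (flp_c L6124) L8277
theorem L8282 : sm gd N1030 = N759 := ded_31_1 (flp_f L6127) L6120 L8277
theorem L8284 : sm gh N758 = N1031 := rfl
theorem L8286 : sm ga N1031 = N1031 := ded_15_1 (flp_h L8284) L6122 L8284
theorem L8287 : sm gc N1031 = N770 := ded_28_1 (flp_h L6213) (flp_c L6124) L8284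
theorem L8289 : sm ge N1031 = N1031 := ded_37_1 (flp_h L8284) L6126 L8284
theorem L8290 : sm gg N1031 = N1031 := ded_42_1 (flp_h L8284) L6123 L8284
theorem L8291 : sm gd N1031 = N1031 := ded_33_1 (flp_h L8284) (flp_d L6120) L4520 L6120 L8284
theorem L8292 : sm gg N759 = N1032 := rfl
theorem L8294 : sm ga N1032 = N1032 := ded_14_1 (flp_g L8292) L6129 L8292
theorem L8295 : sm gc N1032 = N760 := ded_27_1 (flp_g L6134) (flp_c L6130) L8292
theorem L8297 : sm ge N1032 = N1032 := ded_36_1 (flp_g L8292) L6133 L8292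
theorem L8298 : sm gh N1032 = N1032 := ded_42_2 (flp_g L8292) L6132 L8292
theorem L8299 : sm gf N1032 = N1032 := ded_39_1 (flp_g L8292) (flp_f L6127) L4519 L6127 L8292
theorem L8300 : sm ge N761 = N1033 := rfl
theorem L8302 : sm ga N1033 = N762 := ded_12_1 (flp_e L6152) L6142 L8300
theorem L8304 : sm gb N1033 = N1033 := ded_19_1 (flp_e L8300) L6151 L8300
theorem L8305 : sm gg N1033 = N1033 := ded_36_2 (flp_e L8300) L6147 L8300
theorem L8306 : sm gh N1033 = N1033 := ded_37_2 (flp_e L8300) L6148 L8300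
theorem L8307 : sm gi N1033 = N766 := ded_38_2 (flp_e L6186) (flp_i L6149) L8300
theorem L8309 : sm gd N762 = N1034 := rfl
theorem L8311 : sm gb N1034 = N763 := ded_18_1 (flp_d L6160) (flp_b L6154) L8309
theorem L8313 : sm gg N1034 = N1034 := ded_32_2 (flp_d L8309) L6156 L8309
theorem L8314 : sm gi N1034 = N767 := ded_34_2 (flp_d L6194) (flp_i L6158) L8309
theorem L8316 : sm ge N1034 = N1034 := ded_30_2 (flp_d L8309) (flp_e L6152) L4530 L6152 L8309
theorem L8317 : sm gf N762 = N1035 := rfl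
theorem L8319 : sm gb N1035 = N764 := ded_20_1 (flp_f L6167) (flp_b L6154) L8317
theorem L8321 : sm gh N1035 = N1035 := ded_40_2 (flp_f L8317) L6157 L8317
theorem L8322 : sm gi N1035 = N768 := ded_41_2 (flp_f L6200) (flp_i L6158) L8317
theorem L8324 : sm ge N1035 = N774 := ded_35_1 (flp_f L6249) (flp_e L4601) (flp_f L4531) L6152 L8317
theorem L8326 : sm gf N763 = N1036 := rfl
theorem L8328 : sm ga N1036 = N1036 := ded_13_1 (flp_f L8326) L6162 L8326
theorem L8329 : sm gd N1036 = N764 := ded_31_1 (flp_f L6167) L6160 L8326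
theorem L8331 : sm gi N1036 = N769 := ded_41_2 (flp_f L6208) (flp_i L6164) L8326
theorem L8333 : sm gh N763 = N1037 := rfl
theorem L8335 : sm ga N1037 = N1037 := ded_15_1 (flp_h L8333) L6162 L8333
theorem L8336 : sm ge N1037 = N1037 := ded_37_1 (flp_h L8333) L6166 L8333
theorem L8337 : sm gg N1037 = N1037 := ded_42_1 (flp_h L8333) L6163 L8333
theorem L8338 : sm gd N1037 = N1037 := ded_33_1 (flp_h L8333) (flp_d L6160) L4543 L6160 L8333
theorem L8339 : sm gg N764 = N1038 := rfl
theorem L8341 : sm ga N1038 = N1038 := ded_14_1 (flp_g L8339) L6169 L8339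
theorem L8342 : sm gc N1038 = N765 := ded_27_1 (flp_g L6177) (flp_c L6170) L8339
theorem L8344 : sm ge N1038 = N777 := ded_36_1 (flp_g L6273) (flp_e L6175) L8339
theorem L8346 : sm gh N1038 = N1038 := ded_42_2 (flp_g L8339) L6172 L8339
theorem L8347 : sm gi N1038 = N771 := ded_43_2 (flp_g L6220) (flp_i L6173) L8339
theorem L8349 : sm gf N1038 = N1038 := ded_39_1 (flp_g L8339) (flp_f L6167) L4542 L6167 L8339
theorem L8350 : sm gd N766 = N1039 := rfl
theorem L8352 : sm ga N1039 = N767 := ded_11_1 (flp_d L6194) (flp_a L6188) L8350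
theorem L8354 : sm gb N1039 = N1039 := ded_18_1 (flp_d L8350) L6190 L8350
theorem L8355 : sm gg N1039 = N1039 := ded_32_2 (flp_d L8350) L6191 L8350
theorem L8356 : sm ge N1039 = N1039 := ded_30_2 (flp_d L8350) (flp_e L6186) L4556 L6186 L8350
theorem L8357 : sm gf N766 = N1040 := rfl
theorem L8359 : sm ga N1040 = N768 := ded_13_1 (flp_f L6200) (flp_a L6188) L8357
theorem L8361 : sm gb N1040 = N1040 := ded_20_1 (flp_f L8357) L6190 L8357
theorem L8362 : sm gh N1040 = N786 := ded_40_2 (flp_f L6345) (flp_h L6192) L8357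
theorem L8364 : sm ge N1040 = N779 := ded_35_1 (flp_f L6292) (flp_e L4636) (flp_f L4557) L6186 L8357
theorem L8366 : sm gc N767 = N1041 := rfl
theorem L8368 : sm ge N1041 = N1041 := ded_25_2 (flp_c L8366) L6199 L8366
theorem L8369 : sm gg N1041 = N1041 := ded_27_2 (flp_c L8366) L6198 L8366
theorem L8370 : sm gf N767 = N1042 := rfl
theorem L8372 : sm gb N1042 = N769 := ded_20_1 (flp_f L6208) (flp_b L6196) L8370
theorem L8374 : sm gd N1042 = N768 := ded_31_1 (flp_f L6200) L6194 L8370
theorem L8376 : sm gh N767 = N1043 := rfl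
theorem L8378 : sm gb N1043 = N770 := ded_22_1 (flp_h L6213) (flp_b L6196) L8376
theorem L8380 : sm ge N1043 = N1043 := ded_37_1 (flp_h L8376) L6199 L8376
theorem L8381 : sm gg N1043 = N1043 := ded_42_1 (flp_h L8376) L6198 L8376
theorem L8382 : sm gd N1043 = N789 := ded_33_1 (flp_h L6368) (flp_d L4682) (flp_h L4568) L6194 L8376
theorem L8384 : sm gg N768 = N1044 := rfl
theorem L8386 : sm gb N1044 = N771 := ded_21_1 (flp_g L6220) (flp_b L6202) L8384
theorem L8388 : sm ge N1044 = N782 := ded_36_1 (flp_g L6313) (flp_e L6206) L8384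
theorem L8390 : sm gh N1044 = N790 := ded_42_2 (flp_g L6375) (flp_h L6204) L8384
theorem L8392 : sm gf N1044 = N1044 := ded_39_1 (flp_g L8384) (flp_f L6200) L4567 L6200 L8384
theorem L8393 : sm ge N769 = N1045 := rfl
theorem L8395 : sm ga N1045 = N1045 := ded_12_1 (flp_e L8393) L6210 L8393
theorem L8396 : sm gd N1045 = N783 := ded_30_1 (flp_e L6321) L4663 (flp_e L4582) (flp_d L6211) L8393
theorem L8398 : sm gf N1045 = N1045 := ded_35_2 (flp_e L8393) (flp_f L6208) L4574 L6208 L8393
theorem L8399 : sm gg N769 = N1046 := rfl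
theorem L8401 : sm ga N1046 = N1046 := ded_14_1 (flp_g L8399) L6210 L8399
theorem L8402 : sm gd N1046 = N771 := ded_32_1 (flp_g L6220) (flp_d L6211) L8399
theorem L8404 : sm gf N1046 = N1046 := ded_39_1 (flp_g L8399) (flp_f L6208) L4573 L6208 L8399
theorem L8405 : sm gh N769 = N1047 := rfl
theorem L8407 : sm ga N1047 = N1047 := ded_15_1 (flp_h L8405) L6210 L8405
theorem L8408 : sm gf N1047 = N770 := ded_40_1 (flp_h L6213) L6208 L8405
theorem L8410 : sm gd N1047 = N792 := ded_33_1 (flp_h L6392) L4701 (flp_h L4580) (flp_d L6211) L8405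
theorem L8412 : sm gi N770 = N1048 := rfl
theorem L8414 : sm ga N1048 = N1048 := ded_16_1 (flp_i L8412) L6215 L8412
theorem L8415 : sm gd N1048 = N793 := ded_34_1 (flp_i L6399) (flp_d L6218) L8412
theorem L8417 : sm ge N1048 = N1048 := ded_38_1 (flp_i L8412) L6216 L8412
theorem L8418 : sm gg N1048 = N1048 := ded_43_1 (flp_i L8412) L6217 L8412
theorem L8419 : sm gd N772 = N1049 := rfl
theorem L8421 : sm ga N1049 = N773 := ded_11_1 (flp_d L6240) (flp_a L6232) L8419
theorem L8423 : sm gb N1049 = N1049 := ded_18_1 (flp_d L8419) L6234 L8419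
theorem L8424 : sm gg N1049 = N863 := ded_32_2 (flp_d L6922) (flp_g L6235) L8419
theorem L8426 : sm gi N1049 = N778 := ded_34_2 (flp_d L6283) (flp_i L6238) L8419
theorem L8428 : sm ge N1049 = N1049 := ded_30_2 (flp_d L8419) (flp_e L6230) L4594 L6230 L8419
theorem L8429 : sm gf N772 = N1050 := rfl
theorem L8431 : sm ga N1050 = N774 := ded_13_1 (flp_f L6249) (flp_a L6232) L8429
theorem L8433 : sm gb N1050 = N1050 := ded_20_1 (flp_f L8429) L6234 L8429
theorem L8434 : sm gh N1050 = N1050 := ded_40_2 (flp_f L8429) L6237 L8429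
theorem L8435 : sm gi N1050 = N779 := ded_41_2 (flp_f L6292) (flp_i L6238) L8429
theorem L8437 : sm gc N773 = N1051 := rfl
theorem L8439 : sm ge N1051 = N1051 := ded_25_2 (flp_c L8437) L6248 L8437
theorem L8440 : sm gg N1051 = N865 := ded_27_2 (flp_c L6939) (flp_g L6244) L8437
theorem L8442 : sm gi N1051 = N780 := ded_29_2 (flp_c L6299) (flp_i L6246) L8437
theorem L8444 : sm gb N1051 = N1051 := ded_17_1 (flp_c L8437) L6242 L4617 (flp_b L6242) L8437
theorem L8445 : sm gf N773 = N1052 := rfl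
theorem L8447 : sm gb N1052 = N775 := ded_20_1 (flp_f L6256) (flp_b L6242) L8445
theorem L8449 : sm gd N1052 = N774 := ded_31_1 (flp_f L6249) L6240 L8445
theorem L8451 : sm gi N1052 = N781 := ded_41_2 (flp_f L6306) (flp_i L6246) L8445
theorem L8453 : sm gh N773 = N1053 := rfl
theorem L8455 : sm gb N1053 = N776 := ded_22_1 (flp_h L6264) (flp_b L6242) L8453
theorem L8457 : sm ge N1053 = N1053 := ded_37_1 (flp_h L8453) L6248 L8453
theorem L8458 : sm gg N1053 = N867 := ded_42_1 (flp_h L6953) (flp_g L6244) L8453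
theorem L8460 : sm gd N1053 = N1053 := ded_33_1 (flp_h L8453) (flp_d L6240) L4607 L6240 L8453
theorem L8461 : sm gi N1053 = N1053 := ded_44_2 (flp_h L8453) L6246 L4652 (flp_i L6246) L8453
theorem L8462 : sm gg N774 = N1054 := rfl
theorem L8464 : sm gb N1054 = N777 := ded_21_1 (flp_g L6273) (flp_b L6251) L8462
theorem L8466 : sm gh N1054 = N1054 := ded_42_2 (flp_g L8462) L6253 L8462
theorem L8467 : sm gi N1054 = N782 := ded_43_2 (flp_g L6313) (flp_i L6254) L8462
theorem L8469 : sm gf N1054 = N868 := ded_39_1 (flp_g L6960) (flp_f L5143) (flp_g L4605) L6249 L8462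
theorem L8471 : sm ge N775 = N1055 := rfl
theorem L8473 : sm ga N1055 = N1055 := ded_12_1 (flp_e L8471) L6258 L8471
theorem L8474 : sm gc N1055 = N1055 := ded_25_1 (flp_e L8471) L6259 L8471
theorem L8475 : sm gi N1055 = N783 := ded_38_2 (flp_e L6321) (flp_i L6262) L8471
theorem L8477 : sm gf N1055 = N1055 := ded_35_2 (flp_e L8471) (flp_f L6256) L4618 L6256 L8471
theorem L8478 : sm gg N775 = N1056 := rfl
theorem L8480 : sm ga N1056 = N1056 := ded_14_1 (flp_g L8478) L6258 L8478
theorem L8481 : sm gc N1056 = N1056 := ded_27_1 (flp_g L8478) L6259 L8478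
theorem L8482 : sm gd N1056 = N777 := ded_32_1 (flp_g L6273) (flp_d L6260) L8478
theorem L8484 : sm gi N1056 = N784 := ded_43_2 (flp_g L6327) (flp_i L6262) L8478
theorem L8486 : sm gf N1056 = N870 := ded_39_1 (flp_g L6976) (flp_f L5151) (flp_g L4613) L6256 L8478
theorem L8488 : sm gh N775 = N1057 := rfl
theorem L8490 : sm ga N1057 = N1057 := ded_15_1 (flp_h L8488) L6258 L8488
theorem L8491 : sm gc N1057 = N1057 := ded_28_1 (flp_h L8488) L6259 L8488
theorem L8492 : sm gf N1057 = N776 := ded_40_1 (flp_h L6264) L6256 L8488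
theorem L8494 : sm gd N1057 = N1057 := ded_33_1 (flp_h L8488) L6260 L4624 (flp_d L6260) L8488
theorem L8495 : sm gi N1057 = N1057 := ded_44_2 (flp_h L8488) L6262 L4665 (flp_i L6262) L8488
theorem L8496 : sm gc N778 = N1058 := rfl
theorem L8498 : sm ga N1058 = N780 := ded_10_1 (flp_c L6299) (flp_a L6285) L8496
theorem L8500 : sm ge N1058 = N1058 := ded_25_2 (flp_c L8496) L6290 L8496
theorem L8501 : sm gg N1058 = N872 := ded_27_2 (flp_c L6992) (flp_g L6288) L8496
theorem L8503 : sm gh N1058 = N1058 := ded_28_2 (flp_c L8496) L6291 L8496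
theorem L8504 : sm gf N778 = N1059 := rfl
theorem L8506 : sm ga N1059 = N781 := ded_13_1 (flp_f L6306) (flp_a L6285) L8504
theorem L8508 : sm gb N1059 = N1059 := ded_20_1 (flp_f L8504) L6287 L8504
theorem L8509 : sm gd N1059 = N779 := ded_31_1 (flp_f L6292) L6283 L8504
theorem L8511 : sm gh N1059 = N1059 := ded_40_2 (flp_f L8504) L6291 L8504
theorem L8512 : sm gg N779 = N1060 := rfl
theorem L8514 : sm ga N1060 = N782 := ded_14_1 (flp_g L6313) (flp_a L6294) L8512
theorem L8516 : sm gb N1060 = N1060 := ded_21_1 (flp_g L8512) L6296 L8512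
theorem L8517 : sm gh N1060 = N794 := ded_42_2 (flp_g L6407) (flp_h L6297) L8512
theorem L8519 : sm gf N1060 = N874 := ded_39_1 (flp_g L7006) (flp_f L5182) (flp_g L4641) L6292 L8512
theorem L8521 : sm gf N780 = N1061 := rfl
theorem L8523 : sm gb N1061 = N1061 := ded_20_1 (flp_f L8521) L6305 L8521
theorem L8524 : sm gc N1061 = N781 := ded_26_1 (flp_f L6306) L6299 L8521
theorem L8526 : sm gh N1061 = N1061 := ded_40_2 (flp_f L8521) L6304 L8521
theorem L8527 : sm ge N781 = N1062 := rfl
theorem L8529 : sm gb N1062 = N783 := ded_19_1 (flp_e L6321) (flp_b L6308) L8527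
theorem L8531 : sm gh N1062 = N1062 := ded_37_2 (flp_e L8527) L6312 L8527
theorem L8532 : sm gf N1062 = N1062 := ded_35_2 (flp_e L8527) (flp_f L6306) L4651 L6306 L8527
theorem L8533 : sm gg N781 = N1063 := rfl
theorem L8535 : sm gb N1063 = N784 := ded_21_1 (flp_g L6327) (flp_b L6308) L8533
theorem L8537 : sm gd N1063 = N782 := ded_32_1 (flp_g L6313) (flp_d L6310) L8533
theorem L8539 : sm gh N1063 = N1063 := ded_42_2 (flp_g L8533) L6312 L8533
theorem L8540 : sm gf N1063 = N877 := ded_39_1 (flp_g L7027) (flp_f L5195) (flp_g L4649) L6306 L8533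
theorem L8542 : sm gg N783 = N1064 := rfl
theorem L8544 : sm ga N1064 = N1064 := ded_14_1 (flp_g L8542) L6323 L8542
theorem L8545 : sm gc N1064 = N1064 := ded_27_1 (flp_g L8542) L6324 L8542
theorem L8546 : sm ge N1064 = N784 := ded_36_1 (flp_g L6327) L6321 L8542
theorem L8548 : sm gh N1064 = N1064 := ded_42_2 (flp_g L8542) L6325 L8542
theorem L8549 : sm gc N785 = N1065 := rfl
theorem L8551 : sm ga N1065 = N787 := ded_10_1 (flp_c L6353) (flp_a L6338) L8549
theorem L8553 : sm ge N1065 = N795 := ded_25_2 (flp_c L6416) (flp_e L6343) L8549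
theorem L8555 : sm gg N1065 = N1065 := ded_27_2 (flp_c L8549) L6341 L8549
theorem L8556 : sm gi N1065 = N1065 := ded_29_2 (flp_c L8549) L6342 L8549
theorem L8557 : sm gf N785 = N1066 := rfl
theorem L8559 : sm ga N1066 = N788 := ded_13_1 (flp_f L6360) (flp_a L6338) L8557
theorem L8561 : sm gb N1066 = N1066 := ded_20_1 (flp_f L8557) L6340 L8557
theorem L8562 : sm gd N1066 = N786 := ded_31_1 (flp_f L6345) L6336 L8557
theorem L8564 : sm gi N1066 = N1066 := ded_41_2 (flp_f L8557) L6342 L8557
theorem L8565 : sm ge N1066 = N1066 := ded_35_1 (flp_f L8557) L6343 L4741 (flp_e L6343) L8557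
theorem L8566 : sm gh N785 = N1067 := rfl
theorem L8568 : sm ga N1067 = N789 := ded_15_1 (flp_h L6368) (flp_a L6338) L8566
theorem L8570 : sm gb N1067 = N1067 := ded_22_1 (flp_h L8566) L6340 L8566
theorem L8571 : sm ge N1067 = N796 := ded_37_1 (flp_h L6424) (flp_e L6343) L8566
theorem L8573 : sm gg N1067 = N1067 := ded_42_1 (flp_h L8566) L6341 L8566
theorem L8574 : sm gg N786 = N1068 := rfl
theorem L8576 : sm ga N1068 = N790 := ded_14_1 (flp_g L6375) (flp_a L6347) L8574
theorem L8578 : sm gb N1068 = N1068 := ded_21_1 (flp_g L8574) L6349 L8574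
theorem L8579 : sm ge N1068 = N794 := ded_36_1 (flp_g L6407) (flp_e L6351) L8574
theorem L8581 : sm gi N1068 = N1068 := ded_43_2 (flp_g L8574) L6350 L8574
theorem L8582 : sm gf N1068 = N1068 := ded_39_1 (flp_g L8574) (flp_f L6345) L4680 L6345 L8574
theorem L8583 : sm gf N787 = N1069 := rfl
theorem L8585 : sm gb N1069 = N1069 := ded_20_1 (flp_f L8583) L6359 L8583
theorem L8586 : sm gc N1069 = N788 := ded_26_1 (flp_f L6360) L6353 L8583
theorem L8588 : sm gi N1069 = N1069 := ded_41_2 (flp_f L8583) L6358 L8583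
theorem L8589 : sm ge N1069 = N1069 := ded_35_1 (flp_f L8583) L6355 L4746 (flp_e L6355) L8583
theorem L8590 : sm gh N787 = N1070 := rfl
theorem L8592 : sm gb N1070 = N1070 := ded_22_1 (flp_h L8590) L6359 L8590
theorem L8593 : sm gc N1070 = N789 := ded_28_1 (flp_h L6368) L6353 L8590
theorem L8595 : sm ge N1070 = N797 := ded_37_1 (flp_h L6432) (flp_e L6355) L8590
theorem L8597 : sm gg N1070 = N1070 := ded_42_1 (flp_h L8590) L6357 L8590
theorem L8598 : sm gg N788 = N1071 := rfl
theorem L8600 : sm gb N1071 = N791 := ded_21_1 (flp_g L6383) (flp_b L6362) L8598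
theorem L8602 : sm gd N1071 = N790 := ded_32_1 (flp_g L6375) (flp_d L6364) L8598
theorem L8604 : sm ge N1071 = N1071 := ded_36_1 (flp_g L8598) L6367 L8598
theorem L8605 : sm gi N1071 = N1071 := ded_43_2 (flp_g L8598) L6366 L8598
theorem L8606 : sm gf N1071 = N1071 := ded_39_1 (flp_g L8598) (flp_f L6360) L4686 L6360 L8598
theorem L8607 : sm gh N788 = N1072 := rfl
theorem L8609 : sm gb N1072 = N792 := ded_22_1 (flp_h L6392) (flp_b L6362) L8607
theorem L8611 : sm ge N1072 = N1072 := ded_37_1 (flp_h L8607) L6367 L8607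
theorem L8612 : sm gf N1072 = N789 := ded_40_1 (flp_h L6368) L6360 L8607
theorem L8614 : sm gi N789 = N1073 := rfl
theorem L8616 : sm gb N1073 = N793 := ded_23_1 (flp_i L6399) (flp_b L6370) L8614
theorem L8618 : sm ge N1073 = N798 := ded_38_1 (flp_i L6439) (flp_e L6372) L8614
theorem L8620 : sm gg N1073 = N1073 := ded_43_1 (flp_i L8614) L6374 L8614
theorem L8621 : sm gh N1073 = N1073 := ded_44_1 (flp_i L8614) (flp_h L6368) L4687 L6368 L8614
theorem L8622 : sm gh N791 = N1074 := rfl
theorem L8624 : sm ga N1074 = N1074 := ded_15_1 (flp_h L8622) L6385 L8622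
theorem L8625 : sm gc N1074 = N1074 := ded_28_1 (flp_h L8622) L6386 L8622
theorem L8626 : sm ge N1074 = N1074 := ded_37_1 (flp_h L8622) L6389 L8622
theorem L8627 : sm gf N1074 = N1074 := ded_40_1 (flp_h L8622) L6391 L8622
theorem L8628 : sm gg N1074 = N792 := ded_42_1 (flp_h L6392) L6383 L8622
theorem L8630 : sm gi N792 = N1075 := rfl
theorem L8632 : sm ga N1075 = N1075 := ded_16_1 (flp_i L8630) L6394 L8630
theorem L8633 : sm gc N1075 = N1075 := ded_29_1 (flp_i L8630) L6395 L8630
theorem L8634 : sm ge N1075 = N1075 := ded_38_1 (flp_i L8630) L6396 L8630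
theorem L8635 : sm gf N1075 = N793 := ded_41_1 (flp_i L6399) (flp_f L6397) L8630
theorem L8637 : sm gh N1075 = N1075 := ded_44_1 (flp_i L8630) (flp_h L6392) L4703 L6392 L8630
theorem L8638 : sm gb N795 = N1076 := rfl
theorem L8640 : sm gd N1076 = N1076 := ded_18_2 (flp_b L8638) L6423 L8638
theorem L8641 : sm gf N1076 = N1076 := ded_20_2 (flp_b L8638) L6420 L8638
theorem L8642 : sm gg N1076 = N1076 := ded_21_2 (flp_b L8638) L6421 L8638
theorem L8643 : sm gi N1076 = N1076 := ded_23_2 (flp_b L8638) L6422 L8638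
theorem L8644 : sm ga N1076 = N1076 := ded_9_1 (flp_b L8638) L6418 L4749 (flp_a L6418) L8638
theorem L8645 : sm gc N1076 = N1076 := ded_17_2 (flp_b L8638) (flp_c L6416) L4740 L6416 L8638
theorem L8646 : sm gh N795 = N1077 := rfl
theorem L8648 : sm ga N1077 = N797 := ded_15_1 (flp_h L6432) (flp_a L6418) L8646
theorem L8650 : sm gc N1077 = N796 := ded_28_1 (flp_h L6424) L6416 L8646
theorem L8652 : sm gf N1077 = N1077 := ded_40_1 (flp_h L8646) L6420 L8646
theorem L8653 : sm gg N1077 = N1077 := ded_42_1 (flp_h L8646) L6421 L8646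
theorem L8654 : sm gi N796 = N1078 := rfl
theorem L8656 : sm ga N1078 = N798 := ded_16_1 (flp_i L6439) (flp_a L6426) L8654
theorem L8658 : sm gb N1078 = N1078 := ded_23_1 (flp_i L8654) L6428 L8654
theorem L8659 : sm gd N1078 = N1078 := ded_34_1 (flp_i L8654) L6431 L8654
theorem L8660 : sm gf N1078 = N1078 := ded_41_1 (flp_i L8654) L6429 L8654
theorem L8661 : sm gg N1078 = N1078 := ded_43_1 (flp_i L8654) L6430 L8654
theorem L8662 : sm gh N1078 = N1078 := ded_44_1 (flp_i L8654) (flp_h L6424) L4743 L6424 L8654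
theorem L8663 : sm gd N797 = N1079 := rfl
theorem L8665 : sm gb N1079 = N1079 := ded_18_1 (flp_d L8663) L6434 L8663
theorem L8666 : sm gf N1079 = N1079 := ded_31_2 (flp_d L8663) L6437 L8663
theorem L8667 : sm gg N1079 = N1079 := ded_32_2 (flp_d L8663) L6438 L8663
theorem L8668 : sm gc N1079 = N1079 := ded_24_1 (flp_d L8663) L6435 L4757 (flp_c L6435) L8663
theorem L8669 : sm gh N1079 = N1079 := ded_33_2 (flp_d L8663) (flp_h L6432) L4750 L6432 L8663
theorem L8670 : sm gi N797 = N1080 := rfl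
theorem L8672 : sm gb N1080 = N1080 := ded_23_1 (flp_i L8670) L6434 L8670
theorem L8673 : sm gc N1080 = N798 := ded_29_1 (flp_i L6439) (flp_c L6435) L8670
theorem L8675 : sm gf N1080 = N1080 := ded_41_1 (flp_i L8670) L6437 L8670
theorem L8676 : sm gg N1080 = N1080 := ded_43_1 (flp_i L8670) L6438 L8670
theorem L8677 : sm gh N1080 = N1080 := ded_44_1 (flp_i L8670) (flp_h L6432) L4748 L6432 L8670
theorem L8678 : sm gd N799 = N1081 := rfl
theorem L8680 : sm ga N1081 = N800 := ded_11_1 (flp_d L6456) (flp_a L6449) L8678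
theorem L8682 : sm gb N1081 = N837 := ded_18_1 (flp_d L6747) (flp_b L6451) L8678
theorem L8684 : sm gf N799 = N1082 := rfl
theorem L8686 : sm ga N1082 = N801 := ded_13_1 (flp_f L6460) (flp_a L6449) L8684
theorem L8691 : sm gh N1082 = N806 := ded_40_2 (flp_f L6499) (flp_h L6454) L8684
theorem L8693 : sm ge N1082 = N1082 := ded_35_1 (flp_f L8684) (flp_e L6447) L4769 L6447 L8684
theorem L8694 : sm gc N800 = N1083 := rfl
theorem L8696 : sm gb N1083 = N1083 := ded_17_1 (flp_c L8694) L6458 L4785 (flp_b L6458) L8694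
theorem L8697 : sm gd N1083 = N1083 := ded_24_2 (flp_c L8694) (flp_d L6456) L4778 L6456 L8694
theorem L8698 : sm gf N800 = N1084 := rfl
theorem L8700 : sm gb N1084 = N802 := ded_20_1 (flp_f L6468) (flp_b L6458) L8698
theorem L8702 : sm gd N1084 = N801 := ded_31_1 (flp_f L6460) L6456 L8698
theorem L8704 : sm gh N800 = N1085 := rfl
theorem L8708 : sm gd N1085 = N809 := ded_33_1 (flp_h L6522) (flp_d L4812) (flp_h L4779) L6456 L8704
theorem L8710 : sm gg N801 = N1086 := rfl
theorem L8716 : sm gh N1086 = N810 := ded_42_2 (flp_g L6527) (flp_h L6465) L8710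
theorem L8718 : sm ge N802 = N1087 := rfl
theorem L8720 : sm ga N1087 = N843 := ded_12_1 (flp_e L6786) (flp_a L6470) L8718
theorem L8724 : sm gg N802 = N1088 := rfl
theorem L8729 : sm gd N1088 = N804 := ded_32_1 (flp_g L6482) (flp_d L6473) L8724
theorem L8731 : sm gh N802 = N1089 := rfl
theorem L8733 : sm ga N1089 = N845 := ded_15_1 (flp_h L6795) (flp_a L6470) L8731
theorem L8736 : sm gf N1089 = N803 := ded_40_1 (flp_h L6475) L6468 L8731
theorem L8738 : sm gd N1089 = N813 := ded_33_1 (flp_h L6552) L4831 (flp_h L4792) (flp_d L6473) L8731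
theorem L8740 : sm gi N803 = N1090 := rfl
theorem L8747 : sm gc N805 = N1091 := rfl
theorem L8749 : sm ga N1091 = N807 := ded_10_1 (flp_c L6508) (flp_a L6493) L8747
theorem L8752 : sm gi N1091 = N1091 := ded_29_2 (flp_c L8747) L6497 L8747
theorem L8755 : sm gf N805 = N1092 := rfl
theorem L8757 : sm ga N1092 = N808 := ded_13_1 (flp_f L6515) (flp_a L6493) L8755
theorem L8759 : sm gb N1092 = N847 := ded_20_1 (flp_f L6807) (flp_b L6495) L8755
theorem L8761 : sm gd N1092 = N806 := ded_31_1 (flp_f L6499) L6491 L8755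
theorem L8764 : sm gh N805 = N1093 := rfl
theorem L8768 : sm gb N1093 = N848 := ded_22_1 (flp_h L6815) (flp_b L6495) L8764
theorem L8771 : sm gg N806 = N1094 := rfl
theorem L8780 : sm gf N807 = N1095 := rfl
theorem L8782 : sm gb N1095 = N815 := ded_20_1 (flp_f L6568) (flp_b L6512) L8780
theorem L8784 : sm gc N1095 = N808 := ded_26_1 (flp_f L6515) L6508 L8780
theorem L8788 : sm gh N807 = N1096 := rfl
theorem L8790 : sm gb N1096 = N816 := ded_22_1 (flp_h L6575) (flp_b L6512) L8788
theorem L8792 : sm gc N1096 = N809 := ded_28_1 (flp_h L6522) L6508 L8788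
theorem L8795 : sm ge N808 = N1097 := rfl
theorem L8797 : sm gb N1097 = N811 := ded_19_1 (flp_e L6534) (flp_b L6517) L8795
theorem L8799 : sm gi N1097 = N1097 := ded_38_2 (flp_e L8795) L6521 L8795
theorem L8802 : sm gg N808 = N1098 := rfl
theorem L8806 : sm gd N1098 = N810 := ded_32_1 (flp_g L6527) (flp_d L6519) L8802
theorem L8809 : sm gh N808 = N1099 := rfl
theorem L8815 : sm gi N809 = N1100 := rfl
theorem L8821 : sm gg N811 = N1101 := rfl
theorem L8823 : sm ga N1101 = N854 := ded_14_1 (flp_g L6859) (flp_a L6536) L8821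
theorem L8825 : sm gc N1101 = N821 := ded_27_1 (flp_g L6614) (flp_c L6538) L8821
theorem L8828 : sm ge N1101 = N812 := ded_36_1 (flp_g L6543) L6534 L8821
theorem L8831 : sm gh N811 = N1102 := rfl
theorem L8833 : sm ga N1102 = N855 := ded_15_1 (flp_h L6867) (flp_a L6536) L8831
theorem L8837 : sm ge N1102 = N813 := ded_37_1 (flp_h L6552) L6534 L8831
theorem L8840 : sm gh N812 = N1103 := rfl
theorem L8857 : sm ge N815 = N1105 := rfl
theorem L8860 : sm gc N1105 = N817 := ded_25_1 (flp_e L6581) (flp_c L6571) L8857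
theorem L8864 : sm gg N815 = N1106 := rfl
theorem L8871 : sm gh N815 = N1107 := rfl
theorem L8876 : sm gf N1107 = N816 := ded_40_1 (flp_h L6575) L6568 L8871
theorem L8878 : sm gd N816 = N1108 := rfl
theorem L8883 : sm gi N816 = N1109 := rfl
theorem L8886 : sm gc N1109 = N820 := ded_29_1 (flp_i L6606) (flp_c L6578) L8883
theorem L8890 : sm gg N817 = N1110 := rfl
theorem L8893 : sm gb N1110 = N821 := ded_21_1 (flp_g L6614) (flp_b L6584) L8890
theorem L8895 : sm gd N1110 = N884 := ded_32_1 (flp_g L7083) (flp_d L6587) L8890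
theorem L8897 : sm ge N1110 = N818 := ded_36_1 (flp_g L6590) L6581 L8890
theorem L8900 : sm gh N817 = N1111 := rfl
theorem L8908 : sm gh N818 = N1112 := rfl
theorem L8911 : sm gb N1112 = N823 := ded_22_1 (flp_h L6630) (flp_b L6593) L8908
theorem L8925 : sm gf N821 = N1114 := rfl
theorem L8927 : sm ga N1114 = N858 := ded_13_1 (flp_f L6887) (flp_a L6616) L8925
theorem L8929 : sm gd N1114 = N888 := ded_31_1 (flp_f L7117) (flp_d L6618) L8925
theorem L8933 : sm gh N821 = N1115 := rfl
theorem L8937 : sm ge N1115 = N823 := ded_37_1 (flp_h L6630) (flp_e L6620) L8933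
theorem L8939 : sm gg N1115 = N822 := ded_42_1 (flp_h L6623) L6614 L8933
theorem L8941 : sm gd N822 = N1116 := rfl
theorem L8947 : sm gh N1116 = N890 := ded_33_2 (flp_d L7134) (flp_h L5288) (flp_d L4885) L6623 L8941
theorem L8957 : sm gi N823 = N1118 := rfl
theorem L8965 : sm gd N825 = N1119 := rfl
theorem L8967 : sm ga N1119 = N826 := ded_11_1 (flp_d L6653) (flp_a L6647) L8965
theorem L8969 : sm gi N1119 = N1081 := ded_34_2 (flp_d L8678) (flp_i L6651) L8965
theorem L8971 : sm ge N1119 = N837 := ded_30_2 (flp_d L6747) (flp_e L5000) (flp_d L4912) L6645 L8965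
theorem L8973 : sm gf N825 = N1120 := rfl
theorem L8975 : sm ga N1120 = N827 := ded_13_1 (flp_f L6661) (flp_a L6647) L8973
theorem L8977 : sm gc N1120 = N1120 := ded_26_1 (flp_f L8973) L6649 L8973
theorem L8978 : sm gh N1120 = N1120 := ded_40_2 (flp_f L8973) L6650 L8973
theorem L8981 : sm ge N1120 = N1120 := ded_35_1 (flp_f L8973) (flp_e L6645) L4914 L6645 L8973
theorem L8982 : sm gc N826 = N1121 := rfl
theorem L8984 : sm ge N1121 = N839 := ded_25_2 (flp_c L6760) (flp_e L6659) L8982
theorem L8986 : sm gi N1121 = N1083 := ded_29_2 (flp_c L8694) (flp_i L6657) L8982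
theorem L8988 : sm gb N1121 = N1121 := ded_17_1 (flp_c L8982) L6655 L4930 (flp_b L6655) L8982
theorem L8989 : sm gd N1121 = N1121 := ded_24_2 (flp_c L8982) (flp_d L6653) L4922 L6653 L8982
theorem L8990 : sm gf N826 = N1122 := rfl
theorem L8992 : sm gb N1122 = N828 := ded_20_1 (flp_f L6670) (flp_b L6655) L8990
theorem L8994 : sm gd N1122 = N827 := ded_31_1 (flp_f L6661) L6653 L8990
theorem L8998 : sm gh N826 = N1123 := rfl
theorem L9000 : sm gb N1123 = N829 := ded_22_1 (flp_h L6677) (flp_b L6655) L8998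
theorem L9002 : sm ge N1123 = N841 := ded_37_1 (flp_h L6771) (flp_e L6659) L8998
theorem L9004 : sm gd N1123 = N1123 := ded_33_1 (flp_h L8998) (flp_d L6653) L4923 L6653 L8998
theorem L9005 : sm gg N827 = N1124 := rfl
theorem L9014 : sm ge N828 = N1125 := rfl
theorem L9016 : sm gc N1125 = N1125 := ded_25_1 (flp_e L9014) L6672 L9014
theorem L9017 : sm gi N1125 = N1087 := ded_38_2 (flp_e L8718) (flp_i L6675) L9014
theorem L9019 : sm gd N1125 = N1125 := ded_30_1 (flp_e L9014) L6673 L4940 (flp_d L6673) L9014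
theorem L9020 : sm gf N1125 = N843 := ded_35_2 (flp_e L6786) (flp_f L5021) (flp_e L4931) L6670 L9014
theorem L9022 : sm gg N828 = N1126 := rfl
theorem L9027 : sm gi N1126 = N1088 := ded_43_2 (flp_g L8724) (flp_i L6675) L9022
theorem L9029 : sm gh N828 = N1127 := rfl
theorem L9031 : sm gc N1127 = N1127 := ded_28_1 (flp_h L9029) L6672 L9029
theorem L9032 : sm gf N1127 = N829 := ded_40_1 (flp_h L6677) L6670 L9029
theorem L9034 : sm gd N1127 = N1127 := ded_33_1 (flp_h L9029) L6673 L4937 (flp_d L6673) L9029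
theorem L9035 : sm gi N829 = N1128 := rfl
theorem L9041 : sm gh N1128 = N1090 := ded_44_1 (flp_i L8740) (flp_h L6475) (flp_i L4928) L6677 L9035
theorem L9043 : sm gd N831 = N1129 := rfl
theorem L9045 : sm ga N1129 = N832 := ded_11_1 (flp_d L6702) (flp_a L6693) L9043
theorem L9047 : sm gb N1129 = N1119 := ded_18_1 (flp_d L8965) (flp_b L6695) L9043
theorem L9049 : sm gi N1129 = N837 := ded_34_2 (flp_d L6747) (flp_i L6700) L9043
theorem L9051 : sm ge N1129 = N1081 := ded_30_2 (flp_d L8678) (flp_e L6447) (flp_d L4953) L6691 L9043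
theorem L9053 : sm gf N831 = N1130 := rfl
theorem L9055 : sm ga N1130 = N833 := ded_13_1 (flp_f L6710) (flp_a L6693) L9053
theorem L9057 : sm gb N1130 = N1120 := ded_20_1 (flp_f L8973) (flp_b L6695) L9053
theorem L9059 : sm gc N1130 = N864 := ded_26_1 (flp_f L6930) (flp_c L6697) L9053
theorem L9061 : sm gh N1130 = N1130 := ded_40_2 (flp_f L9053) L6699 L9053
theorem L9062 : sm gi N1130 = N838 := ded_41_2 (flp_f L6751) (flp_i L6700) L9053
theorem L9064 : sm ge N1130 = N1130 := ded_35_1 (flp_f L9053) (flp_e L6691) L4955 L6691 L9053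
theorem L9065 : sm gc N832 = N1131 := rfl
theorem L9067 : sm ge N1131 = N1083 := ded_25_2 (flp_c L8694) (flp_e L6708) L9065
theorem L9069 : sm gi N1131 = N839 := ded_29_2 (flp_c L6760) (flp_i L6706) L9065
theorem L9071 : sm gb N1131 = N1131 := ded_17_1 (flp_c L9065) L6704 L4976 (flp_b L6704) L9065
theorem L9072 : sm gd N1131 = N865 := ded_24_2 (flp_c L6939) (flp_d L5136) (flp_c L4965) L6702 L9065
theorem L9074 : sm gf N832 = N1132 := rfl
theorem L9076 : sm gb N1132 = N834 := ded_20_1 (flp_f L6720) (flp_b L6704) L9074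
theorem L9078 : sm gd N1132 = N833 := ded_31_1 (flp_f L6710) L6702 L9074
theorem L9080 : sm gi N1132 = N840 := ded_41_2 (flp_f L6765) (flp_i L6706) L9074
theorem L9082 : sm gh N832 = N1133 := rfl
theorem L9084 : sm gb N1133 = N835 := ded_22_1 (flp_h L6729) (flp_b L6704) L9082
theorem L9086 : sm ge N1133 = N1085 := ded_37_1 (flp_h L8704) (flp_e L6708) L9082
theorem L9088 : sm gd N1133 = N1133 := ded_33_1 (flp_h L9082) (flp_d L6702) L4967 L6702 L9082
theorem L9089 : sm gg N833 = N1134 := rfl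
theorem L9091 : sm gb N1134 = N836 := ded_21_1 (flp_g L6737) (flp_b L6712) L9089
theorem L9093 : sm gc N1134 = N868 := ded_27_1 (flp_g L6960) (flp_c L6714) L9089
theorem L9095 : sm ge N1134 = N1134 := ded_36_1 (flp_g L9089) L6719 L9089
theorem L9096 : sm gh N1134 = N1134 := ded_42_2 (flp_g L9089) L6716 L9089
theorem L9097 : sm gi N1134 = N842 := ded_43_2 (flp_g L6777) (flp_i L6717) L9089
theorem L9099 : sm ge N834 = N1135 := rfl
theorem L9101 : sm ga N1135 = N1125 := ded_12_1 (flp_e L9014) (flp_a L6722) L9099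
theorem L9104 : sm gi N1135 = N843 := ded_38_2 (flp_e L6786) (flp_i L6727) L9099
theorem L9107 : sm gf N1135 = N1087 := ded_35_2 (flp_e L8718) (flp_f L6468) (flp_e L4977) L6720 L9099
theorem L9109 : sm gg N834 = N1136 := rfl
theorem L9113 : sm gc N1136 = N1136 := ded_27_1 (flp_g L9109) L6724 L9109
theorem L9114 : sm gd N1136 = N836 := ded_32_1 (flp_g L6737) (flp_d L6725) L9109
theorem L9116 : sm gi N1136 = N844 := ded_43_2 (flp_g L6790) (flp_i L6727) L9109
theorem L9118 : sm gh N834 = N1137 := rfl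
theorem L9126 : sm gi N835 = N1138 := rfl
theorem L9132 : sm ge N1138 = N1090 := ded_38_1 (flp_i L8740) (flp_e L6734) L9126
theorem L9136 : sm gc N837 = N1139 := rfl
theorem L9138 : sm ga N1139 = N839 := ded_10_1 (flp_c L6760) (flp_a L6749) L9136
theorem L9140 : sm gd N1139 = N872 := ded_24_2 (flp_c L6992) (flp_d L5175) (flp_c L5004) L6747 L9136
theorem L9142 : sm gf N837 = N1140 := rfl
theorem L9144 : sm ga N1140 = N840 := ded_13_1 (flp_f L6765) (flp_a L6749) L9142
theorem L9146 : sm gd N1140 = N838 := ded_31_1 (flp_f L6751) L6747 L9142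
theorem L9148 : sm gh N837 = N1141 := rfl
theorem L9150 : sm ga N1141 = N841 := ded_15_1 (flp_h L6771) (flp_a L6749) L9148
theorem L9152 : sm gd N1141 = N848 := ded_33_1 (flp_h L6815) (flp_d L5038) (flp_h L5006) L6747 L9148
theorem L9154 : sm gg N838 = N1142 := rfl
theorem L9156 : sm ga N1142 = N842 := ded_14_1 (flp_g L6777) (flp_a L6753) L9154
theorem L9158 : sm gc N1142 = N874 := ded_27_1 (flp_g L7006) (flp_c L6755) L9154
theorem L9160 : sm ge N1142 = N1142 := ded_36_1 (flp_g L9154) L6759 L9154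
theorem L9161 : sm gh N1142 = N849 := ded_42_2 (flp_g L6821) (flp_h L6757) L9154
theorem L9163 : sm gf N839 = N1143 := rfl
theorem L9165 : sm gb N1143 = N1143 := ded_20_1 (flp_f L9163) L6762 L9163
theorem L9166 : sm gc N1143 = N840 := ded_26_1 (flp_f L6765) L6760 L9163
theorem L9168 : sm gd N1143 = N875 := ded_31_1 (flp_f L7014) (flp_d L6763) L9163
theorem L9170 : sm gh N839 = N1144 := rfl
theorem L9172 : sm gb N1144 = N1144 := ded_22_1 (flp_h L9170) L6762 L9170
theorem L9173 : sm gc N1144 = N841 := ded_28_1 (flp_h L6771) L6760 L9170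
theorem L9175 : sm gd N1144 = N1144 := ded_33_1 (flp_h L9170) L6763 L5193 (flp_d L6763) L9170
theorem L9176 : sm ge N840 = N1145 := rfl
theorem L9178 : sm gb N1145 = N843 := ded_19_1 (flp_e L6786) (flp_b L6767) L9176
theorem L9181 : sm gg N840 = N1146 := rfl
theorem L9183 : sm gb N1146 = N844 := ded_21_1 (flp_g L6790) (flp_b L6767) L9181
theorem L9185 : sm gd N1146 = N842 := ded_32_1 (flp_g L6777) (flp_d L6769) L9181
theorem L9187 : sm gh N840 = N1147 := rfl
theorem L9193 : sm gd N1147 = N852 := ded_33_1 (flp_h L6845) L5058 (flp_h L5018) (flp_d L6769) L9187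
theorem L9195 : sm gi N841 = N1148 := rfl
theorem L9199 : sm gd N1148 = N853 := ded_34_1 (flp_i L6852) (flp_d L6775) L9195
theorem L9201 : sm gg N843 = N1149 := rfl
theorem L9205 : sm ge N1149 = N844 := ded_36_1 (flp_g L6790) L6786 L9201
theorem L9207 : sm gh N843 = N1150 := rfl
theorem L9210 : sm ge N1150 = N845 := ded_37_1 (flp_h L6795) L6786 L9207
theorem L9212 : sm gh N844 = N1151 := rfl
theorem L9217 : sm gd N1151 = N856 := ded_33_1 (flp_h L6874) L5086 (flp_h L5036) (flp_d L6793) L9212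
theorem L9226 : sm ge N847 = N1153 := rfl
theorem L9228 : sm ga N1153 = N850 := ded_12_1 (flp_e L6829) (flp_a L6809) L9226
theorem L9249 : sm gi N848 = N1156 := rfl
theorem L9251 : sm ga N1156 = N853 := ded_16_1 (flp_i L6852) (flp_a L6817) L9249
theorem L9256 : sm gg N850 = N1157 := rfl
theorem L9258 : sm gb N1157 = N854 := ded_21_1 (flp_g L6859) (flp_b L6831) L9256
theorem L9262 : sm ge N1157 = N851 := ded_36_1 (flp_g L6837) L6829 L9256
theorem L9265 : sm gh N850 = N1158 := rfl
theorem L9270 : sm ge N1158 = N852 := ded_37_1 (flp_h L6845) L6829 L9265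
theorem L9273 : sm gh N851 = N1159 := rfl
theorem L9278 : sm gg N1159 = N852 := ded_42_1 (flp_h L6845) L6837 L9273
theorem L9280 : sm gi N852 = N1160 := rfl
theorem L9282 : sm gb N1160 = N857 := ded_23_1 (flp_i L6880) (flp_b L6847) L9280
theorem L9285 : sm gf N1160 = N853 := ded_41_1 (flp_i L6852) (flp_f L6850) L9280
theorem L9288 : sm gf N854 = N1161 := rfl
theorem L9290 : sm gc N1161 = N858 := ded_26_1 (flp_f L6887) (flp_c L6861) L9288
theorem L9295 : sm gh N854 = N1162 := rfl
theorem L9299 : sm ge N1162 = N856 := ded_37_1 (flp_h L6874) (flp_e L6864) L9295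
theorem L9301 : sm gg N1162 = N855 := ded_42_1 (flp_h L6867) L6859 L9295
theorem L9303 : sm gd N855 = N1163 := rfl
theorem L9307 : sm gi N855 = N1164 := rfl
theorem L9309 : sm gc N1164 = N861 := ded_29_1 (flp_i L6908) (flp_c L6869) L9307
theorem L9322 : sm gh N858 = N1166 := rfl
theorem L9328 : sm gd N859 = N1167 := rfl
theorem L9331 : sm gg N1167 = N860 := ded_32_2 (flp_d L6901) (flp_g L6899) L9328
theorem L9334 : sm gh N1167 = N894 := ded_33_2 (flp_d L7167) (flp_h L5321) (flp_d L5104) L6894 L9328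
theorem L9344 : sm gc N860 = N1169 := rfl
theorem L9348 : sm gh N1169 = N896 := ded_28_2 (flp_c L7182) (flp_h L6906) L9344
theorem L9357 : sm gc N863 = N1171 := rfl
theorem L9359 : sm ga N1171 = N865 := ded_10_1 (flp_c L6939) (flp_a L6924) L9357
theorem L9361 : sm ge N1171 = N1171 := ded_25_2 (flp_c L9357) L6929 L9357
theorem L9362 : sm gi N1171 = N872 := ded_29_2 (flp_c L6992) (flp_i L6927) L9357
theorem L9364 : sm gf N863 = N1172 := rfl
theorem L9366 : sm ga N1172 = N866 := ded_13_1 (flp_f L6945) (flp_a L6924) L9364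
theorem L9368 : sm gb N1172 = N1172 := ded_20_1 (flp_f L9364) L6926 L9364
theorem L9369 : sm gd N1172 = N864 := ded_31_1 (flp_f L6930) L6922 L9364
theorem L9371 : sm gi N1172 = N873 := ded_41_2 (flp_f L6998) (flp_i L6927) L9364
theorem L9373 : sm gh N863 = N1173 := rfl
theorem L9375 : sm ga N1173 = N867 := ded_15_1 (flp_h L6953) (flp_a L6924) L9373
theorem L9377 : sm gb N1173 = N1173 := ded_22_1 (flp_h L9373) L6926 L9373
theorem L9378 : sm ge N1173 = N1173 := ded_37_1 (flp_h L9373) L6929 L9373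
theorem L9379 : sm gd N1173 = N1173 := ded_33_1 (flp_h L9373) (flp_d L6922) L5133 L6922 L9373
theorem L9380 : sm gi N1173 = N1173 := ded_44_2 (flp_h L9373) L6927 L5181 (flp_i L6927) L9373
theorem L9381 : sm gg N864 = N1174 := rfl
theorem L9383 : sm ga N1174 = N868 := ded_14_1 (flp_g L6960) (flp_a L6932) L9381
theorem L9385 : sm gb N1174 = N1174 := ded_21_1 (flp_g L9381) L6934 L9381
theorem L9386 : sm ge N1174 = N1174 := ded_36_1 (flp_g L9381) L6938 L9381
theorem L9387 : sm gh N1174 = N1174 := ded_42_2 (flp_g L9381) L6935 L9381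
theorem L9388 : sm gi N1174 = N874 := ded_43_2 (flp_g L7006) (flp_i L6936) L9381
theorem L9390 : sm gf N865 = N1175 := rfl
theorem L9392 : sm gb N1175 = N1175 := ded_20_1 (flp_f L9390) L6944 L9390
theorem L9393 : sm gc N1175 = N866 := ded_26_1 (flp_f L6945) L6939 L9390
theorem L9395 : sm gi N1175 = N875 := ded_41_2 (flp_f L7014) (flp_i L6942) L9390
theorem L9397 : sm gh N865 = N1176 := rfl
theorem L9399 : sm gb N1176 = N1176 := ded_22_1 (flp_h L9397) L6944 L9397
theorem L9400 : sm gc N1176 = N867 := ded_28_1 (flp_h L6953) L6939 L9397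
theorem L9402 : sm ge N1176 = N1176 := ded_37_1 (flp_h L9397) L6941 L9397
theorem L9403 : sm gi N1176 = N1176 := ded_44_2 (flp_h L9397) L6942 L5193 (flp_i L6942) L9397
theorem L9404 : sm ge N866 = N1177 := rfl
theorem L9406 : sm gb N1177 = N869 := ded_19_1 (flp_e L6968) (flp_b L6947) L9404
theorem L9408 : sm gi N1177 = N876 := ded_38_2 (flp_e L7020) (flp_i L6951) L9404
theorem L9410 : sm gd N1177 = N1177 := ded_30_1 (flp_e L9404) L6949 L5150 (flp_d L6949) L9404
theorem L9411 : sm gf N1177 = N1177 := ded_35_2 (flp_e L9404) (flp_f L6945) L5142 L6945 L9404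
theorem L9412 : sm gg N866 = N1178 := rfl
theorem L9414 : sm gb N1178 = N870 := ded_21_1 (flp_g L6976) (flp_b L6947) L9412
theorem L9416 : sm gd N1178 = N868 := ded_32_1 (flp_g L6960) (flp_d L6949) L9412
theorem L9418 : sm gi N1178 = N877 := ded_43_2 (flp_g L7027) (flp_i L6951) L9412
theorem L9420 : sm gh N866 = N1179 := rfl
theorem L9422 : sm gb N1179 = N871 := ded_22_1 (flp_h L6984) (flp_b L6947) L9420
theorem L9424 : sm gf N1179 = N867 := ded_40_1 (flp_h L6953) L6945 L9420
theorem L9426 : sm gd N1179 = N1179 := ded_33_1 (flp_h L9420) L6949 L5147 (flp_d L6949) L9420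
theorem L9427 : sm gi N1179 = N1179 := ded_44_2 (flp_h L9420) L6951 L5201 (flp_i L6951) L9420
theorem L9428 : sm gg N869 = N1180 := rfl
theorem L9430 : sm ga N1180 = N1180 := ded_14_1 (flp_g L9428) L6970 L9428
theorem L9431 : sm gc N1180 = N1180 := ded_27_1 (flp_g L9428) L6971 L9428
theorem L9432 : sm gd N1180 = N1180 := ded_32_1 (flp_g L9428) L6974 L9428
theorem L9433 : sm ge N1180 = N870 := ded_36_1 (flp_g L6976) L6968 L9428
theorem L9435 : sm gi N1180 = N878 := ded_43_2 (flp_g L7034) (flp_i L6972) L9428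
theorem L9437 : sm gh N869 = N1181 := rfl
theorem L9439 : sm ga N1181 = N1181 := ded_15_1 (flp_h L9437) L6970 L9437
theorem L9440 : sm gc N1181 = N1181 := ded_28_1 (flp_h L9437) L6971 L9437
theorem L9441 : sm ge N1181 = N871 := ded_37_1 (flp_h L6984) L6968 L9437
theorem L9443 : sm gf N1181 = N1181 := ded_40_1 (flp_h L9437) L6975 L9437
theorem L9444 : sm gi N1181 = N1181 := ded_44_2 (flp_h L9437) L6972 L5213 (flp_i L6972) L9437
theorem L9445 : sm gh N870 = N1182 := rfl
theorem L9447 : sm ga N1182 = N1182 := ded_15_1 (flp_h L9445) L6978 L9445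
theorem L9448 : sm gc N1182 = N1182 := ded_28_1 (flp_h L9445) L6979 L9445
theorem L9449 : sm gg N1182 = N871 := ded_42_1 (flp_h L6984) L6976 L9445
theorem L9451 : sm gd N1182 = N1182 := ded_33_1 (flp_h L9445) L6980 L5172 (flp_d L6980) L9445
theorem L9452 : sm gi N1182 = N1182 := ded_44_2 (flp_h L9445) L6982 L5222 (flp_i L6982) L9445
theorem L9453 : sm gb N872 = N1183 := rfl
theorem L9455 : sm ge N1183 = N1183 := ded_19_2 (flp_b L9453) L6996 L9453
theorem L9456 : sm gh N1183 = N1183 := ded_22_2 (flp_b L9453) L6997 L9453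
theorem L9457 : sm ga N1183 = N1183 := ded_9_1 (flp_b L9453) L6994 L5194 (flp_a L6994) L9453
theorem L9458 : sm gc N1183 = N1183 := ded_17_2 (flp_b L9453) (flp_c L6992) L5179 L6992 L9453
theorem L9459 : sm gf N872 = N1184 := rfl
theorem L9461 : sm ga N1184 = N875 := ded_13_1 (flp_f L7014) (flp_a L6994) L9459
theorem L9463 : sm gc N1184 = N873 := ded_26_1 (flp_f L6998) L6992 L9459
theorem L9465 : sm gh N1184 = N1184 := ded_40_2 (flp_f L9459) L6997 L9459
theorem L9466 : sm ge N873 = N1185 := rfl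
theorem L9468 : sm ga N1185 = N876 := ded_12_1 (flp_e L7020) (flp_a L7000) L9466
theorem L9470 : sm gb N1185 = N1185 := ded_19_1 (flp_e L9466) L7002 L9466
theorem L9471 : sm gh N1185 = N1185 := ded_37_2 (flp_e L9466) L7005 L9466
theorem L9472 : sm gd N1185 = N1185 := ded_30_1 (flp_e L9466) L7003 L5189 (flp_d L7003) L9466
theorem L9473 : sm gf N1185 = N1185 := ded_35_2 (flp_e L9466) (flp_f L6998) L5180 L6998 L9466
theorem L9474 : sm gg N873 = N1186 := rfl
theorem L9476 : sm ga N1186 = N877 := ded_14_1 (flp_g L7027) (flp_a L7000) L9474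
theorem L9478 : sm gb N1186 = N1186 := ded_21_1 (flp_g L9474) L7002 L9474
theorem L9479 : sm gd N1186 = N874 := ded_32_1 (flp_g L7006) (flp_d L7003) L9474
theorem L9481 : sm gh N1186 = N1186 := ded_42_2 (flp_g L9474) L7005 L9474
theorem L9482 : sm ge N875 = N1187 := rfl
theorem L9484 : sm gb N1187 = N1187 := ded_19_1 (flp_e L9482) L7016 L9482
theorem L9485 : sm gc N1187 = N876 := ded_25_1 (flp_e L7020) (flp_c L7017) L9482
theorem L9487 : sm gh N1187 = N1187 := ded_37_2 (flp_e L9482) L7019 L9482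
theorem L9488 : sm gf N1187 = N1187 := ded_35_2 (flp_e L9482) (flp_f L7014) L5192 L7014 L9482
theorem L9489 : sm gg N875 = N1188 := rfl
theorem L9491 : sm gb N1188 = N1188 := ded_21_1 (flp_g L9489) L7016 L9489
theorem L9492 : sm gc N1188 = N877 := ded_27_1 (flp_g L7027) (flp_c L7017) L9489
theorem L9494 : sm gh N1188 = N1188 := ded_42_2 (flp_g L9489) L7019 L9489
theorem L9495 : sm gg N876 = N1189 := rfl
theorem L9497 : sm gb N1189 = N878 := ded_21_1 (flp_g L7034) (flp_b L7022) L9495
theorem L9499 : sm gd N1189 = N1189 := ded_32_1 (flp_g L9495) L7025 L9495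
theorem L9500 : sm ge N1189 = N877 := ded_36_1 (flp_g L7027) L7020 L9495
theorem L9502 : sm gh N1189 = N1189 := ded_42_2 (flp_g L9495) L7024 L9495
theorem L9503 : sm gf N878 = N1190 := rfl
theorem L9505 : sm ga N1190 = N1190 := ded_13_1 (flp_f L9503) L7036 L9503
theorem L9506 : sm gc N1190 = N1190 := ded_26_1 (flp_f L9503) L7037 L9503
theorem L9507 : sm gd N1190 = N1190 := ded_31_1 (flp_f L9503) L7038 L9503
theorem L9508 : sm gh N1190 = N1190 := ded_40_2 (flp_f L9503) L7041 L9503
theorem L9509 : sm gg N1190 = N1190 := ded_39_2 (flp_f L9503) (flp_g L7034) L5215 L7034 L9503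
theorem L9510 : sm gd N879 = N1191 := rfl
theorem L9517 : sm gg N879 = N1192 := rfl
theorem L9521 : sm gc N1192 = N884 := ded_27_1 (flp_g L7083) (flp_c L7046) L9517
theorem L9525 : sm gi N1192 = N1192 := ded_43_2 (flp_g L9517) L7048 L9517
theorem L9526 : sm gh N879 = N1193 := rfl
theorem L9530 : sm gc N1193 = N885 := ded_28_1 (flp_h L7091) (flp_c L7046) L9526
theorem L9535 : sm gh N880 = N1194 := rfl
theorem L9539 : sm gc N1194 = N886 := ded_28_1 (flp_h L7099) (flp_c L7054) L9535
theorem L9542 : sm gg N1194 = N881 := ded_42_1 (flp_h L7059) L7050 L9535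
theorem L9552 : sm gi N881 = N1196 := rfl
theorem L9577 : sm gf N884 = N1199 := rfl
theorem L9580 : sm gb N1199 = N888 := ded_20_1 (flp_f L7117) (flp_b L7086) L9577
theorem L9582 : sm gi N1199 = N1199 := ded_41_2 (flp_f L9577) L7090 L9577
theorem L9583 : sm ge N1199 = N1199 := ded_35_1 (flp_f L9577) L7088 L5262 (flp_e L7088) L9577
theorem L9585 : sm gh N884 = N1200 := rfl
theorem L9592 : sm gg N1200 = N885 := ded_42_1 (flp_h L7091) L7083 L9585
theorem L9594 : sm gd N885 = N1201 := rfl
theorem L9597 : sm gb N1201 = N890 := ded_18_1 (flp_d L7134) (flp_b L7094) L9594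
theorem L9610 : sm gi N886 = N1203 := rfl
theorem L9620 : sm gh N888 = N1204 := rfl
theorem L9622 : sm ga N1204 = N893 := ded_15_1 (flp_h L7159) (flp_a L7119) L9620
theorem L9625 : sm ge N1204 = N1204 := ded_37_1 (flp_h L9620) L7123 L9620
theorem L9626 : sm gf N1204 = N889 := ded_40_1 (flp_h L7125) L7117 L9620
theorem L9629 : sm gd N889 = N1205 := rfl
theorem L9633 : sm gg N1205 = N890 := ded_32_2 (flp_d L7134) (flp_g L7132) L9629
theorem L9636 : sm gi N889 = N1206 := rfl
theorem L9643 : sm gg N1206 = N891 := ded_43_1 (flp_i L7140) (flp_g L7132) L9636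
theorem L9646 : sm gc N890 = N1207 := rfl
theorem L9653 : sm gi N890 = N1208 := rfl
theorem L9657 : sm gd N1208 = N891 := ded_34_1 (flp_i L7140) L7134 L9653
theorem L9661 : sm gd N893 = N1209 := rfl
theorem L9664 : sm gf N1209 = N894 := ded_31_2 (flp_d L7167) (flp_f L7164) L9661
theorem L9676 : sm gc N894 = N1211 := rfl
theorem L9679 : sm gg N1211 = N896 := ded_27_2 (flp_c L7182) (flp_g L7170) L9676
theorem L9690 : sm gb N896 = N1213 := rfl
theorem L9696 : sm gi N896 = N1214 := rfl
theorem L9698 : sm gc N1214 = N897 := ded_29_1 (flp_i L7187) L7182 L9696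
theorem L9709 : sm ga N898 = N1216 := rfl
theorem L9711 : sm gc N1216 = N1216 := ded_10_2 (flp_a L9709) L7199 L9709
theorem L9712 : sm gf N1216 = N1216 := ded_13_2 (flp_a L9709) L7196 L9709
theorem L9713 : sm gg N1216 = N1216 := ded_14_2 (flp_a L9709) L7197 L9709
theorem L9714 : sm gh N1216 = N1216 := ded_15_2 (flp_a L9709) L7198 L9709
theorem L9715 : sm gb N1216 = N959 := ded_9_2 (flp_a L7716) (flp_b L5727) (flp_a L5353) L7194 L9709
theorem L9717 : sm ge N898 = N1217 := rfl
theorem L9719 : sm gb N1217 = N899 := ded_19_1 (flp_e L7200) L7194 L9717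
theorem L9721 : sm gc N1217 = N1217 := ded_25_1 (flp_e L9717) L7199 L9717
theorem L9722 : sm gg N1217 = N1217 := ded_36_2 (flp_e L9717) L7197 L9717
theorem L9723 : sm gh N1217 = N1217 := ded_37_2 (flp_e L9717) L7198 L9717
theorem L9724 : sm gd N899 = N1218 := rfl
theorem L9726 : sm ga N1218 = N961 := ded_11_1 (flp_d L7731) (flp_a L7202) L9724
theorem L9728 : sm gg N1218 = N1218 := ded_32_2 (flp_d L9724) L7206 L9724
theorem L9729 : sm gc N1218 = N903 := ded_24_1 (flp_d L7235) L5379 (flp_d L5365) (flp_c L7204) L9724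
theorem L9731 : sm gf N899 = N1219 := rfl
theorem L9733 : sm ga N1219 = N962 := ded_13_1 (flp_f L7736) (flp_a L7202) L9731
theorem L9735 : sm gc N1219 = N900 := ded_26_1 (flp_f L7208) (flp_c L7204) L9731
theorem L9737 : sm gh N1219 = N1219 := ded_40_2 (flp_f L9731) L7207 L9731
theorem L9738 : sm ge N1219 = N1219 := ded_35_1 (flp_f L9731) (flp_e L7200) L5355 L7200 L9731
theorem L9739 : sm gg N900 = N1220 := rfl
theorem L9741 : sm ga N1220 = N963 := ded_14_1 (flp_g L7742) (flp_a L7210) L9739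
theorem L9744 : sm gd N1220 = N905 := ded_32_1 (flp_g L7250) (flp_d L7213) L9739
theorem L9749 : sm ge N901 = N1221 := rfl
theorem L9751 : sm ga N1221 = N902 := ded_12_1 (flp_e L7227) L7217 L9749
theorem L9753 : sm gb N1221 = N969 := ded_19_1 (flp_e L7807) (flp_b L7225) L9749
theorem L9755 : sm gc N1221 = N1221 := ded_25_1 (flp_e L9749) L7219 L9749
theorem L9756 : sm gg N1221 = N1221 := ded_36_2 (flp_e L9749) L7222 L9749
theorem L9757 : sm gh N1221 = N912 := ded_37_2 (flp_e L7310) (flp_h L7223) L9749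
theorem L9759 : sm gd N902 = N1222 := rfl
theorem L9761 : sm gb N1222 = N903 := ded_18_1 (flp_d L7235) (flp_b L7229) L9759
theorem L9763 : sm gg N1222 = N1222 := ded_32_2 (flp_d L9759) L7232 L9759
theorem L9764 : sm gf N902 = N1223 := rfl
theorem L9766 : sm gb N1223 = N904 := ded_20_1 (flp_f L7240) (flp_b L7229) L9764
theorem L9768 : sm gc N1223 = N1223 := ded_26_1 (flp_f L9764) L7231 L9764
theorem L9769 : sm gh N1223 = N914 := ded_40_2 (flp_f L7326) (flp_h L7233) L9764
theorem L9771 : sm ge N1223 = N908 := ded_35_1 (flp_f L7277) (flp_e L5402) (flp_f L5369) L7227 L9764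
theorem L9773 : sm gf N903 = N1224 := rfl
theorem L9775 : sm ga N1224 = N972 := ded_13_1 (flp_f L7831) (flp_a L7237) L9773
theorem L9777 : sm gd N1224 = N904 := ded_31_1 (flp_f L7240) L7235 L9773
theorem L9779 : sm gh N903 = N1225 := rfl
theorem L9781 : sm ga N1225 = N973 := ded_15_1 (flp_h L7835) (flp_a L7237) L9779
theorem L9783 : sm gg N1225 = N1225 := ded_42_1 (flp_h L9779) L7239 L9779
theorem L9784 : sm gd N1225 = N916 := ded_33_1 (flp_h L7342) (flp_d L5453) (flp_h L5382) L7235 L9779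
theorem L9786 : sm gg N904 = N1226 := rfl
theorem L9788 : sm ga N1226 = N974 := ded_14_1 (flp_g L7840) (flp_a L7242) L9786
theorem L9794 : sm gh N1226 = N917 := ded_42_2 (flp_g L7349) (flp_h L7246) L9786
theorem L9797 : sm gd N906 = N1227 := rfl
theorem L9799 : sm ga N1227 = N907 := ded_11_1 (flp_d L7271) (flp_a L7262) L9797
theorem L9801 : sm gb N1227 = N981 := ded_18_1 (flp_d L7911) (flp_b L7264) L9797
theorem L9803 : sm gg N1227 = N1081 := ded_32_2 (flp_d L8678) (flp_g L7267) L9797
theorem L9805 : sm gf N906 = N1228 := rfl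
theorem L9807 : sm ga N1228 = N908 := ded_13_1 (flp_f L7277) (flp_a L7262) L9805
theorem L9809 : sm gb N1228 = N982 := ded_20_1 (flp_f L7917) (flp_b L7264) L9805
theorem L9811 : sm gc N1228 = N1228 := ded_26_1 (flp_f L9805) L7266 L9805
theorem L9812 : sm gh N1228 = N919 := ded_40_2 (flp_f L7369) (flp_h L7269) L9805
theorem L9814 : sm gc N907 = N1229 := rfl
theorem L9816 : sm gg N1229 = N1083 := ded_27_2 (flp_c L8694) (flp_g L7275) L9814
theorem L9818 : sm gb N1229 = N1229 := ded_17_1 (flp_c L9814) L7273 L5417 (flp_b L7273) L9814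
theorem L9819 : sm gd N1229 = N1229 := ded_24_2 (flp_c L9814) (flp_d L7271) L5406 L7271 L9814
theorem L9820 : sm gf N907 = N1230 := rfl
theorem L9822 : sm gb N1230 = N909 := ded_20_1 (flp_f L7284) (flp_b L7273) L9820
theorem L9824 : sm gd N1230 = N908 := ded_31_1 (flp_f L7277) L7271 L9820
theorem L9826 : sm gh N907 = N1231 := rfl
theorem L9832 : sm gd N1231 = N922 := ded_33_1 (flp_h L7393) (flp_d L5490) (flp_h L5409) L7271 L9826
theorem L9834 : sm gg N908 = N1232 := rfl
theorem L9836 : sm gb N1232 = N911 := ded_21_1 (flp_g L7300) (flp_b L7279) L9834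
theorem L9839 : sm gh N1232 = N923 := ded_42_2 (flp_g L7400) (flp_h L7282) L9834
theorem L9843 : sm ge N909 = N1233 := rfl
theorem L9845 : sm ga N1233 = N987 := ded_12_1 (flp_e L7956) (flp_a L7286) L9843
theorem L9847 : sm gc N1233 = N1233 := ded_25_1 (flp_e L9843) L7288 L9843
theorem L9848 : sm gg N909 = N1234 := rfl
theorem L9850 : sm ga N1234 = N988 := ded_14_1 (flp_g L7959) (flp_a L7286) L9848
theorem L9853 : sm gd N1234 = N911 := ded_32_1 (flp_g L7300) (flp_d L7289) L9848
theorem L9855 : sm gf N1234 = N1088 := ded_39_1 (flp_g L8724) (flp_f L6468) (flp_g L5415) L7284 L9848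
theorem L9857 : sm gh N909 = N1235 := rfl
theorem L9859 : sm ga N1235 = N989 := ded_15_1 (flp_h L7966) (flp_a L7286) L9857
theorem L9862 : sm gf N1235 = N910 := ded_40_1 (flp_h L7291) L7284 L9857
theorem L9864 : sm gd N1235 = N926 := ded_33_1 (flp_h L7427) L5510 (flp_h L5424) (flp_d L7289) L9857
theorem L9866 : sm gi N910 = N1236 := rfl
theorem L9868 : sm ga N1236 = N990 := ded_16_1 (flp_i L7973) (flp_a L7293) L9866
theorem L9875 : sm gd N912 = N1237 := rfl
theorem L9877 : sm ga N1237 = N913 := ded_11_1 (flp_d L7319) (flp_a L7312) L9875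
theorem L9879 : sm gb N1237 = N991 := ded_18_1 (flp_d L7980) (flp_b L7314) L9875
theorem L9881 : sm gg N1237 = N1237 := ded_32_2 (flp_d L9875) L7317 L9875
theorem L9882 : sm gi N1237 = N1237 := ded_34_2 (flp_d L9875) L7318 L9875
theorem L9883 : sm ge N1237 = N1237 := ded_30_2 (flp_d L9875) (flp_e L7310) L5439 L7310 L9875
theorem L9884 : sm gf N912 = N1238 := rfl
theorem L9886 : sm ga N1238 = N914 := ded_13_1 (flp_f L7326) (flp_a L7312) L9884
theorem L9888 : sm gb N1238 = N992 := ded_20_1 (flp_f L7987) (flp_b L7314) L9884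
theorem L9890 : sm gc N1238 = N1238 := ded_26_1 (flp_f L9884) L7316 L9884
theorem L9891 : sm gi N1238 = N1238 := ded_41_2 (flp_f L9884) L7318 L9884
theorem L9892 : sm ge N1238 = N919 := ded_35_1 (flp_f L7369) (flp_e L5480) (flp_f L5440) L7310 L9884
theorem L9894 : sm gc N913 = N1239 := rfl
theorem L9896 : sm ge N1239 = N1239 := ded_25_2 (flp_c L9894) L7325 L9894
theorem L9897 : sm gg N1239 = N1239 := ded_27_2 (flp_c L9894) L7323 L9894
theorem L9898 : sm gi N1239 = N1239 := ded_29_2 (flp_c L9894) L7324 L9894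
theorem L9899 : sm gb N1239 = N1239 := ded_17_1 (flp_c L9894) L7321 L5459 (flp_b L7321) L9894
theorem L9900 : sm gd N1239 = N1239 := ded_24_2 (flp_c L9894) (flp_d L7319) L5450 L7319 L9894
theorem L9901 : sm gf N913 = N1240 := rfl
theorem L9903 : sm gb N1240 = N915 := ded_20_1 (flp_f L7334) (flp_b L7321) L9901
theorem L9905 : sm gd N1240 = N914 := ded_31_1 (flp_f L7326) L7319 L9901
theorem L9907 : sm gi N1240 = N1240 := ded_41_2 (flp_f L9901) L7324 L9901
theorem L9908 : sm gh N913 = N1241 := rfl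
theorem L9910 : sm gb N1241 = N916 := ded_22_1 (flp_h L7342) (flp_b L7321) L9908
theorem L9912 : sm ge N1241 = N1241 := ded_37_1 (flp_h L9908) L7325 L9908
theorem L9913 : sm gg N1241 = N1241 := ded_42_1 (flp_h L9908) L7323 L9908
theorem L9914 : sm gg N914 = N1242 := rfl
theorem L9919 : sm ge N1242 = N923 := ded_36_1 (flp_g L7400) (flp_e L7332) L9914
theorem L9923 : sm ge N915 = N1243 := rfl
theorem L9925 : sm ga N1243 = N997 := ded_12_1 (flp_e L8027) (flp_a L7336) L9923
theorem L9929 : sm gd N1243 = N924 := ded_30_1 (flp_e L7408) L5510 (flp_e L5468) (flp_d L7339) L9923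
theorem L9932 : sm gg N915 = N1244 := rfl
theorem L9934 : sm ga N1244 = N998 := ded_14_1 (flp_g L8034) (flp_a L7336) L9932
theorem L9937 : sm gd N1244 = N917 := ded_32_1 (flp_g L7349) (flp_d L7339) L9932
theorem L9941 : sm gh N915 = N1245 := rfl
theorem L9943 : sm ga N1245 = N999 := ded_15_1 (flp_h L8041) (flp_a L7336) L9941
theorem L9945 : sm gc N1245 = N1245 := ded_28_1 (flp_h L9941) L7338 L9941
theorem L9946 : sm gf N1245 = N916 := ded_40_1 (flp_h L7342) L7334 L9941
theorem L9948 : sm gi N916 = N1246 := rfl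
theorem L9950 : sm ga N1246 = N1000 := ded_16_1 (flp_i L8046) (flp_a L7344) L9948
theorem L9952 : sm gc N1246 = N1246 := ded_29_1 (flp_i L9948) L7346 L9948
theorem L9953 : sm ge N1246 = N1246 := ded_38_1 (flp_i L9948) L7347 L9948
theorem L9954 : sm gg N1246 = N1246 := ded_43_1 (flp_i L9948) L7348 L9948
theorem L9955 : sm gh N1246 = N1246 := ded_44_1 (flp_i L9948) (flp_h L7342) L5458 L7342 L9948
theorem L9956 : sm gc N918 = N1247 := rfl
theorem L9958 : sm ga N1247 = N920 := ded_10_1 (flp_c L7377) (flp_a L7361) L9956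
theorem L9961 : sm gg N1247 = N1091 := ded_27_2 (flp_c L8747) (flp_g L7365) L9956
theorem L9966 : sm gf N918 = N1248 := rfl
theorem L9970 : sm gb N1248 = N1001 := ded_20_1 (flp_f L8052) (flp_b L7363) L9966
theorem L9972 : sm gd N1248 = N919 := ded_31_1 (flp_f L7369) L7359 L9966
theorem L9975 : sm gh N918 = N1249 := rfl
theorem L9979 : sm gb N1249 = N1002 := ded_22_1 (flp_h L8060) (flp_b L7363) L9975
theorem L9984 : sm gg N919 = N1250 := rfl
theorem L9986 : sm ga N1250 = N923 := ded_14_1 (flp_g L7400) (flp_a L7371) L9984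
theorem L9988 : sm gb N1250 = N1003 := ded_21_1 (flp_g L8068) (flp_b L7373) L9984
theorem L9994 : sm gf N920 = N1251 := rfl
theorem L9996 : sm gb N1251 = N928 := ded_20_1 (flp_f L7445) (flp_b L7383) L9994
theorem L9998 : sm gc N1251 = N921 := ded_26_1 (flp_f L7386) L7377 L9994
theorem L10002 : sm gh N920 = N1252 := rfl
theorem L10004 : sm gb N1252 = N929 := ded_22_1 (flp_h L7452) (flp_b L7383) L10002
theorem L10006 : sm gc N1252 = N922 := ded_28_1 (flp_h L7393) L7377 L10002
theorem L10011 : sm ge N921 = N1253 := rfl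
theorem L10013 : sm gb N1253 = N924 := ded_19_1 (flp_e L7408) (flp_b L7388) L10011
theorem L10026 : sm gh N921 = N1255 := rfl
theorem L10032 : sm gi N922 = N1256 := rfl
theorem L10034 : sm gb N1256 = N927 := ded_23_1 (flp_i L7435) (flp_b L7395) L10032
theorem L10037 : sm gg N1256 = N1100 := ded_43_1 (flp_i L8815) (flp_g L7398) L10032
theorem L10040 : sm gg N924 = N1257 := rfl
theorem L10046 : sm ge N1257 = N925 := ded_36_1 (flp_g L7416) L7408 L10040
theorem L10049 : sm gh N924 = N1258 := rfl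
theorem L10051 : sm ga N1258 = N1009 := ded_15_1 (flp_h L8117) (flp_a L7410) L10049
theorem L10053 : sm gc N1258 = N935 := ded_28_1 (flp_h L7504) (flp_c L7412) L10049
theorem L10055 : sm ge N1258 = N926 := ded_37_1 (flp_h L7427) L7408 L10049
theorem L10058 : sm gh N925 = N1259 := rfl
theorem L10077 : sm ge N928 = N1261 := rfl
theorem L10080 : sm gc N1261 = N930 := ded_25_1 (flp_e L7460) (flp_c L7448) L10077
theorem L10082 : sm gi N1261 = N1261 := ded_38_2 (flp_e L10077) L7451 L10077
theorem L10084 : sm gg N928 = N1262 := rfl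
theorem L10090 : sm gi N1262 = N1262 := ded_43_2 (flp_g L10084) L7451 L10084
theorem L10091 : sm gf N1262 = N1106 := ded_39_1 (flp_g L8864) (flp_f L6568) (flp_g L5535) L7445 L10084
theorem L10093 : sm gh N928 = N1263 := rfl
theorem L10098 : sm gf N1263 = N929 := ded_40_1 (flp_h L7452) L7445 L10093
theorem L10100 : sm gd N929 = N1264 := rfl
theorem L10103 : sm gg N1264 = N1108 := ded_32_2 (flp_d L8878) (flp_g L7458) L10100
theorem L10116 : sm gg N930 = N1266 := rfl
theorem L10122 : sm ge N1266 = N931 := ded_36_1 (flp_g L7468) L7460 L10116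
theorem L10125 : sm gh N930 = N1267 := rfl
theorem L10128 : sm gb N1267 = N935 := ded_22_1 (flp_h L7504) (flp_b L7463) L10125
theorem L10143 : sm gi N932 = N1269 := rfl
theorem L10149 : sm gf N1269 = N933 := ded_41_1 (flp_i L7486) (flp_f L7483) L10143
theorem L10161 : sm gh N934 = N1271 := rfl
theorem L10163 : sm ga N1271 = N1013 := ded_15_1 (flp_h L8147) (flp_a L7498) L10161
theorem L10167 : sm gg N1271 = N935 := ded_42_1 (flp_h L7504) L7496 L10161
theorem L10169 : sm gd N935 = N1272 := rfl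
theorem L10171 : sm ga N1272 = N1014 := ded_11_1 (flp_d L8154) (flp_a L7506) L10169
theorem L10194 : sm gb N938 = N1275 := rfl
theorem L10196 : sm gd N1275 = N1275 := ded_18_2 (flp_b L10194) L7535 L10194
theorem L10197 : sm gf N1275 = N1275 := ded_20_2 (flp_b L10194) L7530 L10194
theorem L10198 : sm gg N1275 = N1275 := ded_21_2 (flp_b L10194) L7531 L10194
theorem L10199 : sm gh N1275 = N940 := ded_22_2 (flp_b L7544) (flp_h L7532) L10194
theorem L10201 : sm gi N1275 = N1275 := ded_23_2 (flp_b L10194) L7534 L10194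
theorem L10202 : sm gc N1275 = N1275 := ded_17_2 (flp_b L10194) (flp_c L7528) L5601 L7528 L10194
theorem L10203 : sm ge N938 = N1276 := rfl
theorem L10205 : sm gc N1276 = N939 := ded_25_1 (flp_e L7536) L7528 L10203
theorem L10207 : sm gg N1276 = N1276 := ded_36_2 (flp_e L10203) L7531 L10203
theorem L10208 : sm gh N1276 = N941 := ded_37_2 (flp_e L7553) (flp_h L7532) L10203
theorem L10210 : sm gi N1276 = N1276 := ded_38_2 (flp_e L10203) L7534 L10203
theorem L10211 : sm gf N939 = N1277 := rfl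
theorem L10213 : sm gb N1277 = N1277 := ded_20_1 (flp_f L10211) L7538 L10211
theorem L10214 : sm gd N1277 = N1277 := ded_31_1 (flp_f L10211) L7543 L10211
theorem L10215 : sm gh N1277 = N942 := ded_40_2 (flp_f L7560) (flp_h L7540) L10211
theorem L10217 : sm gi N1277 = N1277 := ded_41_2 (flp_f L10211) L7542 L10211
theorem L10218 : sm ge N1277 = N1277 := ded_35_1 (flp_f L10211) (flp_e L7536) L5602 L7536 L10211
theorem L10219 : sm ga N940 = N1278 := rfl
theorem L10221 : sm gc N1278 = N1278 := ded_10_2 (flp_a L10219) L7552 L10219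
theorem L10222 : sm gd N1278 = N959 := ded_11_2 (flp_a L7716) (flp_d L7546) L10219
theorem L10224 : sm gf N1278 = N1278 := ded_13_2 (flp_a L10219) L7548 L10219
theorem L10225 : sm gg N1278 = N1278 := ded_14_2 (flp_a L10219) L7549 L10219
theorem L10226 : sm gi N1278 = N1216 := ded_16_2 (flp_a L9709) (flp_i L7550) L10219
theorem L10228 : sm ge N940 = N1279 := rfl
theorem L10230 : sm gb N1279 = N941 := ded_19_1 (flp_e L7553) L7544 L10228
theorem L10232 : sm gc N1279 = N1279 := ded_25_1 (flp_e L10228) L7552 L10228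
theorem L10233 : sm gg N1279 = N1279 := ded_36_2 (flp_e L10228) L7549 L10228
theorem L10234 : sm gi N1279 = N1217 := ded_38_2 (flp_e L9717) (flp_i L7550) L10228
theorem L10236 : sm gd N941 = N1280 := rfl
theorem L10238 : sm gg N1280 = N1280 := ded_32_2 (flp_d L10236) L7557 L10236
theorem L10239 : sm gi N1280 = N1218 := ded_34_2 (flp_d L9724) (flp_i L7558) L10236
theorem L10241 : sm gc N1280 = N945 := ded_24_1 (flp_d L7588) L5636 (flp_d L5621) (flp_c L7555) L10236
theorem L10243 : sm ge N1280 = N961 := ded_30_2 (flp_d L7731) (flp_e L5734) (flp_d L5613) L7553 L10236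
theorem L10245 : sm gf N941 = N1281 := rfl
theorem L10247 : sm gc N1281 = N942 := ded_26_1 (flp_f L7560) (flp_c L7555) L10245
theorem L10249 : sm gi N1281 = N1219 := ded_41_2 (flp_f L9731) (flp_i L7558) L10245
theorem L10251 : sm ge N1281 = N1281 := ded_35_1 (flp_f L10245) (flp_e L7553) L5609 L7553 L10245
theorem L10252 : sm gg N942 = N1282 := rfl
theorem L10254 : sm gb N1282 = N1282 := ded_21_1 (flp_g L10252) L7562 L10252
theorem L10255 : sm gd N1282 = N947 := ded_32_1 (flp_g L7604) (flp_d L7563) L10252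
theorem L10257 : sm ge N1282 = N1282 := ded_36_1 (flp_g L10252) L7567 L10252
theorem L10258 : sm gi N1282 = N1220 := ded_43_2 (flp_g L9739) (flp_i L7565) L10252
theorem L10260 : sm gf N1282 = N1282 := ded_39_1 (flp_g L10252) (flp_f L7560) L5618 L7560 L10252
theorem L10261 : sm ge N943 = N1283 := rfl
theorem L10263 : sm ga N1283 = N944 := ded_12_1 (flp_e L7579) L7568 L10261
theorem L10265 : sm gc N1283 = N1283 := ded_25_1 (flp_e L10261) L7570 L10261
theorem L10266 : sm gg N1283 = N1283 := ded_36_2 (flp_e L10261) L7575 L10261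
theorem L10267 : sm gh N1283 = N1283 := ded_37_2 (flp_e L10261) L7576 L10261
theorem L10268 : sm gi N1283 = N1221 := ded_38_2 (flp_e L9749) (flp_i L7577) L10261
theorem L10270 : sm gd N944 = N1284 := rfl
theorem L10272 : sm gb N1284 = N945 := ded_18_1 (flp_d L7588) (flp_b L7581) L10270
theorem L10274 : sm gg N1284 = N1284 := ded_32_2 (flp_d L10270) L7584 L10270
theorem L10275 : sm gi N1284 = N1222 := ded_34_2 (flp_d L9759) (flp_i L7586) L10270
theorem L10277 : sm ge N1284 = N970 := ded_30_2 (flp_d L7816) (flp_e L5790) (flp_d L5625) L7579 L10270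
theorem L10279 : sm gf N944 = N1285 := rfl
theorem L10281 : sm gb N1285 = N946 := ded_20_1 (flp_f L7595) (flp_b L7581) L10279
theorem L10283 : sm gc N1285 = N1285 := ded_26_1 (flp_f L10279) L7583 L10279
theorem L10284 : sm gh N1285 = N1285 := ded_40_2 (flp_f L10279) L7585 L10279
theorem L10285 : sm gi N1285 = N1223 := ded_41_2 (flp_f L9764) (flp_i L7586) L10279
theorem L10287 : sm ge N1285 = N950 := ded_35_1 (flp_f L7633) (flp_e L5660) (flp_f L5627) L7579 L10279
theorem L10289 : sm gf N945 = N1286 := rfl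
theorem L10291 : sm gd N1286 = N946 := ded_31_1 (flp_f L7595) L7588 L10289
theorem L10293 : sm gi N1286 = N1224 := ded_41_2 (flp_f L9773) (flp_i L7591) L10289
theorem L10295 : sm gh N945 = N1287 := rfl
theorem L10297 : sm ge N1287 = N973 := ded_37_1 (flp_h L7835) (flp_e L7593) L10295
theorem L10299 : sm gg N1287 = N1287 := ded_42_1 (flp_h L10295) L7590 L10295
theorem L10300 : sm gd N1287 = N1287 := ded_33_1 (flp_h L10295) (flp_d L7588) L5639 L7588 L10295
theorem L10301 : sm gg N946 = N1288 := rfl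
theorem L10303 : sm gc N1288 = N947 := ded_27_1 (flp_g L7604) (flp_c L7597) L10301
theorem L10305 : sm ge N1288 = N953 := ded_36_1 (flp_g L7656) (flp_e L7602) L10301
theorem L10307 : sm gh N1288 = N1288 := ded_42_2 (flp_g L10301) L7599 L10301
theorem L10308 : sm gi N1288 = N1226 := ded_43_2 (flp_g L9786) (flp_i L7600) L10301
theorem L10310 : sm gf N1288 = N1288 := ded_39_1 (flp_g L10301) (flp_f L7595) L5638 L7595 L10301
theorem L10311 : sm gd N948 = N1289 := rfl
theorem L10313 : sm ga N1289 = N949 := ded_11_1 (flp_d L7623) (flp_a L7615) L10311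
theorem L10315 : sm gg N1289 = N1119 := ded_32_2 (flp_d L8965) (flp_g L7618) L10311
theorem L10317 : sm gi N1289 = N1227 := ded_34_2 (flp_d L9797) (flp_i L7621) L10311
theorem L10319 : sm ge N1289 = N981 := ded_30_2 (flp_d L7911) (flp_e L5875) (flp_d L5653) L7613 L10311
theorem L10321 : sm gf N948 = N1290 := rfl
theorem L10323 : sm ga N1290 = N950 := ded_13_1 (flp_f L7633) (flp_a L7615) L10321
theorem L10325 : sm gc N1290 = N1290 := ded_26_1 (flp_f L10321) L7617 L10321
theorem L10326 : sm gh N1290 = N1290 := ded_40_2 (flp_f L10321) L7620 L10321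
theorem L10327 : sm gi N1290 = N1228 := ded_41_2 (flp_f L9805) (flp_i L7621) L10321
theorem L10329 : sm gc N949 = N1291 := rfl
theorem L10331 : sm ge N1291 = N983 := ded_25_2 (flp_c L7925) (flp_e L7631) L10329
theorem L10333 : sm gg N1291 = N1121 := ded_27_2 (flp_c L8982) (flp_g L7627) L10329
theorem L10335 : sm gi N1291 = N1229 := ded_29_2 (flp_c L9814) (flp_i L7629) L10329
theorem L10337 : sm gb N1291 = N1291 := ded_17_1 (flp_c L10329) L7625 L5676 (flp_b L7625) L10329
theorem L10338 : sm gd N1291 = N1291 := ded_24_2 (flp_c L10329) (flp_d L7623) L5664 L7623 L10329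
theorem L10339 : sm gf N949 = N1292 := rfl
theorem L10341 : sm gb N1292 = N951 := ded_20_1 (flp_f L7641) (flp_b L7625) L10339
theorem L10343 : sm gd N1292 = N950 := ded_31_1 (flp_f L7633) L7623 L10339
theorem L10345 : sm gi N1292 = N1230 := ded_41_2 (flp_f L9820) (flp_i L7629) L10339
theorem L10347 : sm gh N949 = N1293 := rfl
theorem L10349 : sm gb N1293 = N952 := ded_22_1 (flp_h L7648) (flp_b L7625) L10347
theorem L10351 : sm ge N1293 = N985 := ded_37_1 (flp_h L7938) (flp_e L7631) L10347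
theorem L10353 : sm gg N1293 = N1123 := ded_42_1 (flp_h L8998) (flp_g L7627) L10347
theorem L10355 : sm gd N1293 = N1293 := ded_33_1 (flp_h L10347) (flp_d L7623) L5667 L7623 L10347
theorem L10356 : sm gg N950 = N1294 := rfl
theorem L10358 : sm gb N1294 = N953 := ded_21_1 (flp_g L7656) (flp_b L7635) L10356
theorem L10360 : sm gc N1294 = N1294 := ded_27_1 (flp_g L10356) L7637 L10356
theorem L10361 : sm gh N1294 = N1294 := ded_42_2 (flp_g L10356) L7638 L10356
theorem L10362 : sm gi N1294 = N1232 := ded_43_2 (flp_g L9834) (flp_i L7639) L10356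
theorem L10364 : sm gf N1294 = N1124 := ded_39_1 (flp_g L9005) (flp_f L6661) (flp_g L5665) L7633 L10356
theorem L10366 : sm ge N951 = N1295 := rfl
theorem L10368 : sm gc N1295 = N1295 := ded_25_1 (flp_e L10366) L7643 L10366
theorem L10369 : sm gi N1295 = N1233 := ded_38_2 (flp_e L9843) (flp_i L7646) L10366
theorem L10371 : sm gf N1295 = N987 := ded_35_2 (flp_e L7956) (flp_f L5899) (flp_e L5677) L7641 L10366
theorem L10373 : sm gg N951 = N1296 := rfl
theorem L10375 : sm gc N1296 = N1296 := ded_27_1 (flp_g L10373) L7643 L10373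
theorem L10376 : sm gd N1296 = N953 := ded_32_1 (flp_g L7656) (flp_d L7644) L10373
theorem L10378 : sm gi N1296 = N1234 := ded_43_2 (flp_g L9848) (flp_i L7646) L10373
theorem L10380 : sm gf N1296 = N1126 := ded_39_1 (flp_g L9022) (flp_f L6670) (flp_g L5672) L7641 L10373
theorem L10382 : sm gh N951 = N1297 := rfl
theorem L10384 : sm gc N1297 = N1297 := ded_28_1 (flp_h L10382) L7643 L10382
theorem L10385 : sm gf N1297 = N952 := ded_40_1 (flp_h L7648) L7641 L10382
theorem L10387 : sm gd N1297 = N1297 := ded_33_1 (flp_h L10382) L7644 L5683 (flp_d L7644) L10382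
theorem L10388 : sm gi N952 = N1298 := rfl
theorem L10390 : sm gc N1298 = N1298 := ded_29_1 (flp_i L10388) L7650 L10388
theorem L10391 : sm gd N1298 = N1298 := ded_34_1 (flp_i L10388) L7655 L10388
theorem L10392 : sm ge N1298 = N990 := ded_38_1 (flp_i L7973) (flp_e L7651) L10388
theorem L10396 : sm gh N1298 = N1236 := ded_44_1 (flp_i L9866) (flp_h L7291) (flp_i L5674) L7648 L10388
theorem L10398 : sm gb N954 = N1299 := rfl
theorem L10400 : sm gd N1299 = N1299 := ded_18_2 (flp_b L10398) L7674 L10398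
theorem L10401 : sm gf N1299 = N1299 := ded_20_2 (flp_b L10398) L7669 L10398
theorem L10402 : sm gg N1299 = N1299 := ded_21_2 (flp_b L10398) L7670 L10398
theorem L10403 : sm gh N1299 = N956 := ded_22_2 (flp_b L7686) (flp_h L7671) L10398
theorem L10405 : sm gi N1299 = N1299 := ded_23_2 (flp_b L10398) L7673 L10398
theorem L10406 : sm gc N1299 = N1019 := ded_17_2 (flp_b L8193) (flp_c L6068) (flp_b L5699) L7665 L10398
theorem L10408 : sm ge N954 = N1300 := rfl
theorem L10410 : sm ga N1300 = N1276 := ded_12_1 (flp_e L10203) (flp_a L7667) L10408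
theorem L10412 : sm gc N1300 = N955 := ded_25_1 (flp_e L7675) L7665 L10408
theorem L10414 : sm gg N1300 = N1300 := ded_36_2 (flp_e L10408) L7670 L10408
theorem L10415 : sm gh N1300 = N957 := ded_37_2 (flp_e L7696) (flp_h L7671) L10408
theorem L10417 : sm gi N1300 = N1300 := ded_38_2 (flp_e L10408) L7673 L10408
theorem L10418 : sm gf N955 = N1301 := rfl
theorem L10420 : sm ga N1301 = N1277 := ded_13_1 (flp_f L10211) (flp_a L7677) L10418
theorem L10422 : sm gb N1301 = N1021 := ded_20_1 (flp_f L8209) (flp_b L7679) L10418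
theorem L10424 : sm gd N1301 = N1301 := ded_31_1 (flp_f L10418) L7685 L10418
theorem L10425 : sm gh N1301 = N958 := ded_40_2 (flp_f L7705) (flp_h L7682) L10418
theorem L10427 : sm gi N1301 = N1301 := ded_41_2 (flp_f L10418) L7684 L10418
theorem L10428 : sm ge N1301 = N1301 := ded_35_1 (flp_f L10418) (flp_e L7675) L5701 L7675 L10418
theorem L10429 : sm ga N956 = N1302 := rfl
theorem L10431 : sm gc N1302 = N1022 := ded_10_2 (flp_a L8217) (flp_c L7694) L10429
theorem L10433 : sm gd N1302 = N1216 := ded_11_2 (flp_a L9709) (flp_d L7688) L10429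
theorem L10435 : sm gf N1302 = N1302 := ded_13_2 (flp_a L10429) L7690 L10429
theorem L10436 : sm gg N1302 = N1302 := ded_14_2 (flp_a L10429) L7691 L10429
theorem L10437 : sm gi N1302 = N959 := ded_16_2 (flp_a L7716) (flp_i L7692) L10429
theorem L10439 : sm gb N1302 = N1278 := ded_9_2 (flp_a L10219) (flp_b L7544) (flp_a L5708) L7686 L10429
theorem L10441 : sm ge N956 = N1303 := rfl
theorem L10443 : sm gb N1303 = N957 := ded_19_1 (flp_e L7696) L7686 L10441
theorem L10445 : sm gc N1303 = N1023 := ded_25_1 (flp_e L8225) (flp_c L7694) L10441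
theorem L10447 : sm gg N1303 = N1303 := ded_36_2 (flp_e L10441) L7691 L10441
theorem L10448 : sm gi N1303 = N960 := ded_38_2 (flp_e L7723) (flp_i L7692) L10441
theorem L10450 : sm gd N957 = N1304 := rfl
theorem L10452 : sm ga N1304 = N1280 := ded_11_1 (flp_d L10236) (flp_a L7698) L10450
theorem L10454 : sm gg N1304 = N1304 := ded_32_2 (flp_d L10450) L7702 L10450
theorem L10455 : sm gi N1304 = N961 := ded_34_2 (flp_d L7731) (flp_i L7703) L10450
theorem L10457 : sm gc N1304 = N966 := ded_24_1 (flp_d L7775) L5764 (flp_d L5725) (flp_c L7700) L10450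
theorem L10459 : sm ge N1304 = N1218 := ded_30_2 (flp_d L9724) (flp_e L7200) (flp_d L5714) L7696 L10450
theorem L10461 : sm gf N957 = N1305 := rfl
theorem L10463 : sm ga N1305 = N1281 := ded_13_1 (flp_f L10245) (flp_a L7698) L10461
theorem L10465 : sm gc N1305 = N958 := ded_26_1 (flp_f L7705) (flp_c L7700) L10461
theorem L10467 : sm gi N1305 = N962 := ded_41_2 (flp_f L7736) (flp_i L7703) L10461
theorem L10469 : sm ge N1305 = N1305 := ded_35_1 (flp_f L10461) (flp_e L7696) L5710 L7696 L10461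
theorem L10470 : sm gg N958 = N1306 := rfl
theorem L10472 : sm ga N1306 = N1282 := ded_14_1 (flp_g L10252) (flp_a L7707) L10470
theorem L10474 : sm gb N1306 = N1026 := ded_21_1 (flp_g L8249) (flp_b L7709) L10470
theorem L10476 : sm gd N1306 = N968 := ded_32_1 (flp_g L7795) (flp_d L7711) L10470
theorem L10478 : sm ge N1306 = N1306 := ded_36_1 (flp_g L10470) L7715 L10470
theorem L10479 : sm gi N1306 = N963 := ded_43_2 (flp_g L7742) (flp_i L7713) L10470
theorem L10481 : sm gf N1306 = N1306 := ded_39_1 (flp_g L10470) (flp_f L7705) L5722 L7705 L10470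
theorem L10482 : sm ge N959 = N1307 := rfl
theorem L10484 : sm ga N1307 = N960 := ded_12_1 (flp_e L7723) L7716 L10482
theorem L10486 : sm gc N1307 = N1027 := ded_25_1 (flp_e L8258) (flp_c L7718) L10482
theorem L10488 : sm gg N1307 = N1307 := ded_36_2 (flp_e L10482) L7721 L10482
theorem L10489 : sm gh N1307 = N1307 := ded_37_2 (flp_e L10482) L7722 L10482
theorem L10490 : sm gd N960 = N1308 := rfl
theorem L10492 : sm gb N1308 = N961 := ded_18_1 (flp_d L7731) (flp_b L7725) L10490
theorem L10494 : sm gg N1308 = N1308 := ded_32_2 (flp_d L10490) L7729 L10490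
theorem L10495 : sm gf N960 = N1309 := rfl
theorem L10497 : sm gb N1309 = N962 := ded_20_1 (flp_f L7736) (flp_b L7725) L10495
theorem L10499 : sm gc N1309 = N1029 := ded_26_1 (flp_f L8271) (flp_c L7727) L10495
theorem L10501 : sm gh N1309 = N1309 := ded_40_2 (flp_f L10495) L7730 L10495
theorem L10502 : sm ge N1309 = N1309 := ded_35_1 (flp_f L10495) (flp_e L7723) L5729 L7723 L10495
theorem L10503 : sm gf N961 = N1310 := rfl
theorem L10505 : sm gc N1310 = N972 := ded_26_1 (flp_f L7831) (flp_c L7734) L10503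
theorem L10507 : sm gd N1310 = N962 := ded_31_1 (flp_f L7736) L7731 L10503
theorem L10509 : sm gh N961 = N1311 := rfl
theorem L10511 : sm gc N1311 = N973 := ded_28_1 (flp_h L7835) (flp_c L7734) L10509
theorem L10513 : sm gg N1311 = N1311 := ded_42_1 (flp_h L10509) L7733 L10509
theorem L10514 : sm gd N1311 = N1311 := ded_33_1 (flp_h L10509) (flp_d L7731) L5739 L7731 L10509
theorem L10515 : sm gg N962 = N1312 := rfl
theorem L10517 : sm gc N1312 = N963 := ded_27_1 (flp_g L7742) (flp_c L7738) L10515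
theorem L10519 : sm ge N1312 = N1312 := ded_36_1 (flp_g L10515) L7741 L10515
theorem L10520 : sm gh N1312 = N1312 := ded_42_2 (flp_g L10515) L7740 L10515
theorem L10521 : sm gf N1312 = N1312 := ded_39_1 (flp_g L10515) (flp_f L7736) L5738 L7736 L10515
theorem L10522 : sm ge N964 = N1313 := rfl
theorem L10524 : sm ga N1313 = N965 := ded_12_1 (flp_e L7765) L7751 L10522
theorem L10526 : sm gb N1313 = N1283 := ded_19_1 (flp_e L10261) (flp_b L7763) L10522
theorem L10528 : sm gc N1313 = N1033 := ded_25_1 (flp_e L8300) (flp_c L7753) L10522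
theorem L10530 : sm gg N1313 = N1313 := ded_36_2 (flp_e L10522) L7759 L10522
theorem L10531 : sm gh N1313 = N1313 := ded_37_2 (flp_e L10522) L7760 L10522
theorem L10532 : sm gi N1313 = N969 := ded_38_2 (flp_e L7807) (flp_i L7761) L10522
theorem L10534 : sm gd N965 = N1314 := rfl
theorem L10536 : sm gb N1314 = N966 := ded_18_1 (flp_d L7775) (flp_b L7767) L10534
theorem L10538 : sm gg N1314 = N1314 := ded_32_2 (flp_d L10534) L7771 L10534
theorem L10539 : sm gi N1314 = N970 := ded_34_2 (flp_d L7816) (flp_i L7773) L10534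
theorem L10541 : sm ge N1314 = N1222 := ded_30_2 (flp_d L9759) (flp_e L7227) (flp_d L5750) L7765 L10534
theorem L10543 : sm gf N965 = N1315 := rfl
theorem L10545 : sm gb N1315 = N967 := ded_20_1 (flp_f L7784) (flp_b L7767) L10543
theorem L10547 : sm gc N1315 = N1035 := ded_26_1 (flp_f L8317) (flp_c L7769) L10543
theorem L10549 : sm gh N1315 = N1315 := ded_40_2 (flp_f L10543) L7772 L10543
theorem L10550 : sm gi N1315 = N971 := ded_41_2 (flp_f L7821) (flp_i L7773) L10543
theorem L10552 : sm ge N1315 = N977 := ded_35_1 (flp_f L7872) (flp_e L5832) (flp_f L5752) L7765 L10543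
theorem L10554 : sm gf N966 = N1316 := rfl
theorem L10556 : sm ga N1316 = N1286 := ded_13_1 (flp_f L10289) (flp_a L7777) L10554
theorem L10558 : sm gd N1316 = N967 := ded_31_1 (flp_f L7784) L7775 L10554
theorem L10560 : sm gi N1316 = N972 := ded_41_2 (flp_f L7831) (flp_i L7780) L10554
theorem L10562 : sm gh N966 = N1317 := rfl
theorem L10564 : sm ga N1317 = N1287 := ded_15_1 (flp_h L10295) (flp_a L7777) L10562
theorem L10566 : sm ge N1317 = N1225 := ded_37_1 (flp_h L9779) (flp_e L7782) L10562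
theorem L10568 : sm gg N1317 = N1317 := ded_42_1 (flp_h L10562) L7779 L10562
theorem L10569 : sm gd N1317 = N1317 := ded_33_1 (flp_h L10562) (flp_d L7775) L5767 L7775 L10562
theorem L10570 : sm gg N967 = N1318 := rfl
theorem L10572 : sm ga N1318 = N1288 := ded_14_1 (flp_g L10301) (flp_a L7786) L10570
theorem L10574 : sm gc N1318 = N968 := ded_27_1 (flp_g L7795) (flp_c L7788) L10570
theorem L10576 : sm ge N1318 = N980 := ded_36_1 (flp_g L7900) (flp_e L7793) L10570
theorem L10578 : sm gh N1318 = N1318 := ded_42_2 (flp_g L10570) L7790 L10570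
theorem L10579 : sm gi N1318 = N974 := ded_43_2 (flp_g L7840) (flp_i L7791) L10570
theorem L10581 : sm gf N1318 = N1318 := ded_39_1 (flp_g L10570) (flp_f L7784) L5766 L7784 L10570
theorem L10582 : sm gd N969 = N1319 := rfl
theorem L10584 : sm ga N1319 = N970 := ded_11_1 (flp_d L7816) (flp_a L7809) L10582
theorem L10586 : sm gg N1319 = N1319 := ded_32_2 (flp_d L10582) L7813 L10582
theorem L10587 : sm gf N969 = N1320 := rfl
theorem L10589 : sm ga N1320 = N971 := ded_13_1 (flp_f L7821) (flp_a L7809) L10587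
theorem L10591 : sm gc N1320 = N1040 := ded_26_1 (flp_f L8357) (flp_c L7811) L10587
theorem L10593 : sm gh N1320 = N992 := ded_40_2 (flp_f L7987) (flp_h L7814) L10587
theorem L10595 : sm ge N1320 = N982 := ded_35_1 (flp_f L7917) (flp_e L5875) (flp_f L5785) L7807 L10587
theorem L10597 : sm gc N970 = N1321 := rfl
theorem L10599 : sm gg N1321 = N1321 := ded_27_2 (flp_c L10597) L7820 L10597
theorem L10600 : sm gd N1321 = N1041 := ded_24_2 (flp_c L8366) (flp_d L6194) (flp_c L5794) L7816 L10597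
theorem L10602 : sm gf N970 = N1322 := rfl
theorem L10604 : sm gb N1322 = N972 := ded_20_1 (flp_f L7831) (flp_b L7818) L10602
theorem L10606 : sm gd N1322 = N971 := ded_31_1 (flp_f L7821) L7816 L10602
theorem L10608 : sm gh N970 = N1323 := rfl
theorem L10610 : sm gb N1323 = N973 := ded_22_1 (flp_h L7835) (flp_b L7818) L10608
theorem L10612 : sm gg N1323 = N1323 := ded_42_1 (flp_h L10608) L7820 L10608
theorem L10613 : sm gd N1323 = N995 := ded_33_1 (flp_h L8011) (flp_d L5927) (flp_h L5797) L7816 L10608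
theorem L10615 : sm gg N971 = N1324 := rfl
theorem L10617 : sm gb N1324 = N974 := ded_21_1 (flp_g L7840) (flp_b L7823) L10615
theorem L10619 : sm gc N1324 = N1044 := ded_27_1 (flp_g L8384) (flp_c L7825) L10615
theorem L10621 : sm ge N1324 = N986 := ded_36_1 (flp_g L7946) (flp_e L7829) L10615
theorem L10623 : sm gh N1324 = N996 := ded_42_2 (flp_g L8017) (flp_h L7827) L10615
theorem L10625 : sm gf N1324 = N1324 := ded_39_1 (flp_g L10615) (flp_f L7821) L5796 L7821 L10615
theorem L10626 : sm ge N972 = N1325 := rfl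
theorem L10628 : sm gd N1325 = N987 := ded_30_1 (flp_e L7956) L5902 (flp_e L5808) (flp_d L7833) L10626
theorem L10630 : sm gg N972 = N1326 := rfl
theorem L10632 : sm gd N1326 = N974 := ded_32_1 (flp_g L7840) (flp_d L7833) L10630
theorem L10634 : sm gf N1326 = N1326 := ded_39_1 (flp_g L10630) (flp_f L7831) L5801 L7831 L10630
theorem L10635 : sm gh N972 = N1327 := rfl
theorem L10637 : sm gf N1327 = N973 := ded_40_1 (flp_h L7835) L7831 L10635
theorem L10639 : sm gd N1327 = N999 := ded_33_1 (flp_h L8041) L5946 (flp_h L5806) (flp_d L7833) L10635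
theorem L10641 : sm gi N973 = N1328 := rfl
theorem L10643 : sm gd N1328 = N1000 := ded_34_1 (flp_i L8046) (flp_d L7838) L10641
theorem L10645 : sm gg N1328 = N1328 := ded_43_1 (flp_i L10641) L7837 L10641
theorem L10646 : sm gd N975 = N1329 := rfl
theorem L10648 : sm ga N1329 = N976 := ded_11_1 (flp_d L7862) (flp_a L7851) L10646
theorem L10650 : sm gb N1329 = N1289 := ded_18_1 (flp_d L10311) (flp_b L7853) L10646
theorem L10652 : sm gg N1329 = N1129 := ded_32_2 (flp_d L9043) (flp_g L7857) L10646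
theorem L10654 : sm gi N1329 = N981 := ded_34_2 (flp_d L7911) (flp_i L7860) L10646
theorem L10656 : sm ge N1329 = N1227 := ded_30_2 (flp_d L9797) (flp_e L7260) (flp_d L5823) L7849 L10646
theorem L10658 : sm gf N975 = N1330 := rfl
theorem L10660 : sm ga N1330 = N977 := ded_13_1 (flp_f L7872) (flp_a L7851) L10658
theorem L10662 : sm gb N1330 = N1290 := ded_20_1 (flp_f L10321) (flp_b L7853) L10658
theorem L10664 : sm gc N1330 = N1050 := ded_26_1 (flp_f L8429) (flp_c L7855) L10658
theorem L10666 : sm gh N1330 = N1330 := ded_40_2 (flp_f L10658) L7859 L10658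
theorem L10667 : sm gi N1330 = N982 := ded_41_2 (flp_f L7917) (flp_i L7860) L10658
theorem L10669 : sm gc N976 = N1331 := rfl
theorem L10671 : sm ge N1331 = N1229 := ded_25_2 (flp_c L9814) (flp_e L7870) L10669
theorem L10673 : sm gg N1331 = N1131 := ded_27_2 (flp_c L9065) (flp_g L7866) L10669
theorem L10675 : sm gi N1331 = N983 := ded_29_2 (flp_c L7925) (flp_i L7868) L10669
theorem L10677 : sm gb N1331 = N1331 := ded_17_1 (flp_c L10669) L7864 L5851 (flp_b L7864) L10669
theorem L10678 : sm gd N1331 = N1051 := ded_24_2 (flp_c L8437) (flp_d L6240) (flp_c L5836) L7862 L10669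
theorem L10680 : sm gf N976 = N1332 := rfl
theorem L10682 : sm gb N1332 = N978 := ded_20_1 (flp_f L7881) (flp_b L7864) L10680
theorem L10684 : sm gd N1332 = N977 := ded_31_1 (flp_f L7872) L7862 L10680
theorem L10686 : sm gi N1332 = N984 := ded_41_2 (flp_f L7932) (flp_i L7868) L10680
theorem L10688 : sm gh N976 = N1333 := rfl
theorem L10690 : sm gb N1333 = N979 := ded_22_1 (flp_h L7890) (flp_b L7864) L10688
theorem L10692 : sm ge N1333 = N1231 := ded_37_1 (flp_h L9826) (flp_e L7870) L10688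
theorem L10694 : sm gg N1333 = N1133 := ded_42_1 (flp_h L9082) (flp_g L7866) L10688
theorem L10696 : sm gd N1333 = N1333 := ded_33_1 (flp_h L10688) (flp_d L7862) L5840 L7862 L10688
theorem L10697 : sm gg N977 = N1334 := rfl
theorem L10699 : sm gb N1334 = N980 := ded_21_1 (flp_g L7900) (flp_b L7874) L10697
theorem L10701 : sm gc N1334 = N1054 := ded_27_1 (flp_g L8462) (flp_c L7876) L10697
theorem L10703 : sm gh N1334 = N1334 := ded_42_2 (flp_g L10697) L7878 L10697
theorem L10704 : sm gi N1334 = N986 := ded_43_2 (flp_g L7946) (flp_i L7879) L10697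
theorem L10706 : sm gf N1334 = N1134 := ded_39_1 (flp_g L9089) (flp_f L6710) (flp_g L5838) L7872 L10697
theorem L10708 : sm ge N978 = N1335 := rfl
theorem L10710 : sm ga N1335 = N1295 := ded_12_1 (flp_e L10366) (flp_a L7883) L10708
theorem L10712 : sm gc N1335 = N1335 := ded_25_1 (flp_e L10708) L7885 L10708
theorem L10713 : sm gi N1335 = N987 := ded_38_2 (flp_e L7956) (flp_i L7888) L10708
theorem L10715 : sm gf N1335 = N1233 := ded_35_2 (flp_e L9843) (flp_f L7284) (flp_e L5852) L7881 L10708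
theorem L10717 : sm gg N978 = N1336 := rfl
theorem L10719 : sm ga N1336 = N1296 := ded_14_1 (flp_g L10373) (flp_a L7883) L10717
theorem L10721 : sm gc N1336 = N1336 := ded_27_1 (flp_g L10717) L7885 L10717
theorem L10722 : sm gd N1336 = N980 := ded_32_1 (flp_g L7900) (flp_d L7886) L10717
theorem L10724 : sm gi N1336 = N988 := ded_43_2 (flp_g L7959) (flp_i L7888) L10717
theorem L10726 : sm gf N1336 = N1136 := ded_39_1 (flp_g L9109) (flp_f L6720) (flp_g L5847) L7881 L10717
theorem L10728 : sm gh N978 = N1337 := rfl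
theorem L10730 : sm ga N1337 = N1297 := ded_15_1 (flp_h L10382) (flp_a L7883) L10728
theorem L10732 : sm gc N1337 = N1337 := ded_28_1 (flp_h L10728) L7885 L10728
theorem L10733 : sm gf N1337 = N979 := ded_40_1 (flp_h L7890) L7881 L10728
theorem L10735 : sm gd N1337 = N1337 := ded_33_1 (flp_h L10728) L7886 L5860 (flp_d L7886) L10728
theorem L10736 : sm gi N979 = N1338 := rfl
theorem L10738 : sm ga N1338 = N1298 := ded_16_1 (flp_i L10388) (flp_a L7892) L10736
theorem L10740 : sm gc N1338 = N1338 := ded_29_1 (flp_i L10736) L7894 L10736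
theorem L10741 : sm gd N1338 = N1338 := ded_34_1 (flp_i L10736) L7899 L10736
theorem L10742 : sm ge N1338 = N1236 := ded_38_1 (flp_i L9866) (flp_e L7895) L10736
theorem L10744 : sm gg N1338 = N1138 := ded_43_1 (flp_i L9126) (flp_g L7897) L10736
theorem L10746 : sm gh N1338 = N990 := ded_44_1 (flp_i L7973) (flp_h L5904) (flp_i L5849) L7890 L10736
theorem L10748 : sm gc N981 = N1339 := rfl
theorem L10750 : sm ga N1339 = N983 := ded_10_1 (flp_c L7925) (flp_a L7913) L10748
theorem L10752 : sm gg N1339 = N1139 := ded_27_2 (flp_c L9136) (flp_g L7915) L10748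
theorem L10754 : sm gd N1339 = N1058 := ded_24_2 (flp_c L8496) (flp_d L6283) (flp_c L5879) L7911 L10748
theorem L10756 : sm gf N981 = N1340 := rfl
theorem L10758 : sm ga N1340 = N984 := ded_13_1 (flp_f L7932) (flp_a L7913) L10756
theorem L10760 : sm gd N1340 = N982 := ded_31_1 (flp_f L7917) L7911 L10756
theorem L10762 : sm gh N981 = N1341 := rfl
theorem L10764 : sm ga N1341 = N985 := ded_15_1 (flp_h L7938) (flp_a L7913) L10762
theorem L10766 : sm gg N1341 = N1141 := ded_42_1 (flp_h L9148) (flp_g L7915) L10762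
theorem L10768 : sm gd N1341 = N1002 := ded_33_1 (flp_h L8060) (flp_d L5962) (flp_h L5883) L7911 L10762
theorem L10770 : sm gg N982 = N1342 := rfl
theorem L10772 : sm ga N1342 = N986 := ded_14_1 (flp_g L7946) (flp_a L7919) L10770
theorem L10774 : sm gc N1342 = N1060 := ded_27_1 (flp_g L8512) (flp_c L7921) L10770
theorem L10776 : sm gh N1342 = N1003 := ded_42_2 (flp_g L8068) (flp_h L7923) L10770
theorem L10778 : sm gf N1342 = N1142 := ded_39_1 (flp_g L9154) (flp_f L6751) (flp_g L5881) L7917 L10770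
theorem L10780 : sm gf N983 = N1343 := rfl
theorem L10782 : sm gb N1343 = N1343 := ded_20_1 (flp_f L10780) L7929 L10780
theorem L10783 : sm gc N1343 = N984 := ded_26_1 (flp_f L7932) L7925 L10780
theorem L10785 : sm gd N1343 = N1061 := ded_31_1 (flp_f L8521) (flp_d L7930) L10780
theorem L10787 : sm gh N983 = N1344 := rfl
theorem L10789 : sm gb N1344 = N1344 := ded_22_1 (flp_h L10787) L7929 L10787
theorem L10790 : sm gc N1344 = N985 := ded_28_1 (flp_h L7938) L7925 L10787
theorem L10792 : sm gg N1344 = N1144 := ded_42_1 (flp_h L9170) (flp_g L7927) L10787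
theorem L10794 : sm gd N1344 = N1344 := ded_33_1 (flp_h L10787) L7930 L6304 (flp_d L7930) L10787
theorem L10795 : sm ge N984 = N1345 := rfl
theorem L10797 : sm gb N1345 = N987 := ded_19_1 (flp_e L7956) (flp_b L7934) L10795
theorem L10799 : sm gg N984 = N1346 := rfl
theorem L10801 : sm gb N1346 = N988 := ded_21_1 (flp_g L7959) (flp_b L7934) L10799
theorem L10803 : sm gd N1346 = N986 := ded_32_1 (flp_g L7946) (flp_d L7936) L10799
theorem L10805 : sm gf N1346 = N1146 := ded_39_1 (flp_g L9181) (flp_f L6765) (flp_g L5889) L7932 L10799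
theorem L10807 : sm gh N984 = N1347 := rfl
theorem L10809 : sm gb N1347 = N989 := ded_22_1 (flp_h L7966) (flp_b L7934) L10807
theorem L10811 : sm gf N1347 = N985 := ded_40_1 (flp_h L7938) L7932 L10807
theorem L10813 : sm gd N1347 = N1006 := ded_33_1 (flp_h L8094) L5983 (flp_h L5897) (flp_d L7936) L10807
theorem L10815 : sm gi N985 = N1348 := rfl
theorem L10817 : sm gb N1348 = N990 := ded_23_1 (flp_i L7973) (flp_b L7940) L10815
theorem L10819 : sm gd N1348 = N1007 := ded_34_1 (flp_i L8101) (flp_d L7944) L10815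
theorem L10821 : sm gg N1348 = N1148 := ded_43_1 (flp_i L9195) (flp_g L7942) L10815
theorem L10823 : sm gg N987 = N1349 := rfl
theorem L10825 : sm gc N1349 = N1349 := ded_27_1 (flp_g L10823) L7958 L10823
theorem L10826 : sm ge N1349 = N988 := ded_36_1 (flp_g L7959) L7956 L10823
theorem L10828 : sm gh N987 = N1350 := rfl
theorem L10830 : sm gc N1350 = N1350 := ded_28_1 (flp_h L10828) L7958 L10828
theorem L10831 : sm ge N1350 = N989 := ded_37_1 (flp_h L7966) L7956 L10828
theorem L10833 : sm gh N988 = N1351 := rfl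
theorem L10840 : sm gd N1351 = N1010 := ded_33_1 (flp_h L8124) L6013 (flp_h L5915) (flp_d L7962) L10833
theorem L10842 : sm gi N989 = N1352 := rfl
theorem L10847 : sm gf N1352 = N990 := ded_41_1 (flp_i L7973) (flp_f L7969) L10842
theorem L10849 : sm gc N991 = N1353 := rfl
theorem L10851 : sm ga N1353 = N993 := ded_10_1 (flp_c L7996) (flp_a L7982) L10849
theorem L10853 : sm ge N1353 = N1353 := ded_25_2 (flp_c L10849) L7986 L10849
theorem L10854 : sm gg N1353 = N1353 := ded_27_2 (flp_c L10849) L7984 L10849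
theorem L10855 : sm gi N1353 = N1353 := ded_29_2 (flp_c L10849) L7985 L10849
theorem L10856 : sm gd N1353 = N1065 := ded_24_2 (flp_c L8549) (flp_d L6336) (flp_c L5923) L7980 L10849
theorem L10858 : sm gf N991 = N1354 := rfl
theorem L10860 : sm ga N1354 = N994 := ded_13_1 (flp_f L8004) (flp_a L7982) L10858
theorem L10862 : sm gd N1354 = N992 := ded_31_1 (flp_f L7987) L7980 L10858
theorem L10864 : sm gi N1354 = N1354 := ded_41_2 (flp_f L10858) L7985 L10858
theorem L10865 : sm gh N991 = N1355 := rfl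
theorem L10867 : sm ga N1355 = N995 := ded_15_1 (flp_h L8011) (flp_a L7982) L10865
theorem L10869 : sm ge N1355 = N1355 := ded_37_1 (flp_h L10865) L7986 L10865
theorem L10870 : sm gg N1355 = N1355 := ded_42_1 (flp_h L10865) L7984 L10865
theorem L10871 : sm gg N992 = N1356 := rfl
theorem L10873 : sm ga N1356 = N996 := ded_14_1 (flp_g L8017) (flp_a L7989) L10871
theorem L10875 : sm gc N1356 = N1068 := ded_27_1 (flp_g L8574) (flp_c L7991) L10871
theorem L10877 : sm ge N1356 = N1003 := ded_36_1 (flp_g L8068) (flp_e L7994) L10871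
theorem L10879 : sm gi N1356 = N1356 := ded_43_2 (flp_g L10871) L7993 L10871
theorem L10880 : sm gf N1356 = N1356 := ded_39_1 (flp_g L10871) (flp_f L7987) L5925 L7987 L10871
theorem L10881 : sm gf N993 = N1357 := rfl
theorem L10883 : sm gb N1357 = N1357 := ded_20_1 (flp_f L10881) L8001 L10881
theorem L10884 : sm gc N1357 = N994 := ded_26_1 (flp_f L8004) L7996 L10881
theorem L10886 : sm gd N1357 = N1069 := ded_31_1 (flp_f L8583) (flp_d L8002) L10881
theorem L10888 : sm gi N1357 = N1357 := ded_41_2 (flp_f L10881) L8000 L10881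
theorem L10889 : sm gh N993 = N1358 := rfl
theorem L10891 : sm gb N1358 = N1358 := ded_22_1 (flp_h L10889) L8001 L10889
theorem L10892 : sm gc N1358 = N995 := ded_28_1 (flp_h L8011) L7996 L10889
theorem L10894 : sm ge N1358 = N1358 := ded_37_1 (flp_h L10889) L7998 L10889
theorem L10895 : sm gg N1358 = N1358 := ded_42_1 (flp_h L10889) L7999 L10889
theorem L10896 : sm ge N994 = N1359 := rfl
theorem L10898 : sm gb N1359 = N997 := ded_19_1 (flp_e L8027) (flp_b L8006) L10896
theorem L10900 : sm gi N1359 = N1359 := ded_38_2 (flp_e L10896) L8010 L10896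
theorem L10901 : sm gd N1359 = N1004 := ded_30_1 (flp_e L8077) L5983 (flp_e L5941) (flp_d L8008) L10896
theorem L10903 : sm gf N1359 = N1359 := ded_35_2 (flp_e L10896) (flp_f L8004) L5933 L8004 L10896
theorem L10904 : sm gg N994 = N1360 := rfl
theorem L10906 : sm gb N1360 = N998 := ded_21_1 (flp_g L8034) (flp_b L8006) L10904
theorem L10908 : sm gd N1360 = N996 := ded_32_1 (flp_g L8017) (flp_d L8008) L10904
theorem L10910 : sm gi N1360 = N1360 := ded_43_2 (flp_g L10904) L8010 L10904
theorem L10911 : sm gf N1360 = N1360 := ded_39_1 (flp_g L10904) (flp_f L8004) L5931 L8004 L10904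
theorem L10912 : sm gh N994 = N1361 := rfl
theorem L10914 : sm gb N1361 = N999 := ded_22_1 (flp_h L8041) (flp_b L8006) L10912
theorem L10916 : sm gf N1361 = N995 := ded_40_1 (flp_h L8011) L8004 L10912
theorem L10918 : sm gi N995 = N1362 := rfl
theorem L10920 : sm gb N1362 = N1000 := ded_23_1 (flp_i L8046) (flp_b L8013) L10918
theorem L10922 : sm ge N1362 = N1362 := ded_38_1 (flp_i L10918) L8015 L10918
theorem L10923 : sm gg N1362 = N1362 := ded_43_1 (flp_i L10918) L8016 L10918
theorem L10924 : sm gh N1362 = N1362 := ded_44_1 (flp_i L10918) (flp_h L8011) L5932 L8011 L10918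
theorem L10925 : sm gg N997 = N1363 := rfl
theorem L10928 : sm gd N1363 = N1008 := ded_32_1 (flp_g L8110) (flp_d L8031) L10925
theorem L10930 : sm ge N1363 = N998 := ded_36_1 (flp_g L8034) L8027 L10925
theorem L10933 : sm gh N997 = N1364 := rfl
theorem L10935 : sm gc N1364 = N1364 := ded_28_1 (flp_h L10933) L8029 L10933
theorem L10936 : sm ge N1364 = N999 := ded_37_1 (flp_h L8041) L8027 L10933
theorem L10938 : sm gf N1364 = N1364 := ded_40_1 (flp_h L10933) L8033 L10933
theorem L10939 : sm gh N998 = N1365 := rfl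
theorem L10941 : sm gc N1365 = N1365 := ded_28_1 (flp_h L10939) L8036 L10939
theorem L10942 : sm gf N1365 = N1365 := ded_40_1 (flp_h L10939) L8040 L10939
theorem L10943 : sm gg N1365 = N999 := ded_42_1 (flp_h L8041) L8034 L10939
theorem L10945 : sm gi N999 = N1366 := rfl
theorem L10947 : sm gc N1366 = N1366 := ded_29_1 (flp_i L10945) L8043 L10945
theorem L10948 : sm gf N1366 = N1000 := ded_41_1 (flp_i L8046) (flp_f L8044) L10945
theorem L10950 : sm gh N1366 = N1366 := ded_44_1 (flp_i L10945) (flp_h L8041) L5948 L8041 L10945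
theorem L10951 : sm ge N1001 = N1367 := rfl
theorem L10953 : sm ga N1367 = N1004 := ded_12_1 (flp_e L8077) (flp_a L8054) L10951
theorem L10955 : sm gc N1367 = N1367 := ded_25_1 (flp_e L10951) L8056 L10951
theorem L10956 : sm gi N1367 = N1367 := ded_38_2 (flp_e L10951) L8059 L10951
theorem L10957 : sm gf N1367 = N1367 := ded_35_2 (flp_e L10951) (flp_f L8052) L5970 L8052 L10951
theorem L10958 : sm gg N1001 = N1368 := rfl
theorem L10963 : sm gd N1368 = N1003 := ded_32_1 (flp_g L8068) (flp_d L8057) L10958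
theorem L10968 : sm gh N1001 = N1369 := rfl
theorem L10970 : sm ga N1369 = N1006 := ded_15_1 (flp_h L8094) (flp_a L8054) L10968
theorem L10972 : sm gc N1369 = N1369 := ded_28_1 (flp_h L10968) L8056 L10968
theorem L10973 : sm gf N1369 = N1002 := ded_40_1 (flp_h L8060) L8052 L10968
theorem L10975 : sm gi N1002 = N1370 := rfl
theorem L10977 : sm ga N1370 = N1007 := ded_16_1 (flp_i L8101) (flp_a L8062) L10975
theorem L10979 : sm gc N1370 = N1370 := ded_29_1 (flp_i L10975) L8064 L10975
theorem L10980 : sm ge N1370 = N1370 := ded_38_1 (flp_i L10975) L8065 L10975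
theorem L10981 : sm gg N1370 = N1156 := ded_43_1 (flp_i L9249) (flp_g L8066) L10975
theorem L10983 : sm gh N1370 = N1370 := ded_44_1 (flp_i L10975) (flp_h L8060) L5968 L8060 L10975
theorem L10984 : sm gg N1004 = N1371 := rfl
theorem L10986 : sm gb N1371 = N1008 := ded_21_1 (flp_g L8110) (flp_b L8079) L10984
theorem L10989 : sm ge N1371 = N1005 := ded_36_1 (flp_g L8084) L8077 L10984
theorem L10992 : sm gh N1004 = N1372 := rfl
theorem L10994 : sm gb N1372 = N1009 := ded_22_1 (flp_h L8117) (flp_b L8079) L10992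
theorem L10996 : sm gc N1372 = N1372 := ded_28_1 (flp_h L10992) L8081 L10992
theorem L10997 : sm ge N1372 = N1006 := ded_37_1 (flp_h L8094) L8077 L10992
theorem L10999 : sm gf N1372 = N1372 := ded_40_1 (flp_h L10992) L8083 L10992
theorem L11000 : sm gh N1005 = N1373 := rfl
theorem L11005 : sm gf N1373 = N1159 := ded_40_1 (flp_h L9273) (flp_f L8092) L11000
theorem L11007 : sm gg N1373 = N1006 := ded_42_1 (flp_h L8094) L8084 L11000
theorem L11009 : sm gi N1006 = N1374 := rfl
theorem L11011 : sm gb N1374 = N1011 := ded_23_1 (flp_i L8132) (flp_b L8096) L11009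
theorem L11017 : sm gf N1008 = N1375 := rfl
theorem L11019 : sm gc N1375 = N1012 := ded_26_1 (flp_f L8139) (flp_c L8112) L11017
theorem L11022 : sm ge N1375 = N1161 := ded_35_1 (flp_f L9288) L6864 (flp_f L6016) (flp_e L8114) L11017
theorem L11025 : sm gh N1008 = N1376 := rfl
theorem L11029 : sm ge N1376 = N1010 := ded_37_1 (flp_h L8124) (flp_e L8114) L11025
theorem L11031 : sm gg N1376 = N1009 := ded_42_1 (flp_h L8117) L8110 L11025
theorem L11033 : sm gd N1009 = N1377 := rfl
theorem L11035 : sm gf N1377 = N1377 := ded_31_2 (flp_d L11033) L8123 L11033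
theorem L11036 : sm gi N1009 = N1378 := rfl
theorem L11053 : sm gh N1012 = N1380 := rfl
theorem L11056 : sm ge N1380 = N1166 := ded_37_1 (flp_h L9322) (flp_e L8144) L11053
theorem L11058 : sm gf N1380 = N1013 := ded_40_1 (flp_h L8147) L8139 L11053
theorem L11061 : sm gd N1013 = N1381 := rfl
theorem L11064 : sm gg N1381 = N1014 := ded_32_2 (flp_d L8154) (flp_g L8152) L11061
theorem L11076 : sm gc N1014 = N1383 := rfl
theorem L11078 : sm ge N1383 = N1383 := ded_25_2 (flp_c L11076) L8158 L11076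
theorem L11079 : sm gf N1383 = N1383 := ded_26_2 (flp_c L11076) L8157 L11076
theorem L11080 : sm gh N1383 = N1383 := ded_28_2 (flp_c L11076) L8159 L11076
theorem L11081 : sm gi N1014 = N1384 := rfl
theorem L11088 : sm gb N1017 = N1385 := rfl
theorem L11090 : sm gd N1385 = N1019 := ded_18_2 (flp_b L8193) (flp_d L8183) L11088
theorem L11092 : sm gf N1385 = N1385 := ded_20_2 (flp_b L11088) L8179 L11088
theorem L11093 : sm gg N1385 = N1385 := ded_21_2 (flp_b L11088) L8180 L11088
theorem L11094 : sm gh N1385 = N1385 := ded_22_2 (flp_b L11088) L8181 L11088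
theorem L11095 : sm gi N1385 = N1385 := ded_23_2 (flp_b L11088) L8182 L11088
theorem L11096 : sm gc N1385 = N1385 := ded_17_2 (flp_b L11088) (flp_c L8176) L6063 L8176 L11088
theorem L11097 : sm ge N1017 = N1386 := rfl
theorem L11099 : sm ga N1386 = N1386 := ded_12_1 (flp_e L11097) L8178 L11097
theorem L11100 : sm gc N1386 = N1018 := ded_25_1 (flp_e L8185) L8176 L11097
theorem L11102 : sm gg N1386 = N1386 := ded_36_2 (flp_e L11097) L8180 L11097
theorem L11103 : sm gh N1386 = N1386 := ded_37_2 (flp_e L11097) L8181 L11097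
theorem L11104 : sm gi N1386 = N1386 := ded_38_2 (flp_e L11097) L8182 L11097
theorem L11105 : sm gf N1018 = N1387 := rfl
theorem L11107 : sm ga N1387 = N1387 := ded_13_1 (flp_f L11105) L8187 L11105
theorem L11108 : sm gb N1387 = N1387 := ded_20_1 (flp_f L11105) L8188 L11105
theorem L11109 : sm gd N1387 = N1387 := ded_31_1 (flp_f L11105) L8192 L11105
theorem L11110 : sm gh N1387 = N1387 := ded_40_2 (flp_f L11105) L8190 L11105
theorem L11111 : sm gi N1387 = N1387 := ded_41_2 (flp_f L11105) L8191 L11105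
theorem L11112 : sm ge N1387 = N1387 := ded_35_1 (flp_f L11105) (flp_e L8185) L6064 L8185 L11105
theorem L11113 : sm ga N1019 = N1388 := rfl
theorem L11115 : sm gf N1388 = N1388 := ded_13_2 (flp_a L11113) L8195 L11113
theorem L11116 : sm gg N1388 = N1388 := ded_14_2 (flp_a L11113) L8196 L11113
theorem L11117 : sm gh N1388 = N1022 := ded_15_2 (flp_a L8217) (flp_h L8197) L11113
theorem L11119 : sm gi N1388 = N1388 := ded_16_2 (flp_a L11113) L8199 L11113
theorem L11120 : sm gb N1388 = N1388 := ded_9_2 (flp_a L11113) (flp_b L8193) L6070 L8193 L11113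
theorem L11121 : sm ge N1019 = N1389 := rfl
theorem L11123 : sm gb N1389 = N1020 := ded_19_1 (flp_e L8200) L8193 L11121
theorem L11125 : sm gg N1389 = N1389 := ded_36_2 (flp_e L11121) L8196 L11121
theorem L11126 : sm gh N1389 = N1023 := ded_37_2 (flp_e L8225) (flp_h L8197) L11121
theorem L11128 : sm gi N1389 = N1389 := ded_38_2 (flp_e L11121) L8199 L11121
theorem L11129 : sm gd N1020 = N1390 := rfl
theorem L11131 : sm ga N1390 = N1390 := ded_11_1 (flp_d L11129) L8202 L11129
theorem L11132 : sm gg N1390 = N1390 := ded_32_2 (flp_d L11129) L8205 L11129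
theorem L11133 : sm gi N1390 = N1390 := ded_34_2 (flp_d L11129) L8208 L11129
theorem L11134 : sm gc N1390 = N1390 := ded_24_1 (flp_d L11129) L8203 L6083 (flp_c L8203) L11129
theorem L11135 : sm gf N1020 = N1391 := rfl
theorem L11137 : sm ga N1391 = N1391 := ded_13_1 (flp_f L11135) L8202 L11135
theorem L11138 : sm gc N1391 = N1021 := ded_26_1 (flp_f L8209) (flp_c L8203) L11135
theorem L11140 : sm gh N1391 = N1025 := ded_40_2 (flp_f L8241) (flp_h L8206) L11135
theorem L11142 : sm gi N1391 = N1391 := ded_41_2 (flp_f L11135) L8208 L11135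
theorem L11143 : sm ge N1391 = N1391 := ded_35_1 (flp_f L11135) (flp_e L8200) L6071 L8200 L11135
theorem L11144 : sm gg N1021 = N1392 := rfl
theorem L11146 : sm ga N1392 = N1392 := ded_14_1 (flp_g L11144) L8211 L11144
theorem L11147 : sm gd N1392 = N1392 := ded_32_1 (flp_g L11144) L8212 L11144
theorem L11148 : sm ge N1392 = N1392 := ded_36_1 (flp_g L11144) L8216 L11144
theorem L11149 : sm gh N1392 = N1026 := ded_42_2 (flp_g L8249) (flp_h L8213) L11144
theorem L11151 : sm gi N1392 = N1392 := ded_43_2 (flp_g L11144) L8215 L11144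
theorem L11152 : sm gf N1392 = N1392 := ded_39_1 (flp_g L11144) (flp_f L8209) L6079 L8209 L11144
theorem L11153 : sm ge N1022 = N1393 := rfl
theorem L11155 : sm ga N1393 = N1023 := ded_12_1 (flp_e L8225) L8217 L11153
theorem L11157 : sm gb N1393 = N1393 := ded_19_1 (flp_e L11153) L8224 L11153
theorem L11158 : sm gg N1393 = N1393 := ded_36_2 (flp_e L11153) L8221 L11153
theorem L11159 : sm gi N1393 = N1027 := ded_38_2 (flp_e L8258) (flp_i L8222) L11153
theorem L11161 : sm gd N1023 = N1394 := rfl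
theorem L11163 : sm gb N1394 = N1024 := ded_18_1 (flp_d L8232) (flp_b L8227) L11161
theorem L11165 : sm gg N1394 = N1394 := ded_32_2 (flp_d L11161) L8229 L11161
theorem L11166 : sm gi N1394 = N1028 := ded_34_2 (flp_d L8265) (flp_i L8230) L11161
theorem L11168 : sm ge N1394 = N1394 := ded_30_2 (flp_d L11161) (flp_e L8225) L6086 L8225 L11161
theorem L11169 : sm gf N1023 = N1395 := rfl
theorem L11171 : sm gb N1395 = N1025 := ded_20_1 (flp_f L8241) (flp_b L8227) L11169
theorem L11173 : sm gi N1395 = N1029 := ded_41_2 (flp_f L8271) (flp_i L8230) L11169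
theorem L11175 : sm ge N1395 = N1395 := ded_35_1 (flp_f L11169) (flp_e L8225) L6087 L8225 L11169
theorem L11176 : sm gf N1024 = N1396 := rfl
theorem L11178 : sm ga N1396 = N1396 := ded_13_1 (flp_f L11176) L8234 L11176
theorem L11179 : sm gc N1396 = N1036 := ded_26_1 (flp_f L8326) (flp_c L8238) L11176
theorem L11181 : sm gd N1396 = N1025 := ded_31_1 (flp_f L8241) L8232 L11176
theorem L11183 : sm gi N1396 = N1030 := ded_41_2 (flp_f L8277) (flp_i L8236) L11176
theorem L11185 : sm gh N1024 = N1397 := rfl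
theorem L11187 : sm ga N1397 = N1397 := ded_15_1 (flp_h L11185) L8234 L11185
theorem L11188 : sm gc N1397 = N1037 := ded_28_1 (flp_h L8333) (flp_c L8238) L11185
theorem L11190 : sm ge N1397 = N1397 := ded_37_1 (flp_h L11185) L8240 L11185
theorem L11191 : sm gg N1397 = N1397 := ded_42_1 (flp_h L11185) L8235 L11185
theorem L11192 : sm gg N1025 = N1398 := rfl
theorem L11194 : sm ga N1398 = N1398 := ded_14_1 (flp_g L11192) L8243 L11192
theorem L11195 : sm gc N1398 = N1026 := ded_27_1 (flp_g L8249) (flp_c L8244) L11192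
theorem L11197 : sm ge N1398 = N1398 := ded_36_1 (flp_g L11192) L8248 L11192
theorem L11198 : sm gi N1398 = N1032 := ded_43_2 (flp_g L8292) (flp_i L8246) L11192
theorem L11200 : sm gf N1398 = N1398 := ded_39_1 (flp_g L11192) (flp_f L8241) L6096 L8241 L11192
theorem L11201 : sm gd N1027 = N1399 := rfl
theorem L11203 : sm ga N1399 = N1028 := ded_11_1 (flp_d L8265) (flp_a L8260) L11201
theorem L11205 : sm gb N1399 = N1399 := ded_18_1 (flp_d L11201) L8262 L11201
theorem L11206 : sm gg N1399 = N1399 := ded_32_2 (flp_d L11201) L8263 L11201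
theorem L11207 : sm ge N1399 = N1399 := ded_30_2 (flp_d L11201) (flp_e L8258) L6109 L8258 L11201
theorem L11208 : sm gf N1027 = N1400 := rfl
theorem L11210 : sm ga N1400 = N1029 := ded_13_1 (flp_f L8271) (flp_a L8260) L11208
theorem L11212 : sm gb N1400 = N1400 := ded_20_1 (flp_f L11208) L8262 L11208
theorem L11213 : sm gh N1400 = N1400 := ded_40_2 (flp_f L11208) L8264 L11208
theorem L11214 : sm ge N1400 = N1400 := ded_35_1 (flp_f L11208) (flp_e L8258) L6110 L8258 L11208
theorem L11215 : sm gc N1028 = N1401 := rfl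
theorem L11217 : sm ge N1401 = N1401 := ded_25_2 (flp_c L11215) L8270 L11215
theorem L11218 : sm gg N1401 = N1401 := ded_27_2 (flp_c L11215) L8269 L11215
theorem L11219 : sm gb N1401 = N1041 := ded_17_1 (flp_c L8366) L6196 (flp_c L6124) (flp_b L8267) L11215
theorem L11221 : sm gf N1028 = N1402 := rfl
theorem L11223 : sm gb N1402 = N1030 := ded_20_1 (flp_f L8277) (flp_b L8267) L11221
theorem L11225 : sm gd N1402 = N1029 := ded_31_1 (flp_f L8271) L8265 L11221
theorem L11227 : sm gh N1028 = N1403 := rfl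
theorem L11229 : sm gb N1403 = N1031 := ded_22_1 (flp_h L8284) (flp_b L8267) L11227
theorem L11231 : sm ge N1403 = N1403 := ded_37_1 (flp_h L11227) L8270 L11227
theorem L11232 : sm gg N1403 = N1403 := ded_42_1 (flp_h L11227) L8269 L11227
theorem L11233 : sm gd N1403 = N1403 := ded_33_1 (flp_h L11227) (flp_d L8265) L6119 L8265 L11227
theorem L11234 : sm gg N1029 = N1404 := rfl
theorem L11236 : sm gb N1404 = N1032 := ded_21_1 (flp_g L8292) (flp_b L8273) L11234
theorem L11238 : sm ge N1404 = N1404 := ded_36_1 (flp_g L11234) L8276 L11234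
theorem L11239 : sm gh N1404 = N1404 := ded_42_2 (flp_g L11234) L8275 L11234
theorem L11240 : sm gf N1404 = N1404 := ded_39_1 (flp_g L11234) (flp_f L8271) L6118 L8271 L11234
theorem L11241 : sm ge N1030 = N1405 := rfl
theorem L11243 : sm ga N1405 = N1405 := ded_12_1 (flp_e L11241) L8279 L11241
theorem L11244 : sm gc N1405 = N1045 := ded_25_1 (flp_e L8393) (flp_c L8280) L11241
theorem L11246 : sm gd N1405 = N1405 := ded_30_1 (flp_e L11241) L8282 L6133 (flp_d L8282) L11241
theorem L11247 : sm gf N1405 = N1405 := ded_35_2 (flp_e L11241) (flp_f L8277) L6126 L8277 L11241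
theorem L11248 : sm gg N1030 = N1406 := rfl
theorem L11250 : sm ga N1406 = N1406 := ded_14_1 (flp_g L11248) L8279 L11248
theorem L11251 : sm gc N1406 = N1046 := ded_27_1 (flp_g L8399) (flp_c L8280) L11248
theorem L11253 : sm gd N1406 = N1032 := ded_32_1 (flp_g L8292) (flp_d L8282) L11248
theorem L11255 : sm gf N1406 = N1406 := ded_39_1 (flp_g L11248) (flp_f L8277) L6123 L8277 L11248
theorem L11256 : sm gh N1030 = N1407 := rfl
theorem L11258 : sm ga N1407 = N1407 := ded_15_1 (flp_h L11256) L8279 L11256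
theorem L11259 : sm gc N1407 = N1047 := ded_28_1 (flp_h L8405) (flp_c L8280) L11256
theorem L11261 : sm gf N1407 = N1031 := ded_40_1 (flp_h L8284) L8277 L11256
theorem L11263 : sm gd N1407 = N1407 := ded_33_1 (flp_h L11256) L8282 L6132 (flp_d L8282) L11256
theorem L11264 : sm gi N1031 = N1408 := rfl
theorem L11266 : sm ga N1408 = N1408 := ded_16_1 (flp_i L11264) L8286 L11264
theorem L11267 : sm gc N1408 = N1048 := ded_29_1 (flp_i L8412) (flp_c L8287) L11264
theorem L11269 : sm gd N1408 = N1408 := ded_34_1 (flp_i L11264) L8291 L11264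
theorem L11270 : sm ge N1408 = N1408 := ded_38_1 (flp_i L11264) L8289 L11264
theorem L11271 : sm gg N1408 = N1408 := ded_43_1 (flp_i L11264) L8290 L11264
theorem L11272 : sm gd N1033 = N1409 := rfl
theorem L11274 : sm ga N1409 = N1034 := ded_11_1 (flp_d L8309) (flp_a L8302) L11272
theorem L11276 : sm gb N1409 = N1409 := ded_18_1 (flp_d L11272) L8304 L11272
theorem L11277 : sm gg N1409 = N1409 := ded_32_2 (flp_d L11272) L8305 L11272
theorem L11278 : sm gi N1409 = N1039 := ded_34_2 (flp_d L8350) (flp_i L8307) L11272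
theorem L11280 : sm ge N1409 = N1409 := ded_30_2 (flp_d L11272) (flp_e L8300) L6144 L8300 L11272
theorem L11281 : sm gf N1033 = N1410 := rfl
theorem L11283 : sm ga N1410 = N1035 := ded_13_1 (flp_f L8317) (flp_a L8302) L11281
theorem L11285 : sm gb N1410 = N1410 := ded_20_1 (flp_f L11281) L8304 L11281
theorem L11286 : sm gh N1410 = N1410 := ded_40_2 (flp_f L11281) L8306 L11281
theorem L11287 : sm gi N1410 = N1040 := ded_41_2 (flp_f L8357) (flp_i L8307) L11281
theorem L11289 : sm ge N1410 = N1050 := ded_35_1 (flp_f L8429) (flp_e L6230) (flp_f L6145) L8300 L11281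
theorem L11291 : sm gc N1034 = N1411 := rfl
theorem L11293 : sm ge N1411 = N1411 := ded_25_2 (flp_c L11291) L8316 L11291
theorem L11294 : sm gg N1411 = N1411 := ded_27_2 (flp_c L11291) L8313 L11291
theorem L11295 : sm gi N1411 = N1041 := ded_29_2 (flp_c L8366) (flp_i L8314) L11291
theorem L11297 : sm gf N1034 = N1412 := rfl
theorem L11299 : sm gb N1412 = N1036 := ded_20_1 (flp_f L8326) (flp_b L8311) L11297
theorem L11301 : sm gd N1412 = N1035 := ded_31_1 (flp_f L8317) L8309 L11297
theorem L11303 : sm gi N1412 = N1042 := ded_41_2 (flp_f L8370) (flp_i L8314) L11297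
theorem L11305 : sm gh N1034 = N1413 := rfl
theorem L11307 : sm gb N1413 = N1037 := ded_22_1 (flp_h L8333) (flp_b L8311) L11305
theorem L11309 : sm ge N1413 = N1413 := ded_37_1 (flp_h L11305) L8316 L11305
theorem L11310 : sm gg N1413 = N1413 := ded_42_1 (flp_h L11305) L8313 L11305
theorem L11311 : sm gd N1413 = N1413 := ded_33_1 (flp_h L11305) (flp_d L8309) L6157 L8309 L11305
theorem L11312 : sm gg N1035 = N1414 := rfl
theorem L11314 : sm gb N1414 = N1038 := ded_21_1 (flp_g L8339) (flp_b L8319) L11312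
theorem L11316 : sm ge N1414 = N1054 := ded_36_1 (flp_g L8462) (flp_e L8324) L11312
theorem L11318 : sm gh N1414 = N1414 := ded_42_2 (flp_g L11312) L8321 L11312
theorem L11319 : sm gi N1414 = N1044 := ded_43_2 (flp_g L8384) (flp_i L8322) L11312
theorem L11321 : sm gf N1414 = N1414 := ded_39_1 (flp_g L11312) (flp_f L8317) L6156 L8317 L11312
theorem L11322 : sm ge N1036 = N1415 := rfl
theorem L11324 : sm ga N1415 = N1415 := ded_12_1 (flp_e L11322) L8328 L11322
theorem L11325 : sm gi N1415 = N1045 := ded_38_2 (flp_e L8393) (flp_i L8331) L11322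
theorem L11327 : sm gd N1415 = N1055 := ded_30_1 (flp_e L8471) L6260 (flp_e L6175) (flp_d L8329) L11322
theorem L11329 : sm gf N1415 = N1415 := ded_35_2 (flp_e L11322) (flp_f L8326) L6166 L8326 L11322
theorem L11330 : sm gg N1036 = N1416 := rfl
theorem L11332 : sm ga N1416 = N1416 := ded_14_1 (flp_g L11330) L8328 L11330
theorem L11333 : sm gd N1416 = N1038 := ded_32_1 (flp_g L8339) (flp_d L8329) L11330
theorem L11335 : sm gi N1416 = N1046 := ded_43_2 (flp_g L8399) (flp_i L8331) L11330
theorem L11337 : sm gf N1416 = N1416 := ded_39_1 (flp_g L11330) (flp_f L8326) L6163 L8326 L11330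
theorem L11338 : sm gh N1036 = N1417 := rfl
theorem L11340 : sm ga N1417 = N1417 := ded_15_1 (flp_h L11338) L8328 L11338
theorem L11341 : sm gf N1417 = N1037 := ded_40_1 (flp_h L8333) L8326 L11338
theorem L11343 : sm gd N1417 = N1417 := ded_33_1 (flp_h L11338) L8329 L6172 (flp_d L8329) L11338
theorem L11344 : sm gi N1037 = N1418 := rfl
theorem L11346 : sm ga N1418 = N1418 := ded_16_1 (flp_i L11344) L8335 L11344
theorem L11347 : sm gd N1418 = N1418 := ded_34_1 (flp_i L11344) L8338 L11344
theorem L11348 : sm ge N1418 = N1418 := ded_38_1 (flp_i L11344) L8336 L11344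
theorem L11349 : sm gg N1418 = N1418 := ded_43_1 (flp_i L11344) L8337 L11344
theorem L11350 : sm gh N1418 = N1048 := ded_44_1 (flp_i L8412) (flp_h L6213) (flp_i L6164) L8333 L11344
theorem L11352 : sm gc N1039 = N1419 := rfl
theorem L11354 : sm ga N1419 = N1041 := ded_10_1 (flp_c L8366) (flp_a L8352) L11352
theorem L11356 : sm ge N1419 = N1419 := ded_25_2 (flp_c L11352) L8356 L11352
theorem L11357 : sm gg N1419 = N1419 := ded_27_2 (flp_c L11352) L8355 L11352
theorem L11358 : sm gf N1039 = N1420 := rfl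
theorem L11360 : sm ga N1420 = N1042 := ded_13_1 (flp_f L8370) (flp_a L8352) L11358
theorem L11362 : sm gb N1420 = N1420 := ded_20_1 (flp_f L11358) L8354 L11358
theorem L11363 : sm gd N1420 = N1040 := ded_31_1 (flp_f L8357) L8350 L11358
theorem L11365 : sm gh N1039 = N1421 := rfl
theorem L11367 : sm ga N1421 = N1043 := ded_15_1 (flp_h L8376) (flp_a L8352) L11365
theorem L11369 : sm gb N1421 = N1421 := ded_22_1 (flp_h L11365) L8354 L11365
theorem L11370 : sm ge N1421 = N1421 := ded_37_1 (flp_h L11365) L8356 L11365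
theorem L11371 : sm gg N1421 = N1421 := ded_42_1 (flp_h L11365) L8355 L11365
theorem L11372 : sm gd N1421 = N1067 := ded_33_1 (flp_h L8566) (flp_d L6336) (flp_h L6192) L8350 L11365
theorem L11374 : sm gg N1040 = N1422 := rfl
theorem L11376 : sm ga N1422 = N1044 := ded_14_1 (flp_g L8384) (flp_a L8359) L11374
theorem L11378 : sm gb N1422 = N1422 := ded_21_1 (flp_g L11374) L8361 L11374
theorem L11379 : sm ge N1422 = N1060 := ded_36_1 (flp_g L8512) (flp_e L8364) L11374
theorem L11381 : sm gh N1422 = N1068 := ded_42_2 (flp_g L8574) (flp_h L8362) L11374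
theorem L11383 : sm gf N1422 = N1422 := ded_39_1 (flp_g L11374) (flp_f L8357) L6191 L8357 L11374
theorem L11384 : sm gf N1041 = N1423 := rfl
theorem L11386 : sm gc N1423 = N1042 := ded_26_1 (flp_f L8370) L8366 L11384
theorem L11388 : sm gh N1041 = N1424 := rfl
theorem L11390 : sm gc N1424 = N1043 := ded_28_1 (flp_h L8376) L8366 L11388
theorem L11392 : sm ge N1424 = N1424 := ded_37_1 (flp_h L11388) L8368 L11388
theorem L11393 : sm gg N1424 = N1424 := ded_42_1 (flp_h L11388) L8369 L11388
theorem L11394 : sm ge N1042 = N1425 := rfl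
theorem L11396 : sm gb N1425 = N1045 := ded_19_1 (flp_e L8393) (flp_b L8372) L11394
theorem L11398 : sm gd N1425 = N1062 := ded_30_1 (flp_e L8527) L6310 (flp_e L6206) (flp_d L8374) L11394
theorem L11400 : sm gf N1425 = N1425 := ded_35_2 (flp_e L11394) (flp_f L8370) L6199 L8370 L11394
theorem L11401 : sm gg N1042 = N1426 := rfl
theorem L11403 : sm gb N1426 = N1046 := ded_21_1 (flp_g L8399) (flp_b L8372) L11401
theorem L11405 : sm gd N1426 = N1044 := ded_32_1 (flp_g L8384) (flp_d L8374) L11401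
theorem L11407 : sm gf N1426 = N1426 := ded_39_1 (flp_g L11401) (flp_f L8370) L6198 L8370 L11401
theorem L11408 : sm gh N1042 = N1427 := rfl
theorem L11410 : sm gb N1427 = N1047 := ded_22_1 (flp_h L8405) (flp_b L8372) L11408
theorem L11412 : sm gf N1427 = N1043 := ded_40_1 (flp_h L8376) L8370 L11408
theorem L11414 : sm gd N1427 = N1072 := ded_33_1 (flp_h L8607) L6364 (flp_h L6204) (flp_d L8374) L11408
theorem L11416 : sm gi N1043 = N1428 := rfl
theorem L11418 : sm gb N1428 = N1048 := ded_23_1 (flp_i L8412) (flp_b L8378) L11416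
theorem L11420 : sm gd N1428 = N1073 := ded_34_1 (flp_i L8614) (flp_d L8382) L11416
theorem L11422 : sm ge N1428 = N1428 := ded_38_1 (flp_i L11416) L8380 L11416
theorem L11423 : sm gg N1428 = N1428 := ded_43_1 (flp_i L11416) L8381 L11416
theorem L11424 : sm gg N1045 = N1429 := rfl
theorem L11426 : sm ga N1429 = N1429 := ded_14_1 (flp_g L11424) L8395 L11424
theorem L11427 : sm gd N1429 = N1064 := ded_32_1 (flp_g L8542) (flp_d L8396) L11424
theorem L11429 : sm ge N1429 = N1046 := ded_36_1 (flp_g L8399) L8393 L11424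
theorem L11431 : sm gh N1045 = N1430 := rfl
theorem L11433 : sm ga N1430 = N1430 := ded_15_1 (flp_h L11431) L8395 L11431
theorem L11434 : sm ge N1430 = N1047 := ded_37_1 (flp_h L8405) L8393 L11431
theorem L11436 : sm gf N1430 = N1430 := ded_40_1 (flp_h L11431) L8398 L11431
theorem L11437 : sm gd N1430 = N1430 := ded_33_1 (flp_h L11431) L8396 L6325 (flp_d L8396) L11431
theorem L11438 : sm gh N1046 = N1431 := rfl
theorem L11440 : sm ga N1431 = N1431 := ded_15_1 (flp_h L11438) L8401 L11438
theorem L11441 : sm gf N1431 = N1431 := ded_40_1 (flp_h L11438) L8404 L11438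
theorem L11442 : sm gg N1431 = N1047 := ded_42_1 (flp_h L8405) L8399 L11438
theorem L11444 : sm gd N1431 = N1074 := ded_33_1 (flp_h L8622) L6387 (flp_h L6227) (flp_d L8402) L11438
theorem L11446 : sm gi N1047 = N1432 := rfl
theorem L11448 : sm ga N1432 = N1432 := ded_16_1 (flp_i L11446) L8407 L11446
theorem L11449 : sm gd N1432 = N1075 := ded_34_1 (flp_i L8630) (flp_d L8410) L11446
theorem L11451 : sm gf N1432 = N1048 := ded_41_1 (flp_i L8412) (flp_f L8408) L11446
theorem L11453 : sm gc N1049 = N1433 := rfl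
theorem L11455 : sm ga N1433 = N1051 := ded_10_1 (flp_c L8437) (flp_a L8421) L11453
theorem L11457 : sm ge N1433 = N1433 := ded_25_2 (flp_c L11453) L8428 L11453
theorem L11458 : sm gg N1433 = N1171 := ded_27_2 (flp_c L9357) (flp_g L8424) L11453
theorem L11460 : sm gi N1433 = N1058 := ded_29_2 (flp_c L8496) (flp_i L8426) L11453
theorem L11462 : sm gf N1049 = N1434 := rfl
theorem L11464 : sm ga N1434 = N1052 := ded_13_1 (flp_f L8445) (flp_a L8421) L11462
theorem L11466 : sm gb N1434 = N1434 := ded_20_1 (flp_f L11462) L8423 L11462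
theorem L11467 : sm gd N1434 = N1050 := ded_31_1 (flp_f L8429) L8419 L11462
theorem L11469 : sm gi N1434 = N1059 := ded_41_2 (flp_f L8504) (flp_i L8426) L11462
theorem L11471 : sm gh N1049 = N1435 := rfl
theorem L11473 : sm ga N1435 = N1053 := ded_15_1 (flp_h L8453) (flp_a L8421) L11471
theorem L11475 : sm gb N1435 = N1435 := ded_22_1 (flp_h L11471) L8423 L11471
theorem L11476 : sm ge N1435 = N1435 := ded_37_1 (flp_h L11471) L8428 L11471
theorem L11477 : sm gg N1435 = N1173 := ded_42_1 (flp_h L9373) (flp_g L8424) L11471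
theorem L11479 : sm gd N1435 = N1435 := ded_33_1 (flp_h L11471) (flp_d L8419) L6237 L8419 L11471
theorem L11480 : sm gi N1435 = N1435 := ded_44_2 (flp_h L11471) L8426 L6291 (flp_i L8426) L11471
theorem L11481 : sm gg N1050 = N1436 := rfl
theorem L11483 : sm ga N1436 = N1054 := ded_14_1 (flp_g L8462) (flp_a L8431) L11481
theorem L11485 : sm gb N1436 = N1436 := ded_21_1 (flp_g L11481) L8433 L11481
theorem L11486 : sm gh N1436 = N1436 := ded_42_2 (flp_g L11481) L8434 L11481
theorem L11487 : sm gi N1436 = N1060 := ded_43_2 (flp_g L8512) (flp_i L8435) L11481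
theorem L11489 : sm gf N1436 = N1174 := ded_39_1 (flp_g L9381) (flp_f L6930) (flp_g L6235) L8429 L11481
theorem L11491 : sm gf N1051 = N1437 := rfl
theorem L11493 : sm gb N1437 = N1437 := ded_20_1 (flp_f L11491) L8444 L11491
theorem L11494 : sm gc N1437 = N1052 := ded_26_1 (flp_f L8445) L8437 L11491
theorem L11496 : sm gi N1437 = N1061 := ded_41_2 (flp_f L8521) (flp_i L8442) L11491
theorem L11498 : sm gh N1051 = N1438 := rfl
theorem L11500 : sm gb N1438 = N1438 := ded_22_1 (flp_h L11498) L8444 L11498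
theorem L11501 : sm gc N1438 = N1053 := ded_28_1 (flp_h L8453) L8437 L11498
theorem L11503 : sm ge N1438 = N1438 := ded_37_1 (flp_h L11498) L8439 L11498
theorem L11504 : sm gg N1438 = N1176 := ded_42_1 (flp_h L9397) (flp_g L8440) L11498
theorem L11506 : sm gi N1438 = N1438 := ded_44_2 (flp_h L11498) L8442 L6304 (flp_i L8442) L11498
theorem L11507 : sm ge N1052 = N1439 := rfl
theorem L11509 : sm gb N1439 = N1055 := ded_19_1 (flp_e L8471) (flp_b L8447) L11507
theorem L11511 : sm gi N1439 = N1062 := ded_38_2 (flp_e L8527) (flp_i L8451) L11507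
theorem L11513 : sm gf N1439 = N1439 := ded_35_2 (flp_e L11507) (flp_f L8445) L6248 L8445 L11507
theorem L11514 : sm gg N1052 = N1440 := rfl
theorem L11516 : sm gb N1440 = N1056 := ded_21_1 (flp_g L8478) (flp_b L8447) L11514
theorem L11518 : sm gd N1440 = N1054 := ded_32_1 (flp_g L8462) (flp_d L8449) L11514
theorem L11520 : sm gi N1440 = N1063 := ded_43_2 (flp_g L8533) (flp_i L8451) L11514
theorem L11522 : sm gf N1440 = N1178 := ded_39_1 (flp_g L9412) (flp_f L6945) (flp_g L6244) L8445 L11514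
theorem L11524 : sm gh N1052 = N1441 := rfl
theorem L11526 : sm gb N1441 = N1057 := ded_22_1 (flp_h L8488) (flp_b L8447) L11524
theorem L11528 : sm gf N1441 = N1053 := ded_40_1 (flp_h L8453) L8445 L11524
theorem L11530 : sm gd N1441 = N1441 := ded_33_1 (flp_h L11524) L8449 L6253 (flp_d L8449) L11524
theorem L11531 : sm gi N1441 = N1441 := ded_44_2 (flp_h L11524) L8451 L6312 (flp_i L8451) L11524
theorem L11532 : sm gg N1055 = N1442 := rfl
theorem L11534 : sm ga N1442 = N1442 := ded_14_1 (flp_g L11532) L8473 L11532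
theorem L11535 : sm gc N1442 = N1442 := ded_27_1 (flp_g L11532) L8474 L11532
theorem L11536 : sm ge N1442 = N1056 := ded_36_1 (flp_g L8478) L8471 L11532
theorem L11538 : sm gi N1442 = N1064 := ded_43_2 (flp_g L8542) (flp_i L8475) L11532
theorem L11540 : sm gh N1055 = N1443 := rfl
theorem L11542 : sm ga N1443 = N1443 := ded_15_1 (flp_h L11540) L8473 L11540
theorem L11543 : sm gc N1443 = N1443 := ded_28_1 (flp_h L11540) L8474 L11540
theorem L11544 : sm ge N1443 = N1057 := ded_37_1 (flp_h L8488) L8471 L11540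
theorem L11546 : sm gf N1443 = N1443 := ded_40_1 (flp_h L11540) L8477 L11540
theorem L11547 : sm gi N1443 = N1443 := ded_44_2 (flp_h L11540) L8475 L6325 (flp_i L8475) L11540
theorem L11548 : sm gh N1056 = N1444 := rfl
theorem L11550 : sm ga N1444 = N1444 := ded_15_1 (flp_h L11548) L8480 L11548
theorem L11551 : sm gc N1444 = N1444 := ded_28_1 (flp_h L11548) L8481 L11548
theorem L11552 : sm gf N1444 = N1182 := ded_40_1 (flp_h L9445) (flp_f L8486) L11548
theorem L11554 : sm gg N1444 = N1057 := ded_42_1 (flp_h L8488) L8478 L11548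
theorem L11556 : sm gd N1444 = N1444 := ded_33_1 (flp_h L11548) L8482 L6278 (flp_d L8482) L11548
theorem L11557 : sm gi N1444 = N1444 := ded_44_2 (flp_h L11548) L8484 L6333 (flp_i L8484) L11548
theorem L11558 : sm gb N1058 = N1445 := rfl
theorem L11560 : sm ge N1445 = N1445 := ded_19_2 (flp_b L11558) L8500 L11558
theorem L11561 : sm gg N1445 = N1183 := ded_21_2 (flp_b L9453) (flp_g L8501) L11558
theorem L11563 : sm gh N1445 = N1445 := ded_22_2 (flp_b L11558) L8503 L11558
theorem L11564 : sm ga N1445 = N1445 := ded_9_1 (flp_b L11558) L8498 L6305 (flp_a L8498) L11558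
theorem L11565 : sm gc N1445 = N1445 := ded_17_2 (flp_b L11558) (flp_c L8496) L6287 L8496 L11558
theorem L11566 : sm gf N1058 = N1446 := rfl
theorem L11568 : sm ga N1446 = N1061 := ded_13_1 (flp_f L8521) (flp_a L8498) L11566
theorem L11570 : sm gc N1446 = N1059 := ded_26_1 (flp_f L8504) L8496 L11566
theorem L11572 : sm gh N1446 = N1446 := ded_40_2 (flp_f L11566) L8503 L11566
theorem L11573 : sm ge N1059 = N1447 := rfl
theorem L11575 : sm ga N1447 = N1062 := ded_12_1 (flp_e L8527) (flp_a L8506) L11573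
theorem L11577 : sm gb N1447 = N1447 := ded_19_1 (flp_e L11573) L8508 L11573
theorem L11578 : sm gh N1447 = N1447 := ded_37_2 (flp_e L11573) L8511 L11573
theorem L11579 : sm gf N1447 = N1447 := ded_35_2 (flp_e L11573) (flp_f L8504) L6290 L8504 L11573
theorem L11580 : sm gg N1059 = N1448 := rfl
theorem L11582 : sm ga N1448 = N1063 := ded_14_1 (flp_g L8533) (flp_a L8506) L11580
theorem L11584 : sm gb N1448 = N1448 := ded_21_1 (flp_g L11580) L8508 L11580
theorem L11585 : sm gd N1448 = N1060 := ded_32_1 (flp_g L8512) (flp_d L8509) L11580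
theorem L11587 : sm gh N1448 = N1448 := ded_42_2 (flp_g L11580) L8511 L11580
theorem L11588 : sm gf N1448 = N1186 := ded_39_1 (flp_g L9474) (flp_f L6998) (flp_g L6288) L8504 L11580
theorem L11590 : sm ge N1061 = N1449 := rfl
theorem L11592 : sm gb N1449 = N1449 := ded_19_1 (flp_e L11590) L8523 L11590
theorem L11593 : sm gc N1449 = N1062 := ded_25_1 (flp_e L8527) (flp_c L8524) L11590
theorem L11595 : sm gh N1449 = N1449 := ded_37_2 (flp_e L11590) L8526 L11590
theorem L11596 : sm gf N1449 = N1449 := ded_35_2 (flp_e L11590) (flp_f L8521) L6301 L8521 L11590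
theorem L11597 : sm gg N1061 = N1450 := rfl
theorem L11599 : sm gb N1450 = N1450 := ded_21_1 (flp_g L11597) L8523 L11597
theorem L11600 : sm gc N1450 = N1063 := ded_27_1 (flp_g L8533) (flp_c L8524) L11597
theorem L11602 : sm gh N1450 = N1450 := ded_42_2 (flp_g L11597) L8526 L11597
theorem L11603 : sm gf N1450 = N1188 := ded_39_1 (flp_g L9489) (flp_f L7014) (flp_g L6302) L8521 L11597
theorem L11605 : sm gg N1062 = N1451 := rfl
theorem L11607 : sm gb N1451 = N1064 := ded_21_1 (flp_g L8542) (flp_b L8529) L11605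
theorem L11609 : sm ge N1451 = N1063 := ded_36_1 (flp_g L8533) L8527 L11605
theorem L11611 : sm gh N1451 = N1451 := ded_42_2 (flp_g L11605) L8531 L11605
theorem L11612 : sm gf N1064 = N1452 := rfl
theorem L11614 : sm ga N1452 = N1452 := ded_13_1 (flp_f L11612) L8544 L11612
theorem L11615 : sm gc N1452 = N1452 := ded_26_1 (flp_f L11612) L8545 L11612
theorem L11616 : sm gh N1452 = N1452 := ded_40_2 (flp_f L11612) L8548 L11612
theorem L11617 : sm ge N1452 = N1190 := ded_35_1 (flp_f L9503) L7039 (flp_f L6334) (flp_e L8546) L11612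
theorem L11619 : sm gg N1452 = N1452 := ded_39_2 (flp_f L11612) (flp_g L8542) L6326 L8542 L11612
theorem L11620 : sm gb N1065 = N1453 := rfl
theorem L11622 : sm ge N1453 = N1076 := ded_19_2 (flp_b L8638) (flp_e L8553) L11620
theorem L11624 : sm gg N1453 = N1453 := ded_21_2 (flp_b L11620) L8555 L11620
theorem L11625 : sm gi N1453 = N1453 := ded_23_2 (flp_b L11620) L8556 L11620
theorem L11626 : sm ga N1453 = N1453 := ded_9_1 (flp_b L11620) L8551 L6359 (flp_a L8551) L11620
theorem L11627 : sm gc N1453 = N1453 := ded_17_2 (flp_b L11620) (flp_c L8549) L6340 L8549 L11620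
theorem L11628 : sm gf N1065 = N1454 := rfl
theorem L11630 : sm ga N1454 = N1069 := ded_13_1 (flp_f L8583) (flp_a L8551) L11628
theorem L11632 : sm gc N1454 = N1066 := ded_26_1 (flp_f L8557) L8549 L11628
theorem L11634 : sm gi N1454 = N1454 := ded_41_2 (flp_f L11628) L8556 L11628
theorem L11635 : sm ge N1454 = N1454 := ded_35_1 (flp_f L11628) L8553 L6420 (flp_e L8553) L11628
theorem L11636 : sm gh N1065 = N1455 := rfl
theorem L11638 : sm ga N1455 = N1070 := ded_15_1 (flp_h L8590) (flp_a L8551) L11636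
theorem L11640 : sm gc N1455 = N1067 := ded_28_1 (flp_h L8566) L8549 L11636
theorem L11642 : sm ge N1455 = N1077 := ded_37_1 (flp_h L8646) (flp_e L8553) L11636
theorem L11644 : sm gg N1455 = N1455 := ded_42_1 (flp_h L11636) L8555 L11636
theorem L11645 : sm gg N1066 = N1456 := rfl
theorem L11647 : sm ga N1456 = N1071 := ded_14_1 (flp_g L8598) (flp_a L8559) L11645
theorem L11649 : sm gb N1456 = N1456 := ded_21_1 (flp_g L11645) L8561 L11645
theorem L11650 : sm gd N1456 = N1068 := ded_32_1 (flp_g L8574) (flp_d L8562) L11645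
theorem L11652 : sm ge N1456 = N1456 := ded_36_1 (flp_g L11645) L8565 L11645
theorem L11653 : sm gi N1456 = N1456 := ded_43_2 (flp_g L11645) L8564 L11645
theorem L11654 : sm gf N1456 = N1456 := ded_39_1 (flp_g L11645) (flp_f L8557) L6341 L8557 L11645
theorem L11655 : sm gh N1066 = N1457 := rfl
theorem L11657 : sm ga N1457 = N1072 := ded_15_1 (flp_h L8607) (flp_a L8559) L11655
theorem L11659 : sm gb N1457 = N1457 := ded_22_1 (flp_h L11655) L8561 L11655
theorem L11660 : sm ge N1457 = N1457 := ded_37_1 (flp_h L11655) L8565 L11655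
theorem L11661 : sm gf N1457 = N1067 := ded_40_1 (flp_h L8566) L8557 L11655
theorem L11663 : sm gi N1067 = N1458 := rfl
theorem L11665 : sm ga N1458 = N1073 := ded_16_1 (flp_i L8614) (flp_a L8568) L11663
theorem L11667 : sm gb N1458 = N1458 := ded_23_1 (flp_i L11663) L8570 L11663
theorem L11668 : sm ge N1458 = N1078 := ded_38_1 (flp_i L8654) (flp_e L8571) L11663
theorem L11670 : sm gg N1458 = N1458 := ded_43_1 (flp_i L11663) L8573 L11663
theorem L11671 : sm gh N1458 = N1458 := ded_44_1 (flp_i L11663) (flp_h L8566) L6342 L8566 L11663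
theorem L11672 : sm gg N1069 = N1459 := rfl
theorem L11674 : sm gb N1459 = N1459 := ded_21_1 (flp_g L11672) L8585 L11672
theorem L11675 : sm gc N1459 = N1071 := ded_27_1 (flp_g L8598) (flp_c L8586) L11672
theorem L11677 : sm ge N1459 = N1459 := ded_36_1 (flp_g L11672) L8589 L11672
theorem L11678 : sm gi N1459 = N1459 := ded_43_2 (flp_g L11672) L8588 L11672
theorem L11679 : sm gf N1459 = N1459 := ded_39_1 (flp_g L11672) (flp_f L8583) L6357 L8583 L11672
theorem L11680 : sm gh N1069 = N1460 := rfl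
theorem L11682 : sm gb N1460 = N1460 := ded_22_1 (flp_h L11680) L8585 L11680
theorem L11683 : sm gc N1460 = N1072 := ded_28_1 (flp_h L8607) (flp_c L8586) L11680
theorem L11685 : sm ge N1460 = N1460 := ded_37_1 (flp_h L11680) L8589 L11680
theorem L11686 : sm gf N1460 = N1070 := ded_40_1 (flp_h L8590) L8583 L11680
theorem L11688 : sm gd N1070 = N1461 := rfl
theorem L11690 : sm gb N1461 = N1461 := ded_18_1 (flp_d L11688) L8592 L11688
theorem L11691 : sm gg N1461 = N1461 := ded_32_2 (flp_d L11688) L8597 L11688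
theorem L11692 : sm gi N1070 = N1462 := rfl
theorem L11694 : sm gb N1462 = N1462 := ded_23_1 (flp_i L11692) L8592 L11692
theorem L11695 : sm gc N1462 = N1073 := ded_29_1 (flp_i L8614) (flp_c L8593) L11692
theorem L11697 : sm ge N1462 = N1080 := ded_38_1 (flp_i L8670) (flp_e L8595) L11692
theorem L11699 : sm gg N1462 = N1462 := ded_43_1 (flp_i L11692) L8597 L11692
theorem L11700 : sm gh N1462 = N1462 := ded_44_1 (flp_i L11692) (flp_h L8590) L6358 L8590 L11692
theorem L11701 : sm gh N1071 = N1463 := rfl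
theorem L11703 : sm gb N1463 = N1074 := ded_22_1 (flp_h L8622) (flp_b L8600) L11701
theorem L11705 : sm ge N1463 = N1463 := ded_37_1 (flp_h L11701) L8604 L11701
theorem L11706 : sm gf N1463 = N1463 := ded_40_1 (flp_h L11701) L8606 L11701
theorem L11707 : sm gg N1463 = N1072 := ded_42_1 (flp_h L8607) L8598 L11701
theorem L11709 : sm gi N1072 = N1464 := rfl
theorem L11711 : sm gb N1464 = N1075 := ded_23_1 (flp_i L8630) (flp_b L8609) L11709
theorem L11713 : sm ge N1464 = N1464 := ded_38_1 (flp_i L11709) L8611 L11709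
theorem L11714 : sm gf N1464 = N1073 := ded_41_1 (flp_i L8614) (flp_f L8612) L11709
theorem L11716 : sm gh N1464 = N1464 := ded_44_1 (flp_i L11709) (flp_h L8607) L6366 L8607 L11709
theorem L11717 : sm gi N1074 = N1465 := rfl
theorem L11719 : sm ga N1465 = N1465 := ded_16_1 (flp_i L11717) L8624 L11717
theorem L11720 : sm gc N1465 = N1465 := ded_29_1 (flp_i L11717) L8625 L11717
theorem L11721 : sm ge N1465 = N1465 := ded_38_1 (flp_i L11717) L8626 L11717
theorem L11722 : sm gf N1465 = N1465 := ded_41_1 (flp_i L11717) L8627 L11717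
theorem L11723 : sm gg N1465 = N1075 := ded_43_1 (flp_i L8630) (flp_g L8628) L11717
theorem L11725 : sm gh N1465 = N1465 := ded_44_1 (flp_i L11717) (flp_h L8622) L6390 L8622 L11717
theorem L11726 : sm gh N1076 = N1466 := rfl
theorem L11728 : sm ga N1466 = N1466 := ded_15_1 (flp_h L11726) L8644 L11726
theorem L11729 : sm gb N1466 = N1077 := ded_22_1 (flp_h L8646) L8638 L11726
theorem L11731 : sm gc N1466 = N1466 := ded_28_1 (flp_h L11726) L8645 L11726
theorem L11732 : sm gf N1466 = N1466 := ded_40_1 (flp_h L11726) L8641 L11726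
theorem L11733 : sm gg N1466 = N1466 := ded_42_1 (flp_h L11726) L8642 L11726
theorem L11734 : sm gd N1077 = N1467 := rfl
theorem L11736 : sm ga N1467 = N1079 := ded_11_1 (flp_d L8663) (flp_a L8648) L11734
theorem L11738 : sm gf N1467 = N1467 := ded_31_2 (flp_d L11734) L8652 L11734
theorem L11739 : sm gg N1467 = N1467 := ded_32_2 (flp_d L11734) L8653 L11734
theorem L11740 : sm gc N1467 = N1467 := ded_24_1 (flp_d L11734) L8650 L6431 (flp_c L8650) L11734
theorem L11741 : sm gh N1467 = N1467 := ded_33_2 (flp_d L11734) (flp_h L8646) L6423 L8646 L11734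
theorem L11742 : sm gi N1077 = N1468 := rfl
theorem L11744 : sm ga N1468 = N1080 := ded_16_1 (flp_i L8670) (flp_a L8648) L11742
theorem L11746 : sm gc N1468 = N1078 := ded_29_1 (flp_i L8654) (flp_c L8650) L11742
theorem L11748 : sm gf N1468 = N1468 := ded_41_1 (flp_i L11742) L8652 L11742
theorem L11749 : sm gg N1468 = N1468 := ded_43_1 (flp_i L11742) L8653 L11742
theorem L11750 : sm gh N1468 = N1468 := ded_44_1 (flp_i L11742) (flp_h L8646) L6422 L8646 L11742
theorem L11751 : sm ge N1079 = N1469 := rfl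
theorem L11753 : sm gb N1469 = N1469 := ded_19_1 (flp_e L11751) L8665 L11751
theorem L11754 : sm gc N1469 = N1469 := ded_25_1 (flp_e L11751) L8668 L11751
theorem L11755 : sm gg N1469 = N1469 := ded_36_2 (flp_e L11751) L8667 L11751
theorem L11756 : sm gh N1469 = N1469 := ded_37_2 (flp_e L11751) L8669 L11751
theorem L11757 : sm gi N1079 = N1470 := rfl
theorem L11759 : sm gb N1470 = N1470 := ded_23_1 (flp_i L11757) L8665 L11757
theorem L11760 : sm gc N1470 = N1470 := ded_29_1 (flp_i L11757) L8668 L11757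
theorem L11761 : sm gd N1470 = N1080 := ded_34_1 (flp_i L8670) L8663 L11757
theorem L11763 : sm gf N1470 = N1470 := ded_41_1 (flp_i L11757) L8666 L11757
theorem L11764 : sm gg N1470 = N1470 := ded_43_1 (flp_i L11757) L8667 L11757
theorem L11765 : sm gc N1081 = N1471 := rfl
theorem L11767 : sm ga N1471 = N1083 := ded_10_1 (flp_c L8694) (flp_a L8680) L11765
theorem L11769 : sm gd N1471 = N1471 := ded_24_2 (flp_c L11765) (flp_d L8678) L6453 L8678 L11765
theorem L11770 : sm gf N1081 = N1472 := rfl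
theorem L11774 : sm gb N1472 = N1140 := ded_20_1 (flp_f L9142) (flp_b L8682) L11770
theorem L11776 : sm gd N1472 = N1082 := ded_31_1 (flp_f L8684) L8678 L11770
theorem L11778 : sm gh N1081 = N1473 := rfl
theorem L11780 : sm ga N1473 = N1085 := ded_15_1 (flp_h L8704) (flp_a L8680) L11778
theorem L11784 : sm gd N1473 = N1093 := ded_33_1 (flp_h L8764) (flp_d L6491) (flp_h L6454) L8678 L11778
theorem L11786 : sm gg N1082 = N1474 := rfl
theorem L11794 : sm gh N1474 = N1094 := ded_42_2 (flp_g L8771) (flp_h L8691) L11786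
theorem L11796 : sm gf N1083 = N1475 := rfl
theorem L11799 : sm gc N1475 = N1084 := ded_26_1 (flp_f L8698) L8694 L11796
theorem L11802 : sm gh N1083 = N1476 := rfl
theorem L11805 : sm gc N1476 = N1085 := ded_28_1 (flp_h L8704) L8694 L11802
theorem L11807 : sm ge N1084 = N1477 := rfl
theorem L11809 : sm gb N1477 = N1087 := ded_19_1 (flp_e L8718) (flp_b L8700) L11807
theorem L11812 : sm gg N1084 = N1478 := rfl
theorem L11816 : sm gd N1478 = N1086 := ded_32_1 (flp_g L8710) (flp_d L8702) L11812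
theorem L11826 : sm gi N1085 = N1480 := rfl
theorem L11830 : sm gd N1480 = N1100 := ded_34_1 (flp_i L8815) (flp_d L8708) L11826
theorem L11832 : sm gg N1087 = N1481 := rfl
theorem L11834 : sm ga N1481 = N1149 := ded_14_1 (flp_g L9201) (flp_a L8720) L11832
theorem L11838 : sm ge N1481 = N1088 := ded_36_1 (flp_g L8724) L8718 L11832
theorem L11840 : sm gh N1087 = N1482 := rfl
theorem L11842 : sm ga N1482 = N1150 := ded_15_1 (flp_h L9207) (flp_a L8720) L11840
theorem L11845 : sm ge N1482 = N1089 := ded_37_1 (flp_h L8731) L8718 L11840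
theorem L11847 : sm gh N1088 = N1483 := rfl
theorem L11852 : sm gg N1483 = N1089 := ded_42_1 (flp_h L8731) L8724 L11847
theorem L11854 : sm gd N1483 = N1103 := ded_33_1 (flp_h L8840) L6549 (flp_h L6489) (flp_d L8729) L11847
theorem L11856 : sm gi N1089 = N1484 := rfl
theorem L11863 : sm gf N1484 = N1090 := ded_41_1 (flp_i L8740) (flp_f L8736) L11856
theorem L11865 : sm gf N1091 = N1485 := rfl
theorem L11867 : sm ga N1485 = N1095 := ded_13_1 (flp_f L8780) (flp_a L8749) L11865
theorem L11870 : sm gc N1485 = N1092 := ded_26_1 (flp_f L8755) L8747 L11865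
theorem L11873 : sm gi N1485 = N1485 := ded_41_2 (flp_f L11865) L8752 L11865
theorem L11874 : sm gh N1091 = N1486 := rfl
theorem L11882 : sm ge N1092 = N1487 := rfl
theorem L11884 : sm ga N1487 = N1097 := ded_12_1 (flp_e L8795) (flp_a L8757) L11882
theorem L11886 : sm gb N1487 = N1153 := ded_19_1 (flp_e L9226) (flp_b L8759) L11882
theorem L11891 : sm gg N1092 = N1488 := rfl
theorem L11897 : sm gd N1488 = N1094 := ded_32_1 (flp_g L8771) (flp_d L8761) L11891
theorem L11900 : sm gh N1092 = N1489 := rfl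
theorem L11902 : sm ga N1489 = N1099 := ded_15_1 (flp_h L8809) (flp_a L8757) L11900
theorem L11916 : sm ge N1095 = N1491 := rfl
theorem L11918 : sm gb N1491 = N1105 := ded_19_1 (flp_e L8857) (flp_b L8782) L11916
theorem L11920 : sm gc N1491 = N1097 := ded_25_1 (flp_e L8795) (flp_c L8784) L11916
theorem L11924 : sm gg N1095 = N1492 := rfl
theorem L11928 : sm gc N1492 = N1098 := ded_27_1 (flp_g L8802) (flp_c L8784) L11924
theorem L11932 : sm gh N1095 = N1493 := rfl
theorem L11938 : sm gf N1493 = N1096 := ded_40_1 (flp_h L8788) L8780 L11932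
theorem L11940 : sm gd N1096 = N1494 := rfl
theorem L11942 : sm gb N1494 = N1108 := ded_18_1 (flp_d L8878) (flp_b L8790) L11940
theorem L11945 : sm gi N1096 = N1495 := rfl
theorem L11947 : sm gb N1495 = N1109 := ded_23_1 (flp_i L8883) (flp_b L8790) L11945
theorem L11949 : sm gc N1495 = N1100 := ded_29_1 (flp_i L8815) (flp_c L8792) L11945
theorem L11953 : sm gg N1097 = N1496 := rfl
theorem L11955 : sm gb N1496 = N1101 := ded_21_1 (flp_g L8821) (flp_b L8797) L11953
theorem L11961 : sm gh N1097 = N1497 := rfl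
theorem L11963 : sm gb N1497 = N1102 := ded_22_1 (flp_h L8831) (flp_b L8797) L11961
theorem L11965 : sm ge N1497 = N1099 := ded_37_1 (flp_h L8809) L8795 L11961
theorem L11968 : sm gh N1098 = N1498 := rfl
theorem L11974 : sm gi N1099 = N1499 := rfl
theorem L11981 : sm gf N1101 = N1500 := rfl
theorem L11983 : sm ga N1500 = N1161 := ded_13_1 (flp_f L9288) (flp_a L8823) L11981
theorem L11985 : sm gc N1500 = N1114 := ded_26_1 (flp_f L8925) (flp_c L8825) L11981
theorem L11990 : sm gh N1101 = N1501 := rfl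
theorem L11996 : sm ge N1501 = N1103 := ded_37_1 (flp_h L8840) (flp_e L8828) L11990
theorem L11998 : sm gg N1501 = N1102 := ded_42_1 (flp_h L8831) L8821 L11990
theorem L12000 : sm gd N1102 = N1502 := rfl
theorem L12002 : sm ga N1502 = N1163 := ded_11_1 (flp_d L9303) (flp_a L8833) L12000
theorem L12006 : sm gi N1102 = N1503 := rfl
theorem L12015 : sm gh N1503 = N1503 := ded_44_1 (flp_i L12006) (flp_h L8831) L6540 L8831 L12006
theorem L12025 : sm gd N1105 = N1505 := rfl
theorem L12033 : sm gg N1105 = N1506 := rfl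
theorem L12036 : sm gc N1506 = N1110 := ded_27_1 (flp_g L8890) (flp_c L8860) L12033
theorem L12038 : sm ge N1506 = N1106 := ded_36_1 (flp_g L8864) L8857 L12033
theorem L12041 : sm gh N1105 = N1507 := rfl
theorem L12044 : sm gc N1507 = N1111 := ded_28_1 (flp_h L8900) (flp_c L8860) L12041
theorem L12046 : sm ge N1507 = N1107 := ded_37_1 (flp_h L8871) L8857 L12041
theorem L12049 : sm gh N1106 = N1508 := rfl
theorem L12054 : sm gg N1508 = N1107 := ded_42_1 (flp_h L8871) L8864 L12049
theorem L12056 : sm gd N1107 = N1509 := rfl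
theorem L12059 : sm gf N1509 = N1108 := ded_31_2 (flp_d L8878) (flp_f L8876) L12056
theorem L12063 : sm gi N1107 = N1510 := rfl
theorem L12071 : sm ge N1108 = N1511 := rfl
theorem L12083 : sm gf N1110 = N1513 := rfl
theorem L12086 : sm gb N1513 = N1114 := ded_20_1 (flp_f L8925) (flp_b L8893) L12083
theorem L12088 : sm gd N1513 = N1199 := ded_31_1 (flp_f L9577) (flp_d L8895) L12083
theorem L12092 : sm gh N1110 = N1514 := rfl
theorem L12099 : sm gg N1514 = N1111 := ded_42_1 (flp_h L8900) L8890 L12092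
theorem L12101 : sm gd N1111 = N1515 := rfl
theorem L12108 : sm gh N1515 = N1201 := ded_33_2 (flp_d L9594) (flp_h L7091) (flp_d L6587) L8900 L12101
theorem L12110 : sm gi N1111 = N1516 := rfl
theorem L12128 : sm gh N1114 = N1518 := rfl
theorem L12130 : sm ga N1518 = N1166 := ded_15_1 (flp_h L9322) (flp_a L8927) L12128
theorem L12132 : sm gf N1518 = N1115 := ded_40_1 (flp_h L8933) L8925 L12128
theorem L12135 : sm gd N1115 = N1519 := rfl
theorem L12139 : sm gg N1519 = N1116 := ded_32_2 (flp_d L8941) (flp_g L8939) L12135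
theorem L12142 : sm gh N1519 = N1205 := ded_33_2 (flp_d L9629) (flp_h L7125) (flp_d L6618) L8933 L12135
theorem L12144 : sm gi N1115 = N1520 := rfl
theorem L12148 : sm ge N1520 = N1118 := ded_38_1 (flp_i L8957) (flp_e L8937) L12144
theorem L12153 : sm gc N1116 = N1521 := rfl
theorem L12159 : sm gh N1521 = N1207 := ded_28_2 (flp_c L9646) (flp_h L8947) L12153
theorem L12161 : sm gi N1116 = N1522 := rfl
theorem L12169 : sm gc N1119 = N1523 := rfl
theorem L12171 : sm ga N1523 = N1121 := ded_10_1 (flp_c L8982) (flp_a L8967) L12169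
theorem L12173 : sm ge N1523 = N1139 := ded_25_2 (flp_c L9136) (flp_e L8971) L12169
theorem L12175 : sm gi N1523 = N1471 := ded_29_2 (flp_c L11765) (flp_i L8969) L12169
theorem L12177 : sm gd N1523 = N1523 := ded_24_2 (flp_c L12169) (flp_d L8965) L6649 L8965 L12169
theorem L12178 : sm gf N1119 = N1524 := rfl
theorem L12180 : sm ga N1524 = N1122 := ded_13_1 (flp_f L8990) (flp_a L8967) L12178
theorem L12182 : sm gd N1524 = N1120 := ded_31_1 (flp_f L8973) L8965 L12178
theorem L12184 : sm gi N1524 = N1472 := ded_41_2 (flp_f L11770) (flp_i L8969) L12178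
theorem L12186 : sm gh N1119 = N1525 := rfl
theorem L12188 : sm ga N1525 = N1123 := ded_15_1 (flp_h L8998) (flp_a L8967) L12186
theorem L12190 : sm ge N1525 = N1141 := ded_37_1 (flp_h L9148) (flp_e L8971) L12186
theorem L12192 : sm gd N1525 = N1525 := ded_33_1 (flp_h L12186) (flp_d L8965) L6650 L8965 L12186
theorem L12193 : sm gg N1120 = N1526 := rfl
theorem L12202 : sm gf N1121 = N1527 := rfl
theorem L12204 : sm gb N1527 = N1527 := ded_20_1 (flp_f L12202) L8988 L12202
theorem L12205 : sm gc N1527 = N1122 := ded_26_1 (flp_f L8990) L8982 L12202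
theorem L12207 : sm gd N1527 = N1527 := ded_31_1 (flp_f L12202) L8989 L12202
theorem L12208 : sm gi N1527 = N1475 := ded_41_2 (flp_f L11796) (flp_i L8986) L12202
theorem L12210 : sm gh N1121 = N1528 := rfl
theorem L12212 : sm gb N1528 = N1528 := ded_22_1 (flp_h L12210) L8988 L12210
theorem L12213 : sm gc N1528 = N1123 := ded_28_1 (flp_h L8998) L8982 L12210
theorem L12215 : sm ge N1528 = N1144 := ded_37_1 (flp_h L9170) (flp_e L8984) L12210
theorem L12217 : sm ge N1122 = N1529 := rfl
theorem L12219 : sm gb N1529 = N1125 := ded_19_1 (flp_e L9014) (flp_b L8992) L12217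
theorem L12223 : sm gd N1529 = N1529 := ded_30_1 (flp_e L12217) L8994 L6669 (flp_d L8994) L12217
theorem L12224 : sm gf N1529 = N1145 := ded_35_2 (flp_e L9176) (flp_f L6765) (flp_e L6659) L8990 L12217
theorem L12226 : sm gg N1122 = N1530 := rfl
theorem L12234 : sm gh N1122 = N1531 := rfl
theorem L12236 : sm gb N1531 = N1127 := ded_22_1 (flp_h L9029) (flp_b L8992) L12234
theorem L12238 : sm gf N1531 = N1123 := ded_40_1 (flp_h L8998) L8990 L12234
theorem L12240 : sm gd N1531 = N1531 := ded_33_1 (flp_h L12234) L8994 L6666 (flp_d L8994) L12234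
theorem L12241 : sm gi N1123 = N1532 := rfl
theorem L12250 : sm gg N1125 = N1533 := rfl
theorem L12254 : sm ge N1533 = N1126 := ded_36_1 (flp_g L9022) L9014 L12250
theorem L12256 : sm gi N1533 = N1481 := ded_43_2 (flp_g L11832) (flp_i L9017) L12250
theorem L12258 : sm gh N1125 = N1534 := rfl
theorem L12263 : sm gf N1534 = N1150 := ded_40_1 (flp_h L9207) (flp_f L9020) L12258
theorem L12265 : sm gh N1126 = N1535 := rfl
theorem L12268 : sm gg N1535 = N1127 := ded_42_1 (flp_h L9029) L9022 L12265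
theorem L12271 : sm gi N1127 = N1536 := rfl
theorem L12279 : sm gc N1129 = N1537 := rfl
theorem L12281 : sm ga N1537 = N1131 := ded_10_1 (flp_c L9065) (flp_a L9045) L12279
theorem L12283 : sm ge N1537 = N1471 := ded_25_2 (flp_c L11765) (flp_e L9051) L12279
theorem L12285 : sm gi N1537 = N1139 := ded_29_2 (flp_c L9136) (flp_i L9049) L12279
theorem L12287 : sm gd N1537 = N1171 := ded_24_2 (flp_c L9357) (flp_d L6922) (flp_c L6697) L9043 L12279
theorem L12289 : sm gf N1129 = N1538 := rfl
theorem L12291 : sm ga N1538 = N1132 := ded_13_1 (flp_f L9074) (flp_a L9045) L12289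
theorem L12293 : sm gb N1538 = N1524 := ded_20_1 (flp_f L12178) (flp_b L9047) L12289
theorem L12295 : sm gd N1538 = N1130 := ded_31_1 (flp_f L9053) L9043 L12289
theorem L12297 : sm gi N1538 = N1140 := ded_41_2 (flp_f L9142) (flp_i L9049) L12289
theorem L12299 : sm gh N1129 = N1539 := rfl
theorem L12301 : sm ga N1539 = N1133 := ded_15_1 (flp_h L9082) (flp_a L9045) L12299
theorem L12303 : sm gb N1539 = N1525 := ded_22_1 (flp_h L12186) (flp_b L9047) L12299
theorem L12305 : sm ge N1539 = N1473 := ded_37_1 (flp_h L11778) (flp_e L9051) L12299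
theorem L12307 : sm gd N1539 = N1539 := ded_33_1 (flp_h L12299) (flp_d L9043) L6699 L9043 L12299
theorem L12308 : sm gg N1130 = N1540 := rfl
theorem L12310 : sm ga N1540 = N1134 := ded_14_1 (flp_g L9089) (flp_a L9055) L12308
theorem L12314 : sm gc N1540 = N1174 := ded_27_1 (flp_g L9381) (flp_c L9059) L12308
theorem L12316 : sm ge N1540 = N1540 := ded_36_1 (flp_g L12308) L9064 L12308
theorem L12317 : sm gh N1540 = N1540 := ded_42_2 (flp_g L12308) L9061 L12308
theorem L12318 : sm gi N1540 = N1142 := ded_43_2 (flp_g L9154) (flp_i L9062) L12308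
theorem L12320 : sm gf N1131 = N1541 := rfl
theorem L12322 : sm gb N1541 = N1541 := ded_20_1 (flp_f L12320) L9071 L12320
theorem L12323 : sm gc N1541 = N1132 := ded_26_1 (flp_f L9074) L9065 L12320
theorem L12325 : sm gd N1541 = N1175 := ded_31_1 (flp_f L9390) (flp_d L9072) L12320
theorem L12327 : sm gi N1541 = N1143 := ded_41_2 (flp_f L9163) (flp_i L9069) L12320
theorem L12329 : sm gh N1131 = N1542 := rfl
theorem L12331 : sm gb N1542 = N1542 := ded_22_1 (flp_h L12329) L9071 L12329
theorem L12332 : sm gc N1542 = N1133 := ded_28_1 (flp_h L9082) L9065 L12329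
theorem L12334 : sm ge N1542 = N1476 := ded_37_1 (flp_h L11802) (flp_e L9067) L12329
theorem L12336 : sm ge N1132 = N1543 := rfl
theorem L12338 : sm gb N1543 = N1135 := ded_19_1 (flp_e L9099) (flp_b L9076) L12336
theorem L12343 : sm gf N1543 = N1477 := ded_35_2 (flp_e L11807) (flp_f L8698) (flp_e L6708) L9074 L12336
theorem L12345 : sm gg N1132 = N1544 := rfl
theorem L12347 : sm gb N1544 = N1136 := ded_21_1 (flp_g L9109) (flp_b L9076) L12345
theorem L12349 : sm gd N1544 = N1134 := ded_32_1 (flp_g L9089) (flp_d L9078) L12345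
theorem L12351 : sm gi N1544 = N1146 := ded_43_2 (flp_g L9181) (flp_i L9080) L12345
theorem L12360 : sm gi N1133 = N1546 := rfl
theorem L12369 : sm gg N1135 = N1547 := rfl
theorem L12371 : sm ga N1547 = N1533 := ded_14_1 (flp_g L12250) (flp_a L9101) L12369
theorem L12375 : sm ge N1547 = N1136 := ded_36_1 (flp_g L9109) L9099 L12369
theorem L12377 : sm gi N1547 = N1149 := ded_43_2 (flp_g L9201) (flp_i L9104) L12369
theorem L12379 : sm gh N1135 = N1548 := rfl
theorem L12381 : sm ga N1548 = N1534 := ded_15_1 (flp_h L12258) (flp_a L9101) L12379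
theorem L12384 : sm ge N1548 = N1137 := ded_37_1 (flp_h L9118) L9099 L12379
theorem L12386 : sm gf N1548 = N1482 := ded_40_1 (flp_h L11840) (flp_f L9107) L12379
theorem L12396 : sm gi N1137 = N1550 := rfl
theorem L12406 : sm gb N1139 = N1551 := rfl
theorem L12408 : sm gd N1551 = N1183 := ded_18_2 (flp_b L9453) (flp_d L9140) L12406
theorem L12410 : sm ga N1551 = N1551 := ded_9_1 (flp_b L12406) L9138 L6762 (flp_a L9138) L12406
theorem L12411 : sm gf N1139 = N1552 := rfl
theorem L12413 : sm ga N1552 = N1143 := ded_13_1 (flp_f L9163) (flp_a L9138) L12411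
theorem L12415 : sm gc N1552 = N1140 := ded_26_1 (flp_f L9142) L9136 L12411
theorem L12417 : sm gd N1552 = N1184 := ded_31_1 (flp_f L9459) (flp_d L9140) L12411
theorem L12419 : sm gh N1139 = N1553 := rfl
theorem L12421 : sm ga N1553 = N1144 := ded_15_1 (flp_h L9170) (flp_a L9138) L12419
theorem L12423 : sm gc N1553 = N1141 := ded_28_1 (flp_h L9148) L9136 L12419
theorem L12425 : sm gd N1553 = N1553 := ded_33_1 (flp_h L12419) L9140 L6997 (flp_d L9140) L12419
theorem L12426 : sm ge N1140 = N1554 := rfl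
theorem L12428 : sm ga N1554 = N1145 := ded_12_1 (flp_e L9176) (flp_a L9144) L12426
theorem L12431 : sm gg N1140 = N1555 := rfl
theorem L12433 : sm ga N1555 = N1146 := ded_14_1 (flp_g L9181) (flp_a L9144) L12431
theorem L12435 : sm gd N1555 = N1142 := ded_32_1 (flp_g L9154) (flp_d L9146) L12431
theorem L12437 : sm gh N1140 = N1556 := rfl
theorem L12445 : sm gi N1141 = N1557 := rfl
theorem L12451 : sm ge N1143 = N1558 := rfl
theorem L12454 : sm gc N1558 = N1145 := ded_25_1 (flp_e L9176) (flp_c L9166) L12451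
theorem L12456 : sm gg N1143 = N1559 := rfl
theorem L12458 : sm gb N1559 = N1559 := ded_21_1 (flp_g L12456) L9165 L12456
theorem L12459 : sm gc N1559 = N1146 := ded_27_1 (flp_g L9181) (flp_c L9166) L12456
theorem L12461 : sm gd N1559 = N1188 := ded_32_1 (flp_g L9489) (flp_d L9168) L12456
theorem L12471 : sm gi N1144 = N1561 := rfl
theorem L12477 : sm gg N1145 = N1562 := rfl
theorem L12479 : sm gb N1562 = N1149 := ded_21_1 (flp_g L9201) (flp_b L9178) L12477
theorem L12482 : sm ge N1562 = N1146 := ded_36_1 (flp_g L9181) L9176 L12477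
theorem L12484 : sm gh N1145 = N1563 := rfl
theorem L12488 : sm ge N1563 = N1147 := ded_37_1 (flp_h L9187) L9176 L12484
theorem L12490 : sm gh N1146 = N1564 := rfl
theorem L12496 : sm gd N1564 = N1159 := ded_33_1 (flp_h L9273) L6842 (flp_h L6784) (flp_d L9185) L12490
theorem L12506 : sm gf N1149 = N1566 := rfl
theorem L12510 : sm gh N1149 = N1567 := rfl
theorem L12513 : sm ge N1567 = N1151 := ded_37_1 (flp_h L9212) (flp_e L9205) L12510
theorem L12515 : sm gg N1567 = N1150 := ded_42_1 (flp_h L9207) L9201 L12510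
theorem L12517 : sm gd N1150 = N1568 := rfl
theorem L12519 : sm ge N1568 = N1163 := ded_30_2 (flp_d L9303) L6871 (flp_d L6800) (flp_e L9210) L12517
theorem L12522 : sm gi N1150 = N1569 := rfl
theorem L12534 : sm gg N1153 = N1571 := rfl
theorem L12543 : sm gh N1153 = N1572 := rfl

end Cfsg.Agent.Helper28.FibA
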