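import Cfsg.Agent.Helper28.FibB3

/-! # The Fi₂₂ presentation, cosets of the subgroup generated by b, …, i: the coset enumeration, part 4 (helper28; generated) -/

set_option autoImplicit false

noncomputable section

namespace Cfsg.Agent.Helper28.FibA

open Cfsg.Agent.Helper28.CosetTable

theorem L12545 : sm ga N1572 = N1158 := ded_15_1 (flp_h L9265) (flp_a L9228) L12543
theorem L12566 : sm gf N1157 = N1575 := rfl
theorem L12574 : sm gh N1157 = N1576 := rfl
theorem L12576 : sm gb N1576 = N1162 := ded_22_1 (flp_h L9295) (flp_b L9258) L12574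
theorem L12579 : sm ge N1576 = N1159 := ded_37_1 (flp_h L9273) (flp_e L9262) L12574
theorem L12581 : sm gg N1576 = N1158 := ded_42_1 (flp_h L9265) L9256 L12574
theorem L12583 : sm gd N1158 = N1577 := rfl
theorem L12598 : sm gi N1159 = N1579 := rfl
theorem L12603 : sm gg N1579 = N1160 := ded_43_1 (flp_i L9280) (flp_g L9278) L12598
theorem L12606 : sm gh N1161 = N1580 := rfl
theorem L12608 : sm gc N1580 = N1166 := ded_28_1 (flp_h L9322) (flp_c L9290) L12606
theorem L12610 : sm gf N1580 = N1162 := ded_40_1 (flp_h L9295) L9288 L12606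
theorem L12613 : sm gd N1162 = N1581 := rfl
theorem L12615 : sm gg N1581 = N1163 := ded_32_2 (flp_d L9303) (flp_g L9301) L12613
theorem L12618 : sm gi N1162 = N1582 := rfl
theorem L12624 : sm gg N1582 = N1164 := ded_43_1 (flp_i L9307) (flp_g L9301) L12618
theorem L12627 : sm gc N1163 = N1583 := rfl
theorem L12631 : sm gd N1583 = N1169 := ded_24_2 (flp_c L9344) (flp_d L6901) (flp_c L6869) L9303 L12627
theorem L12638 : sm gd N1166 = N1585 := rfl
theorem L12644 : sm gh N1585 = N1209 := ded_33_2 (flp_d L9661) (flp_h L7159) (flp_d L6890) L9322 L12638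
theorem L12653 : sm gc N1167 = N1587 := rfl
theorem L12656 : sm gg N1587 = N1169 := ded_27_2 (flp_c L9344) (flp_g L9331) L12653
theorem L12658 : sm gh N1587 = N1211 := ded_28_2 (flp_c L9676) (flp_h L9334) L12653
theorem L12668 : sm gb N1169 = N1589 := rfl
theorem L12672 : sm gh N1589 = N1213 := ded_22_2 (flp_b L9690) (flp_h L9348) L12668
theorem L12675 : sm gi N1169 = N1590 := rfl
theorem L12689 : sm gb N1171 = N1592 := rfl
theorem L12691 : sm ge N1592 = N1592 := ded_19_2 (flp_b L12689) L9361 L12689
theorem L12692 : sm gi N1592 = N1183 := ded_23_2 (flp_b L9453) (flp_i L9362) L12689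
theorem L12694 : sm ga N1592 = N1592 := ded_9_1 (flp_b L12689) L9359 L6944 (flp_a L9359) L12689
theorem L12695 : sm gc N1592 = N1592 := ded_17_2 (flp_b L12689) (flp_c L9357) L6926 L9357 L12689
theorem L12696 : sm gf N1171 = N1593 := rfl
theorem L12698 : sm ga N1593 = N1175 := ded_13_1 (flp_f L9390) (flp_a L9359) L12696
theorem L12700 : sm gc N1593 = N1172 := ded_26_1 (flp_f L9364) L9357 L12696
theorem L12702 : sm gi N1593 = N1184 := ded_41_2 (flp_f L9459) (flp_i L9362) L12696
theorem L12704 : sm gh N1171 = N1594 := rfl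
theorem L12706 : sm ga N1594 = N1176 := ded_15_1 (flp_h L9397) (flp_a L9359) L12704
theorem L12708 : sm gc N1594 = N1173 := ded_28_1 (flp_h L9373) L9357 L12704
theorem L12710 : sm ge N1594 = N1594 := ded_37_1 (flp_h L12704) L9361 L12704
theorem L12711 : sm gi N1594 = N1594 := ded_44_2 (flp_h L12704) L9362 L6997 (flp_i L9362) L12704
theorem L12712 : sm ge N1172 = N1595 := rfl
theorem L12714 : sm ga N1595 = N1177 := ded_12_1 (flp_e L9404) (flp_a L9366) L12712
theorem L12716 : sm gb N1595 = N1595 := ded_19_1 (flp_e L12712) L9368 L12712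
theorem L12717 : sm gi N1595 = N1185 := ded_38_2 (flp_e L9466) (flp_i L9371) L12712
theorem L12719 : sm gd N1595 = N1595 := ded_30_1 (flp_e L12712) L9369 L6938 (flp_d L9369) L12712
theorem L12720 : sm gf N1595 = N1595 := ded_35_2 (flp_e L12712) (flp_f L9364) L6929 L9364 L12712
theorem L12721 : sm gg N1172 = N1596 := rfl
theorem L12723 : sm ga N1596 = N1178 := ded_14_1 (flp_g L9412) (flp_a L9366) L12721
theorem L12725 : sm gb N1596 = N1596 := ded_21_1 (flp_g L12721) L9368 L12721
theorem L12726 : sm gd N1596 = N1174 := ded_32_1 (flp_g L9381) (flp_d L9369) L12721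
theorem L12728 : sm gi N1596 = N1186 := ded_43_2 (flp_g L9474) (flp_i L9371) L12721
theorem L12730 : sm gh N1172 = N1597 := rfl
theorem L12732 : sm ga N1597 = N1179 := ded_15_1 (flp_h L9420) (flp_a L9366) L12730
theorem L12734 : sm gb N1597 = N1597 := ded_22_1 (flp_h L12730) L9368 L12730
theorem L12735 : sm gf N1597 = N1173 := ded_40_1 (flp_h L9373) L9364 L12730
theorem L12737 : sm gd N1597 = N1597 := ded_33_1 (flp_h L12730) L9369 L6935 (flp_d L9369) L12730
theorem L12738 : sm gi N1597 = N1597 := ded_44_2 (flp_h L12730) L9371 L7005 (flp_i L9371) L12730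
theorem L12739 : sm ge N1175 = N1598 := rfl
theorem L12741 : sm gb N1598 = N1598 := ded_19_1 (flp_e L12739) L9392 L12739
theorem L12742 : sm gc N1598 = N1177 := ded_25_1 (flp_e L9404) (flp_c L9393) L12739
theorem L12744 : sm gi N1598 = N1187 := ded_38_2 (flp_e L9482) (flp_i L9395) L12739
theorem L12746 : sm gf N1598 = N1598 := ded_35_2 (flp_e L12739) (flp_f L9390) L6941 L9390 L12739
theorem L12747 : sm gg N1175 = N1599 := rfl
theorem L12749 : sm gb N1599 = N1599 := ded_21_1 (flp_g L12747) L9392 L12747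
theorem L12750 : sm gc N1599 = N1178 := ded_27_1 (flp_g L9412) (flp_c L9393) L12747
theorem L12752 : sm gi N1599 = N1188 := ded_43_2 (flp_g L9489) (flp_i L9395) L12747
theorem L12754 : sm gh N1175 = N1600 := rfl
theorem L12756 : sm gb N1600 = N1600 := ded_22_1 (flp_h L12754) L9392 L12754
theorem L12757 : sm gc N1600 = N1179 := ded_28_1 (flp_h L9420) (flp_c L9393) L12754
theorem L12759 : sm gf N1600 = N1176 := ded_40_1 (flp_h L9397) L9390 L12754
theorem L12761 : sm gi N1600 = N1600 := ded_44_2 (flp_h L12754) L9395 L7019 (flp_i L9395) L12754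
theorem L12762 : sm gd N1176 = N1601 := rfl
theorem L12764 : sm gb N1601 = N1601 := ded_18_1 (flp_d L12762) L9399 L12762
theorem L12765 : sm gi N1601 = N1601 := ded_34_2 (flp_d L12762) L9403 L12762
theorem L12766 : sm gc N1601 = N1601 := ded_24_1 (flp_d L12762) L9400 L6958 (flp_c L9400) L12762
theorem L12767 : sm gg N1177 = N1602 := rfl
theorem L12769 : sm gb N1602 = N1180 := ded_21_1 (flp_g L9428) (flp_b L9406) L12767
theorem L12771 : sm gd N1602 = N1602 := ded_32_1 (flp_g L12767) L9410 L12767
theorem L12772 : sm ge N1602 = N1178 := ded_36_1 (flp_g L9412) L9404 L12767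
theorem L12774 : sm gi N1602 = N1189 := ded_43_2 (flp_g L9495) (flp_i L9408) L12767
theorem L12776 : sm gh N1177 = N1603 := rfl
theorem L12778 : sm gb N1603 = N1181 := ded_22_1 (flp_h L9437) (flp_b L9406) L12776
theorem L12780 : sm ge N1603 = N1179 := ded_37_1 (flp_h L9420) L9404 L12776
theorem L12782 : sm gf N1603 = N1603 := ded_40_1 (flp_h L12776) L9411 L12776
theorem L12783 : sm gi N1603 = N1603 := ded_44_2 (flp_h L12776) L9408 L7024 (flp_i L9408) L12776
theorem L12784 : sm gh N1178 = N1604 := rfl
theorem L12786 : sm gb N1604 = N1182 := ded_22_1 (flp_h L9445) (flp_b L9414) L12784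
theorem L12788 : sm gg N1604 = N1179 := ded_42_1 (flp_h L9420) L9412 L12784
theorem L12790 : sm gd N1604 = N1604 := ded_33_1 (flp_h L12784) L9416 L6965 (flp_d L9416) L12784
theorem L12791 : sm gi N1604 = N1604 := ded_44_2 (flp_h L12784) L9418 L7033 (flp_i L9418) L12784
theorem L12792 : sm gf N1180 = N1605 := rfl
theorem L12794 : sm ga N1605 = N1605 := ded_13_1 (flp_f L12792) L9430 L12792
theorem L12795 : sm gc N1605 = N1605 := ded_26_1 (flp_f L12792) L9431 L12792
theorem L12796 : sm gd N1605 = N1605 := ded_31_1 (flp_f L12792) L9432 L12792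
theorem L12797 : sm gi N1605 = N1190 := ded_41_2 (flp_f L9503) (flp_i L9435) L12792
theorem L12799 : sm gg N1605 = N1605 := ded_39_2 (flp_f L12792) (flp_g L9428) L6975 L9428 L12792
theorem L12800 : sm gh N1180 = N1606 := rfl
theorem L12802 : sm ga N1606 = N1606 := ded_15_1 (flp_h L12800) L9430 L12800
theorem L12803 : sm gc N1606 = N1606 := ded_28_1 (flp_h L12800) L9431 L12800
theorem L12804 : sm ge N1606 = N1182 := ded_37_1 (flp_h L9445) (flp_e L9433) L12800
theorem L12806 : sm gg N1606 = N1181 := ded_42_1 (flp_h L9437) L9428 L12800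
theorem L12808 : sm gi N1606 = N1606 := ded_44_2 (flp_h L12800) L9435 L7041 (flp_i L9435) L12800
theorem L12809 : sm gd N1181 = N1607 := rfl
theorem L12811 : sm ga N1607 = N1607 := ded_11_1 (flp_d L12809) L9439 L12809
theorem L12812 : sm gf N1607 = N1607 := ded_31_2 (flp_d L12809) L9443 L12809
theorem L12813 : sm gi N1607 = N1607 := ded_34_2 (flp_d L12809) L9444 L12809
theorem L12814 : sm ge N1607 = N1607 := ded_30_2 (flp_d L12809) L9441 L6990 (flp_e L9441) L12809
theorem L12815 : sm gh N1607 = N1607 := ded_33_2 (flp_d L12809) (flp_h L9437) L6974 L9437 L12809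
theorem L12816 : sm gf N1183 = N1608 := rfl
theorem L12818 : sm ga N1608 = N1608 := ded_13_1 (flp_f L12816) L9457 L12816
theorem L12819 : sm gb N1608 = N1184 := ded_20_1 (flp_f L9459) L9453 L12816
theorem L12821 : sm gc N1608 = N1608 := ded_26_1 (flp_f L12816) L9458 L12816
theorem L12822 : sm gh N1608 = N1608 := ded_40_2 (flp_f L12816) L9456 L12816
theorem L12823 : sm ge N1184 = N1609 := rfl
theorem L12825 : sm ga N1609 = N1187 := ded_12_1 (flp_e L9482) (flp_a L9461) L12823
theorem L12827 : sm gc N1609 = N1185 := ded_25_1 (flp_e L9466) (flp_c L9463) L12823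
theorem L12829 : sm gh N1609 = N1609 := ded_37_2 (flp_e L12823) L9465 L12823
theorem L12830 : sm gf N1609 = N1609 := ded_35_2 (flp_e L12823) (flp_f L9459) L6996 L9459 L12823
theorem L12831 : sm gg N1184 = N1610 := rfl
theorem L12833 : sm ga N1610 = N1188 := ded_14_1 (flp_g L9489) (flp_a L9461) L12831
theorem L12835 : sm gc N1610 = N1186 := ded_27_1 (flp_g L9474) (flp_c L9463) L12831
theorem L12837 : sm gh N1610 = N1610 := ded_42_2 (flp_g L12831) L9465 L12831
theorem L12838 : sm gg N1185 = N1611 := rfl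
theorem L12840 : sm ga N1611 = N1189 := ded_14_1 (flp_g L9495) (flp_a L9468) L12838
theorem L12842 : sm gb N1611 = N1611 := ded_21_1 (flp_g L12838) L9470 L12838
theorem L12843 : sm gd N1611 = N1611 := ded_32_1 (flp_g L12838) L9472 L12838
theorem L12844 : sm ge N1611 = N1186 := ded_36_1 (flp_g L9474) L9466 L12838
theorem L12846 : sm gh N1611 = N1611 := ded_42_2 (flp_g L12838) L9471 L12838
theorem L12847 : sm gd N1187 = N1612 := rfl
theorem L12849 : sm gb N1612 = N1612 := ded_18_1 (flp_d L12847) L9484 L12847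
theorem L12850 : sm gf N1612 = N1612 := ded_31_2 (flp_d L12847) L9488 L12847
theorem L12851 : sm gc N1612 = N1612 := ded_24_1 (flp_d L12847) L9485 L7025 (flp_c L9485) L12847
theorem L12852 : sm gg N1187 = N1613 := rfl
theorem L12854 : sm gb N1613 = N1613 := ded_21_1 (flp_g L12852) L9484 L12852
theorem L12855 : sm gc N1613 = N1189 := ded_27_1 (flp_g L9495) (flp_c L9485) L12852
theorem L12857 : sm ge N1613 = N1188 := ded_36_1 (flp_g L9489) L9482 L12852
theorem L12859 : sm gh N1613 = N1613 := ded_42_2 (flp_g L12852) L9487 L12852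
theorem L12860 : sm gf N1189 = N1614 := rfl
theorem L12862 : sm gb N1614 = N1190 := ded_20_1 (flp_f L9503) (flp_b L9497) L12860
theorem L12864 : sm gd N1614 = N1614 := ded_31_1 (flp_f L12860) L9499 L12860
theorem L12865 : sm gh N1614 = N1614 := ded_40_2 (flp_f L12860) L9502 L12860
theorem L12866 : sm gg N1614 = N1614 := ded_39_2 (flp_f L12860) (flp_g L9495) L7026 L9495 L12860
theorem L12867 : sm gg N1191 = N1615 := rfl
theorem L12871 : sm gd N1615 = N1192 := ded_32_1 (flp_g L9517) L9510 L12867
theorem L12875 : sm gh N1191 = N1616 := rfl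
theorem L12881 : sm gf N1192 = N1617 := rfl
theorem L12885 : sm gc N1617 = N1199 := ded_26_1 (flp_f L9577) (flp_c L9521) L12881
theorem L12887 : sm gi N1617 = N1617 := ded_41_2 (flp_f L12881) L9525 L12881
theorem L12890 : sm gh N1192 = N1618 := rfl
theorem L12898 : sm gg N1618 = N1193 := ded_42_1 (flp_h L9526) L9517 L12890
theorem L12900 : sm gd N1193 = N1619 := rfl
theorem L12905 : sm gi N1193 = N1620 := rfl
theorem L12914 : sm gh N1620 = N1620 := ded_44_1 (flp_i L12905) (flp_h L9526) L7048 L9526 L12905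
theorem L12924 : sm gi N1194 = N1622 := rfl
theorem L12928 : sm gc N1622 = N1203 := ded_29_1 (flp_i L9610) (flp_c L9539) L12924
theorem L12931 : sm gg N1622 = N1196 := ded_43_1 (flp_i L9552) (flp_g L9542) L12924
theorem L12973 : sm gh N1199 = N1628 := rfl
theorem L12976 : sm gb N1628 = N1204 := ded_22_1 (flp_h L9620) (flp_b L9580) L12973
theorem L12978 : sm ge N1628 = N1628 := ded_37_1 (flp_h L12973) L9583 L12973
theorem L12979 : sm gf N1628 = N1200 := ded_40_1 (flp_h L9585) L9577 L12973
theorem L12982 : sm gd N1200 = N1629 := rfl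
theorem L12987 : sm gg N1629 = N1201 := ded_32_2 (flp_d L9594) (flp_g L9592) L12982
theorem L12990 : sm gi N1200 = N1630 := rfl
theorem L13000 : sm gc N1201 = N1631 := rfl
theorem L13005 : sm gi N1201 = N1632 := rfl
theorem L13008 : sm gb N1632 = N1208 := ded_23_1 (flp_i L9653) (flp_b L9597) L13005
theorem L13014 : sm gd N1204 = N1633 := rfl
theorem L13016 : sm ga N1633 = N1209 := ded_11_1 (flp_d L9661) (flp_a L9622) L13014
theorem L13018 : sm gf N1633 = N1205 := ded_31_2 (flp_d L9629) (flp_f L9626) L13014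
theorem L13021 : sm gi N1204 = N1634 := rfl
theorem L13027 : sm gf N1634 = N1206 := ded_41_1 (flp_i L9636) (flp_f L9626) L13021
theorem L13031 : sm gc N1205 = N1635 := rfl
theorem L13036 : sm gg N1635 = N1207 := ded_27_2 (flp_c L9646) (flp_g L9633) L13031
theorem L13039 : sm gi N1205 = N1636 := rfl
theorem L13048 : sm gb N1207 = N1637 := rfl
theorem L13053 : sm gi N1207 = N1638 := rfl
theorem L13062 : sm gh N1208 = N1639 := rfl
theorem L13068 : sm gd N1639 = N1639 := ded_33_1 (flp_h L13062) L9657 L7148 (flp_d L9657) L13062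
theorem L13069 : sm gc N1209 = N1640 := rfl
theorem L13071 : sm gf N1640 = N1211 := ded_26_2 (flp_c L9676) (flp_f L9664) L13069
theorem L13075 : sm ge N1209 = N1641 := rfl
theorem L13081 : sm gi N1209 = N1642 := rfl
theorem L13089 : sm gb N1211 = N1643 := rfl
theorem L13096 : sm gi N1211 = N1644 := rfl
theorem L13102 : sm gg N1644 = N1214 := ded_43_1 (flp_i L9696) (flp_g L9679) L13096
theorem L13117 : sm gi N1213 = N1647 := rfl
theorem L13119 : sm gb N1647 = N1214 := ded_23_1 (flp_i L9696) L9690 L13117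
theorem L13125 : sm gh N1214 = N1648 := rfl
theorem L13131 : sm ge N1216 = N1649 := rfl
theorem L13133 : sm ga N1649 = N1217 := ded_12_1 (flp_e L9717) L9709 L13131
theorem L13135 : sm gb N1649 = N1307 := ded_19_1 (flp_e L10482) (flp_b L9715) L13131
theorem L13137 : sm gc N1649 = N1649 := ded_25_1 (flp_e L13131) L9711 L13131
theorem L13138 : sm gg N1649 = N1649 := ded_36_2 (flp_e L13131) L9713 L13131
theorem L13139 : sm gh N1649 = N1649 := ded_37_2 (flp_e L13131) L9714 L13131
theorem L13140 : sm gd N1217 = N1650 := rfl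
theorem L13142 : sm gb N1650 = N1218 := ded_18_1 (flp_d L9724) (flp_b L9719) L13140
theorem L13144 : sm gg N1650 = N1650 := ded_32_2 (flp_d L13140) L9722 L13140
theorem L13145 : sm gf N1217 = N1651 := rfl
theorem L13147 : sm gb N1651 = N1219 := ded_20_1 (flp_f L9731) (flp_b L9719) L13145
theorem L13149 : sm gc N1651 = N1651 := ded_26_1 (flp_f L13145) L9721 L13145
theorem L13150 : sm gh N1651 = N1651 := ded_40_2 (flp_f L13145) L9723 L13145
theorem L13151 : sm ge N1651 = N1651 := ded_35_1 (flp_f L13145) (flp_e L9717) L7196 L9717 L13145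
theorem L13152 : sm gf N1218 = N1652 := rfl
theorem L13154 : sm ga N1652 = N1310 := ded_13_1 (flp_f L10503) (flp_a L9726) L13152
theorem L13156 : sm gc N1652 = N1224 := ded_26_1 (flp_f L9773) (flp_c L9729) L13152
theorem L13158 : sm gd N1652 = N1219 := ded_31_1 (flp_f L9731) L9724 L13152
theorem L13160 : sm gh N1218 = N1653 := rfl
theorem L13162 : sm ga N1653 = N1311 := ded_15_1 (flp_h L10509) (flp_a L9726) L13160
theorem L13164 : sm gc N1653 = N1225 := ded_28_1 (flp_h L9779) (flp_c L9729) L13160
theorem L13166 : sm gg N1653 = N1653 := ded_42_1 (flp_h L13160) L9728 L13160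
theorem L13167 : sm gd N1653 = N1653 := ded_33_1 (flp_h L13160) (flp_d L9724) L7207 L9724 L13160
theorem L13168 : sm gg N1219 = N1654 := rfl
theorem L13170 : sm ga N1654 = N1312 := ded_14_1 (flp_g L10515) (flp_a L9733) L13168
theorem L13172 : sm gc N1654 = N1220 := ded_27_1 (flp_g L9739) (flp_c L9735) L13168
theorem L13177 : sm gd N1221 = N1655 := rfl
theorem L13179 : sm ga N1655 = N1222 := ded_11_1 (flp_d L9759) (flp_a L9751) L13177
theorem L13181 : sm gb N1655 = N1319 := ded_18_1 (flp_d L10582) (flp_b L9753) L13177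
theorem L13183 : sm gg N1655 = N1655 := ded_32_2 (flp_d L13177) L9756 L13177
theorem L13184 : sm gf N1221 = N1656 := rfl
theorem L13186 : sm ga N1656 = N1223 := ded_13_1 (flp_f L9764) (flp_a L9751) L13184
theorem L13188 : sm gb N1656 = N1320 := ded_20_1 (flp_f L10587) (flp_b L9753) L13184
theorem L13190 : sm gc N1656 = N1656 := ded_26_1 (flp_f L13184) L9755 L13184
theorem L13191 : sm gh N1656 = N1238 := ded_40_2 (flp_f L9884) (flp_h L9757) L13184
theorem L13193 : sm ge N1656 = N1228 := ded_35_1 (flp_f L9805) (flp_e L7260) (flp_f L7220) L9749 L13184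
theorem L13195 : sm gc N1222 = N1657 := rfl
theorem L13197 : sm gg N1657 = N1657 := ded_27_2 (flp_c L13195) L9763 L13195
theorem L13198 : sm gd N1657 = N1657 := ded_24_2 (flp_c L13195) (flp_d L9759) L7231 L9759 L13195
theorem L13199 : sm gf N1222 = N1658 := rfl
theorem L13201 : sm gb N1658 = N1224 := ded_20_1 (flp_f L9773) (flp_b L9761) L13199
theorem L13203 : sm gd N1658 = N1223 := ded_31_1 (flp_f L9764) L9759 L13199
theorem L13205 : sm gh N1222 = N1659 := rfl
theorem L13207 : sm gb N1659 = N1225 := ded_22_1 (flp_h L9779) (flp_b L9761) L13205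
theorem L13209 : sm gg N1659 = N1659 := ded_42_1 (flp_h L13205) L9763 L13205
theorem L13210 : sm gd N1659 = N1241 := ded_33_1 (flp_h L9908) (flp_d L7319) (flp_h L7233) L9759 L13205
theorem L13212 : sm gg N1223 = N1660 := rfl
theorem L13217 : sm ge N1660 = N1232 := ded_36_1 (flp_g L9834) (flp_e L9771) L13212
theorem L13219 : sm gh N1660 = N1242 := ded_42_2 (flp_g L9914) (flp_h L9769) L13212
theorem L13222 : sm ge N1224 = N1661 := rfl
theorem L13224 : sm ga N1661 = N1325 := ded_12_1 (flp_e L10626) (flp_a L9775) L13222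
theorem L13226 : sm gd N1661 = N1233 := ded_30_1 (flp_e L9843) L7289 (flp_e L7248) (flp_d L9777) L13222
theorem L13228 : sm gg N1224 = N1662 := rfl
theorem L13230 : sm ga N1662 = N1326 := ded_14_1 (flp_g L10630) (flp_a L9775) L13228
theorem L13232 : sm gd N1662 = N1226 := ded_32_1 (flp_g L9786) (flp_d L9777) L13228
theorem L13235 : sm gh N1224 = N1663 := rfl
theorem L13237 : sm ga N1663 = N1327 := ded_15_1 (flp_h L10635) (flp_a L9775) L13235
theorem L13239 : sm gf N1663 = N1225 := ded_40_1 (flp_h L9779) L9773 L13235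
theorem L13241 : sm gd N1663 = N1245 := ded_33_1 (flp_h L9941) L7339 (flp_h L7246) (flp_d L9777) L13235
theorem L13243 : sm gi N1225 = N1664 := rfl
theorem L13245 : sm ga N1664 = N1328 := ded_16_1 (flp_i L10641) (flp_a L9781) L13243
theorem L13247 : sm gd N1664 = N1246 := ded_34_1 (flp_i L9948) (flp_d L9784) L13243
theorem L13249 : sm gg N1664 = N1664 := ded_43_1 (flp_i L13243) L9783 L13243
theorem L13250 : sm gc N1227 = N1665 := rfl
theorem L13252 : sm ga N1665 = N1229 := ded_10_1 (flp_c L9814) (flp_a L9799) L13250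
theorem L13254 : sm gg N1665 = N1471 := ded_27_2 (flp_c L11765) (flp_g L9803) L13250
theorem L13256 : sm gd N1665 = N1665 := ded_24_2 (flp_c L13250) (flp_d L9797) L7266 L9797 L13250
theorem L13257 : sm gf N1227 = N1666 := rfl
theorem L13259 : sm ga N1666 = N1230 := ded_13_1 (flp_f L9820) (flp_a L9799) L13257
theorem L13261 : sm gb N1666 = N1340 := ded_20_1 (flp_f L10756) (flp_b L9801) L13257
theorem L13263 : sm gd N1666 = N1228 := ded_31_1 (flp_f L9805) L9797 L13257
theorem L13265 : sm gh N1227 = N1667 := rfl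
theorem L13267 : sm ga N1667 = N1231 := ded_15_1 (flp_h L9826) (flp_a L9799) L13265
theorem L13269 : sm gb N1667 = N1341 := ded_22_1 (flp_h L10762) (flp_b L9801) L13265
theorem L13271 : sm gg N1667 = N1473 := ded_42_1 (flp_h L11778) (flp_g L9803) L13265
theorem L13273 : sm gd N1667 = N1249 := ded_33_1 (flp_h L9975) (flp_d L7359) (flp_h L7269) L9797 L13265
theorem L13275 : sm gg N1228 = N1668 := rfl
theorem L13279 : sm gb N1668 = N1342 := ded_21_1 (flp_g L10770) (flp_b L9809) L13275
theorem L13282 : sm gh N1668 = N1250 := ded_42_2 (flp_g L9984) (flp_h L9812) L13275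
theorem L13286 : sm gf N1229 = N1669 := rfl
theorem L13288 : sm gb N1669 = N1669 := ded_20_1 (flp_f L13286) L9818 L13286
theorem L13289 : sm gc N1669 = N1230 := ded_26_1 (flp_f L9820) L9814 L13286
theorem L13291 : sm gd N1669 = N1669 := ded_31_1 (flp_f L13286) L9819 L13286
theorem L13292 : sm gh N1229 = N1670 := rfl
theorem L13295 : sm gc N1670 = N1231 := ded_28_1 (flp_h L9826) L9814 L13292
theorem L13297 : sm gg N1670 = N1476 := ded_42_1 (flp_h L11802) (flp_g L9816) L13292
theorem L13299 : sm ge N1230 = N1671 := rfl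
theorem L13301 : sm gb N1671 = N1233 := ded_19_1 (flp_e L9843) (flp_b L9822) L13299
theorem L13303 : sm gg N1230 = N1672 := rfl
theorem L13311 : sm gh N1230 = N1673 := rfl
theorem L13317 : sm gd N1673 = N1255 := ded_33_1 (flp_h L10026) L7390 (flp_h L7282) (flp_d L9824) L13311
theorem L13319 : sm gi N1231 = N1674 := rfl
theorem L13327 : sm gg N1233 = N1675 := rfl
theorem L13329 : sm ga N1675 = N1349 := ded_14_1 (flp_g L10823) (flp_a L9845) L13327
theorem L13332 : sm ge N1675 = N1234 := ded_36_1 (flp_g L9848) L9843 L13327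
theorem L13334 : sm gh N1233 = N1676 := rfl
theorem L13336 : sm ga N1676 = N1350 := ded_15_1 (flp_h L10828) (flp_a L9845) L13334
theorem L13339 : sm ge N1676 = N1235 := ded_37_1 (flp_h L9857) L9843 L13334
theorem L13341 : sm gh N1234 = N1677 := rfl
theorem L13350 : sm gd N1677 = N1259 := ded_33_1 (flp_h L10058) L7422 (flp_h L7306) (flp_d L9853) L13341
theorem L13352 : sm gi N1235 = N1678 := rfl
theorem L13354 : sm ga N1678 = N1352 := ded_16_1 (flp_i L10842) (flp_a L9859) L13352
theorem L13359 : sm gf N1678 = N1236 := ded_41_1 (flp_i L9866) (flp_f L9862) L13352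
theorem L13361 : sm gc N1237 = N1679 := rfl
theorem L13363 : sm ga N1679 = N1239 := ded_10_1 (flp_c L9894) (flp_a L9877) L13361
theorem L13365 : sm ge N1679 = N1679 := ded_25_2 (flp_c L13361) L9883 L13361
theorem L13366 : sm gg N1679 = N1679 := ded_27_2 (flp_c L13361) L9881 L13361
theorem L13367 : sm gi N1679 = N1679 := ded_29_2 (flp_c L13361) L9882 L13361
theorem L13368 : sm gd N1679 = N1679 := ded_24_2 (flp_c L13361) (flp_d L9875) L7316 L9875 L13361
theorem L13369 : sm gf N1237 = N1680 := rfl
theorem L13371 : sm ga N1680 = N1240 := ded_13_1 (flp_f L9901) (flp_a L9877) L13369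
theorem L13373 : sm gb N1680 = N1354 := ded_20_1 (flp_f L10858) (flp_b L9879) L13369
theorem L13375 : sm gd N1680 = N1238 := ded_31_1 (flp_f L9884) L9875 L13369
theorem L13377 : sm gi N1680 = N1680 := ded_41_2 (flp_f L13369) L9882 L13369
theorem L13378 : sm gh N1237 = N1681 := rfl
theorem L13380 : sm ga N1681 = N1241 := ded_15_1 (flp_h L9908) (flp_a L9877) L13378
theorem L13382 : sm gb N1681 = N1355 := ded_22_1 (flp_h L10865) (flp_b L9879) L13378
theorem L13384 : sm ge N1681 = N1681 := ded_37_1 (flp_h L13378) L9883 L13378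
theorem L13385 : sm gg N1681 = N1681 := ded_42_1 (flp_h L13378) L9881 L13378
theorem L13397 : sm gf N1239 = N1683 := rfl
theorem L13399 : sm gb N1683 = N1683 := ded_20_1 (flp_f L13397) L9899 L13397
theorem L13400 : sm gc N1683 = N1240 := ded_26_1 (flp_f L9901) L9894 L13397
theorem L13402 : sm gd N1683 = N1683 := ded_31_1 (flp_f L13397) L9900 L13397
theorem L13403 : sm gi N1683 = N1683 := ded_41_2 (flp_f L13397) L9898 L13397
theorem L13404 : sm gh N1239 = N1684 := rfl
theorem L13406 : sm gb N1684 = N1684 := ded_22_1 (flp_h L13404) L9899 L13404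
theorem L13407 : sm gc N1684 = N1241 := ded_28_1 (flp_h L9908) L9894 L13404
theorem L13409 : sm ge N1684 = N1684 := ded_37_1 (flp_h L13404) L9896 L13404
theorem L13410 : sm gg N1684 = N1684 := ded_42_1 (flp_h L13404) L9897 L13404
theorem L13411 : sm ge N1240 = N1685 := rfl
theorem L13413 : sm gb N1685 = N1243 := ded_19_1 (flp_e L9923) (flp_b L9903) L13411
theorem L13416 : sm gd N1685 = N1253 := ded_30_1 (flp_e L10011) L7390 (flp_e L7332) (flp_d L9905) L13411
theorem L13419 : sm gg N1240 = N1686 := rfl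
theorem L13423 : sm gd N1686 = N1242 := ded_32_1 (flp_g L9914) (flp_d L9905) L13419
theorem L13427 : sm gh N1240 = N1687 := rfl
theorem L13429 : sm gb N1687 = N1245 := ded_22_1 (flp_h L9941) (flp_b L9903) L13427
theorem L13431 : sm gf N1687 = N1241 := ded_40_1 (flp_h L9908) L9901 L13427
theorem L13433 : sm gi N1241 = N1688 := rfl
theorem L13435 : sm gb N1688 = N1246 := ded_23_1 (flp_i L9948) (flp_b L9910) L13433
theorem L13437 : sm ge N1688 = N1688 := ded_38_1 (flp_i L13433) L9912 L13433
theorem L13438 : sm gg N1688 = N1688 := ded_43_1 (flp_i L13433) L9913 L13433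
theorem L13439 : sm gh N1688 = N1688 := ded_44_1 (flp_i L13433) (flp_h L9908) L7324 L9908 L13433
theorem L13440 : sm gg N1243 = N1689 := rfl
theorem L13442 : sm ga N1689 = N1363 := ded_14_1 (flp_g L10925) (flp_a L9925) L13440
theorem L13445 : sm gd N1689 = N1257 := ded_32_1 (flp_g L10040) (flp_d L9929) L13440
theorem L13447 : sm ge N1689 = N1244 := ded_36_1 (flp_g L9932) L9923 L13440
theorem L13450 : sm gh N1243 = N1690 := rfl
theorem L13452 : sm ga N1690 = N1364 := ded_15_1 (flp_h L10933) (flp_a L9925) L13450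
theorem L13455 : sm ge N1690 = N1245 := ded_37_1 (flp_h L9941) L9923 L13450
theorem L13458 : sm gh N1244 = N1691 := rfl
theorem L13460 : sm ga N1691 = N1365 := ded_15_1 (flp_h L10939) (flp_a L9934) L13458
theorem L13466 : sm gi N1245 = N1692 := rfl
theorem L13468 : sm ga N1692 = N1366 := ded_16_1 (flp_i L10945) (flp_a L9943) L13466
theorem L13470 : sm gc N1692 = N1692 := ded_29_1 (flp_i L13466) L9945 L13466
theorem L13471 : sm gf N1692 = N1246 := ded_41_1 (flp_i L9948) (flp_f L9946) L13466
theorem L13473 : sm gh N1692 = N1692 := ded_44_1 (flp_i L13466) (flp_h L9941) L7341 L9941 L13466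
theorem L13474 : sm gf N1247 = N1693 := rfl
theorem L13476 : sm ga N1693 = N1251 := ded_13_1 (flp_f L9994) (flp_a L9958) L13474
theorem L13479 : sm gc N1693 = N1248 := ded_26_1 (flp_f L9966) L9956 L13474
theorem L13483 : sm gh N1247 = N1694 := rfl
theorem L13485 : sm ga N1694 = N1252 := ded_15_1 (flp_h L10002) (flp_a L9958) L13483
theorem L13491 : sm gg N1694 = N1486 := ded_42_1 (flp_h L11874) (flp_g L9961) L13483
theorem L13493 : sm ge N1248 = N1695 := rfl
theorem L13497 : sm gb N1695 = N1367 := ded_19_1 (flp_e L10951) (flp_b L9970) L13493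
theorem L13501 : sm gg N1248 = N1696 := rfl
theorem L13507 : sm gd N1696 = N1250 := ded_32_1 (flp_g L9984) (flp_d L9972) L13501
theorem L13510 : sm gf N1696 = N1488 := ded_39_1 (flp_g L11891) (flp_f L8755) (flp_g L7365) L9966 L13501
theorem L13512 : sm gh N1248 = N1697 := rfl
theorem L13520 : sm gi N1249 = N1698 := rfl
theorem L13524 : sm gb N1698 = N1370 := ded_23_1 (flp_i L10975) (flp_b L9979) L13520
theorem L13530 : sm ge N1251 = N1699 := rfl
theorem L13532 : sm gb N1699 = N1261 := ded_19_1 (flp_e L10077) (flp_b L9996) L13530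
theorem L13534 : sm gc N1699 = N1253 := ded_25_1 (flp_e L10011) (flp_c L9998) L13530
theorem L13538 : sm gg N1251 = N1700 := rfl
theorem L13546 : sm gf N1700 = N1492 := ded_39_1 (flp_g L11924) (flp_f L8780) (flp_g L7380) L9994 L13538
theorem L13548 : sm gh N1251 = N1701 := rfl
theorem L13554 : sm gf N1701 = N1252 := ded_40_1 (flp_h L10002) L9994 L13548
theorem L13556 : sm gd N1252 = N1702 := rfl
theorem L13558 : sm gb N1702 = N1264 := ded_18_1 (flp_d L10100) (flp_b L10004) L13556
theorem L13573 : sm gg N1253 = N1704 := rfl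
theorem L13575 : sm gb N1704 = N1257 := ded_21_1 (flp_g L10040) (flp_b L10013) L13573
theorem L13580 : sm gh N1253 = N1705 := rfl
theorem L13584 : sm ge N1705 = N1255 := ded_37_1 (flp_h L10026) L10011 L13580
theorem L13602 : sm gf N1257 = N1708 := rfl
theorem L13612 : sm gh N1257 = N1709 := rfl
theorem L13618 : sm ge N1709 = N1259 := ded_37_1 (flp_h L10058) (flp_e L10046) L13612
theorem L13620 : sm gg N1709 = N1258 := ded_42_1 (flp_h L10049) L10040 L13612
theorem L13622 : sm gd N1258 = N1710 := rfl
theorem L13624 : sm ga N1710 = N1377 := ded_11_1 (flp_d L11033) (flp_a L10051) L13622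
theorem L13627 : sm gi N1258 = N1711 := rfl
theorem L13648 : sm gd N1261 = N1713 := rfl
theorem L13655 : sm gg N1261 = N1714 := rfl
theorem L13660 : sm ge N1714 = N1262 := ded_36_1 (flp_g L10084) L10077 L13655
theorem L13662 : sm gi N1714 = N1714 := ded_43_2 (flp_g L13655) L10082 L13655
theorem L13663 : sm gh N1261 = N1715 := rfl
theorem L13666 : sm gc N1715 = N1267 := ded_28_1 (flp_h L10125) (flp_c L10080) L13663
theorem L13671 : sm gh N1262 = N1716 := rfl
theorem L13676 : sm gf N1716 = N1508 := ded_40_1 (flp_h L12049) (flp_f L10091) L13671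
theorem L13678 : sm gg N1716 = N1263 := ded_42_1 (flp_h L10093) L10084 L13671
theorem L13680 : sm gd N1263 = N1717 := rfl
theorem L13683 : sm gf N1717 = N1264 := ded_31_2 (flp_d L10100) (flp_f L10098) L13680
theorem L13695 : sm ge N1264 = N1719 := rfl
theorem L13699 : sm gg N1719 = N1511 := ded_36_2 (flp_e L12071) (flp_g L10103) L13695
theorem L13703 : sm gi N1264 = N1720 := rfl
theorem L13711 : sm gf N1266 = N1721 := rfl
theorem L13718 : sm ge N1721 = N1513 := ded_35_1 (flp_f L12083) L8897 (flp_f L7476) (flp_e L10122) L13711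
theorem L13721 : sm gh N1266 = N1722 := rfl
theorem L13730 : sm gd N1267 = N1723 := rfl
theorem L13733 : sm gb N1723 = N1272 := ded_18_1 (flp_d L10169) (flp_b L10128) L13730
theorem L13767 : sm gd N1271 = N1727 := rfl
theorem L13769 : sm ga N1727 = N1381 := ded_11_1 (flp_d L11061) (flp_a L10163) L13767
theorem L13771 : sm gg N1727 = N1272 := ded_32_2 (flp_d L10169) (flp_g L10167) L13767
theorem L13784 : sm gc N1272 = N1729 := rfl
theorem L13786 : sm ga N1729 = N1383 := ded_10_1 (flp_c L11076) (flp_a L10171) L13784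
theorem L13799 : sm ga N1275 = N1731 := rfl
theorem L13801 : sm gc N1731 = N1731 := ded_10_2 (flp_a L13799) L10202 L13799
theorem L13802 : sm gd N1731 = N1731 := ded_11_2 (flp_a L13799) L10196 L13799
theorem L13803 : sm gf N1731 = N1731 := ded_13_2 (flp_a L13799) L10197 L13799
theorem L13804 : sm gg N1731 = N1731 := ded_14_2 (flp_a L13799) L10198 L13799
theorem L13805 : sm gh N1731 = N1278 := ded_15_2 (flp_a L10219) (flp_h L10199) L13799
theorem L13807 : sm gi N1731 = N1731 := ded_16_2 (flp_a L13799) L10201 L13799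
theorem L13808 : sm ge N1275 = N1732 := rfl
theorem L13810 : sm gb N1732 = N1276 := ded_19_1 (flp_e L10203) L10194 L13808
theorem L13812 : sm gc N1732 = N1732 := ded_25_1 (flp_e L13808) L10202 L13808
theorem L13813 : sm gg N1732 = N1732 := ded_36_2 (flp_e L13808) L10198 L13808
theorem L13814 : sm gh N1732 = N1279 := ded_37_2 (flp_e L10228) (flp_h L10199) L13808
theorem L13816 : sm gi N1732 = N1732 := ded_38_2 (flp_e L13808) L10201 L13808
theorem L13817 : sm gd N1276 = N1733 := rfl
theorem L13819 : sm gg N1733 = N1733 := ded_32_2 (flp_d L13817) L10207 L13817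
theorem L13820 : sm gi N1733 = N1733 := ded_34_2 (flp_d L13817) L10210 L13817
theorem L13821 : sm gc N1733 = N1733 := ded_24_1 (flp_d L13817) L10205 L7543 (flp_c L10205) L13817
theorem L13822 : sm ge N1733 = N1733 := ded_30_2 (flp_d L13817) (flp_e L10203) L7535 L10203 L13817
theorem L13823 : sm gf N1276 = N1734 := rfl
theorem L13825 : sm gc N1734 = N1277 := ded_26_1 (flp_f L10211) (flp_c L10205) L13823
theorem L13827 : sm gh N1734 = N1281 := ded_40_2 (flp_f L10245) (flp_h L10208) L13823
theorem L13829 : sm gi N1734 = N1734 := ded_41_2 (flp_f L13823) L10210 L13823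
theorem L13830 : sm ge N1734 = N1734 := ded_35_1 (flp_f L13823) (flp_e L10203) L7530 L10203 L13823
theorem L13831 : sm gg N1277 = N1735 := rfl
theorem L13833 : sm gb N1735 = N1735 := ded_21_1 (flp_g L13831) L10213 L13831
theorem L13834 : sm gd N1735 = N1735 := ded_32_1 (flp_g L13831) L10214 L13831
theorem L13835 : sm ge N1735 = N1735 := ded_36_1 (flp_g L13831) L10218 L13831
theorem L13836 : sm gh N1735 = N1282 := ded_42_2 (flp_g L10252) (flp_h L10215) L13831
theorem L13838 : sm gi N1735 = N1735 := ded_43_2 (flp_g L13831) L10217 L13831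
theorem L13839 : sm gf N1735 = N1735 := ded_39_1 (flp_g L13831) (flp_f L10211) L7539 L10211 L13831
theorem L13840 : sm ge N1278 = N1736 := rfl
theorem L13842 : sm ga N1736 = N1279 := ded_12_1 (flp_e L10228) L10219 L13840
theorem L13844 : sm gc N1736 = N1736 := ded_25_1 (flp_e L13840) L10221 L13840
theorem L13845 : sm gg N1736 = N1736 := ded_36_2 (flp_e L13840) L10225 L13840
theorem L13846 : sm gi N1736 = N1649 := ded_38_2 (flp_e L13131) (flp_i L10226) L13840
theorem L13848 : sm gd N1279 = N1737 := rfl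
theorem L13850 : sm gb N1737 = N1280 := ded_18_1 (flp_d L10236) (flp_b L10230) L13848
theorem L13852 : sm gg N1737 = N1737 := ded_32_2 (flp_d L13848) L10233 L13848
theorem L13853 : sm gi N1737 = N1650 := ded_34_2 (flp_d L13140) (flp_i L10234) L13848
theorem L13855 : sm ge N1737 = N1308 := ded_30_2 (flp_d L10490) (flp_e L7723) (flp_d L7546) L10228 L13848
theorem L13857 : sm gf N1279 = N1738 := rfl
theorem L13859 : sm gb N1738 = N1281 := ded_20_1 (flp_f L10245) (flp_b L10230) L13857
theorem L13861 : sm gc N1738 = N1738 := ded_26_1 (flp_f L13857) L10232 L13857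
theorem L13862 : sm gi N1738 = N1651 := ded_41_2 (flp_f L13145) (flp_i L10234) L13857
theorem L13864 : sm ge N1738 = N1738 := ded_35_1 (flp_f L13857) (flp_e L10228) L7548 L10228 L13857
theorem L13865 : sm gf N1280 = N1739 := rfl
theorem L13867 : sm gc N1739 = N1286 := ded_26_1 (flp_f L10289) (flp_c L10241) L13865
theorem L13869 : sm gd N1739 = N1281 := ded_31_1 (flp_f L10245) L10236 L13865
theorem L13871 : sm gi N1739 = N1652 := ded_41_2 (flp_f L13152) (flp_i L10239) L13865
theorem L13873 : sm gh N1280 = N1740 := rfl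
theorem L13875 : sm gc N1740 = N1287 := ded_28_1 (flp_h L10295) (flp_c L10241) L13873
theorem L13877 : sm ge N1740 = N1311 := ded_37_1 (flp_h L10509) (flp_e L10243) L13873
theorem L13879 : sm gg N1740 = N1740 := ded_42_1 (flp_h L13873) L10238 L13873
theorem L13880 : sm gg N1281 = N1741 := rfl
theorem L13882 : sm gc N1741 = N1282 := ded_27_1 (flp_g L10252) (flp_c L10247) L13880
theorem L13884 : sm ge N1741 = N1741 := ded_36_1 (flp_g L13880) L10251 L13880
theorem L13885 : sm gi N1741 = N1654 := ded_43_2 (flp_g L13168) (flp_i L10249) L13880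
theorem L13887 : sm gf N1741 = N1741 := ded_39_1 (flp_g L13880) (flp_f L10245) L7557 L10245 L13880
theorem L13888 : sm gd N1283 = N1742 := rfl
theorem L13890 : sm ga N1742 = N1284 := ded_11_1 (flp_d L10270) (flp_a L10263) L13888
theorem L13892 : sm gg N1742 = N1742 := ded_32_2 (flp_d L13888) L10266 L13888
theorem L13893 : sm gi N1742 = N1655 := ded_34_2 (flp_d L13177) (flp_i L10268) L13888
theorem L13895 : sm ge N1742 = N1319 := ded_30_2 (flp_d L10582) (flp_e L7807) (flp_d L7571) L10261 L13888
theorem L13897 : sm gf N1283 = N1743 := rfl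
theorem L13899 : sm ga N1743 = N1285 := ded_13_1 (flp_f L10279) (flp_a L10263) L13897
theorem L13901 : sm gc N1743 = N1743 := ded_26_1 (flp_f L13897) L10265 L13897
theorem L13902 : sm gh N1743 = N1743 := ded_40_2 (flp_f L13897) L10267 L13897
theorem L13903 : sm gi N1743 = N1656 := ded_41_2 (flp_f L13184) (flp_i L10268) L13897
theorem L13905 : sm ge N1743 = N1290 := ded_35_1 (flp_f L10321) (flp_e L7613) (flp_f L7573) L10261 L13897
theorem L13907 : sm gc N1284 = N1744 := rfl
theorem L13909 : sm ge N1744 = N1321 := ded_25_2 (flp_c L10597) (flp_e L10277) L13907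
theorem L13911 : sm gg N1744 = N1744 := ded_27_2 (flp_c L13907) L10274 L13907
theorem L13912 : sm gi N1744 = N1657 := ded_29_2 (flp_c L13195) (flp_i L10275) L13907
theorem L13914 : sm gd N1744 = N1744 := ded_24_2 (flp_c L13907) (flp_d L10270) L7583 L10270 L13907
theorem L13915 : sm gf N1284 = N1745 := rfl
theorem L13917 : sm gb N1745 = N1286 := ded_20_1 (flp_f L10289) (flp_b L10272) L13915
theorem L13919 : sm gd N1745 = N1285 := ded_31_1 (flp_f L10279) L10270 L13915
theorem L13921 : sm gi N1745 = N1658 := ded_41_2 (flp_f L13199) (flp_i L10275) L13915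
theorem L13923 : sm gh N1284 = N1746 := rfl
theorem L13925 : sm gb N1746 = N1287 := ded_22_1 (flp_h L10295) (flp_b L10272) L13923
theorem L13927 : sm ge N1746 = N1323 := ded_37_1 (flp_h L10608) (flp_e L10277) L13923
theorem L13929 : sm gg N1746 = N1746 := ded_42_1 (flp_h L13923) L10274 L13923
theorem L13930 : sm gd N1746 = N1746 := ded_33_1 (flp_h L13923) (flp_d L10270) L7585 L10270 L13923
theorem L13931 : sm gg N1285 = N1747 := rfl
theorem L13933 : sm gb N1747 = N1288 := ded_21_1 (flp_g L10301) (flp_b L10281) L13931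
theorem L13935 : sm gc N1747 = N1747 := ded_27_1 (flp_g L13931) L10283 L13931
theorem L13936 : sm ge N1747 = N1294 := ded_36_1 (flp_g L10356) (flp_e L10287) L13931
theorem L13938 : sm gh N1747 = N1747 := ded_42_2 (flp_g L13931) L10284 L13931
theorem L13939 : sm gi N1747 = N1660 := ded_43_2 (flp_g L13212) (flp_i L10285) L13931
theorem L13941 : sm gf N1747 = N1747 := ded_39_1 (flp_g L13931) (flp_f L10279) L7584 L10279 L13931
theorem L13942 : sm ge N1286 = N1748 := rfl
theorem L13944 : sm gi N1748 = N1661 := ded_38_2 (flp_e L13222) (flp_i L10293) L13942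
theorem L13946 : sm gd N1748 = N1295 := ded_30_1 (flp_e L10366) L7644 (flp_e L7602) (flp_d L10291) L13942
theorem L13948 : sm gf N1748 = N1325 := ded_35_2 (flp_e L10626) (flp_f L7831) (flp_e L7593) L10289 L13942
theorem L13950 : sm gg N1286 = N1749 := rfl
theorem L13952 : sm gd N1749 = N1288 := ded_32_1 (flp_g L10301) (flp_d L10291) L13950
theorem L13956 : sm gf N1749 = N1749 := ded_39_1 (flp_g L13950) (flp_f L10289) L7590 L10289 L13950
theorem L13957 : sm gh N1286 = N1750 := rfl
theorem L13959 : sm gf N1750 = N1287 := ded_40_1 (flp_h L10295) L10289 L13957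
theorem L13961 : sm gd N1750 = N1750 := ded_33_1 (flp_h L13957) L10291 L7599 (flp_d L10291) L13957
theorem L13962 : sm gi N1287 = N1751 := rfl
theorem L13964 : sm gd N1751 = N1751 := ded_34_1 (flp_i L13962) L10300 L13962
theorem L13965 : sm ge N1751 = N1328 := ded_38_1 (flp_i L10641) (flp_e L10297) L13962
theorem L13967 : sm gg N1751 = N1751 := ded_43_1 (flp_i L13962) L10299 L13962
theorem L13968 : sm gh N1751 = N1664 := ded_44_1 (flp_i L13243) (flp_h L9779) (flp_i L7591) L10295 L13962
theorem L13970 : sm gc N1289 = N1752 := rfl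
theorem L13972 : sm ga N1752 = N1291 := ded_10_1 (flp_c L10329) (flp_a L10313) L13970
theorem L13974 : sm ge N1752 = N1339 := ded_25_2 (flp_c L10748) (flp_e L10319) L13970
theorem L13976 : sm gg N1752 = N1523 := ded_27_2 (flp_c L12169) (flp_g L10315) L13970
theorem L13978 : sm gi N1752 = N1665 := ded_29_2 (flp_c L13250) (flp_i L10317) L13970
theorem L13980 : sm gd N1752 = N1752 := ded_24_2 (flp_c L13970) (flp_d L10311) L7617 L10311 L13970
theorem L13981 : sm gf N1289 = N1753 := rfl
theorem L13983 : sm ga N1753 = N1292 := ded_13_1 (flp_f L10339) (flp_a L10313) L13981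
theorem L13985 : sm gd N1753 = N1290 := ded_31_1 (flp_f L10321) L10311 L13981
theorem L13987 : sm gi N1753 = N1666 := ded_41_2 (flp_f L13257) (flp_i L10317) L13981
theorem L13989 : sm gh N1289 = N1754 := rfl
theorem L13991 : sm ga N1754 = N1293 := ded_15_1 (flp_h L10347) (flp_a L10313) L13989
theorem L13993 : sm ge N1754 = N1341 := ded_37_1 (flp_h L10762) (flp_e L10319) L13989
theorem L13995 : sm gg N1754 = N1525 := ded_42_1 (flp_h L12186) (flp_g L10315) L13989
theorem L13997 : sm gd N1754 = N1754 := ded_33_1 (flp_h L13989) (flp_d L10311) L7620 L10311 L13989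
theorem L13998 : sm gg N1290 = N1755 := rfl
theorem L14000 : sm ga N1755 = N1294 := ded_14_1 (flp_g L10356) (flp_a L10323) L13998
theorem L14002 : sm gc N1755 = N1755 := ded_27_1 (flp_g L13998) L10325 L13998
theorem L14003 : sm gh N1755 = N1755 := ded_42_2 (flp_g L13998) L10326 L13998
theorem L14004 : sm gi N1755 = N1668 := ded_43_2 (flp_g L13275) (flp_i L10327) L13998
theorem L14006 : sm gf N1755 = N1526 := ded_39_1 (flp_g L12193) (flp_f L8973) (flp_g L7618) L10321 L13998
theorem L14008 : sm gf N1291 = N1756 := rfl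
theorem L14010 : sm gb N1756 = N1756 := ded_20_1 (flp_f L14008) L10337 L14008
theorem L14011 : sm gc N1756 = N1292 := ded_26_1 (flp_f L10339) L10329 L14008
theorem L14013 : sm gd N1756 = N1756 := ded_31_1 (flp_f L14008) L10338 L14008
theorem L14014 : sm gi N1756 = N1669 := ded_41_2 (flp_f L13286) (flp_i L10335) L14008
theorem L14016 : sm gh N1291 = N1757 := rfl
theorem L14018 : sm gb N1757 = N1757 := ded_22_1 (flp_h L14016) L10337 L14016
theorem L14019 : sm gc N1757 = N1293 := ded_28_1 (flp_h L10347) L10329 L14016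
theorem L14021 : sm ge N1757 = N1344 := ded_37_1 (flp_h L10787) (flp_e L10331) L14016
theorem L14023 : sm gg N1757 = N1528 := ded_42_1 (flp_h L12210) (flp_g L10333) L14016
theorem L14025 : sm ge N1292 = N1758 := rfl
theorem L14027 : sm gb N1758 = N1295 := ded_19_1 (flp_e L10366) (flp_b L10341) L14025
theorem L14029 : sm gi N1758 = N1671 := ded_38_2 (flp_e L13299) (flp_i L10345) L14025
theorem L14031 : sm gf N1758 = N1345 := ded_35_2 (flp_e L10795) (flp_f L7932) (flp_e L7631) L10339 L14025
theorem L14033 : sm gg N1292 = N1759 := rfl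
theorem L14035 : sm gb N1759 = N1296 := ded_21_1 (flp_g L10373) (flp_b L10341) L14033
theorem L14037 : sm gd N1759 = N1294 := ded_32_1 (flp_g L10356) (flp_d L10343) L14033
theorem L14039 : sm gi N1759 = N1672 := ded_43_2 (flp_g L13303) (flp_i L10345) L14033
theorem L14041 : sm gf N1759 = N1530 := ded_39_1 (flp_g L12226) (flp_f L8990) (flp_g L7627) L10339 L14033
theorem L14043 : sm gh N1292 = N1760 := rfl
theorem L14045 : sm gb N1760 = N1297 := ded_22_1 (flp_h L10382) (flp_b L10341) L14043
theorem L14047 : sm gf N1760 = N1293 := ded_40_1 (flp_h L10347) L10339 L14043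
theorem L14049 : sm gd N1760 = N1760 := ded_33_1 (flp_h L14043) L10343 L7638 (flp_d L10343) L14043
theorem L14050 : sm gi N1293 = N1761 := rfl
theorem L14052 : sm gb N1761 = N1298 := ded_23_1 (flp_i L10388) (flp_b L10349) L14050
theorem L14054 : sm gd N1761 = N1761 := ded_34_1 (flp_i L14050) L10355 L14050
theorem L14055 : sm ge N1761 = N1348 := ded_38_1 (flp_i L10815) (flp_e L10351) L14050
theorem L14057 : sm gg N1761 = N1532 := ded_43_1 (flp_i L12241) (flp_g L10353) L14050
theorem L14059 : sm gh N1761 = N1674 := ded_44_1 (flp_i L13319) (flp_h L9826) (flp_i L7629) L10347 L14050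
theorem L14061 : sm gg N1295 = N1762 := rfl
theorem L14063 : sm gc N1762 = N1762 := ded_27_1 (flp_g L14061) L10368 L14061
theorem L14064 : sm ge N1762 = N1296 := ded_36_1 (flp_g L10373) L10366 L14061
theorem L14066 : sm gi N1762 = N1675 := ded_43_2 (flp_g L13327) (flp_i L10369) L14061
theorem L14068 : sm gh N1295 = N1763 := rfl
theorem L14070 : sm gc N1763 = N1763 := ded_28_1 (flp_h L14068) L10368 L14068
theorem L14071 : sm ge N1763 = N1297 := ded_37_1 (flp_h L10382) L10366 L14068
theorem L14073 : sm gf N1763 = N1350 := ded_40_1 (flp_h L10828) (flp_f L10371) L14068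
theorem L14075 : sm gh N1296 = N1764 := rfl
theorem L14077 : sm gc N1764 = N1764 := ded_28_1 (flp_h L14075) L10375 L14075
theorem L14078 : sm gf N1764 = N1535 := ded_40_1 (flp_h L12265) (flp_f L10380) L14075
theorem L14080 : sm gg N1764 = N1297 := ded_42_1 (flp_h L10382) L10373 L14075
theorem L14082 : sm gd N1764 = N1764 := ded_33_1 (flp_h L14075) L10376 L7660 (flp_d L10376) L14075
theorem L14083 : sm gi N1297 = N1765 := rfl
theorem L14085 : sm gc N1765 = N1765 := ded_29_1 (flp_i L14083) L10384 L14083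
theorem L14086 : sm gd N1765 = N1765 := ded_34_1 (flp_i L14083) L10387 L14083
theorem L14087 : sm gf N1765 = N1298 := ded_41_1 (flp_i L10388) (flp_f L10385) L14083
theorem L14089 : sm gh N1765 = N1678 := ded_44_1 (flp_i L13352) (flp_h L9857) (flp_i L7646) L10382 L14083
theorem L14091 : sm ga N1299 = N1766 := rfl
theorem L14093 : sm gc N1766 = N1388 := ded_10_2 (flp_a L11113) (flp_c L10406) L14091
theorem L14095 : sm gd N1766 = N1766 := ded_11_2 (flp_a L14091) L10400 L14091
theorem L14096 : sm gf N1766 = N1766 := ded_13_2 (flp_a L14091) L10401 L14091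
theorem L14097 : sm gg N1766 = N1766 := ded_14_2 (flp_a L14091) L10402 L14091
theorem L14098 : sm gh N1766 = N1302 := ded_15_2 (flp_a L10429) (flp_h L10403) L14091
theorem L14100 : sm gi N1766 = N1766 := ded_16_2 (flp_a L14091) L10405 L14091
theorem L14101 : sm gb N1766 = N1731 := ded_9_2 (flp_a L13799) (flp_b L10194) (flp_a L7667) L10398 L14091
theorem L14103 : sm ge N1299 = N1767 := rfl
theorem L14105 : sm gb N1767 = N1300 := ded_19_1 (flp_e L10408) L10398 L14103
theorem L14107 : sm gc N1767 = N1389 := ded_25_1 (flp_e L11121) (flp_c L10406) L14103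
theorem L14109 : sm gg N1767 = N1767 := ded_36_2 (flp_e L14103) L10402 L14103
theorem L14110 : sm gh N1767 = N1303 := ded_37_2 (flp_e L10441) (flp_h L10403) L14103
theorem L14112 : sm gi N1767 = N1767 := ded_38_2 (flp_e L14103) L10405 L14103
theorem L14113 : sm gd N1300 = N1768 := rfl
theorem L14115 : sm ga N1768 = N1733 := ded_11_1 (flp_d L13817) (flp_a L10410) L14113
theorem L14117 : sm gg N1768 = N1768 := ded_32_2 (flp_d L14113) L10414 L14113
theorem L14118 : sm gi N1768 = N1768 := ded_34_2 (flp_d L14113) L10417 L14113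
theorem L14119 : sm gc N1768 = N1768 := ded_24_1 (flp_d L14113) L10412 L7685 (flp_c L10412) L14113
theorem L14120 : sm ge N1768 = N1768 := ded_30_2 (flp_d L14113) (flp_e L10408) L7674 L10408 L14113
theorem L14121 : sm gf N1300 = N1769 := rfl
theorem L14123 : sm ga N1769 = N1734 := ded_13_1 (flp_f L13823) (flp_a L10410) L14121
theorem L14125 : sm gc N1769 = N1301 := ded_26_1 (flp_f L10418) (flp_c L10412) L14121
theorem L14127 : sm gh N1769 = N1305 := ded_40_2 (flp_f L10461) (flp_h L10415) L14121
theorem L14129 : sm gi N1769 = N1769 := ded_41_2 (flp_f L14121) L10417 L14121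
theorem L14130 : sm ge N1769 = N1769 := ded_35_1 (flp_f L14121) (flp_e L10408) L7669 L10408 L14121
theorem L14131 : sm gg N1301 = N1770 := rfl
theorem L14133 : sm ga N1770 = N1735 := ded_14_1 (flp_g L13831) (flp_a L10420) L14131
theorem L14135 : sm gb N1770 = N1392 := ded_21_1 (flp_g L11144) (flp_b L10422) L14131
theorem L14137 : sm gd N1770 = N1770 := ded_32_1 (flp_g L14131) L10424 L14131
theorem L14138 : sm ge N1770 = N1770 := ded_36_1 (flp_g L14131) L10428 L14131
theorem L14139 : sm gh N1770 = N1306 := ded_42_2 (flp_g L10470) (flp_h L10425) L14131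
theorem L14141 : sm gi N1770 = N1770 := ded_43_2 (flp_g L14131) L10427 L14131
theorem L14142 : sm gf N1770 = N1770 := ded_39_1 (flp_g L14131) (flp_f L10418) L7681 L10418 L14131
theorem L14143 : sm ge N1302 = N1771 := rfl
theorem L14145 : sm ga N1771 = N1303 := ded_12_1 (flp_e L10441) L10429 L14143
theorem L14147 : sm gb N1771 = N1736 := ded_19_1 (flp_e L13840) (flp_b L10439) L14143
theorem L14149 : sm gc N1771 = N1393 := ded_25_1 (flp_e L11153) (flp_c L10431) L14143
theorem L14151 : sm gg N1771 = N1771 := ded_36_2 (flp_e L14143) L10436 L14143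
theorem L14152 : sm gi N1771 = N1307 := ded_38_2 (flp_e L10482) (flp_i L10437) L14143
theorem L14154 : sm gd N1303 = N1772 := rfl
theorem L14156 : sm gb N1772 = N1304 := ded_18_1 (flp_d L10450) (flp_b L10443) L14154
theorem L14158 : sm gg N1772 = N1772 := ded_32_2 (flp_d L14154) L10447 L14154
theorem L14159 : sm gi N1772 = N1308 := ded_34_2 (flp_d L10490) (flp_i L10448) L14154
theorem L14161 : sm ge N1772 = N1650 := ded_30_2 (flp_d L13140) (flp_e L9717) (flp_d L7688) L10441 L14154
theorem L14163 : sm gf N1303 = N1773 := rfl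
theorem L14165 : sm gb N1773 = N1305 := ded_20_1 (flp_f L10461) (flp_b L10443) L14163
theorem L14167 : sm gc N1773 = N1395 := ded_26_1 (flp_f L11169) (flp_c L10445) L14163
theorem L14169 : sm gi N1773 = N1309 := ded_41_2 (flp_f L10495) (flp_i L10448) L14163
theorem L14171 : sm ge N1773 = N1773 := ded_35_1 (flp_f L14163) (flp_e L10441) L7690 L10441 L14163
theorem L14172 : sm gf N1304 = N1774 := rfl
theorem L14174 : sm ga N1774 = N1739 := ded_13_1 (flp_f L13865) (flp_a L10452) L14172
theorem L14176 : sm gc N1774 = N1316 := ded_26_1 (flp_f L10554) (flp_c L10457) L14172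
theorem L14178 : sm gd N1774 = N1305 := ded_31_1 (flp_f L10461) L10450 L14172
theorem L14180 : sm gi N1774 = N1310 := ded_41_2 (flp_f L10503) (flp_i L10455) L14172
theorem L14182 : sm gh N1304 = N1775 := rfl
theorem L14184 : sm ga N1775 = N1740 := ded_15_1 (flp_h L13873) (flp_a L10452) L14182
theorem L14186 : sm gc N1775 = N1317 := ded_28_1 (flp_h L10562) (flp_c L10457) L14182
theorem L14188 : sm ge N1775 = N1653 := ded_37_1 (flp_h L13160) (flp_e L10459) L14182
theorem L14190 : sm gg N1775 = N1775 := ded_42_1 (flp_h L14182) L10454 L14182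
theorem L14191 : sm gg N1305 = N1776 := rfl
theorem L14193 : sm ga N1776 = N1741 := ded_14_1 (flp_g L13880) (flp_a L10463) L14191
theorem L14195 : sm gc N1776 = N1306 := ded_27_1 (flp_g L10470) (flp_c L10465) L14191
theorem L14197 : sm ge N1776 = N1776 := ded_36_1 (flp_g L14191) L10469 L14191
theorem L14198 : sm gi N1776 = N1312 := ded_43_2 (flp_g L10515) (flp_i L10467) L14191
theorem L14200 : sm gf N1776 = N1776 := ded_39_1 (flp_g L14191) (flp_f L10461) L7702 L10461 L14191
theorem L14201 : sm gd N1307 = N1777 := rfl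
theorem L14203 : sm ga N1777 = N1308 := ded_11_1 (flp_d L10490) (flp_a L10484) L14201
theorem L14205 : sm gg N1777 = N1777 := ded_32_2 (flp_d L14201) L10488 L14201
theorem L14206 : sm gf N1307 = N1778 := rfl
theorem L14208 : sm ga N1778 = N1309 := ded_13_1 (flp_f L10495) (flp_a L10484) L14206
theorem L14210 : sm gc N1778 = N1400 := ded_26_1 (flp_f L11208) (flp_c L10486) L14206
theorem L14212 : sm gh N1778 = N1778 := ded_40_2 (flp_f L14206) L10489 L14206
theorem L14213 : sm ge N1778 = N1778 := ded_35_1 (flp_f L14206) (flp_e L10482) L7720 L10482 L14206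
theorem L14214 : sm gc N1308 = N1779 := rfl
theorem L14216 : sm gg N1779 = N1779 := ded_27_2 (flp_c L14214) L10494 L14214
theorem L14217 : sm gb N1779 = N1321 := ded_17_1 (flp_c L10597) L7818 (flp_c L7734) (flp_b L10492) L14214
theorem L14219 : sm gd N1779 = N1401 := ded_24_2 (flp_c L11215) (flp_d L8265) (flp_c L7727) L10490 L14214
theorem L14221 : sm gf N1308 = N1780 := rfl
theorem L14223 : sm gb N1780 = N1310 := ded_20_1 (flp_f L10503) (flp_b L10492) L14221
theorem L14225 : sm gd N1780 = N1309 := ded_31_1 (flp_f L10495) L10490 L14221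
theorem L14227 : sm gh N1308 = N1781 := rfl
theorem L14229 : sm gb N1781 = N1311 := ded_22_1 (flp_h L10509) (flp_b L10492) L14227
theorem L14231 : sm gg N1781 = N1781 := ded_42_1 (flp_h L14227) L10494 L14227
theorem L14232 : sm gd N1781 = N1781 := ded_33_1 (flp_h L14227) (flp_d L10490) L7730 L10490 L14227
theorem L14233 : sm gg N1309 = N1782 := rfl
theorem L14235 : sm gb N1782 = N1312 := ded_21_1 (flp_g L10515) (flp_b L10497) L14233
theorem L14237 : sm gc N1782 = N1404 := ded_27_1 (flp_g L11234) (flp_c L10499) L14233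
theorem L14239 : sm ge N1782 = N1782 := ded_36_1 (flp_g L14233) L10502 L14233
theorem L14240 : sm gh N1782 = N1782 := ded_42_2 (flp_g L14233) L10501 L14233
theorem L14241 : sm gf N1782 = N1782 := ded_39_1 (flp_g L14233) (flp_f L10495) L7729 L10495 L14233
theorem L14242 : sm ge N1310 = N1783 := rfl
theorem L14244 : sm gc N1783 = N1325 := ded_25_1 (flp_e L10626) (flp_c L10505) L14242
theorem L14246 : sm gd N1783 = N1783 := ded_30_1 (flp_e L14242) L10507 L7741 (flp_d L10507) L14242
theorem L14247 : sm gg N1310 = N1784 := rfl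
theorem L14249 : sm gc N1784 = N1326 := ded_27_1 (flp_g L10630) (flp_c L10505) L14247
theorem L14251 : sm gd N1784 = N1312 := ded_32_1 (flp_g L10515) (flp_d L10507) L14247
theorem L14253 : sm gf N1784 = N1784 := ded_39_1 (flp_g L14247) (flp_f L10503) L7733 L10503 L14247
theorem L14254 : sm gh N1310 = N1785 := rfl
theorem L14256 : sm gc N1785 = N1327 := ded_28_1 (flp_h L10635) (flp_c L10505) L14254
theorem L14258 : sm gf N1785 = N1311 := ded_40_1 (flp_h L10509) L10503 L14254
theorem L14260 : sm gd N1785 = N1785 := ded_33_1 (flp_h L14254) L10507 L7740 (flp_d L10507) L14254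
theorem L14261 : sm gi N1311 = N1786 := rfl
theorem L14263 : sm gc N1786 = N1328 := ded_29_1 (flp_i L10641) (flp_c L10511) L14261
theorem L14265 : sm gd N1786 = N1786 := ded_34_1 (flp_i L14261) L10514 L14261
theorem L14266 : sm gg N1786 = N1786 := ded_43_1 (flp_i L14261) L10513 L14261
theorem L14267 : sm gd N1313 = N1787 := rfl
theorem L14269 : sm ga N1787 = N1314 := ded_11_1 (flp_d L10534) (flp_a L10524) L14267
theorem L14271 : sm gb N1787 = N1742 := ded_18_1 (flp_d L13888) (flp_b L10526) L14267
theorem L14273 : sm gg N1787 = N1787 := ded_32_2 (flp_d L14267) L10530 L14267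
theorem L14274 : sm gi N1787 = N1319 := ded_34_2 (flp_d L10582) (flp_i L10532) L14267
theorem L14276 : sm ge N1787 = N1655 := ded_30_2 (flp_d L13177) (flp_e L9749) (flp_d L7755) L10522 L14267
theorem L14278 : sm gf N1313 = N1788 := rfl
theorem L14280 : sm ga N1788 = N1315 := ded_13_1 (flp_f L10543) (flp_a L10524) L14278
theorem L14282 : sm gb N1788 = N1743 := ded_20_1 (flp_f L13897) (flp_b L10526) L14278
theorem L14284 : sm gc N1788 = N1410 := ded_26_1 (flp_f L11281) (flp_c L10528) L14278
theorem L14286 : sm gh N1788 = N1788 := ded_40_2 (flp_f L14278) L10531 L14278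
theorem L14287 : sm gi N1788 = N1320 := ded_41_2 (flp_f L10587) (flp_i L10532) L14278
theorem L14289 : sm ge N1788 = N1330 := ded_35_1 (flp_f L10658) (flp_e L7849) (flp_f L7757) L10522 L14278
theorem L14291 : sm gc N1314 = N1789 := rfl
theorem L14293 : sm ge N1789 = N1657 := ded_25_2 (flp_c L13195) (flp_e L10541) L14291
theorem L14295 : sm gg N1789 = N1789 := ded_27_2 (flp_c L14291) L10538 L14291
theorem L14296 : sm gi N1789 = N1321 := ded_29_2 (flp_c L10597) (flp_i L10539) L14291
theorem L14298 : sm gd N1789 = N1411 := ded_24_2 (flp_c L11291) (flp_d L8309) (flp_c L7769) L10534 L14291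
theorem L14300 : sm gf N1314 = N1790 := rfl
theorem L14302 : sm gb N1790 = N1316 := ded_20_1 (flp_f L10554) (flp_b L10536) L14300
theorem L14304 : sm gd N1790 = N1315 := ded_31_1 (flp_f L10543) L10534 L14300
theorem L14306 : sm gi N1790 = N1322 := ded_41_2 (flp_f L10602) (flp_i L10539) L14300
theorem L14308 : sm gh N1314 = N1791 := rfl
theorem L14310 : sm gb N1791 = N1317 := ded_22_1 (flp_h L10562) (flp_b L10536) L14308
theorem L14312 : sm ge N1791 = N1659 := ded_37_1 (flp_h L13205) (flp_e L10541) L14308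
theorem L14314 : sm gg N1791 = N1791 := ded_42_1 (flp_h L14308) L10538 L14308
theorem L14315 : sm gd N1791 = N1791 := ded_33_1 (flp_h L14308) (flp_d L10534) L7772 L10534 L14308
theorem L14316 : sm gg N1315 = N1792 := rfl
theorem L14318 : sm gb N1792 = N1318 := ded_21_1 (flp_g L10570) (flp_b L10545) L14316
theorem L14320 : sm gc N1792 = N1414 := ded_27_1 (flp_g L11312) (flp_c L10547) L14316
theorem L14322 : sm ge N1792 = N1334 := ded_36_1 (flp_g L10697) (flp_e L10552) L14316
theorem L14324 : sm gh N1792 = N1792 := ded_42_2 (flp_g L14316) L10549 L14316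
theorem L14325 : sm gi N1792 = N1324 := ded_43_2 (flp_g L10615) (flp_i L10550) L14316
theorem L14327 : sm gf N1792 = N1792 := ded_39_1 (flp_g L14316) (flp_f L10543) L7771 L10543 L14316
theorem L14328 : sm ge N1316 = N1793 := rfl
theorem L14330 : sm ga N1793 = N1748 := ded_12_1 (flp_e L13942) (flp_a L10556) L14328
theorem L14332 : sm gi N1793 = N1325 := ded_38_2 (flp_e L10626) (flp_i L10560) L14328
theorem L14334 : sm gd N1793 = N1335 := ded_30_1 (flp_e L10708) L7886 (flp_e L7793) (flp_d L10558) L14328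
theorem L14336 : sm gf N1793 = N1661 := ded_35_2 (flp_e L13222) (flp_f L9773) (flp_e L7782) L10554 L14328
theorem L14338 : sm gg N1316 = N1794 := rfl
theorem L14340 : sm ga N1794 = N1749 := ded_14_1 (flp_g L13950) (flp_a L10556) L14338
theorem L14342 : sm gd N1794 = N1318 := ded_32_1 (flp_g L10570) (flp_d L10558) L14338
theorem L14344 : sm gi N1794 = N1326 := ded_43_2 (flp_g L10630) (flp_i L10560) L14338
theorem L14346 : sm gf N1794 = N1794 := ded_39_1 (flp_g L14338) (flp_f L10554) L7779 L10554 L14338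
theorem L14347 : sm gh N1316 = N1795 := rfl
theorem L14349 : sm ga N1795 = N1750 := ded_15_1 (flp_h L13957) (flp_a L10556) L14347
theorem L14351 : sm gf N1795 = N1317 := ded_40_1 (flp_h L10562) L10554 L14347
theorem L14353 : sm gd N1795 = N1795 := ded_33_1 (flp_h L14347) L10558 L7790 (flp_d L10558) L14347
theorem L14354 : sm gi N1317 = N1796 := rfl
theorem L14356 : sm ga N1796 = N1751 := ded_16_1 (flp_i L13962) (flp_a L10564) L14354
theorem L14358 : sm gd N1796 = N1796 := ded_34_1 (flp_i L14354) L10569 L14354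
theorem L14359 : sm ge N1796 = N1664 := ded_38_1 (flp_i L13243) (flp_e L10566) L14354
theorem L14361 : sm gg N1796 = N1796 := ded_43_1 (flp_i L14354) L10568 L14354
theorem L14362 : sm gh N1796 = N1328 := ded_44_1 (flp_i L10641) (flp_h L7835) (flp_i L7780) L10562 L14354
theorem L14364 : sm gc N1319 = N1797 := rfl
theorem L14366 : sm ga N1797 = N1321 := ded_10_1 (flp_c L10597) (flp_a L10584) L14364
theorem L14368 : sm gg N1797 = N1797 := ded_27_2 (flp_c L14364) L10586 L14364
theorem L14369 : sm gd N1797 = N1419 := ded_24_2 (flp_c L11352) (flp_d L8350) (flp_c L7811) L10582 L14364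
theorem L14371 : sm gf N1319 = N1798 := rfl
theorem L14373 : sm ga N1798 = N1322 := ded_13_1 (flp_f L10602) (flp_a L10584) L14371
theorem L14375 : sm gd N1798 = N1320 := ded_31_1 (flp_f L10587) L10582 L14371
theorem L14377 : sm gh N1319 = N1799 := rfl
theorem L14379 : sm ga N1799 = N1323 := ded_15_1 (flp_h L10608) (flp_a L10584) L14377
theorem L14381 : sm gg N1799 = N1799 := ded_42_1 (flp_h L14377) L10586 L14377
theorem L14382 : sm gd N1799 = N1355 := ded_33_1 (flp_h L10865) (flp_d L7980) (flp_h L7814) L10582 L14377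
theorem L14384 : sm gg N1320 = N1800 := rfl
theorem L14386 : sm ga N1800 = N1324 := ded_14_1 (flp_g L10615) (flp_a L10589) L14384
theorem L14388 : sm gc N1800 = N1422 := ded_27_1 (flp_g L11374) (flp_c L10591) L14384
theorem L14390 : sm ge N1800 = N1342 := ded_36_1 (flp_g L10770) (flp_e L10595) L14384
theorem L14392 : sm gh N1800 = N1356 := ded_42_2 (flp_g L10871) (flp_h L10593) L14384
theorem L14394 : sm gf N1800 = N1800 := ded_39_1 (flp_g L14384) (flp_f L10587) L7813 L10587 L14384
theorem L14395 : sm gf N1321 = N1801 := rfl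
theorem L14397 : sm gc N1801 = N1322 := ded_26_1 (flp_f L10602) L10597 L14395
theorem L14399 : sm gd N1801 = N1423 := ded_31_1 (flp_f L11384) (flp_d L10600) L14395
theorem L14401 : sm gh N1321 = N1802 := rfl
theorem L14403 : sm gc N1802 = N1323 := ded_28_1 (flp_h L10608) L10597 L14401
theorem L14405 : sm gg N1802 = N1802 := ded_42_1 (flp_h L14401) L10599 L14401
theorem L14406 : sm ge N1322 = N1803 := rfl
theorem L14408 : sm gb N1803 = N1325 := ded_19_1 (flp_e L10626) (flp_b L10604) L14406
theorem L14410 : sm gd N1803 = N1345 := ded_30_1 (flp_e L10795) L7936 (flp_e L7829) (flp_d L10606) L14406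
theorem L14412 : sm gg N1322 = N1804 := rfl
theorem L14414 : sm gb N1804 = N1326 := ded_21_1 (flp_g L10630) (flp_b L10604) L14412
theorem L14416 : sm gd N1804 = N1324 := ded_32_1 (flp_g L10615) (flp_d L10606) L14412
theorem L14418 : sm gf N1804 = N1804 := ded_39_1 (flp_g L14412) (flp_f L10602) L7820 L10602 L14412
theorem L14419 : sm gh N1322 = N1805 := rfl
theorem L14421 : sm gb N1805 = N1327 := ded_22_1 (flp_h L10635) (flp_b L10604) L14419
theorem L14423 : sm gf N1805 = N1323 := ded_40_1 (flp_h L10608) L10602 L14419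
theorem L14425 : sm gd N1805 = N1361 := ded_33_1 (flp_h L10912) L8008 (flp_h L7827) (flp_d L10606) L14419
theorem L14427 : sm gi N1323 = N1806 := rfl
theorem L14429 : sm gb N1806 = N1328 := ded_23_1 (flp_i L10641) (flp_b L10610) L14427
theorem L14431 : sm gd N1806 = N1362 := ded_34_1 (flp_i L10918) (flp_d L10613) L14427
theorem L14433 : sm gg N1806 = N1806 := ded_43_1 (flp_i L14427) L10612 L14427
theorem L14434 : sm gg N1325 = N1807 := rfl
theorem L14436 : sm gd N1807 = N1349 := ded_32_1 (flp_g L10823) (flp_d L10628) L14434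
theorem L14438 : sm ge N1807 = N1326 := ded_36_1 (flp_g L10630) L10626 L14434
theorem L14440 : sm gh N1325 = N1808 := rfl
theorem L14442 : sm ge N1808 = N1327 := ded_37_1 (flp_h L10635) L10626 L14440
theorem L14444 : sm gh N1326 = N1809 := rfl
theorem L14446 : sm gf N1809 = N1809 := ded_40_1 (flp_h L14444) L10634 L14444
theorem L14447 : sm gg N1809 = N1327 := ded_42_1 (flp_h L10635) L10630 L14444
theorem L14449 : sm gd N1809 = N1365 := ded_33_1 (flp_h L10939) L8037 (flp_h L7846) (flp_d L10632) L14444
theorem L14451 : sm gi N1327 = N1810 := rfl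
theorem L14453 : sm gd N1810 = N1366 := ded_34_1 (flp_i L10945) (flp_d L10639) L14451
theorem L14455 : sm gf N1810 = N1328 := ded_41_1 (flp_i L10641) (flp_f L10637) L14451
theorem L14457 : sm gc N1329 = N1811 := rfl
theorem L14459 : sm ga N1811 = N1331 := ded_10_1 (flp_c L10669) (flp_a L10648) L14457
theorem L14461 : sm ge N1811 = N1665 := ded_25_2 (flp_c L13250) (flp_e L10656) L14457
theorem L14463 : sm gg N1811 = N1537 := ded_27_2 (flp_c L12279) (flp_g L10652) L14457
theorem L14465 : sm gi N1811 = N1339 := ded_29_2 (flp_c L10748) (flp_i L10654) L14457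
theorem L14467 : sm gd N1811 = N1433 := ded_24_2 (flp_c L11453) (flp_d L8419) (flp_c L7855) L10646 L14457
theorem L14469 : sm gf N1329 = N1812 := rfl
theorem L14471 : sm ga N1812 = N1332 := ded_13_1 (flp_f L10680) (flp_a L10648) L14469
theorem L14473 : sm gb N1812 = N1753 := ded_20_1 (flp_f L13981) (flp_b L10650) L14469
theorem L14475 : sm gd N1812 = N1330 := ded_31_1 (flp_f L10658) L10646 L14469
theorem L14477 : sm gi N1812 = N1340 := ded_41_2 (flp_f L10756) (flp_i L10654) L14469
theorem L14479 : sm gh N1329 = N1813 := rfl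
theorem L14481 : sm ga N1813 = N1333 := ded_15_1 (flp_h L10688) (flp_a L10648) L14479
theorem L14483 : sm gb N1813 = N1754 := ded_22_1 (flp_h L13989) (flp_b L10650) L14479
theorem L14485 : sm ge N1813 = N1667 := ded_37_1 (flp_h L13265) (flp_e L10656) L14479
theorem L14487 : sm gg N1813 = N1539 := ded_42_1 (flp_h L12299) (flp_g L10652) L14479
theorem L14489 : sm gd N1813 = N1813 := ded_33_1 (flp_h L14479) (flp_d L10646) L7859 L10646 L14479
theorem L14490 : sm gg N1330 = N1814 := rfl
theorem L14492 : sm ga N1814 = N1334 := ded_14_1 (flp_g L10697) (flp_a L10660) L14490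
theorem L14494 : sm gb N1814 = N1755 := ded_21_1 (flp_g L13998) (flp_b L10662) L14490
theorem L14496 : sm gc N1814 = N1436 := ded_27_1 (flp_g L11481) (flp_c L10664) L14490
theorem L14498 : sm gh N1814 = N1814 := ded_42_2 (flp_g L14490) L10666 L14490
theorem L14499 : sm gi N1814 = N1342 := ded_43_2 (flp_g L10770) (flp_i L10667) L14490
theorem L14501 : sm gf N1814 = N1540 := ded_39_1 (flp_g L12308) (flp_f L9053) (flp_g L7857) L10658 L14490
theorem L14503 : sm gf N1331 = N1815 := rfl
theorem L14505 : sm gb N1815 = N1815 := ded_20_1 (flp_f L14503) L10677 L14503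
theorem L14506 : sm gc N1815 = N1332 := ded_26_1 (flp_f L10680) L10669 L14503
theorem L14508 : sm gd N1815 = N1437 := ded_31_1 (flp_f L11491) (flp_d L10678) L14503
theorem L14510 : sm gi N1815 = N1343 := ded_41_2 (flp_f L10780) (flp_i L10675) L14503
theorem L14512 : sm gh N1331 = N1816 := rfl
theorem L14514 : sm gb N1816 = N1816 := ded_22_1 (flp_h L14512) L10677 L14512
theorem L14515 : sm gc N1816 = N1333 := ded_28_1 (flp_h L10688) L10669 L14512
theorem L14517 : sm ge N1816 = N1670 := ded_37_1 (flp_h L13292) (flp_e L10671) L14512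
theorem L14519 : sm gg N1816 = N1542 := ded_42_1 (flp_h L12329) (flp_g L10673) L14512
theorem L14521 : sm ge N1332 = N1817 := rfl
theorem L14523 : sm gb N1817 = N1335 := ded_19_1 (flp_e L10708) (flp_b L10682) L14521
theorem L14525 : sm gi N1817 = N1345 := ded_38_2 (flp_e L10795) (flp_i L10686) L14521
theorem L14527 : sm gf N1817 = N1671 := ded_35_2 (flp_e L13299) (flp_f L9820) (flp_e L7870) L10680 L14521
theorem L14529 : sm gg N1332 = N1818 := rfl
theorem L14531 : sm gb N1818 = N1336 := ded_21_1 (flp_g L10717) (flp_b L10682) L14529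
theorem L14533 : sm gd N1818 = N1334 := ded_32_1 (flp_g L10697) (flp_d L10684) L14529
theorem L14535 : sm gi N1818 = N1346 := ded_43_2 (flp_g L10799) (flp_i L10686) L14529
theorem L14537 : sm gf N1818 = N1544 := ded_39_1 (flp_g L12345) (flp_f L9074) (flp_g L7866) L10680 L14529
theorem L14539 : sm gh N1332 = N1819 := rfl
theorem L14541 : sm gb N1819 = N1337 := ded_22_1 (flp_h L10728) (flp_b L10682) L14539
theorem L14543 : sm gf N1819 = N1333 := ded_40_1 (flp_h L10688) L10680 L14539
theorem L14545 : sm gd N1819 = N1819 := ded_33_1 (flp_h L14539) L10684 L7878 (flp_d L10684) L14539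
theorem L14546 : sm gi N1333 = N1820 := rfl
theorem L14548 : sm gb N1820 = N1338 := ded_23_1 (flp_i L10736) (flp_b L10690) L14546
theorem L14550 : sm gd N1820 = N1820 := ded_34_1 (flp_i L14546) L10696 L14546
theorem L14551 : sm ge N1820 = N1674 := ded_38_1 (flp_i L13319) (flp_e L10692) L14546
theorem L14553 : sm gg N1820 = N1546 := ded_43_1 (flp_i L12360) (flp_g L10694) L14546
theorem L14555 : sm gh N1820 = N1348 := ded_44_1 (flp_i L10815) (flp_h L7938) (flp_i L7868) L10688 L14546
theorem L14557 : sm gg N1335 = N1821 := rfl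
theorem L14559 : sm ga N1821 = N1762 := ded_14_1 (flp_g L14061) (flp_a L10710) L14557
theorem L14561 : sm gc N1821 = N1821 := ded_27_1 (flp_g L14557) L10712 L14557
theorem L14562 : sm ge N1821 = N1336 := ded_36_1 (flp_g L10717) L10708 L14557
theorem L14564 : sm gi N1821 = N1349 := ded_43_2 (flp_g L10823) (flp_i L10713) L14557
theorem L14566 : sm gh N1335 = N1822 := rfl
theorem L14568 : sm ga N1822 = N1763 := ded_15_1 (flp_h L14068) (flp_a L10710) L14566
theorem L14570 : sm gc N1822 = N1822 := ded_28_1 (flp_h L14566) L10712 L14566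
theorem L14571 : sm ge N1822 = N1337 := ded_37_1 (flp_h L10728) L10708 L14566
theorem L14573 : sm gf N1822 = N1676 := ded_40_1 (flp_h L13334) (flp_f L10715) L14566
theorem L14575 : sm gh N1336 = N1823 := rfl
theorem L14582 : sm gg N1823 = N1337 := ded_42_1 (flp_h L10728) L10717 L14575
theorem L14585 : sm gi N1337 = N1824 := rfl
theorem L14587 : sm ga N1824 = N1765 := ded_16_1 (flp_i L14083) (flp_a L10730) L14585
theorem L14591 : sm gf N1824 = N1338 := ded_41_1 (flp_i L10736) (flp_f L10733) L14585
theorem L14595 : sm gb N1339 = N1825 := rfl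
theorem L14597 : sm gd N1825 = N1445 := ded_18_2 (flp_b L11558) (flp_d L10754) L14595
theorem L14599 : sm gg N1825 = N1551 := ded_21_2 (flp_b L12406) (flp_g L10752) L14595
theorem L14601 : sm ga N1825 = N1825 := ded_9_1 (flp_b L14595) L10750 L7929 (flp_a L10750) L14595
theorem L14602 : sm gf N1339 = N1826 := rfl
theorem L14604 : sm ga N1826 = N1343 := ded_13_1 (flp_f L10780) (flp_a L10750) L14602
theorem L14606 : sm gc N1826 = N1340 := ded_26_1 (flp_f L10756) L10748 L14602
theorem L14608 : sm gd N1826 = N1446 := ded_31_1 (flp_f L11566) (flp_d L10754) L14602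
theorem L14610 : sm gh N1339 = N1827 := rfl
theorem L14612 : sm ga N1827 = N1344 := ded_15_1 (flp_h L10787) (flp_a L10750) L14610
theorem L14614 : sm gc N1827 = N1341 := ded_28_1 (flp_h L10762) L10748 L14610
theorem L14616 : sm gg N1827 = N1553 := ded_42_1 (flp_h L12419) (flp_g L10752) L14610
theorem L14618 : sm gd N1827 = N1827 := ded_33_1 (flp_h L14610) L10754 L8503 (flp_d L10754) L14610
theorem L14619 : sm ge N1340 = N1828 := rfl
theorem L14621 : sm ga N1828 = N1345 := ded_12_1 (flp_e L10795) (flp_a L10758) L14619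
theorem L14623 : sm gg N1340 = N1829 := rfl
theorem L14625 : sm ga N1829 = N1346 := ded_14_1 (flp_g L10799) (flp_a L10758) L14623
theorem L14627 : sm gd N1829 = N1342 := ded_32_1 (flp_g L10770) (flp_d L10760) L14623
theorem L14629 : sm gf N1829 = N1555 := ded_39_1 (flp_g L12431) (flp_f L9142) (flp_g L7915) L10756 L14623
theorem L14631 : sm gh N1340 = N1830 := rfl
theorem L14633 : sm ga N1830 = N1347 := ded_15_1 (flp_h L10807) (flp_a L10758) L14631
theorem L14635 : sm gf N1830 = N1341 := ded_40_1 (flp_h L10762) L10756 L14631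
theorem L14637 : sm gd N1830 = N1369 := ded_33_1 (flp_h L10968) L8057 (flp_h L7923) (flp_d L10760) L14631
theorem L14639 : sm gi N1341 = N1831 := rfl
theorem L14641 : sm ga N1831 = N1348 := ded_16_1 (flp_i L10815) (flp_a L10764) L14639
theorem L14643 : sm gd N1831 = N1370 := ded_34_1 (flp_i L10975) (flp_d L10768) L14639
theorem L14645 : sm gg N1831 = N1557 := ded_43_1 (flp_i L12445) (flp_g L10766) L14639
theorem L14647 : sm ge N1343 = N1832 := rfl
theorem L14649 : sm gb N1832 = N1832 := ded_19_1 (flp_e L14647) L10782 L14647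
theorem L14650 : sm gc N1832 = N1345 := ded_25_1 (flp_e L10795) (flp_c L10783) L14647
theorem L14652 : sm gg N1343 = N1833 := rfl
theorem L14654 : sm gb N1833 = N1833 := ded_21_1 (flp_g L14652) L10782 L14652
theorem L14655 : sm gc N1833 = N1346 := ded_27_1 (flp_g L10799) (flp_c L10783) L14652
theorem L14657 : sm gd N1833 = N1450 := ded_32_1 (flp_g L11597) (flp_d L10785) L14652
theorem L14659 : sm gf N1833 = N1559 := ded_39_1 (flp_g L12456) (flp_f L9163) (flp_g L7927) L10780 L14652
theorem L14661 : sm gh N1343 = N1834 := rfl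
theorem L14663 : sm gb N1834 = N1834 := ded_22_1 (flp_h L14661) L10782 L14661
theorem L14664 : sm gc N1834 = N1347 := ded_28_1 (flp_h L10807) (flp_c L10783) L14661
theorem L14666 : sm gf N1834 = N1344 := ded_40_1 (flp_h L10787) L10780 L14661
theorem L14668 : sm gd N1834 = N1834 := ded_33_1 (flp_h L14661) L10785 L8526 (flp_d L10785) L14661
theorem L14669 : sm gi N1344 = N1835 := rfl
theorem L14671 : sm gb N1835 = N1835 := ded_23_1 (flp_i L14669) L10789 L14669
theorem L14672 : sm gc N1835 = N1348 := ded_29_1 (flp_i L10815) (flp_c L10790) L14669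
theorem L14674 : sm gd N1835 = N1835 := ded_34_1 (flp_i L14669) L10794 L14669
theorem L14675 : sm gg N1835 = N1561 := ded_43_1 (flp_i L12471) (flp_g L10792) L14669
theorem L14677 : sm gg N1345 = N1836 := rfl
theorem L14679 : sm gb N1836 = N1349 := ded_21_1 (flp_g L10823) (flp_b L10797) L14677
theorem L14681 : sm ge N1836 = N1346 := ded_36_1 (flp_g L10799) L10795 L14677
theorem L14683 : sm gh N1345 = N1837 := rfl
theorem L14685 : sm gb N1837 = N1350 := ded_22_1 (flp_h L10828) (flp_b L10797) L14683
theorem L14687 : sm ge N1837 = N1347 := ded_37_1 (flp_h L10807) L10795 L14683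
theorem L14689 : sm gh N1346 = N1838 := rfl
theorem L14695 : sm gg N1838 = N1347 := ded_42_1 (flp_h L10807) L10799 L14689
theorem L14697 : sm gd N1838 = N1373 := ded_33_1 (flp_h L11000) L8089 (flp_h L7952) (flp_d L10803) L14689
theorem L14699 : sm gi N1347 = N1839 := rfl
theorem L14705 : sm gf N1839 = N1348 := ded_41_1 (flp_i L10815) (flp_f L10811) L14699
theorem L14707 : sm gf N1349 = N1840 := rfl
theorem L14712 : sm gh N1349 = N1841 := rfl
theorem L14715 : sm ge N1841 = N1351 := ded_37_1 (flp_h L10833) (flp_e L10826) L14712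
theorem L14717 : sm gg N1841 = N1350 := ded_42_1 (flp_h L10828) L10823 L14712
theorem L14719 : sm gd N1350 = N1842 := rfl
theorem L14721 : sm ge N1842 = N1377 := ded_30_2 (flp_d L11033) L8121 (flp_d L7971) (flp_e L10831) L14719
theorem L14723 : sm gi N1350 = N1843 := rfl
theorem L14737 : sm gb N1353 = N1845 := rfl
theorem L14739 : sm gd N1845 = N1453 := ded_18_2 (flp_b L11620) (flp_d L10856) L14737
theorem L14741 : sm ge N1845 = N1845 := ded_19_2 (flp_b L14737) L10853 L14737
theorem L14742 : sm gg N1845 = N1845 := ded_21_2 (flp_b L14737) L10854 L14737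
theorem L14743 : sm gi N1845 = N1845 := ded_23_2 (flp_b L14737) L10855 L14737
theorem L14744 : sm ga N1845 = N1845 := ded_9_1 (flp_b L14737) L10851 L8001 (flp_a L10851) L14737
theorem L14745 : sm gf N1353 = N1846 := rfl
theorem L14747 : sm ga N1846 = N1357 := ded_13_1 (flp_f L10881) (flp_a L10851) L14745
theorem L14749 : sm gc N1846 = N1354 := ded_26_1 (flp_f L10858) L10849 L14745
theorem L14751 : sm gd N1846 = N1454 := ded_31_1 (flp_f L11628) (flp_d L10856) L14745
theorem L14753 : sm gi N1846 = N1846 := ded_41_2 (flp_f L14745) L10855 L14745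
theorem L14754 : sm gh N1353 = N1847 := rfl
theorem L14756 : sm ga N1847 = N1358 := ded_15_1 (flp_h L10889) (flp_a L10851) L14754
theorem L14758 : sm gc N1847 = N1355 := ded_28_1 (flp_h L10865) L10849 L14754
theorem L14760 : sm ge N1847 = N1847 := ded_37_1 (flp_h L14754) L10853 L14754
theorem L14761 : sm gg N1847 = N1847 := ded_42_1 (flp_h L14754) L10854 L14754
theorem L14762 : sm ge N1354 = N1848 := rfl
theorem L14764 : sm ga N1848 = N1359 := ded_12_1 (flp_e L10896) (flp_a L10860) L14762
theorem L14766 : sm gi N1848 = N1848 := ded_38_2 (flp_e L14762) L10864 L14762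
theorem L14767 : sm gd N1848 = N1367 := ded_30_1 (flp_e L10951) L8057 (flp_e L7994) (flp_d L10862) L14762
theorem L14769 : sm gf N1848 = N1848 := ded_35_2 (flp_e L14762) (flp_f L10858) L7986 L10858 L14762
theorem L14770 : sm gg N1354 = N1849 := rfl
theorem L14772 : sm ga N1849 = N1360 := ded_14_1 (flp_g L10904) (flp_a L10860) L14770
theorem L14774 : sm gd N1849 = N1356 := ded_32_1 (flp_g L10871) (flp_d L10862) L14770
theorem L14776 : sm gi N1849 = N1849 := ded_43_2 (flp_g L14770) L10864 L14770
theorem L14777 : sm gf N1849 = N1849 := ded_39_1 (flp_g L14770) (flp_f L10858) L7984 L10858 L14770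
theorem L14778 : sm gh N1354 = N1850 := rfl
theorem L14780 : sm ga N1850 = N1361 := ded_15_1 (flp_h L10912) (flp_a L10860) L14778
theorem L14782 : sm gf N1850 = N1355 := ded_40_1 (flp_h L10865) L10858 L14778
theorem L14784 : sm gi N1355 = N1851 := rfl
theorem L14786 : sm ga N1851 = N1362 := ded_16_1 (flp_i L10918) (flp_a L10867) L14784
theorem L14788 : sm ge N1851 = N1851 := ded_38_1 (flp_i L14784) L10869 L14784
theorem L14789 : sm gg N1851 = N1851 := ded_43_1 (flp_i L14784) L10870 L14784
theorem L14790 : sm gh N1851 = N1851 := ded_44_1 (flp_i L14784) (flp_h L10865) L7985 L10865 L14784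
theorem L14791 : sm ge N1357 = N1852 := rfl
theorem L14793 : sm gb N1852 = N1852 := ded_19_1 (flp_e L14791) L10883 L14791
theorem L14794 : sm gc N1852 = N1359 := ded_25_1 (flp_e L10896) (flp_c L10884) L14791
theorem L14796 : sm gi N1852 = N1852 := ded_38_2 (flp_e L14791) L10888 L14791
theorem L14797 : sm gd N1852 = N1852 := ded_30_1 (flp_e L14791) L10886 L8589 (flp_d L10886) L14791
theorem L14798 : sm gf N1852 = N1852 := ded_35_2 (flp_e L14791) (flp_f L10881) L7998 L10881 L14791
theorem L14799 : sm gg N1357 = N1853 := rfl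
theorem L14801 : sm gb N1853 = N1853 := ded_21_1 (flp_g L14799) L10883 L14799
theorem L14802 : sm gc N1853 = N1360 := ded_27_1 (flp_g L10904) (flp_c L10884) L14799
theorem L14804 : sm gd N1853 = N1459 := ded_32_1 (flp_g L11672) (flp_d L10886) L14799
theorem L14806 : sm gi N1853 = N1853 := ded_43_2 (flp_g L14799) L10888 L14799
theorem L14807 : sm gf N1853 = N1853 := ded_39_1 (flp_g L14799) (flp_f L10881) L7999 L10881 L14799
theorem L14808 : sm gh N1357 = N1854 := rfl
theorem L14810 : sm gb N1854 = N1854 := ded_22_1 (flp_h L14808) L10883 L14808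
theorem L14811 : sm gc N1854 = N1361 := ded_28_1 (flp_h L10912) (flp_c L10884) L14808
theorem L14813 : sm gf N1854 = N1358 := ded_40_1 (flp_h L10889) L10881 L14808
theorem L14815 : sm gd N1358 = N1855 := rfl
theorem L14817 : sm gb N1855 = N1855 := ded_18_1 (flp_d L14815) L10891 L14815
theorem L14818 : sm gg N1855 = N1855 := ded_32_2 (flp_d L14815) L10895 L14815
theorem L14819 : sm gh N1855 = N1461 := ded_33_2 (flp_d L11688) (flp_h L8590) (flp_d L8002) L10889 L14815
theorem L14821 : sm gi N1358 = N1856 := rfl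
theorem L14823 : sm gb N1856 = N1856 := ded_23_1 (flp_i L14821) L10891 L14821
theorem L14824 : sm gc N1856 = N1362 := ded_29_1 (flp_i L10918) (flp_c L10892) L14821
theorem L14826 : sm ge N1856 = N1856 := ded_38_1 (flp_i L14821) L10894 L14821
theorem L14827 : sm gg N1856 = N1856 := ded_43_1 (flp_i L14821) L10895 L14821
theorem L14828 : sm gh N1856 = N1856 := ded_44_1 (flp_i L14821) (flp_h L10889) L8000 L10889 L14821
theorem L14829 : sm gg N1359 = N1857 := rfl
theorem L14831 : sm gb N1857 = N1363 := ded_21_1 (flp_g L10925) (flp_b L10898) L14829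
theorem L14833 : sm gd N1857 = N1371 := ded_32_1 (flp_g L10984) (flp_d L10901) L14829
theorem L14835 : sm ge N1857 = N1360 := ded_36_1 (flp_g L10904) L10896 L14829
theorem L14838 : sm gh N1359 = N1858 := rfl
theorem L14840 : sm gb N1858 = N1364 := ded_22_1 (flp_h L10933) (flp_b L10898) L14838
theorem L14842 : sm ge N1858 = N1361 := ded_37_1 (flp_h L10912) L10896 L14838
theorem L14844 : sm gf N1858 = N1858 := ded_40_1 (flp_h L14838) L10903 L14838
theorem L14845 : sm gh N1360 = N1859 := rfl
theorem L14847 : sm gb N1859 = N1365 := ded_22_1 (flp_h L10939) (flp_b L10906) L14845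
theorem L14849 : sm gf N1859 = N1859 := ded_40_1 (flp_h L14845) L10911 L14845
theorem L14850 : sm gg N1859 = N1361 := ded_42_1 (flp_h L10912) L10904 L14845
theorem L14852 : sm gi N1361 = N1860 := rfl
theorem L14854 : sm gb N1860 = N1366 := ded_23_1 (flp_i L10945) (flp_b L10914) L14852
theorem L14856 : sm gf N1860 = N1362 := ded_41_1 (flp_i L10918) (flp_f L10916) L14852
theorem L14858 : sm gh N1860 = N1860 := ded_44_1 (flp_i L14852) (flp_h L10912) L8010 L10912 L14852
theorem L14859 : sm gf N1363 = N1861 := rfl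
theorem L14862 : sm gd N1861 = N1375 := ded_31_1 (flp_f L11017) (flp_d L10928) L14859
theorem L14867 : sm gh N1363 = N1862 := rfl
theorem L14870 : sm ge N1862 = N1365 := ded_37_1 (flp_h L10939) (flp_e L10930) L14867
theorem L14872 : sm gg N1862 = N1364 := ded_42_1 (flp_h L10933) L10925 L14867
theorem L14874 : sm gd N1364 = N1863 := rfl
theorem L14876 : sm gf N1863 = N1863 := ded_31_2 (flp_d L14874) L10938 L14874
theorem L14877 : sm gh N1863 = N1377 := ded_33_2 (flp_d L11033) (flp_h L8117) (flp_d L8031) L10933 L14874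
theorem L14879 : sm gi N1364 = N1864 := rfl
theorem L14881 : sm gc N1864 = N1864 := ded_29_1 (flp_i L14879) L10935 L14879
theorem L14882 : sm ge N1864 = N1366 := ded_38_1 (flp_i L10945) (flp_e L10936) L14879
theorem L14884 : sm gf N1864 = N1864 := ded_41_1 (flp_i L14879) L10938 L14879
theorem L14885 : sm gh N1864 = N1864 := ded_44_1 (flp_i L14879) (flp_h L10933) L8030 L10933 L14879
theorem L14886 : sm gi N1365 = N1865 := rfl
theorem L14888 : sm gc N1865 = N1865 := ded_29_1 (flp_i L14886) L10941 L14886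
theorem L14889 : sm gf N1865 = N1865 := ded_41_1 (flp_i L14886) L10942 L14886
theorem L14890 : sm gg N1865 = N1366 := ded_43_1 (flp_i L10945) (flp_g L10943) L14886
theorem L14892 : sm gh N1865 = N1865 := ded_44_1 (flp_i L14886) (flp_h L10939) L8039 L10939 L14886
theorem L14893 : sm gg N1367 = N1866 := rfl
theorem L14895 : sm ga N1866 = N1371 := ded_14_1 (flp_g L10984) (flp_a L10953) L14893
theorem L14898 : sm ge N1866 = N1368 := ded_36_1 (flp_g L10958) L10951 L14893
theorem L14901 : sm gh N1367 = N1867 := rfl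
theorem L14903 : sm ga N1867 = N1372 := ded_15_1 (flp_h L10992) (flp_a L10953) L14901
theorem L14905 : sm gc N1867 = N1867 := ded_28_1 (flp_h L14901) L10955 L14901
theorem L14906 : sm ge N1867 = N1369 := ded_37_1 (flp_h L10968) L10951 L14901
theorem L14908 : sm gf N1867 = N1867 := ded_40_1 (flp_h L14901) L10957 L14901
theorem L14909 : sm gh N1368 = N1868 := rfl
theorem L14916 : sm gg N1868 = N1369 := ded_42_1 (flp_h L10968) L10958 L14909
theorem L14918 : sm gi N1369 = N1869 := rfl
theorem L14920 : sm ga N1869 = N1374 := ded_16_1 (flp_i L11009) (flp_a L10970) L14918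
theorem L14923 : sm gf N1869 = N1370 := ded_41_1 (flp_i L10975) (flp_f L10973) L14918
theorem L14926 : sm gf N1371 = N1870 := rfl
theorem L14932 : sm ge N1870 = N1575 := ded_35_1 (flp_f L12566) L9262 (flp_f L8092) (flp_e L10989) L14926
theorem L14935 : sm gh N1371 = N1871 := rfl
theorem L14937 : sm gb N1871 = N1376 := ded_22_1 (flp_h L11025) (flp_b L10986) L14935
theorem L14940 : sm ge N1871 = N1373 := ded_37_1 (flp_h L11000) (flp_e L10989) L14935
theorem L14942 : sm gg N1871 = N1372 := ded_42_1 (flp_h L10992) L10984 L14935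
theorem L14944 : sm gd N1372 = N1872 := rfl
theorem L14946 : sm gb N1872 = N1377 := ded_18_1 (flp_d L11033) (flp_b L10994) L14944
theorem L14948 : sm gf N1872 = N1872 := ded_31_2 (flp_d L14944) L10999 L14944
theorem L14949 : sm gi N1372 = N1873 := rfl
theorem L14951 : sm gb N1873 = N1378 := ded_23_1 (flp_i L11036) (flp_b L10994) L14949
theorem L14954 : sm ge N1873 = N1374 := ded_38_1 (flp_i L11009) (flp_e L10997) L14949
theorem L14968 : sm gh N1375 = N1875 := rfl
theorem L14970 : sm gc N1875 = N1380 := ded_28_1 (flp_h L11053) (flp_c L11019) L14968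
theorem L14972 : sm ge N1875 = N1580 := ded_37_1 (flp_h L12606) (flp_e L11022) L14968
theorem L14974 : sm gf N1875 = N1376 := ded_40_1 (flp_h L11025) L11017 L14968
theorem L14977 : sm gd N1376 = N1876 := rfl
theorem L14979 : sm gg N1876 = N1377 := ded_32_2 (flp_d L11033) (flp_g L11031) L14977
theorem L14990 : sm gc N1377 = N1878 := rfl
theorem L14992 : sm gf N1878 = N1878 := ded_26_2 (flp_c L14990) L11035 L14990
theorem L14993 : sm gd N1878 = N1383 := ded_24_2 (flp_c L11076) (flp_d L8154) (flp_c L8119) L11033 L14990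
theorem L14995 : sm gi N1377 = N1879 := rfl
theorem L15000 : sm gd N1380 = N1880 := rfl
theorem L15003 : sm gf N1880 = N1381 := ded_31_2 (flp_d L11061) (flp_f L11058) L15000
theorem L15016 : sm gc N1381 = N1882 := rfl
theorem L15019 : sm gg N1882 = N1383 := ded_27_2 (flp_c L11076) (flp_g L11064) L15016
theorem L15022 : sm gi N1381 = N1883 := rfl
theorem L15028 : sm gg N1883 = N1384 := ded_43_1 (flp_i L11081) (flp_g L11064) L15022
theorem L15030 : sm gb N1383 = N1884 := rfl
theorem L15032 : sm ge N1884 = N1884 := ded_19_2 (flp_b L15030) L11078 L15030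
theorem L15033 : sm gf N1884 = N1884 := ded_20_2 (flp_b L15030) L11079 L15030
theorem L15034 : sm gh N1884 = N1884 := ded_22_2 (flp_b L15030) L11080 L15030
theorem L15035 : sm gc N1884 = N1884 := ded_17_2 (flp_b L15030) (flp_c L11076) L8156 L11076 L15030
theorem L15036 : sm gi N1383 = N1885 := rfl
theorem L15042 : sm gh N1384 = N1886 := rfl
theorem L15049 : sm ga N1385 = N1887 := rfl
theorem L15051 : sm gc N1887 = N1887 := ded_10_2 (flp_a L15049) L11096 L15049
theorem L15052 : sm gd N1887 = N1388 := ded_11_2 (flp_a L11113) (flp_d L11090) L15049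
theorem L15054 : sm gf N1887 = N1887 := ded_13_2 (flp_a L15049) L11092 L15049
theorem L15055 : sm gg N1887 = N1887 := ded_14_2 (flp_a L15049) L11093 L15049
theorem L15056 : sm gh N1887 = N1887 := ded_15_2 (flp_a L15049) L11094 L15049
theorem L15057 : sm gi N1887 = N1887 := ded_16_2 (flp_a L15049) L11095 L15049
theorem L15058 : sm gb N1887 = N1887 := ded_9_2 (flp_a L15049) (flp_b L11088) L8178 L11088 L15049
theorem L15059 : sm ge N1385 = N1888 := rfl
theorem L15061 : sm gb N1888 = N1386 := ded_19_1 (flp_e L11097) L11088 L15059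
theorem L15063 : sm gc N1888 = N1888 := ded_25_1 (flp_e L15059) L11096 L15059
theorem L15064 : sm gg N1888 = N1888 := ded_36_2 (flp_e L15059) L11093 L15059
theorem L15065 : sm gh N1888 = N1888 := ded_37_2 (flp_e L15059) L11094 L15059
theorem L15066 : sm gi N1888 = N1888 := ded_38_2 (flp_e L15059) L11095 L15059
theorem L15067 : sm gd N1386 = N1889 := rfl
theorem L15069 : sm ga N1889 = N1889 := ded_11_1 (flp_d L15067) L11099 L15067
theorem L15070 : sm gg N1889 = N1889 := ded_32_2 (flp_d L15067) L11102 L15067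
theorem L15071 : sm gi N1889 = N1889 := ded_34_2 (flp_d L15067) L11104 L15067
theorem L15072 : sm gc N1889 = N1889 := ded_24_1 (flp_d L15067) L11100 L8192 (flp_c L11100) L15067
theorem L15073 : sm ge N1889 = N1390 := ded_30_2 (flp_d L11129) (flp_e L8200) (flp_d L8183) L11097 L15067
theorem L15075 : sm gf N1386 = N1890 := rfl
theorem L15077 : sm ga N1890 = N1890 := ded_13_1 (flp_f L15075) L11099 L15075
theorem L15078 : sm gc N1890 = N1387 := ded_26_1 (flp_f L11105) (flp_c L11100) L15075
theorem L15080 : sm gh N1890 = N1890 := ded_40_2 (flp_f L15075) L11103 L15075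
theorem L15081 : sm gi N1890 = N1890 := ded_41_2 (flp_f L15075) L11104 L15075
theorem L15082 : sm ge N1890 = N1890 := ded_35_1 (flp_f L15075) (flp_e L11097) L8179 L11097 L15075
theorem L15083 : sm gg N1387 = N1891 := rfl
theorem L15085 : sm ga N1891 = N1891 := ded_14_1 (flp_g L15083) L11107 L15083
theorem L15086 : sm gb N1891 = N1891 := ded_21_1 (flp_g L15083) L11108 L15083
theorem L15087 : sm gd N1891 = N1891 := ded_32_1 (flp_g L15083) L11109 L15083
theorem L15088 : sm ge N1891 = N1891 := ded_36_1 (flp_g L15083) L11112 L15083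
theorem L15089 : sm gh N1891 = N1891 := ded_42_2 (flp_g L15083) L11110 L15083
theorem L15090 : sm gi N1891 = N1891 := ded_43_2 (flp_g L15083) L11111 L15083
theorem L15091 : sm gf N1891 = N1891 := ded_39_1 (flp_g L15083) (flp_f L11105) L8189 L11105 L15083
theorem L15092 : sm ge N1388 = N1892 := rfl
theorem L15094 : sm ga N1892 = N1389 := ded_12_1 (flp_e L11121) L11113 L15092
theorem L15096 : sm gb N1892 = N1892 := ded_19_1 (flp_e L15092) L11120 L15092
theorem L15097 : sm gg N1892 = N1892 := ded_36_2 (flp_e L15092) L11116 L15092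
theorem L15098 : sm gh N1892 = N1393 := ded_37_2 (flp_e L11153) (flp_h L11117) L15092
theorem L15100 : sm gi N1892 = N1892 := ded_38_2 (flp_e L15092) L11119 L15092
theorem L15101 : sm gd N1389 = N1893 := rfl
theorem L15103 : sm gb N1893 = N1390 := ded_18_1 (flp_d L11129) (flp_b L11123) L15101
theorem L15105 : sm gg N1893 = N1893 := ded_32_2 (flp_d L15101) L11125 L15101
theorem L15106 : sm gi N1893 = N1893 := ded_34_2 (flp_d L15101) L11128 L15101
theorem L15107 : sm gf N1389 = N1894 := rfl
theorem L15109 : sm gb N1894 = N1391 := ded_20_1 (flp_f L11135) (flp_b L11123) L15107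
theorem L15111 : sm gh N1894 = N1395 := ded_40_2 (flp_f L11169) (flp_h L11126) L15107
theorem L15113 : sm gi N1894 = N1894 := ded_41_2 (flp_f L15107) L11128 L15107
theorem L15114 : sm ge N1894 = N1894 := ded_35_1 (flp_f L15107) (flp_e L11121) L8195 L11121 L15107
theorem L15115 : sm gf N1390 = N1895 := rfl
theorem L15117 : sm ga N1895 = N1895 := ded_13_1 (flp_f L15115) L11131 L15115
theorem L15118 : sm gc N1895 = N1895 := ded_26_1 (flp_f L15115) L11134 L15115
theorem L15119 : sm gd N1895 = N1391 := ded_31_1 (flp_f L11135) L11129 L15115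
theorem L15121 : sm gi N1895 = N1895 := ded_41_2 (flp_f L15115) L11133 L15115
theorem L15122 : sm gh N1390 = N1896 := rfl
theorem L15124 : sm ga N1896 = N1896 := ded_15_1 (flp_h L15122) L11131 L15122
theorem L15125 : sm gc N1896 = N1896 := ded_28_1 (flp_h L15122) L11134 L15122
theorem L15126 : sm gg N1896 = N1896 := ded_42_1 (flp_h L15122) L11132 L15122
theorem L15127 : sm gd N1896 = N1397 := ded_33_1 (flp_h L11185) (flp_d L8232) (flp_h L8206) L11129 L15122
theorem L15129 : sm gg N1391 = N1897 := rfl
theorem L15131 : sm ga N1897 = N1897 := ded_14_1 (flp_g L15129) L11137 L15129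
theorem L15132 : sm gc N1897 = N1392 := ded_27_1 (flp_g L11144) (flp_c L11138) L15129
theorem L15134 : sm ge N1897 = N1897 := ded_36_1 (flp_g L15129) L11143 L15129
theorem L15135 : sm gh N1897 = N1398 := ded_42_2 (flp_g L11192) (flp_h L11140) L15129
theorem L15137 : sm gi N1897 = N1897 := ded_43_2 (flp_g L15129) L11142 L15129
theorem L15138 : sm gf N1897 = N1897 := ded_39_1 (flp_g L15129) (flp_f L11135) L8205 L11135 L15129
theorem L15139 : sm gd N1393 = N1898 := rfl
theorem L15141 : sm ga N1898 = N1394 := ded_11_1 (flp_d L11161) (flp_a L11155) L15139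
theorem L15143 : sm gb N1898 = N1898 := ded_18_1 (flp_d L15139) L11157 L15139
theorem L15144 : sm gg N1898 = N1898 := ded_32_2 (flp_d L15139) L11158 L15139
theorem L15145 : sm gi N1898 = N1399 := ded_34_2 (flp_d L11201) (flp_i L11159) L15139
theorem L15147 : sm ge N1898 = N1898 := ded_30_2 (flp_d L15139) (flp_e L11153) L8219 L11153 L15139
theorem L15148 : sm gf N1393 = N1899 := rfl
theorem L15150 : sm ga N1899 = N1395 := ded_13_1 (flp_f L11169) (flp_a L11155) L15148
theorem L15152 : sm gb N1899 = N1899 := ded_20_1 (flp_f L15148) L11157 L15148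
theorem L15153 : sm gi N1899 = N1400 := ded_41_2 (flp_f L11208) (flp_i L11159) L15148
theorem L15155 : sm ge N1899 = N1899 := ded_35_1 (flp_f L15148) (flp_e L11153) L8220 L11153 L15148
theorem L15156 : sm gc N1394 = N1900 := rfl
theorem L15158 : sm ge N1900 = N1900 := ded_25_2 (flp_c L15156) L11168 L15156
theorem L15159 : sm gg N1900 = N1900 := ded_27_2 (flp_c L15156) L11165 L15156
theorem L15160 : sm gi N1900 = N1401 := ded_29_2 (flp_c L11215) (flp_i L11166) L15156
theorem L15162 : sm gb N1900 = N1411 := ded_17_1 (flp_c L11291) L8311 (flp_c L8238) (flp_b L11163) L15156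
theorem L15164 : sm gf N1394 = N1901 := rfl
theorem L15166 : sm gb N1901 = N1396 := ded_20_1 (flp_f L11176) (flp_b L11163) L15164
theorem L15168 : sm gd N1901 = N1395 := ded_31_1 (flp_f L11169) L11161 L15164
theorem L15170 : sm gi N1901 = N1402 := ded_41_2 (flp_f L11221) (flp_i L11166) L15164
theorem L15172 : sm gh N1394 = N1902 := rfl
theorem L15174 : sm gb N1902 = N1397 := ded_22_1 (flp_h L11185) (flp_b L11163) L15172
theorem L15176 : sm ge N1902 = N1902 := ded_37_1 (flp_h L15172) L11168 L15172
theorem L15177 : sm gg N1902 = N1902 := ded_42_1 (flp_h L15172) L11165 L15172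
theorem L15178 : sm gg N1395 = N1903 := rfl
theorem L15180 : sm gb N1903 = N1398 := ded_21_1 (flp_g L11192) (flp_b L11171) L15178
theorem L15182 : sm ge N1903 = N1903 := ded_36_1 (flp_g L15178) L11175 L15178
theorem L15183 : sm gi N1903 = N1404 := ded_43_2 (flp_g L11234) (flp_i L11173) L15178
theorem L15185 : sm gf N1903 = N1903 := ded_39_1 (flp_g L15178) (flp_f L11169) L8229 L11169 L15178
theorem L15186 : sm ge N1396 = N1904 := rfl
theorem L15188 : sm ga N1904 = N1904 := ded_12_1 (flp_e L15186) L11178 L15186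
theorem L15189 : sm gc N1904 = N1415 := ded_25_1 (flp_e L11322) (flp_c L11179) L15186
theorem L15191 : sm gi N1904 = N1405 := ded_38_2 (flp_e L11241) (flp_i L11183) L15186
theorem L15193 : sm gd N1904 = N1904 := ded_30_1 (flp_e L15186) L11181 L8248 (flp_d L11181) L15186
theorem L15194 : sm gf N1904 = N1904 := ded_35_2 (flp_e L15186) (flp_f L11176) L8240 L11176 L15186
theorem L15195 : sm gg N1396 = N1905 := rfl
theorem L15197 : sm ga N1905 = N1905 := ded_14_1 (flp_g L15195) L11178 L15195
theorem L15198 : sm gc N1905 = N1416 := ded_27_1 (flp_g L11330) (flp_c L11179) L15195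
theorem L15200 : sm gd N1905 = N1398 := ded_32_1 (flp_g L11192) (flp_d L11181) L15195
theorem L15202 : sm gi N1905 = N1406 := ded_43_2 (flp_g L11248) (flp_i L11183) L15195
theorem L15204 : sm gf N1905 = N1905 := ded_39_1 (flp_g L15195) (flp_f L11176) L8235 L11176 L15195
theorem L15205 : sm gh N1396 = N1906 := rfl
theorem L15207 : sm ga N1906 = N1906 := ded_15_1 (flp_h L15205) L11178 L15205
theorem L15208 : sm gc N1906 = N1417 := ded_28_1 (flp_h L11338) (flp_c L11179) L15205
theorem L15210 : sm gf N1906 = N1397 := ded_40_1 (flp_h L11185) L11176 L15205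
theorem L15212 : sm gi N1397 = N1907 := rfl
theorem L15214 : sm ga N1907 = N1907 := ded_16_1 (flp_i L15212) L11187 L15212
theorem L15215 : sm gc N1907 = N1418 := ded_29_1 (flp_i L11344) (flp_c L11188) L15212
theorem L15217 : sm ge N1907 = N1907 := ded_38_1 (flp_i L15212) L11190 L15212
theorem L15218 : sm gg N1907 = N1907 := ded_43_1 (flp_i L15212) L11191 L15212
theorem L15219 : sm gh N1907 = N1408 := ded_44_1 (flp_i L11264) (flp_h L8284) (flp_i L8236) L11185 L15212
theorem L15221 : sm gc N1399 = N1908 := rfl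
theorem L15223 : sm ga N1908 = N1401 := ded_10_1 (flp_c L11215) (flp_a L11203) L15221
theorem L15225 : sm ge N1908 = N1908 := ded_25_2 (flp_c L15221) L11207 L15221
theorem L15226 : sm gg N1908 = N1908 := ded_27_2 (flp_c L15221) L11206 L15221
theorem L15227 : sm gf N1399 = N1909 := rfl
theorem L15229 : sm ga N1909 = N1402 := ded_13_1 (flp_f L11221) (flp_a L11203) L15227
theorem L15231 : sm gb N1909 = N1909 := ded_20_1 (flp_f L15227) L11205 L15227
theorem L15232 : sm gd N1909 = N1400 := ded_31_1 (flp_f L11208) L11201 L15227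
theorem L15234 : sm gh N1399 = N1910 := rfl
theorem L15236 : sm ga N1910 = N1403 := ded_15_1 (flp_h L11227) (flp_a L11203) L15234
theorem L15238 : sm gb N1910 = N1910 := ded_22_1 (flp_h L15234) L11205 L15234
theorem L15239 : sm ge N1910 = N1910 := ded_37_1 (flp_h L15234) L11207 L15234
theorem L15240 : sm gg N1910 = N1910 := ded_42_1 (flp_h L15234) L11206 L15234
theorem L15241 : sm gd N1910 = N1910 := ded_33_1 (flp_h L15234) (flp_d L11201) L8264 L11201 L15234
theorem L15242 : sm gg N1400 = N1911 := rfl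
theorem L15244 : sm ga N1911 = N1404 := ded_14_1 (flp_g L11234) (flp_a L11210) L15242
theorem L15246 : sm gb N1911 = N1911 := ded_21_1 (flp_g L15242) L11212 L15242
theorem L15247 : sm ge N1911 = N1911 := ded_36_1 (flp_g L15242) L11214 L15242
theorem L15248 : sm gh N1911 = N1911 := ded_42_2 (flp_g L15242) L11213 L15242
theorem L15249 : sm gf N1911 = N1911 := ded_39_1 (flp_g L15242) (flp_f L11208) L8263 L11208 L15242
theorem L15250 : sm gf N1401 = N1912 := rfl
theorem L15252 : sm gb N1912 = N1423 := ded_20_1 (flp_f L11384) (flp_b L11219) L15250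
theorem L15254 : sm gc N1912 = N1402 := ded_26_1 (flp_f L11221) L11215 L15250
theorem L15256 : sm gh N1401 = N1913 := rfl
theorem L15258 : sm gb N1913 = N1424 := ded_22_1 (flp_h L11388) (flp_b L11219) L15256
theorem L15260 : sm gc N1913 = N1403 := ded_28_1 (flp_h L11227) L11215 L15256
theorem L15262 : sm ge N1913 = N1913 := ded_37_1 (flp_h L15256) L11217 L15256
theorem L15263 : sm gg N1913 = N1913 := ded_42_1 (flp_h L15256) L11218 L15256
theorem L15264 : sm ge N1402 = N1914 := rfl
theorem L15266 : sm gb N1914 = N1405 := ded_19_1 (flp_e L11241) (flp_b L11223) L15264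
theorem L15268 : sm gd N1914 = N1914 := ded_30_1 (flp_e L15264) L11225 L8276 (flp_d L11225) L15264
theorem L15269 : sm gf N1914 = N1914 := ded_35_2 (flp_e L15264) (flp_f L11221) L8270 L11221 L15264
theorem L15270 : sm gg N1402 = N1915 := rfl
theorem L15272 : sm gb N1915 = N1406 := ded_21_1 (flp_g L11248) (flp_b L11223) L15270
theorem L15274 : sm gd N1915 = N1404 := ded_32_1 (flp_g L11234) (flp_d L11225) L15270
theorem L15276 : sm gf N1915 = N1915 := ded_39_1 (flp_g L15270) (flp_f L11221) L8269 L11221 L15270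
theorem L15277 : sm gh N1402 = N1916 := rfl
theorem L15279 : sm gb N1916 = N1407 := ded_22_1 (flp_h L11256) (flp_b L11223) L15277
theorem L15281 : sm gf N1916 = N1403 := ded_40_1 (flp_h L11227) L11221 L15277
theorem L15283 : sm gd N1916 = N1916 := ded_33_1 (flp_h L15277) L11225 L8275 (flp_d L11225) L15277
theorem L15284 : sm gi N1403 = N1917 := rfl
theorem L15286 : sm gb N1917 = N1408 := ded_23_1 (flp_i L11264) (flp_b L11229) L15284
theorem L15288 : sm gd N1917 = N1917 := ded_34_1 (flp_i L15284) L11233 L15284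
theorem L15289 : sm ge N1917 = N1917 := ded_38_1 (flp_i L15284) L11231 L15284
theorem L15290 : sm gg N1917 = N1917 := ded_43_1 (flp_i L15284) L11232 L15284
theorem L15291 : sm gg N1405 = N1918 := rfl
theorem L15293 : sm ga N1918 = N1918 := ded_14_1 (flp_g L15291) L11243 L15291
theorem L15294 : sm gc N1918 = N1429 := ded_27_1 (flp_g L11424) (flp_c L11244) L15291
theorem L15296 : sm gd N1918 = N1918 := ded_32_1 (flp_g L15291) L11246 L15291
theorem L15297 : sm ge N1918 = N1406 := ded_36_1 (flp_g L11248) L11241 L15291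
theorem L15299 : sm gh N1405 = N1919 := rfl
theorem L15301 : sm ga N1919 = N1919 := ded_15_1 (flp_h L15299) L11243 L15299
theorem L15302 : sm gc N1919 = N1430 := ded_28_1 (flp_h L11431) (flp_c L11244) L15299
theorem L15304 : sm ge N1919 = N1407 := ded_37_1 (flp_h L11256) L11241 L15299
theorem L15306 : sm gf N1919 = N1919 := ded_40_1 (flp_h L15299) L11247 L15299
theorem L15307 : sm gh N1406 = N1920 := rfl
theorem L15309 : sm ga N1920 = N1920 := ded_15_1 (flp_h L15307) L11250 L15307
theorem L15310 : sm gc N1920 = N1431 := ded_28_1 (flp_h L11438) (flp_c L11251) L15307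
theorem L15312 : sm gf N1920 = N1920 := ded_40_1 (flp_h L15307) L11255 L15307
theorem L15313 : sm gg N1920 = N1407 := ded_42_1 (flp_h L11256) L11248 L15307
theorem L15315 : sm gd N1920 = N1920 := ded_33_1 (flp_h L15307) L11253 L8298 (flp_d L11253) L15307
theorem L15316 : sm gi N1407 = N1921 := rfl
theorem L15318 : sm ga N1921 = N1921 := ded_16_1 (flp_i L15316) L11258 L15316
theorem L15319 : sm gc N1921 = N1432 := ded_29_1 (flp_i L11446) (flp_c L11259) L15316
theorem L15321 : sm gd N1921 = N1921 := ded_34_1 (flp_i L15316) L11263 L15316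
theorem L15322 : sm gf N1921 = N1408 := ded_41_1 (flp_i L11264) (flp_f L11261) L15316
theorem L15324 : sm gc N1409 = N1922 := rfl
theorem L15326 : sm ga N1922 = N1411 := ded_10_1 (flp_c L11291) (flp_a L11274) L15324
theorem L15328 : sm ge N1922 = N1922 := ded_25_2 (flp_c L15324) L11280 L15324
theorem L15329 : sm gg N1922 = N1922 := ded_27_2 (flp_c L15324) L11277 L15324
theorem L15330 : sm gi N1922 = N1419 := ded_29_2 (flp_c L11352) (flp_i L11278) L15324
theorem L15332 : sm gf N1409 = N1923 := rfl
theorem L15334 : sm ga N1923 = N1412 := ded_13_1 (flp_f L11297) (flp_a L11274) L15332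
theorem L15336 : sm gb N1923 = N1923 := ded_20_1 (flp_f L15332) L11276 L15332
theorem L15337 : sm gd N1923 = N1410 := ded_31_1 (flp_f L11281) L11272 L15332
theorem L15339 : sm gi N1923 = N1420 := ded_41_2 (flp_f L11358) (flp_i L11278) L15332
theorem L15341 : sm gh N1409 = N1924 := rfl
theorem L15343 : sm ga N1924 = N1413 := ded_15_1 (flp_h L11305) (flp_a L11274) L15341
theorem L15345 : sm gb N1924 = N1924 := ded_22_1 (flp_h L15341) L11276 L15341
theorem L15346 : sm ge N1924 = N1924 := ded_37_1 (flp_h L15341) L11280 L15341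
theorem L15347 : sm gg N1924 = N1924 := ded_42_1 (flp_h L15341) L11277 L15341
theorem L15348 : sm gd N1924 = N1924 := ded_33_1 (flp_h L15341) (flp_d L11272) L8306 L11272 L15341
theorem L15349 : sm gg N1410 = N1925 := rfl
theorem L15351 : sm ga N1925 = N1414 := ded_14_1 (flp_g L11312) (flp_a L11283) L15349
theorem L15353 : sm gb N1925 = N1925 := ded_21_1 (flp_g L15349) L11285 L15349
theorem L15354 : sm ge N1925 = N1436 := ded_36_1 (flp_g L11481) (flp_e L11289) L15349
theorem L15356 : sm gh N1925 = N1925 := ded_42_2 (flp_g L15349) L11286 L15349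
theorem L15357 : sm gi N1925 = N1422 := ded_43_2 (flp_g L11374) (flp_i L11287) L15349
theorem L15359 : sm gf N1925 = N1925 := ded_39_1 (flp_g L15349) (flp_f L11281) L8305 L11281 L15349
theorem L15360 : sm gf N1411 = N1926 := rfl
theorem L15362 : sm gc N1926 = N1412 := ded_26_1 (flp_f L11297) L11291 L15360
theorem L15364 : sm gi N1926 = N1423 := ded_41_2 (flp_f L11384) (flp_i L11295) L15360
theorem L15366 : sm gh N1411 = N1927 := rfl
theorem L15368 : sm gc N1927 = N1413 := ded_28_1 (flp_h L11305) L11291 L15366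
theorem L15370 : sm ge N1927 = N1927 := ded_37_1 (flp_h L15366) L11293 L15366
theorem L15371 : sm gg N1927 = N1927 := ded_42_1 (flp_h L15366) L11294 L15366
theorem L15372 : sm ge N1412 = N1928 := rfl
theorem L15374 : sm gb N1928 = N1415 := ded_19_1 (flp_e L11322) (flp_b L11299) L15372
theorem L15376 : sm gi N1928 = N1425 := ded_38_2 (flp_e L11394) (flp_i L11303) L15372
theorem L15378 : sm gd N1928 = N1439 := ded_30_1 (flp_e L11507) L8449 (flp_e L8324) (flp_d L11301) L15372
theorem L15380 : sm gf N1928 = N1928 := ded_35_2 (flp_e L15372) (flp_f L11297) L8316 L11297 L15372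
theorem L15381 : sm gg N1412 = N1929 := rfl
theorem L15383 : sm gb N1929 = N1416 := ded_21_1 (flp_g L11330) (flp_b L11299) L15381
theorem L15385 : sm gd N1929 = N1414 := ded_32_1 (flp_g L11312) (flp_d L11301) L15381
theorem L15387 : sm gi N1929 = N1426 := ded_43_2 (flp_g L11401) (flp_i L11303) L15381
theorem L15389 : sm gf N1929 = N1929 := ded_39_1 (flp_g L15381) (flp_f L11297) L8313 L11297 L15381
theorem L15390 : sm gh N1412 = N1930 := rfl
theorem L15392 : sm gb N1930 = N1417 := ded_22_1 (flp_h L11338) (flp_b L11299) L15390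
theorem L15394 : sm gf N1930 = N1413 := ded_40_1 (flp_h L11305) L11297 L15390
theorem L15396 : sm gd N1930 = N1930 := ded_33_1 (flp_h L15390) L11301 L8321 (flp_d L11301) L15390
theorem L15397 : sm gi N1413 = N1931 := rfl
theorem L15399 : sm gb N1931 = N1418 := ded_23_1 (flp_i L11344) (flp_b L11307) L15397
theorem L15401 : sm gd N1931 = N1931 := ded_34_1 (flp_i L15397) L11311 L15397
theorem L15402 : sm ge N1931 = N1931 := ded_38_1 (flp_i L15397) L11309 L15397
theorem L15403 : sm gg N1931 = N1931 := ded_43_1 (flp_i L15397) L11310 L15397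
theorem L15404 : sm gh N1931 = N1428 := ded_44_1 (flp_i L11416) (flp_h L8376) (flp_i L8314) L11305 L15397
theorem L15406 : sm gg N1415 = N1932 := rfl
theorem L15409 : sm gd N1932 = N1442 := ded_32_1 (flp_g L11532) (flp_d L11327) L15406
theorem L15411 : sm ge N1932 = N1416 := ded_36_1 (flp_g L11330) L11322 L15406
theorem L15415 : sm gh N1415 = N1933 := rfl
theorem L15418 : sm ge N1933 = N1417 := ded_37_1 (flp_h L11338) L11322 L15415
theorem L15421 : sm gh N1416 = N1934 := rfl
theorem L15428 : sm gi N1417 = N1935 := rfl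
theorem L15432 : sm gf N1935 = N1418 := ded_41_1 (flp_i L11344) (flp_f L11341) L15428
theorem L15434 : sm gh N1935 = N1432 := ded_44_1 (flp_i L11446) (flp_h L8405) (flp_i L8331) L11338 L15428
theorem L15436 : sm gb N1419 = N1936 := rfl
theorem L15438 : sm ge N1936 = N1936 := ded_19_2 (flp_b L15436) L11356 L15436
theorem L15439 : sm gg N1936 = N1936 := ded_21_2 (flp_b L15436) L11357 L15436
theorem L15440 : sm gc N1936 = N1936 := ded_17_2 (flp_b L15436) (flp_c L11352) L8354 L11352 L15436
theorem L15441 : sm gf N1419 = N1937 := rfl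
theorem L15443 : sm ga N1937 = N1423 := ded_13_1 (flp_f L11384) (flp_a L11354) L15441
theorem L15445 : sm gc N1937 = N1420 := ded_26_1 (flp_f L11358) L11352 L15441
theorem L15447 : sm gh N1419 = N1938 := rfl
theorem L15449 : sm ga N1938 = N1424 := ded_15_1 (flp_h L11388) (flp_a L11354) L15447
theorem L15451 : sm gc N1938 = N1421 := ded_28_1 (flp_h L11365) L11352 L15447
theorem L15453 : sm ge N1938 = N1938 := ded_37_1 (flp_h L15447) L11356 L15447
theorem L15454 : sm gg N1938 = N1938 := ded_42_1 (flp_h L15447) L11357 L15447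
theorem L15455 : sm ge N1420 = N1939 := rfl
theorem L15457 : sm ga N1939 = N1425 := ded_12_1 (flp_e L11394) (flp_a L11360) L15455
theorem L15459 : sm gb N1939 = N1939 := ded_19_1 (flp_e L15455) L11362 L15455
theorem L15460 : sm gd N1939 = N1447 := ded_30_1 (flp_e L11573) L8509 (flp_e L8364) (flp_d L11363) L15455
theorem L15462 : sm gf N1939 = N1939 := ded_35_2 (flp_e L15455) (flp_f L11358) L8356 L11358 L15455
theorem L15463 : sm gg N1420 = N1940 := rfl
theorem L15465 : sm ga N1940 = N1426 := ded_14_1 (flp_g L11401) (flp_a L11360) L15463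
theorem L15467 : sm gb N1940 = N1940 := ded_21_1 (flp_g L15463) L11362 L15463
theorem L15468 : sm gd N1940 = N1422 := ded_32_1 (flp_g L11374) (flp_d L11363) L15463
theorem L15470 : sm gf N1940 = N1940 := ded_39_1 (flp_g L15463) (flp_f L11358) L8355 L11358 L15463
theorem L15471 : sm gh N1420 = N1941 := rfl
theorem L15473 : sm ga N1941 = N1427 := ded_15_1 (flp_h L11408) (flp_a L11360) L15471
theorem L15475 : sm gb N1941 = N1941 := ded_22_1 (flp_h L15471) L11362 L15471
theorem L15476 : sm gf N1941 = N1421 := ded_40_1 (flp_h L11365) L11358 L15471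
theorem L15478 : sm gd N1941 = N1457 := ded_33_1 (flp_h L11655) L8562 (flp_h L8362) (flp_d L11363) L15471
theorem L15480 : sm gi N1421 = N1942 := rfl
theorem L15482 : sm ga N1942 = N1428 := ded_16_1 (flp_i L11416) (flp_a L11367) L15480
theorem L15484 : sm gb N1942 = N1942 := ded_23_1 (flp_i L15480) L11369 L15480
theorem L15485 : sm gd N1942 = N1458 := ded_34_1 (flp_i L11663) (flp_d L11372) L15480
theorem L15487 : sm ge N1942 = N1942 := ded_38_1 (flp_i L15480) L11370 L15480
theorem L15488 : sm gg N1942 = N1942 := ded_43_1 (flp_i L15480) L11371 L15480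
theorem L15489 : sm ge N1423 = N1943 := rfl
theorem L15491 : sm gc N1943 = N1425 := ded_25_1 (flp_e L11394) (flp_c L11386) L15489
theorem L15493 : sm gf N1943 = N1943 := ded_35_2 (flp_e L15489) (flp_f L11384) L8368 L11384 L15489
theorem L15494 : sm gg N1423 = N1944 := rfl
theorem L15496 : sm gc N1944 = N1426 := ded_27_1 (flp_g L11401) (flp_c L11386) L15494
theorem L15498 : sm gf N1944 = N1944 := ded_39_1 (flp_g L15494) (flp_f L11384) L8369 L11384 L15494
theorem L15499 : sm gh N1423 = N1945 := rfl
theorem L15501 : sm gc N1945 = N1427 := ded_28_1 (flp_h L11408) (flp_c L11386) L15499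
theorem L15503 : sm gf N1945 = N1424 := ded_40_1 (flp_h L11388) L11384 L15499
theorem L15505 : sm gd N1424 = N1946 := rfl
theorem L15507 : sm gg N1946 = N1946 := ded_32_2 (flp_d L15505) L11393 L15505
theorem L15508 : sm gc N1946 = N1461 := ded_24_1 (flp_d L11688) L8593 (flp_d L8382) (flp_c L11390) L15505
theorem L15510 : sm gi N1424 = N1947 := rfl
theorem L15512 : sm gc N1947 = N1428 := ded_29_1 (flp_i L11416) (flp_c L11390) L15510
theorem L15514 : sm ge N1947 = N1947 := ded_38_1 (flp_i L15510) L11392 L15510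
theorem L15515 : sm gg N1947 = N1947 := ded_43_1 (flp_i L15510) L11393 L15510
theorem L15516 : sm gg N1425 = N1948 := rfl
theorem L15518 : sm gb N1948 = N1429 := ded_21_1 (flp_g L11424) (flp_b L11396) L15516
theorem L15520 : sm gd N1948 = N1451 := ded_32_1 (flp_g L11605) (flp_d L11398) L15516
theorem L15522 : sm ge N1948 = N1426 := ded_36_1 (flp_g L11401) L11394 L15516
theorem L15524 : sm gh N1425 = N1949 := rfl
theorem L15526 : sm gb N1949 = N1430 := ded_22_1 (flp_h L11431) (flp_b L11396) L15524
theorem L15528 : sm ge N1949 = N1427 := ded_37_1 (flp_h L11408) L11394 L15524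
theorem L15530 : sm gf N1949 = N1949 := ded_40_1 (flp_h L15524) L11400 L15524
theorem L15531 : sm gd N1949 = N1949 := ded_33_1 (flp_h L15524) L11398 L8531 (flp_d L11398) L15524
theorem L15532 : sm gh N1426 = N1950 := rfl
theorem L15534 : sm gb N1950 = N1431 := ded_22_1 (flp_h L11438) (flp_b L11403) L15532
theorem L15536 : sm gf N1950 = N1950 := ded_40_1 (flp_h L15532) L11407 L15532
theorem L15537 : sm gg N1950 = N1427 := ded_42_1 (flp_h L11408) L11401 L15532
theorem L15539 : sm gd N1950 = N1463 := ded_33_1 (flp_h L11701) L8602 (flp_h L8390) (flp_d L11405) L15532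
theorem L15541 : sm gi N1427 = N1951 := rfl
theorem L15543 : sm gb N1951 = N1432 := ded_23_1 (flp_i L11446) (flp_b L11410) L15541
theorem L15545 : sm gd N1951 = N1464 := ded_34_1 (flp_i L11709) (flp_d L11414) L15541
theorem L15547 : sm gf N1951 = N1428 := ded_41_1 (flp_i L11416) (flp_f L11412) L15541
theorem L15549 : sm gf N1429 = N1952 := rfl
theorem L15552 : sm gd N1952 = N1452 := ded_31_1 (flp_f L11612) (flp_d L11427) L15549
theorem L15556 : sm gh N1429 = N1953 := rfl
theorem L15559 : sm ge N1953 = N1431 := ded_37_1 (flp_h L11438) (flp_e L11429) L15556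
theorem L15561 : sm gg N1953 = N1430 := ded_42_1 (flp_h L11431) L11424 L15556
theorem L15564 : sm gi N1430 = N1954 := rfl
theorem L15568 : sm ge N1954 = N1432 := ded_38_1 (flp_i L11446) (flp_e L11434) L15564
theorem L15571 : sm gi N1431 = N1955 := rfl
theorem L15577 : sm gg N1955 = N1432 := ded_43_1 (flp_i L11446) (flp_g L11442) L15571
theorem L15579 : sm gb N1433 = N1956 := rfl
theorem L15581 : sm ge N1956 = N1956 := ded_19_2 (flp_b L15579) L11457 L15579
theorem L15582 : sm gg N1956 = N1592 := ded_21_2 (flp_b L12689) (flp_g L11458) L15579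
theorem L15584 : sm gi N1956 = N1445 := ded_23_2 (flp_b L11558) (flp_i L11460) L15579
theorem L15586 : sm ga N1956 = N1956 := ded_9_1 (flp_b L15579) L11455 L8444 (flp_a L11455) L15579
theorem L15587 : sm gc N1956 = N1956 := ded_17_2 (flp_b L15579) (flp_c L11453) L8423 L11453 L15579
theorem L15588 : sm gf N1433 = N1957 := rfl
theorem L15590 : sm ga N1957 = N1437 := ded_13_1 (flp_f L11491) (flp_a L11455) L15588
theorem L15592 : sm gc N1957 = N1434 := ded_26_1 (flp_f L11462) L11453 L15588
theorem L15594 : sm gi N1957 = N1446 := ded_41_2 (flp_f L11566) (flp_i L11460) L15588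
theorem L15596 : sm gh N1433 = N1958 := rfl
theorem L15598 : sm ga N1958 = N1438 := ded_15_1 (flp_h L11498) (flp_a L11455) L15596
theorem L15600 : sm gc N1958 = N1435 := ded_28_1 (flp_h L11471) L11453 L15596
theorem L15602 : sm ge N1958 = N1958 := ded_37_1 (flp_h L15596) L11457 L15596
theorem L15603 : sm gg N1958 = N1594 := ded_42_1 (flp_h L12704) (flp_g L11458) L15596
theorem L15605 : sm gi N1958 = N1958 := ded_44_2 (flp_h L15596) L11460 L8503 (flp_i L11460) L15596
theorem L15606 : sm ge N1434 = N1959 := rfl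
theorem L15608 : sm ga N1959 = N1439 := ded_12_1 (flp_e L11507) (flp_a L11464) L15606
theorem L15610 : sm gb N1959 = N1959 := ded_19_1 (flp_e L15606) L11466 L15606
theorem L15611 : sm gi N1959 = N1447 := ded_38_2 (flp_e L11573) (flp_i L11469) L15606
theorem L15613 : sm gf N1959 = N1959 := ded_35_2 (flp_e L15606) (flp_f L11462) L8428 L11462 L15606
theorem L15614 : sm gg N1434 = N1960 := rfl
theorem L15616 : sm ga N1960 = N1440 := ded_14_1 (flp_g L11514) (flp_a L11464) L15614
theorem L15618 : sm gb N1960 = N1960 := ded_21_1 (flp_g L15614) L11466 L15614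
theorem L15619 : sm gd N1960 = N1436 := ded_32_1 (flp_g L11481) (flp_d L11467) L15614
theorem L15621 : sm gi N1960 = N1448 := ded_43_2 (flp_g L11580) (flp_i L11469) L15614
theorem L15623 : sm gf N1960 = N1596 := ded_39_1 (flp_g L12721) (flp_f L9364) (flp_g L8424) L11462 L15614
theorem L15625 : sm gh N1434 = N1961 := rfl
theorem L15627 : sm ga N1961 = N1441 := ded_15_1 (flp_h L11524) (flp_a L11464) L15625
theorem L15629 : sm gb N1961 = N1961 := ded_22_1 (flp_h L15625) L11466 L15625
theorem L15630 : sm gf N1961 = N1435 := ded_40_1 (flp_h L11471) L11462 L15625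
theorem L15632 : sm gd N1961 = N1961 := ded_33_1 (flp_h L15625) L11467 L8434 (flp_d L11467) L15625
theorem L15633 : sm gi N1961 = N1961 := ded_44_2 (flp_h L15625) L11469 L8511 (flp_i L11469) L15625
theorem L15634 : sm ge N1437 = N1962 := rfl
theorem L15636 : sm gb N1962 = N1962 := ded_19_1 (flp_e L15634) L11493 L15634
theorem L15637 : sm gc N1962 = N1439 := ded_25_1 (flp_e L11507) (flp_c L11494) L15634
theorem L15639 : sm gi N1962 = N1449 := ded_38_2 (flp_e L11590) (flp_i L11496) L15634
theorem L15641 : sm gf N1962 = N1962 := ded_35_2 (flp_e L15634) (flp_f L11491) L8439 L11491 L15634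
theorem L15642 : sm gg N1437 = N1963 := rfl
theorem L15644 : sm gb N1963 = N1963 := ded_21_1 (flp_g L15642) L11493 L15642
theorem L15645 : sm gc N1963 = N1440 := ded_27_1 (flp_g L11514) (flp_c L11494) L15642
theorem L15647 : sm gi N1963 = N1450 := ded_43_2 (flp_g L11597) (flp_i L11496) L15642
theorem L15649 : sm gf N1963 = N1599 := ded_39_1 (flp_g L12747) (flp_f L9390) (flp_g L8440) L11491 L15642
theorem L15651 : sm gh N1437 = N1964 := rfl
theorem L15653 : sm gb N1964 = N1964 := ded_22_1 (flp_h L15651) L11493 L15651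
theorem L15654 : sm gc N1964 = N1441 := ded_28_1 (flp_h L11524) (flp_c L11494) L15651
theorem L15656 : sm gf N1964 = N1438 := ded_40_1 (flp_h L11498) L11491 L15651
theorem L15658 : sm gi N1964 = N1964 := ded_44_2 (flp_h L15651) L11496 L8526 (flp_i L11496) L15651
theorem L15659 : sm gd N1438 = N1965 := rfl
theorem L15661 : sm gb N1965 = N1965 := ded_18_1 (flp_d L15659) L11500 L15659
theorem L15662 : sm gg N1965 = N1601 := ded_32_2 (flp_d L12762) (flp_g L11504) L15659
theorem L15664 : sm gi N1965 = N1965 := ded_34_2 (flp_d L15659) L11506 L15659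
theorem L15665 : sm gc N1965 = N1965 := ded_24_1 (flp_d L15659) L11501 L8460 (flp_c L11501) L15659
theorem L15666 : sm gg N1439 = N1966 := rfl
theorem L15668 : sm gb N1966 = N1442 := ded_21_1 (flp_g L11532) (flp_b L11509) L15666
theorem L15670 : sm ge N1966 = N1440 := ded_36_1 (flp_g L11514) L11507 L15666
theorem L15672 : sm gi N1966 = N1451 := ded_43_2 (flp_g L11605) (flp_i L11511) L15666
theorem L15674 : sm gh N1439 = N1967 := rfl
theorem L15676 : sm gb N1967 = N1443 := ded_22_1 (flp_h L11540) (flp_b L11509) L15674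
theorem L15678 : sm ge N1967 = N1441 := ded_37_1 (flp_h L11524) L11507 L15674
theorem L15680 : sm gf N1967 = N1967 := ded_40_1 (flp_h L15674) L11513 L15674
theorem L15681 : sm gi N1967 = N1967 := ded_44_2 (flp_h L15674) L11511 L8531 (flp_i L11511) L15674
theorem L15682 : sm gh N1440 = N1968 := rfl
theorem L15684 : sm gb N1968 = N1444 := ded_22_1 (flp_h L11548) (flp_b L11516) L15682
theorem L15686 : sm gf N1968 = N1604 := ded_40_1 (flp_h L12784) (flp_f L11522) L15682
theorem L15688 : sm gg N1968 = N1441 := ded_42_1 (flp_h L11524) L11514 L15682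
theorem L15690 : sm gd N1968 = N1968 := ded_33_1 (flp_h L15682) L11518 L8466 (flp_d L11518) L15682
theorem L15691 : sm gi N1968 = N1968 := ded_44_2 (flp_h L15682) L11520 L8539 (flp_i L11520) L15682
theorem L15692 : sm gf N1442 = N1969 := rfl
theorem L15696 : sm gi N1969 = N1452 := ded_41_2 (flp_f L11612) (flp_i L11538) L15692
theorem L15698 : sm ge N1969 = N1605 := ded_35_1 (flp_f L12792) L9433 (flp_f L8486) (flp_e L11536) L15692
theorem L15701 : sm gh N1442 = N1970 := rfl
theorem L15705 : sm ge N1970 = N1444 := ded_37_1 (flp_h L11548) (flp_e L11536) L15701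
theorem L15707 : sm gg N1970 = N1443 := ded_42_1 (flp_h L11540) L11532 L15701
theorem L15710 : sm gd N1443 = N1971 := rfl
theorem L15716 : sm gf N1445 = N1972 := rfl
theorem L15718 : sm ga N1972 = N1972 := ded_13_1 (flp_f L15716) L11564 L15716
theorem L15719 : sm gb N1972 = N1446 := ded_20_1 (flp_f L11566) L11558 L15716
theorem L15721 : sm gc N1972 = N1972 := ded_26_1 (flp_f L15716) L11565 L15716
theorem L15722 : sm gh N1972 = N1972 := ded_40_2 (flp_f L15716) L11563 L15716
theorem L15723 : sm ge N1446 = N1973 := rfl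
theorem L15725 : sm ga N1973 = N1449 := ded_12_1 (flp_e L11590) (flp_a L11568) L15723
theorem L15727 : sm gc N1973 = N1447 := ded_25_1 (flp_e L11573) (flp_c L11570) L15723
theorem L15729 : sm gh N1973 = N1973 := ded_37_2 (flp_e L15723) L11572 L15723
theorem L15730 : sm gf N1973 = N1973 := ded_35_2 (flp_e L15723) (flp_f L11566) L8500 L11566 L15723
theorem L15731 : sm gg N1446 = N1974 := rfl
theorem L15733 : sm ga N1974 = N1450 := ded_14_1 (flp_g L11597) (flp_a L11568) L15731
theorem L15735 : sm gc N1974 = N1448 := ded_27_1 (flp_g L11580) (flp_c L11570) L15731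
theorem L15737 : sm gh N1974 = N1974 := ded_42_2 (flp_g L15731) L11572 L15731
theorem L15738 : sm gf N1974 = N1610 := ded_39_1 (flp_g L12831) (flp_f L9459) (flp_g L8501) L11566 L15731
theorem L15740 : sm gg N1447 = N1975 := rfl
theorem L15742 : sm ga N1975 = N1451 := ded_14_1 (flp_g L11605) (flp_a L11575) L15740
theorem L15744 : sm gb N1975 = N1975 := ded_21_1 (flp_g L15740) L11577 L15740
theorem L15745 : sm ge N1975 = N1448 := ded_36_1 (flp_g L11580) L11573 L15740
theorem L15747 : sm gh N1975 = N1975 := ded_42_2 (flp_g L15740) L11578 L15740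
theorem L15748 : sm gd N1449 = N1976 := rfl
theorem L15750 : sm gb N1976 = N1976 := ded_18_1 (flp_d L15748) L11592 L15748
theorem L15751 : sm gf N1976 = N1976 := ded_31_2 (flp_d L15748) L11596 L15748
theorem L15752 : sm gg N1449 = N1977 := rfl
theorem L15754 : sm gb N1977 = N1977 := ded_21_1 (flp_g L15752) L11592 L15752
theorem L15755 : sm gc N1977 = N1451 := ded_27_1 (flp_g L11605) (flp_c L11593) L15752
theorem L15757 : sm ge N1977 = N1450 := ded_36_1 (flp_g L11597) L11590 L15752
theorem L15759 : sm gh N1977 = N1977 := ded_42_2 (flp_g L15752) L11595 L15752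
theorem L15760 : sm gf N1451 = N1978 := rfl
theorem L15762 : sm gb N1978 = N1452 := ded_20_1 (flp_f L11612) (flp_b L11607) L15760
theorem L15764 : sm gh N1978 = N1978 := ded_40_2 (flp_f L15760) L11611 L15760
theorem L15765 : sm ge N1978 = N1614 := ded_35_1 (flp_f L12860) L9500 (flp_f L8540) (flp_e L11609) L15760
theorem L15767 : sm gg N1978 = N1978 := ded_39_2 (flp_f L15760) (flp_g L11605) L8532 L11605 L15760
theorem L15768 : sm gf N1453 = N1979 := rfl
theorem L15770 : sm ga N1979 = N1979 := ded_13_1 (flp_f L15768) L11626 L15768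
theorem L15771 : sm gb N1979 = N1454 := ded_20_1 (flp_f L11628) L11620 L15768
theorem L15773 : sm gc N1979 = N1979 := ded_26_1 (flp_f L15768) L11627 L15768
theorem L15774 : sm gi N1979 = N1979 := ded_41_2 (flp_f L15768) L11625 L15768
theorem L15775 : sm ge N1979 = N1979 := ded_35_1 (flp_f L15768) L11622 L8641 (flp_e L11622) L15768
theorem L15776 : sm gh N1453 = N1980 := rfl
theorem L15778 : sm ga N1980 = N1980 := ded_15_1 (flp_h L15776) L11626 L15776
theorem L15779 : sm gb N1980 = N1455 := ded_22_1 (flp_h L11636) L11620 L15776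
theorem L15781 : sm gc N1980 = N1980 := ded_28_1 (flp_h L15776) L11627 L15776
theorem L15782 : sm ge N1980 = N1466 := ded_37_1 (flp_h L11726) (flp_e L11622) L15776
theorem L15784 : sm gg N1980 = N1980 := ded_42_1 (flp_h L15776) L11624 L15776
theorem L15785 : sm gg N1454 = N1981 := rfl
theorem L15787 : sm ga N1981 = N1459 := ded_14_1 (flp_g L11672) (flp_a L11630) L15785
theorem L15789 : sm gc N1981 = N1456 := ded_27_1 (flp_g L11645) (flp_c L11632) L15785
theorem L15791 : sm ge N1981 = N1981 := ded_36_1 (flp_g L15785) L11635 L15785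
theorem L15792 : sm gi N1981 = N1981 := ded_43_2 (flp_g L15785) L11634 L15785
theorem L15793 : sm gf N1981 = N1981 := ded_39_1 (flp_g L15785) (flp_f L11628) L8555 L11628 L15785
theorem L15794 : sm gh N1454 = N1982 := rfl
theorem L15796 : sm ga N1982 = N1460 := ded_15_1 (flp_h L11680) (flp_a L11630) L15794
theorem L15798 : sm gc N1982 = N1457 := ded_28_1 (flp_h L11655) (flp_c L11632) L15794
theorem L15800 : sm ge N1982 = N1982 := ded_37_1 (flp_h L15794) L11635 L15794
theorem L15801 : sm gf N1982 = N1455 := ded_40_1 (flp_h L11636) L11628 L15794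
theorem L15803 : sm gd N1455 = N1983 := rfl
theorem L15805 : sm ga N1983 = N1461 := ded_11_1 (flp_d L11688) (flp_a L11638) L15803
theorem L15807 : sm gg N1983 = N1983 := ded_32_2 (flp_d L15803) L11644 L15803
theorem L15808 : sm gi N1455 = N1984 := rfl
theorem L15810 : sm ga N1984 = N1462 := ded_16_1 (flp_i L11692) (flp_a L11638) L15808
theorem L15812 : sm gc N1984 = N1458 := ded_29_1 (flp_i L11663) (flp_c L11640) L15808
theorem L15814 : sm ge N1984 = N1468 := ded_38_1 (flp_i L11742) (flp_e L11642) L15808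
theorem L15816 : sm gg N1984 = N1984 := ded_43_1 (flp_i L15808) L11644 L15808
theorem L15817 : sm gh N1984 = N1984 := ded_44_1 (flp_i L15808) (flp_h L11636) L8556 L11636 L15808
theorem L15818 : sm gh N1456 = N1985 := rfl
theorem L15820 : sm ga N1985 = N1463 := ded_15_1 (flp_h L11701) (flp_a L11647) L15818
theorem L15822 : sm gb N1985 = N1985 := ded_22_1 (flp_h L15818) L11649 L15818
theorem L15823 : sm ge N1985 = N1985 := ded_37_1 (flp_h L15818) L11652 L15818
theorem L15824 : sm gf N1985 = N1985 := ded_40_1 (flp_h L15818) L11654 L15818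
theorem L15825 : sm gg N1985 = N1457 := ded_42_1 (flp_h L11655) L11645 L15818
theorem L15827 : sm gi N1457 = N1986 := rfl
theorem L15829 : sm ga N1986 = N1464 := ded_16_1 (flp_i L11709) (flp_a L11657) L15827
theorem L15831 : sm gb N1986 = N1986 := ded_23_1 (flp_i L15827) L11659 L15827
theorem L15832 : sm ge N1986 = N1986 := ded_38_1 (flp_i L15827) L11660 L15827
theorem L15833 : sm gf N1986 = N1458 := ded_41_1 (flp_i L11663) (flp_f L11661) L15827
theorem L15835 : sm gh N1986 = N1986 := ded_44_1 (flp_i L15827) (flp_h L11655) L8564 L11655 L15827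
theorem L15836 : sm gh N1459 = N1987 := rfl
theorem L15838 : sm gb N1987 = N1987 := ded_22_1 (flp_h L15836) L11674 L15836
theorem L15839 : sm gc N1987 = N1463 := ded_28_1 (flp_h L11701) (flp_c L11675) L15836
theorem L15841 : sm ge N1987 = N1987 := ded_37_1 (flp_h L15836) L11677 L15836
theorem L15842 : sm gf N1987 = N1987 := ded_40_1 (flp_h L15836) L11679 L15836
theorem L15843 : sm gg N1987 = N1460 := ded_42_1 (flp_h L11680) L11672 L15836
theorem L15845 : sm gd N1460 = N1988 := rfl
theorem L15847 : sm gb N1988 = N1988 := ded_18_1 (flp_d L15845) L11682 L15845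
theorem L15848 : sm gf N1988 = N1461 := ded_31_2 (flp_d L11688) (flp_f L11686) L15845
theorem L15850 : sm gi N1460 = N1989 := rfl
theorem L15852 : sm gb N1989 = N1989 := ded_23_1 (flp_i L15850) L11682 L15850
theorem L15853 : sm gc N1989 = N1464 := ded_29_1 (flp_i L11709) (flp_c L11683) L15850
theorem L15855 : sm ge N1989 = N1989 := ded_38_1 (flp_i L15850) L11685 L15850
theorem L15856 : sm gf N1989 = N1462 := ded_41_1 (flp_i L11692) (flp_f L11686) L15850
theorem L15858 : sm gh N1989 = N1989 := ded_44_1 (flp_i L15850) (flp_h L11680) L8588 L11680 L15850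
theorem L15859 : sm ge N1461 = N1990 := rfl
theorem L15861 : sm gb N1990 = N1990 := ded_19_1 (flp_e L15859) L11690 L15859
theorem L15862 : sm gg N1990 = N1990 := ded_36_2 (flp_e L15859) L11691 L15859
theorem L15863 : sm gd N1990 = N1469 := ded_30_1 (flp_e L11751) (flp_d L8663) (flp_e L8595) L11688 L15859
theorem L15865 : sm gi N1461 = N1991 := rfl
theorem L15867 : sm gb N1991 = N1991 := ded_23_1 (flp_i L15865) L11690 L15865
theorem L15868 : sm gd N1991 = N1462 := ded_34_1 (flp_i L11692) L11688 L15865
theorem L15870 : sm gg N1991 = N1991 := ded_43_1 (flp_i L15865) L11691 L15865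
theorem L15871 : sm gi N1463 = N1992 := rfl
theorem L15873 : sm gb N1992 = N1465 := ded_23_1 (flp_i L11717) (flp_b L11703) L15871
theorem L15875 : sm ge N1992 = N1992 := ded_38_1 (flp_i L15871) L11705 L15871
theorem L15876 : sm gf N1992 = N1992 := ded_41_1 (flp_i L15871) L11706 L15871
theorem L15877 : sm gg N1992 = N1464 := ded_43_1 (flp_i L11709) (flp_g L11707) L15871
theorem L15879 : sm gh N1992 = N1992 := ded_44_1 (flp_i L15871) (flp_h L11701) L8605 L11701 L15871
theorem L15880 : sm gd N1466 = N1993 := rfl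
theorem L15882 : sm ga N1993 = N1993 := ded_11_1 (flp_d L15880) L11728 L15880
theorem L15883 : sm gb N1993 = N1467 := ded_18_1 (flp_d L11734) (flp_b L11729) L15880
theorem L15885 : sm gf N1993 = N1993 := ded_31_2 (flp_d L15880) L11732 L15880
theorem L15886 : sm gg N1993 = N1993 := ded_32_2 (flp_d L15880) L11733 L15880
theorem L15887 : sm gh N1993 = N1993 := ded_33_2 (flp_d L15880) (flp_h L11726) L8640 L11726 L15880
theorem L15888 : sm gi N1466 = N1994 := rfl
theorem L15890 : sm ga N1994 = N1994 := ded_16_1 (flp_i L15888) L11728 L15888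
theorem L15891 : sm gb N1994 = N1468 := ded_23_1 (flp_i L11742) (flp_b L11729) L15888
theorem L15893 : sm gc N1994 = N1994 := ded_29_1 (flp_i L15888) L11731 L15888
theorem L15894 : sm gf N1994 = N1994 := ded_41_1 (flp_i L15888) L11732 L15888
theorem L15895 : sm gg N1994 = N1994 := ded_43_1 (flp_i L15888) L11733 L15888
theorem L15896 : sm gh N1994 = N1994 := ded_44_1 (flp_i L15888) (flp_h L11726) L8643 L11726 L15888
theorem L15897 : sm ge N1467 = N1995 := rfl
theorem L15899 : sm ga N1995 = N1469 := ded_12_1 (flp_e L11751) (flp_a L11736) L15897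
theorem L15901 : sm gc N1995 = N1995 := ded_25_1 (flp_e L15897) L11740 L15897
theorem L15902 : sm gg N1995 = N1995 := ded_36_2 (flp_e L15897) L11739 L15897
theorem L15903 : sm gh N1995 = N1995 := ded_37_2 (flp_e L15897) L11741 L15897
theorem L15904 : sm gi N1467 = N1996 := rfl
theorem L15906 : sm ga N1996 = N1470 := ded_16_1 (flp_i L11757) (flp_a L11736) L15904
theorem L15908 : sm gc N1996 = N1996 := ded_29_1 (flp_i L15904) L11740 L15904
theorem L15909 : sm gd N1996 = N1468 := ded_34_1 (flp_i L11742) L11734 L15904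
theorem L15911 : sm gf N1996 = N1996 := ded_41_1 (flp_i L15904) L11738 L15904
theorem L15912 : sm gg N1996 = N1996 := ded_43_1 (flp_i L15904) L11739 L15904
theorem L15913 : sm gf N1469 = N1997 := rfl
theorem L15915 : sm gb N1997 = N1997 := ded_20_1 (flp_f L15913) L11753 L15913
theorem L15916 : sm gc N1997 = N1997 := ded_26_1 (flp_f L15913) L11754 L15913
theorem L15917 : sm gh N1997 = N1997 := ded_40_2 (flp_f L15913) L11756 L15913
theorem L15918 : sm ge N1997 = N1997 := ded_35_1 (flp_f L15913) (flp_e L11751) L8666 L11751 L15913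
theorem L15919 : sm gi N1469 = N1998 := rfl
theorem L15921 : sm gb N1998 = N1998 := ded_23_1 (flp_i L15919) L11753 L15919
theorem L15922 : sm gc N1998 = N1998 := ded_29_1 (flp_i L15919) L11754 L15919
theorem L15923 : sm ge N1998 = N1470 := ded_38_1 (flp_i L11757) L11751 L15919
theorem L15925 : sm gg N1998 = N1998 := ded_43_1 (flp_i L15919) L11755 L15919
theorem L15926 : sm gh N1470 = N1999 := rfl
theorem L15928 : sm gb N1999 = N1999 := ded_22_1 (flp_h L15926) L11759 L15926
theorem L15929 : sm gc N1999 = N1999 := ded_28_1 (flp_h L15926) L11760 L15926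
theorem L15930 : sm gf N1999 = N1999 := ded_40_1 (flp_h L15926) L11763 L15926
theorem L15931 : sm gg N1999 = N1999 := ded_42_1 (flp_h L15926) L11764 L15926
theorem L15932 : sm gd N1999 = N1999 := ded_33_1 (flp_h L15926) L11761 L8677 (flp_d L11761) L15926
theorem L15933 : sm gi N1999 = N1999 := ded_44_2 (flp_h L15926) (flp_i L11757) L8669 L11757 L15926
theorem L15934 : sm gb N1471 = N2000 := rfl
theorem L15936 : sm gd N2000 = N2000 := ded_18_2 (flp_b L15934) L11769 L15934
theorem L15937 : sm ga N2000 = N2000 := ded_9_1 (flp_b L15934) L11767 L8696 (flp_a L11767) L15934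
theorem L15938 : sm gc N2000 = N1551 := ded_17_2 (flp_b L12406) (flp_c L9136) (flp_b L8682) L11765 L15934
theorem L15940 : sm gf N1471 = N2001 := rfl
theorem L15942 : sm ga N2001 = N1475 := ded_13_1 (flp_f L11796) (flp_a L11767) L15940
theorem L15944 : sm gc N2001 = N1472 := ded_26_1 (flp_f L11770) L11765 L15940
theorem L15947 : sm gh N1471 = N2002 := rfl
theorem L15953 : sm ge N1472 = N2003 := rfl
theorem L15960 : sm gg N1472 = N2004 := rfl
theorem L15964 : sm gb N2004 = N1555 := ded_21_1 (flp_g L12431) (flp_b L11774) L15960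
theorem L15966 : sm gd N2004 = N1474 := ded_32_1 (flp_g L11786) (flp_d L11776) L15960
theorem L15968 : sm gh N1472 = N2005 := rfl
theorem L15972 : sm gb N2005 = N1556 := ded_22_1 (flp_h L12437) (flp_b L11774) L15968
theorem L15974 : sm gf N2005 = N1473 := ded_40_1 (flp_h L11778) L11770 L15968
theorem L15976 : sm gd N2005 = N1489 := ded_33_1 (flp_h L11900) L8761 (flp_h L8691) (flp_d L11776) L15968
theorem L15978 : sm gi N1473 = N2006 := rfl
theorem L15986 : sm ge N1475 = N2007 := rfl
theorem L15991 : sm gg N1475 = N2008 := rfl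
theorem L15994 : sm gc N2008 = N1478 := ded_27_1 (flp_g L11812) (flp_c L11799) L15991
theorem L15997 : sm gh N1475 = N2009 := rfl
theorem L16002 : sm gf N2009 = N1476 := ded_40_1 (flp_h L11802) L11796 L15997
theorem L16004 : sm gd N1476 = N2010 := rfl
theorem L16010 : sm gi N1476 = N2011 := rfl
theorem L16013 : sm gc N2011 = N1480 := ded_29_1 (flp_i L11826) (flp_c L11805) L16010
theorem L16015 : sm gg N1477 = N2012 := rfl
theorem L16017 : sm gb N2012 = N1481 := ded_21_1 (flp_g L11832) (flp_b L11809) L16015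
theorem L16022 : sm gh N1477 = N2013 := rfl
theorem L16028 : sm gh N1478 = N2014 := rfl
theorem L16034 : sm gd N2014 = N1498 := ded_33_1 (flp_h L11968) L8806 (flp_h L8716) (flp_d L11816) L16028
theorem L16044 : sm gf N1481 = N2016 := rfl
theorem L16046 : sm ga N2016 = N1566 := ded_13_1 (flp_f L12506) (flp_a L11834) L16044
theorem L16050 : sm gh N1481 = N2017 := rfl
theorem L16055 : sm ge N2017 = N1483 := ded_37_1 (flp_h L11847) (flp_e L11838) L16050
theorem L16057 : sm gg N2017 = N1482 := ded_42_1 (flp_h L11840) L11832 L16050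
theorem L16059 : sm gd N1482 = N2018 := rfl
theorem L16061 : sm ga N2018 = N1568 := ded_11_1 (flp_d L12517) (flp_a L11842) L16059
theorem L16063 : sm ge N2018 = N1502 := ded_30_2 (flp_d L12000) L8837 (flp_d L8738) (flp_e L11845) L16059
theorem L16066 : sm gi N1482 = N2019 := rfl
theorem L16082 : sm ge N1485 = N2021 := rfl
theorem L16084 : sm ga N2021 = N1491 := ded_12_1 (flp_e L11916) (flp_a L11867) L16082
theorem L16087 : sm gc N2021 = N1487 := ded_25_1 (flp_e L11882) (flp_c L11870) L16082
theorem L16089 : sm gi N2021 = N2021 := ded_38_2 (flp_e L16082) L11873 L16082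
theorem L16091 : sm gg N1485 = N2022 := rfl
theorem L16100 : sm gh N1485 = N2023 := rfl
theorem L16102 : sm ga N2023 = N1493 := ded_15_1 (flp_h L11932) (flp_a L11867) L16100
theorem L16105 : sm gc N2023 = N1489 := ded_28_1 (flp_h L11900) (flp_c L11870) L16100
theorem L16107 : sm gf N2023 = N1486 := ded_40_1 (flp_h L11874) L11865 L16100
theorem L16109 : sm gd N1486 = N2024 := rfl
theorem L16124 : sm gg N1487 = N2026 := rfl
theorem L16126 : sm ga N2026 = N1496 := ded_14_1 (flp_g L11953) (flp_a L11884) L16124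
theorem L16128 : sm gb N2026 = N1571 := ded_21_1 (flp_g L12534) (flp_b L11886) L16124
theorem L16131 : sm ge N2026 = N1488 := ded_36_1 (flp_g L11891) L11882 L16124
theorem L16134 : sm gh N1487 = N2027 := rfl
theorem L16138 : sm gb N2027 = N1572 := ded_22_1 (flp_h L12543) (flp_b L11886) L16134
theorem L16140 : sm ge N2027 = N1489 := ded_37_1 (flp_h L11900) L11882 L16134
theorem L16143 : sm gh N1488 = N2028 := rfl
theorem L16151 : sm gi N1489 = N2029 := rfl
theorem L16153 : sm ga N2029 = N1499 := ded_16_1 (flp_i L11974) (flp_a L11902) L16151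
theorem L16160 : sm gd N1491 = N2030 := rfl
theorem L16162 : sm gb N2030 = N1505 := ded_18_1 (flp_d L12025) (flp_b L11918) L16160
theorem L16168 : sm gg N1491 = N2031 := rfl
theorem L16172 : sm gc N2031 = N1496 := ded_27_1 (flp_g L11953) (flp_c L11920) L16168
theorem L16174 : sm ge N2031 = N1492 := ded_36_1 (flp_g L11924) L11916 L16168
theorem L16177 : sm gh N1491 = N2032 := rfl
theorem L16179 : sm gb N2032 = N1507 := ded_22_1 (flp_h L12041) (flp_b L11918) L16177
theorem L16186 : sm gh N1492 = N2033 := rfl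
theorem L16190 : sm gc N2033 = N1498 := ded_28_1 (flp_h L11968) (flp_c L11928) L16186
theorem L16192 : sm gg N2033 = N1493 := ded_42_1 (flp_h L11932) L11924 L16186
theorem L16194 : sm gd N1493 = N2034 := rfl
theorem L16198 : sm gf N2034 = N1494 := ded_31_2 (flp_d L11940) (flp_f L11938) L16194
theorem L16201 : sm gi N1493 = N2035 := rfl
theorem L16207 : sm gf N2035 = N1495 := ded_41_1 (flp_i L11945) (flp_f L11938) L16201
theorem L16210 : sm ge N1494 = N2036 := rfl
theorem L16212 : sm gb N2036 = N1511 := ded_19_1 (flp_e L12071) (flp_b L11942) L16210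
theorem L16216 : sm gi N1494 = N2037 := rfl
theorem L16222 : sm gf N1496 = N2038 := rfl
theorem L16224 : sm gb N2038 = N1500 := ded_20_1 (flp_f L11981) (flp_b L11955) L16222
theorem L16229 : sm gh N1496 = N2039 := rfl
theorem L16235 : sm gg N2039 = N1497 := ded_42_1 (flp_h L11961) L11953 L16229
theorem L16243 : sm gi N1497 = N2041 := rfl
theorem L16245 : sm gb N2041 = N1503 := ded_23_1 (flp_i L12006) (flp_b L11963) L16243
theorem L16258 : sm gh N1500 = N2043 := rfl
theorem L16260 : sm ga N2043 = N1580 := ded_15_1 (flp_h L12606) (flp_a L11983) L16258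
theorem L16262 : sm gc N2043 = N1518 := ded_28_1 (flp_h L12128) (flp_c L11985) L16258
theorem L16264 : sm gf N2043 = N1501 := ded_40_1 (flp_h L11990) L11981 L16258
theorem L16267 : sm gd N1501 = N2044 := rfl
theorem L16271 : sm gg N2044 = N1502 := ded_32_2 (flp_d L12000) (flp_g L11998) L16267
theorem L16274 : sm gi N1501 = N2045 := rfl
theorem L16282 : sm gg N2045 = N1503 := ded_43_1 (flp_i L12006) (flp_g L11998) L16274
theorem L16285 : sm gc N1502 = N2046 := rfl
theorem L16287 : sm ga N2046 = N1583 := ded_10_1 (flp_c L12627) (flp_a L12002) L16285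
theorem L16293 : sm gi N1502 = N2047 := rfl
theorem L16300 : sm gg N1505 = N2048 := rfl
theorem L16305 : sm gd N2048 = N1506 := ded_32_1 (flp_g L12033) L12025 L16300
theorem L16309 : sm gh N1505 = N2049 := rfl
theorem L16316 : sm gf N1506 = N2050 := rfl
theorem L16319 : sm gc N2050 = N1513 := ded_26_1 (flp_f L12083) (flp_c L12036) L16316
theorem L16323 : sm gh N1506 = N2051 := rfl
theorem L16328 : sm ge N2051 = N1508 := ded_37_1 (flp_h L12049) (flp_e L12038) L16323
theorem L16330 : sm gg N2051 = N1507 := ded_42_1 (flp_h L12041) L12033 L16323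
theorem L16332 : sm gd N1507 = N2052 := rfl
theorem L16336 : sm gi N1507 = N2053 := rfl
theorem L16339 : sm gc N2053 = N1516 := ded_29_1 (flp_i L12110) (flp_c L12044) L16336
theorem L16341 : sm ge N2053 = N1510 := ded_38_1 (flp_i L12063) (flp_e L12046) L16336
theorem L16345 : sm gd N1508 = N2054 := rfl
theorem L16348 : sm gg N2054 = N1509 := ded_32_2 (flp_d L12056) (flp_g L12054) L16345
theorem L16352 : sm gi N1508 = N2055 := rfl
theorem L16357 : sm gg N2055 = N1510 := ded_43_1 (flp_i L12063) (flp_g L12054) L16352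
theorem L16360 : sm ge N1509 = N2056 := rfl
theorem L16365 : sm gi N1509 = N2057 := rfl
theorem L16369 : sm gd N2057 = N1510 := ded_34_1 (flp_i L12063) L12056 L16365
theorem L16373 : sm gf N1511 = N2058 := rfl
theorem L16379 : sm gi N1511 = N2059 := rfl
theorem L16392 : sm gh N1513 = N2061 := rfl
theorem L16395 : sm gb N2061 = N1518 := ded_22_1 (flp_h L12128) (flp_b L12086) L16392
theorem L16397 : sm gf N2061 = N1514 := ded_40_1 (flp_h L12092) L12083 L16392
theorem L16400 : sm gd N1514 = N2062 := rfl
theorem L16408 : sm gh N2062 = N1629 := ded_33_2 (flp_d L12982) (flp_h L9585) (flp_d L8895) L12092 L16400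
theorem L16410 : sm gi N1514 = N2063 := rfl
theorem L16420 : sm gc N1515 = N2064 := rfl
theorem L16425 : sm gh N2064 = N1631 := ded_28_2 (flp_c L13000) (flp_h L12108) L16420
theorem L16436 : sm gd N1518 = N2066 := rfl
theorem L16438 : sm ga N2066 = N1585 := ded_11_1 (flp_d L12638) (flp_a L12130) L16436
theorem L16440 : sm gf N2066 = N1519 := ded_31_2 (flp_d L12135) (flp_f L12132) L16436
theorem L16443 : sm gh N2066 = N1633 := ded_33_2 (flp_d L13014) (flp_h L9620) (flp_d L8929) L12128 L16436
theorem L16445 : sm gi N1518 = N2067 := rfl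
theorem L16449 : sm gf N2067 = N1520 := ded_41_1 (flp_i L12144) (flp_f L12132) L16445
theorem L16453 : sm gc N1519 = N2068 := rfl
theorem L16458 : sm gg N2068 = N1521 := ded_27_2 (flp_c L12153) (flp_g L12139) L16453
theorem L16460 : sm gh N2068 = N1635 := ded_28_2 (flp_c L13031) (flp_h L12142) L16453
theorem L16471 : sm gb N1521 = N2070 := rfl
theorem L16475 : sm gh N2070 = N1637 := ded_22_2 (flp_b L13048) (flp_h L12159) L16471
theorem L16485 : sm gh N1522 = N2072 := rfl
theorem L16492 : sm gi N2072 = N1639 := ded_44_2 (flp_h L13062) (flp_i L9653) (flp_h L8947) L12161 L16485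
theorem L16494 : sm gb N1523 = N2073 := rfl
theorem L16496 : sm gd N2073 = N2073 := ded_18_2 (flp_b L16494) L12177 L16494
theorem L16497 : sm ge N2073 = N1551 := ded_19_2 (flp_b L12406) (flp_e L12173) L16494
theorem L16499 : sm gi N2073 = N2000 := ded_23_2 (flp_b L15934) (flp_i L12175) L16494
theorem L16501 : sm ga N2073 = N2073 := ded_9_1 (flp_b L16494) L12171 L8988 (flp_a L12171) L16494
theorem L16502 : sm gf N1523 = N2074 := rfl
theorem L16504 : sm ga N2074 = N1527 := ded_13_1 (flp_f L12202) (flp_a L12171) L16502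
theorem L16506 : sm gc N2074 = N1524 := ded_26_1 (flp_f L12178) L12169 L16502
theorem L16508 : sm gd N2074 = N2074 := ded_31_1 (flp_f L16502) L12177 L16502
theorem L16509 : sm gi N2074 = N2001 := ded_41_2 (flp_f L15940) (flp_i L12175) L16502
theorem L16511 : sm gh N1523 = N2075 := rfl
theorem L16513 : sm ga N2075 = N1528 := ded_15_1 (flp_h L12210) (flp_a L12171) L16511
theorem L16515 : sm gc N2075 = N1525 := ded_28_1 (flp_h L12186) L12169 L16511
theorem L16517 : sm ge N2075 = N1553 := ded_37_1 (flp_h L12419) (flp_e L12173) L16511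
theorem L16519 : sm ge N1524 = N2076 := rfl
theorem L16521 : sm ga N2076 = N1529 := ded_12_1 (flp_e L12217) (flp_a L12180) L16519
theorem L16523 : sm gi N2076 = N2003 := ded_38_2 (flp_e L15953) (flp_i L12184) L16519
theorem L16525 : sm gd N2076 = N2076 := ded_30_1 (flp_e L16519) L12182 L8981 (flp_d L12182) L16519
theorem L16528 : sm gg N1524 = N2077 := rfl
theorem L16536 : sm gh N1524 = N2078 := rfl
theorem L16538 : sm ga N2078 = N1531 := ded_15_1 (flp_h L12234) (flp_a L12180) L16536
theorem L16540 : sm gf N2078 = N1525 := ded_40_1 (flp_h L12186) L12178 L16536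
theorem L16542 : sm gd N2078 = N2078 := ded_33_1 (flp_h L16536) L12182 L8978 (flp_d L12182) L16536
theorem L16543 : sm gi N1525 = N2079 := rfl
theorem L16552 : sm ge N1527 = N2080 := rfl
theorem L16554 : sm gb N2080 = N2080 := ded_19_1 (flp_e L16552) L12204 L16552
theorem L16555 : sm gc N2080 = N1529 := ded_25_1 (flp_e L12217) (flp_c L12205) L16552
theorem L16557 : sm gi N2080 = N2007 := ded_38_2 (flp_e L15986) (flp_i L12208) L16552
theorem L16559 : sm gf N2080 = N1558 := ded_35_2 (flp_e L12451) (flp_f L9163) (flp_e L8984) L12202 L16552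
theorem L16561 : sm gg N1527 = N2081 := rfl
theorem L16566 : sm gd N2081 = N2081 := ded_32_1 (flp_g L16561) L12207 L16561
theorem L16567 : sm gi N2081 = N2008 := ded_43_2 (flp_g L15991) (flp_i L12208) L16561
theorem L16569 : sm gh N1527 = N2082 := rfl
theorem L16571 : sm gb N2082 = N2082 := ded_22_1 (flp_h L16569) L12204 L16569
theorem L16572 : sm gc N2082 = N1531 := ded_28_1 (flp_h L12234) (flp_c L12205) L16569
theorem L16574 : sm gf N2082 = N1528 := ded_40_1 (flp_h L12210) L12202 L16569
theorem L16576 : sm gd N1528 = N2083 := rfl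
theorem L16578 : sm gb N2083 = N2083 := ded_18_1 (flp_d L16576) L12212 L16576
theorem L16579 : sm gc N2083 = N2083 := ded_24_1 (flp_d L16576) L12213 L9004 (flp_c L12213) L16576
theorem L16580 : sm ge N2083 = N2083 := ded_30_2 (flp_d L16576) L12215 L9175 (flp_e L12215) L16576
theorem L16581 : sm gh N2083 = N2083 := ded_33_2 (flp_d L16576) (flp_h L12210) L8989 L12210 L16576
theorem L16582 : sm gi N1528 = N2084 := rfl
theorem L16585 : sm gc N2084 = N1532 := ded_29_1 (flp_i L12241) (flp_c L12213) L16582
theorem L16589 : sm gh N2084 = N2011 := ded_44_1 (flp_i L16010) (flp_h L11802) (flp_i L8986) L12210 L16582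
theorem L16591 : sm gg N1529 = N2085 := rfl
theorem L16593 : sm gb N2085 = N1533 := ded_21_1 (flp_g L12250) (flp_b L12219) L16591
theorem L16596 : sm ge N2085 = N1530 := ded_36_1 (flp_g L12226) L12217 L16591
theorem L16600 : sm gh N1529 = N2086 := rfl
theorem L16604 : sm ge N2086 = N1531 := ded_37_1 (flp_h L12234) L12217 L16600
theorem L16606 : sm gf N2086 = N1563 := ded_40_1 (flp_h L12484) (flp_f L12224) L16600
theorem L16624 : sm gf N1533 = N2089 := rfl
theorem L16628 : sm gi N2089 = N2016 := ded_41_2 (flp_f L16044) (flp_i L12256) L16624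
theorem L16630 : sm gg N2089 = N1566 := ded_39_2 (flp_f L12506) (flp_g L9201) (flp_f L9020) L12250 L16624
theorem L16632 : sm gh N1533 = N2090 := rfl
theorem L16637 : sm gg N2090 = N1534 := ded_42_1 (flp_h L12258) L12250 L16632
theorem L16639 : sm gd N1534 = N2091 := rfl
theorem L16641 : sm gf N2091 = N1568 := ded_31_2 (flp_d L12517) (flp_f L12263) L16639
theorem L16645 : sm gi N1534 = N2092 := rfl
theorem L16652 : sm gh N2092 = N2019 := ded_44_1 (flp_i L16066) (flp_h L11840) (flp_i L9017) L12258 L16645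
theorem L16654 : sm gi N1535 = N2093 := rfl
theorem L16658 : sm gg N2093 = N1536 := ded_43_1 (flp_i L12271) (flp_g L12268) L16654
theorem L16662 : sm gb N1537 = N2094 := rfl
theorem L16664 : sm gd N2094 = N1592 := ded_18_2 (flp_b L12689) (flp_d L12287) L16662
theorem L16666 : sm ge N2094 = N2000 := ded_19_2 (flp_b L15934) (flp_e L12283) L16662
theorem L16668 : sm gi N2094 = N1551 := ded_23_2 (flp_b L12406) (flp_i L12285) L16662
theorem L16670 : sm ga N2094 = N2094 := ded_9_1 (flp_b L16662) L12281 L9071 (flp_a L12281) L16662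
theorem L16671 : sm gc N2094 = N2073 := ded_17_2 (flp_b L16494) (flp_c L12169) (flp_b L9047) L12279 L16662
theorem L16673 : sm gf N1537 = N2095 := rfl
theorem L16675 : sm ga N2095 = N1541 := ded_13_1 (flp_f L12320) (flp_a L12281) L16673
theorem L16677 : sm gc N2095 = N1538 := ded_26_1 (flp_f L12289) L12279 L16673
theorem L16679 : sm gd N2095 = N1593 := ded_31_1 (flp_f L12696) (flp_d L12287) L16673
theorem L16681 : sm gi N2095 = N1552 := ded_41_2 (flp_f L12411) (flp_i L12285) L16673
theorem L16683 : sm gh N1537 = N2096 := rfl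
theorem L16685 : sm ga N2096 = N1542 := ded_15_1 (flp_h L12329) (flp_a L12281) L16683
theorem L16687 : sm gc N2096 = N1539 := ded_28_1 (flp_h L12299) L12279 L16683
theorem L16689 : sm ge N2096 = N2002 := ded_37_1 (flp_h L15947) (flp_e L12283) L16683
theorem L16691 : sm ge N1538 = N2097 := rfl
theorem L16697 : sm gi N2097 = N1554 := ded_38_2 (flp_e L12426) (flp_i L12297) L16691
theorem L16700 : sm gf N2097 = N2003 := ded_35_2 (flp_e L15953) (flp_f L11770) (flp_e L9051) L12289 L16691
theorem L16702 : sm gg N1538 = N2098 := rfl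
theorem L16704 : sm ga N2098 = N1544 := ded_14_1 (flp_g L12345) (flp_a L12291) L16702
theorem L16706 : sm gb N2098 = N2077 := ded_21_1 (flp_g L16528) (flp_b L12293) L16702
theorem L16708 : sm gd N2098 = N1540 := ded_32_1 (flp_g L12308) (flp_d L12295) L16702
theorem L16710 : sm gi N2098 = N1555 := ded_43_2 (flp_g L12431) (flp_i L12297) L16702
theorem L16712 : sm gh N1538 = N2099 := rfl
theorem L16716 : sm gb N2099 = N2078 := ded_22_1 (flp_h L16536) (flp_b L12293) L16712
theorem L16718 : sm gf N2099 = N1539 := ded_40_1 (flp_h L12299) L12289 L16712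
theorem L16721 : sm gi N1539 = N2100 := rfl
theorem L16723 : sm ga N2100 = N1546 := ded_16_1 (flp_i L12360) (flp_a L12301) L16721
theorem L16725 : sm gb N2100 = N2079 := ded_23_1 (flp_i L16543) (flp_b L12303) L16721
theorem L16728 : sm ge N2100 = N2006 := ded_38_1 (flp_i L15978) (flp_e L12305) L16721
theorem L16732 : sm ge N1541 = N2101 := rfl
theorem L16737 : sm gi N2101 = N1558 := ded_38_2 (flp_e L12451) (flp_i L12327) L16732
theorem L16739 : sm gf N2101 = N2007 := ded_35_2 (flp_e L15986) (flp_f L11796) (flp_e L9067) L12320 L16732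
theorem L16741 : sm gg N1541 = N2102 := rfl
theorem L16743 : sm gb N2102 = N2102 := ded_21_1 (flp_g L16741) L12322 L16741
theorem L16744 : sm gc N2102 = N1544 := ded_27_1 (flp_g L12345) (flp_c L12323) L16741
theorem L16746 : sm gd N2102 = N1599 := ded_32_1 (flp_g L12747) (flp_d L12325) L16741
theorem L16748 : sm gi N2102 = N1559 := ded_43_2 (flp_g L12456) (flp_i L12327) L16741
theorem L16750 : sm gh N1541 = N2103 := rfl
theorem L16755 : sm gf N2103 = N1542 := ded_40_1 (flp_h L12329) L12320 L16750
theorem L16757 : sm gd N1542 = N2104 := rfl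
theorem L16759 : sm gb N2104 = N2104 := ded_18_1 (flp_d L16757) L12331 L16757
theorem L16760 : sm gc N2104 = N2104 := ded_24_1 (flp_d L16757) L12332 L9088 (flp_c L12332) L16757
theorem L16761 : sm gh N2104 = N1601 := ded_33_2 (flp_d L12762) (flp_h L9397) (flp_d L9072) L12329 L16757
theorem L16763 : sm gi N1542 = N2105 := rfl
theorem L16772 : sm gg N1543 = N2106 := rfl
theorem L16774 : sm gb N2106 = N1547 := ded_21_1 (flp_g L12369) (flp_b L12338) L16772
theorem L16781 : sm gh N1543 = N2107 := rfl
theorem L16787 : sm gf N2107 = N2013 := ded_40_1 (flp_h L16022) (flp_f L12343) L16781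
theorem L16805 : sm gf N1547 = N2110 := rfl
theorem L16807 : sm ga N2110 = N2089 := ded_13_1 (flp_f L16624) (flp_a L12371) L16805
theorem L16813 : sm gg N2110 = N2016 := ded_39_2 (flp_f L16044) (flp_g L11832) (flp_f L9107) L12369 L16805
theorem L16815 : sm gh N1547 = N2111 := rfl
theorem L16822 : sm gg N2111 = N1548 := ded_42_1 (flp_h L12379) L12369 L16815
theorem L16824 : sm gd N1548 = N2112 := rfl
theorem L16826 : sm ga N2112 = N2091 := ded_11_1 (flp_d L16639) (flp_a L12381) L16824
theorem L16828 : sm gf N2112 = N2018 := ded_31_2 (flp_d L16059) (flp_f L12386) L16824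
theorem L16832 : sm gi N1548 = N2113 := rfl
theorem L16837 : sm ge N2113 = N1550 := ded_38_1 (flp_i L12396) (flp_e L12384) L16832
theorem L16841 : sm gh N2113 = N1569 := ded_44_1 (flp_i L12522) (flp_h L9207) (flp_i L9104) L12379 L16832
theorem L16853 : sm gf N1551 = N2115 := rfl
theorem L16855 : sm ga N2115 = N2115 := ded_13_1 (flp_f L16853) L12410 L16853
theorem L16856 : sm gb N2115 = N1552 := ded_20_1 (flp_f L12411) L12406 L16853
theorem L16858 : sm gd N2115 = N1608 := ded_31_1 (flp_f L12816) (flp_d L12408) L16853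
theorem L16860 : sm gh N1551 = N2116 := rfl
theorem L16862 : sm ga N2116 = N2116 := ded_15_1 (flp_h L16860) L12410 L16860
theorem L16863 : sm gb N2116 = N1553 := ded_22_1 (flp_h L12419) L12406 L16860
theorem L16865 : sm gd N2116 = N2116 := ded_33_1 (flp_h L16860) L12408 L9456 (flp_d L12408) L16860
theorem L16866 : sm ge N1552 = N2117 := rfl
theorem L16868 : sm ga N2117 = N1558 := ded_12_1 (flp_e L12451) (flp_a L12413) L16866
theorem L16872 : sm gg N1552 = N2118 := rfl
theorem L16874 : sm ga N2118 = N1559 := ded_14_1 (flp_g L12456) (flp_a L12413) L16872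
theorem L16876 : sm gc N2118 = N1555 := ded_27_1 (flp_g L12431) (flp_c L12415) L16872
theorem L16878 : sm gd N2118 = N1610 := ded_32_1 (flp_g L12831) (flp_d L12417) L16872
theorem L16880 : sm gh N1552 = N2119 := rfl
theorem L16886 : sm gf N2119 = N1553 := ded_40_1 (flp_h L12419) L12411 L16880
theorem L16889 : sm gi N1553 = N2120 := rfl
theorem L16891 : sm ga N2120 = N1561 := ded_16_1 (flp_i L12471) (flp_a L12421) L16889
theorem L16893 : sm gc N2120 = N1557 := ded_29_1 (flp_i L12445) (flp_c L12423) L16889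
theorem L16896 : sm gg N1554 = N2121 := rfl
theorem L16898 : sm ga N2121 = N1562 := ded_14_1 (flp_g L12477) (flp_a L12428) L16896
theorem L16901 : sm ge N2121 = N1555 := ded_36_1 (flp_g L12431) L12426 L16896
theorem L16903 : sm gh N1554 = N2122 := rfl
theorem L16905 : sm ga N2122 = N1563 := ded_15_1 (flp_h L12484) (flp_a L12428) L16903
theorem L16909 : sm gh N1555 = N2123 := rfl
theorem L16925 : sm gd N1558 = N2125 := rfl
theorem L16929 : sm ge N2125 = N1612 := ded_30_2 (flp_d L12847) (flp_e L9482) (flp_d L9168) L12451 L16925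
theorem L16931 : sm gg N1558 = N2126 := rfl
theorem L16936 : sm ge N2126 = N1559 := ded_36_1 (flp_g L12456) L12451 L16931
theorem L16938 : sm gh N1558 = N2127 := rfl
theorem L16941 : sm gc N2127 = N1563 := ded_28_1 (flp_h L12484) (flp_c L12454) L16938
theorem L16945 : sm gh N1559 = N2128 := rfl
theorem L16961 : sm gf N1562 = N2130 := rfl
theorem L16963 : sm gb N2130 = N1566 := ded_20_1 (flp_f L12506) (flp_b L12479) L16961
theorem L16966 : sm gh N1562 = N2131 := rfl
theorem L16970 : sm ge N2131 = N1564 := ded_37_1 (flp_h L12490) (flp_e L12482) L16966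
theorem L16974 : sm gd N1563 = N2132 := rfl
theorem L16978 : sm ge N2132 = N1577 := ded_30_2 (flp_d L12583) L9270 (flp_d L9193) (flp_e L12488) L16974
theorem L16995 : sm gh N1566 = N2135 := rfl
theorem L16998 : sm gf N2135 = N1567 := ded_40_1 (flp_h L12510) L12506 L16995
theorem L17000 : sm gd N1567 = N2136 := rfl
theorem L17002 : sm gg N2136 = N1568 := ded_32_2 (flp_d L12517) (flp_g L12515) L17000
theorem L17004 : sm ge N2136 = N1581 := ded_30_2 (flp_d L12613) L9299 (flp_d L9217) (flp_e L12513) L17000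
theorem L17014 : sm gc N1568 = N2138 := rfl
theorem L17016 : sm ge N2138 = N1583 := ded_25_2 (flp_c L12627) (flp_e L12519) L17014
theorem L17034 : sm gh N1571 = N2141 := rfl
theorem L17041 : sm gg N2141 = N1572 := ded_42_1 (flp_h L12543) L12534 L17034
theorem L17043 : sm gd N1572 = N2142 := rfl
theorem L17045 : sm ga N2142 = N1577 := ded_11_1 (flp_d L12583) (flp_a L12545) L17043
theorem L17066 : sm gh N1575 = N2145 := rfl
theorem L17071 : sm gf N2145 = N1576 := ded_40_1 (flp_h L12574) L12566 L17066
theorem L17074 : sm gd N1576 = N2146 := rfl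
theorem L17076 : sm gb N2146 = N1581 := ded_18_1 (flp_d L12613) (flp_b L12576) L17074
theorem L17078 : sm gg N2146 = N1577 := ded_32_2 (flp_d L12583) (flp_g L12581) L17074
theorem L17091 : sm gc N1577 = N2148 := rfl
theorem L17096 : sm gi N1577 = N2149 := rfl
theorem L17103 : sm gd N1580 = N2150 := rfl
theorem L17105 : sm gf N2150 = N1581 := ded_31_2 (flp_d L12613) (flp_f L12610) L17103
theorem L17117 : sm gc N1581 = N2152 := rfl
theorem L17119 : sm gg N2152 = N1583 := ded_27_2 (flp_c L12627) (flp_g L12615) L17117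
theorem L17130 : sm gb N1583 = N2154 := rfl
theorem L17132 : sm gd N2154 = N1589 := ded_18_2 (flp_b L12668) (flp_d L12631) L17130
theorem L17136 : sm gi N1583 = N2155 := rfl
theorem L17140 : sm gd N2155 = N1590 := ded_34_1 (flp_i L12675) (flp_d L12631) L17136
theorem L17148 : sm gc N1585 = N2157 := rfl
theorem L17153 : sm gh N2157 = N1640 := ded_28_2 (flp_c L13069) (flp_h L12644) L17148
theorem L17155 : sm ge N1585 = N2158 := rfl
theorem L17159 : sm gh N2158 = N1641 := ded_37_2 (flp_e L13075) (flp_h L12644) L17155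
theorem L17170 : sm gb N1587 = N2160 := rfl
theorem L17173 : sm gg N2160 = N1589 := ded_21_2 (flp_b L12668) (flp_g L12656) L17170
theorem L17175 : sm gh N2160 = N1643 := ded_22_2 (flp_b L13089) (flp_h L12658) L17170
theorem L17178 : sm gi N1587 = N2161 := rfl
theorem L17183 : sm gg N2161 = N1590 := ded_43_1 (flp_i L12675) (flp_g L12656) L17178
theorem L17201 : sm gi N1589 = N2164 := rfl
theorem L17208 : sm gh N1590 = N2165 := rfl
theorem L17214 : sm gi N2165 = N1648 := ded_44_2 (flp_h L13125) (flp_i L9696) (flp_h L9348) L12675 L17208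
theorem L17216 : sm gf N1592 = N2166 := rfl
theorem L17218 : sm ga N2166 = N2166 := ded_13_1 (flp_f L17216) L12694 L17216
theorem L17219 : sm gb N2166 = N1593 := ded_20_1 (flp_f L12696) L12689 L17216
theorem L17221 : sm gc N2166 = N2166 := ded_26_1 (flp_f L17216) L12695 L17216
theorem L17222 : sm gi N2166 = N1608 := ded_41_2 (flp_f L12816) (flp_i L12692) L17216
theorem L17224 : sm gh N1592 = N2167 := rfl
theorem L17226 : sm ga N2167 = N2167 := ded_15_1 (flp_h L17224) L12694 L17224
theorem L17227 : sm gb N2167 = N1594 := ded_22_1 (flp_h L12704) L12689 L17224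
theorem L17229 : sm gc N2167 = N2167 := ded_28_1 (flp_h L17224) L12695 L17224
theorem L17230 : sm ge N2167 = N2167 := ded_37_1 (flp_h L17224) L12691 L17224
theorem L17231 : sm gi N2167 = N2167 := ded_44_2 (flp_h L17224) L12692 L9456 (flp_i L12692) L17224
theorem L17232 : sm ge N1593 = N2168 := rfl
theorem L17234 : sm ga N2168 = N1598 := ded_12_1 (flp_e L12739) (flp_a L12698) L17232
theorem L17236 : sm gc N2168 = N1595 := ded_25_1 (flp_e L12712) (flp_c L12700) L17232
theorem L17238 : sm gi N2168 = N1609 := ded_38_2 (flp_e L12823) (flp_i L12702) L17232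
theorem L17240 : sm gf N2168 = N2168 := ded_35_2 (flp_e L17232) (flp_f L12696) L9361 L12696 L17232
theorem L17241 : sm gg N1593 = N2169 := rfl
theorem L17243 : sm ga N2169 = N1599 := ded_14_1 (flp_g L12747) (flp_a L12698) L17241
theorem L17245 : sm gc N2169 = N1596 := ded_27_1 (flp_g L12721) (flp_c L12700) L17241
theorem L17247 : sm gi N2169 = N1610 := ded_43_2 (flp_g L12831) (flp_i L12702) L17241
theorem L17249 : sm gh N1593 = N2170 := rfl
theorem L17251 : sm ga N2170 = N1600 := ded_15_1 (flp_h L12754) (flp_a L12698) L17249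
theorem L17253 : sm gc N2170 = N1597 := ded_28_1 (flp_h L12730) (flp_c L12700) L17249
theorem L17255 : sm gf N2170 = N1594 := ded_40_1 (flp_h L12704) L12696 L17249
theorem L17257 : sm gi N2170 = N2170 := ded_44_2 (flp_h L17249) L12702 L9465 (flp_i L12702) L17249
theorem L17258 : sm gd N1594 = N2171 := rfl
theorem L17260 : sm ga N2171 = N1601 := ded_11_1 (flp_d L12762) (flp_a L12706) L17258
theorem L17262 : sm gi N2171 = N2171 := ded_34_2 (flp_d L17258) L12711 L17258
theorem L17263 : sm gc N2171 = N2171 := ded_24_1 (flp_d L17258) L12708 L9379 (flp_c L12708) L17258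
theorem L17264 : sm gg N1595 = N2172 := rfl
theorem L17266 : sm ga N2172 = N1602 := ded_14_1 (flp_g L12767) (flp_a L12714) L17264
theorem L17268 : sm gb N2172 = N2172 := ded_21_1 (flp_g L17264) L12716 L17264
theorem L17269 : sm gd N2172 = N2172 := ded_32_1 (flp_g L17264) L12719 L17264
theorem L17270 : sm ge N2172 = N1596 := ded_36_1 (flp_g L12721) L12712 L17264
theorem L17272 : sm gi N2172 = N1611 := ded_43_2 (flp_g L12838) (flp_i L12717) L17264
theorem L17274 : sm gh N1595 = N2173 := rfl
theorem L17276 : sm ga N2173 = N1603 := ded_15_1 (flp_h L12776) (flp_a L12714) L17274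
theorem L17278 : sm gb N2173 = N2173 := ded_22_1 (flp_h L17274) L12716 L17274
theorem L17279 : sm ge N2173 = N1597 := ded_37_1 (flp_h L12730) L12712 L17274
theorem L17281 : sm gf N2173 = N2173 := ded_40_1 (flp_h L17274) L12720 L17274
theorem L17282 : sm gi N2173 = N2173 := ded_44_2 (flp_h L17274) L12717 L9471 (flp_i L12717) L17274
theorem L17283 : sm gh N1596 = N2174 := rfl
theorem L17285 : sm ga N2174 = N1604 := ded_15_1 (flp_h L12784) (flp_a L12723) L17283
theorem L17287 : sm gb N2174 = N2174 := ded_22_1 (flp_h L17283) L12725 L17283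
theorem L17288 : sm gg N2174 = N1597 := ded_42_1 (flp_h L12730) L12721 L17283
theorem L17290 : sm gd N2174 = N2174 := ded_33_1 (flp_h L17283) L12726 L9387 (flp_d L12726) L17283
theorem L17291 : sm gi N2174 = N2174 := ded_44_2 (flp_h L17283) L12728 L9481 (flp_i L12728) L17283
theorem L17292 : sm gd N1598 = N2175 := rfl
theorem L17294 : sm gb N2175 = N2175 := ded_18_1 (flp_d L17292) L12741 L17292
theorem L17295 : sm gf N2175 = N2175 := ded_31_2 (flp_d L17292) L12746 L17292
theorem L17296 : sm gi N2175 = N1612 := ded_34_2 (flp_d L12847) (flp_i L12744) L17292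
theorem L17298 : sm gc N2175 = N2175 := ded_24_1 (flp_d L17292) L12742 L9410 (flp_c L12742) L17292
theorem L17299 : sm gg N1598 = N2176 := rfl
theorem L17301 : sm gb N2176 = N2176 := ded_21_1 (flp_g L17299) L12741 L17299
theorem L17302 : sm gc N2176 = N1602 := ded_27_1 (flp_g L12767) (flp_c L12742) L17299
theorem L17304 : sm ge N2176 = N1599 := ded_36_1 (flp_g L12747) L12739 L17299
theorem L17306 : sm gi N2176 = N1613 := ded_43_2 (flp_g L12852) (flp_i L12744) L17299
theorem L17308 : sm gh N1598 = N2177 := rfl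
theorem L17310 : sm gb N2177 = N2177 := ded_22_1 (flp_h L17308) L12741 L17308
theorem L17311 : sm gc N2177 = N1603 := ded_28_1 (flp_h L12776) (flp_c L12742) L17308
theorem L17313 : sm ge N2177 = N1600 := ded_37_1 (flp_h L12754) L12739 L17308
theorem L17315 : sm gf N2177 = N2177 := ded_40_1 (flp_h L17308) L12746 L17308
theorem L17316 : sm gi N2177 = N2177 := ded_44_2 (flp_h L17308) L12744 L9487 (flp_i L12744) L17308
theorem L17317 : sm gh N1599 = N2178 := rfl
theorem L17319 : sm gb N2178 = N2178 := ded_22_1 (flp_h L17317) L12749 L17317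
theorem L17320 : sm gc N2178 = N1604 := ded_28_1 (flp_h L12784) (flp_c L12750) L17317
theorem L17322 : sm gg N2178 = N1600 := ded_42_1 (flp_h L12754) L12747 L17317
theorem L17324 : sm gi N2178 = N2178 := ded_44_2 (flp_h L17317) L12752 L9494 (flp_i L12752) L17317
theorem L17325 : sm gd N1600 = N2179 := rfl
theorem L17327 : sm gb N2179 = N2179 := ded_18_1 (flp_d L17325) L12756 L17325
theorem L17328 : sm gf N2179 = N1601 := ded_31_2 (flp_d L12762) (flp_f L12759) L17325
theorem L17330 : sm gi N2179 = N2179 := ded_34_2 (flp_d L17325) L12761 L17325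
theorem L17331 : sm gc N2179 = N2179 := ded_24_1 (flp_d L17325) L12757 L9426 (flp_c L12757) L17325
theorem L17332 : sm ge N1601 = N2180 := rfl
theorem L17334 : sm gb N2180 = N2180 := ded_19_1 (flp_e L17332) L12764 L17332
theorem L17335 : sm gc N2180 = N2180 := ded_25_1 (flp_e L17332) L12766 L17332
theorem L17336 : sm gi N2180 = N2180 := ded_38_2 (flp_e L17332) L12765 L17332
theorem L17337 : sm gd N2180 = N2180 := ded_30_1 (flp_e L17332) (flp_d L12762) L9402 L12762 L17332
theorem L17338 : sm gf N1602 = N2181 := rfl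
theorem L17340 : sm gb N2181 = N1605 := ded_20_1 (flp_f L12792) (flp_b L12769) L17338
theorem L17342 : sm gd N2181 = N2181 := ded_31_1 (flp_f L17338) L12771 L17338
theorem L17343 : sm gi N2181 = N1614 := ded_41_2 (flp_f L12860) (flp_i L12774) L17338
theorem L17345 : sm gg N2181 = N2181 := ded_39_2 (flp_f L17338) (flp_g L12767) L9411 L12767 L17338
theorem L17346 : sm gh N1602 = N2182 := rfl
theorem L17348 : sm gb N2182 = N1606 := ded_22_1 (flp_h L12800) (flp_b L12769) L17346
theorem L17350 : sm ge N2182 = N1604 := ded_37_1 (flp_h L12784) (flp_e L12772) L17346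
theorem L17352 : sm gg N2182 = N1603 := ded_42_1 (flp_h L12776) L12767 L17346
theorem L17354 : sm gi N2182 = N2182 := ded_44_2 (flp_h L17346) L12774 L9502 (flp_i L12774) L17346
theorem L17355 : sm gd N1603 = N2183 := rfl
theorem L17357 : sm gb N2183 = N1607 := ded_18_1 (flp_d L12809) (flp_b L12778) L17355
theorem L17359 : sm gf N2183 = N2183 := ded_31_2 (flp_d L17355) L12782 L17355
theorem L17360 : sm gi N2183 = N2183 := ded_34_2 (flp_d L17355) L12783 L17355
theorem L17361 : sm ge N2183 = N2183 := ded_30_2 (flp_d L17355) L12780 L9426 (flp_e L12780) L17355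
theorem L17362 : sm gh N2183 = N2183 := ded_33_2 (flp_d L17355) (flp_h L12776) L9410 L12776 L17355
theorem L17363 : sm gh N1605 = N2184 := rfl
theorem L17367 : sm gf N2184 = N1606 := ded_40_1 (flp_h L12800) L12792 L17363
theorem L17371 : sm gd N1606 = N2185 := rfl
theorem L17374 : sm gg N2185 = N1607 := ded_32_2 (flp_d L12809) (flp_g L12806) L17371
theorem L17379 : sm gc N1607 = N2186 := rfl
theorem L17387 : sm ge N1608 = N2187 := rfl
theorem L17389 : sm ga N2187 = N2187 := ded_12_1 (flp_e L17387) L12818 L17387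
theorem L17390 : sm gb N2187 = N1609 := ded_19_1 (flp_e L12823) (flp_b L12819) L17387
theorem L17392 : sm gc N2187 = N2187 := ded_25_1 (flp_e L17387) L12821 L17387
theorem L17393 : sm gh N2187 = N2187 := ded_37_2 (flp_e L17387) L12822 L17387
theorem L17394 : sm gf N2187 = N2187 := ded_35_2 (flp_e L17387) (flp_f L12816) L9455 L12816 L17387
theorem L17395 : sm gg N1608 = N2188 := rfl
theorem L17397 : sm ga N2188 = N2188 := ded_14_1 (flp_g L17395) L12818 L17395
theorem L17398 : sm gb N2188 = N1610 := ded_21_1 (flp_g L12831) (flp_b L12819) L17395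
theorem L17400 : sm gc N2188 = N2188 := ded_27_1 (flp_g L17395) L12821 L17395
theorem L17401 : sm gh N2188 = N2188 := ded_42_2 (flp_g L17395) L12822 L17395
theorem L17402 : sm gd N1609 = N2189 := rfl
theorem L17404 : sm ga N2189 = N1612 := ded_11_1 (flp_d L12847) (flp_a L12825) L17402
theorem L17406 : sm gf N2189 = N2189 := ded_31_2 (flp_d L17402) L12830 L17402
theorem L17407 : sm gc N2189 = N2189 := ded_24_1 (flp_d L17402) L12827 L9472 (flp_c L12827) L17402
theorem L17408 : sm gg N1609 = N2190 := rfl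
theorem L17410 : sm ga N2190 = N1613 := ded_14_1 (flp_g L12852) (flp_a L12825) L17408
theorem L17412 : sm gc N2190 = N1611 := ded_27_1 (flp_g L12838) (flp_c L12827) L17408
theorem L17414 : sm ge N2190 = N1610 := ded_36_1 (flp_g L12831) L12823 L17408
theorem L17416 : sm gh N2190 = N2190 := ded_42_2 (flp_g L17408) L12829 L17408
theorem L17417 : sm gf N1611 = N2191 := rfl
theorem L17419 : sm ga N2191 = N1614 := ded_13_1 (flp_f L12860) (flp_a L12840) L17417
theorem L17421 : sm gb N2191 = N2191 := ded_20_1 (flp_f L17417) L12842 L17417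
theorem L17422 : sm gd N2191 = N2191 := ded_31_1 (flp_f L17417) L12843 L17417
theorem L17423 : sm gh N2191 = N2191 := ded_40_2 (flp_f L17417) L12846 L17417
theorem L17424 : sm gg N2191 = N2191 := ded_39_2 (flp_f L17417) (flp_g L12838) L9473 L12838 L17417
theorem L17425 : sm gg N1612 = N2192 := rfl
theorem L17427 : sm gb N2192 = N2192 := ded_21_1 (flp_g L17425) L12849 L17425
theorem L17428 : sm gc N2192 = N2192 := ded_27_1 (flp_g L17425) L12851 L17425
theorem L17429 : sm gd N2192 = N1613 := ded_32_1 (flp_g L12852) L12847 L17425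
theorem L17431 : sm gh N1612 = N2193 := rfl
theorem L17437 : sm gf N1613 = N2194 := rfl
theorem L17439 : sm gb N2194 = N2194 := ded_20_1 (flp_f L17437) L12854 L17437
theorem L17440 : sm gc N2194 = N1614 := ded_26_1 (flp_f L12860) (flp_c L12855) L17437
theorem L17442 : sm gh N2194 = N2194 := ded_40_2 (flp_f L17437) L12859 L17437
theorem L17443 : sm gg N2194 = N2194 := ded_39_2 (flp_f L17437) (flp_g L12852) L9488 L12852 L17437
theorem L17444 : sm gf N1615 = N2195 := rfl
theorem L17448 : sm gd N2195 = N1617 := ded_31_1 (flp_f L12881) (flp_d L12871) L17444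
theorem L17452 : sm gh N1615 = N2196 := rfl
theorem L17457 : sm gg N2196 = N1616 := ded_42_1 (flp_h L12875) L12867 L17452
theorem L17459 : sm gd N1616 = N2197 := rfl
theorem L17464 : sm gh N2197 = N1619 := ded_33_2 (flp_d L12900) (flp_h L9526) L9510 L12875 L17459
theorem L17473 : sm gh N1617 = N2199 := rfl
theorem L17480 : sm gf N2199 = N1618 := ded_40_1 (flp_h L12890) L12881 L17473
theorem L17483 : sm gd N1618 = N2200 := rfl
theorem L17487 : sm gg N2200 = N1619 := ded_32_2 (flp_d L12900) (flp_g L12898) L17483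
theorem L17489 : sm gi N1618 = N2201 := rfl
theorem L17497 : sm gg N2201 = N1620 := ded_43_1 (flp_i L12905) (flp_g L12898) L17489
theorem L17500 : sm gc N1619 = N2202 := rfl
theorem L17504 : sm gd N2202 = N1631 := ded_24_2 (flp_c L13000) (flp_d L9594) (flp_c L9530) L12900 L17500
theorem L17506 : sm ge N1619 = N2203 := rfl
theorem L17512 : sm gi N1619 = N2204 := rfl
theorem L17586 : sm gd N1628 = N2213 := rfl
theorem L17591 : sm gf N2213 = N1629 := ded_31_2 (flp_d L12982) (flp_f L12979) L17586
theorem L17594 : sm gi N1628 = N2214 := rfl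
theorem L17599 : sm ge N2214 = N2214 := ded_38_1 (flp_i L17594) L12978 L17594
theorem L17600 : sm gf N2214 = N1630 := ded_41_1 (flp_i L12990) (flp_f L12979) L17594
theorem L17603 : sm gh N2214 = N2214 := ded_44_1 (flp_i L17594) (flp_h L12973) L9582 L12973 L17594
theorem L17604 : sm gc N1629 = N2215 := rfl
theorem L17608 : sm gg N2215 = N1631 := ded_27_2 (flp_c L13000) (flp_g L12987) L17604
theorem L17610 : sm gi N1629 = N2216 := rfl
theorem L17618 : sm gg N2216 = N1632 := ded_43_1 (flp_i L13005) (flp_g L12987) L17610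
theorem L17620 : sm gb N1631 = N2217 := rfl
theorem L17624 : sm gc N2217 = N1637 := ded_17_2 (flp_b L13048) (flp_c L9646) (flp_b L9597) L13000 L17620
theorem L17633 : sm gh N1632 = N2219 := rfl
theorem L17636 : sm gb N2219 = N1639 := ded_22_1 (flp_h L13062) (flp_b L13008) L17633
theorem L17641 : sm gc N1633 = N2220 := rfl
theorem L17643 : sm ga N2220 = N1640 := ded_10_1 (flp_c L13069) (flp_a L13016) L17641
theorem L17645 : sm gf N2220 = N1635 := ded_26_2 (flp_c L13031) (flp_f L13018) L17641
theorem L17656 : sm gi N1633 = N2222 := rfl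
theorem L17662 : sm gf N2222 = N1636 := ded_41_1 (flp_i L13039) (flp_f L13018) L17656
theorem L17665 : sm gb N1635 = N2223 := rfl
theorem L17671 : sm gi N1635 = N2224 := rfl
theorem L17679 : sm gg N2224 = N1638 := ded_43_1 (flp_i L13053) (flp_g L13036) L17671
theorem L17689 : sm ga N1637 = N2226 := rfl
theorem L17711 : sm gb N1640 = N2229 := rfl
theorem L17714 : sm gf N2229 = N1643 := ded_20_2 (flp_b L13089) (flp_f L13071) L17711
theorem L17718 : sm ge N1640 = N2230 := rfl
theorem L17724 : sm gi N1640 = N2231 := rfl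
theorem L17726 : sm gc N2231 = N1642 := ded_29_1 (flp_i L13081) L13069 L17724
theorem L17729 : sm gf N2231 = N1644 := ded_41_1 (flp_i L13096) (flp_f L13071) L17724
theorem L17732 : sm gi N1641 = N2232 := rfl
theorem L17736 : sm ge N2232 = N1642 := ded_38_1 (flp_i L13081) L13075 L17732
theorem L17754 : sm gi N1643 = N2235 := rfl
theorem L17763 : sm gh N1644 = N2236 := rfl
theorem L17768 : sm gg N2236 = N1648 := ded_42_1 (flp_h L13125) (flp_g L13102) L17763
theorem L17778 : sm gh N1647 = N2238 := rfl
theorem L17780 : sm gb N2238 = N1648 := ded_22_1 (flp_h L13125) (flp_b L13119) L17778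
theorem L17785 : sm gd N1648 = N2239 := rfl
theorem L17790 : sm gd N1649 = N2240 := rfl
theorem L17792 : sm ga N2240 = N1650 := ded_11_1 (flp_d L13140) (flp_a L13133) L17790
theorem L17794 : sm gb N2240 = N1777 := ded_18_1 (flp_d L14201) (flp_b L13135) L17790
theorem L17796 : sm gg N2240 = N2240 := ded_32_2 (flp_d L17790) L13138 L17790
theorem L17797 : sm gf N1649 = N2241 := rfl
theorem L17799 : sm ga N2241 = N1651 := ded_13_1 (flp_f L13145) (flp_a L13133) L17797
theorem L17801 : sm gb N2241 = N1778 := ded_20_1 (flp_f L14206) (flp_b L13135) L17797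
theorem L17803 : sm gc N2241 = N2241 := ded_26_1 (flp_f L17797) L13137 L17797
theorem L17804 : sm gh N2241 = N2241 := ded_40_2 (flp_f L17797) L13139 L17797
theorem L17805 : sm ge N2241 = N2241 := ded_35_1 (flp_f L17797) (flp_e L13131) L9712 L13131 L17797
theorem L17806 : sm gc N1650 = N2242 := rfl
theorem L17808 : sm gg N2242 = N2242 := ded_27_2 (flp_c L17806) L13144 L17806
theorem L17809 : sm gb N2242 = N1657 := ded_17_1 (flp_c L13195) L9761 (flp_c L9729) (flp_b L13142) L17806
theorem L17811 : sm gd N2242 = N2242 := ded_24_2 (flp_c L17806) (flp_d L13140) L9721 L13140 L17806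
theorem L17812 : sm gf N1650 = N2243 := rfl
theorem L17814 : sm gb N2243 = N1652 := ded_20_1 (flp_f L13152) (flp_b L13142) L17812
theorem L17816 : sm gd N2243 = N1651 := ded_31_1 (flp_f L13145) L13140 L17812
theorem L17818 : sm gh N1650 = N2244 := rfl
theorem L17820 : sm gb N2244 = N1653 := ded_22_1 (flp_h L13160) (flp_b L13142) L17818
theorem L17822 : sm gg N2244 = N2244 := ded_42_1 (flp_h L17818) L13144 L17818
theorem L17823 : sm gd N2244 = N2244 := ded_33_1 (flp_h L17818) (flp_d L13140) L9723 L13140 L17818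
theorem L17824 : sm gg N1651 = N2245 := rfl
theorem L17832 : sm ge N1652 = N2246 := rfl
theorem L17834 : sm ga N2246 = N1783 := ded_12_1 (flp_e L14242) (flp_a L13154) L17832
theorem L17836 : sm gc N2246 = N1661 := ded_25_1 (flp_e L13222) (flp_c L13156) L17832
theorem L17838 : sm gd N2246 = N2246 := ded_30_1 (flp_e L17832) L13158 L9738 (flp_d L13158) L17832
theorem L17839 : sm gg N1652 = N2247 := rfl
theorem L17841 : sm ga N2247 = N1784 := ded_14_1 (flp_g L14247) (flp_a L13154) L17839
theorem L17843 : sm gc N2247 = N1662 := ded_27_1 (flp_g L13228) (flp_c L13156) L17839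
theorem L17848 : sm gh N1652 = N2248 := rfl
theorem L17850 : sm ga N2248 = N1785 := ded_15_1 (flp_h L14254) (flp_a L13154) L17848
theorem L17852 : sm gc N2248 = N1663 := ded_28_1 (flp_h L13235) (flp_c L13156) L17848
theorem L17854 : sm gf N2248 = N1653 := ded_40_1 (flp_h L13160) L13152 L17848
theorem L17856 : sm gd N2248 = N2248 := ded_33_1 (flp_h L17848) L13158 L9737 (flp_d L13158) L17848
theorem L17857 : sm gi N1653 = N2249 := rfl
theorem L17859 : sm ga N2249 = N1786 := ded_16_1 (flp_i L14261) (flp_a L13162) L17857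
theorem L17861 : sm gc N2249 = N1664 := ded_29_1 (flp_i L13243) (flp_c L13164) L17857
theorem L17863 : sm gd N2249 = N2249 := ded_34_1 (flp_i L17857) L13167 L17857
theorem L17864 : sm gg N2249 = N2249 := ded_43_1 (flp_i L17857) L13166 L17857
theorem L17865 : sm gc N1655 = N2250 := rfl
theorem L17867 : sm ga N2250 = N1657 := ded_10_1 (flp_c L13195) (flp_a L13179) L17865
theorem L17869 : sm gg N2250 = N2250 := ded_27_2 (flp_c L17865) L13183 L17865
theorem L17870 : sm gd N2250 = N2250 := ded_24_2 (flp_c L17865) (flp_d L13177) L9755 L13177 L17865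
theorem L17871 : sm gf N1655 = N2251 := rfl
theorem L17873 : sm ga N2251 = N1658 := ded_13_1 (flp_f L13199) (flp_a L13179) L17871
theorem L17875 : sm gb N2251 = N1798 := ded_20_1 (flp_f L14371) (flp_b L13181) L17871
theorem L17877 : sm gd N2251 = N1656 := ded_31_1 (flp_f L13184) L13177 L17871
theorem L17879 : sm gh N1655 = N2252 := rfl
theorem L17881 : sm ga N2252 = N1659 := ded_15_1 (flp_h L13205) (flp_a L13179) L17879
theorem L17883 : sm gb N2252 = N1799 := ded_22_1 (flp_h L14377) (flp_b L13181) L17879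
theorem L17885 : sm gg N2252 = N2252 := ded_42_1 (flp_h L17879) L13183 L17879
theorem L17886 : sm gd N2252 = N1681 := ded_33_1 (flp_h L13378) (flp_d L9875) (flp_h L9757) L13177 L17879
theorem L17900 : sm gf N1657 = N2254 := rfl
theorem L17902 : sm gc N2254 = N1658 := ded_26_1 (flp_f L13199) L13195 L17900
theorem L17904 : sm gd N2254 = N2254 := ded_31_1 (flp_f L17900) L13198 L17900
theorem L17905 : sm gh N1657 = N2255 := rfl
theorem L17907 : sm gc N2255 = N1659 := ded_28_1 (flp_h L13205) L13195 L17905
theorem L17909 : sm gg N2255 = N2255 := ded_42_1 (flp_h L17905) L13197 L17905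
theorem L17910 : sm ge N1658 = N2256 := rfl
theorem L17912 : sm gb N2256 = N1661 := ded_19_1 (flp_e L13222) (flp_b L13201) L17910
theorem L17914 : sm gd N2256 = N1671 := ded_30_1 (flp_e L13299) L9824 (flp_e L9771) (flp_d L13203) L17910
theorem L17916 : sm gg N1658 = N2257 := rfl
theorem L17920 : sm gd N2257 = N1660 := ded_32_1 (flp_g L13212) (flp_d L13203) L17916
theorem L17923 : sm gh N1658 = N2258 := rfl
theorem L17925 : sm gb N2258 = N1663 := ded_22_1 (flp_h L13235) (flp_b L13201) L17923
theorem L17927 : sm gf N2258 = N1659 := ded_40_1 (flp_h L13205) L13199 L17923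
theorem L17929 : sm gd N2258 = N1687 := ded_33_1 (flp_h L13427) L9905 (flp_h L9769) (flp_d L13203) L17923
theorem L17931 : sm gi N1659 = N2259 := rfl
theorem L17933 : sm gb N2259 = N1664 := ded_23_1 (flp_i L13243) (flp_b L13207) L17931
theorem L17935 : sm gd N2259 = N1688 := ded_34_1 (flp_i L13433) (flp_d L13210) L17931
theorem L17937 : sm gg N2259 = N2259 := ded_43_1 (flp_i L17931) L13209 L17931
theorem L17938 : sm gg N1661 = N2260 := rfl
theorem L17940 : sm ga N2260 = N1807 := ded_14_1 (flp_g L14434) (flp_a L13224) L17938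
theorem L17942 : sm gd N2260 = N1675 := ded_32_1 (flp_g L13327) (flp_d L13226) L17938
theorem L17944 : sm ge N2260 = N1662 := ded_36_1 (flp_g L13228) L13222 L17938
theorem L17946 : sm gh N1661 = N2261 := rfl
theorem L17948 : sm ga N2261 = N1808 := ded_15_1 (flp_h L14440) (flp_a L13224) L17946
theorem L17950 : sm ge N2261 = N1663 := ded_37_1 (flp_h L13235) L13222 L17946
theorem L17952 : sm gh N1662 = N2262 := rfl
theorem L17954 : sm ga N2262 = N1809 := ded_15_1 (flp_h L14444) (flp_a L13230) L17952
theorem L17957 : sm gg N2262 = N1663 := ded_42_1 (flp_h L13235) L13228 L17952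
theorem L17959 : sm gd N2262 = N1691 := ded_33_1 (flp_h L13458) L9937 (flp_h L9794) (flp_d L13232) L17952
theorem L17961 : sm gi N1663 = N2263 := rfl
theorem L17963 : sm ga N2263 = N1810 := ded_16_1 (flp_i L14451) (flp_a L13237) L17961
theorem L17965 : sm gd N2263 = N1692 := ded_34_1 (flp_i L13466) (flp_d L13241) L17961
theorem L17967 : sm gf N2263 = N1664 := ded_41_1 (flp_i L13243) (flp_f L13239) L17961
theorem L17969 : sm gb N1665 = N2264 := rfl
theorem L17971 : sm gd N2264 = N2264 := ded_18_2 (flp_b L17969) L13256 L17969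
theorem L17972 : sm gg N2264 = N2000 := ded_21_2 (flp_b L15934) (flp_g L13254) L17969
theorem L17974 : sm ga N2264 = N2264 := ded_9_1 (flp_b L17969) L13252 L9818 (flp_a L13252) L17969
theorem L17975 : sm gc N2264 = N1825 := ded_17_2 (flp_b L14595) (flp_c L10748) (flp_b L9801) L13250 L17969
theorem L17977 : sm gf N1665 = N2265 := rfl
theorem L17979 : sm ga N2265 = N1669 := ded_13_1 (flp_f L13286) (flp_a L13252) L17977
theorem L17981 : sm gc N2265 = N1666 := ded_26_1 (flp_f L13257) L13250 L17977
theorem L17983 : sm gd N2265 = N2265 := ded_31_1 (flp_f L17977) L13256 L17977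
theorem L17984 : sm gh N1665 = N2266 := rfl
theorem L17988 : sm gc N2266 = N1667 := ded_28_1 (flp_h L13265) L13250 L17984
theorem L17992 : sm ge N1666 = N2267 := rfl
theorem L17994 : sm ga N2267 = N1671 := ded_12_1 (flp_e L13299) (flp_a L13259) L17992
theorem L17996 : sm gb N2267 = N1828 := ded_19_1 (flp_e L14619) (flp_b L13261) L17992
theorem L17998 : sm gg N1666 = N2268 := rfl
theorem L18000 : sm ga N2268 = N1672 := ded_14_1 (flp_g L13303) (flp_a L13259) L17998
theorem L18004 : sm gd N2268 = N1668 := ded_32_1 (flp_g L13275) (flp_d L13263) L17998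
theorem L18008 : sm gh N1666 = N2269 := rfl
theorem L18012 : sm gb N2269 = N1830 := ded_22_1 (flp_h L14631) (flp_b L13261) L18008
theorem L18014 : sm gf N2269 = N1667 := ded_40_1 (flp_h L13265) L13257 L18008
theorem L18016 : sm gd N2269 = N1697 := ded_33_1 (flp_h L13512) L9972 (flp_h L9812) (flp_d L13263) L18008
theorem L18018 : sm gi N1667 = N2270 := rfl
theorem L18020 : sm ga N2270 = N1674 := ded_16_1 (flp_i L13319) (flp_a L13267) L18018
theorem L18022 : sm gb N2270 = N1831 := ded_23_1 (flp_i L14639) (flp_b L13269) L18018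
theorem L18024 : sm gd N2270 = N1698 := ded_34_1 (flp_i L13520) (flp_d L13273) L18018
theorem L18028 : sm ge N1669 = N2271 := rfl
theorem L18030 : sm gb N2271 = N2271 := ded_19_1 (flp_e L18028) L13288 L18028
theorem L18031 : sm gc N2271 = N1671 := ded_25_1 (flp_e L13299) (flp_c L13289) L18028
theorem L18033 : sm gg N1669 = N2272 := rfl
theorem L18039 : sm gf N2272 = N2008 := ded_39_1 (flp_g L15991) (flp_f L11796) (flp_g L9816) L13286 L18033
theorem L18041 : sm gh N1669 = N2273 := rfl
theorem L18044 : sm gc N2273 = N1673 := ded_28_1 (flp_h L13311) (flp_c L13289) L18041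
theorem L18046 : sm gf N2273 = N1670 := ded_40_1 (flp_h L13292) L13286 L18041
theorem L18048 : sm gd N1670 = N2274 := rfl
theorem L18051 : sm gg N2274 = N2010 := ded_32_2 (flp_d L16004) (flp_g L13297) L18048
theorem L18053 : sm gc N2274 = N1702 := ded_24_1 (flp_d L13556) L10006 (flp_d L9832) (flp_c L13295) L18048
theorem L18056 : sm gi N1670 = N2275 := rfl
theorem L18063 : sm gg N1671 = N2276 := rfl
theorem L18069 : sm gh N1671 = N2277 := rfl
theorem L18073 : sm ge N2277 = N1673 := ded_37_1 (flp_h L13311) L13299 L18069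
theorem L18085 : sm gi N1673 = N2279 := rfl
theorem L18093 : sm gf N1675 = N2280 := rfl
theorem L18095 : sm ga N2280 = N1840 := ded_13_1 (flp_f L14707) (flp_a L13329) L18093
theorem L18098 : sm ge N2280 = N2016 := ded_35_1 (flp_f L16044) L11838 (flp_f L9855) (flp_e L13332) L18093
theorem L18100 : sm gh N1675 = N2281 := rfl
theorem L18105 : sm ge N2281 = N1677 := ded_37_1 (flp_h L13341) (flp_e L13332) L18100
theorem L18107 : sm gg N2281 = N1676 := ded_42_1 (flp_h L13334) L13327 L18100
theorem L18109 : sm gd N1676 = N2282 := rfl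
theorem L18111 : sm ga N2282 = N1842 := ded_11_1 (flp_d L14719) (flp_a L13336) L18109
theorem L18113 : sm ge N2282 = N1710 := ded_30_2 (flp_d L13622) L10055 (flp_d L9864) (flp_e L13339) L18109
theorem L18133 : sm gb N1679 = N2285 := rfl
theorem L18135 : sm gd N2285 = N2285 := ded_18_2 (flp_b L18133) L13368 L18133
theorem L18136 : sm ge N2285 = N2285 := ded_19_2 (flp_b L18133) L13365 L18133
theorem L18137 : sm gg N2285 = N2285 := ded_21_2 (flp_b L18133) L13366 L18133
theorem L18138 : sm gi N2285 = N2285 := ded_23_2 (flp_b L18133) L13367 L18133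
theorem L18139 : sm ga N2285 = N2285 := ded_9_1 (flp_b L18133) L13363 L9899 (flp_a L13363) L18133
theorem L18140 : sm gc N2285 = N1845 := ded_17_2 (flp_b L14737) (flp_c L10849) (flp_b L9879) L13361 L18133
theorem L18142 : sm gf N1679 = N2286 := rfl
theorem L18144 : sm ga N2286 = N1683 := ded_13_1 (flp_f L13397) (flp_a L13363) L18142
theorem L18146 : sm gc N2286 = N1680 := ded_26_1 (flp_f L13369) L13361 L18142
theorem L18148 : sm gd N2286 = N2286 := ded_31_1 (flp_f L18142) L13368 L18142
theorem L18149 : sm gi N2286 = N2286 := ded_41_2 (flp_f L18142) L13367 L18142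
theorem L18150 : sm gh N1679 = N2287 := rfl
theorem L18152 : sm ga N2287 = N1684 := ded_15_1 (flp_h L13404) (flp_a L13363) L18150
theorem L18154 : sm gc N2287 = N1681 := ded_28_1 (flp_h L13378) L13361 L18150
theorem L18156 : sm ge N2287 = N2287 := ded_37_1 (flp_h L18150) L13365 L18150
theorem L18157 : sm gg N2287 = N2287 := ded_42_1 (flp_h L18150) L13366 L18150
theorem L18158 : sm ge N1680 = N2288 := rfl
theorem L18160 : sm ga N2288 = N1685 := ded_12_1 (flp_e L13411) (flp_a L13371) L18158
theorem L18162 : sm gb N2288 = N1848 := ded_19_1 (flp_e L14762) (flp_b L13373) L18158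
theorem L18165 : sm gd N2288 = N1695 := ded_30_1 (flp_e L13493) L9972 (flp_e L9892) (flp_d L13375) L18158
theorem L18168 : sm gg N1680 = N2289 := rfl
theorem L18170 : sm ga N2289 = N1686 := ded_14_1 (flp_g L13419) (flp_a L13371) L18168
theorem L18178 : sm gh N1680 = N2290 := rfl
theorem L18180 : sm ga N2290 = N1687 := ded_15_1 (flp_h L13427) (flp_a L13371) L18178
theorem L18182 : sm gb N2290 = N1850 := ded_22_1 (flp_h L14778) (flp_b L13373) L18178
theorem L18184 : sm gf N2290 = N1681 := ded_40_1 (flp_h L13378) L13369 L18178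
theorem L18186 : sm gi N1681 = N2291 := rfl
theorem L18188 : sm ga N2291 = N1688 := ded_16_1 (flp_i L13433) (flp_a L13380) L18186
theorem L18190 : sm gb N2291 = N1851 := ded_23_1 (flp_i L14784) (flp_b L13382) L18186
theorem L18192 : sm ge N2291 = N2291 := ded_38_1 (flp_i L18186) L13384 L18186
theorem L18193 : sm gg N2291 = N2291 := ded_43_1 (flp_i L18186) L13385 L18186
theorem L18194 : sm gh N2291 = N2291 := ded_44_1 (flp_i L18186) (flp_h L13378) L9882 L13378 L18186
theorem L18195 : sm ge N1683 = N2292 := rfl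
theorem L18198 : sm gc N2292 = N1685 := ded_25_1 (flp_e L13411) (flp_c L13400) L18195
theorem L18202 : sm gg N1683 = N2293 := rfl
theorem L18210 : sm gh N1683 = N2294 := rfl
theorem L18212 : sm gb N2294 = N2294 := ded_22_1 (flp_h L18210) L13399 L18210
theorem L18213 : sm gc N2294 = N1687 := ded_28_1 (flp_h L13427) (flp_c L13400) L18210
theorem L18215 : sm gf N2294 = N1684 := ded_40_1 (flp_h L13404) L13397 L18210
theorem L18217 : sm gd N1684 = N2295 := rfl
theorem L18219 : sm gb N2295 = N2295 := ded_18_1 (flp_d L18217) L13406 L18217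
theorem L18220 : sm gg N2295 = N2295 := ded_32_2 (flp_d L18217) L13410 L18217
theorem L18221 : sm gh N2295 = N2295 := ded_33_2 (flp_d L18217) (flp_h L13404) L9900 L13404 L18217
theorem L18222 : sm gi N1684 = N2296 := rfl
theorem L18224 : sm gb N2296 = N2296 := ded_23_1 (flp_i L18222) L13406 L18222
theorem L18225 : sm gc N2296 = N1688 := ded_29_1 (flp_i L13433) (flp_c L13407) L18222
theorem L18227 : sm ge N2296 = N2296 := ded_38_1 (flp_i L18222) L13409 L18222
theorem L18228 : sm gg N2296 = N2296 := ded_43_1 (flp_i L18222) L13410 L18222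
theorem L18229 : sm gh N2296 = N2296 := ded_44_1 (flp_i L18222) (flp_h L13404) L9898 L13404 L18222
theorem L18230 : sm gg N1685 = N2297 := rfl
theorem L18234 : sm gd N2297 = N1704 := ded_32_1 (flp_g L13573) (flp_d L13416) L18230
theorem L18236 : sm ge N2297 = N1686 := ded_36_1 (flp_g L13419) L13411 L18230
theorem L18239 : sm gh N1685 = N2298 := rfl
theorem L18241 : sm gb N2298 = N1690 := ded_22_1 (flp_h L13450) (flp_b L13413) L18239
theorem L18243 : sm ge N2298 = N1687 := ded_37_1 (flp_h L13427) L13411 L18239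
theorem L18246 : sm gh N1686 = N2299 := rfl
theorem L18253 : sm gi N1687 = N2300 := rfl
theorem L18255 : sm gb N2300 = N1692 := ded_23_1 (flp_i L13466) (flp_b L13429) L18253
theorem L18257 : sm gf N2300 = N1688 := ded_41_1 (flp_i L13433) (flp_f L13431) L18253
theorem L18259 : sm gh N2300 = N2300 := ded_44_1 (flp_i L18253) (flp_h L13427) L9907 L13427 L18253
theorem L18270 : sm gh N1689 = N2302 := rfl
theorem L18275 : sm ge N2302 = N1691 := ded_37_1 (flp_h L13458) (flp_e L13447) L18270
theorem L18277 : sm gg N2302 = N1690 := ded_42_1 (flp_h L13450) L13440 L18270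
theorem L18279 : sm gd N1690 = N2303 := rfl
theorem L18281 : sm ga N2303 = N1863 := ded_11_1 (flp_d L14874) (flp_a L13452) L18279
theorem L18284 : sm gh N2303 = N1710 := ded_33_2 (flp_d L13622) (flp_h L10049) (flp_d L9929) L13450 L18279
theorem L18286 : sm gi N1690 = N2304 := rfl
theorem L18295 : sm gi N1691 = N2305 := rfl
theorem L18297 : sm ga N2305 = N1865 := ded_16_1 (flp_i L14886) (flp_a L13460) L18295
theorem L18304 : sm ge N1693 = N2306 := rfl
theorem L18306 : sm ga N2306 = N1699 := ded_12_1 (flp_e L13530) (flp_a L13476) L18304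
theorem L18309 : sm gc N2306 = N1695 := ded_25_1 (flp_e L13493) (flp_c L13479) L18304
theorem L18313 : sm gg N1693 = N2307 := rfl
theorem L18315 : sm ga N2307 = N1700 := ded_14_1 (flp_g L13538) (flp_a L13476) L18313
theorem L18318 : sm gc N2307 = N1696 := ded_27_1 (flp_g L13501) (flp_c L13479) L18313
theorem L18324 : sm gh N1693 = N2308 := rfl
theorem L18331 : sm gf N2308 = N1694 := ded_40_1 (flp_h L13483) L13474 L18324
theorem L18333 : sm gd N1694 = N2309 := rfl
theorem L18335 : sm ga N2309 = N1702 := ded_11_1 (flp_d L13556) (flp_a L13485) L18333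
theorem L18338 : sm gg N2309 = N2024 := ded_32_2 (flp_d L16109) (flp_g L13491) L18333
theorem L18352 : sm gg N1695 = N2311 := rfl
theorem L18358 : sm ge N2311 = N1696 := ded_36_1 (flp_g L13501) L13493 L18352
theorem L18361 : sm gh N1695 = N2312 := rfl
theorem L18365 : sm gb N2312 = N1867 := ded_22_1 (flp_h L14901) (flp_b L13497) L18361
theorem L18367 : sm ge N2312 = N1697 := ded_37_1 (flp_h L13512) L13493 L18361
theorem L18370 : sm gh N1696 = N2313 := rfl
theorem L18376 : sm gf N2313 = N2028 := ded_40_1 (flp_h L16143) (flp_f L13510) L18370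
theorem L18378 : sm gg N2313 = N1697 := ded_42_1 (flp_h L13512) L13501 L18370
theorem L18380 : sm gi N1697 = N2314 := rfl
theorem L18389 : sm gd N1699 = N2315 := rfl
theorem L18391 : sm gb N2315 = N1713 := ded_18_1 (flp_d L13648) (flp_b L13532) L18389
theorem L18396 : sm gg N1699 = N2316 := rfl
theorem L18402 : sm ge N2316 = N1700 := ded_36_1 (flp_g L13538) L13530 L18396
theorem L18405 : sm gh N1699 = N2317 := rfl
theorem L18409 : sm gc N2317 = N1705 := ded_28_1 (flp_h L13580) (flp_c L13534) L18405
theorem L18411 : sm ge N2317 = N1701 := ded_37_1 (flp_h L13548) L13530 L18405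
theorem L18414 : sm gh N1700 = N2318 := rfl
theorem L18420 : sm gf N2318 = N2033 := ded_40_1 (flp_h L16186) (flp_f L13546) L18414
theorem L18422 : sm gg N2318 = N1701 := ded_42_1 (flp_h L13548) L13538 L18414
theorem L18424 : sm gd N1701 = N2319 := rfl
theorem L18428 : sm gf N2319 = N1702 := ded_31_2 (flp_d L13556) (flp_f L13554) L18424
theorem L18431 : sm gi N1701 = N2320 := rfl
theorem L18440 : sm ge N1702 = N2321 := rfl
theorem L18442 : sm gb N2321 = N1719 := ded_19_1 (flp_e L13695) (flp_b L13558) L18440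
theorem L18456 : sm gf N1704 = N2323 := rfl
theorem L18458 : sm gb N2323 = N1708 := ded_20_1 (flp_f L13602) (flp_b L13575) L18456
theorem L18464 : sm gh N1704 = N2324 := rfl
theorem L18470 : sm gg N2324 = N1705 := ded_42_1 (flp_h L13580) L13573 L18464
theorem L18472 : sm gd N1705 = N2325 := rfl
theorem L18494 : sm gh N1708 = N2328 := rfl
theorem L18502 : sm gf N2328 = N1709 := ded_40_1 (flp_h L13612) L13602 L18494
theorem L18505 : sm gd N1709 = N2329 := rfl
theorem L18509 : sm gg N2329 = N1710 := ded_32_2 (flp_d L13622) (flp_g L13620) L18505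
theorem L18511 : sm gi N1709 = N2330 := rfl
theorem L18519 : sm gg N2330 = N1711 := ded_43_1 (flp_i L13627) (flp_g L13620) L18511
theorem L18522 : sm gc N1710 = N2331 := rfl
theorem L18524 : sm ga N2331 = N1878 := ded_10_1 (flp_c L14990) (flp_a L13624) L18522
theorem L18527 : sm gd N2331 = N1729 := ded_24_2 (flp_c L13784) (flp_d L10169) (flp_c L10053) L13622 L18522
theorem L18536 : sm gg N1713 = N2333 := rfl
theorem L18540 : sm gd N2333 = N1714 := ded_32_1 (flp_g L13655) L13648 L18536
theorem L18544 : sm gh N1713 = N2334 := rfl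
theorem L18550 : sm gf N1714 = N2335 := rfl
theorem L18555 : sm gi N2335 = N2335 := ded_41_2 (flp_f L18550) L13662 L18550
theorem L18556 : sm ge N2335 = N2050 := ded_35_1 (flp_f L16316) L12038 (flp_f L10091) (flp_e L13660) L18550
theorem L18559 : sm gh N1714 = N2336 := rfl
theorem L18564 : sm ge N2336 = N1716 := ded_37_1 (flp_h L13671) (flp_e L13660) L18559
theorem L18566 : sm gg N2336 = N1715 := ded_42_1 (flp_h L13663) L13655 L18559
theorem L18568 : sm gd N1715 = N2337 := rfl
theorem L18581 : sm gd N1716 = N2339 := rfl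
theorem L18584 : sm gf N2339 = N2054 := ded_31_2 (flp_d L16345) (flp_f L13676) L18581
theorem L18586 : sm gg N2339 = N1717 := ded_32_2 (flp_d L13680) (flp_g L13678) L18581
theorem L18590 : sm gi N1716 = N2340 := rfl
theorem L18595 : sm gf N2340 = N2055 := ded_41_1 (flp_i L16352) (flp_f L13676) L18590
theorem L18599 : sm gh N2340 = N2340 := ded_44_1 (flp_i L18590) (flp_h L13671) L10090 L13671 L18590
theorem L18605 : sm gi N1717 = N2342 := rfl
theorem L18611 : sm gf N2342 = N1720 := ded_41_1 (flp_i L13703) (flp_f L13683) L18605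
theorem L18613 : sm gf N1719 = N2343 := rfl
theorem L18619 : sm gi N1719 = N2344 := rfl
theorem L18624 : sm ge N2344 = N1720 := ded_38_1 (flp_i L13703) L13695 L18619
theorem L18626 : sm gg N2344 = N2059 := ded_43_1 (flp_i L16379) (flp_g L13699) L18619
theorem L18628 : sm gh N1720 = N2345 := rfl
theorem L18636 : sm gh N1721 = N2346 := rfl
theorem L18641 : sm ge N2346 = N2061 := ded_37_1 (flp_h L16392) (flp_e L13718) L18636
theorem L18643 : sm gf N2346 = N1722 := ded_40_1 (flp_h L13721) L13711 L18636
theorem L18655 : sm gi N1722 = N2348 := rfl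
theorem L18665 : sm gc N1723 = N2349 := rfl
theorem L18698 : sm gc N1727 = N2353 := rfl
theorem L18700 : sm ga N2353 = N1882 := ded_10_1 (flp_c L15016) (flp_a L13769) L18698
theorem L18703 : sm gg N2353 = N1729 := ded_27_2 (flp_c L13784) (flp_g L13771) L18698
theorem L18715 : sm gb N1729 = N2355 := rfl
theorem L18736 : sm ge N1731 = N2358 := rfl
theorem L18738 : sm ga N2358 = N1732 := ded_12_1 (flp_e L13808) L13799 L18736
theorem L18740 : sm gc N2358 = N2358 := ded_25_1 (flp_e L18736) L13801 L18736
theorem L18741 : sm gg N2358 = N2358 := ded_36_2 (flp_e L18736) L13804 L18736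
theorem L18742 : sm gh N2358 = N1736 := ded_37_2 (flp_e L13840) (flp_h L13805) L18736
theorem L18744 : sm gi N2358 = N2358 := ded_38_2 (flp_e L18736) L13807 L18736
theorem L18745 : sm gd N1732 = N2359 := rfl
theorem L18747 : sm gb N2359 = N1733 := ded_18_1 (flp_d L13817) (flp_b L13810) L18745
theorem L18749 : sm gg N2359 = N2359 := ded_32_2 (flp_d L18745) L13813 L18745
theorem L18750 : sm gi N2359 = N2359 := ded_34_2 (flp_d L18745) L13816 L18745
theorem L18751 : sm ge N2359 = N2359 := ded_30_2 (flp_d L18745) (flp_e L13808) L10196 L13808 L18745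
theorem L18752 : sm gf N1732 = N2360 := rfl
theorem L18754 : sm gb N2360 = N1734 := ded_20_1 (flp_f L13823) (flp_b L13810) L18752
theorem L18756 : sm gc N2360 = N2360 := ded_26_1 (flp_f L18752) L13812 L18752
theorem L18757 : sm gh N2360 = N1738 := ded_40_2 (flp_f L13857) (flp_h L13814) L18752
theorem L18759 : sm gi N2360 = N2360 := ded_41_2 (flp_f L18752) L13816 L18752
theorem L18760 : sm ge N2360 = N2360 := ded_35_1 (flp_f L18752) (flp_e L13808) L10197 L13808 L18752
theorem L18761 : sm gf N1733 = N2361 := rfl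
theorem L18763 : sm gc N2361 = N2361 := ded_26_1 (flp_f L18761) L13821 L18761
theorem L18764 : sm gd N2361 = N1734 := ded_31_1 (flp_f L13823) L13817 L18761
theorem L18766 : sm gi N2361 = N2361 := ded_41_2 (flp_f L18761) L13820 L18761
theorem L18767 : sm gh N1733 = N2362 := rfl
theorem L18769 : sm gc N2362 = N2362 := ded_28_1 (flp_h L18767) L13821 L18767
theorem L18770 : sm ge N2362 = N2362 := ded_37_1 (flp_h L18767) L13822 L18767
theorem L18771 : sm gg N2362 = N2362 := ded_42_1 (flp_h L18767) L13819 L18767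
theorem L18772 : sm gd N2362 = N1740 := ded_33_1 (flp_h L13873) (flp_d L10236) (flp_h L10208) L13817 L18767
theorem L18774 : sm gg N1734 = N2363 := rfl
theorem L18776 : sm gc N2363 = N1735 := ded_27_1 (flp_g L13831) (flp_c L13825) L18774
theorem L18778 : sm ge N2363 = N2363 := ded_36_1 (flp_g L18774) L13830 L18774
theorem L18779 : sm gh N2363 = N1741 := ded_42_2 (flp_g L13880) (flp_h L13827) L18774
theorem L18781 : sm gi N2363 = N2363 := ded_43_2 (flp_g L18774) L13829 L18774
theorem L18782 : sm gf N2363 = N2363 := ded_39_1 (flp_g L18774) (flp_f L13823) L10207 L13823 L18774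
theorem L18783 : sm gd N1736 = N2364 := rfl
theorem L18785 : sm ga N2364 = N1737 := ded_11_1 (flp_d L13848) (flp_a L13842) L18783
theorem L18787 : sm gg N2364 = N2364 := ded_32_2 (flp_d L18783) L13845 L18783
theorem L18788 : sm gi N2364 = N2240 := ded_34_2 (flp_d L17790) (flp_i L13846) L18783
theorem L18790 : sm ge N2364 = N1777 := ded_30_2 (flp_d L14201) (flp_e L10482) (flp_d L10222) L13840 L18783
theorem L18792 : sm gf N1736 = N2365 := rfl
theorem L18794 : sm ga N2365 = N1738 := ded_13_1 (flp_f L13857) (flp_a L13842) L18792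
theorem L18796 : sm gc N2365 = N2365 := ded_26_1 (flp_f L18792) L13844 L18792
theorem L18797 : sm gi N2365 = N2241 := ded_41_2 (flp_f L17797) (flp_i L13846) L18792
theorem L18799 : sm ge N2365 = N2365 := ded_35_1 (flp_f L18792) (flp_e L13840) L10224 L13840 L18792
theorem L18800 : sm gc N1737 = N2366 := rfl
theorem L18802 : sm ge N2366 = N1779 := ded_25_2 (flp_c L14214) (flp_e L13855) L18800
theorem L18804 : sm gg N2366 = N2366 := ded_27_2 (flp_c L18800) L13852 L18800
theorem L18805 : sm gi N2366 = N2242 := ded_29_2 (flp_c L17806) (flp_i L13853) L18800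
theorem L18807 : sm gb N2366 = N1744 := ded_17_1 (flp_c L13907) L10272 (flp_c L10241) (flp_b L13850) L18800
theorem L18809 : sm gd N2366 = N2366 := ded_24_2 (flp_c L18800) (flp_d L13848) L10232 L13848 L18800
theorem L18810 : sm gf N1737 = N2367 := rfl
theorem L18812 : sm gb N2367 = N1739 := ded_20_1 (flp_f L13865) (flp_b L13850) L18810
theorem L18814 : sm gd N2367 = N1738 := ded_31_1 (flp_f L13857) L13848 L18810
theorem L18816 : sm gi N2367 = N2243 := ded_41_2 (flp_f L17812) (flp_i L13853) L18810
theorem L18818 : sm gh N1737 = N2368 := rfl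
theorem L18820 : sm gb N2368 = N1740 := ded_22_1 (flp_h L13873) (flp_b L13850) L18818
theorem L18822 : sm ge N2368 = N1781 := ded_37_1 (flp_h L14227) (flp_e L13855) L18818
theorem L18824 : sm gg N2368 = N2368 := ded_42_1 (flp_h L18818) L13852 L18818
theorem L18825 : sm gg N1738 = N2369 := rfl
theorem L18827 : sm gb N2369 = N1741 := ded_21_1 (flp_g L13880) (flp_b L13859) L18825
theorem L18829 : sm gc N2369 = N2369 := ded_27_1 (flp_g L18825) L13861 L18825
theorem L18830 : sm ge N2369 = N2369 := ded_36_1 (flp_g L18825) L13864 L18825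
theorem L18833 : sm gf N2369 = N2369 := ded_39_1 (flp_g L18825) (flp_f L13857) L10233 L13857 L18825
theorem L18834 : sm ge N1739 = N2370 := rfl
theorem L18836 : sm gc N2370 = N1748 := ded_25_1 (flp_e L13942) (flp_c L13867) L18834
theorem L18838 : sm gi N2370 = N2246 := ded_38_2 (flp_e L17832) (flp_i L13871) L18834
theorem L18840 : sm gd N2370 = N2370 := ded_30_1 (flp_e L18834) L13869 L10251 (flp_d L13869) L18834
theorem L18841 : sm gf N2370 = N1783 := ded_35_2 (flp_e L14242) (flp_f L10503) (flp_e L10243) L13865 L18834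
theorem L18843 : sm gg N1739 = N2371 := rfl
theorem L18845 : sm gc N2371 = N1749 := ded_27_1 (flp_g L13950) (flp_c L13867) L18843
theorem L18847 : sm gd N2371 = N1741 := ded_32_1 (flp_g L13880) (flp_d L13869) L18843
theorem L18849 : sm gi N2371 = N2247 := ded_43_2 (flp_g L17839) (flp_i L13871) L18843
theorem L18851 : sm gf N2371 = N2371 := ded_39_1 (flp_g L18843) (flp_f L13865) L10238 L13865 L18843
theorem L18852 : sm gh N1739 = N2372 := rfl
theorem L18854 : sm gc N2372 = N1750 := ded_28_1 (flp_h L13957) (flp_c L13867) L18852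
theorem L18856 : sm gf N2372 = N1740 := ded_40_1 (flp_h L13873) L13865 L18852
theorem L18858 : sm gi N1740 = N2373 := rfl
theorem L18860 : sm gc N2373 = N1751 := ded_29_1 (flp_i L13962) (flp_c L13875) L18858
theorem L18862 : sm ge N2373 = N1786 := ded_38_1 (flp_i L14261) (flp_e L13877) L18858
theorem L18864 : sm gg N2373 = N2373 := ded_43_1 (flp_i L18858) L13879 L18858
theorem L18865 : sm gh N2373 = N2249 := ded_44_1 (flp_i L17857) (flp_h L13160) (flp_i L10239) L13873 L18858
theorem L18867 : sm gc N1742 = N2374 := rfl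
theorem L18869 : sm ga N2374 = N1744 := ded_10_1 (flp_c L13907) (flp_a L13890) L18867
theorem L18871 : sm ge N2374 = N1797 := ded_25_2 (flp_c L14364) (flp_e L13895) L18867
theorem L18873 : sm gg N2374 = N2374 := ded_27_2 (flp_c L18867) L13892 L18867
theorem L18874 : sm gi N2374 = N2250 := ded_29_2 (flp_c L17865) (flp_i L13893) L18867
theorem L18876 : sm gd N2374 = N2374 := ded_24_2 (flp_c L18867) (flp_d L13888) L10265 L13888 L18867
theorem L18877 : sm gf N1742 = N2375 := rfl
theorem L18879 : sm ga N2375 = N1745 := ded_13_1 (flp_f L13915) (flp_a L13890) L18877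
theorem L18881 : sm gd N2375 = N1743 := ded_31_1 (flp_f L13897) L13888 L18877
theorem L18883 : sm gi N2375 = N2251 := ded_41_2 (flp_f L17871) (flp_i L13893) L18877
theorem L18885 : sm gh N1742 = N2376 := rfl
theorem L18887 : sm ga N2376 = N1746 := ded_15_1 (flp_h L13923) (flp_a L13890) L18885
theorem L18889 : sm ge N2376 = N1799 := ded_37_1 (flp_h L14377) (flp_e L13895) L18885
theorem L18891 : sm gg N2376 = N2376 := ded_42_1 (flp_h L18885) L13892 L18885
theorem L18892 : sm gd N2376 = N2376 := ded_33_1 (flp_h L18885) (flp_d L13888) L10267 L13888 L18885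
theorem L18893 : sm gg N1743 = N2377 := rfl
theorem L18895 : sm ga N2377 = N1747 := ded_14_1 (flp_g L13931) (flp_a L13899) L18893
theorem L18897 : sm gc N2377 = N2377 := ded_27_1 (flp_g L18893) L13901 L18893
theorem L18898 : sm ge N2377 = N1755 := ded_36_1 (flp_g L13998) (flp_e L13905) L18893
theorem L18900 : sm gh N2377 = N2377 := ded_42_2 (flp_g L18893) L13902 L18893
theorem L18903 : sm gf N2377 = N2377 := ded_39_1 (flp_g L18893) (flp_f L13897) L10266 L13897 L18893
theorem L18904 : sm gf N1744 = N2378 := rfl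
theorem L18906 : sm gc N2378 = N1745 := ded_26_1 (flp_f L13915) L13907 L18904
theorem L18908 : sm gd N2378 = N2378 := ded_31_1 (flp_f L18904) L13914 L18904
theorem L18909 : sm gi N2378 = N2254 := ded_41_2 (flp_f L17900) (flp_i L13912) L18904
theorem L18911 : sm gh N1744 = N2379 := rfl
theorem L18913 : sm gc N2379 = N1746 := ded_28_1 (flp_h L13923) L13907 L18911
theorem L18915 : sm ge N2379 = N1802 := ded_37_1 (flp_h L14401) (flp_e L13909) L18911
theorem L18917 : sm gg N2379 = N2379 := ded_42_1 (flp_h L18911) L13911 L18911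
theorem L18918 : sm ge N1745 = N2380 := rfl
theorem L18920 : sm gb N2380 = N1748 := ded_19_1 (flp_e L13942) (flp_b L13917) L18918
theorem L18922 : sm gi N2380 = N2256 := ded_38_2 (flp_e L17910) (flp_i L13921) L18918
theorem L18924 : sm gd N2380 = N1758 := ded_30_1 (flp_e L14025) L10343 (flp_e L10287) (flp_d L13919) L18918
theorem L18926 : sm gf N2380 = N1803 := ded_35_2 (flp_e L14406) (flp_f L10602) (flp_e L10277) L13915 L18918
theorem L18928 : sm gg N1745 = N2381 := rfl
theorem L18930 : sm gb N2381 = N1749 := ded_21_1 (flp_g L13950) (flp_b L13917) L18928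
theorem L18932 : sm gd N2381 = N1747 := ded_32_1 (flp_g L13931) (flp_d L13919) L18928
theorem L18934 : sm gi N2381 = N2257 := ded_43_2 (flp_g L17916) (flp_i L13921) L18928
theorem L18936 : sm gf N2381 = N2381 := ded_39_1 (flp_g L18928) (flp_f L13915) L10274 L13915 L18928
theorem L18937 : sm gh N1745 = N2382 := rfl
theorem L18939 : sm gb N2382 = N1750 := ded_22_1 (flp_h L13957) (flp_b L13917) L18937
theorem L18941 : sm gf N2382 = N1746 := ded_40_1 (flp_h L13923) L13915 L18937
theorem L18943 : sm gd N2382 = N2382 := ded_33_1 (flp_h L18937) L13919 L10284 (flp_d L13919) L18937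
theorem L18944 : sm gi N1746 = N2383 := rfl
theorem L18946 : sm gb N2383 = N1751 := ded_23_1 (flp_i L13962) (flp_b L13925) L18944
theorem L18948 : sm gd N2383 = N2383 := ded_34_1 (flp_i L18944) L13930 L18944
theorem L18949 : sm ge N2383 = N1806 := ded_38_1 (flp_i L14427) (flp_e L13927) L18944
theorem L18951 : sm gg N2383 = N2383 := ded_43_1 (flp_i L18944) L13929 L18944
theorem L18952 : sm gh N2383 = N2259 := ded_44_1 (flp_i L17931) (flp_h L13205) (flp_i L10275) L13923 L18944
theorem L18954 : sm gg N1748 = N2384 := rfl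
theorem L18956 : sm gd N2384 = N1762 := ded_32_1 (flp_g L14061) (flp_d L13946) L18954
theorem L18958 : sm ge N2384 = N1749 := ded_36_1 (flp_g L13950) L13942 L18954
theorem L18960 : sm gi N2384 = N2260 := ded_43_2 (flp_g L17938) (flp_i L13944) L18954
theorem L18962 : sm gh N1748 = N2385 := rfl
theorem L18964 : sm ge N2385 = N1750 := ded_37_1 (flp_h L13957) L13942 L18962
theorem L18966 : sm gf N2385 = N1808 := ded_40_1 (flp_h L14440) (flp_f L13948) L18962
theorem L18968 : sm gh N1749 = N2386 := rfl
theorem L18970 : sm gf N2386 = N2386 := ded_40_1 (flp_h L18968) L13956 L18968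
theorem L18971 : sm gg N2386 = N1750 := ded_42_1 (flp_h L13957) L13950 L18968
theorem L18973 : sm gd N2386 = N2386 := ded_33_1 (flp_h L18968) L13952 L10307 (flp_d L13952) L18968
theorem L18974 : sm gi N1750 = N2387 := rfl
theorem L18976 : sm gd N2387 = N2387 := ded_34_1 (flp_i L18974) L13961 L18974
theorem L18977 : sm gf N2387 = N1751 := ded_41_1 (flp_i L13962) (flp_f L13959) L18974
theorem L18979 : sm gh N2387 = N2263 := ded_44_1 (flp_i L17961) (flp_h L13235) (flp_i L10293) L13957 L18974
theorem L18981 : sm gb N1752 = N2388 := rfl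
theorem L18983 : sm gd N2388 = N2388 := ded_18_2 (flp_b L18981) L13980 L18981
theorem L18984 : sm ge N2388 = N1825 := ded_19_2 (flp_b L14595) (flp_e L13974) L18981
theorem L18986 : sm gg N2388 = N2073 := ded_21_2 (flp_b L16494) (flp_g L13976) L18981
theorem L18988 : sm gi N2388 = N2264 := ded_23_2 (flp_b L17969) (flp_i L13978) L18981
theorem L18990 : sm ga N2388 = N2388 := ded_9_1 (flp_b L18981) L13972 L10337 (flp_a L13972) L18981
theorem L18991 : sm gf N1752 = N2389 := rfl
theorem L18993 : sm ga N2389 = N1756 := ded_13_1 (flp_f L14008) (flp_a L13972) L18991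
theorem L18995 : sm gc N2389 = N1753 := ded_26_1 (flp_f L13981) L13970 L18991
theorem L18997 : sm gd N2389 = N2389 := ded_31_1 (flp_f L18991) L13980 L18991
theorem L18998 : sm gi N2389 = N2265 := ded_41_2 (flp_f L17977) (flp_i L13978) L18991
theorem L19000 : sm gh N1752 = N2390 := rfl
theorem L19002 : sm ga N2390 = N1757 := ded_15_1 (flp_h L14016) (flp_a L13972) L19000
theorem L19004 : sm gc N2390 = N1754 := ded_28_1 (flp_h L13989) L13970 L19000
theorem L19006 : sm ge N2390 = N1827 := ded_37_1 (flp_h L14610) (flp_e L13974) L19000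
theorem L19008 : sm gg N2390 = N2075 := ded_42_1 (flp_h L16511) (flp_g L13976) L19000
theorem L19010 : sm ge N1753 = N2391 := rfl
theorem L19012 : sm ga N2391 = N1758 := ded_12_1 (flp_e L14025) (flp_a L13983) L19010
theorem L19014 : sm gi N2391 = N2267 := ded_38_2 (flp_e L17992) (flp_i L13987) L19010
theorem L19016 : sm gf N2391 = N1828 := ded_35_2 (flp_e L14619) (flp_f L10756) (flp_e L10319) L13981 L19010
theorem L19018 : sm gg N1753 = N2392 := rfl
theorem L19020 : sm ga N2392 = N1759 := ded_14_1 (flp_g L14033) (flp_a L13983) L19018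
theorem L19022 : sm gd N2392 = N1755 := ded_32_1 (flp_g L13998) (flp_d L13985) L19018
theorem L19026 : sm gf N2392 = N2077 := ded_39_1 (flp_g L16528) (flp_f L12178) (flp_g L10315) L13981 L19018
theorem L19028 : sm gh N1753 = N2393 := rfl
theorem L19030 : sm ga N2393 = N1760 := ded_15_1 (flp_h L14043) (flp_a L13983) L19028
theorem L19032 : sm gf N2393 = N1754 := ded_40_1 (flp_h L13989) L13981 L19028
theorem L19034 : sm gd N2393 = N2393 := ded_33_1 (flp_h L19028) L13985 L10326 (flp_d L13985) L19028
theorem L19035 : sm gi N1754 = N2394 := rfl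
theorem L19037 : sm ga N2394 = N1761 := ded_16_1 (flp_i L14050) (flp_a L13991) L19035
theorem L19039 : sm gd N2394 = N2394 := ded_34_1 (flp_i L19035) L13997 L19035
theorem L19040 : sm ge N2394 = N1831 := ded_38_1 (flp_i L14639) (flp_e L13993) L19035
theorem L19042 : sm gg N2394 = N2079 := ded_43_1 (flp_i L16543) (flp_g L13995) L19035
theorem L19044 : sm gh N2394 = N2270 := ded_44_1 (flp_i L18018) (flp_h L13265) (flp_i L10317) L13989 L19035
theorem L19046 : sm ge N1756 = N2395 := rfl
theorem L19048 : sm gb N2395 = N2395 := ded_19_1 (flp_e L19046) L14010 L19046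
theorem L19049 : sm gc N2395 = N1758 := ded_25_1 (flp_e L14025) (flp_c L14011) L19046
theorem L19051 : sm gi N2395 = N2271 := ded_38_2 (flp_e L18028) (flp_i L14014) L19046
theorem L19053 : sm gf N2395 = N1832 := ded_35_2 (flp_e L14647) (flp_f L10780) (flp_e L10331) L14008 L19046
theorem L19055 : sm gg N1756 = N2396 := rfl
theorem L19057 : sm gb N2396 = N2396 := ded_21_1 (flp_g L19055) L14010 L19055
theorem L19058 : sm gc N2396 = N1759 := ded_27_1 (flp_g L14033) (flp_c L14011) L19055
theorem L19060 : sm gd N2396 = N2396 := ded_32_1 (flp_g L19055) L14013 L19055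
theorem L19061 : sm gi N2396 = N2272 := ded_43_2 (flp_g L18033) (flp_i L14014) L19055
theorem L19063 : sm gf N2396 = N2081 := ded_39_1 (flp_g L16561) (flp_f L12202) (flp_g L10333) L14008 L19055
theorem L19065 : sm gh N1756 = N2397 := rfl
theorem L19067 : sm gb N2397 = N2397 := ded_22_1 (flp_h L19065) L14010 L19065
theorem L19068 : sm gc N2397 = N1760 := ded_28_1 (flp_h L14043) (flp_c L14011) L19065
theorem L19070 : sm gf N2397 = N1757 := ded_40_1 (flp_h L14016) L14008 L19065
theorem L19072 : sm gd N1757 = N2398 := rfl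
theorem L19074 : sm gb N2398 = N2398 := ded_18_1 (flp_d L19072) L14018 L19072
theorem L19075 : sm gg N2398 = N2083 := ded_32_2 (flp_d L16576) (flp_g L14023) L19072
theorem L19077 : sm gc N2398 = N2398 := ded_24_1 (flp_d L19072) L14019 L10355 (flp_c L14019) L19072
theorem L19078 : sm ge N2398 = N2398 := ded_30_2 (flp_d L19072) L14021 L10794 (flp_e L14021) L19072
theorem L19079 : sm gh N2398 = N2398 := ded_33_2 (flp_d L19072) (flp_h L14016) L10338 L14016 L19072
theorem L19080 : sm gi N1757 = N2399 := rfl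
theorem L19082 : sm gb N2399 = N2399 := ded_23_1 (flp_i L19080) L14018 L19080
theorem L19083 : sm gc N2399 = N1761 := ded_29_1 (flp_i L14050) (flp_c L14019) L19080
theorem L19085 : sm ge N2399 = N1835 := ded_38_1 (flp_i L14669) (flp_e L14021) L19080
theorem L19089 : sm gh N2399 = N2275 := ded_44_1 (flp_i L18056) (flp_h L13292) (flp_i L10335) L14016 L19080
theorem L19091 : sm gg N1758 = N2400 := rfl
theorem L19093 : sm gb N2400 = N1762 := ded_21_1 (flp_g L14061) (flp_b L14027) L19091
theorem L19095 : sm ge N2400 = N1759 := ded_36_1 (flp_g L14033) L14025 L19091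
theorem L19097 : sm gi N2400 = N2276 := ded_43_2 (flp_g L18063) (flp_i L14029) L19091
theorem L19099 : sm gh N1758 = N2401 := rfl
theorem L19101 : sm gb N2401 = N1763 := ded_22_1 (flp_h L14068) (flp_b L14027) L19099
theorem L19103 : sm ge N2401 = N1760 := ded_37_1 (flp_h L14043) L14025 L19099
theorem L19105 : sm gf N2401 = N1837 := ded_40_1 (flp_h L14683) (flp_f L14031) L19099
theorem L19107 : sm gh N1759 = N2402 := rfl
theorem L19109 : sm gb N2402 = N1764 := ded_22_1 (flp_h L14075) (flp_b L14035) L19107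
theorem L19113 : sm gg N2402 = N1760 := ded_42_1 (flp_h L14043) L14033 L19107
theorem L19115 : sm gd N2402 = N2402 := ded_33_1 (flp_h L19107) L14037 L10361 (flp_d L14037) L19107
theorem L19116 : sm gi N1760 = N2403 := rfl
theorem L19118 : sm gb N2403 = N1765 := ded_23_1 (flp_i L14083) (flp_b L14045) L19116
theorem L19120 : sm gd N2403 = N2403 := ded_34_1 (flp_i L19116) L14049 L19116
theorem L19121 : sm gf N2403 = N1761 := ded_41_1 (flp_i L14050) (flp_f L14047) L19116
theorem L19123 : sm gh N2403 = N2279 := ded_44_1 (flp_i L18085) (flp_h L13311) (flp_i L10345) L14043 L19116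
theorem L19125 : sm gf N1762 = N2404 := rfl
theorem L19127 : sm gc N2404 = N2404 := ded_26_1 (flp_f L19125) L14063 L19125
theorem L19128 : sm gi N2404 = N2280 := ded_41_2 (flp_f L18093) (flp_i L14066) L19125
theorem L19132 : sm gg N2404 = N1840 := ded_39_2 (flp_f L14707) (flp_g L10823) (flp_f L10371) L14061 L19125
theorem L19134 : sm gh N1762 = N2405 := rfl
theorem L19136 : sm gc N2405 = N2405 := ded_28_1 (flp_h L19134) L14063 L19134
theorem L19137 : sm ge N2405 = N1764 := ded_37_1 (flp_h L14075) (flp_e L14064) L19134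
theorem L19139 : sm gg N2405 = N1763 := ded_42_1 (flp_h L14068) L14061 L19134
theorem L19141 : sm gd N1763 = N2406 := rfl
theorem L19143 : sm gf N2406 = N1842 := ded_31_2 (flp_d L14719) (flp_f L14073) L19141
theorem L19145 : sm ge N2406 = N2406 := ded_30_2 (flp_d L19141) L14071 L10387 (flp_e L14071) L19141
theorem L19146 : sm gi N1763 = N2407 := rfl
theorem L19149 : sm ge N2407 = N1765 := ded_38_1 (flp_i L14083) (flp_e L14071) L19146
theorem L19155 : sm gi N1764 = N2408 := rfl
theorem L19159 : sm gf N2408 = N2093 := ded_41_1 (flp_i L16654) (flp_f L14078) L19155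
theorem L19161 : sm gg N2408 = N1765 := ded_43_1 (flp_i L14083) (flp_g L14080) L19155
theorem L19165 : sm ge N1766 = N2409 := rfl
theorem L19167 : sm ga N2409 = N1767 := ded_12_1 (flp_e L14103) L14091 L19165
theorem L19169 : sm gb N2409 = N2358 := ded_19_1 (flp_e L18736) (flp_b L14101) L19165
theorem L19171 : sm gc N2409 = N1892 := ded_25_1 (flp_e L15092) (flp_c L14093) L19165
theorem L19173 : sm gg N2409 = N2409 := ded_36_2 (flp_e L19165) L14097 L19165
theorem L19174 : sm gh N2409 = N1771 := ded_37_2 (flp_e L14143) (flp_h L14098) L19165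
theorem L19176 : sm gi N2409 = N2409 := ded_38_2 (flp_e L19165) L14100 L19165
theorem L19177 : sm gd N1767 = N2410 := rfl
theorem L19179 : sm gb N2410 = N1768 := ded_18_1 (flp_d L14113) (flp_b L14105) L19177
theorem L19181 : sm gg N2410 = N2410 := ded_32_2 (flp_d L19177) L14109 L19177
theorem L19182 : sm gi N2410 = N2410 := ded_34_2 (flp_d L19177) L14112 L19177
theorem L19183 : sm ge N2410 = N2410 := ded_30_2 (flp_d L19177) (flp_e L14103) L10400 L14103 L19177
theorem L19184 : sm gf N1767 = N2411 := rfl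
theorem L19186 : sm gb N2411 = N1769 := ded_20_1 (flp_f L14121) (flp_b L14105) L19184
theorem L19188 : sm gc N2411 = N1894 := ded_26_1 (flp_f L15107) (flp_c L14107) L19184
theorem L19190 : sm gh N2411 = N1773 := ded_40_2 (flp_f L14163) (flp_h L14110) L19184
theorem L19192 : sm gi N2411 = N2411 := ded_41_2 (flp_f L19184) L14112 L19184
theorem L19193 : sm ge N2411 = N2411 := ded_35_1 (flp_f L19184) (flp_e L14103) L10401 L14103 L19184
theorem L19194 : sm gf N1768 = N2412 := rfl
theorem L19196 : sm ga N2412 = N2361 := ded_13_1 (flp_f L18761) (flp_a L14115) L19194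
theorem L19198 : sm gc N2412 = N2412 := ded_26_1 (flp_f L19194) L14119 L19194
theorem L19199 : sm gd N2412 = N1769 := ded_31_1 (flp_f L14121) L14113 L19194
theorem L19201 : sm gi N2412 = N2412 := ded_41_2 (flp_f L19194) L14118 L19194
theorem L19202 : sm gh N1768 = N2413 := rfl
theorem L19204 : sm ga N2413 = N2362 := ded_15_1 (flp_h L18767) (flp_a L14115) L19202
theorem L19206 : sm gc N2413 = N2413 := ded_28_1 (flp_h L19202) L14119 L19202
theorem L19207 : sm ge N2413 = N2413 := ded_37_1 (flp_h L19202) L14120 L19202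
theorem L19208 : sm gg N2413 = N2413 := ded_42_1 (flp_h L19202) L14117 L19202
theorem L19209 : sm gd N2413 = N1775 := ded_33_1 (flp_h L14182) (flp_d L10450) (flp_h L10415) L14113 L19202
theorem L19211 : sm gg N1769 = N2414 := rfl
theorem L19213 : sm ga N2414 = N2363 := ded_14_1 (flp_g L18774) (flp_a L14123) L19211
theorem L19215 : sm gc N2414 = N1770 := ded_27_1 (flp_g L14131) (flp_c L14125) L19211
theorem L19217 : sm ge N2414 = N2414 := ded_36_1 (flp_g L19211) L14130 L19211
theorem L19218 : sm gh N2414 = N1776 := ded_42_2 (flp_g L14191) (flp_h L14127) L19211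
theorem L19220 : sm gi N2414 = N2414 := ded_43_2 (flp_g L19211) L14129 L19211
theorem L19221 : sm gf N2414 = N2414 := ded_39_1 (flp_g L19211) (flp_f L14121) L10414 L14121 L19211
theorem L19222 : sm gd N1771 = N2415 := rfl
theorem L19224 : sm ga N2415 = N1772 := ded_11_1 (flp_d L14154) (flp_a L14145) L19222
theorem L19226 : sm gb N2415 = N2364 := ded_18_1 (flp_d L18783) (flp_b L14147) L19222
theorem L19228 : sm gg N2415 = N2415 := ded_32_2 (flp_d L19222) L14151 L19222
theorem L19229 : sm gi N2415 = N1777 := ded_34_2 (flp_d L14201) (flp_i L14152) L19222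
theorem L19231 : sm ge N2415 = N2240 := ded_30_2 (flp_d L17790) (flp_e L13131) (flp_d L10433) L14143 L19222
theorem L19233 : sm gf N1771 = N2416 := rfl
theorem L19235 : sm ga N2416 = N1773 := ded_13_1 (flp_f L14163) (flp_a L14145) L19233
theorem L19237 : sm gb N2416 = N2365 := ded_20_1 (flp_f L18792) (flp_b L14147) L19233
theorem L19239 : sm gc N2416 = N1899 := ded_26_1 (flp_f L15148) (flp_c L14149) L19233
theorem L19241 : sm gi N2416 = N1778 := ded_41_2 (flp_f L14206) (flp_i L14152) L19233
theorem L19243 : sm ge N2416 = N2416 := ded_35_1 (flp_f L19233) (flp_e L14143) L10435 L14143 L19233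
theorem L19244 : sm gc N1772 = N2417 := rfl
theorem L19246 : sm ge N2417 = N2242 := ded_25_2 (flp_c L17806) (flp_e L14161) L19244
theorem L19248 : sm gg N2417 = N2417 := ded_27_2 (flp_c L19244) L14158 L19244
theorem L19249 : sm gi N2417 = N1779 := ded_29_2 (flp_c L14214) (flp_i L14159) L19244
theorem L19251 : sm gb N2417 = N1789 := ded_17_1 (flp_c L14291) L10536 (flp_c L10457) (flp_b L14156) L19244
theorem L19253 : sm gd N2417 = N1900 := ded_24_2 (flp_c L15156) (flp_d L11161) (flp_c L10445) L14154 L19244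
theorem L19255 : sm gf N1772 = N2418 := rfl
theorem L19257 : sm gb N2418 = N1774 := ded_20_1 (flp_f L14172) (flp_b L14156) L19255
theorem L19259 : sm gd N2418 = N1773 := ded_31_1 (flp_f L14163) L14154 L19255
theorem L19261 : sm gi N2418 = N1780 := ded_41_2 (flp_f L14221) (flp_i L14159) L19255
theorem L19263 : sm gh N1772 = N2419 := rfl
theorem L19265 : sm gb N2419 = N1775 := ded_22_1 (flp_h L14182) (flp_b L14156) L19263
theorem L19267 : sm ge N2419 = N2244 := ded_37_1 (flp_h L17818) (flp_e L14161) L19263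
theorem L19269 : sm gg N2419 = N2419 := ded_42_1 (flp_h L19263) L14158 L19263
theorem L19270 : sm gg N1773 = N2420 := rfl
theorem L19272 : sm gb N2420 = N1776 := ded_21_1 (flp_g L14191) (flp_b L14165) L19270
theorem L19274 : sm gc N2420 = N1903 := ded_27_1 (flp_g L15178) (flp_c L14167) L19270
theorem L19276 : sm ge N2420 = N2420 := ded_36_1 (flp_g L19270) L14171 L19270
theorem L19277 : sm gi N2420 = N1782 := ded_43_2 (flp_g L14233) (flp_i L14169) L19270
theorem L19279 : sm gf N2420 = N2420 := ded_39_1 (flp_g L19270) (flp_f L14163) L10447 L14163 L19270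
theorem L19280 : sm ge N1774 = N2421 := rfl
theorem L19282 : sm ga N2421 = N2370 := ded_12_1 (flp_e L18834) (flp_a L14174) L19280
theorem L19284 : sm gc N2421 = N1793 := ded_25_1 (flp_e L14328) (flp_c L14176) L19280
theorem L19286 : sm gi N2421 = N1783 := ded_38_2 (flp_e L14242) (flp_i L14180) L19280
theorem L19288 : sm gd N2421 = N2421 := ded_30_1 (flp_e L19280) L14178 L10469 (flp_d L14178) L19280
theorem L19289 : sm gf N2421 = N2246 := ded_35_2 (flp_e L17832) (flp_f L13152) (flp_e L10459) L14172 L19280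
theorem L19291 : sm gg N1774 = N2422 := rfl
theorem L19293 : sm ga N2422 = N2371 := ded_14_1 (flp_g L18843) (flp_a L14174) L19291
theorem L19295 : sm gc N2422 = N1794 := ded_27_1 (flp_g L14338) (flp_c L14176) L19291
theorem L19297 : sm gd N2422 = N1776 := ded_32_1 (flp_g L14191) (flp_d L14178) L19291
theorem L19299 : sm gi N2422 = N1784 := ded_43_2 (flp_g L14247) (flp_i L14180) L19291
theorem L19301 : sm gf N2422 = N2422 := ded_39_1 (flp_g L19291) (flp_f L14172) L10454 L14172 L19291
theorem L19302 : sm gh N1774 = N2423 := rfl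
theorem L19304 : sm ga N2423 = N2372 := ded_15_1 (flp_h L18852) (flp_a L14174) L19302
theorem L19306 : sm gc N2423 = N1795 := ded_28_1 (flp_h L14347) (flp_c L14176) L19302
theorem L19308 : sm gf N2423 = N1775 := ded_40_1 (flp_h L14182) L14172 L19302
theorem L19310 : sm gi N1775 = N2424 := rfl
theorem L19312 : sm ga N2424 = N2373 := ded_16_1 (flp_i L18858) (flp_a L14184) L19310
theorem L19314 : sm gc N2424 = N1796 := ded_29_1 (flp_i L14354) (flp_c L14186) L19310
theorem L19316 : sm ge N2424 = N2249 := ded_38_1 (flp_i L17857) (flp_e L14188) L19310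
theorem L19318 : sm gg N2424 = N2424 := ded_43_1 (flp_i L19310) L14190 L19310
theorem L19319 : sm gh N2424 = N1786 := ded_44_1 (flp_i L14261) (flp_h L10509) (flp_i L10455) L14182 L19310
theorem L19321 : sm gc N1777 = N2425 := rfl
theorem L19323 : sm ga N2425 = N1779 := ded_10_1 (flp_c L14214) (flp_a L14203) L19321
theorem L19325 : sm gg N2425 = N2425 := ded_27_2 (flp_c L19321) L14205 L19321
theorem L19326 : sm gd N2425 = N1908 := ded_24_2 (flp_c L15221) (flp_d L11201) (flp_c L10486) L14201 L19321
theorem L19328 : sm gf N1777 = N2426 := rfl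
theorem L19330 : sm ga N2426 = N1780 := ded_13_1 (flp_f L14221) (flp_a L14203) L19328
theorem L19332 : sm gd N2426 = N1778 := ded_31_1 (flp_f L14206) L14201 L19328
theorem L19334 : sm gh N1777 = N2427 := rfl
theorem L19336 : sm ga N2427 = N1781 := ded_15_1 (flp_h L14227) (flp_a L14203) L19334
theorem L19338 : sm gg N2427 = N2427 := ded_42_1 (flp_h L19334) L14205 L19334
theorem L19339 : sm gd N2427 = N2427 := ded_33_1 (flp_h L19334) (flp_d L14201) L10489 L14201 L19334
theorem L19340 : sm gg N1778 = N2428 := rfl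
theorem L19342 : sm ga N2428 = N1782 := ded_14_1 (flp_g L14233) (flp_a L14208) L19340
theorem L19344 : sm gc N2428 = N1911 := ded_27_1 (flp_g L15242) (flp_c L14210) L19340
theorem L19346 : sm ge N2428 = N2428 := ded_36_1 (flp_g L19340) L14213 L19340
theorem L19347 : sm gh N2428 = N2428 := ded_42_2 (flp_g L19340) L14212 L19340
theorem L19348 : sm gf N2428 = N2428 := ded_39_1 (flp_g L19340) (flp_f L14206) L10488 L14206 L19340
theorem L19349 : sm gf N1779 = N2429 := rfl
theorem L19351 : sm gb N2429 = N1801 := ded_20_1 (flp_f L14395) (flp_b L14217) L19349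
theorem L19353 : sm gc N2429 = N1780 := ded_26_1 (flp_f L14221) L14214 L19349
theorem L19355 : sm gd N2429 = N1912 := ded_31_1 (flp_f L15250) (flp_d L14219) L19349
theorem L19357 : sm gh N1779 = N2430 := rfl
theorem L19359 : sm gb N2430 = N1802 := ded_22_1 (flp_h L14401) (flp_b L14217) L19357
theorem L19361 : sm gc N2430 = N1781 := ded_28_1 (flp_h L14227) L14214 L19357
theorem L19363 : sm gg N2430 = N2430 := ded_42_1 (flp_h L19357) L14216 L19357
theorem L19364 : sm ge N1780 = N2431 := rfl
theorem L19366 : sm gb N2431 = N1783 := ded_19_1 (flp_e L14242) (flp_b L14223) L19364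
theorem L19368 : sm gd N2431 = N2431 := ded_30_1 (flp_e L19364) L14225 L10502 (flp_d L14225) L19364
theorem L19369 : sm gg N1780 = N2432 := rfl
theorem L19371 : sm gb N2432 = N1784 := ded_21_1 (flp_g L14247) (flp_b L14223) L19369
theorem L19373 : sm gd N2432 = N1782 := ded_32_1 (flp_g L14233) (flp_d L14225) L19369
theorem L19375 : sm gf N2432 = N2432 := ded_39_1 (flp_g L19369) (flp_f L14221) L10494 L14221 L19369
theorem L19376 : sm gh N1780 = N2433 := rfl
theorem L19378 : sm gb N2433 = N1785 := ded_22_1 (flp_h L14254) (flp_b L14223) L19376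
theorem L19380 : sm gf N2433 = N1781 := ded_40_1 (flp_h L14227) L14221 L19376
theorem L19382 : sm gd N2433 = N2433 := ded_33_1 (flp_h L19376) L14225 L10501 (flp_d L14225) L19376
theorem L19383 : sm gi N1781 = N2434 := rfl
theorem L19385 : sm gb N2434 = N1786 := ded_23_1 (flp_i L14261) (flp_b L14229) L19383
theorem L19387 : sm gd N2434 = N2434 := ded_34_1 (flp_i L19383) L14232 L19383
theorem L19388 : sm gg N2434 = N2434 := ded_43_1 (flp_i L19383) L14231 L19383
theorem L19389 : sm gg N1783 = N2435 := rfl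
theorem L19391 : sm gc N2435 = N1807 := ded_27_1 (flp_g L14434) (flp_c L14244) L19389
theorem L19393 : sm gd N2435 = N2435 := ded_32_1 (flp_g L19389) L14246 L19389
theorem L19394 : sm ge N2435 = N1784 := ded_36_1 (flp_g L14247) L14242 L19389
theorem L19396 : sm gh N1783 = N2436 := rfl
theorem L19398 : sm gc N2436 = N1808 := ded_28_1 (flp_h L14440) (flp_c L14244) L19396
theorem L19400 : sm ge N2436 = N1785 := ded_37_1 (flp_h L14254) L14242 L19396
theorem L19402 : sm gh N1784 = N2437 := rfl
theorem L19404 : sm gc N2437 = N1809 := ded_28_1 (flp_h L14444) (flp_c L14249) L19402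
theorem L19406 : sm gf N2437 = N2437 := ded_40_1 (flp_h L19402) L14253 L19402
theorem L19407 : sm gg N2437 = N1785 := ded_42_1 (flp_h L14254) L14247 L19402
theorem L19409 : sm gd N2437 = N2437 := ded_33_1 (flp_h L19402) L14251 L10520 (flp_d L14251) L19402
theorem L19410 : sm gi N1785 = N2438 := rfl
theorem L19412 : sm gc N2438 = N1810 := ded_29_1 (flp_i L14451) (flp_c L14256) L19410
theorem L19414 : sm gd N2438 = N2438 := ded_34_1 (flp_i L19410) L14260 L19410
theorem L19415 : sm gf N2438 = N1786 := ded_41_1 (flp_i L14261) (flp_f L14258) L19410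
theorem L19417 : sm gc N1787 = N2439 := rfl
theorem L19419 : sm ga N2439 = N1789 := ded_10_1 (flp_c L14291) (flp_a L14269) L19417
theorem L19421 : sm ge N2439 = N2250 := ded_25_2 (flp_c L17865) (flp_e L14276) L19417
theorem L19423 : sm gg N2439 = N2439 := ded_27_2 (flp_c L19417) L14273 L19417
theorem L19424 : sm gi N2439 = N1797 := ded_29_2 (flp_c L14364) (flp_i L14274) L19417
theorem L19426 : sm gd N2439 = N1922 := ded_24_2 (flp_c L15324) (flp_d L11272) (flp_c L10528) L14267 L19417
theorem L19428 : sm gf N1787 = N2440 := rfl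
theorem L19430 : sm ga N2440 = N1790 := ded_13_1 (flp_f L14300) (flp_a L14269) L19428
theorem L19432 : sm gb N2440 = N2375 := ded_20_1 (flp_f L18877) (flp_b L14271) L19428
theorem L19434 : sm gd N2440 = N1788 := ded_31_1 (flp_f L14278) L14267 L19428
theorem L19436 : sm gi N2440 = N1798 := ded_41_2 (flp_f L14371) (flp_i L14274) L19428
theorem L19438 : sm gh N1787 = N2441 := rfl
theorem L19440 : sm ga N2441 = N1791 := ded_15_1 (flp_h L14308) (flp_a L14269) L19438
theorem L19442 : sm gb N2441 = N2376 := ded_22_1 (flp_h L18885) (flp_b L14271) L19438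
theorem L19444 : sm ge N2441 = N2252 := ded_37_1 (flp_h L17879) (flp_e L14276) L19438
theorem L19446 : sm gg N2441 = N2441 := ded_42_1 (flp_h L19438) L14273 L19438
theorem L19447 : sm gd N2441 = N2441 := ded_33_1 (flp_h L19438) (flp_d L14267) L10531 L14267 L19438
theorem L19448 : sm gg N1788 = N2442 := rfl
theorem L19450 : sm ga N2442 = N1792 := ded_14_1 (flp_g L14316) (flp_a L14280) L19448
theorem L19452 : sm gb N2442 = N2377 := ded_21_1 (flp_g L18893) (flp_b L14282) L19448
theorem L19454 : sm gc N2442 = N1925 := ded_27_1 (flp_g L15349) (flp_c L14284) L19448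
theorem L19456 : sm ge N2442 = N1814 := ded_36_1 (flp_g L14490) (flp_e L14289) L19448
theorem L19458 : sm gh N2442 = N2442 := ded_42_2 (flp_g L19448) L14286 L19448
theorem L19459 : sm gi N2442 = N1800 := ded_43_2 (flp_g L14384) (flp_i L14287) L19448
theorem L19461 : sm gf N2442 = N2442 := ded_39_1 (flp_g L19448) (flp_f L14278) L10530 L14278 L19448
theorem L19462 : sm gf N1789 = N2443 := rfl
theorem L19464 : sm gc N2443 = N1790 := ded_26_1 (flp_f L14300) L14291 L19462
theorem L19466 : sm gd N2443 = N1926 := ded_31_1 (flp_f L15360) (flp_d L14298) L19462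
theorem L19468 : sm gi N2443 = N1801 := ded_41_2 (flp_f L14395) (flp_i L14296) L19462
theorem L19470 : sm gh N1789 = N2444 := rfl
theorem L19472 : sm gc N2444 = N1791 := ded_28_1 (flp_h L14308) L14291 L19470
theorem L19474 : sm ge N2444 = N2255 := ded_37_1 (flp_h L17905) (flp_e L14293) L19470
theorem L19476 : sm gg N2444 = N2444 := ded_42_1 (flp_h L19470) L14295 L19470
theorem L19477 : sm ge N1790 = N2445 := rfl
theorem L19479 : sm gb N2445 = N1793 := ded_19_1 (flp_e L14328) (flp_b L14302) L19477
theorem L19481 : sm gi N2445 = N1803 := ded_38_2 (flp_e L14406) (flp_i L14306) L19477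
theorem L19483 : sm gd N2445 = N1817 := ded_30_1 (flp_e L14521) L10684 (flp_e L10552) (flp_d L14304) L19477
theorem L19485 : sm gf N2445 = N2256 := ded_35_2 (flp_e L17910) (flp_f L13199) (flp_e L10541) L14300 L19477
theorem L19487 : sm gg N1790 = N2446 := rfl
theorem L19489 : sm gb N2446 = N1794 := ded_21_1 (flp_g L14338) (flp_b L14302) L19487
theorem L19491 : sm gd N2446 = N1792 := ded_32_1 (flp_g L14316) (flp_d L14304) L19487
theorem L19493 : sm gi N2446 = N1804 := ded_43_2 (flp_g L14412) (flp_i L14306) L19487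
theorem L19495 : sm gf N2446 = N2446 := ded_39_1 (flp_g L19487) (flp_f L14300) L10538 L14300 L19487
theorem L19496 : sm gh N1790 = N2447 := rfl
theorem L19498 : sm gb N2447 = N1795 := ded_22_1 (flp_h L14347) (flp_b L14302) L19496
theorem L19500 : sm gf N2447 = N1791 := ded_40_1 (flp_h L14308) L14300 L19496
theorem L19502 : sm gd N2447 = N2447 := ded_33_1 (flp_h L19496) L14304 L10549 (flp_d L14304) L19496
theorem L19503 : sm gi N1791 = N2448 := rfl
theorem L19505 : sm gb N2448 = N1796 := ded_23_1 (flp_i L14354) (flp_b L14310) L19503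
theorem L19507 : sm gd N2448 = N2448 := ded_34_1 (flp_i L19503) L14315 L19503
theorem L19508 : sm ge N2448 = N2259 := ded_38_1 (flp_i L17931) (flp_e L14312) L19503
theorem L19510 : sm gg N2448 = N2448 := ded_43_1 (flp_i L19503) L14314 L19503
theorem L19511 : sm gh N2448 = N1806 := ded_44_1 (flp_i L14427) (flp_h L10608) (flp_i L10539) L14308 L19503
theorem L19513 : sm gg N1793 = N2449 := rfl
theorem L19515 : sm ga N2449 = N2384 := ded_14_1 (flp_g L18954) (flp_a L14330) L19513
theorem L19517 : sm gd N2449 = N1821 := ded_32_1 (flp_g L14557) (flp_d L14334) L19513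
theorem L19519 : sm ge N2449 = N1794 := ded_36_1 (flp_g L14338) L14328 L19513
theorem L19521 : sm gi N2449 = N1807 := ded_43_2 (flp_g L14434) (flp_i L14332) L19513
theorem L19523 : sm gh N1793 = N2450 := rfl
theorem L19525 : sm ga N2450 = N2385 := ded_15_1 (flp_h L18962) (flp_a L14330) L19523
theorem L19527 : sm ge N2450 = N1795 := ded_37_1 (flp_h L14347) L14328 L19523
theorem L19529 : sm gf N2450 = N2261 := ded_40_1 (flp_h L17946) (flp_f L14336) L19523
theorem L19531 : sm gh N1794 = N2451 := rfl
theorem L19533 : sm ga N2451 = N2386 := ded_15_1 (flp_h L18968) (flp_a L14340) L19531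
theorem L19535 : sm gf N2451 = N2451 := ded_40_1 (flp_h L19531) L14346 L19531
theorem L19536 : sm gg N2451 = N1795 := ded_42_1 (flp_h L14347) L14338 L19531
theorem L19538 : sm gd N2451 = N2451 := ded_33_1 (flp_h L19531) L14342 L10578 (flp_d L14342) L19531
theorem L19539 : sm gi N1795 = N2452 := rfl
theorem L19541 : sm ga N2452 = N2387 := ded_16_1 (flp_i L18974) (flp_a L14349) L19539
theorem L19543 : sm gd N2452 = N2452 := ded_34_1 (flp_i L19539) L14353 L19539
theorem L19544 : sm gf N2452 = N1796 := ded_41_1 (flp_i L14354) (flp_f L14351) L19539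
theorem L19546 : sm gh N2452 = N1810 := ded_44_1 (flp_i L14451) (flp_h L10635) (flp_i L10560) L14347 L19539
theorem L19548 : sm gb N1797 = N2453 := rfl
theorem L19550 : sm gd N2453 = N1936 := ded_18_2 (flp_b L15436) (flp_d L14369) L19548
theorem L19552 : sm gg N2453 = N2453 := ded_21_2 (flp_b L19548) L14368 L19548
theorem L19553 : sm gf N1797 = N2454 := rfl
theorem L19555 : sm ga N2454 = N1801 := ded_13_1 (flp_f L14395) (flp_a L14366) L19553
theorem L19557 : sm gc N2454 = N1798 := ded_26_1 (flp_f L14371) L14364 L19553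
theorem L19559 : sm gd N2454 = N1937 := ded_31_1 (flp_f L15441) (flp_d L14369) L19553
theorem L19561 : sm gh N1797 = N2455 := rfl
theorem L19563 : sm ga N2455 = N1802 := ded_15_1 (flp_h L14401) (flp_a L14366) L19561
theorem L19565 : sm gc N2455 = N1799 := ded_28_1 (flp_h L14377) L14364 L19561
theorem L19567 : sm gg N2455 = N2455 := ded_42_1 (flp_h L19561) L14368 L19561
theorem L19568 : sm ge N1798 = N2456 := rfl
theorem L19570 : sm ga N2456 = N1803 := ded_12_1 (flp_e L14406) (flp_a L14373) L19568
theorem L19572 : sm gd N2456 = N1828 := ded_30_1 (flp_e L14619) L10760 (flp_e L10595) (flp_d L14375) L19568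
theorem L19574 : sm gg N1798 = N2457 := rfl
theorem L19576 : sm ga N2457 = N1804 := ded_14_1 (flp_g L14412) (flp_a L14373) L19574
theorem L19578 : sm gd N2457 = N1800 := ded_32_1 (flp_g L14384) (flp_d L14375) L19574
theorem L19580 : sm gf N2457 = N2457 := ded_39_1 (flp_g L19574) (flp_f L14371) L10586 L14371 L19574
theorem L19581 : sm gh N1798 = N2458 := rfl
theorem L19583 : sm ga N2458 = N1805 := ded_15_1 (flp_h L14419) (flp_a L14373) L19581
theorem L19585 : sm gf N2458 = N1799 := ded_40_1 (flp_h L14377) L14371 L19581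
theorem L19587 : sm gd N2458 = N1850 := ded_33_1 (flp_h L14778) L10862 (flp_h L10593) (flp_d L14375) L19581
theorem L19589 : sm gi N1799 = N2459 := rfl
theorem L19591 : sm ga N2459 = N1806 := ded_16_1 (flp_i L14427) (flp_a L14379) L19589
theorem L19593 : sm gd N2459 = N1851 := ded_34_1 (flp_i L14784) (flp_d L14382) L19589
theorem L19595 : sm gg N2459 = N2459 := ded_43_1 (flp_i L19589) L14381 L19589
theorem L19596 : sm ge N1801 = N2460 := rfl
theorem L19598 : sm gc N2460 = N1803 := ded_25_1 (flp_e L14406) (flp_c L14397) L19596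
theorem L19600 : sm gg N1801 = N2461 := rfl
theorem L19602 : sm gc N2461 = N1804 := ded_27_1 (flp_g L14412) (flp_c L14397) L19600
theorem L19604 : sm gd N2461 = N1944 := ded_32_1 (flp_g L15494) (flp_d L14399) L19600
theorem L19606 : sm gf N2461 = N2461 := ded_39_1 (flp_g L19600) (flp_f L14395) L10599 L14395 L19600
theorem L19607 : sm gh N1801 = N2462 := rfl
theorem L19609 : sm gc N2462 = N1805 := ded_28_1 (flp_h L14419) (flp_c L14397) L19607
theorem L19611 : sm gf N2462 = N1802 := ded_40_1 (flp_h L14401) L14395 L19607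
theorem L19613 : sm gd N1802 = N2463 := rfl
theorem L19615 : sm gg N2463 = N2463 := ded_32_2 (flp_d L19613) L14405 L19613
theorem L19616 : sm gc N2463 = N1855 := ded_24_1 (flp_d L14815) L10892 (flp_d L10613) (flp_c L14403) L19613
theorem L19618 : sm gh N2463 = N1946 := ded_33_2 (flp_d L15505) (flp_h L11388) (flp_d L10600) L14401 L19613
theorem L19620 : sm gi N1802 = N2464 := rfl
theorem L19622 : sm gc N2464 = N1806 := ded_29_1 (flp_i L14427) (flp_c L14403) L19620
theorem L19624 : sm gg N2464 = N2464 := ded_43_1 (flp_i L19620) L14405 L19620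
theorem L19625 : sm gg N1803 = N2465 := rfl
theorem L19627 : sm gb N2465 = N1807 := ded_21_1 (flp_g L14434) (flp_b L14408) L19625
theorem L19629 : sm gd N2465 = N1836 := ded_32_1 (flp_g L14677) (flp_d L14410) L19625
theorem L19631 : sm ge N2465 = N1804 := ded_36_1 (flp_g L14412) L14406 L19625
theorem L19633 : sm gh N1803 = N2466 := rfl
theorem L19635 : sm gb N2466 = N1808 := ded_22_1 (flp_h L14440) (flp_b L14408) L19633
theorem L19637 : sm ge N2466 = N1805 := ded_37_1 (flp_h L14419) L14406 L19633
theorem L19639 : sm gh N1804 = N2467 := rfl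
theorem L19641 : sm gb N2467 = N1809 := ded_22_1 (flp_h L14444) (flp_b L14414) L19639
theorem L19643 : sm gf N2467 = N2467 := ded_40_1 (flp_h L19639) L14418 L19639
theorem L19644 : sm gg N2467 = N1805 := ded_42_1 (flp_h L14419) L14412 L19639
theorem L19646 : sm gd N2467 = N1859 := ded_33_1 (flp_h L14845) L10908 (flp_h L10623) (flp_d L14416) L19639
theorem L19648 : sm gi N1805 = N2468 := rfl
theorem L19650 : sm gb N2468 = N1810 := ded_23_1 (flp_i L14451) (flp_b L14421) L19648
theorem L19652 : sm gd N2468 = N1860 := ded_34_1 (flp_i L14852) (flp_d L14425) L19648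
theorem L19654 : sm gf N2468 = N1806 := ded_41_1 (flp_i L14427) (flp_f L14423) L19648
theorem L19656 : sm gf N1807 = N2469 := rfl
theorem L19658 : sm gd N2469 = N1840 := ded_31_1 (flp_f L14707) (flp_d L14436) L19656
theorem L19660 : sm ge N2469 = N2469 := ded_35_1 (flp_f L19656) L14438 L10634 (flp_e L14438) L19656
theorem L19661 : sm gh N1807 = N2470 := rfl
theorem L19663 : sm ge N2470 = N1809 := ded_37_1 (flp_h L14444) (flp_e L14438) L19661
theorem L19665 : sm gg N2470 = N1808 := ded_42_1 (flp_h L14440) L14434 L19661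
theorem L19667 : sm gd N1808 = N2471 := rfl
theorem L19669 : sm ge N2471 = N1863 := ded_30_2 (flp_d L14874) L10936 (flp_d L10639) (flp_e L14442) L19667
theorem L19671 : sm gh N2471 = N1842 := ded_33_2 (flp_d L14719) (flp_h L10828) (flp_d L10628) L14440 L19667
theorem L19673 : sm gi N1808 = N2472 := rfl
theorem L19675 : sm ge N2472 = N1810 := ded_38_1 (flp_i L14451) (flp_e L14442) L19673
theorem L19677 : sm gi N1809 = N2473 := rfl
theorem L19679 : sm gd N2473 = N1865 := ded_34_1 (flp_i L14886) (flp_d L14449) L19677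
theorem L19681 : sm gf N2473 = N2473 := ded_41_1 (flp_i L19677) L14446 L19677
theorem L19682 : sm gg N2473 = N1810 := ded_43_1 (flp_i L14451) (flp_g L14447) L19677
theorem L19684 : sm gb N1811 = N2474 := rfl
theorem L19686 : sm gd N2474 = N1956 := ded_18_2 (flp_b L15579) (flp_d L14467) L19684
theorem L19688 : sm ge N2474 = N2264 := ded_19_2 (flp_b L17969) (flp_e L14461) L19684
theorem L19690 : sm gg N2474 = N2094 := ded_21_2 (flp_b L16662) (flp_g L14463) L19684
theorem L19692 : sm gi N2474 = N1825 := ded_23_2 (flp_b L14595) (flp_i L14465) L19684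
theorem L19694 : sm ga N2474 = N2474 := ded_9_1 (flp_b L19684) L14459 L10677 (flp_a L14459) L19684
theorem L19695 : sm gc N2474 = N2388 := ded_17_2 (flp_b L18981) (flp_c L13970) (flp_b L10650) L14457 L19684
theorem L19697 : sm gf N1811 = N2475 := rfl
theorem L19699 : sm ga N2475 = N1815 := ded_13_1 (flp_f L14503) (flp_a L14459) L19697
theorem L19701 : sm gc N2475 = N1812 := ded_26_1 (flp_f L14469) L14457 L19697
theorem L19703 : sm gd N2475 = N1957 := ded_31_1 (flp_f L15588) (flp_d L14467) L19697
theorem L19705 : sm gi N2475 = N1826 := ded_41_2 (flp_f L14602) (flp_i L14465) L19697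
theorem L19707 : sm gh N1811 = N2476 := rfl
theorem L19709 : sm ga N2476 = N1816 := ded_15_1 (flp_h L14512) (flp_a L14459) L19707
theorem L19711 : sm gc N2476 = N1813 := ded_28_1 (flp_h L14479) L14457 L19707
theorem L19713 : sm ge N2476 = N2266 := ded_37_1 (flp_h L17984) (flp_e L14461) L19707
theorem L19715 : sm gg N2476 = N2096 := ded_42_1 (flp_h L16683) (flp_g L14463) L19707
theorem L19717 : sm ge N1812 = N2477 := rfl
theorem L19719 : sm ga N2477 = N1817 := ded_12_1 (flp_e L14521) (flp_a L14471) L19717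
theorem L19721 : sm gb N2477 = N2391 := ded_19_1 (flp_e L19010) (flp_b L14473) L19717
theorem L19723 : sm gi N2477 = N1828 := ded_38_2 (flp_e L14619) (flp_i L14477) L19717
theorem L19725 : sm gf N2477 = N2267 := ded_35_2 (flp_e L17992) (flp_f L13257) (flp_e L10656) L14469 L19717
theorem L19727 : sm gg N1812 = N2478 := rfl
theorem L19729 : sm ga N2478 = N1818 := ded_14_1 (flp_g L14529) (flp_a L14471) L19727
theorem L19731 : sm gb N2478 = N2392 := ded_21_1 (flp_g L19018) (flp_b L14473) L19727
theorem L19733 : sm gd N2478 = N1814 := ded_32_1 (flp_g L14490) (flp_d L14475) L19727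
theorem L19735 : sm gi N2478 = N1829 := ded_43_2 (flp_g L14623) (flp_i L14477) L19727
theorem L19737 : sm gf N2478 = N2098 := ded_39_1 (flp_g L16702) (flp_f L12289) (flp_g L10652) L14469 L19727
theorem L19739 : sm gh N1812 = N2479 := rfl
theorem L19741 : sm ga N2479 = N1819 := ded_15_1 (flp_h L14539) (flp_a L14471) L19739
theorem L19743 : sm gb N2479 = N2393 := ded_22_1 (flp_h L19028) (flp_b L14473) L19739
theorem L19745 : sm gf N2479 = N1813 := ded_40_1 (flp_h L14479) L14469 L19739
theorem L19747 : sm gd N2479 = N2479 := ded_33_1 (flp_h L19739) L14475 L10666 (flp_d L14475) L19739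
theorem L19748 : sm gi N1813 = N2480 := rfl
theorem L19750 : sm ga N2480 = N1820 := ded_16_1 (flp_i L14546) (flp_a L14481) L19748
theorem L19752 : sm gb N2480 = N2394 := ded_23_1 (flp_i L19035) (flp_b L14483) L19748
theorem L19754 : sm gd N2480 = N2480 := ded_34_1 (flp_i L19748) L14489 L19748
theorem L19755 : sm ge N2480 = N2270 := ded_38_1 (flp_i L18018) (flp_e L14485) L19748
theorem L19757 : sm gg N2480 = N2100 := ded_43_1 (flp_i L16721) (flp_g L14487) L19748
theorem L19759 : sm gh N2480 = N1831 := ded_44_1 (flp_i L14639) (flp_h L10762) (flp_i L10654) L14479 L19748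
theorem L19761 : sm ge N1815 = N2481 := rfl
theorem L19763 : sm gb N2481 = N2481 := ded_19_1 (flp_e L19761) L14505 L19761
theorem L19764 : sm gc N2481 = N1817 := ded_25_1 (flp_e L14521) (flp_c L14506) L19761
theorem L19766 : sm gi N2481 = N1832 := ded_38_2 (flp_e L14647) (flp_i L14510) L19761
theorem L19768 : sm gf N2481 = N2271 := ded_35_2 (flp_e L18028) (flp_f L13286) (flp_e L10671) L14503 L19761
theorem L19770 : sm gg N1815 = N2482 := rfl
theorem L19772 : sm gb N2482 = N2482 := ded_21_1 (flp_g L19770) L14505 L19770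
theorem L19773 : sm gc N2482 = N1818 := ded_27_1 (flp_g L14529) (flp_c L14506) L19770
theorem L19775 : sm gd N2482 = N1963 := ded_32_1 (flp_g L15642) (flp_d L14508) L19770
theorem L19777 : sm gi N2482 = N1833 := ded_43_2 (flp_g L14652) (flp_i L14510) L19770
theorem L19779 : sm gf N2482 = N2102 := ded_39_1 (flp_g L16741) (flp_f L12320) (flp_g L10673) L14503 L19770
theorem L19781 : sm gh N1815 = N2483 := rfl
theorem L19783 : sm gb N2483 = N2483 := ded_22_1 (flp_h L19781) L14505 L19781
theorem L19784 : sm gc N2483 = N1819 := ded_28_1 (flp_h L14539) (flp_c L14506) L19781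
theorem L19786 : sm gf N2483 = N1816 := ded_40_1 (flp_h L14512) L14503 L19781
theorem L19788 : sm gd N1816 = N2484 := rfl
theorem L19790 : sm gb N2484 = N2484 := ded_18_1 (flp_d L19788) L14514 L19788
theorem L19791 : sm gg N2484 = N2104 := ded_32_2 (flp_d L16757) (flp_g L14519) L19788
theorem L19793 : sm gc N2484 = N2484 := ded_24_1 (flp_d L19788) L14515 L10696 (flp_c L14515) L19788
theorem L19794 : sm gh N2484 = N1965 := ded_33_2 (flp_d L15659) (flp_h L11498) (flp_d L10678) L14512 L19788
theorem L19796 : sm gi N1816 = N2485 := rfl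
theorem L19798 : sm gb N2485 = N2485 := ded_23_1 (flp_i L19796) L14514 L19796
theorem L19799 : sm gc N2485 = N1820 := ded_29_1 (flp_i L14546) (flp_c L14515) L19796
theorem L19801 : sm ge N2485 = N2275 := ded_38_1 (flp_i L18056) (flp_e L14517) L19796
theorem L19803 : sm gg N2485 = N2105 := ded_43_1 (flp_i L16763) (flp_g L14519) L19796
theorem L19805 : sm gh N2485 = N1835 := ded_44_1 (flp_i L14669) (flp_h L10787) (flp_i L10675) L14512 L19796
theorem L19807 : sm gg N1817 = N2486 := rfl
theorem L19809 : sm gb N2486 = N1821 := ded_21_1 (flp_g L14557) (flp_b L14523) L19807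
theorem L19811 : sm ge N2486 = N1818 := ded_36_1 (flp_g L14529) L14521 L19807
theorem L19813 : sm gi N2486 = N1836 := ded_43_2 (flp_g L14677) (flp_i L14525) L19807
theorem L19815 : sm gh N1817 = N2487 := rfl
theorem L19817 : sm gb N2487 = N1822 := ded_22_1 (flp_h L14566) (flp_b L14523) L19815
theorem L19819 : sm ge N2487 = N1819 := ded_37_1 (flp_h L14539) L14521 L19815
theorem L19821 : sm gf N2487 = N2277 := ded_40_1 (flp_h L18069) (flp_f L14527) L19815
theorem L19823 : sm gh N1818 = N2488 := rfl
theorem L19829 : sm gg N2488 = N1819 := ded_42_1 (flp_h L14539) L14529 L19823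
theorem L19832 : sm gi N1819 = N2489 := rfl
theorem L19837 : sm gf N2489 = N1820 := ded_41_1 (flp_i L14546) (flp_f L14543) L19832
theorem L19841 : sm gf N1821 = N2490 := rfl
theorem L19843 : sm ga N2490 = N2404 := ded_13_1 (flp_f L19125) (flp_a L14559) L19841
theorem L19846 : sm gi N2490 = N1840 := ded_41_2 (flp_f L14707) (flp_i L14564) L19841
theorem L19848 : sm ge N2490 = N2110 := ded_35_1 (flp_f L16805) L12375 (flp_f L10726) (flp_e L14562) L19841
theorem L19850 : sm gg N2490 = N2280 := ded_39_2 (flp_f L18093) (flp_g L13327) (flp_f L10715) L14557 L19841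
theorem L19852 : sm gh N1821 = N2491 := rfl
theorem L19854 : sm ga N2491 = N2405 := ded_15_1 (flp_h L19134) (flp_a L14559) L19852
theorem L19859 : sm gg N2491 = N1822 := ded_42_1 (flp_h L14566) L14557 L19852
theorem L19861 : sm gd N1822 = N2492 := rfl
theorem L19865 : sm gf N2492 = N2282 := ded_31_2 (flp_d L18109) (flp_f L14573) L19861
theorem L19868 : sm gi N1822 = N2493 := rfl
theorem L19870 : sm ga N2493 = N2407 := ded_16_1 (flp_i L19146) (flp_a L14568) L19868
theorem L19873 : sm ge N2493 = N1824 := ded_38_1 (flp_i L14585) (flp_e L14571) L19868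
theorem L19891 : sm gf N1825 = N2495 := rfl
theorem L19893 : sm ga N2495 = N2495 := ded_13_1 (flp_f L19891) L14601 L19891
theorem L19894 : sm gb N2495 = N1826 := ded_20_1 (flp_f L14602) L14595 L19891
theorem L19896 : sm gd N2495 = N1972 := ded_31_1 (flp_f L15716) (flp_d L14597) L19891
theorem L19898 : sm gh N1825 = N2496 := rfl
theorem L19900 : sm ga N2496 = N2496 := ded_15_1 (flp_h L19898) L14601 L19898
theorem L19901 : sm gb N2496 = N1827 := ded_22_1 (flp_h L14610) L14595 L19898
theorem L19903 : sm gg N2496 = N2116 := ded_42_1 (flp_h L16860) (flp_g L14599) L19898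
theorem L19905 : sm gd N2496 = N2496 := ded_33_1 (flp_h L19898) L14597 L11563 (flp_d L14597) L19898
theorem L19906 : sm ge N1826 = N2497 := rfl
theorem L19908 : sm ga N2497 = N1832 := ded_12_1 (flp_e L14647) (flp_a L14604) L19906
theorem L19910 : sm gc N2497 = N1828 := ded_25_1 (flp_e L14619) (flp_c L14606) L19906
theorem L19912 : sm gg N1826 = N2498 := rfl
theorem L19914 : sm ga N2498 = N1833 := ded_14_1 (flp_g L14652) (flp_a L14604) L19912
theorem L19916 : sm gc N2498 = N1829 := ded_27_1 (flp_g L14623) (flp_c L14606) L19912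
theorem L19918 : sm gd N2498 = N1974 := ded_32_1 (flp_g L15731) (flp_d L14608) L19912
theorem L19920 : sm gf N2498 = N2118 := ded_39_1 (flp_g L16872) (flp_f L12411) (flp_g L10752) L14602 L19912
theorem L19922 : sm gh N1826 = N2499 := rfl
theorem L19924 : sm ga N2499 = N1834 := ded_15_1 (flp_h L14661) (flp_a L14604) L19922
theorem L19926 : sm gc N2499 = N1830 := ded_28_1 (flp_h L14631) (flp_c L14606) L19922
theorem L19928 : sm gf N2499 = N1827 := ded_40_1 (flp_h L14610) L14602 L19922
theorem L19930 : sm gd N2499 = N2499 := ded_33_1 (flp_h L19922) L14608 L11572 (flp_d L14608) L19922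
theorem L19931 : sm gi N1827 = N2500 := rfl
theorem L19933 : sm ga N2500 = N1835 := ded_16_1 (flp_i L14669) (flp_a L14612) L19931
theorem L19935 : sm gc N2500 = N1831 := ded_29_1 (flp_i L14639) (flp_c L14614) L19931
theorem L19937 : sm gd N2500 = N2500 := ded_34_1 (flp_i L19931) L14618 L19931
theorem L19940 : sm gg N1828 = N2501 := rfl
theorem L19942 : sm ga N2501 = N1836 := ded_14_1 (flp_g L14677) (flp_a L14621) L19940
theorem L19944 : sm ge N2501 = N1829 := ded_36_1 (flp_g L14623) L14619 L19940
theorem L19946 : sm gh N1828 = N2502 := rfl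
theorem L19948 : sm ga N2502 = N1837 := ded_15_1 (flp_h L14683) (flp_a L14621) L19946
theorem L19950 : sm ge N2502 = N1830 := ded_37_1 (flp_h L14631) L14619 L19946
theorem L19952 : sm gh N1829 = N2503 := rfl
theorem L19954 : sm ga N2503 = N1838 := ded_15_1 (flp_h L14689) (flp_a L14625) L19952
theorem L19956 : sm gf N2503 = N2123 := ded_40_1 (flp_h L16909) (flp_f L14629) L19952
theorem L19958 : sm gg N2503 = N1830 := ded_42_1 (flp_h L14631) L14623 L19952
theorem L19960 : sm gd N2503 = N1868 := ded_33_1 (flp_h L14909) L10963 (flp_h L10776) (flp_d L14627) L19952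
theorem L19962 : sm gi N1830 = N2504 := rfl
theorem L19970 : sm gd N1832 = N2505 := rfl
theorem L19972 : sm gb N2505 = N2505 := ded_18_1 (flp_d L19970) L14649 L19970
theorem L19973 : sm ge N2505 = N1976 := ded_30_2 (flp_d L15748) (flp_e L11590) (flp_d L10785) L14647 L19970
theorem L19975 : sm gg N1832 = N2506 := rfl
theorem L19977 : sm gb N2506 = N2506 := ded_21_1 (flp_g L19975) L14649 L19975
theorem L19978 : sm gc N2506 = N1836 := ded_27_1 (flp_g L14677) (flp_c L14650) L19975
theorem L19980 : sm ge N2506 = N1833 := ded_36_1 (flp_g L14652) L14647 L19975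
theorem L19982 : sm gh N1832 = N2507 := rfl
theorem L19984 : sm gb N2507 = N2507 := ded_22_1 (flp_h L19982) L14649 L19982
theorem L19985 : sm gc N2507 = N1837 := ded_28_1 (flp_h L14683) (flp_c L14650) L19982
theorem L19987 : sm ge N2507 = N1834 := ded_37_1 (flp_h L14661) L14647 L19982
theorem L19989 : sm gh N1833 = N2508 := rfl
theorem L19996 : sm gg N2508 = N1834 := ded_42_1 (flp_h L14661) L14652 L19989
theorem L19999 : sm gi N1834 = N2509 := rfl
theorem L20002 : sm gc N2509 = N1839 := ded_29_1 (flp_i L14699) (flp_c L14664) L19999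
theorem L20005 : sm gf N2509 = N1835 := ded_41_1 (flp_i L14669) (flp_f L14666) L19999
theorem L20007 : sm gf N1836 = N2510 := rfl
theorem L20009 : sm gb N2510 = N1840 := ded_20_1 (flp_f L14707) (flp_b L14679) L20007
theorem L20013 : sm gh N1836 = N2511 := rfl
theorem L20015 : sm gb N2511 = N1841 := ded_22_1 (flp_h L14712) (flp_b L14679) L20013
theorem L20017 : sm ge N2511 = N1838 := ded_37_1 (flp_h L14689) (flp_e L14681) L20013
theorem L20019 : sm gg N2511 = N1837 := ded_42_1 (flp_h L14683) L14677 L20013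
theorem L20021 : sm gd N1837 = N2512 := rfl
theorem L20023 : sm gb N2512 = N1842 := ded_18_1 (flp_d L14719) (flp_b L14685) L20021
theorem L20025 : sm ge N2512 = N1872 := ded_30_2 (flp_d L14944) L10997 (flp_d L10813) (flp_e L14687) L20021
theorem L20043 : sm gh N1840 = N2515 := rfl
theorem L20048 : sm gf N2515 = N1841 := ded_40_1 (flp_h L14712) L14707 L20043
theorem L20050 : sm gd N1841 = N2516 := rfl
theorem L20052 : sm gg N2516 = N1842 := ded_32_2 (flp_d L14719) (flp_g L14717) L20050
theorem L20054 : sm ge N2516 = N1876 := ded_30_2 (flp_d L14977) L11029 (flp_d L10840) (flp_e L14715) L20050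
theorem L20063 : sm gc N1842 = N2518 := rfl
theorem L20065 : sm ge N2518 = N1878 := ded_25_2 (flp_c L14990) (flp_e L14721) L20063
theorem L20067 : sm gd N2518 = N2518 := ded_24_2 (flp_c L20063) (flp_d L14719) L10830 L14719 L20063
theorem L20068 : sm gi N1842 = N2519 := rfl
theorem L20070 : sm gd N2519 = N1843 := ded_34_1 (flp_i L14723) L14719 L20068
theorem L20074 : sm gf N1845 = N2520 := rfl
theorem L20076 : sm ga N2520 = N2520 := ded_13_1 (flp_f L20074) L14744 L20074
theorem L20077 : sm gb N2520 = N1846 := ded_20_1 (flp_f L14745) L14737 L20074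
theorem L20079 : sm gd N2520 = N1979 := ded_31_1 (flp_f L15768) (flp_d L14739) L20074
theorem L20081 : sm gi N2520 = N2520 := ded_41_2 (flp_f L20074) L14743 L20074
theorem L20082 : sm gh N1845 = N2521 := rfl
theorem L20084 : sm ga N2521 = N2521 := ded_15_1 (flp_h L20082) L14744 L20082
theorem L20085 : sm gb N2521 = N1847 := ded_22_1 (flp_h L14754) L14737 L20082
theorem L20087 : sm ge N2521 = N2521 := ded_37_1 (flp_h L20082) L14741 L20082
theorem L20088 : sm gg N2521 = N2521 := ded_42_1 (flp_h L20082) L14742 L20082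
theorem L20089 : sm ge N1846 = N2522 := rfl
theorem L20091 : sm ga N2522 = N1852 := ded_12_1 (flp_e L14791) (flp_a L14747) L20089
theorem L20093 : sm gc N2522 = N1848 := ded_25_1 (flp_e L14762) (flp_c L14749) L20089
theorem L20095 : sm gi N2522 = N2522 := ded_38_2 (flp_e L20089) L14753 L20089
theorem L20096 : sm gd N2522 = N2522 := ded_30_1 (flp_e L20089) L14751 L11635 (flp_d L14751) L20089
theorem L20097 : sm gf N2522 = N2522 := ded_35_2 (flp_e L20089) (flp_f L14745) L10853 L14745 L20089
theorem L20098 : sm gg N1846 = N2523 := rfl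
theorem L20100 : sm ga N2523 = N1853 := ded_14_1 (flp_g L14799) (flp_a L14747) L20098
theorem L20102 : sm gc N2523 = N1849 := ded_27_1 (flp_g L14770) (flp_c L14749) L20098
theorem L20104 : sm gd N2523 = N1981 := ded_32_1 (flp_g L15785) (flp_d L14751) L20098
theorem L20106 : sm gi N2523 = N2523 := ded_43_2 (flp_g L20098) L14753 L20098
theorem L20107 : sm gf N2523 = N2523 := ded_39_1 (flp_g L20098) (flp_f L14745) L10854 L14745 L20098
theorem L20108 : sm gh N1846 = N2524 := rfl
theorem L20110 : sm ga N2524 = N1854 := ded_15_1 (flp_h L14808) (flp_a L14747) L20108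
theorem L20112 : sm gc N2524 = N1850 := ded_28_1 (flp_h L14778) (flp_c L14749) L20108
theorem L20114 : sm gf N2524 = N1847 := ded_40_1 (flp_h L14754) L14745 L20108
theorem L20116 : sm gd N1847 = N2525 := rfl
theorem L20118 : sm ga N2525 = N1855 := ded_11_1 (flp_d L14815) (flp_a L14756) L20116
theorem L20120 : sm gg N2525 = N2525 := ded_32_2 (flp_d L20116) L14761 L20116
theorem L20121 : sm gh N2525 = N1983 := ded_33_2 (flp_d L15803) (flp_h L11636) (flp_d L10856) L14754 L20116
theorem L20123 : sm gi N1847 = N2526 := rfl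
theorem L20125 : sm ga N2526 = N1856 := ded_16_1 (flp_i L14821) (flp_a L14756) L20123
theorem L20127 : sm gc N2526 = N1851 := ded_29_1 (flp_i L14784) (flp_c L14758) L20123
theorem L20129 : sm ge N2526 = N2526 := ded_38_1 (flp_i L20123) L14760 L20123
theorem L20130 : sm gg N2526 = N2526 := ded_43_1 (flp_i L20123) L14761 L20123
theorem L20131 : sm gh N2526 = N2526 := ded_44_1 (flp_i L20123) (flp_h L14754) L10855 L14754 L20123
theorem L20132 : sm gg N1848 = N2527 := rfl
theorem L20134 : sm ga N2527 = N1857 := ded_14_1 (flp_g L14829) (flp_a L14764) L20132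
theorem L20136 : sm gd N2527 = N1866 := ded_32_1 (flp_g L14893) (flp_d L14767) L20132
theorem L20141 : sm gh N1848 = N2528 := rfl
theorem L20143 : sm ga N2528 = N1858 := ded_15_1 (flp_h L14838) (flp_a L14764) L20141
theorem L20145 : sm ge N2528 = N1850 := ded_37_1 (flp_h L14778) L14762 L20141
theorem L20147 : sm gf N2528 = N2528 := ded_40_1 (flp_h L20141) L14769 L20141
theorem L20148 : sm gh N1849 = N2529 := rfl
theorem L20150 : sm ga N2529 = N1859 := ded_15_1 (flp_h L14845) (flp_a L14772) L20148
theorem L20152 : sm gf N2529 = N2529 := ded_40_1 (flp_h L20148) L14777 L20148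
theorem L20153 : sm gg N2529 = N1850 := ded_42_1 (flp_h L14778) L14770 L20148
theorem L20155 : sm gi N1850 = N2530 := rfl
theorem L20157 : sm ga N2530 = N1860 := ded_16_1 (flp_i L14852) (flp_a L14780) L20155
theorem L20159 : sm gf N2530 = N1851 := ded_41_1 (flp_i L14784) (flp_f L14782) L20155
theorem L20161 : sm gh N2530 = N2530 := ded_44_1 (flp_i L20155) (flp_h L14778) L10864 L14778 L20155
theorem L20162 : sm gg N1852 = N2531 := rfl
theorem L20165 : sm gc N2531 = N1857 := ded_27_1 (flp_g L14829) (flp_c L14794) L20162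
theorem L20168 : sm ge N2531 = N1853 := ded_36_1 (flp_g L14799) L14791 L20162
theorem L20171 : sm gh N1852 = N2532 := rfl
theorem L20173 : sm gb N2532 = N2532 := ded_22_1 (flp_h L20171) L14793 L20171
theorem L20174 : sm gc N2532 = N1858 := ded_28_1 (flp_h L14838) (flp_c L14794) L20171
theorem L20176 : sm ge N2532 = N1854 := ded_37_1 (flp_h L14808) L14791 L20171
theorem L20178 : sm gf N2532 = N2532 := ded_40_1 (flp_h L20171) L14798 L20171
theorem L20179 : sm gh N1853 = N2533 := rfl
theorem L20181 : sm gb N2533 = N2533 := ded_22_1 (flp_h L20179) L14801 L20179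
theorem L20182 : sm gc N2533 = N1859 := ded_28_1 (flp_h L14845) (flp_c L14802) L20179
theorem L20184 : sm gf N2533 = N2533 := ded_40_1 (flp_h L20179) L14807 L20179
theorem L20185 : sm gg N2533 = N1854 := ded_42_1 (flp_h L14808) L14799 L20179
theorem L20187 : sm gd N1854 = N2534 := rfl
theorem L20189 : sm gb N2534 = N2534 := ded_18_1 (flp_d L20187) L14810 L20187
theorem L20190 : sm gf N2534 = N1855 := ded_31_2 (flp_d L14815) (flp_f L14813) L20187
theorem L20192 : sm gh N2534 = N1988 := ded_33_2 (flp_d L15845) (flp_h L11680) (flp_d L10886) L14808 L20187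
theorem L20194 : sm gi N1854 = N2535 := rfl
theorem L20196 : sm gb N2535 = N2535 := ded_23_1 (flp_i L20194) L14810 L20194
theorem L20197 : sm gc N2535 = N1860 := ded_29_1 (flp_i L14852) (flp_c L14811) L20194
theorem L20199 : sm gf N2535 = N1856 := ded_41_1 (flp_i L14821) (flp_f L14813) L20194
theorem L20201 : sm gh N2535 = N2535 := ded_44_1 (flp_i L20194) (flp_h L14808) L10888 L14808 L20194
theorem L20202 : sm ge N1855 = N2536 := rfl
theorem L20204 : sm gb N2536 = N2536 := ded_19_1 (flp_e L20202) L14817 L20202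
theorem L20205 : sm gg N2536 = N2536 := ded_36_2 (flp_e L20202) L14818 L20202
theorem L20206 : sm gh N2536 = N1990 := ded_37_2 (flp_e L15859) (flp_h L14819) L20202
theorem L20208 : sm gd N2536 = N2536 := ded_30_1 (flp_e L20202) (flp_d L14815) L10894 L14815 L20202
theorem L20209 : sm gi N1855 = N2537 := rfl
theorem L20211 : sm gb N2537 = N2537 := ded_23_1 (flp_i L20209) L14817 L20209
theorem L20212 : sm gd N2537 = N1856 := ded_34_1 (flp_i L14821) L14815 L20209
theorem L20214 : sm gg N2537 = N2537 := ded_43_1 (flp_i L20209) L14818 L20209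
theorem L20215 : sm gf N1857 = N2538 := rfl
theorem L20219 : sm gd N2538 = N1870 := ded_31_1 (flp_f L14926) (flp_d L14833) L20215
theorem L20224 : sm gh N1857 = N2539 := rfl
theorem L20226 : sm gb N2539 = N1862 := ded_22_1 (flp_h L14867) (flp_b L14831) L20224
theorem L20228 : sm ge N2539 = N1859 := ded_37_1 (flp_h L14845) (flp_e L14835) L20224
theorem L20230 : sm gg N2539 = N1858 := ded_42_1 (flp_h L14838) L14829 L20224
theorem L20232 : sm gd N1858 = N2540 := rfl
theorem L20234 : sm gb N2540 = N1863 := ded_18_1 (flp_d L14874) (flp_b L14840) L20232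
theorem L20236 : sm gf N2540 = N2540 := ded_31_2 (flp_d L20232) L14844 L20232
theorem L20237 : sm gh N2540 = N1872 := ded_33_2 (flp_d L14944) (flp_h L10992) (flp_d L10901) L14838 L20232
theorem L20239 : sm gi N1858 = N2541 := rfl
theorem L20241 : sm gb N2541 = N1864 := ded_23_1 (flp_i L14879) (flp_b L14840) L20239
theorem L20243 : sm ge N2541 = N1860 := ded_38_1 (flp_i L14852) (flp_e L14842) L20239
theorem L20245 : sm gf N2541 = N2541 := ded_41_1 (flp_i L20239) L14844 L20239
theorem L20246 : sm gh N2541 = N2541 := ded_44_1 (flp_i L20239) (flp_h L14838) L10900 L14838 L20239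
theorem L20247 : sm gi N1859 = N2542 := rfl
theorem L20249 : sm gb N2542 = N1865 := ded_23_1 (flp_i L14886) (flp_b L14847) L20247
theorem L20251 : sm gf N2542 = N2542 := ded_41_1 (flp_i L20247) L14849 L20247
theorem L20252 : sm gg N2542 = N1860 := ded_43_1 (flp_i L14852) (flp_g L14850) L20247
theorem L20254 : sm gh N2542 = N2542 := ded_44_1 (flp_i L20247) (flp_h L14845) L10910 L14845 L20247
theorem L20255 : sm gh N1861 = N2543 := rfl
theorem L20262 : sm gd N1862 = N2544 := rfl
theorem L20264 : sm gg N2544 = N1863 := ded_32_2 (flp_d L14874) (flp_g L14872) L20262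
theorem L20266 : sm gh N2544 = N1876 := ded_33_2 (flp_d L14977) (flp_h L11025) (flp_d L10928) L14867 L20262
theorem L20268 : sm gi N1862 = N2545 := rfl
theorem L20271 : sm ge N2545 = N1865 := ded_38_1 (flp_i L14886) (flp_e L14870) L20268
theorem L20273 : sm gg N2545 = N1864 := ded_43_1 (flp_i L14879) (flp_g L14872) L20268
theorem L20276 : sm gc N1863 = N2546 := rfl
theorem L20278 : sm gf N2546 = N2546 := ded_26_2 (flp_c L20276) L14876 L20276
theorem L20279 : sm gh N2546 = N1878 := ded_28_2 (flp_c L14990) (flp_h L14877) L20276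
theorem L20281 : sm gd N2546 = N2546 := ded_24_2 (flp_c L20276) (flp_d L14874) L10935 L14874 L20276
theorem L20282 : sm gi N1863 = N2547 := rfl
theorem L20284 : sm gd N2547 = N1864 := ded_34_1 (flp_i L14879) L14874 L20282
theorem L20286 : sm gf N2547 = N2547 := ded_41_1 (flp_i L20282) L14876 L20282
theorem L20287 : sm gf N1866 = N2548 := rfl
theorem L20289 : sm ga N2548 = N1870 := ded_13_1 (flp_f L14926) (flp_a L14895) L20287
theorem L20296 : sm gh N1866 = N2549 := rfl
theorem L20298 : sm ga N2549 = N1871 := ded_15_1 (flp_h L14935) (flp_a L14895) L20296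
theorem L20301 : sm ge N2549 = N1868 := ded_37_1 (flp_h L14909) (flp_e L14898) L20296
theorem L20303 : sm gg N2549 = N1867 := ded_42_1 (flp_h L14901) L14893 L20296
theorem L20305 : sm gd N1867 = N2550 := rfl
theorem L20307 : sm ga N2550 = N1872 := ded_11_1 (flp_d L14944) (flp_a L14903) L20305
theorem L20309 : sm gf N2550 = N2550 := ded_31_2 (flp_d L20305) L14908 L20305
theorem L20310 : sm gi N1867 = N2551 := rfl
theorem L20312 : sm ga N2551 = N1873 := ded_16_1 (flp_i L14949) (flp_a L14903) L20310
theorem L20329 : sm gh N1870 = N2553 := rfl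
theorem L20339 : sm gd N1871 = N2554 := rfl
theorem L20341 : sm gb N2554 = N1876 := ded_18_1 (flp_d L14977) (flp_b L14937) L20339
theorem L20343 : sm gg N2554 = N1872 := ded_32_2 (flp_d L14944) (flp_g L14942) L20339
theorem L20345 : sm gi N1871 = N2555 := rfl
theorem L20352 : sm gg N2555 = N1873 := ded_43_1 (flp_i L14949) (flp_g L14942) L20345
theorem L20355 : sm gc N1872 = N2556 := rfl
theorem L20357 : sm gf N2556 = N2556 := ded_26_2 (flp_c L20355) L14948 L20355
theorem L20358 : sm gd N2556 = N2556 := ded_24_2 (flp_c L20355) (flp_d L14944) L10996 L14944 L20355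
theorem L20359 : sm gi N1872 = N2557 := rfl
theorem L20363 : sm gd N2557 = N1873 := ded_34_1 (flp_i L14949) L14944 L20359
theorem L20366 : sm gd N1875 = N2558 := rfl
theorem L20368 : sm gf N2558 = N1876 := ded_31_2 (flp_d L14977) (flp_f L14974) L20366
theorem L20381 : sm gc N1876 = N2560 := rfl
theorem L20387 : sm gi N1876 = N2561 := rfl
theorem L20391 : sm gg N2561 = N1879 := ded_43_1 (flp_i L14995) (flp_g L14979) L20387
theorem L20393 : sm gb N1878 = N2562 := rfl
theorem L20395 : sm gd N2562 = N1884 := ded_18_2 (flp_b L15030) (flp_d L14993) L20393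
theorem L20397 : sm gf N2562 = N2562 := ded_20_2 (flp_b L20393) L14992 L20393
theorem L20398 : sm gi N1878 = N2563 := rfl
theorem L20402 : sm gd N2563 = N1885 := ded_34_1 (flp_i L15036) (flp_d L14993) L20398
theorem L20409 : sm gc N1880 = N2565 := rfl
theorem L20411 : sm gf N2565 = N1882 := ded_26_2 (flp_c L15016) (flp_f L15003) L20409
theorem L20415 : sm ge N1880 = N2566 := rfl
theorem L20420 : sm gd N2566 = N2158 := ded_30_1 (flp_e L17155) (flp_d L12638) (flp_e L11056) L15000 L20415
theorem L20423 : sm gi N1880 = N2567 := rfl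
theorem L20428 : sm gf N2567 = N1883 := ded_41_1 (flp_i L15022) (flp_f L15003) L20423
theorem L20431 : sm gb N1882 = N2568 := rfl
theorem L20434 : sm gg N2568 = N1884 := ded_21_2 (flp_b L15030) (flp_g L15019) L20431
theorem L20438 : sm gi N1882 = N2569 := rfl
theorem L20443 : sm gg N2569 = N1885 := ded_43_1 (flp_i L15036) (flp_g L15019) L20438
theorem L20445 : sm gh N1883 = N2570 := rfl
theorem L20449 : sm gg N2570 = N1886 := ded_42_1 (flp_h L15042) (flp_g L15028) L20445
theorem L20453 : sm ga N1884 = N2571 := rfl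
theorem L20455 : sm gc N2571 = N2571 := ded_10_2 (flp_a L20453) L15035 L20453
theorem L20456 : sm ge N2571 = N2571 := ded_12_2 (flp_a L20453) L15032 L20453
theorem L20457 : sm gf N2571 = N2571 := ded_13_2 (flp_a L20453) L15033 L20453
theorem L20458 : sm gh N2571 = N2571 := ded_15_2 (flp_a L20453) L15034 L20453
theorem L20459 : sm gi N1884 = N2572 := rfl
theorem L20466 : sm gh N1885 = N2573 := rfl
theorem L20473 : sm ge N1887 = N2574 := rfl
theorem L20475 : sm ga N2574 = N1888 := ded_12_1 (flp_e L15059) L15049 L20473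
theorem L20477 : sm gb N2574 = N2574 := ded_19_1 (flp_e L20473) L15058 L20473
theorem L20478 : sm gc N2574 = N2574 := ded_25_1 (flp_e L20473) L15051 L20473
theorem L20479 : sm gg N2574 = N2574 := ded_36_2 (flp_e L20473) L15055 L20473
theorem L20480 : sm gh N2574 = N2574 := ded_37_2 (flp_e L20473) L15056 L20473
theorem L20481 : sm gi N2574 = N2574 := ded_38_2 (flp_e L20473) L15057 L20473
theorem L20482 : sm gd N1888 = N2575 := rfl
theorem L20484 : sm gb N2575 = N1889 := ded_18_1 (flp_d L15067) (flp_b L15061) L20482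
theorem L20486 : sm gg N2575 = N2575 := ded_32_2 (flp_d L20482) L15064 L20482
theorem L20487 : sm gi N2575 = N2575 := ded_34_2 (flp_d L20482) L15066 L20482
theorem L20488 : sm ge N2575 = N1893 := ded_30_2 (flp_d L15101) (flp_e L11121) (flp_d L11090) L15059 L20482
theorem L20490 : sm gf N1888 = N2576 := rfl
theorem L20492 : sm gb N2576 = N1890 := ded_20_1 (flp_f L15075) (flp_b L15061) L20490
theorem L20494 : sm gc N2576 = N2576 := ded_26_1 (flp_f L20490) L15063 L20490
theorem L20495 : sm gh N2576 = N2576 := ded_40_2 (flp_f L20490) L15065 L20490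
theorem L20496 : sm gi N2576 = N2576 := ded_41_2 (flp_f L20490) L15066 L20490
theorem L20497 : sm ge N2576 = N2576 := ded_35_1 (flp_f L20490) (flp_e L15059) L11092 L15059 L20490
theorem L20498 : sm gf N1889 = N2577 := rfl
theorem L20502 : sm gd N2577 = N1890 := ded_31_1 (flp_f L15075) L15067 L20498
theorem L20505 : sm gh N1889 = N2578 := rfl
theorem L20509 : sm ge N2578 = N1896 := ded_37_1 (flp_h L15122) (flp_e L15073) L20505
theorem L20513 : sm gg N1890 = N2579 := rfl
theorem L20516 : sm gc N2579 = N1891 := ded_27_1 (flp_g L15083) (flp_c L15078) L20513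
theorem L20522 : sm gd N1892 = N2580 := rfl
theorem L20524 : sm ga N2580 = N1893 := ded_11_1 (flp_d L15101) (flp_a L15094) L20522
theorem L20526 : sm gb N2580 = N2580 := ded_18_1 (flp_d L20522) L15096 L20522
theorem L20527 : sm gg N2580 = N2580 := ded_32_2 (flp_d L20522) L15097 L20522
theorem L20528 : sm gi N2580 = N2580 := ded_34_2 (flp_d L20522) L15100 L20522
theorem L20529 : sm gf N1892 = N2581 := rfl
theorem L20531 : sm ga N2581 = N1894 := ded_13_1 (flp_f L15107) (flp_a L15094) L20529
theorem L20533 : sm gb N2581 = N2581 := ded_20_1 (flp_f L20529) L15096 L20529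
theorem L20534 : sm gh N2581 = N1899 := ded_40_2 (flp_f L15148) (flp_h L15098) L20529
theorem L20536 : sm gi N2581 = N2581 := ded_41_2 (flp_f L20529) L15100 L20529
theorem L20537 : sm ge N2581 = N2581 := ded_35_1 (flp_f L20529) (flp_e L15092) L11115 L15092 L20529
theorem L20538 : sm gc N1893 = N2582 := rfl
theorem L20540 : sm gg N2582 = N2582 := ded_27_2 (flp_c L20538) L15105 L20538
theorem L20541 : sm gi N2582 = N2582 := ded_29_2 (flp_c L20538) L15106 L20538
theorem L20542 : sm gb N2582 = N2582 := ded_17_1 (flp_c L20538) L15103 L11134 (flp_b L15103) L20538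
theorem L20543 : sm gf N1893 = N2583 := rfl
theorem L20545 : sm gb N2583 = N1895 := ded_20_1 (flp_f L15115) (flp_b L15103) L20543
theorem L20547 : sm gd N2583 = N1894 := ded_31_1 (flp_f L15107) L15101 L20543
theorem L20549 : sm gi N2583 = N2583 := ded_41_2 (flp_f L20543) L15106 L20543
theorem L20550 : sm gh N1893 = N2584 := rfl
theorem L20552 : sm gb N2584 = N1896 := ded_22_1 (flp_h L15122) (flp_b L15103) L20550
theorem L20554 : sm gg N2584 = N2584 := ded_42_1 (flp_h L20550) L15105 L20550
theorem L20555 : sm gd N2584 = N1902 := ded_33_1 (flp_h L15172) (flp_d L11161) (flp_h L11126) L15101 L20550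
theorem L20557 : sm gg N1894 = N2585 := rfl
theorem L20559 : sm gb N2585 = N1897 := ded_21_1 (flp_g L15129) (flp_b L15109) L20557
theorem L20561 : sm ge N2585 = N2585 := ded_36_1 (flp_g L20557) L15114 L20557
theorem L20562 : sm gh N2585 = N1903 := ded_42_2 (flp_g L15178) (flp_h L15111) L20557
theorem L20564 : sm gi N2585 = N2585 := ded_43_2 (flp_g L20557) L15113 L20557
theorem L20565 : sm gf N2585 = N2585 := ded_39_1 (flp_g L20557) (flp_f L15107) L11125 L15107 L20557
theorem L20566 : sm ge N1895 = N2586 := rfl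
theorem L20572 : sm gg N1895 = N2587 := rfl
theorem L20576 : sm gd N2587 = N1897 := ded_32_1 (flp_g L15129) (flp_d L15119) L20572
theorem L20580 : sm gh N1895 = N2588 := rfl
theorem L20584 : sm gf N2588 = N1896 := ded_40_1 (flp_h L15122) L15115 L20580
theorem L20586 : sm gd N2588 = N1906 := ded_33_1 (flp_h L15205) L11181 (flp_h L11140) (flp_d L15119) L20580
theorem L20588 : sm gi N1896 = N2589 := rfl
theorem L20596 : sm gc N1898 = N2590 := rfl
theorem L20598 : sm ga N2590 = N1900 := ded_10_1 (flp_c L15156) (flp_a L15141) L20596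
theorem L20600 : sm ge N2590 = N2590 := ded_25_2 (flp_c L20596) L15147 L20596
theorem L20601 : sm gg N2590 = N2590 := ded_27_2 (flp_c L20596) L15144 L20596
theorem L20602 : sm gi N2590 = N1908 := ded_29_2 (flp_c L15221) (flp_i L15145) L20596
theorem L20604 : sm gf N1898 = N2591 := rfl
theorem L20606 : sm ga N2591 = N1901 := ded_13_1 (flp_f L15164) (flp_a L15141) L20604
theorem L20608 : sm gb N2591 = N2591 := ded_20_1 (flp_f L20604) L15143 L20604
theorem L20609 : sm gd N2591 = N1899 := ded_31_1 (flp_f L15148) L15139 L20604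
theorem L20611 : sm gi N2591 = N1909 := ded_41_2 (flp_f L15227) (flp_i L15145) L20604
theorem L20613 : sm gh N1898 = N2592 := rfl
theorem L20615 : sm ga N2592 = N1902 := ded_15_1 (flp_h L15172) (flp_a L15141) L20613
theorem L20617 : sm gb N2592 = N2592 := ded_22_1 (flp_h L20613) L15143 L20613
theorem L20618 : sm ge N2592 = N2592 := ded_37_1 (flp_h L20613) L15147 L20613
theorem L20619 : sm gg N2592 = N2592 := ded_42_1 (flp_h L20613) L15144 L20613
theorem L20620 : sm gg N1899 = N2593 := rfl
theorem L20622 : sm ga N2593 = N1903 := ded_14_1 (flp_g L15178) (flp_a L15150) L20620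
theorem L20624 : sm gb N2593 = N2593 := ded_21_1 (flp_g L20620) L15152 L20620
theorem L20625 : sm ge N2593 = N2593 := ded_36_1 (flp_g L20620) L15155 L20620
theorem L20626 : sm gi N2593 = N1911 := ded_43_2 (flp_g L15242) (flp_i L15153) L20620
theorem L20628 : sm gf N2593 = N2593 := ded_39_1 (flp_g L20620) (flp_f L15148) L11158 L15148 L20620
theorem L20629 : sm gf N1900 = N2594 := rfl
theorem L20631 : sm gb N2594 = N1926 := ded_20_1 (flp_f L15360) (flp_b L15162) L20629
theorem L20633 : sm gc N2594 = N1901 := ded_26_1 (flp_f L15164) L15156 L20629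
theorem L20635 : sm gi N2594 = N1912 := ded_41_2 (flp_f L15250) (flp_i L15160) L20629
theorem L20637 : sm gh N1900 = N2595 := rfl
theorem L20639 : sm gb N2595 = N1927 := ded_22_1 (flp_h L15366) (flp_b L15162) L20637
theorem L20641 : sm gc N2595 = N1902 := ded_28_1 (flp_h L15172) L15156 L20637
theorem L20643 : sm ge N2595 = N2595 := ded_37_1 (flp_h L20637) L15158 L20637
theorem L20644 : sm gg N2595 = N2595 := ded_42_1 (flp_h L20637) L15159 L20637
theorem L20645 : sm ge N1901 = N2596 := rfl
theorem L20647 : sm gb N2596 = N1904 := ded_19_1 (flp_e L15186) (flp_b L15166) L20645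
theorem L20649 : sm gi N2596 = N1914 := ded_38_2 (flp_e L15264) (flp_i L15170) L20645
theorem L20651 : sm gd N2596 = N2596 := ded_30_1 (flp_e L20645) L15168 L11175 (flp_d L15168) L20645
theorem L20652 : sm gf N2596 = N2596 := ded_35_2 (flp_e L20645) (flp_f L15164) L11168 L15164 L20645
theorem L20653 : sm gg N1901 = N2597 := rfl
theorem L20655 : sm gb N2597 = N1905 := ded_21_1 (flp_g L15195) (flp_b L15166) L20653
theorem L20657 : sm gd N2597 = N1903 := ded_32_1 (flp_g L15178) (flp_d L15168) L20653
theorem L20659 : sm gi N2597 = N1915 := ded_43_2 (flp_g L15270) (flp_i L15170) L20653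
theorem L20661 : sm gf N2597 = N2597 := ded_39_1 (flp_g L20653) (flp_f L15164) L11165 L15164 L20653
theorem L20662 : sm gh N1901 = N2598 := rfl
theorem L20664 : sm gb N2598 = N1906 := ded_22_1 (flp_h L15205) (flp_b L15166) L20662
theorem L20666 : sm gf N2598 = N1902 := ded_40_1 (flp_h L15172) L15164 L20662
theorem L20668 : sm gi N1902 = N2599 := rfl
theorem L20670 : sm gb N2599 = N1907 := ded_23_1 (flp_i L15212) (flp_b L15174) L20668
theorem L20672 : sm ge N2599 = N2599 := ded_38_1 (flp_i L20668) L15176 L20668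
theorem L20673 : sm gg N2599 = N2599 := ded_43_1 (flp_i L20668) L15177 L20668
theorem L20674 : sm gh N2599 = N1917 := ded_44_1 (flp_i L15284) (flp_h L11227) (flp_i L11166) L15172 L20668
theorem L20676 : sm gg N1904 = N2600 := rfl
theorem L20682 : sm ge N2600 = N1905 := ded_36_1 (flp_g L15195) L15186 L20676
theorem L20684 : sm gi N2600 = N1918 := ded_43_2 (flp_g L15291) (flp_i L15191) L20676
theorem L20686 : sm gh N1904 = N2601 := rfl
theorem L20689 : sm gc N2601 = N1933 := ded_28_1 (flp_h L15415) (flp_c L15189) L20686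
theorem L20691 : sm ge N2601 = N1906 := ded_37_1 (flp_h L15205) L15186 L20686
theorem L20694 : sm gh N1905 = N2602 := rfl
theorem L20702 : sm gi N1906 = N2603 := rfl
theorem L20711 : sm gb N1908 = N2604 := rfl
theorem L20713 : sm ge N2604 = N2604 := ded_19_2 (flp_b L20711) L15225 L20711
theorem L20714 : sm gg N2604 = N2604 := ded_21_2 (flp_b L20711) L15226 L20711
theorem L20715 : sm ga N2604 = N1936 := ded_9_1 (flp_b L15436) L11354 (flp_b L11219) (flp_a L15223) L20711
theorem L20717 : sm gc N2604 = N2604 := ded_17_2 (flp_b L20711) (flp_c L15221) L11205 L15221 L20711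
theorem L20718 : sm gf N1908 = N2605 := rfl
theorem L20720 : sm ga N2605 = N1912 := ded_13_1 (flp_f L15250) (flp_a L15223) L20718
theorem L20722 : sm gc N2605 = N1909 := ded_26_1 (flp_f L15227) L15221 L20718
theorem L20724 : sm gh N1908 = N2606 := rfl
theorem L20726 : sm ga N2606 = N1913 := ded_15_1 (flp_h L15256) (flp_a L15223) L20724
theorem L20728 : sm gc N2606 = N1910 := ded_28_1 (flp_h L15234) L15221 L20724
theorem L20730 : sm ge N2606 = N2606 := ded_37_1 (flp_h L20724) L15225 L20724
theorem L20731 : sm gg N2606 = N2606 := ded_42_1 (flp_h L20724) L15226 L20724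
theorem L20732 : sm ge N1909 = N2607 := rfl
theorem L20734 : sm ga N2607 = N1914 := ded_12_1 (flp_e L15264) (flp_a L15229) L20732
theorem L20736 : sm gb N2607 = N2607 := ded_19_1 (flp_e L20732) L15231 L20732
theorem L20737 : sm gd N2607 = N2607 := ded_30_1 (flp_e L20732) L15232 L11214 (flp_d L15232) L20732
theorem L20738 : sm gf N2607 = N2607 := ded_35_2 (flp_e L20732) (flp_f L15227) L11207 L15227 L20732
theorem L20739 : sm gg N1909 = N2608 := rfl
theorem L20741 : sm ga N2608 = N1915 := ded_14_1 (flp_g L15270) (flp_a L15229) L20739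
theorem L20743 : sm gb N2608 = N2608 := ded_21_1 (flp_g L20739) L15231 L20739
theorem L20744 : sm gd N2608 = N1911 := ded_32_1 (flp_g L15242) (flp_d L15232) L20739
theorem L20746 : sm gf N2608 = N2608 := ded_39_1 (flp_g L20739) (flp_f L15227) L11206 L15227 L20739
theorem L20747 : sm gh N1909 = N2609 := rfl
theorem L20749 : sm ga N2609 = N1916 := ded_15_1 (flp_h L15277) (flp_a L15229) L20747
theorem L20751 : sm gb N2609 = N2609 := ded_22_1 (flp_h L20747) L15231 L20747
theorem L20752 : sm gf N2609 = N1910 := ded_40_1 (flp_h L15234) L15227 L20747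
theorem L20754 : sm gd N2609 = N2609 := ded_33_1 (flp_h L20747) L15232 L11213 (flp_d L15232) L20747
theorem L20755 : sm gi N1910 = N2610 := rfl
theorem L20757 : sm ga N2610 = N1917 := ded_16_1 (flp_i L15284) (flp_a L15236) L20755
theorem L20759 : sm gb N2610 = N2610 := ded_23_1 (flp_i L20755) L15238 L20755
theorem L20760 : sm gd N2610 = N2610 := ded_34_1 (flp_i L20755) L15241 L20755
theorem L20761 : sm ge N2610 = N2610 := ded_38_1 (flp_i L20755) L15239 L20755
theorem L20762 : sm gg N2610 = N2610 := ded_43_1 (flp_i L20755) L15240 L20755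
theorem L20763 : sm ge N1912 = N2611 := rfl
theorem L20765 : sm gb N2611 = N1943 := ded_19_1 (flp_e L15489) (flp_b L15252) L20763
theorem L20767 : sm gc N2611 = N1914 := ded_25_1 (flp_e L15264) (flp_c L15254) L20763
theorem L20769 : sm gf N2611 = N2611 := ded_35_2 (flp_e L20763) (flp_f L15250) L11217 L15250 L20763
theorem L20770 : sm gg N1912 = N2612 := rfl
theorem L20772 : sm gb N2612 = N1944 := ded_21_1 (flp_g L15494) (flp_b L15252) L20770
theorem L20774 : sm gc N2612 = N1915 := ded_27_1 (flp_g L15270) (flp_c L15254) L20770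
theorem L20776 : sm gf N2612 = N2612 := ded_39_1 (flp_g L20770) (flp_f L15250) L11218 L15250 L20770
theorem L20777 : sm gh N1912 = N2613 := rfl
theorem L20779 : sm gb N2613 = N1945 := ded_22_1 (flp_h L15499) (flp_b L15252) L20777
theorem L20781 : sm gc N2613 = N1916 := ded_28_1 (flp_h L15277) (flp_c L15254) L20777
theorem L20783 : sm gf N2613 = N1913 := ded_40_1 (flp_h L15256) L15250 L20777
theorem L20785 : sm gd N1913 = N2614 := rfl
theorem L20787 : sm gb N2614 = N1946 := ded_18_1 (flp_d L15505) (flp_b L15258) L20785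
theorem L20789 : sm gg N2614 = N2614 := ded_32_2 (flp_d L20785) L15263 L20785
theorem L20790 : sm gc N2614 = N2614 := ded_24_1 (flp_d L20785) L15260 L11233 (flp_c L15260) L20785
theorem L20791 : sm gi N1913 = N2615 := rfl
theorem L20793 : sm gb N2615 = N1947 := ded_23_1 (flp_i L15510) (flp_b L15258) L20791
theorem L20795 : sm gc N2615 = N1917 := ded_29_1 (flp_i L15284) (flp_c L15260) L20791
theorem L20797 : sm ge N2615 = N2615 := ded_38_1 (flp_i L20791) L15262 L20791
theorem L20798 : sm gg N2615 = N2615 := ded_43_1 (flp_i L20791) L15263 L20791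
theorem L20799 : sm gg N1914 = N2616 := rfl
theorem L20801 : sm gb N2616 = N1918 := ded_21_1 (flp_g L15291) (flp_b L15266) L20799
theorem L20803 : sm gd N2616 = N2616 := ded_32_1 (flp_g L20799) L15268 L20799
theorem L20804 : sm ge N2616 = N1915 := ded_36_1 (flp_g L15270) L15264 L20799
theorem L20806 : sm gh N1914 = N2617 := rfl
theorem L20808 : sm gb N2617 = N1919 := ded_22_1 (flp_h L15299) (flp_b L15266) L20806
theorem L20810 : sm ge N2617 = N1916 := ded_37_1 (flp_h L15277) L15264 L20806
theorem L20812 : sm gf N2617 = N2617 := ded_40_1 (flp_h L20806) L15269 L20806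
theorem L20813 : sm gh N1915 = N2618 := rfl
theorem L20815 : sm gb N2618 = N1920 := ded_22_1 (flp_h L15307) (flp_b L15272) L20813
theorem L20817 : sm gf N2618 = N2618 := ded_40_1 (flp_h L20813) L15276 L20813
theorem L20818 : sm gg N2618 = N1916 := ded_42_1 (flp_h L15277) L15270 L20813
theorem L20820 : sm gd N2618 = N2618 := ded_33_1 (flp_h L20813) L15274 L11239 (flp_d L15274) L20813
theorem L20821 : sm gi N1916 = N2619 := rfl
theorem L20823 : sm gb N2619 = N1921 := ded_23_1 (flp_i L15316) (flp_b L15279) L20821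
theorem L20825 : sm gd N2619 = N2619 := ded_34_1 (flp_i L20821) L15283 L20821
theorem L20826 : sm gf N2619 = N1917 := ded_41_1 (flp_i L15284) (flp_f L15281) L20821
theorem L20828 : sm gf N1918 = N2620 := rfl
theorem L20831 : sm gc N2620 = N1952 := ded_26_1 (flp_f L15549) (flp_c L15294) L20828
theorem L20836 : sm gh N1918 = N2621 := rfl
theorem L20839 : sm gc N2621 = N1953 := ded_28_1 (flp_h L15556) (flp_c L15294) L20836
theorem L20841 : sm ge N2621 = N1920 := ded_37_1 (flp_h L15307) (flp_e L15297) L20836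
theorem L20843 : sm gg N2621 = N1919 := ded_42_1 (flp_h L15299) L15291 L20836
theorem L20845 : sm gd N1919 = N2622 := rfl
theorem L20852 : sm gi N1919 = N2623 := rfl
theorem L20860 : sm gi N1920 = N2624 := rfl
theorem L20869 : sm gb N1922 = N2625 := rfl
theorem L20871 : sm ge N2625 = N2625 := ded_19_2 (flp_b L20869) L15328 L20869
theorem L20872 : sm gg N2625 = N2625 := ded_21_2 (flp_b L20869) L15329 L20869
theorem L20873 : sm gi N2625 = N1936 := ded_23_2 (flp_b L15436) (flp_i L15330) L20869
theorem L20875 : sm gc N2625 = N2625 := ded_17_2 (flp_b L20869) (flp_c L15324) L11276 L15324 L20869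
theorem L20876 : sm gf N1922 = N2626 := rfl
theorem L20878 : sm ga N2626 = N1926 := ded_13_1 (flp_f L15360) (flp_a L15326) L20876
theorem L20880 : sm gc N2626 = N1923 := ded_26_1 (flp_f L15332) L15324 L20876
theorem L20882 : sm gi N2626 = N1937 := ded_41_2 (flp_f L15441) (flp_i L15330) L20876
theorem L20884 : sm gh N1922 = N2627 := rfl
theorem L20886 : sm ga N2627 = N1927 := ded_15_1 (flp_h L15366) (flp_a L15326) L20884
theorem L20888 : sm gc N2627 = N1924 := ded_28_1 (flp_h L15341) L15324 L20884
theorem L20890 : sm ge N2627 = N2627 := ded_37_1 (flp_h L20884) L15328 L20884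
theorem L20891 : sm gg N2627 = N2627 := ded_42_1 (flp_h L20884) L15329 L20884
theorem L20892 : sm ge N1923 = N2628 := rfl
theorem L20894 : sm ga N2628 = N1928 := ded_12_1 (flp_e L15372) (flp_a L15334) L20892
theorem L20896 : sm gb N2628 = N2628 := ded_19_1 (flp_e L20892) L15336 L20892
theorem L20897 : sm gi N2628 = N1939 := ded_38_2 (flp_e L15455) (flp_i L15339) L20892
theorem L20899 : sm gd N2628 = N1959 := ded_30_1 (flp_e L15606) L11467 (flp_e L11289) (flp_d L15337) L20892
theorem L20901 : sm gf N2628 = N2628 := ded_35_2 (flp_e L20892) (flp_f L15332) L11280 L15332 L20892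
theorem L20902 : sm gg N1923 = N2629 := rfl
theorem L20904 : sm ga N2629 = N1929 := ded_14_1 (flp_g L15381) (flp_a L15334) L20902
theorem L20906 : sm gb N2629 = N2629 := ded_21_1 (flp_g L20902) L15336 L20902
theorem L20907 : sm gd N2629 = N1925 := ded_32_1 (flp_g L15349) (flp_d L15337) L20902
theorem L20909 : sm gi N2629 = N1940 := ded_43_2 (flp_g L15463) (flp_i L15339) L20902
theorem L20911 : sm gf N2629 = N2629 := ded_39_1 (flp_g L20902) (flp_f L15332) L11277 L15332 L20902
theorem L20912 : sm gh N1923 = N2630 := rfl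
theorem L20914 : sm ga N2630 = N1930 := ded_15_1 (flp_h L15390) (flp_a L15334) L20912
theorem L20916 : sm gb N2630 = N2630 := ded_22_1 (flp_h L20912) L15336 L20912
theorem L20917 : sm gf N2630 = N1924 := ded_40_1 (flp_h L15341) L15332 L20912
theorem L20919 : sm gd N2630 = N2630 := ded_33_1 (flp_h L20912) L15337 L11286 (flp_d L15337) L20912
theorem L20920 : sm gi N1924 = N2631 := rfl
theorem L20922 : sm ga N2631 = N1931 := ded_16_1 (flp_i L15397) (flp_a L15343) L20920
theorem L20924 : sm gb N2631 = N2631 := ded_23_1 (flp_i L20920) L15345 L20920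
theorem L20925 : sm gd N2631 = N2631 := ded_34_1 (flp_i L20920) L15348 L20920
theorem L20926 : sm ge N2631 = N2631 := ded_38_1 (flp_i L20920) L15346 L20920
theorem L20927 : sm gg N2631 = N2631 := ded_43_1 (flp_i L20920) L15347 L20920
theorem L20928 : sm gh N2631 = N1942 := ded_44_1 (flp_i L15480) (flp_h L11365) (flp_i L11278) L15341 L20920
theorem L20930 : sm ge N1926 = N2632 := rfl
theorem L20932 : sm gc N2632 = N1928 := ded_25_1 (flp_e L15372) (flp_c L15362) L20930
theorem L20934 : sm gi N2632 = N1943 := ded_38_2 (flp_e L15489) (flp_i L15364) L20930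
theorem L20936 : sm gf N2632 = N2632 := ded_35_2 (flp_e L20930) (flp_f L15360) L11293 L15360 L20930
theorem L20937 : sm gg N1926 = N2633 := rfl
theorem L20939 : sm gc N2633 = N1929 := ded_27_1 (flp_g L15381) (flp_c L15362) L20937
theorem L20941 : sm gi N2633 = N1944 := ded_43_2 (flp_g L15494) (flp_i L15364) L20937
theorem L20943 : sm gf N2633 = N2633 := ded_39_1 (flp_g L20937) (flp_f L15360) L11294 L15360 L20937
theorem L20944 : sm gh N1926 = N2634 := rfl
theorem L20946 : sm gc N2634 = N1930 := ded_28_1 (flp_h L15390) (flp_c L15362) L20944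
theorem L20948 : sm gf N2634 = N1927 := ded_40_1 (flp_h L15366) L15360 L20944
theorem L20950 : sm gd N1927 = N2635 := rfl
theorem L20952 : sm gg N2635 = N2635 := ded_32_2 (flp_d L20950) L15371 L20950
theorem L20953 : sm gc N2635 = N2635 := ded_24_1 (flp_d L20950) L15368 L11311 (flp_c L15368) L20950
theorem L20954 : sm gi N1927 = N2636 := rfl
theorem L20956 : sm gc N2636 = N1931 := ded_29_1 (flp_i L15397) (flp_c L15368) L20954
theorem L20958 : sm ge N2636 = N2636 := ded_38_1 (flp_i L20954) L15370 L20954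
theorem L20959 : sm gg N2636 = N2636 := ded_43_1 (flp_i L20954) L15371 L20954
theorem L20960 : sm gh N2636 = N1947 := ded_44_1 (flp_i L15510) (flp_h L11388) (flp_i L11295) L15366 L20954
theorem L20962 : sm gg N1928 = N2637 := rfl
theorem L20966 : sm gd N2637 = N1966 := ded_32_1 (flp_g L15666) (flp_d L15378) L20962
theorem L20968 : sm ge N2637 = N1929 := ded_36_1 (flp_g L15381) L15372 L20962
theorem L20970 : sm gi N2637 = N1948 := ded_43_2 (flp_g L15516) (flp_i L15376) L20962
theorem L20972 : sm gh N1928 = N2638 := rfl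
theorem L20976 : sm ge N2638 = N1930 := ded_37_1 (flp_h L15390) L15372 L20972
theorem L20979 : sm gh N1929 = N2639 := rfl
theorem L20981 : sm gb N2639 = N1934 := ded_22_1 (flp_h L15421) (flp_b L15383) L20979
theorem L20984 : sm gg N2639 = N1930 := ded_42_1 (flp_h L15390) L15381 L20979
theorem L20996 : sm gf N1932 = N2641 := rfl
theorem L20999 : sm gd N2641 = N1969 := ded_31_1 (flp_f L15692) (flp_d L15409) L20996
theorem L21005 : sm gh N1932 = N2642 := rfl
theorem L21008 : sm ge N2642 = N1934 := ded_37_1 (flp_h L15421) (flp_e L15411) L21005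
theorem L21012 : sm gd N1933 = N2643 := rfl
theorem L21017 : sm gh N2643 = N1971 := ded_33_2 (flp_d L15710) (flp_h L11540) (flp_d L11327) L15415 L21012
theorem L21027 : sm gi N1934 = N2645 := rfl
theorem L21036 : sm gf N1936 = N2646 := rfl
theorem L21038 : sm gb N2646 = N1937 := ded_20_1 (flp_f L15441) L15436 L21036
theorem L21040 : sm gc N2646 = N2646 := ded_26_1 (flp_f L21036) L15440 L21036
theorem L21041 : sm gh N1936 = N2647 := rfl
theorem L21043 : sm gb N2647 = N1938 := ded_22_1 (flp_h L15447) L15436 L21041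
theorem L21045 : sm gc N2647 = N2647 := ded_28_1 (flp_h L21041) L15440 L21041
theorem L21046 : sm ge N2647 = N2647 := ded_37_1 (flp_h L21041) L15438 L21041
theorem L21047 : sm gg N2647 = N2647 := ded_42_1 (flp_h L21041) L15439 L21041
theorem L21048 : sm ge N1937 = N2648 := rfl
theorem L21050 : sm ga N2648 = N1943 := ded_12_1 (flp_e L15489) (flp_a L15443) L21048
theorem L21052 : sm gc N2648 = N1939 := ded_25_1 (flp_e L15455) (flp_c L15445) L21048
theorem L21054 : sm gf N2648 = N2648 := ded_35_2 (flp_e L21048) (flp_f L15441) L11356 L15441 L21048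
theorem L21055 : sm gg N1937 = N2649 := rfl
theorem L21057 : sm ga N2649 = N1944 := ded_14_1 (flp_g L15494) (flp_a L15443) L21055
theorem L21059 : sm gc N2649 = N1940 := ded_27_1 (flp_g L15463) (flp_c L15445) L21055
theorem L21061 : sm gf N2649 = N2649 := ded_39_1 (flp_g L21055) (flp_f L15441) L11357 L15441 L21055
theorem L21062 : sm gh N1937 = N2650 := rfl
theorem L21064 : sm ga N2650 = N1945 := ded_15_1 (flp_h L15499) (flp_a L15443) L21062
theorem L21066 : sm gc N2650 = N1941 := ded_28_1 (flp_h L15471) (flp_c L15445) L21062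
theorem L21068 : sm gf N2650 = N1938 := ded_40_1 (flp_h L15447) L15441 L21062
theorem L21070 : sm gd N1938 = N2651 := rfl
theorem L21072 : sm ga N2651 = N1946 := ded_11_1 (flp_d L15505) (flp_a L15449) L21070
theorem L21074 : sm gg N2651 = N2651 := ded_32_2 (flp_d L21070) L15454 L21070
theorem L21075 : sm gc N2651 = N1983 := ded_24_1 (flp_d L15803) L11640 (flp_d L11372) (flp_c L15451) L21070
theorem L21077 : sm gi N1938 = N2652 := rfl
theorem L21079 : sm ga N2652 = N1947 := ded_16_1 (flp_i L15510) (flp_a L15449) L21077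
theorem L21081 : sm gc N2652 = N1942 := ded_29_1 (flp_i L15480) (flp_c L15451) L21077
theorem L21083 : sm ge N2652 = N2652 := ded_38_1 (flp_i L21077) L15453 L21077
theorem L21084 : sm gg N2652 = N2652 := ded_43_1 (flp_i L21077) L15454 L21077
theorem L21085 : sm gg N1939 = N2653 := rfl
theorem L21087 : sm ga N2653 = N1948 := ded_14_1 (flp_g L15516) (flp_a L15457) L21085
theorem L21089 : sm gb N2653 = N2653 := ded_21_1 (flp_g L21085) L15459 L21085
theorem L21090 : sm gd N2653 = N1975 := ded_32_1 (flp_g L15740) (flp_d L15460) L21085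
theorem L21092 : sm ge N2653 = N1940 := ded_36_1 (flp_g L15463) L15455 L21085
theorem L21094 : sm gh N1939 = N2654 := rfl
theorem L21096 : sm ga N2654 = N1949 := ded_15_1 (flp_h L15524) (flp_a L15457) L21094
theorem L21098 : sm gb N2654 = N2654 := ded_22_1 (flp_h L21094) L15459 L21094
theorem L21099 : sm ge N2654 = N1941 := ded_37_1 (flp_h L15471) L15455 L21094
theorem L21101 : sm gf N2654 = N2654 := ded_40_1 (flp_h L21094) L15462 L21094
theorem L21102 : sm gd N2654 = N2654 := ded_33_1 (flp_h L21094) L15460 L11578 (flp_d L15460) L21094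
theorem L21103 : sm gh N1940 = N2655 := rfl
theorem L21105 : sm ga N2655 = N1950 := ded_15_1 (flp_h L15532) (flp_a L15465) L21103
theorem L21107 : sm gb N2655 = N2655 := ded_22_1 (flp_h L21103) L15467 L21103
theorem L21108 : sm gf N2655 = N2655 := ded_40_1 (flp_h L21103) L15470 L21103
theorem L21109 : sm gg N2655 = N1941 := ded_42_1 (flp_h L15471) L15463 L21103
theorem L21111 : sm gd N2655 = N1985 := ded_33_1 (flp_h L15818) L11650 (flp_h L11381) (flp_d L15468) L21103
theorem L21113 : sm gi N1941 = N2656 := rfl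
theorem L21115 : sm ga N2656 = N1951 := ded_16_1 (flp_i L15541) (flp_a L15473) L21113
theorem L21117 : sm gb N2656 = N2656 := ded_23_1 (flp_i L21113) L15475 L21113
theorem L21118 : sm gd N2656 = N1986 := ded_34_1 (flp_i L15827) (flp_d L15478) L21113
theorem L21120 : sm gf N2656 = N1942 := ded_41_1 (flp_i L15480) (flp_f L15476) L21113
theorem L21122 : sm gd N1943 = N2657 := rfl
theorem L21124 : sm gf N2657 = N2657 := ded_31_2 (flp_d L21122) L15493 L21122
theorem L21125 : sm gc N2657 = N1976 := ded_24_1 (flp_d L15748) L11593 (flp_d L11398) (flp_c L15491) L21122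
theorem L21127 : sm gg N1943 = N2658 := rfl
theorem L21129 : sm gc N2658 = N1948 := ded_27_1 (flp_g L15516) (flp_c L15491) L21127
theorem L21131 : sm ge N2658 = N1944 := ded_36_1 (flp_g L15494) L15489 L21127
theorem L21133 : sm gh N1943 = N2659 := rfl
theorem L21135 : sm gc N2659 = N1949 := ded_28_1 (flp_h L15524) (flp_c L15491) L21133
theorem L21137 : sm ge N2659 = N1945 := ded_37_1 (flp_h L15499) L15489 L21133
theorem L21139 : sm gf N2659 = N2659 := ded_40_1 (flp_h L21133) L15493 L21133
theorem L21140 : sm gh N1944 = N2660 := rfl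
theorem L21142 : sm gc N2660 = N1950 := ded_28_1 (flp_h L15532) (flp_c L15496) L21140
theorem L21144 : sm gf N2660 = N2660 := ded_40_1 (flp_h L21140) L15498 L21140
theorem L21145 : sm gg N2660 = N1945 := ded_42_1 (flp_h L15499) L15494 L21140
theorem L21147 : sm gd N1945 = N2661 := rfl
theorem L21149 : sm gf N2661 = N1946 := ded_31_2 (flp_d L15505) (flp_f L15503) L21147
theorem L21151 : sm gc N2661 = N1988 := ded_24_1 (flp_d L15845) L11683 (flp_d L11414) (flp_c L15501) L21147
theorem L21153 : sm gi N1945 = N2662 := rfl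
theorem L21155 : sm gc N2662 = N1951 := ded_29_1 (flp_i L15541) (flp_c L15501) L21153
theorem L21157 : sm gf N2662 = N1947 := ded_41_1 (flp_i L15510) (flp_f L15503) L21153
theorem L21159 : sm ge N1946 = N2663 := rfl
theorem L21161 : sm gc N2663 = N1990 := ded_25_1 (flp_e L15859) (flp_c L15508) L21159
theorem L21163 : sm gg N2663 = N2663 := ded_36_2 (flp_e L21159) L15507 L21159
theorem L21164 : sm gd N2663 = N2663 := ded_30_1 (flp_e L21159) (flp_d L15505) L11392 L15505 L21159
theorem L21165 : sm gi N1946 = N2664 := rfl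
theorem L21167 : sm gc N2664 = N1991 := ded_29_1 (flp_i L15865) (flp_c L15508) L21165
theorem L21169 : sm gd N2664 = N1947 := ded_34_1 (flp_i L15510) L15505 L21165
theorem L21171 : sm gg N2664 = N2664 := ded_43_1 (flp_i L21165) L15507 L21165
theorem L21172 : sm gf N1948 = N2665 := rfl
theorem L21176 : sm gd N2665 = N1978 := ded_31_1 (flp_f L15760) (flp_d L15520) L21172
theorem L21180 : sm gh N1948 = N2666 := rfl
theorem L21186 : sm gg N2666 = N1949 := ded_42_1 (flp_h L15524) L15516 L21180
theorem L21189 : sm gi N1949 = N2667 := rfl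
theorem L21197 : sm gi N1950 = N2668 := rfl
theorem L21201 : sm gd N2668 = N1992 := ded_34_1 (flp_i L15871) (flp_d L15539) L21197
theorem L21204 : sm gg N2668 = N1951 := ded_43_1 (flp_i L15541) (flp_g L15537) L21197
theorem L21206 : sm gh N1952 = N2669 := rfl
theorem L21210 : sm gf N2669 = N1953 := ded_40_1 (flp_h L15556) L15549 L21206
theorem L21222 : sm gf N1956 = N2671 := rfl
theorem L21224 : sm ga N2671 = N2671 := ded_13_1 (flp_f L21222) L15586 L21222
theorem L21225 : sm gb N2671 = N1957 := ded_20_1 (flp_f L15588) L15579 L21222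
theorem L21227 : sm gc N2671 = N2671 := ded_26_1 (flp_f L21222) L15587 L21222
theorem L21228 : sm gi N2671 = N1972 := ded_41_2 (flp_f L15716) (flp_i L15584) L21222
theorem L21230 : sm gh N1956 = N2672 := rfl
theorem L21232 : sm ga N2672 = N2672 := ded_15_1 (flp_h L21230) L15586 L21230
theorem L21233 : sm gb N2672 = N1958 := ded_22_1 (flp_h L15596) L15579 L21230
theorem L21235 : sm gc N2672 = N2672 := ded_28_1 (flp_h L21230) L15587 L21230
theorem L21236 : sm ge N2672 = N2672 := ded_37_1 (flp_h L21230) L15581 L21230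
theorem L21237 : sm gg N2672 = N2167 := ded_42_1 (flp_h L17224) (flp_g L15582) L21230
theorem L21239 : sm gi N2672 = N2672 := ded_44_2 (flp_h L21230) L15584 L11563 (flp_i L15584) L21230
theorem L21240 : sm ge N1957 = N2673 := rfl
theorem L21242 : sm ga N2673 = N1962 := ded_12_1 (flp_e L15634) (flp_a L15590) L21240
theorem L21244 : sm gc N2673 = N1959 := ded_25_1 (flp_e L15606) (flp_c L15592) L21240
theorem L21246 : sm gi N2673 = N1973 := ded_38_2 (flp_e L15723) (flp_i L15594) L21240
theorem L21248 : sm gf N2673 = N2673 := ded_35_2 (flp_e L21240) (flp_f L15588) L11457 L15588 L21240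
theorem L21249 : sm gg N1957 = N2674 := rfl
theorem L21251 : sm ga N2674 = N1963 := ded_14_1 (flp_g L15642) (flp_a L15590) L21249
theorem L21253 : sm gc N2674 = N1960 := ded_27_1 (flp_g L15614) (flp_c L15592) L21249
theorem L21255 : sm gi N2674 = N1974 := ded_43_2 (flp_g L15731) (flp_i L15594) L21249
theorem L21257 : sm gf N2674 = N2169 := ded_39_1 (flp_g L17241) (flp_f L12696) (flp_g L11458) L15588 L21249
theorem L21259 : sm gh N1957 = N2675 := rfl
theorem L21261 : sm ga N2675 = N1964 := ded_15_1 (flp_h L15651) (flp_a L15590) L21259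
theorem L21263 : sm gc N2675 = N1961 := ded_28_1 (flp_h L15625) (flp_c L15592) L21259
theorem L21265 : sm gf N2675 = N1958 := ded_40_1 (flp_h L15596) L15588 L21259
theorem L21267 : sm gi N2675 = N2675 := ded_44_2 (flp_h L21259) L15594 L11572 (flp_i L15594) L21259
theorem L21268 : sm gd N1958 = N2676 := rfl
theorem L21270 : sm ga N2676 = N1965 := ded_11_1 (flp_d L15659) (flp_a L15598) L21268
theorem L21272 : sm gg N2676 = N2171 := ded_32_2 (flp_d L17258) (flp_g L15603) L21268
theorem L21274 : sm gi N2676 = N2676 := ded_34_2 (flp_d L21268) L15605 L21268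
theorem L21275 : sm gc N2676 = N2676 := ded_24_1 (flp_d L21268) L15600 L11479 (flp_c L15600) L21268
theorem L21276 : sm gg N1959 = N2677 := rfl
theorem L21278 : sm ga N2677 = N1966 := ded_14_1 (flp_g L15666) (flp_a L15608) L21276
theorem L21280 : sm gb N2677 = N2677 := ded_21_1 (flp_g L21276) L15610 L21276
theorem L21281 : sm ge N2677 = N1960 := ded_36_1 (flp_g L15614) L15606 L21276
theorem L21283 : sm gi N2677 = N1975 := ded_43_2 (flp_g L15740) (flp_i L15611) L21276
theorem L21285 : sm gh N1959 = N2678 := rfl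
theorem L21287 : sm ga N2678 = N1967 := ded_15_1 (flp_h L15674) (flp_a L15608) L21285
theorem L21289 : sm gb N2678 = N2678 := ded_22_1 (flp_h L21285) L15610 L21285
theorem L21290 : sm ge N2678 = N1961 := ded_37_1 (flp_h L15625) L15606 L21285
theorem L21292 : sm gf N2678 = N2678 := ded_40_1 (flp_h L21285) L15613 L21285
theorem L21293 : sm gi N2678 = N2678 := ded_44_2 (flp_h L21285) L15611 L11578 (flp_i L15611) L21285
theorem L21294 : sm gh N1960 = N2679 := rfl
theorem L21296 : sm ga N2679 = N1968 := ded_15_1 (flp_h L15682) (flp_a L15616) L21294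
theorem L21298 : sm gb N2679 = N2679 := ded_22_1 (flp_h L21294) L15618 L21294
theorem L21299 : sm gf N2679 = N2174 := ded_40_1 (flp_h L17283) (flp_f L15623) L21294
theorem L21301 : sm gg N2679 = N1961 := ded_42_1 (flp_h L15625) L15614 L21294
theorem L21303 : sm gd N2679 = N2679 := ded_33_1 (flp_h L21294) L15619 L11486 (flp_d L15619) L21294
theorem L21304 : sm gi N2679 = N2679 := ded_44_2 (flp_h L21294) L15621 L11587 (flp_i L15621) L21294
theorem L21305 : sm gd N1962 = N2680 := rfl
theorem L21307 : sm gb N2680 = N2680 := ded_18_1 (flp_d L21305) L15636 L21305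
theorem L21308 : sm gf N2680 = N2680 := ded_31_2 (flp_d L21305) L15641 L21305
theorem L21309 : sm gi N2680 = N1976 := ded_34_2 (flp_d L15748) (flp_i L15639) L21305
theorem L21311 : sm gg N1962 = N2681 := rfl
theorem L21313 : sm gb N2681 = N2681 := ded_21_1 (flp_g L21311) L15636 L21311
theorem L21314 : sm gc N2681 = N1966 := ded_27_1 (flp_g L15666) (flp_c L15637) L21311
theorem L21316 : sm ge N2681 = N1963 := ded_36_1 (flp_g L15642) L15634 L21311
theorem L21318 : sm gi N2681 = N1977 := ded_43_2 (flp_g L15752) (flp_i L15639) L21311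
theorem L21320 : sm gh N1962 = N2682 := rfl
theorem L21322 : sm gb N2682 = N2682 := ded_22_1 (flp_h L21320) L15636 L21320
theorem L21323 : sm gc N2682 = N1967 := ded_28_1 (flp_h L15674) (flp_c L15637) L21320
theorem L21325 : sm ge N2682 = N1964 := ded_37_1 (flp_h L15651) L15634 L21320
theorem L21327 : sm gf N2682 = N2682 := ded_40_1 (flp_h L21320) L15641 L21320
theorem L21328 : sm gi N2682 = N2682 := ded_44_2 (flp_h L21320) L15639 L11595 (flp_i L15639) L21320
theorem L21329 : sm gh N1963 = N2683 := rfl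
theorem L21331 : sm gb N2683 = N2683 := ded_22_1 (flp_h L21329) L15644 L21329
theorem L21332 : sm gc N2683 = N1968 := ded_28_1 (flp_h L15682) (flp_c L15645) L21329
theorem L21334 : sm gf N2683 = N2178 := ded_40_1 (flp_h L17317) (flp_f L15649) L21329
theorem L21336 : sm gg N2683 = N1964 := ded_42_1 (flp_h L15651) L15642 L21329
theorem L21338 : sm gi N2683 = N2683 := ded_44_2 (flp_h L21329) L15647 L11602 (flp_i L15647) L21329
theorem L21339 : sm gd N1964 = N2684 := rfl
theorem L21341 : sm gb N2684 = N2684 := ded_18_1 (flp_d L21339) L15653 L21339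
theorem L21342 : sm gf N2684 = N1965 := ded_31_2 (flp_d L15659) (flp_f L15656) L21339
theorem L21344 : sm gi N2684 = N2684 := ded_34_2 (flp_d L21339) L15658 L21339
theorem L21345 : sm gc N2684 = N2684 := ded_24_1 (flp_d L21339) L15654 L11530 (flp_c L15654) L21339
theorem L21346 : sm ge N1965 = N2685 := rfl
theorem L21348 : sm gb N2685 = N2685 := ded_19_1 (flp_e L21346) L15661 L21346
theorem L21349 : sm gc N2685 = N2685 := ded_25_1 (flp_e L21346) L15665 L21346
theorem L21350 : sm gg N2685 = N2180 := ded_36_2 (flp_e L17332) (flp_g L15662) L21346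
theorem L21352 : sm gi N2685 = N2685 := ded_38_2 (flp_e L21346) L15664 L21346
theorem L21353 : sm gd N2685 = N2685 := ded_30_1 (flp_e L21346) (flp_d L15659) L11503 L15659 L21346
theorem L21354 : sm gf N1966 = N2686 := rfl
theorem L21356 : sm gb N2686 = N1969 := ded_20_1 (flp_f L15692) (flp_b L15668) L21354
theorem L21360 : sm ge N2686 = N2181 := ded_35_1 (flp_f L17338) L12772 (flp_f L11522) (flp_e L15670) L21354
theorem L21363 : sm gh N1966 = N2687 := rfl
theorem L21367 : sm ge N2687 = N1968 := ded_37_1 (flp_h L15682) (flp_e L15670) L21363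
theorem L21372 : sm gd N1967 = N2688 := rfl
theorem L21374 : sm gb N2688 = N1971 := ded_18_1 (flp_d L15710) (flp_b L15676) L21372
theorem L21379 : sm gh N1969 = N2689 := rfl
theorem L21383 : sm ge N2689 = N2184 := ded_37_1 (flp_h L17363) (flp_e L15698) L21379
theorem L21385 : sm gf N2689 = N1970 := ded_40_1 (flp_h L15701) L15692 L21379
theorem L21389 : sm gd N1970 = N2690 := rfl
theorem L21392 : sm gg N2690 = N1971 := ded_32_2 (flp_d L15710) (flp_g L15707) L21389
theorem L21396 : sm gc N1971 = N2691 := rfl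
theorem L21403 : sm ge N1972 = N2692 := rfl
theorem L21405 : sm ga N2692 = N2692 := ded_12_1 (flp_e L21403) L15718 L21403
theorem L21406 : sm gb N2692 = N1973 := ded_19_1 (flp_e L15723) (flp_b L15719) L21403
theorem L21408 : sm gc N2692 = N2692 := ded_25_1 (flp_e L21403) L15721 L21403
theorem L21409 : sm gh N2692 = N2692 := ded_37_2 (flp_e L21403) L15722 L21403
theorem L21410 : sm gf N2692 = N2692 := ded_35_2 (flp_e L21403) (flp_f L15716) L11560 L15716 L21403
theorem L21411 : sm gg N1972 = N2693 := rfl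
theorem L21413 : sm ga N2693 = N2693 := ded_14_1 (flp_g L21411) L15718 L21411
theorem L21414 : sm gb N2693 = N1974 := ded_21_1 (flp_g L15731) (flp_b L15719) L21411
theorem L21416 : sm gc N2693 = N2693 := ded_27_1 (flp_g L21411) L15721 L21411
theorem L21417 : sm gh N2693 = N2693 := ded_42_2 (flp_g L21411) L15722 L21411
theorem L21418 : sm gf N2693 = N2188 := ded_39_1 (flp_g L17395) (flp_f L12816) (flp_g L11561) L15716 L21411
theorem L21420 : sm gd N1973 = N2694 := rfl
theorem L21422 : sm ga N2694 = N1976 := ded_11_1 (flp_d L15748) (flp_a L15725) L21420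
theorem L21424 : sm gf N2694 = N2694 := ded_31_2 (flp_d L21420) L15730 L21420
theorem L21425 : sm gg N1973 = N2695 := rfl
theorem L21427 : sm ga N2695 = N1977 := ded_14_1 (flp_g L15752) (flp_a L15725) L21425
theorem L21429 : sm gc N2695 = N1975 := ded_27_1 (flp_g L15740) (flp_c L15727) L21425
theorem L21431 : sm ge N2695 = N1974 := ded_36_1 (flp_g L15731) L15723 L21425
theorem L21433 : sm gh N2695 = N2695 := ded_42_2 (flp_g L21425) L15729 L21425
theorem L21434 : sm gf N1975 = N2696 := rfl
theorem L21436 : sm ga N2696 = N1978 := ded_13_1 (flp_f L15760) (flp_a L15742) L21434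
theorem L21438 : sm gb N2696 = N2696 := ded_20_1 (flp_f L21434) L15744 L21434
theorem L21439 : sm gh N2696 = N2696 := ded_40_2 (flp_f L21434) L15747 L21434
theorem L21440 : sm ge N2696 = N2191 := ded_35_1 (flp_f L17417) L12844 (flp_f L11588) (flp_e L15745) L21434
theorem L21442 : sm gg N2696 = N2696 := ded_39_2 (flp_f L21434) (flp_g L15740) L11579 L15740 L21434
theorem L21443 : sm gg N1976 = N2697 := rfl
theorem L21445 : sm gb N2697 = N2697 := ded_21_1 (flp_g L21443) L15750 L21443
theorem L21446 : sm gd N2697 = N1977 := ded_32_1 (flp_g L15752) L15748 L21443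
theorem L21448 : sm gh N1976 = N2698 := rfl
theorem L21450 : sm gb N2698 = N2698 := ded_22_1 (flp_h L21448) L15750 L21448
theorem L21451 : sm gf N2698 = N2698 := ded_40_1 (flp_h L21448) L15751 L21448
theorem L21452 : sm gd N2698 = N2698 := ded_33_1 (flp_h L21448) (flp_d L15748) L11595 L15748 L21448
theorem L21453 : sm gf N1977 = N2699 := rfl
theorem L21455 : sm gb N2699 = N2699 := ded_20_1 (flp_f L21453) L15754 L21453
theorem L21456 : sm gc N2699 = N1978 := ded_26_1 (flp_f L15760) (flp_c L15755) L21453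
theorem L21458 : sm gh N2699 = N2699 := ded_40_2 (flp_f L21453) L15759 L21453
theorem L21459 : sm ge N2699 = N2194 := ded_35_1 (flp_f L17437) L12857 (flp_f L11603) (flp_e L15757) L21453
theorem L21461 : sm gg N2699 = N2699 := ded_39_2 (flp_f L21453) (flp_g L15752) L11596 L15752 L21453
theorem L21462 : sm gg N1979 = N2700 := rfl
theorem L21464 : sm ga N2700 = N2700 := ded_14_1 (flp_g L21462) L15770 L21462
theorem L21465 : sm gb N2700 = N1981 := ded_21_1 (flp_g L15785) (flp_b L15771) L21462
theorem L21467 : sm gc N2700 = N2700 := ded_27_1 (flp_g L21462) L15773 L21462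
theorem L21468 : sm ge N2700 = N2700 := ded_36_1 (flp_g L21462) L15775 L21462
theorem L21469 : sm gi N2700 = N2700 := ded_43_2 (flp_g L21462) L15774 L21462
theorem L21470 : sm gf N2700 = N2700 := ded_39_1 (flp_g L21462) (flp_f L15768) L11624 L15768 L21462
theorem L21471 : sm gh N1979 = N2701 := rfl
theorem L21473 : sm ga N2701 = N2701 := ded_15_1 (flp_h L21471) L15770 L21471
theorem L21474 : sm gb N2701 = N1982 := ded_22_1 (flp_h L15794) (flp_b L15771) L21471
theorem L21476 : sm gc N2701 = N2701 := ded_28_1 (flp_h L21471) L15773 L21471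
theorem L21477 : sm ge N2701 = N2701 := ded_37_1 (flp_h L21471) L15775 L21471
theorem L21478 : sm gf N2701 = N1980 := ded_40_1 (flp_h L15776) L15768 L21471
theorem L21480 : sm gd N1980 = N2702 := rfl
theorem L21482 : sm ga N2702 = N2702 := ded_11_1 (flp_d L21480) L15778 L21480
theorem L21483 : sm gb N2702 = N1983 := ded_18_1 (flp_d L15803) (flp_b L15779) L21480
theorem L21485 : sm gg N2702 = N2702 := ded_32_2 (flp_d L21480) L15784 L21480
theorem L21486 : sm gi N1980 = N2703 := rfl
theorem L21488 : sm ga N2703 = N2703 := ded_16_1 (flp_i L21486) L15778 L21486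
theorem L21489 : sm gb N2703 = N1984 := ded_23_1 (flp_i L15808) (flp_b L15779) L21486
theorem L21491 : sm gc N2703 = N2703 := ded_29_1 (flp_i L21486) L15781 L21486
theorem L21492 : sm ge N2703 = N1994 := ded_38_1 (flp_i L15888) (flp_e L15782) L21486
theorem L21494 : sm gg N2703 = N2703 := ded_43_1 (flp_i L21486) L15784 L21486
theorem L21495 : sm gh N2703 = N2703 := ded_44_1 (flp_i L21486) (flp_h L15776) L11625 L15776 L21486
theorem L21496 : sm gh N1981 = N2704 := rfl
theorem L21498 : sm ga N2704 = N1987 := ded_15_1 (flp_h L15836) (flp_a L15787) L21496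
theorem L21500 : sm gc N2704 = N1985 := ded_28_1 (flp_h L15818) (flp_c L15789) L21496
theorem L21502 : sm ge N2704 = N2704 := ded_37_1 (flp_h L21496) L15791 L21496
theorem L21503 : sm gf N2704 = N2704 := ded_40_1 (flp_h L21496) L15793 L21496
theorem L21504 : sm gg N2704 = N1982 := ded_42_1 (flp_h L15794) L15785 L21496
theorem L21506 : sm gd N1982 = N2705 := rfl
theorem L21508 : sm ga N2705 = N1988 := ded_11_1 (flp_d L15845) (flp_a L15796) L21506
theorem L21510 : sm gf N2705 = N1983 := ded_31_2 (flp_d L15803) (flp_f L15801) L21506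
theorem L21512 : sm gi N1982 = N2706 := rfl
theorem L21514 : sm ga N2706 = N1989 := ded_16_1 (flp_i L15850) (flp_a L15796) L21512
theorem L21516 : sm gc N2706 = N1986 := ded_29_1 (flp_i L15827) (flp_c L15798) L21512
theorem L21518 : sm ge N2706 = N2706 := ded_38_1 (flp_i L21512) L15800 L21512
theorem L21519 : sm gf N2706 = N1984 := ded_41_1 (flp_i L15808) (flp_f L15801) L21512
theorem L21521 : sm gh N2706 = N2706 := ded_44_1 (flp_i L21512) (flp_h L15794) L11634 L15794 L21512
theorem L21522 : sm ge N1983 = N2707 := rfl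
theorem L21524 : sm ga N2707 = N1990 := ded_12_1 (flp_e L15859) (flp_a L15805) L21522
theorem L21526 : sm gg N2707 = N2707 := ded_36_2 (flp_e L21522) L15807 L21522
theorem L21527 : sm gd N2707 = N1995 := ded_30_1 (flp_e L15897) (flp_d L11734) (flp_e L11642) L15803 L21522
theorem L21529 : sm gi N1983 = N2708 := rfl
theorem L21531 : sm ga N2708 = N1991 := ded_16_1 (flp_i L15865) (flp_a L15805) L21529
theorem L21533 : sm gd N2708 = N1984 := ded_34_1 (flp_i L15808) L15803 L21529
theorem L21535 : sm gg N2708 = N2708 := ded_43_1 (flp_i L21529) L15807 L21529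
theorem L21536 : sm gi N1985 = N2709 := rfl
theorem L21538 : sm ga N2709 = N1992 := ded_16_1 (flp_i L15871) (flp_a L15820) L21536
theorem L21540 : sm gb N2709 = N2709 := ded_23_1 (flp_i L21536) L15822 L21536
theorem L21541 : sm ge N2709 = N2709 := ded_38_1 (flp_i L21536) L15823 L21536
theorem L21542 : sm gf N2709 = N2709 := ded_41_1 (flp_i L21536) L15824 L21536
theorem L21543 : sm gg N2709 = N1986 := ded_43_1 (flp_i L15827) (flp_g L15825) L21536
theorem L21545 : sm gh N2709 = N2709 := ded_44_1 (flp_i L21536) (flp_h L15818) L11653 L15818 L21536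
theorem L21546 : sm gd N1987 = N2710 := rfl
theorem L21548 : sm gb N2710 = N2710 := ded_18_1 (flp_d L21546) L15838 L21546
theorem L21549 : sm gf N2710 = N2710 := ded_31_2 (flp_d L21546) L15842 L21546
theorem L21550 : sm gg N2710 = N1988 := ded_32_2 (flp_d L15845) (flp_g L15843) L21546
theorem L21552 : sm gi N1987 = N2711 := rfl
theorem L21554 : sm gb N2711 = N2711 := ded_23_1 (flp_i L21552) L15838 L21552
theorem L21555 : sm gc N2711 = N1992 := ded_29_1 (flp_i L15871) (flp_c L15839) L21552
theorem L21557 : sm ge N2711 = N2711 := ded_38_1 (flp_i L21552) L15841 L21552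
theorem L21558 : sm gf N2711 = N2711 := ded_41_1 (flp_i L21552) L15842 L21552
theorem L21559 : sm gg N2711 = N1989 := ded_43_1 (flp_i L15850) (flp_g L15843) L21552
theorem L21561 : sm gh N2711 = N2711 := ded_44_1 (flp_i L21552) (flp_h L15836) L11678 L15836 L21552
theorem L21562 : sm ge N1988 = N2712 := rfl
theorem L21564 : sm gb N2712 = N2712 := ded_19_1 (flp_e L21562) L15847 L21562
theorem L21565 : sm gd N2712 = N2712 := ded_30_1 (flp_e L21562) (flp_d L15845) L11685 L15845 L21562
theorem L21566 : sm gi N1988 = N2713 := rfl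
theorem L21568 : sm gb N2713 = N2713 := ded_23_1 (flp_i L21566) L15847 L21566
theorem L21569 : sm gd N2713 = N1989 := ded_34_1 (flp_i L15850) L15845 L21566
theorem L21571 : sm gf N2713 = N1991 := ded_41_1 (flp_i L15865) (flp_f L15848) L21566
theorem L21573 : sm gf N1990 = N2714 := rfl
theorem L21575 : sm gb N2714 = N2714 := ded_20_1 (flp_f L21573) L15861 L21573
theorem L21576 : sm gd N2714 = N1997 := ded_31_1 (flp_f L15913) (flp_d L15863) L21573
theorem L21578 : sm gi N1990 = N2715 := rfl
theorem L21580 : sm gb N2715 = N2715 := ded_23_1 (flp_i L21578) L15861 L21578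
theorem L21581 : sm gd N2715 = N1998 := ded_34_1 (flp_i L15919) (flp_d L15863) L21578
theorem L21583 : sm ge N2715 = N1991 := ded_38_1 (flp_i L15865) L15859 L21578
theorem L21585 : sm gg N2715 = N2715 := ded_43_1 (flp_i L21578) L15862 L21578
theorem L21586 : sm gh N1991 = N2716 := rfl
theorem L21588 : sm gb N2716 = N2716 := ded_22_1 (flp_h L21586) L15867 L21586
theorem L21589 : sm gg N2716 = N2716 := ded_42_1 (flp_h L21586) L15870 L21586
theorem L21590 : sm gd N2716 = N2716 := ded_33_1 (flp_h L21586) L15868 L11700 (flp_d L15868) L21586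
theorem L21591 : sm gc N1993 = N2717 := rfl
theorem L21593 : sm ga N2717 = N2717 := ded_10_1 (flp_c L21591) L15882 L21591
theorem L21594 : sm gf N2717 = N2717 := ded_26_2 (flp_c L21591) L15885 L21591
theorem L21595 : sm gg N2717 = N2717 := ded_27_2 (flp_c L21591) L15886 L21591
theorem L21596 : sm gh N2717 = N2717 := ded_28_2 (flp_c L21591) L15887 L21591
theorem L21597 : sm gb N2717 = N2717 := ded_17_1 (flp_c L21591) L15883 L11740 (flp_b L15883) L21591
theorem L21598 : sm gd N2717 = N2717 := ded_24_2 (flp_c L21591) (flp_d L15880) L11731 L15880 L21591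
theorem L21599 : sm ge N1993 = N2718 := rfl
theorem L21601 : sm ga N2718 = N2718 := ded_12_1 (flp_e L21599) L15882 L21599
theorem L21602 : sm gb N2718 = N1995 := ded_19_1 (flp_e L15897) (flp_b L15883) L21599
theorem L21604 : sm gg N2718 = N2718 := ded_36_2 (flp_e L21599) L15886 L21599
theorem L21605 : sm gh N2718 = N2718 := ded_37_2 (flp_e L21599) L15887 L21599
theorem L21606 : sm gi N1993 = N2719 := rfl
theorem L21608 : sm ga N2719 = N2719 := ded_16_1 (flp_i L21606) L15882 L21606
theorem L21609 : sm gb N2719 = N1996 := ded_23_1 (flp_i L15904) (flp_b L15883) L21606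
theorem L21611 : sm gd N2719 = N1994 := ded_34_1 (flp_i L15888) L15880 L21606
theorem L21613 : sm gf N2719 = N2719 := ded_41_1 (flp_i L21606) L15885 L21606
theorem L21614 : sm gg N2719 = N2719 := ded_43_1 (flp_i L21606) L15886 L21606
theorem L21615 : sm gf N1995 = N2720 := rfl
theorem L21617 : sm ga N2720 = N1997 := ded_13_1 (flp_f L15913) (flp_a L15899) L21615
theorem L21619 : sm gc N2720 = N2720 := ded_26_1 (flp_f L21615) L15901 L21615
theorem L21620 : sm gh N2720 = N2720 := ded_40_2 (flp_f L21615) L15903 L21615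
theorem L21621 : sm ge N2720 = N2720 := ded_35_1 (flp_f L21615) (flp_e L15897) L11738 L15897 L21615
theorem L21622 : sm gi N1995 = N2721 := rfl
theorem L21624 : sm ga N2721 = N1998 := ded_16_1 (flp_i L15919) (flp_a L15899) L21622
theorem L21626 : sm gc N2721 = N2721 := ded_29_1 (flp_i L21622) L15901 L21622
theorem L21627 : sm ge N2721 = N1996 := ded_38_1 (flp_i L15904) L15897 L21622
theorem L21629 : sm gg N2721 = N2721 := ded_43_1 (flp_i L21622) L15902 L21622
theorem L21630 : sm gh N1996 = N2722 := rfl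
theorem L21632 : sm ga N2722 = N1999 := ded_15_1 (flp_h L15926) (flp_a L15906) L21630
theorem L21634 : sm gc N2722 = N2722 := ded_28_1 (flp_h L21630) L15908 L21630
theorem L21635 : sm gf N2722 = N2722 := ded_40_1 (flp_h L21630) L15911 L21630
theorem L21636 : sm gg N2722 = N2722 := ded_42_1 (flp_h L21630) L15912 L21630
theorem L21637 : sm gd N2722 = N2722 := ded_33_1 (flp_h L21630) L15909 L11750 (flp_d L15909) L21630
theorem L21638 : sm gi N2722 = N2722 := ded_44_2 (flp_h L21630) (flp_i L15904) L11741 L15904 L21630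
theorem L21639 : sm gg N1997 = N2723 := rfl
theorem L21641 : sm gb N2723 = N2723 := ded_21_1 (flp_g L21639) L15915 L21639
theorem L21642 : sm gc N2723 = N2723 := ded_27_1 (flp_g L21639) L15916 L21639
theorem L21643 : sm ge N2723 = N2723 := ded_36_1 (flp_g L21639) L15918 L21639
theorem L21644 : sm gh N2723 = N2723 := ded_42_2 (flp_g L21639) L15917 L21639
theorem L21645 : sm gf N2723 = N2723 := ded_39_1 (flp_g L21639) (flp_f L15913) L11755 L15913 L21639
theorem L21646 : sm gi N1997 = N2724 := rfl
theorem L21648 : sm gb N2724 = N2724 := ded_23_1 (flp_i L21646) L15915 L21646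
theorem L21649 : sm gc N2724 = N2724 := ded_29_1 (flp_i L21646) L15916 L21646
theorem L21650 : sm ge N2724 = N2724 := ded_38_1 (flp_i L21646) L15918 L21646
theorem L21651 : sm gf N2724 = N1998 := ded_41_1 (flp_i L15919) L15913 L21646
theorem L21653 : sm gh N1998 = N2725 := rfl
theorem L21655 : sm gb N2725 = N2725 := ded_22_1 (flp_h L21653) L15921 L21653
theorem L21656 : sm gc N2725 = N2725 := ded_28_1 (flp_h L21653) L15922 L21653
theorem L21657 : sm ge N2725 = N1999 := ded_37_1 (flp_h L15926) (flp_e L15923) L21653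
theorem L21659 : sm gg N2725 = N2725 := ded_42_1 (flp_h L21653) L15925 L21653
theorem L21660 : sm gi N2725 = N2725 := ded_44_2 (flp_h L21653) (flp_i L15919) L11756 L15919 L21653
theorem L21661 : sm gf N2000 = N2726 := rfl
theorem L21663 : sm ga N2726 = N2726 := ded_13_1 (flp_f L21661) L15937 L21661
theorem L21664 : sm gb N2726 = N2001 := ded_20_1 (flp_f L15940) L15934 L21661
theorem L21666 : sm gc N2726 = N2115 := ded_26_1 (flp_f L16853) (flp_c L15938) L21661
theorem L21669 : sm gh N2000 = N2727 := rfl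
theorem L21672 : sm gb N2727 = N2002 := ded_22_1 (flp_h L15947) L15934 L21669
theorem L21676 : sm ge N2001 = N2728 := rfl
theorem L21678 : sm ga N2728 = N2007 := ded_12_1 (flp_e L15986) (flp_a L15942) L21676
theorem L21682 : sm gg N2001 = N2729 := rfl
theorem L21684 : sm ga N2729 = N2008 := ded_14_1 (flp_g L15991) (flp_a L15942) L21682
theorem L21686 : sm gc N2729 = N2004 := ded_27_1 (flp_g L15960) (flp_c L15944) L21682
theorem L21689 : sm gh N2001 = N2730 := rfl
theorem L21693 : sm gc N2730 = N2005 := ded_28_1 (flp_h L15968) (flp_c L15944) L21689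
theorem L21695 : sm gf N2730 = N2002 := ded_40_1 (flp_h L15947) L15940 L21689
theorem L21697 : sm gd N2002 = N2731 := rfl
theorem L21710 : sm gg N2003 = N2733 := rfl
theorem L21717 : sm ge N2733 = N2004 := ded_36_1 (flp_g L15960) L15953 L21710
theorem L21719 : sm gh N2003 = N2734 := rfl
theorem L21727 : sm gh N2004 = N2735 := rfl
theorem L21735 : sm gd N2735 = N2028 := ded_33_1 (flp_h L16143) L11897 (flp_h L11794) (flp_d L15966) L21727
theorem L21737 : sm gi N2005 = N2736 := rfl
theorem L21745 : sm gf N2736 = N2006 := ded_41_1 (flp_i L15978) (flp_f L15974) L21737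
theorem L21747 : sm gd N2007 = N2737 := rfl
theorem L21752 : sm gg N2007 = N2738 := rfl
theorem L21757 : sm ge N2738 = N2008 := ded_36_1 (flp_g L15991) L15986 L21752
theorem L21759 : sm gh N2007 = N2739 := rfl
theorem L21764 : sm ge N2739 = N2009 := ded_37_1 (flp_h L15997) L15986 L21759
theorem L21766 : sm gh N2008 = N2740 := rfl
theorem L21769 : sm gc N2740 = N2014 := ded_28_1 (flp_h L16028) (flp_c L15994) L21766
theorem L21771 : sm gg N2740 = N2009 := ded_42_1 (flp_h L15997) L15991 L21766
theorem L21773 : sm gd N2009 = N2741 := rfl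
theorem L21776 : sm gf N2741 = N2010 := ded_31_2 (flp_d L16004) (flp_f L16002) L21773
theorem L21781 : sm gi N2009 = N2742 := rfl
theorem L21786 : sm gf N2742 = N2011 := ded_41_1 (flp_i L16010) (flp_f L16002) L21781
theorem L21788 : sm ge N2010 = N2743 := rfl
theorem L21794 : sm gi N2010 = N2744 := rfl
theorem L21806 : sm gh N2012 = N2746 := rfl
theorem L21808 : sm gb N2746 = N2017 := ded_22_1 (flp_h L16050) (flp_b L16017) L21806
theorem L21812 : sm gg N2746 = N2013 := ded_42_1 (flp_h L16022) L16015 L21806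
theorem L21814 : sm gd N2013 = N2747 := rfl
theorem L21835 : sm gh N2016 = N2750 := rfl
theorem L21837 : sm ga N2750 = N2135 := ded_15_1 (flp_h L16995) (flp_a L16046) L21835
theorem L21840 : sm gf N2750 = N2017 := ded_40_1 (flp_h L16050) L16044 L21835
theorem L21842 : sm gd N2017 = N2751 := rfl
theorem L21846 : sm gg N2751 = N2018 := ded_32_2 (flp_d L16059) (flp_g L16057) L21842
theorem L21848 : sm ge N2751 = N2044 := ded_30_2 (flp_d L16267) L11996 (flp_d L11854) (flp_e L16055) L21842
theorem L21860 : sm gc N2018 = N2753 := rfl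
theorem L21862 : sm ga N2753 = N2138 := ded_10_1 (flp_c L17014) (flp_a L16061) L21860
theorem L21864 : sm ge N2753 = N2046 := ded_25_2 (flp_c L16285) (flp_e L16063) L21860
theorem L21868 : sm gi N2018 = N2754 := rfl
theorem L21872 : sm gd N2754 = N2019 := ded_34_1 (flp_i L16066) L16059 L21868
theorem L21874 : sm ge N2754 = N2047 := ded_38_1 (flp_i L16293) (flp_e L16063) L21868
theorem L21876 : sm gd N2021 = N2755 := rfl
theorem L21885 : sm gg N2021 = N2756 := rfl
theorem L21887 : sm ga N2756 = N2031 := ded_14_1 (flp_g L16168) (flp_a L16084) L21885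
theorem L21890 : sm gc N2756 = N2026 := ded_27_1 (flp_g L16124) (flp_c L16087) L21885
theorem L21892 : sm ge N2756 = N2022 := ded_36_1 (flp_g L16091) L16082 L21885
theorem L21894 : sm gi N2756 = N2756 := ded_43_2 (flp_g L21885) L16089 L21885
theorem L21895 : sm gh N2021 = N2757 := rfl
theorem L21897 : sm ga N2757 = N2032 := ded_15_1 (flp_h L16177) (flp_a L16084) L21895
theorem L21902 : sm ge N2757 = N2023 := ded_37_1 (flp_h L16100) L16082 L21895
theorem L21905 : sm gh N2022 = N2758 := rfl
theorem L21912 : sm gg N2758 = N2023 := ded_42_1 (flp_h L16100) L16091 L21905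
theorem L21914 : sm gd N2023 = N2759 := rfl
theorem L21919 : sm gf N2759 = N2024 := ded_31_2 (flp_d L16109) (flp_f L16107) L21914
theorem L21922 : sm gi N2023 = N2760 := rfl
theorem L21924 : sm ga N2760 = N2035 := ded_16_1 (flp_i L16201) (flp_a L16102) L21922
theorem L21932 : sm ge N2024 = N2761 := rfl
theorem L21939 : sm gi N2024 = N2762 := rfl
theorem L21946 : sm gf N2026 = N2763 := rfl
theorem L21948 : sm ga N2763 = N2038 := ded_13_1 (flp_f L16222) (flp_a L16126) L21946
theorem L21955 : sm gh N2026 = N2764 := rfl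
theorem L21957 : sm ga N2764 = N2039 := ded_15_1 (flp_h L16229) (flp_a L16126) L21955
theorem L21959 : sm gb N2764 = N2141 := ded_22_1 (flp_h L17034) (flp_b L16128) L21955
theorem L21961 : sm ge N2764 = N2028 := ded_37_1 (flp_h L16143) (flp_e L16131) L21955
theorem L21963 : sm gg N2764 = N2027 := ded_42_1 (flp_h L16134) L16124 L21955
theorem L21965 : sm gd N2027 = N2765 := rfl
theorem L21969 : sm gb N2765 = N2142 := ded_18_1 (flp_d L17043) (flp_b L16138) L21965
theorem L21973 : sm gi N2027 = N2766 := rfl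
theorem L21979 : sm ge N2766 = N2029 := ded_38_1 (flp_i L16151) (flp_e L16140) L21973
theorem L21983 : sm gi N2028 = N2767 := rfl
theorem L21992 : sm gg N2030 = N2768 := rfl
theorem L21997 : sm gd N2768 = N2031 := ded_32_1 (flp_g L16168) L16160 L21992
theorem L22001 : sm gh N2030 = N2769 := rfl
theorem L22008 : sm gf N2031 = N2770 := rfl
theorem L22012 : sm gc N2770 = N2038 := ded_26_1 (flp_f L16222) (flp_c L16172) L22008
theorem L22016 : sm gh N2031 = N2771 := rfl
theorem L22024 : sm gg N2771 = N2032 := ded_42_1 (flp_h L16177) L16168 L22016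
theorem L22026 : sm gd N2032 = N2772 := rfl
theorem L22028 : sm gb N2772 = N2052 := ded_18_1 (flp_d L16332) (flp_b L16179) L22026
theorem L22041 : sm gd N2033 = N2774 := rfl
theorem L22045 : sm gg N2774 = N2034 := ded_32_2 (flp_d L16194) (flp_g L16192) L22041
theorem L22048 : sm gi N2033 = N2775 := rfl
theorem L22057 : sm ge N2034 = N2776 := rfl
theorem L22070 : sm gf N2036 = N2778 := rfl
theorem L22072 : sm gb N2778 = N2058 := ded_20_1 (flp_f L16373) (flp_b L16212) L22070
theorem L22076 : sm gi N2036 = N2779 := rfl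
theorem L22078 : sm gb N2779 = N2059 := ded_23_1 (flp_i L16379) (flp_b L16212) L22076
theorem L22081 : sm ge N2779 = N2037 := ded_38_1 (flp_i L16216) L16210 L22076
theorem L22089 : sm gh N2038 = N2781 := rfl
theorem L22091 : sm gb N2781 = N2043 := ded_22_1 (flp_h L16258) (flp_b L16224) L22089
theorem L22093 : sm gf N2781 = N2039 := ded_40_1 (flp_h L16229) L16222 L22089
theorem L22096 : sm gd N2039 = N2782 := rfl
theorem L22103 : sm gi N2039 = N2783 := rfl
theorem L22109 : sm gg N2783 = N2041 := ded_43_1 (flp_i L16243) (flp_g L16235) L22103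
theorem L22123 : sm gd N2043 = N2786 := rfl
theorem L22125 : sm ga N2786 = N2150 := ded_11_1 (flp_d L17103) (flp_a L16260) L22123
theorem L22127 : sm gf N2786 = N2044 := ded_31_2 (flp_d L16267) (flp_f L16264) L22123
theorem L22141 : sm gc N2044 = N2788 := rfl
theorem L22145 : sm gg N2788 = N2046 := ded_27_2 (flp_c L16285) (flp_g L16271) L22141
theorem L22150 : sm gi N2044 = N2789 := rfl
theorem L22156 : sm gg N2789 = N2047 := ded_43_1 (flp_i L16293) (flp_g L16271) L22150
theorem L22158 : sm gb N2046 = N2790 := rfl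
theorem L22164 : sm gi N2046 = N2791 := rfl
theorem L22166 : sm ga N2791 = N2155 := ded_16_1 (flp_i L17136) (flp_a L16287) L22164
theorem L22173 : sm gh N2047 = N2792 := rfl
theorem L22180 : sm gf N2048 = N2793 := rfl
theorem L22185 : sm gd N2793 = N2050 := ded_31_1 (flp_f L16316) (flp_d L16305) L22180
theorem L22197 : sm gd N2049 = N2795 := rfl
theorem L22201 : sm gh N2795 = N2052 := ded_33_2 (flp_d L16332) (flp_h L12041) L12025 L16309 L22197
theorem L22211 : sm gh N2050 = N2797 := rfl
theorem L22214 : sm gc N2797 = N2061 := ded_28_1 (flp_h L16392) (flp_c L16319) L22211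
theorem L22216 : sm gf N2797 = N2051 := ded_40_1 (flp_h L16323) L16316 L22211
theorem L22219 : sm gd N2051 = N2798 := rfl
theorem L22222 : sm gg N2798 = N2052 := ded_32_2 (flp_d L16332) (flp_g L16330) L22219
theorem L22224 : sm gi N2051 = N2799 := rfl
theorem L22231 : sm gg N2799 = N2053 := ded_43_1 (flp_i L16336) (flp_g L16330) L22224
theorem L22234 : sm gc N2052 = N2800 := rfl
theorem L22240 : sm ge N2052 = N2801 := rfl
theorem L22245 : sm gi N2052 = N2802 := rfl
theorem L22251 : sm ge N2054 = N2803 := rfl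
theorem L22255 : sm gg N2803 = N2056 := ded_36_2 (flp_e L16360) (flp_g L16348) L22251
theorem L22258 : sm gi N2054 = N2804 := rfl
theorem L22264 : sm gg N2804 = N2057 := ded_43_1 (flp_i L16365) (flp_g L16348) L22258
theorem L22266 : sm gf N2056 = N2805 := rfl
theorem L22271 : sm ge N2805 = N2058 := ded_35_1 (flp_f L16373) (flp_e L12071) (flp_f L12059) L16360 L22266
theorem L22287 : sm gg N2058 = N2808 := rfl
theorem L22293 : sm gi N2058 = N2809 := rfl
theorem L22300 : sm gh N2059 = N2810 := rfl
theorem L22307 : sm gd N2061 = N2811 := rfl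
theorem L22310 : sm gb N2811 = N2066 := ded_18_1 (flp_d L16436) (flp_b L16395) L22307
theorem L22315 : sm gh N2811 = N2213 := ded_33_2 (flp_d L17586) (flp_h L12973) (flp_d L12088) L16392 L22307
theorem L22317 : sm gi N2061 = N2812 := rfl
theorem L22322 : sm gf N2812 = N2063 := ded_41_1 (flp_i L16410) (flp_f L16397) L22317
theorem L22334 : sm gi N2062 = N2814 := rfl
theorem L22344 : sm gb N2064 = N2815 := rfl
theorem L22348 : sm gh N2815 = N2217 := ded_22_2 (flp_b L17620) (flp_h L16425) L22344
theorem L22369 : sm gc N2066 = N2818 := rfl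
theorem L22371 : sm ga N2818 = N2157 := ded_10_1 (flp_c L17148) (flp_a L16438) L22369
theorem L22373 : sm gf N2818 = N2068 := ded_26_2 (flp_c L16453) (flp_f L16440) L22369
theorem L22376 : sm gh N2818 = N2220 := ded_28_2 (flp_c L17641) (flp_h L16443) L22369
theorem L22386 : sm gi N2066 = N2820 := rfl
theorem L22395 : sm gb N2068 = N2821 := rfl
theorem L22398 : sm gg N2821 = N2070 := ded_21_2 (flp_b L16471) (flp_g L16458) L22395
theorem L22400 : sm gh N2821 = N2223 := ded_22_2 (flp_b L17665) (flp_h L16460) L22395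
theorem L22402 : sm gi N2068 = N2822 := rfl
theorem L22421 : sm ga N2070 = N2824 := rfl
theorem L22425 : sm gh N2824 = N2226 := ded_15_2 (flp_a L17689) (flp_h L16475) L22421
theorem L22445 : sm gf N2073 = N2827 := rfl
theorem L22447 : sm ga N2827 = N2827 := ded_13_1 (flp_f L22445) L16501 L22445
theorem L22448 : sm gb N2827 = N2074 := ded_20_1 (flp_f L16502) L16494 L22445
theorem L22450 : sm gd N2827 = N2827 := ded_31_1 (flp_f L22445) L16496 L22445
theorem L22451 : sm gi N2827 = N2726 := ded_41_2 (flp_f L21661) (flp_i L16499) L22445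
theorem L22453 : sm gh N2073 = N2828 := rfl
theorem L22455 : sm ga N2828 = N2828 := ded_15_1 (flp_h L22453) L16501 L22453
theorem L22456 : sm gb N2828 = N2075 := ded_22_1 (flp_h L16511) L16494 L22453
theorem L22458 : sm ge N2828 = N2116 := ded_37_1 (flp_h L16860) (flp_e L16497) L22453
theorem L22460 : sm ge N2074 = N2829 := rfl
theorem L22462 : sm ga N2829 = N2080 := ded_12_1 (flp_e L16552) (flp_a L16504) L22460
theorem L22464 : sm gc N2829 = N2076 := ded_25_1 (flp_e L16519) (flp_c L16506) L22460
theorem L22466 : sm gi N2829 = N2728 := ded_38_2 (flp_e L21676) (flp_i L16509) L22460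
theorem L22468 : sm gf N2829 = N2117 := ded_35_2 (flp_e L16866) (flp_f L12411) (flp_e L12173) L16502 L22460
theorem L22470 : sm gg N2074 = N2830 := rfl
theorem L22472 : sm ga N2830 = N2081 := ded_14_1 (flp_g L16561) (flp_a L16504) L22470
theorem L22477 : sm gi N2830 = N2729 := ded_43_2 (flp_g L21682) (flp_i L16509) L22470
theorem L22479 : sm gh N2074 = N2831 := rfl
theorem L22481 : sm ga N2831 = N2082 := ded_15_1 (flp_h L16569) (flp_a L16504) L22479
theorem L22483 : sm gc N2831 = N2078 := ded_28_1 (flp_h L16536) (flp_c L16506) L22479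
theorem L22485 : sm gf N2831 = N2075 := ded_40_1 (flp_h L16511) L16502 L22479
theorem L22487 : sm gd N2075 = N2832 := rfl
theorem L22489 : sm ga N2832 = N2083 := ded_11_1 (flp_d L16576) (flp_a L16513) L22487
theorem L22491 : sm gc N2832 = N2832 := ded_24_1 (flp_d L22487) L16515 L12192 (flp_c L16515) L22487
theorem L22492 : sm ge N2832 = N2832 := ded_30_2 (flp_d L22487) L16517 L12425 (flp_e L16517) L22487
theorem L22493 : sm gh N2832 = N2832 := ded_33_2 (flp_d L22487) (flp_h L16511) L12177 L16511 L22487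
theorem L22494 : sm gi N2075 = N2833 := rfl
theorem L22500 : sm ge N2833 = N2120 := ded_38_1 (flp_i L16889) (flp_e L16517) L22494
theorem L22504 : sm gg N2076 = N2834 := rfl
theorem L22511 : sm gi N2834 = N2733 := ded_43_2 (flp_g L21710) (flp_i L16523) L22504
theorem L22513 : sm gh N2076 = N2835 := rfl
theorem L22517 : sm ge N2835 = N2078 := ded_37_1 (flp_h L16536) L16519 L22513
theorem L22521 : sm gh N2077 = N2836 := rfl
theorem L22525 : sm gg N2836 = N2078 := ded_42_1 (flp_h L16536) L16528 L22521
theorem L22528 : sm gi N2078 = N2837 := rfl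
theorem L22535 : sm gh N2837 = N2736 := ded_44_1 (flp_i L21737) (flp_h L15968) (flp_i L12184) L16536 L22528
theorem L22537 : sm gd N2080 = N2838 := rfl
theorem L22539 : sm gb N2838 = N2838 := ded_18_1 (flp_d L22537) L16554 L22537
theorem L22540 : sm gf N2838 = N2125 := ded_31_2 (flp_d L16925) (flp_f L16559) L22537
theorem L22542 : sm gi N2838 = N2737 := ded_34_2 (flp_d L21747) (flp_i L16557) L22537
theorem L22544 : sm gc N2838 = N2838 := ded_24_1 (flp_d L22537) L16555 L12223 (flp_c L16555) L22537
theorem L22545 : sm ge N2838 = N2838 := ded_30_2 (flp_d L22537) (flp_e L16552) L12207 L16552 L22537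
theorem L22546 : sm gg N2080 = N2839 := rfl
theorem L22549 : sm gc N2839 = N2085 := ded_27_1 (flp_g L16591) (flp_c L16555) L22546
theorem L22551 : sm ge N2839 = N2081 := ded_36_1 (flp_g L16561) L16552 L22546
theorem L22553 : sm gi N2839 = N2738 := ded_43_2 (flp_g L21752) (flp_i L16557) L22546
theorem L22555 : sm gh N2080 = N2840 := rfl
theorem L22558 : sm gc N2840 = N2086 := ded_28_1 (flp_h L16600) (flp_c L16555) L22555
theorem L22560 : sm ge N2840 = N2082 := ded_37_1 (flp_h L16569) L16552 L22555
theorem L22564 : sm gh N2081 = N2841 := rfl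
theorem L22569 : sm gg N2841 = N2082 := ded_42_1 (flp_h L16569) L16561 L22564
theorem L22571 : sm gd N2082 = N2842 := rfl
theorem L22573 : sm gb N2842 = N2842 := ded_18_1 (flp_d L22571) L16571 L22571
theorem L22574 : sm gf N2842 = N2083 := ded_31_2 (flp_d L16576) (flp_f L16574) L22571
theorem L22576 : sm gc N2842 = N2842 := ded_24_1 (flp_d L22571) L16572 L12240 (flp_c L16572) L22571
theorem L22577 : sm gh N2842 = N2842 := ded_33_2 (flp_d L22571) (flp_h L16569) L12207 L16569 L22571
theorem L22578 : sm gi N2082 = N2843 := rfl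
theorem L22583 : sm gf N2843 = N2084 := ded_41_1 (flp_i L16582) (flp_f L16574) L22578
theorem L22587 : sm gi N2083 = N2844 := rfl
theorem L22591 : sm gd N2844 = N2084 := ded_34_1 (flp_i L16582) L16576 L22587
theorem L22594 : sm gf N2085 = N2845 := rfl
theorem L22603 : sm gh N2085 = N2846 := rfl
theorem L22605 : sm gb N2846 = N2090 := ded_22_1 (flp_h L16632) (flp_b L16593) L22603
theorem L22609 : sm gg N2846 = N2086 := ded_42_1 (flp_h L16600) L16591 L22603
theorem L22611 : sm gd N2086 = N2847 := rfl
theorem L22615 : sm gf N2847 = N2132 := ded_31_2 (flp_d L16974) (flp_f L16606) L22611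
theorem L22638 : sm gh N2089 = N2850 := rfl
theorem L22643 : sm gg N2850 = N2135 := ded_42_1 (flp_h L16995) (flp_g L16630) L22638
theorem L22645 : sm gd N2090 = N2851 := rfl
theorem L22647 : sm gg N2851 = N2091 := ded_32_2 (flp_d L16639) (flp_g L16637) L22645
theorem L22660 : sm gc N2091 = N2853 := rfl
theorem L22663 : sm gf N2853 = N2138 := ded_26_2 (flp_c L17014) (flp_f L16641) L22660
theorem L22667 : sm gi N2091 = N2854 := rfl
theorem L22669 : sm gd N2854 = N2092 := ded_34_1 (flp_i L16645) L16639 L22667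
theorem L22674 : sm gf N2094 = N2855 := rfl
theorem L22676 : sm ga N2855 = N2855 := ded_13_1 (flp_f L22674) L16670 L22674
theorem L22677 : sm gb N2855 = N2095 := ded_20_1 (flp_f L16673) L16662 L22674
theorem L22679 : sm gc N2855 = N2827 := ded_26_1 (flp_f L22445) (flp_c L16671) L22674
theorem L22681 : sm gd N2855 = N2166 := ded_31_1 (flp_f L17216) (flp_d L16664) L22674
theorem L22683 : sm gi N2855 = N2115 := ded_41_2 (flp_f L16853) (flp_i L16668) L22674
theorem L22685 : sm gh N2094 = N2856 := rfl
theorem L22687 : sm ga N2856 = N2856 := ded_15_1 (flp_h L22685) L16670 L22685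
theorem L22688 : sm gb N2856 = N2096 := ded_22_1 (flp_h L16683) L16662 L22685
theorem L22690 : sm gc N2856 = N2828 := ded_28_1 (flp_h L22453) (flp_c L16671) L22685
theorem L22692 : sm ge N2856 = N2727 := ded_37_1 (flp_h L21669) (flp_e L16666) L22685
theorem L22694 : sm ge N2095 = N2857 := rfl
theorem L22696 : sm ga N2857 = N2101 := ded_12_1 (flp_e L16732) (flp_a L16675) L22694
theorem L22698 : sm gc N2857 = N2097 := ded_25_1 (flp_e L16691) (flp_c L16677) L22694
theorem L22700 : sm gi N2857 = N2117 := ded_38_2 (flp_e L16866) (flp_i L16681) L22694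
theorem L22702 : sm gf N2857 = N2728 := ded_35_2 (flp_e L21676) (flp_f L15940) (flp_e L12283) L16673 L22694
theorem L22704 : sm gg N2095 = N2858 := rfl
theorem L22706 : sm ga N2858 = N2102 := ded_14_1 (flp_g L16741) (flp_a L16675) L22704
theorem L22708 : sm gc N2858 = N2098 := ded_27_1 (flp_g L16702) (flp_c L16677) L22704
theorem L22710 : sm gd N2858 = N2169 := ded_32_1 (flp_g L17241) (flp_d L16679) L22704
theorem L22712 : sm gi N2858 = N2118 := ded_43_2 (flp_g L16872) (flp_i L16681) L22704
theorem L22714 : sm gh N2095 = N2859 := rfl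
theorem L22722 : sm gd N2096 = N2860 := rfl
theorem L22724 : sm ga N2860 = N2104 := ded_11_1 (flp_d L16757) (flp_a L16685) L22722
theorem L22726 : sm gc N2860 = N2860 := ded_24_1 (flp_d L22722) L16687 L12307 (flp_c L16687) L22722
theorem L22727 : sm gh N2860 = N2171 := ded_33_2 (flp_d L17258) (flp_h L12704) (flp_d L12287) L16683 L22722
theorem L22729 : sm gi N2096 = N2861 := rfl
theorem L22731 : sm ga N2861 = N2105 := ded_16_1 (flp_i L16763) (flp_a L16685) L22729
theorem L22733 : sm gc N2861 = N2100 := ded_29_1 (flp_i L16721) (flp_c L16687) L22729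
theorem L22737 : sm gh N2861 = N2120 := ded_44_1 (flp_i L16889) (flp_h L12419) (flp_i L12285) L16683 L22729
theorem L22739 : sm gg N2097 = N2862 := rfl
theorem L22746 : sm ge N2862 = N2098 := ded_36_1 (flp_g L16702) L16691 L22739
theorem L22748 : sm gi N2862 = N2121 := ded_43_2 (flp_g L16896) (flp_i L16697) L22739
theorem L22750 : sm gh N2097 = N2863 := rfl
theorem L22758 : sm gf N2863 = N2734 := ded_40_1 (flp_h L21719) (flp_f L16700) L22750
theorem L22760 : sm gh N2098 = N2864 := rfl
theorem L22780 : sm gd N2101 = N2866 := rfl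
theorem L22785 : sm gi N2866 = N2125 := ded_34_2 (flp_d L16925) (flp_i L16737) L22780
theorem L22788 : sm ge N2866 = N2175 := ded_30_2 (flp_d L17292) (flp_e L12739) (flp_d L12325) L16732 L22780
theorem L22790 : sm gg N2101 = N2867 := rfl
theorem L22795 : sm ge N2867 = N2102 := ded_36_1 (flp_g L16741) L16732 L22790
theorem L22797 : sm gi N2867 = N2126 := ded_43_2 (flp_g L16931) (flp_i L16737) L22790
theorem L22799 : sm gh N2101 = N2868 := rfl
theorem L22804 : sm ge N2868 = N2103 := ded_37_1 (flp_h L16750) L16732 L22799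
theorem L22808 : sm gh N2102 = N2869 := rfl
theorem L22813 : sm gg N2869 = N2103 := ded_42_1 (flp_h L16750) L16741 L22808
theorem L22815 : sm gd N2103 = N2870 := rfl
theorem L22818 : sm gf N2870 = N2104 := ded_31_2 (flp_d L16757) (flp_f L16755) L22815
theorem L22821 : sm gh N2870 = N2179 := ded_33_2 (flp_d L17325) (flp_h L12754) (flp_d L12325) L16750 L22815
theorem L22823 : sm gi N2103 = N2871 := rfl
theorem L22832 : sm ge N2104 = N2872 := rfl
theorem L22836 : sm gh N2872 = N2180 := ded_37_2 (flp_e L17332) (flp_h L16761) L22832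
theorem L22840 : sm gi N2104 = N2873 := rfl
theorem L22856 : sm gh N2106 = N2875 := rfl
theorem L22858 : sm gb N2875 = N2111 := ded_22_1 (flp_h L16815) (flp_b L16774) L22856
theorem L22862 : sm gg N2875 = N2107 := ded_42_1 (flp_h L16781) L16772 L22856
theorem L22864 : sm gd N2107 = N2876 := rfl
theorem L22868 : sm gf N2876 = N2747 := ded_31_2 (flp_d L21814) (flp_f L16787) L22864
theorem L22891 : sm gh N2110 = N2879 := rfl
theorem L22893 : sm ga N2879 = N2850 := ded_15_1 (flp_h L22638) (flp_a L16807) L22891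
theorem L22898 : sm gg N2879 = N2750 := ded_42_1 (flp_h L21835) (flp_g L16813) L22891
theorem L22900 : sm gd N2111 = N2880 := rfl
theorem L22904 : sm gg N2880 = N2112 := ded_32_2 (flp_d L16824) (flp_g L16822) L22900
theorem L22919 : sm gc N2112 = N2882 := rfl
theorem L22921 : sm ga N2882 = N2853 := ded_10_1 (flp_c L22660) (flp_a L16826) L22919
theorem L22924 : sm gf N2882 = N2753 := ded_26_2 (flp_c L21860) (flp_f L16828) L22919
theorem L22928 : sm gi N2112 = N2883 := rfl
theorem L22930 : sm ga N2883 = N2854 := ded_16_1 (flp_i L22667) (flp_a L16826) L22928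
theorem L22935 : sm gf N2883 = N2754 := ded_41_1 (flp_i L21868) (flp_f L16828) L22928
theorem L22937 : sm ge N2115 = N2884 := rfl
theorem L22940 : sm gb N2884 = N2117 := ded_19_1 (flp_e L16866) (flp_b L16856) L22937
theorem L22942 : sm gg N2115 = N2885 := rfl
theorem L22944 : sm ga N2885 = N2885 := ded_14_1 (flp_g L22942) L16855 L22942
theorem L22945 : sm gb N2885 = N2118 := ded_21_1 (flp_g L16872) (flp_b L16856) L22942
theorem L22947 : sm gd N2885 = N2188 := ded_32_1 (flp_g L17395) (flp_d L16858) L22942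
theorem L22949 : sm gh N2115 = N2886 := rfl
theorem L22952 : sm gb N2886 = N2119 := ded_22_1 (flp_h L16880) (flp_b L16856) L22949
theorem L22954 : sm gf N2886 = N2116 := ded_40_1 (flp_h L16860) L16853 L22949
theorem L22957 : sm gi N2116 = N2887 := rfl
theorem L22963 : sm gd N2117 = N2888 := rfl
theorem L22965 : sm ga N2888 = N2125 := ded_11_1 (flp_d L16925) (flp_a L16868) L22963
theorem L22968 : sm ge N2888 = N2189 := ded_30_2 (flp_d L17402) (flp_e L12823) (flp_d L12417) L16866 L22963
theorem L22970 : sm gg N2117 = N2889 := rfl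
theorem L22978 : sm gh N2117 = N2890 := rfl
theorem L22980 : sm ga N2890 = N2127 := ded_15_1 (flp_h L16938) (flp_a L16868) L22978
theorem L23004 : sm gf N2121 = N2893 := rfl
theorem L23006 : sm ga N2893 = N2130 := ded_13_1 (flp_f L16961) (flp_a L16898) L23004
theorem L23009 : sm gh N2121 = N2894 := rfl
theorem L23015 : sm gg N2894 = N2122 := ded_42_1 (flp_h L16903) L16896 L23009
theorem L23017 : sm gd N2122 = N2895 := rfl
theorem L23019 : sm ga N2895 = N2132 := ded_11_1 (flp_d L16974) (flp_a L16905) L23017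
theorem L23030 : sm gi N2123 = N2897 := rfl
theorem L23038 : sm gg N2125 = N2898 := rfl
theorem L23042 : sm gd N2898 = N2126 := ded_32_1 (flp_g L16931) L16925 L23038
theorem L23046 : sm gh N2125 = N2899 := rfl
theorem L23052 : sm gf N2126 = N2900 := rfl
theorem L23057 : sm gh N2126 = N2901 := rfl
theorem L23062 : sm ge N2901 = N2128 := ded_37_1 (flp_h L16945) (flp_e L16936) L23057
theorem L23066 : sm gd N2127 = N2902 := rfl
theorem L23085 : sm gh N2130 = N2905 := rfl
theorem L23087 : sm gb N2905 = N2135 := ded_22_1 (flp_h L16995) (flp_b L16963) L23085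
theorem L23089 : sm gf N2905 = N2131 := ded_40_1 (flp_h L16966) L16961 L23085
theorem L23091 : sm gd N2131 = N2906 := rfl
theorem L23097 : sm ge N2906 = N2146 := ded_30_2 (flp_d L17074) L12579 (flp_d L12496) (flp_e L16970) L23091
theorem L23108 : sm gc N2132 = N2908 := rfl
theorem L23110 : sm ge N2908 = N2148 := ded_25_2 (flp_c L17091) (flp_e L16978) L23108
theorem L23121 : sm gd N2135 = N2910 := rfl
theorem L23123 : sm gf N2910 = N2136 := ded_31_2 (flp_d L17000) (flp_f L16998) L23121
theorem L23131 : sm gc N2136 = N2912 := rfl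
theorem L23133 : sm ge N2912 = N2152 := ded_25_2 (flp_c L17117) (flp_e L17004) L23131
theorem L23135 : sm gg N2912 = N2138 := ded_27_2 (flp_c L17014) (flp_g L17002) L23131
theorem L23147 : sm gb N2138 = N2914 := rfl
theorem L23150 : sm ge N2914 = N2154 := ded_19_2 (flp_b L17130) (flp_e L17016) L23147
theorem L23190 : sm gc N2142 = N2920 := rfl
theorem L23192 : sm ga N2920 = N2148 := ded_10_1 (flp_c L17091) (flp_a L17045) L23190
theorem L23204 : sm gd N2145 = N2922 := rfl
theorem L23208 : sm gf N2922 = N2146 := ded_31_2 (flp_d L17074) (flp_f L17071) L23204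
theorem L23212 : sm gi N2145 = N2923 := rfl
theorem L23221 : sm gc N2146 = N2924 := rfl
theorem L23223 : sm gg N2924 = N2148 := ded_27_2 (flp_c L17091) (flp_g L17078) L23221
theorem L23227 : sm gi N2146 = N2925 := rfl
theorem L23233 : sm gg N2925 = N2149 := ded_43_1 (flp_i L17096) (flp_g L17078) L23227
theorem L23235 : sm gb N2148 = N2926 := rfl
theorem L23242 : sm gi N2148 = N2927 := rfl
theorem L23244 : sm gc N2927 = N2149 := ded_29_1 (flp_i L17096) L17091 L23242
theorem L23248 : sm gh N2149 = N2928 := rfl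
theorem L23255 : sm gc N2150 = N2929 := rfl
theorem L23257 : sm gf N2929 = N2152 := ded_26_2 (flp_c L17117) (flp_f L17105) L23255
theorem L23261 : sm gd N2929 = N2157 := ded_24_2 (flp_c L17148) (flp_d L12638) (flp_c L12608) L17103 L23255
theorem L23263 : sm ge N2150 = N2930 := rfl
theorem L23274 : sm gb N2152 = N2932 := rfl
theorem L23278 : sm gg N2932 = N2154 := ded_21_2 (flp_b L17130) (flp_g L17119) L23274
theorem L23281 : sm gi N2152 = N2933 := rfl
theorem L23287 : sm gg N2933 = N2155 := ded_43_1 (flp_i L17136) (flp_g L17119) L23281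
theorem L23295 : sm ga N2154 = N2935 := rfl
theorem L23301 : sm gi N2154 = N2936 := rfl
theorem L23308 : sm gh N2155 = N2937 := rfl
theorem L23314 : sm gb N2157 = N2938 := rfl
theorem L23319 : sm gh N2938 = N2229 := ded_22_2 (flp_b L17711) (flp_h L17153) L23314
theorem L23322 : sm ge N2157 = N2939 := rfl
theorem L23327 : sm gh N2939 = N2230 := ded_37_2 (flp_e L17718) (flp_h L17153) L23322
theorem L23330 : sm gi N2157 = N2940 := rfl
theorem L23337 : sm gi N2158 = N2941 := rfl
theorem L23361 : sm gi N2160 = N2944 := rfl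
theorem L23363 : sm gb N2944 = N2161 := ded_23_1 (flp_i L17178) L17170 L23361
theorem L23367 : sm gg N2944 = N2164 := ded_43_1 (flp_i L17201) (flp_g L17173) L23361
theorem L23369 : sm gh N2161 = N2945 := rfl
theorem L23374 : sm gg N2945 = N2165 := ded_42_1 (flp_h L17208) (flp_g L17183) L23369
theorem L23376 : sm gi N2945 = N2236 := ded_44_2 (flp_h L17763) (flp_i L13096) (flp_h L12658) L17178 L23369
theorem L23385 : sm gh N2164 = N2947 := rfl
theorem L23392 : sm gi N2947 = N2238 := ded_44_2 (flp_h L17778) (flp_i L13117) (flp_h L12672) L17201 L23385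
theorem L23394 : sm gd N2165 = N2948 := rfl
theorem L23397 : sm gi N2948 = N2239 := ded_34_2 (flp_d L17785) (flp_i L17214) L23394
theorem L23400 : sm ge N2166 = N2949 := rfl
theorem L23402 : sm ga N2949 = N2949 := ded_12_1 (flp_e L23400) L17218 L23400
theorem L23403 : sm gb N2949 = N2168 := ded_19_1 (flp_e L17232) (flp_b L17219) L23400
theorem L23405 : sm gc N2949 = N2949 := ded_25_1 (flp_e L23400) L17221 L23400
theorem L23406 : sm gi N2949 = N2187 := ded_38_2 (flp_e L17387) (flp_i L17222) L23400
theorem L23408 : sm gf N2949 = N2949 := ded_35_2 (flp_e L23400) (flp_f L17216) L12691 L17216 L23400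
theorem L23409 : sm gg N2166 = N2950 := rfl
theorem L23411 : sm ga N2950 = N2950 := ded_14_1 (flp_g L23409) L17218 L23409
theorem L23412 : sm gb N2950 = N2169 := ded_21_1 (flp_g L17241) (flp_b L17219) L23409
theorem L23414 : sm gc N2950 = N2950 := ded_27_1 (flp_g L23409) L17221 L23409
theorem L23415 : sm gi N2950 = N2188 := ded_43_2 (flp_g L17395) (flp_i L17222) L23409
theorem L23417 : sm gh N2166 = N2951 := rfl
theorem L23419 : sm ga N2951 = N2951 := ded_15_1 (flp_h L23417) L17218 L23417
theorem L23420 : sm gb N2951 = N2170 := ded_22_1 (flp_h L17249) (flp_b L17219) L23417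
theorem L23422 : sm gc N2951 = N2951 := ded_28_1 (flp_h L23417) L17221 L23417
theorem L23423 : sm gf N2951 = N2167 := ded_40_1 (flp_h L17224) L17216 L23417
theorem L23425 : sm gi N2951 = N2951 := ded_44_2 (flp_h L23417) L17222 L12822 (flp_i L17222) L23417
theorem L23426 : sm gd N2167 = N2952 := rfl
theorem L23428 : sm ga N2952 = N2952 := ded_11_1 (flp_d L23426) L17226 L23426
theorem L23429 : sm gb N2952 = N2171 := ded_18_1 (flp_d L17258) (flp_b L17227) L23426
theorem L23431 : sm gi N2952 = N2952 := ded_34_2 (flp_d L23426) L17231 L23426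
theorem L23432 : sm gd N2168 = N2953 := rfl
theorem L23434 : sm ga N2953 = N2175 := ded_11_1 (flp_d L17292) (flp_a L17234) L23432
theorem L23436 : sm gf N2953 = N2953 := ded_31_2 (flp_d L23432) L17240 L23432
theorem L23437 : sm gi N2953 = N2189 := ded_34_2 (flp_d L17402) (flp_i L17238) L23432
theorem L23439 : sm gc N2953 = N2953 := ded_24_1 (flp_d L23432) L17236 L12719 (flp_c L17236) L23432
theorem L23440 : sm gg N2168 = N2954 := rfl
theorem L23442 : sm ga N2954 = N2176 := ded_14_1 (flp_g L17299) (flp_a L17234) L23440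
theorem L23444 : sm gc N2954 = N2172 := ded_27_1 (flp_g L17264) (flp_c L17236) L23440
theorem L23446 : sm ge N2954 = N2169 := ded_36_1 (flp_g L17241) L17232 L23440
theorem L23448 : sm gi N2954 = N2190 := ded_43_2 (flp_g L17408) (flp_i L17238) L23440
theorem L23450 : sm gh N2168 = N2955 := rfl
theorem L23452 : sm ga N2955 = N2177 := ded_15_1 (flp_h L17308) (flp_a L17234) L23450
theorem L23454 : sm gc N2955 = N2173 := ded_28_1 (flp_h L17274) (flp_c L17236) L23450
theorem L23456 : sm ge N2955 = N2170 := ded_37_1 (flp_h L17249) L17232 L23450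
theorem L23458 : sm gf N2955 = N2955 := ded_40_1 (flp_h L23450) L17240 L23450
theorem L23459 : sm gi N2955 = N2955 := ded_44_2 (flp_h L23450) L17238 L12829 (flp_i L17238) L23450
theorem L23460 : sm gh N2169 = N2956 := rfl
theorem L23462 : sm ga N2956 = N2178 := ded_15_1 (flp_h L17317) (flp_a L17243) L23460
theorem L23464 : sm gc N2956 = N2174 := ded_28_1 (flp_h L17283) (flp_c L17245) L23460
theorem L23466 : sm gg N2956 = N2170 := ded_42_1 (flp_h L17249) L17241 L23460
theorem L23468 : sm gi N2956 = N2956 := ded_44_2 (flp_h L23460) L17247 L12837 (flp_i L17247) L23460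
theorem L23469 : sm gd N2170 = N2957 := rfl
theorem L23471 : sm ga N2957 = N2179 := ded_11_1 (flp_d L17325) (flp_a L17251) L23469
theorem L23473 : sm gf N2957 = N2171 := ded_31_2 (flp_d L17258) (flp_f L17255) L23469
theorem L23475 : sm gi N2957 = N2957 := ded_34_2 (flp_d L23469) L17257 L23469
theorem L23476 : sm gc N2957 = N2957 := ded_24_1 (flp_d L23469) L17253 L12737 (flp_c L17253) L23469
theorem L23477 : sm ge N2171 = N2958 := rfl
theorem L23479 : sm ga N2958 = N2180 := ded_12_1 (flp_e L17332) (flp_a L17260) L23477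
theorem L23481 : sm gc N2958 = N2958 := ded_25_1 (flp_e L23477) L17263 L23477
theorem L23482 : sm gi N2958 = N2958 := ded_38_2 (flp_e L23477) L17262 L23477
theorem L23483 : sm gd N2958 = N2958 := ded_30_1 (flp_e L23477) (flp_d L17258) L12710 L17258 L23477
theorem L23484 : sm gf N2172 = N2959 := rfl
theorem L23486 : sm ga N2959 = N2181 := ded_13_1 (flp_f L17338) (flp_a L17266) L23484
theorem L23488 : sm gb N2959 = N2959 := ded_20_1 (flp_f L23484) L17268 L23484
theorem L23489 : sm gd N2959 = N2959 := ded_31_1 (flp_f L23484) L17269 L23484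
theorem L23490 : sm gi N2959 = N2191 := ded_41_2 (flp_f L17417) (flp_i L17272) L23484
theorem L23492 : sm gg N2959 = N2959 := ded_39_2 (flp_f L23484) (flp_g L17264) L12720 L17264 L23484
theorem L23493 : sm gh N2172 = N2960 := rfl
theorem L23495 : sm ga N2960 = N2182 := ded_15_1 (flp_h L17346) (flp_a L17266) L23493
theorem L23497 : sm gb N2960 = N2960 := ded_22_1 (flp_h L23493) L17268 L23493
theorem L23498 : sm ge N2960 = N2174 := ded_37_1 (flp_h L17283) (flp_e L17270) L23493
theorem L23500 : sm gg N2960 = N2173 := ded_42_1 (flp_h L17274) L17264 L23493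
theorem L23502 : sm gi N2960 = N2960 := ded_44_2 (flp_h L23493) L17272 L12846 (flp_i L17272) L23493
theorem L23503 : sm gd N2173 = N2961 := rfl
theorem L23505 : sm ga N2961 = N2183 := ded_11_1 (flp_d L17355) (flp_a L17276) L23503
theorem L23507 : sm gb N2961 = N2961 := ded_18_1 (flp_d L23503) L17278 L23503
theorem L23508 : sm gf N2961 = N2961 := ded_31_2 (flp_d L23503) L17281 L23503
theorem L23509 : sm gi N2961 = N2961 := ded_34_2 (flp_d L23503) L17282 L23503
theorem L23510 : sm ge N2961 = N2961 := ded_30_2 (flp_d L23503) L17279 L12737 (flp_e L17279) L23503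
theorem L23511 : sm gh N2961 = N2961 := ded_33_2 (flp_d L23503) (flp_h L17274) L12719 L17274 L23503
theorem L23512 : sm gg N2175 = N2962 := rfl
theorem L23514 : sm gb N2962 = N2962 := ded_21_1 (flp_g L23512) L17294 L23512
theorem L23515 : sm gc N2962 = N2962 := ded_27_1 (flp_g L23512) L17298 L23512
theorem L23516 : sm gd N2962 = N2176 := ded_32_1 (flp_g L17299) L17292 L23512
theorem L23518 : sm gi N2962 = N2192 := ded_43_2 (flp_g L17425) (flp_i L17296) L23512
theorem L23520 : sm gh N2175 = N2963 := rfl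
theorem L23525 : sm gf N2176 = N2964 := rfl
theorem L23527 : sm gb N2964 = N2964 := ded_20_1 (flp_f L23525) L17301 L23525
theorem L23528 : sm gc N2964 = N2181 := ded_26_1 (flp_f L17338) (flp_c L17302) L23525
theorem L23530 : sm gi N2964 = N2194 := ded_41_2 (flp_f L17437) (flp_i L17306) L23525
theorem L23532 : sm gg N2964 = N2964 := ded_39_2 (flp_f L23525) (flp_g L17299) L12746 L17299 L23525
theorem L23533 : sm gh N2176 = N2965 := rfl
theorem L23535 : sm gb N2965 = N2965 := ded_22_1 (flp_h L23533) L17301 L23533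
theorem L23536 : sm gc N2965 = N2182 := ded_28_1 (flp_h L17346) (flp_c L17302) L23533
theorem L23538 : sm ge N2965 = N2178 := ded_37_1 (flp_h L17317) (flp_e L17304) L23533
theorem L23540 : sm gg N2965 = N2177 := ded_42_1 (flp_h L17308) L17299 L23533
theorem L23542 : sm gi N2965 = N2965 := ded_44_2 (flp_h L23533) L17306 L12859 (flp_i L17306) L23533
theorem L23543 : sm gd N2177 = N2966 := rfl
theorem L23548 : sm gd N2178 = N2967 := rfl
theorem L23550 : sm gb N2967 = N2967 := ded_18_1 (flp_d L23548) L17319 L23548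
theorem L23551 : sm gg N2967 = N2179 := ded_32_2 (flp_d L17325) (flp_g L17322) L23548
theorem L23553 : sm gi N2967 = N2967 := ded_34_2 (flp_d L23548) L17324 L23548
theorem L23554 : sm gc N2967 = N2967 := ded_24_1 (flp_d L23548) L17320 L12790 (flp_c L17320) L23548
theorem L23555 : sm ge N2179 = N2968 := rfl
theorem L23560 : sm gf N2180 = N2969 := rfl
theorem L23566 : sm gh N2181 = N2970 := rfl
theorem L23568 : sm gb N2970 = N2184 := ded_22_1 (flp_h L17363) (flp_b L17340) L23566
theorem L23570 : sm gf N2970 = N2182 := ded_40_1 (flp_h L17346) L17338 L23566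
theorem L23574 : sm gd N2182 = N2971 := rfl
theorem L23576 : sm gb N2971 = N2185 := ded_18_1 (flp_d L17371) (flp_b L17348) L23574
theorem L23578 : sm gg N2971 = N2183 := ded_32_2 (flp_d L17355) (flp_g L17352) L23574
theorem L23583 : sm gc N2183 = N2972 := rfl
theorem L23589 : sm gd N2184 = N2973 := rfl
theorem L23592 : sm gf N2973 = N2185 := ded_31_2 (flp_d L17371) (flp_f L17367) L23589
theorem L23597 : sm gc N2185 = N2974 := rfl
theorem L23601 : sm gg N2974 = N2186 := ded_27_2 (flp_c L17379) (flp_g L17374) L23597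
theorem L23606 : sm gb N2186 = N2975 := rfl
theorem L23613 : sm gd N2187 = N2976 := rfl
theorem L23615 : sm ga N2976 = N2976 := ded_11_1 (flp_d L23613) L17389 L23613
theorem L23616 : sm gb N2976 = N2189 := ded_18_1 (flp_d L17402) (flp_b L17390) L23613
theorem L23618 : sm gf N2976 = N2976 := ded_31_2 (flp_d L23613) L17394 L23613
theorem L23619 : sm gg N2187 = N2977 := rfl
theorem L23621 : sm ga N2977 = N2977 := ded_14_1 (flp_g L23619) L17389 L23619
theorem L23622 : sm gb N2977 = N2190 := ded_21_1 (flp_g L17408) (flp_b L17390) L23619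
theorem L23624 : sm gc N2977 = N2977 := ded_27_1 (flp_g L23619) L17392 L23619
theorem L23625 : sm ge N2977 = N2188 := ded_36_1 (flp_g L17395) L17387 L23619
theorem L23627 : sm gh N2977 = N2977 := ded_42_2 (flp_g L23619) L17393 L23619
theorem L23628 : sm gg N2189 = N2978 := rfl
theorem L23630 : sm ga N2978 = N2192 := ded_14_1 (flp_g L17425) (flp_a L17404) L23628
theorem L23632 : sm gc N2978 = N2978 := ded_27_1 (flp_g L23628) L17407 L23628
theorem L23633 : sm gd N2978 = N2190 := ded_32_1 (flp_g L17408) L17402 L23628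
theorem L23642 : sm gf N2190 = N2980 := rfl
theorem L23644 : sm ga N2980 = N2194 := ded_13_1 (flp_f L17437) (flp_a L17410) L23642
theorem L23646 : sm gc N2980 = N2191 := ded_26_1 (flp_f L17417) (flp_c L17412) L23642
theorem L23648 : sm gh N2980 = N2980 := ded_40_2 (flp_f L23642) L17416 L23642
theorem L23649 : sm gg N2980 = N2980 := ded_39_2 (flp_f L23642) (flp_g L17408) L12830 L17408 L23642
theorem L23650 : sm gf N2192 = N2981 := rfl
theorem L23652 : sm gb N2981 = N2981 := ded_20_1 (flp_f L23650) L17427 L23650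
theorem L23653 : sm gc N2981 = N2981 := ded_26_1 (flp_f L23650) L17428 L23650
theorem L23654 : sm gd N2981 = N2194 := ded_31_1 (flp_f L17437) (flp_d L17429) L23650
theorem L23656 : sm gg N2981 = N2981 := ded_39_2 (flp_f L23650) (flp_g L17425) L12850 L17425 L23650
theorem L23657 : sm gh N2192 = N2982 := rfl
theorem L23661 : sm gg N2982 = N2193 := ded_42_1 (flp_h L17431) L17425 L23657
theorem L23678 : sm gh N2195 = N2985 := rfl
theorem L23682 : sm gf N2985 = N2196 := ded_40_1 (flp_h L17452) L17444 L23678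
theorem L23685 : sm gd N2196 = N2986 := rfl
theorem L23689 : sm gg N2986 = N2197 := ded_32_2 (flp_d L17459) (flp_g L17457) L23685
theorem L23691 : sm gh N2986 = N2200 := ded_33_2 (flp_d L17483) (flp_h L12890) (flp_d L12871) L17452 L23685
theorem L23701 : sm gc N2197 = N2988 := rfl
theorem L23705 : sm gh N2988 = N2202 := ded_28_2 (flp_c L17500) (flp_h L17464) L23701
theorem L23707 : sm ge N2197 = N2989 := rfl
theorem L23711 : sm gh N2989 = N2203 := ded_37_2 (flp_e L17506) (flp_h L17464) L23707
theorem L23714 : sm gi N2197 = N2990 := rfl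
theorem L23721 : sm gd N2199 = N2991 := rfl
theorem L23725 : sm gf N2991 = N2200 := ded_31_2 (flp_d L17483) (flp_f L17480) L23721
theorem L23739 : sm gc N2200 = N2993 := rfl
theorem L23742 : sm gg N2993 = N2202 := ded_27_2 (flp_c L17500) (flp_g L17487) L23739
theorem L23746 : sm ge N2200 = N2994 := rfl
theorem L23754 : sm gi N2200 = N2995 := rfl
theorem L23760 : sm gg N2995 = N2204 := ded_43_1 (flp_i L17512) (flp_g L17487) L23754
theorem L23762 : sm gb N2202 = N2996 := rfl
theorem L23764 : sm gd N2996 = N2217 := ded_18_2 (flp_b L17620) (flp_d L17504) L23762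
theorem L23768 : sm ge N2202 = N2997 := rfl
theorem L23782 : sm gf N2203 = N2999 := rfl
theorem L23797 : sm gh N2204 = N3001 := rfl
theorem L23879 : sm gc N2213 = N3011 := rfl
theorem L23882 : sm gf N3011 = N2215 := ded_26_2 (flp_c L17604) (flp_f L17591) L23879
theorem L23885 : sm ge N2213 = N3012 := rfl
theorem L23893 : sm gi N2213 = N3013 := rfl
theorem L23903 : sm gb N2215 = N3014 := rfl
theorem L23906 : sm gg N3014 = N2217 := ded_21_2 (flp_b L17620) (flp_g L17608) L23903
theorem L23918 : sm gh N2216 = N3016 := rfl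
theorem L23924 : sm gg N3016 = N2219 := ded_42_1 (flp_h L17633) (flp_g L17618) L23918
theorem L23927 : sm ga N2217 = N3017 := rfl
theorem L23929 : sm gc N3017 = N2226 := ded_10_2 (flp_a L17689) (flp_c L17624) L23927
theorem L23934 : sm gi N2217 = N3018 := rfl
theorem L23949 : sm gb N2220 = N3020 := rfl
theorem L23952 : sm gf N3020 = N2223 := ded_20_2 (flp_b L17665) (flp_f L17645) L23949
theorem L23955 : sm ge N2220 = N3021 := rfl
theorem L23957 : sm ga N3021 = N2230 := ded_12_1 (flp_e L17718) (flp_a L17643) L23955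
theorem L23982 : sm gh N2222 = N3024 := rfl
theorem L23990 : sm ga N2223 = N3025 := rfl
theorem L24006 : sm gh N2224 = N3027 := rfl
theorem L24015 : sm gi N2226 = N3028 := rfl
theorem L24037 : sm ga N2229 = N3031 := rfl
theorem L24044 : sm ge N2229 = N3032 := rfl
theorem L24046 : sm gb N3032 = N2230 := ded_19_1 (flp_e L17718) L17711 L24044
theorem L24060 : sm gd N2230 = N3034 := rfl
theorem L24066 : sm gi N2230 = N3035 := rfl
theorem L24074 : sm gh N2231 = N3036 := rfl
theorem L24078 : sm gf N3036 = N2236 := ded_40_1 (flp_h L17763) (flp_f L17729) L24074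
theorem L24081 : sm gh N2232 = N3037 := rfl
theorem L24097 : sm gh N2235 = N3039 := rfl
theorem L24105 : sm gd N2236 = N3040 := rfl
theorem L24107 : sm gg N3040 = N2239 := ded_32_2 (flp_d L17785) (flp_g L17768) L24105
theorem L24118 : sm gd N2238 = N3042 := rfl
theorem L24120 : sm gb N3042 = N2239 := ded_18_1 (flp_d L17785) (flp_b L17780) L24118
theorem L24124 : sm ge N2239 = N3043 := rfl
theorem L24129 : sm gc N2240 = N3044 := rfl
theorem L24131 : sm ga N3044 = N2242 := ded_10_1 (flp_c L17806) (flp_a L17792) L24129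
theorem L24133 : sm gg N3044 = N3044 := ded_27_2 (flp_c L24129) L17796 L24129
theorem L24134 : sm gd N3044 = N3044 := ded_24_2 (flp_c L24129) (flp_d L17790) L13137 L17790 L24129
theorem L24135 : sm gf N2240 = N3045 := rfl
theorem L24137 : sm ga N3045 = N2243 := ded_13_1 (flp_f L17812) (flp_a L17792) L24135
theorem L24139 : sm gb N3045 = N2426 := ded_20_1 (flp_f L19328) (flp_b L17794) L24135
theorem L24141 : sm gd N3045 = N2241 := ded_31_1 (flp_f L17797) L17790 L24135
theorem L24143 : sm gh N2240 = N3046 := rfl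
theorem L24145 : sm ga N3046 = N2244 := ded_15_1 (flp_h L17818) (flp_a L17792) L24143
theorem L24147 : sm gb N3046 = N2427 := ded_22_1 (flp_h L19334) (flp_b L17794) L24143
theorem L24149 : sm gg N3046 = N3046 := ded_42_1 (flp_h L24143) L17796 L24143
theorem L24150 : sm gd N3046 = N3046 := ded_33_1 (flp_h L24143) (flp_d L17790) L13139 L17790 L24143
theorem L24151 : sm gg N2241 = N3047 := rfl
theorem L24155 : sm gb N3047 = N2428 := ded_21_1 (flp_g L19340) (flp_b L17801) L24151
theorem L24161 : sm gf N2242 = N3048 := rfl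
theorem L24163 : sm gb N3048 = N2254 := ded_20_1 (flp_f L17900) (flp_b L17809) L24161
theorem L24165 : sm gc N3048 = N2243 := ded_26_1 (flp_f L17812) L17806 L24161
theorem L24167 : sm gd N3048 = N3048 := ded_31_1 (flp_f L24161) L17811 L24161
theorem L24168 : sm gh N2242 = N3049 := rfl
theorem L24170 : sm gb N3049 = N2255 := ded_22_1 (flp_h L17905) (flp_b L17809) L24168
theorem L24172 : sm gc N3049 = N2244 := ded_28_1 (flp_h L17818) L17806 L24168
theorem L24174 : sm gg N3049 = N3049 := ded_42_1 (flp_h L24168) L17808 L24168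
theorem L24175 : sm ge N2243 = N3050 := rfl
theorem L24177 : sm gb N3050 = N2246 := ded_19_1 (flp_e L17832) (flp_b L17814) L24175
theorem L24179 : sm gd N3050 = N3050 := ded_30_1 (flp_e L24175) L17816 L13151 (flp_d L17816) L24175
theorem L24180 : sm gg N2243 = N3051 := rfl
theorem L24187 : sm gh N2243 = N3052 := rfl
theorem L24189 : sm gb N3052 = N2248 := ded_22_1 (flp_h L17848) (flp_b L17814) L24187
theorem L24191 : sm gf N3052 = N2244 := ded_40_1 (flp_h L17818) L17812 L24187
theorem L24193 : sm gd N3052 = N3052 := ded_33_1 (flp_h L24187) L17816 L13150 (flp_d L17816) L24187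
theorem L24194 : sm gi N2244 = N3053 := rfl
theorem L24196 : sm gb N3053 = N2249 := ded_23_1 (flp_i L17857) (flp_b L17820) L24194
theorem L24198 : sm gd N3053 = N3053 := ded_34_1 (flp_i L24194) L17823 L24194
theorem L24199 : sm gg N3053 = N3053 := ded_43_1 (flp_i L24194) L17822 L24194
theorem L24200 : sm gg N2246 = N3054 := rfl
theorem L24202 : sm ga N3054 = N2435 := ded_14_1 (flp_g L19389) (flp_a L17834) L24200
theorem L24204 : sm gc N3054 = N2260 := ded_27_1 (flp_g L17938) (flp_c L17836) L24200
theorem L24209 : sm gh N2246 = N3055 := rfl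
theorem L24211 : sm ga N3055 = N2436 := ded_15_1 (flp_h L19396) (flp_a L17834) L24209
theorem L24213 : sm gc N3055 = N2261 := ded_28_1 (flp_h L17946) (flp_c L17836) L24209
theorem L24215 : sm ge N3055 = N2248 := ded_37_1 (flp_h L17848) L17832 L24209
theorem L24217 : sm gh N2247 = N3056 := rfl
theorem L24219 : sm ga N3056 = N2437 := ded_15_1 (flp_h L19402) (flp_a L17841) L24217
theorem L24221 : sm gc N3056 = N2262 := ded_28_1 (flp_h L17952) (flp_c L17843) L24217
theorem L24227 : sm gi N2248 = N3057 := rfl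
theorem L24229 : sm ga N3057 = N2438 := ded_16_1 (flp_i L19410) (flp_a L17850) L24227
theorem L24231 : sm gc N3057 = N2263 := ded_29_1 (flp_i L17961) (flp_c L17852) L24227
theorem L24233 : sm gd N3057 = N3057 := ded_34_1 (flp_i L24227) L17856 L24227
theorem L24234 : sm gf N3057 = N2249 := ded_41_1 (flp_i L17857) (flp_f L17854) L24227
theorem L24236 : sm gb N2250 = N3058 := rfl
theorem L24238 : sm gd N3058 = N3058 := ded_18_2 (flp_b L24236) L17870 L24236
theorem L24239 : sm gg N3058 = N3058 := ded_21_2 (flp_b L24236) L17869 L24236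
theorem L24240 : sm gc N3058 = N2453 := ded_17_2 (flp_b L19548) (flp_c L14364) (flp_b L13181) L17865 L24236
theorem L24242 : sm gf N2250 = N3059 := rfl
theorem L24244 : sm ga N3059 = N2254 := ded_13_1 (flp_f L17900) (flp_a L17867) L24242
theorem L24246 : sm gc N3059 = N2251 := ded_26_1 (flp_f L17871) L17865 L24242
theorem L24248 : sm gd N3059 = N3059 := ded_31_1 (flp_f L24242) L17870 L24242
theorem L24249 : sm gh N2250 = N3060 := rfl
theorem L24251 : sm ga N3060 = N2255 := ded_15_1 (flp_h L17905) (flp_a L17867) L24249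
theorem L24253 : sm gc N3060 = N2252 := ded_28_1 (flp_h L17879) L17865 L24249
theorem L24255 : sm gg N3060 = N3060 := ded_42_1 (flp_h L24249) L17869 L24249
theorem L24256 : sm ge N2251 = N3061 := rfl
theorem L24258 : sm ga N3061 = N2256 := ded_12_1 (flp_e L17910) (flp_a L17873) L24256
theorem L24260 : sm gb N3061 = N2456 := ded_19_1 (flp_e L19568) (flp_b L17875) L24256
theorem L24262 : sm gd N3061 = N2267 := ded_30_1 (flp_e L17992) L13263 (flp_e L13193) (flp_d L17877) L24256
theorem L24264 : sm gg N2251 = N3062 := rfl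
theorem L24268 : sm gb N3062 = N2457 := ded_21_1 (flp_g L19574) (flp_b L17875) L24264
theorem L24273 : sm gh N2251 = N3063 := rfl
theorem L24275 : sm ga N3063 = N2258 := ded_15_1 (flp_h L17923) (flp_a L17873) L24273
theorem L24277 : sm gb N3063 = N2458 := ded_22_1 (flp_h L19581) (flp_b L17875) L24273
theorem L24279 : sm gf N3063 = N2252 := ded_40_1 (flp_h L17879) L17871 L24273
theorem L24281 : sm gd N3063 = N2290 := ded_33_1 (flp_h L18178) L13375 (flp_h L13191) (flp_d L17877) L24273
theorem L24283 : sm gi N2252 = N3064 := rfl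
theorem L24285 : sm ga N3064 = N2259 := ded_16_1 (flp_i L17931) (flp_a L17881) L24283
theorem L24287 : sm gb N3064 = N2459 := ded_23_1 (flp_i L19589) (flp_b L17883) L24283
theorem L24289 : sm gd N3064 = N2291 := ded_34_1 (flp_i L18186) (flp_d L17886) L24283
theorem L24291 : sm gg N3064 = N3064 := ded_43_1 (flp_i L24283) L17885 L24283
theorem L24292 : sm ge N2254 = N3065 := rfl
theorem L24294 : sm gc N3065 = N2256 := ded_25_1 (flp_e L17910) (flp_c L17902) L24292
theorem L24296 : sm gg N2254 = N3066 := rfl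
theorem L24302 : sm gh N2254 = N3067 := rfl
theorem L24304 : sm gc N3067 = N2258 := ded_28_1 (flp_h L17923) (flp_c L17902) L24302
theorem L24306 : sm gf N3067 = N2255 := ded_40_1 (flp_h L17905) L17900 L24302
theorem L24308 : sm gd N2255 = N3068 := rfl
theorem L24310 : sm gg N3068 = N3068 := ded_32_2 (flp_d L24308) L17909 L24308
theorem L24311 : sm gc N3068 = N2295 := ded_24_1 (flp_d L18217) L13407 (flp_d L13210) (flp_c L17907) L24308
theorem L24313 : sm gh N3068 = N3068 := ded_33_2 (flp_d L24308) (flp_h L17905) L13198 L17905 L24308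
theorem L24314 : sm gi N2255 = N3069 := rfl
theorem L24316 : sm gc N3069 = N2259 := ded_29_1 (flp_i L17931) (flp_c L17907) L24314
theorem L24318 : sm gg N3069 = N3069 := ded_43_1 (flp_i L24314) L17909 L24314
theorem L24319 : sm gg N2256 = N3070 := rfl
theorem L24321 : sm gb N3070 = N2260 := ded_21_1 (flp_g L17938) (flp_b L17912) L24319
theorem L24325 : sm ge N3070 = N2257 := ded_36_1 (flp_g L17916) L17910 L24319
theorem L24327 : sm gh N2256 = N3071 := rfl
theorem L24329 : sm gb N3071 = N2261 := ded_22_1 (flp_h L17946) (flp_b L17912) L24327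
theorem L24331 : sm ge N3071 = N2258 := ded_37_1 (flp_h L17923) L17910 L24327
theorem L24333 : sm gh N2257 = N3072 := rfl
theorem L24340 : sm gd N3072 = N2299 := ded_33_1 (flp_h L18246) L13423 (flp_h L13219) (flp_d L17920) L24333
theorem L24342 : sm gi N2258 = N3073 := rfl
theorem L24344 : sm gb N3073 = N2263 := ded_23_1 (flp_i L17961) (flp_b L17925) L24342
theorem L24346 : sm gd N3073 = N2300 := ded_34_1 (flp_i L18253) (flp_d L17929) L24342
theorem L24348 : sm gf N3073 = N2259 := ded_41_1 (flp_i L17931) (flp_f L17927) L24342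
theorem L24350 : sm gf N2260 = N3074 := rfl
theorem L24352 : sm ga N3074 = N2469 := ded_13_1 (flp_f L19656) (flp_a L17940) L24350
theorem L24354 : sm gd N3074 = N2280 := ded_31_1 (flp_f L18093) (flp_d L17942) L24350
theorem L24357 : sm gh N2260 = N3075 := rfl
theorem L24359 : sm ga N3075 = N2470 := ded_15_1 (flp_h L19661) (flp_a L17940) L24357
theorem L24361 : sm ge N3075 = N2262 := ded_37_1 (flp_h L17952) (flp_e L17944) L24357
theorem L24363 : sm gg N3075 = N2261 := ded_42_1 (flp_h L17946) L17938 L24357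
theorem L24365 : sm gd N2261 = N3076 := rfl
theorem L24367 : sm ga N3076 = N2471 := ded_11_1 (flp_d L19667) (flp_a L17948) L24365
theorem L24369 : sm ge N3076 = N2303 := ded_30_2 (flp_d L18279) L13455 (flp_d L13241) (flp_e L17950) L24365
theorem L24373 : sm gi N2261 = N3077 := rfl
theorem L24375 : sm ga N3077 = N2472 := ded_16_1 (flp_i L19673) (flp_a L17948) L24373
theorem L24377 : sm ge N3077 = N2263 := ded_38_1 (flp_i L17961) (flp_e L17950) L24373
theorem L24379 : sm gi N2262 = N3078 := rfl
theorem L24381 : sm ga N3078 = N2473 := ded_16_1 (flp_i L19677) (flp_a L17954) L24379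
theorem L24386 : sm gg N3078 = N2263 := ded_43_1 (flp_i L17961) (flp_g L17957) L24379
theorem L24388 : sm gf N2264 = N3079 := rfl
theorem L24390 : sm ga N3079 = N3079 := ded_13_1 (flp_f L24388) L17974 L24388
theorem L24391 : sm gb N3079 = N2265 := ded_20_1 (flp_f L17977) L17969 L24388
theorem L24393 : sm gc N3079 = N2495 := ded_26_1 (flp_f L19891) (flp_c L17975) L24388
theorem L24395 : sm gd N3079 = N3079 := ded_31_1 (flp_f L24388) L17971 L24388
theorem L24396 : sm gh N2264 = N3080 := rfl
theorem L24401 : sm gc N3080 = N2496 := ded_28_1 (flp_h L19898) (flp_c L17975) L24396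
theorem L24403 : sm gg N3080 = N2727 := ded_42_1 (flp_h L21669) (flp_g L17972) L24396
theorem L24405 : sm ge N2265 = N3081 := rfl
theorem L24407 : sm ga N3081 = N2271 := ded_12_1 (flp_e L18028) (flp_a L17979) L24405
theorem L24409 : sm gc N3081 = N2267 := ded_25_1 (flp_e L17992) (flp_c L17981) L24405
theorem L24411 : sm gg N2265 = N3082 := rfl
theorem L24415 : sm gc N3082 = N2268 := ded_27_1 (flp_g L17998) (flp_c L17981) L24411
theorem L24420 : sm gh N2265 = N3083 := rfl
theorem L24437 : sm gi N2266 = N3085 := rfl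
theorem L24441 : sm gc N3085 = N2270 := ded_29_1 (flp_i L18018) (flp_c L17988) L24437
theorem L24445 : sm gg N2267 = N3086 := rfl
theorem L24447 : sm ga N3086 = N2276 := ded_14_1 (flp_g L18063) (flp_a L17994) L24445
theorem L24449 : sm gb N3086 = N2501 := ded_21_1 (flp_g L19940) (flp_b L17996) L24445
theorem L24451 : sm ge N3086 = N2268 := ded_36_1 (flp_g L17998) L17992 L24445
theorem L24453 : sm gh N2267 = N3087 := rfl
theorem L24457 : sm gb N3087 = N2502 := ded_22_1 (flp_h L19946) (flp_b L17996) L24453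
theorem L24459 : sm ge N3087 = N2269 := ded_37_1 (flp_h L18008) L17992 L24453
theorem L24461 : sm gh N2268 = N3088 := rfl
theorem L24471 : sm gd N3088 = N2313 := ded_33_1 (flp_h L18370) L13507 (flp_h L13282) (flp_d L18004) L24461
theorem L24473 : sm gi N2269 = N3089 := rfl
theorem L24481 : sm gf N3089 = N2270 := ded_41_1 (flp_i L18018) (flp_f L18014) L24473
theorem L24483 : sm gd N2271 = N3090 := rfl
theorem L24485 : sm gb N3090 = N3090 := ded_18_1 (flp_d L24483) L18030 L24483
theorem L24486 : sm ge N3090 = N3090 := ded_30_2 (flp_d L24483) (flp_e L18028) L13291 L18028 L24483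
theorem L24487 : sm gg N2271 = N3091 := rfl
theorem L24492 : sm ge N3091 = N2272 := ded_36_1 (flp_g L18033) L18028 L24487
theorem L24494 : sm gh N2271 = N3092 := rfl
theorem L24499 : sm ge N3092 = N2273 := ded_37_1 (flp_h L18041) L18028 L24494
theorem L24501 : sm gh N2272 = N3093 := rfl
theorem L24506 : sm gf N3093 = N2740 := ded_40_1 (flp_h L21766) (flp_f L18039) L24501
theorem L24508 : sm gg N3093 = N2273 := ded_42_1 (flp_h L18041) L18033 L24501
theorem L24510 : sm gd N2273 = N3094 := rfl
theorem L24518 : sm gi N2273 = N3095 := rfl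
theorem L24521 : sm gc N3095 = N2279 := ded_29_1 (flp_i L18085) (flp_c L18044) L24518
theorem L24523 : sm gf N3095 = N2275 := ded_41_1 (flp_i L18056) (flp_f L18046) L24518
theorem L24525 : sm ge N2274 = N3096 := rfl
theorem L24528 : sm gc N3096 = N2321 := ded_25_1 (flp_e L18440) (flp_c L18053) L24525
theorem L24530 : sm gg N3096 = N2743 := ded_36_2 (flp_e L21788) (flp_g L18051) L24525
theorem L24533 : sm gi N2274 = N3097 := rfl
theorem L24542 : sm gf N2276 = N3098 := rfl
theorem L24556 : sm gd N2277 = N3100 := rfl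
theorem L24560 : sm ge N3100 = N2325 := ded_30_2 (flp_d L18472) L13584 (flp_d L13317) (flp_e L18073) L24556
theorem L24562 : sm gi N2277 = N3101 := rfl
theorem L24578 : sm gh N2280 = N3103 := rfl
theorem L24583 : sm ge N3103 = N2750 := ded_37_1 (flp_h L21835) (flp_e L18098) L24578
theorem L24585 : sm gf N3103 = N2281 := ded_40_1 (flp_h L18100) L18093 L24578
theorem L24587 : sm gd N2281 = N3104 := rfl
theorem L24591 : sm gg N3104 = N2282 := ded_32_2 (flp_d L18109) (flp_g L18107) L24587
theorem L24593 : sm ge N3104 = N2329 := ded_30_2 (flp_d L18505) L13618 (flp_d L13350) (flp_e L18105) L24587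
theorem L24595 : sm gi N2281 = N3105 := rfl
theorem L24604 : sm gc N2282 = N3106 := rfl
theorem L24608 : sm ge N3106 = N2331 := ded_25_2 (flp_c L18522) (flp_e L18113) L24604
theorem L24619 : sm gf N2285 = N3108 := rfl
theorem L24621 : sm ga N3108 = N3108 := ded_13_1 (flp_f L24619) L18139 L24619
theorem L24622 : sm gb N3108 = N2286 := ded_20_1 (flp_f L18142) L18133 L24619
theorem L24624 : sm gc N3108 = N2520 := ded_26_1 (flp_f L20074) (flp_c L18140) L24619
theorem L24626 : sm gd N3108 = N3108 := ded_31_1 (flp_f L24619) L18135 L24619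
theorem L24627 : sm gi N3108 = N3108 := ded_41_2 (flp_f L24619) L18138 L24619
theorem L24628 : sm gh N2285 = N3109 := rfl
theorem L24630 : sm ga N3109 = N3109 := ded_15_1 (flp_h L24628) L18139 L24628
theorem L24631 : sm gb N3109 = N2287 := ded_22_1 (flp_h L18150) L18133 L24628
theorem L24633 : sm gc N3109 = N2521 := ded_28_1 (flp_h L20082) (flp_c L18140) L24628
theorem L24635 : sm ge N3109 = N3109 := ded_37_1 (flp_h L24628) L18136 L24628
theorem L24636 : sm gg N3109 = N3109 := ded_42_1 (flp_h L24628) L18137 L24628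
theorem L24637 : sm ge N2286 = N3110 := rfl
theorem L24639 : sm ga N3110 = N2292 := ded_12_1 (flp_e L18195) (flp_a L18144) L24637
theorem L24641 : sm gc N3110 = N2288 := ded_25_1 (flp_e L18158) (flp_c L18146) L24637
theorem L24645 : sm gg N2286 = N3111 := rfl
theorem L24647 : sm ga N3111 = N2293 := ded_14_1 (flp_g L18202) (flp_a L18144) L24645
theorem L24649 : sm gc N3111 = N2289 := ded_27_1 (flp_g L18168) (flp_c L18146) L24645
theorem L24654 : sm gh N2286 = N3112 := rfl
theorem L24656 : sm ga N3112 = N2294 := ded_15_1 (flp_h L18210) (flp_a L18144) L24654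
theorem L24658 : sm gc N3112 = N2290 := ded_28_1 (flp_h L18178) (flp_c L18146) L24654
theorem L24660 : sm gf N3112 = N2287 := ded_40_1 (flp_h L18150) L18142 L24654
theorem L24662 : sm gd N2287 = N3113 := rfl
theorem L24664 : sm ga N3113 = N2295 := ded_11_1 (flp_d L18217) (flp_a L18152) L24662
theorem L24666 : sm gg N3113 = N3113 := ded_32_2 (flp_d L24662) L18157 L24662
theorem L24667 : sm gh N3113 = N3113 := ded_33_2 (flp_d L24662) (flp_h L18150) L13368 L18150 L24662
theorem L24668 : sm gi N2287 = N3114 := rfl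
theorem L24670 : sm ga N3114 = N2296 := ded_16_1 (flp_i L18222) (flp_a L18152) L24668
theorem L24672 : sm gc N3114 = N2291 := ded_29_1 (flp_i L18186) (flp_c L18154) L24668
theorem L24674 : sm ge N3114 = N3114 := ded_38_1 (flp_i L24668) L18156 L24668
theorem L24675 : sm gg N3114 = N3114 := ded_43_1 (flp_i L24668) L18157 L24668
theorem L24676 : sm gh N3114 = N3114 := ded_44_1 (flp_i L24668) (flp_h L18150) L13367 L18150 L24668
theorem L24677 : sm gg N2288 = N3115 := rfl
theorem L24679 : sm ga N3115 = N2297 := ded_14_1 (flp_g L18230) (flp_a L18160) L24677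
theorem L24688 : sm gh N2288 = N3116 := rfl
theorem L24692 : sm gb N3116 = N2528 := ded_22_1 (flp_h L20141) (flp_b L18162) L24688
theorem L24694 : sm ge N3116 = N2290 := ded_37_1 (flp_h L18178) L18158 L24688
theorem L24697 : sm gh N2289 = N3117 := rfl
theorem L24699 : sm ga N3117 = N2299 := ded_15_1 (flp_h L18246) (flp_a L18170) L24697
theorem L24704 : sm gg N3117 = N2290 := ded_42_1 (flp_h L18178) L18168 L24697
theorem L24706 : sm gi N2290 = N3118 := rfl
theorem L24708 : sm ga N3118 = N2300 := ded_16_1 (flp_i L18253) (flp_a L18180) L24706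
theorem L24710 : sm gb N3118 = N2530 := ded_23_1 (flp_i L20155) (flp_b L18182) L24706
theorem L24712 : sm gf N3118 = N2291 := ded_41_1 (flp_i L18186) (flp_f L18184) L24706
theorem L24714 : sm gh N3118 = N3118 := ded_44_1 (flp_i L24706) (flp_h L18178) L13377 L18178 L24706
theorem L24715 : sm gd N2292 = N3119 := rfl
theorem L24723 : sm gg N2292 = N3120 := rfl
theorem L24726 : sm gc N3120 = N2297 := ded_27_1 (flp_g L18230) (flp_c L18198) L24723
theorem L24728 : sm ge N3120 = N2293 := ded_36_1 (flp_g L18202) L18195 L24723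
theorem L24731 : sm gh N2292 = N3121 := rfl
theorem L24734 : sm gc N3121 = N2298 := ded_28_1 (flp_h L18239) (flp_c L18198) L24731
theorem L24736 : sm ge N3121 = N2294 := ded_37_1 (flp_h L18210) L18195 L24731
theorem L24739 : sm gh N2293 = N3122 := rfl
theorem L24745 : sm gg N3122 = N2294 := ded_42_1 (flp_h L18210) L18202 L24739
theorem L24747 : sm gd N2294 = N3123 := rfl
theorem L24749 : sm gb N3123 = N3123 := ded_18_1 (flp_d L24747) L18212 L24747
theorem L24750 : sm gf N3123 = N2295 := ded_31_2 (flp_d L18217) (flp_f L18215) L24747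
theorem L24752 : sm gh N3123 = N3123 := ded_33_2 (flp_d L24747) (flp_h L18210) L13402 L18210 L24747
theorem L24753 : sm gi N2294 = N3124 := rfl
theorem L24755 : sm gb N3124 = N3124 := ded_23_1 (flp_i L24753) L18212 L24753
theorem L24756 : sm gc N3124 = N2300 := ded_29_1 (flp_i L18253) (flp_c L18213) L24753
theorem L24758 : sm gf N3124 = N2296 := ded_41_1 (flp_i L18222) (flp_f L18215) L24753
theorem L24760 : sm gh N3124 = N3124 := ded_44_1 (flp_i L24753) (flp_h L18210) L13403 L18210 L24753
theorem L24761 : sm ge N2295 = N3125 := rfl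
theorem L24763 : sm gb N3125 = N3125 := ded_19_1 (flp_e L24761) L18219 L24761
theorem L24764 : sm gg N3125 = N3125 := ded_36_2 (flp_e L24761) L18220 L24761
theorem L24765 : sm gh N3125 = N3125 := ded_37_2 (flp_e L24761) L18221 L24761
theorem L24766 : sm gd N3125 = N3125 := ded_30_1 (flp_e L24761) (flp_d L18217) L13409 L18217 L24761
theorem L24767 : sm gi N2295 = N3126 := rfl
theorem L24769 : sm gb N3126 = N3126 := ded_23_1 (flp_i L24767) L18219 L24767
theorem L24770 : sm gd N3126 = N2296 := ded_34_1 (flp_i L18222) L18217 L24767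
theorem L24772 : sm gg N3126 = N3126 := ded_43_1 (flp_i L24767) L18220 L24767
theorem L24773 : sm gf N2297 = N3127 := rfl
theorem L24777 : sm gd N3127 = N2323 := ded_31_1 (flp_f L18456) (flp_d L18234) L24773
theorem L24782 : sm gh N2297 = N3128 := rfl
theorem L24786 : sm ge N3128 = N2299 := ded_37_1 (flp_h L18246) (flp_e L18236) L24782
theorem L24790 : sm gd N2298 = N3129 := rfl
theorem L24795 : sm gh N3129 = N2325 := ded_33_2 (flp_d L18472) (flp_h L13580) (flp_d L13416) L18239 L24790
theorem L24797 : sm gi N2298 = N3130 := rfl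
theorem L24799 : sm gb N3130 = N2304 := ded_23_1 (flp_i L18286) (flp_b L18241) L24797
theorem L24801 : sm ge N3130 = N2300 := ded_38_1 (flp_i L18253) (flp_e L18243) L24797
theorem L24805 : sm gi N2299 = N3131 := rfl
theorem L24822 : sm gd N2302 = N3133 := rfl
theorem L24828 : sm gh N3133 = N2329 := ded_33_2 (flp_d L18505) (flp_h L13612) (flp_d L13445) L18270 L24822
theorem L24830 : sm gi N2302 = N3134 := rfl
theorem L24835 : sm ge N3134 = N2305 := ded_38_1 (flp_i L18295) (flp_e L18275) L24830
theorem L24837 : sm gg N3134 = N2304 := ded_43_1 (flp_i L18286) (flp_g L18277) L24830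
theorem L24840 : sm gc N2303 = N3135 := rfl
theorem L24842 : sm ga N3135 = N2546 := ded_10_1 (flp_c L20276) (flp_a L18281) L24840
theorem L24845 : sm gh N3135 = N2331 := ded_28_2 (flp_c L18522) (flp_h L18284) L24840
theorem L24855 : sm gd N2306 = N3137 := rfl
theorem L24857 : sm ga N3137 = N2315 := ded_11_1 (flp_d L18389) (flp_a L18306) L24855
theorem L24883 : sm gh N2307 = N3140 := rfl
theorem L24885 : sm ga N3140 = N2318 := ded_15_1 (flp_h L18414) (flp_a L18315) L24883
theorem L24888 : sm gc N3140 = N2313 := ded_28_1 (flp_h L18370) (flp_c L18318) L24883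
theorem L24892 : sm gg N3140 = N2308 := ded_42_1 (flp_h L18324) L18313 L24883
theorem L24894 : sm gd N2308 = N3141 := rfl
theorem L24899 : sm gf N3141 = N2309 := ded_31_2 (flp_d L18333) (flp_f L18331) L24894
theorem L24912 : sm ge N2309 = N3143 := rfl
theorem L24914 : sm ga N3143 = N2321 := ded_12_1 (flp_e L18440) (flp_a L18335) L24912
theorem L24917 : sm gg N3143 = N2761 := ded_36_2 (flp_e L21932) (flp_g L18338) L24912
theorem L24921 : sm gi N2309 = N3144 := rfl
theorem L24930 : sm gf N2311 = N3145 := rfl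
theorem L24940 : sm gh N2311 = N3146 := rfl
theorem L24948 : sm gg N3146 = N2312 := ded_42_1 (flp_h L18361) L18352 L24940
theorem L24950 : sm gd N2312 = N3147 := rfl
theorem L24954 : sm gb N3147 = N2550 := ded_18_1 (flp_d L20305) (flp_b L18365) L24950
theorem L24967 : sm gi N2313 = N3149 := rfl
theorem L24973 : sm gf N3149 = N2767 := ded_41_1 (flp_i L21983) (flp_f L18376) L24967
theorem L24975 : sm gg N3149 = N2314 := ded_43_1 (flp_i L18380) (flp_g L18378) L24967
theorem L24978 : sm gg N2315 = N3150 := rfl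
theorem L24982 : sm gd N3150 = N2316 := ded_32_1 (flp_g L18396) L18389 L24978
theorem L24986 : sm gh N2315 = N3151 := rfl
theorem L24988 : sm gb N3151 = N2334 := ded_22_1 (flp_h L18544) (flp_b L18391) L24986
theorem L24992 : sm gf N2316 = N3152 := rfl
theorem L24999 : sm ge N3152 = N2770 := ded_35_1 (flp_f L22008) L16174 (flp_f L13546) (flp_e L18402) L24992
theorem L25002 : sm gh N2316 = N3153 := rfl
theorem L25010 : sm gg N3153 = N2317 := ded_42_1 (flp_h L18405) L18396 L25002
theorem L25012 : sm gd N2317 = N3154 := rfl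
theorem L25036 : sm gi N2318 = N3157 := rfl
theorem L25042 : sm gf N3157 = N2775 := ded_41_1 (flp_i L22048) (flp_f L18420) L25036
theorem L25044 : sm gg N3157 = N2320 := ded_43_1 (flp_i L18431) (flp_g L18422) L25036
theorem L25047 : sm ge N2319 = N3158 := rfl
theorem L25060 : sm gf N2321 = N3160 := rfl
theorem L25062 : sm gb N3160 = N2343 := ded_20_1 (flp_f L18613) (flp_b L18442) L25060
theorem L25066 : sm gi N2321 = N3161 := rfl
theorem L25068 : sm gb N3161 = N2344 := ded_23_1 (flp_i L18619) (flp_b L18442) L25066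
theorem L25083 : sm gh N2323 = N3163 := rfl
theorem L25085 : sm gb N3163 = N2328 := ded_22_1 (flp_h L18494) (flp_b L18458) L25083
theorem L25092 : sm gd N2324 = N3164 := rfl
theorem L25096 : sm gg N3164 = N2325 := ded_32_2 (flp_d L18472) (flp_g L18470) L25092
theorem L25107 : sm gc N2325 = N3166 := rfl
theorem L25117 : sm gd N2328 = N3168 := rfl
theorem L25121 : sm gf N3168 = N2329 := ded_31_2 (flp_d L18505) (flp_f L18502) L25117
theorem L25124 : sm gi N2328 = N3169 := rfl
theorem L25132 : sm gf N3169 = N2330 := ded_41_1 (flp_i L18511) (flp_f L18502) L25124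
theorem L25136 : sm gc N2329 = N3170 := rfl
theorem L25140 : sm gg N3170 = N2331 := ded_27_2 (flp_c L18522) (flp_g L18509) L25136
theorem L25152 : sm gb N2331 = N3172 := rfl
theorem L25154 : sm gd N3172 = N2355 := ded_18_2 (flp_b L18715) (flp_d L18527) L25152
theorem L25157 : sm gi N2331 = N3173 := rfl
theorem L25172 : sm gf N2333 = N3175 := rfl
theorem L25180 : sm gh N2333 = N3176 := rfl
theorem L25185 : sm gg N3176 = N2334 := ded_42_1 (flp_h L18544) L18536 L25180
theorem L25187 : sm gd N2334 = N3177 := rfl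
theorem L25191 : sm gh N3177 = N2337 := ded_33_2 (flp_d L18568) (flp_h L13663) L13648 L18544 L25187
theorem L25210 : sm gd N2336 = N3180 := rfl
theorem L25213 : sm gg N3180 = N2337 := ded_32_2 (flp_d L18568) (flp_g L18566) L25210
theorem L25215 : sm gi N2336 = N3181 := rfl
theorem L25220 : sm ge N3181 = N2340 := ded_38_1 (flp_i L18590) (flp_e L18564) L25215
theorem L25225 : sm gc N2337 = N3182 := rfl
theorem L25229 : sm gd N3182 = N2349 := ded_24_2 (flp_c L18665) (flp_d L13730) (flp_c L13666) L18568 L25225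
theorem L25242 : sm ge N2339 = N3185 := rfl
theorem L25249 : sm gi N2339 = N3186 := rfl
theorem L25253 : sm gd N3186 = N2340 := ded_34_1 (flp_i L18590) L18581 L25249
theorem L25255 : sm gf N3186 = N2804 := ded_41_1 (flp_i L22258) (flp_f L18584) L25249
theorem L25257 : sm gg N3186 = N2342 := ded_43_1 (flp_i L18605) (flp_g L18586) L25249
theorem L25272 : sm gh N2342 = N3189 := rfl
theorem L25276 : sm gf N3189 = N2345 := ded_40_1 (flp_h L18628) (flp_f L18611) L25272
theorem L25280 : sm gg N2343 = N3190 := rfl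
theorem L25286 : sm gf N3190 = N2808 := ded_39_1 (flp_g L22287) (flp_f L16373) (flp_g L13699) L18613 L25280
theorem L25288 : sm gi N2343 = N3191 := rfl
theorem L25293 : sm gf N3191 = N2344 := ded_41_1 (flp_i L18619) L18613 L25288
theorem L25295 : sm gh N2344 = N3192 := rfl
theorem L25299 : sm ge N3192 = N2345 := ded_37_1 (flp_h L18628) (flp_e L18624) L25295
theorem L25301 : sm gg N3192 = N2810 := ded_42_1 (flp_h L22300) (flp_g L18626) L25295
theorem L25304 : sm gd N2346 = N3193 := rfl
theorem L25313 : sm gi N2346 = N3194 := rfl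
theorem L25318 : sm ge N3194 = N2812 := ded_38_1 (flp_i L22317) (flp_e L18641) L25313
theorem L25320 : sm gf N3194 = N2348 := ded_41_1 (flp_i L18655) (flp_f L18643) L25313
theorem L25341 : sm gb N2349 = N3197 := rfl
theorem L25346 : sm gc N3197 = N2355 := ded_17_2 (flp_b L18715) (flp_c L13784) (flp_b L13733) L18665 L25341
theorem L25390 : sm gb N2353 = N3203 := rfl
theorem L25393 : sm gg N3203 = N2355 := ded_21_2 (flp_b L18715) (flp_g L18703) L25390
theorem L25414 : sm ga N2355 = N3206 := rfl
theorem L25419 : sm gb N3206 = N2571 := ded_9_2 (flp_a L20453) (flp_b L15030) (flp_a L13786) L18715 L25414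
theorem L25436 : sm gd N2358 = N3209 := rfl
theorem L25438 : sm ga N3209 = N2359 := ded_11_1 (flp_d L18745) (flp_a L18738) L25436
theorem L25440 : sm gg N3209 = N3209 := ded_32_2 (flp_d L25436) L18741 L25436
theorem L25441 : sm gi N3209 = N3209 := ded_34_2 (flp_d L25436) L18744 L25436
theorem L25442 : sm ge N3209 = N3209 := ded_30_2 (flp_d L25436) (flp_e L18736) L13802 L18736 L25436
theorem L25443 : sm gf N2358 = N3210 := rfl
theorem L25445 : sm ga N3210 = N2360 := ded_13_1 (flp_f L18752) (flp_a L18738) L25443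
theorem L25447 : sm gc N3210 = N3210 := ded_26_1 (flp_f L25443) L18740 L25443
theorem L25448 : sm gh N3210 = N2365 := ded_40_2 (flp_f L18792) (flp_h L18742) L25443
theorem L25450 : sm gi N3210 = N3210 := ded_41_2 (flp_f L25443) L18744 L25443
theorem L25451 : sm ge N3210 = N3210 := ded_35_1 (flp_f L25443) (flp_e L18736) L13803 L18736 L25443
theorem L25452 : sm gc N2359 = N3211 := rfl
theorem L25454 : sm ge N3211 = N3211 := ded_25_2 (flp_c L25452) L18751 L25452
theorem L25455 : sm gg N3211 = N3211 := ded_27_2 (flp_c L25452) L18749 L25452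
theorem L25456 : sm gi N3211 = N3211 := ded_29_2 (flp_c L25452) L18750 L25452
theorem L25457 : sm gb N3211 = N3211 := ded_17_1 (flp_c L25452) L18747 L13821 (flp_b L18747) L25452
theorem L25458 : sm gd N3211 = N3211 := ded_24_2 (flp_c L25452) (flp_d L18745) L13812 L18745 L25452
theorem L25459 : sm gf N2359 = N3212 := rfl
theorem L25461 : sm gb N3212 = N2361 := ded_20_1 (flp_f L18761) (flp_b L18747) L25459
theorem L25463 : sm gd N3212 = N2360 := ded_31_1 (flp_f L18752) L18745 L25459
theorem L25465 : sm gi N3212 = N3212 := ded_41_2 (flp_f L25459) L18750 L25459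
theorem L25466 : sm gh N2359 = N3213 := rfl
theorem L25468 : sm gb N3213 = N2362 := ded_22_1 (flp_h L18767) (flp_b L18747) L25466
theorem L25470 : sm ge N3213 = N3213 := ded_37_1 (flp_h L25466) L18751 L25466
theorem L25471 : sm gg N3213 = N3213 := ded_42_1 (flp_h L25466) L18749 L25466
theorem L25472 : sm gd N3213 = N2368 := ded_33_1 (flp_h L18818) (flp_d L13848) (flp_h L13814) L18745 L25466
theorem L25474 : sm gg N2360 = N3214 := rfl
theorem L25476 : sm gb N3214 = N2363 := ded_21_1 (flp_g L18774) (flp_b L18754) L25474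
theorem L25478 : sm gc N3214 = N3214 := ded_27_1 (flp_g L25474) L18756 L25474
theorem L25479 : sm ge N3214 = N3214 := ded_36_1 (flp_g L25474) L18760 L25474
theorem L25480 : sm gh N3214 = N2369 := ded_42_2 (flp_g L18825) (flp_h L18757) L25474
theorem L25482 : sm gi N3214 = N3214 := ded_43_2 (flp_g L25474) L18759 L25474
theorem L25483 : sm gf N3214 = N3214 := ded_39_1 (flp_g L25474) (flp_f L18752) L13813 L18752 L25474
theorem L25484 : sm ge N2361 = N3215 := rfl
theorem L25486 : sm gc N3215 = N3215 := ded_25_1 (flp_e L25484) L18763 L25484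
theorem L25487 : sm gi N3215 = N3215 := ded_38_2 (flp_e L25484) L18766 L25484
theorem L25488 : sm gd N3215 = N3215 := ded_30_1 (flp_e L25484) L18764 L13830 (flp_d L18764) L25484
theorem L25489 : sm gf N3215 = N3215 := ded_35_2 (flp_e L25484) (flp_f L18761) L13822 L18761 L25484
theorem L25490 : sm gg N2361 = N3216 := rfl
theorem L25492 : sm gc N3216 = N3216 := ded_27_1 (flp_g L25490) L18763 L25490
theorem L25493 : sm gd N3216 = N2363 := ded_32_1 (flp_g L18774) (flp_d L18764) L25490
theorem L25495 : sm gi N3216 = N3216 := ded_43_2 (flp_g L25490) L18766 L25490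
theorem L25496 : sm gf N3216 = N3216 := ded_39_1 (flp_g L25490) (flp_f L18761) L13819 L18761 L25490
theorem L25497 : sm gh N2361 = N3217 := rfl
theorem L25499 : sm gc N3217 = N3217 := ded_28_1 (flp_h L25497) L18763 L25497
theorem L25500 : sm gf N3217 = N2362 := ded_40_1 (flp_h L18767) L18761 L25497
theorem L25502 : sm gd N3217 = N2372 := ded_33_1 (flp_h L18852) L13869 (flp_h L13827) (flp_d L18764) L25497
theorem L25504 : sm gi N2362 = N3218 := rfl
theorem L25506 : sm gc N3218 = N3218 := ded_29_1 (flp_i L25504) L18769 L25504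
theorem L25507 : sm gd N3218 = N2373 := ded_34_1 (flp_i L18858) (flp_d L18772) L25504
theorem L25509 : sm ge N3218 = N3218 := ded_38_1 (flp_i L25504) L18770 L25504
theorem L25510 : sm gg N3218 = N3218 := ded_43_1 (flp_i L25504) L18771 L25504
theorem L25511 : sm gh N3218 = N3218 := ded_44_1 (flp_i L25504) (flp_h L18767) L13820 L18767 L25504
theorem L25512 : sm gc N2364 = N3219 := rfl
theorem L25514 : sm ga N3219 = N2366 := ded_10_1 (flp_c L18800) (flp_a L18785) L25512
theorem L25516 : sm ge N3219 = N2425 := ded_25_2 (flp_c L19321) (flp_e L18790) L25512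
theorem L25518 : sm gg N3219 = N3219 := ded_27_2 (flp_c L25512) L18787 L25512
theorem L25519 : sm gi N3219 = N3044 := ded_29_2 (flp_c L24129) (flp_i L18788) L25512
theorem L25521 : sm gd N3219 = N3219 := ded_24_2 (flp_c L25512) (flp_d L18783) L13844 L18783 L25512
theorem L25522 : sm gf N2364 = N3220 := rfl
theorem L25524 : sm ga N3220 = N2367 := ded_13_1 (flp_f L18810) (flp_a L18785) L25522
theorem L25526 : sm gd N3220 = N2365 := ded_31_1 (flp_f L18792) L18783 L25522
theorem L25528 : sm gi N3220 = N3045 := ded_41_2 (flp_f L24135) (flp_i L18788) L25522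
theorem L25530 : sm gh N2364 = N3221 := rfl
theorem L25532 : sm ga N3221 = N2368 := ded_15_1 (flp_h L18818) (flp_a L18785) L25530
theorem L25534 : sm ge N3221 = N2427 := ded_37_1 (flp_h L19334) (flp_e L18790) L25530
theorem L25536 : sm gg N3221 = N3221 := ded_42_1 (flp_h L25530) L18787 L25530
theorem L25537 : sm gg N2365 = N3222 := rfl
theorem L25539 : sm ga N3222 = N2369 := ded_14_1 (flp_g L18825) (flp_a L18794) L25537
theorem L25541 : sm gc N3222 = N3222 := ded_27_1 (flp_g L25537) L18796 L25537
theorem L25542 : sm ge N3222 = N3222 := ded_36_1 (flp_g L25537) L18799 L25537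
theorem L25543 : sm gi N3222 = N3047 := ded_43_2 (flp_g L24151) (flp_i L18797) L25537
theorem L25545 : sm gf N3222 = N3222 := ded_39_1 (flp_g L25537) (flp_f L18792) L13845 L18792 L25537
theorem L25546 : sm gf N2366 = N3223 := rfl
theorem L25548 : sm gb N3223 = N2378 := ded_20_1 (flp_f L18904) (flp_b L18807) L25546
theorem L25550 : sm gc N3223 = N2367 := ded_26_1 (flp_f L18810) L18800 L25546
theorem L25552 : sm gd N3223 = N3223 := ded_31_1 (flp_f L25546) L18809 L25546
theorem L25553 : sm gi N3223 = N3048 := ded_41_2 (flp_f L24161) (flp_i L18805) L25546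
theorem L25555 : sm gh N2366 = N3224 := rfl
theorem L25557 : sm gb N3224 = N2379 := ded_22_1 (flp_h L18911) (flp_b L18807) L25555
theorem L25559 : sm gc N3224 = N2368 := ded_28_1 (flp_h L18818) L18800 L25555
theorem L25561 : sm ge N3224 = N2430 := ded_37_1 (flp_h L19357) (flp_e L18802) L25555
theorem L25563 : sm gg N3224 = N3224 := ded_42_1 (flp_h L25555) L18804 L25555
theorem L25564 : sm ge N2367 = N3225 := rfl
theorem L25566 : sm gb N3225 = N2370 := ded_19_1 (flp_e L18834) (flp_b L18812) L25564
theorem L25568 : sm gi N3225 = N3050 := ded_38_2 (flp_e L24175) (flp_i L18816) L25564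
theorem L25570 : sm gd N3225 = N3225 := ded_30_1 (flp_e L25564) L18814 L13864 (flp_d L18814) L25564
theorem L25571 : sm gf N3225 = N2431 := ded_35_2 (flp_e L19364) (flp_f L14221) (flp_e L13855) L18810 L25564
theorem L25573 : sm gg N2367 = N3226 := rfl
theorem L25575 : sm gb N3226 = N2371 := ded_21_1 (flp_g L18843) (flp_b L18812) L25573
theorem L25577 : sm gd N3226 = N2369 := ded_32_1 (flp_g L18825) (flp_d L18814) L25573
theorem L25579 : sm gi N3226 = N3051 := ded_43_2 (flp_g L24180) (flp_i L18816) L25573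
theorem L25581 : sm gf N3226 = N3226 := ded_39_1 (flp_g L25573) (flp_f L18810) L13852 L18810 L25573
theorem L25582 : sm gh N2367 = N3227 := rfl
theorem L25584 : sm gb N3227 = N2372 := ded_22_1 (flp_h L18852) (flp_b L18812) L25582
theorem L25586 : sm gf N3227 = N2368 := ded_40_1 (flp_h L18818) L18810 L25582
theorem L25588 : sm gi N2368 = N3228 := rfl
theorem L25590 : sm gb N3228 = N2373 := ded_23_1 (flp_i L18858) (flp_b L18820) L25588
theorem L25592 : sm ge N3228 = N2434 := ded_38_1 (flp_i L19383) (flp_e L18822) L25588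
theorem L25594 : sm gg N3228 = N3228 := ded_43_1 (flp_i L25588) L18824 L25588
theorem L25595 : sm gh N3228 = N3053 := ded_44_1 (flp_i L24194) (flp_h L17818) (flp_i L13853) L18818 L25588
theorem L25597 : sm gg N2370 = N3229 := rfl
theorem L25599 : sm gc N3229 = N2384 := ded_27_1 (flp_g L18954) (flp_c L18836) L25597
theorem L25601 : sm gd N3229 = N3229 := ded_32_1 (flp_g L25597) L18840 L25597
theorem L25602 : sm ge N3229 = N2371 := ded_36_1 (flp_g L18843) L18834 L25597
theorem L25604 : sm gi N3229 = N3054 := ded_43_2 (flp_g L24200) (flp_i L18838) L25597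
theorem L25606 : sm gh N2370 = N3230 := rfl
theorem L25608 : sm gc N3230 = N2385 := ded_28_1 (flp_h L18962) (flp_c L18836) L25606
theorem L25610 : sm ge N3230 = N2372 := ded_37_1 (flp_h L18852) L18834 L25606
theorem L25612 : sm gf N3230 = N2436 := ded_40_1 (flp_h L19396) (flp_f L18841) L25606
theorem L25614 : sm gh N2371 = N3231 := rfl
theorem L25616 : sm gc N3231 = N2386 := ded_28_1 (flp_h L18968) (flp_c L18845) L25614
theorem L25618 : sm gf N3231 = N3231 := ded_40_1 (flp_h L25614) L18851 L25614
theorem L25619 : sm gg N3231 = N2372 := ded_42_1 (flp_h L18852) L18843 L25614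
theorem L25621 : sm gi N2372 = N3232 := rfl
theorem L25623 : sm gc N3232 = N2387 := ded_29_1 (flp_i L18974) (flp_c L18854) L25621
theorem L25625 : sm gf N3232 = N2373 := ded_41_1 (flp_i L18858) (flp_f L18856) L25621
theorem L25627 : sm gh N3232 = N3057 := ded_44_1 (flp_i L24227) (flp_h L17848) (flp_i L13871) L18852 L25621
theorem L25629 : sm gb N2374 = N3233 := rfl
theorem L25631 : sm gd N3233 = N3233 := ded_18_2 (flp_b L25629) L18876 L25629
theorem L25632 : sm ge N3233 = N2453 := ded_19_2 (flp_b L19548) (flp_e L18871) L25629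
theorem L25634 : sm gg N3233 = N3233 := ded_21_2 (flp_b L25629) L18873 L25629
theorem L25635 : sm gi N3233 = N3058 := ded_23_2 (flp_b L24236) (flp_i L18874) L25629
theorem L25637 : sm gf N2374 = N3234 := rfl
theorem L25639 : sm ga N3234 = N2378 := ded_13_1 (flp_f L18904) (flp_a L18869) L25637
theorem L25641 : sm gc N3234 = N2375 := ded_26_1 (flp_f L18877) L18867 L25637
theorem L25643 : sm gd N3234 = N3234 := ded_31_1 (flp_f L25637) L18876 L25637
theorem L25644 : sm gi N3234 = N3059 := ded_41_2 (flp_f L24242) (flp_i L18874) L25637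
theorem L25646 : sm gh N2374 = N3235 := rfl
theorem L25648 : sm ga N3235 = N2379 := ded_15_1 (flp_h L18911) (flp_a L18869) L25646
theorem L25650 : sm gc N3235 = N2376 := ded_28_1 (flp_h L18885) L18867 L25646
theorem L25652 : sm ge N3235 = N2455 := ded_37_1 (flp_h L19561) (flp_e L18871) L25646
theorem L25654 : sm gg N3235 = N3235 := ded_42_1 (flp_h L25646) L18873 L25646
theorem L25655 : sm ge N2375 = N3236 := rfl
theorem L25657 : sm ga N3236 = N2380 := ded_12_1 (flp_e L18918) (flp_a L18879) L25655
theorem L25659 : sm gi N3236 = N3061 := ded_38_2 (flp_e L24256) (flp_i L18883) L25655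
theorem L25661 : sm gd N3236 = N2391 := ded_30_1 (flp_e L19010) L13985 (flp_e L13905) (flp_d L18881) L25655
theorem L25663 : sm gf N3236 = N2456 := ded_35_2 (flp_e L19568) (flp_f L14371) (flp_e L13895) L18877 L25655
theorem L25665 : sm gg N2375 = N3237 := rfl
theorem L25667 : sm ga N3237 = N2381 := ded_14_1 (flp_g L18928) (flp_a L18879) L25665
theorem L25669 : sm gd N3237 = N2377 := ded_32_1 (flp_g L18893) (flp_d L18881) L25665
theorem L25671 : sm gi N3237 = N3062 := ded_43_2 (flp_g L24264) (flp_i L18883) L25665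
theorem L25673 : sm gf N3237 = N3237 := ded_39_1 (flp_g L25665) (flp_f L18877) L13892 L18877 L25665
theorem L25674 : sm gh N2375 = N3238 := rfl
theorem L25676 : sm ga N3238 = N2382 := ded_15_1 (flp_h L18937) (flp_a L18879) L25674
theorem L25678 : sm gf N3238 = N2376 := ded_40_1 (flp_h L18885) L18877 L25674
theorem L25680 : sm gd N3238 = N3238 := ded_33_1 (flp_h L25674) L18881 L13902 (flp_d L18881) L25674
theorem L25681 : sm gi N2376 = N3239 := rfl
theorem L25683 : sm ga N3239 = N2383 := ded_16_1 (flp_i L18944) (flp_a L18887) L25681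
theorem L25685 : sm gd N3239 = N3239 := ded_34_1 (flp_i L25681) L18892 L25681
theorem L25686 : sm ge N3239 = N2459 := ded_38_1 (flp_i L19589) (flp_e L18889) L25681
theorem L25688 : sm gg N3239 = N3239 := ded_43_1 (flp_i L25681) L18891 L25681
theorem L25689 : sm gh N3239 = N3064 := ded_44_1 (flp_i L24283) (flp_h L17879) (flp_i L13893) L18885 L25681
theorem L25691 : sm ge N2378 = N3240 := rfl
theorem L25693 : sm gc N3240 = N2380 := ded_25_1 (flp_e L18918) (flp_c L18906) L25691
theorem L25695 : sm gi N3240 = N3065 := ded_38_2 (flp_e L24292) (flp_i L18909) L25691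
theorem L25697 : sm gf N3240 = N2460 := ded_35_2 (flp_e L19596) (flp_f L14395) (flp_e L13909) L18904 L25691
theorem L25699 : sm gg N2378 = N3241 := rfl
theorem L25701 : sm gc N3241 = N2381 := ded_27_1 (flp_g L18928) (flp_c L18906) L25699
theorem L25703 : sm gd N3241 = N3241 := ded_32_1 (flp_g L25699) L18908 L25699
theorem L25704 : sm gi N3241 = N3066 := ded_43_2 (flp_g L24296) (flp_i L18909) L25699
theorem L25706 : sm gf N3241 = N3241 := ded_39_1 (flp_g L25699) (flp_f L18904) L13911 L18904 L25699
theorem L25707 : sm gh N2378 = N3242 := rfl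
theorem L25709 : sm gc N3242 = N2382 := ded_28_1 (flp_h L18937) (flp_c L18906) L25707
theorem L25711 : sm gf N3242 = N2379 := ded_40_1 (flp_h L18911) L18904 L25707
theorem L25713 : sm gd N2379 = N3243 := rfl
theorem L25715 : sm gg N3243 = N3243 := ded_32_2 (flp_d L25713) L18917 L25713
theorem L25716 : sm gc N3243 = N3243 := ded_24_1 (flp_d L25713) L18913 L13930 (flp_c L18913) L25713
theorem L25717 : sm gh N3243 = N3243 := ded_33_2 (flp_d L25713) (flp_h L18911) L13914 L18911 L25713
theorem L25718 : sm gi N2379 = N3244 := rfl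
theorem L25720 : sm gc N3244 = N2383 := ded_29_1 (flp_i L18944) (flp_c L18913) L25718
theorem L25722 : sm ge N3244 = N2464 := ded_38_1 (flp_i L19620) (flp_e L18915) L25718
theorem L25724 : sm gg N3244 = N3244 := ded_43_1 (flp_i L25718) L18917 L25718
theorem L25725 : sm gh N3244 = N3069 := ded_44_1 (flp_i L24314) (flp_h L17905) (flp_i L13912) L18911 L25718
theorem L25727 : sm gg N2380 = N3245 := rfl
theorem L25729 : sm gb N3245 = N2384 := ded_21_1 (flp_g L18954) (flp_b L18920) L25727
theorem L25731 : sm gd N3245 = N2400 := ded_32_1 (flp_g L19091) (flp_d L18924) L25727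
theorem L25733 : sm ge N3245 = N2381 := ded_36_1 (flp_g L18928) L18918 L25727
theorem L25735 : sm gi N3245 = N3070 := ded_43_2 (flp_g L24319) (flp_i L18922) L25727
theorem L25737 : sm gh N2380 = N3246 := rfl
theorem L25739 : sm gb N3246 = N2385 := ded_22_1 (flp_h L18962) (flp_b L18920) L25737
theorem L25741 : sm ge N3246 = N2382 := ded_37_1 (flp_h L18937) L18918 L25737
theorem L25743 : sm gf N3246 = N2466 := ded_40_1 (flp_h L19633) (flp_f L18926) L25737
theorem L25745 : sm gh N2381 = N3247 := rfl
theorem L25747 : sm gb N3247 = N2386 := ded_22_1 (flp_h L18968) (flp_b L18930) L25745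
theorem L25749 : sm gf N3247 = N3247 := ded_40_1 (flp_h L25745) L18936 L25745
theorem L25750 : sm gg N3247 = N2382 := ded_42_1 (flp_h L18937) L18928 L25745
theorem L25752 : sm gd N3247 = N3247 := ded_33_1 (flp_h L25745) L18932 L13938 (flp_d L18932) L25745
theorem L25753 : sm gi N2382 = N3248 := rfl
theorem L25755 : sm gb N3248 = N2387 := ded_23_1 (flp_i L18974) (flp_b L18939) L25753
theorem L25757 : sm gd N3248 = N3248 := ded_34_1 (flp_i L25753) L18943 L25753
theorem L25758 : sm gf N3248 = N2383 := ded_41_1 (flp_i L18944) (flp_f L18941) L25753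
theorem L25760 : sm gh N3248 = N3073 := ded_44_1 (flp_i L24342) (flp_h L17923) (flp_i L13921) L18937 L25753
theorem L25762 : sm gf N2384 = N3249 := rfl
theorem L25764 : sm gd N3249 = N2404 := ded_31_1 (flp_f L19125) (flp_d L18956) L25762
theorem L25766 : sm gi N3249 = N3074 := ded_41_2 (flp_f L24350) (flp_i L18960) L25762
theorem L25768 : sm ge N3249 = N3249 := ded_35_1 (flp_f L25762) L18958 L13956 (flp_e L18958) L25762
theorem L25769 : sm gg N3249 = N2469 := ded_39_2 (flp_f L19656) (flp_g L14434) (flp_f L13948) L18954 L25762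
theorem L25771 : sm gh N2384 = N3250 := rfl
theorem L25773 : sm ge N3250 = N2386 := ded_37_1 (flp_h L18968) (flp_e L18958) L25771
theorem L25775 : sm gg N3250 = N2385 := ded_42_1 (flp_h L18962) L18954 L25771
theorem L25777 : sm gd N2385 = N3251 := rfl
theorem L25779 : sm gf N3251 = N2471 := ded_31_2 (flp_d L19667) (flp_f L18966) L25777
theorem L25781 : sm ge N3251 = N3251 := ded_30_2 (flp_d L25777) L18964 L13961 (flp_e L18964) L25777
theorem L25782 : sm gh N3251 = N2406 := ded_33_2 (flp_d L19141) (flp_h L14068) (flp_d L13946) L18962 L25777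
theorem L25784 : sm gi N2385 = N3252 := rfl
theorem L25786 : sm ge N3252 = N2387 := ded_38_1 (flp_i L18974) (flp_e L18964) L25784
theorem L25788 : sm gf N3252 = N2472 := ded_41_1 (flp_i L19673) (flp_f L18966) L25784
theorem L25790 : sm gh N3252 = N3077 := ded_44_1 (flp_i L24373) (flp_h L17946) (flp_i L13944) L18962 L25784
theorem L25792 : sm gi N2386 = N3253 := rfl
theorem L25794 : sm gd N3253 = N3253 := ded_34_1 (flp_i L25792) L18973 L25792
theorem L25795 : sm gf N3253 = N3253 := ded_41_1 (flp_i L25792) L18970 L25792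
theorem L25796 : sm gg N3253 = N2387 := ded_43_1 (flp_i L18974) (flp_g L18971) L25792
theorem L25800 : sm gf N2388 = N3254 := rfl
theorem L25802 : sm ga N3254 = N3254 := ded_13_1 (flp_f L25800) L18990 L25800
theorem L25803 : sm gb N3254 = N2389 := ded_20_1 (flp_f L18991) L18981 L25800
theorem L25805 : sm gd N3254 = N3254 := ded_31_1 (flp_f L25800) L18983 L25800
theorem L25806 : sm gi N3254 = N3079 := ded_41_2 (flp_f L24388) (flp_i L18988) L25800
theorem L25808 : sm gh N2388 = N3255 := rfl
theorem L25810 : sm ga N3255 = N3255 := ded_15_1 (flp_h L25808) L18990 L25808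
theorem L25811 : sm gb N3255 = N2390 := ded_22_1 (flp_h L19000) L18981 L25808
theorem L25813 : sm ge N3255 = N2496 := ded_37_1 (flp_h L19898) (flp_e L18984) L25808
theorem L25815 : sm gg N3255 = N2828 := ded_42_1 (flp_h L22453) (flp_g L18986) L25808
theorem L25817 : sm ge N2389 = N3256 := rfl
theorem L25819 : sm ga N3256 = N2395 := ded_12_1 (flp_e L19046) (flp_a L18993) L25817
theorem L25821 : sm gc N3256 = N2391 := ded_25_1 (flp_e L19010) (flp_c L18995) L25817
theorem L25823 : sm gi N3256 = N3081 := ded_38_2 (flp_e L24405) (flp_i L18998) L25817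
theorem L25825 : sm gf N3256 = N2497 := ded_35_2 (flp_e L19906) (flp_f L14602) (flp_e L13974) L18991 L25817
theorem L25827 : sm gg N2389 = N3257 := rfl
theorem L25829 : sm ga N3257 = N2396 := ded_14_1 (flp_g L19055) (flp_a L18993) L25827
theorem L25831 : sm gc N3257 = N2392 := ded_27_1 (flp_g L19018) (flp_c L18995) L25827
theorem L25833 : sm gd N3257 = N3257 := ded_32_1 (flp_g L25827) L18997 L25827
theorem L25834 : sm gi N3257 = N3082 := ded_43_2 (flp_g L24411) (flp_i L18998) L25827
theorem L25836 : sm gf N3257 = N2830 := ded_39_1 (flp_g L22470) (flp_f L16502) (flp_g L13976) L18991 L25827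
theorem L25838 : sm gh N2389 = N3258 := rfl
theorem L25840 : sm ga N3258 = N2397 := ded_15_1 (flp_h L19065) (flp_a L18993) L25838
theorem L25842 : sm gc N3258 = N2393 := ded_28_1 (flp_h L19028) (flp_c L18995) L25838
theorem L25844 : sm gf N3258 = N2390 := ded_40_1 (flp_h L19000) L18991 L25838
theorem L25846 : sm gd N2390 = N3259 := rfl
theorem L25848 : sm ga N3259 = N2398 := ded_11_1 (flp_d L19072) (flp_a L19002) L25846
theorem L25850 : sm gg N3259 = N2832 := ded_32_2 (flp_d L22487) (flp_g L19008) L25846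
theorem L25852 : sm gc N3259 = N3259 := ded_24_1 (flp_d L25846) L19004 L13997 (flp_c L19004) L25846
theorem L25853 : sm ge N3259 = N3259 := ded_30_2 (flp_d L25846) L19006 L14618 (flp_e L19006) L25846
theorem L25854 : sm gh N3259 = N3259 := ded_33_2 (flp_d L25846) (flp_h L19000) L13980 L19000 L25846
theorem L25855 : sm gi N2390 = N3260 := rfl
theorem L25857 : sm ga N3260 = N2399 := ded_16_1 (flp_i L19080) (flp_a L19002) L25855
theorem L25859 : sm gc N3260 = N2394 := ded_29_1 (flp_i L19035) (flp_c L19004) L25855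
theorem L25861 : sm ge N3260 = N2500 := ded_38_1 (flp_i L19931) (flp_e L19006) L25855
theorem L25863 : sm gg N3260 = N2833 := ded_43_1 (flp_i L22494) (flp_g L19008) L25855
theorem L25865 : sm gh N3260 = N3085 := ded_44_1 (flp_i L24437) (flp_h L17984) (flp_i L13978) L19000 L25855
theorem L25867 : sm gg N2391 = N3261 := rfl
theorem L25869 : sm ga N3261 = N2400 := ded_14_1 (flp_g L19091) (flp_a L19012) L25867
theorem L25871 : sm ge N3261 = N2392 := ded_36_1 (flp_g L19018) L19010 L25867
theorem L25873 : sm gi N3261 = N3086 := ded_43_2 (flp_g L24445) (flp_i L19014) L25867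
theorem L25875 : sm gh N2391 = N3262 := rfl
theorem L25877 : sm ga N3262 = N2401 := ded_15_1 (flp_h L19099) (flp_a L19012) L25875
theorem L25879 : sm ge N3262 = N2393 := ded_37_1 (flp_h L19028) L19010 L25875
theorem L25881 : sm gf N3262 = N2502 := ded_40_1 (flp_h L19946) (flp_f L19016) L25875
theorem L25883 : sm gh N2392 = N3263 := rfl
theorem L25885 : sm ga N3263 = N2402 := ded_15_1 (flp_h L19107) (flp_a L19020) L25883
theorem L25887 : sm gf N3263 = N2836 := ded_40_1 (flp_h L22521) (flp_f L19026) L25883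
theorem L25889 : sm gg N3263 = N2393 := ded_42_1 (flp_h L19028) L19018 L25883
theorem L25891 : sm gd N3263 = N3263 := ded_33_1 (flp_h L25883) L19022 L14003 (flp_d L19022) L25883
theorem L25892 : sm gi N2393 = N3264 := rfl
theorem L25894 : sm ga N3264 = N2403 := ded_16_1 (flp_i L19116) (flp_a L19030) L25892
theorem L25896 : sm gd N3264 = N3264 := ded_34_1 (flp_i L25892) L19034 L25892
theorem L25897 : sm gf N3264 = N2394 := ded_41_1 (flp_i L19035) (flp_f L19032) L25892
theorem L25899 : sm gh N3264 = N3089 := ded_44_1 (flp_i L24473) (flp_h L18008) (flp_i L13987) L19028 L25892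
theorem L25901 : sm gd N2395 = N3265 := rfl
theorem L25903 : sm gb N3265 = N3265 := ded_18_1 (flp_d L25901) L19048 L25901
theorem L25904 : sm gf N3265 = N2505 := ded_31_2 (flp_d L19970) (flp_f L19053) L25901
theorem L25906 : sm gi N3265 = N3090 := ded_34_2 (flp_d L24483) (flp_i L19051) L25901
theorem L25908 : sm ge N3265 = N3265 := ded_30_2 (flp_d L25901) (flp_e L19046) L14013 L19046 L25901
theorem L25909 : sm gg N2395 = N3266 := rfl
theorem L25911 : sm gb N3266 = N3266 := ded_21_1 (flp_g L25909) L19048 L25909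
theorem L25912 : sm gc N3266 = N2400 := ded_27_1 (flp_g L19091) (flp_c L19049) L25909
theorem L25914 : sm ge N3266 = N2396 := ded_36_1 (flp_g L19055) L19046 L25909
theorem L25916 : sm gi N3266 = N3091 := ded_43_2 (flp_g L24487) (flp_i L19051) L25909
theorem L25918 : sm gh N2395 = N3267 := rfl
theorem L25920 : sm gb N3267 = N3267 := ded_22_1 (flp_h L25918) L19048 L25918
theorem L25921 : sm gc N3267 = N2401 := ded_28_1 (flp_h L19099) (flp_c L19049) L25918
theorem L25923 : sm ge N3267 = N2397 := ded_37_1 (flp_h L19065) L19046 L25918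
theorem L25925 : sm gf N3267 = N2507 := ded_40_1 (flp_h L19982) (flp_f L19053) L25918
theorem L25927 : sm gh N2396 = N3268 := rfl
theorem L25929 : sm gb N3268 = N3268 := ded_22_1 (flp_h L25927) L19057 L25927
theorem L25930 : sm gc N3268 = N2402 := ded_28_1 (flp_h L19107) (flp_c L19058) L25927
theorem L25932 : sm gf N3268 = N2841 := ded_40_1 (flp_h L22564) (flp_f L19063) L25927
theorem L25934 : sm gg N3268 = N2397 := ded_42_1 (flp_h L19065) L19055 L25927
theorem L25936 : sm gd N2397 = N3269 := rfl
theorem L25938 : sm gb N3269 = N3269 := ded_18_1 (flp_d L25936) L19067 L25936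
theorem L25939 : sm gf N3269 = N2398 := ded_31_2 (flp_d L19072) (flp_f L19070) L25936
theorem L25941 : sm gc N3269 = N3269 := ded_24_1 (flp_d L25936) L19068 L14049 (flp_c L19068) L25936
theorem L25942 : sm gh N3269 = N3269 := ded_33_2 (flp_d L25936) (flp_h L19065) L14013 L19065 L25936
theorem L25943 : sm gi N2397 = N3270 := rfl
theorem L25945 : sm gb N3270 = N3270 := ded_23_1 (flp_i L25943) L19067 L25943
theorem L25946 : sm gc N3270 = N2403 := ded_29_1 (flp_i L19116) (flp_c L19068) L25943
theorem L25948 : sm gf N3270 = N2399 := ded_41_1 (flp_i L19080) (flp_f L19070) L25943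
theorem L25950 : sm gh N3270 = N3095 := ded_44_1 (flp_i L24518) (flp_h L18041) (flp_i L14014) L19065 L25943
theorem L25952 : sm gi N2398 = N3271 := rfl
theorem L25954 : sm gb N3271 = N3271 := ded_23_1 (flp_i L25952) L19074 L25952
theorem L25955 : sm gc N3271 = N3271 := ded_29_1 (flp_i L25952) L19077 L25952
theorem L25956 : sm gd N3271 = N2399 := ded_34_1 (flp_i L19080) L19072 L25952
theorem L25958 : sm ge N3271 = N3271 := ded_38_1 (flp_i L25952) L19078 L25952
theorem L25959 : sm gg N3271 = N2844 := ded_43_1 (flp_i L22587) (flp_g L19075) L25952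
theorem L25961 : sm gf N2400 = N3272 := rfl
theorem L25963 : sm gb N3272 = N2404 := ded_20_1 (flp_f L19125) (flp_b L19093) L25961
theorem L25965 : sm gi N3272 = N3098 := ded_41_2 (flp_f L24542) (flp_i L19097) L25961
theorem L25967 : sm ge N3272 = N2845 := ded_35_1 (flp_f L22594) L16596 (flp_f L14041) (flp_e L19095) L25961
theorem L25969 : sm gg N3272 = N2510 := ded_39_2 (flp_f L20007) (flp_g L14677) (flp_f L14031) L19091 L25961
theorem L25971 : sm gh N2400 = N3273 := rfl
theorem L25973 : sm gb N3273 = N2405 := ded_22_1 (flp_h L19134) (flp_b L19093) L25971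
theorem L25975 : sm ge N3273 = N2402 := ded_37_1 (flp_h L19107) (flp_e L19095) L25971
theorem L25977 : sm gg N3273 = N2401 := ded_42_1 (flp_h L19099) L19091 L25971
theorem L25979 : sm gd N2401 = N3274 := rfl
theorem L25981 : sm gb N3274 = N2406 := ded_18_1 (flp_d L19141) (flp_b L19101) L25979
theorem L25983 : sm gf N3274 = N2512 := ded_31_2 (flp_d L20021) (flp_f L19105) L25979
theorem L25985 : sm ge N3274 = N3274 := ded_30_2 (flp_d L25979) L19103 L14049 (flp_e L19103) L25979
theorem L25986 : sm gi N2401 = N3275 := rfl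
theorem L25994 : sm gh N3275 = N3101 := ded_44_1 (flp_i L24562) (flp_h L18069) (flp_i L14029) L19099 L25986
theorem L26007 : sm gh N2404 = N3277 := rfl
theorem L26012 : sm gf N3277 = N2405 := ded_40_1 (flp_h L19134) L19125 L26007
theorem L26014 : sm gg N3277 = N2515 := ded_42_1 (flp_h L20043) (flp_g L19132) L26007
theorem L26016 : sm gd N2405 = N3278 := rfl
theorem L26018 : sm gg N3278 = N2406 := ded_32_2 (flp_d L19141) (flp_g L19139) L26016
theorem L26020 : sm ge N3278 = N3278 := ded_30_2 (flp_d L26016) L19137 L14082 (flp_e L19137) L26016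
theorem L26021 : sm gi N2405 = N3279 := rfl
theorem L26028 : sm gh N3279 = N3105 := ded_44_1 (flp_i L24595) (flp_h L18100) (flp_i L14066) L19134 L26021
theorem L26030 : sm gc N2406 = N3280 := rfl
theorem L26032 : sm ge N3280 = N3280 := ded_25_2 (flp_c L26030) L19145 L26030
theorem L26033 : sm gf N3280 = N2518 := ded_26_2 (flp_c L20063) (flp_f L19143) L26030
theorem L26035 : sm gd N3280 = N3280 := ded_24_2 (flp_c L26030) (flp_d L19141) L14070 L19141 L26030
theorem L26043 : sm gd N2409 = N3282 := rfl
theorem L26045 : sm ga N3282 = N2410 := ded_11_1 (flp_d L19177) (flp_a L19167) L26043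
theorem L26047 : sm gb N3282 = N3209 := ded_18_1 (flp_d L25436) (flp_b L19169) L26043
theorem L26049 : sm gg N3282 = N3282 := ded_32_2 (flp_d L26043) L19173 L26043
theorem L26050 : sm gi N3282 = N3282 := ded_34_2 (flp_d L26043) L19176 L26043
theorem L26051 : sm ge N3282 = N3282 := ded_30_2 (flp_d L26043) (flp_e L19165) L14095 L19165 L26043
theorem L26052 : sm gf N2409 = N3283 := rfl
theorem L26054 : sm ga N3283 = N2411 := ded_13_1 (flp_f L19184) (flp_a L19167) L26052
theorem L26056 : sm gb N3283 = N3210 := ded_20_1 (flp_f L25443) (flp_b L19169) L26052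
theorem L26058 : sm gc N3283 = N2581 := ded_26_1 (flp_f L20529) (flp_c L19171) L26052
theorem L26060 : sm gh N3283 = N2416 := ded_40_2 (flp_f L19233) (flp_h L19174) L26052
theorem L26062 : sm gi N3283 = N3283 := ded_41_2 (flp_f L26052) L19176 L26052
theorem L26063 : sm ge N3283 = N3283 := ded_35_1 (flp_f L26052) (flp_e L19165) L14096 L19165 L26052
theorem L26064 : sm gc N2410 = N3284 := rfl
theorem L26066 : sm ge N3284 = N3284 := ded_25_2 (flp_c L26064) L19183 L26064
theorem L26067 : sm gg N3284 = N3284 := ded_27_2 (flp_c L26064) L19181 L26064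
theorem L26068 : sm gi N3284 = N3284 := ded_29_2 (flp_c L26064) L19182 L26064
theorem L26069 : sm gb N3284 = N3284 := ded_17_1 (flp_c L26064) L19179 L14119 (flp_b L19179) L26064
theorem L26070 : sm gd N3284 = N2582 := ded_24_2 (flp_c L20538) (flp_d L15101) (flp_c L14107) L19177 L26064
theorem L26072 : sm gf N2410 = N3285 := rfl
theorem L26074 : sm gb N3285 = N2412 := ded_20_1 (flp_f L19194) (flp_b L19179) L26072
theorem L26076 : sm gd N3285 = N2411 := ded_31_1 (flp_f L19184) L19177 L26072
theorem L26078 : sm gi N3285 = N3285 := ded_41_2 (flp_f L26072) L19182 L26072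
theorem L26079 : sm gh N2410 = N3286 := rfl
theorem L26081 : sm gb N3286 = N2413 := ded_22_1 (flp_h L19202) (flp_b L19179) L26079
theorem L26083 : sm ge N3286 = N3286 := ded_37_1 (flp_h L26079) L19183 L26079
theorem L26084 : sm gg N3286 = N3286 := ded_42_1 (flp_h L26079) L19181 L26079
theorem L26085 : sm gd N3286 = N2419 := ded_33_1 (flp_h L19263) (flp_d L14154) (flp_h L14110) L19177 L26079
theorem L26087 : sm gg N2411 = N3287 := rfl
theorem L26089 : sm gb N3287 = N2414 := ded_21_1 (flp_g L19211) (flp_b L19186) L26087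
theorem L26091 : sm gc N3287 = N2585 := ded_27_1 (flp_g L20557) (flp_c L19188) L26087
theorem L26093 : sm ge N3287 = N3287 := ded_36_1 (flp_g L26087) L19193 L26087
theorem L26094 : sm gh N3287 = N2420 := ded_42_2 (flp_g L19270) (flp_h L19190) L26087
theorem L26096 : sm gi N3287 = N3287 := ded_43_2 (flp_g L26087) L19192 L26087
theorem L26097 : sm gf N3287 = N3287 := ded_39_1 (flp_g L26087) (flp_f L19184) L14109 L19184 L26087
theorem L26098 : sm ge N2412 = N3288 := rfl
theorem L26100 : sm ga N3288 = N3215 := ded_12_1 (flp_e L25484) (flp_a L19196) L26098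
theorem L26102 : sm gc N3288 = N3288 := ded_25_1 (flp_e L26098) L19198 L26098
theorem L26103 : sm gi N3288 = N3288 := ded_38_2 (flp_e L26098) L19201 L26098
theorem L26104 : sm gd N3288 = N3288 := ded_30_1 (flp_e L26098) L19199 L14130 (flp_d L19199) L26098
theorem L26105 : sm gf N3288 = N3288 := ded_35_2 (flp_e L26098) (flp_f L19194) L14120 L19194 L26098
theorem L26106 : sm gg N2412 = N3289 := rfl
theorem L26108 : sm ga N3289 = N3216 := ded_14_1 (flp_g L25490) (flp_a L19196) L26106
theorem L26110 : sm gc N3289 = N3289 := ded_27_1 (flp_g L26106) L19198 L26106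
theorem L26111 : sm gd N3289 = N2414 := ded_32_1 (flp_g L19211) (flp_d L19199) L26106
theorem L26113 : sm gi N3289 = N3289 := ded_43_2 (flp_g L26106) L19201 L26106
theorem L26114 : sm gf N3289 = N3289 := ded_39_1 (flp_g L26106) (flp_f L19194) L14117 L19194 L26106
theorem L26115 : sm gh N2412 = N3290 := rfl
theorem L26117 : sm ga N3290 = N3217 := ded_15_1 (flp_h L25497) (flp_a L19196) L26115
theorem L26119 : sm gc N3290 = N3290 := ded_28_1 (flp_h L26115) L19198 L26115
theorem L26120 : sm gf N3290 = N2413 := ded_40_1 (flp_h L19202) L19194 L26115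
theorem L26122 : sm gd N3290 = N2423 := ded_33_1 (flp_h L19302) L14178 (flp_h L14127) (flp_d L19199) L26115
theorem L26124 : sm gi N2413 = N3291 := rfl
theorem L26126 : sm ga N3291 = N3218 := ded_16_1 (flp_i L25504) (flp_a L19204) L26124
theorem L26128 : sm gc N3291 = N3291 := ded_29_1 (flp_i L26124) L19206 L26124
theorem L26129 : sm gd N3291 = N2424 := ded_34_1 (flp_i L19310) (flp_d L19209) L26124
theorem L26131 : sm ge N3291 = N3291 := ded_38_1 (flp_i L26124) L19207 L26124
theorem L26132 : sm gg N3291 = N3291 := ded_43_1 (flp_i L26124) L19208 L26124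
theorem L26133 : sm gh N3291 = N3291 := ded_44_1 (flp_i L26124) (flp_h L19202) L14118 L19202 L26124
theorem L26134 : sm gc N2415 = N3292 := rfl
theorem L26136 : sm ga N3292 = N2417 := ded_10_1 (flp_c L19244) (flp_a L19224) L26134
theorem L26138 : sm ge N3292 = N3044 := ded_25_2 (flp_c L24129) (flp_e L19231) L26134
theorem L26140 : sm gg N3292 = N3292 := ded_27_2 (flp_c L26134) L19228 L26134
theorem L26141 : sm gi N3292 = N2425 := ded_29_2 (flp_c L19321) (flp_i L19229) L26134
theorem L26143 : sm gd N3292 = N2590 := ded_24_2 (flp_c L20596) (flp_d L15139) (flp_c L14149) L19222 L26134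
theorem L26145 : sm gf N2415 = N3293 := rfl
theorem L26147 : sm ga N3293 = N2418 := ded_13_1 (flp_f L19255) (flp_a L19224) L26145
theorem L26149 : sm gb N3293 = N3220 := ded_20_1 (flp_f L25522) (flp_b L19226) L26145
theorem L26151 : sm gd N3293 = N2416 := ded_31_1 (flp_f L19233) L19222 L26145
theorem L26153 : sm gi N3293 = N2426 := ded_41_2 (flp_f L19328) (flp_i L19229) L26145
theorem L26155 : sm gh N2415 = N3294 := rfl
theorem L26157 : sm ga N3294 = N2419 := ded_15_1 (flp_h L19263) (flp_a L19224) L26155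
theorem L26159 : sm gb N3294 = N3221 := ded_22_1 (flp_h L25530) (flp_b L19226) L26155
theorem L26161 : sm ge N3294 = N3046 := ded_37_1 (flp_h L24143) (flp_e L19231) L26155
theorem L26163 : sm gg N3294 = N3294 := ded_42_1 (flp_h L26155) L19228 L26155
theorem L26164 : sm gg N2416 = N3295 := rfl
theorem L26166 : sm ga N3295 = N2420 := ded_14_1 (flp_g L19270) (flp_a L19235) L26164
theorem L26168 : sm gb N3295 = N3222 := ded_21_1 (flp_g L25537) (flp_b L19237) L26164
theorem L26170 : sm gc N3295 = N2593 := ded_27_1 (flp_g L20620) (flp_c L19239) L26164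
theorem L26172 : sm ge N3295 = N3295 := ded_36_1 (flp_g L26164) L19243 L26164
theorem L26173 : sm gi N3295 = N2428 := ded_43_2 (flp_g L19340) (flp_i L19241) L26164
theorem L26175 : sm gf N3295 = N3295 := ded_39_1 (flp_g L26164) (flp_f L19233) L14151 L19233 L26164
theorem L26176 : sm gf N2417 = N3296 := rfl
theorem L26178 : sm gb N3296 = N2443 := ded_20_1 (flp_f L19462) (flp_b L19251) L26176
theorem L26180 : sm gc N3296 = N2418 := ded_26_1 (flp_f L19255) L19244 L26176
theorem L26182 : sm gd N3296 = N2594 := ded_31_1 (flp_f L20629) (flp_d L19253) L26176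
theorem L26184 : sm gi N3296 = N2429 := ded_41_2 (flp_f L19349) (flp_i L19249) L26176
theorem L26186 : sm gh N2417 = N3297 := rfl
theorem L26188 : sm gb N3297 = N2444 := ded_22_1 (flp_h L19470) (flp_b L19251) L26186
theorem L26190 : sm gc N3297 = N2419 := ded_28_1 (flp_h L19263) L19244 L26186
theorem L26192 : sm ge N3297 = N3049 := ded_37_1 (flp_h L24168) (flp_e L19246) L26186
theorem L26194 : sm gg N3297 = N3297 := ded_42_1 (flp_h L26186) L19248 L26186
theorem L26195 : sm ge N2418 = N3298 := rfl
theorem L26197 : sm gb N3298 = N2421 := ded_19_1 (flp_e L19280) (flp_b L19257) L26195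
theorem L26199 : sm gi N3298 = N2431 := ded_38_2 (flp_e L19364) (flp_i L19261) L26195
theorem L26201 : sm gd N3298 = N3298 := ded_30_1 (flp_e L26195) L19259 L14171 (flp_d L19259) L26195
theorem L26202 : sm gf N3298 = N3050 := ded_35_2 (flp_e L24175) (flp_f L17812) (flp_e L14161) L19255 L26195
theorem L26204 : sm gg N2418 = N3299 := rfl
theorem L26206 : sm gb N3299 = N2422 := ded_21_1 (flp_g L19291) (flp_b L19257) L26204
theorem L26208 : sm gd N3299 = N2420 := ded_32_1 (flp_g L19270) (flp_d L19259) L26204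
theorem L26210 : sm gi N3299 = N2432 := ded_43_2 (flp_g L19369) (flp_i L19261) L26204
theorem L26212 : sm gf N3299 = N3299 := ded_39_1 (flp_g L26204) (flp_f L19255) L14158 L19255 L26204
theorem L26213 : sm gh N2418 = N3300 := rfl
theorem L26215 : sm gb N3300 = N2423 := ded_22_1 (flp_h L19302) (flp_b L19257) L26213
theorem L26217 : sm gf N3300 = N2419 := ded_40_1 (flp_h L19263) L19255 L26213
theorem L26219 : sm gi N2419 = N3301 := rfl
theorem L26221 : sm gb N3301 = N2424 := ded_23_1 (flp_i L19310) (flp_b L19265) L26219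
theorem L26223 : sm ge N3301 = N3053 := ded_38_1 (flp_i L24194) (flp_e L19267) L26219
theorem L26225 : sm gg N3301 = N3301 := ded_43_1 (flp_i L26219) L19269 L26219
theorem L26226 : sm gh N3301 = N2434 := ded_44_1 (flp_i L19383) (flp_h L14227) (flp_i L14159) L19263 L26219
theorem L26228 : sm gg N2421 = N3302 := rfl
theorem L26230 : sm ga N3302 = N3229 := ded_14_1 (flp_g L25597) (flp_a L19282) L26228
theorem L26232 : sm gc N3302 = N2449 := ded_27_1 (flp_g L19513) (flp_c L19284) L26228
theorem L26234 : sm gd N3302 = N3302 := ded_32_1 (flp_g L26228) L19288 L26228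
theorem L26235 : sm ge N3302 = N2422 := ded_36_1 (flp_g L19291) L19280 L26228
theorem L26237 : sm gi N3302 = N2435 := ded_43_2 (flp_g L19389) (flp_i L19286) L26228
theorem L26239 : sm gh N2421 = N3303 := rfl
theorem L26241 : sm ga N3303 = N3230 := ded_15_1 (flp_h L25606) (flp_a L19282) L26239
theorem L26243 : sm gc N3303 = N2450 := ded_28_1 (flp_h L19523) (flp_c L19284) L26239
theorem L26245 : sm ge N3303 = N2423 := ded_37_1 (flp_h L19302) L19280 L26239
theorem L26247 : sm gf N3303 = N3055 := ded_40_1 (flp_h L24209) (flp_f L19289) L26239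
theorem L26249 : sm gh N2422 = N3304 := rfl
theorem L26251 : sm ga N3304 = N3231 := ded_15_1 (flp_h L25614) (flp_a L19293) L26249
theorem L26253 : sm gc N3304 = N2451 := ded_28_1 (flp_h L19531) (flp_c L19295) L26249
theorem L26255 : sm gf N3304 = N3304 := ded_40_1 (flp_h L26249) L19301 L26249
theorem L26256 : sm gg N3304 = N2423 := ded_42_1 (flp_h L19302) L19291 L26249
theorem L26258 : sm gi N2423 = N3305 := rfl
theorem L26260 : sm ga N3305 = N3232 := ded_16_1 (flp_i L25621) (flp_a L19304) L26258
theorem L26262 : sm gc N3305 = N2452 := ded_29_1 (flp_i L19539) (flp_c L19306) L26258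
theorem L26264 : sm gf N3305 = N2424 := ded_41_1 (flp_i L19310) (flp_f L19308) L26258
theorem L26266 : sm gh N3305 = N2438 := ded_44_1 (flp_i L19410) (flp_h L14254) (flp_i L14180) L19302 L26258
theorem L26268 : sm gb N2425 = N3306 := rfl
theorem L26270 : sm gd N3306 = N2604 := ded_18_2 (flp_b L20711) (flp_d L19326) L26268
theorem L26272 : sm gg N3306 = N3306 := ded_21_2 (flp_b L26268) L19325 L26268
theorem L26273 : sm ga N3306 = N2453 := ded_9_1 (flp_b L19548) L14366 (flp_b L14217) (flp_a L19323) L26268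
theorem L26275 : sm gf N2425 = N3307 := rfl
theorem L26277 : sm ga N3307 = N2429 := ded_13_1 (flp_f L19349) (flp_a L19323) L26275
theorem L26279 : sm gc N3307 = N2426 := ded_26_1 (flp_f L19328) L19321 L26275
theorem L26281 : sm gd N3307 = N2605 := ded_31_1 (flp_f L20718) (flp_d L19326) L26275
theorem L26283 : sm gh N2425 = N3308 := rfl
theorem L26285 : sm ga N3308 = N2430 := ded_15_1 (flp_h L19357) (flp_a L19323) L26283
theorem L26287 : sm gc N3308 = N2427 := ded_28_1 (flp_h L19334) L19321 L26283
theorem L26289 : sm gg N3308 = N3308 := ded_42_1 (flp_h L26283) L19325 L26283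
theorem L26290 : sm ge N2426 = N3309 := rfl
theorem L26292 : sm ga N3309 = N2431 := ded_12_1 (flp_e L19364) (flp_a L19330) L26290
theorem L26294 : sm gd N3309 = N3309 := ded_30_1 (flp_e L26290) L19332 L14213 (flp_d L19332) L26290
theorem L26295 : sm gg N2426 = N3310 := rfl
theorem L26297 : sm ga N3310 = N2432 := ded_14_1 (flp_g L19369) (flp_a L19330) L26295
theorem L26299 : sm gd N3310 = N2428 := ded_32_1 (flp_g L19340) (flp_d L19332) L26295
theorem L26301 : sm gf N3310 = N3310 := ded_39_1 (flp_g L26295) (flp_f L19328) L14205 L19328 L26295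
theorem L26302 : sm gh N2426 = N3311 := rfl
theorem L26304 : sm ga N3311 = N2433 := ded_15_1 (flp_h L19376) (flp_a L19330) L26302
theorem L26306 : sm gf N3311 = N2427 := ded_40_1 (flp_h L19334) L19328 L26302
theorem L26308 : sm gd N3311 = N3311 := ded_33_1 (flp_h L26302) L19332 L14212 (flp_d L19332) L26302
theorem L26309 : sm gi N2427 = N3312 := rfl
theorem L26311 : sm ga N3312 = N2434 := ded_16_1 (flp_i L19383) (flp_a L19336) L26309
theorem L26313 : sm gd N3312 = N3312 := ded_34_1 (flp_i L26309) L19339 L26309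
theorem L26314 : sm gg N3312 = N3312 := ded_43_1 (flp_i L26309) L19338 L26309
theorem L26315 : sm ge N2429 = N3313 := rfl
theorem L26317 : sm gb N3313 = N2460 := ded_19_1 (flp_e L19596) (flp_b L19351) L26315
theorem L26319 : sm gc N3313 = N2431 := ded_25_1 (flp_e L19364) (flp_c L19353) L26315
theorem L26321 : sm gg N2429 = N3314 := rfl
theorem L26323 : sm gb N3314 = N2461 := ded_21_1 (flp_g L19600) (flp_b L19351) L26321
theorem L26325 : sm gc N3314 = N2432 := ded_27_1 (flp_g L19369) (flp_c L19353) L26321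
theorem L26327 : sm gd N3314 = N2612 := ded_32_1 (flp_g L20770) (flp_d L19355) L26321
theorem L26329 : sm gf N3314 = N3314 := ded_39_1 (flp_g L26321) (flp_f L19349) L14216 L19349 L26321
theorem L26330 : sm gh N2429 = N3315 := rfl
theorem L26332 : sm gb N3315 = N2462 := ded_22_1 (flp_h L19607) (flp_b L19351) L26330
theorem L26334 : sm gc N3315 = N2433 := ded_28_1 (flp_h L19376) (flp_c L19353) L26330
theorem L26336 : sm gf N3315 = N2430 := ded_40_1 (flp_h L19357) L19349 L26330
theorem L26338 : sm gd N2430 = N3316 := rfl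
theorem L26340 : sm gb N3316 = N2463 := ded_18_1 (flp_d L19613) (flp_b L19359) L26338
theorem L26342 : sm gg N3316 = N3316 := ded_32_2 (flp_d L26338) L19363 L26338
theorem L26343 : sm gc N3316 = N3316 := ded_24_1 (flp_d L26338) L19361 L14232 (flp_c L19361) L26338
theorem L26344 : sm gh N3316 = N2614 := ded_33_2 (flp_d L20785) (flp_h L15256) (flp_d L14219) L19357 L26338
theorem L26346 : sm gi N2430 = N3317 := rfl
theorem L26348 : sm gb N3317 = N2464 := ded_23_1 (flp_i L19620) (flp_b L19359) L26346
theorem L26350 : sm gc N3317 = N2434 := ded_29_1 (flp_i L19383) (flp_c L19361) L26346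
theorem L26352 : sm gg N3317 = N3317 := ded_43_1 (flp_i L26346) L19363 L26346
theorem L26353 : sm gg N2431 = N3318 := rfl
theorem L26355 : sm gb N3318 = N2435 := ded_21_1 (flp_g L19389) (flp_b L19366) L26353
theorem L26357 : sm gd N3318 = N3318 := ded_32_1 (flp_g L26353) L19368 L26353
theorem L26358 : sm ge N3318 = N2432 := ded_36_1 (flp_g L19369) L19364 L26353
theorem L26360 : sm gh N2431 = N3319 := rfl
theorem L26362 : sm gb N3319 = N2436 := ded_22_1 (flp_h L19396) (flp_b L19366) L26360
theorem L26364 : sm ge N3319 = N2433 := ded_37_1 (flp_h L19376) L19364 L26360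
theorem L26366 : sm gh N2432 = N3320 := rfl
theorem L26368 : sm gb N3320 = N2437 := ded_22_1 (flp_h L19402) (flp_b L19371) L26366
theorem L26370 : sm gf N3320 = N3320 := ded_40_1 (flp_h L26366) L19375 L26366
theorem L26371 : sm gg N3320 = N2433 := ded_42_1 (flp_h L19376) L19369 L26366
theorem L26373 : sm gd N3320 = N3320 := ded_33_1 (flp_h L26366) L19373 L14240 (flp_d L19373) L26366
theorem L26374 : sm gi N2433 = N3321 := rfl
theorem L26376 : sm gb N3321 = N2438 := ded_23_1 (flp_i L19410) (flp_b L19378) L26374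
theorem L26378 : sm gd N3321 = N3321 := ded_34_1 (flp_i L26374) L19382 L26374
theorem L26379 : sm gf N3321 = N2434 := ded_41_1 (flp_i L19383) (flp_f L19380) L26374
theorem L26381 : sm gf N2435 = N3322 := rfl
theorem L26383 : sm gc N3322 = N2469 := ded_26_1 (flp_f L19656) (flp_c L19391) L26381
theorem L26385 : sm gd N3322 = N3322 := ded_31_1 (flp_f L26381) L19393 L26381
theorem L26386 : sm ge N3322 = N3322 := ded_35_1 (flp_f L26381) L19394 L14253 (flp_e L19394) L26381
theorem L26387 : sm gh N2435 = N3323 := rfl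
theorem L26389 : sm gc N3323 = N2470 := ded_28_1 (flp_h L19661) (flp_c L19391) L26387
theorem L26391 : sm ge N3323 = N2437 := ded_37_1 (flp_h L19402) (flp_e L19394) L26387
theorem L26393 : sm gg N3323 = N2436 := ded_42_1 (flp_h L19396) L19389 L26387
theorem L26395 : sm gd N2436 = N3324 := rfl
theorem L26397 : sm ge N3324 = N3324 := ded_30_2 (flp_d L26395) L19400 L14260 (flp_e L19400) L26395
theorem L26398 : sm gh N3324 = N3324 := ded_33_2 (flp_d L26395) (flp_h L19396) L14246 L19396 L26395
theorem L26399 : sm gi N2436 = N3325 := rfl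
theorem L26401 : sm gc N3325 = N2472 := ded_29_1 (flp_i L19673) (flp_c L19398) L26399
theorem L26403 : sm ge N3325 = N2438 := ded_38_1 (flp_i L19410) (flp_e L19400) L26399
theorem L26405 : sm gi N2437 = N3326 := rfl
theorem L26407 : sm gc N3326 = N2473 := ded_29_1 (flp_i L19677) (flp_c L19404) L26405
theorem L26409 : sm gd N3326 = N3326 := ded_34_1 (flp_i L26405) L19409 L26405
theorem L26410 : sm gf N3326 = N3326 := ded_41_1 (flp_i L26405) L19406 L26405
theorem L26411 : sm gg N3326 = N2438 := ded_43_1 (flp_i L19410) (flp_g L19407) L26405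
theorem L26413 : sm gb N2439 = N3327 := rfl
theorem L26415 : sm gd N3327 = N2625 := ded_18_2 (flp_b L20869) (flp_d L19426) L26413
theorem L26417 : sm ge N3327 = N3058 := ded_19_2 (flp_b L24236) (flp_e L19421) L26413
theorem L26419 : sm gg N3327 = N3327 := ded_21_2 (flp_b L26413) L19423 L26413
theorem L26420 : sm gi N3327 = N2453 := ded_23_2 (flp_b L19548) (flp_i L19424) L26413
theorem L26422 : sm gc N3327 = N3233 := ded_17_2 (flp_b L25629) (flp_c L18867) (flp_b L14271) L19417 L26413
theorem L26424 : sm gf N2439 = N3328 := rfl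
theorem L26426 : sm ga N3328 = N2443 := ded_13_1 (flp_f L19462) (flp_a L19419) L26424
theorem L26428 : sm gc N3328 = N2440 := ded_26_1 (flp_f L19428) L19417 L26424
theorem L26430 : sm gd N3328 = N2626 := ded_31_1 (flp_f L20876) (flp_d L19426) L26424
theorem L26432 : sm gi N3328 = N2454 := ded_41_2 (flp_f L19553) (flp_i L19424) L26424
theorem L26434 : sm gh N2439 = N3329 := rfl
theorem L26436 : sm ga N3329 = N2444 := ded_15_1 (flp_h L19470) (flp_a L19419) L26434
theorem L26438 : sm gc N3329 = N2441 := ded_28_1 (flp_h L19438) L19417 L26434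
theorem L26440 : sm ge N3329 = N3060 := ded_37_1 (flp_h L24249) (flp_e L19421) L26434
theorem L26442 : sm gg N3329 = N3329 := ded_42_1 (flp_h L26434) L19423 L26434
theorem L26443 : sm ge N2440 = N3330 := rfl
theorem L26445 : sm ga N3330 = N2445 := ded_12_1 (flp_e L19477) (flp_a L19430) L26443
theorem L26447 : sm gb N3330 = N3236 := ded_19_1 (flp_e L25655) (flp_b L19432) L26443
theorem L26449 : sm gi N3330 = N2456 := ded_38_2 (flp_e L19568) (flp_i L19436) L26443
theorem L26451 : sm gd N3330 = N2477 := ded_30_1 (flp_e L19717) L14475 (flp_e L14289) (flp_d L19434) L26443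
theorem L26453 : sm gf N3330 = N3061 := ded_35_2 (flp_e L24256) (flp_f L17871) (flp_e L14276) L19428 L26443
theorem L26455 : sm gg N2440 = N3331 := rfl
theorem L26457 : sm ga N3331 = N2446 := ded_14_1 (flp_g L19487) (flp_a L19430) L26455
theorem L26459 : sm gb N3331 = N3237 := ded_21_1 (flp_g L25665) (flp_b L19432) L26455
theorem L26461 : sm gd N3331 = N2442 := ded_32_1 (flp_g L19448) (flp_d L19434) L26455
theorem L26463 : sm gi N3331 = N2457 := ded_43_2 (flp_g L19574) (flp_i L19436) L26455
theorem L26465 : sm gf N3331 = N3331 := ded_39_1 (flp_g L26455) (flp_f L19428) L14273 L19428 L26455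
theorem L26466 : sm gh N2440 = N3332 := rfl
theorem L26468 : sm ga N3332 = N2447 := ded_15_1 (flp_h L19496) (flp_a L19430) L26466
theorem L26470 : sm gb N3332 = N3238 := ded_22_1 (flp_h L25674) (flp_b L19432) L26466
theorem L26472 : sm gf N3332 = N2441 := ded_40_1 (flp_h L19438) L19428 L26466
theorem L26474 : sm gd N3332 = N3332 := ded_33_1 (flp_h L26466) L19434 L14286 (flp_d L19434) L26466
theorem L26475 : sm gi N2441 = N3333 := rfl
theorem L26477 : sm ga N3333 = N2448 := ded_16_1 (flp_i L19503) (flp_a L19440) L26475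
theorem L26479 : sm gb N3333 = N3239 := ded_23_1 (flp_i L25681) (flp_b L19442) L26475
theorem L26481 : sm gd N3333 = N3333 := ded_34_1 (flp_i L26475) L19447 L26475
theorem L26482 : sm ge N3333 = N3064 := ded_38_1 (flp_i L24283) (flp_e L19444) L26475
theorem L26484 : sm gg N3333 = N3333 := ded_43_1 (flp_i L26475) L19446 L26475
theorem L26485 : sm gh N3333 = N2459 := ded_44_1 (flp_i L19589) (flp_h L14377) (flp_i L14274) L19438 L26475
theorem L26487 : sm ge N2443 = N3334 := rfl
theorem L26489 : sm gc N3334 = N2445 := ded_25_1 (flp_e L19477) (flp_c L19464) L26487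
theorem L26491 : sm gi N3334 = N2460 := ded_38_2 (flp_e L19596) (flp_i L19468) L26487
theorem L26493 : sm gf N3334 = N3065 := ded_35_2 (flp_e L24292) (flp_f L17900) (flp_e L14293) L19462 L26487
theorem L26495 : sm gg N2443 = N3335 := rfl
theorem L26497 : sm gc N3335 = N2446 := ded_27_1 (flp_g L19487) (flp_c L19464) L26495
theorem L26499 : sm gd N3335 = N2633 := ded_32_1 (flp_g L20937) (flp_d L19466) L26495
theorem L26501 : sm gi N3335 = N2461 := ded_43_2 (flp_g L19600) (flp_i L19468) L26495
theorem L26503 : sm gf N3335 = N3335 := ded_39_1 (flp_g L26495) (flp_f L19462) L14295 L19462 L26495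
theorem L26504 : sm gh N2443 = N3336 := rfl
theorem L26506 : sm gc N3336 = N2447 := ded_28_1 (flp_h L19496) (flp_c L19464) L26504
theorem L26508 : sm gf N3336 = N2444 := ded_40_1 (flp_h L19470) L19462 L26504
theorem L26510 : sm gd N2444 = N3337 := rfl
theorem L26512 : sm gg N3337 = N3337 := ded_32_2 (flp_d L26510) L19476 L26510
theorem L26513 : sm gc N3337 = N3337 := ded_24_1 (flp_d L26510) L19472 L14315 (flp_c L19472) L26510
theorem L26514 : sm gh N3337 = N2635 := ded_33_2 (flp_d L20950) (flp_h L15366) (flp_d L14298) L19470 L26510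
theorem L26516 : sm gi N2444 = N3338 := rfl
theorem L26518 : sm gc N3338 = N2448 := ded_29_1 (flp_i L19503) (flp_c L19472) L26516
theorem L26520 : sm ge N3338 = N3069 := ded_38_1 (flp_i L24314) (flp_e L19474) L26516
theorem L26522 : sm gg N3338 = N3338 := ded_43_1 (flp_i L26516) L19476 L26516
theorem L26523 : sm gh N3338 = N2464 := ded_44_1 (flp_i L19620) (flp_h L14401) (flp_i L14296) L19470 L26516
theorem L26525 : sm gg N2445 = N3339 := rfl
theorem L26527 : sm gb N3339 = N2449 := ded_21_1 (flp_g L19513) (flp_b L19479) L26525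
theorem L26529 : sm gd N3339 = N2486 := ded_32_1 (flp_g L19807) (flp_d L19483) L26525
theorem L26531 : sm ge N3339 = N2446 := ded_36_1 (flp_g L19487) L19477 L26525
theorem L26533 : sm gi N3339 = N2465 := ded_43_2 (flp_g L19625) (flp_i L19481) L26525
theorem L26535 : sm gh N2445 = N3340 := rfl
theorem L26537 : sm gb N3340 = N2450 := ded_22_1 (flp_h L19523) (flp_b L19479) L26535
theorem L26539 : sm ge N3340 = N2447 := ded_37_1 (flp_h L19496) L19477 L26535
theorem L26541 : sm gf N3340 = N3071 := ded_40_1 (flp_h L24327) (flp_f L19485) L26535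
theorem L26543 : sm gh N2446 = N3341 := rfl
theorem L26545 : sm gb N3341 = N2451 := ded_22_1 (flp_h L19531) (flp_b L19489) L26543
theorem L26547 : sm gf N3341 = N3341 := ded_40_1 (flp_h L26543) L19495 L26543
theorem L26548 : sm gg N3341 = N2447 := ded_42_1 (flp_h L19496) L19487 L26543
theorem L26550 : sm gd N3341 = N3341 := ded_33_1 (flp_h L26543) L19491 L14324 (flp_d L19491) L26543
theorem L26551 : sm gi N2447 = N3342 := rfl
theorem L26553 : sm gb N3342 = N2452 := ded_23_1 (flp_i L19539) (flp_b L19498) L26551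
theorem L26555 : sm gd N3342 = N3342 := ded_34_1 (flp_i L26551) L19502 L26551
theorem L26556 : sm gf N3342 = N2448 := ded_41_1 (flp_i L19503) (flp_f L19500) L26551
theorem L26558 : sm gh N3342 = N2468 := ded_44_1 (flp_i L19648) (flp_h L14419) (flp_i L14306) L19496 L26551
theorem L26560 : sm gf N2449 = N3343 := rfl
theorem L26562 : sm ga N3343 = N3249 := ded_13_1 (flp_f L25762) (flp_a L19515) L26560
theorem L26564 : sm gd N3343 = N2490 := ded_31_1 (flp_f L19841) (flp_d L19517) L26560
theorem L26566 : sm gi N3343 = N2469 := ded_41_2 (flp_f L19656) (flp_i L19521) L26560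
theorem L26569 : sm gg N3343 = N3074 := ded_39_2 (flp_f L24350) (flp_g L17938) (flp_f L14336) L19513 L26560
theorem L26571 : sm gh N2449 = N3344 := rfl
theorem L26573 : sm ga N3344 = N3250 := ded_15_1 (flp_h L25771) (flp_a L19515) L26571
theorem L26575 : sm ge N3344 = N2451 := ded_37_1 (flp_h L19531) (flp_e L19519) L26571
theorem L26577 : sm gg N3344 = N2450 := ded_42_1 (flp_h L19523) L19513 L26571
theorem L26579 : sm gd N2450 = N3345 := rfl
theorem L26581 : sm ga N3345 = N3251 := ded_11_1 (flp_d L25777) (flp_a L19525) L26579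
theorem L26583 : sm gf N3345 = N3076 := ded_31_2 (flp_d L24365) (flp_f L19529) L26579
theorem L26585 : sm ge N3345 = N3345 := ded_30_2 (flp_d L26579) L19527 L14353 (flp_e L19527) L26579
theorem L26588 : sm gi N2450 = N3346 := rfl
theorem L26590 : sm ga N3346 = N3252 := ded_16_1 (flp_i L25784) (flp_a L19525) L26588
theorem L26592 : sm ge N3346 = N2452 := ded_38_1 (flp_i L19539) (flp_e L19527) L26588
theorem L26594 : sm gf N3346 = N3077 := ded_41_1 (flp_i L24373) (flp_f L19529) L26588
theorem L26596 : sm gh N3346 = N2472 := ded_44_1 (flp_i L19673) (flp_h L14440) (flp_i L14332) L19523 L26588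
theorem L26598 : sm gi N2451 = N3347 := rfl
theorem L26600 : sm ga N3347 = N3253 := ded_16_1 (flp_i L25792) (flp_a L19533) L26598
theorem L26602 : sm gd N3347 = N3347 := ded_34_1 (flp_i L26598) L19538 L26598
theorem L26603 : sm gf N3347 = N3347 := ded_41_1 (flp_i L26598) L19535 L26598
theorem L26604 : sm gg N3347 = N2452 := ded_43_1 (flp_i L19539) (flp_g L19536) L26598
theorem L26606 : sm gh N3347 = N2473 := ded_44_1 (flp_i L19677) (flp_h L14444) (flp_i L14344) L19531 L26598
theorem L26608 : sm gf N2453 = N3348 := rfl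
theorem L26610 : sm gb N3348 = N2454 := ded_20_1 (flp_f L19553) L19548 L26608
theorem L26612 : sm gd N3348 = N2646 := ded_31_1 (flp_f L21036) (flp_d L19550) L26608
theorem L26614 : sm gh N2453 = N3349 := rfl
theorem L26616 : sm gb N3349 = N2455 := ded_22_1 (flp_h L19561) L19548 L26614
theorem L26618 : sm gg N3349 = N3349 := ded_42_1 (flp_h L26614) L19552 L26614
theorem L26619 : sm ge N2454 = N3350 := rfl
theorem L26621 : sm ga N3350 = N2460 := ded_12_1 (flp_e L19596) (flp_a L19555) L26619
theorem L26623 : sm gc N3350 = N2456 := ded_25_1 (flp_e L19568) (flp_c L19557) L26619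
theorem L26625 : sm gg N2454 = N3351 := rfl
theorem L26627 : sm ga N3351 = N2461 := ded_14_1 (flp_g L19600) (flp_a L19555) L26625
theorem L26629 : sm gc N3351 = N2457 := ded_27_1 (flp_g L19574) (flp_c L19557) L26625
theorem L26631 : sm gd N3351 = N2649 := ded_32_1 (flp_g L21055) (flp_d L19559) L26625
theorem L26633 : sm gf N3351 = N3351 := ded_39_1 (flp_g L26625) (flp_f L19553) L14368 L19553 L26625
theorem L26634 : sm gh N2454 = N3352 := rfl
theorem L26636 : sm ga N3352 = N2462 := ded_15_1 (flp_h L19607) (flp_a L19555) L26634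
theorem L26638 : sm gc N3352 = N2458 := ded_28_1 (flp_h L19581) (flp_c L19557) L26634
theorem L26640 : sm gf N3352 = N2455 := ded_40_1 (flp_h L19561) L19553 L26634
theorem L26642 : sm gd N2455 = N3353 := rfl
theorem L26644 : sm ga N3353 = N2463 := ded_11_1 (flp_d L19613) (flp_a L19563) L26642
theorem L26646 : sm gg N3353 = N3353 := ded_32_2 (flp_d L26642) L19567 L26642
theorem L26647 : sm gc N3353 = N2525 := ded_24_1 (flp_d L20116) L14758 (flp_d L14382) (flp_c L19565) L26642
theorem L26649 : sm gh N3353 = N2651 := ded_33_2 (flp_d L21070) (flp_h L15447) (flp_d L14369) L19561 L26642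
theorem L26651 : sm gi N2455 = N3354 := rfl
theorem L26653 : sm ga N3354 = N2464 := ded_16_1 (flp_i L19620) (flp_a L19563) L26651
theorem L26655 : sm gc N3354 = N2459 := ded_29_1 (flp_i L19589) (flp_c L19565) L26651
theorem L26657 : sm gg N3354 = N3354 := ded_43_1 (flp_i L26651) L19567 L26651
theorem L26658 : sm gg N2456 = N3355 := rfl
theorem L26660 : sm ga N3355 = N2465 := ded_14_1 (flp_g L19625) (flp_a L19570) L26658
theorem L26662 : sm gd N3355 = N2501 := ded_32_1 (flp_g L19940) (flp_d L19572) L26658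
theorem L26664 : sm ge N3355 = N2457 := ded_36_1 (flp_g L19574) L19568 L26658
theorem L26666 : sm gh N2456 = N3356 := rfl
theorem L26668 : sm ga N3356 = N2466 := ded_15_1 (flp_h L19633) (flp_a L19570) L26666
theorem L26670 : sm ge N3356 = N2458 := ded_37_1 (flp_h L19581) L19568 L26666
theorem L26672 : sm gh N2457 = N3357 := rfl
theorem L26674 : sm ga N3357 = N2467 := ded_15_1 (flp_h L19639) (flp_a L19576) L26672
theorem L26676 : sm gf N3357 = N3357 := ded_40_1 (flp_h L26672) L19580 L26672
theorem L26677 : sm gg N3357 = N2458 := ded_42_1 (flp_h L19581) L19574 L26672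
theorem L26679 : sm gd N3357 = N2529 := ded_33_1 (flp_h L20148) L14774 (flp_h L14392) (flp_d L19578) L26672
theorem L26681 : sm gi N2458 = N3358 := rfl
theorem L26683 : sm ga N3358 = N2468 := ded_16_1 (flp_i L19648) (flp_a L19583) L26681
theorem L26685 : sm gd N3358 = N2530 := ded_34_1 (flp_i L20155) (flp_d L19587) L26681
theorem L26687 : sm gf N3358 = N2459 := ded_41_1 (flp_i L19589) (flp_f L19585) L26681
theorem L26689 : sm gd N2460 = N3359 := rfl
theorem L26691 : sm gc N3359 = N2505 := ded_24_1 (flp_d L19970) L14650 (flp_d L14410) (flp_c L19598) L26689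
theorem L26693 : sm ge N3359 = N2657 := ded_30_2 (flp_d L21122) (flp_e L15489) (flp_d L14399) L19596 L26689
theorem L26695 : sm gg N2460 = N3360 := rfl
theorem L26697 : sm gc N3360 = N2465 := ded_27_1 (flp_g L19625) (flp_c L19598) L26695
theorem L26699 : sm ge N3360 = N2461 := ded_36_1 (flp_g L19600) L19596 L26695
theorem L26701 : sm gh N2460 = N3361 := rfl
theorem L26703 : sm gc N3361 = N2466 := ded_28_1 (flp_h L19633) (flp_c L19598) L26701
theorem L26705 : sm ge N3361 = N2462 := ded_37_1 (flp_h L19607) L19596 L26701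
theorem L26707 : sm gh N2461 = N3362 := rfl
theorem L26709 : sm gc N3362 = N2467 := ded_28_1 (flp_h L19639) (flp_c L19602) L26707
theorem L26711 : sm gf N3362 = N3362 := ded_40_1 (flp_h L26707) L19606 L26707
theorem L26712 : sm gg N3362 = N2462 := ded_42_1 (flp_h L19607) L19600 L26707
theorem L26714 : sm gd N2462 = N3363 := rfl
theorem L26716 : sm gf N3363 = N2463 := ded_31_2 (flp_d L19613) (flp_f L19611) L26714
theorem L26718 : sm gc N3363 = N2534 := ded_24_1 (flp_d L20187) L14811 (flp_d L14425) (flp_c L19609) L26714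
theorem L26720 : sm gh N3363 = N2661 := ded_33_2 (flp_d L21147) (flp_h L15499) (flp_d L14399) L19607 L26714
theorem L26722 : sm gi N2462 = N3364 := rfl
theorem L26724 : sm gc N3364 = N2468 := ded_29_1 (flp_i L19648) (flp_c L19609) L26722
theorem L26726 : sm gf N3364 = N2464 := ded_41_1 (flp_i L19620) (flp_f L19611) L26722
theorem L26728 : sm ge N2463 = N3365 := rfl
theorem L26730 : sm gc N3365 = N2536 := ded_25_1 (flp_e L20202) (flp_c L19616) L26728
theorem L26732 : sm gg N3365 = N3365 := ded_36_2 (flp_e L26728) L19615 L26728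
theorem L26733 : sm gh N3365 = N2663 := ded_37_2 (flp_e L21159) (flp_h L19618) L26728
theorem L26735 : sm gi N2463 = N3366 := rfl
theorem L26737 : sm gc N3366 = N2537 := ded_29_1 (flp_i L20209) (flp_c L19616) L26735
theorem L26739 : sm gd N3366 = N2464 := ded_34_1 (flp_i L19620) L19613 L26735
theorem L26741 : sm gg N3366 = N3366 := ded_43_1 (flp_i L26735) L19615 L26735
theorem L26742 : sm gf N2465 = N3367 := rfl
theorem L26744 : sm gb N3367 = N2469 := ded_20_1 (flp_f L19656) (flp_b L19627) L26742
theorem L26746 : sm gd N3367 = N2510 := ded_31_1 (flp_f L20007) (flp_d L19629) L26742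
theorem L26748 : sm ge N3367 = N3367 := ded_35_1 (flp_f L26742) L19631 L14418 (flp_e L19631) L26742
theorem L26749 : sm gh N2465 = N3368 := rfl
theorem L26751 : sm gb N3368 = N2470 := ded_22_1 (flp_h L19661) (flp_b L19627) L26749
theorem L26753 : sm ge N3368 = N2467 := ded_37_1 (flp_h L19639) (flp_e L19631) L26749
theorem L26755 : sm gg N3368 = N2466 := ded_42_1 (flp_h L19633) L19625 L26749
theorem L26757 : sm gd N2466 = N3369 := rfl
theorem L26759 : sm gb N3369 = N2471 := ded_18_1 (flp_d L19667) (flp_b L19635) L26757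
theorem L26761 : sm ge N3369 = N2540 := ded_30_2 (flp_d L20232) L14842 (flp_d L14425) (flp_e L19637) L26757
theorem L26763 : sm gh N3369 = N2512 := ded_33_2 (flp_d L20021) (flp_h L14683) (flp_d L14410) L19633 L26757
theorem L26765 : sm gi N2466 = N3370 := rfl
theorem L26767 : sm gb N3370 = N2472 := ded_23_1 (flp_i L19673) (flp_b L19635) L26765
theorem L26769 : sm ge N3370 = N2468 := ded_38_1 (flp_i L19648) (flp_e L19637) L26765
theorem L26771 : sm gi N2467 = N3371 := rfl
theorem L26773 : sm gb N3371 = N2473 := ded_23_1 (flp_i L19677) (flp_b L19641) L26771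
theorem L26775 : sm gd N3371 = N2542 := ded_34_1 (flp_i L20247) (flp_d L19646) L26771
theorem L26777 : sm gf N3371 = N3371 := ded_41_1 (flp_i L26771) L19643 L26771
theorem L26778 : sm gg N3371 = N2468 := ded_43_1 (flp_i L19648) (flp_g L19644) L26771
theorem L26780 : sm gh N2469 = N3372 := rfl
theorem L26783 : sm gf N3372 = N2470 := ded_40_1 (flp_h L19661) L19656 L26780
theorem L26785 : sm gd N2470 = N3373 := rfl
theorem L26787 : sm gg N3373 = N2471 := ded_32_2 (flp_d L19667) (flp_g L19665) L26785
theorem L26789 : sm ge N3373 = N2544 := ded_30_2 (flp_d L20262) L14870 (flp_d L14449) (flp_e L19663) L26785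
theorem L26793 : sm gi N2470 = N3374 := rfl
theorem L26795 : sm ge N3374 = N2473 := ded_38_1 (flp_i L19677) (flp_e L19663) L26793
theorem L26797 : sm gg N3374 = N2472 := ded_43_1 (flp_i L19673) (flp_g L19665) L26793
theorem L26799 : sm gc N2471 = N3375 := rfl
theorem L26801 : sm ge N3375 = N2546 := ded_25_2 (flp_c L20276) (flp_e L19669) L26799
theorem L26803 : sm gh N3375 = N2518 := ded_28_2 (flp_c L20063) (flp_h L19671) L26799
theorem L26805 : sm gi N2471 = N3376 := rfl
theorem L26807 : sm gd N3376 = N2472 := ded_34_1 (flp_i L19673) L19667 L26805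
theorem L26809 : sm ge N3376 = N2547 := ded_38_1 (flp_i L20282) (flp_e L19669) L26805
theorem L26811 : sm gf N2474 = N3377 := rfl
theorem L26813 : sm ga N3377 = N3377 := ded_13_1 (flp_f L26811) L19694 L26811
theorem L26814 : sm gb N3377 = N2475 := ded_20_1 (flp_f L19697) L19684 L26811
theorem L26816 : sm gc N3377 = N3254 := ded_26_1 (flp_f L25800) (flp_c L19695) L26811
theorem L26818 : sm gd N3377 = N2671 := ded_31_1 (flp_f L21222) (flp_d L19686) L26811
theorem L26820 : sm gi N3377 = N2495 := ded_41_2 (flp_f L19891) (flp_i L19692) L26811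
theorem L26822 : sm gh N2474 = N3378 := rfl
theorem L26824 : sm ga N3378 = N3378 := ded_15_1 (flp_h L26822) L19694 L26822
theorem L26825 : sm gb N3378 = N2476 := ded_22_1 (flp_h L19707) L19684 L26822
theorem L26827 : sm gc N3378 = N3255 := ded_28_1 (flp_h L25808) (flp_c L19695) L26822
theorem L26829 : sm ge N3378 = N3080 := ded_37_1 (flp_h L24396) (flp_e L19688) L26822
theorem L26831 : sm gg N3378 = N2856 := ded_42_1 (flp_h L22685) (flp_g L19690) L26822
theorem L26833 : sm ge N2475 = N3379 := rfl
theorem L26835 : sm ga N3379 = N2481 := ded_12_1 (flp_e L19761) (flp_a L19699) L26833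
theorem L26837 : sm gc N3379 = N2477 := ded_25_1 (flp_e L19717) (flp_c L19701) L26833
theorem L26839 : sm gi N3379 = N2497 := ded_38_2 (flp_e L19906) (flp_i L19705) L26833
theorem L26841 : sm gf N3379 = N3081 := ded_35_2 (flp_e L24405) (flp_f L17977) (flp_e L14461) L19697 L26833
theorem L26843 : sm gg N2475 = N3380 := rfl
theorem L26845 : sm ga N3380 = N2482 := ded_14_1 (flp_g L19770) (flp_a L19699) L26843
theorem L26847 : sm gc N3380 = N2478 := ded_27_1 (flp_g L19727) (flp_c L19701) L26843
theorem L26849 : sm gd N3380 = N2674 := ded_32_1 (flp_g L21249) (flp_d L19703) L26843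
theorem L26851 : sm gi N3380 = N2498 := ded_43_2 (flp_g L19912) (flp_i L19705) L26843
theorem L26853 : sm gf N3380 = N2858 := ded_39_1 (flp_g L22704) (flp_f L16673) (flp_g L14463) L19697 L26843
theorem L26855 : sm gh N2475 = N3381 := rfl
theorem L26857 : sm ga N3381 = N2483 := ded_15_1 (flp_h L19781) (flp_a L19699) L26855
theorem L26859 : sm gc N3381 = N2479 := ded_28_1 (flp_h L19739) (flp_c L19701) L26855
theorem L26861 : sm gf N3381 = N2476 := ded_40_1 (flp_h L19707) L19697 L26855
theorem L26863 : sm gd N2476 = N3382 := rfl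
theorem L26865 : sm ga N3382 = N2484 := ded_11_1 (flp_d L19788) (flp_a L19709) L26863
theorem L26867 : sm gg N3382 = N2860 := ded_32_2 (flp_d L22722) (flp_g L19715) L26863
theorem L26869 : sm gc N3382 = N3382 := ded_24_1 (flp_d L26863) L19711 L14489 (flp_c L19711) L26863
theorem L26870 : sm gh N3382 = N2676 := ded_33_2 (flp_d L21268) (flp_h L15596) (flp_d L14467) L19707 L26863
theorem L26872 : sm gi N2476 = N3383 := rfl
theorem L26874 : sm ga N3383 = N2485 := ded_16_1 (flp_i L19796) (flp_a L19709) L26872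
theorem L26876 : sm gc N3383 = N2480 := ded_29_1 (flp_i L19748) (flp_c L19711) L26872
theorem L26878 : sm ge N3383 = N3085 := ded_38_1 (flp_i L24437) (flp_e L19713) L26872
theorem L26882 : sm gh N3383 = N2500 := ded_44_1 (flp_i L19931) (flp_h L14610) (flp_i L14465) L19707 L26872
theorem L26884 : sm gg N2477 = N3384 := rfl
theorem L26886 : sm ga N3384 = N2486 := ded_14_1 (flp_g L19807) (flp_a L19719) L26884
theorem L26888 : sm gb N3384 = N3261 := ded_21_1 (flp_g L25867) (flp_b L19721) L26884
theorem L26890 : sm ge N3384 = N2478 := ded_36_1 (flp_g L19727) L19717 L26884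
theorem L26892 : sm gi N3384 = N2501 := ded_43_2 (flp_g L19940) (flp_i L19723) L26884
theorem L26894 : sm gh N2477 = N3385 := rfl
theorem L26896 : sm ga N3385 = N2487 := ded_15_1 (flp_h L19815) (flp_a L19719) L26894
theorem L26898 : sm gb N3385 = N3262 := ded_22_1 (flp_h L25875) (flp_b L19721) L26894
theorem L26900 : sm ge N3385 = N2479 := ded_37_1 (flp_h L19739) L19717 L26894
theorem L26902 : sm gf N3385 = N3087 := ded_40_1 (flp_h L24453) (flp_f L19725) L26894
theorem L26904 : sm gh N2478 = N3386 := rfl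
theorem L26908 : sm gb N3386 = N3263 := ded_22_1 (flp_h L25883) (flp_b L19731) L26904
theorem L26910 : sm gf N3386 = N2864 := ded_40_1 (flp_h L22760) (flp_f L19737) L26904
theorem L26912 : sm gg N3386 = N2479 := ded_42_1 (flp_h L19739) L19727 L26904
theorem L26915 : sm gi N2479 = N3387 := rfl
theorem L26926 : sm gd N2481 = N3388 := rfl
theorem L26928 : sm gb N3388 = N3388 := ded_18_1 (flp_d L26926) L19763 L26926
theorem L26929 : sm gf N3388 = N3090 := ded_31_2 (flp_d L24483) (flp_f L19768) L26926
theorem L26931 : sm gi N3388 = N2505 := ded_34_2 (flp_d L19970) (flp_i L19766) L26926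
theorem L26933 : sm ge N3388 = N2680 := ded_30_2 (flp_d L21305) (flp_e L15634) (flp_d L14508) L19761 L26926
theorem L26935 : sm gg N2481 = N3389 := rfl
theorem L26937 : sm gb N3389 = N3389 := ded_21_1 (flp_g L26935) L19763 L26935
theorem L26938 : sm gc N3389 = N2486 := ded_27_1 (flp_g L19807) (flp_c L19764) L26935
theorem L26940 : sm ge N3389 = N2482 := ded_36_1 (flp_g L19770) L19761 L26935
theorem L26942 : sm gi N3389 = N2506 := ded_43_2 (flp_g L19975) (flp_i L19766) L26935
theorem L26944 : sm gh N2481 = N3390 := rfl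
theorem L26946 : sm gb N3390 = N3390 := ded_22_1 (flp_h L26944) L19763 L26944
theorem L26947 : sm gc N3390 = N2487 := ded_28_1 (flp_h L19815) (flp_c L19764) L26944
theorem L26949 : sm ge N3390 = N2483 := ded_37_1 (flp_h L19781) L19761 L26944
theorem L26951 : sm gf N3390 = N3092 := ded_40_1 (flp_h L24494) (flp_f L19768) L26944
theorem L26953 : sm gh N2482 = N3391 := rfl
theorem L26956 : sm gc N3391 = N2488 := ded_28_1 (flp_h L19823) (flp_c L19773) L26953
theorem L26958 : sm gf N3391 = N2869 := ded_40_1 (flp_h L22808) (flp_f L19779) L26953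
theorem L26960 : sm gg N3391 = N2483 := ded_42_1 (flp_h L19781) L19770 L26953
theorem L26962 : sm gd N2483 = N3392 := rfl
theorem L26964 : sm gb N3392 = N3392 := ded_18_1 (flp_d L26962) L19783 L26962
theorem L26965 : sm gf N3392 = N2484 := ded_31_2 (flp_d L19788) (flp_f L19786) L26962
theorem L26967 : sm gc N3392 = N3392 := ded_24_1 (flp_d L26962) L19784 L14545 (flp_c L19784) L26962
theorem L26968 : sm gh N3392 = N2684 := ded_33_2 (flp_d L21339) (flp_h L15651) (flp_d L14508) L19781 L26962
theorem L26970 : sm gi N2483 = N3393 := rfl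
theorem L26973 : sm gc N3393 = N2489 := ded_29_1 (flp_i L19832) (flp_c L19784) L26970
theorem L26975 : sm gf N3393 = N2485 := ded_41_1 (flp_i L19796) (flp_f L19786) L26970
theorem L26977 : sm gh N3393 = N2509 := ded_44_1 (flp_i L19999) (flp_h L14661) (flp_i L14510) L19781 L26970
theorem L26979 : sm ge N2484 = N3394 := rfl
theorem L26985 : sm gh N3394 = N2685 := ded_37_2 (flp_e L21346) (flp_h L19794) L26979
theorem L26987 : sm gd N3394 = N3096 := ded_30_1 (flp_e L24525) (flp_d L18048) (flp_e L14517) L19788 L26979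
theorem L26989 : sm gi N2484 = N3395 := rfl
theorem L26991 : sm gb N3395 = N3395 := ded_23_1 (flp_i L26989) L19790 L26989
theorem L26992 : sm gc N3395 = N3395 := ded_29_1 (flp_i L26989) L19793 L26989
theorem L26993 : sm gd N3395 = N2485 := ded_34_1 (flp_i L19796) L19788 L26989
theorem L26997 : sm gh N3395 = N3395 := ded_44_1 (flp_i L26989) L19794 L15664 (flp_h L19794) L26989
theorem L27008 : sm gh N2486 = N3397 := rfl
theorem L27014 : sm gg N3397 = N2487 := ded_42_1 (flp_h L19815) L19807 L27008
theorem L27016 : sm gd N2487 = N3398 := rfl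
theorem L27020 : sm gf N3398 = N3100 := ded_31_2 (flp_d L24556) (flp_f L19821) L27016
theorem L27023 : sm gi N2487 = N3399 := rfl
theorem L27044 : sm gh N2490 = N3401 := rfl
theorem L27046 : sm ga N3401 = N3277 := ded_15_1 (flp_h L26007) (flp_a L19843) L27044
theorem L27049 : sm ge N3401 = N2879 := ded_37_1 (flp_h L22891) (flp_e L19848) L27044
theorem L27051 : sm gf N3401 = N2491 := ded_40_1 (flp_h L19852) L19841 L27044
theorem L27053 : sm gg N3401 = N3103 := ded_42_1 (flp_h L24578) (flp_g L19850) L27044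
theorem L27055 : sm gd N2491 = N3402 := rfl
theorem L27057 : sm ga N3402 = N3278 := ded_11_1 (flp_d L26016) (flp_a L19854) L27055
theorem L27059 : sm gg N3402 = N2492 := ded_32_2 (flp_d L19861) (flp_g L19859) L27055
theorem L27062 : sm gi N2491 = N3403 := rfl
theorem L27069 : sm gg N3403 = N2493 := ded_43_1 (flp_i L19868) (flp_g L19859) L27062
theorem L27073 : sm gc N2492 = N3404 := rfl
theorem L27078 : sm gf N3404 = N3106 := ded_26_2 (flp_c L24604) (flp_f L19865) L27073
theorem L27090 : sm ge N2495 = N3406 := rfl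
theorem L27092 : sm ga N3406 = N3406 := ded_12_1 (flp_e L27090) L19893 L27090
theorem L27093 : sm gb N3406 = N2497 := ded_19_1 (flp_e L19906) (flp_b L19894) L27090
theorem L27095 : sm gg N2495 = N3407 := rfl
theorem L27097 : sm ga N3407 = N3407 := ded_14_1 (flp_g L27095) L19893 L27095
theorem L27098 : sm gb N3407 = N2498 := ded_21_1 (flp_g L19912) (flp_b L19894) L27095
theorem L27100 : sm gd N3407 = N2693 := ded_32_1 (flp_g L21411) (flp_d L19896) L27095
theorem L27102 : sm gf N3407 = N2885 := ded_39_1 (flp_g L22942) (flp_f L16853) (flp_g L14599) L19891 L27095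
theorem L27104 : sm gh N2495 = N3408 := rfl
theorem L27106 : sm ga N3408 = N3408 := ded_15_1 (flp_h L27104) L19893 L27104
theorem L27107 : sm gb N3408 = N2499 := ded_22_1 (flp_h L19922) (flp_b L19894) L27104
theorem L27109 : sm gf N3408 = N2496 := ded_40_1 (flp_h L19898) L19891 L27104
theorem L27111 : sm gd N3408 = N3408 := ded_33_1 (flp_h L27104) L19896 L15722 (flp_d L19896) L27104
theorem L27112 : sm gi N2496 = N3409 := rfl
theorem L27114 : sm ga N3409 = N3409 := ded_16_1 (flp_i L27112) L19900 L27112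
theorem L27115 : sm gb N3409 = N2500 := ded_23_1 (flp_i L19931) (flp_b L19901) L27112
theorem L27117 : sm gd N3409 = N3409 := ded_34_1 (flp_i L27112) L19905 L27112
theorem L27118 : sm gg N3409 = N2887 := ded_43_1 (flp_i L22957) (flp_g L19903) L27112
theorem L27120 : sm gd N2497 = N3410 := rfl
theorem L27122 : sm ga N3410 = N2505 := ded_11_1 (flp_d L19970) (flp_a L19908) L27120
theorem L27124 : sm ge N3410 = N2694 := ded_30_2 (flp_d L21420) (flp_e L15723) (flp_d L14608) L19906 L27120
theorem L27126 : sm gg N2497 = N3411 := rfl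
theorem L27128 : sm ga N3411 = N2506 := ded_14_1 (flp_g L19975) (flp_a L19908) L27126
theorem L27130 : sm gc N3411 = N2501 := ded_27_1 (flp_g L19940) (flp_c L19910) L27126
theorem L27132 : sm ge N3411 = N2498 := ded_36_1 (flp_g L19912) L19906 L27126
theorem L27134 : sm gh N2497 = N3412 := rfl
theorem L27136 : sm ga N3412 = N2507 := ded_15_1 (flp_h L19982) (flp_a L19908) L27134
theorem L27138 : sm gc N3412 = N2502 := ded_28_1 (flp_h L19946) (flp_c L19910) L27134
theorem L27140 : sm ge N3412 = N2499 := ded_37_1 (flp_h L19922) L19906 L27134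
theorem L27142 : sm gh N2498 = N3413 := rfl
theorem L27146 : sm gc N3413 = N2503 := ded_28_1 (flp_h L19952) (flp_c L19916) L27142
theorem L27153 : sm gi N2499 = N3414 := rfl
theorem L27160 : sm gf N3414 = N2500 := ded_41_1 (flp_i L19931) (flp_f L19928) L27153
theorem L27162 : sm gf N2501 = N3415 := rfl
theorem L27166 : sm ge N3415 = N2893 := ded_35_1 (flp_f L23004) L16901 (flp_f L14629) (flp_e L19944) L27162
theorem L27168 : sm gh N2501 = N3416 := rfl
theorem L27172 : sm ge N3416 = N2503 := ded_37_1 (flp_h L19952) (flp_e L19944) L27168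
theorem L27174 : sm gg N3416 = N2502 := ded_42_1 (flp_h L19946) L19940 L27168
theorem L27176 : sm gd N2502 = N3417 := rfl
theorem L27178 : sm ga N3417 = N2512 := ded_11_1 (flp_d L20021) (flp_a L19948) L27176
theorem L27180 : sm ge N3417 = N2550 := ded_30_2 (flp_d L20305) L14906 (flp_d L14637) (flp_e L19950) L27176
theorem L27182 : sm gi N2502 = N3418 := rfl
theorem L27188 : sm gi N2503 = N3419 := rfl
theorem L27194 : sm gf N3419 = N2897 := ded_41_1 (flp_i L23030) (flp_f L19956) L27188
theorem L27196 : sm gg N3419 = N2504 := ded_43_1 (flp_i L19962) (flp_g L19958) L27188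
theorem L27198 : sm gg N2505 = N3420 := rfl
theorem L27200 : sm gb N3420 = N3420 := ded_21_1 (flp_g L27198) L19972 L27198
theorem L27201 : sm gd N3420 = N2506 := ded_32_1 (flp_g L19975) L19970 L27198
theorem L27203 : sm ge N3420 = N2697 := ded_36_1 (flp_g L21443) (flp_e L19973) L27198
theorem L27205 : sm gh N2505 = N3421 := rfl
theorem L27207 : sm gb N3421 = N3421 := ded_22_1 (flp_h L27205) L19972 L27205
theorem L27208 : sm ge N3421 = N2698 := ded_37_1 (flp_h L21448) (flp_e L19973) L27205
theorem L27210 : sm gf N2506 = N3422 := rfl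
theorem L27215 : sm ge N3422 = N2900 := ded_35_1 (flp_f L23052) L16936 (flp_f L14659) (flp_e L19980) L27210
theorem L27217 : sm gh N2506 = N3423 := rfl
theorem L27220 : sm gc N3423 = N2511 := ded_28_1 (flp_h L20013) (flp_c L19978) L27217
theorem L27222 : sm ge N3423 = N2508 := ded_37_1 (flp_h L19989) (flp_e L19980) L27217
theorem L27224 : sm gg N3423 = N2507 := ded_42_1 (flp_h L19982) L19975 L27217
theorem L27226 : sm gd N2507 = N3424 := rfl
theorem L27228 : sm gb N3424 = N3424 := ded_18_1 (flp_d L27226) L19984 L27226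
theorem L27229 : sm ge N3424 = N3424 := ded_30_2 (flp_d L27226) L19987 L14668 (flp_e L19987) L27226
theorem L27230 : sm gi N2507 = N3425 := rfl
theorem L27235 : sm ge N3425 = N2509 := ded_38_1 (flp_i L19999) (flp_e L19987) L27230
theorem L27237 : sm gi N2508 = N3426 := rfl
theorem L27245 : sm gg N3426 = N2509 := ded_43_1 (flp_i L19999) (flp_g L19996) L27237
theorem L27247 : sm gh N2510 = N3427 := rfl
theorem L27253 : sm gf N3427 = N2511 := ded_40_1 (flp_h L20013) L20007 L27247
theorem L27255 : sm gd N2511 = N3428 := rfl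
theorem L27257 : sm gb N3428 = N2516 := ded_18_1 (flp_d L20050) (flp_b L20015) L27255
theorem L27259 : sm gg N3428 = N2512 := ded_32_2 (flp_d L20021) (flp_g L20019) L27255
theorem L27261 : sm ge N3428 = N2554 := ded_30_2 (flp_d L20339) L14940 (flp_d L14697) (flp_e L20017) L27255
theorem L27271 : sm gc N2512 = N3430 := rfl
theorem L27273 : sm ge N3430 = N2556 := ded_25_2 (flp_c L20355) (flp_e L20025) L27271
theorem L27283 : sm gd N2515 = N3432 := rfl
theorem L27285 : sm gf N3432 = N2516 := ded_31_2 (flp_d L20050) (flp_f L20048) L27283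
theorem L27294 : sm gc N2516 = N3434 := rfl
theorem L27296 : sm ge N3434 = N2560 := ded_25_2 (flp_c L20381) (flp_e L20054) L27294
theorem L27298 : sm gg N3434 = N2518 := ded_27_2 (flp_c L20063) (flp_g L20052) L27294
theorem L27309 : sm gb N2518 = N3436 := rfl
theorem L27311 : sm gd N3436 = N3436 := ded_18_2 (flp_b L27309) L20067 L27309
theorem L27312 : sm ge N3436 = N2562 := ded_19_2 (flp_b L20393) (flp_e L20065) L27309
theorem L27321 : sm gh N2519 = N3438 := rfl
theorem L27325 : sm ge N2520 = N3439 := rfl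
theorem L27327 : sm ga N3439 = N3439 := ded_12_1 (flp_e L27325) L20076 L27325
theorem L27328 : sm gb N3439 = N2522 := ded_19_1 (flp_e L20089) (flp_b L20077) L27325
theorem L27330 : sm gi N3439 = N3439 := ded_38_2 (flp_e L27325) L20081 L27325
theorem L27331 : sm gd N3439 = N3439 := ded_30_1 (flp_e L27325) L20079 L15775 (flp_d L20079) L27325
theorem L27332 : sm gf N3439 = N3439 := ded_35_2 (flp_e L27325) (flp_f L20074) L14741 L20074 L27325
theorem L27333 : sm gg N2520 = N3440 := rfl
theorem L27335 : sm ga N3440 = N3440 := ded_14_1 (flp_g L27333) L20076 L27333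
theorem L27336 : sm gb N3440 = N2523 := ded_21_1 (flp_g L20098) (flp_b L20077) L27333
theorem L27338 : sm gd N3440 = N2700 := ded_32_1 (flp_g L21462) (flp_d L20079) L27333
theorem L27340 : sm gi N3440 = N3440 := ded_43_2 (flp_g L27333) L20081 L27333
theorem L27341 : sm gf N3440 = N3440 := ded_39_1 (flp_g L27333) (flp_f L20074) L14742 L20074 L27333
theorem L27342 : sm gh N2520 = N3441 := rfl
theorem L27344 : sm ga N3441 = N3441 := ded_15_1 (flp_h L27342) L20076 L27342
theorem L27345 : sm gb N3441 = N2524 := ded_22_1 (flp_h L20108) (flp_b L20077) L27342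
theorem L27347 : sm gf N3441 = N2521 := ded_40_1 (flp_h L20082) L20074 L27342
theorem L27349 : sm gd N2521 = N3442 := rfl
theorem L27351 : sm ga N3442 = N3442 := ded_11_1 (flp_d L27349) L20084 L27349
theorem L27352 : sm gb N3442 = N2525 := ded_18_1 (flp_d L20116) (flp_b L20085) L27349
theorem L27354 : sm gg N3442 = N3442 := ded_32_2 (flp_d L27349) L20088 L27349
theorem L27355 : sm gh N3442 = N2702 := ded_33_2 (flp_d L21480) (flp_h L15776) (flp_d L14739) L20082 L27349
theorem L27357 : sm gi N2521 = N3443 := rfl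
theorem L27359 : sm ga N3443 = N3443 := ded_16_1 (flp_i L27357) L20084 L27357
theorem L27360 : sm gb N3443 = N2526 := ded_23_1 (flp_i L20123) (flp_b L20085) L27357
theorem L27362 : sm ge N3443 = N3443 := ded_38_1 (flp_i L27357) L20087 L27357
theorem L27363 : sm gg N3443 = N3443 := ded_43_1 (flp_i L27357) L20088 L27357
theorem L27364 : sm gh N3443 = N3443 := ded_44_1 (flp_i L27357) (flp_h L20082) L14743 L20082 L27357
theorem L27365 : sm gg N2522 = N3444 := rfl
theorem L27367 : sm ga N3444 = N2531 := ded_14_1 (flp_g L20162) (flp_a L20091) L27365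
theorem L27369 : sm gc N3444 = N2527 := ded_27_1 (flp_g L20132) (flp_c L20093) L27365
theorem L27372 : sm ge N3444 = N2523 := ded_36_1 (flp_g L20098) L20089 L27365
theorem L27375 : sm gh N2522 = N3445 := rfl
theorem L27377 : sm ga N3445 = N2532 := ded_15_1 (flp_h L20171) (flp_a L20091) L27375
theorem L27379 : sm gc N3445 = N2528 := ded_28_1 (flp_h L20141) (flp_c L20093) L27375
theorem L27381 : sm ge N3445 = N2524 := ded_37_1 (flp_h L20108) L20089 L27375
theorem L27383 : sm gf N3445 = N3445 := ded_40_1 (flp_h L27375) L20097 L27375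
theorem L27384 : sm gh N2523 = N3446 := rfl
theorem L27386 : sm ga N3446 = N2533 := ded_15_1 (flp_h L20179) (flp_a L20100) L27384
theorem L27388 : sm gc N3446 = N2529 := ded_28_1 (flp_h L20148) (flp_c L20102) L27384
theorem L27390 : sm gf N3446 = N3446 := ded_40_1 (flp_h L27384) L20107 L27384
theorem L27391 : sm gg N3446 = N2524 := ded_42_1 (flp_h L20108) L20098 L27384
theorem L27393 : sm gd N2524 = N3447 := rfl
theorem L27395 : sm ga N3447 = N2534 := ded_11_1 (flp_d L20187) (flp_a L20110) L27393
theorem L27397 : sm gf N3447 = N2525 := ded_31_2 (flp_d L20116) (flp_f L20114) L27393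
theorem L27399 : sm gh N3447 = N2705 := ded_33_2 (flp_d L21506) (flp_h L15794) (flp_d L14751) L20108 L27393
theorem L27401 : sm gi N2524 = N3448 := rfl
theorem L27403 : sm ga N3448 = N2535 := ded_16_1 (flp_i L20194) (flp_a L20110) L27401
theorem L27405 : sm gc N3448 = N2530 := ded_29_1 (flp_i L20155) (flp_c L20112) L27401
theorem L27407 : sm gf N3448 = N2526 := ded_41_1 (flp_i L20123) (flp_f L20114) L27401
theorem L27409 : sm gh N3448 = N3448 := ded_44_1 (flp_i L27401) (flp_h L20108) L14753 L20108 L27401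
theorem L27410 : sm ge N2525 = N3449 := rfl
theorem L27412 : sm ga N3449 = N2536 := ded_12_1 (flp_e L20202) (flp_a L20118) L27410
theorem L27414 : sm gg N3449 = N3449 := ded_36_2 (flp_e L27410) L20120 L27410
theorem L27415 : sm gh N3449 = N2707 := ded_37_2 (flp_e L21522) (flp_h L20121) L27410
theorem L27417 : sm gd N3449 = N3449 := ded_30_1 (flp_e L27410) (flp_d L20116) L14760 L20116 L27410
theorem L27418 : sm gi N2525 = N3450 := rfl
theorem L27420 : sm ga N3450 = N2537 := ded_16_1 (flp_i L20209) (flp_a L20118) L27418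
theorem L27422 : sm gd N3450 = N2526 := ded_34_1 (flp_i L20123) L20116 L27418
theorem L27424 : sm gg N3450 = N3450 := ded_43_1 (flp_i L27418) L20120 L27418
theorem L27434 : sm gh N2527 = N3452 := rfl
theorem L27436 : sm ga N3452 = N2539 := ded_15_1 (flp_h L20224) (flp_a L20134) L27434
theorem L27440 : sm gg N3452 = N2528 := ded_42_1 (flp_h L20141) L20132 L27434
theorem L27442 : sm gd N2528 = N3453 := rfl
theorem L27444 : sm ga N3453 = N2540 := ded_11_1 (flp_d L20232) (flp_a L20143) L27442
theorem L27446 : sm gf N3453 = N3453 := ded_31_2 (flp_d L27442) L20147 L27442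
theorem L27447 : sm gh N3453 = N2550 := ded_33_2 (flp_d L20305) (flp_h L14901) (flp_d L14767) L20141 L27442
theorem L27449 : sm gi N2528 = N3454 := rfl
theorem L27451 : sm ga N3454 = N2541 := ded_16_1 (flp_i L20239) (flp_a L20143) L27449
theorem L27453 : sm ge N3454 = N2530 := ded_38_1 (flp_i L20155) (flp_e L20145) L27449
theorem L27455 : sm gf N3454 = N3454 := ded_41_1 (flp_i L27449) L20147 L27449
theorem L27456 : sm gh N3454 = N3454 := ded_44_1 (flp_i L27449) (flp_h L20141) L14766 L20141 L27449
theorem L27457 : sm gi N2529 = N3455 := rfl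
theorem L27459 : sm ga N3455 = N2542 := ded_16_1 (flp_i L20247) (flp_a L20150) L27457
theorem L27461 : sm gf N3455 = N3455 := ded_41_1 (flp_i L27457) L20152 L27457
theorem L27462 : sm gg N3455 = N2530 := ded_43_1 (flp_i L20155) (flp_g L20153) L27457
theorem L27464 : sm gh N3455 = N3455 := ded_44_1 (flp_i L27457) (flp_h L20148) L14776 L20148 L27457
theorem L27474 : sm gh N2531 = N3457 := rfl
theorem L27477 : sm gc N3457 = N2539 := ded_28_1 (flp_h L20224) (flp_c L20165) L27474
theorem L27479 : sm ge N3457 = N2533 := ded_37_1 (flp_h L20179) (flp_e L20168) L27474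
theorem L27481 : sm gg N3457 = N2532 := ded_42_1 (flp_h L20171) L20162 L27474
theorem L27483 : sm gd N2532 = N3458 := rfl
theorem L27485 : sm gb N3458 = N3458 := ded_18_1 (flp_d L27483) L20173 L27483
theorem L27486 : sm gf N3458 = N3458 := ded_31_2 (flp_d L27483) L20178 L27483
theorem L27487 : sm gh N3458 = N3458 := ded_33_2 (flp_d L27483) (flp_h L20171) L14797 L20171 L27483
theorem L27488 : sm gi N2532 = N3459 := rfl
theorem L27490 : sm gb N3459 = N3459 := ded_23_1 (flp_i L27488) L20173 L27488
theorem L27491 : sm gc N3459 = N2541 := ded_29_1 (flp_i L20239) (flp_c L20174) L27488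
theorem L27493 : sm ge N3459 = N2535 := ded_38_1 (flp_i L20194) (flp_e L20176) L27488
theorem L27495 : sm gf N3459 = N3459 := ded_41_1 (flp_i L27488) L20178 L27488
theorem L27496 : sm gh N3459 = N3459 := ded_44_1 (flp_i L27488) (flp_h L20171) L14796 L20171 L27488
theorem L27497 : sm gd N2533 = N3460 := rfl
theorem L27499 : sm gb N3460 = N3460 := ded_18_1 (flp_d L27497) L20181 L27497
theorem L27500 : sm gf N3460 = N3460 := ded_31_2 (flp_d L27497) L20184 L27497
theorem L27501 : sm gg N3460 = N2534 := ded_32_2 (flp_d L20187) (flp_g L20185) L27497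
theorem L27503 : sm gh N3460 = N2710 := ded_33_2 (flp_d L21546) (flp_h L15836) (flp_d L14804) L20179 L27497
theorem L27505 : sm gi N2533 = N3461 := rfl
theorem L27507 : sm gb N3461 = N3461 := ded_23_1 (flp_i L27505) L20181 L27505
theorem L27508 : sm gc N3461 = N2542 := ded_29_1 (flp_i L20247) (flp_c L20182) L27505
theorem L27510 : sm gf N3461 = N3461 := ded_41_1 (flp_i L27505) L20184 L27505
theorem L27511 : sm gg N3461 = N2535 := ded_43_1 (flp_i L20194) (flp_g L20185) L27505
theorem L27513 : sm gh N3461 = N3461 := ded_44_1 (flp_i L27505) (flp_h L20179) L14806 L20179 L27505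
theorem L27514 : sm ge N2534 = N3462 := rfl
theorem L27516 : sm gb N3462 = N3462 := ded_19_1 (flp_e L27514) L20189 L27514
theorem L27517 : sm gh N3462 = N2712 := ded_37_2 (flp_e L21562) (flp_h L20192) L27514
theorem L27519 : sm gi N2534 = N3463 := rfl
theorem L27521 : sm gb N3463 = N3463 := ded_23_1 (flp_i L27519) L20189 L27519
theorem L27522 : sm gd N3463 = N2535 := ded_34_1 (flp_i L20194) L20187 L27519
theorem L27524 : sm gf N3463 = N2537 := ded_41_1 (flp_i L20209) (flp_f L20190) L27519
theorem L27526 : sm gf N2536 = N3464 := rfl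
theorem L27528 : sm gb N3464 = N3464 := ded_20_1 (flp_f L27526) L20204 L27526
theorem L27529 : sm gd N3464 = N3464 := ded_31_1 (flp_f L27526) L20208 L27526
theorem L27530 : sm gh N3464 = N2714 := ded_40_2 (flp_f L21573) (flp_h L20206) L27526
theorem L27532 : sm gi N2536 = N3465 := rfl
theorem L27534 : sm gb N3465 = N3465 := ded_23_1 (flp_i L27532) L20204 L27532
theorem L27535 : sm gd N3465 = N3465 := ded_34_1 (flp_i L27532) L20208 L27532
theorem L27536 : sm ge N3465 = N2537 := ded_38_1 (flp_i L20209) L20202 L27532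
theorem L27538 : sm gg N3465 = N3465 := ded_43_1 (flp_i L27532) L20205 L27532
theorem L27539 : sm gh N2537 = N3466 := rfl
theorem L27541 : sm gb N3466 = N3466 := ded_22_1 (flp_h L27539) L20211 L27539
theorem L27542 : sm gg N3466 = N3466 := ded_42_1 (flp_h L27539) L20214 L27539
theorem L27543 : sm gd N3466 = N3466 := ded_33_1 (flp_h L27539) L20212 L14828 (flp_d L20212) L27539
theorem L27544 : sm gi N3466 = N2716 := ded_44_2 (flp_h L21586) (flp_i L15865) (flp_h L14819) L20209 L27539
theorem L27546 : sm gh N2538 = N3467 := rfl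
theorem L27551 : sm gf N3467 = N2539 := ded_40_1 (flp_h L20224) L20215 L27546
theorem L27554 : sm gd N2539 = N3468 := rfl
theorem L27556 : sm gb N3468 = N2544 := ded_18_1 (flp_d L20262) (flp_b L20226) L27554
theorem L27558 : sm gg N3468 = N2540 := ded_32_2 (flp_d L20232) (flp_g L20230) L27554
theorem L27560 : sm gh N3468 = N2554 := ded_33_2 (flp_d L20339) (flp_h L14935) (flp_d L14833) L20224 L27554
theorem L27562 : sm gi N2539 = N3469 := rfl
theorem L27566 : sm ge N3469 = N2542 := ded_38_1 (flp_i L20247) (flp_e L20228) L27562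
theorem L27568 : sm gg N3469 = N2541 := ded_43_1 (flp_i L20239) (flp_g L20230) L27562
theorem L27571 : sm gc N2540 = N3470 := rfl
theorem L27573 : sm gf N3470 = N3470 := ded_26_2 (flp_c L27571) L20236 L27571
theorem L27574 : sm gh N3470 = N2556 := ded_28_2 (flp_c L20355) (flp_h L20237) L27571
theorem L27576 : sm gi N2540 = N3471 := rfl
theorem L27578 : sm gb N3471 = N2547 := ded_23_1 (flp_i L20282) (flp_b L20234) L27576
theorem L27580 : sm gd N3471 = N2541 := ded_34_1 (flp_i L20239) L20232 L27576
theorem L27582 : sm gf N3471 = N3471 := ded_41_1 (flp_i L27576) L20236 L27576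
theorem L27583 : sm gd N2543 = N3472 := rfl
theorem L27588 : sm gh N3472 = N2558 := ded_33_2 (flp_d L20366) (flp_h L14968) (flp_d L14862) L20255 L27583
theorem L27598 : sm gc N2544 = N3474 := rfl
theorem L27600 : sm gg N3474 = N2546 := ded_27_2 (flp_c L20276) (flp_g L20264) L27598
theorem L27602 : sm gh N3474 = N2560 := ded_28_2 (flp_c L20381) (flp_h L20266) L27598
theorem L27605 : sm gi N2544 = N3475 := rfl
theorem L27607 : sm gd N3475 = N2545 := ded_34_1 (flp_i L20268) L20262 L27605
theorem L27609 : sm gg N3475 = N2547 := ded_43_1 (flp_i L20282) (flp_g L20264) L27605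
theorem L27611 : sm gb N2546 = N3476 := rfl
theorem L27613 : sm gd N3476 = N3476 := ded_18_2 (flp_b L27611) L20281 L27611
theorem L27614 : sm gf N3476 = N3476 := ded_20_2 (flp_b L27611) L20278 L27611
theorem L27615 : sm gh N3476 = N2562 := ded_22_2 (flp_b L20393) (flp_h L20279) L27611
theorem L27617 : sm gi N2546 = N3477 := rfl
theorem L27619 : sm gc N3477 = N2547 := ded_29_1 (flp_i L20282) L20276 L27617
theorem L27621 : sm gd N3477 = N3477 := ded_34_1 (flp_i L27617) L20281 L27617
theorem L27622 : sm gf N3477 = N3477 := ded_41_1 (flp_i L27617) L20278 L27617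
theorem L27623 : sm gh N2547 = N3478 := rfl
theorem L27629 : sm gh N2548 = N3479 := rfl
theorem L27631 : sm ga N3479 = N2553 := ded_15_1 (flp_h L20329) (flp_a L20289) L27629
theorem L27636 : sm gf N3479 = N2549 := ded_40_1 (flp_h L20296) L20287 L27629
theorem L27639 : sm gd N2549 = N3480 := rfl
theorem L27641 : sm ga N3480 = N2554 := ded_11_1 (flp_d L20339) (flp_a L20298) L27639
theorem L27643 : sm gg N3480 = N2550 := ded_32_2 (flp_d L20305) (flp_g L20303) L27639
theorem L27655 : sm gc N2550 = N3482 := rfl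
theorem L27657 : sm ga N3482 = N2556 := ded_10_1 (flp_c L20355) (flp_a L20307) L27655
theorem L27659 : sm gf N3482 = N3482 := ded_26_2 (flp_c L27655) L20309 L27655
theorem L27660 : sm gd N3482 = N3482 := ded_24_2 (flp_c L27655) (flp_d L20305) L14905 L20305 L27655
theorem L27668 : sm gd N2553 = N3484 := rfl
theorem L27686 : sm gc N2554 = N3486 := rfl
theorem L27688 : sm gg N3486 = N2556 := ded_27_2 (flp_c L20355) (flp_g L20343) L27686
theorem L27699 : sm gb N2556 = N3488 := rfl
theorem L27701 : sm gd N3488 = N3488 := ded_18_2 (flp_b L27699) L20358 L27699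
theorem L27702 : sm gf N3488 = N3488 := ded_20_2 (flp_b L27699) L20357 L27699
theorem L27703 : sm gc N3488 = N2562 := ded_17_2 (flp_b L20393) (flp_c L14990) (flp_b L14946) L20355 L27699
theorem L27705 : sm gi N2556 = N3489 := rfl
theorem L27717 : sm gc N2558 = N3491 := rfl
theorem L27719 : sm gf N3491 = N2560 := ded_26_2 (flp_c L20381) (flp_f L20368) L27717
theorem L27722 : sm gd N3491 = N2565 := ded_24_2 (flp_c L20409) (flp_d L15000) (flp_c L14970) L20366 L27717
theorem L27724 : sm ge N2558 = N3492 := rfl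
theorem L27727 : sm gd N3492 = N2930 := ded_30_1 (flp_e L23263) (flp_d L17103) (flp_e L14972) L20366 L27724
theorem L27729 : sm gi N2558 = N3493 := rfl
theorem L27733 : sm gf N3493 = N2561 := ded_41_1 (flp_i L20387) (flp_f L20368) L27729
theorem L27736 : sm gb N2560 = N3494 := rfl
theorem L27750 : sm gh N2561 = N3496 := rfl
theorem L27755 : sm ga N2562 = N3497 := rfl
theorem L27757 : sm gd N3497 = N2571 := ded_11_2 (flp_a L20453) (flp_d L20395) L27755
theorem L27759 : sm gf N3497 = N3497 := ded_13_2 (flp_a L27755) L20397 L27755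
theorem L27767 : sm gh N2563 = N3499 := rfl
theorem L27772 : sm gb N2565 = N3500 := rfl
theorem L27774 : sm gf N3500 = N2568 := ded_20_2 (flp_b L20431) (flp_f L20411) L27772
theorem L27779 : sm ge N2565 = N3501 := rfl
theorem L27786 : sm gi N2565 = N3502 := rfl
theorem L27790 : sm gf N3502 = N2569 := ded_41_1 (flp_i L20438) (flp_f L20411) L27786
theorem L27802 : sm gh N2567 = N3504 := rfl
theorem L27805 : sm gf N3504 = N2570 := ded_40_1 (flp_h L20445) (flp_f L20428) L27802
theorem L27810 : sm ga N2568 = N3505 := rfl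
theorem L27814 : sm gg N3505 = N2571 := ded_14_2 (flp_a L20453) (flp_g L20434) L27810
theorem L27817 : sm gi N2568 = N3506 := rfl
theorem L27823 : sm gg N3506 = N2572 := ded_43_1 (flp_i L20459) (flp_g L20434) L27817
theorem L27825 : sm gh N2569 = N3507 := rfl
theorem L27830 : sm gg N3507 = N2573 := ded_42_1 (flp_h L20466) (flp_g L20443) L27825
theorem L27848 : sm gd N2573 = N3510 := rfl
theorem L27853 : sm gd N2574 = N3511 := rfl
theorem L27855 : sm ga N3511 = N2575 := ded_11_1 (flp_d L20482) (flp_a L20475) L27853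
theorem L27857 : sm gb N3511 = N3511 := ded_18_1 (flp_d L27853) L20477 L27853
theorem L27858 : sm gg N3511 = N3511 := ded_32_2 (flp_d L27853) L20479 L27853
theorem L27859 : sm gi N3511 = N3511 := ded_34_2 (flp_d L27853) L20481 L27853
theorem L27860 : sm ge N3511 = N2580 := ded_30_2 (flp_d L20522) (flp_e L15092) (flp_d L15052) L20473 L27853
theorem L27862 : sm gf N2574 = N3512 := rfl
theorem L27864 : sm ga N3512 = N2576 := ded_13_1 (flp_f L20490) (flp_a L20475) L27862
theorem L27866 : sm gb N3512 = N3512 := ded_20_1 (flp_f L27862) L20477 L27862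
theorem L27867 : sm gc N3512 = N3512 := ded_26_1 (flp_f L27862) L20478 L27862
theorem L27868 : sm gh N3512 = N3512 := ded_40_2 (flp_f L27862) L20480 L27862
theorem L27869 : sm gi N3512 = N3512 := ded_41_2 (flp_f L27862) L20481 L27862
theorem L27870 : sm ge N3512 = N3512 := ded_35_1 (flp_f L27862) (flp_e L20473) L15054 L20473 L27862
theorem L27871 : sm gc N2575 = N3513 := rfl
theorem L27873 : sm ge N3513 = N2582 := ded_25_2 (flp_c L20538) (flp_e L20488) L27871
theorem L27875 : sm gg N3513 = N3513 := ded_27_2 (flp_c L27871) L20486 L27871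
theorem L27876 : sm gi N3513 = N3513 := ded_29_2 (flp_c L27871) L20487 L27871
theorem L27877 : sm gb N3513 = N3513 := ded_17_1 (flp_c L27871) L20484 L15072 (flp_b L20484) L27871
theorem L27878 : sm gd N3513 = N3513 := ded_24_2 (flp_c L27871) (flp_d L20482) L15063 L20482 L27871
theorem L27879 : sm gf N2575 = N3514 := rfl
theorem L27881 : sm gb N3514 = N2577 := ded_20_1 (flp_f L20498) (flp_b L20484) L27879
theorem L27883 : sm gd N3514 = N2576 := ded_31_1 (flp_f L20490) L20482 L27879
theorem L27894 : sm gg N2576 = N3516 := rfl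
theorem L27896 : sm gb N3516 = N2579 := ded_21_1 (flp_g L20513) (flp_b L20492) L27894
theorem L27903 : sm ge N2577 = N3517 := rfl
theorem L27909 : sm gf N3517 = N2586 := ded_35_2 (flp_e L20566) (flp_f L15115) (flp_e L15073) L20498 L27903
theorem L27911 : sm gg N2577 = N3518 := rfl
theorem L27919 : sm gh N2577 = N3519 := rfl
theorem L27935 : sm gc N2580 = N3521 := rfl
theorem L27937 : sm ga N3521 = N2582 := ded_10_1 (flp_c L20538) (flp_a L20524) L27935
theorem L27939 : sm gg N3521 = N3521 := ded_27_2 (flp_c L27935) L20527 L27935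
theorem L27940 : sm gi N3521 = N3521 := ded_29_2 (flp_c L27935) L20528 L27935
theorem L27941 : sm gf N2580 = N3522 := rfl
theorem L27943 : sm ga N3522 = N2583 := ded_13_1 (flp_f L20543) (flp_a L20524) L27941
theorem L27945 : sm gb N3522 = N3522 := ded_20_1 (flp_f L27941) L20526 L27941
theorem L27946 : sm gd N3522 = N2581 := ded_31_1 (flp_f L20529) L20522 L27941
theorem L27948 : sm gi N3522 = N3522 := ded_41_2 (flp_f L27941) L20528 L27941
theorem L27949 : sm gh N2580 = N3523 := rfl
theorem L27951 : sm ga N3523 = N2584 := ded_15_1 (flp_h L20550) (flp_a L20524) L27949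
theorem L27953 : sm gb N3523 = N3523 := ded_22_1 (flp_h L27949) L20526 L27949

end Cfsg.Agent.Helper28.FibA
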