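import Cfsg.Agent.Helper28.FibB4

/-! # The Fi₂₂ presentation, cosets of the subgroup generated by b, …, i: the coset enumeration, part 5 (helper28; generated) -/

set_option autoImplicit false

noncomputable section

namespace Cfsg.Agent.Helper28.FibA

open Cfsg.Agent.Helper28.CosetTable

theorem L27954 : sm gg N3523 = N3523 := ded_42_1 (flp_h L27949) L20527 L27949
theorem L27955 : sm gd N3523 = N2592 := ded_33_1 (flp_h L20613) (flp_d L15139) (flp_h L15098) L20522 L27949
theorem L27957 : sm gg N2581 = N3524 := rfl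
theorem L27959 : sm ga N3524 = N2585 := ded_14_1 (flp_g L20557) (flp_a L20531) L27957
theorem L27961 : sm gb N3524 = N3524 := ded_21_1 (flp_g L27957) L20533 L27957
theorem L27962 : sm ge N3524 = N3524 := ded_36_1 (flp_g L27957) L20537 L27957
theorem L27963 : sm gh N3524 = N2593 := ded_42_2 (flp_g L20620) (flp_h L20534) L27957
theorem L27965 : sm gi N3524 = N3524 := ded_43_2 (flp_g L27957) L20536 L27957
theorem L27966 : sm gf N3524 = N3524 := ded_39_1 (flp_g L27957) (flp_f L20529) L15097 L20529 L27957
theorem L27967 : sm gf N2582 = N3525 := rfl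
theorem L27969 : sm gb N3525 = N3525 := ded_20_1 (flp_f L27967) L20542 L27967
theorem L27970 : sm gc N3525 = N2583 := ded_26_1 (flp_f L20543) L20538 L27967
theorem L27972 : sm gi N3525 = N3525 := ded_41_2 (flp_f L27967) L20541 L27967
theorem L27973 : sm gh N2582 = N3526 := rfl
theorem L27975 : sm gb N3526 = N3526 := ded_22_1 (flp_h L27973) L20542 L27973
theorem L27976 : sm gc N3526 = N2584 := ded_28_1 (flp_h L20550) L20538 L27973
theorem L27978 : sm gg N3526 = N3526 := ded_42_1 (flp_h L27973) L20540 L27973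
theorem L27979 : sm ge N2583 = N3527 := rfl
theorem L27985 : sm gg N2583 = N3528 := rfl
theorem L27987 : sm gb N3528 = N2587 := ded_21_1 (flp_g L20572) (flp_b L20545) L27985
theorem L27993 : sm gh N2583 = N3529 := rfl
theorem L27999 : sm gd N3529 = N2598 := ded_33_1 (flp_h L20662) L15168 (flp_h L15111) (flp_d L20547) L27993
theorem L28001 : sm gi N2584 = N3530 := rfl
theorem L28003 : sm gb N3530 = N2589 := ded_23_1 (flp_i L20588) (flp_b L20552) L28001
theorem L28005 : sm gd N3530 = N2599 := ded_34_1 (flp_i L20668) (flp_d L20555) L28001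
theorem L28009 : sm gg N2586 = N3531 := rfl
theorem L28017 : sm gh N2586 = N3532 := rfl
theorem L28021 : sm ge N3532 = N2588 := ded_37_1 (flp_h L20580) L20566 L28017
theorem L28023 : sm gh N2587 = N3533 := rfl
theorem L28028 : sm gg N3533 = N2588 := ded_42_1 (flp_h L20580) L20572 L28023
theorem L28032 : sm gi N2588 = N3534 := rfl
theorem L28038 : sm gf N3534 = N2589 := ded_41_1 (flp_i L20588) (flp_f L20584) L28032
theorem L28041 : sm gb N2590 = N3535 := rfl
theorem L28043 : sm ge N3535 = N3535 := ded_19_2 (flp_b L28041) L20600 L28041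
theorem L28044 : sm gg N3535 = N3535 := ded_21_2 (flp_b L28041) L20601 L28041
theorem L28045 : sm gi N3535 = N2604 := ded_23_2 (flp_b L20711) (flp_i L20602) L28041
theorem L28047 : sm ga N3535 = N2625 := ded_9_1 (flp_b L20869) L15326 (flp_b L15162) (flp_a L20598) L28041
theorem L28049 : sm gc N3535 = N3535 := ded_17_2 (flp_b L28041) (flp_c L20596) L15143 L20596 L28041
theorem L28050 : sm gf N2590 = N3536 := rfl
theorem L28052 : sm ga N3536 = N2594 := ded_13_1 (flp_f L20629) (flp_a L20598) L28050
theorem L28054 : sm gc N3536 = N2591 := ded_26_1 (flp_f L20604) L20596 L28050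
theorem L28056 : sm gi N3536 = N2605 := ded_41_2 (flp_f L20718) (flp_i L20602) L28050
theorem L28058 : sm gh N2590 = N3537 := rfl
theorem L28060 : sm ga N3537 = N2595 := ded_15_1 (flp_h L20637) (flp_a L20598) L28058
theorem L28062 : sm gc N3537 = N2592 := ded_28_1 (flp_h L20613) L20596 L28058
theorem L28064 : sm ge N3537 = N3537 := ded_37_1 (flp_h L28058) L20600 L28058
theorem L28065 : sm gg N3537 = N3537 := ded_42_1 (flp_h L28058) L20601 L28058
theorem L28066 : sm ge N2591 = N3538 := rfl
theorem L28068 : sm ga N3538 = N2596 := ded_12_1 (flp_e L20645) (flp_a L20606) L28066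
theorem L28070 : sm gb N3538 = N3538 := ded_19_1 (flp_e L28066) L20608 L28066
theorem L28071 : sm gi N3538 = N2607 := ded_38_2 (flp_e L20732) (flp_i L20611) L28066
theorem L28073 : sm gd N3538 = N3538 := ded_30_1 (flp_e L28066) L20609 L15155 (flp_d L20609) L28066
theorem L28074 : sm gf N3538 = N3538 := ded_35_2 (flp_e L28066) (flp_f L20604) L15147 L20604 L28066
theorem L28075 : sm gg N2591 = N3539 := rfl
theorem L28077 : sm ga N3539 = N2597 := ded_14_1 (flp_g L20653) (flp_a L20606) L28075
theorem L28079 : sm gb N3539 = N3539 := ded_21_1 (flp_g L28075) L20608 L28075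
theorem L28080 : sm gd N3539 = N2593 := ded_32_1 (flp_g L20620) (flp_d L20609) L28075
theorem L28082 : sm gi N3539 = N2608 := ded_43_2 (flp_g L20739) (flp_i L20611) L28075
theorem L28084 : sm gf N3539 = N3539 := ded_39_1 (flp_g L28075) (flp_f L20604) L15144 L20604 L28075
theorem L28085 : sm gh N2591 = N3540 := rfl
theorem L28087 : sm ga N3540 = N2598 := ded_15_1 (flp_h L20662) (flp_a L20606) L28085
theorem L28089 : sm gb N3540 = N3540 := ded_22_1 (flp_h L28085) L20608 L28085
theorem L28090 : sm gf N3540 = N2592 := ded_40_1 (flp_h L20613) L20604 L28085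
theorem L28092 : sm gi N2592 = N3541 := rfl
theorem L28094 : sm ga N3541 = N2599 := ded_16_1 (flp_i L20668) (flp_a L20615) L28092
theorem L28096 : sm gb N3541 = N3541 := ded_23_1 (flp_i L28092) L20617 L28092
theorem L28097 : sm ge N3541 = N3541 := ded_38_1 (flp_i L28092) L20618 L28092
theorem L28098 : sm gg N3541 = N3541 := ded_43_1 (flp_i L28092) L20619 L28092
theorem L28099 : sm gh N3541 = N2610 := ded_44_1 (flp_i L20755) (flp_h L15234) (flp_i L15145) L20613 L28092
theorem L28101 : sm ge N2594 = N3542 := rfl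
theorem L28103 : sm gb N3542 = N2632 := ded_19_1 (flp_e L20930) (flp_b L20631) L28101
theorem L28105 : sm gc N3542 = N2596 := ded_25_1 (flp_e L20645) (flp_c L20633) L28101
theorem L28107 : sm gi N3542 = N2611 := ded_38_2 (flp_e L20763) (flp_i L20635) L28101
theorem L28109 : sm gf N3542 = N3542 := ded_35_2 (flp_e L28101) (flp_f L20629) L15158 L20629 L28101
theorem L28110 : sm gg N2594 = N3543 := rfl
theorem L28112 : sm gb N3543 = N2633 := ded_21_1 (flp_g L20937) (flp_b L20631) L28110
theorem L28114 : sm gc N3543 = N2597 := ded_27_1 (flp_g L20653) (flp_c L20633) L28110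
theorem L28116 : sm gi N3543 = N2612 := ded_43_2 (flp_g L20770) (flp_i L20635) L28110
theorem L28118 : sm gf N3543 = N3543 := ded_39_1 (flp_g L28110) (flp_f L20629) L15159 L20629 L28110
theorem L28119 : sm gh N2594 = N3544 := rfl
theorem L28121 : sm gb N3544 = N2634 := ded_22_1 (flp_h L20944) (flp_b L20631) L28119
theorem L28123 : sm gc N3544 = N2598 := ded_28_1 (flp_h L20662) (flp_c L20633) L28119
theorem L28125 : sm gf N3544 = N2595 := ded_40_1 (flp_h L20637) L20629 L28119
theorem L28127 : sm gd N2595 = N3545 := rfl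
theorem L28129 : sm gb N3545 = N2635 := ded_18_1 (flp_d L20950) (flp_b L20639) L28127
theorem L28131 : sm gg N3545 = N3545 := ded_32_2 (flp_d L28127) L20644 L28127
theorem L28132 : sm gi N2595 = N3546 := rfl
theorem L28134 : sm gb N3546 = N2636 := ded_23_1 (flp_i L20954) (flp_b L20639) L28132
theorem L28136 : sm gc N3546 = N2599 := ded_29_1 (flp_i L20668) (flp_c L20641) L28132
theorem L28138 : sm ge N3546 = N3546 := ded_38_1 (flp_i L28132) L20643 L28132
theorem L28139 : sm gg N3546 = N3546 := ded_43_1 (flp_i L28132) L20644 L28132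
theorem L28140 : sm gh N3546 = N2615 := ded_44_1 (flp_i L20791) (flp_h L15256) (flp_i L15160) L20637 L28132
theorem L28142 : sm gg N2596 = N3547 := rfl
theorem L28144 : sm gb N3547 = N2600 := ded_21_1 (flp_g L20676) (flp_b L20647) L28142
theorem L28147 : sm ge N3547 = N2597 := ded_36_1 (flp_g L20653) L20645 L28142
theorem L28149 : sm gi N3547 = N2616 := ded_43_2 (flp_g L20799) (flp_i L20649) L28142
theorem L28151 : sm gh N2596 = N3548 := rfl
theorem L28153 : sm gb N3548 = N2601 := ded_22_1 (flp_h L20686) (flp_b L20647) L28151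
theorem L28155 : sm ge N3548 = N2598 := ded_37_1 (flp_h L20662) L20645 L28151
theorem L28158 : sm gh N2597 = N3549 := rfl
theorem L28163 : sm gg N3549 = N2598 := ded_42_1 (flp_h L20662) L20653 L28158
theorem L28165 : sm gi N2598 = N3550 := rfl
theorem L28169 : sm gf N3550 = N2599 := ded_41_1 (flp_i L20668) (flp_f L20666) L28165
theorem L28173 : sm gf N2600 = N3551 := rfl
theorem L28179 : sm gi N3551 = N2620 := ded_41_2 (flp_f L20828) (flp_i L20684) L28173
theorem L28192 : sm gd N2601 = N3553 := rfl
theorem L28197 : sm gi N2601 = N3554 := rfl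
theorem L28202 : sm ge N3554 = N2603 := ded_38_1 (flp_i L20702) (flp_e L20691) L28197
theorem L28205 : sm gh N3554 = N2623 := ded_44_1 (flp_i L20852) (flp_h L15299) (flp_i L15191) L20686 L28197
theorem L28207 : sm gi N2602 = N3555 := rfl
theorem L28215 : sm gh N3555 = N2624 := ded_44_1 (flp_i L20860) (flp_h L15307) (flp_i L15202) L20694 L28207
theorem L28217 : sm gf N2604 = N3556 := rfl
theorem L28219 : sm ga N3556 = N2646 := ded_13_1 (flp_f L21036) (flp_a L20715) L28217
theorem L28221 : sm gb N3556 = N2605 := ded_20_1 (flp_f L20718) L20711 L28217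
theorem L28223 : sm gc N3556 = N3556 := ded_26_1 (flp_f L28217) L20717 L28217
theorem L28224 : sm gh N2604 = N3557 := rfl
theorem L28226 : sm ga N3557 = N2647 := ded_15_1 (flp_h L21041) (flp_a L20715) L28224
theorem L28228 : sm gb N3557 = N2606 := ded_22_1 (flp_h L20724) L20711 L28224
theorem L28230 : sm gc N3557 = N3557 := ded_28_1 (flp_h L28224) L20717 L28224
theorem L28231 : sm ge N3557 = N3557 := ded_37_1 (flp_h L28224) L20713 L28224
theorem L28232 : sm gg N3557 = N3557 := ded_42_1 (flp_h L28224) L20714 L28224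
theorem L28233 : sm ge N2605 = N3558 := rfl
theorem L28235 : sm ga N3558 = N2611 := ded_12_1 (flp_e L20763) (flp_a L20720) L28233
theorem L28237 : sm gc N3558 = N2607 := ded_25_1 (flp_e L20732) (flp_c L20722) L28233
theorem L28239 : sm gf N3558 = N3558 := ded_35_2 (flp_e L28233) (flp_f L20718) L15225 L20718 L28233
theorem L28240 : sm gg N2605 = N3559 := rfl
theorem L28242 : sm ga N3559 = N2612 := ded_14_1 (flp_g L20770) (flp_a L20720) L28240
theorem L28244 : sm gc N3559 = N2608 := ded_27_1 (flp_g L20739) (flp_c L20722) L28240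
theorem L28246 : sm gf N3559 = N3559 := ded_39_1 (flp_g L28240) (flp_f L20718) L15226 L20718 L28240
theorem L28247 : sm gh N2605 = N3560 := rfl
theorem L28249 : sm ga N3560 = N2613 := ded_15_1 (flp_h L20777) (flp_a L20720) L28247
theorem L28251 : sm gc N3560 = N2609 := ded_28_1 (flp_h L20747) (flp_c L20722) L28247
theorem L28253 : sm gf N3560 = N2606 := ded_40_1 (flp_h L20724) L20718 L28247
theorem L28255 : sm gd N2606 = N3561 := rfl
theorem L28257 : sm ga N3561 = N2614 := ded_11_1 (flp_d L20785) (flp_a L20726) L28255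
theorem L28259 : sm gg N3561 = N3561 := ded_32_2 (flp_d L28255) L20731 L28255
theorem L28260 : sm gc N3561 = N3561 := ded_24_1 (flp_d L28255) L20728 L15241 (flp_c L20728) L28255
theorem L28261 : sm gi N2606 = N3562 := rfl
theorem L28263 : sm ga N3562 = N2615 := ded_16_1 (flp_i L20791) (flp_a L20726) L28261
theorem L28265 : sm gc N3562 = N2610 := ded_29_1 (flp_i L20755) (flp_c L20728) L28261
theorem L28267 : sm ge N3562 = N3562 := ded_38_1 (flp_i L28261) L20730 L28261
theorem L28268 : sm gg N3562 = N3562 := ded_43_1 (flp_i L28261) L20731 L28261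
theorem L28269 : sm gg N2607 = N3563 := rfl
theorem L28271 : sm ga N3563 = N2616 := ded_14_1 (flp_g L20799) (flp_a L20734) L28269
theorem L28273 : sm gb N3563 = N3563 := ded_21_1 (flp_g L28269) L20736 L28269
theorem L28274 : sm gd N3563 = N3563 := ded_32_1 (flp_g L28269) L20737 L28269
theorem L28275 : sm ge N3563 = N2608 := ded_36_1 (flp_g L20739) L20732 L28269
theorem L28277 : sm gh N2607 = N3564 := rfl
theorem L28279 : sm ga N3564 = N2617 := ded_15_1 (flp_h L20806) (flp_a L20734) L28277
theorem L28281 : sm gb N3564 = N3564 := ded_22_1 (flp_h L28277) L20736 L28277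
theorem L28282 : sm ge N3564 = N2609 := ded_37_1 (flp_h L20747) L20732 L28277
theorem L28284 : sm gf N3564 = N3564 := ded_40_1 (flp_h L28277) L20738 L28277
theorem L28285 : sm gh N2608 = N3565 := rfl
theorem L28287 : sm ga N3565 = N2618 := ded_15_1 (flp_h L20813) (flp_a L20741) L28285
theorem L28289 : sm gb N3565 = N3565 := ded_22_1 (flp_h L28285) L20743 L28285
theorem L28290 : sm gf N3565 = N3565 := ded_40_1 (flp_h L28285) L20746 L28285
theorem L28291 : sm gg N3565 = N2609 := ded_42_1 (flp_h L20747) L20739 L28285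
theorem L28293 : sm gd N3565 = N3565 := ded_33_1 (flp_h L28285) L20744 L15248 (flp_d L20744) L28285
theorem L28294 : sm gi N2609 = N3566 := rfl
theorem L28296 : sm ga N3566 = N2619 := ded_16_1 (flp_i L20821) (flp_a L20749) L28294
theorem L28298 : sm gb N3566 = N3566 := ded_23_1 (flp_i L28294) L20751 L28294
theorem L28299 : sm gd N3566 = N3566 := ded_34_1 (flp_i L28294) L20754 L28294
theorem L28300 : sm gf N3566 = N2610 := ded_41_1 (flp_i L20755) (flp_f L20752) L28294
theorem L28302 : sm gd N2611 = N3567 := rfl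
theorem L28304 : sm gb N3567 = N2657 := ded_18_1 (flp_d L21122) (flp_b L20765) L28302
theorem L28306 : sm gf N3567 = N3567 := ded_31_2 (flp_d L28302) L20769 L28302
theorem L28307 : sm gc N3567 = N3567 := ded_24_1 (flp_d L28302) L20767 L15268 (flp_c L20767) L28302
theorem L28308 : sm gg N2611 = N3568 := rfl
theorem L28310 : sm gb N3568 = N2658 := ded_21_1 (flp_g L21127) (flp_b L20765) L28308
theorem L28312 : sm gc N3568 = N2616 := ded_27_1 (flp_g L20799) (flp_c L20767) L28308
theorem L28314 : sm ge N3568 = N2612 := ded_36_1 (flp_g L20770) L20763 L28308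
theorem L28316 : sm gh N2611 = N3569 := rfl
theorem L28318 : sm gb N3569 = N2659 := ded_22_1 (flp_h L21133) (flp_b L20765) L28316
theorem L28320 : sm gc N3569 = N2617 := ded_28_1 (flp_h L20806) (flp_c L20767) L28316
theorem L28322 : sm ge N3569 = N2613 := ded_37_1 (flp_h L20777) L20763 L28316
theorem L28324 : sm gf N3569 = N3569 := ded_40_1 (flp_h L28316) L20769 L28316
theorem L28325 : sm gh N2612 = N3570 := rfl
theorem L28327 : sm gb N3570 = N2660 := ded_22_1 (flp_h L21140) (flp_b L20772) L28325
theorem L28329 : sm gc N3570 = N2618 := ded_28_1 (flp_h L20813) (flp_c L20774) L28325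
theorem L28331 : sm gf N3570 = N3570 := ded_40_1 (flp_h L28325) L20776 L28325
theorem L28332 : sm gg N3570 = N2613 := ded_42_1 (flp_h L20777) L20770 L28325
theorem L28334 : sm gd N2613 = N3571 := rfl
theorem L28336 : sm gb N3571 = N2661 := ded_18_1 (flp_d L21147) (flp_b L20779) L28334
theorem L28338 : sm gf N3571 = N2614 := ded_31_2 (flp_d L20785) (flp_f L20783) L28334
theorem L28340 : sm gc N3571 = N3571 := ded_24_1 (flp_d L28334) L20781 L15283 (flp_c L20781) L28334
theorem L28341 : sm gi N2613 = N3572 := rfl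
theorem L28343 : sm gb N3572 = N2662 := ded_23_1 (flp_i L21153) (flp_b L20779) L28341
theorem L28345 : sm gc N3572 = N2619 := ded_29_1 (flp_i L20821) (flp_c L20781) L28341
theorem L28347 : sm gf N3572 = N2615 := ded_41_1 (flp_i L20791) (flp_f L20783) L28341
theorem L28349 : sm ge N2614 = N3573 := rfl
theorem L28351 : sm gb N3573 = N2663 := ded_19_1 (flp_e L21159) (flp_b L20787) L28349
theorem L28353 : sm gc N3573 = N3573 := ded_25_1 (flp_e L28349) L20790 L28349
theorem L28354 : sm gg N3573 = N3573 := ded_36_2 (flp_e L28349) L20789 L28349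
theorem L28355 : sm gd N3573 = N3573 := ded_30_1 (flp_e L28349) (flp_d L20785) L15262 L20785 L28349
theorem L28356 : sm gi N2614 = N3574 := rfl
theorem L28358 : sm gb N3574 = N2664 := ded_23_1 (flp_i L21165) (flp_b L20787) L28356
theorem L28360 : sm gc N3574 = N3574 := ded_29_1 (flp_i L28356) L20790 L28356
theorem L28361 : sm gd N3574 = N2615 := ded_34_1 (flp_i L20791) L20785 L28356
theorem L28363 : sm gg N3574 = N3574 := ded_43_1 (flp_i L28356) L20789 L28356
theorem L28364 : sm gf N2616 = N3575 := rfl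
theorem L28366 : sm gb N3575 = N2620 := ded_20_1 (flp_f L20828) (flp_b L20801) L28364
theorem L28371 : sm gh N2616 = N3576 := rfl
theorem L28375 : sm ge N3576 = N2618 := ded_37_1 (flp_h L20813) (flp_e L20804) L28371
theorem L28377 : sm gg N3576 = N2617 := ded_42_1 (flp_h L20806) L20799 L28371
theorem L28379 : sm gd N2617 = N3577 := rfl
theorem L28381 : sm gb N3577 = N2622 := ded_18_1 (flp_d L20845) (flp_b L20808) L28379
theorem L28386 : sm gi N2617 = N3578 := rfl
theorem L28390 : sm ge N3578 = N2619 := ded_38_1 (flp_i L20821) (flp_e L20810) L28386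
theorem L28393 : sm gi N2618 = N3579 := rfl
theorem L28395 : sm gb N3579 = N2624 := ded_23_1 (flp_i L20860) (flp_b L20815) L28393
theorem L28401 : sm gh N2620 = N3580 := rfl
theorem L28404 : sm gc N3580 = N2669 := ded_28_1 (flp_h L21206) (flp_c L20831) L28401
theorem L28407 : sm gf N3580 = N2621 := ded_40_1 (flp_h L20836) L20828 L28401
theorem L28418 : sm gi N2621 = N3582 := rfl
theorem L28425 : sm gg N3582 = N2623 := ded_43_1 (flp_i L20852) (flp_g L20843) L28418
theorem L28435 : sm gf N2625 = N3584 := rfl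
theorem L28437 : sm gb N3584 = N2626 := ded_20_1 (flp_f L20876) L20869 L28435
theorem L28439 : sm gc N3584 = N3584 := ded_26_1 (flp_f L28435) L20875 L28435
theorem L28440 : sm gi N3584 = N2646 := ded_41_2 (flp_f L21036) (flp_i L20873) L28435
theorem L28442 : sm gh N2625 = N3585 := rfl
theorem L28444 : sm gb N3585 = N2627 := ded_22_1 (flp_h L20884) L20869 L28442
theorem L28446 : sm gc N3585 = N3585 := ded_28_1 (flp_h L28442) L20875 L28442
theorem L28447 : sm ge N3585 = N3585 := ded_37_1 (flp_h L28442) L20871 L28442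
theorem L28448 : sm gg N3585 = N3585 := ded_42_1 (flp_h L28442) L20872 L28442
theorem L28449 : sm ge N2626 = N3586 := rfl
theorem L28451 : sm ga N3586 = N2632 := ded_12_1 (flp_e L20930) (flp_a L20878) L28449
theorem L28453 : sm gc N3586 = N2628 := ded_25_1 (flp_e L20892) (flp_c L20880) L28449
theorem L28455 : sm gi N3586 = N2648 := ded_38_2 (flp_e L21048) (flp_i L20882) L28449
theorem L28457 : sm gf N3586 = N3586 := ded_35_2 (flp_e L28449) (flp_f L20876) L15328 L20876 L28449
theorem L28458 : sm gg N2626 = N3587 := rfl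
theorem L28460 : sm ga N3587 = N2633 := ded_14_1 (flp_g L20937) (flp_a L20878) L28458
theorem L28462 : sm gc N3587 = N2629 := ded_27_1 (flp_g L20902) (flp_c L20880) L28458
theorem L28464 : sm gi N3587 = N2649 := ded_43_2 (flp_g L21055) (flp_i L20882) L28458
theorem L28466 : sm gf N3587 = N3587 := ded_39_1 (flp_g L28458) (flp_f L20876) L15329 L20876 L28458
theorem L28467 : sm gh N2626 = N3588 := rfl
theorem L28469 : sm ga N3588 = N2634 := ded_15_1 (flp_h L20944) (flp_a L20878) L28467
theorem L28471 : sm gc N3588 = N2630 := ded_28_1 (flp_h L20912) (flp_c L20880) L28467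
theorem L28473 : sm gf N3588 = N2627 := ded_40_1 (flp_h L20884) L20876 L28467
theorem L28475 : sm gd N2627 = N3589 := rfl
theorem L28477 : sm ga N3589 = N2635 := ded_11_1 (flp_d L20950) (flp_a L20886) L28475
theorem L28479 : sm gg N3589 = N3589 := ded_32_2 (flp_d L28475) L20891 L28475
theorem L28480 : sm gc N3589 = N3589 := ded_24_1 (flp_d L28475) L20888 L15348 (flp_c L20888) L28475
theorem L28481 : sm gi N2627 = N3590 := rfl
theorem L28483 : sm ga N3590 = N2636 := ded_16_1 (flp_i L20954) (flp_a L20886) L28481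
theorem L28485 : sm gc N3590 = N2631 := ded_29_1 (flp_i L20920) (flp_c L20888) L28481
theorem L28487 : sm ge N3590 = N3590 := ded_38_1 (flp_i L28481) L20890 L28481
theorem L28488 : sm gg N3590 = N3590 := ded_43_1 (flp_i L28481) L20891 L28481
theorem L28489 : sm gh N3590 = N2652 := ded_44_1 (flp_i L21077) (flp_h L15447) (flp_i L15330) L20884 L28481
theorem L28491 : sm gg N2628 = N3591 := rfl
theorem L28493 : sm ga N3591 = N2637 := ded_14_1 (flp_g L20962) (flp_a L20894) L28491
theorem L28496 : sm gd N3591 = N2677 := ded_32_1 (flp_g L21276) (flp_d L20899) L28491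
theorem L28498 : sm ge N3591 = N2629 := ded_36_1 (flp_g L20902) L20892 L28491
theorem L28500 : sm gi N3591 = N2653 := ded_43_2 (flp_g L21085) (flp_i L20897) L28491
theorem L28502 : sm gh N2628 = N3592 := rfl
theorem L28504 : sm ga N3592 = N2638 := ded_15_1 (flp_h L20972) (flp_a L20894) L28502
theorem L28507 : sm ge N3592 = N2630 := ded_37_1 (flp_h L20912) L20892 L28502
theorem L28510 : sm gh N2629 = N3593 := rfl
theorem L28516 : sm gg N3593 = N2630 := ded_42_1 (flp_h L20912) L20902 L28510
theorem L28519 : sm gi N2630 = N3594 := rfl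
theorem L28525 : sm gf N3594 = N2631 := ded_41_1 (flp_i L20920) (flp_f L20917) L28519
theorem L28527 : sm gh N3594 = N2656 := ded_44_1 (flp_i L21113) (flp_h L15471) (flp_i L15339) L20912 L28519
theorem L28529 : sm gd N2632 = N3595 := rfl
theorem L28531 : sm gf N3595 = N3595 := ded_31_2 (flp_d L28529) L20936 L28529
theorem L28532 : sm gi N3595 = N2657 := ded_34_2 (flp_d L21122) (flp_i L20934) L28529
theorem L28534 : sm gc N3595 = N2680 := ded_24_1 (flp_d L21305) L15637 (flp_d L15378) (flp_c L20932) L28529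
theorem L28536 : sm gg N2632 = N3596 := rfl
theorem L28538 : sm gc N3596 = N2637 := ded_27_1 (flp_g L20962) (flp_c L20932) L28536
theorem L28540 : sm ge N3596 = N2633 := ded_36_1 (flp_g L20937) L20930 L28536
theorem L28542 : sm gi N3596 = N2658 := ded_43_2 (flp_g L21127) (flp_i L20934) L28536
theorem L28544 : sm gh N2632 = N3597 := rfl
theorem L28546 : sm gc N3597 = N2638 := ded_28_1 (flp_h L20972) (flp_c L20932) L28544
theorem L28548 : sm ge N3597 = N2634 := ded_37_1 (flp_h L20944) L20930 L28544
theorem L28551 : sm gh N2633 = N3598 := rfl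
theorem L28556 : sm gg N3598 = N2634 := ded_42_1 (flp_h L20944) L20937 L28551
theorem L28558 : sm gd N2634 = N3599 := rfl
theorem L28560 : sm gf N3599 = N2635 := ded_31_2 (flp_d L20950) (flp_f L20948) L28558
theorem L28562 : sm gc N3599 = N3599 := ded_24_1 (flp_d L28558) L20946 L15396 (flp_c L20946) L28558
theorem L28563 : sm gi N2634 = N3600 := rfl
theorem L28567 : sm gf N3600 = N2636 := ded_41_1 (flp_i L20954) (flp_f L20948) L28563
theorem L28569 : sm gh N3600 = N2662 := ded_44_1 (flp_i L21153) (flp_h L15499) (flp_i L15364) L20944 L28563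
theorem L28571 : sm ge N2635 = N3601 := rfl
theorem L28573 : sm gc N3601 = N3601 := ded_25_1 (flp_e L28571) L20953 L28571
theorem L28574 : sm gg N3601 = N3601 := ded_36_2 (flp_e L28571) L20952 L28571
theorem L28575 : sm gd N3601 = N3601 := ded_30_1 (flp_e L28571) (flp_d L20950) L15370 L20950 L28571
theorem L28576 : sm gi N2635 = N3602 := rfl
theorem L28578 : sm gc N3602 = N3602 := ded_29_1 (flp_i L28576) L20953 L28576
theorem L28579 : sm gd N3602 = N2636 := ded_34_1 (flp_i L20954) L20950 L28576
theorem L28581 : sm gg N3602 = N3602 := ded_43_1 (flp_i L28576) L20952 L28576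
theorem L28582 : sm gf N2637 = N3603 := rfl
theorem L28586 : sm gd N3603 = N2686 := ded_31_1 (flp_f L21354) (flp_d L20966) L28582
theorem L28588 : sm gi N3603 = N2665 := ded_41_2 (flp_f L21172) (flp_i L20970) L28582
theorem L28592 : sm gh N2637 = N3604 := rfl
theorem L28596 : sm ge N3604 = N2639 := ded_37_1 (flp_h L20979) (flp_e L20968) L28592
theorem L28598 : sm gg N3604 = N2638 := ded_42_1 (flp_h L20972) L20962 L28592
theorem L28608 : sm gi N2638 = N3606 := rfl
theorem L28615 : sm gh N3606 = N2667 := ded_44_1 (flp_i L21189) (flp_h L15524) (flp_i L15376) L20972 L28608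
theorem L28617 : sm gi N2639 = N3607 := rfl
theorem L28625 : sm gh N3607 = N2668 := ded_44_1 (flp_i L21197) (flp_h L15532) (flp_i L15387) L20979 L28617
theorem L28627 : sm gh N2641 = N3608 := rfl
theorem L28634 : sm gd N2642 = N3609 := rfl
theorem L28640 : sm gh N3609 = N2690 := ded_33_2 (flp_d L21389) (flp_h L15701) (flp_d L15409) L21005 L28634
theorem L28642 : sm gi N2642 = N3610 := rfl
theorem L28645 : sm ge N3610 = N2645 := ded_38_1 (flp_i L21027) (flp_e L21008) L28642
theorem L28651 : sm gc N2643 = N3611 := rfl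
theorem L28656 : sm gh N3611 = N2691 := ded_28_2 (flp_c L21396) (flp_h L21017) L28651
theorem L28666 : sm ge N2646 = N3613 := rfl
theorem L28668 : sm gb N3613 = N2648 := ded_19_1 (flp_e L21048) (flp_b L21038) L28666
theorem L28670 : sm gc N3613 = N3613 := ded_25_1 (flp_e L28666) L21040 L28666
theorem L28671 : sm gf N3613 = N3613 := ded_35_2 (flp_e L28666) (flp_f L21036) L15438 L21036 L28666
theorem L28672 : sm gg N2646 = N3614 := rfl
theorem L28674 : sm gb N3614 = N2649 := ded_21_1 (flp_g L21055) (flp_b L21038) L28672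
theorem L28676 : sm gc N3614 = N3614 := ded_27_1 (flp_g L28672) L21040 L28672
theorem L28677 : sm gf N3614 = N3614 := ded_39_1 (flp_g L28672) (flp_f L21036) L15439 L21036 L28672
theorem L28678 : sm gh N2646 = N3615 := rfl
theorem L28680 : sm gb N3615 = N2650 := ded_22_1 (flp_h L21062) (flp_b L21038) L28678
theorem L28682 : sm gc N3615 = N3615 := ded_28_1 (flp_h L28678) L21040 L28678
theorem L28683 : sm gf N3615 = N2647 := ded_40_1 (flp_h L21041) L21036 L28678
theorem L28685 : sm gd N2647 = N3616 := rfl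
theorem L28687 : sm gb N3616 = N2651 := ded_18_1 (flp_d L21070) (flp_b L21043) L28685
theorem L28689 : sm gg N3616 = N3616 := ded_32_2 (flp_d L28685) L21047 L28685
theorem L28690 : sm gi N2647 = N3617 := rfl
theorem L28692 : sm gb N3617 = N2652 := ded_23_1 (flp_i L21077) (flp_b L21043) L28690
theorem L28694 : sm gc N3617 = N3617 := ded_29_1 (flp_i L28690) L21045 L28690
theorem L28695 : sm ge N3617 = N3617 := ded_38_1 (flp_i L28690) L21046 L28690
theorem L28696 : sm gg N3617 = N3617 := ded_43_1 (flp_i L28690) L21047 L28690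
theorem L28697 : sm gd N2648 = N3618 := rfl
theorem L28699 : sm ga N3618 = N2657 := ded_11_1 (flp_d L21122) (flp_a L21050) L28697
theorem L28701 : sm gf N3618 = N3618 := ded_31_2 (flp_d L28697) L21054 L28697
theorem L28702 : sm gc N3618 = N2694 := ded_24_1 (flp_d L21420) L15727 (flp_d L15460) (flp_c L21052) L28697
theorem L28704 : sm gg N2648 = N3619 := rfl
theorem L28706 : sm ga N3619 = N2658 := ded_14_1 (flp_g L21127) (flp_a L21050) L28704
theorem L28708 : sm gc N3619 = N2653 := ded_27_1 (flp_g L21085) (flp_c L21052) L28704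
theorem L28710 : sm ge N3619 = N2649 := ded_36_1 (flp_g L21055) L21048 L28704
theorem L28712 : sm gh N2648 = N3620 := rfl
theorem L28714 : sm ga N3620 = N2659 := ded_15_1 (flp_h L21133) (flp_a L21050) L28712
theorem L28716 : sm gc N3620 = N2654 := ded_28_1 (flp_h L21094) (flp_c L21052) L28712
theorem L28718 : sm ge N3620 = N2650 := ded_37_1 (flp_h L21062) L21048 L28712
theorem L28720 : sm gf N3620 = N3620 := ded_40_1 (flp_h L28712) L21054 L28712
theorem L28721 : sm gh N2649 = N3621 := rfl
theorem L28723 : sm ga N3621 = N2660 := ded_15_1 (flp_h L21140) (flp_a L21057) L28721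
theorem L28725 : sm gc N3621 = N2655 := ded_28_1 (flp_h L21103) (flp_c L21059) L28721
theorem L28727 : sm gf N3621 = N3621 := ded_40_1 (flp_h L28721) L21061 L28721
theorem L28728 : sm gg N3621 = N2650 := ded_42_1 (flp_h L21062) L21055 L28721
theorem L28730 : sm gd N2650 = N3622 := rfl
theorem L28732 : sm ga N3622 = N2661 := ded_11_1 (flp_d L21147) (flp_a L21064) L28730
theorem L28734 : sm gf N3622 = N2651 := ded_31_2 (flp_d L21070) (flp_f L21068) L28730
theorem L28736 : sm gc N3622 = N2705 := ded_24_1 (flp_d L21506) L15798 (flp_d L15478) (flp_c L21066) L28730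
theorem L28738 : sm gi N2650 = N3623 := rfl
theorem L28740 : sm ga N3623 = N2662 := ded_16_1 (flp_i L21153) (flp_a L21064) L28738
theorem L28742 : sm gc N3623 = N2656 := ded_29_1 (flp_i L21113) (flp_c L21066) L28738
theorem L28744 : sm gf N3623 = N2652 := ded_41_1 (flp_i L21077) (flp_f L21068) L28738
theorem L28746 : sm ge N2651 = N3624 := rfl
theorem L28748 : sm ga N3624 = N2663 := ded_12_1 (flp_e L21159) (flp_a L21072) L28746
theorem L28750 : sm gc N3624 = N2707 := ded_25_1 (flp_e L21522) (flp_c L21075) L28746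
theorem L28752 : sm gg N3624 = N3624 := ded_36_2 (flp_e L28746) L21074 L28746
theorem L28753 : sm gd N3624 = N3624 := ded_30_1 (flp_e L28746) (flp_d L21070) L15453 L21070 L28746
theorem L28754 : sm gi N2651 = N3625 := rfl
theorem L28756 : sm ga N3625 = N2664 := ded_16_1 (flp_i L21165) (flp_a L21072) L28754
theorem L28758 : sm gc N3625 = N2708 := ded_29_1 (flp_i L21529) (flp_c L21075) L28754
theorem L28760 : sm gd N3625 = N2652 := ded_34_1 (flp_i L21077) L21070 L28754
theorem L28762 : sm gg N3625 = N3625 := ded_43_1 (flp_i L28754) L21074 L28754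
theorem L28763 : sm gf N2653 = N3626 := rfl
theorem L28765 : sm ga N3626 = N2665 := ded_13_1 (flp_f L21172) (flp_a L21087) L28763
theorem L28768 : sm gd N3626 = N2696 := ded_31_1 (flp_f L21434) (flp_d L21090) L28763
theorem L28772 : sm gh N2653 = N3627 := rfl
theorem L28777 : sm ge N3627 = N2655 := ded_37_1 (flp_h L21103) (flp_e L21092) L28772
theorem L28782 : sm gi N2654 = N3628 := rfl
theorem L28784 : sm ga N3628 = N2667 := ded_16_1 (flp_i L21189) (flp_a L21096) L28782
theorem L28788 : sm ge N3628 = N2656 := ded_38_1 (flp_i L21113) (flp_e L21099) L28782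
theorem L28791 : sm gi N2655 = N3629 := rfl
theorem L28799 : sm gg N3629 = N2656 := ded_43_1 (flp_i L21113) (flp_g L21109) L28791
theorem L28801 : sm gg N2657 = N3630 := rfl
theorem L28803 : sm gc N3630 = N2697 := ded_27_1 (flp_g L21443) (flp_c L21125) L28801
theorem L28805 : sm gd N3630 = N2658 := ded_32_1 (flp_g L21127) L21122 L28801
theorem L28807 : sm gh N2657 = N3631 := rfl
theorem L28809 : sm gc N3631 = N2698 := ded_28_1 (flp_h L21448) (flp_c L21125) L28807
theorem L28811 : sm gf N3631 = N3631 := ded_40_1 (flp_h L28807) L21124 L28807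
theorem L28812 : sm gf N2658 = N3632 := rfl
theorem L28814 : sm gc N3632 = N2665 := ded_26_1 (flp_f L21172) (flp_c L21129) L28812
theorem L28818 : sm gh N2658 = N3633 := rfl
theorem L28822 : sm ge N3633 = N2660 := ded_37_1 (flp_h L21140) (flp_e L21131) L28818
theorem L28824 : sm gg N3633 = N2659 := ded_42_1 (flp_h L21133) L21127 L28818
theorem L28826 : sm gd N2659 = N3634 := rfl
theorem L28828 : sm gf N3634 = N3634 := ded_31_2 (flp_d L28826) L21139 L28826
theorem L28829 : sm gc N3634 = N3634 := ded_24_1 (flp_d L28826) L21135 L15531 (flp_c L21135) L28826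
theorem L28830 : sm gi N2659 = N3635 := rfl
theorem L28832 : sm gc N3635 = N2667 := ded_29_1 (flp_i L21189) (flp_c L21135) L28830
theorem L28834 : sm ge N3635 = N2662 := ded_38_1 (flp_i L21153) (flp_e L21137) L28830
theorem L28837 : sm gd N2660 = N3636 := rfl
theorem L28839 : sm gf N3636 = N3636 := ded_31_2 (flp_d L28837) L21144 L28837
theorem L28840 : sm gg N3636 = N2661 := ded_32_2 (flp_d L21147) (flp_g L21145) L28837
theorem L28842 : sm gc N3636 = N2710 := ded_24_1 (flp_d L21546) L15839 (flp_d L15539) (flp_c L21142) L28837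
theorem L28844 : sm gi N2660 = N3637 := rfl
theorem L28849 : sm gg N3637 = N2662 := ded_43_1 (flp_i L21153) (flp_g L21145) L28844
theorem L28851 : sm ge N2661 = N3638 := rfl
theorem L28853 : sm gc N3638 = N2712 := ded_25_1 (flp_e L21562) (flp_c L21151) L28851
theorem L28855 : sm gi N2661 = N3639 := rfl
theorem L28857 : sm gc N3639 = N2713 := ded_29_1 (flp_i L21566) (flp_c L21151) L28855
theorem L28859 : sm gd N3639 = N2662 := ded_34_1 (flp_i L21153) L21147 L28855
theorem L28861 : sm gf N3639 = N2664 := ded_41_1 (flp_i L21165) (flp_f L21149) L28855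
theorem L28863 : sm gf N2663 = N3640 := rfl
theorem L28865 : sm gc N3640 = N2714 := ded_26_1 (flp_f L21573) (flp_c L21161) L28863
theorem L28867 : sm gd N3640 = N3640 := ded_31_1 (flp_f L28863) L21164 L28863
theorem L28868 : sm gi N2663 = N3641 := rfl
theorem L28870 : sm gc N3641 = N2715 := ded_29_1 (flp_i L21578) (flp_c L21161) L28868
theorem L28872 : sm gd N3641 = N3641 := ded_34_1 (flp_i L28868) L21164 L28868
theorem L28873 : sm ge N3641 = N2664 := ded_38_1 (flp_i L21165) L21159 L28868
theorem L28875 : sm gg N3641 = N3641 := ded_43_1 (flp_i L28868) L21163 L28868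
theorem L28876 : sm gh N2664 = N3642 := rfl
theorem L28878 : sm gc N3642 = N2716 := ded_28_1 (flp_h L21586) (flp_c L21167) L28876
theorem L28880 : sm gg N3642 = N3642 := ded_42_1 (flp_h L28876) L21171 L28876
theorem L28881 : sm gh N2665 = N3643 := rfl
theorem L28886 : sm gf N3643 = N2666 := ded_40_1 (flp_h L21180) L21172 L28881
theorem L28907 : sm ge N2671 = N3646 := rfl
theorem L28909 : sm ga N3646 = N3646 := ded_12_1 (flp_e L28907) L21224 L28907
theorem L28910 : sm gb N3646 = N2673 := ded_19_1 (flp_e L21240) (flp_b L21225) L28907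
theorem L28912 : sm gc N3646 = N3646 := ded_25_1 (flp_e L28907) L21227 L28907
theorem L28913 : sm gi N3646 = N2692 := ded_38_2 (flp_e L21403) (flp_i L21228) L28907
theorem L28915 : sm gf N3646 = N3646 := ded_35_2 (flp_e L28907) (flp_f L21222) L15581 L21222 L28907
theorem L28916 : sm gg N2671 = N3647 := rfl
theorem L28918 : sm ga N3647 = N3647 := ded_14_1 (flp_g L28916) L21224 L28916
theorem L28919 : sm gb N3647 = N2674 := ded_21_1 (flp_g L21249) (flp_b L21225) L28916
theorem L28921 : sm gc N3647 = N3647 := ded_27_1 (flp_g L28916) L21227 L28916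
theorem L28922 : sm gi N3647 = N2693 := ded_43_2 (flp_g L21411) (flp_i L21228) L28916
theorem L28924 : sm gf N3647 = N2950 := ded_39_1 (flp_g L23409) (flp_f L17216) (flp_g L15582) L21222 L28916
theorem L28926 : sm gh N2671 = N3648 := rfl
theorem L28928 : sm ga N3648 = N3648 := ded_15_1 (flp_h L28926) L21224 L28926
theorem L28929 : sm gb N3648 = N2675 := ded_22_1 (flp_h L21259) (flp_b L21225) L28926
theorem L28931 : sm gc N3648 = N3648 := ded_28_1 (flp_h L28926) L21227 L28926
theorem L28932 : sm gf N3648 = N2672 := ded_40_1 (flp_h L21230) L21222 L28926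
theorem L28934 : sm gi N3648 = N3648 := ded_44_2 (flp_h L28926) L21228 L15722 (flp_i L21228) L28926
theorem L28935 : sm gd N2672 = N3649 := rfl
theorem L28937 : sm ga N3649 = N3649 := ded_11_1 (flp_d L28935) L21232 L28935
theorem L28938 : sm gb N3649 = N2676 := ded_18_1 (flp_d L21268) (flp_b L21233) L28935
theorem L28940 : sm gg N3649 = N2952 := ded_32_2 (flp_d L23426) (flp_g L21237) L28935
theorem L28942 : sm gi N3649 = N3649 := ded_34_2 (flp_d L28935) L21239 L28935
theorem L28943 : sm gd N2673 = N3650 := rfl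
theorem L28945 : sm ga N3650 = N2680 := ded_11_1 (flp_d L21305) (flp_a L21242) L28943
theorem L28947 : sm gf N3650 = N3650 := ded_31_2 (flp_d L28943) L21248 L28943
theorem L28948 : sm gi N3650 = N2694 := ded_34_2 (flp_d L21420) (flp_i L21246) L28943
theorem L28950 : sm gg N2673 = N3651 := rfl
theorem L28952 : sm ga N3651 = N2681 := ded_14_1 (flp_g L21311) (flp_a L21242) L28950
theorem L28954 : sm gc N3651 = N2677 := ded_27_1 (flp_g L21276) (flp_c L21244) L28950
theorem L28956 : sm ge N3651 = N2674 := ded_36_1 (flp_g L21249) L21240 L28950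
theorem L28958 : sm gi N3651 = N2695 := ded_43_2 (flp_g L21425) (flp_i L21246) L28950
theorem L28960 : sm gh N2673 = N3652 := rfl
theorem L28962 : sm ga N3652 = N2682 := ded_15_1 (flp_h L21320) (flp_a L21242) L28960
theorem L28964 : sm gc N3652 = N2678 := ded_28_1 (flp_h L21285) (flp_c L21244) L28960
theorem L28966 : sm ge N3652 = N2675 := ded_37_1 (flp_h L21259) L21240 L28960
theorem L28968 : sm gf N3652 = N3652 := ded_40_1 (flp_h L28960) L21248 L28960
theorem L28969 : sm gi N3652 = N3652 := ded_44_2 (flp_h L28960) L21246 L15729 (flp_i L21246) L28960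
theorem L28970 : sm gh N2674 = N3653 := rfl
theorem L28972 : sm ga N3653 = N2683 := ded_15_1 (flp_h L21329) (flp_a L21251) L28970
theorem L28974 : sm gc N3653 = N2679 := ded_28_1 (flp_h L21294) (flp_c L21253) L28970
theorem L28976 : sm gf N3653 = N2956 := ded_40_1 (flp_h L23460) (flp_f L21257) L28970
theorem L28978 : sm gg N3653 = N2675 := ded_42_1 (flp_h L21259) L21249 L28970
theorem L28980 : sm gi N3653 = N3653 := ded_44_2 (flp_h L28970) L21255 L15737 (flp_i L21255) L28970
theorem L28981 : sm gd N2675 = N3654 := rfl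
theorem L28983 : sm ga N3654 = N2684 := ded_11_1 (flp_d L21339) (flp_a L21261) L28981
theorem L28985 : sm gf N3654 = N2676 := ded_31_2 (flp_d L21268) (flp_f L21265) L28981
theorem L28987 : sm gi N3654 = N3654 := ded_34_2 (flp_d L28981) L21267 L28981
theorem L28988 : sm gc N3654 = N3654 := ded_24_1 (flp_d L28981) L21263 L15632 (flp_c L21263) L28981
theorem L28989 : sm ge N2676 = N3655 := rfl
theorem L28991 : sm ga N3655 = N2685 := ded_12_1 (flp_e L21346) (flp_a L21270) L28989
theorem L28993 : sm gc N3655 = N3655 := ded_25_1 (flp_e L28989) L21275 L28989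
theorem L28994 : sm gg N3655 = N2958 := ded_36_2 (flp_e L23477) (flp_g L21272) L28989
theorem L28996 : sm gi N3655 = N3655 := ded_38_2 (flp_e L28989) L21274 L28989
theorem L28997 : sm gd N3655 = N3655 := ded_30_1 (flp_e L28989) (flp_d L21268) L15602 L21268 L28989
theorem L28998 : sm gf N2677 = N3656 := rfl
theorem L29000 : sm ga N3656 = N2686 := ded_13_1 (flp_f L21354) (flp_a L21278) L28998
theorem L29003 : sm gi N3656 = N2696 := ded_41_2 (flp_f L21434) (flp_i L21283) L28998
theorem L29008 : sm gh N2677 = N3657 := rfl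
theorem L29013 : sm ge N3657 = N2679 := ded_37_1 (flp_h L21294) (flp_e L21281) L29008
theorem L29015 : sm gg N3657 = N2678 := ded_42_1 (flp_h L21285) L21276 L29008
theorem L29018 : sm gd N2678 = N3658 := rfl
theorem L29026 : sm gg N2680 = N3659 := rfl
theorem L29028 : sm gb N3659 = N3659 := ded_21_1 (flp_g L29026) L21307 L29026
theorem L29029 : sm gd N3659 = N2681 := ded_32_1 (flp_g L21311) L21305 L29026
theorem L29031 : sm gi N3659 = N2697 := ded_43_2 (flp_g L21443) (flp_i L21309) L29026
theorem L29033 : sm gh N2680 = N3660 := rfl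
theorem L29035 : sm gb N3660 = N3660 := ded_22_1 (flp_h L29033) L21307 L29033
theorem L29036 : sm gf N3660 = N3660 := ded_40_1 (flp_h L29033) L21308 L29033
theorem L29037 : sm gf N2681 = N3661 := rfl
theorem L29040 : sm gc N3661 = N2686 := ded_26_1 (flp_f L21354) (flp_c L21314) L29037
theorem L29042 : sm gi N3661 = N2699 := ded_41_2 (flp_f L21453) (flp_i L21318) L29037
theorem L29044 : sm ge N3661 = N2964 := ded_35_1 (flp_f L23525) L17304 (flp_f L15649) (flp_e L21316) L29037
theorem L29047 : sm gh N2681 = N3662 := rfl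
theorem L29050 : sm gc N3662 = N2687 := ded_28_1 (flp_h L21363) (flp_c L21314) L29047
theorem L29052 : sm ge N3662 = N2683 := ded_37_1 (flp_h L21329) (flp_e L21316) L29047
theorem L29054 : sm gg N3662 = N2682 := ded_42_1 (flp_h L21320) L21311 L29047
theorem L29057 : sm gd N2682 = N3663 := rfl
theorem L29059 : sm gb N3663 = N3663 := ded_18_1 (flp_d L29057) L21322 L29057
theorem L29060 : sm gf N3663 = N3663 := ded_31_2 (flp_d L29057) L21327 L29057
theorem L29061 : sm gi N3663 = N3663 := ded_34_2 (flp_d L29057) L21328 L29057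
theorem L29062 : sm gd N2683 = N3664 := rfl
theorem L29064 : sm gb N3664 = N3664 := ded_18_1 (flp_d L29062) L21331 L29062
theorem L29065 : sm gf N3664 = N2967 := ded_31_2 (flp_d L23548) (flp_f L21334) L29062
theorem L29067 : sm gg N3664 = N2684 := ded_32_2 (flp_d L21339) (flp_g L21336) L29062
theorem L29069 : sm gi N3664 = N3664 := ded_34_2 (flp_d L29062) L21338 L29062
theorem L29070 : sm gc N3664 = N3664 := ded_24_1 (flp_d L29062) L21332 L15690 (flp_c L21332) L29062
theorem L29071 : sm ge N2684 = N3665 := rfl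
theorem L29073 : sm gb N3665 = N3665 := ded_19_1 (flp_e L29071) L21341 L29071
theorem L29074 : sm gc N3665 = N3665 := ded_25_1 (flp_e L29071) L21345 L29071
theorem L29075 : sm gi N3665 = N3665 := ded_38_2 (flp_e L29071) L21344 L29071
theorem L29076 : sm gf N2685 = N3666 := rfl
theorem L29078 : sm gb N3666 = N3666 := ded_20_1 (flp_f L29076) L21348 L29076
theorem L29079 : sm gc N3666 = N3666 := ded_26_1 (flp_f L29076) L21349 L29076
theorem L29080 : sm gd N3666 = N3666 := ded_31_1 (flp_f L29076) L21353 L29076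
theorem L29081 : sm gi N3666 = N3666 := ded_41_2 (flp_f L29076) L21352 L29076
theorem L29082 : sm gh N2686 = N3667 := rfl
theorem L29086 : sm ge N3667 = N2970 := ded_37_1 (flp_h L23566) (flp_e L21360) L29082
theorem L29105 : sm gd N2689 = N3670 := rfl
theorem L29108 : sm gf N3670 = N2690 := ded_31_2 (flp_d L21389) (flp_f L21385) L29105
theorem L29112 : sm gc N2690 = N3671 := rfl
theorem L29116 : sm gg N3671 = N2691 := ded_27_2 (flp_c L21396) (flp_g L21392) L29112
theorem L29120 : sm gb N2691 = N3672 := rfl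
theorem L29126 : sm gd N2692 = N3673 := rfl
theorem L29128 : sm ga N3673 = N3673 := ded_11_1 (flp_d L29126) L21405 L29126
theorem L29129 : sm gb N3673 = N2694 := ded_18_1 (flp_d L21420) (flp_b L21406) L29126
theorem L29131 : sm gf N3673 = N3673 := ded_31_2 (flp_d L29126) L21410 L29126
theorem L29132 : sm gg N2692 = N3674 := rfl
theorem L29134 : sm ga N3674 = N3674 := ded_14_1 (flp_g L29132) L21405 L29132
theorem L29135 : sm gb N3674 = N2695 := ded_21_1 (flp_g L21425) (flp_b L21406) L29132
theorem L29137 : sm gc N3674 = N3674 := ded_27_1 (flp_g L29132) L21408 L29132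
theorem L29138 : sm ge N3674 = N2693 := ded_36_1 (flp_g L21411) L21403 L29132
theorem L29140 : sm gh N3674 = N3674 := ded_42_2 (flp_g L29132) L21409 L29132
theorem L29141 : sm gg N2694 = N3675 := rfl
theorem L29143 : sm ga N3675 = N2697 := ded_14_1 (flp_g L21443) (flp_a L21422) L29141
theorem L29145 : sm gd N3675 = N2695 := ded_32_1 (flp_g L21425) L21420 L29141
theorem L29147 : sm gh N2694 = N3676 := rfl
theorem L29149 : sm ga N3676 = N2698 := ded_15_1 (flp_h L21448) (flp_a L21422) L29147
theorem L29151 : sm gf N3676 = N3676 := ded_40_1 (flp_h L29147) L21424 L29147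
theorem L29152 : sm gd N3676 = N3676 := ded_33_1 (flp_h L29147) (flp_d L21420) L15729 L21420 L29147
theorem L29153 : sm gf N2695 = N3677 := rfl
theorem L29155 : sm ga N3677 = N2699 := ded_13_1 (flp_f L21453) (flp_a L21427) L29153
theorem L29157 : sm gc N3677 = N2696 := ded_26_1 (flp_f L21434) (flp_c L21429) L29153
theorem L29159 : sm gh N3677 = N3677 := ded_40_2 (flp_f L29153) L21433 L29153
theorem L29160 : sm ge N3677 = N2980 := ded_35_1 (flp_f L23642) L17414 (flp_f L15738) (flp_e L21431) L29153
theorem L29162 : sm gg N3677 = N3677 := ded_39_2 (flp_f L29153) (flp_g L21425) L15730 L21425 L29153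
theorem L29163 : sm gf N2697 = N3678 := rfl
theorem L29165 : sm gb N3678 = N3678 := ded_20_1 (flp_f L29163) L21445 L29163
theorem L29166 : sm gd N3678 = N2699 := ded_31_1 (flp_f L21453) (flp_d L21446) L29163
theorem L29168 : sm gg N3678 = N3678 := ded_39_2 (flp_f L29163) (flp_g L21443) L15751 L21443 L29163
theorem L29169 : sm gh N2697 = N3679 := rfl
theorem L29171 : sm gb N3679 = N3679 := ded_22_1 (flp_h L29169) L21445 L29169
theorem L29172 : sm gg N3679 = N2698 := ded_42_1 (flp_h L21448) L21443 L29169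
theorem L29174 : sm gd N3679 = N3679 := ded_33_1 (flp_h L29169) L21446 L15759 (flp_d L21446) L29169
theorem L29175 : sm gi N2698 = N3680 := rfl
theorem L29177 : sm gb N3680 = N3680 := ded_23_1 (flp_i L29175) L21450 L29175
theorem L29178 : sm gd N3680 = N3680 := ded_34_1 (flp_i L29175) L21452 L29175
theorem L29179 : sm gf N3680 = N3680 := ded_41_1 (flp_i L29175) L21451 L29175
theorem L29180 : sm gh N2700 = N3681 := rfl
theorem L29182 : sm ga N3681 = N3681 := ded_15_1 (flp_h L29180) L21464 L29180
theorem L29183 : sm gb N3681 = N2704 := ded_22_1 (flp_h L21496) (flp_b L21465) L29180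
theorem L29185 : sm gc N3681 = N3681 := ded_28_1 (flp_h L29180) L21467 L29180
theorem L29186 : sm ge N3681 = N3681 := ded_37_1 (flp_h L29180) L21468 L29180
theorem L29187 : sm gf N3681 = N3681 := ded_40_1 (flp_h L29180) L21470 L29180
theorem L29188 : sm gg N3681 = N2701 := ded_42_1 (flp_h L21471) L21462 L29180
theorem L29190 : sm gd N2701 = N3682 := rfl
theorem L29192 : sm ga N3682 = N3682 := ded_11_1 (flp_d L29190) L21473 L29190
theorem L29193 : sm gb N3682 = N2705 := ded_18_1 (flp_d L21506) (flp_b L21474) L29190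
theorem L29195 : sm gf N3682 = N2702 := ded_31_2 (flp_d L21480) (flp_f L21478) L29190
theorem L29197 : sm gi N2701 = N3683 := rfl
theorem L29199 : sm ga N3683 = N3683 := ded_16_1 (flp_i L29197) L21473 L29197
theorem L29200 : sm gb N3683 = N2706 := ded_23_1 (flp_i L21512) (flp_b L21474) L29197
theorem L29202 : sm gc N3683 = N3683 := ded_29_1 (flp_i L29197) L21476 L29197
theorem L29203 : sm ge N3683 = N3683 := ded_38_1 (flp_i L29197) L21477 L29197
theorem L29204 : sm gf N3683 = N2703 := ded_41_1 (flp_i L21486) (flp_f L21478) L29197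
theorem L29206 : sm gh N3683 = N3683 := ded_44_1 (flp_i L29197) (flp_h L21471) L15774 L21471 L29197
theorem L29207 : sm gc N2702 = N3684 := rfl
theorem L29209 : sm ga N3684 = N3684 := ded_10_1 (flp_c L29207) L21482 L29207
theorem L29210 : sm gg N3684 = N3684 := ded_27_2 (flp_c L29207) L21485 L29207
theorem L29211 : sm gd N3684 = N3684 := ded_24_2 (flp_c L29207) (flp_d L21480) L15781 L21480 L29207
theorem L29212 : sm ge N2702 = N3685 := rfl
theorem L29214 : sm ga N3685 = N3685 := ded_12_1 (flp_e L29212) L21482 L29212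
theorem L29215 : sm gb N3685 = N2707 := ded_19_1 (flp_e L21522) (flp_b L21483) L29212
theorem L29217 : sm gg N3685 = N3685 := ded_36_2 (flp_e L29212) L21485 L29212
theorem L29218 : sm gd N3685 = N2718 := ded_30_1 (flp_e L21599) (flp_d L15880) (flp_e L15782) L21480 L29212
theorem L29220 : sm gi N2702 = N3686 := rfl
theorem L29222 : sm ga N3686 = N3686 := ded_16_1 (flp_i L29220) L21482 L29220
theorem L29223 : sm gb N3686 = N2708 := ded_23_1 (flp_i L21529) (flp_b L21483) L29220
theorem L29225 : sm gd N3686 = N2703 := ded_34_1 (flp_i L21486) L21480 L29220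
theorem L29227 : sm gg N3686 = N3686 := ded_43_1 (flp_i L29220) L21485 L29220
theorem L29228 : sm gd N2704 = N3687 := rfl
theorem L29230 : sm ga N3687 = N2710 := ded_11_1 (flp_d L21546) (flp_a L21498) L29228
theorem L29232 : sm gf N3687 = N3687 := ded_31_2 (flp_d L29228) L21503 L29228
theorem L29233 : sm gg N3687 = N2705 := ded_32_2 (flp_d L21506) (flp_g L21504) L29228
theorem L29235 : sm gi N2704 = N3688 := rfl
theorem L29237 : sm ga N3688 = N2711 := ded_16_1 (flp_i L21552) (flp_a L21498) L29235
theorem L29239 : sm gc N3688 = N2709 := ded_29_1 (flp_i L21536) (flp_c L21500) L29235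
theorem L29241 : sm ge N3688 = N3688 := ded_38_1 (flp_i L29235) L21502 L29235
theorem L29242 : sm gf N3688 = N3688 := ded_41_1 (flp_i L29235) L21503 L29235
theorem L29243 : sm gg N3688 = N2706 := ded_43_1 (flp_i L21512) (flp_g L21504) L29235
theorem L29245 : sm gh N3688 = N3688 := ded_44_1 (flp_i L29235) (flp_h L21496) L15792 L21496 L29235
theorem L29246 : sm ge N2705 = N3689 := rfl
theorem L29248 : sm ga N3689 = N2712 := ded_12_1 (flp_e L21562) (flp_a L21508) L29246
theorem L29250 : sm gd N3689 = N3689 := ded_30_1 (flp_e L29246) (flp_d L21506) L15800 L21506 L29246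
theorem L29251 : sm gi N2705 = N3690 := rfl
theorem L29253 : sm ga N3690 = N2713 := ded_16_1 (flp_i L21566) (flp_a L21508) L29251
theorem L29255 : sm gd N3690 = N2706 := ded_34_1 (flp_i L21512) L21506 L29251
theorem L29257 : sm gf N3690 = N2708 := ded_41_1 (flp_i L21529) (flp_f L21510) L29251
theorem L29259 : sm gf N2707 = N3691 := rfl
theorem L29261 : sm ga N3691 = N2714 := ded_13_1 (flp_f L21573) (flp_a L21524) L29259
theorem L29263 : sm gd N3691 = N2720 := ded_31_1 (flp_f L21615) (flp_d L21527) L29259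
theorem L29265 : sm gi N2707 = N3692 := rfl
theorem L29267 : sm ga N3692 = N2715 := ded_16_1 (flp_i L21578) (flp_a L21524) L29265
theorem L29269 : sm gd N3692 = N2721 := ded_34_1 (flp_i L21622) (flp_d L21527) L29265
theorem L29271 : sm ge N3692 = N2708 := ded_38_1 (flp_i L21529) L21522 L29265
theorem L29273 : sm gg N3692 = N3692 := ded_43_1 (flp_i L29265) L21526 L29265
theorem L29274 : sm gh N2708 = N3693 := rfl
theorem L29276 : sm ga N3693 = N2716 := ded_15_1 (flp_h L21586) (flp_a L21531) L29274
theorem L29278 : sm gg N3693 = N3693 := ded_42_1 (flp_h L29274) L21535 L29274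
theorem L29279 : sm gd N3693 = N3693 := ded_33_1 (flp_h L29274) L21533 L15817 (flp_d L21533) L29274
theorem L29280 : sm ge N2710 = N3694 := rfl
theorem L29282 : sm gb N3694 = N3694 := ded_19_1 (flp_e L29280) L21548 L29280
theorem L29283 : sm gg N3694 = N2712 := ded_36_2 (flp_e L21562) (flp_g L21550) L29280
theorem L29285 : sm gd N3694 = N3694 := ded_30_1 (flp_e L29280) (flp_d L21546) L15841 L21546 L29280
theorem L29286 : sm gi N2710 = N3695 := rfl
theorem L29288 : sm gb N3695 = N3695 := ded_23_1 (flp_i L29286) L21548 L29286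
theorem L29289 : sm gd N3695 = N2711 := ded_34_1 (flp_i L21552) L21546 L29286
theorem L29291 : sm gf N3695 = N3695 := ded_41_1 (flp_i L29286) L21549 L29286
theorem L29292 : sm gg N3695 = N2713 := ded_43_1 (flp_i L21566) (flp_g L21550) L29286
theorem L29294 : sm gf N2712 = N3696 := rfl
theorem L29296 : sm gb N3696 = N3696 := ded_20_1 (flp_f L29294) L21564 L29294
theorem L29297 : sm gd N3696 = N3696 := ded_31_1 (flp_f L29294) L21565 L29294
theorem L29298 : sm ge N3696 = N2714 := ded_35_1 (flp_f L21573) (flp_e L15859) (flp_f L15848) L21562 L29294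
theorem L29300 : sm gi N2712 = N3697 := rfl
theorem L29302 : sm gb N3697 = N3697 := ded_23_1 (flp_i L29300) L21564 L29300
theorem L29303 : sm gd N3697 = N3697 := ded_34_1 (flp_i L29300) L21565 L29300
theorem L29304 : sm ge N3697 = N2713 := ded_38_1 (flp_i L21566) L21562 L29300
theorem L29306 : sm gh N2713 = N3698 := rfl
theorem L29308 : sm gb N3698 = N3698 := ded_22_1 (flp_h L29306) L21568 L29306
theorem L29309 : sm gf N3698 = N2716 := ded_40_1 (flp_h L21586) (flp_f L21571) L29306
theorem L29311 : sm gd N3698 = N3698 := ded_33_1 (flp_h L29306) L21569 L15858 (flp_d L21569) L29306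
theorem L29312 : sm gg N2714 = N3699 := rfl
theorem L29314 : sm gb N3699 = N3699 := ded_21_1 (flp_g L29312) L21575 L29312
theorem L29315 : sm gd N3699 = N2723 := ded_32_1 (flp_g L21639) (flp_d L21576) L29312
theorem L29317 : sm gf N3699 = N3699 := ded_39_1 (flp_g L29312) (flp_f L21573) L15862 L21573 L29312
theorem L29318 : sm gi N2714 = N3700 := rfl
theorem L29320 : sm gb N3700 = N3700 := ded_23_1 (flp_i L29318) L21575 L29318
theorem L29321 : sm gd N3700 = N2724 := ded_34_1 (flp_i L21646) (flp_d L21576) L29318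
theorem L29323 : sm gf N3700 = N2715 := ded_41_1 (flp_i L21578) L21573 L29318
theorem L29325 : sm gh N2715 = N3701 := rfl
theorem L29327 : sm gb N3701 = N3701 := ded_22_1 (flp_h L29325) L21580 L29325
theorem L29328 : sm ge N3701 = N2716 := ded_37_1 (flp_h L21586) (flp_e L21583) L29325
theorem L29330 : sm gg N3701 = N3701 := ded_42_1 (flp_h L29325) L21585 L29325
theorem L29331 : sm ge N2717 = N3702 := rfl
theorem L29333 : sm ga N3702 = N3702 := ded_12_1 (flp_e L29331) L21593 L29331
theorem L29334 : sm gb N3702 = N3702 := ded_19_1 (flp_e L29331) L21597 L29331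
theorem L29335 : sm gc N3702 = N2718 := ded_25_1 (flp_e L21599) L21591 L29331
theorem L29337 : sm gg N3702 = N3702 := ded_36_2 (flp_e L29331) L21595 L29331
theorem L29338 : sm gh N3702 = N3702 := ded_37_2 (flp_e L29331) L21596 L29331
theorem L29339 : sm gi N2717 = N3703 := rfl
theorem L29341 : sm ga N3703 = N3703 := ded_16_1 (flp_i L29339) L21593 L29339
theorem L29342 : sm gb N3703 = N3703 := ded_23_1 (flp_i L29339) L21597 L29339
theorem L29343 : sm gc N3703 = N2719 := ded_29_1 (flp_i L21606) L21591 L29339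
theorem L29345 : sm gd N3703 = N3703 := ded_34_1 (flp_i L29339) L21598 L29339
theorem L29346 : sm gf N3703 = N3703 := ded_41_1 (flp_i L29339) L21594 L29339
theorem L29347 : sm gg N3703 = N3703 := ded_43_1 (flp_i L29339) L21595 L29339
theorem L29348 : sm gf N2718 = N3704 := rfl
theorem L29350 : sm ga N3704 = N3704 := ded_13_1 (flp_f L29348) L21601 L29348
theorem L29351 : sm gb N3704 = N2720 := ded_20_1 (flp_f L21615) (flp_b L21602) L29348
theorem L29353 : sm gh N3704 = N3704 := ded_40_2 (flp_f L29348) L21605 L29348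
theorem L29354 : sm ge N3704 = N3704 := ded_35_1 (flp_f L29348) (flp_e L21599) L15885 L21599 L29348
theorem L29355 : sm gi N2718 = N3705 := rfl
theorem L29357 : sm ga N3705 = N3705 := ded_16_1 (flp_i L29355) L21601 L29355
theorem L29358 : sm gb N3705 = N2721 := ded_23_1 (flp_i L21622) (flp_b L21602) L29355
theorem L29360 : sm ge N3705 = N2719 := ded_38_1 (flp_i L21606) L21599 L29355
theorem L29362 : sm gg N3705 = N3705 := ded_43_1 (flp_i L29355) L21604 L29355
theorem L29363 : sm gh N2719 = N3706 := rfl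
theorem L29365 : sm ga N3706 = N3706 := ded_15_1 (flp_h L29363) L21608 L29363
theorem L29366 : sm gb N3706 = N2722 := ded_22_1 (flp_h L21630) (flp_b L21609) L29363
theorem L29368 : sm gf N3706 = N3706 := ded_40_1 (flp_h L29363) L21613 L29363
theorem L29369 : sm gg N3706 = N3706 := ded_42_1 (flp_h L29363) L21614 L29363
theorem L29370 : sm gd N3706 = N3706 := ded_33_1 (flp_h L29363) L21611 L15896 (flp_d L21611) L29363
theorem L29371 : sm gi N3706 = N3706 := ded_44_2 (flp_h L29363) (flp_i L21606) L15887 L21606 L29363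
theorem L29372 : sm gg N2720 = N3707 := rfl
theorem L29374 : sm ga N3707 = N2723 := ded_14_1 (flp_g L21639) (flp_a L21617) L29372
theorem L29376 : sm gc N3707 = N3707 := ded_27_1 (flp_g L29372) L21619 L29372
theorem L29377 : sm ge N3707 = N3707 := ded_36_1 (flp_g L29372) L21621 L29372
theorem L29378 : sm gh N3707 = N3707 := ded_42_2 (flp_g L29372) L21620 L29372
theorem L29379 : sm gf N3707 = N3707 := ded_39_1 (flp_g L29372) (flp_f L21615) L15902 L21615 L29372
theorem L29380 : sm gi N2720 = N3708 := rfl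
theorem L29382 : sm ga N3708 = N2724 := ded_16_1 (flp_i L21646) (flp_a L21617) L29380
theorem L29384 : sm gc N3708 = N3708 := ded_29_1 (flp_i L29380) L21619 L29380
theorem L29385 : sm ge N3708 = N3708 := ded_38_1 (flp_i L29380) L21621 L29380
theorem L29386 : sm gf N3708 = N2721 := ded_41_1 (flp_i L21622) L21615 L29380
theorem L29388 : sm gh N2721 = N3709 := rfl
theorem L29390 : sm ga N3709 = N2725 := ded_15_1 (flp_h L21653) (flp_a L21624) L29388
theorem L29392 : sm gc N3709 = N3709 := ded_28_1 (flp_h L29388) L21626 L29388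
theorem L29393 : sm ge N3709 = N2722 := ded_37_1 (flp_h L21630) (flp_e L21627) L29388
theorem L29395 : sm gg N3709 = N3709 := ded_42_1 (flp_h L29388) L21629 L29388
theorem L29396 : sm gi N3709 = N3709 := ded_44_2 (flp_h L29388) (flp_i L21622) L15903 L21622 L29388
theorem L29397 : sm gi N2723 = N3710 := rfl
theorem L29399 : sm gb N3710 = N3710 := ded_23_1 (flp_i L29397) L21641 L29397
theorem L29400 : sm gc N3710 = N3710 := ded_29_1 (flp_i L29397) L21642 L29397
theorem L29401 : sm ge N3710 = N3710 := ded_38_1 (flp_i L29397) L21643 L29397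
theorem L29402 : sm gf N3710 = N3710 := ded_41_1 (flp_i L29397) L21645 L29397
theorem L29403 : sm gg N3710 = N2724 := ded_43_1 (flp_i L21646) L21639 L29397
theorem L29405 : sm gh N2724 = N3711 := rfl
theorem L29407 : sm gb N3711 = N3711 := ded_22_1 (flp_h L29405) L21648 L29405
theorem L29408 : sm gc N3711 = N3711 := ded_28_1 (flp_h L29405) L21649 L29405
theorem L29409 : sm ge N3711 = N3711 := ded_37_1 (flp_h L29405) L21650 L29405
theorem L29410 : sm gf N3711 = N2725 := ded_40_1 (flp_h L21653) (flp_f L21651) L29405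
theorem L29412 : sm gi N3711 = N3711 := ded_44_2 (flp_h L29405) (flp_i L21646) L15917 L21646 L29405
theorem L29413 : sm gd N2725 = N3712 := rfl
theorem L29415 : sm gb N3712 = N3712 := ded_18_1 (flp_d L29413) L21655 L29413
theorem L29416 : sm gg N3712 = N3712 := ded_32_2 (flp_d L29413) L21659 L29413
theorem L29417 : sm gi N3712 = N3712 := ded_34_2 (flp_d L29413) L21660 L29413
theorem L29418 : sm ge N3712 = N3712 := ded_30_2 (flp_d L29413) L21657 L15932 (flp_e L21657) L29413
theorem L29419 : sm ge N2726 = N3713 := rfl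
theorem L29422 : sm gb N3713 = N2728 := ded_19_1 (flp_e L21676) (flp_b L21664) L29419
theorem L29424 : sm gc N3713 = N2884 := ded_25_1 (flp_e L22937) (flp_c L21666) L29419
theorem L29426 : sm gg N2726 = N3714 := rfl
theorem L29431 : sm gc N3714 = N2885 := ded_27_1 (flp_g L22942) (flp_c L21666) L29426
theorem L29434 : sm gh N2726 = N3715 := rfl
theorem L29441 : sm gf N3715 = N2727 := ded_40_1 (flp_h L21669) L21661 L29434
theorem L29443 : sm gd N2727 = N3716 := rfl
theorem L29450 : sm gi N2727 = N3717 := rfl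
theorem L29457 : sm gd N2728 = N3718 := rfl
theorem L29459 : sm ga N3718 = N2737 := ded_11_1 (flp_d L21747) (flp_a L21678) L29457
theorem L29463 : sm gg N2728 = N3719 := rfl
theorem L29465 : sm ga N3719 = N2738 := ded_14_1 (flp_g L21752) (flp_a L21678) L29463
theorem L29471 : sm gh N2728 = N3720 := rfl
theorem L29473 : sm ga N3720 = N2739 := ded_15_1 (flp_h L21759) (flp_a L21678) L29471
theorem L29479 : sm gh N2729 = N3721 := rfl
theorem L29487 : sm gd N2730 = N3722 := rfl
theorem L29491 : sm gf N3722 = N2731 := ded_31_2 (flp_d L21697) (flp_f L21695) L29487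
theorem L29493 : sm gc N3722 = N2759 := ded_24_1 (flp_d L21914) L16105 (flp_d L15976) (flp_c L21693) L29487
theorem L29504 : sm ge N2731 = N3724 := rfl
theorem L29519 : sm gf N2733 = N3726 := rfl
theorem L29526 : sm gh N2733 = N3727 := rfl
theorem L29532 : sm ge N3727 = N2735 := ded_37_1 (flp_h L21727) (flp_e L21717) L29526
theorem L29534 : sm gg N3727 = N2734 := ded_42_1 (flp_h L21719) L21710 L29526
theorem L29536 : sm gd N2734 = N3728 := rfl
theorem L29563 : sm gg N2737 = N3731 := rfl
theorem L29570 : sm gh N2737 = N3732 := rfl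
theorem L29575 : sm gf N2738 = N3733 := rfl
theorem L29580 : sm gh N2738 = N3734 := rfl
theorem L29585 : sm ge N3734 = N2740 := ded_37_1 (flp_h L21766) (flp_e L21757) L29580
theorem L29587 : sm gg N3734 = N2739 := ded_42_1 (flp_h L21759) L21752 L29580
theorem L29589 : sm gd N2739 = N3735 := rfl
theorem L29592 : sm gi N2739 = N3736 := rfl
theorem L29599 : sm gd N2740 = N3737 := rfl
theorem L29602 : sm gg N3737 = N2741 := ded_32_2 (flp_d L21773) (flp_g L21771) L29599
theorem L29604 : sm gc N3737 = N2774 := ded_24_1 (flp_d L22041) L16190 (flp_d L16034) (flp_c L21769) L29599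
theorem L29607 : sm gi N2740 = N3738 := rfl
theorem L29612 : sm gg N3738 = N2742 := ded_43_1 (flp_i L21781) (flp_g L21771) L29607
theorem L29614 : sm ge N2741 = N3739 := rfl
theorem L29620 : sm gi N2741 = N3740 := rfl
theorem L29627 : sm gf N3740 = N2744 := ded_41_1 (flp_i L21794) (flp_f L21776) L29620
theorem L29629 : sm gf N2743 = N3741 := rfl
theorem L29635 : sm gi N2743 = N3742 := rfl
theorem L29640 : sm ge N3742 = N2744 := ded_38_1 (flp_i L21794) L21788 L29635
theorem L29642 : sm gh N2744 = N3743 := rfl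
theorem L29654 : sm gd N2746 = N3745 := rfl
theorem L29656 : sm gb N3745 = N2751 := ded_18_1 (flp_d L21842) (flp_b L21808) L29654
theorem L29658 : sm gg N3745 = N2747 := ded_32_2 (flp_d L21814) (flp_g L21812) L29654
theorem L29671 : sm gc N2747 = N3747 := rfl
theorem L29684 : sm gd N2750 = N3749 := rfl
theorem L29686 : sm ga N3749 = N2910 := ded_11_1 (flp_d L23121) (flp_a L21837) L29684
theorem L29688 : sm gf N3749 = N2751 := ded_31_2 (flp_d L21842) (flp_f L21840) L29684
theorem L29691 : sm gi N2750 = N3750 := rfl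
theorem L29698 : sm gc N2751 = N3751 := rfl
theorem L29702 : sm ge N3751 = N2788 := ded_25_2 (flp_c L22141) (flp_e L21848) L29698
theorem L29704 : sm gg N3751 = N2753 := ded_27_2 (flp_c L21860) (flp_g L21846) L29698
theorem L29708 : sm gi N2751 = N3752 := rfl
theorem L29716 : sm gg N3752 = N2754 := ded_43_1 (flp_i L21868) (flp_g L21846) L29708
theorem L29718 : sm gb N2753 = N3753 := rfl
theorem L29724 : sm gi N2753 = N3754 := rfl
theorem L29731 : sm ge N3754 = N2791 := ded_38_1 (flp_i L22164) (flp_e L21864) L29724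
theorem L29733 : sm gh N2754 = N3755 := rfl
theorem L29737 : sm ge N3755 = N2792 := ded_37_1 (flp_h L22173) (flp_e L21874) L29733
theorem L29740 : sm gg N2755 = N3756 := rfl
theorem L29746 : sm gd N3756 = N2756 := ded_32_1 (flp_g L21885) L21876 L29740
theorem L29750 : sm gh N2755 = N3757 := rfl
theorem L29767 : sm gh N2756 = N3759 := rfl
theorem L29769 : sm ga N3759 = N2771 := ded_15_1 (flp_h L22016) (flp_a L21887) L29767
theorem L29774 : sm ge N3759 = N2758 := ded_37_1 (flp_h L21905) (flp_e L21892) L29767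
theorem L29776 : sm gg N3759 = N2757 := ded_42_1 (flp_h L21895) L21885 L29767
theorem L29778 : sm gd N2757 = N3760 := rfl
theorem L29780 : sm ga N3760 = N2772 := ded_11_1 (flp_d L22026) (flp_a L21897) L29778
theorem L29784 : sm gi N2757 = N3761 := rfl
theorem L29791 : sm ge N3761 = N2760 := ded_38_1 (flp_i L21922) (flp_e L21902) L29784
theorem L29795 : sm gd N2758 = N3762 := rfl
theorem L29800 : sm gg N3762 = N2759 := ded_32_2 (flp_d L21914) (flp_g L21912) L29795
theorem L29813 : sm ge N2759 = N3764 := rfl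
theorem L29819 : sm gi N2759 = N3765 := rfl
theorem L29826 : sm gf N3765 = N2762 := ded_41_1 (flp_i L21939) (flp_f L21919) L29819
theorem L29828 : sm gf N2761 = N3766 := rfl
theorem L29835 : sm gi N2761 = N3767 := rfl
theorem L29841 : sm ge N3767 = N2762 := ded_38_1 (flp_i L21939) L21932 L29835
theorem L29843 : sm gh N2762 = N3768 := rfl
theorem L29850 : sm gh N2763 = N3769 := rfl
theorem L29852 : sm ga N3769 = N2781 := ded_15_1 (flp_h L22089) (flp_a L21948) L29850
theorem L29856 : sm gf N3769 = N2764 := ded_40_1 (flp_h L21955) L21946 L29850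
theorem L29859 : sm gd N2764 = N3770 := rfl
theorem L29861 : sm ga N3770 = N2782 := ded_11_1 (flp_d L22096) (flp_a L21957) L29859
theorem L29865 : sm gg N3770 = N2765 := ded_32_2 (flp_d L21965) (flp_g L21963) L29859
theorem L29868 : sm gi N2764 = N3771 := rfl
theorem L29876 : sm gg N3771 = N2766 := ded_43_1 (flp_i L21973) (flp_g L21963) L29868
theorem L29879 : sm gc N2765 = N3772 := rfl
theorem L29894 : sm gf N2768 = N3774 := rfl
theorem L29899 : sm gd N3774 = N2770 := ded_31_1 (flp_f L22008) (flp_d L21997) L29894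
theorem L29903 : sm gh N2768 = N3775 := rfl
theorem L29911 : sm gd N2769 = N3776 := rfl
theorem L29916 : sm gh N3776 = N2772 := ded_33_2 (flp_d L22026) (flp_h L16177) L16160 L22001 L29911
theorem L29926 : sm gh N2770 = N3778 := rfl
theorem L29930 : sm gc N3778 = N2781 := ded_28_1 (flp_h L22089) (flp_c L22012) L29926
theorem L29932 : sm gf N3778 = N2771 := ded_40_1 (flp_h L22016) L22008 L29926
theorem L29935 : sm gd N2771 = N3779 := rfl
theorem L29939 : sm gg N3779 = N2772 := ded_32_2 (flp_d L22026) (flp_g L22024) L29935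
theorem L29952 : sm gc N2772 = N3781 := rfl
theorem L29957 : sm ge N2772 = N3782 := rfl
theorem L29959 : sm gb N3782 = N2801 := ded_19_1 (flp_e L22240) (flp_b L22028) L29957
theorem L29970 : sm ge N2774 = N3784 := rfl
theorem L29974 : sm gg N3784 = N2776 := ded_36_2 (flp_e L22057) (flp_g L22045) L29970
theorem L29977 : sm gi N2774 = N3785 := rfl
theorem L29985 : sm gf N2776 = N3786 := rfl
theorem L29990 : sm ge N3786 = N2778 := ded_35_1 (flp_f L22070) (flp_e L16210) (flp_f L16198) L22057 L29985
theorem L30012 : sm gi N2778 = N3790 := rfl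
theorem L30014 : sm gb N3790 = N2809 := ded_23_1 (flp_i L22293) (flp_b L22072) L30012
theorem L30026 : sm gd N2781 = N3792 := rfl
theorem L30028 : sm gb N3792 = N2786 := ded_18_1 (flp_d L22123) (flp_b L22091) L30026
theorem L30030 : sm gf N3792 = N2782 := ded_31_2 (flp_d L22096) (flp_f L22093) L30026
theorem L30034 : sm gi N2781 = N3793 := rfl
theorem L30038 : sm gf N3793 = N2783 := ded_41_1 (flp_i L22103) (flp_f L22093) L30034
theorem L30042 : sm gc N2782 = N3794 := rfl
theorem L30073 : sm gc N2786 = N3799 := rfl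
theorem L30075 : sm ga N3799 = N2929 := ded_10_1 (flp_c L23255) (flp_a L22125) L30073
theorem L30077 : sm gf N3799 = N2788 := ded_26_2 (flp_c L22141) (flp_f L22127) L30073
theorem L30081 : sm gd N3799 = N2818 := ded_24_2 (flp_c L22369) (flp_d L16436) (flp_c L16262) L22123 L30073
theorem L30098 : sm gb N2788 = N3802 := rfl
theorem L30102 : sm gg N3802 = N2790 := ded_21_2 (flp_b L22158) (flp_g L22145) L30098
theorem L30105 : sm gi N2788 = N3803 := rfl
theorem L30113 : sm gg N3803 = N2791 := ded_43_1 (flp_i L22164) (flp_g L22145) L30105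
theorem L30115 : sm gh N2789 = N3804 := rfl
theorem L30119 : sm gg N3804 = N2792 := ded_42_1 (flp_h L22173) (flp_g L22156) L30115
theorem L30131 : sm gi N2790 = N3806 := rfl
theorem L30138 : sm gh N2791 = N3807 := rfl
theorem L30140 : sm ga N3807 = N2937 := ded_15_1 (flp_h L23308) (flp_a L22166) L30138
theorem L30154 : sm gh N2793 = N3809 := rfl
theorem L30178 : sm gc N2795 = N3812 := rfl
theorem L30182 : sm gh N3812 = N2800 := ded_28_2 (flp_c L22234) (flp_h L22201) L30178
theorem L30186 : sm ge N2795 = N3813 := rfl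
theorem L30189 : sm gh N3813 = N2801 := ded_37_2 (flp_e L22240) (flp_h L22201) L30186
theorem L30198 : sm gd N2797 = N3815 := rfl
theorem L30201 : sm gf N3815 = N2798 := ded_31_2 (flp_d L22219) (flp_f L22216) L30198
theorem L30204 : sm gi N2797 = N3816 := rfl
theorem L30209 : sm gf N3816 = N2799 := ded_41_1 (flp_i L22224) (flp_f L22216) L30204
theorem L30213 : sm gc N2798 = N3817 := rfl
theorem L30216 : sm gg N3817 = N2800 := ded_27_2 (flp_c L22234) (flp_g L22222) L30213
theorem L30220 : sm ge N2798 = N3818 := rfl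
theorem L30223 : sm gg N3818 = N2801 := ded_36_2 (flp_e L22240) (flp_g L22222) L30220
theorem L30225 : sm gd N3818 = N2803 := ded_30_1 (flp_e L22251) (flp_d L16345) (flp_e L16328) L22219 L30220
theorem L30227 : sm gi N2798 = N3819 := rfl
theorem L30232 : sm gg N3819 = N2802 := ded_43_1 (flp_i L22245) (flp_g L22222) L30227
theorem L30239 : sm ge N2800 = N3821 := rfl
theorem L30242 : sm gc N3821 = N2801 := ded_25_1 (flp_e L22240) L22234 L30239
theorem L30245 : sm gi N2800 = N3822 := rfl
theorem L30248 : sm gc N3822 = N2802 := ded_29_1 (flp_i L22245) L22234 L30245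
theorem L30253 : sm gf N2801 = N3823 := rfl
theorem L30259 : sm gi N2801 = N3824 := rfl
theorem L30266 : sm gh N2802 = N3825 := rfl
theorem L30271 : sm gf N2803 = N3826 := rfl
theorem L30276 : sm gi N2803 = N3827 := rfl
theorem L30284 : sm gh N2804 = N3828 := rfl
theorem L30292 : sm gg N2805 = N3829 := rfl
theorem L30296 : sm ge N3829 = N2808 := ded_36_1 (flp_g L22287) (flp_e L22271) L30292
theorem L30314 : sm gi N2808 = N3832 := rfl
theorem L30328 : sm gd N2810 = N3834 := rfl
theorem L30334 : sm gc N2811 = N3835 := rfl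
theorem L30340 : sm gh N3835 = N3011 := ded_28_2 (flp_c L23879) (flp_h L22315) L30334
theorem L30342 : sm ge N2811 = N3836 := rfl
theorem L30348 : sm gh N3836 = N3012 := ded_37_2 (flp_e L23885) (flp_h L22315) L30342
theorem L30378 : sm gh N2814 = N3840 := rfl
theorem L30387 : sm gi N3840 = N3016 := ded_44_2 (flp_h L23918) (flp_i L17610) (flp_h L16408) L22334 L30378
theorem L30398 : sm gi N2815 = N3842 := rfl
theorem L30415 : sm gb N2818 = N3844 := rfl
theorem L30420 : sm gh N3844 = N3020 := ded_22_2 (flp_b L23949) (flp_h L22376) L30415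
theorem L30422 : sm ge N2818 = N3845 := rfl
theorem L30424 : sm ga N3845 = N2939 := ded_12_1 (flp_e L23322) (flp_a L22371) L30422
theorem L30429 : sm gh N3845 = N3021 := ded_37_2 (flp_e L23955) (flp_h L22376) L30422
theorem L30432 : sm gi N2818 = N3846 := rfl
theorem L30438 : sm gf N3846 = N2822 := ded_41_1 (flp_i L22402) (flp_f L22373) L30432
theorem L30449 : sm gh N2820 = N3848 := rfl
theorem L30457 : sm gi N3848 = N3024 := ded_44_2 (flp_h L23982) (flp_i L17656) (flp_h L16443) L22386 L30449
theorem L30459 : sm ga N2821 = N3849 := rfl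
theorem L30462 : sm gg N3849 = N2824 := ded_14_2 (flp_a L22421) (flp_g L22398) L30459
theorem L30464 : sm gh N3849 = N3025 := ded_15_2 (flp_a L23990) (flp_h L22400) L30459
theorem L30475 : sm gh N2822 = N3851 := rfl
theorem L30484 : sm gi N3851 = N3027 := ded_44_2 (flp_h L24006) (flp_i L17671) (flp_h L16460) L22402 L30475
theorem L30486 : sm gi N2824 = N3852 := rfl
theorem L30510 : sm ge N2827 = N3855 := rfl
theorem L30512 : sm ga N3855 = N3855 := ded_12_1 (flp_e L30510) L22447 L30510
theorem L30513 : sm gb N3855 = N2829 := ded_19_1 (flp_e L22460) (flp_b L22448) L30510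
theorem L30515 : sm gi N3855 = N3713 := ded_38_2 (flp_e L29419) (flp_i L22451) L30510
theorem L30517 : sm gf N3855 = N2884 := ded_35_2 (flp_e L22937) (flp_f L16853) (flp_e L16497) L22445 L30510
theorem L30519 : sm gg N2827 = N3856 := rfl
theorem L30522 : sm gb N3856 = N2830 := ded_21_1 (flp_g L22470) (flp_b L22448) L30519
theorem L30527 : sm gh N2827 = N3857 := rfl
theorem L30529 : sm ga N3857 = N3857 := ded_15_1 (flp_h L30527) L22447 L30527
theorem L30530 : sm gb N3857 = N2831 := ded_22_1 (flp_h L22479) (flp_b L22448) L30527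
theorem L30532 : sm gf N3857 = N2828 := ded_40_1 (flp_h L22453) L22445 L30527
theorem L30534 : sm gd N2828 = N3858 := rfl
theorem L30536 : sm ga N3858 = N3858 := ded_11_1 (flp_d L30534) L22455 L30534
theorem L30537 : sm gb N3858 = N2832 := ded_18_1 (flp_d L22487) (flp_b L22456) L30534
theorem L30539 : sm ge N3858 = N3858 := ded_30_2 (flp_d L30534) L22458 L16865 (flp_e L22458) L30534
theorem L30540 : sm gh N3858 = N3858 := ded_33_2 (flp_d L30534) (flp_h L22453) L16496 L22453 L30534
theorem L30541 : sm gi N2828 = N3859 := rfl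
theorem L30550 : sm gd N2829 = N3860 := rfl
theorem L30552 : sm ga N3860 = N2838 := ded_11_1 (flp_d L22537) (flp_a L22462) L30550
theorem L30554 : sm gf N3860 = N2888 := ded_31_2 (flp_d L22963) (flp_f L22468) L30550
theorem L30556 : sm gi N3860 = N3718 := ded_34_2 (flp_d L29457) (flp_i L22466) L30550
theorem L30558 : sm gc N3860 = N3860 := ded_24_1 (flp_d L30550) L22464 L16525 (flp_c L22464) L30550
theorem L30559 : sm ge N3860 = N3860 := ded_30_2 (flp_d L30550) (flp_e L22460) L16508 L22460 L30550
theorem L30560 : sm gg N2829 = N3861 := rfl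
theorem L30564 : sm gc N3861 = N2834 := ded_27_1 (flp_g L22504) (flp_c L22464) L30560
theorem L30566 : sm ge N3861 = N2830 := ded_36_1 (flp_g L22470) L22460 L30560
theorem L30570 : sm gh N2829 = N3862 := rfl
theorem L30572 : sm ga N3862 = N2840 := ded_15_1 (flp_h L22555) (flp_a L22462) L30570
theorem L30576 : sm ge N3862 = N2831 := ded_37_1 (flp_h L22479) L22460 L30570
theorem L30580 : sm gh N2830 = N3863 := rfl
theorem L30582 : sm ga N3863 = N2841 := ded_15_1 (flp_h L22564) (flp_a L22472) L30580
theorem L30586 : sm gg N3863 = N2831 := ded_42_1 (flp_h L22479) L22470 L30580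
theorem L30588 : sm gd N2831 = N3864 := rfl
theorem L30590 : sm ga N3864 = N2842 := ded_11_1 (flp_d L22571) (flp_a L22481) L30588
theorem L30592 : sm gf N3864 = N2832 := ded_31_2 (flp_d L22487) (flp_f L22485) L30588
theorem L30594 : sm gc N3864 = N3864 := ded_24_1 (flp_d L30588) L22483 L16542 (flp_c L22483) L30588
theorem L30595 : sm gh N3864 = N3864 := ded_33_2 (flp_d L30588) (flp_h L22479) L16508 L22479 L30588
theorem L30596 : sm gi N2831 = N3865 := rfl
theorem L30606 : sm gi N2832 = N3866 := rfl
theorem L30658 : sm gg N2838 = N3872 := rfl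
theorem L30662 : sm gd N3872 = N2839 := ded_32_1 (flp_g L22546) L22537 L30658
theorem L30665 : sm gi N3872 = N3731 := ded_43_2 (flp_g L29563) (flp_i L22542) L30658
theorem L30667 : sm gh N2838 = N3873 := rfl
theorem L30671 : sm ge N3873 = N3873 := ded_37_1 (flp_h L30667) L22545 L30667
theorem L30674 : sm gf N2839 = N3874 := rfl
theorem L30677 : sm gc N3874 = N2845 := ded_26_1 (flp_f L22594) (flp_c L22549) L30674
theorem L30679 : sm gi N3874 = N3733 := ded_41_2 (flp_f L29575) (flp_i L22553) L30674
theorem L30681 : sm gg N3874 = N2900 := ded_39_2 (flp_f L23052) (flp_g L16931) (flp_f L16559) L22546 L30674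
theorem L30683 : sm gh N2839 = N3875 := rfl
theorem L30688 : sm ge N3875 = N2841 := ded_37_1 (flp_h L22564) (flp_e L22551) L30683
theorem L30697 : sm gi N2840 = N3877 := rfl
theorem L30702 : sm ge N3877 = N2843 := ded_38_1 (flp_i L22578) (flp_e L22560) L30697
theorem L30706 : sm gh N3877 = N3736 := ded_44_1 (flp_i L29592) (flp_h L21759) (flp_i L16557) L22555 L30697
theorem L30708 : sm gd N2841 = N3878 := rfl
theorem L30711 : sm gg N3878 = N2842 := ded_32_2 (flp_d L22571) (flp_g L22569) L30708
theorem L30714 : sm gh N3878 = N3878 := ded_33_2 (flp_d L30708) (flp_h L22564) L16566 L22564 L30708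
theorem L30724 : sm ge N2842 = N3880 := rfl
theorem L30730 : sm gi N2842 = N3881 := rfl
theorem L30754 : sm gd N2846 = N3884 := rfl
theorem L30756 : sm gb N3884 = N2851 := ded_18_1 (flp_d L22645) (flp_b L22605) L30754
theorem L30758 : sm gg N3884 = N2847 := ded_32_2 (flp_d L22611) (flp_g L22609) L30754
theorem L30772 : sm gc N2847 = N3886 := rfl
theorem L30775 : sm gf N3886 = N2908 := ded_26_2 (flp_c L23108) (flp_f L22615) L30772
theorem L30787 : sm gd N2850 = N3888 := rfl
theorem L30791 : sm gg N3888 = N2910 := ded_32_2 (flp_d L23121) (flp_g L22643) L30787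
theorem L30794 : sm gi N2850 = N3889 := rfl
theorem L30801 : sm gh N3889 = N3750 := ded_44_1 (flp_i L29691) (flp_h L21835) (flp_i L16628) L22638 L30794
theorem L30803 : sm gc N2851 = N3890 := rfl
theorem L30806 : sm gg N3890 = N2853 := ded_27_2 (flp_c L22660) (flp_g L22647) L30803
theorem L30817 : sm gb N2853 = N3892 := rfl
theorem L30821 : sm gf N3892 = N2914 := ded_20_2 (flp_b L23147) (flp_f L22663) L30817
theorem L30824 : sm gi N2853 = N3893 := rfl
theorem L30832 : sm gh N2854 = N3894 := rfl
theorem L30837 : sm gd N3894 = N3755 := ded_33_1 (flp_h L29733) L21872 (flp_h L16652) (flp_d L22669) L30832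
theorem L30840 : sm ge N2855 = N3895 := rfl
theorem L30843 : sm gb N3895 = N2857 := ded_19_1 (flp_e L22694) (flp_b L22677) L30840
theorem L30845 : sm gc N3895 = N3855 := ded_25_1 (flp_e L30510) (flp_c L22679) L30840
theorem L30847 : sm gi N3895 = N2884 := ded_38_2 (flp_e L22937) (flp_i L22683) L30840
theorem L30849 : sm gf N3895 = N3713 := ded_35_2 (flp_e L29419) (flp_f L21661) (flp_e L16666) L22674 L30840
theorem L30851 : sm gg N2855 = N3896 := rfl
theorem L30853 : sm ga N3896 = N3896 := ded_14_1 (flp_g L30851) L22676 L30851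
theorem L30854 : sm gb N3896 = N2858 := ded_21_1 (flp_g L22704) (flp_b L22677) L30851
theorem L30856 : sm gc N3896 = N3856 := ded_27_1 (flp_g L30519) (flp_c L22679) L30851
theorem L30858 : sm gd N3896 = N2950 := ded_32_1 (flp_g L23409) (flp_d L22681) L30851
theorem L30860 : sm gi N3896 = N2885 := ded_43_2 (flp_g L22942) (flp_i L22683) L30851
theorem L30862 : sm gh N2855 = N3897 := rfl
theorem L30867 : sm gc N3897 = N3857 := ded_28_1 (flp_h L30527) (flp_c L22679) L30862
theorem L30869 : sm gf N3897 = N2856 := ded_40_1 (flp_h L22685) L22674 L30862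
theorem L30871 : sm gd N2856 = N3898 := rfl
theorem L30873 : sm ga N3898 = N3898 := ded_11_1 (flp_d L30871) L22687 L30871
theorem L30874 : sm gb N3898 = N2860 := ded_18_1 (flp_d L22722) (flp_b L22688) L30871
theorem L30876 : sm gh N3898 = N2952 := ded_33_2 (flp_d L23426) (flp_h L17224) (flp_d L16664) L22685 L30871
theorem L30878 : sm gi N2856 = N3899 := rfl
theorem L30889 : sm gd N2857 = N3900 := rfl
theorem L30895 : sm gi N3900 = N2888 := ded_34_2 (flp_d L22963) (flp_i L22700) L30889
theorem L30898 : sm ge N3900 = N2953 := ded_30_2 (flp_d L23432) (flp_e L17232) (flp_d L16679) L22694 L30889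
theorem L30900 : sm gg N2857 = N3901 := rfl
theorem L30902 : sm ga N3901 = N2867 := ded_14_1 (flp_g L22790) (flp_a L22696) L30900
theorem L30904 : sm gc N3901 = N2862 := ded_27_1 (flp_g L22739) (flp_c L22698) L30900
theorem L30906 : sm ge N3901 = N2858 := ded_36_1 (flp_g L22704) L22694 L30900
theorem L30910 : sm gh N2857 = N3902 := rfl
theorem L30914 : sm gc N3902 = N2863 := ded_28_1 (flp_h L22750) (flp_c L22698) L30910
theorem L30916 : sm ge N3902 = N2859 := ded_37_1 (flp_h L22714) L22694 L30910
theorem L30918 : sm gf N3902 = N3720 := ded_40_1 (flp_h L29471) (flp_f L22702) L30910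
theorem L30928 : sm gd N2859 = N3904 := rfl
theorem L30935 : sm gh N3904 = N2957 := ded_33_2 (flp_d L23469) (flp_h L17249) (flp_d L16679) L22714 L30928
theorem L30947 : sm ge N2860 = N3906 := rfl
theorem L30949 : sm ga N3906 = N2872 := ded_12_1 (flp_e L22832) (flp_a L22724) L30947
theorem L30952 : sm gh N3906 = N2958 := ded_37_2 (flp_e L23477) (flp_h L22727) L30947
theorem L30954 : sm gd N3906 = N3724 := ded_30_1 (flp_e L29504) (flp_d L21697) (flp_e L16689) L22722 L30947
theorem L30956 : sm gi N2860 = N3907 := rfl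
theorem L30964 : sm gf N2862 = N3908 := rfl
theorem L30971 : sm gi N3908 = N2893 := ded_41_2 (flp_f L23004) (flp_i L22748) L30964
theorem L30973 : sm gg N3908 = N3726 := ded_39_2 (flp_f L29519) (flp_g L21710) (flp_f L16700) L22739 L30964
theorem L30975 : sm gh N2862 = N3909 := rfl
theorem L30983 : sm gg N3909 = N2863 := ded_42_1 (flp_h L22750) L22739 L30975
theorem L30985 : sm gd N2863 = N3910 := rfl
theorem L30991 : sm gf N3910 = N3728 := ded_31_2 (flp_d L29536) (flp_f L22758) L30985
theorem L31007 : sm gi N2864 = N3912 := rfl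
theorem L31016 : sm gh N3912 = N2897 := ded_44_1 (flp_i L23030) (flp_h L16909) (flp_i L16710) L22760 L31007
theorem L31018 : sm gg N2866 = N3913 := rfl
theorem L31022 : sm gd N3913 = N2867 := ded_32_1 (flp_g L22790) L22780 L31018
theorem L31024 : sm ge N3913 = N2962 := ded_36_1 (flp_g L23512) (flp_e L22788) L31018
theorem L31026 : sm gi N3913 = N2898 := ded_43_2 (flp_g L23038) (flp_i L22785) L31018
theorem L31028 : sm gh N2866 = N3914 := rfl
theorem L31032 : sm ge N3914 = N2963 := ded_37_1 (flp_h L23520) (flp_e L22788) L31028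
theorem L31036 : sm gf N2867 = N3915 := rfl
theorem L31041 : sm gi N3915 = N2900 := ded_41_2 (flp_f L23052) (flp_i L22797) L31036
theorem L31043 : sm gg N3915 = N3733 := ded_39_2 (flp_f L29575) (flp_g L21752) (flp_f L16739) L22790 L31036
theorem L31045 : sm gh N2867 = N3916 := rfl
theorem L31054 : sm gd N2868 = N3917 := rfl
theorem L31070 : sm gd N2869 = N3919 := rfl
theorem L31073 : sm gg N3919 = N2870 := ded_32_2 (flp_d L22815) (flp_g L22813) L31070
theorem L31076 : sm gh N3919 = N2967 := ded_33_2 (flp_d L23548) (flp_h L17317) (flp_d L16746) L22808 L31070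
theorem L31087 : sm ge N2870 = N3921 := rfl
theorem L31093 : sm gi N2870 = N3922 := rfl
theorem L31097 : sm gd N3922 = N2871 := ded_34_1 (flp_i L22823) L22815 L31093
theorem L31099 : sm gf N3922 = N2873 := ded_41_1 (flp_i L22840) (flp_f L22818) L31093
theorem L31102 : sm gf N2872 = N3923 := rfl
theorem L31108 : sm gh N3923 = N2969 := ded_40_2 (flp_f L23560) (flp_h L22836) L31102
theorem L31110 : sm gi N2872 = N3924 := rfl
theorem L31116 : sm ge N3924 = N2873 := ded_38_1 (flp_i L22840) L22832 L31110
theorem L31127 : sm gd N2875 = N3926 := rfl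
theorem L31129 : sm gb N3926 = N2880 := ded_18_1 (flp_d L22900) (flp_b L22858) L31127
theorem L31131 : sm gg N3926 = N2876 := ded_32_2 (flp_d L22864) (flp_g L22862) L31127
theorem L31145 : sm gc N2876 = N3928 := rfl
theorem L31148 : sm gf N3928 = N3747 := ded_26_2 (flp_c L29671) (flp_f L22868) L31145
theorem L31160 : sm gd N2879 = N3930 := rfl
theorem L31162 : sm ga N3930 = N3888 := ded_11_1 (flp_d L30787) (flp_a L22893) L31160
theorem L31169 : sm gi N2879 = N3931 := rfl
theorem L31176 : sm gg N3931 = N3750 := ded_43_1 (flp_i L29691) (flp_g L22898) L31169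
theorem L31180 : sm gc N2880 = N3932 := rfl
theorem L31185 : sm gg N3932 = N2882 := ded_27_2 (flp_c L22919) (flp_g L22904) L31180
theorem L31189 : sm gi N2880 = N3933 := rfl
theorem L31196 : sm gg N3933 = N2883 := ded_43_1 (flp_i L22928) (flp_g L22904) L31189
theorem L31198 : sm gb N2882 = N3934 := rfl
theorem L31202 : sm gf N3934 = N3753 := ded_20_2 (flp_b L29718) (flp_f L22924) L31198
theorem L31205 : sm gi N2882 = N3935 := rfl
theorem L31207 : sm ga N3935 = N3893 := ded_16_1 (flp_i L30824) (flp_a L22921) L31205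
theorem L31215 : sm gh N2883 = N3936 := rfl
theorem L31217 : sm ga N3936 = N3894 := ded_15_1 (flp_h L30832) (flp_a L22930) L31215
theorem L31220 : sm gf N3936 = N3755 := ded_40_1 (flp_h L29733) (flp_f L22935) L31215
theorem L31225 : sm gd N2884 = N3937 := rfl
theorem L31228 : sm gb N3937 = N2888 := ded_18_1 (flp_d L22963) (flp_b L22940) L31225
theorem L31230 : sm ge N3937 = N2976 := ded_30_2 (flp_d L23613) (flp_e L17387) (flp_d L16858) L22937 L31225
theorem L31232 : sm gg N2884 = N3938 := rfl
theorem L31246 : sm gh N2885 = N3940 := rfl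
theorem L31251 : sm gg N3940 = N2886 := ded_42_1 (flp_h L22949) L22942 L31246
theorem L31254 : sm gi N2886 = N3941 := rfl
theorem L31262 : sm gg N2888 = N3942 := rfl
theorem L31264 : sm ga N3942 = N2898 := ded_14_1 (flp_g L23038) (flp_a L22965) L31262
theorem L31267 : sm gd N3942 = N2889 := ded_32_1 (flp_g L22970) L22963 L31262
theorem L31269 : sm ge N3942 = N2978 := ded_36_1 (flp_g L23628) (flp_e L22968) L31262
theorem L31271 : sm gh N2888 = N3943 := rfl
theorem L31284 : sm gh N2889 = N3945 := rfl
theorem L31292 : sm gg N3945 = N2890 := ded_42_1 (flp_h L22978) L22970 L31284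
theorem L31294 : sm gd N2890 = N3946 := rfl
theorem L31296 : sm ga N3946 = N2902 := ded_11_1 (flp_d L23066) (flp_a L22980) L31294
theorem L31316 : sm gh N2893 = N3949 := rfl
theorem L31318 : sm ga N3949 = N2905 := ded_15_1 (flp_h L23085) (flp_a L23006) L31316
theorem L31320 : sm gf N3949 = N2894 := ded_40_1 (flp_h L23009) L23004 L31316
theorem L31322 : sm gd N2894 = N3950 := rfl
theorem L31326 : sm gg N3950 = N2895 := ded_32_2 (flp_d L23017) (flp_g L23015) L31322
theorem L31339 : sm gc N2895 = N3952 := rfl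
theorem L31341 : sm ga N3952 = N2908 := ded_10_1 (flp_c L23108) (flp_a L23019) L31339
theorem L31354 : sm gf N2898 = N3954 := rfl
theorem L31358 : sm gd N3954 = N2900 := ded_31_1 (flp_f L23052) (flp_d L23042) L31354
theorem L31368 : sm gd N2899 = N3956 := rfl
theorem L31372 : sm gh N3956 = N2902 := ded_33_2 (flp_d L23066) (flp_h L16938) L16925 L23046 L31368
theorem L31380 : sm gh N2900 = N3958 := rfl
theorem L31385 : sm gf N3958 = N2901 := ded_40_1 (flp_h L23057) L23052 L31380
theorem L31393 : sm gi N2901 = N3960 := rfl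
theorem L31402 : sm gc N2902 = N3961 := rfl
theorem L31405 : sm gd N3961 = N2908 := ded_24_2 (flp_c L23108) (flp_d L16974) (flp_c L16941) L23066 L31402
theorem L31407 : sm gi N2902 = N3962 := rfl
theorem L31413 : sm gd N2905 = N3963 := rfl
theorem L31415 : sm gb N3963 = N2910 := ded_18_1 (flp_d L23121) (flp_b L23087) L31413
theorem L31417 : sm gf N3963 = N2906 := ded_31_2 (flp_d L23091) (flp_f L23089) L31413
theorem L31426 : sm gc N2906 = N3965 := rfl
theorem L31428 : sm ge N3965 = N2924 := ded_25_2 (flp_c L23221) (flp_e L23097) L31426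
theorem L31433 : sm gi N2906 = N3966 := rfl
theorem L31443 : sm gb N2908 = N3967 := rfl
theorem L31445 : sm ge N3967 = N2926 := ded_19_2 (flp_b L23235) (flp_e L23110) L31443
theorem L31450 : sm gi N2908 = N3968 := rfl
theorem L31469 : sm ge N2910 = N3971 := rfl
theorem L31472 : sm gf N3971 = N2930 := ded_35_2 (flp_e L23263) L17105 (flp_e L17004) (flp_f L23123) L31469
theorem L31474 : sm gi N2910 = N3972 := rfl
theorem L31480 : sm gb N2912 = N3973 := rfl
theorem L31483 : sm ge N3973 = N2932 := ded_19_2 (flp_b L23274) (flp_e L23133) L31480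
theorem L31485 : sm gg N3973 = N2914 := ded_21_2 (flp_b L23147) (flp_g L23135) L31480
theorem L31504 : sm ga N2914 = N3976 := rfl
theorem L31507 : sm ge N3976 = N2935 := ded_12_2 (flp_a L23295) (flp_e L23150) L31504
theorem L31510 : sm gi N2914 = N3977 := rfl
theorem L31515 : sm ge N3977 = N2936 := ded_38_1 (flp_i L23301) (flp_e L23150) L31510
theorem L31557 : sm gb N2920 = N3983 := rfl
theorem L31577 : sm gc N2922 = N3986 := rfl
theorem L31579 : sm gf N3986 = N2924 := ded_26_2 (flp_c L23221) (flp_f L23208) L31577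
theorem L31590 : sm gi N2922 = N3988 := rfl
theorem L31594 : sm gd N3988 = N2923 := ded_34_1 (flp_i L23212) L23204 L31590
theorem L31596 : sm gf N3988 = N2925 := ded_41_1 (flp_i L23227) (flp_f L23208) L31590
theorem L31599 : sm gb N2924 = N3989 := rfl
theorem L31602 : sm gg N3989 = N2926 := ded_21_2 (flp_b L23235) (flp_g L23223) L31599
theorem L31605 : sm gc N3989 = N2932 := ded_17_2 (flp_b L23274) (flp_c L17117) (flp_b L17076) L23221 L31599
theorem L31614 : sm gh N2925 = N3991 := rfl
theorem L31618 : sm gg N3991 = N2928 := ded_42_1 (flp_h L23248) (flp_g L23233) L31614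
theorem L31622 : sm ga N2926 = N3992 := rfl
theorem L31629 : sm gi N2926 = N3993 := rfl
theorem L31631 : sm gb N3993 = N2927 := ded_23_1 (flp_i L23242) L23235 L31629
theorem L31651 : sm ge N2929 = N3996 := rfl
theorem L31653 : sm gc N3996 = N2930 := ded_25_1 (flp_e L23263) L23255 L31651
theorem L31657 : sm gi N2929 = N3997 := rfl
theorem L31661 : sm gd N3997 = N2940 := ded_34_1 (flp_i L23330) (flp_d L23261) L31657
theorem L31663 : sm gf N3997 = N2933 := ded_41_1 (flp_i L23281) (flp_f L23257) L31657
theorem L31666 : sm gi N2930 = N3998 := rfl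
theorem L31678 : sm ga N2932 = N4000 := rfl
theorem L31682 : sm gg N4000 = N2935 := ded_14_2 (flp_a L23295) (flp_g L23278) L31678
theorem L31685 : sm gi N2932 = N4001 := rfl
theorem L31691 : sm gg N4001 = N2936 := ded_43_1 (flp_i L23301) (flp_g L23278) L31685
theorem L31693 : sm gh N2933 = N4002 := rfl
theorem L31697 : sm gg N4002 = N2937 := ded_42_1 (flp_h L23308) (flp_g L23287) L31693
theorem L31700 : sm gi N2935 = N4003 := rfl
theorem L31707 : sm gh N2936 = N4004 := rfl
theorem L31713 : sm gd N2937 = N4005 := rfl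
theorem L31718 : sm gh N4005 = N2948 := ded_33_2 (flp_d L23394) (flp_h L17208) (flp_d L17140) L23308 L31713
theorem L31720 : sm ga N2938 = N4006 := rfl
theorem L31726 : sm gh N4006 = N3031 := ded_15_2 (flp_a L24037) (flp_h L23319) L31720
theorem L31728 : sm ge N2938 = N4007 := rfl
theorem L31730 : sm gb N4007 = N2939 := ded_19_1 (flp_e L23322) L23314 L31728
theorem L31734 : sm gh N4007 = N3032 := ded_37_2 (flp_e L24044) (flp_h L23319) L31728
theorem L31749 : sm gi N2939 = N4010 := rfl
theorem L31753 : sm ge N4010 = N2940 := ded_38_1 (flp_i L23330) L23322 L31749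
theorem L31757 : sm gh N2940 = N4011 := rfl
theorem L31764 : sm gi N4011 = N3036 := ded_44_2 (flp_h L24074) (flp_i L17724) (flp_h L17153) L23330 L31757
theorem L31766 : sm gh N2941 = N4012 := rfl
theorem L31773 : sm gi N4012 = N3037 := ded_44_2 (flp_h L24081) (flp_i L17732) (flp_h L17159) L23337 L31766
theorem L31783 : sm gh N2944 = N4014 := rfl
theorem L31785 : sm gb N4014 = N2945 := ded_22_1 (flp_h L23369) (flp_b L23363) L31783
theorem L31789 : sm gg N4014 = N2947 := ded_42_1 (flp_h L23385) (flp_g L23367) L31783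
theorem L31791 : sm gi N4014 = N3039 := ded_44_2 (flp_h L24097) (flp_i L17754) (flp_h L17175) L23361 L31783
theorem L31793 : sm gd N2945 = N4015 := rfl
theorem L31797 : sm gi N4015 = N3040 := ded_34_2 (flp_d L24105) (flp_i L23376) L31793
theorem L31809 : sm gd N2947 = N4017 := rfl
theorem L31814 : sm gi N4017 = N3042 := ded_34_2 (flp_d L24118) (flp_i L23392) L31809
theorem L31816 : sm ge N2948 = N4018 := rfl
theorem L31819 : sm gi N4018 = N3043 := ded_38_2 (flp_e L24124) (flp_i L23397) L31816
theorem L31822 : sm gd N2949 = N4019 := rfl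
theorem L31824 : sm ga N4019 = N4019 := ded_11_1 (flp_d L31822) L23402 L31822
theorem L31825 : sm gb N4019 = N2953 := ded_18_1 (flp_d L23432) (flp_b L23403) L31822
theorem L31827 : sm gf N4019 = N4019 := ded_31_2 (flp_d L31822) L23408 L31822
theorem L31828 : sm gi N4019 = N2976 := ded_34_2 (flp_d L23613) (flp_i L23406) L31822
theorem L31830 : sm gg N2949 = N4020 := rfl
theorem L31832 : sm ga N4020 = N4020 := ded_14_1 (flp_g L31830) L23402 L31830
theorem L31833 : sm gb N4020 = N2954 := ded_21_1 (flp_g L23440) (flp_b L23403) L31830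
theorem L31835 : sm gc N4020 = N4020 := ded_27_1 (flp_g L31830) L23405 L31830
theorem L31836 : sm ge N4020 = N2950 := ded_36_1 (flp_g L23409) L23400 L31830
theorem L31838 : sm gi N4020 = N2977 := ded_43_2 (flp_g L23619) (flp_i L23406) L31830
theorem L31840 : sm gh N2949 = N4021 := rfl
theorem L31842 : sm ga N4021 = N4021 := ded_15_1 (flp_h L31840) L23402 L31840
theorem L31843 : sm gb N4021 = N2955 := ded_22_1 (flp_h L23450) (flp_b L23403) L31840
theorem L31845 : sm gc N4021 = N4021 := ded_28_1 (flp_h L31840) L23405 L31840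
theorem L31846 : sm ge N4021 = N2951 := ded_37_1 (flp_h L23417) L23400 L31840
theorem L31848 : sm gf N4021 = N4021 := ded_40_1 (flp_h L31840) L23408 L31840
theorem L31849 : sm gi N4021 = N4021 := ded_44_2 (flp_h L31840) L23406 L17393 (flp_i L23406) L31840
theorem L31850 : sm gh N2950 = N4022 := rfl
theorem L31852 : sm ga N4022 = N4022 := ded_15_1 (flp_h L31850) L23411 L31850
theorem L31853 : sm gb N4022 = N2956 := ded_22_1 (flp_h L23460) (flp_b L23412) L31850
theorem L31855 : sm gc N4022 = N4022 := ded_28_1 (flp_h L31850) L23414 L31850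
theorem L31856 : sm gg N4022 = N2951 := ded_42_1 (flp_h L23417) L23409 L31850
theorem L31858 : sm gi N4022 = N4022 := ded_44_2 (flp_h L31850) L23415 L17401 (flp_i L23415) L31850
theorem L31859 : sm gd N2951 = N4023 := rfl
theorem L31861 : sm ga N4023 = N4023 := ded_11_1 (flp_d L31859) L23419 L31859
theorem L31862 : sm gb N4023 = N2957 := ded_18_1 (flp_d L23469) (flp_b L23420) L31859
theorem L31864 : sm gf N4023 = N2952 := ded_31_2 (flp_d L23426) (flp_f L23423) L31859
theorem L31866 : sm gi N4023 = N4023 := ded_34_2 (flp_d L31859) L23425 L31859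
theorem L31867 : sm gc N2952 = N4024 := rfl
theorem L31869 : sm ga N4024 = N4024 := ded_10_1 (flp_c L31867) L23428 L31867
theorem L31870 : sm gi N4024 = N4024 := ded_29_2 (flp_c L31867) L23431 L31867
theorem L31871 : sm gb N4024 = N4024 := ded_17_1 (flp_c L31867) L23429 L17263 (flp_b L23429) L31867
theorem L31872 : sm gd N4024 = N4024 := ded_24_2 (flp_c L31867) (flp_d L23426) L17229 L23426 L31867
theorem L31873 : sm ge N2952 = N4025 := rfl
theorem L31875 : sm ga N4025 = N4025 := ded_12_1 (flp_e L31873) L23428 L31873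
theorem L31876 : sm gb N4025 = N2958 := ded_19_1 (flp_e L23477) (flp_b L23429) L31873
theorem L31878 : sm gi N4025 = N4025 := ded_38_2 (flp_e L31873) L23431 L31873
theorem L31879 : sm gd N4025 = N4025 := ded_30_1 (flp_e L31873) (flp_d L23426) L17230 L23426 L31873
theorem L31880 : sm gg N2953 = N4026 := rfl
theorem L31882 : sm ga N4026 = N2962 := ded_14_1 (flp_g L23512) (flp_a L23434) L31880
theorem L31884 : sm gc N4026 = N4026 := ded_27_1 (flp_g L31880) L23439 L31880
theorem L31885 : sm gd N4026 = N2954 := ded_32_1 (flp_g L23440) L23432 L31880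
theorem L31887 : sm gi N4026 = N2978 := ded_43_2 (flp_g L23628) (flp_i L23437) L31880
theorem L31889 : sm gh N2953 = N4027 := rfl
theorem L31891 : sm ga N4027 = N2963 := ded_15_1 (flp_h L23520) (flp_a L23434) L31889
theorem L31895 : sm gf N2954 = N4028 := rfl
theorem L31897 : sm ga N4028 = N2964 := ded_13_1 (flp_f L23525) (flp_a L23442) L31895
theorem L31899 : sm gc N4028 = N2959 := ded_26_1 (flp_f L23484) (flp_c L23444) L31895
theorem L31901 : sm gi N4028 = N2980 := ded_41_2 (flp_f L23642) (flp_i L23448) L31895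
theorem L31903 : sm gg N4028 = N4028 := ded_39_2 (flp_f L31895) (flp_g L23440) L17240 L23440 L31895
theorem L31904 : sm gh N2954 = N4029 := rfl
theorem L31906 : sm ga N4029 = N2965 := ded_15_1 (flp_h L23533) (flp_a L23442) L31904
theorem L31908 : sm gc N4029 = N2960 := ded_28_1 (flp_h L23493) (flp_c L23444) L31904
theorem L31910 : sm ge N4029 = N2956 := ded_37_1 (flp_h L23460) (flp_e L23446) L31904
theorem L31912 : sm gg N4029 = N2955 := ded_42_1 (flp_h L23450) L23440 L31904
theorem L31914 : sm gi N4029 = N4029 := ded_44_2 (flp_h L31904) L23448 L17416 (flp_i L23448) L31904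
theorem L31915 : sm gd N2955 = N4030 := rfl
theorem L31917 : sm ga N4030 = N2966 := ded_11_1 (flp_d L23543) (flp_a L23452) L31915
theorem L31921 : sm gd N2956 = N4031 := rfl
theorem L31923 : sm ga N4031 = N2967 := ded_11_1 (flp_d L23548) (flp_a L23462) L31921
theorem L31925 : sm gg N4031 = N2957 := ded_32_2 (flp_d L23469) (flp_g L23466) L31921
theorem L31927 : sm gi N4031 = N4031 := ded_34_2 (flp_d L31921) L23468 L31921
theorem L31928 : sm gc N4031 = N4031 := ded_24_1 (flp_d L31921) L23464 L17290 (flp_c L23464) L31921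
theorem L31929 : sm ge N2957 = N4032 := rfl
theorem L31935 : sm gf N2958 = N4033 := rfl
theorem L31937 : sm ga N4033 = N2969 := ded_13_1 (flp_f L23560) (flp_a L23479) L31935
theorem L31951 : sm gd N2960 = N4035 := rfl
theorem L31953 : sm ga N4035 = N2971 := ded_11_1 (flp_d L23574) (flp_a L23495) L31951
theorem L31956 : sm gg N4035 = N2961 := ded_32_2 (flp_d L23503) (flp_g L23500) L31951
theorem L31961 : sm gc N2961 = N4036 := rfl
theorem L31963 : sm ga N4036 = N2972 := ded_10_1 (flp_c L23583) (flp_a L23505) L31961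
theorem L31969 : sm gf N2962 = N4037 := rfl
theorem L31971 : sm gb N4037 = N4037 := ded_20_1 (flp_f L31969) L23514 L31969
theorem L31972 : sm gc N4037 = N4037 := ded_26_1 (flp_f L31969) L23515 L31969
theorem L31973 : sm gd N4037 = N2964 := ded_31_1 (flp_f L23525) (flp_d L23516) L31969
theorem L31975 : sm gi N4037 = N2981 := ded_41_2 (flp_f L23650) (flp_i L23518) L31969
theorem L31977 : sm gg N4037 = N4037 := ded_39_2 (flp_f L31969) (flp_g L23512) L17295 L23512 L31969
theorem L31978 : sm gh N2962 = N4038 := rfl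
theorem L31982 : sm gg N4038 = N2963 := ded_42_1 (flp_h L23520) L23512 L31978
theorem L31984 : sm gd N2963 = N4039 := rfl
theorem L31997 : sm gh N2964 = N4041 := rfl
theorem L32000 : sm gc N4041 = N2970 := ded_28_1 (flp_h L23566) (flp_c L23528) L31997
theorem L32002 : sm gf N4041 = N2965 := ded_40_1 (flp_h L23533) L23525 L31997
theorem L32006 : sm gd N2965 = N4042 := rfl
theorem L32009 : sm gg N4042 = N2966 := ded_32_2 (flp_d L23543) (flp_g L23540) L32006
theorem L32012 : sm gc N2966 = N4043 := rfl
theorem L32016 : sm gd N4043 = N2972 := ded_24_2 (flp_c L23583) (flp_d L17355) (flp_c L17311) L23543 L32012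
theorem L32018 : sm ge N2966 = N4044 := rfl
theorem L32024 : sm ge N2967 = N4045 := rfl
theorem L32038 : sm gg N2969 = N4047 := rfl
theorem L32044 : sm gd N2970 = N4048 := rfl
theorem L32048 : sm gf N4048 = N2971 := ded_31_2 (flp_d L23574) (flp_f L23570) L32044
theorem L32060 : sm gb N2972 = N4050 := rfl
theorem L32066 : sm gc N4050 = N2975 := ded_17_2 (flp_b L23606) (flp_c L17379) (flp_b L17357) L23583 L32060
theorem L32068 : sm gc N2973 = N4051 := rfl
theorem L32071 : sm gf N4051 = N2974 := ded_26_2 (flp_c L23597) (flp_f L23592) L32068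
theorem L32077 : sm ge N2973 = N4052 := rfl
theorem L32084 : sm gb N2974 = N4053 := rfl
theorem L32088 : sm gg N4053 = N2975 := ded_21_2 (flp_b L23606) (flp_g L23601) L32084
theorem L32100 : sm gc N2976 = N4055 := rfl
theorem L32102 : sm ga N4055 = N4055 := ded_10_1 (flp_c L32100) L23615 L32100
theorem L32103 : sm gf N4055 = N4055 := ded_26_2 (flp_c L32100) L23618 L32100
theorem L32104 : sm gb N4055 = N4055 := ded_17_1 (flp_c L32100) L23616 L17407 (flp_b L23616) L32100
theorem L32105 : sm gd N4055 = N4055 := ded_24_2 (flp_c L32100) (flp_d L23613) L17392 L23613 L32100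
theorem L32106 : sm gg N2976 = N4056 := rfl
theorem L32108 : sm ga N4056 = N4056 := ded_14_1 (flp_g L32106) L23615 L32106
theorem L32109 : sm gb N4056 = N2978 := ded_21_1 (flp_g L23628) (flp_b L23616) L32106
theorem L32111 : sm gd N4056 = N2977 := ded_32_1 (flp_g L23619) L23613 L32106
theorem L32113 : sm gh N2976 = N4057 := rfl
theorem L32120 : sm gf N2977 = N4058 := rfl
theorem L32122 : sm ga N4058 = N4058 := ded_13_1 (flp_f L32120) L23621 L32120
theorem L32123 : sm gb N4058 = N2980 := ded_20_1 (flp_f L23642) (flp_b L23622) L32120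
theorem L32125 : sm gc N4058 = N4058 := ded_26_1 (flp_f L32120) L23624 L32120
theorem L32126 : sm gh N4058 = N4058 := ded_40_2 (flp_f L32120) L23627 L32120
theorem L32127 : sm gg N4058 = N4058 := ded_39_2 (flp_f L32120) (flp_g L23619) L17394 L23619 L32120
theorem L32128 : sm gf N2978 = N4059 := rfl
theorem L32130 : sm ga N4059 = N2981 := ded_13_1 (flp_f L23650) (flp_a L23630) L32128
theorem L32132 : sm gc N4059 = N4059 := ded_26_1 (flp_f L32128) L23632 L32128
theorem L32133 : sm gd N4059 = N2980 := ded_31_1 (flp_f L23642) (flp_d L23633) L32128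
theorem L32135 : sm gg N4059 = N4059 := ded_39_2 (flp_f L32128) (flp_g L23628) L17406 L23628 L32128
theorem L32136 : sm gh N2978 = N4060 := rfl
theorem L32151 : sm ge N2981 = N4062 := rfl
theorem L32153 : sm gb N4062 = N4062 := ded_19_1 (flp_e L32151) L23652 L32151
theorem L32154 : sm gc N4062 = N4062 := ded_25_1 (flp_e L32151) L23653 L32151
theorem L32155 : sm gg N4062 = N4062 := ded_36_2 (flp_e L32151) L23656 L32151
theorem L32156 : sm gh N2981 = N4063 := rfl
theorem L32160 : sm gf N4063 = N2982 := ded_40_1 (flp_h L23657) L23650 L32156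
theorem L32179 : sm gd N2985 = N4066 := rfl
theorem L32183 : sm gf N4066 = N2986 := ded_31_2 (flp_d L23685) (flp_f L23682) L32179
theorem L32186 : sm gh N4066 = N2991 := ded_33_2 (flp_d L23721) (flp_h L17473) (flp_d L17448) L23678 L32179
theorem L32196 : sm gc N2986 = N4068 := rfl
theorem L32199 : sm gg N4068 = N2988 := ded_27_2 (flp_c L23701) (flp_g L23689) L32196
theorem L32201 : sm gh N4068 = N2993 := ded_28_2 (flp_c L23739) (flp_h L23691) L32196
theorem L32203 : sm ge N2986 = N4069 := rfl
theorem L32207 : sm gg N4069 = N2989 := ded_36_2 (flp_e L23707) (flp_g L23689) L32203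
theorem L32209 : sm gh N4069 = N2994 := ded_37_2 (flp_e L23746) (flp_h L23691) L32203
theorem L32220 : sm gb N2988 = N4071 := rfl
theorem L32223 : sm gh N4071 = N2996 := ded_22_2 (flp_b L23762) (flp_h L23705) L32220
theorem L32226 : sm ge N2988 = N4072 := rfl
theorem L32231 : sm gh N4072 = N2997 := ded_37_2 (flp_e L23768) (flp_h L23705) L32226
theorem L32239 : sm gf N2989 = N4074 := rfl
theorem L32244 : sm gh N4074 = N2999 := ded_40_2 (flp_f L23782) (flp_h L23711) L32239
theorem L32254 : sm gh N2990 = N4076 := rfl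
theorem L32260 : sm gi N4076 = N3001 := ded_44_2 (flp_h L23797) (flp_i L17512) (flp_h L17464) L23714 L32254
theorem L32262 : sm gc N2991 = N4077 := rfl
theorem L32265 : sm gf N4077 = N2993 := ded_26_2 (flp_c L23739) (flp_f L23725) L32262
theorem L32285 : sm gb N2993 = N4080 := rfl
theorem L32289 : sm gg N4080 = N2996 := ded_21_2 (flp_b L23762) (flp_g L23742) L32285
theorem L32292 : sm ge N2993 = N4081 := rfl
theorem L32295 : sm gc N4081 = N2994 := ded_25_1 (flp_e L23746) L23739 L32292
theorem L32300 : sm gi N2993 = N4082 := rfl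
theorem L32309 : sm gf N2994 = N4083 := rfl
theorem L32332 : sm ga N2996 = N4086 := rfl
theorem L32335 : sm gd N4086 = N3017 := ded_11_2 (flp_a L23927) (flp_d L23764) L32332
theorem L32339 : sm ge N2996 = N4087 := rfl
theorem L32341 : sm gb N4087 = N2997 := ded_19_1 (flp_e L23768) L23762 L32339
theorem L32345 : sm gi N2996 = N4088 := rfl
theorem L32350 : sm gd N4088 = N3018 := ded_34_1 (flp_i L23934) (flp_d L23764) L32345
theorem L32360 : sm gi N2997 = N4090 := rfl
theorem L32381 : sm gi N2999 = N4093 := rfl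
theorem L32473 : sm gb N3011 = N4104 := rfl
theorem L32475 : sm gf N4104 = N3014 := ded_20_2 (flp_b L23903) (flp_f L23882) L32473
theorem L32480 : sm ge N3011 = N4105 := rfl
theorem L32495 : sm gi N3012 = N4107 := rfl
theorem L32501 : sm ge N4107 = N3013 := ded_38_1 (flp_i L23893) L23885 L32495
theorem L32522 : sm gi N3014 = N4110 := rfl
theorem L32539 : sm gi N3017 = N4112 := rfl
theorem L32544 : sm gc N4112 = N3028 := ded_29_1 (flp_i L24015) (flp_c L23929) L32539
theorem L32548 : sm gh N3018 = N4113 := rfl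
theorem L32561 : sm ga N3020 = N4115 := rfl
theorem L32564 : sm gf N4115 = N3025 := ded_13_2 (flp_a L23990) (flp_f L23952) L32561
theorem L32567 : sm gb N4115 = N3031 := ded_9_2 (flp_a L24037) (flp_b L17711) (flp_a L17643) L23949 L32561
theorem L32569 : sm ge N3020 = N4116 := rfl
theorem L32583 : sm gd N3021 = N4118 := rfl
theorem L32585 : sm ga N4118 = N3034 := ded_11_1 (flp_d L24060) (flp_a L23957) L32583
theorem L32591 : sm gi N3021 = N4119 := rfl
theorem L32618 : sm gi N3025 = N4122 := rfl
theorem L32664 : sm ge N3031 = N4128 := rfl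
theorem L32680 : sm gd N3032 = N4130 := rfl
theorem L32682 : sm gb N4130 = N3034 := ded_18_1 (flp_d L24060) (flp_b L24046) L32680
theorem L32687 : sm gi N3032 = N4131 := rfl
theorem L32704 : sm gh N3034 = N4133 := rfl
theorem L32710 : sm gi N3034 = N4134 := rfl
theorem L32713 : sm gd N4134 = N3035 := ded_34_1 (flp_i L24066) L24060 L32710
theorem L32718 : sm gh N3035 = N4135 := rfl
theorem L32755 : sm ge N3040 = N4140 := rfl
theorem L32774 : sm ge N3042 = N4143 := rfl
theorem L32776 : sm gb N4143 = N3043 := ded_19_1 (flp_e L24124) (flp_b L24120) L32774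
theorem L32780 : sm gf N3043 = N4144 := rfl
theorem L32786 : sm gb N3044 = N4145 := rfl
theorem L32788 : sm gd N4145 = N4145 := ded_18_2 (flp_b L32786) L24134 L32786
theorem L32789 : sm gg N4145 = N4145 := ded_21_2 (flp_b L32786) L24133 L32786
theorem L32790 : sm ga N4145 = N3058 := ded_9_1 (flp_b L24236) L17867 (flp_b L17809) (flp_a L24131) L32786
theorem L32792 : sm gc N4145 = N3306 := ded_17_2 (flp_b L26268) (flp_c L19321) (flp_b L17794) L24129 L32786
theorem L32794 : sm gf N3044 = N4146 := rfl
theorem L32796 : sm ga N4146 = N3048 := ded_13_1 (flp_f L24161) (flp_a L24131) L32794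
theorem L32798 : sm gc N4146 = N3045 := ded_26_1 (flp_f L24135) L24129 L32794
theorem L32800 : sm gd N4146 = N4146 := ded_31_1 (flp_f L32794) L24134 L32794
theorem L32801 : sm gh N3044 = N4147 := rfl
theorem L32803 : sm ga N4147 = N3049 := ded_15_1 (flp_h L24168) (flp_a L24131) L32801
theorem L32805 : sm gc N4147 = N3046 := ded_28_1 (flp_h L24143) L24129 L32801
theorem L32807 : sm gg N4147 = N4147 := ded_42_1 (flp_h L32801) L24133 L32801
theorem L32808 : sm ge N3045 = N4148 := rfl
theorem L32810 : sm ga N4148 = N3050 := ded_12_1 (flp_e L24175) (flp_a L24137) L32808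
theorem L32812 : sm gb N4148 = N3309 := ded_19_1 (flp_e L26290) (flp_b L24139) L32808
theorem L32814 : sm gd N4148 = N4148 := ded_30_1 (flp_e L32808) L24141 L17805 (flp_d L24141) L32808
theorem L32815 : sm gg N3045 = N4149 := rfl
theorem L32819 : sm gb N4149 = N3310 := ded_21_1 (flp_g L26295) (flp_b L24139) L32815
theorem L32824 : sm gh N3045 = N4150 := rfl
theorem L32826 : sm ga N4150 = N3052 := ded_15_1 (flp_h L24187) (flp_a L24137) L32824
theorem L32828 : sm gb N4150 = N3311 := ded_22_1 (flp_h L26302) (flp_b L24139) L32824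
theorem L32830 : sm gf N4150 = N3046 := ded_40_1 (flp_h L24143) L24135 L32824
theorem L32832 : sm gd N4150 = N4150 := ded_33_1 (flp_h L32824) L24141 L17804 (flp_d L24141) L32824
theorem L32833 : sm gi N3046 = N4151 := rfl
theorem L32835 : sm ga N4151 = N3053 := ded_16_1 (flp_i L24194) (flp_a L24145) L32833
theorem L32837 : sm gb N4151 = N3312 := ded_23_1 (flp_i L26309) (flp_b L24147) L32833
theorem L32839 : sm gd N4151 = N4151 := ded_34_1 (flp_i L32833) L24150 L32833
theorem L32840 : sm gg N4151 = N4151 := ded_43_1 (flp_i L32833) L24149 L32833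
theorem L32841 : sm ge N3048 = N4152 := rfl
theorem L32843 : sm gb N4152 = N3065 := ded_19_1 (flp_e L24292) (flp_b L24163) L32841
theorem L32845 : sm gc N4152 = N3050 := ded_25_1 (flp_e L24175) (flp_c L24165) L32841
theorem L32847 : sm gg N3048 = N4153 := rfl
theorem L32849 : sm gb N4153 = N3066 := ded_21_1 (flp_g L24296) (flp_b L24163) L32847
theorem L32855 : sm gh N3048 = N4154 := rfl
theorem L32857 : sm gb N4154 = N3067 := ded_22_1 (flp_h L24302) (flp_b L24163) L32855
theorem L32859 : sm gc N4154 = N3052 := ded_28_1 (flp_h L24187) (flp_c L24165) L32855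
theorem L32861 : sm gf N4154 = N3049 := ded_40_1 (flp_h L24168) L24161 L32855
theorem L32863 : sm gd N3049 = N4155 := rfl
theorem L32865 : sm gb N4155 = N3068 := ded_18_1 (flp_d L24308) (flp_b L24170) L32863
theorem L32867 : sm gg N4155 = N4155 := ded_32_2 (flp_d L32863) L24174 L32863
theorem L32868 : sm gc N4155 = N4155 := ded_24_1 (flp_d L32863) L24172 L17823 (flp_c L24172) L32863
theorem L32869 : sm gh N4155 = N4155 := ded_33_2 (flp_d L32863) (flp_h L24168) L17811 L24168 L32863
theorem L32870 : sm gi N3049 = N4156 := rfl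
theorem L32872 : sm gb N4156 = N3069 := ded_23_1 (flp_i L24314) (flp_b L24170) L32870
theorem L32874 : sm gc N4156 = N3053 := ded_29_1 (flp_i L24194) (flp_c L24172) L32870
theorem L32876 : sm gg N4156 = N4156 := ded_43_1 (flp_i L32870) L24174 L32870
theorem L32877 : sm gg N3050 = N4157 := rfl
theorem L32879 : sm gb N4157 = N3054 := ded_21_1 (flp_g L24200) (flp_b L24177) L32877
theorem L32882 : sm ge N4157 = N3051 := ded_36_1 (flp_g L24180) L24175 L32877
theorem L32884 : sm gh N3050 = N4158 := rfl
theorem L32886 : sm gb N4158 = N3055 := ded_22_1 (flp_h L24209) (flp_b L24177) L32884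
theorem L32888 : sm ge N4158 = N3052 := ded_37_1 (flp_h L24187) L24175 L32884
theorem L32890 : sm gh N3051 = N4159 := rfl
theorem L32895 : sm gg N4159 = N3052 := ded_42_1 (flp_h L24187) L24180 L32890
theorem L32898 : sm gi N3052 = N4160 := rfl
theorem L32900 : sm gb N4160 = N3057 := ded_23_1 (flp_i L24227) (flp_b L24189) L32898
theorem L32902 : sm gd N4160 = N4160 := ded_34_1 (flp_i L32898) L24193 L32898
theorem L32903 : sm gf N4160 = N3053 := ded_41_1 (flp_i L24194) (flp_f L24191) L32898
theorem L32905 : sm gf N3054 = N4161 := rfl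
theorem L32907 : sm ga N4161 = N3322 := ded_13_1 (flp_f L26381) (flp_a L24202) L32905
theorem L32909 : sm gc N4161 = N3074 := ded_26_1 (flp_f L24350) (flp_c L24204) L32905
theorem L32913 : sm gh N3054 = N4162 := rfl
theorem L32915 : sm ga N4162 = N3323 := ded_15_1 (flp_h L26387) (flp_a L24202) L32913
theorem L32917 : sm gc N4162 = N3075 := ded_28_1 (flp_h L24357) (flp_c L24204) L32913
theorem L32921 : sm gg N4162 = N3055 := ded_42_1 (flp_h L24209) L24200 L32913
theorem L32923 : sm gd N3055 = N4163 := rfl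
theorem L32925 : sm ga N4163 = N3324 := ded_11_1 (flp_d L26395) (flp_a L24211) L32923
theorem L32927 : sm ge N4163 = N4163 := ded_30_2 (flp_d L32923) L24215 L17856 (flp_e L24215) L32923
theorem L32928 : sm gh N4163 = N4163 := ded_33_2 (flp_d L32923) (flp_h L24209) L17838 L24209 L32923
theorem L32929 : sm gi N3055 = N4164 := rfl
theorem L32931 : sm ga N4164 = N3325 := ded_16_1 (flp_i L26399) (flp_a L24211) L32929
theorem L32933 : sm gc N4164 = N3077 := ded_29_1 (flp_i L24373) (flp_c L24213) L32929
theorem L32935 : sm ge N4164 = N3057 := ded_38_1 (flp_i L24227) (flp_e L24215) L32929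
theorem L32937 : sm gi N3056 = N4165 := rfl
theorem L32947 : sm gf N3058 = N4166 := rfl
theorem L32949 : sm gb N4166 = N3059 := ded_20_1 (flp_f L24242) L24236 L32947
theorem L32951 : sm gc N4166 = N3348 := ded_26_1 (flp_f L26608) (flp_c L24240) L32947
theorem L32953 : sm gd N4166 = N4166 := ded_31_1 (flp_f L32947) L24238 L32947
theorem L32954 : sm gh N3058 = N4167 := rfl
theorem L32956 : sm gb N4167 = N3060 := ded_22_1 (flp_h L24249) L24236 L32954
theorem L32958 : sm gc N4167 = N3349 := ded_28_1 (flp_h L26614) (flp_c L24240) L32954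
theorem L32960 : sm gg N4167 = N4167 := ded_42_1 (flp_h L32954) L24239 L32954
theorem L32961 : sm ge N3059 = N4168 := rfl
theorem L32963 : sm ga N4168 = N3065 := ded_12_1 (flp_e L24292) (flp_a L24244) L32961
theorem L32965 : sm gc N4168 = N3061 := ded_25_1 (flp_e L24256) (flp_c L24246) L32961
theorem L32967 : sm gg N3059 = N4169 := rfl
theorem L32969 : sm ga N4169 = N3066 := ded_14_1 (flp_g L24296) (flp_a L24244) L32967
theorem L32975 : sm gh N3059 = N4170 := rfl
theorem L32977 : sm ga N4170 = N3067 := ded_15_1 (flp_h L24302) (flp_a L24244) L32975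
theorem L32979 : sm gc N4170 = N3063 := ded_28_1 (flp_h L24273) (flp_c L24246) L32975
theorem L32981 : sm gf N4170 = N3060 := ded_40_1 (flp_h L24249) L24242 L32975
theorem L32983 : sm gd N3060 = N4171 := rfl
theorem L32985 : sm ga N4171 = N3068 := ded_11_1 (flp_d L24308) (flp_a L24251) L32983
theorem L32987 : sm gg N4171 = N4171 := ded_32_2 (flp_d L32983) L24255 L32983
theorem L32988 : sm gc N4171 = N3113 := ded_24_1 (flp_d L24662) L18154 (flp_d L17886) (flp_c L24253) L32983
theorem L32990 : sm gh N4171 = N4171 := ded_33_2 (flp_d L32983) (flp_h L24249) L17870 L24249 L32983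
theorem L32991 : sm gi N3060 = N4172 := rfl
theorem L32993 : sm ga N4172 = N3069 := ded_16_1 (flp_i L24314) (flp_a L24251) L32991
theorem L32995 : sm gc N4172 = N3064 := ded_29_1 (flp_i L24283) (flp_c L24253) L32991
theorem L32997 : sm gg N4172 = N4172 := ded_43_1 (flp_i L32991) L24255 L32991
theorem L32998 : sm gg N3061 = N4173 := rfl
theorem L33000 : sm ga N4173 = N3070 := ded_14_1 (flp_g L24319) (flp_a L24258) L32998
theorem L33002 : sm gb N4173 = N3355 := ded_21_1 (flp_g L26658) (flp_b L24260) L32998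
theorem L33004 : sm gd N4173 = N3086 := ded_32_1 (flp_g L24445) (flp_d L24262) L32998
theorem L33008 : sm gh N3061 = N4174 := rfl
theorem L33010 : sm ga N4174 = N3071 := ded_15_1 (flp_h L24327) (flp_a L24258) L33008
theorem L33012 : sm gb N4174 = N3356 := ded_22_1 (flp_h L26666) (flp_b L24260) L33008
theorem L33014 : sm ge N4174 = N3063 := ded_37_1 (flp_h L24273) L24256 L33008
theorem L33016 : sm gh N3062 = N4175 := rfl
theorem L33020 : sm gb N4175 = N3357 := ded_22_1 (flp_h L26672) (flp_b L24268) L33016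
theorem L33023 : sm gg N4175 = N3063 := ded_42_1 (flp_h L24273) L24264 L33016
theorem L33027 : sm gi N3063 = N4176 := rfl
theorem L33029 : sm ga N4176 = N3073 := ded_16_1 (flp_i L24342) (flp_a L24275) L33027
theorem L33031 : sm gb N4176 = N3358 := ded_23_1 (flp_i L26681) (flp_b L24277) L33027
theorem L33033 : sm gd N4176 = N3118 := ded_34_1 (flp_i L24706) (flp_d L24281) L33027
theorem L33035 : sm gf N4176 = N3064 := ded_41_1 (flp_i L24283) (flp_f L24279) L33027
theorem L33037 : sm gd N3065 = N4177 := rfl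
theorem L33039 : sm gc N4177 = N3090 := ded_24_1 (flp_d L24483) L18031 (flp_d L17914) (flp_c L24294) L33037
theorem L33041 : sm ge N4177 = N4177 := ded_30_2 (flp_d L33037) (flp_e L24292) L17904 L24292 L33037
theorem L33042 : sm gg N3065 = N4178 := rfl
theorem L33046 : sm ge N4178 = N3066 := ded_36_1 (flp_g L24296) L24292 L33042
theorem L33048 : sm gh N3065 = N4179 := rfl
theorem L33050 : sm gc N4179 = N3071 := ded_28_1 (flp_h L24327) (flp_c L24294) L33048
theorem L33052 : sm ge N4179 = N3067 := ded_37_1 (flp_h L24302) L24292 L33048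
theorem L33054 : sm gh N3066 = N4180 := rfl
theorem L33059 : sm gg N4180 = N3067 := ded_42_1 (flp_h L24302) L24296 L33054
theorem L33061 : sm gd N3067 = N4181 := rfl
theorem L33063 : sm gf N4181 = N3068 := ded_31_2 (flp_d L24308) (flp_f L24306) L33061
theorem L33065 : sm gc N4181 = N3123 := ded_24_1 (flp_d L24747) L18213 (flp_d L17929) (flp_c L24304) L33061
theorem L33067 : sm gh N4181 = N4181 := ded_33_2 (flp_d L33061) (flp_h L24302) L17904 L24302 L33061
theorem L33068 : sm gi N3067 = N4182 := rfl
theorem L33070 : sm gc N4182 = N3073 := ded_29_1 (flp_i L24342) (flp_c L24304) L33068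
theorem L33072 : sm gf N4182 = N3069 := ded_41_1 (flp_i L24314) (flp_f L24306) L33068
theorem L33074 : sm ge N3068 = N4183 := rfl
theorem L33076 : sm gc N4183 = N3125 := ded_25_1 (flp_e L24761) (flp_c L24311) L33074
theorem L33078 : sm gg N4183 = N4183 := ded_36_2 (flp_e L33074) L24310 L33074
theorem L33079 : sm gh N4183 = N4183 := ded_37_2 (flp_e L33074) L24313 L33074
theorem L33080 : sm gi N3068 = N4184 := rfl
theorem L33082 : sm gc N4184 = N3126 := ded_29_1 (flp_i L24767) (flp_c L24311) L33080
theorem L33084 : sm gd N4184 = N3069 := ded_34_1 (flp_i L24314) L24308 L33080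
theorem L33086 : sm gg N4184 = N4184 := ded_43_1 (flp_i L33080) L24310 L33080
theorem L33087 : sm gf N3070 = N4185 := rfl
theorem L33089 : sm gb N4185 = N3074 := ded_20_1 (flp_f L24350) (flp_b L24321) L33087
theorem L33094 : sm gh N3070 = N4186 := rfl
theorem L33096 : sm gb N4186 = N3075 := ded_22_1 (flp_h L24357) (flp_b L24321) L33094
theorem L33098 : sm ge N4186 = N3072 := ded_37_1 (flp_h L24333) (flp_e L24325) L33094
theorem L33100 : sm gg N4186 = N3071 := ded_42_1 (flp_h L24327) L24319 L33094
theorem L33102 : sm gd N3071 = N4187 := rfl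
theorem L33104 : sm gb N4187 = N3076 := ded_18_1 (flp_d L24365) (flp_b L24329) L33102
theorem L33106 : sm ge N4187 = N3129 := ded_30_2 (flp_d L24790) L18243 (flp_d L17929) (flp_e L24331) L33102
theorem L33110 : sm gi N3071 = N4188 := rfl
theorem L33112 : sm gb N4188 = N3077 := ded_23_1 (flp_i L24373) (flp_b L24329) L33110
theorem L33114 : sm ge N4188 = N3073 := ded_38_1 (flp_i L24342) (flp_e L24331) L33110
theorem L33116 : sm gi N3072 = N4189 := rfl
theorem L33120 : sm gd N4189 = N3131 := ded_34_1 (flp_i L24805) (flp_d L24340) L33116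
theorem L33125 : sm gh N3074 = N4190 := rfl
theorem L33127 : sm ga N4190 = N3372 := ded_15_1 (flp_h L26780) (flp_a L24352) L33125
theorem L33130 : sm gf N4190 = N3075 := ded_40_1 (flp_h L24357) L24350 L33125
theorem L33132 : sm gd N3075 = N4191 := rfl
theorem L33136 : sm gg N4191 = N3076 := ded_32_2 (flp_d L24365) (flp_g L24363) L33132
theorem L33138 : sm ge N4191 = N3133 := ded_30_2 (flp_d L24822) L18275 (flp_d L17959) (flp_e L24361) L33132
theorem L33140 : sm gh N4191 = N3104 := ded_33_2 (flp_d L24587) (flp_h L18100) (flp_d L17942) L24357 L33132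
theorem L33142 : sm gi N3075 = N4192 := rfl
theorem L33144 : sm ga N4192 = N3374 := ded_16_1 (flp_i L26793) (flp_a L24359) L33142
theorem L33150 : sm gc N3076 = N4193 := rfl
theorem L33152 : sm ga N4193 = N3375 := ded_10_1 (flp_c L26799) (flp_a L24367) L33150
theorem L33154 : sm ge N4193 = N3135 := ded_25_2 (flp_c L24840) (flp_e L24369) L33150
theorem L33158 : sm gi N3076 = N4194 := rfl
theorem L33160 : sm ga N4194 = N3376 := ded_16_1 (flp_i L26805) (flp_a L24367) L33158
theorem L33166 : sm ge N3079 = N4195 := rfl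
theorem L33168 : sm ga N4195 = N4195 := ded_12_1 (flp_e L33166) L24390 L33166
theorem L33169 : sm gb N4195 = N3081 := ded_19_1 (flp_e L24405) (flp_b L24391) L33166
theorem L33171 : sm gc N4195 = N3406 := ded_25_1 (flp_e L27090) (flp_c L24393) L33166
theorem L33173 : sm gg N3079 = N4196 := rfl
theorem L33176 : sm gb N4196 = N3082 := ded_21_1 (flp_g L24411) (flp_b L24391) L33173
theorem L33178 : sm gc N4196 = N3407 := ded_27_1 (flp_g L27095) (flp_c L24393) L33173
theorem L33181 : sm gf N4196 = N3714 := ded_39_1 (flp_g L29426) (flp_f L21661) (flp_g L17972) L24388 L33173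
theorem L33183 : sm gh N3079 = N4197 := rfl
theorem L33186 : sm gb N4197 = N3083 := ded_22_1 (flp_h L24420) (flp_b L24391) L33183
theorem L33188 : sm gc N4197 = N3408 := ded_28_1 (flp_h L27104) (flp_c L24393) L33183
theorem L33190 : sm gf N4197 = N3080 := ded_40_1 (flp_h L24396) L24388 L33183
theorem L33192 : sm gd N3080 = N4198 := rfl
theorem L33197 : sm gg N4198 = N3716 := ded_32_2 (flp_d L29443) (flp_g L24403) L33192
theorem L33201 : sm gi N3080 = N4199 := rfl
theorem L33206 : sm gc N4199 = N3409 := ded_29_1 (flp_i L27112) (flp_c L24401) L33201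
theorem L33210 : sm gd N3081 = N4200 := rfl
theorem L33212 : sm ga N4200 = N3090 := ded_11_1 (flp_d L24483) (flp_a L24407) L33210
theorem L33214 : sm ge N4200 = N4200 := ded_30_2 (flp_d L33210) (flp_e L24405) L17983 L24405 L33210
theorem L33215 : sm gg N3081 = N4201 := rfl
theorem L33219 : sm gc N4201 = N3086 := ded_27_1 (flp_g L24445) (flp_c L24409) L33215
theorem L33223 : sm gh N3081 = N4202 := rfl
theorem L33225 : sm ga N4202 = N3092 := ded_15_1 (flp_h L24494) (flp_a L24407) L33223
theorem L33231 : sm gh N3082 = N4203 := rfl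
theorem L33235 : sm gc N4203 = N3088 := ded_28_1 (flp_h L24461) (flp_c L24415) L33231
theorem L33239 : sm gg N4203 = N3083 := ded_42_1 (flp_h L24420) L24411 L33231
theorem L33241 : sm gd N3083 = N4204 := rfl
theorem L33277 : sm gf N3086 = N4208 := rfl
theorem L33279 : sm ga N4208 = N3098 := ded_13_1 (flp_f L24542) (flp_a L24447) L33277
theorem L33285 : sm gh N3086 = N4209 := rfl
theorem L33295 : sm gd N3087 = N4210 := rfl
theorem L33299 : sm gb N4210 = N3417 := ded_18_1 (flp_d L27176) (flp_b L24457) L33295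
theorem L33301 : sm ge N4210 = N3147 := ded_30_2 (flp_d L24950) L18367 (flp_d L18016) (flp_e L24459) L33295
theorem L33303 : sm gi N3087 = N4211 := rfl
theorem L33307 : sm gb N4211 = N3418 := ded_23_1 (flp_i L27182) (flp_b L24457) L33303
theorem L33323 : sm gg N3090 = N4213 := rfl
theorem L33329 : sm gh N3090 = N4214 := rfl
theorem L33331 : sm gb N4214 = N4214 := ded_22_1 (flp_h L33329) L24485 L33329
theorem L33332 : sm ge N4214 = N4214 := ded_37_1 (flp_h L33329) L24486 L33329
theorem L33333 : sm gf N3091 = N4215 := rfl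
theorem L33338 : sm ge N4215 = N3733 := ded_35_1 (flp_f L29575) L21757 (flp_f L18039) (flp_e L24492) L33333
theorem L33340 : sm gh N3091 = N4216 := rfl
theorem L33347 : sm gg N4216 = N3092 := ded_42_1 (flp_h L24494) L24487 L33340
theorem L33349 : sm gd N3092 = N4217 := rfl
theorem L33352 : sm gi N3092 = N4218 := rfl
theorem L33357 : sm ge N4218 = N3095 := ded_38_1 (flp_i L24518) (flp_e L24499) L33352
theorem L33359 : sm gd N3093 = N4219 := rfl
theorem L33362 : sm gf N4219 = N3737 := ded_31_2 (flp_d L29599) (flp_f L24506) L33359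
theorem L33364 : sm gg N4219 = N3094 := ded_32_2 (flp_d L24510) (flp_g L24508) L33359
theorem L33378 : sm ge N3094 = N4221 := rfl
theorem L33393 : sm gf N3096 = N4223 := rfl
theorem L33396 : sm gc N4223 = N3160 := ded_26_1 (flp_f L25060) (flp_c L24528) L33393
theorem L33399 : sm gi N3096 = N4224 := rfl
theorem L33404 : sm ge N4224 = N3097 := ded_38_1 (flp_i L24533) L24525 L33399
theorem L33406 : sm gg N4224 = N3742 := ded_43_1 (flp_i L29635) (flp_g L24530) L33399
theorem L33416 : sm gh N3098 = N4226 := rfl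
theorem L33440 : sm gc N3100 = N4229 := rfl
theorem L33442 : sm ge N4229 = N3166 := ded_25_2 (flp_c L25107) (flp_e L24560) L33440
theorem L33452 : sm gd N3103 = N4231 := rfl
theorem L33456 : sm gf N4231 = N3104 := ded_31_2 (flp_d L24587) (flp_f L24585) L33452
theorem L33467 : sm gc N3104 = N4233 := rfl
theorem L33473 : sm gg N4233 = N3106 := ded_27_2 (flp_c L24604) (flp_g L24591) L33467
theorem L33476 : sm gi N3104 = N4234 := rfl
theorem L33480 : sm gd N4234 = N3105 := ded_34_1 (flp_i L24595) L24587 L33476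
theorem L33486 : sm gb N3106 = N4235 := rfl
theorem L33489 : sm ge N4235 = N3172 := ded_19_2 (flp_b L25152) (flp_e L24608) L33486
theorem L33491 : sm gi N3106 = N4236 := rfl
theorem L33506 : sm ge N3108 = N4238 := rfl
theorem L33511 : sm gc N4238 = N3439 := ded_25_1 (flp_e L27325) (flp_c L24624) L33506
theorem L33515 : sm gg N3108 = N4239 := rfl
theorem L33518 : sm gb N4239 = N3111 := ded_21_1 (flp_g L24645) (flp_b L24622) L33515
theorem L33520 : sm gc N4239 = N3440 := ded_27_1 (flp_g L27333) (flp_c L24624) L33515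
theorem L33525 : sm gh N3108 = N4240 := rfl
theorem L33527 : sm ga N4240 = N4240 := ded_15_1 (flp_h L33525) L24621 L33525
theorem L33528 : sm gb N4240 = N3112 := ded_22_1 (flp_h L24654) (flp_b L24622) L33525
theorem L33530 : sm gc N4240 = N3441 := ded_28_1 (flp_h L27342) (flp_c L24624) L33525
theorem L33532 : sm gf N4240 = N3109 := ded_40_1 (flp_h L24628) L24619 L33525
theorem L33534 : sm gd N3109 = N4241 := rfl
theorem L33536 : sm ga N4241 = N4241 := ded_11_1 (flp_d L33534) L24630 L33534
theorem L33537 : sm gb N4241 = N3113 := ded_18_1 (flp_d L24662) (flp_b L24631) L33534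
theorem L33539 : sm gg N4241 = N4241 := ded_32_2 (flp_d L33534) L24636 L33534
theorem L33540 : sm gh N4241 = N4241 := ded_33_2 (flp_d L33534) (flp_h L24628) L18135 L24628 L33534
theorem L33541 : sm gi N3109 = N4242 := rfl
theorem L33543 : sm ga N4242 = N4242 := ded_16_1 (flp_i L33541) L24630 L33541
theorem L33544 : sm gb N4242 = N3114 := ded_23_1 (flp_i L24668) (flp_b L24631) L33541
theorem L33546 : sm gc N4242 = N3443 := ded_29_1 (flp_i L27357) (flp_c L24633) L33541
theorem L33548 : sm ge N4242 = N4242 := ded_38_1 (flp_i L33541) L24635 L33541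
theorem L33549 : sm gg N4242 = N4242 := ded_43_1 (flp_i L33541) L24636 L33541
theorem L33550 : sm gh N4242 = N4242 := ded_44_1 (flp_i L33541) (flp_h L24628) L18138 L24628 L33541
theorem L33551 : sm gd N3110 = N4243 := rfl
theorem L33553 : sm ga N4243 = N3119 := ded_11_1 (flp_d L24715) (flp_a L24639) L33551
theorem L33557 : sm gc N4243 = N3137 := ded_24_1 (flp_d L24855) L18309 (flp_d L18165) (flp_c L24641) L33551
theorem L33560 : sm gg N3110 = N4244 := rfl
theorem L33564 : sm gc N4244 = N3115 := ded_27_1 (flp_g L24677) (flp_c L24641) L33560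
theorem L33569 : sm gh N3110 = N4245 := rfl
theorem L33575 : sm ge N4245 = N3112 := ded_37_1 (flp_h L24654) L24637 L33569
theorem L33578 : sm gh N3111 = N4246 := rfl
theorem L33580 : sm ga N4246 = N3122 := ded_15_1 (flp_h L24739) (flp_a L24647) L33578
theorem L33582 : sm gc N4246 = N3117 := ded_28_1 (flp_h L24697) (flp_c L24649) L33578
theorem L33585 : sm gg N4246 = N3112 := ded_42_1 (flp_h L24654) L24645 L33578
theorem L33587 : sm gd N3112 = N4247 := rfl
theorem L33589 : sm ga N4247 = N3123 := ded_11_1 (flp_d L24747) (flp_a L24656) L33587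
theorem L33591 : sm gf N4247 = N3113 := ded_31_2 (flp_d L24662) (flp_f L24660) L33587
theorem L33593 : sm gh N4247 = N4247 := ded_33_2 (flp_d L33587) (flp_h L24654) L18148 L24654 L33587
theorem L33594 : sm gi N3112 = N4248 := rfl
theorem L33596 : sm ga N4248 = N3124 := ded_16_1 (flp_i L24753) (flp_a L24656) L33594
theorem L33598 : sm gc N4248 = N3118 := ded_29_1 (flp_i L24706) (flp_c L24658) L33594
theorem L33600 : sm gf N4248 = N3114 := ded_41_1 (flp_i L24668) (flp_f L24660) L33594
theorem L33602 : sm gh N4248 = N4248 := ded_44_1 (flp_i L33594) (flp_h L24654) L18149 L24654 L33594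
theorem L33603 : sm ge N3113 = N4249 := rfl
theorem L33605 : sm ga N4249 = N3125 := ded_12_1 (flp_e L24761) (flp_a L24664) L33603
theorem L33607 : sm gg N4249 = N4249 := ded_36_2 (flp_e L33603) L24666 L33603
theorem L33608 : sm gh N4249 = N4249 := ded_37_2 (flp_e L33603) L24667 L33603
theorem L33609 : sm gd N4249 = N4249 := ded_30_1 (flp_e L33603) (flp_d L24662) L18156 L24662 L33603
theorem L33610 : sm gi N3113 = N4250 := rfl
theorem L33612 : sm ga N4250 = N3126 := ded_16_1 (flp_i L24767) (flp_a L24664) L33610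
theorem L33614 : sm gd N4250 = N3114 := ded_34_1 (flp_i L24668) L24662 L33610
theorem L33616 : sm gg N4250 = N4250 := ded_43_1 (flp_i L33610) L24666 L33610
theorem L33617 : sm gf N3115 = N4251 := rfl
theorem L33619 : sm ga N4251 = N3127 := ded_13_1 (flp_f L24773) (flp_a L24679) L33617
theorem L33638 : sm gd N3116 = N4253 := rfl
theorem L33642 : sm gb N4253 = N3453 := ded_18_1 (flp_d L27442) (flp_b L24692) L33638
theorem L33645 : sm gh N4253 = N3147 := ded_33_2 (flp_d L24950) (flp_h L18361) (flp_d L18165) L24688 L33638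
theorem L33647 : sm gi N3116 = N4254 := rfl
theorem L33651 : sm gb N4254 = N3454 := ded_23_1 (flp_i L27449) (flp_b L24692) L33647
theorem L33653 : sm ge N4254 = N3118 := ded_38_1 (flp_i L24706) (flp_e L24694) L33647
theorem L33657 : sm gi N3117 = N4255 := rfl
theorem L33659 : sm ga N4255 = N3131 := ded_16_1 (flp_i L24805) (flp_a L24699) L33657
theorem L33664 : sm gg N4255 = N3118 := ded_43_1 (flp_i L24706) (flp_g L24704) L33657
theorem L33676 : sm gh N3119 = N4257 := rfl
theorem L33683 : sm gf N3120 = N4258 := rfl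
theorem L33686 : sm gc N4258 = N3127 := ded_26_1 (flp_f L24773) (flp_c L24726) L33683
theorem L33691 : sm gh N3120 = N4259 := rfl
theorem L33696 : sm ge N4259 = N3122 := ded_37_1 (flp_h L24739) (flp_e L24728) L33691
theorem L33700 : sm gd N3121 = N4260 := rfl
theorem L33704 : sm gi N3121 = N4261 := rfl
theorem L33707 : sm gc N4261 = N3130 := ded_29_1 (flp_i L24797) (flp_c L24734) L33704
theorem L33709 : sm ge N4261 = N3124 := ded_38_1 (flp_i L24753) (flp_e L24736) L33704
theorem L33713 : sm gd N3122 = N4262 := rfl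
theorem L33717 : sm gg N4262 = N3123 := ded_32_2 (flp_d L24747) (flp_g L24745) L33713
theorem L33720 : sm gi N3122 = N4263 := rfl
theorem L33726 : sm gg N4263 = N3124 := ded_43_1 (flp_i L24753) (flp_g L24745) L33720
theorem L33729 : sm ge N3123 = N4264 := rfl
theorem L33731 : sm gb N4264 = N4264 := ded_19_1 (flp_e L33729) L24749 L33729
theorem L33732 : sm gh N4264 = N4264 := ded_37_2 (flp_e L33729) L24752 L33729
theorem L33733 : sm gi N3123 = N4265 := rfl
theorem L33735 : sm gb N4265 = N4265 := ded_23_1 (flp_i L33733) L24749 L33733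
theorem L33736 : sm gd N4265 = N3124 := ded_34_1 (flp_i L24753) L24747 L33733
theorem L33738 : sm gf N4265 = N3126 := ded_41_1 (flp_i L24767) (flp_f L24750) L33733
theorem L33740 : sm gf N3125 = N4266 := rfl
theorem L33742 : sm gb N4266 = N4266 := ded_20_1 (flp_f L33740) L24763 L33740
theorem L33743 : sm gd N4266 = N4266 := ded_31_1 (flp_f L33740) L24766 L33740
theorem L33744 : sm gh N4266 = N4266 := ded_40_2 (flp_f L33740) L24765 L33740
theorem L33745 : sm gi N3125 = N4267 := rfl
theorem L33747 : sm gb N4267 = N4267 := ded_23_1 (flp_i L33745) L24763 L33745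
theorem L33748 : sm gd N4267 = N4267 := ded_34_1 (flp_i L33745) L24766 L33745
theorem L33749 : sm ge N4267 = N3126 := ded_38_1 (flp_i L24767) L24761 L33745
theorem L33751 : sm gg N4267 = N4267 := ded_43_1 (flp_i L33745) L24764 L33745
theorem L33752 : sm gh N3126 = N4268 := rfl
theorem L33754 : sm gb N4268 = N4268 := ded_22_1 (flp_h L33752) L24769 L33752
theorem L33755 : sm gg N4268 = N4268 := ded_42_1 (flp_h L33752) L24772 L33752
theorem L33756 : sm gd N4268 = N4268 := ded_33_1 (flp_h L33752) L24770 L18229 (flp_d L24770) L33752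
theorem L33757 : sm gi N4268 = N4268 := ded_44_2 (flp_h L33752) (flp_i L24767) L18221 L24767 L33752
theorem L33758 : sm gh N3127 = N4269 := rfl
theorem L33763 : sm gf N4269 = N3128 := ded_40_1 (flp_h L24782) L24773 L33758
theorem L33766 : sm gd N3128 = N4270 := rfl
theorem L33783 : sm gc N3129 = N4272 := rfl
theorem L33786 : sm gh N4272 = N3166 := ded_28_2 (flp_c L25107) (flp_h L24795) L33783
theorem L33814 : sm gc N3133 = N4276 := rfl
theorem L33820 : sm gh N4276 = N3170 := ded_28_2 (flp_c L25136) (flp_h L24828) L33814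
theorem L33831 : sm gb N3135 = N4278 := rfl
theorem L33835 : sm gh N4278 = N3172 := ded_22_2 (flp_b L25152) (flp_h L24845) L33831
theorem L33837 : sm gi N3135 = N4279 := rfl
theorem L33839 : sm ga N4279 = N3477 := ded_16_1 (flp_i L27617) (flp_a L24842) L33837
theorem L33853 : sm gg N3137 = N4281 := rfl
theorem L33855 : sm ga N4281 = N3150 := ded_14_1 (flp_g L24978) (flp_a L24857) L33853
theorem L33862 : sm gh N3137 = N4282 := rfl
theorem L33908 : sm gd N3140 = N4287 := rfl
theorem L33915 : sm gg N4287 = N3141 := ded_32_2 (flp_d L24894) (flp_g L24892) L33908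
theorem L33936 : sm gi N3141 = N4290 := rfl
theorem L33943 : sm gf N4290 = N3144 := ded_41_1 (flp_i L24921) (flp_f L24899) L33936
theorem L33952 : sm gi N3143 = N4292 := rfl
theorem L33954 : sm ga N4292 = N3161 := ded_16_1 (flp_i L25066) (flp_a L24914) L33952
theorem L33958 : sm ge N4292 = N3144 := ded_38_1 (flp_i L24921) L24912 L33952
theorem L33960 : sm gg N4292 = N3767 := ded_43_1 (flp_i L29835) (flp_g L24917) L33952
theorem L33962 : sm gh N3144 = N4293 := rfl
theorem L33971 : sm gh N3145 = N4294 := rfl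
theorem L33979 : sm gf N4294 = N3146 := ded_40_1 (flp_h L24940) L24930 L33971
theorem L33982 : sm gd N3146 = N4295 := rfl
theorem L33988 : sm gg N4295 = N3147 := ded_32_2 (flp_d L24950) (flp_g L24948) L33982
theorem L34001 : sm gc N3147 = N4297 := rfl
theorem L34006 : sm gi N3147 = N4298 := rfl
theorem L34015 : sm gf N3150 = N4299 := rfl
theorem L34019 : sm gd N4299 = N3152 := ded_31_1 (flp_f L24992) (flp_d L24982) L34015
theorem L34023 : sm gh N3150 = N4300 := rfl
theorem L34030 : sm gd N3151 = N4301 := rfl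
theorem L34032 : sm gb N4301 = N3177 := ded_18_1 (flp_d L25187) (flp_b L24988) L34030
theorem L34035 : sm gh N4301 = N3154 := ded_33_2 (flp_d L25012) (flp_h L18405) L18389 L24986 L34030
theorem L34044 : sm gh N3152 = N4303 := rfl
theorem L34052 : sm gf N4303 = N3153 := ded_40_1 (flp_h L25002) L24992 L34044
theorem L34055 : sm gd N3153 = N4304 := rfl
theorem L34059 : sm gg N4304 = N3154 := ded_32_2 (flp_d L25012) (flp_g L25010) L34055
theorem L34072 : sm gc N3154 = N4306 := rfl
theorem L34075 : sm gd N4306 = N3166 := ded_24_2 (flp_c L25107) (flp_d L18472) (flp_c L18409) L25012 L34072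
theorem L34077 : sm ge N3154 = N4307 := rfl
theorem L34081 : sm gd N4307 = N3158 := ded_30_1 (flp_e L25047) (flp_d L18424) (flp_e L18411) L25012 L34077
theorem L34083 : sm gi N3154 = N4308 := rfl
theorem L34107 : sm gf N3158 = N4311 := rfl
theorem L34112 : sm ge N4311 = N3160 := ded_35_1 (flp_f L25060) (flp_e L18440) (flp_f L18428) L25047 L34107
theorem L34136 : sm gi N3160 = N4315 := rfl
theorem L34138 : sm gb N4315 = N3191 := ded_23_1 (flp_i L25288) (flp_b L25062) L34136
theorem L34143 : sm gh N3161 = N4316 := rfl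
theorem L34145 : sm gb N4316 = N3192 := ded_22_1 (flp_h L25295) (flp_b L25068) L34143
theorem L34152 : sm gd N3163 = N4317 := rfl
theorem L34154 : sm gb N4317 = N3168 := ded_18_1 (flp_d L25117) (flp_b L25085) L34152
theorem L34169 : sm gc N3164 = N4319 := rfl
theorem L34171 : sm gg N4319 = N3166 := ded_27_2 (flp_c L25107) (flp_g L25096) L34169
theorem L34181 : sm gb N3166 = N4321 := rfl
theorem L34186 : sm gi N3166 = N4322 := rfl
theorem L34206 : sm ge N3168 = N4325 := rfl
theorem L34228 : sm gi N3170 = N4328 := rfl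
theorem L34236 : sm gg N4328 = N3173 := ded_43_1 (flp_i L25157) (flp_g L25140) L34228
theorem L34245 : sm ga N3172 = N4330 := rfl
theorem L34247 : sm gd N4330 = N3206 := ded_11_2 (flp_a L25414) (flp_d L25154) L34245
theorem L34250 : sm gb N4330 = N3497 := ded_9_2 (flp_a L27755) (flp_b L20393) (flp_a L18524) L25152 L34245
theorem L34259 : sm gh N3173 = N4332 := rfl
theorem L34275 : sm gh N3175 = N4334 := rfl
theorem L34279 : sm gf N4334 = N3176 := ded_40_1 (flp_h L25180) L25172 L34275
theorem L34282 : sm gd N3176 = N4335 := rfl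
theorem L34285 : sm gg N4335 = N3177 := ded_32_2 (flp_d L25187) (flp_g L25185) L34282
theorem L34287 : sm gh N4335 = N3180 := ded_33_2 (flp_d L25210) (flp_h L18559) (flp_d L18540) L25180 L34282
theorem L34297 : sm gc N3177 = N4337 := rfl
theorem L34301 : sm gh N4337 = N3182 := ded_28_2 (flp_c L25225) (flp_h L25191) L34297
theorem L34304 : sm ge N3177 = N4338 := rfl
theorem L34333 : sm gc N3180 = N4342 := rfl
theorem L34336 : sm gg N4342 = N3182 := ded_27_2 (flp_c L25225) (flp_g L25213) L34333
theorem L34340 : sm ge N3180 = N4343 := rfl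
theorem L34347 : sm gi N3180 = N4344 := rfl
theorem L34354 : sm gb N3182 = N4345 := rfl
theorem L34356 : sm gd N4345 = N3197 := ded_18_2 (flp_b L25341) (flp_d L25229) L34354
theorem L34359 : sm ge N3182 = N4346 := rfl
theorem L34365 : sm gi N3182 = N4347 := rfl
theorem L34391 : sm gf N3185 = N4351 := rfl
theorem L34396 : sm ge N4351 = N3826 := ded_35_1 (flp_f L30271) (flp_e L22251) (flp_f L18584) L25242 L34391
theorem L34398 : sm gi N3185 = N4352 := rfl
theorem L34402 : sm ge N4352 = N3186 := ded_38_1 (flp_i L25249) L25242 L34398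
theorem L34406 : sm gh N3186 = N4353 := rfl
theorem L34410 : sm gf N4353 = N3828 := ded_40_1 (flp_h L30284) (flp_f L25255) L34406
theorem L34412 : sm gg N4353 = N3189 := ded_42_1 (flp_h L25272) (flp_g L25257) L34406
theorem L34414 : sm gd N4353 = N4353 := ded_33_1 (flp_h L34406) L25253 L18599 (flp_d L25253) L34406
theorem L34438 : sm gi N3190 = N4357 := rfl
theorem L34443 : sm gf N4357 = N3832 := ded_41_1 (flp_i L30314) (flp_f L25286) L34438
theorem L34447 : sm gh N3191 = N4358 := rfl
theorem L34451 : sm gf N4358 = N3192 := ded_40_1 (flp_h L25295) (flp_f L25293) L34447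
theorem L34454 : sm gd N3192 = N4359 := rfl
theorem L34457 : sm gg N4359 = N3834 := ded_32_2 (flp_d L30328) (flp_g L25301) L34454
theorem L34469 : sm ge N3193 = N4361 := rfl
theorem L34476 : sm gd N4361 = N3836 := ded_30_1 (flp_e L30342) (flp_d L22307) (flp_e L18641) L25304 L34469
theorem L34479 : sm gi N3193 = N4362 := rfl
theorem L34484 : sm gd N4362 = N3194 := ded_34_1 (flp_i L25313) L25304 L34479
theorem L34515 : sm ga N3197 = N4366 := rfl
theorem L34517 : sm gc N4366 = N3206 := ded_10_2 (flp_a L25414) (flp_c L25346) L34515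
theorem L34582 : sm ga N3203 = N4374 := rfl
theorem L34585 : sm gg N4374 = N3206 := ded_14_2 (flp_a L25414) (flp_g L25393) L34582
theorem L34588 : sm gb N4374 = N3505 := ded_9_2 (flp_a L27810) (flp_b L20431) (flp_a L18700) L25390 L34582
theorem L34607 : sm gi N3206 = N4377 := rfl
theorem L34629 : sm gc N3209 = N4380 := rfl
theorem L34631 : sm ga N4380 = N3211 := ded_10_1 (flp_c L25452) (flp_a L25438) L34629
theorem L34633 : sm ge N4380 = N4380 := ded_25_2 (flp_c L34629) L25442 L34629
theorem L34634 : sm gg N4380 = N4380 := ded_27_2 (flp_c L34629) L25440 L34629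
theorem L34635 : sm gi N4380 = N4380 := ded_29_2 (flp_c L34629) L25441 L34629
theorem L34636 : sm gd N4380 = N4380 := ded_24_2 (flp_c L34629) (flp_d L25436) L18740 L25436 L34629
theorem L34637 : sm gf N3209 = N4381 := rfl
theorem L34639 : sm ga N4381 = N3212 := ded_13_1 (flp_f L25459) (flp_a L25438) L34637
theorem L34641 : sm gd N4381 = N3210 := ded_31_1 (flp_f L25443) L25436 L34637
theorem L34643 : sm gi N4381 = N4381 := ded_41_2 (flp_f L34637) L25441 L34637
theorem L34644 : sm gh N3209 = N4382 := rfl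
theorem L34646 : sm ga N4382 = N3213 := ded_15_1 (flp_h L25466) (flp_a L25438) L34644
theorem L34648 : sm ge N4382 = N4382 := ded_37_1 (flp_h L34644) L25442 L34644
theorem L34649 : sm gg N4382 = N4382 := ded_42_1 (flp_h L34644) L25440 L34644
theorem L34650 : sm gd N4382 = N3221 := ded_33_1 (flp_h L25530) (flp_d L18783) (flp_h L18742) L25436 L34644
theorem L34652 : sm gg N3210 = N4383 := rfl
theorem L34654 : sm ga N4383 = N3214 := ded_14_1 (flp_g L25474) (flp_a L25445) L34652
theorem L34656 : sm gc N4383 = N4383 := ded_27_1 (flp_g L34652) L25447 L34652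
theorem L34657 : sm ge N4383 = N4383 := ded_36_1 (flp_g L34652) L25451 L34652
theorem L34658 : sm gh N4383 = N3222 := ded_42_2 (flp_g L25537) (flp_h L25448) L34652
theorem L34660 : sm gi N4383 = N4383 := ded_43_2 (flp_g L34652) L25450 L34652
theorem L34661 : sm gf N4383 = N4383 := ded_39_1 (flp_g L34652) (flp_f L25443) L18741 L25443 L34652
theorem L34662 : sm gf N3211 = N4384 := rfl
theorem L34664 : sm gb N4384 = N4384 := ded_20_1 (flp_f L34662) L25457 L34662
theorem L34665 : sm gc N4384 = N3212 := ded_26_1 (flp_f L25459) L25452 L34662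
theorem L34667 : sm gd N4384 = N4384 := ded_31_1 (flp_f L34662) L25458 L34662
theorem L34668 : sm gi N4384 = N4384 := ded_41_2 (flp_f L34662) L25456 L34662
theorem L34669 : sm gh N3211 = N4385 := rfl
theorem L34671 : sm gb N4385 = N4385 := ded_22_1 (flp_h L34669) L25457 L34669
theorem L34672 : sm gc N4385 = N3213 := ded_28_1 (flp_h L25466) L25452 L34669
theorem L34674 : sm ge N4385 = N4385 := ded_37_1 (flp_h L34669) L25454 L34669
theorem L34675 : sm gg N4385 = N4385 := ded_42_1 (flp_h L34669) L25455 L34669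
theorem L34676 : sm ge N3212 = N4386 := rfl
theorem L34678 : sm gb N4386 = N3215 := ded_19_1 (flp_e L25484) (flp_b L25461) L34676
theorem L34680 : sm gi N4386 = N4386 := ded_38_2 (flp_e L34676) L25465 L34676
theorem L34681 : sm gd N4386 = N4386 := ded_30_1 (flp_e L34676) L25463 L18760 (flp_d L25463) L34676
theorem L34682 : sm gf N4386 = N4386 := ded_35_2 (flp_e L34676) (flp_f L25459) L18751 L25459 L34676
theorem L34683 : sm gg N3212 = N4387 := rfl
theorem L34685 : sm gb N4387 = N3216 := ded_21_1 (flp_g L25490) (flp_b L25461) L34683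
theorem L34687 : sm gd N4387 = N3214 := ded_32_1 (flp_g L25474) (flp_d L25463) L34683
theorem L34689 : sm gi N4387 = N4387 := ded_43_2 (flp_g L34683) L25465 L34683
theorem L34690 : sm gf N4387 = N4387 := ded_39_1 (flp_g L34683) (flp_f L25459) L18749 L25459 L34683
theorem L34691 : sm gh N3212 = N4388 := rfl
theorem L34693 : sm gb N4388 = N3217 := ded_22_1 (flp_h L25497) (flp_b L25461) L34691
theorem L34695 : sm gf N4388 = N3213 := ded_40_1 (flp_h L25466) L25459 L34691
theorem L34697 : sm gd N4388 = N3227 := ded_33_1 (flp_h L25582) L18814 (flp_h L18757) (flp_d L25463) L34691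
theorem L34699 : sm gi N3213 = N4389 := rfl
theorem L34701 : sm gb N4389 = N3218 := ded_23_1 (flp_i L25504) (flp_b L25468) L34699
theorem L34703 : sm gd N4389 = N3228 := ded_34_1 (flp_i L25588) (flp_d L25472) L34699
theorem L34705 : sm ge N4389 = N4389 := ded_38_1 (flp_i L34699) L25470 L34699
theorem L34706 : sm gg N4389 = N4389 := ded_43_1 (flp_i L34699) L25471 L34699
theorem L34707 : sm gh N4389 = N4389 := ded_44_1 (flp_i L34699) (flp_h L25466) L18750 L25466 L34699
theorem L34708 : sm gg N3215 = N4390 := rfl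
theorem L34710 : sm gc N4390 = N4390 := ded_27_1 (flp_g L34708) L25486 L34708
theorem L34711 : sm gd N4390 = N4390 := ded_32_1 (flp_g L34708) L25488 L34708
theorem L34712 : sm ge N4390 = N3216 := ded_36_1 (flp_g L25490) L25484 L34708
theorem L34714 : sm gi N4390 = N4390 := ded_43_2 (flp_g L34708) L25487 L34708
theorem L34715 : sm gh N3215 = N4391 := rfl
theorem L34717 : sm gc N4391 = N4391 := ded_28_1 (flp_h L34715) L25486 L34715
theorem L34718 : sm ge N4391 = N3217 := ded_37_1 (flp_h L25497) L25484 L34715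
theorem L34720 : sm gf N4391 = N4391 := ded_40_1 (flp_h L34715) L25489 L34715
theorem L34721 : sm gh N3216 = N4392 := rfl
theorem L34723 : sm gc N4392 = N4392 := ded_28_1 (flp_h L34721) L25492 L34721
theorem L34724 : sm gf N4392 = N4392 := ded_40_1 (flp_h L34721) L25496 L34721
theorem L34725 : sm gg N4392 = N3217 := ded_42_1 (flp_h L25497) L25490 L34721
theorem L34727 : sm gd N4392 = N3231 := ded_33_1 (flp_h L25614) L18847 (flp_h L18779) (flp_d L25493) L34721
theorem L34729 : sm gi N3217 = N4393 := rfl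
theorem L34731 : sm gc N4393 = N4393 := ded_29_1 (flp_i L34729) L25499 L34729
theorem L34732 : sm gd N4393 = N3232 := ded_34_1 (flp_i L25621) (flp_d L25502) L34729
theorem L34734 : sm gf N4393 = N3218 := ded_41_1 (flp_i L25504) (flp_f L25500) L34729
theorem L34736 : sm gh N4393 = N4393 := ded_44_1 (flp_i L34729) (flp_h L25497) L18766 L25497 L34729
theorem L34737 : sm gb N3219 = N4394 := rfl
theorem L34739 : sm gd N4394 = N4394 := ded_18_2 (flp_b L34737) L25521 L34737
theorem L34740 : sm ge N4394 = N3306 := ded_19_2 (flp_b L26268) (flp_e L25516) L34737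
theorem L34742 : sm gg N4394 = N4394 := ded_21_2 (flp_b L34737) L25518 L34737
theorem L34743 : sm gi N4394 = N4145 := ded_23_2 (flp_b L32786) (flp_i L25519) L34737
theorem L34745 : sm ga N4394 = N3233 := ded_9_1 (flp_b L25629) L18869 (flp_b L18807) (flp_a L25514) L34737
theorem L34747 : sm gf N3219 = N4395 := rfl
theorem L34749 : sm ga N4395 = N3223 := ded_13_1 (flp_f L25546) (flp_a L25514) L34747
theorem L34751 : sm gc N4395 = N3220 := ded_26_1 (flp_f L25522) L25512 L34747
theorem L34753 : sm gd N4395 = N4395 := ded_31_1 (flp_f L34747) L25521 L34747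
theorem L34754 : sm gi N4395 = N4146 := ded_41_2 (flp_f L32794) (flp_i L25519) L34747
theorem L34756 : sm gh N3219 = N4396 := rfl
theorem L34758 : sm ga N4396 = N3224 := ded_15_1 (flp_h L25555) (flp_a L25514) L34756
theorem L34760 : sm gc N4396 = N3221 := ded_28_1 (flp_h L25530) L25512 L34756
theorem L34762 : sm ge N4396 = N3308 := ded_37_1 (flp_h L26283) (flp_e L25516) L34756
theorem L34764 : sm gg N4396 = N4396 := ded_42_1 (flp_h L34756) L25518 L34756
theorem L34765 : sm ge N3220 = N4397 := rfl
theorem L34767 : sm ga N4397 = N3225 := ded_12_1 (flp_e L25564) (flp_a L25524) L34765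
theorem L34769 : sm gi N4397 = N4148 := ded_38_2 (flp_e L32808) (flp_i L25528) L34765
theorem L34771 : sm gd N4397 = N4397 := ded_30_1 (flp_e L34765) L25526 L18799 (flp_d L25526) L34765
theorem L34772 : sm gf N4397 = N3309 := ded_35_2 (flp_e L26290) (flp_f L19328) (flp_e L18790) L25522 L34765
theorem L34774 : sm gg N3220 = N4398 := rfl
theorem L34776 : sm ga N4398 = N3226 := ded_14_1 (flp_g L25573) (flp_a L25524) L34774
theorem L34778 : sm gd N4398 = N3222 := ded_32_1 (flp_g L25537) (flp_d L25526) L34774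
theorem L34780 : sm gi N4398 = N4149 := ded_43_2 (flp_g L32815) (flp_i L25528) L34774
theorem L34782 : sm gf N4398 = N4398 := ded_39_1 (flp_g L34774) (flp_f L25522) L18787 L25522 L34774
theorem L34783 : sm gh N3220 = N4399 := rfl
theorem L34785 : sm ga N4399 = N3227 := ded_15_1 (flp_h L25582) (flp_a L25524) L34783
theorem L34787 : sm gf N4399 = N3221 := ded_40_1 (flp_h L25530) L25522 L34783
theorem L34789 : sm gi N3221 = N4400 := rfl
theorem L34791 : sm ga N4400 = N3228 := ded_16_1 (flp_i L25588) (flp_a L25532) L34789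
theorem L34793 : sm ge N4400 = N3312 := ded_38_1 (flp_i L26309) (flp_e L25534) L34789
theorem L34795 : sm gg N4400 = N4400 := ded_43_1 (flp_i L34789) L25536 L34789
theorem L34796 : sm gh N4400 = N4151 := ded_44_1 (flp_i L32833) (flp_h L24143) (flp_i L18788) L25530 L34789
theorem L34798 : sm ge N3223 = N4401 := rfl
theorem L34800 : sm gb N4401 = N3240 := ded_19_1 (flp_e L25691) (flp_b L25548) L34798
theorem L34802 : sm gc N4401 = N3225 := ded_25_1 (flp_e L25564) (flp_c L25550) L34798
theorem L34804 : sm gi N4401 = N4152 := ded_38_2 (flp_e L32841) (flp_i L25553) L34798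
theorem L34806 : sm gf N4401 = N3313 := ded_35_2 (flp_e L26315) (flp_f L19349) (flp_e L18802) L25546 L34798
theorem L34808 : sm gg N3223 = N4402 := rfl
theorem L34810 : sm gb N4402 = N3241 := ded_21_1 (flp_g L25699) (flp_b L25548) L34808
theorem L34812 : sm gc N4402 = N3226 := ded_27_1 (flp_g L25573) (flp_c L25550) L34808
theorem L34814 : sm gd N4402 = N4402 := ded_32_1 (flp_g L34808) L25552 L34808
theorem L34815 : sm gi N4402 = N4153 := ded_43_2 (flp_g L32847) (flp_i L25553) L34808
theorem L34817 : sm gf N4402 = N4402 := ded_39_1 (flp_g L34808) (flp_f L25546) L18804 L25546 L34808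
theorem L34818 : sm gh N3223 = N4403 := rfl
theorem L34820 : sm gb N4403 = N3242 := ded_22_1 (flp_h L25707) (flp_b L25548) L34818
theorem L34822 : sm gc N4403 = N3227 := ded_28_1 (flp_h L25582) (flp_c L25550) L34818
theorem L34824 : sm gf N4403 = N3224 := ded_40_1 (flp_h L25555) L25546 L34818
theorem L34826 : sm gd N3224 = N4404 := rfl
theorem L34828 : sm gb N4404 = N3243 := ded_18_1 (flp_d L25713) (flp_b L25557) L34826
theorem L34830 : sm gg N4404 = N4404 := ded_32_2 (flp_d L34826) L25563 L34826
theorem L34831 : sm gh N4404 = N4404 := ded_33_2 (flp_d L34826) (flp_h L25555) L18809 L25555 L34826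
theorem L34832 : sm gi N3224 = N4405 := rfl
theorem L34834 : sm gb N4405 = N3244 := ded_23_1 (flp_i L25718) (flp_b L25557) L34832
theorem L34836 : sm gc N4405 = N3228 := ded_29_1 (flp_i L25588) (flp_c L25559) L34832
theorem L34838 : sm ge N4405 = N3317 := ded_38_1 (flp_i L26346) (flp_e L25561) L34832
theorem L34840 : sm gg N4405 = N4405 := ded_43_1 (flp_i L34832) L25563 L34832
theorem L34841 : sm gh N4405 = N4156 := ded_44_1 (flp_i L32870) (flp_h L24168) (flp_i L18805) L25555 L34832
theorem L34843 : sm gg N3225 = N4406 := rfl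
theorem L34845 : sm gb N4406 = N3229 := ded_21_1 (flp_g L25597) (flp_b L25566) L34843
theorem L34847 : sm gd N4406 = N4406 := ded_32_1 (flp_g L34843) L25570 L34843
theorem L34848 : sm ge N4406 = N3226 := ded_36_1 (flp_g L25573) L25564 L34843
theorem L34850 : sm gi N4406 = N4157 := ded_43_2 (flp_g L32877) (flp_i L25568) L34843
theorem L34852 : sm gh N3225 = N4407 := rfl
theorem L34854 : sm gb N4407 = N3230 := ded_22_1 (flp_h L25606) (flp_b L25566) L34852
theorem L34856 : sm ge N4407 = N3227 := ded_37_1 (flp_h L25582) L25564 L34852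
theorem L34858 : sm gf N4407 = N3319 := ded_40_1 (flp_h L26360) (flp_f L25571) L34852
theorem L34860 : sm gh N3226 = N4408 := rfl
theorem L34862 : sm gb N4408 = N3231 := ded_22_1 (flp_h L25614) (flp_b L25575) L34860
theorem L34864 : sm gf N4408 = N4408 := ded_40_1 (flp_h L34860) L25581 L34860
theorem L34865 : sm gg N4408 = N3227 := ded_42_1 (flp_h L25582) L25573 L34860
theorem L34867 : sm gi N3227 = N4409 := rfl
theorem L34869 : sm gb N4409 = N3232 := ded_23_1 (flp_i L25621) (flp_b L25584) L34867
theorem L34871 : sm gf N4409 = N3228 := ded_41_1 (flp_i L25588) (flp_f L25586) L34867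
theorem L34873 : sm gh N4409 = N4160 := ded_44_1 (flp_i L32898) (flp_h L24187) (flp_i L18816) L25582 L34867
theorem L34875 : sm gf N3229 = N4410 := rfl
theorem L34877 : sm gc N4410 = N3249 := ded_26_1 (flp_f L25762) (flp_c L25599) L34875
theorem L34879 : sm gd N4410 = N4410 := ded_31_1 (flp_f L34875) L25601 L34875
theorem L34880 : sm gi N4410 = N4161 := ded_41_2 (flp_f L32905) (flp_i L25604) L34875
theorem L34882 : sm ge N4410 = N4410 := ded_35_1 (flp_f L34875) L25602 L18851 (flp_e L25602) L34875
theorem L34883 : sm gg N4410 = N3322 := ded_39_2 (flp_f L26381) (flp_g L19389) (flp_f L18841) L25597 L34875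
theorem L34885 : sm gh N3229 = N4411 := rfl
theorem L34887 : sm gc N4411 = N3250 := ded_28_1 (flp_h L25771) (flp_c L25599) L34885
theorem L34889 : sm ge N4411 = N3231 := ded_37_1 (flp_h L25614) (flp_e L25602) L34885
theorem L34891 : sm gg N4411 = N3230 := ded_42_1 (flp_h L25606) L25597 L34885
theorem L34893 : sm gd N3230 = N4412 := rfl
theorem L34895 : sm gf N4412 = N3324 := ded_31_2 (flp_d L26395) (flp_f L25612) L34893
theorem L34897 : sm gh N4412 = N4412 := ded_33_2 (flp_d L34893) (flp_h L25606) L18840 L25606 L34893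
theorem L34898 : sm gi N3230 = N4413 := rfl
theorem L34900 : sm gc N4413 = N3252 := ded_29_1 (flp_i L25784) (flp_c L25608) L34898
theorem L34902 : sm ge N4413 = N3232 := ded_38_1 (flp_i L25621) (flp_e L25610) L34898
theorem L34904 : sm gf N4413 = N3325 := ded_41_1 (flp_i L26399) (flp_f L25612) L34898
theorem L34906 : sm gh N4413 = N4164 := ded_44_1 (flp_i L32929) (flp_h L24209) (flp_i L18838) L25606 L34898
theorem L34908 : sm gi N3231 = N4414 := rfl
theorem L34910 : sm gc N4414 = N3253 := ded_29_1 (flp_i L25792) (flp_c L25616) L34908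
theorem L34912 : sm gf N4414 = N4414 := ded_41_1 (flp_i L34908) L25618 L34908
theorem L34913 : sm gg N4414 = N3232 := ded_43_1 (flp_i L25621) (flp_g L25619) L34908
theorem L34915 : sm gh N4414 = N4165 := ded_44_1 (flp_i L32937) (flp_h L24217) (flp_i L18849) L25614 L34908
theorem L34917 : sm gf N3233 = N4415 := rfl
theorem L34919 : sm gb N4415 = N3234 := ded_20_1 (flp_f L25637) L25629 L34917
theorem L34921 : sm gd N4415 = N4415 := ded_31_1 (flp_f L34917) L25631 L34917
theorem L34922 : sm gi N4415 = N4166 := ded_41_2 (flp_f L32947) (flp_i L25635) L34917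
theorem L34924 : sm gh N3233 = N4416 := rfl
theorem L34926 : sm gb N4416 = N3235 := ded_22_1 (flp_h L25646) L25629 L34924
theorem L34928 : sm ge N4416 = N3349 := ded_37_1 (flp_h L26614) (flp_e L25632) L34924
theorem L34930 : sm gg N4416 = N4416 := ded_42_1 (flp_h L34924) L25634 L34924
theorem L34931 : sm ge N3234 = N4417 := rfl
theorem L34933 : sm ga N4417 = N3240 := ded_12_1 (flp_e L25691) (flp_a L25639) L34931
theorem L34935 : sm gc N4417 = N3236 := ded_25_1 (flp_e L25655) (flp_c L25641) L34931
theorem L34937 : sm gi N4417 = N4168 := ded_38_2 (flp_e L32961) (flp_i L25644) L34931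
theorem L34939 : sm gf N4417 = N3350 := ded_35_2 (flp_e L26619) (flp_f L19553) (flp_e L18871) L25637 L34931
theorem L34941 : sm gg N3234 = N4418 := rfl
theorem L34943 : sm ga N4418 = N3241 := ded_14_1 (flp_g L25699) (flp_a L25639) L34941
theorem L34945 : sm gc N4418 = N3237 := ded_27_1 (flp_g L25665) (flp_c L25641) L34941
theorem L34947 : sm gd N4418 = N4418 := ded_32_1 (flp_g L34941) L25643 L34941
theorem L34948 : sm gi N4418 = N4169 := ded_43_2 (flp_g L32967) (flp_i L25644) L34941
theorem L34950 : sm gf N4418 = N4418 := ded_39_1 (flp_g L34941) (flp_f L25637) L18873 L25637 L34941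
theorem L34951 : sm gh N3234 = N4419 := rfl
theorem L34953 : sm ga N4419 = N3242 := ded_15_1 (flp_h L25707) (flp_a L25639) L34951
theorem L34955 : sm gc N4419 = N3238 := ded_28_1 (flp_h L25674) (flp_c L25641) L34951
theorem L34957 : sm gf N4419 = N3235 := ded_40_1 (flp_h L25646) L25637 L34951
theorem L34959 : sm gd N3235 = N4420 := rfl
theorem L34961 : sm ga N4420 = N3243 := ded_11_1 (flp_d L25713) (flp_a L25648) L34959
theorem L34963 : sm gg N4420 = N4420 := ded_32_2 (flp_d L34959) L25654 L34959
theorem L34964 : sm gc N4420 = N4420 := ded_24_1 (flp_d L34959) L25650 L18892 (flp_c L25650) L34959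
theorem L34965 : sm gh N4420 = N4420 := ded_33_2 (flp_d L34959) (flp_h L25646) L18876 L25646 L34959
theorem L34966 : sm gi N3235 = N4421 := rfl
theorem L34968 : sm ga N4421 = N3244 := ded_16_1 (flp_i L25718) (flp_a L25648) L34966
theorem L34970 : sm gc N4421 = N3239 := ded_29_1 (flp_i L25681) (flp_c L25650) L34966
theorem L34972 : sm ge N4421 = N3354 := ded_38_1 (flp_i L26651) (flp_e L25652) L34966
theorem L34974 : sm gg N4421 = N4421 := ded_43_1 (flp_i L34966) L25654 L34966
theorem L34975 : sm gh N4421 = N4172 := ded_44_1 (flp_i L32991) (flp_h L24249) (flp_i L18874) L25646 L34966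
theorem L34977 : sm gg N3236 = N4422 := rfl
theorem L34979 : sm ga N4422 = N3245 := ded_14_1 (flp_g L25727) (flp_a L25657) L34977
theorem L34981 : sm gd N4422 = N3261 := ded_32_1 (flp_g L25867) (flp_d L25661) L34977
theorem L34983 : sm ge N4422 = N3237 := ded_36_1 (flp_g L25665) L25655 L34977
theorem L34985 : sm gi N4422 = N4173 := ded_43_2 (flp_g L32998) (flp_i L25659) L34977
theorem L34987 : sm gh N3236 = N4423 := rfl
theorem L34989 : sm ga N4423 = N3246 := ded_15_1 (flp_h L25737) (flp_a L25657) L34987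
theorem L34991 : sm ge N4423 = N3238 := ded_37_1 (flp_h L25674) L25655 L34987
theorem L34993 : sm gf N4423 = N3356 := ded_40_1 (flp_h L26666) (flp_f L25663) L34987
theorem L34995 : sm gh N3237 = N4424 := rfl
theorem L34997 : sm ga N4424 = N3247 := ded_15_1 (flp_h L25745) (flp_a L25667) L34995
theorem L34999 : sm gf N4424 = N4424 := ded_40_1 (flp_h L34995) L25673 L34995
theorem L35000 : sm gg N4424 = N3238 := ded_42_1 (flp_h L25674) L25665 L34995
theorem L35002 : sm gd N4424 = N4424 := ded_33_1 (flp_h L34995) L25669 L18900 (flp_d L25669) L34995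
theorem L35003 : sm gi N3238 = N4425 := rfl
theorem L35005 : sm ga N4425 = N3248 := ded_16_1 (flp_i L25753) (flp_a L25676) L35003
theorem L35007 : sm gd N4425 = N4425 := ded_34_1 (flp_i L35003) L25680 L35003
theorem L35008 : sm gf N4425 = N3239 := ded_41_1 (flp_i L25681) (flp_f L25678) L35003
theorem L35010 : sm gh N4425 = N4176 := ded_44_1 (flp_i L33027) (flp_h L24273) (flp_i L18883) L25674 L35003
theorem L35012 : sm gd N3240 = N4426 := rfl
theorem L35014 : sm gf N4426 = N3359 := ded_31_2 (flp_d L26689) (flp_f L25697) L35012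
theorem L35016 : sm gi N4426 = N4177 := ded_34_2 (flp_d L33037) (flp_i L25695) L35012
theorem L35018 : sm gc N4426 = N3265 := ded_24_1 (flp_d L25901) L19049 (flp_d L18924) (flp_c L25693) L35012
theorem L35020 : sm ge N4426 = N4426 := ded_30_2 (flp_d L35012) (flp_e L25691) L18908 L25691 L35012
theorem L35021 : sm gg N3240 = N4427 := rfl
theorem L35023 : sm gc N4427 = N3245 := ded_27_1 (flp_g L25727) (flp_c L25693) L35021
theorem L35025 : sm ge N4427 = N3241 := ded_36_1 (flp_g L25699) L25691 L35021
theorem L35027 : sm gi N4427 = N4178 := ded_43_2 (flp_g L33042) (flp_i L25695) L35021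
theorem L35029 : sm gh N3240 = N4428 := rfl
theorem L35031 : sm gc N4428 = N3246 := ded_28_1 (flp_h L25737) (flp_c L25693) L35029
theorem L35033 : sm ge N4428 = N3242 := ded_37_1 (flp_h L25707) L25691 L35029
theorem L35035 : sm gf N4428 = N3361 := ded_40_1 (flp_h L26701) (flp_f L25697) L35029
theorem L35037 : sm gh N3241 = N4429 := rfl
theorem L35039 : sm gc N4429 = N3247 := ded_28_1 (flp_h L25745) (flp_c L25701) L35037
theorem L35041 : sm gf N4429 = N4429 := ded_40_1 (flp_h L35037) L25706 L35037
theorem L35042 : sm gg N4429 = N3242 := ded_42_1 (flp_h L25707) L25699 L35037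
theorem L35044 : sm gd N3242 = N4430 := rfl
theorem L35046 : sm gf N4430 = N3243 := ded_31_2 (flp_d L25713) (flp_f L25711) L35044
theorem L35048 : sm gc N4430 = N4430 := ded_24_1 (flp_d L35044) L25709 L18943 (flp_c L25709) L35044
theorem L35049 : sm gh N4430 = N4430 := ded_33_2 (flp_d L35044) (flp_h L25707) L18908 L25707 L35044
theorem L35050 : sm gi N3242 = N4431 := rfl
theorem L35052 : sm gc N4431 = N3248 := ded_29_1 (flp_i L25753) (flp_c L25709) L35050
theorem L35054 : sm gf N4431 = N3244 := ded_41_1 (flp_i L25718) (flp_f L25711) L35050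
theorem L35056 : sm gh N4431 = N4182 := ded_44_1 (flp_i L33068) (flp_h L24302) (flp_i L18909) L25707 L35050
theorem L35058 : sm ge N3243 = N4432 := rfl
theorem L35060 : sm gc N4432 = N4432 := ded_25_1 (flp_e L35058) L25716 L35058
theorem L35061 : sm gg N4432 = N4432 := ded_36_2 (flp_e L35058) L25715 L35058
theorem L35062 : sm gh N4432 = N4432 := ded_37_2 (flp_e L35058) L25717 L35058
theorem L35063 : sm gd N4432 = N3365 := ded_30_1 (flp_e L26728) (flp_d L19613) (flp_e L18915) L25713 L35058
theorem L35065 : sm gi N3243 = N4433 := rfl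
theorem L35067 : sm gc N4433 = N4433 := ded_29_1 (flp_i L35065) L25716 L35065
theorem L35068 : sm gd N4433 = N3244 := ded_34_1 (flp_i L25718) L25713 L35065
theorem L35070 : sm gg N4433 = N4433 := ded_43_1 (flp_i L35065) L25715 L35065
theorem L35071 : sm gf N3245 = N4434 := rfl
theorem L35073 : sm gb N4434 = N3249 := ded_20_1 (flp_f L25762) (flp_b L25729) L35071
theorem L35075 : sm gd N4434 = N3272 := ded_31_1 (flp_f L25961) (flp_d L25731) L35071
theorem L35077 : sm gi N4434 = N4185 := ded_41_2 (flp_f L33087) (flp_i L25735) L35071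
theorem L35079 : sm ge N4434 = N4434 := ded_35_1 (flp_f L35071) L25733 L18936 (flp_e L25733) L35071
theorem L35080 : sm gg N4434 = N3367 := ded_39_2 (flp_f L26742) (flp_g L19625) (flp_f L18926) L25727 L35071
theorem L35082 : sm gh N3245 = N4435 := rfl
theorem L35084 : sm gb N4435 = N3250 := ded_22_1 (flp_h L25771) (flp_b L25729) L35082
theorem L35086 : sm ge N4435 = N3247 := ded_37_1 (flp_h L25745) (flp_e L25733) L35082
theorem L35088 : sm gg N4435 = N3246 := ded_42_1 (flp_h L25737) L25727 L35082
theorem L35090 : sm gd N3246 = N4436 := rfl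
theorem L35092 : sm gb N4436 = N3251 := ded_18_1 (flp_d L25777) (flp_b L25739) L35090
theorem L35094 : sm gf N4436 = N3369 := ded_31_2 (flp_d L26757) (flp_f L25743) L35090
theorem L35096 : sm ge N4436 = N4436 := ded_30_2 (flp_d L35090) L25741 L18943 (flp_e L25741) L35090
theorem L35097 : sm gh N4436 = N3274 := ded_33_2 (flp_d L25979) (flp_h L19099) (flp_d L18924) L25737 L35090
theorem L35099 : sm gi N3246 = N4437 := rfl
theorem L35101 : sm gb N4437 = N3252 := ded_23_1 (flp_i L25784) (flp_b L25739) L35099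
theorem L35103 : sm ge N4437 = N3248 := ded_38_1 (flp_i L25753) (flp_e L25741) L35099
theorem L35105 : sm gf N4437 = N3370 := ded_41_1 (flp_i L26765) (flp_f L25743) L35099
theorem L35107 : sm gh N4437 = N4188 := ded_44_1 (flp_i L33110) (flp_h L24327) (flp_i L18922) L25737 L35099
theorem L35109 : sm gi N3247 = N4438 := rfl
theorem L35111 : sm gb N4438 = N3253 := ded_23_1 (flp_i L25792) (flp_b L25747) L35109
theorem L35113 : sm gd N4438 = N4438 := ded_34_1 (flp_i L35109) L25752 L35109
theorem L35114 : sm gf N4438 = N4438 := ded_41_1 (flp_i L35109) L25749 L35109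
theorem L35115 : sm gg N4438 = N3248 := ded_43_1 (flp_i L25753) (flp_g L25750) L35109
theorem L35117 : sm gh N4438 = N4189 := ded_44_1 (flp_i L33116) (flp_h L24333) (flp_i L18934) L25745 L35109
theorem L35119 : sm gh N3249 = N4439 := rfl
theorem L35121 : sm ge N4439 = N4439 := ded_37_1 (flp_h L35119) L25768 L35119
theorem L35122 : sm gf N4439 = N3250 := ded_40_1 (flp_h L25771) L25762 L35119
theorem L35124 : sm gg N4439 = N3372 := ded_42_1 (flp_h L26780) (flp_g L25769) L35119
theorem L35126 : sm gd N3250 = N4440 := rfl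
theorem L35128 : sm gg N4440 = N3251 := ded_32_2 (flp_d L25777) (flp_g L25775) L35126
theorem L35130 : sm ge N4440 = N4440 := ded_30_2 (flp_d L35126) L25773 L18973 (flp_e L25773) L35126
theorem L35131 : sm gh N4440 = N3278 := ded_33_2 (flp_d L26016) (flp_h L19134) (flp_d L18956) L25771 L35126
theorem L35133 : sm gi N3250 = N4441 := rfl
theorem L35135 : sm ge N4441 = N3253 := ded_38_1 (flp_i L25792) (flp_e L25773) L35133
theorem L35137 : sm gg N4441 = N3252 := ded_43_1 (flp_i L25784) (flp_g L25775) L35133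
theorem L35139 : sm gh N4441 = N4192 := ded_44_1 (flp_i L33142) (flp_h L24357) (flp_i L18960) L25771 L35133
theorem L35141 : sm gc N3251 = N4442 := rfl
theorem L35143 : sm ge N4442 = N4442 := ded_25_2 (flp_c L35141) L25781 L35141
theorem L35144 : sm gf N4442 = N3375 := ded_26_2 (flp_c L26799) (flp_f L25779) L35141
theorem L35146 : sm gh N4442 = N3280 := ded_28_2 (flp_c L26030) (flp_h L25782) L35141
theorem L35148 : sm gi N3251 = N4443 := rfl
theorem L35150 : sm gd N4443 = N3252 := ded_34_1 (flp_i L25784) L25777 L35148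
theorem L35152 : sm ge N4443 = N4443 := ded_38_1 (flp_i L35148) L25781 L35148
theorem L35153 : sm gf N4443 = N3376 := ded_41_1 (flp_i L26805) (flp_f L25779) L35148
theorem L35155 : sm ge N3254 = N4444 := rfl
theorem L35157 : sm ga N4444 = N4444 := ded_12_1 (flp_e L35155) L25802 L35155
theorem L35158 : sm gb N4444 = N3256 := ded_19_1 (flp_e L25817) (flp_b L25803) L35155
theorem L35160 : sm gi N4444 = N4195 := ded_38_2 (flp_e L33166) (flp_i L25806) L35155
theorem L35162 : sm gf N4444 = N3406 := ded_35_2 (flp_e L27090) (flp_f L19891) (flp_e L18984) L25800 L35155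
theorem L35164 : sm gg N3254 = N4445 := rfl
theorem L35166 : sm ga N4445 = N4445 := ded_14_1 (flp_g L35164) L25802 L35164
theorem L35167 : sm gb N4445 = N3257 := ded_21_1 (flp_g L25827) (flp_b L25803) L35164
theorem L35169 : sm gd N4445 = N4445 := ded_32_1 (flp_g L35164) L25805 L35164
theorem L35170 : sm gi N4445 = N4196 := ded_43_2 (flp_g L33173) (flp_i L25806) L35164
theorem L35172 : sm gf N4445 = N3856 := ded_39_1 (flp_g L30519) (flp_f L22445) (flp_g L18986) L25800 L35164
theorem L35174 : sm gh N3254 = N4446 := rfl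
theorem L35176 : sm ga N4446 = N4446 := ded_15_1 (flp_h L35174) L25802 L35174
theorem L35177 : sm gb N4446 = N3258 := ded_22_1 (flp_h L25838) (flp_b L25803) L35174
theorem L35179 : sm gf N4446 = N3255 := ded_40_1 (flp_h L25808) L25800 L35174
theorem L35181 : sm gd N3255 = N4447 := rfl
theorem L35183 : sm ga N4447 = N4447 := ded_11_1 (flp_d L35181) L25810 L35181
theorem L35184 : sm gb N4447 = N3259 := ded_18_1 (flp_d L25846) (flp_b L25811) L35181
theorem L35186 : sm gg N4447 = N3858 := ded_32_2 (flp_d L30534) (flp_g L25815) L35181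
theorem L35188 : sm ge N4447 = N4447 := ded_30_2 (flp_d L35181) L25813 L19905 (flp_e L25813) L35181
theorem L35189 : sm gh N4447 = N4447 := ded_33_2 (flp_d L35181) (flp_h L25808) L18983 L25808 L35181
theorem L35190 : sm gi N3255 = N4448 := rfl
theorem L35192 : sm ga N4448 = N4448 := ded_16_1 (flp_i L35190) L25810 L35190
theorem L35193 : sm gb N4448 = N3260 := ded_23_1 (flp_i L25855) (flp_b L25811) L35190
theorem L35195 : sm ge N4448 = N3409 := ded_38_1 (flp_i L27112) (flp_e L25813) L35190
theorem L35197 : sm gg N4448 = N3859 := ded_43_1 (flp_i L30541) (flp_g L25815) L35190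
theorem L35199 : sm gh N4448 = N4199 := ded_44_1 (flp_i L33201) (flp_h L24396) (flp_i L18988) L25808 L35190
theorem L35201 : sm gd N3256 = N4449 := rfl
theorem L35203 : sm ga N4449 = N3265 := ded_11_1 (flp_d L25901) (flp_a L25819) L35201
theorem L35205 : sm gf N4449 = N3410 := ded_31_2 (flp_d L27120) (flp_f L25825) L35201
theorem L35207 : sm gi N4449 = N4200 := ded_34_2 (flp_d L33210) (flp_i L25823) L35201
theorem L35209 : sm ge N4449 = N4449 := ded_30_2 (flp_d L35201) (flp_e L25817) L18997 L25817 L35201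
theorem L35210 : sm gg N3256 = N4450 := rfl
theorem L35212 : sm ga N4450 = N3266 := ded_14_1 (flp_g L25909) (flp_a L25819) L35210
theorem L35214 : sm gc N4450 = N3261 := ded_27_1 (flp_g L25867) (flp_c L25821) L35210
theorem L35216 : sm ge N4450 = N3257 := ded_36_1 (flp_g L25827) L25817 L35210
theorem L35218 : sm gi N4450 = N4201 := ded_43_2 (flp_g L33215) (flp_i L25823) L35210
theorem L35220 : sm gh N3256 = N4451 := rfl
theorem L35222 : sm ga N4451 = N3267 := ded_15_1 (flp_h L25918) (flp_a L25819) L35220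
theorem L35224 : sm gc N4451 = N3262 := ded_28_1 (flp_h L25875) (flp_c L25821) L35220
theorem L35226 : sm ge N4451 = N3258 := ded_37_1 (flp_h L25838) L25817 L35220
theorem L35228 : sm gf N4451 = N3412 := ded_40_1 (flp_h L27134) (flp_f L25825) L35220
theorem L35230 : sm gh N3257 = N4452 := rfl
theorem L35232 : sm ga N4452 = N3268 := ded_15_1 (flp_h L25927) (flp_a L25829) L35230
theorem L35234 : sm gc N4452 = N3263 := ded_28_1 (flp_h L25883) (flp_c L25831) L35230
theorem L35236 : sm gf N4452 = N3863 := ded_40_1 (flp_h L30580) (flp_f L25836) L35230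
theorem L35238 : sm gg N4452 = N3258 := ded_42_1 (flp_h L25838) L25827 L35230
theorem L35240 : sm gd N3258 = N4453 := rfl
theorem L35242 : sm ga N4453 = N3269 := ded_11_1 (flp_d L25936) (flp_a L25840) L35240
theorem L35244 : sm gf N4453 = N3259 := ded_31_2 (flp_d L25846) (flp_f L25844) L35240
theorem L35246 : sm gc N4453 = N4453 := ded_24_1 (flp_d L35240) L25842 L19034 (flp_c L25842) L35240
theorem L35247 : sm gh N4453 = N4453 := ded_33_2 (flp_d L35240) (flp_h L25838) L18997 L25838 L35240
theorem L35248 : sm gi N3258 = N4454 := rfl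
theorem L35250 : sm ga N4454 = N3270 := ded_16_1 (flp_i L25943) (flp_a L25840) L35248
theorem L35252 : sm gc N4454 = N3264 := ded_29_1 (flp_i L25892) (flp_c L25842) L35248
theorem L35254 : sm gf N4454 = N3260 := ded_41_1 (flp_i L25855) (flp_f L25844) L35248
theorem L35258 : sm gi N3259 = N4455 := rfl
theorem L35260 : sm ga N4455 = N3271 := ded_16_1 (flp_i L25952) (flp_a L25848) L35258
theorem L35262 : sm gc N4455 = N4455 := ded_29_1 (flp_i L35258) L25852 L35258
theorem L35263 : sm gd N4455 = N3260 := ded_34_1 (flp_i L25855) L25846 L35258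
theorem L35265 : sm ge N4455 = N4455 := ded_38_1 (flp_i L35258) L25853 L35258
theorem L35266 : sm gg N4455 = N3866 := ded_43_1 (flp_i L30606) (flp_g L25850) L35258
theorem L35268 : sm gf N3261 = N4456 := rfl
theorem L35270 : sm ga N4456 = N3272 := ded_13_1 (flp_f L25961) (flp_a L25869) L35268
theorem L35272 : sm gi N4456 = N4208 := ded_41_2 (flp_f L33277) (flp_i L25873) L35268
theorem L35278 : sm gh N3261 = N4457 := rfl
theorem L35280 : sm ga N4457 = N3273 := ded_15_1 (flp_h L25971) (flp_a L25869) L35278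
theorem L35282 : sm ge N4457 = N3263 := ded_37_1 (flp_h L25883) (flp_e L25871) L35278
theorem L35284 : sm gg N4457 = N3262 := ded_42_1 (flp_h L25875) L25867 L35278
theorem L35286 : sm gd N3262 = N4458 := rfl
theorem L35288 : sm ga N4458 = N3274 := ded_11_1 (flp_d L25979) (flp_a L25877) L35286
theorem L35290 : sm gf N4458 = N3417 := ded_31_2 (flp_d L27176) (flp_f L25881) L35286
theorem L35292 : sm ge N4458 = N4458 := ded_30_2 (flp_d L35286) L25879 L19034 (flp_e L25879) L35286
theorem L35293 : sm gi N3262 = N4459 := rfl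
theorem L35297 : sm ge N4459 = N3264 := ded_38_1 (flp_i L25892) (flp_e L25879) L35293
theorem L35299 : sm gf N4459 = N3418 := ded_41_1 (flp_i L27182) (flp_f L25881) L35293
theorem L35314 : sm gg N3265 = N4461 := rfl
theorem L35316 : sm gb N4461 = N4461 := ded_21_1 (flp_g L35314) L25903 L35314
theorem L35317 : sm gd N4461 = N3266 := ded_32_1 (flp_g L25909) L25901 L35314
theorem L35319 : sm ge N4461 = N4461 := ded_36_1 (flp_g L35314) L25908 L35314
theorem L35320 : sm gi N4461 = N4213 := ded_43_2 (flp_g L33323) (flp_i L25906) L35314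
theorem L35322 : sm gh N3265 = N4462 := rfl
theorem L35324 : sm gb N4462 = N4462 := ded_22_1 (flp_h L35322) L25903 L35322
theorem L35325 : sm ge N4462 = N4462 := ded_37_1 (flp_h L35322) L25908 L35322
theorem L35326 : sm gf N4462 = N3421 := ded_40_1 (flp_h L27205) (flp_f L25904) L35322
theorem L35328 : sm gf N3266 = N4463 := rfl
theorem L35330 : sm gb N4463 = N4463 := ded_20_1 (flp_f L35328) L25911 L35328
theorem L35331 : sm gc N4463 = N3272 := ded_26_1 (flp_f L25961) (flp_c L25912) L35328
theorem L35333 : sm gi N4463 = N4215 := ded_41_2 (flp_f L33333) (flp_i L25916) L35328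
theorem L35335 : sm ge N4463 = N3874 := ded_35_1 (flp_f L30674) L22551 (flp_f L19063) (flp_e L25914) L35328
theorem L35337 : sm gg N4463 = N3422 := ded_39_2 (flp_f L27210) (flp_g L19975) (flp_f L19053) L25909 L35328
theorem L35339 : sm gh N3266 = N4464 := rfl
theorem L35341 : sm gb N4464 = N4464 := ded_22_1 (flp_h L35339) L25911 L35339
theorem L35342 : sm gc N4464 = N3273 := ded_28_1 (flp_h L25971) (flp_c L25912) L35339
theorem L35344 : sm ge N4464 = N3268 := ded_37_1 (flp_h L25927) (flp_e L25914) L35339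
theorem L35346 : sm gg N4464 = N3267 := ded_42_1 (flp_h L25918) L25909 L35339
theorem L35348 : sm gd N3267 = N4465 := rfl
theorem L35350 : sm gb N4465 = N4465 := ded_18_1 (flp_d L35348) L25920 L35348
theorem L35351 : sm gf N4465 = N3424 := ded_31_2 (flp_d L27226) (flp_f L25925) L35348
theorem L35353 : sm gi N3267 = N4466 := rfl
theorem L35358 : sm ge N4466 = N3270 := ded_38_1 (flp_i L25943) (flp_e L25923) L35353
theorem L35362 : sm gh N4466 = N4218 := ded_44_1 (flp_i L33352) (flp_h L24494) (flp_i L19051) L25918 L35353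
theorem L35364 : sm gd N3268 = N4467 := rfl
theorem L35366 : sm gb N4467 = N4467 := ded_18_1 (flp_d L35364) L25929 L35364
theorem L35367 : sm gf N4467 = N3878 := ded_31_2 (flp_d L30708) (flp_f L25932) L35364
theorem L35369 : sm gg N4467 = N3269 := ded_32_2 (flp_d L25936) (flp_g L25934) L35364
theorem L35371 : sm gc N4467 = N4467 := ded_24_1 (flp_d L35364) L25930 L19115 (flp_c L25930) L35364
theorem L35372 : sm gh N4467 = N4467 := ded_33_2 (flp_d L35364) (flp_h L25927) L19060 L25927 L35364
theorem L35373 : sm gi N3268 = N4468 := rfl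
theorem L35380 : sm gg N4468 = N3270 := ded_43_1 (flp_i L25943) (flp_g L25934) L35373
theorem L35384 : sm ge N3269 = N4469 := rfl
theorem L35386 : sm gb N4469 = N4469 := ded_19_1 (flp_e L35384) L25938 L35384
theorem L35387 : sm gc N4469 = N4469 := ded_25_1 (flp_e L35384) L25941 L35384
theorem L35388 : sm gh N4469 = N4469 := ded_37_2 (flp_e L35384) L25942 L35384
theorem L35389 : sm gf N4469 = N4469 := ded_35_2 (flp_e L35384) L25939 L19078 (flp_f L25939) L35384
theorem L35390 : sm gi N3269 = N4470 := rfl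
theorem L35392 : sm gb N4470 = N4470 := ded_23_1 (flp_i L35390) L25938 L35390
theorem L35393 : sm gc N4470 = N4470 := ded_29_1 (flp_i L35390) L25941 L35390
theorem L35394 : sm gd N4470 = N3270 := ded_34_1 (flp_i L25943) L25936 L35390
theorem L35396 : sm gf N4470 = N3271 := ded_41_1 (flp_i L25952) (flp_f L25939) L35390
theorem L35398 : sm gh N3271 = N4471 := rfl
theorem L35408 : sm gh N3272 = N4472 := rfl
theorem L35414 : sm gf N4472 = N3273 := ded_40_1 (flp_h L25971) L25961 L35408
theorem L35416 : sm gg N4472 = N3427 := ded_42_1 (flp_h L27247) (flp_g L25969) L35408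
theorem L35418 : sm gd N3273 = N4473 := rfl
theorem L35420 : sm gb N4473 = N3278 := ded_18_1 (flp_d L26016) (flp_b L25973) L35418
theorem L35422 : sm gg N4473 = N3274 := ded_32_2 (flp_d L25979) (flp_g L25977) L35418
theorem L35424 : sm ge N4473 = N4473 := ded_30_2 (flp_d L35418) L25975 L19115 (flp_e L25975) L35418
theorem L35435 : sm gc N3274 = N4475 := rfl
theorem L35437 : sm ge N4475 = N4475 := ded_25_2 (flp_c L35435) L25985 L35435
theorem L35438 : sm gf N4475 = N3430 := ded_26_2 (flp_c L27271) (flp_f L25983) L35435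
theorem L35440 : sm gi N3274 = N4476 := rfl
theorem L35449 : sm gd N3277 = N4477 := rfl
theorem L35451 : sm gf N4477 = N3278 := ded_31_2 (flp_d L26016) (flp_f L26012) L35449
theorem L35453 : sm gg N4477 = N3432 := ded_32_2 (flp_d L27283) (flp_g L26014) L35449
theorem L35466 : sm gc N3278 = N4479 := rfl
theorem L35468 : sm ge N4479 = N4479 := ded_25_2 (flp_c L35466) L26020 L35466
theorem L35469 : sm gg N4479 = N3280 := ded_27_2 (flp_c L26030) (flp_g L26018) L35466
theorem L35471 : sm gd N4479 = N4479 := ded_24_2 (flp_c L35466) (flp_d L26016) L19136 L26016 L35466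
theorem L35472 : sm gi N3278 = N4480 := rfl
theorem L35474 : sm gd N4480 = N3279 := ded_34_1 (flp_i L26021) L26016 L35472
theorem L35479 : sm gb N3280 = N4481 := rfl
theorem L35481 : sm gd N4481 = N4481 := ded_18_2 (flp_b L35479) L26035 L35479
theorem L35482 : sm ge N4481 = N4481 := ded_19_2 (flp_b L35479) L26032 L35479
theorem L35483 : sm gf N4481 = N3436 := ded_20_2 (flp_b L27309) (flp_f L26033) L35479
theorem L35485 : sm gi N3280 = N4482 := rfl
theorem L35500 : sm gc N3282 = N4484 := rfl
theorem L35502 : sm ga N4484 = N3284 := ded_10_1 (flp_c L26064) (flp_a L26045) L35500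
theorem L35504 : sm ge N4484 = N4484 := ded_25_2 (flp_c L35500) L26051 L35500
theorem L35505 : sm gg N4484 = N4484 := ded_27_2 (flp_c L35500) L26049 L35500
theorem L35506 : sm gi N4484 = N4484 := ded_29_2 (flp_c L35500) L26050 L35500
theorem L35507 : sm gd N4484 = N3521 := ded_24_2 (flp_c L27935) (flp_d L20522) (flp_c L19171) L26043 L35500
theorem L35509 : sm gf N3282 = N4485 := rfl
theorem L35511 : sm ga N4485 = N3285 := ded_13_1 (flp_f L26072) (flp_a L26045) L35509
theorem L35513 : sm gb N4485 = N4381 := ded_20_1 (flp_f L34637) (flp_b L26047) L35509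
theorem L35515 : sm gd N4485 = N3283 := ded_31_1 (flp_f L26052) L26043 L35509
theorem L35517 : sm gi N4485 = N4485 := ded_41_2 (flp_f L35509) L26050 L35509
theorem L35518 : sm gh N3282 = N4486 := rfl
theorem L35520 : sm ga N4486 = N3286 := ded_15_1 (flp_h L26079) (flp_a L26045) L35518
theorem L35522 : sm gb N4486 = N4382 := ded_22_1 (flp_h L34644) (flp_b L26047) L35518
theorem L35524 : sm ge N4486 = N4486 := ded_37_1 (flp_h L35518) L26051 L35518
theorem L35525 : sm gg N4486 = N4486 := ded_42_1 (flp_h L35518) L26049 L35518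
theorem L35526 : sm gd N4486 = N3294 := ded_33_1 (flp_h L26155) (flp_d L19222) (flp_h L19174) L26043 L35518
theorem L35528 : sm gg N3283 = N4487 := rfl
theorem L35530 : sm ga N4487 = N3287 := ded_14_1 (flp_g L26087) (flp_a L26054) L35528
theorem L35532 : sm gb N4487 = N4383 := ded_21_1 (flp_g L34652) (flp_b L26056) L35528
theorem L35534 : sm gc N4487 = N3524 := ded_27_1 (flp_g L27957) (flp_c L26058) L35528
theorem L35536 : sm ge N4487 = N4487 := ded_36_1 (flp_g L35528) L26063 L35528
theorem L35537 : sm gh N4487 = N3295 := ded_42_2 (flp_g L26164) (flp_h L26060) L35528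
theorem L35539 : sm gi N4487 = N4487 := ded_43_2 (flp_g L35528) L26062 L35528
theorem L35540 : sm gf N4487 = N4487 := ded_39_1 (flp_g L35528) (flp_f L26052) L19173 L26052 L35528
theorem L35541 : sm gf N3284 = N4488 := rfl
theorem L35543 : sm gb N4488 = N4488 := ded_20_1 (flp_f L35541) L26069 L35541
theorem L35544 : sm gc N4488 = N3285 := ded_26_1 (flp_f L26072) L26064 L35541
theorem L35546 : sm gd N4488 = N3525 := ded_31_1 (flp_f L27967) (flp_d L26070) L35541
theorem L35548 : sm gi N4488 = N4488 := ded_41_2 (flp_f L35541) L26068 L35541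
theorem L35549 : sm gh N3284 = N4489 := rfl
theorem L35551 : sm gb N4489 = N4489 := ded_22_1 (flp_h L35549) L26069 L35549
theorem L35552 : sm gc N4489 = N3286 := ded_28_1 (flp_h L26079) L26064 L35549
theorem L35554 : sm ge N4489 = N4489 := ded_37_1 (flp_h L35549) L26066 L35549
theorem L35555 : sm gg N4489 = N4489 := ded_42_1 (flp_h L35549) L26067 L35549
theorem L35556 : sm ge N3285 = N4490 := rfl
theorem L35558 : sm gb N4490 = N3288 := ded_19_1 (flp_e L26098) (flp_b L26074) L35556
theorem L35560 : sm gi N4490 = N4490 := ded_38_2 (flp_e L35556) L26078 L35556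
theorem L35561 : sm gd N4490 = N4490 := ded_30_1 (flp_e L35556) L26076 L19193 (flp_d L26076) L35556
theorem L35562 : sm gf N4490 = N4490 := ded_35_2 (flp_e L35556) (flp_f L26072) L19183 L26072 L35556
theorem L35563 : sm gg N3285 = N4491 := rfl
theorem L35565 : sm gb N4491 = N3289 := ded_21_1 (flp_g L26106) (flp_b L26074) L35563
theorem L35567 : sm gd N4491 = N3287 := ded_32_1 (flp_g L26087) (flp_d L26076) L35563
theorem L35569 : sm gi N4491 = N4491 := ded_43_2 (flp_g L35563) L26078 L35563
theorem L35570 : sm gf N4491 = N4491 := ded_39_1 (flp_g L35563) (flp_f L26072) L19181 L26072 L35563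
theorem L35571 : sm gh N3285 = N4492 := rfl
theorem L35573 : sm gb N4492 = N3290 := ded_22_1 (flp_h L26115) (flp_b L26074) L35571
theorem L35575 : sm gf N4492 = N3286 := ded_40_1 (flp_h L26079) L26072 L35571
theorem L35577 : sm gd N4492 = N3300 := ded_33_1 (flp_h L26213) L19259 (flp_h L19190) (flp_d L26076) L35571
theorem L35579 : sm gi N3286 = N4493 := rfl
theorem L35581 : sm gb N4493 = N3291 := ded_23_1 (flp_i L26124) (flp_b L26081) L35579
theorem L35583 : sm gd N4493 = N3301 := ded_34_1 (flp_i L26219) (flp_d L26085) L35579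
theorem L35585 : sm ge N4493 = N4493 := ded_38_1 (flp_i L35579) L26083 L35579
theorem L35586 : sm gg N4493 = N4493 := ded_43_1 (flp_i L35579) L26084 L35579
theorem L35587 : sm gh N4493 = N4493 := ded_44_1 (flp_i L35579) (flp_h L26079) L19182 L26079 L35579
theorem L35588 : sm gg N3288 = N4494 := rfl
theorem L35590 : sm ga N4494 = N4390 := ded_14_1 (flp_g L34708) (flp_a L26100) L35588
theorem L35592 : sm gc N4494 = N4494 := ded_27_1 (flp_g L35588) L26102 L35588
theorem L35593 : sm gd N4494 = N4494 := ded_32_1 (flp_g L35588) L26104 L35588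
theorem L35594 : sm ge N4494 = N3289 := ded_36_1 (flp_g L26106) L26098 L35588
theorem L35596 : sm gi N4494 = N4494 := ded_43_2 (flp_g L35588) L26103 L35588
theorem L35597 : sm gh N3288 = N4495 := rfl
theorem L35599 : sm ga N4495 = N4391 := ded_15_1 (flp_h L34715) (flp_a L26100) L35597
theorem L35601 : sm gc N4495 = N4495 := ded_28_1 (flp_h L35597) L26102 L35597
theorem L35602 : sm ge N4495 = N3290 := ded_37_1 (flp_h L26115) L26098 L35597
theorem L35604 : sm gf N4495 = N4495 := ded_40_1 (flp_h L35597) L26105 L35597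
theorem L35605 : sm gh N3289 = N4496 := rfl
theorem L35607 : sm ga N4496 = N4392 := ded_15_1 (flp_h L34721) (flp_a L26108) L35605
theorem L35609 : sm gc N4496 = N4496 := ded_28_1 (flp_h L35605) L26110 L35605
theorem L35610 : sm gf N4496 = N4496 := ded_40_1 (flp_h L35605) L26114 L35605
theorem L35611 : sm gg N4496 = N3290 := ded_42_1 (flp_h L26115) L26106 L35605
theorem L35613 : sm gd N4496 = N3304 := ded_33_1 (flp_h L26249) L19297 (flp_h L19218) (flp_d L26111) L35605
theorem L35615 : sm gi N3290 = N4497 := rfl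
theorem L35617 : sm ga N4497 = N4393 := ded_16_1 (flp_i L34729) (flp_a L26117) L35615
theorem L35619 : sm gc N4497 = N4497 := ded_29_1 (flp_i L35615) L26119 L35615
theorem L35620 : sm gd N4497 = N3305 := ded_34_1 (flp_i L26258) (flp_d L26122) L35615
theorem L35622 : sm gf N4497 = N3291 := ded_41_1 (flp_i L26124) (flp_f L26120) L35615
theorem L35624 : sm gh N4497 = N4497 := ded_44_1 (flp_i L35615) (flp_h L26115) L19201 L26115 L35615
theorem L35625 : sm gb N3292 = N4498 := rfl
theorem L35627 : sm gd N4498 = N3535 := ded_18_2 (flp_b L28041) (flp_d L26143) L35625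
theorem L35629 : sm ge N4498 = N4145 := ded_19_2 (flp_b L32786) (flp_e L26138) L35625
theorem L35631 : sm gg N4498 = N4498 := ded_21_2 (flp_b L35625) L26140 L35625
theorem L35632 : sm gi N4498 = N3306 := ded_23_2 (flp_b L26268) (flp_i L26141) L35625
theorem L35634 : sm ga N4498 = N3327 := ded_9_1 (flp_b L26413) L19419 (flp_b L19251) (flp_a L26136) L35625
theorem L35636 : sm gc N4498 = N4394 := ded_17_2 (flp_b L34737) (flp_c L25512) (flp_b L19226) L26134 L35625
theorem L35638 : sm gf N3292 = N4499 := rfl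
theorem L35640 : sm ga N4499 = N3296 := ded_13_1 (flp_f L26176) (flp_a L26136) L35638
theorem L35642 : sm gc N4499 = N3293 := ded_26_1 (flp_f L26145) L26134 L35638
theorem L35644 : sm gd N4499 = N3536 := ded_31_1 (flp_f L28050) (flp_d L26143) L35638
theorem L35646 : sm gi N4499 = N3307 := ded_41_2 (flp_f L26275) (flp_i L26141) L35638
theorem L35648 : sm gh N3292 = N4500 := rfl
theorem L35650 : sm ga N4500 = N3297 := ded_15_1 (flp_h L26186) (flp_a L26136) L35648
theorem L35652 : sm gc N4500 = N3294 := ded_28_1 (flp_h L26155) L26134 L35648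
theorem L35654 : sm ge N4500 = N4147 := ded_37_1 (flp_h L32801) (flp_e L26138) L35648
theorem L35656 : sm gg N4500 = N4500 := ded_42_1 (flp_h L35648) L26140 L35648
theorem L35657 : sm ge N3293 = N4501 := rfl
theorem L35659 : sm ga N4501 = N3298 := ded_12_1 (flp_e L26195) (flp_a L26147) L35657
theorem L35661 : sm gb N4501 = N4397 := ded_19_1 (flp_e L34765) (flp_b L26149) L35657
theorem L35663 : sm gi N4501 = N3309 := ded_38_2 (flp_e L26290) (flp_i L26153) L35657
theorem L35665 : sm gd N4501 = N4501 := ded_30_1 (flp_e L35657) L26151 L19243 (flp_d L26151) L35657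
theorem L35666 : sm gf N4501 = N4148 := ded_35_2 (flp_e L32808) (flp_f L24135) (flp_e L19231) L26145 L35657
theorem L35668 : sm gg N3293 = N4502 := rfl
theorem L35670 : sm ga N4502 = N3299 := ded_14_1 (flp_g L26204) (flp_a L26147) L35668
theorem L35672 : sm gb N4502 = N4398 := ded_21_1 (flp_g L34774) (flp_b L26149) L35668
theorem L35674 : sm gd N4502 = N3295 := ded_32_1 (flp_g L26164) (flp_d L26151) L35668
theorem L35676 : sm gi N4502 = N3310 := ded_43_2 (flp_g L26295) (flp_i L26153) L35668
theorem L35678 : sm gf N4502 = N4502 := ded_39_1 (flp_g L35668) (flp_f L26145) L19228 L26145 L35668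
theorem L35679 : sm gh N3293 = N4503 := rfl
theorem L35681 : sm ga N4503 = N3300 := ded_15_1 (flp_h L26213) (flp_a L26147) L35679
theorem L35683 : sm gb N4503 = N4399 := ded_22_1 (flp_h L34783) (flp_b L26149) L35679
theorem L35685 : sm gf N4503 = N3294 := ded_40_1 (flp_h L26155) L26145 L35679
theorem L35687 : sm gi N3294 = N4504 := rfl
theorem L35689 : sm ga N4504 = N3301 := ded_16_1 (flp_i L26219) (flp_a L26157) L35687
theorem L35691 : sm gb N4504 = N4400 := ded_23_1 (flp_i L34789) (flp_b L26159) L35687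
theorem L35693 : sm ge N4504 = N4151 := ded_38_1 (flp_i L32833) (flp_e L26161) L35687
theorem L35695 : sm gg N4504 = N4504 := ded_43_1 (flp_i L35687) L26163 L35687
theorem L35696 : sm gh N4504 = N3312 := ded_44_1 (flp_i L26309) (flp_h L19334) (flp_i L19229) L26155 L35687
theorem L35698 : sm ge N3296 = N4505 := rfl
theorem L35700 : sm gb N4505 = N3334 := ded_19_1 (flp_e L26487) (flp_b L26178) L35698
theorem L35702 : sm gc N4505 = N3298 := ded_25_1 (flp_e L26195) (flp_c L26180) L35698
theorem L35704 : sm gi N4505 = N3313 := ded_38_2 (flp_e L26315) (flp_i L26184) L35698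
theorem L35706 : sm gf N4505 = N4152 := ded_35_2 (flp_e L32841) (flp_f L24161) (flp_e L19246) L26176 L35698
theorem L35708 : sm gg N3296 = N4506 := rfl
theorem L35710 : sm gb N4506 = N3335 := ded_21_1 (flp_g L26495) (flp_b L26178) L35708
theorem L35712 : sm gc N4506 = N3299 := ded_27_1 (flp_g L26204) (flp_c L26180) L35708
theorem L35714 : sm gd N4506 = N3543 := ded_32_1 (flp_g L28110) (flp_d L26182) L35708
theorem L35716 : sm gi N4506 = N3314 := ded_43_2 (flp_g L26321) (flp_i L26184) L35708
theorem L35718 : sm gf N4506 = N4506 := ded_39_1 (flp_g L35708) (flp_f L26176) L19248 L26176 L35708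
theorem L35719 : sm gh N3296 = N4507 := rfl
theorem L35721 : sm gb N4507 = N3336 := ded_22_1 (flp_h L26504) (flp_b L26178) L35719
theorem L35723 : sm gc N4507 = N3300 := ded_28_1 (flp_h L26213) (flp_c L26180) L35719
theorem L35725 : sm gf N4507 = N3297 := ded_40_1 (flp_h L26186) L26176 L35719
theorem L35727 : sm gd N3297 = N4508 := rfl
theorem L35729 : sm gb N4508 = N3337 := ded_18_1 (flp_d L26510) (flp_b L26188) L35727
theorem L35731 : sm gg N4508 = N4508 := ded_32_2 (flp_d L35727) L26194 L35727
theorem L35732 : sm gh N4508 = N3545 := ded_33_2 (flp_d L28127) (flp_h L20637) (flp_d L19253) L26186 L35727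
theorem L35734 : sm gi N3297 = N4509 := rfl
theorem L35736 : sm gb N4509 = N3338 := ded_23_1 (flp_i L26516) (flp_b L26188) L35734
theorem L35738 : sm gc N4509 = N3301 := ded_29_1 (flp_i L26219) (flp_c L26190) L35734
theorem L35740 : sm ge N4509 = N4156 := ded_38_1 (flp_i L32870) (flp_e L26192) L35734
theorem L35742 : sm gg N4509 = N4509 := ded_43_1 (flp_i L35734) L26194 L35734
theorem L35743 : sm gh N4509 = N3317 := ded_44_1 (flp_i L26346) (flp_h L19357) (flp_i L19249) L26186 L35734
theorem L35745 : sm gg N3298 = N4510 := rfl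
theorem L35747 : sm gb N4510 = N3302 := ded_21_1 (flp_g L26228) (flp_b L26197) L35745
theorem L35749 : sm gd N4510 = N4510 := ded_32_1 (flp_g L35745) L26201 L35745
theorem L35750 : sm ge N4510 = N3299 := ded_36_1 (flp_g L26204) L26195 L35745
theorem L35752 : sm gi N4510 = N3318 := ded_43_2 (flp_g L26353) (flp_i L26199) L35745
theorem L35754 : sm gh N3298 = N4511 := rfl
theorem L35756 : sm gb N4511 = N3303 := ded_22_1 (flp_h L26239) (flp_b L26197) L35754
theorem L35758 : sm ge N4511 = N3300 := ded_37_1 (flp_h L26213) L26195 L35754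
theorem L35760 : sm gf N4511 = N4158 := ded_40_1 (flp_h L32884) (flp_f L26202) L35754
theorem L35762 : sm gh N3299 = N4512 := rfl
theorem L35764 : sm gb N4512 = N3304 := ded_22_1 (flp_h L26249) (flp_b L26206) L35762
theorem L35766 : sm gf N4512 = N4512 := ded_40_1 (flp_h L35762) L26212 L35762
theorem L35767 : sm gg N4512 = N3300 := ded_42_1 (flp_h L26213) L26204 L35762
theorem L35769 : sm gi N3300 = N4513 := rfl
theorem L35771 : sm gb N4513 = N3305 := ded_23_1 (flp_i L26258) (flp_b L26215) L35769
theorem L35773 : sm gf N4513 = N3301 := ded_41_1 (flp_i L26219) (flp_f L26217) L35769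
theorem L35775 : sm gh N4513 = N3321 := ded_44_1 (flp_i L26374) (flp_h L19376) (flp_i L19261) L26213 L35769
theorem L35777 : sm gf N3302 = N4514 := rfl
theorem L35779 : sm ga N4514 = N4410 := ded_13_1 (flp_f L34875) (flp_a L26230) L35777
theorem L35781 : sm gc N4514 = N3343 := ded_26_1 (flp_f L26560) (flp_c L26232) L35777
theorem L35784 : sm gi N4514 = N3322 := ded_41_2 (flp_f L26381) (flp_i L26237) L35777
theorem L35787 : sm gg N4514 = N4161 := ded_39_2 (flp_f L32905) (flp_g L24200) (flp_f L19289) L26228 L35777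
theorem L35789 : sm gh N3302 = N4515 := rfl
theorem L35791 : sm ga N4515 = N4411 := ded_15_1 (flp_h L34885) (flp_a L26230) L35789
theorem L35793 : sm gc N4515 = N3344 := ded_28_1 (flp_h L26571) (flp_c L26232) L35789
theorem L35795 : sm ge N4515 = N3304 := ded_37_1 (flp_h L26249) (flp_e L26235) L35789
theorem L35797 : sm gg N4515 = N3303 := ded_42_1 (flp_h L26239) L26228 L35789
theorem L35799 : sm gd N3303 = N4516 := rfl
theorem L35801 : sm ga N4516 = N4412 := ded_11_1 (flp_d L34893) (flp_a L26241) L35799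
theorem L35803 : sm gf N4516 = N4163 := ded_31_2 (flp_d L32923) (flp_f L26247) L35799
theorem L35805 : sm gh N4516 = N4516 := ded_33_2 (flp_d L35799) (flp_h L26239) L19288 L26239 L35799
theorem L35806 : sm gi N3303 = N4517 := rfl
theorem L35808 : sm ga N4517 = N4413 := ded_16_1 (flp_i L34898) (flp_a L26241) L35806
theorem L35810 : sm gc N4517 = N3346 := ded_29_1 (flp_i L26588) (flp_c L26243) L35806
theorem L35812 : sm ge N4517 = N3305 := ded_38_1 (flp_i L26258) (flp_e L26245) L35806
theorem L35814 : sm gf N4517 = N4164 := ded_41_1 (flp_i L32929) (flp_f L26247) L35806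
theorem L35816 : sm gh N4517 = N3325 := ded_44_1 (flp_i L26399) (flp_h L19396) (flp_i L19286) L26239 L35806
theorem L35818 : sm gi N3304 = N4518 := rfl
theorem L35820 : sm ga N4518 = N4414 := ded_16_1 (flp_i L34908) (flp_a L26251) L35818
theorem L35822 : sm gc N4518 = N3347 := ded_29_1 (flp_i L26598) (flp_c L26253) L35818
theorem L35824 : sm gf N4518 = N4518 := ded_41_1 (flp_i L35818) L26255 L35818
theorem L35825 : sm gg N4518 = N3305 := ded_43_1 (flp_i L26258) (flp_g L26256) L35818
theorem L35827 : sm gh N4518 = N3326 := ded_44_1 (flp_i L26405) (flp_h L19402) (flp_i L19299) L26249 L35818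
theorem L35829 : sm gf N3306 = N4519 := rfl
theorem L35831 : sm ga N4519 = N3348 := ded_13_1 (flp_f L26608) (flp_a L26273) L35829
theorem L35833 : sm gb N4519 = N3307 := ded_20_1 (flp_f L26275) L26268 L35829
theorem L35835 : sm gd N4519 = N3556 := ded_31_1 (flp_f L28217) (flp_d L26270) L35829
theorem L35837 : sm gh N3306 = N4520 := rfl
theorem L35839 : sm ga N4520 = N3349 := ded_15_1 (flp_h L26614) (flp_a L26273) L35837
theorem L35841 : sm gb N4520 = N3308 := ded_22_1 (flp_h L26283) L26268 L35837
theorem L35843 : sm gg N4520 = N4520 := ded_42_1 (flp_h L35837) L26272 L35837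
theorem L35844 : sm ge N3307 = N4521 := rfl
theorem L35846 : sm ga N4521 = N3313 := ded_12_1 (flp_e L26315) (flp_a L26277) L35844
theorem L35848 : sm gc N4521 = N3309 := ded_25_1 (flp_e L26290) (flp_c L26279) L35844
theorem L35850 : sm gg N3307 = N4522 := rfl
theorem L35852 : sm ga N4522 = N3314 := ded_14_1 (flp_g L26321) (flp_a L26277) L35850
theorem L35854 : sm gc N4522 = N3310 := ded_27_1 (flp_g L26295) (flp_c L26279) L35850
theorem L35856 : sm gd N4522 = N3559 := ded_32_1 (flp_g L28240) (flp_d L26281) L35850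
theorem L35858 : sm gf N4522 = N4522 := ded_39_1 (flp_g L35850) (flp_f L26275) L19325 L26275 L35850
theorem L35859 : sm gh N3307 = N4523 := rfl
theorem L35861 : sm ga N4523 = N3315 := ded_15_1 (flp_h L26330) (flp_a L26277) L35859
theorem L35863 : sm gc N4523 = N3311 := ded_28_1 (flp_h L26302) (flp_c L26279) L35859
theorem L35865 : sm gf N4523 = N3308 := ded_40_1 (flp_h L26283) L26275 L35859
theorem L35867 : sm gd N3308 = N4524 := rfl
theorem L35869 : sm ga N4524 = N3316 := ded_11_1 (flp_d L26338) (flp_a L26285) L35867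
theorem L35871 : sm gg N4524 = N4524 := ded_32_2 (flp_d L35867) L26289 L35867
theorem L35872 : sm gc N4524 = N4524 := ded_24_1 (flp_d L35867) L26287 L19339 (flp_c L26287) L35867
theorem L35873 : sm gh N4524 = N3561 := ded_33_2 (flp_d L28255) (flp_h L20724) (flp_d L19326) L26283 L35867
theorem L35875 : sm gi N3308 = N4525 := rfl
theorem L35877 : sm ga N4525 = N3317 := ded_16_1 (flp_i L26346) (flp_a L26285) L35875
theorem L35879 : sm gc N4525 = N3312 := ded_29_1 (flp_i L26309) (flp_c L26287) L35875
theorem L35881 : sm gg N4525 = N4525 := ded_43_1 (flp_i L35875) L26289 L35875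
theorem L35882 : sm gg N3309 = N4526 := rfl
theorem L35884 : sm ga N4526 = N3318 := ded_14_1 (flp_g L26353) (flp_a L26292) L35882
theorem L35886 : sm gd N4526 = N4526 := ded_32_1 (flp_g L35882) L26294 L35882
theorem L35887 : sm ge N4526 = N3310 := ded_36_1 (flp_g L26295) L26290 L35882
theorem L35889 : sm gh N3309 = N4527 := rfl
theorem L35891 : sm ga N4527 = N3319 := ded_15_1 (flp_h L26360) (flp_a L26292) L35889
theorem L35893 : sm ge N4527 = N3311 := ded_37_1 (flp_h L26302) L26290 L35889
theorem L35895 : sm gh N3310 = N4528 := rfl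
theorem L35897 : sm ga N4528 = N3320 := ded_15_1 (flp_h L26366) (flp_a L26297) L35895
theorem L35899 : sm gf N4528 = N4528 := ded_40_1 (flp_h L35895) L26301 L35895
theorem L35900 : sm gg N4528 = N3311 := ded_42_1 (flp_h L26302) L26295 L35895
theorem L35902 : sm gd N4528 = N4528 := ded_33_1 (flp_h L35895) L26299 L19347 (flp_d L26299) L35895
theorem L35903 : sm gi N3311 = N4529 := rfl
theorem L35905 : sm ga N4529 = N3321 := ded_16_1 (flp_i L26374) (flp_a L26304) L35903
theorem L35907 : sm gd N4529 = N4529 := ded_34_1 (flp_i L35903) L26308 L35903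
theorem L35908 : sm gf N4529 = N3312 := ded_41_1 (flp_i L26309) (flp_f L26306) L35903
theorem L35910 : sm gd N3313 = N4530 := rfl
theorem L35912 : sm gb N4530 = N3359 := ded_18_1 (flp_d L26689) (flp_b L26317) L35910
theorem L35914 : sm gc N4530 = N4530 := ded_24_1 (flp_d L35910) L26319 L19368 (flp_c L26319) L35910
theorem L35915 : sm ge N4530 = N3567 := ded_30_2 (flp_d L28302) (flp_e L20763) (flp_d L19355) L26315 L35910
theorem L35917 : sm gg N3313 = N4531 := rfl
theorem L35919 : sm gb N4531 = N3360 := ded_21_1 (flp_g L26695) (flp_b L26317) L35917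
theorem L35921 : sm gc N4531 = N3318 := ded_27_1 (flp_g L26353) (flp_c L26319) L35917
theorem L35923 : sm ge N4531 = N3314 := ded_36_1 (flp_g L26321) L26315 L35917
theorem L35925 : sm gh N3313 = N4532 := rfl
theorem L35927 : sm gb N4532 = N3361 := ded_22_1 (flp_h L26701) (flp_b L26317) L35925
theorem L35929 : sm gc N4532 = N3319 := ded_28_1 (flp_h L26360) (flp_c L26319) L35925
theorem L35931 : sm ge N4532 = N3315 := ded_37_1 (flp_h L26330) L26315 L35925
theorem L35933 : sm gh N3314 = N4533 := rfl
theorem L35935 : sm gb N4533 = N3362 := ded_22_1 (flp_h L26707) (flp_b L26323) L35933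
theorem L35937 : sm gc N4533 = N3320 := ded_28_1 (flp_h L26366) (flp_c L26325) L35933
theorem L35939 : sm gf N4533 = N4533 := ded_40_1 (flp_h L35933) L26329 L35933
theorem L35940 : sm gg N4533 = N3315 := ded_42_1 (flp_h L26330) L26321 L35933
theorem L35942 : sm gd N3315 = N4534 := rfl
theorem L35944 : sm gb N4534 = N3363 := ded_18_1 (flp_d L26714) (flp_b L26332) L35942
theorem L35946 : sm gf N4534 = N3316 := ded_31_2 (flp_d L26338) (flp_f L26336) L35942
theorem L35948 : sm gc N4534 = N4534 := ded_24_1 (flp_d L35942) L26334 L19382 (flp_c L26334) L35942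
theorem L35949 : sm gh N4534 = N3571 := ded_33_2 (flp_d L28334) (flp_h L20777) (flp_d L19355) L26330 L35942
theorem L35951 : sm gi N3315 = N4535 := rfl
theorem L35953 : sm gb N4535 = N3364 := ded_23_1 (flp_i L26722) (flp_b L26332) L35951
theorem L35955 : sm gc N4535 = N3321 := ded_29_1 (flp_i L26374) (flp_c L26334) L35951
theorem L35957 : sm gf N4535 = N3317 := ded_41_1 (flp_i L26346) (flp_f L26336) L35951
theorem L35959 : sm ge N3316 = N4536 := rfl
theorem L35961 : sm gb N4536 = N3365 := ded_19_1 (flp_e L26728) (flp_b L26340) L35959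
theorem L35963 : sm gc N4536 = N4536 := ded_25_1 (flp_e L35959) L26343 L35959
theorem L35964 : sm gg N4536 = N4536 := ded_36_2 (flp_e L35959) L26342 L35959
theorem L35965 : sm gh N4536 = N3573 := ded_37_2 (flp_e L28349) (flp_h L26344) L35959
theorem L35967 : sm gi N3316 = N4537 := rfl
theorem L35969 : sm gb N4537 = N3366 := ded_23_1 (flp_i L26735) (flp_b L26340) L35967
theorem L35971 : sm gc N4537 = N4537 := ded_29_1 (flp_i L35967) L26343 L35967
theorem L35972 : sm gd N4537 = N3317 := ded_34_1 (flp_i L26346) L26338 L35967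
theorem L35974 : sm gg N4537 = N4537 := ded_43_1 (flp_i L35967) L26342 L35967
theorem L35975 : sm gf N3318 = N4538 := rfl
theorem L35977 : sm gb N4538 = N3322 := ded_20_1 (flp_f L26381) (flp_b L26355) L35975
theorem L35979 : sm gd N4538 = N4538 := ded_31_1 (flp_f L35975) L26357 L35975
theorem L35980 : sm ge N4538 = N4538 := ded_35_1 (flp_f L35975) L26358 L19375 (flp_e L26358) L35975
theorem L35981 : sm gh N3318 = N4539 := rfl
theorem L35983 : sm gb N4539 = N3323 := ded_22_1 (flp_h L26387) (flp_b L26355) L35981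
theorem L35985 : sm ge N4539 = N3320 := ded_37_1 (flp_h L26366) (flp_e L26358) L35981
theorem L35987 : sm gg N4539 = N3319 := ded_42_1 (flp_h L26360) L26353 L35981
theorem L35989 : sm gd N3319 = N4540 := rfl
theorem L35991 : sm gb N4540 = N3324 := ded_18_1 (flp_d L26395) (flp_b L26362) L35989
theorem L35993 : sm ge N4540 = N4540 := ded_30_2 (flp_d L35989) L26364 L19382 (flp_e L26364) L35989
theorem L35994 : sm gh N4540 = N4540 := ded_33_2 (flp_d L35989) (flp_h L26360) L19368 L26360 L35989
theorem L35995 : sm gi N3319 = N4541 := rfl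
theorem L35997 : sm gb N4541 = N3325 := ded_23_1 (flp_i L26399) (flp_b L26362) L35995
theorem L35999 : sm ge N4541 = N3321 := ded_38_1 (flp_i L26374) (flp_e L26364) L35995
theorem L36001 : sm gi N3320 = N4542 := rfl
theorem L36003 : sm gb N4542 = N3326 := ded_23_1 (flp_i L26405) (flp_b L26368) L36001
theorem L36005 : sm gd N4542 = N4542 := ded_34_1 (flp_i L36001) L26373 L36001
theorem L36006 : sm gf N4542 = N4542 := ded_41_1 (flp_i L36001) L26370 L36001
theorem L36007 : sm gg N4542 = N3321 := ded_43_1 (flp_i L26374) (flp_g L26371) L36001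
theorem L36009 : sm gh N3322 = N4543 := rfl
theorem L36011 : sm gc N4543 = N3372 := ded_28_1 (flp_h L26780) (flp_c L26383) L36009
theorem L36013 : sm ge N4543 = N4543 := ded_37_1 (flp_h L36009) L26386 L36009
theorem L36014 : sm gf N4543 = N3323 := ded_40_1 (flp_h L26387) L26381 L36009
theorem L36016 : sm gd N3323 = N4544 := rfl
theorem L36018 : sm gg N4544 = N3324 := ded_32_2 (flp_d L26395) (flp_g L26393) L36016
theorem L36020 : sm ge N4544 = N4544 := ded_30_2 (flp_d L36016) L26391 L19409 (flp_e L26391) L36016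
theorem L36021 : sm gh N4544 = N4544 := ded_33_2 (flp_d L36016) (flp_h L26387) L19393 L26387 L36016
theorem L36022 : sm gi N3323 = N4545 := rfl
theorem L36024 : sm gc N4545 = N3374 := ded_29_1 (flp_i L26793) (flp_c L26389) L36022
theorem L36026 : sm ge N4545 = N3326 := ded_38_1 (flp_i L26405) (flp_e L26391) L36022
theorem L36028 : sm gg N4545 = N3325 := ded_43_1 (flp_i L26399) (flp_g L26393) L36022
theorem L36030 : sm gc N3324 = N4546 := rfl
theorem L36032 : sm ge N4546 = N4546 := ded_25_2 (flp_c L36030) L26397 L36030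
theorem L36033 : sm gh N4546 = N4546 := ded_28_2 (flp_c L36030) L26398 L36030
theorem L36034 : sm gd N4546 = N3375 := ded_24_2 (flp_c L26799) (flp_d L19667) (flp_c L19398) L26395 L36030
theorem L36036 : sm gi N3324 = N4547 := rfl
theorem L36038 : sm gd N4547 = N3325 := ded_34_1 (flp_i L26399) L26395 L36036
theorem L36040 : sm ge N4547 = N4547 := ded_38_1 (flp_i L36036) L26397 L36036
theorem L36041 : sm gf N3327 = N4548 := rfl
theorem L36043 : sm gb N4548 = N3328 := ded_20_1 (flp_f L26424) L26413 L36041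
theorem L36045 : sm gc N4548 = N4415 := ded_26_1 (flp_f L34917) (flp_c L26422) L36041
theorem L36047 : sm gd N4548 = N3584 := ded_31_1 (flp_f L28435) (flp_d L26415) L36041
theorem L36049 : sm gi N4548 = N3348 := ded_41_2 (flp_f L26608) (flp_i L26420) L36041
theorem L36051 : sm gh N3327 = N4549 := rfl
theorem L36053 : sm gb N4549 = N3329 := ded_22_1 (flp_h L26434) L26413 L36051
theorem L36055 : sm gc N4549 = N4416 := ded_28_1 (flp_h L34924) (flp_c L26422) L36051
theorem L36057 : sm ge N4549 = N4167 := ded_37_1 (flp_h L32954) (flp_e L26417) L36051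
theorem L36059 : sm gg N4549 = N4549 := ded_42_1 (flp_h L36051) L26419 L36051
theorem L36060 : sm ge N3328 = N4550 := rfl
theorem L36062 : sm ga N4550 = N3334 := ded_12_1 (flp_e L26487) (flp_a L26426) L36060
theorem L36064 : sm gc N4550 = N3330 := ded_25_1 (flp_e L26443) (flp_c L26428) L36060
theorem L36066 : sm gi N4550 = N3350 := ded_38_2 (flp_e L26619) (flp_i L26432) L36060
theorem L36068 : sm gf N4550 = N4168 := ded_35_2 (flp_e L32961) (flp_f L24242) (flp_e L19421) L26424 L36060
theorem L36070 : sm gg N3328 = N4551 := rfl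
theorem L36072 : sm ga N4551 = N3335 := ded_14_1 (flp_g L26495) (flp_a L26426) L36070
theorem L36074 : sm gc N4551 = N3331 := ded_27_1 (flp_g L26455) (flp_c L26428) L36070
theorem L36076 : sm gd N4551 = N3587 := ded_32_1 (flp_g L28458) (flp_d L26430) L36070
theorem L36078 : sm gi N4551 = N3351 := ded_43_2 (flp_g L26625) (flp_i L26432) L36070
theorem L36080 : sm gf N4551 = N4551 := ded_39_1 (flp_g L36070) (flp_f L26424) L19423 L26424 L36070
theorem L36081 : sm gh N3328 = N4552 := rfl
theorem L36083 : sm ga N4552 = N3336 := ded_15_1 (flp_h L26504) (flp_a L26426) L36081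
theorem L36085 : sm gc N4552 = N3332 := ded_28_1 (flp_h L26466) (flp_c L26428) L36081
theorem L36087 : sm gf N4552 = N3329 := ded_40_1 (flp_h L26434) L26424 L36081
theorem L36089 : sm gd N3329 = N4553 := rfl
theorem L36091 : sm ga N4553 = N3337 := ded_11_1 (flp_d L26510) (flp_a L26436) L36089
theorem L36093 : sm gg N4553 = N4553 := ded_32_2 (flp_d L36089) L26442 L36089
theorem L36094 : sm gc N4553 = N4553 := ded_24_1 (flp_d L36089) L26438 L19447 (flp_c L26438) L36089
theorem L36095 : sm gh N4553 = N3589 := ded_33_2 (flp_d L28475) (flp_h L20884) (flp_d L19426) L26434 L36089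
theorem L36097 : sm gi N3329 = N4554 := rfl
theorem L36099 : sm ga N4554 = N3338 := ded_16_1 (flp_i L26516) (flp_a L26436) L36097
theorem L36101 : sm gc N4554 = N3333 := ded_29_1 (flp_i L26475) (flp_c L26438) L36097
theorem L36103 : sm ge N4554 = N4172 := ded_38_1 (flp_i L32991) (flp_e L26440) L36097
theorem L36105 : sm gg N4554 = N4554 := ded_43_1 (flp_i L36097) L26442 L36097
theorem L36106 : sm gh N4554 = N3354 := ded_44_1 (flp_i L26651) (flp_h L19561) (flp_i L19424) L26434 L36097
theorem L36108 : sm gg N3330 = N4555 := rfl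
theorem L36110 : sm ga N4555 = N3339 := ded_14_1 (flp_g L26525) (flp_a L26445) L36108
theorem L36112 : sm gb N4555 = N4422 := ded_21_1 (flp_g L34977) (flp_b L26447) L36108
theorem L36114 : sm gd N4555 = N3384 := ded_32_1 (flp_g L26884) (flp_d L26451) L36108
theorem L36116 : sm ge N4555 = N3331 := ded_36_1 (flp_g L26455) L26443 L36108
theorem L36118 : sm gi N4555 = N3355 := ded_43_2 (flp_g L26658) (flp_i L26449) L36108
theorem L36120 : sm gh N3330 = N4556 := rfl
theorem L36122 : sm ga N4556 = N3340 := ded_15_1 (flp_h L26535) (flp_a L26445) L36120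
theorem L36124 : sm gb N4556 = N4423 := ded_22_1 (flp_h L34987) (flp_b L26447) L36120
theorem L36126 : sm ge N4556 = N3332 := ded_37_1 (flp_h L26466) L26443 L36120
theorem L36128 : sm gf N4556 = N4174 := ded_40_1 (flp_h L33008) (flp_f L26453) L36120
theorem L36130 : sm gh N3331 = N4557 := rfl
theorem L36132 : sm ga N4557 = N3341 := ded_15_1 (flp_h L26543) (flp_a L26457) L36130
theorem L36134 : sm gb N4557 = N4424 := ded_22_1 (flp_h L34995) (flp_b L26459) L36130
theorem L36136 : sm gf N4557 = N4557 := ded_40_1 (flp_h L36130) L26465 L36130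
theorem L36137 : sm gg N4557 = N3332 := ded_42_1 (flp_h L26466) L26455 L36130
theorem L36139 : sm gd N4557 = N4557 := ded_33_1 (flp_h L36130) L26461 L19458 (flp_d L26461) L36130
theorem L36140 : sm gi N3332 = N4558 := rfl
theorem L36142 : sm ga N4558 = N3342 := ded_16_1 (flp_i L26551) (flp_a L26468) L36140
theorem L36144 : sm gb N4558 = N4425 := ded_23_1 (flp_i L35003) (flp_b L26470) L36140
theorem L36146 : sm gd N4558 = N4558 := ded_34_1 (flp_i L36140) L26474 L36140
theorem L36147 : sm gf N4558 = N3333 := ded_41_1 (flp_i L26475) (flp_f L26472) L36140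
theorem L36149 : sm gh N4558 = N3358 := ded_44_1 (flp_i L26681) (flp_h L19581) (flp_i L19436) L26466 L36140
theorem L36151 : sm gd N3334 = N4559 := rfl
theorem L36153 : sm gf N4559 = N4177 := ded_31_2 (flp_d L33037) (flp_f L26493) L36151
theorem L36155 : sm gi N4559 = N3359 := ded_34_2 (flp_d L26689) (flp_i L26491) L36151
theorem L36157 : sm gc N4559 = N3388 := ded_24_1 (flp_d L26926) L19764 (flp_d L19483) (flp_c L26489) L36151
theorem L36159 : sm ge N4559 = N3595 := ded_30_2 (flp_d L28529) (flp_e L20930) (flp_d L19466) L26487 L36151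
theorem L36161 : sm gg N3334 = N4560 := rfl
theorem L36163 : sm gc N4560 = N3339 := ded_27_1 (flp_g L26525) (flp_c L26489) L36161
theorem L36165 : sm ge N4560 = N3335 := ded_36_1 (flp_g L26495) L26487 L36161
theorem L36167 : sm gi N4560 = N3360 := ded_43_2 (flp_g L26695) (flp_i L26491) L36161
theorem L36169 : sm gh N3334 = N4561 := rfl
theorem L36171 : sm gc N4561 = N3340 := ded_28_1 (flp_h L26535) (flp_c L26489) L36169
theorem L36173 : sm ge N4561 = N3336 := ded_37_1 (flp_h L26504) L26487 L36169
theorem L36175 : sm gf N4561 = N4179 := ded_40_1 (flp_h L33048) (flp_f L26493) L36169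
theorem L36177 : sm gh N3335 = N4562 := rfl
theorem L36179 : sm gc N4562 = N3341 := ded_28_1 (flp_h L26543) (flp_c L26497) L36177
theorem L36181 : sm gf N4562 = N4562 := ded_40_1 (flp_h L36177) L26503 L36177
theorem L36182 : sm gg N4562 = N3336 := ded_42_1 (flp_h L26504) L26495 L36177
theorem L36184 : sm gd N3336 = N4563 := rfl
theorem L36186 : sm gf N4563 = N3337 := ded_31_2 (flp_d L26510) (flp_f L26508) L36184
theorem L36188 : sm gc N4563 = N4563 := ded_24_1 (flp_d L36184) L26506 L19502 (flp_c L26506) L36184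
theorem L36189 : sm gh N4563 = N3599 := ded_33_2 (flp_d L28558) (flp_h L20944) (flp_d L19466) L26504 L36184
theorem L36191 : sm gi N3336 = N4564 := rfl
theorem L36193 : sm gc N4564 = N3342 := ded_29_1 (flp_i L26551) (flp_c L26506) L36191
theorem L36195 : sm gf N4564 = N3338 := ded_41_1 (flp_i L26516) (flp_f L26508) L36191
theorem L36197 : sm gh N4564 = N3364 := ded_44_1 (flp_i L26722) (flp_h L19607) (flp_i L19468) L26504 L36191
theorem L36199 : sm ge N3337 = N4565 := rfl
theorem L36201 : sm gc N4565 = N4565 := ded_25_1 (flp_e L36199) L26513 L36199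
theorem L36202 : sm gg N4565 = N4565 := ded_36_2 (flp_e L36199) L26512 L36199
theorem L36203 : sm gh N4565 = N3601 := ded_37_2 (flp_e L28571) (flp_h L26514) L36199
theorem L36205 : sm gd N4565 = N4183 := ded_30_1 (flp_e L33074) (flp_d L24308) (flp_e L19474) L26510 L36199
theorem L36207 : sm gi N3337 = N4566 := rfl
theorem L36209 : sm gc N4566 = N4566 := ded_29_1 (flp_i L36207) L26513 L36207
theorem L36210 : sm gd N4566 = N3338 := ded_34_1 (flp_i L26516) L26510 L36207
theorem L36212 : sm gg N4566 = N4566 := ded_43_1 (flp_i L36207) L26512 L36207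
theorem L36213 : sm gf N3339 = N4567 := rfl
theorem L36215 : sm gb N4567 = N3343 := ded_20_1 (flp_f L26560) (flp_b L26527) L36213
theorem L36219 : sm gi N4567 = N3367 := ded_41_2 (flp_f L26742) (flp_i L26533) L36213
theorem L36224 : sm gh N3339 = N4568 := rfl
theorem L36226 : sm gb N4568 = N3344 := ded_22_1 (flp_h L26571) (flp_b L26527) L36224
theorem L36228 : sm ge N4568 = N3341 := ded_37_1 (flp_h L26543) (flp_e L26531) L36224
theorem L36230 : sm gg N4568 = N3340 := ded_42_1 (flp_h L26535) L26525 L36224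
theorem L36232 : sm gd N3340 = N4569 := rfl
theorem L36234 : sm gb N4569 = N3345 := ded_18_1 (flp_d L26579) (flp_b L26537) L36232
theorem L36236 : sm gf N4569 = N4187 := ded_31_2 (flp_d L33102) (flp_f L26541) L36232
theorem L36238 : sm ge N4569 = N4569 := ded_30_2 (flp_d L36232) L26539 L19502 (flp_e L26539) L36232
theorem L36239 : sm gh N4569 = N3398 := ded_33_2 (flp_d L27016) (flp_h L19815) (flp_d L19483) L26535 L36232
theorem L36241 : sm gi N3340 = N4570 := rfl
theorem L36243 : sm gb N4570 = N3346 := ded_23_1 (flp_i L26588) (flp_b L26537) L36241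
theorem L36245 : sm ge N4570 = N3342 := ded_38_1 (flp_i L26551) (flp_e L26539) L36241
theorem L36247 : sm gf N4570 = N4188 := ded_41_1 (flp_i L33110) (flp_f L26541) L36241
theorem L36249 : sm gh N4570 = N3370 := ded_44_1 (flp_i L26765) (flp_h L19633) (flp_i L19481) L26535 L36241
theorem L36251 : sm gi N3341 = N4571 := rfl
theorem L36253 : sm gb N4571 = N3347 := ded_23_1 (flp_i L26598) (flp_b L26545) L36251
theorem L36255 : sm gd N4571 = N4571 := ded_34_1 (flp_i L36251) L26550 L36251
theorem L36256 : sm gf N4571 = N4571 := ded_41_1 (flp_i L36251) L26547 L36251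
theorem L36257 : sm gg N4571 = N3342 := ded_43_1 (flp_i L26551) (flp_g L26548) L36251
theorem L36259 : sm gh N4571 = N3371 := ded_44_1 (flp_i L26771) (flp_h L19639) (flp_i L19493) L26543 L36251
theorem L36261 : sm gh N3343 = N4572 := rfl
theorem L36263 : sm ga N4572 = N4439 := ded_15_1 (flp_h L35119) (flp_a L26562) L36261
theorem L36266 : sm gf N4572 = N3344 := ded_40_1 (flp_h L26571) L26560 L36261
theorem L36268 : sm gg N4572 = N4190 := ded_42_1 (flp_h L33125) (flp_g L26569) L36261
theorem L36270 : sm gd N3344 = N4573 := rfl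
theorem L36272 : sm ga N4573 = N4440 := ded_11_1 (flp_d L35126) (flp_a L26573) L36270
theorem L36274 : sm gg N4573 = N3345 := ded_32_2 (flp_d L26579) (flp_g L26577) L36270
theorem L36277 : sm gh N4573 = N3402 := ded_33_2 (flp_d L27055) (flp_h L19852) (flp_d L19517) L26571 L36270
theorem L36279 : sm gi N3344 = N4574 := rfl
theorem L36281 : sm ga N4574 = N4441 := ded_16_1 (flp_i L35133) (flp_a L26573) L36279
theorem L36283 : sm ge N4574 = N3347 := ded_38_1 (flp_i L26598) (flp_e L26575) L36279
theorem L36285 : sm gg N4574 = N3346 := ded_43_1 (flp_i L26588) (flp_g L26577) L36279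
theorem L36287 : sm gh N4574 = N3374 := ded_44_1 (flp_i L26793) (flp_h L19661) (flp_i L19521) L26571 L36279
theorem L36289 : sm gc N3345 = N4575 := rfl
theorem L36291 : sm ga N4575 = N4442 := ded_10_1 (flp_c L35141) (flp_a L26581) L36289
theorem L36294 : sm gf N4575 = N4193 := ded_26_2 (flp_c L33150) (flp_f L26583) L36289
theorem L36298 : sm gi N3345 = N4576 := rfl
theorem L36300 : sm ga N4576 = N4443 := ded_16_1 (flp_i L35148) (flp_a L26581) L36298
theorem L36302 : sm gd N4576 = N3346 := ded_34_1 (flp_i L26588) L26579 L36298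
theorem L36304 : sm ge N4576 = N4576 := ded_38_1 (flp_i L36298) L26585 L36298
theorem L36305 : sm gf N4576 = N4194 := ded_41_1 (flp_i L33158) (flp_f L26583) L36298
theorem L36307 : sm ge N3348 = N4577 := rfl
theorem L36309 : sm gb N4577 = N3350 := ded_19_1 (flp_e L26619) (flp_b L26610) L36307
theorem L36311 : sm gg N3348 = N4578 := rfl
theorem L36313 : sm gb N4578 = N3351 := ded_21_1 (flp_g L26625) (flp_b L26610) L36311
theorem L36315 : sm gd N4578 = N3614 := ded_32_1 (flp_g L28672) (flp_d L26612) L36311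
theorem L36317 : sm gf N4578 = N4578 := ded_39_1 (flp_g L36311) (flp_f L26608) L19552 L26608 L36311
theorem L36318 : sm gh N3348 = N4579 := rfl
theorem L36320 : sm gb N4579 = N3352 := ded_22_1 (flp_h L26634) (flp_b L26610) L36318
theorem L36322 : sm gf N4579 = N3349 := ded_40_1 (flp_h L26614) L26608 L36318
theorem L36324 : sm gd N3349 = N4580 := rfl
theorem L36326 : sm gb N4580 = N3353 := ded_18_1 (flp_d L26642) (flp_b L26616) L36324
theorem L36328 : sm gg N4580 = N4580 := ded_32_2 (flp_d L36324) L26618 L36324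
theorem L36329 : sm gh N4580 = N3616 := ded_33_2 (flp_d L28685) (flp_h L21041) (flp_d L19550) L26614 L36324
theorem L36331 : sm gi N3349 = N4581 := rfl
theorem L36333 : sm gb N4581 = N3354 := ded_23_1 (flp_i L26651) (flp_b L26616) L36331
theorem L36335 : sm gg N4581 = N4581 := ded_43_1 (flp_i L36331) L26618 L36331
theorem L36336 : sm gd N3350 = N4582 := rfl
theorem L36338 : sm ga N4582 = N3359 := ded_11_1 (flp_d L26689) (flp_a L26621) L36336
theorem L36340 : sm gc N4582 = N3410 := ded_24_1 (flp_d L27120) L19910 (flp_d L19572) (flp_c L26623) L36336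
theorem L36342 : sm ge N4582 = N3618 := ded_30_2 (flp_d L28697) (flp_e L21048) (flp_d L19559) L26619 L36336
theorem L36344 : sm gg N3350 = N4583 := rfl
theorem L36346 : sm ga N4583 = N3360 := ded_14_1 (flp_g L26695) (flp_a L26621) L36344
theorem L36348 : sm gc N4583 = N3355 := ded_27_1 (flp_g L26658) (flp_c L26623) L36344
theorem L36350 : sm ge N4583 = N3351 := ded_36_1 (flp_g L26625) L26619 L36344
theorem L36352 : sm gh N3350 = N4584 := rfl
theorem L36354 : sm ga N4584 = N3361 := ded_15_1 (flp_h L26701) (flp_a L26621) L36352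
theorem L36356 : sm gc N4584 = N3356 := ded_28_1 (flp_h L26666) (flp_c L26623) L36352
theorem L36358 : sm ge N4584 = N3352 := ded_37_1 (flp_h L26634) L26619 L36352
theorem L36360 : sm gh N3351 = N4585 := rfl
theorem L36362 : sm ga N4585 = N3362 := ded_15_1 (flp_h L26707) (flp_a L26627) L36360
theorem L36364 : sm gc N4585 = N3357 := ded_28_1 (flp_h L26672) (flp_c L26629) L36360
theorem L36366 : sm gf N4585 = N4585 := ded_40_1 (flp_h L36360) L26633 L36360
theorem L36367 : sm gg N4585 = N3352 := ded_42_1 (flp_h L26634) L26625 L36360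
theorem L36369 : sm gd N3352 = N4586 := rfl
theorem L36371 : sm ga N4586 = N3363 := ded_11_1 (flp_d L26714) (flp_a L26636) L36369
theorem L36373 : sm gf N4586 = N3353 := ded_31_2 (flp_d L26642) (flp_f L26640) L36369
theorem L36375 : sm gc N4586 = N3447 := ded_24_1 (flp_d L27393) L20112 (flp_d L19587) (flp_c L26638) L36369
theorem L36377 : sm gh N4586 = N3622 := ded_33_2 (flp_d L28730) (flp_h L21062) (flp_d L19559) L26634 L36369
theorem L36379 : sm gi N3352 = N4587 := rfl
theorem L36381 : sm ga N4587 = N3364 := ded_16_1 (flp_i L26722) (flp_a L26636) L36379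
theorem L36383 : sm gc N4587 = N3358 := ded_29_1 (flp_i L26681) (flp_c L26638) L36379
theorem L36385 : sm gf N4587 = N3354 := ded_41_1 (flp_i L26651) (flp_f L26640) L36379
theorem L36387 : sm ge N3353 = N4588 := rfl
theorem L36389 : sm ga N4588 = N3365 := ded_12_1 (flp_e L26728) (flp_a L26644) L36387
theorem L36391 : sm gc N4588 = N3449 := ded_25_1 (flp_e L27410) (flp_c L26647) L36387
theorem L36393 : sm gg N4588 = N4588 := ded_36_2 (flp_e L36387) L26646 L36387
theorem L36394 : sm gh N4588 = N3624 := ded_37_2 (flp_e L28746) (flp_h L26649) L36387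
theorem L36396 : sm gi N3353 = N4589 := rfl
theorem L36398 : sm ga N4589 = N3366 := ded_16_1 (flp_i L26735) (flp_a L26644) L36396
theorem L36400 : sm gc N4589 = N3450 := ded_29_1 (flp_i L27418) (flp_c L26647) L36396
theorem L36402 : sm gd N4589 = N3354 := ded_34_1 (flp_i L26651) L26642 L36396
theorem L36404 : sm gg N4589 = N4589 := ded_43_1 (flp_i L36396) L26646 L36396
theorem L36405 : sm gf N3355 = N4590 := rfl
theorem L36407 : sm ga N4590 = N3367 := ded_13_1 (flp_f L26742) (flp_a L26660) L36405
theorem L36409 : sm gd N4590 = N3415 := ded_31_1 (flp_f L27162) (flp_d L26662) L36405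
theorem L36411 : sm ge N4590 = N4590 := ded_35_1 (flp_f L36405) L26664 L19580 (flp_e L26664) L36405
theorem L36412 : sm gh N3355 = N4591 := rfl
theorem L36414 : sm ga N4591 = N3368 := ded_15_1 (flp_h L26749) (flp_a L26660) L36412
theorem L36416 : sm ge N4591 = N3357 := ded_37_1 (flp_h L26672) (flp_e L26664) L36412
theorem L36418 : sm gg N4591 = N3356 := ded_42_1 (flp_h L26666) L26658 L36412
theorem L36420 : sm gd N3356 = N4592 := rfl
theorem L36422 : sm ga N4592 = N3369 := ded_11_1 (flp_d L26757) (flp_a L26668) L36420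
theorem L36424 : sm ge N4592 = N3453 := ded_30_2 (flp_d L27442) L20145 (flp_d L19587) (flp_e L26670) L36420
theorem L36426 : sm gh N4592 = N3417 := ded_33_2 (flp_d L27176) (flp_h L19946) (flp_d L19572) L26666 L36420
theorem L36428 : sm gi N3356 = N4593 := rfl
theorem L36430 : sm ga N4593 = N3370 := ded_16_1 (flp_i L26765) (flp_a L26668) L36428
theorem L36432 : sm ge N4593 = N3358 := ded_38_1 (flp_i L26681) (flp_e L26670) L36428
theorem L36434 : sm gi N3357 = N4594 := rfl
theorem L36436 : sm ga N4594 = N3371 := ded_16_1 (flp_i L26771) (flp_a L26674) L36434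
theorem L36438 : sm gd N4594 = N3455 := ded_34_1 (flp_i L27457) (flp_d L26679) L36434
theorem L36440 : sm gf N4594 = N4594 := ded_41_1 (flp_i L36434) L26676 L36434
theorem L36441 : sm gg N4594 = N3358 := ded_43_1 (flp_i L26681) (flp_g L26677) L36434
theorem L36443 : sm gg N3359 = N4595 := rfl
theorem L36445 : sm gc N4595 = N3420 := ded_27_1 (flp_g L27198) (flp_c L26691) L36443
theorem L36447 : sm gd N4595 = N3360 := ded_32_1 (flp_g L26695) L26689 L36443
theorem L36449 : sm ge N4595 = N3630 := ded_36_1 (flp_g L28801) (flp_e L26693) L36443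
theorem L36451 : sm gh N3359 = N4596 := rfl
theorem L36453 : sm gc N4596 = N3421 := ded_28_1 (flp_h L27205) (flp_c L26691) L36451
theorem L36455 : sm ge N4596 = N3631 := ded_37_1 (flp_h L28807) (flp_e L26693) L36451
theorem L36457 : sm gf N3360 = N4597 := rfl
theorem L36459 : sm gc N4597 = N3367 := ded_26_1 (flp_f L26742) (flp_c L26697) L36457
theorem L36461 : sm ge N4597 = N4597 := ded_35_1 (flp_f L36457) L26699 L19606 (flp_e L26699) L36457
theorem L36462 : sm gh N3360 = N4598 := rfl
theorem L36464 : sm gc N4598 = N3368 := ded_28_1 (flp_h L26749) (flp_c L26697) L36462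
theorem L36466 : sm ge N4598 = N3362 := ded_37_1 (flp_h L26707) (flp_e L26699) L36462
theorem L36468 : sm gg N4598 = N3361 := ded_42_1 (flp_h L26701) L26695 L36462
theorem L36470 : sm gd N3361 = N4599 := rfl
theorem L36472 : sm gi N3361 = N4600 := rfl
theorem L36474 : sm gc N4600 = N3370 := ded_29_1 (flp_i L26765) (flp_c L26703) L36472
theorem L36476 : sm ge N4600 = N3364 := ded_38_1 (flp_i L26722) (flp_e L26705) L36472
theorem L36478 : sm gd N3362 = N4601 := rfl
theorem L36480 : sm gf N4601 = N4601 := ded_31_2 (flp_d L36478) L26711 L36478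
theorem L36481 : sm gg N4601 = N3363 := ded_32_2 (flp_d L26714) (flp_g L26712) L36478
theorem L36483 : sm gc N4601 = N3460 := ded_24_1 (flp_d L27497) L20182 (flp_d L19646) (flp_c L26709) L36478
theorem L36485 : sm gh N4601 = N3636 := ded_33_2 (flp_d L28837) (flp_h L21140) (flp_d L19604) L26707 L36478
theorem L36487 : sm gi N3362 = N4602 := rfl
theorem L36489 : sm gc N4602 = N3371 := ded_29_1 (flp_i L26771) (flp_c L26709) L36487
theorem L36491 : sm gf N4602 = N4602 := ded_41_1 (flp_i L36487) L26711 L36487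
theorem L36492 : sm gg N4602 = N3364 := ded_43_1 (flp_i L26722) (flp_g L26712) L36487
theorem L36494 : sm ge N3363 = N4603 := rfl
theorem L36496 : sm gc N4603 = N3462 := ded_25_1 (flp_e L27514) (flp_c L26718) L36494
theorem L36498 : sm gh N4603 = N3638 := ded_37_2 (flp_e L28851) (flp_h L26720) L36494
theorem L36500 : sm gi N3363 = N4604 := rfl
theorem L36502 : sm gc N4604 = N3463 := ded_29_1 (flp_i L27519) (flp_c L26718) L36500
theorem L36504 : sm gd N4604 = N3364 := ded_34_1 (flp_i L26722) L26714 L36500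
theorem L36506 : sm gf N4604 = N3366 := ded_41_1 (flp_i L26735) (flp_f L26716) L36500
theorem L36508 : sm gf N3365 = N4605 := rfl
theorem L36510 : sm gc N4605 = N3464 := ded_26_1 (flp_f L27526) (flp_c L26730) L36508
theorem L36512 : sm gh N4605 = N3640 := ded_40_2 (flp_f L28863) (flp_h L26733) L36508
theorem L36514 : sm gi N3365 = N4606 := rfl
theorem L36516 : sm gc N4606 = N3465 := ded_29_1 (flp_i L27532) (flp_c L26730) L36514
theorem L36518 : sm ge N4606 = N3366 := ded_38_1 (flp_i L26735) L26728 L36514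
theorem L36520 : sm gg N4606 = N4606 := ded_43_1 (flp_i L36514) L26732 L36514
theorem L36521 : sm gh N3366 = N4607 := rfl
theorem L36523 : sm gc N4607 = N3466 := ded_28_1 (flp_h L27539) (flp_c L26737) L36521
theorem L36525 : sm gg N4607 = N4607 := ded_42_1 (flp_h L36521) L26741 L36521
theorem L36526 : sm gi N4607 = N3642 := ded_44_2 (flp_h L28876) (flp_i L21165) (flp_h L19618) L26735 L36521
theorem L36528 : sm gh N3367 = N4608 := rfl
theorem L36533 : sm gf N4608 = N3368 := ded_40_1 (flp_h L26749) L26742 L36528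
theorem L36535 : sm gd N3368 = N4609 := rfl
theorem L36539 : sm gg N4609 = N3369 := ded_32_2 (flp_d L26757) (flp_g L26755) L36535
theorem L36541 : sm ge N4609 = N3468 := ded_30_2 (flp_d L27554) L20228 (flp_d L19646) (flp_e L26753) L36535
theorem L36545 : sm gi N3368 = N4610 := rfl
theorem L36547 : sm gb N4610 = N3374 := ded_23_1 (flp_i L26793) (flp_b L26751) L36545
theorem L36549 : sm ge N4610 = N3371 := ded_38_1 (flp_i L26771) (flp_e L26753) L36545
theorem L36551 : sm gg N4610 = N3370 := ded_43_1 (flp_i L26765) (flp_g L26755) L36545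
theorem L36553 : sm gc N3369 = N4611 := rfl
theorem L36555 : sm ge N4611 = N3470 := ded_25_2 (flp_c L27571) (flp_e L26761) L36553
theorem L36557 : sm gh N4611 = N3430 := ded_28_2 (flp_c L27271) (flp_h L26763) L36553
theorem L36559 : sm gi N3369 = N4612 := rfl
theorem L36561 : sm gb N4612 = N3376 := ded_23_1 (flp_i L26805) (flp_b L26759) L36559
theorem L36563 : sm gd N4612 = N3370 := ded_34_1 (flp_i L26765) L26757 L36559
theorem L36565 : sm ge N4612 = N3471 := ded_38_1 (flp_i L27576) (flp_e L26761) L36559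
theorem L36567 : sm gd N3372 = N4613 := rfl
theorem L36571 : sm gh N4613 = N3432 := ded_33_2 (flp_d L27283) (flp_h L20043) (flp_d L19658) L26780 L36567
theorem L36573 : sm gi N3372 = N4614 := rfl
theorem L36578 : sm gc N3373 = N4615 := rfl
theorem L36582 : sm gg N4615 = N3375 := ded_27_2 (flp_c L26799) (flp_g L26787) L36578
theorem L36586 : sm gi N3373 = N4616 := rfl
theorem L36588 : sm gd N4616 = N3374 := ded_34_1 (flp_i L26793) L26785 L36586
theorem L36590 : sm ge N4616 = N3475 := ded_38_1 (flp_i L27605) (flp_e L26789) L36586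
theorem L36592 : sm gg N4616 = N3376 := ded_43_1 (flp_i L26805) (flp_g L26787) L36586
theorem L36594 : sm gb N3375 = N4617 := rfl
theorem L36596 : sm ge N4617 = N3476 := ded_19_2 (flp_b L27611) (flp_e L26801) L36594
theorem L36598 : sm gh N4617 = N3436 := ded_22_2 (flp_b L27309) (flp_h L26803) L36594
theorem L36600 : sm gi N3375 = N4618 := rfl
theorem L36602 : sm gc N4618 = N3376 := ded_29_1 (flp_i L26805) L26799 L36600
theorem L36604 : sm ge N4618 = N3477 := ded_38_1 (flp_i L27617) (flp_e L26801) L36600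
theorem L36606 : sm gh N3376 = N4619 := rfl
theorem L36610 : sm gi N4619 = N3438 := ded_44_2 (flp_h L27321) (flp_i L20068) (flp_h L19671) L26805 L36606
theorem L36612 : sm ge N3377 = N4620 := rfl
theorem L36614 : sm ga N4620 = N4620 := ded_12_1 (flp_e L36612) L26813 L36612
theorem L36615 : sm gb N4620 = N3379 := ded_19_1 (flp_e L26833) (flp_b L26814) L36612
theorem L36617 : sm gc N4620 = N4444 := ded_25_1 (flp_e L35155) (flp_c L26816) L36612
theorem L36619 : sm gi N4620 = N3406 := ded_38_2 (flp_e L27090) (flp_i L26820) L36612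
theorem L36621 : sm gf N4620 = N4195 := ded_35_2 (flp_e L33166) (flp_f L24388) (flp_e L19688) L26811 L36612
theorem L36623 : sm gg N3377 = N4621 := rfl
theorem L36625 : sm ga N4621 = N4621 := ded_14_1 (flp_g L36623) L26813 L36623
theorem L36626 : sm gb N4621 = N3380 := ded_21_1 (flp_g L26843) (flp_b L26814) L36623
theorem L36628 : sm gc N4621 = N4445 := ded_27_1 (flp_g L35164) (flp_c L26816) L36623
theorem L36630 : sm gd N4621 = N3647 := ded_32_1 (flp_g L28916) (flp_d L26818) L36623
theorem L36632 : sm gi N4621 = N3407 := ded_43_2 (flp_g L27095) (flp_i L26820) L36623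
theorem L36634 : sm gf N4621 = N3896 := ded_39_1 (flp_g L30851) (flp_f L22674) (flp_g L19690) L26811 L36623
theorem L36636 : sm gh N3377 = N4622 := rfl
theorem L36638 : sm ga N4622 = N4622 := ded_15_1 (flp_h L36636) L26813 L36636
theorem L36639 : sm gb N4622 = N3381 := ded_22_1 (flp_h L26855) (flp_b L26814) L36636
theorem L36641 : sm gc N4622 = N4446 := ded_28_1 (flp_h L35174) (flp_c L26816) L36636
theorem L36643 : sm gf N4622 = N3378 := ded_40_1 (flp_h L26822) L26811 L36636
theorem L36645 : sm gd N3378 = N4623 := rfl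
theorem L36647 : sm ga N4623 = N4623 := ded_11_1 (flp_d L36645) L26824 L36645
theorem L36648 : sm gb N4623 = N3382 := ded_18_1 (flp_d L26863) (flp_b L26825) L36645
theorem L36650 : sm gg N4623 = N3898 := ded_32_2 (flp_d L30871) (flp_g L26831) L36645
theorem L36652 : sm gh N4623 = N3649 := ded_33_2 (flp_d L28935) (flp_h L21230) (flp_d L19686) L26822 L36645
theorem L36654 : sm gi N3378 = N4624 := rfl
theorem L36656 : sm ga N4624 = N4624 := ded_16_1 (flp_i L36654) L26824 L36654
theorem L36657 : sm gb N4624 = N3383 := ded_23_1 (flp_i L26872) (flp_b L26825) L36654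
theorem L36659 : sm gc N4624 = N4448 := ded_29_1 (flp_i L35190) (flp_c L26827) L36654
theorem L36661 : sm ge N4624 = N4199 := ded_38_1 (flp_i L33201) (flp_e L26829) L36654
theorem L36663 : sm gg N4624 = N3899 := ded_43_1 (flp_i L30878) (flp_g L26831) L36654
theorem L36665 : sm gh N4624 = N3409 := ded_44_1 (flp_i L27112) (flp_h L19898) (flp_i L19692) L26822 L36654
theorem L36667 : sm gd N3379 = N4625 := rfl
theorem L36669 : sm ga N4625 = N3388 := ded_11_1 (flp_d L26926) (flp_a L26835) L36667
theorem L36671 : sm gf N4625 = N4200 := ded_31_2 (flp_d L33210) (flp_f L26841) L36667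
theorem L36673 : sm gi N4625 = N3410 := ded_34_2 (flp_d L27120) (flp_i L26839) L36667
theorem L36675 : sm ge N4625 = N3650 := ded_30_2 (flp_d L28943) (flp_e L21240) (flp_d L19703) L26833 L36667
theorem L36677 : sm gg N3379 = N4626 := rfl
theorem L36679 : sm ga N4626 = N3389 := ded_14_1 (flp_g L26935) (flp_a L26835) L36677
theorem L36681 : sm gc N4626 = N3384 := ded_27_1 (flp_g L26884) (flp_c L26837) L36677
theorem L36683 : sm ge N4626 = N3380 := ded_36_1 (flp_g L26843) L26833 L36677
theorem L36685 : sm gi N4626 = N3411 := ded_43_2 (flp_g L27126) (flp_i L26839) L36677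
theorem L36687 : sm gh N3379 = N4627 := rfl
theorem L36689 : sm ga N4627 = N3390 := ded_15_1 (flp_h L26944) (flp_a L26835) L36687
theorem L36691 : sm gc N4627 = N3385 := ded_28_1 (flp_h L26894) (flp_c L26837) L36687
theorem L36693 : sm ge N4627 = N3381 := ded_37_1 (flp_h L26855) L26833 L36687
theorem L36695 : sm gf N4627 = N4202 := ded_40_1 (flp_h L33223) (flp_f L26841) L36687
theorem L36697 : sm gh N3380 = N4628 := rfl
theorem L36699 : sm ga N4628 = N3391 := ded_15_1 (flp_h L26953) (flp_a L26845) L36697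
theorem L36705 : sm gg N4628 = N3381 := ded_42_1 (flp_h L26855) L26843 L36697
theorem L36707 : sm gd N3381 = N4629 := rfl
theorem L36709 : sm ga N4629 = N3392 := ded_11_1 (flp_d L26962) (flp_a L26857) L36707
theorem L36711 : sm gf N4629 = N3382 := ded_31_2 (flp_d L26863) (flp_f L26861) L36707
theorem L36713 : sm gc N4629 = N4629 := ded_24_1 (flp_d L36707) L26859 L19747 (flp_c L26859) L36707
theorem L36714 : sm gh N4629 = N3654 := ded_33_2 (flp_d L28981) (flp_h L21259) (flp_d L19703) L26855 L36707
theorem L36726 : sm ge N3382 = N4631 := rfl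
theorem L36737 : sm gi N3382 = N4632 := rfl
theorem L36739 : sm ga N4632 = N3395 := ded_16_1 (flp_i L26989) (flp_a L26865) L36737
theorem L36741 : sm gc N4632 = N4632 := ded_29_1 (flp_i L36737) L26869 L36737
theorem L36742 : sm gd N4632 = N3383 := ded_34_1 (flp_i L26872) L26863 L36737
theorem L36744 : sm gg N4632 = N3907 := ded_43_1 (flp_i L30956) (flp_g L26867) L36737
theorem L36746 : sm gh N4632 = N4632 := ded_44_1 (flp_i L36737) L26870 L21274 (flp_h L26870) L36737
theorem L36747 : sm gf N3384 = N4633 := rfl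
theorem L36755 : sm ge N4633 = N3908 := ded_35_1 (flp_f L30964) L22746 (flp_f L19737) (flp_e L26890) L36747
theorem L36757 : sm gg N4633 = N4208 := ded_39_2 (flp_f L33277) (flp_g L24445) (flp_f L19725) L26884 L36747
theorem L36759 : sm gh N3384 = N4634 := rfl
theorem L36761 : sm ga N4634 = N3397 := ded_15_1 (flp_h L27008) (flp_a L26886) L36759
theorem L36763 : sm gb N4634 = N4457 := ded_22_1 (flp_h L35278) (flp_b L26888) L36759
theorem L36767 : sm gg N4634 = N3385 := ded_42_1 (flp_h L26894) L26884 L36759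
theorem L36769 : sm gd N3385 = N4635 := rfl
theorem L36773 : sm gb N4635 = N4458 := ded_18_1 (flp_d L35286) (flp_b L26898) L36769
theorem L36775 : sm gf N4635 = N4210 := ded_31_2 (flp_d L33295) (flp_f L26902) L36769
theorem L36778 : sm gi N3385 = N4636 := rfl
theorem L36780 : sm ga N4636 = N3399 := ded_16_1 (flp_i L27023) (flp_a L26896) L36778
theorem L36782 : sm gb N4636 = N4459 := ded_23_1 (flp_i L35293) (flp_b L26898) L36778
theorem L36784 : sm ge N4636 = N3387 := ded_38_1 (flp_i L26915) (flp_e L26900) L36778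
theorem L36786 : sm gf N4636 = N4211 := ded_41_1 (flp_i L33303) (flp_f L26902) L36778
theorem L36788 : sm gh N4636 = N3418 := ded_44_1 (flp_i L27182) (flp_h L19946) (flp_i L19723) L26894 L36778
theorem L36803 : sm gg N3388 = N4638 := rfl
theorem L36805 : sm gb N4638 = N4638 := ded_21_1 (flp_g L36803) L26928 L36803
theorem L36806 : sm gd N4638 = N3389 := ded_32_1 (flp_g L26935) L26926 L36803
theorem L36808 : sm ge N4638 = N3659 := ded_36_1 (flp_g L29026) (flp_e L26933) L36803
theorem L36810 : sm gi N4638 = N3420 := ded_43_2 (flp_g L27198) (flp_i L26931) L36803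
theorem L36812 : sm gh N3388 = N4639 := rfl
theorem L36814 : sm gb N4639 = N4639 := ded_22_1 (flp_h L36812) L26928 L36812
theorem L36815 : sm ge N4639 = N3660 := ded_37_1 (flp_h L29033) (flp_e L26933) L36812
theorem L36817 : sm gf N4639 = N4214 := ded_40_1 (flp_h L33329) (flp_f L26929) L36812
theorem L36819 : sm gf N3389 = N4640 := rfl
theorem L36824 : sm gi N4640 = N3422 := ded_41_2 (flp_f L27210) (flp_i L26942) L36819
theorem L36830 : sm gh N3389 = N4641 := rfl
theorem L36833 : sm gc N4641 = N3397 := ded_28_1 (flp_h L27008) (flp_c L26938) L36830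
theorem L36835 : sm ge N4641 = N3391 := ded_37_1 (flp_h L26953) (flp_e L26940) L36830
theorem L36837 : sm gg N4641 = N3390 := ded_42_1 (flp_h L26944) L26935 L36830
theorem L36839 : sm gd N3390 = N4642 := rfl
theorem L36841 : sm gb N4642 = N4642 := ded_18_1 (flp_d L36839) L26946 L36839
theorem L36842 : sm gf N4642 = N4217 := ded_31_2 (flp_d L33349) (flp_f L26951) L36839
theorem L36844 : sm gi N3390 = N4643 := rfl
theorem L36849 : sm ge N4643 = N3393 := ded_38_1 (flp_i L26970) (flp_e L26949) L36844
theorem L36855 : sm gd N3391 = N4644 := rfl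
theorem L36858 : sm gf N4644 = N3919 := ded_31_2 (flp_d L31070) (flp_f L26958) L36855
theorem L36860 : sm gg N4644 = N3392 := ded_32_2 (flp_d L26962) (flp_g L26960) L36855
theorem L36863 : sm gh N4644 = N3664 := ded_33_2 (flp_d L29062) (flp_h L21329) (flp_d L19775) L26953 L36855
theorem L36876 : sm ge N3392 = N4646 := rfl
theorem L36878 : sm gb N4646 = N4646 := ded_19_1 (flp_e L36876) L26964 L36876
theorem L36879 : sm gc N4646 = N4646 := ded_25_1 (flp_e L36876) L26967 L36876
theorem L36880 : sm gh N4646 = N3665 := ded_37_2 (flp_e L29071) (flp_h L26968) L36876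
theorem L36882 : sm gi N3392 = N4647 := rfl
theorem L36888 : sm gf N4647 = N3395 := ded_41_1 (flp_i L26989) (flp_f L26965) L36882
theorem L36891 : sm gf N3394 = N4648 := rfl
theorem L36895 : sm gd N4648 = N4223 := ded_31_1 (flp_f L33393) (flp_d L26987) L36891
theorem L36897 : sm gh N4648 = N3666 := ded_40_2 (flp_f L29076) (flp_h L26985) L36891
theorem L36920 : sm gd N3397 = N4651 := rfl
theorem L36937 : sm gc N3398 = N4653 := rfl
theorem L36940 : sm gf N4653 = N4229 := ded_26_2 (flp_c L33440) (flp_f L27020) L36937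
theorem L36951 : sm gd N3401 = N4655 := rfl
theorem L36953 : sm ga N4655 = N4477 := ded_11_1 (flp_d L35449) (flp_a L27046) L36951
theorem L36957 : sm gg N4655 = N4231 := ded_32_2 (flp_d L33452) (flp_g L27053) L36951
theorem L36959 : sm gi N3401 = N4656 := rfl
theorem L36964 : sm ge N4656 = N3931 := ded_38_1 (flp_i L31169) (flp_e L27049) L36959
theorem L36966 : sm gf N4656 = N3403 := ded_41_1 (flp_i L27062) (flp_f L27051) L36959
theorem L36972 : sm gc N3402 = N4657 := rfl
theorem L36974 : sm ga N4657 = N4479 := ded_10_1 (flp_c L35466) (flp_a L27057) L36972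
theorem L36977 : sm gg N4657 = N3404 := ded_27_2 (flp_c L27073) (flp_g L27059) L36972
theorem L36989 : sm gb N3404 = N4659 := rfl
theorem L36993 : sm gf N4659 = N4235 := ded_20_2 (flp_b L33486) (flp_f L27078) L36989
theorem L37014 : sm gd N3406 = N4662 := rfl
theorem L37016 : sm ga N4662 = N4662 := ded_11_1 (flp_d L37014) L27092 L37014
theorem L37017 : sm gb N4662 = N3410 := ded_18_1 (flp_d L27120) (flp_b L27093) L37014
theorem L37019 : sm ge N4662 = N3673 := ded_30_2 (flp_d L29126) (flp_e L21403) (flp_d L19896) L27090 L37014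
theorem L37021 : sm gg N3406 = N4663 := rfl
theorem L37023 : sm ga N4663 = N4663 := ded_14_1 (flp_g L37021) L27092 L37021
theorem L37024 : sm gb N4663 = N3411 := ded_21_1 (flp_g L27126) (flp_b L27093) L37021
theorem L37026 : sm ge N4663 = N3407 := ded_36_1 (flp_g L27095) L27090 L37021
theorem L37028 : sm gh N3406 = N4664 := rfl
theorem L37030 : sm ga N4664 = N4664 := ded_15_1 (flp_h L37028) L27092 L37028
theorem L37031 : sm gb N4664 = N3412 := ded_22_1 (flp_h L27134) (flp_b L27093) L37028
theorem L37033 : sm ge N4664 = N3408 := ded_37_1 (flp_h L27104) L27090 L37028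
theorem L37035 : sm gh N3407 = N4665 := rfl
theorem L37042 : sm gg N4665 = N3408 := ded_42_1 (flp_h L27104) L27095 L37035
theorem L37045 : sm gi N3408 = N4666 := rfl
theorem L37048 : sm gb N4666 = N3414 := ded_23_1 (flp_i L27153) (flp_b L27107) L37045
theorem L37051 : sm gf N4666 = N3409 := ded_41_1 (flp_i L27112) (flp_f L27109) L37045
theorem L37053 : sm gg N3410 = N4667 := rfl
theorem L37055 : sm ga N4667 = N3420 := ded_14_1 (flp_g L27198) (flp_a L27122) L37053
theorem L37057 : sm gd N4667 = N3411 := ded_32_1 (flp_g L27126) L27120 L37053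
theorem L37059 : sm ge N4667 = N3675 := ded_36_1 (flp_g L29141) (flp_e L27124) L37053
theorem L37061 : sm gh N3410 = N4668 := rfl
theorem L37063 : sm ga N4668 = N3421 := ded_15_1 (flp_h L27205) (flp_a L27122) L37061
theorem L37065 : sm ge N4668 = N3676 := ded_37_1 (flp_h L29147) (flp_e L27124) L37061
theorem L37067 : sm gf N3411 = N4669 := rfl
theorem L37075 : sm gh N3411 = N4670 := rfl
theorem L37083 : sm gg N4670 = N3412 := ded_42_1 (flp_h L27134) L27126 L37075
theorem L37085 : sm gd N3412 = N4671 := rfl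
theorem L37087 : sm ga N4671 = N3424 := ded_11_1 (flp_d L27226) (flp_a L27136) L37085
theorem L37089 : sm ge N4671 = N4671 := ded_30_2 (flp_d L37085) L27140 L19930 (flp_e L27140) L37085
theorem L37109 : sm gh N3415 = N4674 := rfl
theorem L37115 : sm gf N4674 = N3416 := ded_40_1 (flp_h L27168) L27162 L37109
theorem L37117 : sm gd N3416 = N4675 := rfl
theorem L37121 : sm gg N4675 = N3417 := ded_32_2 (flp_d L27176) (flp_g L27174) L37117
theorem L37123 : sm ge N4675 = N3480 := ded_30_2 (flp_d L27639) L20301 (flp_d L19960) (flp_e L27172) L37117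
theorem L37133 : sm gc N3417 = N4677 := rfl
theorem L37135 : sm ga N4677 = N3430 := ded_10_1 (flp_c L27271) (flp_a L27178) L37133
theorem L37137 : sm ge N4677 = N3482 := ded_25_2 (flp_c L27655) (flp_e L27180) L37133
theorem L37139 : sm gi N3417 = N4678 := rfl
theorem L37147 : sm gf N3420 = N4679 := rfl
theorem L37150 : sm gd N4679 = N3422 := ded_31_1 (flp_f L27210) (flp_d L27201) L37147
theorem L37152 : sm gh N3420 = N4680 := rfl
theorem L37154 : sm gb N4680 = N4680 := ded_22_1 (flp_h L37152) L27200 L37152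
theorem L37155 : sm ge N4680 = N3679 := ded_37_1 (flp_h L29169) (flp_e L27203) L37152
theorem L37157 : sm gg N4680 = N3421 := ded_42_1 (flp_h L27205) L27198 L37152
theorem L37159 : sm gd N3421 = N4681 := rfl
theorem L37161 : sm gb N4681 = N4681 := ded_18_1 (flp_d L37159) L27207 L37159
theorem L37162 : sm ge N4681 = N4681 := ded_30_2 (flp_d L37159) L27208 L21452 (flp_e L27208) L37159
theorem L37163 : sm gh N4681 = N3424 := ded_33_2 (flp_d L27226) (flp_h L19982) L19970 L27205 L37159
theorem L37165 : sm gi N3421 = N4682 := rfl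
theorem L37167 : sm gb N4682 = N4682 := ded_23_1 (flp_i L37165) L27207 L37165
theorem L37168 : sm ge N4682 = N3680 := ded_38_1 (flp_i L29175) (flp_e L27208) L37165
theorem L37170 : sm gh N3422 = N4683 := rfl
theorem L37177 : sm gf N4683 = N3423 := ded_40_1 (flp_h L27217) L27210 L37170
theorem L37179 : sm gd N3423 = N4684 := rfl
theorem L37182 : sm gg N4684 = N3424 := ded_32_2 (flp_d L27226) (flp_g L27224) L37179
theorem L37194 : sm gc N3424 = N4686 := rfl
theorem L37196 : sm ge N4686 = N4686 := ded_25_2 (flp_c L37194) L27229 L37194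
theorem L37197 : sm gd N4686 = N3430 := ded_24_2 (flp_c L27271) (flp_d L20021) (flp_c L19985) L27226 L37194
theorem L37199 : sm gi N3424 = N4687 := rfl
theorem L37205 : sm gd N3427 = N4688 := rfl
theorem L37209 : sm gf N4688 = N3428 := ded_31_2 (flp_d L27255) (flp_f L27253) L37205
theorem L37219 : sm gc N3428 = N4690 := rfl
theorem L37221 : sm ge N4690 = N3486 := ded_25_2 (flp_c L27686) (flp_e L27261) L37219
theorem L37223 : sm gg N4690 = N3430 := ded_27_2 (flp_c L27271) (flp_g L27259) L37219
theorem L37235 : sm gb N3430 = N4692 := rfl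
theorem L37237 : sm ge N4692 = N3488 := ded_19_2 (flp_b L27699) (flp_e L27273) L37235
theorem L37239 : sm gc N4692 = N3436 := ded_17_2 (flp_b L27309) (flp_c L20063) (flp_b L20023) L27271 L37235
theorem L37241 : sm gi N3430 = N4693 := rfl
theorem L37253 : sm gc N3432 = N4695 := rfl
theorem L37255 : sm gf N4695 = N3434 := ded_26_2 (flp_c L27294) (flp_f L27285) L37253
theorem L37264 : sm gi N3432 = N4697 := rfl
theorem L37270 : sm gb N3434 = N4698 := rfl
theorem L37275 : sm gg N4698 = N3436 := ded_21_2 (flp_b L27309) (flp_g L27298) L37270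
theorem L37277 : sm gi N3434 = N4699 := rfl
theorem L37292 : sm ga N3436 = N4701 := rfl
theorem L37294 : sm gd N4701 = N4701 := ded_11_2 (flp_a L37292) L27311 L37292
theorem L37295 : sm ge N4701 = N3497 := ded_12_2 (flp_a L27755) (flp_e L27312) L37292
theorem L37297 : sm gi N3436 = N4702 := rfl
theorem L37310 : sm gg N3439 = N4704 := rfl
theorem L37313 : sm gb N4704 = N3444 := ded_21_1 (flp_g L27365) (flp_b L27328) L37310
theorem L37316 : sm ge N4704 = N3440 := ded_36_1 (flp_g L27333) L27325 L37310
theorem L37319 : sm gh N3439 = N4705 := rfl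
theorem L37321 : sm ga N4705 = N4705 := ded_15_1 (flp_h L37319) L27327 L37319
theorem L37322 : sm gb N4705 = N3445 := ded_22_1 (flp_h L27375) (flp_b L27328) L37319
theorem L37324 : sm ge N4705 = N3441 := ded_37_1 (flp_h L27342) L27325 L37319
theorem L37326 : sm gf N4705 = N4705 := ded_40_1 (flp_h L37319) L27332 L37319
theorem L37327 : sm gh N3440 = N4706 := rfl
theorem L37329 : sm ga N4706 = N4706 := ded_15_1 (flp_h L37327) L27335 L37327
theorem L37330 : sm gb N4706 = N3446 := ded_22_1 (flp_h L27384) (flp_b L27336) L37327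
theorem L37332 : sm gf N4706 = N4706 := ded_40_1 (flp_h L37327) L27341 L37327
theorem L37333 : sm gg N4706 = N3441 := ded_42_1 (flp_h L27342) L27333 L37327
theorem L37335 : sm gd N3441 = N4707 := rfl
theorem L37337 : sm ga N4707 = N4707 := ded_11_1 (flp_d L37335) L27344 L37335
theorem L37338 : sm gb N4707 = N3447 := ded_18_1 (flp_d L27393) (flp_b L27345) L37335
theorem L37340 : sm gf N4707 = N3442 := ded_31_2 (flp_d L27349) (flp_f L27347) L37335
theorem L37342 : sm gh N4707 = N3682 := ded_33_2 (flp_d L29190) (flp_h L21471) (flp_d L20079) L27342 L37335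
theorem L37344 : sm gi N3441 = N4708 := rfl
theorem L37346 : sm ga N4708 = N4708 := ded_16_1 (flp_i L37344) L27344 L37344
theorem L37347 : sm gb N4708 = N3448 := ded_23_1 (flp_i L27401) (flp_b L27345) L37344
theorem L37349 : sm gf N4708 = N3443 := ded_41_1 (flp_i L27357) (flp_f L27347) L37344
theorem L37351 : sm gh N4708 = N4708 := ded_44_1 (flp_i L37344) (flp_h L27342) L20081 L27342 L37344
theorem L37352 : sm gc N3442 = N4709 := rfl
theorem L37354 : sm ga N4709 = N4709 := ded_10_1 (flp_c L37352) L27351 L37352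
theorem L37355 : sm gg N4709 = N4709 := ded_27_2 (flp_c L37352) L27354 L37352
theorem L37356 : sm gh N4709 = N3684 := ded_28_2 (flp_c L29207) (flp_h L27355) L37352
theorem L37358 : sm ge N3442 = N4710 := rfl
theorem L37360 : sm ga N4710 = N4710 := ded_12_1 (flp_e L37358) L27351 L37358
theorem L37361 : sm gb N4710 = N3449 := ded_19_1 (flp_e L27410) (flp_b L27352) L37358
theorem L37363 : sm gg N4710 = N4710 := ded_36_2 (flp_e L37358) L27354 L37358
theorem L37364 : sm gh N4710 = N3685 := ded_37_2 (flp_e L29212) (flp_h L27355) L37358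
theorem L37366 : sm gd N4710 = N4710 := ded_30_1 (flp_e L37358) (flp_d L27349) L20087 L27349 L37358
theorem L37367 : sm gi N3442 = N4711 := rfl
theorem L37369 : sm ga N4711 = N4711 := ded_16_1 (flp_i L37367) L27351 L37367
theorem L37370 : sm gb N4711 = N3450 := ded_23_1 (flp_i L27418) (flp_b L27352) L37367
theorem L37372 : sm gd N4711 = N3443 := ded_34_1 (flp_i L27357) L27349 L37367
theorem L37374 : sm gg N4711 = N4711 := ded_43_1 (flp_i L37367) L27354 L37367
theorem L37375 : sm gf N3444 = N4712 := rfl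
theorem L37385 : sm gh N3444 = N4713 := rfl
theorem L37387 : sm ga N4713 = N3457 := ded_15_1 (flp_h L27474) (flp_a L27367) L37385
theorem L37391 : sm ge N4713 = N3446 := ded_37_1 (flp_h L27384) (flp_e L27372) L37385
theorem L37393 : sm gg N4713 = N3445 := ded_42_1 (flp_h L27375) L27365 L37385
theorem L37395 : sm gd N3445 = N4714 := rfl
theorem L37397 : sm ga N4714 = N3458 := ded_11_1 (flp_d L27483) (flp_a L27377) L37395
theorem L37399 : sm gf N4714 = N4714 := ded_31_2 (flp_d L37395) L27383 L37395
theorem L37400 : sm gh N4714 = N4714 := ded_33_2 (flp_d L37395) (flp_h L27375) L20096 L27375 L37395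
theorem L37401 : sm gi N3445 = N4715 := rfl
theorem L37403 : sm ga N4715 = N3459 := ded_16_1 (flp_i L27488) (flp_a L27377) L37401
theorem L37405 : sm gc N4715 = N3454 := ded_29_1 (flp_i L27449) (flp_c L27379) L37401
theorem L37407 : sm ge N4715 = N3448 := ded_38_1 (flp_i L27401) (flp_e L27381) L37401
theorem L37409 : sm gf N4715 = N4715 := ded_41_1 (flp_i L37401) L27383 L37401
theorem L37410 : sm gh N4715 = N4715 := ded_44_1 (flp_i L37401) (flp_h L27375) L20095 L27375 L37401
theorem L37411 : sm gd N3446 = N4716 := rfl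
theorem L37413 : sm ga N4716 = N3460 := ded_11_1 (flp_d L27497) (flp_a L27386) L37411
theorem L37415 : sm gf N4716 = N4716 := ded_31_2 (flp_d L37411) L27390 L37411
theorem L37416 : sm gg N4716 = N3447 := ded_32_2 (flp_d L27393) (flp_g L27391) L37411
theorem L37418 : sm gh N4716 = N3687 := ded_33_2 (flp_d L29228) (flp_h L21496) (flp_d L20104) L27384 L37411
theorem L37420 : sm gi N3446 = N4717 := rfl
theorem L37422 : sm ga N4717 = N3461 := ded_16_1 (flp_i L27505) (flp_a L27386) L37420
theorem L37424 : sm gc N4717 = N3455 := ded_29_1 (flp_i L27457) (flp_c L27388) L37420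
theorem L37426 : sm gf N4717 = N4717 := ded_41_1 (flp_i L37420) L27390 L37420
theorem L37427 : sm gg N4717 = N3448 := ded_43_1 (flp_i L27401) (flp_g L27391) L37420
theorem L37429 : sm gh N4717 = N4717 := ded_44_1 (flp_i L37420) (flp_h L27384) L20106 L27384 L37420
theorem L37430 : sm ge N3447 = N4718 := rfl
theorem L37432 : sm ga N4718 = N3462 := ded_12_1 (flp_e L27514) (flp_a L27395) L37430
theorem L37434 : sm gh N4718 = N3689 := ded_37_2 (flp_e L29246) (flp_h L27399) L37430
theorem L37436 : sm gi N3447 = N4719 := rfl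
theorem L37438 : sm ga N4719 = N3463 := ded_16_1 (flp_i L27519) (flp_a L27395) L37436
theorem L37440 : sm gd N4719 = N3448 := ded_34_1 (flp_i L27401) L27393 L37436
theorem L37442 : sm gf N4719 = N3450 := ded_41_1 (flp_i L27418) (flp_f L27397) L37436
theorem L37444 : sm gf N3449 = N4720 := rfl
theorem L37446 : sm ga N4720 = N3464 := ded_13_1 (flp_f L27526) (flp_a L27412) L37444
theorem L37448 : sm gd N4720 = N4720 := ded_31_1 (flp_f L37444) L27417 L37444
theorem L37449 : sm gh N4720 = N3691 := ded_40_2 (flp_f L29259) (flp_h L27415) L37444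
theorem L37451 : sm gi N3449 = N4721 := rfl
theorem L37453 : sm ga N4721 = N3465 := ded_16_1 (flp_i L27532) (flp_a L27412) L37451
theorem L37455 : sm gd N4721 = N4721 := ded_34_1 (flp_i L37451) L27417 L37451
theorem L37456 : sm ge N4721 = N3450 := ded_38_1 (flp_i L27418) L27410 L37451
theorem L37458 : sm gg N4721 = N4721 := ded_43_1 (flp_i L37451) L27414 L37451
theorem L37459 : sm gh N3450 = N4722 := rfl
theorem L37461 : sm ga N4722 = N3466 := ded_15_1 (flp_h L27539) (flp_a L27420) L37459
theorem L37463 : sm gg N4722 = N4722 := ded_42_1 (flp_h L37459) L27424 L37459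
theorem L37464 : sm gd N4722 = N4722 := ded_33_1 (flp_h L37459) L27422 L20131 (flp_d L27422) L37459
theorem L37465 : sm gi N4722 = N3693 := ded_44_2 (flp_h L29274) (flp_i L21529) (flp_h L20121) L27418 L37459
theorem L37475 : sm gd N3452 = N4724 := rfl
theorem L37477 : sm ga N4724 = N3468 := ded_11_1 (flp_d L27554) (flp_a L27436) L37475
theorem L37479 : sm gg N4724 = N3453 := ded_32_2 (flp_d L27442) (flp_g L27440) L37475
theorem L37481 : sm gh N4724 = N3480 := ded_33_2 (flp_d L27639) (flp_h L20296) (flp_d L20136) L27434 L37475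
theorem L37483 : sm gi N3452 = N4725 := rfl
theorem L37489 : sm gg N4725 = N3454 := ded_43_1 (flp_i L27449) (flp_g L27440) L37483
theorem L37492 : sm gc N3453 = N4726 := rfl
theorem L37494 : sm ga N4726 = N3470 := ded_10_1 (flp_c L27571) (flp_a L27444) L37492
theorem L37496 : sm gf N4726 = N4726 := ded_26_2 (flp_c L37492) L27446 L37492
theorem L37497 : sm gh N4726 = N3482 := ded_28_2 (flp_c L27655) (flp_h L27447) L37492
theorem L37499 : sm gi N3453 = N4727 := rfl
theorem L37501 : sm ga N4727 = N3471 := ded_16_1 (flp_i L27576) (flp_a L27444) L37499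
theorem L37503 : sm gd N4727 = N3454 := ded_34_1 (flp_i L27449) L27442 L37499
theorem L37505 : sm gf N4727 = N4727 := ded_41_1 (flp_i L37499) L27446 L37499
theorem L37515 : sm gd N3457 = N4729 := rfl
theorem L37518 : sm gg N4729 = N3458 := ded_32_2 (flp_d L27483) (flp_g L27481) L37515
theorem L37531 : sm gc N3458 = N4731 := rfl
theorem L37533 : sm gf N4731 = N4731 := ded_26_2 (flp_c L37531) L27486 L37531
theorem L37534 : sm gh N4731 = N4731 := ded_28_2 (flp_c L37531) L27487 L37531
theorem L37535 : sm gd N4731 = N3470 := ded_24_2 (flp_c L27571) (flp_d L20232) (flp_c L20174) L27483 L37531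
theorem L37537 : sm ge N3458 = N4732 := rfl
theorem L37539 : sm gb N4732 = N4732 := ded_19_1 (flp_e L37537) L27485 L37537
theorem L37540 : sm gh N4732 = N4732 := ded_37_2 (flp_e L37537) L27487 L37537
theorem L37541 : sm gd N4732 = N3462 := ded_30_1 (flp_e L27514) (flp_d L20187) (flp_e L20176) L27483 L37537
theorem L37543 : sm gi N3458 = N4733 := rfl
theorem L37545 : sm gb N4733 = N4733 := ded_23_1 (flp_i L37543) L27485 L37543
theorem L37546 : sm gd N4733 = N3459 := ded_34_1 (flp_i L27488) L27483 L37543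
theorem L37548 : sm gf N4733 = N4733 := ded_41_1 (flp_i L37543) L27486 L37543
theorem L37549 : sm ge N3460 = N4734 := rfl
theorem L37551 : sm gb N4734 = N4734 := ded_19_1 (flp_e L37549) L27499 L37549
theorem L37552 : sm gg N4734 = N3462 := ded_36_2 (flp_e L27514) (flp_g L27501) L37549
theorem L37554 : sm gh N4734 = N3694 := ded_37_2 (flp_e L29280) (flp_h L27503) L37549
theorem L37556 : sm gi N3460 = N4735 := rfl
theorem L37558 : sm gb N4735 = N4735 := ded_23_1 (flp_i L37556) L27499 L37556
theorem L37559 : sm gd N4735 = N3461 := ded_34_1 (flp_i L27505) L27497 L37556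
theorem L37561 : sm gf N4735 = N4735 := ded_41_1 (flp_i L37556) L27500 L37556
theorem L37562 : sm gg N4735 = N3463 := ded_43_1 (flp_i L27519) (flp_g L27501) L37556
theorem L37564 : sm gf N3462 = N4736 := rfl
theorem L37566 : sm gb N4736 = N4736 := ded_20_1 (flp_f L37564) L27516 L37564
theorem L37567 : sm gh N4736 = N3696 := ded_40_2 (flp_f L29294) (flp_h L27517) L37564
theorem L37569 : sm ge N4736 = N3464 := ded_35_1 (flp_f L27526) (flp_e L20202) (flp_f L20190) L27514 L37564
theorem L37571 : sm gi N3462 = N4737 := rfl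
theorem L37573 : sm gb N4737 = N4737 := ded_23_1 (flp_i L37571) L27516 L37571
theorem L37574 : sm ge N4737 = N3463 := ded_38_1 (flp_i L27519) L27514 L37571
theorem L37576 : sm gh N3463 = N4738 := rfl
theorem L37578 : sm gb N4738 = N4738 := ded_22_1 (flp_h L37576) L27521 L37576
theorem L37579 : sm gf N4738 = N3466 := ded_40_1 (flp_h L27539) (flp_f L27524) L37576
theorem L37581 : sm gd N4738 = N4738 := ded_33_1 (flp_h L37576) L27522 L20201 (flp_d L27522) L37576
theorem L37582 : sm gi N4738 = N3698 := ded_44_2 (flp_h L29306) (flp_i L21566) (flp_h L20192) L27519 L37576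
theorem L37584 : sm gg N3464 = N4739 := rfl
theorem L37586 : sm gb N4739 = N4739 := ded_21_1 (flp_g L37584) L27528 L37584
theorem L37587 : sm gd N4739 = N4739 := ded_32_1 (flp_g L37584) L27529 L37584
theorem L37588 : sm gh N4739 = N3699 := ded_42_2 (flp_g L29312) (flp_h L27530) L37584
theorem L37590 : sm gf N4739 = N4739 := ded_39_1 (flp_g L37584) (flp_f L27526) L20205 L27526 L37584
theorem L37591 : sm gi N3464 = N4740 := rfl
theorem L37593 : sm gb N4740 = N4740 := ded_23_1 (flp_i L37591) L27528 L37591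
theorem L37594 : sm gd N4740 = N4740 := ded_34_1 (flp_i L37591) L27529 L37591
theorem L37595 : sm gf N4740 = N3465 := ded_41_1 (flp_i L27532) L27526 L37591
theorem L37597 : sm gh N3465 = N4741 := rfl
theorem L37599 : sm gb N4741 = N4741 := ded_22_1 (flp_h L37597) L27534 L37597
theorem L37600 : sm ge N4741 = N3466 := ded_37_1 (flp_h L27539) (flp_e L27536) L37597
theorem L37602 : sm gg N4741 = N4741 := ded_42_1 (flp_h L37597) L27538 L37597
theorem L37603 : sm gi N4741 = N3701 := ded_44_2 (flp_h L29325) (flp_i L21578) (flp_h L20206) L27532 L37597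
theorem L37605 : sm gd N3467 = N4742 := rfl
theorem L37609 : sm gf N4742 = N3468 := ded_31_2 (flp_d L27554) (flp_f L27551) L37605
theorem L37612 : sm gh N4742 = N3484 := ded_33_2 (flp_d L27668) (flp_h L20329) (flp_d L20219) L27546 L37605
theorem L37623 : sm gc N3468 = N4744 := rfl
theorem L37625 : sm gg N4744 = N3470 := ded_27_2 (flp_c L27571) (flp_g L27558) L37623
theorem L37627 : sm gh N4744 = N3486 := ded_28_2 (flp_c L27686) (flp_h L27560) L37623
theorem L37629 : sm gi N3468 = N4745 := rfl
theorem L37631 : sm gb N4745 = N3475 := ded_23_1 (flp_i L27605) (flp_b L27556) L37629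
theorem L37635 : sm gg N4745 = N3471 := ded_43_1 (flp_i L27576) (flp_g L27558) L37629
theorem L37637 : sm gb N3470 = N4746 := rfl
theorem L37639 : sm gf N4746 = N4746 := ded_20_2 (flp_b L37637) L27573 L37637
theorem L37640 : sm gh N4746 = N3488 := ded_22_2 (flp_b L27699) (flp_h L27574) L37637
theorem L37642 : sm gc N4746 = N3476 := ded_17_2 (flp_b L27611) (flp_c L20276) (flp_b L20234) L27571 L37637
theorem L37644 : sm gi N3470 = N4747 := rfl
theorem L37646 : sm gc N4747 = N3471 := ded_29_1 (flp_i L27576) L27571 L37644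
theorem L37648 : sm gf N4747 = N4747 := ded_41_1 (flp_i L37644) L27573 L37644
theorem L37649 : sm gh N3471 = N4748 := rfl
theorem L37657 : sm gc N3472 = N4749 := rfl
theorem L37662 : sm gh N4749 = N3491 := ded_28_2 (flp_c L27717) (flp_h L27588) L37657
theorem L37665 : sm ge N3472 = N4750 := rfl
theorem L37668 : sm gh N4750 = N3492 := ded_37_2 (flp_e L27724) (flp_h L27588) L37665
theorem L37678 : sm gb N3474 = N4752 := rfl
theorem L37681 : sm gg N4752 = N3476 := ded_21_2 (flp_b L27611) (flp_g L27600) L37678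
theorem L37683 : sm gh N4752 = N3494 := ded_22_2 (flp_b L27736) (flp_h L27602) L37678
theorem L37685 : sm gi N3474 = N4753 := rfl
theorem L37687 : sm gc N4753 = N3475 := ded_29_1 (flp_i L27605) L27598 L37685
theorem L37690 : sm gg N4753 = N3477 := ded_43_1 (flp_i L27617) (flp_g L27600) L37685
theorem L37692 : sm gh N3475 = N4754 := rfl
theorem L37694 : sm gg N4754 = N3478 := ded_42_1 (flp_h L27623) (flp_g L27609) L37692
theorem L37697 : sm gi N4754 = N3496 := ded_44_2 (flp_h L27750) (flp_i L20387) (flp_h L20266) L27605 L37692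
theorem L37699 : sm ga N3476 = N4755 := rfl
theorem L37701 : sm gd N4755 = N4755 := ded_11_2 (flp_a L37699) L27613 L37699
theorem L37702 : sm gf N4755 = N4755 := ded_13_2 (flp_a L37699) L27614 L37699
theorem L37703 : sm gh N4755 = N3497 := ded_15_2 (flp_a L27755) (flp_h L27615) L37699
theorem L37705 : sm gi N3476 = N4756 := rfl
theorem L37707 : sm gb N4756 = N3477 := ded_23_1 (flp_i L27617) L27611 L37705
theorem L37709 : sm gd N4756 = N4756 := ded_34_1 (flp_i L37705) L27613 L37705
theorem L37710 : sm gf N4756 = N4756 := ded_41_1 (flp_i L37705) L27614 L37705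
theorem L37711 : sm gh N3477 = N4757 := rfl
theorem L37716 : sm gi N4757 = N3499 := ded_44_2 (flp_h L27767) (flp_i L20398) (flp_h L20279) L27617 L37711
theorem L37718 : sm gd N3479 = N4758 := rfl
theorem L37720 : sm ga N4758 = N3484 := ded_11_1 (flp_d L27668) (flp_a L27631) L37718
theorem L37722 : sm gf N4758 = N3480 := ded_31_2 (flp_d L27639) (flp_f L27636) L37718
theorem L37736 : sm gc N3480 = N4760 := rfl
theorem L37738 : sm ga N4760 = N3486 := ded_10_1 (flp_c L27686) (flp_a L27641) L37736
theorem L37740 : sm gg N4760 = N3482 := ded_27_2 (flp_c L27655) (flp_g L27643) L37736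
theorem L37751 : sm gb N3482 = N4762 := rfl
theorem L37753 : sm gd N4762 = N4762 := ded_18_2 (flp_b L37751) L27660 L37751
theorem L37754 : sm gf N4762 = N4762 := ded_20_2 (flp_b L37751) L27659 L37751
theorem L37755 : sm gi N3482 = N4763 := rfl
theorem L37757 : sm ga N4763 = N3489 := ded_16_1 (flp_i L27705) (flp_a L27657) L37755
theorem L37769 : sm gc N3484 = N4765 := rfl
theorem L37775 : sm ge N3484 = N4766 := rfl
theorem L37791 : sm gb N3486 = N4768 := rfl
theorem L37794 : sm gg N4768 = N3488 := ded_21_2 (flp_b L27699) (flp_g L27688) L37791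
theorem L37796 : sm gc N4768 = N3494 := ded_17_2 (flp_b L27736) (flp_c L20381) (flp_b L20341) L27686 L37791
theorem L37798 : sm gi N3486 = N4769 := rfl
theorem L37803 : sm gg N4769 = N3489 := ded_43_1 (flp_i L27705) (flp_g L27688) L37798
theorem L37812 : sm ga N3488 = N4771 := rfl
theorem L37814 : sm gc N4771 = N3497 := ded_10_2 (flp_a L27755) (flp_c L27703) L37812
theorem L37816 : sm gd N4771 = N4771 := ded_11_2 (flp_a L37812) L27701 L37812
theorem L37817 : sm gf N4771 = N4771 := ded_13_2 (flp_a L37812) L27702 L37812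
theorem L37818 : sm gi N3488 = N4772 := rfl
theorem L37820 : sm gb N4772 = N3489 := ded_23_1 (flp_i L27705) L27699 L37818
theorem L37826 : sm gh N3489 = N4773 := rfl
theorem L37831 : sm gb N3491 = N4774 := rfl
theorem L37838 : sm ge N3491 = N4775 := rfl
theorem L37840 : sm gc N4775 = N3492 := ded_25_1 (flp_e L27724) L27717 L37838
theorem L37843 : sm gi N3491 = N4776 := rfl
theorem L37847 : sm gd N4776 = N3502 := ded_34_1 (flp_i L27786) (flp_d L27722) L37843
theorem L37852 : sm gi N3492 = N4777 := rfl
theorem L37854 : sm gd N4777 = N3998 := ded_34_1 (flp_i L31666) (flp_d L27727) L37852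
theorem L37865 : sm ga N3494 = N4779 := rfl
theorem L37885 : sm gi N3497 = N4782 := rfl
theorem L37897 : sm gd N3499 = N4784 := rfl
theorem L37901 : sm gh N4784 = N3510 := ded_33_2 (flp_d L27848) (flp_h L20466) (flp_d L20402) L27767 L37897
theorem L37910 : sm ge N3500 = N4786 := rfl
theorem L37912 : sm gb N4786 = N3501 := ded_19_1 (flp_e L27779) L27772 L37910
theorem L37918 : sm gi N3500 = N4787 := rfl
theorem L37923 : sm gf N4787 = N3506 := ded_41_1 (flp_i L27817) (flp_f L27774) L37918
theorem L37926 : sm gd N3501 = N4788 := rfl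
theorem L37932 : sm gi N3501 = N4789 := rfl
theorem L37940 : sm gh N3502 = N4790 := rfl
theorem L37944 : sm gf N4790 = N3507 := ded_40_1 (flp_h L27825) (flp_f L27790) L37940
theorem L37964 : sm gh N3506 = N4793 := rfl
theorem L37973 : sm gd N3507 = N4794 := rfl
theorem L37975 : sm gg N4794 = N3510 := ded_32_2 (flp_d L27848) (flp_g L27830) L37973
theorem L37998 : sm gc N3511 = N4798 := rfl
theorem L38000 : sm ga N4798 = N3513 := ded_10_1 (flp_c L27871) (flp_a L27855) L37998
theorem L38002 : sm ge N4798 = N3521 := ded_25_2 (flp_c L27935) (flp_e L27860) L37998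
theorem L38004 : sm gg N4798 = N4798 := ded_27_2 (flp_c L37998) L27858 L37998
theorem L38005 : sm gi N4798 = N4798 := ded_29_2 (flp_c L37998) L27859 L37998
theorem L38006 : sm gd N4798 = N4798 := ded_24_2 (flp_c L37998) (flp_d L27853) L20478 L27853 L37998
theorem L38007 : sm gf N3511 = N4799 := rfl
theorem L38009 : sm ga N4799 = N3514 := ded_13_1 (flp_f L27879) (flp_a L27855) L38007
theorem L38015 : sm gh N3511 = N4800 := rfl
theorem L38020 : sm ge N4800 = N3523 := ded_37_1 (flp_h L27949) (flp_e L27860) L38015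
theorem L38024 : sm gg N3512 = N4801 := rfl
theorem L38026 : sm ga N4801 = N3516 := ded_14_1 (flp_g L27894) (flp_a L27864) L38024
theorem L38034 : sm gf N3513 = N4802 := rfl
theorem L38041 : sm gh N3513 = N4803 := rfl
theorem L38046 : sm ge N4803 = N3526 := ded_37_1 (flp_h L27973) (flp_e L27873) L38041
theorem L38049 : sm ge N3514 = N4804 := rfl
theorem L38055 : sm gf N4804 = N3527 := ded_35_2 (flp_e L27979) (flp_f L20543) (flp_e L20488) L27879 L38049
theorem L38081 : sm gg N3517 = N4808 := rfl
theorem L38086 : sm ge N4808 = N3518 := ded_36_1 (flp_g L27911) L27903 L38081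
theorem L38089 : sm gh N3517 = N4809 := rfl
theorem L38095 : sm gf N4809 = N3532 := ded_40_1 (flp_h L28017) (flp_f L27909) L38089
theorem L38097 : sm gh N3518 = N4810 := rfl
theorem L38102 : sm gg N4810 = N3519 := ded_42_1 (flp_h L27919) L27911 L38097
theorem L38105 : sm gi N3519 = N4811 := rfl
theorem L38113 : sm gb N3521 = N4812 := rfl
theorem L38115 : sm gg N4812 = N4812 := ded_21_2 (flp_b L38113) L27939 L38113
theorem L38116 : sm gi N4812 = N4812 := ded_23_2 (flp_b L38113) L27940 L38113
theorem L38117 : sm ga N4812 = N4812 := ded_9_1 (flp_b L38113) L27937 L20542 (flp_a L27937) L38113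
theorem L38118 : sm gc N4812 = N4812 := ded_17_2 (flp_b L38113) (flp_c L27935) L20526 L27935 L38113
theorem L38119 : sm gf N3521 = N4813 := rfl
theorem L38121 : sm ga N4813 = N3525 := ded_13_1 (flp_f L27967) (flp_a L27937) L38119
theorem L38123 : sm gc N4813 = N3522 := ded_26_1 (flp_f L27941) L27935 L38119
theorem L38125 : sm gi N4813 = N4813 := ded_41_2 (flp_f L38119) L27940 L38119
theorem L38126 : sm gh N3521 = N4814 := rfl
theorem L38128 : sm ga N4814 = N3526 := ded_15_1 (flp_h L27973) (flp_a L27937) L38126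
theorem L38130 : sm gc N4814 = N3523 := ded_28_1 (flp_h L27949) L27935 L38126
theorem L38132 : sm gg N4814 = N4814 := ded_42_1 (flp_h L38126) L27939 L38126
theorem L38133 : sm ge N3522 = N4815 := rfl
theorem L38135 : sm ga N4815 = N3527 := ded_12_1 (flp_e L27979) (flp_a L27943) L38133
theorem L38140 : sm gg N3522 = N4816 := rfl
theorem L38145 : sm gd N4816 = N3524 := ded_32_1 (flp_g L27957) (flp_d L27946) L38140
theorem L38149 : sm gh N3522 = N4817 := rfl
theorem L38154 : sm gf N4817 = N3523 := ded_40_1 (flp_h L27949) L27941 L38149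
theorem L38156 : sm gd N4817 = N3540 := ded_33_1 (flp_h L28085) L20609 (flp_h L20534) (flp_d L27946) L38149
theorem L38158 : sm gi N3523 = N4818 := rfl
theorem L38167 : sm ge N3525 = N4819 := rfl
theorem L38173 : sm gg N3525 = N4820 := rfl
theorem L38180 : sm gh N3525 = N4821 := rfl
theorem L38183 : sm gc N4821 = N3529 := ded_28_1 (flp_h L27993) (flp_c L27970) L38180
theorem L38185 : sm gf N4821 = N3526 := ded_40_1 (flp_h L27973) L27967 L38180
theorem L38187 : sm gd N3526 = N4822 := rfl
theorem L38189 : sm gb N4822 = N4822 := ded_18_1 (flp_d L38187) L27975 L38187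
theorem L38190 : sm gg N4822 = N4822 := ded_32_2 (flp_d L38187) L27978 L38187
theorem L38191 : sm gc N4822 = N3545 := ded_24_1 (flp_d L28127) L20641 (flp_d L20555) (flp_c L27976) L38187
theorem L38193 : sm gi N3526 = N4823 := rfl
theorem L38208 : sm gh N3527 = N4825 := rfl
theorem L38232 : sm gf N3531 = N4828 := rfl
theorem L38239 : sm gh N3531 = N4829 := rfl
theorem L38245 : sm gg N4829 = N3532 := ded_42_1 (flp_h L28017) L28009 L38239
theorem L38247 : sm gd N3532 = N4830 := rfl
theorem L38250 : sm ge N4830 = N3553 := ded_30_2 (flp_d L28192) L20691 (flp_d L20586) (flp_e L28021) L38247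
theorem L38260 : sm gi N3533 = N4832 := rfl
theorem L38267 : sm gg N4832 = N3534 := ded_43_1 (flp_i L28032) (flp_g L28028) L38260
theorem L38270 : sm gf N3535 = N4833 := rfl
theorem L38272 : sm ga N4833 = N3584 := ded_13_1 (flp_f L28435) (flp_a L28047) L38270
theorem L38274 : sm gb N4833 = N3536 := ded_20_1 (flp_f L28050) L28041 L38270
theorem L38276 : sm gc N4833 = N4833 := ded_26_1 (flp_f L38270) L28049 L38270
theorem L38277 : sm gi N4833 = N3556 := ded_41_2 (flp_f L28217) (flp_i L28045) L38270
theorem L38279 : sm gh N3535 = N4834 := rfl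
theorem L38281 : sm ga N4834 = N3585 := ded_15_1 (flp_h L28442) (flp_a L28047) L38279
theorem L38283 : sm gb N4834 = N3537 := ded_22_1 (flp_h L28058) L28041 L38279
theorem L38285 : sm gc N4834 = N4834 := ded_28_1 (flp_h L38279) L28049 L38279
theorem L38286 : sm ge N4834 = N4834 := ded_37_1 (flp_h L38279) L28043 L38279
theorem L38287 : sm gg N4834 = N4834 := ded_42_1 (flp_h L38279) L28044 L38279
theorem L38288 : sm ge N3536 = N4835 := rfl
theorem L38290 : sm ga N4835 = N3542 := ded_12_1 (flp_e L28101) (flp_a L28052) L38288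
theorem L38292 : sm gc N4835 = N3538 := ded_25_1 (flp_e L28066) (flp_c L28054) L38288
theorem L38294 : sm gi N4835 = N3558 := ded_38_2 (flp_e L28233) (flp_i L28056) L38288
theorem L38296 : sm gf N4835 = N4835 := ded_35_2 (flp_e L38288) (flp_f L28050) L20600 L28050 L38288
theorem L38297 : sm gg N3536 = N4836 := rfl
theorem L38299 : sm ga N4836 = N3543 := ded_14_1 (flp_g L28110) (flp_a L28052) L38297
theorem L38301 : sm gc N4836 = N3539 := ded_27_1 (flp_g L28075) (flp_c L28054) L38297
theorem L38303 : sm gi N4836 = N3559 := ded_43_2 (flp_g L28240) (flp_i L28056) L38297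
theorem L38305 : sm gf N4836 = N4836 := ded_39_1 (flp_g L38297) (flp_f L28050) L20601 L28050 L38297
theorem L38306 : sm gh N3536 = N4837 := rfl
theorem L38308 : sm ga N4837 = N3544 := ded_15_1 (flp_h L28119) (flp_a L28052) L38306
theorem L38310 : sm gc N4837 = N3540 := ded_28_1 (flp_h L28085) (flp_c L28054) L38306
theorem L38312 : sm gf N4837 = N3537 := ded_40_1 (flp_h L28058) L28050 L38306
theorem L38314 : sm gd N3537 = N4838 := rfl
theorem L38316 : sm ga N4838 = N3545 := ded_11_1 (flp_d L28127) (flp_a L28060) L38314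
theorem L38318 : sm gg N4838 = N4838 := ded_32_2 (flp_d L38314) L28065 L38314
theorem L38319 : sm gi N3537 = N4839 := rfl
theorem L38321 : sm ga N4839 = N3546 := ded_16_1 (flp_i L28132) (flp_a L28060) L38319
theorem L38323 : sm gc N4839 = N3541 := ded_29_1 (flp_i L28092) (flp_c L28062) L38319
theorem L38325 : sm ge N4839 = N4839 := ded_38_1 (flp_i L38319) L28064 L38319
theorem L38326 : sm gg N4839 = N4839 := ded_43_1 (flp_i L38319) L28065 L38319
theorem L38327 : sm gh N4839 = N3562 := ded_44_1 (flp_i L28261) (flp_h L20724) (flp_i L20602) L28058 L38319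
theorem L38329 : sm gg N3538 = N4840 := rfl
theorem L38337 : sm gi N4840 = N3563 := ded_43_2 (flp_g L28269) (flp_i L28071) L38329
theorem L38339 : sm gh N3538 = N4841 := rfl
theorem L38344 : sm ge N4841 = N3540 := ded_37_1 (flp_h L28085) L28066 L38339
theorem L38355 : sm gi N3540 = N4843 := rfl
theorem L38362 : sm gh N4843 = N3566 := ded_44_1 (flp_i L28294) (flp_h L20747) (flp_i L20611) L28085 L38355
theorem L38364 : sm gd N3542 = N4844 := rfl
theorem L38366 : sm gb N4844 = N3595 := ded_18_1 (flp_d L28529) (flp_b L28103) L38364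
theorem L38368 : sm gf N4844 = N4844 := ded_31_2 (flp_d L38364) L28109 L38364
theorem L38369 : sm gi N4844 = N3567 := ded_34_2 (flp_d L28302) (flp_i L28107) L38364
theorem L38371 : sm gc N4844 = N4844 := ded_24_1 (flp_d L38364) L28105 L20651 (flp_c L28105) L38364
theorem L38372 : sm gg N3542 = N4845 := rfl
theorem L38378 : sm ge N4845 = N3543 := ded_36_1 (flp_g L28110) L28101 L38372
theorem L38380 : sm gi N4845 = N3568 := ded_43_2 (flp_g L28308) (flp_i L28107) L38372
theorem L38382 : sm gh N3542 = N4846 := rfl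
theorem L38391 : sm gh N3543 = N4847 := rfl
theorem L38393 : sm gb N4847 = N3598 := ded_22_1 (flp_h L28551) (flp_b L28112) L38391
theorem L38395 : sm gc N4847 = N3549 := ded_28_1 (flp_h L28158) (flp_c L28114) L38391
theorem L38398 : sm gg N4847 = N3544 := ded_42_1 (flp_h L28119) L28110 L38391
theorem L38400 : sm gd N3544 = N4848 := rfl
theorem L38402 : sm gb N4848 = N3599 := ded_18_1 (flp_d L28558) (flp_b L28121) L38400
theorem L38404 : sm gf N4848 = N3545 := ded_31_2 (flp_d L28127) (flp_f L28125) L38400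
theorem L38406 : sm gi N3544 = N4849 := rfl
theorem L38414 : sm gh N4849 = N3572 := ded_44_1 (flp_i L28341) (flp_h L20777) (flp_i L20635) L28119 L38406
theorem L38416 : sm ge N3545 = N4850 := rfl
theorem L38418 : sm gb N4850 = N3601 := ded_19_1 (flp_e L28571) (flp_b L28129) L38416
theorem L38420 : sm gg N4850 = N4850 := ded_36_2 (flp_e L38416) L28131 L38416
theorem L38421 : sm gd N4850 = N4850 := ded_30_1 (flp_e L38416) (flp_d L28127) L20643 L28127 L38416
theorem L38422 : sm gi N3545 = N4851 := rfl
theorem L38424 : sm gb N4851 = N3602 := ded_23_1 (flp_i L28576) (flp_b L28129) L38422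
theorem L38426 : sm gd N4851 = N3546 := ded_34_1 (flp_i L28132) L28127 L38422
theorem L38428 : sm gg N4851 = N4851 := ded_43_1 (flp_i L38422) L28131 L38422
theorem L38429 : sm gf N3547 = N4852 := rfl
theorem L38431 : sm gb N4852 = N3551 := ded_20_1 (flp_f L28173) (flp_b L28144) L38429
theorem L38434 : sm gi N4852 = N3575 := ded_41_2 (flp_f L28364) (flp_i L28149) L38429
theorem L38436 : sm ge N4852 = N4852 := ded_35_1 (flp_f L38429) L28147 L20661 (flp_e L28147) L38429
theorem L38438 : sm gh N3547 = N4853 := rfl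
theorem L38444 : sm gg N4853 = N3548 := ded_42_1 (flp_h L28151) L28142 L38438
theorem L38446 : sm gd N3548 = N4854 := rfl
theorem L38452 : sm gi N3548 = N4855 := rfl
theorem L38459 : sm gh N4855 = N3578 := ded_44_1 (flp_i L28386) (flp_h L20806) (flp_i L20649) L28151 L38452
theorem L38461 : sm gi N3549 = N4856 := rfl
theorem L38468 : sm gh N4856 = N3579 := ded_44_1 (flp_i L28393) (flp_h L20813) (flp_i L20659) L28158 L38461
theorem L38470 : sm gh N3551 = N4857 := rfl
theorem L38496 : sm gc N3553 = N4860 := rfl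
theorem L38501 : sm gd N4860 = N3611 := ded_24_2 (flp_c L28651) (flp_d L21012) (flp_c L20689) L28192 L38496
theorem L38509 : sm ge N3556 = N4862 := rfl
theorem L38511 : sm ga N4862 = N3613 := ded_12_1 (flp_e L28666) (flp_a L28219) L38509
theorem L38513 : sm gb N4862 = N3558 := ded_19_1 (flp_e L28233) (flp_b L28221) L38509
theorem L38515 : sm gc N4862 = N4862 := ded_25_1 (flp_e L38509) L28223 L38509
theorem L38516 : sm gf N4862 = N4862 := ded_35_2 (flp_e L38509) (flp_f L28217) L20713 L28217 L38509
theorem L38517 : sm gg N3556 = N4863 := rfl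
theorem L38519 : sm ga N4863 = N3614 := ded_14_1 (flp_g L28672) (flp_a L28219) L38517
theorem L38521 : sm gb N4863 = N3559 := ded_21_1 (flp_g L28240) (flp_b L28221) L38517
theorem L38523 : sm gc N4863 = N4863 := ded_27_1 (flp_g L38517) L28223 L38517
theorem L38524 : sm gf N4863 = N4863 := ded_39_1 (flp_g L38517) (flp_f L28217) L20714 L28217 L38517
theorem L38525 : sm gh N3556 = N4864 := rfl
theorem L38527 : sm ga N4864 = N3615 := ded_15_1 (flp_h L28678) (flp_a L28219) L38525
theorem L38529 : sm gb N4864 = N3560 := ded_22_1 (flp_h L28247) (flp_b L28221) L38525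
theorem L38531 : sm gc N4864 = N4864 := ded_28_1 (flp_h L38525) L28223 L38525
theorem L38532 : sm gf N4864 = N3557 := ded_40_1 (flp_h L28224) L28217 L38525
theorem L38534 : sm gd N3557 = N4865 := rfl
theorem L38536 : sm ga N4865 = N3616 := ded_11_1 (flp_d L28685) (flp_a L28226) L38534
theorem L38538 : sm gb N4865 = N3561 := ded_18_1 (flp_d L28255) (flp_b L28228) L38534
theorem L38540 : sm gg N4865 = N4865 := ded_32_2 (flp_d L38534) L28232 L38534
theorem L38541 : sm gi N3557 = N4866 := rfl
theorem L38543 : sm ga N4866 = N3617 := ded_16_1 (flp_i L28690) (flp_a L28226) L38541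
theorem L38545 : sm gb N4866 = N3562 := ded_23_1 (flp_i L28261) (flp_b L28228) L38541
theorem L38547 : sm gc N4866 = N4866 := ded_29_1 (flp_i L38541) L28230 L38541
theorem L38548 : sm ge N4866 = N4866 := ded_38_1 (flp_i L38541) L28231 L38541
theorem L38549 : sm gg N4866 = N4866 := ded_43_1 (flp_i L38541) L28232 L38541
theorem L38550 : sm gd N3558 = N4867 := rfl
theorem L38552 : sm ga N4867 = N3567 := ded_11_1 (flp_d L28302) (flp_a L28235) L38550
theorem L38554 : sm gf N4867 = N4867 := ded_31_2 (flp_d L38550) L28239 L38550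
theorem L38555 : sm gc N4867 = N4867 := ded_24_1 (flp_d L38550) L28237 L20737 (flp_c L28237) L38550
theorem L38556 : sm gg N3558 = N4868 := rfl
theorem L38558 : sm ga N4868 = N3568 := ded_14_1 (flp_g L28308) (flp_a L28235) L38556
theorem L38560 : sm gc N4868 = N3563 := ded_27_1 (flp_g L28269) (flp_c L28237) L38556
theorem L38562 : sm ge N4868 = N3559 := ded_36_1 (flp_g L28240) L28233 L38556
theorem L38564 : sm gh N3558 = N4869 := rfl
theorem L38566 : sm ga N4869 = N3569 := ded_15_1 (flp_h L28316) (flp_a L28235) L38564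
theorem L38568 : sm gc N4869 = N3564 := ded_28_1 (flp_h L28277) (flp_c L28237) L38564
theorem L38570 : sm ge N4869 = N3560 := ded_37_1 (flp_h L28247) L28233 L38564
theorem L38572 : sm gf N4869 = N4869 := ded_40_1 (flp_h L38564) L28239 L38564
theorem L38573 : sm gh N3559 = N4870 := rfl
theorem L38575 : sm ga N4870 = N3570 := ded_15_1 (flp_h L28325) (flp_a L28242) L38573
theorem L38577 : sm gc N4870 = N3565 := ded_28_1 (flp_h L28285) (flp_c L28244) L38573
theorem L38579 : sm gf N4870 = N4870 := ded_40_1 (flp_h L38573) L28246 L38573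
theorem L38580 : sm gg N4870 = N3560 := ded_42_1 (flp_h L28247) L28240 L38573
theorem L38582 : sm gd N3560 = N4871 := rfl
theorem L38584 : sm ga N4871 = N3571 := ded_11_1 (flp_d L28334) (flp_a L28249) L38582
theorem L38586 : sm gf N4871 = N3561 := ded_31_2 (flp_d L28255) (flp_f L28253) L38582
theorem L38588 : sm gc N4871 = N4871 := ded_24_1 (flp_d L38582) L28251 L20754 (flp_c L28251) L38582
theorem L38589 : sm gi N3560 = N4872 := rfl
theorem L38591 : sm ga N4872 = N3572 := ded_16_1 (flp_i L28341) (flp_a L28249) L38589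
theorem L38593 : sm gc N4872 = N3566 := ded_29_1 (flp_i L28294) (flp_c L28251) L38589
theorem L38595 : sm gf N4872 = N3562 := ded_41_1 (flp_i L28261) (flp_f L28253) L38589
theorem L38597 : sm ge N3561 = N4873 := rfl
theorem L38599 : sm ga N4873 = N3573 := ded_12_1 (flp_e L28349) (flp_a L28257) L38597
theorem L38601 : sm gc N4873 = N4873 := ded_25_1 (flp_e L38597) L28260 L38597
theorem L38602 : sm gg N4873 = N4873 := ded_36_2 (flp_e L38597) L28259 L38597
theorem L38603 : sm gd N4873 = N4873 := ded_30_1 (flp_e L38597) (flp_d L28255) L20730 L28255 L38597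
theorem L38604 : sm gi N3561 = N4874 := rfl
theorem L38606 : sm ga N4874 = N3574 := ded_16_1 (flp_i L28356) (flp_a L28257) L38604
theorem L38608 : sm gc N4874 = N4874 := ded_29_1 (flp_i L38604) L28260 L38604
theorem L38609 : sm gd N4874 = N3562 := ded_34_1 (flp_i L28261) L28255 L38604
theorem L38611 : sm gg N4874 = N4874 := ded_43_1 (flp_i L38604) L28259 L38604
theorem L38612 : sm gf N3563 = N4875 := rfl
theorem L38620 : sm gh N3563 = N4876 := rfl
theorem L38629 : sm gd N3564 = N4877 := rfl
theorem L38631 : sm ga N4877 = N3577 := ded_11_1 (flp_d L28379) (flp_a L28279) L38629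
theorem L38637 : sm gi N3564 = N4878 := rfl
theorem L38642 : sm ge N4878 = N3566 := ded_38_1 (flp_i L28294) (flp_e L28282) L38637
theorem L38645 : sm gi N3565 = N4879 := rfl
theorem L38647 : sm ga N4879 = N3579 := ded_16_1 (flp_i L28393) (flp_a L28287) L38645
theorem L38652 : sm gg N4879 = N3566 := ded_43_1 (flp_i L28294) (flp_g L28291) L38645
theorem L38654 : sm gg N3567 = N4880 := rfl
theorem L38656 : sm gb N4880 = N3630 := ded_21_1 (flp_g L28801) (flp_b L28304) L38654
theorem L38658 : sm gc N4880 = N4880 := ded_27_1 (flp_g L38654) L28307 L38654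
theorem L38659 : sm gd N4880 = N3568 := ded_32_1 (flp_g L28308) L28302 L38654
theorem L38661 : sm gh N3567 = N4881 := rfl
theorem L38663 : sm gb N4881 = N3631 := ded_22_1 (flp_h L28807) (flp_b L28304) L38661
theorem L38665 : sm gc N4881 = N4881 := ded_28_1 (flp_h L38661) L28307 L38661
theorem L38666 : sm gf N4881 = N4881 := ded_40_1 (flp_h L38661) L28306 L38661
theorem L38667 : sm gf N3568 = N4882 := rfl
theorem L38675 : sm gh N3568 = N4883 := rfl
theorem L38677 : sm gb N4883 = N3633 := ded_22_1 (flp_h L28818) (flp_b L28310) L38675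
theorem L38681 : sm ge N4883 = N3570 := ded_37_1 (flp_h L28325) (flp_e L28314) L38675
theorem L38683 : sm gg N4883 = N3569 := ded_42_1 (flp_h L28316) L28308 L38675
theorem L38685 : sm gd N3569 = N4884 := rfl
theorem L38687 : sm gb N4884 = N3634 := ded_18_1 (flp_d L28826) (flp_b L28318) L38685
theorem L38689 : sm gf N4884 = N4884 := ded_31_2 (flp_d L38685) L28324 L38685
theorem L38690 : sm gi N3569 = N4885 := rfl
theorem L38699 : sm gd N3570 = N4886 := rfl
theorem L38701 : sm gb N4886 = N3636 := ded_18_1 (flp_d L28837) (flp_b L28327) L38699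
theorem L38703 : sm gf N4886 = N4886 := ded_31_2 (flp_d L38699) L28331 L38699
theorem L38704 : sm gg N4886 = N3571 := ded_32_2 (flp_d L28334) (flp_g L28332) L38699
theorem L38706 : sm gc N4886 = N4886 := ded_24_1 (flp_d L38699) L28329 L20820 (flp_c L28329) L38699
theorem L38707 : sm gi N3570 = N4887 := rfl
theorem L38711 : sm gc N4887 = N3579 := ded_29_1 (flp_i L28393) (flp_c L28329) L38707
theorem L38714 : sm gg N4887 = N3572 := ded_43_1 (flp_i L28341) (flp_g L28332) L38707
theorem L38716 : sm ge N3571 = N4888 := rfl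
theorem L38718 : sm gb N4888 = N3638 := ded_19_1 (flp_e L28851) (flp_b L28336) L38716
theorem L38720 : sm gc N4888 = N4888 := ded_25_1 (flp_e L38716) L28340 L38716
theorem L38721 : sm gi N3571 = N4889 := rfl
theorem L38723 : sm gb N4889 = N3639 := ded_23_1 (flp_i L28855) (flp_b L28336) L38721
theorem L38725 : sm gc N4889 = N4889 := ded_29_1 (flp_i L38721) L28340 L38721
theorem L38726 : sm gd N4889 = N3572 := ded_34_1 (flp_i L28341) L28334 L38721
theorem L38728 : sm gf N4889 = N3574 := ded_41_1 (flp_i L28356) (flp_f L28338) L38721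
theorem L38730 : sm gf N3573 = N4890 := rfl
theorem L38732 : sm gb N4890 = N3640 := ded_20_1 (flp_f L28863) (flp_b L28351) L38730
theorem L38734 : sm gc N4890 = N4890 := ded_26_1 (flp_f L38730) L28353 L38730
theorem L38735 : sm gd N4890 = N4890 := ded_31_1 (flp_f L38730) L28355 L38730
theorem L38736 : sm gi N3573 = N4891 := rfl
theorem L38738 : sm gb N4891 = N3641 := ded_23_1 (flp_i L28868) (flp_b L28351) L38736
theorem L38740 : sm gc N4891 = N4891 := ded_29_1 (flp_i L38736) L28353 L38736
theorem L38741 : sm gd N4891 = N4891 := ded_34_1 (flp_i L38736) L28355 L38736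
theorem L38742 : sm ge N4891 = N3574 := ded_38_1 (flp_i L28356) L28349 L38736
theorem L38744 : sm gg N4891 = N4891 := ded_43_1 (flp_i L38736) L28354 L38736
theorem L38745 : sm gh N3574 = N4892 := rfl
theorem L38747 : sm gb N4892 = N3642 := ded_22_1 (flp_h L28876) (flp_b L28358) L38745
theorem L38749 : sm gc N4892 = N4892 := ded_28_1 (flp_h L38745) L28360 L38745
theorem L38750 : sm gg N4892 = N4892 := ded_42_1 (flp_h L38745) L28363 L38745
theorem L38751 : sm gh N3575 = N4893 := rfl
theorem L38756 : sm gf N4893 = N3576 := ded_40_1 (flp_h L28371) L28364 L38751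
theorem L38759 : sm gd N3576 = N4894 := rfl
theorem L38763 : sm gg N4894 = N3577 := ded_32_2 (flp_d L28379) (flp_g L28377) L38759
theorem L38781 : sm gi N3577 = N4897 := rfl
theorem L38785 : sm gd N4897 = N3578 := ded_34_1 (flp_i L28386) L28379 L38781
theorem L38822 : sm ge N3584 = N4902 := rfl
theorem L38824 : sm gb N4902 = N3586 := ded_19_1 (flp_e L28449) (flp_b L28437) L38822
theorem L38826 : sm gc N4902 = N4902 := ded_25_1 (flp_e L38822) L28439 L38822
theorem L38827 : sm gi N4902 = N3613 := ded_38_2 (flp_e L28666) (flp_i L28440) L38822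
theorem L38829 : sm gf N4902 = N4902 := ded_35_2 (flp_e L38822) (flp_f L28435) L20871 L28435 L38822
theorem L38830 : sm gg N3584 = N4903 := rfl
theorem L38832 : sm gb N4903 = N3587 := ded_21_1 (flp_g L28458) (flp_b L28437) L38830
theorem L38834 : sm gc N4903 = N4903 := ded_27_1 (flp_g L38830) L28439 L38830
theorem L38835 : sm gi N4903 = N3614 := ded_43_2 (flp_g L28672) (flp_i L28440) L38830
theorem L38837 : sm gf N4903 = N4903 := ded_39_1 (flp_g L38830) (flp_f L28435) L20872 L28435 L38830
theorem L38838 : sm gh N3584 = N4904 := rfl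
theorem L38840 : sm gb N4904 = N3588 := ded_22_1 (flp_h L28467) (flp_b L28437) L38838
theorem L38842 : sm gc N4904 = N4904 := ded_28_1 (flp_h L38838) L28439 L38838
theorem L38843 : sm gf N4904 = N3585 := ded_40_1 (flp_h L28442) L28435 L38838
theorem L38845 : sm gd N3585 = N4905 := rfl
theorem L38847 : sm gb N4905 = N3589 := ded_18_1 (flp_d L28475) (flp_b L28444) L38845
theorem L38849 : sm gg N4905 = N4905 := ded_32_2 (flp_d L38845) L28448 L38845
theorem L38850 : sm gi N3585 = N4906 := rfl
theorem L38852 : sm gb N4906 = N3590 := ded_23_1 (flp_i L28481) (flp_b L28444) L38850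
theorem L38854 : sm gc N4906 = N4906 := ded_29_1 (flp_i L38850) L28446 L38850
theorem L38855 : sm ge N4906 = N4906 := ded_38_1 (flp_i L38850) L28447 L38850
theorem L38856 : sm gg N4906 = N4906 := ded_43_1 (flp_i L38850) L28448 L38850
theorem L38857 : sm gh N4906 = N3617 := ded_44_1 (flp_i L28690) (flp_h L21041) (flp_i L20873) L28442 L38850
theorem L38859 : sm gd N3586 = N4907 := rfl
theorem L38861 : sm ga N4907 = N3595 := ded_11_1 (flp_d L28529) (flp_a L28451) L38859
theorem L38863 : sm gf N4907 = N4907 := ded_31_2 (flp_d L38859) L28457 L38859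
theorem L38864 : sm gi N4907 = N3618 := ded_34_2 (flp_d L28697) (flp_i L28455) L38859
theorem L38866 : sm gc N4907 = N3650 := ded_24_1 (flp_d L28943) L21244 (flp_d L20899) (flp_c L28453) L38859
theorem L38868 : sm gg N3586 = N4908 := rfl
theorem L38876 : sm gi N4908 = N3619 := ded_43_2 (flp_g L28704) (flp_i L28455) L38868
theorem L38878 : sm gh N3586 = N4909 := rfl
theorem L38880 : sm ga N4909 = N3597 := ded_15_1 (flp_h L28544) (flp_a L28451) L38878
theorem L38884 : sm ge N4909 = N3588 := ded_37_1 (flp_h L28467) L28449 L38878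
theorem L38887 : sm gh N3587 = N4910 := rfl
theorem L38889 : sm ga N4910 = N3598 := ded_15_1 (flp_h L28551) (flp_a L28460) L38887
theorem L38894 : sm gg N4910 = N3588 := ded_42_1 (flp_h L28467) L28458 L38887
theorem L38896 : sm gd N3588 = N4911 := rfl
theorem L38898 : sm ga N4911 = N3599 := ded_11_1 (flp_d L28558) (flp_a L28469) L38896
theorem L38900 : sm gf N4911 = N3589 := ded_31_2 (flp_d L28475) (flp_f L28473) L38896
theorem L38902 : sm gc N4911 = N4911 := ded_24_1 (flp_d L38896) L28471 L20919 (flp_c L28471) L38896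
theorem L38903 : sm gi N3588 = N4912 := rfl
theorem L38905 : sm ga N4912 = N3600 := ded_16_1 (flp_i L28563) (flp_a L28469) L38903
theorem L38909 : sm gf N4912 = N3590 := ded_41_1 (flp_i L28481) (flp_f L28473) L38903
theorem L38911 : sm gh N4912 = N3623 := ded_44_1 (flp_i L28738) (flp_h L21062) (flp_i L20882) L28467 L38903
theorem L38913 : sm ge N3589 = N4913 := rfl
theorem L38915 : sm ga N4913 = N3601 := ded_12_1 (flp_e L28571) (flp_a L28477) L38913
theorem L38917 : sm gc N4913 = N4913 := ded_25_1 (flp_e L38913) L28480 L38913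
theorem L38918 : sm gg N4913 = N4913 := ded_36_2 (flp_e L38913) L28479 L38913
theorem L38919 : sm gd N4913 = N4913 := ded_30_1 (flp_e L38913) (flp_d L28475) L20890 L28475 L38913
theorem L38920 : sm gi N3589 = N4914 := rfl
theorem L38922 : sm ga N4914 = N3602 := ded_16_1 (flp_i L28576) (flp_a L28477) L38920
theorem L38924 : sm gc N4914 = N4914 := ded_29_1 (flp_i L38920) L28480 L38920
theorem L38925 : sm gd N4914 = N3590 := ded_34_1 (flp_i L28481) L28475 L38920
theorem L38927 : sm gg N4914 = N4914 := ded_43_1 (flp_i L38920) L28479 L38920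
theorem L38939 : sm gh N3591 = N4916 := rfl
theorem L38946 : sm gg N4916 = N3592 := ded_42_1 (flp_h L28502) L28491 L38939
theorem L38948 : sm gd N3592 = N4917 := rfl
theorem L38978 : sm gg N3595 = N4920 := rfl
theorem L38980 : sm gc N4920 = N3659 := ded_27_1 (flp_g L29026) (flp_c L28534) L38978
theorem L38984 : sm gi N4920 = N3630 := ded_43_2 (flp_g L28801) (flp_i L28532) L38978
theorem L38986 : sm gh N3595 = N4921 := rfl
theorem L38988 : sm gc N4921 = N3660 := ded_28_1 (flp_h L29033) (flp_c L28534) L38986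
theorem L38990 : sm gf N4921 = N4921 := ded_40_1 (flp_h L38986) L28531 L38986
theorem L39007 : sm gd N3597 = N4924 := rfl
theorem L39019 : sm gd N3598 = N4926 := rfl
theorem L39022 : sm gg N4926 = N3599 := ded_32_2 (flp_d L28558) (flp_g L28556) L39019
theorem L39025 : sm gi N3598 = N4927 := rfl
theorem L39032 : sm gh N4927 = N3637 := ded_44_1 (flp_i L28844) (flp_h L21140) (flp_i L20941) L28551 L39025
theorem L39034 : sm ge N3599 = N4928 := rfl
theorem L39036 : sm gc N4928 = N4928 := ded_25_1 (flp_e L39034) L28562 L39034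
theorem L39037 : sm gi N3599 = N4929 := rfl
theorem L39040 : sm gd N4929 = N3600 := ded_34_1 (flp_i L28563) L28558 L39037
theorem L39042 : sm gf N4929 = N3602 := ded_41_1 (flp_i L28576) (flp_f L28560) L39037
theorem L39044 : sm gf N3601 = N4930 := rfl
theorem L39046 : sm gc N4930 = N4930 := ded_26_1 (flp_f L39044) L28573 L39044
theorem L39047 : sm gd N4930 = N4930 := ded_31_1 (flp_f L39044) L28575 L39044
theorem L39048 : sm gi N3601 = N4931 := rfl
theorem L39050 : sm gc N4931 = N4931 := ded_29_1 (flp_i L39048) L28573 L39048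
theorem L39051 : sm gd N4931 = N4931 := ded_34_1 (flp_i L39048) L28575 L39048
theorem L39052 : sm ge N4931 = N3602 := ded_38_1 (flp_i L28576) L28571 L39048
theorem L39054 : sm gg N4931 = N4931 := ded_43_1 (flp_i L39048) L28574 L39048
theorem L39055 : sm gh N3602 = N4932 := rfl
theorem L39057 : sm gc N4932 = N4932 := ded_28_1 (flp_h L39055) L28578 L39055
theorem L39058 : sm gg N4932 = N4932 := ded_42_1 (flp_h L39055) L28581 L39055
theorem L39059 : sm gd N4932 = N3642 := ded_33_1 (flp_h L28876) L21169 (flp_h L20960) (flp_d L28579) L39055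
theorem L39061 : sm gh N3603 = N4933 := rfl
theorem L39103 : sm gd N3608 = N4938 := rfl
theorem L39109 : sm gh N4938 = N3670 := ded_33_2 (flp_d L29105) (flp_h L21379) (flp_d L20999) L28627 L39103
theorem L39128 : sm gi N3609 = N4941 := rfl
theorem L39131 : sm gd N4941 = N3610 := ded_34_1 (flp_i L28642) L28634 L39128
theorem L39137 : sm gb N3611 = N4942 := rfl
theorem L39141 : sm gh N4942 = N3672 := ded_22_2 (flp_b L29120) (flp_h L28656) L39137
theorem L39143 : sm gi N3611 = N4943 := rfl
theorem L39151 : sm gd N3613 = N4944 := rfl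
theorem L39153 : sm gb N4944 = N3618 := ded_18_1 (flp_d L28697) (flp_b L28668) L39151
theorem L39155 : sm gf N4944 = N4944 := ded_31_2 (flp_d L39151) L28671 L39151
theorem L39156 : sm gg N3613 = N4945 := rfl
theorem L39158 : sm gb N4945 = N3619 := ded_21_1 (flp_g L28704) (flp_b L28668) L39156
theorem L39160 : sm gc N4945 = N4945 := ded_27_1 (flp_g L39156) L28670 L39156
theorem L39161 : sm ge N4945 = N3614 := ded_36_1 (flp_g L28672) L28666 L39156
theorem L39163 : sm gh N3613 = N4946 := rfl
theorem L39165 : sm gb N4946 = N3620 := ded_22_1 (flp_h L28712) (flp_b L28668) L39163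
theorem L39167 : sm gc N4946 = N4946 := ded_28_1 (flp_h L39163) L28670 L39163
theorem L39168 : sm ge N4946 = N3615 := ded_37_1 (flp_h L28678) L28666 L39163
theorem L39170 : sm gf N4946 = N4946 := ded_40_1 (flp_h L39163) L28671 L39163
theorem L39171 : sm gh N3614 = N4947 := rfl
theorem L39173 : sm gb N4947 = N3621 := ded_22_1 (flp_h L28721) (flp_b L28674) L39171
theorem L39175 : sm gc N4947 = N4947 := ded_28_1 (flp_h L39171) L28676 L39171
theorem L39176 : sm gf N4947 = N4947 := ded_40_1 (flp_h L39171) L28677 L39171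
theorem L39177 : sm gg N4947 = N3615 := ded_42_1 (flp_h L28678) L28672 L39171
theorem L39179 : sm gd N3615 = N4948 := rfl
theorem L39181 : sm gb N4948 = N3622 := ded_18_1 (flp_d L28730) (flp_b L28680) L39179
theorem L39183 : sm gf N4948 = N3616 := ded_31_2 (flp_d L28685) (flp_f L28683) L39179
theorem L39185 : sm gi N3615 = N4949 := rfl
theorem L39187 : sm gb N4949 = N3623 := ded_23_1 (flp_i L28738) (flp_b L28680) L39185
theorem L39189 : sm gc N4949 = N4949 := ded_29_1 (flp_i L39185) L28682 L39185
theorem L39190 : sm gf N4949 = N3617 := ded_41_1 (flp_i L28690) (flp_f L28683) L39185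
theorem L39192 : sm gc N3616 = N4950 := rfl
theorem L39194 : sm gg N4950 = N4950 := ded_27_2 (flp_c L39192) L28689 L39192
theorem L39195 : sm gb N4950 = N3684 := ded_17_1 (flp_c L29207) L21483 (flp_c L21075) (flp_b L28687) L39192
theorem L39197 : sm gd N4950 = N4950 := ded_24_2 (flp_c L39192) (flp_d L28685) L21045 L28685 L39192
theorem L39198 : sm ge N3616 = N4951 := rfl
theorem L39200 : sm gb N4951 = N3624 := ded_19_1 (flp_e L28746) (flp_b L28687) L39198
theorem L39202 : sm gg N4951 = N4951 := ded_36_2 (flp_e L39198) L28689 L39198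
theorem L39203 : sm gd N4951 = N4951 := ded_30_1 (flp_e L39198) (flp_d L28685) L21046 L28685 L39198
theorem L39204 : sm gi N3616 = N4952 := rfl
theorem L39206 : sm gb N4952 = N3625 := ded_23_1 (flp_i L28754) (flp_b L28687) L39204
theorem L39208 : sm gd N4952 = N3617 := ded_34_1 (flp_i L28690) L28685 L39204
theorem L39210 : sm gg N4952 = N4952 := ded_43_1 (flp_i L39204) L28689 L39204
theorem L39211 : sm gg N3618 = N4953 := rfl
theorem L39213 : sm ga N4953 = N3630 := ded_14_1 (flp_g L28801) (flp_a L28699) L39211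
theorem L39215 : sm gc N4953 = N3675 := ded_27_1 (flp_g L29141) (flp_c L28702) L39211
theorem L39217 : sm gd N4953 = N3619 := ded_32_1 (flp_g L28704) L28697 L39211
theorem L39219 : sm gh N3618 = N4954 := rfl
theorem L39221 : sm ga N4954 = N3631 := ded_15_1 (flp_h L28807) (flp_a L28699) L39219
theorem L39223 : sm gc N4954 = N3676 := ded_28_1 (flp_h L29147) (flp_c L28702) L39219
theorem L39225 : sm gf N4954 = N4954 := ded_40_1 (flp_h L39219) L28701 L39219
theorem L39226 : sm gf N3619 = N4955 := rfl
theorem L39234 : sm gh N3619 = N4956 := rfl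
theorem L39236 : sm ga N4956 = N3633 := ded_15_1 (flp_h L28818) (flp_a L28706) L39234
theorem L39238 : sm gc N4956 = N3627 := ded_28_1 (flp_h L28772) (flp_c L28708) L39234
theorem L39240 : sm ge N4956 = N3621 := ded_37_1 (flp_h L28721) (flp_e L28710) L39234
theorem L39242 : sm gg N4956 = N3620 := ded_42_1 (flp_h L28712) L28704 L39234
theorem L39244 : sm gd N3620 = N4957 := rfl
theorem L39246 : sm ga N4957 = N3634 := ded_11_1 (flp_d L28826) (flp_a L28714) L39244
theorem L39248 : sm gf N4957 = N4957 := ded_31_2 (flp_d L39244) L28720 L39244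
theorem L39249 : sm gc N4957 = N4957 := ded_24_1 (flp_d L39244) L28716 L21102 (flp_c L28716) L39244
theorem L39250 : sm gi N3620 = N4958 := rfl
theorem L39259 : sm gd N3621 = N4959 := rfl
theorem L39261 : sm ga N4959 = N3636 := ded_11_1 (flp_d L28837) (flp_a L28723) L39259
theorem L39263 : sm gf N4959 = N4959 := ded_31_2 (flp_d L39259) L28727 L39259
theorem L39264 : sm gg N4959 = N3622 := ded_32_2 (flp_d L28730) (flp_g L28728) L39259
theorem L39266 : sm gc N4959 = N3687 := ded_24_1 (flp_d L29228) L21500 (flp_d L21111) (flp_c L28725) L39259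
theorem L39268 : sm gi N3621 = N4960 := rfl
theorem L39277 : sm ge N3622 = N4961 := rfl
theorem L39279 : sm ga N4961 = N3638 := ded_12_1 (flp_e L28851) (flp_a L28732) L39277
theorem L39281 : sm gc N4961 = N3689 := ded_25_1 (flp_e L29246) (flp_c L28736) L39277
theorem L39283 : sm gi N3622 = N4962 := rfl
theorem L39285 : sm ga N4962 = N3639 := ded_16_1 (flp_i L28855) (flp_a L28732) L39283
theorem L39287 : sm gc N4962 = N3690 := ded_29_1 (flp_i L29251) (flp_c L28736) L39283
theorem L39289 : sm gd N4962 = N3623 := ded_34_1 (flp_i L28738) L28730 L39283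
theorem L39291 : sm gf N4962 = N3625 := ded_41_1 (flp_i L28754) (flp_f L28734) L39283
theorem L39293 : sm gf N3624 = N4963 := rfl
theorem L39295 : sm ga N4963 = N3640 := ded_13_1 (flp_f L28863) (flp_a L28748) L39293
theorem L39297 : sm gc N4963 = N3691 := ded_26_1 (flp_f L29259) (flp_c L28750) L39293
theorem L39299 : sm gd N4963 = N4963 := ded_31_1 (flp_f L39293) L28753 L39293
theorem L39300 : sm gi N3624 = N4964 := rfl
theorem L39302 : sm ga N4964 = N3641 := ded_16_1 (flp_i L28868) (flp_a L28748) L39300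
theorem L39304 : sm gc N4964 = N3692 := ded_29_1 (flp_i L29265) (flp_c L28750) L39300
theorem L39306 : sm gd N4964 = N4964 := ded_34_1 (flp_i L39300) L28753 L39300
theorem L39307 : sm ge N4964 = N3625 := ded_38_1 (flp_i L28754) L28746 L39300
theorem L39309 : sm gg N4964 = N4964 := ded_43_1 (flp_i L39300) L28752 L39300
theorem L39310 : sm gh N3625 = N4965 := rfl
theorem L39312 : sm ga N4965 = N3642 := ded_15_1 (flp_h L28876) (flp_a L28756) L39310
theorem L39314 : sm gc N4965 = N3693 := ded_28_1 (flp_h L29274) (flp_c L28758) L39310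
theorem L39316 : sm gg N4965 = N4965 := ded_42_1 (flp_h L39310) L28762 L39310
theorem L39327 : sm gi N3627 = N4967 := rfl
theorem L39333 : sm ge N4967 = N3629 := ded_38_1 (flp_i L28791) (flp_e L28777) L39327
theorem L39337 : sm gf N3630 = N4968 := rfl
theorem L39339 : sm gc N4968 = N3678 := ded_26_1 (flp_f L29163) (flp_c L28803) L39337
theorem L39344 : sm gh N3630 = N4969 := rfl
theorem L39346 : sm gc N4969 = N3679 := ded_28_1 (flp_h L29169) (flp_c L28803) L39344
theorem L39348 : sm gg N4969 = N3631 := ded_42_1 (flp_h L28807) L28801 L39344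
theorem L39350 : sm gd N3631 = N4970 := rfl
theorem L39352 : sm gf N4970 = N4970 := ded_31_2 (flp_d L39350) L28811 L39350
theorem L39353 : sm gc N4970 = N4970 := ded_24_1 (flp_d L39350) L28809 L21452 (flp_c L28809) L39350
theorem L39354 : sm gh N4970 = N3634 := ded_33_2 (flp_d L28826) (flp_h L21133) L21122 L28807 L39350
theorem L39356 : sm gi N3631 = N4971 := rfl
theorem L39358 : sm gc N4971 = N3680 := ded_29_1 (flp_i L29175) (flp_c L28809) L39356
theorem L39360 : sm gf N4971 = N4971 := ded_41_1 (flp_i L39356) L28811 L39356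
theorem L39369 : sm gd N3633 = N4973 := rfl
theorem L39371 : sm gg N4973 = N3634 := ded_32_2 (flp_d L28826) (flp_g L28824) L39369
theorem L39382 : sm ge N3634 = N4975 := rfl
theorem L39384 : sm gc N4975 = N4975 := ded_25_1 (flp_e L39382) L28829 L39382
theorem L39385 : sm gd N4975 = N3638 := ded_30_1 (flp_e L28851) (flp_d L21147) (flp_e L21137) L28826 L39382
theorem L39387 : sm gi N3634 = N4976 := rfl
theorem L39393 : sm ge N3636 = N4977 := rfl
theorem L39395 : sm gc N4977 = N3694 := ded_25_1 (flp_e L29280) (flp_c L28842) L39393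
theorem L39397 : sm gg N4977 = N3638 := ded_36_2 (flp_e L28851) (flp_g L28840) L39393
theorem L39399 : sm gi N3636 = N4978 := rfl
theorem L39401 : sm gc N4978 = N3695 := ded_29_1 (flp_i L29286) (flp_c L28842) L39399
theorem L39403 : sm gd N4978 = N3637 := ded_34_1 (flp_i L28844) L28837 L39399
theorem L39406 : sm gg N4978 = N3639 := ded_43_1 (flp_i L28855) (flp_g L28840) L39399
theorem L39408 : sm gf N3638 = N4979 := rfl
theorem L39410 : sm gc N4979 = N3696 := ded_26_1 (flp_f L29294) (flp_c L28853) L39408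
theorem L39412 : sm ge N4979 = N3640 := ded_35_1 (flp_f L28863) (flp_e L21159) (flp_f L21149) L28851 L39408
theorem L39414 : sm gi N3638 = N4980 := rfl
theorem L39416 : sm gc N4980 = N3697 := ded_29_1 (flp_i L29300) (flp_c L28853) L39414
theorem L39418 : sm ge N4980 = N3639 := ded_38_1 (flp_i L28855) L28851 L39414
theorem L39420 : sm gh N3639 = N4981 := rfl
theorem L39422 : sm gc N4981 = N3698 := ded_28_1 (flp_h L29306) (flp_c L28857) L39420
theorem L39424 : sm gf N4981 = N3642 := ded_40_1 (flp_h L28876) (flp_f L28861) L39420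
theorem L39426 : sm gg N3640 = N4982 := rfl
theorem L39428 : sm gc N4982 = N3699 := ded_27_1 (flp_g L29312) (flp_c L28865) L39426
theorem L39430 : sm gd N4982 = N4982 := ded_32_1 (flp_g L39426) L28867 L39426
theorem L39431 : sm gf N4982 = N4982 := ded_39_1 (flp_g L39426) (flp_f L28863) L21163 L28863 L39426
theorem L39432 : sm gi N3640 = N4983 := rfl
theorem L39434 : sm gc N4983 = N3700 := ded_29_1 (flp_i L29318) (flp_c L28865) L39432
theorem L39436 : sm gd N4983 = N4983 := ded_34_1 (flp_i L39432) L28867 L39432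
theorem L39437 : sm gf N4983 = N3641 := ded_41_1 (flp_i L28868) L28863 L39432
theorem L39439 : sm gh N3641 = N4984 := rfl
theorem L39441 : sm gc N4984 = N3701 := ded_28_1 (flp_h L29325) (flp_c L28870) L39439
theorem L39443 : sm ge N4984 = N3642 := ded_37_1 (flp_h L28876) (flp_e L28873) L39439
theorem L39445 : sm gg N4984 = N4984 := ded_42_1 (flp_h L39439) L28875 L39439
theorem L39446 : sm gi N3643 = N4985 := rfl
theorem L39455 : sm gd N3646 = N4986 := rfl
theorem L39457 : sm ga N4986 = N4986 := ded_11_1 (flp_d L39455) L28909 L39455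
theorem L39458 : sm gb N4986 = N3650 := ded_18_1 (flp_d L28943) (flp_b L28910) L39455
theorem L39460 : sm gf N4986 = N4986 := ded_31_2 (flp_d L39455) L28915 L39455
theorem L39461 : sm gi N4986 = N3673 := ded_34_2 (flp_d L29126) (flp_i L28913) L39455
theorem L39463 : sm gg N3646 = N4987 := rfl
theorem L39465 : sm ga N4987 = N4987 := ded_14_1 (flp_g L39463) L28909 L39463
theorem L39466 : sm gb N4987 = N3651 := ded_21_1 (flp_g L28950) (flp_b L28910) L39463
theorem L39468 : sm gc N4987 = N4987 := ded_27_1 (flp_g L39463) L28912 L39463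
theorem L39469 : sm ge N4987 = N3647 := ded_36_1 (flp_g L28916) L28907 L39463
theorem L39471 : sm gi N4987 = N3674 := ded_43_2 (flp_g L29132) (flp_i L28913) L39463
theorem L39473 : sm gh N3646 = N4988 := rfl
theorem L39475 : sm ga N4988 = N4988 := ded_15_1 (flp_h L39473) L28909 L39473
theorem L39476 : sm gb N4988 = N3652 := ded_22_1 (flp_h L28960) (flp_b L28910) L39473
theorem L39478 : sm gc N4988 = N4988 := ded_28_1 (flp_h L39473) L28912 L39473
theorem L39479 : sm ge N4988 = N3648 := ded_37_1 (flp_h L28926) L28907 L39473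
theorem L39481 : sm gf N4988 = N4988 := ded_40_1 (flp_h L39473) L28915 L39473
theorem L39482 : sm gi N4988 = N4988 := ded_44_2 (flp_h L39473) L28913 L21409 (flp_i L28913) L39473
theorem L39483 : sm gh N3647 = N4989 := rfl
theorem L39485 : sm ga N4989 = N4989 := ded_15_1 (flp_h L39483) L28918 L39483
theorem L39486 : sm gb N4989 = N3653 := ded_22_1 (flp_h L28970) (flp_b L28919) L39483
theorem L39488 : sm gc N4989 = N4989 := ded_28_1 (flp_h L39483) L28921 L39483
theorem L39489 : sm gf N4989 = N4022 := ded_40_1 (flp_h L31850) (flp_f L28924) L39483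
theorem L39491 : sm gg N4989 = N3648 := ded_42_1 (flp_h L28926) L28916 L39483
theorem L39493 : sm gi N4989 = N4989 := ded_44_2 (flp_h L39483) L28922 L21417 (flp_i L28922) L39483
theorem L39494 : sm gd N3648 = N4990 := rfl
theorem L39496 : sm ga N4990 = N4990 := ded_11_1 (flp_d L39494) L28928 L39494
theorem L39497 : sm gb N4990 = N3654 := ded_18_1 (flp_d L28981) (flp_b L28929) L39494
theorem L39499 : sm gf N4990 = N3649 := ded_31_2 (flp_d L28935) (flp_f L28932) L39494
theorem L39501 : sm gi N4990 = N4990 := ded_34_2 (flp_d L39494) L28934 L39494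
theorem L39502 : sm gc N3649 = N4991 := rfl
theorem L39504 : sm ga N4991 = N4991 := ded_10_1 (flp_c L39502) L28937 L39502
theorem L39505 : sm gg N4991 = N4024 := ded_27_2 (flp_c L31867) (flp_g L28940) L39502
theorem L39507 : sm gi N4991 = N4991 := ded_29_2 (flp_c L39502) L28942 L39502
theorem L39508 : sm gb N4991 = N4991 := ded_17_1 (flp_c L39502) L28938 L21275 (flp_b L28938) L39502
theorem L39509 : sm gd N4991 = N4991 := ded_24_2 (flp_c L39502) (flp_d L28935) L21235 L28935 L39502
theorem L39510 : sm ge N3649 = N4992 := rfl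
theorem L39512 : sm ga N4992 = N4992 := ded_12_1 (flp_e L39510) L28937 L39510
theorem L39513 : sm gb N4992 = N3655 := ded_19_1 (flp_e L28989) (flp_b L28938) L39510
theorem L39515 : sm gg N4992 = N4025 := ded_36_2 (flp_e L31873) (flp_g L28940) L39510
theorem L39517 : sm gi N4992 = N4992 := ded_38_2 (flp_e L39510) L28942 L39510
theorem L39518 : sm gd N4992 = N4992 := ded_30_1 (flp_e L39510) (flp_d L28935) L21236 L28935 L39510
theorem L39519 : sm gg N3650 = N4993 := rfl
theorem L39521 : sm ga N4993 = N3659 := ded_14_1 (flp_g L29026) (flp_a L28945) L39519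
theorem L39523 : sm gd N4993 = N3651 := ded_32_1 (flp_g L28950) L28943 L39519
theorem L39525 : sm gi N4993 = N3675 := ded_43_2 (flp_g L29141) (flp_i L28948) L39519
theorem L39527 : sm gh N3650 = N4994 := rfl
theorem L39529 : sm ga N4994 = N3660 := ded_15_1 (flp_h L29033) (flp_a L28945) L39527
theorem L39531 : sm gf N4994 = N4994 := ded_40_1 (flp_h L39527) L28947 L39527
theorem L39532 : sm gf N3651 = N4995 := rfl
theorem L39534 : sm ga N4995 = N3661 := ded_13_1 (flp_f L29037) (flp_a L28952) L39532
theorem L39538 : sm gi N4995 = N3677 := ded_41_2 (flp_f L29153) (flp_i L28958) L39532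
theorem L39540 : sm ge N4995 = N4028 := ded_35_1 (flp_f L31895) L23446 (flp_f L21257) (flp_e L28956) L39532
theorem L39543 : sm gh N3651 = N4996 := rfl
theorem L39545 : sm ga N4996 = N3662 := ded_15_1 (flp_h L29047) (flp_a L28952) L39543
theorem L39549 : sm ge N4996 = N3653 := ded_37_1 (flp_h L28970) (flp_e L28956) L39543
theorem L39551 : sm gg N4996 = N3652 := ded_42_1 (flp_h L28960) L28950 L39543
theorem L39554 : sm gd N3652 = N4997 := rfl
theorem L39556 : sm ga N4997 = N3663 := ded_11_1 (flp_d L29057) (flp_a L28962) L39554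
theorem L39558 : sm gf N4997 = N4997 := ded_31_2 (flp_d L39554) L28968 L39554
theorem L39559 : sm gi N4997 = N4997 := ded_34_2 (flp_d L39554) L28969 L39554
theorem L39560 : sm gd N3653 = N4998 := rfl
theorem L39562 : sm ga N4998 = N3664 := ded_11_1 (flp_d L29062) (flp_a L28972) L39560
theorem L39564 : sm gf N4998 = N4031 := ded_31_2 (flp_d L31921) (flp_f L28976) L39560
theorem L39566 : sm gg N4998 = N3654 := ded_32_2 (flp_d L28981) (flp_g L28978) L39560
theorem L39568 : sm gi N4998 = N4998 := ded_34_2 (flp_d L39560) L28980 L39560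
theorem L39569 : sm gc N4998 = N4998 := ded_24_1 (flp_d L39560) L28974 L21303 (flp_c L28974) L39560
theorem L39570 : sm ge N3654 = N4999 := rfl
theorem L39572 : sm ga N4999 = N3665 := ded_12_1 (flp_e L29071) (flp_a L28983) L39570
theorem L39574 : sm gc N4999 = N4999 := ded_25_1 (flp_e L39570) L28988 L39570
theorem L39575 : sm gi N4999 = N4999 := ded_38_2 (flp_e L39570) L28987 L39570
theorem L39576 : sm gf N3655 = N5000 := rfl
theorem L39578 : sm ga N5000 = N3666 := ded_13_1 (flp_f L29076) (flp_a L28991) L39576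
theorem L39580 : sm gc N5000 = N5000 := ded_26_1 (flp_f L39576) L28993 L39576
theorem L39581 : sm gd N5000 = N5000 := ded_31_1 (flp_f L39576) L28997 L39576
theorem L39582 : sm gi N5000 = N5000 := ded_41_2 (flp_f L39576) L28996 L39576
theorem L39583 : sm gh N3656 = N5001 := rfl
theorem L39585 : sm ga N5001 = N3667 := ded_15_1 (flp_h L29082) (flp_a L29000) L39583
theorem L39590 : sm gf N5001 = N3657 := ded_40_1 (flp_h L29008) L28998 L39583
theorem L39594 : sm gd N3657 = N5002 := rfl
theorem L39610 : sm gf N3659 = N5004 := rfl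
theorem L39613 : sm gd N5004 = N3661 := ded_31_1 (flp_f L29037) (flp_d L29029) L39610
theorem L39615 : sm gi N5004 = N3678 := ded_41_2 (flp_f L29163) (flp_i L29031) L39610
theorem L39618 : sm gh N3659 = N5005 := rfl
theorem L39620 : sm gb N5005 = N5005 := ded_22_1 (flp_h L39618) L29028 L39618
theorem L39621 : sm gg N5005 = N3660 := ded_42_1 (flp_h L29033) L29026 L39618
theorem L39623 : sm gd N3660 = N5006 := rfl
theorem L39625 : sm gb N5006 = N5006 := ded_18_1 (flp_d L39623) L29035 L39623
theorem L39626 : sm gf N5006 = N5006 := ded_31_2 (flp_d L39623) L29036 L39623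
theorem L39627 : sm gh N5006 = N3663 := ded_33_2 (flp_d L29057) (flp_h L21320) L21305 L29033 L39623
theorem L39629 : sm gi N3660 = N5007 := rfl
theorem L39631 : sm gb N5007 = N5007 := ded_23_1 (flp_i L39629) L29035 L39629
theorem L39632 : sm gf N5007 = N5007 := ded_41_1 (flp_i L39629) L29036 L39629
theorem L39633 : sm gh N5007 = N3680 := ded_44_1 (flp_i L29175) (flp_h L21448) (flp_i L21309) L29033 L39629
theorem L39635 : sm gh N3661 = N5008 := rfl
theorem L39638 : sm gc N5008 = N3667 := ded_28_1 (flp_h L29082) (flp_c L29040) L39635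
theorem L39640 : sm ge N5008 = N4041 := ded_37_1 (flp_h L31997) (flp_e L29044) L39635
theorem L39642 : sm gf N5008 = N3662 := ded_40_1 (flp_h L29047) L29037 L39635
theorem L39646 : sm gd N3662 = N5009 := rfl
theorem L39649 : sm gg N5009 = N3663 := ded_32_2 (flp_d L29057) (flp_g L29054) L39646
theorem L39652 : sm gc N3663 = N5010 := rfl
theorem L39658 : sm ge N3663 = N5011 := rfl
theorem L39660 : sm gb N5011 = N5011 := ded_19_1 (flp_e L39658) L29059 L39658
theorem L39661 : sm gi N5011 = N5011 := ded_38_2 (flp_e L39658) L29061 L39658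
theorem L39662 : sm gd N5011 = N3665 := ded_30_1 (flp_e L29071) (flp_d L21339) (flp_e L21325) L29057 L39658
theorem L39664 : sm ge N3664 = N5012 := rfl
theorem L39666 : sm gb N5012 = N5012 := ded_19_1 (flp_e L39664) L29064 L39664
theorem L39667 : sm gc N5012 = N5012 := ded_25_1 (flp_e L39664) L29070 L39664
theorem L39668 : sm gg N5012 = N3665 := ded_36_2 (flp_e L29071) (flp_g L29067) L39664
theorem L39670 : sm gi N5012 = N5012 := ded_38_2 (flp_e L39664) L29069 L39664
theorem L39671 : sm gf N3665 = N5013 := rfl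
theorem L39673 : sm gb N5013 = N5013 := ded_20_1 (flp_f L39671) L29073 L39671
theorem L39674 : sm gc N5013 = N5013 := ded_26_1 (flp_f L39671) L29074 L39671
theorem L39675 : sm gi N5013 = N5013 := ded_41_2 (flp_f L39671) L29075 L39671
theorem L39676 : sm ge N5013 = N3666 := ded_35_1 (flp_f L29076) (flp_e L21346) (flp_f L21342) L29071 L39671
theorem L39678 : sm gg N3666 = N5014 := rfl
theorem L39684 : sm gf N5014 = N4047 := ded_39_1 (flp_g L32038) (flp_f L23560) (flp_g L21350) L29076 L39678
theorem L39686 : sm gd N3667 = N5015 := rfl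
theorem L39707 : sm gc N3670 = N5018 := rfl
theorem L39710 : sm gf N5018 = N3671 := ded_26_2 (flp_c L29112) (flp_f L29108) L39707
theorem L39715 : sm ge N3670 = N5019 := rfl
theorem L39720 : sm gd N5019 = N4052 := ded_30_1 (flp_e L32077) (flp_d L23589) (flp_e L21383) L29105 L39715
theorem L39723 : sm gb N3671 = N5020 := rfl
theorem L39727 : sm gg N5020 = N3672 := ded_21_2 (flp_b L29120) (flp_g L29116) L39723
theorem L39737 : sm gc N3673 = N5022 := rfl
theorem L39739 : sm ga N5022 = N5022 := ded_10_1 (flp_c L39737) L29128 L39737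
theorem L39740 : sm gf N5022 = N5022 := ded_26_2 (flp_c L39737) L29131 L39737
theorem L39741 : sm gd N5022 = N5022 := ded_24_2 (flp_c L39737) (flp_d L29126) L21408 L29126 L39737
theorem L39742 : sm gg N3673 = N5023 := rfl
theorem L39744 : sm ga N5023 = N5023 := ded_14_1 (flp_g L39742) L29128 L39742
theorem L39745 : sm gb N5023 = N3675 := ded_21_1 (flp_g L29141) (flp_b L29129) L39742
theorem L39747 : sm gd N5023 = N3674 := ded_32_1 (flp_g L29132) L29126 L39742
theorem L39749 : sm gh N3673 = N5024 := rfl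
theorem L39751 : sm ga N5024 = N5024 := ded_15_1 (flp_h L39749) L29128 L39749
theorem L39752 : sm gb N5024 = N3676 := ded_22_1 (flp_h L29147) (flp_b L29129) L39749
theorem L39754 : sm gf N5024 = N5024 := ded_40_1 (flp_h L39749) L29131 L39749
theorem L39755 : sm gd N5024 = N5024 := ded_33_1 (flp_h L39749) (flp_d L29126) L21409 L29126 L39749
theorem L39756 : sm gf N3674 = N5025 := rfl
theorem L39758 : sm ga N5025 = N5025 := ded_13_1 (flp_f L39756) L29134 L39756
theorem L39759 : sm gb N5025 = N3677 := ded_20_1 (flp_f L29153) (flp_b L29135) L39756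
theorem L39761 : sm gc N5025 = N5025 := ded_26_1 (flp_f L39756) L29137 L39756
theorem L39762 : sm gh N5025 = N5025 := ded_40_2 (flp_f L39756) L29140 L39756
theorem L39763 : sm ge N5025 = N4058 := ded_35_1 (flp_f L32120) L23625 (flp_f L21418) (flp_e L29138) L39756
theorem L39765 : sm gg N5025 = N5025 := ded_39_2 (flp_f L39756) (flp_g L29132) L21410 L29132 L39756
theorem L39766 : sm gf N3675 = N5026 := rfl
theorem L39768 : sm ga N5026 = N3678 := ded_13_1 (flp_f L29163) (flp_a L29143) L39766
theorem L39770 : sm gd N5026 = N3677 := ded_31_1 (flp_f L29153) (flp_d L29145) L39766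
theorem L39772 : sm gg N5026 = N5026 := ded_39_2 (flp_f L39766) (flp_g L29141) L21424 L29141 L39766
theorem L39773 : sm gh N3675 = N5027 := rfl
theorem L39775 : sm ga N5027 = N3679 := ded_15_1 (flp_h L29169) (flp_a L29143) L39773
theorem L39777 : sm gg N5027 = N3676 := ded_42_1 (flp_h L29147) L29141 L39773
theorem L39779 : sm gd N5027 = N5027 := ded_33_1 (flp_h L39773) L29145 L21433 (flp_d L29145) L39773
theorem L39780 : sm gi N3676 = N5028 := rfl
theorem L39782 : sm ga N5028 = N3680 := ded_16_1 (flp_i L29175) (flp_a L29149) L39780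
theorem L39784 : sm gd N5028 = N5028 := ded_34_1 (flp_i L39780) L29152 L39780
theorem L39785 : sm gf N5028 = N5028 := ded_41_1 (flp_i L39780) L29151 L39780
theorem L39786 : sm ge N3678 = N5029 := rfl
theorem L39788 : sm gb N5029 = N5029 := ded_19_1 (flp_e L39786) L29165 L39786
theorem L39789 : sm gg N5029 = N5029 := ded_36_2 (flp_e L39786) L29168 L39786
theorem L39790 : sm gd N5029 = N4062 := ded_30_1 (flp_e L32151) L23654 (flp_e L21459) (flp_d L29166) L39786
theorem L39792 : sm gh N3678 = N5030 := rfl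
theorem L39794 : sm gb N5030 = N5030 := ded_22_1 (flp_h L39792) L29165 L39792
theorem L39795 : sm gf N5030 = N3679 := ded_40_1 (flp_h L29169) L29163 L39792
theorem L39797 : sm gg N5030 = N5030 := ded_42_1 (flp_h L39792) L29168 L39792
theorem L39798 : sm gd N5030 = N5030 := ded_33_1 (flp_h L39792) L29166 L21458 (flp_d L29166) L39792
theorem L39799 : sm gi N3679 = N5031 := rfl
theorem L39801 : sm gb N5031 = N5031 := ded_23_1 (flp_i L39799) L29171 L39799
theorem L39802 : sm gd N5031 = N5031 := ded_34_1 (flp_i L39799) L29174 L39799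
theorem L39803 : sm gg N5031 = N3680 := ded_43_1 (flp_i L29175) (flp_g L29172) L39799
theorem L39805 : sm gd N3681 = N5032 := rfl
theorem L39807 : sm ga N5032 = N5032 := ded_11_1 (flp_d L39805) L29182 L39805
theorem L39808 : sm gb N5032 = N3687 := ded_18_1 (flp_d L29228) (flp_b L29183) L39805
theorem L39810 : sm gf N5032 = N5032 := ded_31_2 (flp_d L39805) L29187 L39805
theorem L39811 : sm gg N5032 = N3682 := ded_32_2 (flp_d L29190) (flp_g L29188) L39805
theorem L39813 : sm gi N3681 = N5033 := rfl
theorem L39815 : sm ga N5033 = N5033 := ded_16_1 (flp_i L39813) L29182 L39813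
theorem L39816 : sm gb N5033 = N3688 := ded_23_1 (flp_i L29235) (flp_b L29183) L39813
theorem L39818 : sm gc N5033 = N5033 := ded_29_1 (flp_i L39813) L29185 L39813
theorem L39819 : sm ge N5033 = N5033 := ded_38_1 (flp_i L39813) L29186 L39813
theorem L39820 : sm gf N5033 = N5033 := ded_41_1 (flp_i L39813) L29187 L39813
theorem L39821 : sm gg N5033 = N3683 := ded_43_1 (flp_i L29197) (flp_g L29188) L39813
theorem L39823 : sm gh N5033 = N5033 := ded_44_1 (flp_i L39813) (flp_h L29180) L21469 L29180 L39813
theorem L39824 : sm gc N3682 = N5034 := rfl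
theorem L39826 : sm ga N5034 = N5034 := ded_10_1 (flp_c L39824) L29192 L39824
theorem L39827 : sm gf N5034 = N3684 := ded_26_2 (flp_c L29207) (flp_f L29195) L39824
theorem L39829 : sm gd N5034 = N5034 := ded_24_2 (flp_c L39824) (flp_d L29190) L21476 L29190 L39824
theorem L39830 : sm ge N3682 = N5035 := rfl
theorem L39832 : sm ga N5035 = N5035 := ded_12_1 (flp_e L39830) L29192 L39830
theorem L39833 : sm gb N5035 = N3689 := ded_19_1 (flp_e L29246) (flp_b L29193) L39830
theorem L39835 : sm gd N5035 = N5035 := ded_30_1 (flp_e L39830) (flp_d L29190) L21477 L29190 L39830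
theorem L39836 : sm gi N3682 = N5036 := rfl
theorem L39838 : sm ga N5036 = N5036 := ded_16_1 (flp_i L39836) L29192 L39836
theorem L39839 : sm gb N5036 = N3690 := ded_23_1 (flp_i L29251) (flp_b L29193) L39836
theorem L39841 : sm gd N5036 = N3683 := ded_34_1 (flp_i L29197) L29190 L39836
theorem L39843 : sm gf N5036 = N3686 := ded_41_1 (flp_i L29220) (flp_f L29195) L39836
theorem L39845 : sm ge N3684 = N5037 := rfl
theorem L39847 : sm ga N5037 = N5037 := ded_12_1 (flp_e L39845) L29209 L39845
theorem L39848 : sm gc N5037 = N3685 := ded_25_1 (flp_e L29212) L29207 L39845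
theorem L39850 : sm gg N5037 = N5037 := ded_36_2 (flp_e L39845) L29210 L39845
theorem L39851 : sm gi N3684 = N5038 := rfl
theorem L39853 : sm ga N5038 = N5038 := ded_16_1 (flp_i L39851) L29209 L39851
theorem L39854 : sm gc N5038 = N3686 := ded_29_1 (flp_i L29220) L29207 L39851
theorem L39856 : sm gd N5038 = N5038 := ded_34_1 (flp_i L39851) L29211 L39851
theorem L39857 : sm gg N5038 = N5038 := ded_43_1 (flp_i L39851) L29210 L39851
theorem L39858 : sm gf N3685 = N5039 := rfl
theorem L39860 : sm ga N5039 = N5039 := ded_13_1 (flp_f L39858) L29214 L39858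
theorem L39861 : sm gb N5039 = N3691 := ded_20_1 (flp_f L29259) (flp_b L29215) L39858
theorem L39863 : sm gd N5039 = N3704 := ded_31_1 (flp_f L29348) (flp_d L29218) L39858
theorem L39865 : sm gi N3685 = N5040 := rfl
theorem L39867 : sm ga N5040 = N5040 := ded_16_1 (flp_i L39865) L29214 L39865
theorem L39868 : sm gb N5040 = N3692 := ded_23_1 (flp_i L29265) (flp_b L29215) L39865
theorem L39870 : sm gd N5040 = N3705 := ded_34_1 (flp_i L29355) (flp_d L29218) L39865
theorem L39872 : sm ge N5040 = N3686 := ded_38_1 (flp_i L29220) L29212 L39865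
theorem L39874 : sm gg N5040 = N5040 := ded_43_1 (flp_i L39865) L29217 L39865
theorem L39875 : sm gh N3686 = N5041 := rfl
theorem L39877 : sm ga N5041 = N5041 := ded_15_1 (flp_h L39875) L29222 L39875
theorem L39878 : sm gb N5041 = N3693 := ded_22_1 (flp_h L29274) (flp_b L29223) L39875
theorem L39880 : sm gg N5041 = N5041 := ded_42_1 (flp_h L39875) L29227 L39875
theorem L39881 : sm gd N5041 = N5041 := ded_33_1 (flp_h L39875) L29225 L21495 (flp_d L29225) L39875
theorem L39882 : sm ge N3687 = N5042 := rfl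
theorem L39884 : sm ga N5042 = N3694 := ded_12_1 (flp_e L29280) (flp_a L29230) L39882
theorem L39886 : sm gg N5042 = N3689 := ded_36_2 (flp_e L29246) (flp_g L29233) L39882
theorem L39888 : sm gd N5042 = N5042 := ded_30_1 (flp_e L39882) (flp_d L29228) L21502 L29228 L39882
theorem L39889 : sm gi N3687 = N5043 := rfl
theorem L39891 : sm ga N5043 = N3695 := ded_16_1 (flp_i L29286) (flp_a L29230) L39889
theorem L39893 : sm gd N5043 = N3688 := ded_34_1 (flp_i L29235) L29228 L39889
theorem L39895 : sm gf N5043 = N5043 := ded_41_1 (flp_i L39889) L29232 L39889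
theorem L39896 : sm gg N5043 = N3690 := ded_43_1 (flp_i L29251) (flp_g L29233) L39889
theorem L39898 : sm gf N3689 = N5044 := rfl
theorem L39900 : sm ga N5044 = N3696 := ded_13_1 (flp_f L29294) (flp_a L29248) L39898
theorem L39902 : sm gd N5044 = N5044 := ded_31_1 (flp_f L39898) L29250 L39898
theorem L39903 : sm ge N5044 = N3691 := ded_35_1 (flp_f L29259) (flp_e L21522) (flp_f L21510) L29246 L39898
theorem L39905 : sm gi N3689 = N5045 := rfl
theorem L39907 : sm ga N5045 = N3697 := ded_16_1 (flp_i L29300) (flp_a L29248) L39905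
theorem L39909 : sm gd N5045 = N5045 := ded_34_1 (flp_i L39905) L29250 L39905
theorem L39910 : sm ge N5045 = N3690 := ded_38_1 (flp_i L29251) L29246 L39905
theorem L39912 : sm gh N3690 = N5046 := rfl
theorem L39914 : sm ga N5046 = N3698 := ded_15_1 (flp_h L29306) (flp_a L29253) L39912
theorem L39916 : sm gf N5046 = N3693 := ded_40_1 (flp_h L29274) (flp_f L29257) L39912
theorem L39918 : sm gd N5046 = N5046 := ded_33_1 (flp_h L39912) L29255 L21521 (flp_d L29255) L39912
theorem L39919 : sm gg N3691 = N5047 := rfl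
theorem L39921 : sm ga N5047 = N3699 := ded_14_1 (flp_g L29312) (flp_a L29261) L39919
theorem L39923 : sm gd N5047 = N3707 := ded_32_1 (flp_g L29372) (flp_d L29263) L39919
theorem L39925 : sm gf N5047 = N5047 := ded_39_1 (flp_g L39919) (flp_f L29259) L21526 L29259 L39919
theorem L39926 : sm gi N3691 = N5048 := rfl
theorem L39928 : sm ga N5048 = N3700 := ded_16_1 (flp_i L29318) (flp_a L29261) L39926
theorem L39930 : sm gd N5048 = N3708 := ded_34_1 (flp_i L29380) (flp_d L29263) L39926
theorem L39932 : sm gf N5048 = N3692 := ded_41_1 (flp_i L29265) L29259 L39926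
theorem L39934 : sm gh N3692 = N5049 := rfl
theorem L39936 : sm ga N5049 = N3701 := ded_15_1 (flp_h L29325) (flp_a L29267) L39934
theorem L39938 : sm ge N5049 = N3693 := ded_37_1 (flp_h L29274) (flp_e L29271) L39934
theorem L39940 : sm gg N5049 = N5049 := ded_42_1 (flp_h L39934) L29273 L39934
theorem L39941 : sm gf N3694 = N5050 := rfl
theorem L39943 : sm gb N5050 = N5050 := ded_20_1 (flp_f L39941) L29282 L39941
theorem L39944 : sm gd N5050 = N5050 := ded_31_1 (flp_f L39941) L29285 L39941
theorem L39945 : sm ge N5050 = N5050 := ded_35_1 (flp_f L39941) (flp_e L29280) L21549 L29280 L39941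
theorem L39946 : sm gi N3694 = N5051 := rfl
theorem L39948 : sm gb N5051 = N5051 := ded_23_1 (flp_i L39946) L29282 L39946
theorem L39949 : sm gd N5051 = N5051 := ded_34_1 (flp_i L39946) L29285 L39946
theorem L39950 : sm ge N5051 = N3695 := ded_38_1 (flp_i L29286) L29280 L39946
theorem L39952 : sm gg N5051 = N3697 := ded_43_1 (flp_i L29300) (flp_g L29283) L39946
theorem L39954 : sm gh N3695 = N5052 := rfl
theorem L39956 : sm gb N5052 = N5052 := ded_22_1 (flp_h L39954) L29288 L39954
theorem L39957 : sm gf N5052 = N5052 := ded_40_1 (flp_h L39954) L29291 L39954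
theorem L39958 : sm gg N5052 = N3698 := ded_42_1 (flp_h L29306) (flp_g L29292) L39954
theorem L39960 : sm gd N5052 = N5052 := ded_33_1 (flp_h L39954) L29289 L21561 (flp_d L29289) L39954
theorem L39961 : sm gg N3696 = N5053 := rfl
theorem L39963 : sm gb N5053 = N5053 := ded_21_1 (flp_g L39961) L29296 L39961
theorem L39964 : sm gd N5053 = N5053 := ded_32_1 (flp_g L39961) L29297 L39961
theorem L39965 : sm ge N5053 = N3699 := ded_36_1 (flp_g L29312) (flp_e L29298) L39961
theorem L39967 : sm gi N3696 = N5054 := rfl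
theorem L39969 : sm gb N5054 = N5054 := ded_23_1 (flp_i L39967) L29296 L39967
theorem L39970 : sm gd N5054 = N5054 := ded_34_1 (flp_i L39967) L29297 L39967
theorem L39971 : sm ge N5054 = N3700 := ded_38_1 (flp_i L29318) (flp_e L29298) L39967
theorem L39973 : sm gf N5054 = N3697 := ded_41_1 (flp_i L29300) L29294 L39967
theorem L39975 : sm gh N3697 = N5055 := rfl
theorem L39977 : sm gb N5055 = N5055 := ded_22_1 (flp_h L39975) L29302 L39975
theorem L39978 : sm ge N5055 = N3698 := ded_37_1 (flp_h L29306) (flp_e L29304) L39975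
theorem L39980 : sm gi N3699 = N5056 := rfl
theorem L39982 : sm gb N5056 = N5056 := ded_23_1 (flp_i L39980) L29314 L39980
theorem L39983 : sm gd N5056 = N3710 := ded_34_1 (flp_i L29397) (flp_d L29315) L39980
theorem L39985 : sm gf N5056 = N5056 := ded_41_1 (flp_i L39980) L29317 L39980
theorem L39986 : sm gg N5056 = N3700 := ded_43_1 (flp_i L29318) L29312 L39980
theorem L39988 : sm gh N3700 = N5057 := rfl
theorem L39990 : sm gb N5057 = N5057 := ded_22_1 (flp_h L39988) L29320 L39988
theorem L39991 : sm gf N5057 = N3701 := ded_40_1 (flp_h L29325) (flp_f L29323) L39988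
theorem L39993 : sm gd N3701 = N5058 := rfl
theorem L39995 : sm gb N5058 = N5058 := ded_18_1 (flp_d L39993) L29327 L39993
theorem L39996 : sm gg N5058 = N5058 := ded_32_2 (flp_d L39993) L29330 L39993
theorem L39997 : sm ge N5058 = N5058 := ded_30_2 (flp_d L39993) L29328 L21590 (flp_e L29328) L39993
theorem L39998 : sm gh N5058 = N3712 := ded_33_2 (flp_d L29413) (flp_h L21653) (flp_d L21581) L29325 L39993
theorem L40000 : sm gd N3702 = N5059 := rfl
theorem L40002 : sm ga N5059 = N5059 := ded_11_1 (flp_d L40000) L29333 L40000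
theorem L40003 : sm gb N5059 = N5059 := ded_18_1 (flp_d L40000) L29334 L40000
theorem L40004 : sm gg N5059 = N5059 := ded_32_2 (flp_d L40000) L29337 L40000
theorem L40005 : sm ge N5059 = N5059 := ded_30_2 (flp_d L40000) (flp_e L29331) L21598 L29331 L40000
theorem L40006 : sm gf N3702 = N5060 := rfl
theorem L40008 : sm ga N5060 = N5060 := ded_13_1 (flp_f L40006) L29333 L40006
theorem L40009 : sm gb N5060 = N5060 := ded_20_1 (flp_f L40006) L29334 L40006
theorem L40010 : sm gc N5060 = N3704 := ded_26_1 (flp_f L29348) (flp_c L29335) L40006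
theorem L40012 : sm gh N5060 = N5060 := ded_40_2 (flp_f L40006) L29338 L40006
theorem L40013 : sm ge N5060 = N5060 := ded_35_1 (flp_f L40006) (flp_e L29331) L21594 L29331 L40006
theorem L40014 : sm gi N3702 = N5061 := rfl
theorem L40016 : sm ga N5061 = N5061 := ded_16_1 (flp_i L40014) L29333 L40014
theorem L40017 : sm gb N5061 = N5061 := ded_23_1 (flp_i L40014) L29334 L40014
theorem L40018 : sm gc N5061 = N3705 := ded_29_1 (flp_i L29355) (flp_c L29335) L40014
theorem L40020 : sm ge N5061 = N3703 := ded_38_1 (flp_i L29339) L29331 L40014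
theorem L40022 : sm gg N5061 = N5061 := ded_43_1 (flp_i L40014) L29337 L40014
theorem L40023 : sm gh N3703 = N5062 := rfl
theorem L40025 : sm ga N5062 = N5062 := ded_15_1 (flp_h L40023) L29341 L40023
theorem L40026 : sm gb N5062 = N5062 := ded_22_1 (flp_h L40023) L29342 L40023
theorem L40027 : sm gc N5062 = N3706 := ded_28_1 (flp_h L29363) (flp_c L29343) L40023
theorem L40029 : sm gf N5062 = N5062 := ded_40_1 (flp_h L40023) L29346 L40023
theorem L40030 : sm gg N5062 = N5062 := ded_42_1 (flp_h L40023) L29347 L40023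
theorem L40031 : sm gi N5062 = N5062 := ded_44_2 (flp_h L40023) (flp_i L29339) L21596 L29339 L40023
theorem L40032 : sm gg N3704 = N5063 := rfl
theorem L40034 : sm ga N5063 = N5063 := ded_14_1 (flp_g L40032) L29350 L40032
theorem L40035 : sm gb N5063 = N3707 := ded_21_1 (flp_g L29372) (flp_b L29351) L40032
theorem L40037 : sm ge N5063 = N5063 := ded_36_1 (flp_g L40032) L29354 L40032
theorem L40038 : sm gh N5063 = N5063 := ded_42_2 (flp_g L40032) L29353 L40032
theorem L40039 : sm gf N5063 = N5063 := ded_39_1 (flp_g L40032) (flp_f L29348) L21604 L29348 L40032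
theorem L40040 : sm gi N3704 = N5064 := rfl
theorem L40042 : sm ga N5064 = N5064 := ded_16_1 (flp_i L40040) L29350 L40040
theorem L40043 : sm gb N5064 = N3708 := ded_23_1 (flp_i L29380) (flp_b L29351) L40040
theorem L40045 : sm ge N5064 = N5064 := ded_38_1 (flp_i L40040) L29354 L40040
theorem L40046 : sm gf N5064 = N3705 := ded_41_1 (flp_i L29355) L29348 L40040
theorem L40048 : sm gh N3705 = N5065 := rfl
theorem L40050 : sm ga N5065 = N5065 := ded_15_1 (flp_h L40048) L29357 L40048
theorem L40051 : sm gb N5065 = N3709 := ded_22_1 (flp_h L29388) (flp_b L29358) L40048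
theorem L40053 : sm ge N5065 = N3706 := ded_37_1 (flp_h L29363) (flp_e L29360) L40048
theorem L40055 : sm gg N5065 = N5065 := ded_42_1 (flp_h L40048) L29362 L40048
theorem L40056 : sm gi N5065 = N5065 := ded_44_2 (flp_h L40048) (flp_i L29355) L21605 L29355 L40048
theorem L40057 : sm gi N3707 = N5066 := rfl
theorem L40059 : sm ga N5066 = N3710 := ded_16_1 (flp_i L29397) (flp_a L29374) L40057
theorem L40061 : sm gc N5066 = N5066 := ded_29_1 (flp_i L40057) L29376 L40057
theorem L40062 : sm ge N5066 = N5066 := ded_38_1 (flp_i L40057) L29377 L40057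
theorem L40063 : sm gf N5066 = N5066 := ded_41_1 (flp_i L40057) L29379 L40057
theorem L40064 : sm gg N5066 = N3708 := ded_43_1 (flp_i L29380) L29372 L40057
theorem L40066 : sm gh N3708 = N5067 := rfl
theorem L40068 : sm ga N5067 = N3711 := ded_15_1 (flp_h L29405) (flp_a L29382) L40066
theorem L40070 : sm gc N5067 = N5067 := ded_28_1 (flp_h L40066) L29384 L40066
theorem L40071 : sm ge N5067 = N5067 := ded_37_1 (flp_h L40066) L29385 L40066
theorem L40072 : sm gf N5067 = N3709 := ded_40_1 (flp_h L29388) (flp_f L29386) L40066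
theorem L40074 : sm gi N5067 = N5067 := ded_44_2 (flp_h L40066) (flp_i L29380) L21620 L29380 L40066
theorem L40075 : sm gd N3709 = N5068 := rfl
theorem L40077 : sm ga N5068 = N3712 := ded_11_1 (flp_d L29413) (flp_a L29390) L40075
theorem L40079 : sm gg N5068 = N5068 := ded_32_2 (flp_d L40075) L29395 L40075
theorem L40080 : sm gi N5068 = N5068 := ded_34_2 (flp_d L40075) L29396 L40075
theorem L40081 : sm ge N5068 = N5068 := ded_30_2 (flp_d L40075) L29393 L21637 (flp_e L29393) L40075
theorem L40082 : sm gh N3710 = N5069 := rfl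
theorem L40084 : sm gb N5069 = N5069 := ded_22_1 (flp_h L40082) L29399 L40082
theorem L40085 : sm gc N5069 = N5069 := ded_28_1 (flp_h L40082) L29400 L40082
theorem L40086 : sm ge N5069 = N5069 := ded_37_1 (flp_h L40082) L29401 L40082
theorem L40087 : sm gf N5069 = N5069 := ded_40_1 (flp_h L40082) L29402 L40082
theorem L40088 : sm gg N5069 = N3711 := ded_42_1 (flp_h L29405) (flp_g L29403) L40082
theorem L40090 : sm gi N5069 = N5069 := ded_44_2 (flp_h L40082) (flp_i L29397) L21644 L29397 L40082
theorem L40091 : sm gd N3711 = N5070 := rfl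
theorem L40093 : sm gb N5070 = N5070 := ded_18_1 (flp_d L40091) L29407 L40091
theorem L40094 : sm gf N5070 = N3712 := ded_31_2 (flp_d L29413) (flp_f L29410) L40091
theorem L40096 : sm gi N5070 = N5070 := ded_34_2 (flp_d L40091) L29412 L40091
theorem L40097 : sm gc N3712 = N5071 := rfl
theorem L40099 : sm ge N5071 = N5071 := ded_25_2 (flp_c L40097) L29418 L40097
theorem L40100 : sm gg N5071 = N5071 := ded_27_2 (flp_c L40097) L29416 L40097
theorem L40101 : sm gi N5071 = N5071 := ded_29_2 (flp_c L40097) L29417 L40097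
theorem L40102 : sm gd N5071 = N5071 := ded_24_2 (flp_c L40097) (flp_d L29413) L21656 L29413 L40097
theorem L40103 : sm gd N3713 = N5072 := rfl
theorem L40106 : sm gb N5072 = N3718 := ded_18_1 (flp_d L29457) (flp_b L29422) L40103
theorem L40109 : sm gg N3713 = N5073 := rfl
theorem L40114 : sm gc N5073 = N3938 := ded_27_1 (flp_g L31232) (flp_c L29424) L40109
theorem L40116 : sm ge N5073 = N3714 := ded_36_1 (flp_g L29426) L29419 L40109
theorem L40118 : sm gh N3713 = N5074 := rfl
theorem L40154 : sm ge N3716 = N5078 := rfl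
theorem L40161 : sm gi N3716 = N5079 := rfl
theorem L40167 : sm gd N5079 = N3717 := ded_34_1 (flp_i L29450) L29443 L40161
theorem L40169 : sm gg N3718 = N5080 := rfl
theorem L40171 : sm ga N5080 = N3731 := ded_14_1 (flp_g L29563) (flp_a L29459) L40169
theorem L40177 : sm gh N3718 = N5081 := rfl
theorem L40183 : sm gf N3719 = N5082 := rfl
theorem L40185 : sm ga N5082 = N3733 := ded_13_1 (flp_f L29575) (flp_a L29465) L40183
theorem L40199 : sm gd N3720 = N5084 := rfl
theorem L40201 : sm ga N5084 = N3735 := ded_11_1 (flp_d L29589) (flp_a L29473) L40199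
theorem L40203 : sm gi N3720 = N5085 := rfl
theorem L40220 : sm gi N3721 = N5087 := rfl
theorem L40228 : sm ge N3722 = N5088 := rfl
theorem L40232 : sm gc N5088 = N3764 := ded_25_1 (flp_e L29813) (flp_c L29493) L40228
theorem L40235 : sm gi N3722 = N5089 := rfl
theorem L40239 : sm gc N5089 = N3765 := ded_29_1 (flp_i L29819) (flp_c L29493) L40235
theorem L40245 : sm gf N3724 = N5090 := rfl
theorem L40252 : sm gi N3724 = N5091 := rfl
theorem L40267 : sm gh N3726 = N5093 := rfl
theorem L40273 : sm gf N5093 = N3727 := ded_40_1 (flp_h L29526) L29519 L40267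
theorem L40275 : sm gd N3727 = N5094 := rfl
theorem L40281 : sm gg N5094 = N3728 := ded_32_2 (flp_d L29536) (flp_g L29534) L40275
theorem L40283 : sm ge N5094 = N3770 := ded_30_2 (flp_d L29859) L21961 (flp_d L21735) (flp_e L29532) L40275
theorem L40286 : sm gi N3727 = N5095 := rfl
theorem L40303 : sm gi N3728 = N5097 := rfl
theorem L40319 : sm gh N3731 = N5099 := rfl
theorem L40326 : sm gd N3732 = N5100 := rfl
theorem L40329 : sm gh N5100 = N3735 := ded_33_2 (flp_d L29589) (flp_h L21759) L21747 L29570 L40326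
theorem L40336 : sm gh N3733 = N5102 := rfl
theorem L40343 : sm gd N3734 = N5103 := rfl
theorem L40346 : sm gg N5103 = N3735 := ded_32_2 (flp_d L29589) (flp_g L29587) L40343
theorem L40348 : sm gi N3734 = N5104 := rfl
theorem L40353 : sm ge N5104 = N3738 := ded_38_1 (flp_i L29607) (flp_e L29585) L40348
theorem L40361 : sm ge N3735 = N5106 := rfl
theorem L40364 : sm gd N5106 = N3739 := ded_30_1 (flp_e L29614) (flp_d L21773) (flp_e L21764) L29589 L40361
theorem L40366 : sm gi N3735 = N5107 := rfl
theorem L40371 : sm ge N3737 = N5108 := rfl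
theorem L40374 : sm gc N5108 = N3784 := ded_25_1 (flp_e L29970) (flp_c L29604) L40371
theorem L40376 : sm gg N5108 = N3739 := ded_36_2 (flp_e L29614) (flp_g L29602) L40371
theorem L40379 : sm gi N3737 = N5109 := rfl
theorem L40382 : sm gc N5109 = N3785 := ded_29_1 (flp_i L29977) (flp_c L29604) L40379
theorem L40384 : sm gd N5109 = N3738 := ded_34_1 (flp_i L29607) L29599 L40379
theorem L40386 : sm gg N5109 = N3740 := ded_43_1 (flp_i L29620) (flp_g L29602) L40379
theorem L40388 : sm gf N3739 = N5110 := rfl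
theorem L40394 : sm ge N5110 = N3741 := ded_35_1 (flp_f L29629) (flp_e L21788) (flp_f L21776) L29614 L40388
theorem L40396 : sm gi N3739 = N5111 := rfl
theorem L40403 : sm gh N3740 = N5112 := rfl
theorem L40408 : sm gf N5112 = N3743 := ded_40_1 (flp_h L29642) (flp_f L29627) L40403
theorem L40411 : sm gg N3741 = N5113 := rfl
theorem L40417 : sm gi N3741 = N5114 := rfl
theorem L40424 : sm gh N3742 = N5115 := rfl
theorem L40429 : sm ge N5115 = N3743 := ded_37_1 (flp_h L29642) (flp_e L29640) L40424
theorem L40446 : sm gc N3745 = N5118 := rfl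
theorem L40450 : sm gg N5118 = N3747 := ded_27_2 (flp_c L29671) (flp_g L29658) L40446
theorem L40463 : sm gb N3747 = N5120 := rfl
theorem L40483 : sm gc N3749 = N5123 := rfl
theorem L40487 : sm gf N5123 = N3751 := ded_26_2 (flp_c L29698) (flp_f L29688) L40483
theorem L40498 : sm gi N3749 = N5125 := rfl
theorem L40500 : sm ga N5125 = N3972 := ded_16_1 (flp_i L31474) (flp_a L29686) L40498
theorem L40502 : sm gd N5125 = N3750 := ded_34_1 (flp_i L29691) L29684 L40498
theorem L40506 : sm gb N3751 = N5126 := rfl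
theorem L40509 : sm ge N5126 = N3802 := ded_19_2 (flp_b L30098) (flp_e L29702) L40506
theorem L40514 : sm gi N3751 = N5127 := rfl
theorem L40518 : sm gc N5127 = N3752 := ded_29_1 (flp_i L29708) L29698 L40514
theorem L40523 : sm gg N5127 = N3754 := ded_43_1 (flp_i L29724) (flp_g L29704) L40514
theorem L40534 : sm ga N3753 = N5129 := rfl
theorem L40540 : sm gb N5129 = N3976 := ded_9_2 (flp_a L31504) (flp_b L23147) (flp_a L21862) L29718 L40534
theorem L40549 : sm gh N3754 = N5131 := rfl
theorem L40555 : sm ge N5131 = N3807 := ded_37_1 (flp_h L30138) (flp_e L29731) L40549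
theorem L40568 : sm gh N3756 = N5133 := rfl
theorem L40575 : sm gg N5133 = N3757 := ded_42_1 (flp_h L29750) L29740 L40568
theorem L40577 : sm gd N3757 = N5134 := rfl
theorem L40583 : sm gh N5134 = N3760 := ded_33_2 (flp_d L29778) (flp_h L21895) L21876 L29750 L40577
theorem L40604 : sm gd N3759 = N5137 := rfl
theorem L40606 : sm ga N5137 = N3779 := ded_11_1 (flp_d L29935) (flp_a L29769) L40604
theorem L40609 : sm gg N5137 = N3760 := ded_32_2 (flp_d L29778) (flp_g L29776) L40604
theorem L40623 : sm gc N3760 = N5139 := rfl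
theorem L40625 : sm ga N5139 = N3781 := ded_10_1 (flp_c L29952) (flp_a L29780) L40623
theorem L40630 : sm ge N3760 = N5140 := rfl
theorem L40632 : sm ga N5140 = N3782 := ded_12_1 (flp_e L29957) (flp_a L29780) L40630
theorem L40637 : sm gi N3760 = N5141 := rfl
theorem L40645 : sm ge N3762 = N5142 := rfl
theorem L40650 : sm gg N5142 = N3764 := ded_36_2 (flp_e L29813) (flp_g L29800) L40645
theorem L40662 : sm gf N3764 = N5144 := rfl
theorem L40668 : sm ge N5144 = N3766 := ded_35_1 (flp_f L29828) (flp_e L21932) (flp_f L21919) L29813 L40662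
theorem L40670 : sm gi N3764 = N5145 := rfl
theorem L40677 : sm gh N3765 = N5146 := rfl
theorem L40682 : sm gf N5146 = N3768 := ded_40_1 (flp_h L29843) (flp_f L29826) L40677
theorem L40686 : sm gg N3766 = N5147 := rfl
theorem L40693 : sm gi N3766 = N5148 := rfl
theorem L40701 : sm gh N3767 = N5149 := rfl
theorem L40706 : sm ge N5149 = N3768 := ded_37_1 (flp_h L29843) (flp_e L29841) L40701
theorem L40709 : sm gd N3769 = N5150 := rfl
theorem L40711 : sm ga N5150 = N3792 := ded_11_1 (flp_d L30026) (flp_a L29852) L40709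
theorem L40715 : sm gf N5150 = N3770 := ded_31_2 (flp_d L29859) (flp_f L29856) L40709
theorem L40729 : sm gc N3770 = N5152 := rfl
theorem L40731 : sm ga N5152 = N3794 := ded_10_1 (flp_c L30042) (flp_a L29861) L40729
theorem L40733 : sm gg N5152 = N3772 := ded_27_2 (flp_c L29879) (flp_g L29865) L40729
theorem L40746 : sm gb N3772 = N5154 := rfl
theorem L40750 : sm gc N5154 = N3983 := ded_17_2 (flp_b L31557) (flp_c L23190) (flp_b L21969) L29879 L40746
theorem L40768 : sm ge N3774 = N5157 := rfl
theorem L40776 : sm gh N3774 = N5158 := rfl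
theorem L40781 : sm gf N5158 = N3775 := ded_40_1 (flp_h L29903) L29894 L40776
theorem L40792 : sm gi N3775 = N5160 := rfl
theorem L40801 : sm gc N3776 = N5161 := rfl
theorem L40804 : sm gh N5161 = N3781 := ded_28_2 (flp_c L29952) (flp_h L29916) L40801
theorem L40821 : sm gd N3778 = N5164 := rfl
theorem L40825 : sm gf N5164 = N3779 := ded_31_2 (flp_d L29935) (flp_f L29932) L40821
theorem L40838 : sm gc N3779 = N5166 := rfl
theorem L40840 : sm gg N5166 = N3781 := ded_27_2 (flp_c L29952) (flp_g L29939) L40838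
theorem L40844 : sm ge N3779 = N5167 := rfl
theorem L40848 : sm gg N5167 = N3782 := ded_36_2 (flp_e L29957) (flp_g L29939) L40844
theorem L40860 : sm gb N3781 = N5169 := rfl
theorem L40867 : sm ge N3781 = N5170 := rfl
theorem L40871 : sm gi N3781 = N5171 := rfl
theorem L40878 : sm gf N3782 = N5172 := rfl
theorem L40880 : sm gb N5172 = N3823 := ded_20_1 (flp_f L30253) (flp_b L29959) L40878
theorem L40885 : sm gi N3782 = N5173 := rfl
theorem L40904 : sm gi N3784 = N5176 := rfl
theorem L40912 : sm gh N3785 = N5177 := rfl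
theorem L40927 : sm gi N3786 = N5179 := rfl
theorem L40931 : sm ge N5179 = N3790 := ded_38_1 (flp_i L30012) (flp_e L29990) L40927
theorem L40964 : sm gc N3792 = N5184 := rfl
theorem L40966 : sm gf N5184 = N3794 := ded_26_2 (flp_c L30042) (flp_f L30030) L40964
theorem L40976 : sm gi N3792 = N5186 := rfl
theorem L40985 : sm gb N3794 = N5187 := rfl
theorem L41025 : sm gb N3799 = N5193 := rfl
theorem L41027 : sm gd N5193 = N3844 := ded_18_2 (flp_b L30415) (flp_d L30081) L41025
theorem L41029 : sm gf N5193 = N3802 := ded_20_2 (flp_b L30098) (flp_f L30077) L41025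
theorem L41033 : sm ge N3799 = N5194 := rfl
theorem L41035 : sm ga N5194 = N3996 := ded_12_1 (flp_e L31651) (flp_a L30075) L41033
theorem L41041 : sm gi N3799 = N5195 := rfl
theorem L41049 : sm gf N5195 = N3803 := ded_41_1 (flp_i L30105) (flp_f L30077) L41041
theorem L41077 : sm gi N3802 = N5199 := rfl
theorem L41083 : sm gg N5199 = N3806 := ded_43_1 (flp_i L30131) (flp_g L30102) L41077
theorem L41085 : sm gh N3803 = N5200 := rfl
theorem L41091 : sm gg N5200 = N3807 := ded_42_1 (flp_h L30138) (flp_g L30113) L41085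
theorem L41103 : sm gh N3806 = N5202 := rfl
theorem L41109 : sm gd N3807 = N5203 := rfl
theorem L41111 : sm ga N5203 = N4005 := ded_11_1 (flp_d L31713) (flp_a L30140) L41109
theorem L41127 : sm gd N3809 = N5205 := rfl
theorem L41133 : sm gh N5205 = N3815 := ded_33_2 (flp_d L30198) (flp_h L22211) (flp_d L22185) L30154 L41127
theorem L41175 : sm ge N3812 = N5211 := rfl
theorem L41178 : sm gc N5211 = N3813 := ded_25_1 (flp_e L30186) L30178 L41175
theorem L41180 : sm gh N5211 = N3821 := ded_37_2 (flp_e L30239) (flp_h L30182) L41175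
theorem L41182 : sm gi N3812 = N5212 := rfl
theorem L41190 : sm gf N3813 = N5213 := rfl
theorem L41194 : sm gh N5213 = N3823 := ded_40_2 (flp_f L30253) (flp_h L30189) L41190
theorem L41197 : sm gi N3813 = N5214 := rfl
theorem L41210 : sm gc N3815 = N5216 := rfl
theorem L41213 : sm gf N5216 = N3817 := ded_26_2 (flp_c L30213) (flp_f L30201) L41210
theorem L41216 : sm gd N5216 = N3835 := ded_24_2 (flp_c L30334) (flp_d L22307) (flp_c L22214) L30198 L41210
theorem L41218 : sm ge N3815 = N5217 := rfl
theorem L41222 : sm gi N3815 = N5218 := rfl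
theorem L41227 : sm gf N5218 = N3819 := ded_41_1 (flp_i L30227) (flp_f L30201) L41222
theorem L41244 : sm gi N3817 = N5221 := rfl
theorem L41253 : sm gf N3818 = N5222 := rfl
theorem L41258 : sm gi N3818 = N5223 := rfl
theorem L41261 : sm gd N5223 = N3827 := ded_34_1 (flp_i L30276) (flp_d L30225) L41258
theorem L41265 : sm gg N5223 = N3824 := ded_43_1 (flp_i L30259) (flp_g L30223) L41258
theorem L41267 : sm gh N3819 = N5224 := rfl
theorem L41270 : sm gg N5224 = N3825 := ded_42_1 (flp_h L30266) (flp_g L30232) L41267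
theorem L41291 : sm gf N3821 = N5228 := rfl
theorem L41294 : sm gc N5228 = N3823 := ded_26_1 (flp_f L30253) (flp_c L30242) L41291
theorem L41306 : sm gh N3822 = N5230 := rfl
theorem L41309 : sm gc N5230 = N3825 := ded_28_1 (flp_h L30266) (flp_c L30248) L41306
theorem L41312 : sm gg N3823 = N5231 := rfl
theorem L41318 : sm gi N3823 = N5232 := rfl
theorem L41326 : sm gh N3824 = N5233 := rfl
theorem L41331 : sm gg N3826 = N5234 := rfl
theorem L41336 : sm gf N5234 = N3829 := ded_39_1 (flp_g L30292) (flp_f L22266) (flp_g L22255) L30271 L41331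
theorem L41338 : sm gi N3826 = N5235 := rfl
theorem L41342 : sm gf N5235 = N3827 := ded_41_1 (flp_i L30276) L30271 L41338
theorem L41344 : sm gh N3827 = N5236 := rfl
theorem L41353 : sm gi N3829 = N5237 := rfl
theorem L41357 : sm ge N5237 = N3832 := ded_38_1 (flp_i L30314) (flp_e L30296) L41353
theorem L41375 : sm gh N3832 = N5240 := rfl
theorem L41397 : sm gb N3835 = N5243 := rfl
theorem L41402 : sm gh N5243 = N4104 := ded_22_2 (flp_b L32473) (flp_h L30340) L41397
theorem L41406 : sm ge N3835 = N5244 := rfl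
theorem L41412 : sm gh N5244 = N4105 := ded_37_2 (flp_e L32480) (flp_h L30340) L41406
theorem L41423 : sm gi N3836 = N5246 := rfl
theorem L41481 : sm gh N3842 = N5252 := rfl
theorem L41489 : sm gi N5252 = N4113 := ded_44_2 (flp_h L32548) (flp_i L23934) (flp_h L22348) L30398 L41481
theorem L41498 : sm ga N3844 = N5254 := rfl
theorem L41503 : sm gh N5254 = N4115 := ded_15_2 (flp_a L32561) (flp_h L30420) L41498
theorem L41505 : sm gb N5254 = N4006 := ded_9_2 (flp_a L31720) (flp_b L23314) (flp_a L22371) L30415 L41498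
theorem L41507 : sm ge N3844 = N5255 := rfl
theorem L41512 : sm gh N5255 = N4116 := ded_37_2 (flp_e L32569) (flp_h L30420) L41507
theorem L41522 : sm gd N3845 = N5257 := rfl
theorem L41528 : sm gi N3845 = N5258 := rfl
theorem L41530 : sm ga N5258 = N4010 := ded_16_1 (flp_i L31749) (flp_a L30424) L41528
theorem L41559 : sm gi N3849 = N5261 := rfl
theorem L41566 : sm gg N5261 = N3852 := ded_43_1 (flp_i L30486) (flp_g L30462) L41559
theorem L41586 : sm gh N3852 = N5264 := rfl
theorem L41611 : sm gd N3855 = N5267 := rfl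
theorem L41613 : sm ga N5267 = N5267 := ded_11_1 (flp_d L41611) L30512 L41611
theorem L41614 : sm gb N5267 = N3860 := ded_18_1 (flp_d L30550) (flp_b L30513) L41611
theorem L41616 : sm gf N5267 = N3937 := ded_31_2 (flp_d L31225) (flp_f L30517) L41611
theorem L41618 : sm gi N5267 = N5072 := ded_34_2 (flp_d L40103) (flp_i L30515) L41611
theorem L41620 : sm ge N5267 = N5267 := ded_30_2 (flp_d L41611) (flp_e L30510) L22450 L30510 L41611
theorem L41621 : sm gg N3855 = N5268 := rfl
theorem L41624 : sm gb N5268 = N3861 := ded_21_1 (flp_g L30560) (flp_b L30513) L41621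
theorem L41626 : sm ge N5268 = N3856 := ded_36_1 (flp_g L30519) L30510 L41621
theorem L41628 : sm gi N5268 = N5073 := ded_43_2 (flp_g L40109) (flp_i L30515) L41621
theorem L41630 : sm gh N3855 = N5269 := rfl
theorem L41633 : sm gb N5269 = N3862 := ded_22_1 (flp_h L30570) (flp_b L30513) L41630
theorem L41635 : sm ge N5269 = N3857 := ded_37_1 (flp_h L30527) L30510 L41630
theorem L41639 : sm gh N3856 = N5270 := rfl
theorem L41642 : sm gb N5270 = N3863 := ded_22_1 (flp_h L30580) (flp_b L30522) L41639
theorem L41644 : sm gg N5270 = N3857 := ded_42_1 (flp_h L30527) L30519 L41639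
theorem L41646 : sm gd N3857 = N5271 := rfl
theorem L41648 : sm ga N5271 = N5271 := ded_11_1 (flp_d L41646) L30529 L41646
theorem L41649 : sm gb N5271 = N3864 := ded_18_1 (flp_d L30588) (flp_b L30530) L41646
theorem L41651 : sm gf N5271 = N3858 := ded_31_2 (flp_d L30534) (flp_f L30532) L41646
theorem L41653 : sm gh N5271 = N5271 := ded_33_2 (flp_d L41646) (flp_h L30527) L22450 L30527 L41646
theorem L41654 : sm gi N3857 = N5272 := rfl
theorem L41663 : sm gc N3858 = N5273 := rfl
theorem L41665 : sm ga N5273 = N5273 := ded_10_1 (flp_c L41663) L30536 L41663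
theorem L41666 : sm ge N5273 = N5273 := ded_25_2 (flp_c L41663) L30539 L41663
theorem L41667 : sm gh N5273 = N5273 := ded_28_2 (flp_c L41663) L30540 L41663
theorem L41668 : sm gb N5273 = N5273 := ded_17_1 (flp_c L41663) L30537 L22491 (flp_b L30537) L41663
theorem L41669 : sm gi N3858 = N5274 := rfl
theorem L41672 : sm gb N5274 = N3866 := ded_23_1 (flp_i L30606) (flp_b L30537) L41669
theorem L41674 : sm gd N5274 = N3859 := ded_34_1 (flp_i L30541) L30534 L41669
theorem L41677 : sm gg N3860 = N5275 := rfl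
theorem L41682 : sm gd N5275 = N3861 := ded_32_1 (flp_g L30560) L30550 L41677
theorem L41687 : sm gh N3860 = N5276 := rfl
theorem L41689 : sm ga N5276 = N3873 := ded_15_1 (flp_h L30667) (flp_a L30552) L41687
theorem L41693 : sm gf N5276 = N3943 := ded_40_1 (flp_h L31271) (flp_f L30554) L41687
theorem L41695 : sm gf N3861 = N5277 := rfl
theorem L41721 : sm gi N3862 = N5280 := rfl
theorem L41723 : sm ga N5280 = N3877 := ded_16_1 (flp_i L30697) (flp_a L30572) L41721
theorem L41731 : sm gh N5280 = N5085 := ded_44_1 (flp_i L40203) (flp_h L29471) (flp_i L22466) L30570 L41721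
theorem L41733 : sm gd N3863 = N5281 := rfl
theorem L41735 : sm ga N5281 = N3878 := ded_11_1 (flp_d L30708) (flp_a L30582) L41733
theorem L41741 : sm gi N3863 = N5282 := rfl
theorem L41747 : sm gg N5282 = N3865 := ded_43_1 (flp_i L30596) (flp_g L30586) L41741
theorem L41749 : sm gh N5282 = N5087 := ded_44_1 (flp_i L40220) (flp_h L29479) (flp_i L22477) L30580 L41741
theorem L41751 : sm ge N3864 = N5283 := rfl
theorem L41753 : sm ga N5283 = N3880 := ded_12_1 (flp_e L30724) (flp_a L30590) L41751
theorem L41819 : sm gf N3872 = N5291 := rfl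
theorem L41823 : sm gd N5291 = N3874 := ded_31_1 (flp_f L30674) (flp_d L30662) L41819
theorem L41827 : sm gg N5291 = N3954 := ded_39_2 (flp_f L31354) (flp_g L23038) (flp_f L22540) L30658 L41819
theorem L41829 : sm gh N3872 = N5292 := rfl
theorem L41834 : sm gg N5292 = N3873 := ded_42_1 (flp_h L30667) L30658 L41829
theorem L41852 : sm gh N3874 = N5295 := rfl
theorem L41857 : sm gf N5295 = N3875 := ded_40_1 (flp_h L30683) L30674 L41852
theorem L41896 : sm ge N3878 = N5301 := rfl
theorem L41900 : sm gg N5301 = N3880 := ded_36_2 (flp_e L30724) (flp_g L30711) L41896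
theorem L41902 : sm gh N5301 = N5301 := ded_37_2 (flp_e L41896) L30714 L41896
theorem L41911 : sm gi N3880 = N5303 := rfl
theorem L41915 : sm ge N5303 = N3881 := ded_38_1 (flp_i L30730) L30724 L41911
theorem L41946 : sm gc N3884 = N5307 := rfl
theorem L41949 : sm gg N5307 = N3886 := ded_27_2 (flp_c L30772) (flp_g L30758) L41946
theorem L41969 : sm gi N3886 = N5310 := rfl
theorem L41974 : sm gf N5310 = N3968 := ded_41_1 (flp_i L31450) (flp_f L30775) L41969
theorem L41994 : sm ge N3888 = N5313 := rfl
theorem L42000 : sm gi N3888 = N5314 := rfl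
theorem L42002 : sm gd N5314 = N3889 := ded_34_1 (flp_i L30794) L30787 L42000
theorem L42006 : sm gg N5314 = N3972 := ded_43_1 (flp_i L31474) (flp_g L30791) L42000
theorem L42008 : sm gb N3890 = N5315 := rfl
theorem L42012 : sm gg N5315 = N3892 := ded_21_2 (flp_b L30817) (flp_g L30806) L42008
theorem L42038 : sm gi N3892 = N5319 := rfl
theorem L42044 : sm gf N5319 = N3977 := ded_41_1 (flp_i L31510) (flp_f L30821) L42038
theorem L42054 : sm gd N3895 = N5321 := rfl
theorem L42057 : sm gb N5321 = N3900 := ded_18_1 (flp_d L30889) (flp_b L30843) L42054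
theorem L42059 : sm gf N5321 = N5072 := ded_31_2 (flp_d L40103) (flp_f L30849) L42054
theorem L42061 : sm gi N5321 = N3937 := ded_34_2 (flp_d L31225) (flp_i L30847) L42054
theorem L42063 : sm ge N5321 = N4019 := ded_30_2 (flp_d L31822) (flp_e L23400) (flp_d L22681) L30840 L42054
theorem L42065 : sm gg N3895 = N5322 := rfl
theorem L42070 : sm gc N5322 = N5268 := ded_27_1 (flp_g L41621) (flp_c L30845) L42065
theorem L42076 : sm gh N3895 = N5323 := rfl
theorem L42081 : sm gc N5323 = N5269 := ded_28_1 (flp_h L41630) (flp_c L30845) L42076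
theorem L42085 : sm gf N5323 = N5074 := ded_40_1 (flp_h L40118) (flp_f L30849) L42076
theorem L42087 : sm gh N3896 = N5324 := rfl
theorem L42096 : sm gd N3897 = N5325 := rfl
theorem L42101 : sm gf N5325 = N3898 := ded_31_2 (flp_d L30871) (flp_f L30869) L42096
theorem L42103 : sm gh N5325 = N4023 := ded_33_2 (flp_d L31859) (flp_h L23417) (flp_d L22681) L30862 L42096
theorem L42105 : sm gi N3897 = N5326 := rfl
theorem L42114 : sm gh N5326 = N3941 := ded_44_1 (flp_i L31254) (flp_h L22949) (flp_i L22683) L30862 L42105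
theorem L42116 : sm gc N3898 = N5327 := rfl
theorem L42118 : sm ga N5327 = N5327 := ded_10_1 (flp_c L42116) L30873 L42116
theorem L42119 : sm gh N5327 = N4024 := ded_28_2 (flp_c L31867) (flp_h L30876) L42116
theorem L42121 : sm gb N5327 = N5327 := ded_17_1 (flp_c L42116) L30874 L22726 (flp_b L30874) L42116
theorem L42122 : sm gd N5327 = N5273 := ded_24_2 (flp_c L41663) (flp_d L30534) (flp_c L22690) L30871 L42116
theorem L42124 : sm ge N3898 = N5328 := rfl
theorem L42129 : sm gh N5328 = N4025 := ded_37_2 (flp_e L31873) (flp_h L30876) L42124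
theorem L42131 : sm gd N5328 = N5078 := ded_30_1 (flp_e L40154) (flp_d L29443) (flp_e L22692) L30871 L42124
theorem L42133 : sm gi N3898 = N5329 := rfl
theorem L42136 : sm gb N5329 = N3907 := ded_23_1 (flp_i L30956) (flp_b L30874) L42133
theorem L42138 : sm gd N5329 = N3899 := ded_34_1 (flp_i L30878) L30871 L42133
theorem L42141 : sm gg N3900 = N5330 := rfl
theorem L42148 : sm ge N5330 = N4026 := ded_36_1 (flp_g L31880) (flp_e L30898) L42141
theorem L42150 : sm gi N5330 = N3942 := ded_43_2 (flp_g L31262) (flp_i L30895) L42141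
theorem L42152 : sm gh N3900 = N5331 := rfl
theorem L42157 : sm ge N5331 = N4027 := ded_37_1 (flp_h L31889) (flp_e L30898) L42152
theorem L42161 : sm gf N3901 = N5332 := rfl
theorem L42163 : sm ga N5332 = N3915 := ded_13_1 (flp_f L31036) (flp_a L30902) L42161
theorem L42165 : sm gc N5332 = N3908 := ded_26_1 (flp_f L30964) (flp_c L30904) L42161
theorem L42169 : sm gg N5332 = N5082 := ded_39_2 (flp_f L40183) (flp_g L29463) (flp_f L22702) L30900 L42161
theorem L42181 : sm gd N3902 = N5334 := rfl
theorem L42185 : sm gf N5334 = N5084 := ded_31_2 (flp_d L40199) (flp_f L30918) L42181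
theorem L42187 : sm gi N3902 = N5335 := rfl
theorem L42195 : sm gf N5335 = N5085 := ded_41_1 (flp_i L40203) (flp_f L30918) L42187
theorem L42235 : sm gf N3906 = N5340 := rfl
theorem L42237 : sm ga N5340 = N3923 := ded_13_1 (flp_f L31102) (flp_a L30949) L42235
theorem L42240 : sm gd N5340 = N5090 := ded_31_1 (flp_f L40245) (flp_d L30954) L42235
theorem L42244 : sm gi N3906 = N5341 := rfl
theorem L42246 : sm ga N5341 = N3924 := ded_16_1 (flp_i L31110) (flp_a L30949) L42244
theorem L42249 : sm gd N5341 = N5091 := ded_34_1 (flp_i L40252) (flp_d L30954) L42244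
theorem L42254 : sm gh N3908 = N5342 := rfl
theorem L42260 : sm gf N5342 = N3909 := ded_40_1 (flp_h L30975) L30964 L42254
theorem L42262 : sm gg N5342 = N5093 := ded_42_1 (flp_h L40267) (flp_g L30973) L42254
theorem L42264 : sm gd N3909 = N5343 := rfl
theorem L42270 : sm gg N5343 = N3910 := ded_32_2 (flp_d L30985) (flp_g L30983) L42264
theorem L42294 : sm gi N3910 = N5346 := rfl
theorem L42303 : sm gf N5346 = N5097 := ded_41_1 (flp_i L40303) (flp_f L30991) L42294
theorem L42305 : sm gf N3913 = N5347 := rfl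
theorem L42311 : sm gi N5347 = N3954 := ded_41_2 (flp_f L31354) (flp_i L31026) L42305
theorem L42323 : sm gd N3914 = N5349 := rfl
theorem L42328 : sm gh N5349 = N3917 := ded_33_2 (flp_d L31054) (flp_h L22799) L22780 L31028 L42323
theorem L42340 : sm gh N3915 = N5351 := rfl
theorem L42345 : sm gf N5351 = N3916 := ded_40_1 (flp_h L31045) L31036 L42340
theorem L42347 : sm gg N5351 = N5102 := ded_42_1 (flp_h L40336) (flp_g L31043) L42340
theorem L42354 : sm gi N3916 = N5353 := rfl
theorem L42363 : sm gh N5353 = N3960 := ded_44_1 (flp_i L31393) (flp_h L23057) (flp_i L22797) L31045 L42354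
theorem L42371 : sm ge N3917 = N5355 := rfl
theorem L42374 : sm gd N5355 = N3921 := ded_30_1 (flp_e L31087) (flp_d L22815) (flp_e L22804) L31054 L42371
theorem L42383 : sm ge N3919 = N5357 := rfl
theorem L42387 : sm gg N5357 = N3921 := ded_36_2 (flp_e L31087) (flp_g L31073) L42383
theorem L42389 : sm gh N5357 = N4045 := ded_37_2 (flp_e L32024) (flp_h L31076) L42383
theorem L42391 : sm gi N3919 = N5358 := rfl
theorem L42397 : sm gg N5358 = N3922 := ded_43_1 (flp_i L31093) (flp_g L31073) L42391
theorem L42408 : sm gi N3921 = N5360 := rfl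
theorem L42423 : sm gi N3923 = N5362 := rfl
theorem L42451 : sm gc N3926 = N5365 := rfl
theorem L42454 : sm gg N5365 = N3928 := ded_27_2 (flp_c L31145) (flp_g L31131) L42451
theorem L42466 : sm gb N3928 = N5367 := rfl
theorem L42469 : sm gf N5367 = N5120 := ded_20_2 (flp_b L40463) (flp_f L31148) L42466
theorem L42501 : sm ge N3930 = N5371 := rfl
theorem L42503 : sm ga N5371 = N5313 := ded_12_1 (flp_e L41994) (flp_a L31162) L42501
theorem L42519 : sm gb N3932 = N5373 := rfl
theorem L42523 : sm gg N5373 = N3934 := ded_21_2 (flp_b L31198) (flp_g L31185) L42519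
theorem L42526 : sm gi N3932 = N5374 := rfl
theorem L42534 : sm gg N5374 = N3935 := ded_43_1 (flp_i L31205) (flp_g L31185) L42526
theorem L42536 : sm gh N3933 = N5375 := rfl
theorem L42541 : sm gg N5375 = N3936 := ded_42_1 (flp_h L31215) (flp_g L31196) L42536
theorem L42546 : sm ga N3934 = N5376 := rfl
theorem L42550 : sm gf N5376 = N5129 := ded_13_2 (flp_a L40534) (flp_f L31202) L42546
theorem L42555 : sm gi N3934 = N5377 := rfl
theorem L42573 : sm gc N3937 = N5379 := rfl
theorem L42576 : sm ge N5379 = N4055 := ded_25_2 (flp_c L32100) (flp_e L31230) L42573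
theorem L42579 : sm gg N3937 = N5380 := rfl
theorem L42582 : sm gb N5380 = N3942 := ded_21_1 (flp_g L31262) (flp_b L31228) L42579
theorem L42586 : sm ge N5380 = N4056 := ded_36_1 (flp_g L32106) (flp_e L31230) L42579
theorem L42595 : sm gf N3938 = N5382 := rfl
theorem L42630 : sm gf N3942 = N5387 := rfl
theorem L42632 : sm ga N5387 = N3954 := ded_13_1 (flp_f L31354) (flp_a L31264) L42630
theorem L42637 : sm gh N3942 = N5388 := rfl
theorem L42642 : sm ge N5388 = N4060 := ded_37_1 (flp_h L32136) (flp_e L31269) L42637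
theorem L42644 : sm gg N5388 = N3943 := ded_42_1 (flp_h L31271) L31262 L42637
theorem L42653 : sm gi N3943 = N5390 := rfl
theorem L42668 : sm gd N3945 = N5392 := rfl
theorem L42672 : sm gg N5392 = N3946 := ded_32_2 (flp_d L31294) (flp_g L31292) L42668
theorem L42699 : sm gd N3949 = N5396 := rfl
theorem L42701 : sm ga N5396 = N3963 := ded_11_1 (flp_d L31413) (flp_a L31318) L42699
theorem L42703 : sm gf N5396 = N3950 := ded_31_2 (flp_d L31322) (flp_f L31320) L42699
theorem L42706 : sm gi N3949 = N5397 := rfl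
theorem L42712 : sm gc N3950 = N5398 := rfl
theorem L42718 : sm gg N5398 = N3952 := ded_27_2 (flp_c L31339) (flp_g L31326) L42712
theorem L42736 : sm gi N3952 = N5401 := rfl
theorem L42738 : sm ga N5401 = N3968 := ded_16_1 (flp_i L31450) (flp_a L31341) L42736
theorem L42751 : sm ge N3954 = N5403 := rfl
theorem L42757 : sm gh N3954 = N5404 := rfl
theorem L42779 : sm gc N3956 = N5407 := rfl
theorem L42782 : sm gh N5407 = N3961 := ded_28_2 (flp_c L31402) (flp_h L31372) L42779
theorem L42785 : sm gi N3956 = N5408 := rfl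
theorem L42818 : sm gb N3961 = N5413 := rfl
theorem L42820 : sm gd N5413 = N3967 := ded_18_2 (flp_b L31443) (flp_d L31405) L42818
theorem L42831 : sm gh N3962 = N5415 := rfl
theorem L42835 : sm gc N3963 = N5416 := rfl
theorem L42837 : sm gf N5416 = N3965 := ded_26_2 (flp_c L31426) (flp_f L31417) L42835
theorem L42847 : sm gi N3963 = N5418 := rfl
theorem L42849 : sm gb N5418 = N3972 := ded_23_1 (flp_i L31474) (flp_b L31415) L42847
theorem L42853 : sm gf N5418 = N3966 := ded_41_1 (flp_i L31433) (flp_f L31417) L42847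
theorem L42888 : sm gi N3967 = N5423 := rfl
theorem L42894 : sm ge N5423 = N3993 := ded_38_1 (flp_i L31629) (flp_e L31445) L42888
theorem L42896 : sm gh N3968 = N5424 := rfl
theorem L42923 : sm gi N3971 = N5428 := rfl
theorem L42927 : sm gf N5428 = N3998 := ded_41_1 (flp_i L31666) (flp_f L31472) L42923
theorem L42929 : sm gh N3972 = N5429 := rfl
theorem L42942 : sm gi N3973 = N5431 := rfl
theorem L42949 : sm gg N5431 = N3977 := ded_43_1 (flp_i L31510) (flp_g L31485) L42942
theorem L42960 : sm gi N3976 = N5433 := rfl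
theorem L42965 : sm ge N5433 = N4003 := ded_38_1 (flp_i L31700) (flp_e L31507) L42960
theorem L42967 : sm gh N3977 = N5434 := rfl
theorem L42971 : sm ge N5434 = N4004 := ded_37_1 (flp_h L31707) (flp_e L31515) L42967
theorem L43025 : sm ga N3983 = N5442 := rfl
theorem L43030 : sm gb N5442 = N3992 := ded_9_2 (flp_a L31622) (flp_b L23235) (flp_a L23192) L31557 L43025
theorem L43046 : sm gb N3986 = N5445 := rfl
theorem L43049 : sm gf N5445 = N3989 := ded_20_2 (flp_b L31599) (flp_f L31579) L43046
theorem L43055 : sm ge N3986 = N5446 := rfl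
theorem L43076 : sm gh N3988 = N5449 := rfl
theorem L43080 : sm gf N5449 = N3991 := ded_40_1 (flp_h L31614) (flp_f L31596) L43076
theorem L43085 : sm ga N3989 = N5450 := rfl
theorem L43087 : sm gc N5450 = N4000 := ded_10_2 (flp_a L31678) (flp_c L31605) L43085
theorem L43090 : sm gg N5450 = N3992 := ded_14_2 (flp_a L31622) (flp_g L31602) L43085
theorem L43093 : sm gi N3989 = N5451 := rfl
theorem L43100 : sm gg N5451 = N3993 := ded_43_1 (flp_i L31629) (flp_g L31602) L43093
theorem L43109 : sm gi N3992 = N5453 := rfl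
theorem L43154 : sm gd N3996 = N5459 := rfl
theorem L43166 : sm gh N3997 = N5461 := rfl
theorem L43170 : sm gf N5461 = N4002 := ded_40_1 (flp_h L31693) (flp_f L31663) L43166
theorem L43174 : sm gh N3998 = N5462 := rfl
theorem L43180 : sm gi N4000 = N5463 := rfl
theorem L43186 : sm gg N5463 = N4003 := ded_43_1 (flp_i L31700) (flp_g L31682) L43180
theorem L43188 : sm gh N4001 = N5464 := rfl
theorem L43192 : sm gg N5464 = N4004 := ded_42_1 (flp_h L31707) (flp_g L31691) L43188
theorem L43195 : sm gd N4002 = N5465 := rfl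
theorem L43197 : sm gg N5465 = N4005 := ded_32_2 (flp_d L31713) (flp_g L31697) L43195
theorem L43203 : sm gh N4003 = N5466 := rfl
theorem L43217 : sm ge N4005 = N5468 := rfl
theorem L43220 : sm gh N5468 = N4018 := ded_37_2 (flp_e L31816) (flp_h L31718) L43217
theorem L43223 : sm ge N4006 = N5469 := rfl
theorem L43229 : sm gh N5469 = N4128 := ded_37_2 (flp_e L32664) (flp_h L31726) L43223
theorem L43246 : sm gi N4007 = N5472 := rfl
theorem L43248 : sm gb N5472 = N4010 := ded_23_1 (flp_i L31749) (flp_b L31730) L43246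
theorem L43277 : sm gh N4010 = N5476 := rfl
theorem L43285 : sm gi N5476 = N4135 := ded_44_2 (flp_h L32718) (flp_i L24066) (flp_h L23327) L31749 L43277
theorem L43287 : sm gd N4011 = N5477 := rfl
theorem L43313 : sm gd N4014 = N5480 := rfl
theorem L43315 : sm gb N5480 = N4015 := ded_18_1 (flp_d L31793) (flp_b L31785) L43313
theorem L43317 : sm gg N5480 = N4017 := ded_32_2 (flp_d L31809) (flp_g L31789) L43313
theorem L43321 : sm ge N4015 = N5481 := rfl
theorem L43326 : sm gi N5481 = N4140 := ded_38_2 (flp_e L32755) (flp_i L31797) L43321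
theorem L43343 : sm ge N4017 = N5484 := rfl
theorem L43347 : sm gi N5484 = N4143 := ded_38_2 (flp_e L32774) (flp_i L31814) L43343
theorem L43350 : sm gf N4018 = N5485 := rfl
theorem L43354 : sm gi N5485 = N4144 := ded_41_2 (flp_f L32780) (flp_i L31819) L43350
theorem L43357 : sm gc N4019 = N5486 := rfl
theorem L43359 : sm ga N5486 = N5486 := ded_10_1 (flp_c L43357) L31824 L43357
theorem L43360 : sm gf N5486 = N5486 := ded_26_2 (flp_c L43357) L31827 L43357
theorem L43361 : sm gi N5486 = N4055 := ded_29_2 (flp_c L32100) (flp_i L31828) L43357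
theorem L43363 : sm gb N5486 = N5486 := ded_17_1 (flp_c L43357) L31825 L23439 (flp_b L31825) L43357
theorem L43364 : sm gd N5486 = N5486 := ded_24_2 (flp_c L43357) (flp_d L31822) L23405 L31822 L43357
theorem L43365 : sm gg N4019 = N5487 := rfl
theorem L43367 : sm ga N5487 = N5487 := ded_14_1 (flp_g L43365) L31824 L43365
theorem L43368 : sm gb N5487 = N4026 := ded_21_1 (flp_g L31880) (flp_b L31825) L43365
theorem L43370 : sm gd N5487 = N4020 := ded_32_1 (flp_g L31830) L31822 L43365
theorem L43372 : sm gi N5487 = N4056 := ded_43_2 (flp_g L32106) (flp_i L31828) L43365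
theorem L43374 : sm gh N4019 = N5488 := rfl
theorem L43377 : sm gb N5488 = N4027 := ded_22_1 (flp_h L31889) (flp_b L31825) L43374
theorem L43380 : sm gf N4020 = N5489 := rfl
theorem L43382 : sm ga N5489 = N5489 := ded_13_1 (flp_f L43380) L31832 L43380
theorem L43383 : sm gb N5489 = N4028 := ded_20_1 (flp_f L31895) (flp_b L31833) L43380
theorem L43385 : sm gc N5489 = N5489 := ded_26_1 (flp_f L43380) L31835 L43380
theorem L43386 : sm gi N5489 = N4058 := ded_41_2 (flp_f L32120) (flp_i L31838) L43380
theorem L43388 : sm gg N5489 = N5489 := ded_39_2 (flp_f L43380) (flp_g L31830) L23408 L31830 L43380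
theorem L43389 : sm gh N4020 = N5490 := rfl
theorem L43391 : sm ga N5490 = N5490 := ded_15_1 (flp_h L43389) L31832 L43389
theorem L43392 : sm gb N5490 = N4029 := ded_22_1 (flp_h L31904) (flp_b L31833) L43389
theorem L43394 : sm gc N5490 = N5490 := ded_28_1 (flp_h L43389) L31835 L43389
theorem L43395 : sm ge N5490 = N4022 := ded_37_1 (flp_h L31850) (flp_e L31836) L43389
theorem L43397 : sm gg N5490 = N4021 := ded_42_1 (flp_h L31840) L31830 L43389
theorem L43399 : sm gi N5490 = N5490 := ded_44_2 (flp_h L43389) L31838 L23627 (flp_i L31838) L43389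
theorem L43400 : sm gd N4021 = N5491 := rfl
theorem L43407 : sm gd N4022 = N5492 := rfl
theorem L43409 : sm ga N5492 = N5492 := ded_11_1 (flp_d L43407) L31852 L43407
theorem L43410 : sm gb N5492 = N4031 := ded_18_1 (flp_d L31921) (flp_b L31853) L43407
theorem L43412 : sm gg N5492 = N4023 := ded_32_2 (flp_d L31859) (flp_g L31856) L43407
theorem L43414 : sm gi N5492 = N5492 := ded_34_2 (flp_d L43407) L31858 L43407
theorem L43415 : sm gc N4023 = N5493 := rfl
theorem L43417 : sm ga N5493 = N5493 := ded_10_1 (flp_c L43415) L31861 L43415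
theorem L43418 : sm gf N5493 = N4024 := ded_26_2 (flp_c L31867) (flp_f L31864) L43415
theorem L43420 : sm gi N5493 = N5493 := ded_29_2 (flp_c L43415) L31866 L43415
theorem L43421 : sm gb N5493 = N5493 := ded_17_1 (flp_c L43415) L31862 L23476 (flp_b L31862) L43415
theorem L43422 : sm gd N5493 = N5493 := ded_24_2 (flp_c L43415) (flp_d L31859) L23422 L31859 L43415
theorem L43423 : sm ge N4023 = N5494 := rfl
theorem L43429 : sm ge N4024 = N5495 := rfl
theorem L43431 : sm ga N5495 = N5495 := ded_12_1 (flp_e L43429) L31869 L43429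
theorem L43432 : sm gb N5495 = N5495 := ded_19_1 (flp_e L43429) L31871 L43429
theorem L43433 : sm gc N5495 = N4025 := ded_25_1 (flp_e L31873) L31867 L43429
theorem L43435 : sm gi N5495 = N5495 := ded_38_2 (flp_e L43429) L31870 L43429
theorem L43436 : sm gf N4025 = N5496 := rfl
theorem L43443 : sm gf N4026 = N5497 := rfl
theorem L43445 : sm ga N5497 = N4037 := ded_13_1 (flp_f L31969) (flp_a L31882) L43443
theorem L43447 : sm gc N5497 = N5497 := ded_26_1 (flp_f L43443) L31884 L43443
theorem L43448 : sm gd N5497 = N4028 := ded_31_1 (flp_f L31895) (flp_d L31885) L43443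
theorem L43450 : sm gi N5497 = N4059 := ded_41_2 (flp_f L32128) (flp_i L31887) L43443
theorem L43452 : sm gg N5497 = N5497 := ded_39_2 (flp_f L43443) (flp_g L31880) L23436 L31880 L43443
theorem L43453 : sm gh N4026 = N5498 := rfl
theorem L43455 : sm ga N5498 = N4038 := ded_15_1 (flp_h L31978) (flp_a L31882) L43453
theorem L43458 : sm gg N5498 = N4027 := ded_42_1 (flp_h L31889) L31880 L43453
theorem L43475 : sm gh N4028 = N5501 := rfl
theorem L43485 : sm gd N4029 = N5502 := rfl
theorem L43487 : sm ga N5502 = N4042 := ded_11_1 (flp_d L32006) (flp_a L31906) L43485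
theorem L43489 : sm gg N5502 = N4030 := ded_32_2 (flp_d L31915) (flp_g L31912) L43485
theorem L43500 : sm ge N4030 = N5504 := rfl
theorem L43502 : sm ga N5504 = N4044 := ded_12_1 (flp_e L32018) (flp_a L31917) L43500
theorem L43505 : sm gd N5504 = N4032 := ded_30_1 (flp_e L31929) (flp_d L23469) (flp_e L23456) L31915 L43500
theorem L43507 : sm ge N4031 = N5505 := rfl
theorem L43549 : sm gb N4036 = N5510 := rfl
theorem L43556 : sm ge N4037 = N5511 := rfl
theorem L43558 : sm gb N5511 = N5511 := ded_19_1 (flp_e L43556) L31971 L43556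
theorem L43559 : sm gc N5511 = N5511 := ded_25_1 (flp_e L43556) L31972 L43556
theorem L43560 : sm gg N5511 = N5511 := ded_36_2 (flp_e L43556) L31977 L43556
theorem L43561 : sm gi N5511 = N4062 := ded_38_2 (flp_e L32151) (flp_i L31975) L43556
theorem L43563 : sm gh N4037 = N5512 := rfl
theorem L43570 : sm gd N4038 = N5513 := rfl
theorem L43573 : sm gg N5513 = N4039 := ded_32_2 (flp_d L31984) (flp_g L31982) L43570
theorem L43575 : sm gh N5513 = N4042 := ded_33_2 (flp_d L32006) (flp_h L23533) (flp_d L23516) L31978 L43570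
theorem L43591 : sm ge N4039 = N5516 := rfl
theorem L43596 : sm gi N4039 = N5517 := rfl
theorem L43632 : sm ge N4043 = N5522 := rfl
theorem L43634 : sm gc N5522 = N4044 := ded_25_1 (flp_e L32018) L32012 L43632
theorem L43638 : sm gf N4044 = N5523 := rfl
theorem L43664 : sm ge N4048 = N5527 := rfl
theorem L43681 : sm ga N4050 = N5529 := rfl
theorem L43689 : sm gb N4051 = N5530 := rfl
theorem L43692 : sm gf N5530 = N4053 := ded_20_2 (flp_b L32084) (flp_f L32071) L43689
theorem L43697 : sm ge N4051 = N5531 := rfl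
theorem L43700 : sm gc N5531 = N4052 := ded_25_1 (flp_e L32077) L32068 L43697
theorem L43715 : sm gg N4055 = N5533 := rfl
theorem L43717 : sm ga N5533 = N5533 := ded_14_1 (flp_g L43715) L32102 L43715
theorem L43718 : sm gb N5533 = N5533 := ded_21_1 (flp_g L43715) L32104 L43715
theorem L43719 : sm gc N5533 = N4056 := ded_27_1 (flp_g L32106) L32100 L43715
theorem L43721 : sm gd N5533 = N5533 := ded_32_1 (flp_g L43715) L32105 L43715
theorem L43722 : sm gh N4055 = N5534 := rfl
theorem L43726 : sm gc N5534 = N4057 := ded_28_1 (flp_h L32113) L32100 L43722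
theorem L43728 : sm gf N5534 = N5534 := ded_40_1 (flp_h L43722) L32103 L43722
theorem L43729 : sm gf N4056 = N5535 := rfl
theorem L43731 : sm ga N5535 = N5535 := ded_13_1 (flp_f L43729) L32108 L43729
theorem L43732 : sm gb N5535 = N4059 := ded_20_1 (flp_f L32128) (flp_b L32109) L43729
theorem L43734 : sm gd N5535 = N4058 := ded_31_1 (flp_f L32120) (flp_d L32111) L43729
theorem L43736 : sm gg N5535 = N5535 := ded_39_2 (flp_f L43729) (flp_g L32106) L23618 L32106 L43729
theorem L43737 : sm gh N4056 = N5536 := rfl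
theorem L43742 : sm gg N5536 = N4057 := ded_42_1 (flp_h L32113) L32106 L43737
theorem L43752 : sm ge N4059 = N5538 := rfl
theorem L43754 : sm ga N5538 = N4062 := ded_12_1 (flp_e L32151) (flp_a L32130) L43752
theorem L43756 : sm gc N5538 = N5538 := ded_25_1 (flp_e L43752) L32132 L43752
theorem L43757 : sm gg N5538 = N5538 := ded_36_2 (flp_e L43752) L32135 L43752
theorem L43758 : sm gh N4059 = N5539 := rfl
theorem L43760 : sm ga N5539 = N4063 := ded_15_1 (flp_h L32156) (flp_a L32130) L43758
theorem L43767 : sm gi N4060 = N5540 := rfl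
theorem L43775 : sm gh N4062 = N5541 := rfl
theorem L43779 : sm ge N5541 = N4063 := ded_37_1 (flp_h L32156) L32151 L43775
theorem L43806 : sm gc N4066 = N5545 := rfl
theorem L43809 : sm gf N5545 = N4068 := ded_26_2 (flp_c L32196) (flp_f L32183) L43806
theorem L43812 : sm gh N5545 = N4077 := ded_28_2 (flp_c L32262) (flp_h L32186) L43806
theorem L43821 : sm gi N4066 = N5547 := rfl
theorem L43830 : sm gb N4068 = N5548 := rfl
theorem L43832 : sm gg N5548 = N4071 := ded_21_2 (flp_b L32220) (flp_g L32199) L43830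
theorem L43837 : sm ge N4068 = N5549 := rfl
theorem L43842 : sm gg N5549 = N4072 := ded_36_2 (flp_e L32226) (flp_g L32199) L43837
theorem L43844 : sm gh N5549 = N4081 := ded_37_2 (flp_e L32292) (flp_h L32201) L43837
theorem L43846 : sm gi N4068 = N5550 := rfl
theorem L43853 : sm gf N4069 = N5551 := rfl
theorem L43858 : sm gh N5551 = N4083 := ded_40_2 (flp_f L32309) (flp_h L32209) L43853
theorem L43892 : sm gi N4071 = N5556 := rfl
theorem L43898 : sm gd N4072 = N5557 := rfl
theorem L43911 : sm gi N4072 = N5559 := rfl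
theorem L43926 : sm gg N4074 = N5561 := rfl
theorem L43934 : sm gi N4074 = N5562 := rfl
theorem L43950 : sm gb N4077 = N5564 := rfl
theorem L43958 : sm ge N4077 = N5565 := rfl
theorem L43964 : sm gi N4077 = N5566 := rfl
theorem L43971 : sm gf N5566 = N4082 := ded_41_1 (flp_i L32300) (flp_f L32265) L43964
theorem L43997 : sm ga N4080 = N5570 := rfl
theorem L44002 : sm gg N5570 = N4086 := ded_14_2 (flp_a L32332) (flp_g L32289) L43997
theorem L44005 : sm ge N4080 = N5571 := rfl
theorem L44010 : sm gg N5571 = N4087 := ded_36_2 (flp_e L32339) (flp_g L32289) L44005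
theorem L44022 : sm gf N4081 = N5573 := rfl
theorem L44025 : sm gc N5573 = N4083 := ded_26_1 (flp_f L32309) (flp_c L32295) L44022
theorem L44038 : sm gh N4082 = N5575 := rfl
theorem L44045 : sm gg N4083 = N5576 := rfl
theorem L44053 : sm gi N4083 = N5577 := rfl
theorem L44076 : sm gi N4086 = N5580 := rfl
theorem L44082 : sm gd N5580 = N4112 := ded_34_1 (flp_i L32539) (flp_d L32335) L44076
theorem L44092 : sm gi N4087 = N5582 := rfl
theorem L44094 : sm gb N5582 = N4090 := ded_23_1 (flp_i L32360) (flp_b L32341) L44092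
theorem L44100 : sm gh N4088 = N5583 := rfl
theorem L44122 : sm gh N4090 = N5586 := rfl
theorem L44145 : sm gh N4093 = N5589 := rfl
theorem L44257 : sm gi N4104 = N5603 := rfl
theorem L44263 : sm gf N5603 = N4110 := ded_41_1 (flp_i L32522) (flp_f L32475) L44257
theorem L44272 : sm gi N4105 = N5605 := rfl
theorem L44289 : sm gh N4107 = N5607 := rfl
theorem L44332 : sm gd N4113 = N5612 := rfl
theorem L44342 : sm ge N4115 = N5614 := rfl
theorem L44344 : sm ga N5614 = N4116 := ded_12_1 (flp_e L32569) L32561 L44342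
theorem L44346 : sm gb N5614 = N4128 := ded_19_1 (flp_e L32664) (flp_b L32567) L44342
theorem L44350 : sm gi N4115 = N5615 := rfl
theorem L44357 : sm gf N5615 = N4122 := ded_41_1 (flp_i L32618) (flp_f L32564) L44350
theorem L44360 : sm gd N4116 = N5616 := rfl
theorem L44382 : sm gh N4118 = N5619 := rfl
theorem L44400 : sm gh N4119 = N5621 := rfl
theorem L44427 : sm gh N4122 = N5624 := rfl
theorem L44479 : sm gd N4128 = N5631 := rfl
theorem L44517 : sm gi N4130 = N5636 := rfl
theorem L44521 : sm gd N5636 = N4131 := ded_34_1 (flp_i L32687) L32680 L44517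
theorem L44526 : sm gh N4131 = N5637 := rfl
theorem L44543 : sm gi N4133 = N5639 := rfl
theorem L44549 : sm gh N4134 = N5640 := rfl
theorem L44555 : sm gd N4135 = N5641 := rfl
theorem L44616 : sm gf N4143 = N5651 := rfl
theorem L44618 : sm gb N5651 = N4144 := ded_20_1 (flp_f L32780) (flp_b L32776) L44616
theorem L44623 : sm gg N4144 = N5652 := rfl
theorem L44629 : sm gf N4145 = N5653 := rfl
theorem L44631 : sm ga N5653 = N4166 := ded_13_1 (flp_f L32947) (flp_a L32790) L44629
theorem L44633 : sm gb N5653 = N4146 := ded_20_1 (flp_f L32794) L32786 L44629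
theorem L44635 : sm gc N5653 = N4519 := ded_26_1 (flp_f L35829) (flp_c L32792) L44629
theorem L44637 : sm gd N5653 = N5653 := ded_31_1 (flp_f L44629) L32788 L44629
theorem L44638 : sm gh N4145 = N5654 := rfl
theorem L44640 : sm ga N5654 = N4167 := ded_15_1 (flp_h L32954) (flp_a L32790) L44638
theorem L44642 : sm gb N5654 = N4147 := ded_22_1 (flp_h L32801) L32786 L44638
theorem L44644 : sm gc N5654 = N4520 := ded_28_1 (flp_h L35837) (flp_c L32792) L44638
theorem L44646 : sm gg N5654 = N5654 := ded_42_1 (flp_h L44638) L32789 L44638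
theorem L44647 : sm ge N4146 = N5655 := rfl
theorem L44649 : sm ga N5655 = N4152 := ded_12_1 (flp_e L32841) (flp_a L32796) L44647
theorem L44651 : sm gc N5655 = N4148 := ded_25_1 (flp_e L32808) (flp_c L32798) L44647
theorem L44653 : sm gg N4146 = N5656 := rfl
theorem L44657 : sm gc N5656 = N4149 := ded_27_1 (flp_g L32815) (flp_c L32798) L44653
theorem L44661 : sm gh N4146 = N5657 := rfl
theorem L44663 : sm ga N5657 = N4154 := ded_15_1 (flp_h L32855) (flp_a L32796) L44661
theorem L44665 : sm gc N5657 = N4150 := ded_28_1 (flp_h L32824) (flp_c L32798) L44661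
theorem L44667 : sm gf N5657 = N4147 := ded_40_1 (flp_h L32801) L32794 L44661
theorem L44669 : sm gd N4147 = N5658 := rfl
theorem L44671 : sm ga N5658 = N4155 := ded_11_1 (flp_d L32863) (flp_a L32803) L44669
theorem L44673 : sm gg N5658 = N5658 := ded_32_2 (flp_d L44669) L32807 L44669
theorem L44674 : sm gc N5658 = N5658 := ded_24_1 (flp_d L44669) L32805 L24150 (flp_c L32805) L44669
theorem L44675 : sm gh N5658 = N5658 := ded_33_2 (flp_d L44669) (flp_h L32801) L24134 L32801 L44669
theorem L44676 : sm gi N4147 = N5659 := rfl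
theorem L44678 : sm ga N5659 = N4156 := ded_16_1 (flp_i L32870) (flp_a L32803) L44676
theorem L44680 : sm gc N5659 = N4151 := ded_29_1 (flp_i L32833) (flp_c L32805) L44676
theorem L44682 : sm gg N5659 = N5659 := ded_43_1 (flp_i L44676) L32807 L44676
theorem L44683 : sm gg N4148 = N5660 := rfl
theorem L44685 : sm ga N5660 = N4157 := ded_14_1 (flp_g L32877) (flp_a L32810) L44683
theorem L44687 : sm gb N5660 = N4526 := ded_21_1 (flp_g L35882) (flp_b L32812) L44683
theorem L44692 : sm gh N4148 = N5661 := rfl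
theorem L44694 : sm ga N5661 = N4158 := ded_15_1 (flp_h L32884) (flp_a L32810) L44692
theorem L44696 : sm gb N5661 = N4527 := ded_22_1 (flp_h L35889) (flp_b L32812) L44692
theorem L44698 : sm ge N5661 = N4150 := ded_37_1 (flp_h L32824) L32808 L44692
theorem L44700 : sm gh N4149 = N5662 := rfl
theorem L44704 : sm gb N5662 = N4528 := ded_22_1 (flp_h L35895) (flp_b L32819) L44700
theorem L44707 : sm gg N5662 = N4150 := ded_42_1 (flp_h L32824) L32815 L44700
theorem L44710 : sm gi N4150 = N5663 := rfl
theorem L44712 : sm ga N5663 = N4160 := ded_16_1 (flp_i L32898) (flp_a L32826) L44710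
theorem L44714 : sm gb N5663 = N4529 := ded_23_1 (flp_i L35903) (flp_b L32828) L44710
theorem L44716 : sm gd N5663 = N5663 := ded_34_1 (flp_i L44710) L32832 L44710
theorem L44717 : sm gf N5663 = N4151 := ded_41_1 (flp_i L32833) (flp_f L32830) L44710
theorem L44719 : sm gd N4152 = N5664 := rfl
theorem L44721 : sm gb N5664 = N4177 := ded_18_1 (flp_d L33037) (flp_b L32843) L44719
theorem L44723 : sm gc N5664 = N5664 := ded_24_1 (flp_d L44719) L32845 L24179 (flp_c L32845) L44719
theorem L44724 : sm ge N5664 = N5664 := ded_30_2 (flp_d L44719) (flp_e L32841) L24167 L32841 L44719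
theorem L44725 : sm gg N4152 = N5665 := rfl
theorem L44727 : sm gb N5665 = N4178 := ded_21_1 (flp_g L33042) (flp_b L32843) L44725
theorem L44733 : sm gh N4152 = N5666 := rfl
theorem L44735 : sm gb N5666 = N4179 := ded_22_1 (flp_h L33048) (flp_b L32843) L44733
theorem L44737 : sm gc N5666 = N4158 := ded_28_1 (flp_h L32884) (flp_c L32845) L44733
theorem L44739 : sm ge N5666 = N4154 := ded_37_1 (flp_h L32855) L32841 L44733
theorem L44741 : sm gh N4153 = N5667 := rfl
theorem L44743 : sm gb N5667 = N4180 := ded_22_1 (flp_h L33054) (flp_b L32849) L44741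
theorem L44748 : sm gg N5667 = N4154 := ded_42_1 (flp_h L32855) L32847 L44741
theorem L44750 : sm gd N4154 = N5668 := rfl
theorem L44752 : sm gb N5668 = N4181 := ded_18_1 (flp_d L33061) (flp_b L32857) L44750
theorem L44754 : sm gf N5668 = N4155 := ded_31_2 (flp_d L32863) (flp_f L32861) L44750
theorem L44756 : sm gc N5668 = N5668 := ded_24_1 (flp_d L44750) L32859 L24193 (flp_c L32859) L44750
theorem L44757 : sm gh N5668 = N5668 := ded_33_2 (flp_d L44750) (flp_h L32855) L24167 L32855 L44750
theorem L44758 : sm gi N4154 = N5669 := rfl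
theorem L44760 : sm gb N5669 = N4182 := ded_23_1 (flp_i L33068) (flp_b L32857) L44758
theorem L44762 : sm gc N5669 = N4160 := ded_29_1 (flp_i L32898) (flp_c L32859) L44758
theorem L44764 : sm gf N5669 = N4156 := ded_41_1 (flp_i L32870) (flp_f L32861) L44758
theorem L44766 : sm ge N4155 = N5670 := rfl
theorem L44768 : sm gb N5670 = N4183 := ded_19_1 (flp_e L33074) (flp_b L32865) L44766
theorem L44770 : sm gc N5670 = N5670 := ded_25_1 (flp_e L44766) L32868 L44766
theorem L44771 : sm gg N5670 = N5670 := ded_36_2 (flp_e L44766) L32867 L44766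
theorem L44772 : sm gh N5670 = N5670 := ded_37_2 (flp_e L44766) L32869 L44766
theorem L44773 : sm gi N4155 = N5671 := rfl
theorem L44775 : sm gb N5671 = N4184 := ded_23_1 (flp_i L33080) (flp_b L32865) L44773
theorem L44777 : sm gc N5671 = N5671 := ded_29_1 (flp_i L44773) L32868 L44773
theorem L44778 : sm gd N5671 = N4156 := ded_34_1 (flp_i L32870) L32863 L44773
theorem L44780 : sm gg N5671 = N5671 := ded_43_1 (flp_i L44773) L32867 L44773
theorem L44781 : sm gf N4157 = N5672 := rfl
theorem L44783 : sm gb N5672 = N4161 := ded_20_1 (flp_f L32905) (flp_b L32879) L44781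
theorem L44787 : sm gh N4157 = N5673 := rfl
theorem L44789 : sm gb N5673 = N4162 := ded_22_1 (flp_h L32913) (flp_b L32879) L44787
theorem L44791 : sm ge N5673 = N4159 := ded_37_1 (flp_h L32890) (flp_e L32882) L44787
theorem L44793 : sm gg N5673 = N4158 := ded_42_1 (flp_h L32884) L32877 L44787
theorem L44795 : sm gd N4158 = N5674 := rfl
theorem L44797 : sm gb N5674 = N4163 := ded_18_1 (flp_d L32923) (flp_b L32886) L44795
theorem L44799 : sm ge N5674 = N5674 := ded_30_2 (flp_d L44795) L32888 L24193 (flp_e L32888) L44795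
theorem L44800 : sm gh N5674 = N5674 := ded_33_2 (flp_d L44795) (flp_h L32884) L24179 L32884 L44795
theorem L44801 : sm gi N4158 = N5675 := rfl
theorem L44803 : sm gb N5675 = N4164 := ded_23_1 (flp_i L32929) (flp_b L32886) L44801
theorem L44805 : sm ge N5675 = N4160 := ded_38_1 (flp_i L32898) (flp_e L32888) L44801
theorem L44807 : sm gi N4159 = N5676 := rfl
theorem L44813 : sm gg N5676 = N4160 := ded_43_1 (flp_i L32898) (flp_g L32895) L44807
theorem L44815 : sm gh N4161 = N5677 := rfl
theorem L44817 : sm ga N5677 = N4543 := ded_15_1 (flp_h L36009) (flp_a L32907) L44815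
theorem L44819 : sm gc N5677 = N4190 := ded_28_1 (flp_h L33125) (flp_c L32909) L44815
theorem L44824 : sm gd N4162 = N5678 := rfl
theorem L44826 : sm ga N5678 = N4544 := ded_11_1 (flp_d L36016) (flp_a L32915) L44824
theorem L44828 : sm gg N5678 = N4163 := ded_32_2 (flp_d L32923) (flp_g L32921) L44824
theorem L44832 : sm gi N4162 = N5679 := rfl
theorem L44834 : sm ga N5679 = N4545 := ded_16_1 (flp_i L36022) (flp_a L32915) L44832
theorem L44836 : sm gc N5679 = N4192 := ded_29_1 (flp_i L33142) (flp_c L32917) L44832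
theorem L44840 : sm gg N5679 = N4164 := ded_43_1 (flp_i L32929) (flp_g L32921) L44832
theorem L44842 : sm gc N4163 = N5680 := rfl
theorem L44844 : sm ga N5680 = N4546 := ded_10_1 (flp_c L36030) (flp_a L32925) L44842
theorem L44848 : sm gd N5680 = N4193 := ded_24_2 (flp_c L33150) (flp_d L24365) (flp_c L24213) L32923 L44842
theorem L44850 : sm gi N4163 = N5681 := rfl
theorem L44852 : sm ga N5681 = N4547 := ded_16_1 (flp_i L36036) (flp_a L32925) L44850
theorem L44854 : sm gd N5681 = N4164 := ded_34_1 (flp_i L32929) L32923 L44850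
theorem L44856 : sm ge N5681 = N5681 := ded_38_1 (flp_i L44850) L32927 L44850
theorem L44857 : sm ge N4166 = N5682 := rfl
theorem L44859 : sm gb N5682 = N4168 := ded_19_1 (flp_e L32961) (flp_b L32949) L44857
theorem L44861 : sm gc N5682 = N4577 := ded_25_1 (flp_e L36307) (flp_c L32951) L44857
theorem L44863 : sm gg N4166 = N5683 := rfl
theorem L44867 : sm gc N5683 = N4578 := ded_27_1 (flp_g L36311) (flp_c L32951) L44863
theorem L44871 : sm gh N4166 = N5684 := rfl
theorem L44873 : sm gb N5684 = N4170 := ded_22_1 (flp_h L32975) (flp_b L32949) L44871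
theorem L44875 : sm gc N5684 = N4579 := ded_28_1 (flp_h L36318) (flp_c L32951) L44871
theorem L44877 : sm gf N5684 = N4167 := ded_40_1 (flp_h L32954) L32947 L44871
theorem L44879 : sm gd N4167 = N5685 := rfl
theorem L44881 : sm gb N5685 = N4171 := ded_18_1 (flp_d L32983) (flp_b L32956) L44879
theorem L44883 : sm gg N5685 = N5685 := ded_32_2 (flp_d L44879) L32960 L44879
theorem L44884 : sm gh N5685 = N5685 := ded_33_2 (flp_d L44879) (flp_h L32954) L24238 L32954 L44879
theorem L44885 : sm gi N4167 = N5686 := rfl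
theorem L44887 : sm gb N5686 = N4172 := ded_23_1 (flp_i L32991) (flp_b L32956) L44885
theorem L44889 : sm gc N5686 = N4581 := ded_29_1 (flp_i L36331) (flp_c L32958) L44885
theorem L44891 : sm gg N5686 = N5686 := ded_43_1 (flp_i L44885) L32960 L44885
theorem L44892 : sm gd N4168 = N5687 := rfl
theorem L44894 : sm ga N5687 = N4177 := ded_11_1 (flp_d L33037) (flp_a L32963) L44892
theorem L44896 : sm gc N5687 = N4200 := ded_24_1 (flp_d L33210) L24409 (flp_d L24262) (flp_c L32965) L44892
theorem L44898 : sm ge N5687 = N5687 := ded_30_2 (flp_d L44892) (flp_e L32961) L24248 L32961 L44892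
theorem L44899 : sm gg N4168 = N5688 := rfl
theorem L44903 : sm gc N5688 = N4173 := ded_27_1 (flp_g L32998) (flp_c L32965) L44899
theorem L44907 : sm gh N4168 = N5689 := rfl
theorem L44909 : sm ga N5689 = N4179 := ded_15_1 (flp_h L33048) (flp_a L32963) L44907
theorem L44911 : sm gc N5689 = N4174 := ded_28_1 (flp_h L33008) (flp_c L32965) L44907
theorem L44913 : sm ge N5689 = N4170 := ded_37_1 (flp_h L32975) L32961 L44907
theorem L44915 : sm gh N4169 = N5690 := rfl
theorem L44917 : sm ga N5690 = N4180 := ded_15_1 (flp_h L33054) (flp_a L32969) L44915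
theorem L44922 : sm gg N5690 = N4170 := ded_42_1 (flp_h L32975) L32967 L44915
theorem L44924 : sm gd N4170 = N5691 := rfl
theorem L44926 : sm ga N5691 = N4181 := ded_11_1 (flp_d L33061) (flp_a L32977) L44924
theorem L44928 : sm gf N5691 = N4171 := ded_31_2 (flp_d L32983) (flp_f L32981) L44924
theorem L44930 : sm gc N5691 = N4247 := ded_24_1 (flp_d L33587) L24658 (flp_d L24281) (flp_c L32979) L44924
theorem L44932 : sm gh N5691 = N5691 := ded_33_2 (flp_d L44924) (flp_h L32975) L24248 L32975 L44924
theorem L44933 : sm gi N4170 = N5692 := rfl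
theorem L44935 : sm ga N5692 = N4182 := ded_16_1 (flp_i L33068) (flp_a L32977) L44933
theorem L44937 : sm gc N5692 = N4176 := ded_29_1 (flp_i L33027) (flp_c L32979) L44933
theorem L44939 : sm gf N5692 = N4172 := ded_41_1 (flp_i L32991) (flp_f L32981) L44933
theorem L44941 : sm ge N4171 = N5693 := rfl
theorem L44943 : sm ga N5693 = N4183 := ded_12_1 (flp_e L33074) (flp_a L32985) L44941
theorem L44945 : sm gc N5693 = N4249 := ded_25_1 (flp_e L33603) (flp_c L32988) L44941
theorem L44947 : sm gg N5693 = N5693 := ded_36_2 (flp_e L44941) L32987 L44941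
theorem L44948 : sm gh N5693 = N5693 := ded_37_2 (flp_e L44941) L32990 L44941
theorem L44949 : sm gi N4171 = N5694 := rfl
theorem L44951 : sm ga N5694 = N4184 := ded_16_1 (flp_i L33080) (flp_a L32985) L44949
theorem L44953 : sm gc N5694 = N4250 := ded_29_1 (flp_i L33610) (flp_c L32988) L44949
theorem L44955 : sm gd N5694 = N4172 := ded_34_1 (flp_i L32991) L32983 L44949
theorem L44957 : sm gg N5694 = N5694 := ded_43_1 (flp_i L44949) L32987 L44949
theorem L44958 : sm gf N4173 = N5695 := rfl
theorem L44967 : sm gh N4173 = N5696 := rfl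
theorem L44969 : sm ga N5696 = N4186 := ded_15_1 (flp_h L33094) (flp_a L33000) L44967
theorem L44975 : sm gg N5696 = N4174 := ded_42_1 (flp_h L33008) L32998 L44967
theorem L44977 : sm gd N4174 = N5697 := rfl
theorem L44981 : sm gb N5697 = N4592 := ded_18_1 (flp_d L36420) (flp_b L33012) L44977
theorem L44983 : sm ge N5697 = N4253 := ded_30_2 (flp_d L33638) L24694 (flp_d L24281) (flp_e L33014) L44977
theorem L44987 : sm gi N4174 = N5698 := rfl
theorem L44989 : sm ga N5698 = N4188 := ded_16_1 (flp_i L33110) (flp_a L33010) L44987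
theorem L44991 : sm gb N5698 = N4593 := ded_23_1 (flp_i L36428) (flp_b L33012) L44987
theorem L44993 : sm ge N5698 = N4176 := ded_38_1 (flp_i L33027) (flp_e L33014) L44987
theorem L44995 : sm gi N4175 = N5699 := rfl
theorem L44999 : sm gb N5699 = N4594 := ded_23_1 (flp_i L36434) (flp_b L33020) L44995
theorem L45004 : sm gg N5699 = N4176 := ded_43_1 (flp_i L33027) (flp_g L33023) L44995
theorem L45006 : sm gg N4177 = N5700 := rfl
theorem L45008 : sm gc N5700 = N4213 := ded_27_1 (flp_g L33323) (flp_c L33039) L45006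
theorem L45013 : sm gh N4177 = N5701 := rfl
theorem L45015 : sm gc N5701 = N4214 := ded_28_1 (flp_h L33329) (flp_c L33039) L45013
theorem L45017 : sm ge N5701 = N5701 := ded_37_1 (flp_h L45013) L33041 L45013
theorem L45018 : sm gf N4178 = N5702 := rfl
theorem L45023 : sm gh N4178 = N5703 := rfl
theorem L45027 : sm ge N5703 = N4180 := ded_37_1 (flp_h L33054) (flp_e L33046) L45023
theorem L45029 : sm gg N5703 = N4179 := ded_42_1 (flp_h L33048) L33042 L45023
theorem L45031 : sm gd N4179 = N5704 := rfl
theorem L45033 : sm gi N4179 = N5705 := rfl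
theorem L45035 : sm gc N5705 = N4188 := ded_29_1 (flp_i L33110) (flp_c L33050) L45033
theorem L45037 : sm ge N5705 = N4182 := ded_38_1 (flp_i L33068) (flp_e L33052) L45033
theorem L45039 : sm gd N4180 = N5706 := rfl
theorem L45042 : sm gg N5706 = N4181 := ded_32_2 (flp_d L33061) (flp_g L33059) L45039
theorem L45047 : sm gi N4180 = N5707 := rfl
theorem L45052 : sm gg N5707 = N4182 := ded_43_1 (flp_i L33068) (flp_g L33059) L45047
theorem L45054 : sm ge N4181 = N5708 := rfl
theorem L45056 : sm gc N5708 = N4264 := ded_25_1 (flp_e L33729) (flp_c L33065) L45054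
theorem L45058 : sm gh N5708 = N5708 := ded_37_2 (flp_e L45054) L33067 L45054
theorem L45059 : sm gi N4181 = N5709 := rfl
theorem L45061 : sm gc N5709 = N4265 := ded_29_1 (flp_i L33733) (flp_c L33065) L45059
theorem L45063 : sm gd N5709 = N4182 := ded_34_1 (flp_i L33068) L33061 L45059
theorem L45065 : sm gf N5709 = N4184 := ded_41_1 (flp_i L33080) (flp_f L33063) L45059
theorem L45067 : sm gf N4183 = N5710 := rfl
theorem L45069 : sm gc N5710 = N4266 := ded_26_1 (flp_f L33740) (flp_c L33076) L45067
theorem L45071 : sm gh N5710 = N5710 := ded_40_2 (flp_f L45067) L33079 L45067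
theorem L45072 : sm gi N4183 = N5711 := rfl
theorem L45074 : sm gc N5711 = N4267 := ded_29_1 (flp_i L33745) (flp_c L33076) L45072
theorem L45076 : sm ge N5711 = N4184 := ded_38_1 (flp_i L33080) L33074 L45072
theorem L45078 : sm gg N5711 = N5711 := ded_43_1 (flp_i L45072) L33078 L45072
theorem L45079 : sm gh N4184 = N5712 := rfl
theorem L45081 : sm gc N5712 = N4268 := ded_28_1 (flp_h L33752) (flp_c L33082) L45079
theorem L45083 : sm gg N5712 = N5712 := ded_42_1 (flp_h L45079) L33086 L45079
theorem L45084 : sm gi N5712 = N5712 := ded_44_2 (flp_h L45079) (flp_i L33080) L24313 L33080 L45079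
theorem L45085 : sm gh N4185 = N5713 := rfl
theorem L45087 : sm gb N5713 = N4190 := ded_22_1 (flp_h L33125) (flp_b L33089) L45085
theorem L45092 : sm gd N4186 = N5714 := rfl
theorem L45096 : sm gg N5714 = N4187 := ded_32_2 (flp_d L33102) (flp_g L33100) L45092
theorem L45098 : sm ge N5714 = N4270 := ded_30_2 (flp_d L33766) L24786 (flp_d L24340) (flp_e L33098) L45092
theorem L45102 : sm gi N4186 = N5715 := rfl
theorem L45104 : sm gb N5715 = N4192 := ded_23_1 (flp_i L33142) (flp_b L33096) L45102
theorem L45108 : sm gg N5715 = N4188 := ded_43_1 (flp_i L33110) (flp_g L33100) L45102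
theorem L45110 : sm gc N4187 = N5716 := rfl
theorem L45112 : sm ge N5716 = N4272 := ded_25_2 (flp_c L33783) (flp_e L33106) L45110
theorem L45116 : sm gi N4187 = N5717 := rfl
theorem L45120 : sm gd N5717 = N4188 := ded_34_1 (flp_i L33110) L33102 L45116
theorem L45124 : sm gd N4190 = N5718 := rfl
theorem L45130 : sm gh N5718 = N4231 := ded_33_2 (flp_d L33452) (flp_h L24578) (flp_d L24354) L33125 L45124
theorem L45132 : sm gi N4190 = N5719 := rfl
theorem L45134 : sm ga N5719 = N4614 := ded_16_1 (flp_i L36573) (flp_a L33127) L45132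
theorem L45137 : sm gf N5719 = N4192 := ded_41_1 (flp_i L33142) (flp_f L33130) L45132
theorem L45139 : sm gc N4191 = N5720 := rfl
theorem L45143 : sm ge N5720 = N4276 := ded_25_2 (flp_c L33814) (flp_e L33138) L45139
theorem L45145 : sm gg N5720 = N4193 := ded_27_2 (flp_c L33150) (flp_g L33136) L45139
theorem L45147 : sm gh N5720 = N4233 := ded_28_2 (flp_c L33467) (flp_h L33140) L45139
theorem L45159 : sm gb N4193 = N5722 := rfl
theorem L45165 : sm gi N4193 = N5723 := rfl
theorem L45171 : sm ge N5723 = N4279 := ded_38_1 (flp_i L33837) (flp_e L33154) L45165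
theorem L45181 : sm gd N4195 = N5725 := rfl
theorem L45183 : sm ga N5725 = N5725 := ded_11_1 (flp_d L45181) L33168 L45181
theorem L45184 : sm gb N5725 = N4200 := ded_18_1 (flp_d L33210) (flp_b L33169) L45181
theorem L45186 : sm ge N5725 = N5725 := ded_30_2 (flp_d L45181) (flp_e L33166) L24395 L33166 L45181
theorem L45187 : sm gg N4195 = N5726 := rfl
theorem L45192 : sm gc N5726 = N4663 := ded_27_1 (flp_g L37021) (flp_c L33171) L45187
theorem L45194 : sm ge N5726 = N4196 := ded_36_1 (flp_g L33173) L33166 L45187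
theorem L45196 : sm gh N4195 = N5727 := rfl
theorem L45199 : sm gb N5727 = N4202 := ded_22_1 (flp_h L33223) (flp_b L33169) L45196
theorem L45205 : sm gh N4196 = N5728 := rfl
theorem L45210 : sm gc N5728 = N4665 := ded_28_1 (flp_h L37035) (flp_c L33178) L45205
theorem L45214 : sm gg N5728 = N4197 := ded_42_1 (flp_h L33183) L33173 L45205
theorem L45216 : sm gd N4197 = N5729 := rfl
theorem L45219 : sm gb N5729 = N4204 := ded_18_1 (flp_d L33241) (flp_b L33186) L45216
theorem L45221 : sm gf N5729 = N4198 := ded_31_2 (flp_d L33192) (flp_f L33190) L45216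
theorem L45234 : sm ge N4198 = N5731 := rfl
theorem L45240 : sm gg N5731 = N5078 := ded_36_2 (flp_e L40154) (flp_g L33197) L45234
theorem L45243 : sm gi N4198 = N5732 := rfl
theorem L45249 : sm gd N5732 = N4199 := ded_34_1 (flp_i L33201) L33192 L45243
theorem L45251 : sm gg N5732 = N5079 := ded_43_1 (flp_i L40161) (flp_g L33197) L45243
theorem L45253 : sm gg N4200 = N5733 := rfl
theorem L45255 : sm ga N5733 = N4213 := ded_14_1 (flp_g L33323) (flp_a L33212) L45253
theorem L45260 : sm gh N4200 = N5734 := rfl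
theorem L45262 : sm ga N5734 = N4214 := ded_15_1 (flp_h L33329) (flp_a L33212) L45260
theorem L45264 : sm ge N5734 = N5734 := ded_37_1 (flp_h L45260) L33214 L45260
theorem L45265 : sm gf N4201 = N5735 := rfl
theorem L45283 : sm gd N4202 = N5737 := rfl
theorem L45285 : sm ga N5737 = N4217 := ded_11_1 (flp_d L33349) (flp_a L33225) L45283
theorem L45287 : sm gi N4202 = N5738 := rfl
theorem L45295 : sm gd N4203 = N5739 := rfl
theorem L45301 : sm gg N5739 = N4204 := ded_32_2 (flp_d L33241) (flp_g L33239) L45295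
theorem L45303 : sm gc N5739 = N4287 := ded_24_1 (flp_d L33908) L24888 (flp_d L24471) (flp_c L33235) L45295
theorem L45323 : sm gi N4204 = N5742 := rfl
theorem L45359 : sm gh N4208 = N5746 := rfl
theorem L45361 : sm ga N5746 = N4226 := ded_15_1 (flp_h L33416) (flp_a L33279) L45359
theorem L45367 : sm gf N5746 = N4209 := ded_40_1 (flp_h L33285) L33277 L45359
theorem L45379 : sm gi N4209 = N5748 := rfl
theorem L45389 : sm gc N4210 = N5749 := rfl
theorem L45393 : sm ge N5749 = N4297 := ded_25_2 (flp_c L34001) (flp_e L33301) L45389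
theorem L45395 : sm gi N4210 = N5750 := rfl
theorem L45405 : sm gf N4213 = N5751 := rfl
theorem L45410 : sm gh N4213 = N5752 := rfl
theorem L45414 : sm gg N5752 = N4214 := ded_42_1 (flp_h L33329) L33323 L45410
theorem L45416 : sm gd N4214 = N5753 := rfl
theorem L45421 : sm gi N4214 = N5754 := rfl
theorem L45423 : sm gb N5754 = N5754 := ded_23_1 (flp_i L45421) L33331 L45421
theorem L45424 : sm ge N5754 = N5754 := ded_38_1 (flp_i L45421) L33332 L45421
theorem L45434 : sm gd N4216 = N5756 := rfl
theorem L45437 : sm gg N5756 = N4217 := ded_32_2 (flp_d L33349) (flp_g L33347) L45434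
theorem L45439 : sm gi N4216 = N5757 := rfl
theorem L45452 : sm ge N4217 = N5759 := rfl
theorem L45455 : sm gd N5759 = N4221 := ded_30_1 (flp_e L33378) (flp_d L24510) (flp_e L24499) L33349 L45452
theorem L45457 : sm gi N4217 = N5760 := rfl
theorem L45460 : sm gd N5760 = N4218 := ded_34_1 (flp_i L33352) L33349 L45457
theorem L45462 : sm ge N4219 = N5761 := rfl
theorem L45467 : sm gg N5761 = N4221 := ded_36_2 (flp_e L33378) (flp_g L33364) L45462
theorem L45489 : sm gi N4221 = N5764 := rfl
theorem L45512 : sm gi N4223 = N5767 := rfl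
theorem L45515 : sm gc N5767 = N4315 := ded_29_1 (flp_i L34136) (flp_c L33396) L45512
theorem L45517 : sm gf N5767 = N4224 := ded_41_1 (flp_i L33399) L33393 L45512
theorem L45519 : sm gh N4224 = N5768 := rfl
theorem L45526 : sm gg N5768 = N5115 := ded_42_1 (flp_h L40424) (flp_g L33406) L45519
theorem L45536 : sm gi N4226 = N5770 := rfl
theorem L45566 : sm gi N4229 = N5774 := rfl
theorem L45570 : sm ge N5774 = N4322 := ded_38_1 (flp_i L34186) (flp_e L33442) L45566
theorem L45578 : sm gc N4231 = N5776 := rfl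
theorem L45585 : sm ge N4231 = N5777 := rfl
theorem L45591 : sm gf N5777 = N4325 := ded_35_2 (flp_e L34206) L25121 (flp_e L24593) (flp_f L33456) L45585
theorem L45601 : sm gb N4233 = N5779 := rfl
theorem L45606 : sm gg N5779 = N4235 := ded_21_2 (flp_b L33486) (flp_g L33473) L45601
theorem L45627 : sm ga N4235 = N5782 := rfl
theorem L45630 : sm ge N5782 = N4330 := ded_12_2 (flp_a L34245) (flp_e L33489) L45627
theorem L45634 : sm gi N4235 = N5783 := rfl
theorem L45636 : sm gb N5783 = N4236 := ded_23_1 (flp_i L33491) L33486 L45634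
theorem L45668 : sm gh N4238 = N5787 := rfl
theorem L45673 : sm gc N5787 = N4705 := ded_28_1 (flp_h L37319) (flp_c L33511) L45668
theorem L45675 : sm ge N5787 = N4240 := ded_37_1 (flp_h L33525) L33506 L45668
theorem L45678 : sm gh N4239 = N5788 := rfl
theorem L45681 : sm gb N5788 = N4246 := ded_22_1 (flp_h L33578) (flp_b L33518) L45678
theorem L45683 : sm gc N5788 = N4706 := ded_28_1 (flp_h L37327) (flp_c L33520) L45678
theorem L45686 : sm gg N5788 = N4240 := ded_42_1 (flp_h L33525) L33515 L45678
theorem L45688 : sm gd N4240 = N5789 := rfl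
theorem L45690 : sm ga N5789 = N5789 := ded_11_1 (flp_d L45688) L33527 L45688
theorem L45691 : sm gb N5789 = N4247 := ded_18_1 (flp_d L33587) (flp_b L33528) L45688
theorem L45693 : sm gf N5789 = N4241 := ded_31_2 (flp_d L33534) (flp_f L33532) L45688
theorem L45695 : sm gh N5789 = N5789 := ded_33_2 (flp_d L45688) (flp_h L33525) L24626 L33525 L45688
theorem L45696 : sm gi N4240 = N5790 := rfl
theorem L45698 : sm ga N5790 = N5790 := ded_16_1 (flp_i L45696) L33527 L45696
theorem L45699 : sm gb N5790 = N4248 := ded_23_1 (flp_i L33594) (flp_b L33528) L45696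
theorem L45701 : sm gc N5790 = N4708 := ded_29_1 (flp_i L37344) (flp_c L33530) L45696
theorem L45703 : sm gf N5790 = N4242 := ded_41_1 (flp_i L33541) (flp_f L33532) L45696
theorem L45705 : sm gh N5790 = N5790 := ded_44_1 (flp_i L45696) (flp_h L33525) L24627 L33525 L45696
theorem L45706 : sm gc N4241 = N5791 := rfl
theorem L45708 : sm ga N5791 = N5791 := ded_10_1 (flp_c L45706) L33536 L45706
theorem L45709 : sm gg N5791 = N5791 := ded_27_2 (flp_c L45706) L33539 L45706
theorem L45710 : sm gh N5791 = N5791 := ded_28_2 (flp_c L45706) L33540 L45706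
theorem L45711 : sm gd N5791 = N4709 := ded_24_2 (flp_c L37352) (flp_d L27349) (flp_c L24633) L33534 L45706
theorem L45713 : sm ge N4241 = N5792 := rfl
theorem L45715 : sm ga N5792 = N5792 := ded_12_1 (flp_e L45713) L33536 L45713
theorem L45716 : sm gb N5792 = N4249 := ded_19_1 (flp_e L33603) (flp_b L33537) L45713
theorem L45718 : sm gg N5792 = N5792 := ded_36_2 (flp_e L45713) L33539 L45713
theorem L45719 : sm gh N5792 = N5792 := ded_37_2 (flp_e L45713) L33540 L45713
theorem L45720 : sm gd N5792 = N5792 := ded_30_1 (flp_e L45713) (flp_d L33534) L24635 L33534 L45713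
theorem L45721 : sm gi N4241 = N5793 := rfl
theorem L45723 : sm ga N5793 = N5793 := ded_16_1 (flp_i L45721) L33536 L45721
theorem L45724 : sm gb N5793 = N4250 := ded_23_1 (flp_i L33610) (flp_b L33537) L45721
theorem L45726 : sm gd N5793 = N4242 := ded_34_1 (flp_i L33541) L33534 L45721
theorem L45728 : sm gg N5793 = N5793 := ded_43_1 (flp_i L45721) L33539 L45721
theorem L45729 : sm gg N4243 = N5794 := rfl
theorem L45735 : sm gd N5794 = N4244 := ded_32_1 (flp_g L33560) L33551 L45729
theorem L45739 : sm gh N4243 = N5795 := rfl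
theorem L45741 : sm ga N5795 = N4257 := ded_15_1 (flp_h L33676) (flp_a L33553) L45739
theorem L45743 : sm gc N5795 = N4282 := ded_28_1 (flp_h L33862) (flp_c L33557) L45739
theorem L45747 : sm gf N4244 = N5796 := rfl
theorem L45751 : sm gc N5796 = N4251 := ded_26_1 (flp_f L33617) (flp_c L33564) L45747
theorem L45766 : sm gd N4245 = N5798 := rfl
theorem L45781 : sm gd N4246 = N5800 := rfl
theorem L45783 : sm ga N5800 = N4262 := ded_11_1 (flp_d L33713) (flp_a L33580) L45781
theorem L45786 : sm gg N5800 = N4247 := ded_32_2 (flp_d L33587) (flp_g L33585) L45781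
theorem L45789 : sm gi N4246 = N5801 := rfl
theorem L45796 : sm gg N5801 = N4248 := ded_43_1 (flp_i L33594) (flp_g L33585) L45789
theorem L45799 : sm ge N4247 = N5802 := rfl
theorem L45801 : sm ga N5802 = N4264 := ded_12_1 (flp_e L33729) (flp_a L33589) L45799
theorem L45803 : sm gh N5802 = N5802 := ded_37_2 (flp_e L45799) L33593 L45799
theorem L45804 : sm gi N4247 = N5803 := rfl
theorem L45806 : sm ga N5803 = N4265 := ded_16_1 (flp_i L33733) (flp_a L33589) L45804
theorem L45808 : sm gd N5803 = N4248 := ded_34_1 (flp_i L33594) L33587 L45804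
theorem L45810 : sm gf N5803 = N4250 := ded_41_1 (flp_i L33610) (flp_f L33591) L45804
theorem L45812 : sm gf N4249 = N5804 := rfl
theorem L45814 : sm ga N5804 = N4266 := ded_13_1 (flp_f L33740) (flp_a L33605) L45812
theorem L45816 : sm gd N5804 = N5804 := ded_31_1 (flp_f L45812) L33609 L45812
theorem L45817 : sm gh N5804 = N5804 := ded_40_2 (flp_f L45812) L33608 L45812
theorem L45818 : sm gi N4249 = N5805 := rfl
theorem L45820 : sm ga N5805 = N4267 := ded_16_1 (flp_i L33745) (flp_a L33605) L45818
theorem L45822 : sm gd N5805 = N5805 := ded_34_1 (flp_i L45818) L33609 L45818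
theorem L45823 : sm ge N5805 = N4250 := ded_38_1 (flp_i L33610) L33603 L45818
theorem L45825 : sm gg N5805 = N5805 := ded_43_1 (flp_i L45818) L33607 L45818
theorem L45826 : sm gh N4250 = N5806 := rfl
theorem L45828 : sm ga N5806 = N4268 := ded_15_1 (flp_h L33752) (flp_a L33612) L45826
theorem L45830 : sm gg N5806 = N5806 := ded_42_1 (flp_h L45826) L33616 L45826
theorem L45831 : sm gd N5806 = N5806 := ded_33_1 (flp_h L45826) L33614 L24676 (flp_d L33614) L45826
theorem L45832 : sm gi N5806 = N5806 := ded_44_2 (flp_h L45826) (flp_i L33610) L24667 L33610 L45826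
theorem L45833 : sm gh N4251 = N5807 := rfl
theorem L45835 : sm ga N5807 = N4269 := ded_15_1 (flp_h L33758) (flp_a L33619) L45833
theorem L45864 : sm gc N4253 = N5810 := rfl
theorem L45869 : sm gh N5810 = N4297 := ded_28_2 (flp_c L34001) (flp_h L33645) L45864
theorem L45871 : sm gi N4253 = N5811 := rfl
theorem L45875 : sm gb N5811 = N4727 := ded_23_1 (flp_i L37499) (flp_b L33642) L45871
theorem L45877 : sm gd N5811 = N4254 := ded_34_1 (flp_i L33647) L33638 L45871
theorem L45897 : sm gd N4257 = N5814 := rfl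
theorem L45901 : sm gh N5814 = N4260 := ded_33_2 (flp_d L33700) (flp_h L24731) L24715 L33676 L45897
theorem L45903 : sm gi N4257 = N5815 := rfl
theorem L45911 : sm gh N4258 = N5816 := rfl
theorem L45914 : sm gc N5816 = N4269 := ded_28_1 (flp_h L33758) (flp_c L33686) L45911
theorem L45917 : sm gf N5816 = N4259 := ded_40_1 (flp_h L33691) L33683 L45911
theorem L45925 : sm gi N4259 = N5818 := rfl
theorem L45930 : sm ge N5818 = N4263 := ded_38_1 (flp_i L33720) (flp_e L33696) L45925
theorem L45940 : sm ge N4260 = N5820 := rfl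
theorem L45943 : sm gd N5820 = N4264 := ded_30_1 (flp_e L33729) (flp_d L24747) (flp_e L24736) L33700 L45940
theorem L45945 : sm gi N4260 = N5821 := rfl
theorem L45951 : sm ge N4262 = N5822 := rfl
theorem L45954 : sm gg N5822 = N4264 := ded_36_2 (flp_e L33729) (flp_g L33717) L45951
theorem L45957 : sm gi N4262 = N5823 := rfl
theorem L45963 : sm gg N5823 = N4265 := ded_43_1 (flp_i L33733) (flp_g L33717) L45957
theorem L45965 : sm gf N4264 = N5824 := rfl
theorem L45967 : sm gb N5824 = N5824 := ded_20_1 (flp_f L45965) L33731 L45965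
theorem L45968 : sm gh N5824 = N5824 := ded_40_2 (flp_f L45965) L33732 L45965
theorem L45969 : sm ge N5824 = N4266 := ded_35_1 (flp_f L33740) (flp_e L24761) (flp_f L24750) L33729 L45965
theorem L45971 : sm gi N4264 = N5825 := rfl
theorem L45973 : sm gb N5825 = N5825 := ded_23_1 (flp_i L45971) L33731 L45971
theorem L45974 : sm ge N5825 = N4265 := ded_38_1 (flp_i L33733) L33729 L45971
theorem L45976 : sm gh N4265 = N5826 := rfl
theorem L45978 : sm gb N5826 = N5826 := ded_22_1 (flp_h L45976) L33735 L45976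
theorem L45979 : sm gf N5826 = N4268 := ded_40_1 (flp_h L33752) (flp_f L33738) L45976
theorem L45981 : sm gd N5826 = N5826 := ded_33_1 (flp_h L45976) L33736 L24760 (flp_d L33736) L45976
theorem L45982 : sm gi N5826 = N5826 := ded_44_2 (flp_h L45976) (flp_i L33733) L24752 L33733 L45976
theorem L45983 : sm gg N4266 = N5827 := rfl
theorem L45985 : sm gb N5827 = N5827 := ded_21_1 (flp_g L45983) L33742 L45983
theorem L45986 : sm gd N5827 = N5827 := ded_32_1 (flp_g L45983) L33743 L45983
theorem L45987 : sm gh N5827 = N5827 := ded_42_2 (flp_g L45983) L33744 L45983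
theorem L45988 : sm gf N5827 = N5827 := ded_39_1 (flp_g L45983) (flp_f L33740) L24764 L33740 L45983
theorem L45989 : sm gi N4266 = N5828 := rfl
theorem L45991 : sm gb N5828 = N5828 := ded_23_1 (flp_i L45989) L33742 L45989
theorem L45992 : sm gd N5828 = N5828 := ded_34_1 (flp_i L45989) L33743 L45989
theorem L45993 : sm gf N5828 = N4267 := ded_41_1 (flp_i L33745) L33740 L45989
theorem L45995 : sm gh N4267 = N5829 := rfl
theorem L45997 : sm gb N5829 = N5829 := ded_22_1 (flp_h L45995) L33747 L45995
theorem L45998 : sm ge N5829 = N4268 := ded_37_1 (flp_h L33752) (flp_e L33749) L45995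
theorem L46000 : sm gg N5829 = N5829 := ded_42_1 (flp_h L45995) L33751 L45995
theorem L46001 : sm gi N5829 = N5829 := ded_44_2 (flp_h L45995) (flp_i L33745) L24765 L33745 L45995
theorem L46002 : sm gd N4269 = N5830 := rfl
theorem L46006 : sm gf N5830 = N4270 := ded_31_2 (flp_d L33766) (flp_f L33763) L46002
theorem L46009 : sm gh N5830 = N4317 := ded_33_2 (flp_d L34152) (flp_h L25083) (flp_d L24777) L33758 L46002
theorem L46011 : sm gi N4269 = N5831 := rfl
theorem L46026 : sm gi N4270 = N5833 := rfl
theorem L46041 : sm gi N4272 = N5835 := rfl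
theorem L46088 : sm gi N4276 = N5841 := rfl
theorem L46106 : sm ga N4278 = N5843 := rfl
theorem L46110 : sm gh N5843 = N4330 := ded_15_2 (flp_a L34245) (flp_h L33835) L46106
theorem L46112 : sm gb N5843 = N4755 := ded_9_2 (flp_a L37699) (flp_b L27611) (flp_a L24842) L33831 L46106
theorem L46120 : sm gh N4279 = N5845 := rfl
theorem L46122 : sm ga N5845 = N4757 := ded_15_1 (flp_h L37711) (flp_a L33839) L46120
theorem L46127 : sm gi N5845 = N4332 := ded_44_2 (flp_h L34259) (flp_i L25157) (flp_h L24845) L33837 L46120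
theorem L46138 : sm gh N4281 = N5847 := rfl
theorem L46140 : sm ga N5847 = N4300 := ded_15_1 (flp_h L34023) (flp_a L33855) L46138
theorem L46144 : sm gg N5847 = N4282 := ded_42_1 (flp_h L33862) L33853 L46138
theorem L46154 : sm gi N4282 = N5849 := rfl
theorem L46223 : sm gi N4287 = N5857 := rfl
theorem L46232 : sm gg N5857 = N4290 := ded_43_1 (flp_i L33936) (flp_g L33915) L46223
theorem L46249 : sm gh N4290 = N5860 := rfl
theorem L46254 : sm gf N5860 = N4293 := ded_40_1 (flp_h L33962) (flp_f L33943) L46249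
theorem L46275 : sm gh N4292 = N5863 := rfl
theorem L46277 : sm ga N5863 = N4316 := ded_15_1 (flp_h L34143) (flp_a L33954) L46275
theorem L46282 : sm gg N5863 = N5149 := ded_42_1 (flp_h L40701) (flp_g L33960) L46275
theorem L46285 : sm gd N4294 = N5864 := rfl
theorem L46291 : sm gf N5864 = N4295 := ded_31_2 (flp_d L33982) (flp_f L33979) L46285
theorem L46294 : sm gi N4294 = N5865 := rfl
theorem L46312 : sm gi N4295 = N5867 := rfl
theorem L46320 : sm gg N5867 = N4298 := ded_43_1 (flp_i L34006) (flp_g L33988) L46312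
theorem L46322 : sm gb N4297 = N5868 := rfl
theorem L46325 : sm gc N5868 = N4762 := ded_17_2 (flp_b L37751) (flp_c L27655) (flp_b L24954) L34001 L46322
theorem L46334 : sm gh N4298 = N5870 := rfl
theorem L46342 : sm ge N4299 = N5871 := rfl
theorem L46348 : sm gd N5871 = N5157 := ded_30_1 (flp_e L40768) L29899 (flp_e L24999) (flp_d L34019) L46342
theorem L46351 : sm gh N4299 = N5872 := rfl
theorem L46355 : sm gf N5872 = N4300 := ded_40_1 (flp_h L34023) L34015 L46351
theorem L46366 : sm gi N4300 = N5874 := rfl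
theorem L46374 : sm gc N4301 = N5875 := rfl
theorem L46377 : sm gh N5875 = N4306 := ded_28_2 (flp_c L34072) (flp_h L34035) L46374
theorem L46386 : sm gi N4301 = N5877 := rfl
theorem L46393 : sm gd N4303 = N5878 := rfl
theorem L46397 : sm gf N5878 = N4304 := ded_31_2 (flp_d L34055) (flp_f L34052) L46393
theorem L46400 : sm gi N4303 = N5879 := rfl
theorem L46426 : sm gi N4304 = N5882 := rfl
theorem L46434 : sm gb N4306 = N5883 := rfl
theorem L46436 : sm gd N5883 = N4321 := ded_18_2 (flp_b L34181) (flp_d L34075) L46434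
theorem L46452 : sm gf N4307 = N5886 := rfl
theorem L46456 : sm gd N5886 = N4311 := ded_31_1 (flp_f L34107) (flp_d L34081) L46452
theorem L46459 : sm gi N4307 = N5887 := rfl
theorem L46465 : sm ge N5887 = N4308 := ded_38_1 (flp_i L34083) L34077 L46459
theorem L46467 : sm gh N4308 = N5888 := rfl
theorem L46529 : sm gh N4315 = N5896 := rfl
theorem L46531 : sm gb N5896 = N4358 := ded_22_1 (flp_h L34447) (flp_b L34138) L46529
theorem L46536 : sm gd N4316 = N5897 := rfl
theorem L46538 : sm gb N5897 = N4359 := ded_18_1 (flp_d L34454) (flp_b L34145) L46536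
theorem L46551 : sm ge N4317 = N5899 := rfl
theorem L46553 : sm gb N5899 = N4325 := ded_19_1 (flp_e L34206) (flp_b L34154) L46551
theorem L46567 : sm gb N4319 = N5901 := rfl
theorem L46569 : sm gg N5901 = N4321 := ded_21_2 (flp_b L34181) (flp_g L34171) L46567
theorem L46573 : sm gi N4319 = N5902 := rfl
theorem L46591 : sm gi N4321 = N5905 := rfl
theorem L46598 : sm gh N4322 = N5906 := rfl
theorem L46628 : sm gi N4325 = N5910 := rfl
theorem L46661 : sm gh N4328 = N5914 := rfl
theorem L46667 : sm gg N5914 = N4332 := ded_42_1 (flp_h L34259) (flp_g L34236) L46661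
theorem L46669 : sm gi N4330 = N5915 := rfl
theorem L46673 : sm gb N5915 = N4782 := ded_23_1 (flp_i L37885) (flp_b L34250) L46669
theorem L46699 : sm gd N4334 = N5919 := rfl
theorem L46702 : sm gf N5919 = N4335 := ded_31_2 (flp_d L34282) (flp_f L34279) L46699
theorem L46715 : sm gc N4335 = N5921 := rfl
theorem L46720 : sm gh N5921 = N4342 := ded_28_2 (flp_c L34333) (flp_h L34287) L46715
theorem L46723 : sm ge N4335 = N5922 := rfl
theorem L46726 : sm gg N5922 = N4338 := ded_36_2 (flp_e L34304) (flp_g L34285) L46723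
theorem L46728 : sm gh N5922 = N4343 := ded_37_2 (flp_e L34340) (flp_h L34287) L46723
theorem L46731 : sm gi N4335 = N5923 := rfl
theorem L46738 : sm gb N4337 = N5924 := rfl
theorem L46744 : sm ge N4337 = N5925 := rfl
theorem L46747 : sm gc N5925 = N4338 := ded_25_1 (flp_e L34304) L34297 L46744
theorem L46749 : sm gh N5925 = N4346 := ded_37_2 (flp_e L34359) (flp_h L34301) L46744
theorem L46751 : sm gi N4337 = N5926 := rfl
theorem L46758 : sm gf N4338 = N5927 := rfl
theorem L46828 : sm gi N4343 = N5937 := rfl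
theorem L46833 : sm ge N5937 = N4344 := ded_38_1 (flp_i L34347) L34340 L46828
theorem L46837 : sm gh N4344 = N5938 := rfl
theorem L46843 : sm ga N4345 = N5939 := rfl
theorem L46845 : sm gd N5939 = N4366 := ded_11_2 (flp_a L34515) (flp_d L34356) L46843
theorem L46849 : sm ge N4345 = N5940 := rfl
theorem L46851 : sm gb N5940 = N4346 := ded_19_1 (flp_e L34359) L34354 L46849
theorem L46861 : sm gf N4346 = N5942 := rfl
theorem L46876 : sm gh N4347 = N5944 := rfl
theorem L46910 : sm gi N4351 = N5949 := rfl
theorem L46914 : sm ge N5949 = N5235 := ded_38_1 (flp_i L41338) (flp_e L34396) L46910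
theorem L46918 : sm gh N4352 = N5950 := rfl
theorem L46922 : sm ge N5950 = N4353 := ded_37_1 (flp_h L34406) (flp_e L34402) L46918
theorem L46949 : sm gh N4357 = N5954 := rfl
theorem L46953 : sm gf N5954 = N5240 := ded_40_1 (flp_h L41375) (flp_f L34443) L46949
theorem L46958 : sm gd N4358 = N5955 := rfl
theorem L46961 : sm gf N5955 = N4359 := ded_31_2 (flp_d L34454) (flp_f L34451) L46958
theorem L46999 : sm gi N4361 = N5960 := rfl
theorem L47004 : sm gd N5960 = N5246 := ded_34_1 (flp_i L41423) (flp_d L34476) L46999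
theorem L47047 : sm gi N4366 = N5965 := rfl
theorem L47052 : sm gc N5965 = N4377 := ded_29_1 (flp_i L34607) (flp_c L34517) L47047
theorem L47130 : sm gi N4374 = N5975 := rfl
theorem L47137 : sm gg N5975 = N4377 := ded_43_1 (flp_i L34607) (flp_g L34585) L47130
theorem L47155 : sm gh N4377 = N5978 := rfl
theorem L47177 : sm gb N4380 = N5981 := rfl
theorem L47179 : sm gd N5981 = N5981 := ded_18_2 (flp_b L47177) L34636 L47177
theorem L47180 : sm ge N5981 = N5981 := ded_19_2 (flp_b L47177) L34633 L47177
theorem L47181 : sm gg N5981 = N5981 := ded_21_2 (flp_b L47177) L34634 L47177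
theorem L47182 : sm gi N5981 = N5981 := ded_23_2 (flp_b L47177) L34635 L47177
theorem L47183 : sm ga N5981 = N5981 := ded_9_1 (flp_b L47177) L34631 L25457 (flp_a L34631) L47177
theorem L47184 : sm gf N4380 = N5982 := rfl
theorem L47186 : sm ga N5982 = N4384 := ded_13_1 (flp_f L34662) (flp_a L34631) L47184
theorem L47188 : sm gc N5982 = N4381 := ded_26_1 (flp_f L34637) L34629 L47184
theorem L47190 : sm gd N5982 = N5982 := ded_31_1 (flp_f L47184) L34636 L47184
theorem L47191 : sm gi N5982 = N5982 := ded_41_2 (flp_f L47184) L34635 L47184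
theorem L47192 : sm gh N4380 = N5983 := rfl
theorem L47194 : sm ga N5983 = N4385 := ded_15_1 (flp_h L34669) (flp_a L34631) L47192
theorem L47196 : sm gc N5983 = N4382 := ded_28_1 (flp_h L34644) L34629 L47192
theorem L47198 : sm ge N5983 = N5983 := ded_37_1 (flp_h L47192) L34633 L47192
theorem L47199 : sm gg N5983 = N5983 := ded_42_1 (flp_h L47192) L34634 L47192
theorem L47200 : sm ge N4381 = N5984 := rfl
theorem L47202 : sm ga N5984 = N4386 := ded_12_1 (flp_e L34676) (flp_a L34639) L47200
theorem L47204 : sm gi N5984 = N5984 := ded_38_2 (flp_e L47200) L34643 L47200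
theorem L47205 : sm gd N5984 = N5984 := ded_30_1 (flp_e L47200) L34641 L25451 (flp_d L34641) L47200
theorem L47206 : sm gf N5984 = N5984 := ded_35_2 (flp_e L47200) (flp_f L34637) L25442 L34637 L47200
theorem L47207 : sm gg N4381 = N5985 := rfl
theorem L47209 : sm ga N5985 = N4387 := ded_14_1 (flp_g L34683) (flp_a L34639) L47207
theorem L47211 : sm gd N5985 = N4383 := ded_32_1 (flp_g L34652) (flp_d L34641) L47207
theorem L47213 : sm gi N5985 = N5985 := ded_43_2 (flp_g L47207) L34643 L47207
theorem L47214 : sm gf N5985 = N5985 := ded_39_1 (flp_g L47207) (flp_f L34637) L25440 L34637 L47207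
theorem L47215 : sm gh N4381 = N5986 := rfl
theorem L47217 : sm ga N5986 = N4388 := ded_15_1 (flp_h L34691) (flp_a L34639) L47215
theorem L47219 : sm gf N5986 = N4382 := ded_40_1 (flp_h L34644) L34637 L47215
theorem L47221 : sm gd N5986 = N4399 := ded_33_1 (flp_h L34783) L25526 (flp_h L25448) (flp_d L34641) L47215
theorem L47223 : sm gi N4382 = N5987 := rfl
theorem L47225 : sm ga N5987 = N4389 := ded_16_1 (flp_i L34699) (flp_a L34646) L47223
theorem L47227 : sm gd N5987 = N4400 := ded_34_1 (flp_i L34789) (flp_d L34650) L47223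
theorem L47229 : sm ge N5987 = N5987 := ded_38_1 (flp_i L47223) L34648 L47223
theorem L47230 : sm gg N5987 = N5987 := ded_43_1 (flp_i L47223) L34649 L47223
theorem L47231 : sm gh N5987 = N5987 := ded_44_1 (flp_i L47223) (flp_h L34644) L25441 L34644 L47223
theorem L47232 : sm ge N4384 = N5988 := rfl
theorem L47234 : sm gb N5988 = N5988 := ded_19_1 (flp_e L47232) L34664 L47232
theorem L47235 : sm gc N5988 = N4386 := ded_25_1 (flp_e L34676) (flp_c L34665) L47232
theorem L47237 : sm gi N5988 = N5988 := ded_38_2 (flp_e L47232) L34668 L47232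
theorem L47238 : sm gf N5988 = N5988 := ded_35_2 (flp_e L47232) (flp_f L34662) L25454 L34662 L47232
theorem L47239 : sm gg N4384 = N5989 := rfl
theorem L47241 : sm gb N5989 = N5989 := ded_21_1 (flp_g L47239) L34664 L47239
theorem L47242 : sm gc N5989 = N4387 := ded_27_1 (flp_g L34683) (flp_c L34665) L47239
theorem L47244 : sm gd N5989 = N5989 := ded_32_1 (flp_g L47239) L34667 L47239
theorem L47245 : sm gi N5989 = N5989 := ded_43_2 (flp_g L47239) L34668 L47239
theorem L47246 : sm gf N5989 = N5989 := ded_39_1 (flp_g L47239) (flp_f L34662) L25455 L34662 L47239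
theorem L47247 : sm gh N4384 = N5990 := rfl
theorem L47249 : sm gb N5990 = N5990 := ded_22_1 (flp_h L47247) L34664 L47247
theorem L47250 : sm gc N5990 = N4388 := ded_28_1 (flp_h L34691) (flp_c L34665) L47247
theorem L47252 : sm gf N5990 = N4385 := ded_40_1 (flp_h L34669) L34662 L47247
theorem L47254 : sm gd N4385 = N5991 := rfl
theorem L47256 : sm gb N5991 = N5991 := ded_18_1 (flp_d L47254) L34671 L47254
theorem L47257 : sm gg N5991 = N5991 := ded_32_2 (flp_d L47254) L34675 L47254
theorem L47258 : sm gc N5991 = N4404 := ded_24_1 (flp_d L34826) L25559 (flp_d L25472) (flp_c L34672) L47254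
theorem L47260 : sm gh N5991 = N5991 := ded_33_2 (flp_d L47254) (flp_h L34669) L25458 L34669 L47254
theorem L47261 : sm gi N4385 = N5992 := rfl
theorem L47263 : sm gb N5992 = N5992 := ded_23_1 (flp_i L47261) L34671 L47261
theorem L47264 : sm gc N5992 = N4389 := ded_29_1 (flp_i L34699) (flp_c L34672) L47261
theorem L47266 : sm ge N5992 = N5992 := ded_38_1 (flp_i L47261) L34674 L47261
theorem L47267 : sm gg N5992 = N5992 := ded_43_1 (flp_i L47261) L34675 L47261
theorem L47268 : sm gh N5992 = N5992 := ded_44_1 (flp_i L47261) (flp_h L34669) L25456 L34669 L47261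
theorem L47269 : sm gg N4386 = N5993 := rfl
theorem L47271 : sm gb N5993 = N4390 := ded_21_1 (flp_g L34708) (flp_b L34678) L47269
theorem L47273 : sm gd N5993 = N5993 := ded_32_1 (flp_g L47269) L34681 L47269
theorem L47274 : sm ge N5993 = N4387 := ded_36_1 (flp_g L34683) L34676 L47269
theorem L47276 : sm gi N5993 = N5993 := ded_43_2 (flp_g L47269) L34680 L47269
theorem L47277 : sm gh N4386 = N5994 := rfl
theorem L47279 : sm gb N5994 = N4391 := ded_22_1 (flp_h L34715) (flp_b L34678) L47277
theorem L47281 : sm ge N5994 = N4388 := ded_37_1 (flp_h L34691) L34676 L47277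
theorem L47283 : sm gf N5994 = N5994 := ded_40_1 (flp_h L47277) L34682 L47277
theorem L47284 : sm gh N4387 = N5995 := rfl
theorem L47286 : sm gb N5995 = N4392 := ded_22_1 (flp_h L34721) (flp_b L34685) L47284
theorem L47288 : sm gf N5995 = N5995 := ded_40_1 (flp_h L47284) L34690 L47284
theorem L47289 : sm gg N5995 = N4388 := ded_42_1 (flp_h L34691) L34683 L47284
theorem L47291 : sm gd N5995 = N4408 := ded_33_1 (flp_h L34860) L25577 (flp_h L25480) (flp_d L34687) L47284
theorem L47293 : sm gi N4388 = N5996 := rfl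
theorem L47295 : sm gb N5996 = N4393 := ded_23_1 (flp_i L34729) (flp_b L34693) L47293
theorem L47297 : sm gd N5996 = N4409 := ded_34_1 (flp_i L34867) (flp_d L34697) L47293
theorem L47299 : sm gf N5996 = N4389 := ded_41_1 (flp_i L34699) (flp_f L34695) L47293
theorem L47301 : sm gh N5996 = N5996 := ded_44_1 (flp_i L47293) (flp_h L34691) L25465 L34691 L47293
theorem L47302 : sm gf N4390 = N5997 := rfl
theorem L47304 : sm gc N5997 = N5997 := ded_26_1 (flp_f L47302) L34710 L47302
theorem L47305 : sm gd N5997 = N5997 := ded_31_1 (flp_f L47302) L34711 L47302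
theorem L47306 : sm gi N5997 = N5997 := ded_41_2 (flp_f L47302) L34714 L47302
theorem L47307 : sm ge N5997 = N5997 := ded_35_1 (flp_f L47302) L34712 L25496 (flp_e L34712) L47302
theorem L47308 : sm gg N5997 = N5997 := ded_39_2 (flp_f L47302) (flp_g L34708) L25489 L34708 L47302
theorem L47309 : sm gh N4390 = N5998 := rfl
theorem L47311 : sm gc N5998 = N5998 := ded_28_1 (flp_h L47309) L34710 L47309
theorem L47312 : sm ge N5998 = N4392 := ded_37_1 (flp_h L34721) (flp_e L34712) L47309
theorem L47314 : sm gg N5998 = N4391 := ded_42_1 (flp_h L34715) L34708 L47309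
theorem L47316 : sm gd N4391 = N5999 := rfl
theorem L47318 : sm gf N5999 = N5999 := ded_31_2 (flp_d L47316) L34720 L47316
theorem L47319 : sm ge N5999 = N4412 := ded_30_2 (flp_d L34893) L25610 (flp_d L25502) (flp_e L34718) L47316
theorem L47321 : sm gh N5999 = N5999 := ded_33_2 (flp_d L47316) (flp_h L34715) L25488 L34715 L47316
theorem L47322 : sm gi N4391 = N6000 := rfl
theorem L47324 : sm gc N6000 = N6000 := ded_29_1 (flp_i L47322) L34717 L47322
theorem L47325 : sm ge N6000 = N4393 := ded_38_1 (flp_i L34729) (flp_e L34718) L47322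
theorem L47327 : sm gf N6000 = N6000 := ded_41_1 (flp_i L47322) L34720 L47322
theorem L47328 : sm gh N6000 = N6000 := ded_44_1 (flp_i L47322) (flp_h L34715) L25487 L34715 L47322
theorem L47329 : sm gi N4392 = N6001 := rfl
theorem L47331 : sm gc N6001 = N6001 := ded_29_1 (flp_i L47329) L34723 L47329
theorem L47332 : sm gd N6001 = N4414 := ded_34_1 (flp_i L34908) (flp_d L34727) L47329
theorem L47334 : sm gf N6001 = N6001 := ded_41_1 (flp_i L47329) L34724 L47329
theorem L47335 : sm gg N6001 = N4393 := ded_43_1 (flp_i L34729) (flp_g L34725) L47329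
theorem L47337 : sm gh N6001 = N6001 := ded_44_1 (flp_i L47329) (flp_h L34721) L25495 L34721 L47329
theorem L47338 : sm gf N4394 = N6002 := rfl
theorem L47340 : sm ga N6002 = N4415 := ded_13_1 (flp_f L34917) (flp_a L34745) L47338
theorem L47342 : sm gb N6002 = N4395 := ded_20_1 (flp_f L34747) L34737 L47338
theorem L47344 : sm gd N6002 = N6002 := ded_31_1 (flp_f L47338) L34739 L47338
theorem L47345 : sm gi N6002 = N5653 := ded_41_2 (flp_f L44629) (flp_i L34743) L47338
theorem L47347 : sm gh N4394 = N6003 := rfl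
theorem L47349 : sm ga N6003 = N4416 := ded_15_1 (flp_h L34924) (flp_a L34745) L47347
theorem L47351 : sm gb N6003 = N4396 := ded_22_1 (flp_h L34756) L34737 L47347
theorem L47353 : sm ge N6003 = N4520 := ded_37_1 (flp_h L35837) (flp_e L34740) L47347
theorem L47355 : sm gg N6003 = N6003 := ded_42_1 (flp_h L47347) L34742 L47347
theorem L47356 : sm ge N4395 = N6004 := rfl
theorem L47358 : sm ga N6004 = N4401 := ded_12_1 (flp_e L34798) (flp_a L34749) L47356
theorem L47360 : sm gc N6004 = N4397 := ded_25_1 (flp_e L34765) (flp_c L34751) L47356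
theorem L47362 : sm gi N6004 = N5655 := ded_38_2 (flp_e L44647) (flp_i L34754) L47356
theorem L47364 : sm gf N6004 = N4521 := ded_35_2 (flp_e L35844) (flp_f L26275) (flp_e L25516) L34747 L47356
theorem L47366 : sm gg N4395 = N6005 := rfl
theorem L47368 : sm ga N6005 = N4402 := ded_14_1 (flp_g L34808) (flp_a L34749) L47366
theorem L47370 : sm gc N6005 = N4398 := ded_27_1 (flp_g L34774) (flp_c L34751) L47366
theorem L47372 : sm gd N6005 = N6005 := ded_32_1 (flp_g L47366) L34753 L47366
theorem L47373 : sm gi N6005 = N5656 := ded_43_2 (flp_g L44653) (flp_i L34754) L47366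
theorem L47375 : sm gf N6005 = N6005 := ded_39_1 (flp_g L47366) (flp_f L34747) L25518 L34747 L47366
theorem L47376 : sm gh N4395 = N6006 := rfl
theorem L47378 : sm ga N6006 = N4403 := ded_15_1 (flp_h L34818) (flp_a L34749) L47376
theorem L47380 : sm gc N6006 = N4399 := ded_28_1 (flp_h L34783) (flp_c L34751) L47376
theorem L47382 : sm gf N6006 = N4396 := ded_40_1 (flp_h L34756) L34747 L47376
theorem L47384 : sm gd N4396 = N6007 := rfl
theorem L47386 : sm ga N6007 = N4404 := ded_11_1 (flp_d L34826) (flp_a L34758) L47384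
theorem L47388 : sm gg N6007 = N6007 := ded_32_2 (flp_d L47384) L34764 L47384
theorem L47389 : sm gh N6007 = N6007 := ded_33_2 (flp_d L47384) (flp_h L34756) L25521 L34756 L47384
theorem L47390 : sm gi N4396 = N6008 := rfl
theorem L47392 : sm ga N6008 = N4405 := ded_16_1 (flp_i L34832) (flp_a L34758) L47390
theorem L47394 : sm gc N6008 = N4400 := ded_29_1 (flp_i L34789) (flp_c L34760) L47390
theorem L47396 : sm ge N6008 = N4525 := ded_38_1 (flp_i L35875) (flp_e L34762) L47390
theorem L47398 : sm gg N6008 = N6008 := ded_43_1 (flp_i L47390) L34764 L47390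
theorem L47399 : sm gh N6008 = N5659 := ded_44_1 (flp_i L44676) (flp_h L32801) (flp_i L25519) L34756 L47390
theorem L47401 : sm gg N4397 = N6009 := rfl
theorem L47403 : sm ga N6009 = N4406 := ded_14_1 (flp_g L34843) (flp_a L34767) L47401
theorem L47405 : sm gd N6009 = N6009 := ded_32_1 (flp_g L47401) L34771 L47401
theorem L47406 : sm ge N6009 = N4398 := ded_36_1 (flp_g L34774) L34765 L47401
theorem L47408 : sm gi N6009 = N5660 := ded_43_2 (flp_g L44683) (flp_i L34769) L47401
theorem L47410 : sm gh N4397 = N6010 := rfl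
theorem L47412 : sm ga N6010 = N4407 := ded_15_1 (flp_h L34852) (flp_a L34767) L47410
theorem L47414 : sm ge N6010 = N4399 := ded_37_1 (flp_h L34783) L34765 L47410
theorem L47416 : sm gf N6010 = N4527 := ded_40_1 (flp_h L35889) (flp_f L34772) L47410
theorem L47418 : sm gh N4398 = N6011 := rfl
theorem L47420 : sm ga N6011 = N4408 := ded_15_1 (flp_h L34860) (flp_a L34776) L47418
theorem L47422 : sm gf N6011 = N6011 := ded_40_1 (flp_h L47418) L34782 L47418
theorem L47423 : sm gg N6011 = N4399 := ded_42_1 (flp_h L34783) L34774 L47418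
theorem L47425 : sm gi N4399 = N6012 := rfl
theorem L47427 : sm ga N6012 = N4409 := ded_16_1 (flp_i L34867) (flp_a L34785) L47425
theorem L47429 : sm gf N6012 = N4400 := ded_41_1 (flp_i L34789) (flp_f L34787) L47425
theorem L47431 : sm gh N6012 = N5663 := ded_44_1 (flp_i L44710) (flp_h L32824) (flp_i L25528) L34783 L47425
theorem L47433 : sm gd N4401 = N6013 := rfl
theorem L47435 : sm gb N6013 = N4426 := ded_18_1 (flp_d L35012) (flp_b L34800) L47433
theorem L47437 : sm gf N6013 = N4530 := ded_31_2 (flp_d L35910) (flp_f L34806) L47433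
theorem L47439 : sm gi N6013 = N5664 := ded_34_2 (flp_d L44719) (flp_i L34804) L47433
theorem L47441 : sm gc N6013 = N6013 := ded_24_1 (flp_d L47433) L34802 L25570 (flp_c L34802) L47433
theorem L47442 : sm ge N6013 = N6013 := ded_30_2 (flp_d L47433) (flp_e L34798) L25552 L34798 L47433
theorem L47443 : sm gg N4401 = N6014 := rfl
theorem L47445 : sm gb N6014 = N4427 := ded_21_1 (flp_g L35021) (flp_b L34800) L47443
theorem L47447 : sm gc N6014 = N4406 := ded_27_1 (flp_g L34843) (flp_c L34802) L47443
theorem L47449 : sm ge N6014 = N4402 := ded_36_1 (flp_g L34808) L34798 L47443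
theorem L47453 : sm gh N4401 = N6015 := rfl
theorem L47455 : sm gb N6015 = N4428 := ded_22_1 (flp_h L35029) (flp_b L34800) L47453
theorem L47457 : sm gc N6015 = N4407 := ded_28_1 (flp_h L34852) (flp_c L34802) L47453
theorem L47459 : sm ge N6015 = N4403 := ded_37_1 (flp_h L34818) L34798 L47453
theorem L47461 : sm gf N6015 = N4532 := ded_40_1 (flp_h L35925) (flp_f L34806) L47453
theorem L47463 : sm gh N4402 = N6016 := rfl
theorem L47465 : sm gb N6016 = N4429 := ded_22_1 (flp_h L35037) (flp_b L34810) L47463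
theorem L47467 : sm gc N6016 = N4408 := ded_28_1 (flp_h L34860) (flp_c L34812) L47463
theorem L47469 : sm gf N6016 = N6016 := ded_40_1 (flp_h L47463) L34817 L47463
theorem L47470 : sm gg N6016 = N4403 := ded_42_1 (flp_h L34818) L34808 L47463
theorem L47472 : sm gd N4403 = N6017 := rfl
theorem L47474 : sm gb N6017 = N4430 := ded_18_1 (flp_d L35044) (flp_b L34820) L47472
theorem L47476 : sm gf N6017 = N4404 := ded_31_2 (flp_d L34826) (flp_f L34824) L47472
theorem L47478 : sm gh N6017 = N6017 := ded_33_2 (flp_d L47472) (flp_h L34818) L25552 L34818 L47472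
theorem L47479 : sm gi N4403 = N6018 := rfl
theorem L47481 : sm gb N6018 = N4431 := ded_23_1 (flp_i L35050) (flp_b L34820) L47479
theorem L47483 : sm gc N6018 = N4409 := ded_29_1 (flp_i L34867) (flp_c L34822) L47479
theorem L47485 : sm gf N6018 = N4405 := ded_41_1 (flp_i L34832) (flp_f L34824) L47479
theorem L47487 : sm gh N6018 = N5669 := ded_44_1 (flp_i L44758) (flp_h L32855) (flp_i L25553) L34818 L47479
theorem L47489 : sm ge N4404 = N6019 := rfl
theorem L47491 : sm gb N6019 = N4432 := ded_19_1 (flp_e L35058) (flp_b L34828) L47489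
theorem L47493 : sm gg N6019 = N6019 := ded_36_2 (flp_e L47489) L34830 L47489
theorem L47494 : sm gh N6019 = N6019 := ded_37_2 (flp_e L47489) L34831 L47489
theorem L47495 : sm gd N6019 = N4536 := ded_30_1 (flp_e L35959) (flp_d L26338) (flp_e L25561) L34826 L47489
theorem L47497 : sm gi N4404 = N6020 := rfl
theorem L47499 : sm gb N6020 = N4433 := ded_23_1 (flp_i L35065) (flp_b L34828) L47497
theorem L47501 : sm gd N6020 = N4405 := ded_34_1 (flp_i L34832) L34826 L47497
theorem L47503 : sm gg N6020 = N6020 := ded_43_1 (flp_i L47497) L34830 L47497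
theorem L47504 : sm gf N4406 = N6021 := rfl
theorem L47506 : sm gb N6021 = N4410 := ded_20_1 (flp_f L34875) (flp_b L34845) L47504
theorem L47508 : sm gd N6021 = N6021 := ded_31_1 (flp_f L47504) L34847 L47504
theorem L47509 : sm gi N6021 = N5672 := ded_41_2 (flp_f L44781) (flp_i L34850) L47504
theorem L47511 : sm ge N6021 = N6021 := ded_35_1 (flp_f L47504) L34848 L25581 (flp_e L34848) L47504
theorem L47512 : sm gg N6021 = N4538 := ded_39_2 (flp_f L35975) (flp_g L26353) (flp_f L25571) L34843 L47504
theorem L47514 : sm gh N4406 = N6022 := rfl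
theorem L47516 : sm gb N6022 = N4411 := ded_22_1 (flp_h L34885) (flp_b L34845) L47514
theorem L47518 : sm ge N6022 = N4408 := ded_37_1 (flp_h L34860) (flp_e L34848) L47514
theorem L47520 : sm gg N6022 = N4407 := ded_42_1 (flp_h L34852) L34843 L47514
theorem L47522 : sm gd N4407 = N6023 := rfl
theorem L47524 : sm gb N6023 = N4412 := ded_18_1 (flp_d L34893) (flp_b L34854) L47522
theorem L47526 : sm gf N6023 = N4540 := ded_31_2 (flp_d L35989) (flp_f L34858) L47522
theorem L47528 : sm gh N6023 = N6023 := ded_33_2 (flp_d L47522) (flp_h L34852) L25570 L34852 L47522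
theorem L47529 : sm gi N4407 = N6024 := rfl
theorem L47531 : sm gb N6024 = N4413 := ded_23_1 (flp_i L34898) (flp_b L34854) L47529
theorem L47533 : sm ge N6024 = N4409 := ded_38_1 (flp_i L34867) (flp_e L34856) L47529
theorem L47535 : sm gf N6024 = N4541 := ded_41_1 (flp_i L35995) (flp_f L34858) L47529
theorem L47537 : sm gh N6024 = N5675 := ded_44_1 (flp_i L44801) (flp_h L32884) (flp_i L25568) L34852 L47529
theorem L47539 : sm gi N4408 = N6025 := rfl
theorem L47541 : sm gb N6025 = N4414 := ded_23_1 (flp_i L34908) (flp_b L34862) L47539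
theorem L47543 : sm gf N6025 = N6025 := ded_41_1 (flp_i L47539) L34864 L47539
theorem L47544 : sm gg N6025 = N4409 := ded_43_1 (flp_i L34867) (flp_g L34865) L47539
theorem L47548 : sm gh N4410 = N6026 := rfl
theorem L47550 : sm gc N6026 = N4439 := ded_28_1 (flp_h L35119) (flp_c L34877) L47548
theorem L47552 : sm ge N6026 = N6026 := ded_37_1 (flp_h L47548) L34882 L47548
theorem L47553 : sm gf N6026 = N4411 := ded_40_1 (flp_h L34885) L34875 L47548
theorem L47555 : sm gg N6026 = N4543 := ded_42_1 (flp_h L36009) (flp_g L34883) L47548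
theorem L47557 : sm gd N4411 = N6027 := rfl
theorem L47559 : sm gg N6027 = N4412 := ded_32_2 (flp_d L34893) (flp_g L34891) L47557
theorem L47561 : sm gh N6027 = N6027 := ded_33_2 (flp_d L47557) (flp_h L34885) L25601 L34885 L47557
theorem L47562 : sm gi N4411 = N6028 := rfl
theorem L47564 : sm gc N6028 = N4441 := ded_29_1 (flp_i L35133) (flp_c L34887) L47562
theorem L47566 : sm ge N6028 = N4414 := ded_38_1 (flp_i L34908) (flp_e L34889) L47562
theorem L47568 : sm gg N6028 = N4413 := ded_43_1 (flp_i L34898) (flp_g L34891) L47562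
theorem L47572 : sm gc N4412 = N6029 := rfl
theorem L47574 : sm gf N6029 = N4546 := ded_26_2 (flp_c L36030) (flp_f L34895) L47572
theorem L47576 : sm gh N6029 = N6029 := ded_28_2 (flp_c L47572) L34897 L47572
theorem L47577 : sm gd N6029 = N4442 := ded_24_2 (flp_c L35141) (flp_d L25777) (flp_c L25608) L34893 L47572
theorem L47579 : sm gi N4412 = N6030 := rfl
theorem L47581 : sm gd N6030 = N4413 := ded_34_1 (flp_i L34898) L34893 L47579
theorem L47583 : sm gf N6030 = N4547 := ded_41_1 (flp_i L36036) (flp_f L34895) L47579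
theorem L47585 : sm ge N4415 = N6031 := rfl
theorem L47587 : sm gb N6031 = N4417 := ded_19_1 (flp_e L34931) (flp_b L34919) L47585
theorem L47589 : sm gi N6031 = N5682 := ded_38_2 (flp_e L44857) (flp_i L34922) L47585
theorem L47591 : sm gf N6031 = N4577 := ded_35_2 (flp_e L36307) (flp_f L26608) (flp_e L25632) L34917 L47585
theorem L47593 : sm gg N4415 = N6032 := rfl
theorem L47595 : sm gb N6032 = N4418 := ded_21_1 (flp_g L34941) (flp_b L34919) L47593
theorem L47597 : sm gd N6032 = N6032 := ded_32_1 (flp_g L47593) L34921 L47593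
theorem L47598 : sm gi N6032 = N5683 := ded_43_2 (flp_g L44863) (flp_i L34922) L47593
theorem L47600 : sm gf N6032 = N6032 := ded_39_1 (flp_g L47593) (flp_f L34917) L25634 L34917 L47593
theorem L47601 : sm gh N4415 = N6033 := rfl
theorem L47603 : sm gb N6033 = N4419 := ded_22_1 (flp_h L34951) (flp_b L34919) L47601
theorem L47605 : sm gf N6033 = N4416 := ded_40_1 (flp_h L34924) L34917 L47601
theorem L47607 : sm gd N4416 = N6034 := rfl
theorem L47609 : sm gb N6034 = N4420 := ded_18_1 (flp_d L34959) (flp_b L34926) L47607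
theorem L47611 : sm gg N6034 = N6034 := ded_32_2 (flp_d L47607) L34930 L47607
theorem L47612 : sm gh N6034 = N6034 := ded_33_2 (flp_d L47607) (flp_h L34924) L25631 L34924 L47607
theorem L47613 : sm gi N4416 = N6035 := rfl
theorem L47615 : sm gb N6035 = N4421 := ded_23_1 (flp_i L34966) (flp_b L34926) L47613
theorem L47617 : sm ge N6035 = N4581 := ded_38_1 (flp_i L36331) (flp_e L34928) L47613
theorem L47619 : sm gg N6035 = N6035 := ded_43_1 (flp_i L47613) L34930 L47613
theorem L47620 : sm gh N6035 = N5686 := ded_44_1 (flp_i L44885) (flp_h L32954) (flp_i L25635) L34924 L47613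
theorem L47622 : sm gd N4417 = N6036 := rfl
theorem L47624 : sm ga N6036 = N4426 := ded_11_1 (flp_d L35012) (flp_a L34933) L47622
theorem L47626 : sm gf N6036 = N4582 := ded_31_2 (flp_d L36336) (flp_f L34939) L47622
theorem L47628 : sm gi N6036 = N5687 := ded_34_2 (flp_d L44892) (flp_i L34937) L47622
theorem L47630 : sm gc N6036 = N4449 := ded_24_1 (flp_d L35201) L25821 (flp_d L25661) (flp_c L34935) L47622
theorem L47632 : sm ge N6036 = N6036 := ded_30_2 (flp_d L47622) (flp_e L34931) L25643 L34931 L47622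
theorem L47633 : sm gg N4417 = N6037 := rfl
theorem L47635 : sm ga N6037 = N4427 := ded_14_1 (flp_g L35021) (flp_a L34933) L47633
theorem L47637 : sm gc N6037 = N4422 := ded_27_1 (flp_g L34977) (flp_c L34935) L47633
theorem L47639 : sm ge N6037 = N4418 := ded_36_1 (flp_g L34941) L34931 L47633
theorem L47643 : sm gh N4417 = N6038 := rfl
theorem L47645 : sm ga N6038 = N4428 := ded_15_1 (flp_h L35029) (flp_a L34933) L47643
theorem L47647 : sm gc N6038 = N4423 := ded_28_1 (flp_h L34987) (flp_c L34935) L47643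
theorem L47649 : sm ge N6038 = N4419 := ded_37_1 (flp_h L34951) L34931 L47643
theorem L47651 : sm gf N6038 = N4584 := ded_40_1 (flp_h L36352) (flp_f L34939) L47643
theorem L47653 : sm gh N4418 = N6039 := rfl
theorem L47655 : sm ga N6039 = N4429 := ded_15_1 (flp_h L35037) (flp_a L34943) L47653
theorem L47657 : sm gc N6039 = N4424 := ded_28_1 (flp_h L34995) (flp_c L34945) L47653
theorem L47659 : sm gf N6039 = N6039 := ded_40_1 (flp_h L47653) L34950 L47653
theorem L47660 : sm gg N6039 = N4419 := ded_42_1 (flp_h L34951) L34941 L47653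
theorem L47662 : sm gd N4419 = N6040 := rfl
theorem L47664 : sm ga N6040 = N4430 := ded_11_1 (flp_d L35044) (flp_a L34953) L47662
theorem L47666 : sm gf N6040 = N4420 := ded_31_2 (flp_d L34959) (flp_f L34957) L47662
theorem L47668 : sm gc N6040 = N6040 := ded_24_1 (flp_d L47662) L34955 L25680 (flp_c L34955) L47662
theorem L47669 : sm gh N6040 = N6040 := ded_33_2 (flp_d L47662) (flp_h L34951) L25643 L34951 L47662
theorem L47670 : sm gi N4419 = N6041 := rfl
theorem L47672 : sm ga N6041 = N4431 := ded_16_1 (flp_i L35050) (flp_a L34953) L47670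
theorem L47674 : sm gc N6041 = N4425 := ded_29_1 (flp_i L35003) (flp_c L34955) L47670
theorem L47676 : sm gf N6041 = N4421 := ded_41_1 (flp_i L34966) (flp_f L34957) L47670
theorem L47678 : sm gh N6041 = N5692 := ded_44_1 (flp_i L44933) (flp_h L32975) (flp_i L25644) L34951 L47670
theorem L47680 : sm ge N4420 = N6042 := rfl
theorem L47682 : sm ga N6042 = N4432 := ded_12_1 (flp_e L35058) (flp_a L34961) L47680
theorem L47684 : sm gc N6042 = N6042 := ded_25_1 (flp_e L47680) L34964 L47680
theorem L47685 : sm gg N6042 = N6042 := ded_36_2 (flp_e L47680) L34963 L47680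
theorem L47686 : sm gh N6042 = N6042 := ded_37_2 (flp_e L47680) L34965 L47680
theorem L47687 : sm gd N6042 = N4588 := ded_30_1 (flp_e L36387) (flp_d L26642) (flp_e L25652) L34959 L47680
theorem L47689 : sm gi N4420 = N6043 := rfl
theorem L47691 : sm ga N6043 = N4433 := ded_16_1 (flp_i L35065) (flp_a L34961) L47689
theorem L47693 : sm gc N6043 = N6043 := ded_29_1 (flp_i L47689) L34964 L47689
theorem L47694 : sm gd N6043 = N4421 := ded_34_1 (flp_i L34966) L34959 L47689
theorem L47696 : sm gg N6043 = N6043 := ded_43_1 (flp_i L47689) L34963 L47689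
theorem L47697 : sm gf N4422 = N6044 := rfl
theorem L47699 : sm ga N6044 = N4434 := ded_13_1 (flp_f L35071) (flp_a L34979) L47697
theorem L47701 : sm gd N6044 = N4456 := ded_31_1 (flp_f L35268) (flp_d L34981) L47697
theorem L47703 : sm gi N6044 = N5695 := ded_41_2 (flp_f L44958) (flp_i L34985) L47697
theorem L47705 : sm ge N6044 = N6044 := ded_35_1 (flp_f L47697) L34983 L25673 (flp_e L34983) L47697
theorem L47706 : sm gg N6044 = N4590 := ded_39_2 (flp_f L36405) (flp_g L26658) (flp_f L25663) L34977 L47697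
theorem L47708 : sm gh N4422 = N6045 := rfl
theorem L47710 : sm ga N6045 = N4435 := ded_15_1 (flp_h L35082) (flp_a L34979) L47708
theorem L47712 : sm ge N6045 = N4424 := ded_37_1 (flp_h L34995) (flp_e L34983) L47708
theorem L47714 : sm gg N6045 = N4423 := ded_42_1 (flp_h L34987) L34977 L47708
theorem L47716 : sm gd N4423 = N6046 := rfl
theorem L47718 : sm ga N6046 = N4436 := ded_11_1 (flp_d L35090) (flp_a L34989) L47716
theorem L47720 : sm gf N6046 = N4592 := ded_31_2 (flp_d L36420) (flp_f L34993) L47716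
theorem L47722 : sm ge N6046 = N6046 := ded_30_2 (flp_d L47716) L34991 L25680 (flp_e L34991) L47716
theorem L47723 : sm gh N6046 = N4458 := ded_33_2 (flp_d L35286) (flp_h L25875) (flp_d L25661) L34987 L47716
theorem L47725 : sm gi N4423 = N6047 := rfl
theorem L47727 : sm ga N6047 = N4437 := ded_16_1 (flp_i L35099) (flp_a L34989) L47725
theorem L47729 : sm ge N6047 = N4425 := ded_38_1 (flp_i L35003) (flp_e L34991) L47725
theorem L47731 : sm gf N6047 = N4593 := ded_41_1 (flp_i L36428) (flp_f L34993) L47725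
theorem L47733 : sm gh N6047 = N5698 := ded_44_1 (flp_i L44987) (flp_h L33008) (flp_i L25659) L34987 L47725
theorem L47735 : sm gi N4424 = N6048 := rfl
theorem L47737 : sm ga N6048 = N4438 := ded_16_1 (flp_i L35109) (flp_a L34997) L47735
theorem L47739 : sm gd N6048 = N6048 := ded_34_1 (flp_i L47735) L35002 L47735
theorem L47740 : sm gf N6048 = N6048 := ded_41_1 (flp_i L47735) L34999 L47735
theorem L47741 : sm gg N6048 = N4425 := ded_43_1 (flp_i L35003) (flp_g L35000) L47735
theorem L47745 : sm gg N4426 = N6049 := rfl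
theorem L47747 : sm gc N6049 = N4461 := ded_27_1 (flp_g L35314) (flp_c L35018) L47745
theorem L47749 : sm gd N6049 = N4427 := ded_32_1 (flp_g L35021) L35012 L47745
theorem L47751 : sm ge N6049 = N6049 := ded_36_1 (flp_g L47745) L35020 L47745
theorem L47752 : sm gi N6049 = N5700 := ded_43_2 (flp_g L45006) (flp_i L35016) L47745
theorem L47754 : sm gh N4426 = N6050 := rfl
theorem L47756 : sm gc N6050 = N4462 := ded_28_1 (flp_h L35322) (flp_c L35018) L47754
theorem L47758 : sm ge N6050 = N6050 := ded_37_1 (flp_h L47754) L35020 L47754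
theorem L47759 : sm gf N6050 = N4596 := ded_40_1 (flp_h L36451) (flp_f L35014) L47754
theorem L47761 : sm gf N4427 = N6051 := rfl
theorem L47763 : sm gc N6051 = N4434 := ded_26_1 (flp_f L35071) (flp_c L35023) L47761
theorem L47765 : sm gi N6051 = N5702 := ded_41_2 (flp_f L45018) (flp_i L35027) L47761
theorem L47767 : sm ge N6051 = N6051 := ded_35_1 (flp_f L47761) L35025 L25706 (flp_e L35025) L47761
theorem L47768 : sm gg N6051 = N4597 := ded_39_2 (flp_f L36457) (flp_g L26695) (flp_f L25697) L35021 L47761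
theorem L47770 : sm gh N4427 = N6052 := rfl
theorem L47772 : sm gc N6052 = N4435 := ded_28_1 (flp_h L35082) (flp_c L35023) L47770
theorem L47774 : sm ge N6052 = N4429 := ded_37_1 (flp_h L35037) (flp_e L35025) L47770
theorem L47776 : sm gg N6052 = N4428 := ded_42_1 (flp_h L35029) L35021 L47770
theorem L47778 : sm gd N4428 = N6053 := rfl
theorem L47780 : sm gf N6053 = N4599 := ded_31_2 (flp_d L36470) (flp_f L35035) L47778
theorem L47782 : sm gi N4428 = N6054 := rfl
theorem L47784 : sm gc N6054 = N4437 := ded_29_1 (flp_i L35099) (flp_c L35031) L47782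
theorem L47786 : sm ge N6054 = N4431 := ded_38_1 (flp_i L35050) (flp_e L35033) L47782
theorem L47788 : sm gf N6054 = N4600 := ded_41_1 (flp_i L36472) (flp_f L35035) L47782
theorem L47790 : sm gh N6054 = N5705 := ded_44_1 (flp_i L45033) (flp_h L33048) (flp_i L25695) L35029 L47782
theorem L47792 : sm gd N4429 = N6055 := rfl
theorem L47794 : sm gf N6055 = N6055 := ded_31_2 (flp_d L47792) L35041 L47792
theorem L47795 : sm gg N6055 = N4430 := ded_32_2 (flp_d L35044) (flp_g L35042) L47792
theorem L47797 : sm gc N6055 = N6055 := ded_24_1 (flp_d L47792) L35039 L25752 (flp_c L35039) L47792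
theorem L47798 : sm gh N6055 = N6055 := ded_33_2 (flp_d L47792) (flp_h L35037) L25703 L35037 L47792
theorem L47799 : sm gi N4429 = N6056 := rfl
theorem L47801 : sm gc N6056 = N4438 := ded_29_1 (flp_i L35109) (flp_c L35039) L47799
theorem L47803 : sm gf N6056 = N6056 := ded_41_1 (flp_i L47799) L35041 L47799
theorem L47804 : sm gg N6056 = N4431 := ded_43_1 (flp_i L35050) (flp_g L35042) L47799
theorem L47806 : sm gh N6056 = N5707 := ded_44_1 (flp_i L45047) (flp_h L33054) (flp_i L25704) L35037 L47799
theorem L47808 : sm ge N4430 = N6057 := rfl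
theorem L47810 : sm gc N6057 = N6057 := ded_25_1 (flp_e L47808) L35048 L47808
theorem L47811 : sm gh N6057 = N6057 := ded_37_2 (flp_e L47808) L35049 L47808
theorem L47812 : sm gi N4430 = N6058 := rfl
theorem L47814 : sm gc N6058 = N6058 := ded_29_1 (flp_i L47812) L35048 L47812
theorem L47815 : sm gd N6058 = N4431 := ded_34_1 (flp_i L35050) L35044 L47812
theorem L47817 : sm gf N6058 = N4433 := ded_41_1 (flp_i L35065) (flp_f L35046) L47812
theorem L47819 : sm gf N4432 = N6059 := rfl
theorem L47821 : sm gc N6059 = N6059 := ded_26_1 (flp_f L47819) L35060 L47819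
theorem L47822 : sm gd N6059 = N4605 := ded_31_1 (flp_f L36508) (flp_d L35063) L47819
theorem L47824 : sm gh N6059 = N6059 := ded_40_2 (flp_f L47819) L35062 L47819
theorem L47825 : sm gi N4432 = N6060 := rfl
theorem L47827 : sm gc N6060 = N6060 := ded_29_1 (flp_i L47825) L35060 L47825
theorem L47828 : sm gd N6060 = N4606 := ded_34_1 (flp_i L36514) (flp_d L35063) L47825
theorem L47830 : sm ge N6060 = N4433 := ded_38_1 (flp_i L35065) L35058 L47825
theorem L47832 : sm gg N6060 = N6060 := ded_43_1 (flp_i L47825) L35061 L47825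
theorem L47833 : sm gh N4433 = N6061 := rfl
theorem L47835 : sm gc N6061 = N6061 := ded_28_1 (flp_h L47833) L35067 L47833
theorem L47836 : sm gg N6061 = N6061 := ded_42_1 (flp_h L47833) L35070 L47833
theorem L47837 : sm gd N6061 = N5712 := ded_33_1 (flp_h L45079) L33084 (flp_h L25725) (flp_d L35068) L47833
theorem L47839 : sm gi N6061 = N6061 := ded_44_2 (flp_h L47833) (flp_i L35065) L25717 L35065 L47833
theorem L47840 : sm gh N4434 = N6062 := rfl
theorem L47842 : sm gb N6062 = N4439 := ded_22_1 (flp_h L35119) (flp_b L35073) L47840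
theorem L47844 : sm ge N6062 = N6062 := ded_37_1 (flp_h L47840) L35079 L47840
theorem L47845 : sm gf N6062 = N4435 := ded_40_1 (flp_h L35082) L35071 L47840
theorem L47847 : sm gg N6062 = N4608 := ded_42_1 (flp_h L36528) (flp_g L35080) L47840
theorem L47849 : sm gd N4435 = N6063 := rfl
theorem L47851 : sm gb N6063 = N4440 := ded_18_1 (flp_d L35126) (flp_b L35084) L47849
theorem L47853 : sm gg N6063 = N4436 := ded_32_2 (flp_d L35090) (flp_g L35088) L47849
theorem L47855 : sm ge N6063 = N6063 := ded_30_2 (flp_d L47849) L35086 L25752 (flp_e L35086) L47849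
theorem L47856 : sm gh N6063 = N4473 := ded_33_2 (flp_d L35418) (flp_h L25971) (flp_d L25731) L35082 L47849
theorem L47858 : sm gi N4435 = N6064 := rfl
theorem L47860 : sm gb N6064 = N4441 := ded_23_1 (flp_i L35133) (flp_b L35084) L47858
theorem L47862 : sm ge N6064 = N4438 := ded_38_1 (flp_i L35109) (flp_e L35086) L47858
theorem L47864 : sm gg N6064 = N4437 := ded_43_1 (flp_i L35099) (flp_g L35088) L47858
theorem L47868 : sm gc N4436 = N6065 := rfl
theorem L47870 : sm ge N6065 = N6065 := ded_25_2 (flp_c L47868) L35096 L47868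
theorem L47871 : sm gf N6065 = N4611 := ded_26_2 (flp_c L36553) (flp_f L35094) L47868
theorem L47873 : sm gh N6065 = N4475 := ded_28_2 (flp_c L35435) (flp_h L35097) L47868
theorem L47875 : sm gi N4436 = N6066 := rfl
theorem L47877 : sm gb N6066 = N4443 := ded_23_1 (flp_i L35148) (flp_b L35092) L47875
theorem L47879 : sm gd N6066 = N4437 := ded_34_1 (flp_i L35099) L35090 L47875
theorem L47881 : sm ge N6066 = N6066 := ded_38_1 (flp_i L47875) L35096 L47875
theorem L47882 : sm gf N6066 = N4612 := ded_41_1 (flp_i L36559) (flp_f L35094) L47875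
theorem L47884 : sm gd N4439 = N6067 := rfl
theorem L47886 : sm gf N6067 = N4440 := ded_31_2 (flp_d L35126) (flp_f L35122) L47884
theorem L47888 : sm gg N6067 = N4613 := ded_32_2 (flp_d L36567) (flp_g L35124) L47884
theorem L47892 : sm gi N4439 = N6068 := rfl
theorem L47894 : sm ge N6068 = N6068 := ded_38_1 (flp_i L47892) L35121 L47892
theorem L47895 : sm gf N6068 = N4441 := ded_41_1 (flp_i L35133) (flp_f L35122) L47892
theorem L47897 : sm gg N6068 = N4614 := ded_43_1 (flp_i L36573) (flp_g L35124) L47892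
theorem L47901 : sm gc N4440 = N6069 := rfl
theorem L47903 : sm ge N6069 = N6069 := ded_25_2 (flp_c L47901) L35130 L47901
theorem L47904 : sm gg N6069 = N4442 := ded_27_2 (flp_c L35141) (flp_g L35128) L47901
theorem L47906 : sm gh N6069 = N4479 := ded_28_2 (flp_c L35466) (flp_h L35131) L47901
theorem L47908 : sm gi N4440 = N6070 := rfl
theorem L47910 : sm gd N6070 = N4441 := ded_34_1 (flp_i L35133) L35126 L47908
theorem L47912 : sm ge N6070 = N6070 := ded_38_1 (flp_i L47908) L35130 L47908
theorem L47913 : sm gg N6070 = N4443 := ded_43_1 (flp_i L35148) (flp_g L35128) L47908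
theorem L47915 : sm gb N4442 = N6071 := rfl
theorem L47917 : sm ge N6071 = N6071 := ded_19_2 (flp_b L47915) L35143 L47915
theorem L47918 : sm gf N6071 = N4617 := ded_20_2 (flp_b L36594) (flp_f L35144) L47915
theorem L47920 : sm gh N6071 = N4481 := ded_22_2 (flp_b L35479) (flp_h L35146) L47915
theorem L47922 : sm gi N4442 = N6072 := rfl
theorem L47924 : sm gc N6072 = N4443 := ded_29_1 (flp_i L35148) L35141 L47922
theorem L47926 : sm ge N6072 = N6072 := ded_38_1 (flp_i L47922) L35143 L47922
theorem L47927 : sm gf N6072 = N4618 := ded_41_1 (flp_i L36600) (flp_f L35144) L47922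
theorem L47929 : sm gh N4443 = N6073 := rfl
theorem L47932 : sm gf N6073 = N4619 := ded_40_1 (flp_h L36606) (flp_f L35153) L47929
theorem L47938 : sm gd N4444 = N6074 := rfl
theorem L47940 : sm ga N6074 = N6074 := ded_11_1 (flp_d L47938) L35157 L47938
theorem L47941 : sm gb N6074 = N4449 := ded_18_1 (flp_d L35201) (flp_b L35158) L47938
theorem L47943 : sm gf N6074 = N4662 := ded_31_2 (flp_d L37014) (flp_f L35162) L47938
theorem L47945 : sm gi N6074 = N5725 := ded_34_2 (flp_d L45181) (flp_i L35160) L47938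
theorem L47947 : sm ge N6074 = N6074 := ded_30_2 (flp_d L47938) (flp_e L35155) L25805 L35155 L47938
theorem L47948 : sm gg N4444 = N6075 := rfl
theorem L47950 : sm ga N6075 = N6075 := ded_14_1 (flp_g L47948) L35157 L47948
theorem L47951 : sm gb N6075 = N4450 := ded_21_1 (flp_g L35210) (flp_b L35158) L47948
theorem L47953 : sm ge N6075 = N4445 := ded_36_1 (flp_g L35164) L35155 L47948
theorem L47955 : sm gi N6075 = N5726 := ded_43_2 (flp_g L45187) (flp_i L35160) L47948
theorem L47957 : sm gh N4444 = N6076 := rfl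
theorem L47959 : sm ga N6076 = N6076 := ded_15_1 (flp_h L47957) L35157 L47957
theorem L47960 : sm gb N6076 = N4451 := ded_22_1 (flp_h L35220) (flp_b L35158) L47957
theorem L47962 : sm ge N6076 = N4446 := ded_37_1 (flp_h L35174) L35155 L47957
theorem L47964 : sm gf N6076 = N4664 := ded_40_1 (flp_h L37028) (flp_f L35162) L47957
theorem L47966 : sm gh N4445 = N6077 := rfl
theorem L47968 : sm ga N6077 = N6077 := ded_15_1 (flp_h L47966) L35166 L47966
theorem L47969 : sm gb N6077 = N4452 := ded_22_1 (flp_h L35230) (flp_b L35167) L47966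
theorem L47971 : sm gf N6077 = N5270 := ded_40_1 (flp_h L41639) (flp_f L35172) L47966
theorem L47973 : sm gg N6077 = N4446 := ded_42_1 (flp_h L35174) L35164 L47966
theorem L47975 : sm gd N4446 = N6078 := rfl
theorem L47977 : sm ga N6078 = N6078 := ded_11_1 (flp_d L47975) L35176 L47975
theorem L47978 : sm gb N6078 = N4453 := ded_18_1 (flp_d L35240) (flp_b L35177) L47975
theorem L47980 : sm gf N6078 = N4447 := ded_31_2 (flp_d L35181) (flp_f L35179) L47975
theorem L47982 : sm gh N6078 = N6078 := ded_33_2 (flp_d L47975) (flp_h L35174) L25805 L35174 L47975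
theorem L47983 : sm gi N4446 = N6079 := rfl
theorem L47985 : sm ga N6079 = N6079 := ded_16_1 (flp_i L47983) L35176 L47983
theorem L47986 : sm gb N6079 = N4454 := ded_23_1 (flp_i L35248) (flp_b L35177) L47983
theorem L47988 : sm gf N6079 = N4448 := ded_41_1 (flp_i L35190) (flp_f L35179) L47983
theorem L47992 : sm gc N4447 = N6080 := rfl
theorem L47994 : sm ga N6080 = N6080 := ded_10_1 (flp_c L47992) L35183 L47992
theorem L47995 : sm ge N6080 = N6080 := ded_25_2 (flp_c L47992) L35188 L47992
theorem L47996 : sm gg N6080 = N5273 := ded_27_2 (flp_c L41663) (flp_g L35186) L47992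
theorem L47998 : sm gh N6080 = N6080 := ded_28_2 (flp_c L47992) L35189 L47992
theorem L47999 : sm gb N6080 = N6080 := ded_17_1 (flp_c L47992) L35184 L25852 (flp_b L35184) L47992
theorem L48000 : sm gi N4447 = N6081 := rfl
theorem L48002 : sm ga N6081 = N6081 := ded_16_1 (flp_i L48000) L35183 L48000
theorem L48003 : sm gb N6081 = N4455 := ded_23_1 (flp_i L35258) (flp_b L35184) L48000
theorem L48005 : sm gd N6081 = N4448 := ded_34_1 (flp_i L35190) L35181 L48000
theorem L48007 : sm ge N6081 = N6081 := ded_38_1 (flp_i L48000) L35188 L48000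
theorem L48008 : sm gg N6081 = N5274 := ded_43_1 (flp_i L41669) (flp_g L35186) L48000
theorem L48010 : sm gg N4449 = N6082 := rfl
theorem L48012 : sm ga N6082 = N4461 := ded_14_1 (flp_g L35314) (flp_a L35203) L48010
theorem L48014 : sm gd N6082 = N4450 := ded_32_1 (flp_g L35210) L35201 L48010
theorem L48016 : sm ge N6082 = N6082 := ded_36_1 (flp_g L48010) L35209 L48010
theorem L48017 : sm gi N6082 = N5733 := ded_43_2 (flp_g L45253) (flp_i L35207) L48010
theorem L48019 : sm gh N4449 = N6083 := rfl
theorem L48021 : sm ga N6083 = N4462 := ded_15_1 (flp_h L35322) (flp_a L35203) L48019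
theorem L48023 : sm ge N6083 = N6083 := ded_37_1 (flp_h L48019) L35209 L48019
theorem L48024 : sm gf N6083 = N4668 := ded_40_1 (flp_h L37061) (flp_f L35205) L48019
theorem L48026 : sm gf N4450 = N6084 := rfl
theorem L48028 : sm ga N6084 = N4463 := ded_13_1 (flp_f L35328) (flp_a L35212) L48026
theorem L48030 : sm gc N6084 = N4456 := ded_26_1 (flp_f L35268) (flp_c L35214) L48026
theorem L48032 : sm gi N6084 = N5735 := ded_41_2 (flp_f L45265) (flp_i L35218) L48026
theorem L48034 : sm ge N6084 = N5277 := ded_35_1 (flp_f L41695) L30566 (flp_f L25836) (flp_e L35216) L48026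
theorem L48038 : sm gh N4450 = N6085 := rfl
theorem L48040 : sm ga N6085 = N4464 := ded_15_1 (flp_h L35339) (flp_a L35212) L48038
theorem L48042 : sm gc N6085 = N4457 := ded_28_1 (flp_h L35278) (flp_c L35214) L48038
theorem L48044 : sm ge N6085 = N4452 := ded_37_1 (flp_h L35230) (flp_e L35216) L48038
theorem L48046 : sm gg N6085 = N4451 := ded_42_1 (flp_h L35220) L35210 L48038
theorem L48048 : sm gd N4451 = N6086 := rfl
theorem L48050 : sm ga N6086 = N4465 := ded_11_1 (flp_d L35348) (flp_a L35222) L48048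
theorem L48052 : sm gf N6086 = N4671 := ded_31_2 (flp_d L37085) (flp_f L35228) L48048
theorem L48054 : sm gi N4451 = N6087 := rfl
theorem L48064 : sm gh N6087 = N5738 := ded_44_1 (flp_i L45287) (flp_h L33223) (flp_i L25823) L35220 L48054
theorem L48066 : sm gd N4452 = N6088 := rfl
theorem L48068 : sm ga N6088 = N4467 := ded_11_1 (flp_d L35364) (flp_a L35232) L48066
theorem L48070 : sm gf N6088 = N5281 := ded_31_2 (flp_d L41733) (flp_f L35236) L48066
theorem L48072 : sm gg N6088 = N4453 := ded_32_2 (flp_d L35240) (flp_g L35238) L48066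
theorem L48074 : sm gc N6088 = N6088 := ded_24_1 (flp_d L48066) L35234 L25891 (flp_c L35234) L48066
theorem L48075 : sm gh N6088 = N6088 := ded_33_2 (flp_d L48066) (flp_h L35230) L25833 L35230 L48066
theorem L48076 : sm gi N4452 = N6089 := rfl
theorem L48084 : sm gg N6089 = N4454 := ded_43_1 (flp_i L35248) (flp_g L35238) L48076
theorem L48088 : sm ge N4453 = N6090 := rfl
theorem L48090 : sm ga N6090 = N4469 := ded_12_1 (flp_e L35384) (flp_a L35242) L48088
theorem L48092 : sm gc N6090 = N6090 := ded_25_1 (flp_e L48088) L35246 L48088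
theorem L48093 : sm gh N6090 = N6090 := ded_37_2 (flp_e L48088) L35247 L48088
theorem L48094 : sm gf N6090 = N6090 := ded_35_2 (flp_e L48088) L35244 L25853 (flp_f L35244) L48088
theorem L48095 : sm gi N4453 = N6091 := rfl
theorem L48097 : sm ga N6091 = N4470 := ded_16_1 (flp_i L35390) (flp_a L35242) L48095
theorem L48099 : sm gc N6091 = N6091 := ded_29_1 (flp_i L48095) L35246 L48095
theorem L48100 : sm gd N6091 = N4454 := ded_34_1 (flp_i L35248) L35240 L48095
theorem L48102 : sm gf N6091 = N4455 := ded_41_1 (flp_i L35258) (flp_f L35244) L48095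
theorem L48104 : sm gh N4455 = N6092 := rfl
theorem L48115 : sm gh N4456 = N6093 := rfl
theorem L48121 : sm gf N6093 = N4457 := ded_40_1 (flp_h L35278) L35268 L48115
theorem L48125 : sm gd N4457 = N6094 := rfl
theorem L48127 : sm ga N6094 = N4473 := ded_11_1 (flp_d L35418) (flp_a L35280) L48125
theorem L48129 : sm gg N6094 = N4458 := ded_32_2 (flp_d L35286) (flp_g L35284) L48125
theorem L48131 : sm ge N6094 = N6094 := ded_30_2 (flp_d L48125) L35282 L25891 (flp_e L35282) L48125
theorem L48132 : sm gi N4457 = N6095 := rfl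
theorem L48140 : sm gh N6095 = N5748 := ded_44_1 (flp_i L45379) (flp_h L33285) (flp_i L25873) L35278 L48132
theorem L48142 : sm gc N4458 = N6096 := rfl
theorem L48144 : sm ga N6096 = N4475 := ded_10_1 (flp_c L35435) (flp_a L35288) L48142
theorem L48146 : sm ge N6096 = N6096 := ded_25_2 (flp_c L48142) L35292 L48142
theorem L48147 : sm gf N6096 = N4677 := ded_26_2 (flp_c L37133) (flp_f L35290) L48142
theorem L48158 : sm gf N4461 = N6098 := rfl
theorem L48160 : sm gb N6098 = N6098 := ded_20_1 (flp_f L48158) L35316 L48158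
theorem L48161 : sm gd N6098 = N4463 := ded_31_1 (flp_f L35328) (flp_d L35317) L48158
theorem L48163 : sm gi N6098 = N5751 := ded_41_2 (flp_f L45405) (flp_i L35320) L48158
theorem L48165 : sm gg N6098 = N4679 := ded_39_2 (flp_f L37147) (flp_g L27198) (flp_f L25904) L35314 L48158
theorem L48167 : sm gh N4461 = N6099 := rfl
theorem L48169 : sm gb N6099 = N6099 := ded_22_1 (flp_h L48167) L35316 L48167
theorem L48170 : sm ge N6099 = N6099 := ded_37_1 (flp_h L48167) L35319 L48167
theorem L48171 : sm gg N6099 = N4462 := ded_42_1 (flp_h L35322) L35314 L48167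
theorem L48173 : sm gd N4462 = N6100 := rfl
theorem L48175 : sm gb N6100 = N6100 := ded_18_1 (flp_d L48173) L35324 L48173
theorem L48176 : sm gf N6100 = N4681 := ded_31_2 (flp_d L37159) (flp_f L35326) L48173
theorem L48178 : sm gh N6100 = N4465 := ded_33_2 (flp_d L35348) (flp_h L25918) L25901 L35322 L48173
theorem L48180 : sm gi N4462 = N6101 := rfl
theorem L48182 : sm gb N6101 = N6101 := ded_23_1 (flp_i L48180) L35324 L48180
theorem L48183 : sm ge N6101 = N6101 := ded_38_1 (flp_i L48180) L35325 L48180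
theorem L48184 : sm gf N6101 = N4682 := ded_41_1 (flp_i L37165) (flp_f L35326) L48180
theorem L48186 : sm gh N6101 = N5754 := ded_44_1 (flp_i L45421) (flp_h L33329) (flp_i L25906) L35322 L48180
theorem L48188 : sm gh N4463 = N6102 := rfl
theorem L48193 : sm ge N6102 = N5295 := ded_37_1 (flp_h L41852) (flp_e L35335) L48188
theorem L48195 : sm gf N6102 = N4464 := ded_40_1 (flp_h L35339) L35328 L48188
theorem L48197 : sm gg N6102 = N4683 := ded_42_1 (flp_h L37170) (flp_g L35337) L48188
theorem L48199 : sm gd N4464 = N6103 := rfl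
theorem L48201 : sm gb N6103 = N6103 := ded_18_1 (flp_d L48199) L35341 L48199
theorem L48202 : sm gg N6103 = N4465 := ded_32_2 (flp_d L35348) (flp_g L35346) L48199
theorem L48204 : sm gi N4464 = N6104 := rfl
theorem L48213 : sm gh N6104 = N5757 := ded_44_1 (flp_i L45439) (flp_h L33340) (flp_i L25916) L35339 L48204
theorem L48215 : sm gc N4465 = N6105 := rfl
theorem L48217 : sm gf N6105 = N4686 := ded_26_2 (flp_c L37194) (flp_f L35351) L48215
theorem L48219 : sm gd N6105 = N4475 := ded_24_2 (flp_c L35435) (flp_d L25979) (flp_c L25921) L35348 L48215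
theorem L48221 : sm ge N4465 = N6106 := rfl
theorem L48223 : sm gb N6106 = N6106 := ded_19_1 (flp_e L48221) L35350 L48221
theorem L48224 : sm gd N6106 = N4469 := ded_30_1 (flp_e L35384) (flp_d L25936) (flp_e L25923) L35348 L48221
theorem L48226 : sm gf N6106 = N6106 := ded_35_2 (flp_e L48221) L35351 L27229 (flp_f L35351) L48221
theorem L48227 : sm gi N4465 = N6107 := rfl
theorem L48230 : sm gd N6107 = N4466 := ded_34_1 (flp_i L35353) L35348 L48227
theorem L48232 : sm gf N6107 = N4687 := ded_41_1 (flp_i L37199) (flp_f L35351) L48227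
theorem L48234 : sm ge N4467 = N6108 := rfl
theorem L48236 : sm gb N6108 = N6108 := ded_19_1 (flp_e L48234) L35366 L48234
theorem L48237 : sm gc N6108 = N6108 := ded_25_1 (flp_e L48234) L35371 L48234
theorem L48238 : sm gg N6108 = N4469 := ded_36_2 (flp_e L35384) (flp_g L35369) L48234
theorem L48240 : sm gh N6108 = N6108 := ded_37_2 (flp_e L48234) L35372 L48234
theorem L48241 : sm gi N4467 = N6109 := rfl
theorem L48249 : sm gg N6109 = N4470 := ded_43_1 (flp_i L35390) (flp_g L35369) L48241
theorem L48251 : sm gi N4469 = N6110 := rfl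
theorem L48253 : sm gb N6110 = N6110 := ded_23_1 (flp_i L48251) L35386 L48251
theorem L48254 : sm gc N6110 = N6110 := ded_29_1 (flp_i L48251) L35387 L48251
theorem L48255 : sm ge N6110 = N4470 := ded_38_1 (flp_i L35390) L35384 L48251
theorem L48257 : sm gf N6110 = N6110 := ded_41_1 (flp_i L48251) L35389 L48251
theorem L48258 : sm gh N4470 = N6111 := rfl
theorem L48262 : sm gf N6111 = N4471 := ded_40_1 (flp_h L35398) (flp_f L35396) L48258
theorem L48267 : sm gd N4472 = N6112 := rfl
theorem L48271 : sm gf N6112 = N4473 := ded_31_2 (flp_d L35418) (flp_f L35414) L48267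
theorem L48273 : sm gg N6112 = N4688 := ded_32_2 (flp_d L37205) (flp_g L35416) L48267
theorem L48275 : sm gi N4472 = N6113 := rfl
theorem L48285 : sm gh N6113 = N5770 := ded_44_1 (flp_i L45536) (flp_h L33416) (flp_i L25965) L35408 L48275
theorem L48287 : sm gc N4473 = N6114 := rfl
theorem L48289 : sm ge N6114 = N6114 := ded_25_2 (flp_c L48287) L35424 L48287
theorem L48290 : sm gg N6114 = N4475 := ded_27_2 (flp_c L35435) (flp_g L35422) L48287
theorem L48301 : sm gb N4475 = N6116 := rfl
theorem L48303 : sm ge N6116 = N6116 := ded_19_2 (flp_b L48301) L35437 L48301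
theorem L48304 : sm gf N6116 = N4692 := ded_20_2 (flp_b L37235) (flp_f L35438) L48301
theorem L48306 : sm gc N6116 = N4481 := ded_17_2 (flp_b L35479) (flp_c L26030) (flp_b L25981) L35435 L48301
theorem L48308 : sm gi N4475 = N6117 := rfl
theorem L48310 : sm gc N6117 = N4476 := ded_29_1 (flp_i L35440) L35435 L48308
theorem L48313 : sm gf N6117 = N4693 := ded_41_1 (flp_i L37241) (flp_f L35438) L48308
theorem L48324 : sm gc N4477 = N6119 := rfl
theorem L48328 : sm gg N6119 = N4695 := ded_27_2 (flp_c L37253) (flp_g L35453) L48324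
theorem L48338 : sm gi N4477 = N6121 := rfl
theorem L48342 : sm gf N6121 = N4480 := ded_41_1 (flp_i L35472) (flp_f L35451) L48338
theorem L48344 : sm gg N6121 = N4697 := ded_43_1 (flp_i L37264) (flp_g L35453) L48338
theorem L48346 : sm gb N4479 = N6122 := rfl
theorem L48348 : sm gd N6122 = N6122 := ded_18_2 (flp_b L48346) L35471 L48346
theorem L48349 : sm ge N6122 = N6122 := ded_19_2 (flp_b L48346) L35468 L48346
theorem L48350 : sm gg N6122 = N4481 := ded_21_2 (flp_b L35479) (flp_g L35469) L48346
theorem L48352 : sm gi N4479 = N6123 := rfl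
theorem L48354 : sm gc N6123 = N4480 := ded_29_1 (flp_i L35472) L35466 L48352
theorem L48358 : sm gg N6123 = N4482 := ded_43_1 (flp_i L35485) (flp_g L35469) L48352
theorem L48360 : sm gh N4480 = N6124 := rfl
theorem L48367 : sm ga N4481 = N6125 := rfl
theorem L48369 : sm gd N6125 = N6125 := ded_11_2 (flp_a L48367) L35481 L48367
theorem L48370 : sm ge N6125 = N6125 := ded_12_2 (flp_a L48367) L35482 L48367
theorem L48371 : sm gf N6125 = N4701 := ded_13_2 (flp_a L37292) (flp_f L35483) L48367
theorem L48373 : sm gi N4481 = N6126 := rfl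
theorem L48375 : sm gb N6126 = N4482 := ded_23_1 (flp_i L35485) L35479 L48373
theorem L48381 : sm gh N4482 = N6127 := rfl
theorem L48388 : sm gb N4484 = N6128 := rfl
theorem L48390 : sm gd N6128 = N4812 := ded_18_2 (flp_b L38113) (flp_d L35507) L48388
theorem L48392 : sm ge N6128 = N6128 := ded_19_2 (flp_b L48388) L35504 L48388
theorem L48393 : sm gg N6128 = N6128 := ded_21_2 (flp_b L48388) L35505 L48388
theorem L48394 : sm gi N6128 = N6128 := ded_23_2 (flp_b L48388) L35506 L48388
theorem L48395 : sm ga N6128 = N6128 := ded_9_1 (flp_b L48388) L35502 L26069 (flp_a L35502) L48388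
theorem L48396 : sm gc N6128 = N5981 := ded_17_2 (flp_b L47177) (flp_c L34629) (flp_b L26047) L35500 L48388
theorem L48398 : sm gf N4484 = N6129 := rfl
theorem L48400 : sm ga N6129 = N4488 := ded_13_1 (flp_f L35541) (flp_a L35502) L48398
theorem L48402 : sm gc N6129 = N4485 := ded_26_1 (flp_f L35509) L35500 L48398
theorem L48404 : sm gd N6129 = N4813 := ded_31_1 (flp_f L38119) (flp_d L35507) L48398
theorem L48406 : sm gi N6129 = N6129 := ded_41_2 (flp_f L48398) L35506 L48398
theorem L48407 : sm gh N4484 = N6130 := rfl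
theorem L48409 : sm ga N6130 = N4489 := ded_15_1 (flp_h L35549) (flp_a L35502) L48407
theorem L48411 : sm gc N6130 = N4486 := ded_28_1 (flp_h L35518) L35500 L48407
theorem L48413 : sm ge N6130 = N6130 := ded_37_1 (flp_h L48407) L35504 L48407
theorem L48414 : sm gg N6130 = N6130 := ded_42_1 (flp_h L48407) L35505 L48407
theorem L48415 : sm ge N4485 = N6131 := rfl
theorem L48417 : sm ga N6131 = N4490 := ded_12_1 (flp_e L35556) (flp_a L35511) L48415
theorem L48419 : sm gb N6131 = N5984 := ded_19_1 (flp_e L47200) (flp_b L35513) L48415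
theorem L48421 : sm gi N6131 = N6131 := ded_38_2 (flp_e L48415) L35517 L48415
theorem L48422 : sm gd N6131 = N6131 := ded_30_1 (flp_e L48415) L35515 L26063 (flp_d L35515) L48415
theorem L48423 : sm gf N6131 = N6131 := ded_35_2 (flp_e L48415) (flp_f L35509) L26051 L35509 L48415
theorem L48424 : sm gg N4485 = N6132 := rfl
theorem L48426 : sm ga N6132 = N4491 := ded_14_1 (flp_g L35563) (flp_a L35511) L48424
theorem L48428 : sm gb N6132 = N5985 := ded_21_1 (flp_g L47207) (flp_b L35513) L48424
theorem L48430 : sm gd N6132 = N4487 := ded_32_1 (flp_g L35528) (flp_d L35515) L48424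
theorem L48432 : sm gi N6132 = N6132 := ded_43_2 (flp_g L48424) L35517 L48424
theorem L48433 : sm gf N6132 = N6132 := ded_39_1 (flp_g L48424) (flp_f L35509) L26049 L35509 L48424
theorem L48434 : sm gh N4485 = N6133 := rfl
theorem L48436 : sm ga N6133 = N4492 := ded_15_1 (flp_h L35571) (flp_a L35511) L48434
theorem L48438 : sm gb N6133 = N5986 := ded_22_1 (flp_h L47215) (flp_b L35513) L48434
theorem L48440 : sm gf N6133 = N4486 := ded_40_1 (flp_h L35518) L35509 L48434
theorem L48442 : sm gd N6133 = N4503 := ded_33_1 (flp_h L35679) L26151 (flp_h L26060) (flp_d L35515) L48434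
theorem L48444 : sm gi N4486 = N6134 := rfl
theorem L48446 : sm ga N6134 = N4493 := ded_16_1 (flp_i L35579) (flp_a L35520) L48444
theorem L48448 : sm gb N6134 = N5987 := ded_23_1 (flp_i L47223) (flp_b L35522) L48444
theorem L48450 : sm gd N6134 = N4504 := ded_34_1 (flp_i L35687) (flp_d L35526) L48444
theorem L48452 : sm ge N6134 = N6134 := ded_38_1 (flp_i L48444) L35524 L48444
theorem L48453 : sm gg N6134 = N6134 := ded_43_1 (flp_i L48444) L35525 L48444
theorem L48454 : sm gh N6134 = N6134 := ded_44_1 (flp_i L48444) (flp_h L35518) L26050 L35518 L48444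
theorem L48455 : sm ge N4488 = N6135 := rfl
theorem L48457 : sm gb N6135 = N6135 := ded_19_1 (flp_e L48455) L35543 L48455
theorem L48458 : sm gc N6135 = N4490 := ded_25_1 (flp_e L35556) (flp_c L35544) L48455
theorem L48460 : sm gi N6135 = N6135 := ded_38_2 (flp_e L48455) L35548 L48455
theorem L48461 : sm gf N6135 = N6135 := ded_35_2 (flp_e L48455) (flp_f L35541) L26066 L35541 L48455
theorem L48462 : sm gg N4488 = N6136 := rfl
theorem L48465 : sm gc N6136 = N4491 := ded_27_1 (flp_g L35563) (flp_c L35544) L48462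
theorem L48467 : sm gd N6136 = N4820 := ded_32_1 (flp_g L38173) (flp_d L35546) L48462
theorem L48471 : sm gh N4488 = N6137 := rfl
theorem L48473 : sm gb N6137 = N6137 := ded_22_1 (flp_h L48471) L35543 L48471
theorem L48474 : sm gc N6137 = N4492 := ded_28_1 (flp_h L35571) (flp_c L35544) L48471
theorem L48476 : sm gf N6137 = N4489 := ded_40_1 (flp_h L35549) L35541 L48471
theorem L48478 : sm gd N4489 = N6138 := rfl
theorem L48480 : sm gb N6138 = N6138 := ded_18_1 (flp_d L48478) L35551 L48478
theorem L48481 : sm gg N6138 = N6138 := ded_32_2 (flp_d L48478) L35555 L48478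
theorem L48482 : sm gc N6138 = N4508 := ded_24_1 (flp_d L35727) L26190 (flp_d L26085) (flp_c L35552) L48478
theorem L48484 : sm gh N6138 = N4822 := ded_33_2 (flp_d L38187) (flp_h L27973) (flp_d L26070) L35549 L48478
theorem L48486 : sm gi N4489 = N6139 := rfl
theorem L48488 : sm gb N6139 = N6139 := ded_23_1 (flp_i L48486) L35551 L48486
theorem L48489 : sm gc N6139 = N4493 := ded_29_1 (flp_i L35579) (flp_c L35552) L48486
theorem L48491 : sm ge N6139 = N6139 := ded_38_1 (flp_i L48486) L35554 L48486
theorem L48492 : sm gg N6139 = N6139 := ded_43_1 (flp_i L48486) L35555 L48486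
theorem L48493 : sm gh N6139 = N6139 := ded_44_1 (flp_i L48486) (flp_h L35549) L26068 L35549 L48486
theorem L48494 : sm gg N4490 = N6140 := rfl
theorem L48496 : sm gb N6140 = N4494 := ded_21_1 (flp_g L35588) (flp_b L35558) L48494
theorem L48498 : sm gd N6140 = N6140 := ded_32_1 (flp_g L48494) L35561 L48494
theorem L48499 : sm ge N6140 = N4491 := ded_36_1 (flp_g L35563) L35556 L48494
theorem L48501 : sm gi N6140 = N6140 := ded_43_2 (flp_g L48494) L35560 L48494
theorem L48502 : sm gh N4490 = N6141 := rfl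
theorem L48504 : sm gb N6141 = N4495 := ded_22_1 (flp_h L35597) (flp_b L35558) L48502
theorem L48506 : sm ge N6141 = N4492 := ded_37_1 (flp_h L35571) L35556 L48502
theorem L48508 : sm gf N6141 = N6141 := ded_40_1 (flp_h L48502) L35562 L48502
theorem L48509 : sm gh N4491 = N6142 := rfl
theorem L48511 : sm gb N6142 = N4496 := ded_22_1 (flp_h L35605) (flp_b L35565) L48509
theorem L48513 : sm gf N6142 = N6142 := ded_40_1 (flp_h L48509) L35570 L48509
theorem L48514 : sm gg N6142 = N4492 := ded_42_1 (flp_h L35571) L35563 L48509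
theorem L48516 : sm gd N6142 = N4512 := ded_33_1 (flp_h L35762) L26208 (flp_h L26094) (flp_d L35567) L48509
theorem L48518 : sm gi N4492 = N6143 := rfl
theorem L48520 : sm gb N6143 = N4497 := ded_23_1 (flp_i L35615) (flp_b L35573) L48518
theorem L48522 : sm gd N6143 = N4513 := ded_34_1 (flp_i L35769) (flp_d L35577) L48518
theorem L48524 : sm gf N6143 = N4493 := ded_41_1 (flp_i L35579) (flp_f L35575) L48518
theorem L48526 : sm gh N6143 = N6143 := ded_44_1 (flp_i L48518) (flp_h L35571) L26078 L35571 L48518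
theorem L48527 : sm gf N4494 = N6144 := rfl
theorem L48529 : sm ga N6144 = N5997 := ded_13_1 (flp_f L47302) (flp_a L35590) L48527
theorem L48531 : sm gc N6144 = N6144 := ded_26_1 (flp_f L48527) L35592 L48527
theorem L48532 : sm gd N6144 = N6144 := ded_31_1 (flp_f L48527) L35593 L48527
theorem L48533 : sm gi N6144 = N6144 := ded_41_2 (flp_f L48527) L35596 L48527
theorem L48534 : sm ge N6144 = N6144 := ded_35_1 (flp_f L48527) L35594 L26114 (flp_e L35594) L48527
theorem L48535 : sm gg N6144 = N6144 := ded_39_2 (flp_f L48527) (flp_g L35588) L26105 L35588 L48527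
theorem L48536 : sm gh N4494 = N6145 := rfl
theorem L48538 : sm ga N6145 = N5998 := ded_15_1 (flp_h L47309) (flp_a L35590) L48536
theorem L48540 : sm gc N6145 = N6145 := ded_28_1 (flp_h L48536) L35592 L48536
theorem L48541 : sm ge N6145 = N4496 := ded_37_1 (flp_h L35605) (flp_e L35594) L48536
theorem L48543 : sm gg N6145 = N4495 := ded_42_1 (flp_h L35597) L35588 L48536
theorem L48545 : sm gd N4495 = N6146 := rfl
theorem L48547 : sm ga N6146 = N5999 := ded_11_1 (flp_d L47316) (flp_a L35599) L48545
theorem L48549 : sm gf N6146 = N6146 := ded_31_2 (flp_d L48545) L35604 L48545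
theorem L48550 : sm ge N6146 = N4516 := ded_30_2 (flp_d L35799) L26245 (flp_d L26122) (flp_e L35602) L48545
theorem L48552 : sm gh N6146 = N6146 := ded_33_2 (flp_d L48545) (flp_h L35597) L26104 L35597 L48545
theorem L48553 : sm gi N4495 = N6147 := rfl
theorem L48555 : sm ga N6147 = N6000 := ded_16_1 (flp_i L47322) (flp_a L35599) L48553
theorem L48557 : sm gc N6147 = N6147 := ded_29_1 (flp_i L48553) L35601 L48553
theorem L48558 : sm ge N6147 = N4497 := ded_38_1 (flp_i L35615) (flp_e L35602) L48553
theorem L48560 : sm gf N6147 = N6147 := ded_41_1 (flp_i L48553) L35604 L48553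
theorem L48561 : sm gh N6147 = N6147 := ded_44_1 (flp_i L48553) (flp_h L35597) L26103 L35597 L48553
theorem L48562 : sm gi N4496 = N6148 := rfl
theorem L48564 : sm ga N6148 = N6001 := ded_16_1 (flp_i L47329) (flp_a L35607) L48562
theorem L48566 : sm gc N6148 = N6148 := ded_29_1 (flp_i L48562) L35609 L48562
theorem L48567 : sm gd N6148 = N4518 := ded_34_1 (flp_i L35818) (flp_d L35613) L48562
theorem L48569 : sm gf N6148 = N6148 := ded_41_1 (flp_i L48562) L35610 L48562
theorem L48570 : sm gg N6148 = N4497 := ded_43_1 (flp_i L35615) (flp_g L35611) L48562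
theorem L48572 : sm gh N6148 = N6148 := ded_44_1 (flp_i L48562) (flp_h L35605) L26113 L35605 L48562
theorem L48573 : sm gf N4498 = N6149 := rfl
theorem L48575 : sm ga N6149 = N4548 := ded_13_1 (flp_f L36041) (flp_a L35634) L48573
theorem L48577 : sm gb N6149 = N4499 := ded_20_1 (flp_f L35638) L35625 L48573
theorem L48579 : sm gc N6149 = N6002 := ded_26_1 (flp_f L47338) (flp_c L35636) L48573
theorem L48581 : sm gd N6149 = N4833 := ded_31_1 (flp_f L38270) (flp_d L35627) L48573
theorem L48583 : sm gi N6149 = N4519 := ded_41_2 (flp_f L35829) (flp_i L35632) L48573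
theorem L48585 : sm gh N4498 = N6150 := rfl
theorem L48587 : sm ga N6150 = N4549 := ded_15_1 (flp_h L36051) (flp_a L35634) L48585
theorem L48589 : sm gb N6150 = N4500 := ded_22_1 (flp_h L35648) L35625 L48585
theorem L48591 : sm gc N6150 = N6003 := ded_28_1 (flp_h L47347) (flp_c L35636) L48585
theorem L48593 : sm ge N6150 = N5654 := ded_37_1 (flp_h L44638) (flp_e L35629) L48585
theorem L48595 : sm gg N6150 = N6150 := ded_42_1 (flp_h L48585) L35631 L48585
theorem L48596 : sm ge N4499 = N6151 := rfl
theorem L48598 : sm ga N6151 = N4505 := ded_12_1 (flp_e L35698) (flp_a L35640) L48596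
theorem L48600 : sm gc N6151 = N4501 := ded_25_1 (flp_e L35657) (flp_c L35642) L48596
theorem L48602 : sm gi N6151 = N4521 := ded_38_2 (flp_e L35844) (flp_i L35646) L48596
theorem L48604 : sm gf N6151 = N5655 := ded_35_2 (flp_e L44647) (flp_f L32794) (flp_e L26138) L35638 L48596
theorem L48606 : sm gg N4499 = N6152 := rfl
theorem L48608 : sm ga N6152 = N4506 := ded_14_1 (flp_g L35708) (flp_a L35640) L48606

end Cfsg.Agent.Helper28.FibA
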