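import Cfsg.Agent.Helper28.FibB5

/-! # The Fi₂₂ presentation, cosets of the subgroup generated by b, …, i: the coset enumeration, part 6 (helper28; generated) -/

set_option autoImplicit false

noncomputable section

namespace Cfsg.Agent.Helper28.FibA

open Cfsg.Agent.Helper28.CosetTable

theorem L48610 : sm gc N6152 = N4502 := ded_27_1 (flp_g L35668) (flp_c L35642) L48606
theorem L48612 : sm gd N6152 = N4836 := ded_32_1 (flp_g L38297) (flp_d L35644) L48606
theorem L48614 : sm gi N6152 = N4522 := ded_43_2 (flp_g L35850) (flp_i L35646) L48606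
theorem L48616 : sm gf N6152 = N6152 := ded_39_1 (flp_g L48606) (flp_f L35638) L26140 L35638 L48606
theorem L48617 : sm gh N4499 = N6153 := rfl
theorem L48619 : sm ga N6153 = N4507 := ded_15_1 (flp_h L35719) (flp_a L35640) L48617
theorem L48621 : sm gc N6153 = N4503 := ded_28_1 (flp_h L35679) (flp_c L35642) L48617
theorem L48623 : sm gf N6153 = N4500 := ded_40_1 (flp_h L35648) L35638 L48617
theorem L48625 : sm gd N4500 = N6154 := rfl
theorem L48627 : sm ga N6154 = N4508 := ded_11_1 (flp_d L35727) (flp_a L35650) L48625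
theorem L48629 : sm gg N6154 = N6154 := ded_32_2 (flp_d L48625) L35656 L48625
theorem L48630 : sm gh N6154 = N4838 := ded_33_2 (flp_d L38314) (flp_h L28058) (flp_d L26143) L35648 L48625
theorem L48632 : sm gi N4500 = N6155 := rfl
theorem L48634 : sm ga N6155 = N4509 := ded_16_1 (flp_i L35734) (flp_a L35650) L48632
theorem L48636 : sm gc N6155 = N4504 := ded_29_1 (flp_i L35687) (flp_c L35652) L48632
theorem L48638 : sm ge N6155 = N5659 := ded_38_1 (flp_i L44676) (flp_e L35654) L48632
theorem L48640 : sm gg N6155 = N6155 := ded_43_1 (flp_i L48632) L35656 L48632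
theorem L48641 : sm gh N6155 = N4525 := ded_44_1 (flp_i L35875) (flp_h L26283) (flp_i L26141) L35648 L48632
theorem L48643 : sm gg N4501 = N6156 := rfl
theorem L48645 : sm ga N6156 = N4510 := ded_14_1 (flp_g L35745) (flp_a L35659) L48643
theorem L48647 : sm gb N6156 = N6009 := ded_21_1 (flp_g L47401) (flp_b L35661) L48643
theorem L48649 : sm gd N6156 = N6156 := ded_32_1 (flp_g L48643) L35665 L48643
theorem L48650 : sm ge N6156 = N4502 := ded_36_1 (flp_g L35668) L35657 L48643
theorem L48652 : sm gi N6156 = N4526 := ded_43_2 (flp_g L35882) (flp_i L35663) L48643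
theorem L48654 : sm gh N4501 = N6157 := rfl
theorem L48656 : sm ga N6157 = N4511 := ded_15_1 (flp_h L35754) (flp_a L35659) L48654
theorem L48658 : sm gb N6157 = N6010 := ded_22_1 (flp_h L47410) (flp_b L35661) L48654
theorem L48660 : sm ge N6157 = N4503 := ded_37_1 (flp_h L35679) L35657 L48654
theorem L48662 : sm gf N6157 = N5661 := ded_40_1 (flp_h L44692) (flp_f L35666) L48654
theorem L48664 : sm gh N4502 = N6158 := rfl
theorem L48666 : sm ga N6158 = N4512 := ded_15_1 (flp_h L35762) (flp_a L35670) L48664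
theorem L48668 : sm gb N6158 = N6011 := ded_22_1 (flp_h L47418) (flp_b L35672) L48664
theorem L48670 : sm gf N6158 = N6158 := ded_40_1 (flp_h L48664) L35678 L48664
theorem L48671 : sm gg N6158 = N4503 := ded_42_1 (flp_h L35679) L35668 L48664
theorem L48673 : sm gi N4503 = N6159 := rfl
theorem L48675 : sm ga N6159 = N4513 := ded_16_1 (flp_i L35769) (flp_a L35681) L48673
theorem L48677 : sm gb N6159 = N6012 := ded_23_1 (flp_i L47425) (flp_b L35683) L48673
theorem L48679 : sm gf N6159 = N4504 := ded_41_1 (flp_i L35687) (flp_f L35685) L48673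
theorem L48681 : sm gh N6159 = N4529 := ded_44_1 (flp_i L35903) (flp_h L26302) (flp_i L26153) L35679 L48673
theorem L48683 : sm gd N4505 = N6160 := rfl
theorem L48685 : sm gb N6160 = N4559 := ded_18_1 (flp_d L36151) (flp_b L35700) L48683
theorem L48687 : sm gf N6160 = N5664 := ded_31_2 (flp_d L44719) (flp_f L35706) L48683
theorem L48689 : sm gi N6160 = N4530 := ded_34_2 (flp_d L35910) (flp_i L35704) L48683
theorem L48691 : sm gc N6160 = N6160 := ded_24_1 (flp_d L48683) L35702 L26201 (flp_c L35702) L48683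
theorem L48692 : sm ge N6160 = N4844 := ded_30_2 (flp_d L38364) (flp_e L28101) (flp_d L26182) L35698 L48683
theorem L48694 : sm gg N4505 = N6161 := rfl
theorem L48696 : sm gb N6161 = N4560 := ded_21_1 (flp_g L36161) (flp_b L35700) L48694
theorem L48698 : sm gc N6161 = N4510 := ded_27_1 (flp_g L35745) (flp_c L35702) L48694
theorem L48700 : sm ge N6161 = N4506 := ded_36_1 (flp_g L35708) L35698 L48694
theorem L48702 : sm gi N6161 = N4531 := ded_43_2 (flp_g L35917) (flp_i L35704) L48694
theorem L48704 : sm gh N4505 = N6162 := rfl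
theorem L48706 : sm gb N6162 = N4561 := ded_22_1 (flp_h L36169) (flp_b L35700) L48704
theorem L48708 : sm gc N6162 = N4511 := ded_28_1 (flp_h L35754) (flp_c L35702) L48704
theorem L48710 : sm ge N6162 = N4507 := ded_37_1 (flp_h L35719) L35698 L48704
theorem L48712 : sm gf N6162 = N5666 := ded_40_1 (flp_h L44733) (flp_f L35706) L48704
theorem L48714 : sm gh N4506 = N6163 := rfl
theorem L48716 : sm gb N6163 = N4562 := ded_22_1 (flp_h L36177) (flp_b L35710) L48714
theorem L48718 : sm gc N6163 = N4512 := ded_28_1 (flp_h L35762) (flp_c L35712) L48714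
theorem L48720 : sm gf N6163 = N6163 := ded_40_1 (flp_h L48714) L35718 L48714
theorem L48721 : sm gg N6163 = N4507 := ded_42_1 (flp_h L35719) L35708 L48714
theorem L48723 : sm gd N4507 = N6164 := rfl
theorem L48725 : sm gb N6164 = N4563 := ded_18_1 (flp_d L36184) (flp_b L35721) L48723
theorem L48727 : sm gf N6164 = N4508 := ded_31_2 (flp_d L35727) (flp_f L35725) L48723
theorem L48729 : sm gh N6164 = N4848 := ded_33_2 (flp_d L38400) (flp_h L28119) (flp_d L26182) L35719 L48723
theorem L48731 : sm gi N4507 = N6165 := rfl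
theorem L48733 : sm gb N6165 = N4564 := ded_23_1 (flp_i L36191) (flp_b L35721) L48731
theorem L48735 : sm gc N6165 = N4513 := ded_29_1 (flp_i L35769) (flp_c L35723) L48731
theorem L48737 : sm gf N6165 = N4509 := ded_41_1 (flp_i L35734) (flp_f L35725) L48731
theorem L48739 : sm gh N6165 = N4535 := ded_44_1 (flp_i L35951) (flp_h L26330) (flp_i L26184) L35719 L48731
theorem L48741 : sm ge N4508 = N6166 := rfl
theorem L48743 : sm gb N6166 = N4565 := ded_19_1 (flp_e L36199) (flp_b L35729) L48741
theorem L48745 : sm gg N6166 = N6166 := ded_36_2 (flp_e L48741) L35731 L48741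
theorem L48746 : sm gh N6166 = N4850 := ded_37_2 (flp_e L38416) (flp_h L35732) L48741
theorem L48748 : sm gd N6166 = N5670 := ded_30_1 (flp_e L44766) (flp_d L32863) (flp_e L26192) L35727 L48741
theorem L48750 : sm gi N4508 = N6167 := rfl
theorem L48752 : sm gb N6167 = N4566 := ded_23_1 (flp_i L36207) (flp_b L35729) L48750
theorem L48754 : sm gd N6167 = N4509 := ded_34_1 (flp_i L35734) L35727 L48750
theorem L48756 : sm gg N6167 = N6167 := ded_43_1 (flp_i L48750) L35731 L48750
theorem L48757 : sm gf N4510 = N6168 := rfl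
theorem L48762 : sm gi N6168 = N4538 := ded_41_2 (flp_f L35975) (flp_i L35752) L48757
theorem L48765 : sm gg N6168 = N5672 := ded_39_2 (flp_f L44781) (flp_g L32877) (flp_f L26202) L35745 L48757
theorem L48767 : sm gh N4510 = N6169 := rfl
theorem L48769 : sm gb N6169 = N4515 := ded_22_1 (flp_h L35789) (flp_b L35747) L48767
theorem L48771 : sm ge N6169 = N4512 := ded_37_1 (flp_h L35762) (flp_e L35750) L48767
theorem L48773 : sm gg N6169 = N4511 := ded_42_1 (flp_h L35754) L35745 L48767
theorem L48775 : sm gd N4511 = N6170 := rfl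
theorem L48777 : sm gb N6170 = N4516 := ded_18_1 (flp_d L35799) (flp_b L35756) L48775
theorem L48779 : sm gf N6170 = N5674 := ded_31_2 (flp_d L44795) (flp_f L35760) L48775
theorem L48781 : sm gh N6170 = N6170 := ded_33_2 (flp_d L48775) (flp_h L35754) L26201 L35754 L48775
theorem L48782 : sm gi N4511 = N6171 := rfl
theorem L48784 : sm gb N6171 = N4517 := ded_23_1 (flp_i L35806) (flp_b L35756) L48782
theorem L48786 : sm ge N6171 = N4513 := ded_38_1 (flp_i L35769) (flp_e L35758) L48782
theorem L48788 : sm gf N6171 = N5675 := ded_41_1 (flp_i L44801) (flp_f L35760) L48782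
theorem L48790 : sm gh N6171 = N4541 := ded_44_1 (flp_i L35995) (flp_h L26360) (flp_i L26199) L35754 L48782
theorem L48792 : sm gi N4512 = N6172 := rfl
theorem L48794 : sm gb N6172 = N4518 := ded_23_1 (flp_i L35818) (flp_b L35764) L48792
theorem L48796 : sm gf N6172 = N6172 := ded_41_1 (flp_i L48792) L35766 L48792
theorem L48797 : sm gg N6172 = N4513 := ded_43_1 (flp_i L35769) (flp_g L35767) L48792
theorem L48799 : sm gh N6172 = N4542 := ded_44_1 (flp_i L36001) (flp_h L26366) (flp_i L26210) L35762 L48792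
theorem L48801 : sm gh N4514 = N6173 := rfl
theorem L48803 : sm ga N6173 = N6026 := ded_15_1 (flp_h L47548) (flp_a L35779) L48801
theorem L48805 : sm gc N6173 = N4572 := ded_28_1 (flp_h L36261) (flp_c L35781) L48801
theorem L48808 : sm gf N6173 = N4515 := ded_40_1 (flp_h L35789) L35777 L48801
theorem L48810 : sm gg N6173 = N5677 := ded_42_1 (flp_h L44815) (flp_g L35787) L48801
theorem L48812 : sm gd N4515 = N6174 := rfl
theorem L48814 : sm ga N6174 = N6027 := ded_11_1 (flp_d L47557) (flp_a L35791) L48812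
theorem L48816 : sm gg N6174 = N4516 := ded_32_2 (flp_d L35799) (flp_g L35797) L48812
theorem L48818 : sm gh N6174 = N6174 := ded_33_2 (flp_d L48812) (flp_h L35789) L26234 L35789 L48812
theorem L48819 : sm gi N4515 = N6175 := rfl
theorem L48821 : sm ga N6175 = N6028 := ded_16_1 (flp_i L47562) (flp_a L35791) L48819
theorem L48823 : sm gc N6175 = N4574 := ded_29_1 (flp_i L36279) (flp_c L35793) L48819
theorem L48825 : sm ge N6175 = N4518 := ded_38_1 (flp_i L35818) (flp_e L35795) L48819
theorem L48827 : sm gg N6175 = N4517 := ded_43_1 (flp_i L35806) (flp_g L35797) L48819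
theorem L48829 : sm gh N6175 = N4545 := ded_44_1 (flp_i L36022) (flp_h L26387) (flp_i L26237) L35789 L48819
theorem L48831 : sm gc N4516 = N6176 := rfl
theorem L48833 : sm ga N6176 = N6029 := ded_10_1 (flp_c L47572) (flp_a L35801) L48831
theorem L48835 : sm gf N6176 = N5680 := ded_26_2 (flp_c L44842) (flp_f L35803) L48831
theorem L48837 : sm gh N6176 = N6176 := ded_28_2 (flp_c L48831) L35805 L48831
theorem L48838 : sm gd N6176 = N4575 := ded_24_2 (flp_c L36289) (flp_d L26579) (flp_c L26243) L35799 L48831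
theorem L48840 : sm gi N4516 = N6177 := rfl
theorem L48842 : sm ga N6177 = N6030 := ded_16_1 (flp_i L47579) (flp_a L35801) L48840
theorem L48844 : sm gd N6177 = N4517 := ded_34_1 (flp_i L35806) L35799 L48840
theorem L48846 : sm gf N6177 = N5681 := ded_41_1 (flp_i L44850) (flp_f L35803) L48840
theorem L48848 : sm ge N4519 = N6178 := rfl
theorem L48850 : sm ga N6178 = N4577 := ded_12_1 (flp_e L36307) (flp_a L35831) L48848
theorem L48852 : sm gb N6178 = N4521 := ded_19_1 (flp_e L35844) (flp_b L35833) L48848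
theorem L48854 : sm gg N4519 = N6179 := rfl
theorem L48856 : sm ga N6179 = N4578 := ded_14_1 (flp_g L36311) (flp_a L35831) L48854
theorem L48858 : sm gb N6179 = N4522 := ded_21_1 (flp_g L35850) (flp_b L35833) L48854
theorem L48860 : sm gd N6179 = N4863 := ded_32_1 (flp_g L38517) (flp_d L35835) L48854
theorem L48862 : sm gf N6179 = N6179 := ded_39_1 (flp_g L48854) (flp_f L35829) L26272 L35829 L48854
theorem L48863 : sm gh N4519 = N6180 := rfl
theorem L48865 : sm ga N6180 = N4579 := ded_15_1 (flp_h L36318) (flp_a L35831) L48863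
theorem L48867 : sm gb N6180 = N4523 := ded_22_1 (flp_h L35859) (flp_b L35833) L48863
theorem L48869 : sm gf N6180 = N4520 := ded_40_1 (flp_h L35837) L35829 L48863
theorem L48871 : sm gd N4520 = N6181 := rfl
theorem L48873 : sm ga N6181 = N4580 := ded_11_1 (flp_d L36324) (flp_a L35839) L48871
theorem L48875 : sm gb N6181 = N4524 := ded_18_1 (flp_d L35867) (flp_b L35841) L48871
theorem L48877 : sm gg N6181 = N6181 := ded_32_2 (flp_d L48871) L35843 L48871
theorem L48878 : sm gh N6181 = N4865 := ded_33_2 (flp_d L38534) (flp_h L28224) (flp_d L26270) L35837 L48871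
theorem L48880 : sm gi N4520 = N6182 := rfl
theorem L48882 : sm ga N6182 = N4581 := ded_16_1 (flp_i L36331) (flp_a L35839) L48880
theorem L48884 : sm gb N6182 = N4525 := ded_23_1 (flp_i L35875) (flp_b L35841) L48880
theorem L48886 : sm gg N6182 = N6182 := ded_43_1 (flp_i L48880) L35843 L48880
theorem L48887 : sm gd N4521 = N6183 := rfl
theorem L48889 : sm ga N6183 = N4530 := ded_11_1 (flp_d L35910) (flp_a L35846) L48887
theorem L48891 : sm gc N6183 = N6183 := ded_24_1 (flp_d L48887) L35848 L26294 (flp_c L35848) L48887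
theorem L48892 : sm ge N6183 = N4867 := ded_30_2 (flp_d L38550) (flp_e L28233) (flp_d L26281) L35844 L48887
theorem L48894 : sm gg N4521 = N6184 := rfl
theorem L48896 : sm ga N6184 = N4531 := ded_14_1 (flp_g L35917) (flp_a L35846) L48894
theorem L48898 : sm gc N6184 = N4526 := ded_27_1 (flp_g L35882) (flp_c L35848) L48894
theorem L48900 : sm ge N6184 = N4522 := ded_36_1 (flp_g L35850) L35844 L48894
theorem L48902 : sm gh N4521 = N6185 := rfl
theorem L48904 : sm ga N6185 = N4532 := ded_15_1 (flp_h L35925) (flp_a L35846) L48902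
theorem L48906 : sm gc N6185 = N4527 := ded_28_1 (flp_h L35889) (flp_c L35848) L48902
theorem L48908 : sm ge N6185 = N4523 := ded_37_1 (flp_h L35859) L35844 L48902
theorem L48910 : sm gh N4522 = N6186 := rfl
theorem L48912 : sm ga N6186 = N4533 := ded_15_1 (flp_h L35933) (flp_a L35852) L48910
theorem L48914 : sm gc N6186 = N4528 := ded_28_1 (flp_h L35895) (flp_c L35854) L48910
theorem L48916 : sm gf N6186 = N6186 := ded_40_1 (flp_h L48910) L35858 L48910
theorem L48917 : sm gg N6186 = N4523 := ded_42_1 (flp_h L35859) L35850 L48910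
theorem L48919 : sm gd N4523 = N6187 := rfl
theorem L48921 : sm ga N6187 = N4534 := ded_11_1 (flp_d L35942) (flp_a L35861) L48919
theorem L48923 : sm gf N6187 = N4524 := ded_31_2 (flp_d L35867) (flp_f L35865) L48919
theorem L48925 : sm gc N6187 = N6187 := ded_24_1 (flp_d L48919) L35863 L26308 (flp_c L35863) L48919
theorem L48926 : sm gh N6187 = N4871 := ded_33_2 (flp_d L38582) (flp_h L28247) (flp_d L26281) L35859 L48919
theorem L48928 : sm gi N4523 = N6188 := rfl
theorem L48930 : sm ga N6188 = N4535 := ded_16_1 (flp_i L35951) (flp_a L35861) L48928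
theorem L48932 : sm gc N6188 = N4529 := ded_29_1 (flp_i L35903) (flp_c L35863) L48928
theorem L48934 : sm gf N6188 = N4525 := ded_41_1 (flp_i L35875) (flp_f L35865) L48928
theorem L48936 : sm ge N4524 = N6189 := rfl
theorem L48938 : sm ga N6189 = N4536 := ded_12_1 (flp_e L35959) (flp_a L35869) L48936
theorem L48940 : sm gc N6189 = N6189 := ded_25_1 (flp_e L48936) L35872 L48936
theorem L48941 : sm gg N6189 = N6189 := ded_36_2 (flp_e L48936) L35871 L48936
theorem L48942 : sm gh N6189 = N4873 := ded_37_2 (flp_e L38597) (flp_h L35873) L48936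
theorem L48944 : sm gi N4524 = N6190 := rfl
theorem L48946 : sm ga N6190 = N4537 := ded_16_1 (flp_i L35967) (flp_a L35869) L48944
theorem L48948 : sm gc N6190 = N6190 := ded_29_1 (flp_i L48944) L35872 L48944
theorem L48949 : sm gd N6190 = N4525 := ded_34_1 (flp_i L35875) L35867 L48944
theorem L48951 : sm gg N6190 = N6190 := ded_43_1 (flp_i L48944) L35871 L48944
theorem L48952 : sm gf N4526 = N6191 := rfl
theorem L48954 : sm ga N6191 = N4538 := ded_13_1 (flp_f L35975) (flp_a L35884) L48952
theorem L48956 : sm gd N6191 = N6191 := ded_31_1 (flp_f L48952) L35886 L48952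
theorem L48957 : sm ge N6191 = N6191 := ded_35_1 (flp_f L48952) L35887 L26301 (flp_e L35887) L48952
theorem L48958 : sm gh N4526 = N6192 := rfl
theorem L48960 : sm ga N6192 = N4539 := ded_15_1 (flp_h L35981) (flp_a L35884) L48958
theorem L48962 : sm ge N6192 = N4528 := ded_37_1 (flp_h L35895) (flp_e L35887) L48958
theorem L48964 : sm gg N6192 = N4527 := ded_42_1 (flp_h L35889) L35882 L48958
theorem L48966 : sm gd N4527 = N6193 := rfl
theorem L48968 : sm ga N6193 = N4540 := ded_11_1 (flp_d L35989) (flp_a L35891) L48966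
theorem L48970 : sm ge N6193 = N6193 := ded_30_2 (flp_d L48966) L35893 L26308 (flp_e L35893) L48966
theorem L48971 : sm gh N6193 = N6193 := ded_33_2 (flp_d L48966) (flp_h L35889) L26294 L35889 L48966
theorem L48972 : sm gi N4527 = N6194 := rfl
theorem L48974 : sm ga N6194 = N4541 := ded_16_1 (flp_i L35995) (flp_a L35891) L48972
theorem L48976 : sm ge N6194 = N4529 := ded_38_1 (flp_i L35903) (flp_e L35893) L48972
theorem L48978 : sm gi N4528 = N6195 := rfl
theorem L48980 : sm ga N6195 = N4542 := ded_16_1 (flp_i L36001) (flp_a L35897) L48978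
theorem L48982 : sm gd N6195 = N6195 := ded_34_1 (flp_i L48978) L35902 L48978
theorem L48983 : sm gf N6195 = N6195 := ded_41_1 (flp_i L48978) L35899 L48978
theorem L48984 : sm gg N6195 = N4529 := ded_43_1 (flp_i L35903) (flp_g L35900) L48978
theorem L48986 : sm gg N4530 = N6196 := rfl
theorem L48988 : sm gb N6196 = N4595 := ded_21_1 (flp_g L36443) (flp_b L35912) L48986
theorem L48990 : sm gc N6196 = N6196 := ded_27_1 (flp_g L48986) L35914 L48986
theorem L48991 : sm gd N6196 = N4531 := ded_32_1 (flp_g L35917) L35910 L48986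
theorem L48993 : sm ge N6196 = N4880 := ded_36_1 (flp_g L38654) (flp_e L35915) L48986
theorem L48995 : sm gh N4530 = N6197 := rfl
theorem L48997 : sm gb N6197 = N4596 := ded_22_1 (flp_h L36451) (flp_b L35912) L48995
theorem L48999 : sm gc N6197 = N6197 := ded_28_1 (flp_h L48995) L35914 L48995
theorem L49000 : sm ge N6197 = N4881 := ded_37_1 (flp_h L38661) (flp_e L35915) L48995
theorem L49002 : sm gf N4531 = N6198 := rfl
theorem L49004 : sm gb N6198 = N4597 := ded_20_1 (flp_f L36457) (flp_b L35919) L49002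
theorem L49006 : sm gc N6198 = N4538 := ded_26_1 (flp_f L35975) (flp_c L35921) L49002
theorem L49008 : sm ge N6198 = N6198 := ded_35_1 (flp_f L49002) L35923 L26329 (flp_e L35923) L49002
theorem L49009 : sm gh N4531 = N6199 := rfl
theorem L49011 : sm gb N6199 = N4598 := ded_22_1 (flp_h L36462) (flp_b L35919) L49009
theorem L49013 : sm gc N6199 = N4539 := ded_28_1 (flp_h L35981) (flp_c L35921) L49009
theorem L49015 : sm ge N6199 = N4533 := ded_37_1 (flp_h L35933) (flp_e L35923) L49009
theorem L49017 : sm gg N6199 = N4532 := ded_42_1 (flp_h L35925) L35917 L49009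
theorem L49019 : sm gd N4532 = N6200 := rfl
theorem L49021 : sm gb N6200 = N4599 := ded_18_1 (flp_d L36470) (flp_b L35927) L49019
theorem L49023 : sm gi N4532 = N6201 := rfl
theorem L49025 : sm gb N6201 = N4600 := ded_23_1 (flp_i L36472) (flp_b L35927) L49023
theorem L49027 : sm gc N6201 = N4541 := ded_29_1 (flp_i L35995) (flp_c L35929) L49023
theorem L49029 : sm ge N6201 = N4535 := ded_38_1 (flp_i L35951) (flp_e L35931) L49023
theorem L49031 : sm gd N4533 = N6202 := rfl
theorem L49033 : sm gb N6202 = N4601 := ded_18_1 (flp_d L36478) (flp_b L35935) L49031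
theorem L49035 : sm gf N6202 = N6202 := ded_31_2 (flp_d L49031) L35939 L49031
theorem L49036 : sm gg N6202 = N4534 := ded_32_2 (flp_d L35942) (flp_g L35940) L49031
theorem L49038 : sm gc N6202 = N6202 := ded_24_1 (flp_d L49031) L35937 L26373 (flp_c L35937) L49031
theorem L49039 : sm gh N6202 = N4886 := ded_33_2 (flp_d L38699) (flp_h L28325) (flp_d L26327) L35933 L49031
theorem L49041 : sm gi N4533 = N6203 := rfl
theorem L49043 : sm gb N6203 = N4602 := ded_23_1 (flp_i L36487) (flp_b L35935) L49041
theorem L49045 : sm gc N6203 = N4542 := ded_29_1 (flp_i L36001) (flp_c L35937) L49041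
theorem L49047 : sm gf N6203 = N6203 := ded_41_1 (flp_i L49041) L35939 L49041
theorem L49048 : sm gg N6203 = N4535 := ded_43_1 (flp_i L35951) (flp_g L35940) L49041
theorem L49050 : sm ge N4534 = N6204 := rfl
theorem L49052 : sm gb N6204 = N4603 := ded_19_1 (flp_e L36494) (flp_b L35944) L49050
theorem L49054 : sm gc N6204 = N6204 := ded_25_1 (flp_e L49050) L35948 L49050
theorem L49055 : sm gh N6204 = N4888 := ded_37_2 (flp_e L38716) (flp_h L35949) L49050
theorem L49057 : sm gi N4534 = N6205 := rfl
theorem L49059 : sm gb N6205 = N4604 := ded_23_1 (flp_i L36500) (flp_b L35944) L49057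
theorem L49061 : sm gc N6205 = N6205 := ded_29_1 (flp_i L49057) L35948 L49057
theorem L49062 : sm gd N6205 = N4535 := ded_34_1 (flp_i L35951) L35942 L49057
theorem L49064 : sm gf N6205 = N4537 := ded_41_1 (flp_i L35967) (flp_f L35946) L49057
theorem L49066 : sm gf N4536 = N6206 := rfl
theorem L49068 : sm gb N6206 = N4605 := ded_20_1 (flp_f L36508) (flp_b L35961) L49066
theorem L49070 : sm gc N6206 = N6206 := ded_26_1 (flp_f L49066) L35963 L49066
theorem L49071 : sm gh N6206 = N4890 := ded_40_2 (flp_f L38730) (flp_h L35965) L49066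
theorem L49073 : sm gi N4536 = N6207 := rfl
theorem L49075 : sm gb N6207 = N4606 := ded_23_1 (flp_i L36514) (flp_b L35961) L49073
theorem L49077 : sm gc N6207 = N6207 := ded_29_1 (flp_i L49073) L35963 L49073
theorem L49078 : sm ge N6207 = N4537 := ded_38_1 (flp_i L35967) L35959 L49073
theorem L49080 : sm gg N6207 = N6207 := ded_43_1 (flp_i L49073) L35964 L49073
theorem L49081 : sm gh N4537 = N6208 := rfl
theorem L49083 : sm gb N6208 = N4607 := ded_22_1 (flp_h L36521) (flp_b L35969) L49081
theorem L49085 : sm gc N6208 = N6208 := ded_28_1 (flp_h L49081) L35971 L49081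
theorem L49086 : sm gg N6208 = N6208 := ded_42_1 (flp_h L49081) L35974 L49081
theorem L49087 : sm gi N6208 = N4892 := ded_44_2 (flp_h L38745) (flp_i L28356) (flp_h L26344) L35967 L49081
theorem L49089 : sm gh N4538 = N6209 := rfl
theorem L49091 : sm gb N6209 = N4543 := ded_22_1 (flp_h L36009) (flp_b L35977) L49089
theorem L49093 : sm ge N6209 = N6209 := ded_37_1 (flp_h L49089) L35980 L49089
theorem L49094 : sm gf N6209 = N4539 := ded_40_1 (flp_h L35981) L35975 L49089
theorem L49096 : sm gd N4539 = N6210 := rfl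
theorem L49098 : sm gb N6210 = N4544 := ded_18_1 (flp_d L36016) (flp_b L35983) L49096
theorem L49100 : sm gg N6210 = N4540 := ded_32_2 (flp_d L35989) (flp_g L35987) L49096
theorem L49102 : sm ge N6210 = N6210 := ded_30_2 (flp_d L49096) L35985 L26373 (flp_e L35985) L49096
theorem L49103 : sm gh N6210 = N6210 := ded_33_2 (flp_d L49096) (flp_h L35981) L26357 L35981 L49096
theorem L49104 : sm gi N4539 = N6211 := rfl
theorem L49106 : sm gb N6211 = N4545 := ded_23_1 (flp_i L36022) (flp_b L35983) L49104
theorem L49108 : sm ge N6211 = N4542 := ded_38_1 (flp_i L36001) (flp_e L35985) L49104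
theorem L49110 : sm gg N6211 = N4541 := ded_43_1 (flp_i L35995) (flp_g L35987) L49104
theorem L49112 : sm gc N4540 = N6212 := rfl
theorem L49114 : sm ge N6212 = N6212 := ded_25_2 (flp_c L49112) L35993 L49112
theorem L49115 : sm gh N6212 = N6212 := ded_28_2 (flp_c L49112) L35994 L49112
theorem L49116 : sm gi N4540 = N6213 := rfl
theorem L49118 : sm gb N6213 = N4547 := ded_23_1 (flp_i L36036) (flp_b L35991) L49116
theorem L49120 : sm gd N6213 = N4541 := ded_34_1 (flp_i L35995) L35989 L49116
theorem L49122 : sm ge N6213 = N6213 := ded_38_1 (flp_i L49116) L35993 L49116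
theorem L49123 : sm gd N4543 = N6214 := rfl
theorem L49125 : sm gf N6214 = N4544 := ded_31_2 (flp_d L36016) (flp_f L36014) L49123
theorem L49128 : sm gi N4543 = N6215 := rfl
theorem L49130 : sm gc N6215 = N4614 := ded_29_1 (flp_i L36573) (flp_c L36011) L49128
theorem L49132 : sm ge N6215 = N6215 := ded_38_1 (flp_i L49128) L36013 L49128
theorem L49133 : sm gf N6215 = N4545 := ded_41_1 (flp_i L36022) (flp_f L36014) L49128
theorem L49135 : sm gc N4544 = N6216 := rfl
theorem L49138 : sm gg N6216 = N4546 := ded_27_2 (flp_c L36030) (flp_g L36018) L49135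
theorem L49143 : sm gi N4544 = N6217 := rfl
theorem L49145 : sm gd N6217 = N4545 := ded_34_1 (flp_i L36022) L36016 L49143
theorem L49147 : sm ge N6217 = N6217 := ded_38_1 (flp_i L49143) L36020 L49143
theorem L49148 : sm gg N6217 = N4547 := ded_43_1 (flp_i L36036) (flp_g L36018) L49143
theorem L49150 : sm gb N4546 = N6218 := rfl
theorem L49152 : sm gd N6218 = N4617 := ded_18_2 (flp_b L36594) (flp_d L36034) L49150
theorem L49154 : sm ge N6218 = N6218 := ded_19_2 (flp_b L49150) L36032 L49150
theorem L49155 : sm gh N6218 = N6218 := ded_22_2 (flp_b L49150) L36033 L49150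
theorem L49156 : sm gi N4546 = N6219 := rfl
theorem L49158 : sm gc N6219 = N4547 := ded_29_1 (flp_i L36036) L36030 L49156
theorem L49160 : sm gd N6219 = N4618 := ded_34_1 (flp_i L36600) (flp_d L36034) L49156
theorem L49162 : sm ge N6219 = N6219 := ded_38_1 (flp_i L49156) L36032 L49156
theorem L49163 : sm gh N4547 = N6220 := rfl
theorem L49165 : sm ge N6220 = N6220 := ded_37_1 (flp_h L49163) L36040 L49163
theorem L49166 : sm gi N6220 = N6220 := ded_44_2 (flp_h L49163) (flp_i L36036) L26398 L36036 L49163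
theorem L49167 : sm ge N4548 = N6221 := rfl
theorem L49169 : sm gb N6221 = N4550 := ded_19_1 (flp_e L36060) (flp_b L36043) L49167
theorem L49171 : sm gc N6221 = N6031 := ded_25_1 (flp_e L47585) (flp_c L36045) L49167
theorem L49173 : sm gi N6221 = N4577 := ded_38_2 (flp_e L36307) (flp_i L36049) L49167
theorem L49175 : sm gf N6221 = N5682 := ded_35_2 (flp_e L44857) (flp_f L32947) (flp_e L26417) L36041 L49167
theorem L49177 : sm gg N4548 = N6222 := rfl
theorem L49179 : sm gb N6222 = N4551 := ded_21_1 (flp_g L36070) (flp_b L36043) L49177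
theorem L49181 : sm gc N6222 = N6032 := ded_27_1 (flp_g L47593) (flp_c L36045) L49177
theorem L49183 : sm gd N6222 = N4903 := ded_32_1 (flp_g L38830) (flp_d L36047) L49177
theorem L49185 : sm gi N6222 = N4578 := ded_43_2 (flp_g L36311) (flp_i L36049) L49177
theorem L49187 : sm gf N6222 = N6222 := ded_39_1 (flp_g L49177) (flp_f L36041) L26419 L36041 L49177
theorem L49188 : sm gh N4548 = N6223 := rfl
theorem L49190 : sm gb N6223 = N4552 := ded_22_1 (flp_h L36081) (flp_b L36043) L49188
theorem L49192 : sm gc N6223 = N6033 := ded_28_1 (flp_h L47601) (flp_c L36045) L49188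
theorem L49194 : sm gf N6223 = N4549 := ded_40_1 (flp_h L36051) L36041 L49188
theorem L49196 : sm gd N4549 = N6224 := rfl
theorem L49198 : sm gb N6224 = N4553 := ded_18_1 (flp_d L36089) (flp_b L36053) L49196
theorem L49200 : sm gg N6224 = N6224 := ded_32_2 (flp_d L49196) L36059 L49196
theorem L49201 : sm gh N6224 = N4905 := ded_33_2 (flp_d L38845) (flp_h L28442) (flp_d L26415) L36051 L49196
theorem L49203 : sm gi N4549 = N6225 := rfl
theorem L49205 : sm gb N6225 = N4554 := ded_23_1 (flp_i L36097) (flp_b L36053) L49203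
theorem L49207 : sm gc N6225 = N6035 := ded_29_1 (flp_i L47613) (flp_c L36055) L49203
theorem L49209 : sm ge N6225 = N5686 := ded_38_1 (flp_i L44885) (flp_e L36057) L49203
theorem L49211 : sm gg N6225 = N6225 := ded_43_1 (flp_i L49203) L36059 L49203
theorem L49212 : sm gh N6225 = N4581 := ded_44_1 (flp_i L36331) (flp_h L26614) (flp_i L26420) L36051 L49203
theorem L49214 : sm gd N4550 = N6226 := rfl
theorem L49216 : sm ga N6226 = N4559 := ded_11_1 (flp_d L36151) (flp_a L36062) L49214
theorem L49218 : sm gf N6226 = N5687 := ded_31_2 (flp_d L44892) (flp_f L36068) L49214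
theorem L49220 : sm gi N6226 = N4582 := ded_34_2 (flp_d L36336) (flp_i L36066) L49214
theorem L49222 : sm gc N6226 = N4625 := ded_24_1 (flp_d L36667) L26837 (flp_d L26451) (flp_c L36064) L49214
theorem L49224 : sm ge N6226 = N4907 := ded_30_2 (flp_d L38859) (flp_e L28449) (flp_d L26430) L36060 L49214
theorem L49226 : sm gg N4550 = N6227 := rfl
theorem L49228 : sm ga N6227 = N4560 := ded_14_1 (flp_g L36161) (flp_a L36062) L49226
theorem L49230 : sm gc N6227 = N4555 := ded_27_1 (flp_g L36108) (flp_c L36064) L49226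
theorem L49232 : sm ge N6227 = N4551 := ded_36_1 (flp_g L36070) L36060 L49226
theorem L49234 : sm gi N6227 = N4583 := ded_43_2 (flp_g L36344) (flp_i L36066) L49226
theorem L49236 : sm gh N4550 = N6228 := rfl
theorem L49238 : sm ga N6228 = N4561 := ded_15_1 (flp_h L36169) (flp_a L36062) L49236
theorem L49240 : sm gc N6228 = N4556 := ded_28_1 (flp_h L36120) (flp_c L36064) L49236
theorem L49242 : sm ge N6228 = N4552 := ded_37_1 (flp_h L36081) L36060 L49236
theorem L49244 : sm gf N6228 = N5689 := ded_40_1 (flp_h L44907) (flp_f L36068) L49236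
theorem L49246 : sm gh N4551 = N6229 := rfl
theorem L49248 : sm ga N6229 = N4562 := ded_15_1 (flp_h L36177) (flp_a L36072) L49246
theorem L49250 : sm gc N6229 = N4557 := ded_28_1 (flp_h L36130) (flp_c L36074) L49246
theorem L49252 : sm gf N6229 = N6229 := ded_40_1 (flp_h L49246) L36080 L49246
theorem L49253 : sm gg N6229 = N4552 := ded_42_1 (flp_h L36081) L36070 L49246
theorem L49255 : sm gd N4552 = N6230 := rfl
theorem L49257 : sm ga N6230 = N4563 := ded_11_1 (flp_d L36184) (flp_a L36083) L49255
theorem L49259 : sm gf N6230 = N4553 := ded_31_2 (flp_d L36089) (flp_f L36087) L49255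
theorem L49261 : sm gc N6230 = N6230 := ded_24_1 (flp_d L49255) L36085 L26474 (flp_c L36085) L49255
theorem L49262 : sm gh N6230 = N4911 := ded_33_2 (flp_d L38896) (flp_h L28467) (flp_d L26430) L36081 L49255
theorem L49264 : sm gi N4552 = N6231 := rfl
theorem L49266 : sm ga N6231 = N4564 := ded_16_1 (flp_i L36191) (flp_a L36083) L49264
theorem L49268 : sm gc N6231 = N4558 := ded_29_1 (flp_i L36140) (flp_c L36085) L49264
theorem L49270 : sm gf N6231 = N4554 := ded_41_1 (flp_i L36097) (flp_f L36087) L49264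
theorem L49272 : sm gh N6231 = N4587 := ded_44_1 (flp_i L36379) (flp_h L26634) (flp_i L26432) L36081 L49264
theorem L49274 : sm ge N4553 = N6232 := rfl
theorem L49276 : sm ga N6232 = N4565 := ded_12_1 (flp_e L36199) (flp_a L36091) L49274
theorem L49278 : sm gc N6232 = N6232 := ded_25_1 (flp_e L49274) L36094 L49274
theorem L49279 : sm gg N6232 = N6232 := ded_36_2 (flp_e L49274) L36093 L49274
theorem L49280 : sm gh N6232 = N4913 := ded_37_2 (flp_e L38913) (flp_h L36095) L49274
theorem L49282 : sm gd N6232 = N5693 := ded_30_1 (flp_e L44941) (flp_d L32983) (flp_e L26440) L36089 L49274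
theorem L49284 : sm gi N4553 = N6233 := rfl
theorem L49286 : sm ga N6233 = N4566 := ded_16_1 (flp_i L36207) (flp_a L36091) L49284
theorem L49288 : sm gc N6233 = N6233 := ded_29_1 (flp_i L49284) L36094 L49284
theorem L49289 : sm gd N6233 = N4554 := ded_34_1 (flp_i L36097) L36089 L49284
theorem L49291 : sm gg N6233 = N6233 := ded_43_1 (flp_i L49284) L36093 L49284
theorem L49292 : sm gf N4555 = N6234 := rfl
theorem L49296 : sm gb N6234 = N6044 := ded_20_1 (flp_f L47697) (flp_b L36112) L49292
theorem L49303 : sm gg N6234 = N5695 := ded_39_2 (flp_f L44958) (flp_g L32998) (flp_f L26453) L36108 L49292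
theorem L49305 : sm gh N4555 = N6235 := rfl
theorem L49307 : sm ga N6235 = N4568 := ded_15_1 (flp_h L36224) (flp_a L36110) L49305
theorem L49309 : sm gb N6235 = N6045 := ded_22_1 (flp_h L47708) (flp_b L36112) L49305
theorem L49311 : sm ge N6235 = N4557 := ded_37_1 (flp_h L36130) (flp_e L36116) L49305
theorem L49313 : sm gg N6235 = N4556 := ded_42_1 (flp_h L36120) L36108 L49305
theorem L49315 : sm gd N4556 = N6236 := rfl
theorem L49317 : sm ga N6236 = N4569 := ded_11_1 (flp_d L36232) (flp_a L36122) L49315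
theorem L49319 : sm gb N6236 = N6046 := ded_18_1 (flp_d L47716) (flp_b L36124) L49315
theorem L49321 : sm gf N6236 = N5697 := ded_31_2 (flp_d L44977) (flp_f L36128) L49315
theorem L49323 : sm ge N6236 = N6236 := ded_30_2 (flp_d L49315) L36126 L26474 (flp_e L36126) L49315
theorem L49324 : sm gh N6236 = N4635 := ded_33_2 (flp_d L36769) (flp_h L26894) (flp_d L26451) L36120 L49315
theorem L49326 : sm gi N4556 = N6237 := rfl
theorem L49328 : sm ga N6237 = N4570 := ded_16_1 (flp_i L36241) (flp_a L36122) L49326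
theorem L49330 : sm gb N6237 = N6047 := ded_23_1 (flp_i L47725) (flp_b L36124) L49326
theorem L49332 : sm ge N6237 = N4558 := ded_38_1 (flp_i L36140) (flp_e L36126) L49326
theorem L49334 : sm gf N6237 = N5698 := ded_41_1 (flp_i L44987) (flp_f L36128) L49326
theorem L49336 : sm gh N6237 = N4593 := ded_44_1 (flp_i L36428) (flp_h L26666) (flp_i L26449) L36120 L49326
theorem L49338 : sm gi N4557 = N6238 := rfl
theorem L49340 : sm ga N6238 = N4571 := ded_16_1 (flp_i L36251) (flp_a L36132) L49338
theorem L49342 : sm gb N6238 = N6048 := ded_23_1 (flp_i L47735) (flp_b L36134) L49338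
theorem L49344 : sm gd N6238 = N6238 := ded_34_1 (flp_i L49338) L36139 L49338
theorem L49345 : sm gf N6238 = N6238 := ded_41_1 (flp_i L49338) L36136 L49338
theorem L49346 : sm gg N6238 = N4558 := ded_43_1 (flp_i L36140) (flp_g L36137) L49338
theorem L49348 : sm gh N6238 = N4594 := ded_44_1 (flp_i L36434) (flp_h L26672) (flp_i L26463) L36130 L49338
theorem L49350 : sm gg N4559 = N6239 := rfl
theorem L49352 : sm gc N6239 = N4638 := ded_27_1 (flp_g L36803) (flp_c L36157) L49350
theorem L49354 : sm gd N6239 = N4560 := ded_32_1 (flp_g L36161) L36151 L49350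
theorem L49356 : sm ge N6239 = N4920 := ded_36_1 (flp_g L38978) (flp_e L36159) L49350
theorem L49358 : sm gi N6239 = N4595 := ded_43_2 (flp_g L36443) (flp_i L36155) L49350
theorem L49360 : sm gh N4559 = N6240 := rfl
theorem L49362 : sm gc N6240 = N4639 := ded_28_1 (flp_h L36812) (flp_c L36157) L49360
theorem L49364 : sm ge N6240 = N4921 := ded_37_1 (flp_h L38986) (flp_e L36159) L49360
theorem L49366 : sm gf N6240 = N5701 := ded_40_1 (flp_h L45013) (flp_f L36153) L49360
theorem L49368 : sm gf N4560 = N6241 := rfl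
theorem L49375 : sm gg N6241 = N5702 := ded_39_2 (flp_f L45018) (flp_g L33042) (flp_f L26493) L36161 L49368
theorem L49377 : sm gh N4560 = N6242 := rfl
theorem L49379 : sm gc N6242 = N4568 := ded_28_1 (flp_h L36224) (flp_c L36163) L49377
theorem L49381 : sm ge N6242 = N4562 := ded_37_1 (flp_h L36177) (flp_e L36165) L49377
theorem L49383 : sm gg N6242 = N4561 := ded_42_1 (flp_h L36169) L36161 L49377
theorem L49385 : sm gd N4561 = N6243 := rfl
theorem L49387 : sm gf N6243 = N5704 := ded_31_2 (flp_d L45031) (flp_f L36175) L49385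
theorem L49389 : sm gi N4561 = N6244 := rfl
theorem L49391 : sm gc N6244 = N4570 := ded_29_1 (flp_i L36241) (flp_c L36171) L49389
theorem L49393 : sm ge N6244 = N4564 := ded_38_1 (flp_i L36191) (flp_e L36173) L49389
theorem L49395 : sm gf N6244 = N5705 := ded_41_1 (flp_i L45033) (flp_f L36175) L49389
theorem L49397 : sm gh N6244 = N4600 := ded_44_1 (flp_i L36472) (flp_h L26701) (flp_i L26491) L36169 L49389
theorem L49399 : sm gd N4562 = N6245 := rfl
theorem L49401 : sm gf N6245 = N6245 := ded_31_2 (flp_d L49399) L36181 L49399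
theorem L49402 : sm gg N6245 = N4563 := ded_32_2 (flp_d L36184) (flp_g L36182) L49399
theorem L49404 : sm gc N6245 = N6245 := ded_24_1 (flp_d L49399) L36179 L26550 (flp_c L36179) L49399
theorem L49405 : sm gh N6245 = N4926 := ded_33_2 (flp_d L39019) (flp_h L28551) (flp_d L26499) L36177 L49399
theorem L49407 : sm gi N4562 = N6246 := rfl
theorem L49409 : sm gc N6246 = N4571 := ded_29_1 (flp_i L36251) (flp_c L36179) L49407
theorem L49411 : sm gf N6246 = N6246 := ded_41_1 (flp_i L49407) L36181 L49407
theorem L49412 : sm gg N6246 = N4564 := ded_43_1 (flp_i L36191) (flp_g L36182) L49407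
theorem L49414 : sm gh N6246 = N4602 := ded_44_1 (flp_i L36487) (flp_h L26707) (flp_i L26501) L36177 L49407
theorem L49416 : sm ge N4563 = N6247 := rfl
theorem L49418 : sm gc N6247 = N6247 := ded_25_1 (flp_e L49416) L36188 L49416
theorem L49419 : sm gh N6247 = N4928 := ded_37_2 (flp_e L39034) (flp_h L36189) L49416
theorem L49421 : sm gi N4563 = N6248 := rfl
theorem L49423 : sm gc N6248 = N6248 := ded_29_1 (flp_i L49421) L36188 L49421
theorem L49424 : sm gd N6248 = N4564 := ded_34_1 (flp_i L36191) L36184 L49421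
theorem L49426 : sm gf N6248 = N4566 := ded_41_1 (flp_i L36207) (flp_f L36186) L49421
theorem L49428 : sm gf N4565 = N6249 := rfl
theorem L49430 : sm gc N6249 = N6249 := ded_26_1 (flp_f L49428) L36201 L49428
theorem L49431 : sm gd N6249 = N5710 := ded_31_1 (flp_f L45067) (flp_d L36205) L49428
theorem L49433 : sm gh N6249 = N4930 := ded_40_2 (flp_f L39044) (flp_h L36203) L49428
theorem L49435 : sm gi N4565 = N6250 := rfl
theorem L49437 : sm gc N6250 = N6250 := ded_29_1 (flp_i L49435) L36201 L49435
theorem L49438 : sm gd N6250 = N5711 := ded_34_1 (flp_i L45072) (flp_d L36205) L49435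
theorem L49440 : sm ge N6250 = N4566 := ded_38_1 (flp_i L36207) L36199 L49435
theorem L49442 : sm gg N6250 = N6250 := ded_43_1 (flp_i L49435) L36202 L49435
theorem L49443 : sm gh N4566 = N6251 := rfl
theorem L49445 : sm gc N6251 = N6251 := ded_28_1 (flp_h L49443) L36209 L49443
theorem L49446 : sm gg N6251 = N6251 := ded_42_1 (flp_h L49443) L36212 L49443
theorem L49447 : sm gd N6251 = N4607 := ded_33_1 (flp_h L36521) L26739 (flp_h L26523) (flp_d L36210) L49443
theorem L49449 : sm gi N6251 = N4932 := ded_44_2 (flp_h L39055) (flp_i L28576) (flp_h L26514) L36207 L49443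
theorem L49451 : sm gh N4567 = N6252 := rfl
theorem L49453 : sm gb N6252 = N4572 := ded_22_1 (flp_h L36261) (flp_b L36215) L49451
theorem L49456 : sm gf N6252 = N4568 := ded_40_1 (flp_h L36224) L36213 L49451
theorem L49460 : sm gd N4568 = N6253 := rfl
theorem L49462 : sm gb N6253 = N4573 := ded_18_1 (flp_d L36270) (flp_b L36226) L49460
theorem L49464 : sm gg N6253 = N4569 := ded_32_2 (flp_d L36232) (flp_g L36230) L49460
theorem L49467 : sm gh N6253 = N4651 := ded_33_2 (flp_d L36920) (flp_h L27008) (flp_d L26529) L36224 L49460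
theorem L49469 : sm gi N4568 = N6254 := rfl
theorem L49471 : sm gb N6254 = N4574 := ded_23_1 (flp_i L36279) (flp_b L36226) L49469
theorem L49473 : sm ge N6254 = N4571 := ded_38_1 (flp_i L36251) (flp_e L36228) L49469
theorem L49475 : sm gg N6254 = N4570 := ded_43_1 (flp_i L36241) (flp_g L36230) L49469
theorem L49477 : sm gh N6254 = N4610 := ded_44_1 (flp_i L36545) (flp_h L26749) (flp_i L26533) L36224 L49469
theorem L49479 : sm gc N4569 = N6255 := rfl
theorem L49481 : sm ge N6255 = N6255 := ded_25_2 (flp_c L49479) L36238 L49479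
theorem L49482 : sm gf N6255 = N5716 := ded_26_2 (flp_c L45110) (flp_f L36236) L49479
theorem L49484 : sm gh N6255 = N4653 := ded_28_2 (flp_c L36937) (flp_h L36239) L49479
theorem L49486 : sm gi N4569 = N6256 := rfl
theorem L49488 : sm gb N6256 = N4576 := ded_23_1 (flp_i L36298) (flp_b L36234) L49486
theorem L49490 : sm gd N6256 = N4570 := ded_34_1 (flp_i L36241) L36232 L49486
theorem L49492 : sm ge N6256 = N6256 := ded_38_1 (flp_i L49486) L36238 L49486
theorem L49493 : sm gf N6256 = N5717 := ded_41_1 (flp_i L45116) (flp_f L36236) L49486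
theorem L49495 : sm gd N4572 = N6257 := rfl
theorem L49499 : sm gf N6257 = N4573 := ded_31_2 (flp_d L36270) (flp_f L36266) L49495
theorem L49501 : sm gg N6257 = N5718 := ded_32_2 (flp_d L45124) (flp_g L36268) L49495
theorem L49505 : sm gi N4572 = N6258 := rfl
theorem L49507 : sm ga N6258 = N6068 := ded_16_1 (flp_i L47892) (flp_a L36263) L49505
theorem L49510 : sm gf N6258 = N4574 := ded_41_1 (flp_i L36279) (flp_f L36266) L49505
theorem L49512 : sm gg N6258 = N5719 := ded_43_1 (flp_i L45132) (flp_g L36268) L49505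
theorem L49516 : sm gc N4573 = N6259 := rfl
theorem L49518 : sm ga N6259 = N6069 := ded_10_1 (flp_c L47901) (flp_a L36272) L49516
theorem L49523 : sm gh N6259 = N4657 := ded_28_2 (flp_c L36972) (flp_h L36277) L49516
theorem L49525 : sm gi N4573 = N6260 := rfl
theorem L49529 : sm gd N6260 = N4574 := ded_34_1 (flp_i L36279) L36270 L49525
theorem L49532 : sm gg N6260 = N4576 := ded_43_1 (flp_i L36298) (flp_g L36274) L49525
theorem L49534 : sm gb N4575 = N6261 := rfl
theorem L49537 : sm gf N6261 = N5722 := ded_20_2 (flp_b L45159) (flp_f L36294) L49534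
theorem L49541 : sm gi N4575 = N6262 := rfl
theorem L49543 : sm ga N6262 = N6072 := ded_16_1 (flp_i L47922) (flp_a L36291) L49541
theorem L49548 : sm gf N6262 = N5723 := ded_41_1 (flp_i L45165) (flp_f L36294) L49541
theorem L49550 : sm gh N4576 = N6263 := rfl
theorem L49557 : sm gd N6263 = N4619 := ded_33_1 (flp_h L36606) L26807 (flp_h L26596) (flp_d L36302) L49550
theorem L49561 : sm gd N4577 = N6264 := rfl
theorem L49563 : sm gb N6264 = N4582 := ded_18_1 (flp_d L36336) (flp_b L36309) L49561
theorem L49565 : sm ge N6264 = N4944 := ded_30_2 (flp_d L39151) (flp_e L28666) (flp_d L26612) L36307 L49561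
theorem L49567 : sm gg N4577 = N6265 := rfl
theorem L49569 : sm gb N6265 = N4583 := ded_21_1 (flp_g L36344) (flp_b L36309) L49567
theorem L49571 : sm ge N6265 = N4578 := ded_36_1 (flp_g L36311) L36307 L49567
theorem L49573 : sm gh N4577 = N6266 := rfl
theorem L49575 : sm gb N6266 = N4584 := ded_22_1 (flp_h L36352) (flp_b L36309) L49573
theorem L49577 : sm ge N6266 = N4579 := ded_37_1 (flp_h L36318) L36307 L49573
theorem L49579 : sm gh N4578 = N6267 := rfl
theorem L49581 : sm gb N6267 = N4585 := ded_22_1 (flp_h L36360) (flp_b L36313) L49579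
theorem L49583 : sm gf N6267 = N6267 := ded_40_1 (flp_h L49579) L36317 L49579
theorem L49584 : sm gg N6267 = N4579 := ded_42_1 (flp_h L36318) L36311 L49579
theorem L49586 : sm gd N4579 = N6268 := rfl
theorem L49588 : sm gb N6268 = N4586 := ded_18_1 (flp_d L36369) (flp_b L36320) L49586
theorem L49590 : sm gf N6268 = N4580 := ded_31_2 (flp_d L36324) (flp_f L36322) L49586
theorem L49592 : sm gh N6268 = N4948 := ded_33_2 (flp_d L39179) (flp_h L28678) (flp_d L26612) L36318 L49586
theorem L49594 : sm gi N4579 = N6269 := rfl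
theorem L49596 : sm gb N6269 = N4587 := ded_23_1 (flp_i L36379) (flp_b L36320) L49594
theorem L49598 : sm gf N6269 = N4581 := ded_41_1 (flp_i L36331) (flp_f L36322) L49594
theorem L49600 : sm gc N4580 = N6270 := rfl
theorem L49602 : sm gg N6270 = N6270 := ded_27_2 (flp_c L49600) L36328 L49600
theorem L49603 : sm gh N6270 = N4950 := ded_28_2 (flp_c L39192) (flp_h L36329) L49600
theorem L49605 : sm gb N6270 = N4709 := ded_17_1 (flp_c L37352) L27352 (flp_c L26647) (flp_b L36326) L49600
theorem L49607 : sm ge N4580 = N6271 := rfl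
theorem L49609 : sm gb N6271 = N4588 := ded_19_1 (flp_e L36387) (flp_b L36326) L49607
theorem L49611 : sm gg N6271 = N6271 := ded_36_2 (flp_e L49607) L36328 L49607
theorem L49612 : sm gh N6271 = N4951 := ded_37_2 (flp_e L39198) (flp_h L36329) L49607
theorem L49614 : sm gi N4580 = N6272 := rfl
theorem L49616 : sm gb N6272 = N4589 := ded_23_1 (flp_i L36396) (flp_b L36326) L49614
theorem L49618 : sm gd N6272 = N4581 := ded_34_1 (flp_i L36331) L36324 L49614
theorem L49620 : sm gg N6272 = N6272 := ded_43_1 (flp_i L49614) L36328 L49614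
theorem L49621 : sm gg N4582 = N6273 := rfl
theorem L49623 : sm ga N6273 = N4595 := ded_14_1 (flp_g L36443) (flp_a L36338) L49621
theorem L49625 : sm gc N6273 = N4667 := ded_27_1 (flp_g L37053) (flp_c L36340) L49621
theorem L49627 : sm gd N6273 = N4583 := ded_32_1 (flp_g L36344) L36336 L49621
theorem L49629 : sm ge N6273 = N4953 := ded_36_1 (flp_g L39211) (flp_e L36342) L49621
theorem L49631 : sm gh N4582 = N6274 := rfl
theorem L49633 : sm ga N6274 = N4596 := ded_15_1 (flp_h L36451) (flp_a L36338) L49631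
theorem L49635 : sm gc N6274 = N4668 := ded_28_1 (flp_h L37061) (flp_c L36340) L49631
theorem L49637 : sm ge N6274 = N4954 := ded_37_1 (flp_h L39219) (flp_e L36342) L49631
theorem L49639 : sm gf N4583 = N6275 := rfl
theorem L49641 : sm ga N6275 = N4597 := ded_13_1 (flp_f L36457) (flp_a L36346) L49639
theorem L49643 : sm gc N6275 = N4590 := ded_26_1 (flp_f L36405) (flp_c L36348) L49639
theorem L49645 : sm ge N6275 = N6275 := ded_35_1 (flp_f L49639) L36350 L26633 (flp_e L36350) L49639
theorem L49646 : sm gh N4583 = N6276 := rfl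
theorem L49648 : sm ga N6276 = N4598 := ded_15_1 (flp_h L36462) (flp_a L36346) L49646
theorem L49650 : sm gc N6276 = N4591 := ded_28_1 (flp_h L36412) (flp_c L36348) L49646
theorem L49652 : sm ge N6276 = N4585 := ded_37_1 (flp_h L36360) (flp_e L36350) L49646
theorem L49654 : sm gg N6276 = N4584 := ded_42_1 (flp_h L36352) L36344 L49646
theorem L49656 : sm gd N4584 = N6277 := rfl
theorem L49658 : sm ga N6277 = N4599 := ded_11_1 (flp_d L36470) (flp_a L36354) L49656
theorem L49660 : sm gi N4584 = N6278 := rfl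
theorem L49662 : sm ga N6278 = N4600 := ded_16_1 (flp_i L36472) (flp_a L36354) L49660
theorem L49664 : sm gc N6278 = N4593 := ded_29_1 (flp_i L36428) (flp_c L36356) L49660
theorem L49666 : sm ge N6278 = N4587 := ded_38_1 (flp_i L36379) (flp_e L36358) L49660
theorem L49668 : sm gd N4585 = N6279 := rfl
theorem L49670 : sm ga N6279 = N4601 := ded_11_1 (flp_d L36478) (flp_a L36362) L49668
theorem L49672 : sm gf N6279 = N6279 := ded_31_2 (flp_d L49668) L36366 L49668
theorem L49673 : sm gg N6279 = N4586 := ded_32_2 (flp_d L36369) (flp_g L36367) L49668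
theorem L49675 : sm gc N6279 = N4716 := ded_24_1 (flp_d L37411) L27388 (flp_d L26679) (flp_c L36364) L49668
theorem L49677 : sm gh N6279 = N4959 := ded_33_2 (flp_d L39259) (flp_h L28721) (flp_d L26631) L36360 L49668
theorem L49679 : sm gi N4585 = N6280 := rfl
theorem L49681 : sm ga N6280 = N4602 := ded_16_1 (flp_i L36487) (flp_a L36362) L49679
theorem L49683 : sm gc N6280 = N4594 := ded_29_1 (flp_i L36434) (flp_c L36364) L49679
theorem L49685 : sm gf N6280 = N6280 := ded_41_1 (flp_i L49679) L36366 L49679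
theorem L49686 : sm gg N6280 = N4587 := ded_43_1 (flp_i L36379) (flp_g L36367) L49679
theorem L49688 : sm ge N4586 = N6281 := rfl
theorem L49690 : sm ga N6281 = N4603 := ded_12_1 (flp_e L36494) (flp_a L36371) L49688
theorem L49692 : sm gc N6281 = N4718 := ded_25_1 (flp_e L37430) (flp_c L36375) L49688
theorem L49694 : sm gh N6281 = N4961 := ded_37_2 (flp_e L39277) (flp_h L36377) L49688
theorem L49696 : sm gi N4586 = N6282 := rfl
theorem L49698 : sm ga N6282 = N4604 := ded_16_1 (flp_i L36500) (flp_a L36371) L49696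
theorem L49700 : sm gc N6282 = N4719 := ded_29_1 (flp_i L37436) (flp_c L36375) L49696
theorem L49702 : sm gd N6282 = N4587 := ded_34_1 (flp_i L36379) L36369 L49696
theorem L49704 : sm gf N6282 = N4589 := ded_41_1 (flp_i L36396) (flp_f L36373) L49696
theorem L49706 : sm gf N4588 = N6283 := rfl
theorem L49708 : sm ga N6283 = N4605 := ded_13_1 (flp_f L36508) (flp_a L36389) L49706
theorem L49710 : sm gc N6283 = N4720 := ded_26_1 (flp_f L37444) (flp_c L36391) L49706
theorem L49712 : sm gh N6283 = N4963 := ded_40_2 (flp_f L39293) (flp_h L36394) L49706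
theorem L49714 : sm gi N4588 = N6284 := rfl
theorem L49716 : sm ga N6284 = N4606 := ded_16_1 (flp_i L36514) (flp_a L36389) L49714
theorem L49718 : sm gc N6284 = N4721 := ded_29_1 (flp_i L37451) (flp_c L36391) L49714
theorem L49720 : sm ge N6284 = N4589 := ded_38_1 (flp_i L36396) L36387 L49714
theorem L49722 : sm gg N6284 = N6284 := ded_43_1 (flp_i L49714) L36393 L49714
theorem L49723 : sm gh N4589 = N6285 := rfl
theorem L49725 : sm ga N6285 = N4607 := ded_15_1 (flp_h L36521) (flp_a L36398) L49723
theorem L49727 : sm gc N6285 = N4722 := ded_28_1 (flp_h L37459) (flp_c L36400) L49723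
theorem L49729 : sm gg N6285 = N6285 := ded_42_1 (flp_h L49723) L36404 L49723
theorem L49730 : sm gi N6285 = N4965 := ded_44_2 (flp_h L39310) (flp_i L28754) (flp_h L26649) L36396 L49723
theorem L49739 : sm gd N4591 = N6287 := rfl
theorem L49743 : sm gg N6287 = N4592 := ded_32_2 (flp_d L36420) (flp_g L36418) L49739
theorem L49749 : sm gi N4591 = N6288 := rfl
theorem L49751 : sm ga N6288 = N4610 := ded_16_1 (flp_i L36545) (flp_a L36414) L49749
theorem L49753 : sm ge N6288 = N4594 := ded_38_1 (flp_i L36434) (flp_e L36416) L49749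
theorem L49755 : sm gg N6288 = N4593 := ded_43_1 (flp_i L36428) (flp_g L36418) L49749
theorem L49757 : sm gc N4592 = N6289 := rfl
theorem L49759 : sm ga N6289 = N4611 := ded_10_1 (flp_c L36553) (flp_a L36422) L49757
theorem L49761 : sm ge N6289 = N4726 := ded_25_2 (flp_c L37492) (flp_e L36424) L49757
theorem L49763 : sm gh N6289 = N4677 := ded_28_2 (flp_c L37133) (flp_h L36426) L49757
theorem L49765 : sm gi N4592 = N6290 := rfl
theorem L49767 : sm ga N6290 = N4612 := ded_16_1 (flp_i L36559) (flp_a L36422) L49765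
theorem L49769 : sm gd N6290 = N4593 := ded_34_1 (flp_i L36428) L36420 L49765
theorem L49771 : sm ge N6290 = N4727 := ded_38_1 (flp_i L37499) (flp_e L36424) L49765
theorem L49773 : sm gf N4595 = N6291 := rfl
theorem L49775 : sm gc N6291 = N4679 := ded_26_1 (flp_f L37147) (flp_c L36445) L49773
theorem L49777 : sm gd N6291 = N4597 := ded_31_1 (flp_f L36457) (flp_d L36447) L49773
theorem L49779 : sm gh N4595 = N6292 := rfl
theorem L49781 : sm gc N6292 = N4680 := ded_28_1 (flp_h L37152) (flp_c L36445) L49779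
theorem L49783 : sm ge N6292 = N4969 := ded_37_1 (flp_h L39344) (flp_e L36449) L49779
theorem L49785 : sm gg N6292 = N4596 := ded_42_1 (flp_h L36451) L36443 L49779
theorem L49787 : sm gd N4596 = N6293 := rfl
theorem L49789 : sm gh N6293 = N4599 := ded_33_2 (flp_d L36470) (flp_h L26701) L26689 L36451 L49787
theorem L49791 : sm gi N4596 = N6294 := rfl
theorem L49793 : sm gc N6294 = N4682 := ded_29_1 (flp_i L37165) (flp_c L36453) L49791
theorem L49795 : sm ge N6294 = N4971 := ded_38_1 (flp_i L39356) (flp_e L36455) L49791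
theorem L49797 : sm gh N4597 = N6295 := rfl
theorem L49802 : sm gf N6295 = N4598 := ded_40_1 (flp_h L36462) L36457 L49797
theorem L49804 : sm gd N4598 = N6296 := rfl
theorem L49806 : sm gg N6296 = N4599 := ded_32_2 (flp_d L36470) (flp_g L36468) L49804
theorem L49808 : sm gi N4598 = N6297 := rfl
theorem L49810 : sm gc N6297 = N4610 := ded_29_1 (flp_i L36545) (flp_c L36464) L49808
theorem L49812 : sm ge N6297 = N4602 := ded_38_1 (flp_i L36487) (flp_e L36466) L49808
theorem L49814 : sm gg N6297 = N4600 := ded_43_1 (flp_i L36472) (flp_g L36468) L49808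
theorem L49816 : sm gc N4599 = N6298 := rfl
theorem L49818 : sm gd N6298 = N4611 := ded_24_2 (flp_c L36553) (flp_d L26757) (flp_c L26703) L36470 L49816
theorem L49820 : sm ge N4599 = N6299 := rfl
theorem L49822 : sm gd N6299 = N4603 := ded_30_1 (flp_e L36494) (flp_d L26714) (flp_e L26705) L36470 L49820
theorem L49824 : sm gi N4599 = N6300 := rfl
theorem L49826 : sm gd N6300 = N4600 := ded_34_1 (flp_i L36472) L36470 L49824
theorem L49828 : sm ge N4601 = N6301 := rfl
theorem L49830 : sm gc N6301 = N4734 := ded_25_1 (flp_e L37549) (flp_c L36483) L49828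
theorem L49832 : sm gg N6301 = N4603 := ded_36_2 (flp_e L36494) (flp_g L36481) L49828
theorem L49834 : sm gh N6301 = N4977 := ded_37_2 (flp_e L39393) (flp_h L36485) L49828
theorem L49836 : sm gi N4601 = N6302 := rfl
theorem L49838 : sm gc N6302 = N4735 := ded_29_1 (flp_i L37556) (flp_c L36483) L49836
theorem L49840 : sm gd N6302 = N4602 := ded_34_1 (flp_i L36487) L36478 L49836
theorem L49842 : sm gf N6302 = N6302 := ded_41_1 (flp_i L49836) L36480 L49836
theorem L49843 : sm gg N6302 = N4604 := ded_43_1 (flp_i L36500) (flp_g L36481) L49836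
theorem L49845 : sm gf N4603 = N6303 := rfl
theorem L49847 : sm gc N6303 = N4736 := ded_26_1 (flp_f L37564) (flp_c L36496) L49845
theorem L49849 : sm gh N6303 = N4979 := ded_40_2 (flp_f L39408) (flp_h L36498) L49845
theorem L49851 : sm ge N6303 = N4605 := ded_35_1 (flp_f L36508) (flp_e L26728) (flp_f L26716) L36494 L49845
theorem L49853 : sm gi N4603 = N6304 := rfl
theorem L49855 : sm gc N6304 = N4737 := ded_29_1 (flp_i L37571) (flp_c L36496) L49853
theorem L49857 : sm ge N6304 = N4604 := ded_38_1 (flp_i L36500) L36494 L49853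
theorem L49859 : sm gh N4604 = N6305 := rfl
theorem L49861 : sm gc N6305 = N4738 := ded_28_1 (flp_h L37576) (flp_c L36502) L49859
theorem L49863 : sm gf N6305 = N4607 := ded_40_1 (flp_h L36521) (flp_f L36506) L49859
theorem L49865 : sm gi N6305 = N4981 := ded_44_2 (flp_h L39420) (flp_i L28855) (flp_h L26720) L36500 L49859
theorem L49867 : sm gg N4605 = N6306 := rfl
theorem L49869 : sm gc N6306 = N4739 := ded_27_1 (flp_g L37584) (flp_c L36510) L49867
theorem L49871 : sm gh N6306 = N4982 := ded_42_2 (flp_g L39426) (flp_h L36512) L49867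
theorem L49873 : sm gf N6306 = N6306 := ded_39_1 (flp_g L49867) (flp_f L36508) L26732 L36508 L49867
theorem L49874 : sm gi N4605 = N6307 := rfl
theorem L49876 : sm gc N6307 = N4740 := ded_29_1 (flp_i L37591) (flp_c L36510) L49874
theorem L49878 : sm gf N6307 = N4606 := ded_41_1 (flp_i L36514) L36508 L49874
theorem L49880 : sm gh N4606 = N6308 := rfl
theorem L49882 : sm gc N6308 = N4741 := ded_28_1 (flp_h L37597) (flp_c L36516) L49880
theorem L49884 : sm ge N6308 = N4607 := ded_37_1 (flp_h L36521) (flp_e L36518) L49880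
theorem L49886 : sm gg N6308 = N6308 := ded_42_1 (flp_h L49880) L36520 L49880
theorem L49887 : sm gi N6308 = N4984 := ded_44_2 (flp_h L39439) (flp_i L28868) (flp_h L26733) L36514 L49880
theorem L49897 : sm gi N4608 = N6310 := rfl
theorem L49902 : sm gf N6310 = N4610 := ded_41_1 (flp_i L36545) (flp_f L36533) L49897
theorem L49904 : sm gc N4609 = N6311 := rfl
theorem L49906 : sm ge N6311 = N4744 := ded_25_2 (flp_c L37623) (flp_e L36541) L49904
theorem L49908 : sm gg N6311 = N4611 := ded_27_2 (flp_c L36553) (flp_g L36539) L49904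
theorem L49912 : sm gi N4609 = N6312 := rfl
theorem L49916 : sm gd N6312 = N4610 := ded_34_1 (flp_i L36545) L36535 L49912
theorem L49922 : sm gb N4611 = N6313 := rfl
theorem L49924 : sm ge N6313 = N4746 := ded_19_2 (flp_b L37637) (flp_e L36555) L49922
theorem L49926 : sm gh N6313 = N4692 := ded_22_2 (flp_b L37235) (flp_h L36557) L49922
theorem L49928 : sm gc N6313 = N4617 := ded_17_2 (flp_b L36594) (flp_c L26799) (flp_b L26759) L36553 L49922
theorem L49930 : sm gi N4611 = N6314 := rfl
theorem L49932 : sm gc N6314 = N4612 := ded_29_1 (flp_i L36559) L36553 L49930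
theorem L49934 : sm ge N6314 = N4747 := ded_38_1 (flp_i L37644) (flp_e L36555) L49930
theorem L49936 : sm gh N4612 = N6315 := rfl
theorem L49938 : sm gb N6315 = N4619 := ded_22_1 (flp_h L36606) (flp_b L36561) L49936
theorem L49957 : sm gi N4613 = N6318 := rfl
theorem L49963 : sm gb N4615 = N6319 := rfl
theorem L49967 : sm gg N6319 = N4617 := ded_21_2 (flp_b L36594) (flp_g L36582) L49963
theorem L49987 : sm ga N4617 = N6322 := rfl
theorem L49989 : sm ge N6322 = N4755 := ded_12_2 (flp_a L37699) (flp_e L36596) L49987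
theorem L49991 : sm gh N6322 = N4701 := ded_15_2 (flp_a L37292) (flp_h L36598) L49987
theorem L49993 : sm gi N4617 = N6323 := rfl
theorem L49995 : sm gb N6323 = N4618 := ded_23_1 (flp_i L36600) L36594 L49993
theorem L49997 : sm ge N6323 = N4756 := ded_38_1 (flp_i L37705) (flp_e L36596) L49993
theorem L49999 : sm gh N4618 = N6324 := rfl
theorem L50001 : sm gc N6324 = N4619 := ded_28_1 (flp_h L36606) (flp_c L36602) L49999
theorem L50007 : sm gd N4620 = N6325 := rfl
theorem L50009 : sm ga N6325 = N6325 := ded_11_1 (flp_d L50007) L36614 L50007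
theorem L50010 : sm gb N6325 = N4625 := ded_18_1 (flp_d L36667) (flp_b L36615) L50007
theorem L50012 : sm gf N6325 = N5725 := ded_31_2 (flp_d L45181) (flp_f L36621) L50007
theorem L50014 : sm gi N6325 = N4662 := ded_34_2 (flp_d L37014) (flp_i L36619) L50007
theorem L50016 : sm ge N6325 = N4986 := ded_30_2 (flp_d L39455) (flp_e L28907) (flp_d L26818) L36612 L50007
theorem L50018 : sm gg N4620 = N6326 := rfl
theorem L50020 : sm ga N6326 = N6326 := ded_14_1 (flp_g L50018) L36614 L50018
theorem L50021 : sm gb N6326 = N4626 := ded_21_1 (flp_g L36677) (flp_b L36615) L50018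
theorem L50023 : sm gc N6326 = N6075 := ded_27_1 (flp_g L47948) (flp_c L36617) L50018
theorem L50025 : sm ge N6326 = N4621 := ded_36_1 (flp_g L36623) L36612 L50018
theorem L50027 : sm gi N6326 = N4663 := ded_43_2 (flp_g L37021) (flp_i L36619) L50018
theorem L50029 : sm gh N4620 = N6327 := rfl
theorem L50031 : sm ga N6327 = N6327 := ded_15_1 (flp_h L50029) L36614 L50029
theorem L50032 : sm gb N6327 = N4627 := ded_22_1 (flp_h L36687) (flp_b L36615) L50029
theorem L50034 : sm gc N6327 = N6076 := ded_28_1 (flp_h L47957) (flp_c L36617) L50029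
theorem L50036 : sm ge N6327 = N4622 := ded_37_1 (flp_h L36636) L36612 L50029
theorem L50038 : sm gf N6327 = N5727 := ded_40_1 (flp_h L45196) (flp_f L36621) L50029
theorem L50040 : sm gh N4621 = N6328 := rfl
theorem L50043 : sm gb N6328 = N4628 := ded_22_1 (flp_h L36697) (flp_b L36626) L50040
theorem L50047 : sm gf N6328 = N5324 := ded_40_1 (flp_h L42087) (flp_f L36634) L50040
theorem L50049 : sm gg N6328 = N4622 := ded_42_1 (flp_h L36636) L36623 L50040
theorem L50051 : sm gd N4622 = N6329 := rfl
theorem L50053 : sm ga N6329 = N6329 := ded_11_1 (flp_d L50051) L36638 L50051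
theorem L50054 : sm gb N6329 = N4629 := ded_18_1 (flp_d L36707) (flp_b L36639) L50051
theorem L50056 : sm gf N6329 = N4623 := ded_31_2 (flp_d L36645) (flp_f L36643) L50051
theorem L50058 : sm gh N6329 = N4990 := ded_33_2 (flp_d L39494) (flp_h L28926) (flp_d L26818) L36636 L50051
theorem L50060 : sm gi N4622 = N6330 := rfl
theorem L50065 : sm gc N6330 = N6079 := ded_29_1 (flp_i L47983) (flp_c L36641) L50060
theorem L50067 : sm gf N6330 = N4624 := ded_41_1 (flp_i L36654) (flp_f L36643) L50060
theorem L50071 : sm gc N4623 = N6331 := rfl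
theorem L50073 : sm ga N6331 = N6331 := ded_10_1 (flp_c L50071) L36647 L50071
theorem L50074 : sm gg N6331 = N5327 := ded_27_2 (flp_c L42116) (flp_g L36650) L50071
theorem L50076 : sm gh N6331 = N4991 := ded_28_2 (flp_c L39502) (flp_h L36652) L50071
theorem L50078 : sm gb N6331 = N6331 := ded_17_1 (flp_c L50071) L36648 L26869 (flp_b L36648) L50071
theorem L50079 : sm gd N6331 = N6080 := ded_24_2 (flp_c L47992) (flp_d L35181) (flp_c L26827) L36645 L50071
theorem L50081 : sm ge N4623 = N6332 := rfl
theorem L50088 : sm gh N6332 = N4992 := ded_37_2 (flp_e L39510) (flp_h L36652) L50081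
theorem L50090 : sm gd N6332 = N5731 := ded_30_1 (flp_e L45234) (flp_d L33192) (flp_e L26829) L36645 L50081
theorem L50092 : sm gi N4623 = N6333 := rfl
theorem L50094 : sm ga N6333 = N6333 := ded_16_1 (flp_i L50092) L36647 L50092
theorem L50095 : sm gb N6333 = N4632 := ded_23_1 (flp_i L36737) (flp_b L36648) L50092
theorem L50097 : sm gd N6333 = N4624 := ded_34_1 (flp_i L36654) L36645 L50092
theorem L50099 : sm gg N6333 = N5329 := ded_43_1 (flp_i L42133) (flp_g L36650) L50092
theorem L50101 : sm gh N6333 = N6333 := ded_44_1 (flp_i L50092) L36652 L28942 (flp_h L36652) L50092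
theorem L50102 : sm gg N4625 = N6334 := rfl
theorem L50104 : sm ga N6334 = N4638 := ded_14_1 (flp_g L36803) (flp_a L36669) L50102
theorem L50106 : sm gd N6334 = N4626 := ded_32_1 (flp_g L36677) L36667 L50102
theorem L50108 : sm ge N6334 = N4993 := ded_36_1 (flp_g L39519) (flp_e L36675) L50102
theorem L50110 : sm gi N6334 = N4667 := ded_43_2 (flp_g L37053) (flp_i L36673) L50102
theorem L50112 : sm gh N4625 = N6335 := rfl
theorem L50114 : sm ga N6335 = N4639 := ded_15_1 (flp_h L36812) (flp_a L36669) L50112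
theorem L50116 : sm ge N6335 = N4994 := ded_37_1 (flp_h L39527) (flp_e L36675) L50112
theorem L50118 : sm gf N6335 = N5734 := ded_40_1 (flp_h L45260) (flp_f L36671) L50112
theorem L50120 : sm gf N4626 = N6336 := rfl
theorem L50128 : sm ge N6336 = N5332 := ded_35_1 (flp_f L42161) L30906 (flp_f L26853) (flp_e L36683) L50120
theorem L50132 : sm gh N4626 = N6337 := rfl
theorem L50134 : sm ga N6337 = N4641 := ded_15_1 (flp_h L36830) (flp_a L36679) L50132
theorem L50140 : sm gg N6337 = N4627 := ded_42_1 (flp_h L36687) L36677 L50132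
theorem L50142 : sm gd N4627 = N6338 := rfl
theorem L50144 : sm ga N6338 = N4642 := ded_11_1 (flp_d L36839) (flp_a L36689) L50142
theorem L50146 : sm gf N6338 = N5737 := ded_31_2 (flp_d L45283) (flp_f L36695) L50142
theorem L50148 : sm gi N4627 = N6339 := rfl
theorem L50152 : sm gc N6339 = N4636 := ded_29_1 (flp_i L36778) (flp_c L36691) L50148
theorem L50160 : sm gd N4628 = N6340 := rfl
theorem L50162 : sm ga N6340 = N4644 := ded_11_1 (flp_d L36855) (flp_a L36699) L50160
theorem L50166 : sm gg N6340 = N4629 := ded_32_2 (flp_d L36707) (flp_g L36705) L50160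
theorem L50169 : sm gh N6340 = N4998 := ded_33_2 (flp_d L39560) (flp_h L28970) (flp_d L26849) L36697 L50160
theorem L50183 : sm ge N4629 = N6342 := rfl
theorem L50185 : sm ga N6342 = N4646 := ded_12_1 (flp_e L36876) (flp_a L36709) L50183
theorem L50187 : sm gc N6342 = N6342 := ded_25_1 (flp_e L50183) L36713 L50183
theorem L50188 : sm gh N6342 = N4999 := ded_37_2 (flp_e L39570) (flp_h L36714) L50183
theorem L50190 : sm gi N4629 = N6343 := rfl
theorem L50192 : sm ga N6343 = N4647 := ded_16_1 (flp_i L36882) (flp_a L36709) L50190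
theorem L50197 : sm gf N6343 = N4632 := ded_41_1 (flp_i L36737) (flp_f L36711) L50190
theorem L50209 : sm gi N4631 = N6345 := rfl
theorem L50216 : sm ge N6345 = N4632 := ded_38_1 (flp_i L36737) L36726 L50209
theorem L50221 : sm gh N4633 = N6346 := rfl
theorem L50227 : sm ge N6346 = N5342 := ded_37_1 (flp_h L42254) (flp_e L36755) L50221
theorem L50231 : sm gg N6346 = N5746 := ded_42_1 (flp_h L45359) (flp_g L36757) L50221
theorem L50233 : sm gd N4634 = N6347 := rfl
theorem L50235 : sm ga N6347 = N4651 := ded_11_1 (flp_d L36920) (flp_a L36761) L50233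
theorem L50237 : sm gb N6347 = N6094 := ded_18_1 (flp_d L48125) (flp_b L36763) L50233
theorem L50239 : sm gg N6347 = N4635 := ded_32_2 (flp_d L36769) (flp_g L36767) L50233
theorem L50254 : sm gc N4635 = N6349 := rfl
theorem L50259 : sm gf N6349 = N5749 := ded_26_2 (flp_c L45389) (flp_f L36775) L50254
theorem L50261 : sm gi N4635 = N6350 := rfl
theorem L50267 : sm gd N6350 = N4636 := ded_34_1 (flp_i L36778) L36769 L50261
theorem L50270 : sm gf N6350 = N5750 := ded_41_1 (flp_i L45395) (flp_f L36775) L50261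
theorem L50272 : sm gf N4638 = N6351 := rfl
theorem L50277 : sm gi N6351 = N4679 := ded_41_2 (flp_f L37147) (flp_i L36810) L50272
theorem L50279 : sm gg N6351 = N5751 := ded_39_2 (flp_f L45405) (flp_g L33323) (flp_f L26929) L36803 L50272
theorem L50281 : sm gh N4638 = N6352 := rfl
theorem L50283 : sm gb N6352 = N6352 := ded_22_1 (flp_h L50281) L36805 L50281
theorem L50284 : sm ge N6352 = N5005 := ded_37_1 (flp_h L39618) (flp_e L36808) L50281
theorem L50286 : sm gg N6352 = N4639 := ded_42_1 (flp_h L36812) L36803 L50281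
theorem L50288 : sm gd N4639 = N6353 := rfl
theorem L50290 : sm gb N6353 = N6353 := ded_18_1 (flp_d L50288) L36814 L50288
theorem L50291 : sm gf N6353 = N5753 := ded_31_2 (flp_d L45416) (flp_f L36817) L50288
theorem L50293 : sm gh N6353 = N4642 := ded_33_2 (flp_d L36839) (flp_h L26944) L26926 L36812 L50288
theorem L50295 : sm gi N4639 = N6354 := rfl
theorem L50297 : sm gb N6354 = N6354 := ded_23_1 (flp_i L50295) L36814 L50295
theorem L50298 : sm ge N6354 = N5007 := ded_38_1 (flp_i L39629) (flp_e L36815) L50295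
theorem L50300 : sm gf N6354 = N5754 := ded_41_1 (flp_i L45421) (flp_f L36817) L50295
theorem L50302 : sm gh N6354 = N4682 := ded_44_1 (flp_i L37165) (flp_h L27205) (flp_i L26931) L36812 L50295
theorem L50304 : sm gh N4640 = N6355 := rfl
theorem L50311 : sm gf N6355 = N4641 := ded_40_1 (flp_h L36830) L36819 L50304
theorem L50315 : sm gd N4641 = N6356 := rfl
theorem L50318 : sm gg N6356 = N4642 := ded_32_2 (flp_d L36839) (flp_g L36837) L50315
theorem L50320 : sm gi N4641 = N6357 := rfl
theorem L50337 : sm ge N4642 = N6359 := rfl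
theorem L50339 : sm gb N6359 = N6359 := ded_19_1 (flp_e L50337) L36841 L50337
theorem L50340 : sm gd N6359 = N4646 := ded_30_1 (flp_e L36876) (flp_d L26962) (flp_e L26949) L36839 L50337
theorem L50349 : sm ge N4644 = N6361 := rfl
theorem L50353 : sm gg N6361 = N4646 := ded_36_2 (flp_e L36876) (flp_g L36860) L50349
theorem L50355 : sm gh N6361 = N5012 := ded_37_2 (flp_e L39664) (flp_h L36863) L50349
theorem L50368 : sm gf N4646 = N6363 := rfl
theorem L50374 : sm ge N6363 = N4648 := ded_35_1 (flp_f L36891) (flp_e L26979) (flp_f L26965) L36876 L50368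
theorem L50376 : sm gi N4646 = N6364 := rfl
theorem L50393 : sm gi N4648 = N6366 := rfl
theorem L50397 : sm gd N6366 = N5767 := ded_34_1 (flp_i L45512) (flp_d L36895) L50393
theorem L50401 : sm gh N6366 = N6366 := ded_44_1 (flp_i L50393) L36897 L29081 (flp_h L36897) L50393
theorem L50422 : sm gc N4651 = N6369 := rfl
theorem L50436 : sm gb N4653 = N6371 := rfl
theorem L50443 : sm gi N4653 = N6372 := rfl
theorem L50448 : sm gf N6372 = N5774 := ded_41_1 (flp_i L45566) (flp_f L36940) L50443
theorem L50459 : sm gc N4655 = N6374 := rfl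
theorem L50461 : sm ga N6374 = N6119 := ded_10_1 (flp_c L48324) (flp_a L36953) L50459
theorem L50465 : sm gg N6374 = N5776 := ded_27_2 (flp_c L45578) (flp_g L36957) L50459
theorem L50468 : sm ge N4655 = N6375 := rfl
theorem L50472 : sm gg N6375 = N5777 := ded_36_2 (flp_e L45585) (flp_g L36957) L50468
theorem L50474 : sm gd N6375 = N5371 := ded_30_1 (flp_e L42501) (flp_d L31160) (flp_e L27049) L36951 L50468
theorem L50487 : sm gb N4657 = N6377 := rfl
theorem L50491 : sm gg N6377 = N4659 := ded_21_2 (flp_b L36989) (flp_g L36977) L50487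
theorem L50512 : sm ga N4659 = N6380 := rfl
theorem L50516 : sm gf N6380 = N5782 := ded_13_2 (flp_a L45627) (flp_f L36993) L50512
theorem L50537 : sm gc N4662 = N6383 := rfl
theorem L50539 : sm ga N6383 = N6383 := ded_10_1 (flp_c L50537) L37016 L50537
theorem L50540 : sm ge N6383 = N5022 := ded_25_2 (flp_c L39737) (flp_e L37019) L50537
theorem L50542 : sm gg N4662 = N6384 := rfl
theorem L50544 : sm ga N6384 = N6384 := ded_14_1 (flp_g L50542) L37016 L50542
theorem L50545 : sm gb N6384 = N4667 := ded_21_1 (flp_g L37053) (flp_b L37017) L50542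
theorem L50547 : sm gd N6384 = N4663 := ded_32_1 (flp_g L37021) L37014 L50542
theorem L50549 : sm ge N6384 = N5023 := ded_36_1 (flp_g L39742) (flp_e L37019) L50542
theorem L50551 : sm gh N4662 = N6385 := rfl
theorem L50553 : sm ga N6385 = N6385 := ded_15_1 (flp_h L50551) L37016 L50551
theorem L50554 : sm gb N6385 = N4668 := ded_22_1 (flp_h L37061) (flp_b L37017) L50551
theorem L50556 : sm ge N6385 = N5024 := ded_37_1 (flp_h L39749) (flp_e L37019) L50551
theorem L50558 : sm gf N4663 = N6386 := rfl
theorem L50561 : sm gb N6386 = N4669 := ded_20_1 (flp_f L37067) (flp_b L37024) L50558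
theorem L50565 : sm gh N4663 = N6387 := rfl
theorem L50568 : sm gb N6387 = N4670 := ded_22_1 (flp_h L37075) (flp_b L37024) L50565
theorem L50572 : sm gg N6387 = N4664 := ded_42_1 (flp_h L37028) L37021 L50565
theorem L50574 : sm gd N4664 = N6388 := rfl
theorem L50576 : sm ga N6388 = N6388 := ded_11_1 (flp_d L50574) L37030 L50574
theorem L50577 : sm gb N6388 = N4671 := ded_18_1 (flp_d L37085) (flp_b L37031) L50574
theorem L50579 : sm ge N6388 = N6388 := ded_30_2 (flp_d L50574) L37033 L27111 (flp_e L37033) L50574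
theorem L50597 : sm gf N4667 = N6391 := rfl
theorem L50601 : sm gd N6391 = N4669 := ded_31_1 (flp_f L37067) (flp_d L37057) L50597
theorem L50603 : sm gh N4667 = N6392 := rfl
theorem L50605 : sm ga N6392 = N4680 := ded_15_1 (flp_h L37152) (flp_a L37055) L50603
theorem L50607 : sm ge N6392 = N5027 := ded_37_1 (flp_h L39773) (flp_e L37059) L50603
theorem L50609 : sm gg N6392 = N4668 := ded_42_1 (flp_h L37061) L37053 L50603
theorem L50611 : sm gd N4668 = N6393 := rfl
theorem L50613 : sm ga N6393 = N4681 := ded_11_1 (flp_d L37159) (flp_a L37063) L50611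
theorem L50615 : sm ge N6393 = N6393 := ded_30_2 (flp_d L50611) L37065 L29152 (flp_e L37065) L50611
theorem L50616 : sm gh N6393 = N4671 := ded_33_2 (flp_d L37085) (flp_h L27134) L27120 L37061 L50611
theorem L50618 : sm gi N4668 = N6394 := rfl
theorem L50620 : sm ga N6394 = N4682 := ded_16_1 (flp_i L37165) (flp_a L37063) L50618
theorem L50622 : sm ge N6394 = N5028 := ded_38_1 (flp_i L39780) (flp_e L37065) L50618
theorem L50624 : sm gh N4669 = N6395 := rfl
theorem L50632 : sm gf N6395 = N4670 := ded_40_1 (flp_h L37075) L37067 L50624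
theorem L50634 : sm gd N4670 = N6396 := rfl
theorem L50638 : sm gg N6396 = N4671 := ded_32_2 (flp_d L37085) (flp_g L37083) L50634
theorem L50651 : sm gc N4671 = N6398 := rfl
theorem L50653 : sm ga N6398 = N4686 := ded_10_1 (flp_c L37194) (flp_a L37087) L50651
theorem L50655 : sm ge N6398 = N6398 := ded_25_2 (flp_c L50651) L37089 L50651
theorem L50656 : sm gd N6398 = N4677 := ded_24_2 (flp_c L37133) (flp_d L27176) (flp_c L27138) L37085 L50651
theorem L50658 : sm gi N4671 = N6399 := rfl
theorem L50660 : sm ga N6399 = N4687 := ded_16_1 (flp_i L37199) (flp_a L37087) L50658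
theorem L50665 : sm gd N4674 = N6400 := rfl
theorem L50669 : sm gf N6400 = N4675 := ded_31_2 (flp_d L37117) (flp_f L37115) L50665
theorem L50679 : sm gc N4675 = N6402 := rfl
theorem L50683 : sm ge N6402 = N4760 := ded_25_2 (flp_c L37736) (flp_e L37123) L50679
theorem L50685 : sm gg N6402 = N4677 := ded_27_2 (flp_c L37133) (flp_g L37121) L50679
theorem L50687 : sm gi N4675 = N6403 := rfl
theorem L50695 : sm gg N6403 = N4678 := ded_43_1 (flp_i L37139) (flp_g L37121) L50687
theorem L50697 : sm gb N4677 = N6404 := rfl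
theorem L50699 : sm ge N6404 = N4762 := ded_19_2 (flp_b L37751) (flp_e L37137) L50697
theorem L50701 : sm gi N4677 = N6405 := rfl
theorem L50703 : sm ga N6405 = N4693 := ded_16_1 (flp_i L37241) (flp_a L37135) L50701
theorem L50709 : sm gh N4678 = N6406 := rfl
theorem L50715 : sm ge N4679 = N6407 := rfl
theorem L50718 : sm gd N6407 = N5403 := ded_30_1 (flp_e L42751) L31358 (flp_e L27215) (flp_d L37150) L50715
theorem L50720 : sm gf N6407 = N5029 := ded_35_2 (flp_e L39786) (flp_f L29163) (flp_e L27203) L37147 L50715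
theorem L50722 : sm gh N4679 = N6408 := rfl
theorem L50725 : sm gf N6408 = N4680 := ded_40_1 (flp_h L37152) L37147 L50722
theorem L50727 : sm gd N4680 = N6409 := rfl
theorem L50730 : sm gg N6409 = N4681 := ded_32_2 (flp_d L37159) (flp_g L37157) L50727
theorem L50735 : sm gi N4680 = N6410 := rfl
theorem L50737 : sm gb N6410 = N6410 := ded_23_1 (flp_i L50735) L37154 L50735
theorem L50738 : sm ge N6410 = N5031 := ded_38_1 (flp_i L39799) (flp_e L37155) L50735
theorem L50740 : sm gg N6410 = N4682 := ded_43_1 (flp_i L37165) (flp_g L37157) L50735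
theorem L50742 : sm gc N4681 = N6411 := rfl
theorem L50744 : sm ge N6411 = N6411 := ded_25_2 (flp_c L50742) L37162 L50742
theorem L50745 : sm gh N6411 = N4686 := ded_28_2 (flp_c L37194) (flp_h L37163) L50742
theorem L50747 : sm gi N4681 = N6412 := rfl
theorem L50749 : sm gb N6412 = N6412 := ded_23_1 (flp_i L50747) L37161 L50747
theorem L50750 : sm gd N6412 = N4682 := ded_34_1 (flp_i L37165) L37159 L50747
theorem L50752 : sm ge N6412 = N6412 := ded_38_1 (flp_i L50747) L37162 L50747
theorem L50753 : sm gd N4683 = N6413 := rfl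
theorem L50756 : sm gf N6413 = N4684 := ded_31_2 (flp_d L37179) (flp_f L37177) L50753
theorem L50758 : sm gi N4683 = N6414 := rfl
theorem L50767 : sm gc N4684 = N6415 := rfl
theorem L50770 : sm gg N6415 = N4686 := ded_27_2 (flp_c L37194) (flp_g L37182) L50767
theorem L50772 : sm gd N6415 = N4690 := ded_24_2 (flp_c L37219) (flp_d L27255) (flp_c L27220) L37179 L50767
theorem L50782 : sm gb N4686 = N6417 := rfl
theorem L50784 : sm gd N6417 = N4692 := ded_18_2 (flp_b L37235) (flp_d L37197) L50782
theorem L50786 : sm ge N6417 = N6417 := ded_19_2 (flp_b L50782) L37196 L50782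
theorem L50787 : sm gc N6417 = N6417 := ded_17_2 (flp_b L50782) (flp_c L37194) L27228 L37194 L50782
theorem L50788 : sm gi N4686 = N6418 := rfl
theorem L50790 : sm gc N6418 = N4687 := ded_29_1 (flp_i L37199) L37194 L50788
theorem L50795 : sm gh N4687 = N6419 := rfl
theorem L50799 : sm gc N4688 = N6420 := rfl
theorem L50801 : sm gf N6420 = N4690 := ded_26_2 (flp_c L37219) (flp_f L37209) L50799
theorem L50819 : sm gb N4690 = N6423 := rfl
theorem L50823 : sm gg N6423 = N4692 := ded_21_2 (flp_b L37235) (flp_g L37223) L50819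
theorem L50825 : sm gc N6423 = N4698 := ded_17_2 (flp_b L37270) (flp_c L27294) (flp_b L27257) L37219 L50819
theorem L50843 : sm ga N4692 = N6426 := rfl
theorem L50845 : sm gc N6426 = N4701 := ded_10_2 (flp_a L37292) (flp_c L37239) L50843
theorem L50847 : sm ge N6426 = N4771 := ded_12_2 (flp_a L37812) (flp_e L37237) L50843
theorem L50849 : sm gi N4692 = N6427 := rfl
theorem L50851 : sm gb N6427 = N4693 := ded_23_1 (flp_i L37241) L37235 L50849
theorem L50857 : sm gh N4693 = N6428 := rfl
theorem L50868 : sm ge N4695 = N6430 := rfl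
theorem L50872 : sm gf N6430 = N4775 := ded_35_2 (flp_e L37838) L27719 (flp_e L27296) (flp_f L37255) L50868
theorem L50889 : sm gh N4697 = N6433 := rfl
theorem L50900 : sm gi N4698 = N6435 := rfl
theorem L50902 : sm gb N6435 = N4699 := ded_23_1 (flp_i L37277) L37270 L50900
theorem L50907 : sm gg N6435 = N4702 := ded_43_1 (flp_i L37297) (flp_g L37275) L50900
theorem L50924 : sm gh N4702 = N6438 := rfl
theorem L50942 : sm gh N4704 = N6441 := rfl
theorem L50945 : sm gb N6441 = N4713 := ded_22_1 (flp_h L37385) (flp_b L37313) L50942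
theorem L50949 : sm gg N6441 = N4705 := ded_42_1 (flp_h L37319) L37310 L50942
theorem L50951 : sm gd N4705 = N6442 := rfl
theorem L50953 : sm ga N6442 = N6442 := ded_11_1 (flp_d L50951) L37321 L50951
theorem L50954 : sm gb N6442 = N4714 := ded_18_1 (flp_d L37395) (flp_b L37322) L50951
theorem L50956 : sm gf N6442 = N6442 := ded_31_2 (flp_d L50951) L37326 L50951
theorem L50957 : sm gh N6442 = N6442 := ded_33_2 (flp_d L50951) (flp_h L37319) L27331 L37319 L50951
theorem L50958 : sm gi N4705 = N6443 := rfl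
theorem L50960 : sm ga N6443 = N6443 := ded_16_1 (flp_i L50958) L37321 L50958
theorem L50961 : sm gb N6443 = N4715 := ded_23_1 (flp_i L37401) (flp_b L37322) L50958
theorem L50963 : sm ge N6443 = N4708 := ded_38_1 (flp_i L37344) (flp_e L37324) L50958
theorem L50965 : sm gf N6443 = N6443 := ded_41_1 (flp_i L50958) L37326 L50958
theorem L50966 : sm gh N6443 = N6443 := ded_44_1 (flp_i L50958) (flp_h L37319) L27330 L37319 L50958
theorem L50967 : sm gd N4706 = N6444 := rfl
theorem L50969 : sm ga N6444 = N6444 := ded_11_1 (flp_d L50967) L37329 L50967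
theorem L50970 : sm gb N6444 = N4716 := ded_18_1 (flp_d L37411) (flp_b L37330) L50967
theorem L50972 : sm gf N6444 = N6444 := ded_31_2 (flp_d L50967) L37332 L50967
theorem L50973 : sm gg N6444 = N4707 := ded_32_2 (flp_d L37335) (flp_g L37333) L50967
theorem L50975 : sm gh N6444 = N5032 := ded_33_2 (flp_d L39805) (flp_h L29180) (flp_d L27338) L37327 L50967
theorem L50977 : sm gi N4706 = N6445 := rfl
theorem L50979 : sm ga N6445 = N6445 := ded_16_1 (flp_i L50977) L37329 L50977
theorem L50980 : sm gb N6445 = N4717 := ded_23_1 (flp_i L37420) (flp_b L37330) L50977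
theorem L50982 : sm gf N6445 = N6445 := ded_41_1 (flp_i L50977) L37332 L50977
theorem L50983 : sm gg N6445 = N4708 := ded_43_1 (flp_i L37344) (flp_g L37333) L50977
theorem L50985 : sm gh N6445 = N6445 := ded_44_1 (flp_i L50977) (flp_h L37327) L27340 L37327 L50977
theorem L50986 : sm gc N4707 = N6446 := rfl
theorem L50988 : sm ga N6446 = N6446 := ded_10_1 (flp_c L50986) L37337 L50986
theorem L50989 : sm gf N6446 = N4709 := ded_26_2 (flp_c L37352) (flp_f L37340) L50986
theorem L50991 : sm gh N6446 = N5034 := ded_28_2 (flp_c L39824) (flp_h L37342) L50986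
theorem L50993 : sm ge N4707 = N6447 := rfl
theorem L50995 : sm ga N6447 = N6447 := ded_12_1 (flp_e L50993) L37337 L50993
theorem L50996 : sm gb N6447 = N4718 := ded_19_1 (flp_e L37430) (flp_b L37338) L50993
theorem L50998 : sm gh N6447 = N5035 := ded_37_2 (flp_e L39830) (flp_h L37342) L50993
theorem L51000 : sm gi N4707 = N6448 := rfl
theorem L51002 : sm ga N6448 = N6448 := ded_16_1 (flp_i L51000) L37337 L51000
theorem L51003 : sm gb N6448 = N4719 := ded_23_1 (flp_i L37436) (flp_b L37338) L51000
theorem L51005 : sm gd N6448 = N4708 := ded_34_1 (flp_i L37344) L37335 L51000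
theorem L51007 : sm gf N6448 = N4711 := ded_41_1 (flp_i L37367) (flp_f L37340) L51000
theorem L51009 : sm ge N4709 = N6449 := rfl
theorem L51011 : sm ga N6449 = N6449 := ded_12_1 (flp_e L51009) L37354 L51009
theorem L51012 : sm gc N6449 = N4710 := ded_25_1 (flp_e L37358) L37352 L51009
theorem L51014 : sm gg N6449 = N6449 := ded_36_2 (flp_e L51009) L37355 L51009
theorem L51015 : sm gh N6449 = N5037 := ded_37_2 (flp_e L39845) (flp_h L37356) L51009
theorem L51017 : sm gi N4709 = N6450 := rfl
theorem L51019 : sm ga N6450 = N6450 := ded_16_1 (flp_i L51017) L37354 L51017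
theorem L51020 : sm gc N6450 = N4711 := ded_29_1 (flp_i L37367) L37352 L51017
theorem L51022 : sm gg N6450 = N6450 := ded_43_1 (flp_i L51017) L37355 L51017
theorem L51023 : sm gf N4710 = N6451 := rfl
theorem L51025 : sm ga N6451 = N6451 := ded_13_1 (flp_f L51023) L37360 L51023
theorem L51026 : sm gb N6451 = N4720 := ded_20_1 (flp_f L37444) (flp_b L37361) L51023
theorem L51028 : sm gd N6451 = N6451 := ded_31_1 (flp_f L51023) L37366 L51023
theorem L51029 : sm gh N6451 = N5039 := ded_40_2 (flp_f L39858) (flp_h L37364) L51023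
theorem L51031 : sm gi N4710 = N6452 := rfl
theorem L51033 : sm ga N6452 = N6452 := ded_16_1 (flp_i L51031) L37360 L51031
theorem L51034 : sm gb N6452 = N4721 := ded_23_1 (flp_i L37451) (flp_b L37361) L51031
theorem L51036 : sm gd N6452 = N6452 := ded_34_1 (flp_i L51031) L37366 L51031
theorem L51037 : sm ge N6452 = N4711 := ded_38_1 (flp_i L37367) L37358 L51031
theorem L51039 : sm gg N6452 = N6452 := ded_43_1 (flp_i L51031) L37363 L51031
theorem L51040 : sm gh N4711 = N6453 := rfl
theorem L51042 : sm ga N6453 = N6453 := ded_15_1 (flp_h L51040) L37369 L51040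
theorem L51043 : sm gb N6453 = N4722 := ded_22_1 (flp_h L37459) (flp_b L37370) L51040
theorem L51045 : sm gg N6453 = N6453 := ded_42_1 (flp_h L51040) L37374 L51040
theorem L51046 : sm gd N6453 = N6453 := ded_33_1 (flp_h L51040) L37372 L27364 (flp_d L37372) L51040
theorem L51047 : sm gi N6453 = N5041 := ded_44_2 (flp_h L39875) (flp_i L29220) (flp_h L27355) L37367 L51040
theorem L51049 : sm gh N4712 = N6454 := rfl
theorem L51056 : sm gf N6454 = N4713 := ded_40_1 (flp_h L37385) L37375 L51049
theorem L51059 : sm gd N4713 = N6455 := rfl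
theorem L51061 : sm ga N6455 = N4729 := ded_11_1 (flp_d L37515) (flp_a L37387) L51059
theorem L51063 : sm gg N6455 = N4714 := ded_32_2 (flp_d L37395) (flp_g L37393) L51059
theorem L51066 : sm gi N4713 = N6456 := rfl
theorem L51072 : sm ge N6456 = N4717 := ded_38_1 (flp_i L37420) (flp_e L37391) L51066
theorem L51077 : sm gc N4714 = N6457 := rfl
theorem L51079 : sm ga N6457 = N4731 := ded_10_1 (flp_c L37531) (flp_a L37397) L51077
theorem L51081 : sm gf N6457 = N6457 := ded_26_2 (flp_c L51077) L37399 L51077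
theorem L51082 : sm gh N6457 = N6457 := ded_28_2 (flp_c L51077) L37400 L51077
theorem L51083 : sm gd N6457 = N4726 := ded_24_2 (flp_c L37492) (flp_d L27442) (flp_c L27379) L37395 L51077
theorem L51085 : sm ge N4714 = N6458 := rfl
theorem L51087 : sm ga N6458 = N4732 := ded_12_1 (flp_e L37537) (flp_a L37397) L51085
theorem L51089 : sm gh N6458 = N6458 := ded_37_2 (flp_e L51085) L37400 L51085
theorem L51090 : sm gd N6458 = N4718 := ded_30_1 (flp_e L37430) (flp_d L27393) (flp_e L27381) L37395 L51085
theorem L51092 : sm gi N4714 = N6459 := rfl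
theorem L51094 : sm ga N6459 = N4733 := ded_16_1 (flp_i L37543) (flp_a L37397) L51092
theorem L51096 : sm gd N6459 = N4715 := ded_34_1 (flp_i L37401) L37395 L51092
theorem L51098 : sm gf N6459 = N6459 := ded_41_1 (flp_i L51092) L37399 L51092
theorem L51099 : sm ge N4716 = N6460 := rfl
theorem L51101 : sm ga N6460 = N4734 := ded_12_1 (flp_e L37549) (flp_a L37413) L51099
theorem L51103 : sm gg N6460 = N4718 := ded_36_2 (flp_e L37430) (flp_g L37416) L51099
theorem L51105 : sm gh N6460 = N5042 := ded_37_2 (flp_e L39882) (flp_h L37418) L51099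
theorem L51107 : sm gi N4716 = N6461 := rfl
theorem L51109 : sm ga N6461 = N4735 := ded_16_1 (flp_i L37556) (flp_a L37413) L51107
theorem L51111 : sm gd N6461 = N4717 := ded_34_1 (flp_i L37420) L37411 L51107
theorem L51113 : sm gf N6461 = N6461 := ded_41_1 (flp_i L51107) L37415 L51107
theorem L51114 : sm gg N6461 = N4719 := ded_43_1 (flp_i L37436) (flp_g L37416) L51107
theorem L51116 : sm gf N4718 = N6462 := rfl
theorem L51118 : sm ga N6462 = N4736 := ded_13_1 (flp_f L37564) (flp_a L37432) L51116
theorem L51120 : sm gh N6462 = N5044 := ded_40_2 (flp_f L39898) (flp_h L37434) L51116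
theorem L51122 : sm ge N6462 = N4720 := ded_35_1 (flp_f L37444) (flp_e L27410) (flp_f L27397) L37430 L51116
theorem L51124 : sm gi N4718 = N6463 := rfl
theorem L51126 : sm ga N6463 = N4737 := ded_16_1 (flp_i L37571) (flp_a L37432) L51124
theorem L51128 : sm ge N6463 = N4719 := ded_38_1 (flp_i L37436) L37430 L51124
theorem L51130 : sm gh N4719 = N6464 := rfl
theorem L51132 : sm ga N6464 = N4738 := ded_15_1 (flp_h L37576) (flp_a L37438) L51130
theorem L51134 : sm gf N6464 = N4722 := ded_40_1 (flp_h L37459) (flp_f L37442) L51130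
theorem L51136 : sm gd N6464 = N6464 := ded_33_1 (flp_h L51130) L37440 L27409 (flp_d L37440) L51130
theorem L51137 : sm gi N6464 = N5046 := ded_44_2 (flp_h L39912) (flp_i L29251) (flp_h L27399) L37436 L51130
theorem L51139 : sm gg N4720 = N6465 := rfl
theorem L51141 : sm ga N6465 = N4739 := ded_14_1 (flp_g L37584) (flp_a L37446) L51139
theorem L51143 : sm gd N6465 = N6465 := ded_32_1 (flp_g L51139) L37448 L51139
theorem L51144 : sm gh N6465 = N5047 := ded_42_2 (flp_g L39919) (flp_h L37449) L51139
theorem L51146 : sm gf N6465 = N6465 := ded_39_1 (flp_g L51139) (flp_f L37444) L27414 L37444 L51139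
theorem L51147 : sm gi N4720 = N6466 := rfl
theorem L51149 : sm ga N6466 = N4740 := ded_16_1 (flp_i L37591) (flp_a L37446) L51147
theorem L51151 : sm gd N6466 = N6466 := ded_34_1 (flp_i L51147) L37448 L51147
theorem L51152 : sm gf N6466 = N4721 := ded_41_1 (flp_i L37451) L37444 L51147
theorem L51154 : sm gh N4721 = N6467 := rfl
theorem L51156 : sm ga N6467 = N4741 := ded_15_1 (flp_h L37597) (flp_a L37453) L51154
theorem L51158 : sm ge N6467 = N4722 := ded_37_1 (flp_h L37459) (flp_e L37456) L51154
theorem L51160 : sm gg N6467 = N6467 := ded_42_1 (flp_h L51154) L37458 L51154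
theorem L51161 : sm gi N6467 = N5049 := ded_44_2 (flp_h L39934) (flp_i L29265) (flp_h L27415) L37451 L51154
theorem L51181 : sm gc N4724 = N6470 := rfl
theorem L51183 : sm ga N6470 = N4744 := ded_10_1 (flp_c L37623) (flp_a L37477) L51181
theorem L51185 : sm gg N6470 = N4726 := ded_27_2 (flp_c L37492) (flp_g L37479) L51181
theorem L51187 : sm gh N6470 = N4760 := ded_28_2 (flp_c L37736) (flp_h L37481) L51181
theorem L51197 : sm gb N4726 = N6472 := rfl
theorem L51199 : sm gf N6472 = N6472 := ded_20_2 (flp_b L51197) L37496 L51197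
theorem L51200 : sm gh N6472 = N4762 := ded_22_2 (flp_b L37751) (flp_h L37497) L51197
theorem L51202 : sm gi N4726 = N6473 := rfl
theorem L51204 : sm ga N6473 = N4747 := ded_16_1 (flp_i L37644) (flp_a L37494) L51202
theorem L51206 : sm gc N6473 = N4727 := ded_29_1 (flp_i L37499) L37492 L51202
theorem L51208 : sm gf N6473 = N6473 := ded_41_1 (flp_i L51202) L37496 L51202
theorem L51209 : sm gh N4727 = N6474 := rfl
theorem L51234 : sm gc N4729 = N6477 := rfl
theorem L51236 : sm gg N6477 = N4731 := ded_27_2 (flp_c L37531) (flp_g L37518) L51234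
theorem L51239 : sm gd N6477 = N4744 := ded_24_2 (flp_c L37623) (flp_d L27554) (flp_c L27477) L37515 L51234
theorem L51241 : sm ge N4729 = N6478 := rfl
theorem L51244 : sm gg N6478 = N4732 := ded_36_2 (flp_e L37537) (flp_g L37518) L51241
theorem L51247 : sm gd N6478 = N4734 := ded_30_1 (flp_e L37549) (flp_d L27497) (flp_e L27479) L37515 L51241
theorem L51249 : sm gi N4729 = N6479 := rfl
theorem L51254 : sm gg N6479 = N4733 := ded_43_1 (flp_i L37543) (flp_g L37518) L51249
theorem L51256 : sm gb N4731 = N6480 := rfl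
theorem L51258 : sm gd N6480 = N4746 := ded_18_2 (flp_b L37637) (flp_d L37535) L51256
theorem L51260 : sm gf N6480 = N6480 := ded_20_2 (flp_b L51256) L37533 L51256
theorem L51261 : sm gh N6480 = N6480 := ded_22_2 (flp_b L51256) L37534 L51256
theorem L51262 : sm gc N6480 = N6480 := ded_17_2 (flp_b L51256) (flp_c L37531) L27485 L37531 L51256
theorem L51263 : sm ge N4731 = N6481 := rfl
theorem L51265 : sm gc N6481 = N4732 := ded_25_1 (flp_e L37537) L37531 L51263
theorem L51267 : sm gh N6481 = N6481 := ded_37_2 (flp_e L51263) L37534 L51263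
theorem L51268 : sm gi N4731 = N6482 := rfl
theorem L51270 : sm gc N6482 = N4733 := ded_29_1 (flp_i L37543) L37531 L51268
theorem L51272 : sm gd N6482 = N4747 := ded_34_1 (flp_i L37644) (flp_d L37535) L51268
theorem L51274 : sm gf N6482 = N6482 := ded_41_1 (flp_i L51268) L37533 L51268
theorem L51275 : sm gf N4732 = N6483 := rfl
theorem L51277 : sm gb N6483 = N6483 := ded_20_1 (flp_f L51275) L37539 L51275
theorem L51278 : sm gd N6483 = N4736 := ded_31_1 (flp_f L37564) (flp_d L37541) L51275
theorem L51280 : sm gh N6483 = N6483 := ded_40_2 (flp_f L51275) L37540 L51275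
theorem L51281 : sm ge N6483 = N6483 := ded_35_1 (flp_f L51275) (flp_e L37537) L27486 L37537 L51275
theorem L51282 : sm gi N4732 = N6484 := rfl
theorem L51284 : sm gb N6484 = N6484 := ded_23_1 (flp_i L51282) L37539 L51282
theorem L51285 : sm gd N6484 = N4737 := ded_34_1 (flp_i L37571) (flp_d L37541) L51282
theorem L51287 : sm ge N6484 = N4733 := ded_38_1 (flp_i L37543) L37537 L51282
theorem L51289 : sm gh N4733 = N6485 := rfl
theorem L51291 : sm gb N6485 = N6485 := ded_22_1 (flp_h L51289) L37545 L51289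
theorem L51292 : sm gf N6485 = N6485 := ded_40_1 (flp_h L51289) L37548 L51289
theorem L51293 : sm gd N6485 = N6485 := ded_33_1 (flp_h L51289) L37546 L27496 (flp_d L37546) L51289
theorem L51294 : sm gi N6485 = N6485 := ded_44_2 (flp_h L51289) (flp_i L37543) L27487 L37543 L51289
theorem L51295 : sm gf N4734 = N6486 := rfl
theorem L51297 : sm gb N6486 = N6486 := ded_20_1 (flp_f L51295) L37551 L51295
theorem L51298 : sm gh N6486 = N5050 := ded_40_2 (flp_f L39941) (flp_h L37554) L51295
theorem L51300 : sm ge N6486 = N6486 := ded_35_1 (flp_f L51295) (flp_e L37549) L27500 L37549 L51295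
theorem L51301 : sm gi N4734 = N6487 := rfl
theorem L51303 : sm gb N6487 = N6487 := ded_23_1 (flp_i L51301) L37551 L51301
theorem L51304 : sm ge N6487 = N4735 := ded_38_1 (flp_i L37556) L37549 L51301
theorem L51306 : sm gg N6487 = N4737 := ded_43_1 (flp_i L37571) (flp_g L37552) L51301
theorem L51308 : sm gh N4735 = N6488 := rfl
theorem L51310 : sm gb N6488 = N6488 := ded_22_1 (flp_h L51308) L37558 L51308
theorem L51311 : sm gf N6488 = N6488 := ded_40_1 (flp_h L51308) L37561 L51308
theorem L51312 : sm gg N6488 = N4738 := ded_42_1 (flp_h L37576) (flp_g L37562) L51308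
theorem L51314 : sm gd N6488 = N6488 := ded_33_1 (flp_h L51308) L37559 L27513 (flp_d L37559) L51308
theorem L51315 : sm gi N6488 = N5052 := ded_44_2 (flp_h L39954) (flp_i L29286) (flp_h L27503) L37556 L51308
theorem L51317 : sm gg N4736 = N6489 := rfl
theorem L51319 : sm gb N6489 = N6489 := ded_21_1 (flp_g L51317) L37566 L51317
theorem L51320 : sm ge N6489 = N4739 := ded_36_1 (flp_g L37584) (flp_e L37569) L51317
theorem L51322 : sm gh N6489 = N5053 := ded_42_2 (flp_g L39961) (flp_h L37567) L51317
theorem L51324 : sm gi N4736 = N6490 := rfl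
theorem L51326 : sm gb N6490 = N6490 := ded_23_1 (flp_i L51324) L37566 L51324
theorem L51327 : sm ge N6490 = N4740 := ded_38_1 (flp_i L37591) (flp_e L37569) L51324
theorem L51329 : sm gf N6490 = N4737 := ded_41_1 (flp_i L37571) L37564 L51324
theorem L51331 : sm gh N4737 = N6491 := rfl
theorem L51333 : sm gb N6491 = N6491 := ded_22_1 (flp_h L51331) L37573 L51331
theorem L51334 : sm ge N6491 = N4738 := ded_37_1 (flp_h L37576) (flp_e L37574) L51331
theorem L51336 : sm gi N6491 = N5055 := ded_44_2 (flp_h L39975) (flp_i L29300) (flp_h L27517) L37571 L51331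
theorem L51338 : sm gi N4739 = N6492 := rfl
theorem L51340 : sm gb N6492 = N6492 := ded_23_1 (flp_i L51338) L37586 L51338
theorem L51341 : sm gd N6492 = N6492 := ded_34_1 (flp_i L51338) L37587 L51338
theorem L51342 : sm gf N6492 = N6492 := ded_41_1 (flp_i L51338) L37590 L51338
theorem L51343 : sm gg N6492 = N4740 := ded_43_1 (flp_i L37591) L37584 L51338
theorem L51345 : sm gh N4740 = N6493 := rfl
theorem L51347 : sm gb N6493 = N6493 := ded_22_1 (flp_h L51345) L37593 L51345
theorem L51348 : sm gf N6493 = N4741 := ded_40_1 (flp_h L37597) (flp_f L37595) L51345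
theorem L51350 : sm gi N6493 = N5057 := ded_44_2 (flp_h L39988) (flp_i L29318) (flp_h L27530) L37591 L51345
theorem L51352 : sm gd N4741 = N6494 := rfl
theorem L51354 : sm gb N6494 = N6494 := ded_18_1 (flp_d L51352) L37599 L51352
theorem L51355 : sm gg N6494 = N6494 := ded_32_2 (flp_d L51352) L37602 L51352
theorem L51356 : sm gi N6494 = N5058 := ded_34_2 (flp_d L39993) (flp_i L37603) L51352
theorem L51358 : sm ge N6494 = N6494 := ded_30_2 (flp_d L51352) L37600 L27543 (flp_e L37600) L51352
theorem L51359 : sm gh N6494 = N6494 := ded_33_2 (flp_d L51352) (flp_h L37597) L27535 L37597 L51352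
theorem L51360 : sm gc N4742 = N6495 := rfl
theorem L51362 : sm gf N6495 = N4744 := ded_26_2 (flp_c L37623) (flp_f L37609) L51360
theorem L51365 : sm gh N6495 = N4765 := ded_28_2 (flp_c L37769) (flp_h L37612) L51360
theorem L51384 : sm gb N4744 = N6498 := rfl
theorem L51386 : sm gg N6498 = N4746 := ded_21_2 (flp_b L37637) (flp_g L37625) L51384
theorem L51392 : sm gi N4744 = N6499 := rfl
theorem L51396 : sm gg N6499 = N4747 := ded_43_1 (flp_i L37644) (flp_g L37625) L51392
theorem L51407 : sm ga N4746 = N6501 := rfl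
theorem L51409 : sm gc N6501 = N4755 := ded_10_2 (flp_a L37699) (flp_c L37642) L51407
theorem L51411 : sm gf N6501 = N6501 := ded_13_2 (flp_a L51407) L37639 L51407
theorem L51412 : sm gh N6501 = N4771 := ded_15_2 (flp_a L37812) (flp_h L37640) L51407
theorem L51414 : sm gi N4746 = N6502 := rfl
theorem L51416 : sm gb N6502 = N4747 := ded_23_1 (flp_i L37644) L37637 L51414
theorem L51418 : sm gc N6502 = N4756 := ded_29_1 (flp_i L37705) (flp_c L37642) L51414
theorem L51420 : sm gf N6502 = N6502 := ded_41_1 (flp_i L51414) L37639 L51414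
theorem L51428 : sm gb N4749 = N6504 := rfl
theorem L51434 : sm gh N6504 = N4774 := ded_22_2 (flp_b L37831) (flp_h L37662) L51428
theorem L51443 : sm gi N4749 = N6506 := rfl
theorem L51451 : sm gi N4750 = N6507 := rfl
theorem L51465 : sm ga N4752 = N6509 := rfl
theorem L51468 : sm gg N6509 = N4755 := ded_14_2 (flp_a L37699) (flp_g L37681) L51465
theorem L51470 : sm gh N6509 = N4779 := ded_15_2 (flp_a L37865) (flp_h L37683) L51465
theorem L51487 : sm gi N4755 = N6512 := rfl
theorem L51489 : sm ga N6512 = N4756 := ded_16_1 (flp_i L37705) L37699 L51487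
theorem L51491 : sm gd N6512 = N6512 := ded_34_1 (flp_i L51487) L37701 L51487
theorem L51492 : sm gf N6512 = N6512 := ded_41_1 (flp_i L51487) L37702 L51487
theorem L51493 : sm gh N4756 = N6513 := rfl
theorem L51500 : sm gd N4757 = N6514 := rfl
theorem L51503 : sm gi N6514 = N4784 := ded_34_2 (flp_d L37897) (flp_i L37716) L51500
theorem L51515 : sm ge N4758 = N6516 := rfl
theorem L51517 : sm ga N6516 = N4766 := ded_12_1 (flp_e L37775) (flp_a L37720) L51515
theorem L51531 : sm gb N4760 = N6518 := rfl
theorem L51534 : sm gg N6518 = N4762 := ded_21_2 (flp_b L37751) (flp_g L37740) L51531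
theorem L51552 : sm ga N4762 = N6521 := rfl
theorem L51554 : sm gd N6521 = N6521 := ded_11_2 (flp_a L51552) L37753 L51552
theorem L51555 : sm gf N6521 = N6521 := ded_13_2 (flp_a L51552) L37754 L51552
theorem L51556 : sm gb N6521 = N4771 := ded_9_2 (flp_a L37812) (flp_b L27699) (flp_a L27657) L37751 L51552
theorem L51558 : sm gi N4762 = N6522 := rfl
theorem L51560 : sm gb N6522 = N4763 := ded_23_1 (flp_i L37755) L37751 L51558
theorem L51564 : sm gh N4763 = N6523 := rfl
theorem L51566 : sm ga N6523 = N4773 := ded_15_1 (flp_h L37826) (flp_a L37757) L51564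
theorem L51579 : sm ge N4765 = N6525 := rfl
theorem L51581 : sm gc N6525 = N4766 := ded_25_1 (flp_e L37775) L37769 L51579
theorem L51592 : sm gi N4766 = N6527 := rfl
theorem L51609 : sm ga N4768 = N6529 := rfl
theorem L51611 : sm gc N6529 = N4779 := ded_10_2 (flp_a L37865) (flp_c L37796) L51609
theorem L51614 : sm gg N6529 = N4771 := ded_14_2 (flp_a L37812) (flp_g L37794) L51609
theorem L51625 : sm gh N4769 = N6531 := rfl
theorem L51631 : sm gi N4771 = N6532 := rfl
theorem L51639 : sm gh N4772 = N6533 := rfl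
theorem L51641 : sm gb N6533 = N4773 := ded_22_1 (flp_h L37826) (flp_b L37820) L51639
theorem L51646 : sm gd N4773 = N6534 := rfl
theorem L51658 : sm ge N4774 = N6536 := rfl
theorem L51660 : sm gb N6536 = N4775 := ded_19_1 (flp_e L37838) L37831 L51658
theorem L51663 : sm gi N4774 = N6537 := rfl
theorem L51672 : sm gd N4775 = N6538 := rfl
theorem L51675 : sm gc N6538 = N5459 := ded_24_1 (flp_d L43154) L31653 (flp_d L27727) (flp_c L37840) L51672
theorem L51677 : sm ge N6538 = N4788 := ded_30_2 (flp_d L37926) (flp_e L27779) (flp_d L27722) L37838 L51672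
theorem L51679 : sm gi N4775 = N6539 := rfl
theorem L51686 : sm gh N4776 = N6540 := rfl
theorem L51693 : sm gh N4777 = N6541 := rfl
theorem L51698 : sm gi N4779 = N6542 := rfl
theorem L51719 : sm gh N4782 = N6545 := rfl
theorem L51758 : sm gi N4786 = N6551 := rfl
theorem L51760 : sm gb N6551 = N4789 := ded_23_1 (flp_i L37932) (flp_b L37912) L51758
theorem L51763 : sm ge N6551 = N4787 := ded_38_1 (flp_i L37918) L37910 L51758
theorem L51767 : sm gh N4787 = N6552 := rfl
theorem L51772 : sm gf N6552 = N4793 := ded_40_1 (flp_h L37964) (flp_f L37923) L51767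
theorem L51783 : sm gi N4788 = N6554 := rfl
theorem L51787 : sm gd N6554 = N4789 := ded_34_1 (flp_i L37932) L37926 L51783
theorem L51791 : sm gh N4789 = N6555 := rfl
theorem L51800 : sm gd N4790 = N6556 := rfl
theorem L51802 : sm gf N6556 = N4794 := ded_31_2 (flp_d L37973) (flp_f L37944) L51800
theorem L51863 : sm gb N4798 = N6565 := rfl
theorem L51865 : sm gd N6565 = N6565 := ded_18_2 (flp_b L51863) L38006 L51863
theorem L51866 : sm ge N6565 = N4812 := ded_19_2 (flp_b L38113) (flp_e L38002) L51863
theorem L51868 : sm gg N6565 = N6565 := ded_21_2 (flp_b L51863) L38004 L51863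
theorem L51869 : sm gi N6565 = N6565 := ded_23_2 (flp_b L51863) L38005 L51863
theorem L51870 : sm ga N6565 = N6565 := ded_9_1 (flp_b L51863) L38000 L27877 (flp_a L38000) L51863
theorem L51871 : sm gc N6565 = N6565 := ded_17_2 (flp_b L51863) (flp_c L37998) L27857 L37998 L51863
theorem L51872 : sm gf N4798 = N6566 := rfl
theorem L51874 : sm ga N6566 = N4802 := ded_13_1 (flp_f L38034) (flp_a L38000) L51872
theorem L51876 : sm gc N6566 = N4799 := ded_26_1 (flp_f L38007) L37998 L51872
theorem L51880 : sm gh N4798 = N6567 := rfl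
theorem L51882 : sm ga N6567 = N4803 := ded_15_1 (flp_h L38041) (flp_a L38000) L51880
theorem L51889 : sm ge N4799 = N6568 := rfl
theorem L51891 : sm ga N6568 = N4804 := ded_12_1 (flp_e L38049) (flp_a L38009) L51889
theorem L51898 : sm gg N4799 = N6569 := rfl
theorem L51907 : sm gh N4799 = N6570 := rfl
theorem L51912 : sm gf N6570 = N4800 := ded_40_1 (flp_h L38015) L38007 L51907
theorem L51915 : sm gi N4800 = N6571 := rfl
theorem L51921 : sm ge N6571 = N4818 := ded_38_1 (flp_i L38158) (flp_e L38020) L51915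
theorem L51933 : sm gg N4802 = N6573 := rfl
theorem L51941 : sm gh N4802 = N6574 := rfl
theorem L51946 : sm gf N6574 = N4803 := ded_40_1 (flp_h L38041) L38034 L51941
theorem L51948 : sm gd N4803 = N6575 := rfl
theorem L51954 : sm gi N4803 = N6576 := rfl
theorem L51959 : sm ge N6576 = N4823 := ded_38_1 (flp_i L38193) (flp_e L38046) L51954
theorem L51971 : sm gh N4804 = N6578 := rfl
theorem L51977 : sm gf N6578 = N4825 := ded_40_1 (flp_h L38208) (flp_f L38055) L51971
theorem L51995 : sm gf N4808 = N6581 := rfl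
theorem L52002 : sm gg N6581 = N4828 := ded_39_2 (flp_f L38232) (flp_g L28009) (flp_f L27909) L38081 L51995
theorem L52004 : sm gh N4808 = N6582 := rfl
theorem L52008 : sm ge N6582 = N4810 := ded_37_1 (flp_h L38097) (flp_e L38086) L52004
theorem L52012 : sm gd N4809 = N6583 := rfl
theorem L52015 : sm gf N6583 = N4830 := ded_31_2 (flp_d L38247) (flp_f L38095) L52012
theorem L52028 : sm gi N4810 = N6585 := rfl
theorem L52034 : sm gg N6585 = N4811 := ded_43_1 (flp_i L38105) (flp_g L38102) L52028
theorem L52037 : sm gf N4812 = N6586 := rfl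
theorem L52039 : sm ga N6586 = N6586 := ded_13_1 (flp_f L52037) L38117 L52037
theorem L52040 : sm gb N6586 = N4813 := ded_20_1 (flp_f L38119) L38113 L52037
theorem L52042 : sm gc N6586 = N6586 := ded_26_1 (flp_f L52037) L38118 L52037
theorem L52043 : sm gi N6586 = N6586 := ded_41_2 (flp_f L52037) L38116 L52037
theorem L52044 : sm gh N4812 = N6587 := rfl
theorem L52046 : sm ga N6587 = N6587 := ded_15_1 (flp_h L52044) L38117 L52044
theorem L52047 : sm gb N6587 = N4814 := ded_22_1 (flp_h L38126) L38113 L52044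
theorem L52049 : sm gc N6587 = N6587 := ded_28_1 (flp_h L52044) L38118 L52044
theorem L52050 : sm gg N6587 = N6587 := ded_42_1 (flp_h L52044) L38115 L52044
theorem L52051 : sm ge N4813 = N6588 := rfl
theorem L52053 : sm ga N6588 = N4819 := ded_12_1 (flp_e L38167) (flp_a L38121) L52051
theorem L52058 : sm gg N4813 = N6589 := rfl
theorem L52060 : sm ga N6589 = N4820 := ded_14_1 (flp_g L38173) (flp_a L38121) L52058
theorem L52066 : sm gh N4813 = N6590 := rfl
theorem L52068 : sm ga N6590 = N4821 := ded_15_1 (flp_h L38180) (flp_a L38121) L52066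
theorem L52070 : sm gc N6590 = N4817 := ded_28_1 (flp_h L38149) (flp_c L38123) L52066
theorem L52072 : sm gf N6590 = N4814 := ded_40_1 (flp_h L38126) L38119 L52066
theorem L52074 : sm gd N4814 = N6591 := rfl
theorem L52076 : sm ga N6591 = N4822 := ded_11_1 (flp_d L38187) (flp_a L38128) L52074
theorem L52078 : sm gg N6591 = N6591 := ded_32_2 (flp_d L52074) L38132 L52074
theorem L52079 : sm gc N6591 = N4838 := ded_24_1 (flp_d L38314) L28062 (flp_d L27955) (flp_c L38130) L52074
theorem L52089 : sm gg N4815 = N6593 := rfl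
theorem L52095 : sm ge N6593 = N4816 := ded_36_1 (flp_g L38140) L38133 L52089
theorem L52098 : sm gh N4815 = N6594 := rfl
theorem L52100 : sm ga N6594 = N4825 := ded_15_1 (flp_h L38208) (flp_a L38135) L52098
theorem L52105 : sm gh N4816 = N6595 := rfl
theorem L52125 : sm gd N4819 = N6597 := rfl
theorem L52145 : sm gh N4820 = N6600 := rfl
theorem L52151 : sm gg N6600 = N4821 := ded_42_1 (flp_h L38180) L38173 L52145
theorem L52153 : sm gd N4821 = N6601 := rfl
theorem L52158 : sm gc N6601 = N4848 := ded_24_1 (flp_d L38400) L28123 (flp_d L27999) (flp_c L38183) L52153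
theorem L52168 : sm ge N4822 = N6603 := rfl
theorem L52170 : sm gb N6603 = N6603 := ded_19_1 (flp_e L52168) L38189 L52168
theorem L52171 : sm gc N6603 = N4850 := ded_25_1 (flp_e L38416) (flp_c L38191) L52168
theorem L52173 : sm gg N6603 = N6603 := ded_36_2 (flp_e L52168) L38190 L52168
theorem L52204 : sm gi N4825 = N6608 := rfl
theorem L52221 : sm gh N4828 = N6610 := rfl
theorem L52226 : sm gf N6610 = N4829 := ded_40_1 (flp_h L38239) L38232 L52221
theorem L52228 : sm gd N4829 = N6611 := rfl
theorem L52231 : sm gg N6611 = N4830 := ded_32_2 (flp_d L38247) (flp_g L38245) L52228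
theorem L52245 : sm gc N4830 = N6613 := rfl
theorem L52248 : sm ge N6613 = N4860 := ded_25_2 (flp_c L38496) (flp_e L38250) L52245
theorem L52252 : sm gi N4830 = N6614 := rfl
theorem L52259 : sm ge N4833 = N6615 := rfl
theorem L52261 : sm ga N6615 = N4902 := ded_12_1 (flp_e L38822) (flp_a L38272) L52259
theorem L52263 : sm gb N6615 = N4835 := ded_19_1 (flp_e L38288) (flp_b L38274) L52259
theorem L52265 : sm gc N6615 = N6615 := ded_25_1 (flp_e L52259) L38276 L52259
theorem L52266 : sm gi N6615 = N4862 := ded_38_2 (flp_e L38509) (flp_i L38277) L52259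
theorem L52268 : sm gf N6615 = N6615 := ded_35_2 (flp_e L52259) (flp_f L38270) L28043 L38270 L52259
theorem L52269 : sm gg N4833 = N6616 := rfl
theorem L52271 : sm ga N6616 = N4903 := ded_14_1 (flp_g L38830) (flp_a L38272) L52269
theorem L52273 : sm gb N6616 = N4836 := ded_21_1 (flp_g L38297) (flp_b L38274) L52269
theorem L52275 : sm gc N6616 = N6616 := ded_27_1 (flp_g L52269) L38276 L52269
theorem L52276 : sm gi N6616 = N4863 := ded_43_2 (flp_g L38517) (flp_i L38277) L52269
theorem L52278 : sm gf N6616 = N6616 := ded_39_1 (flp_g L52269) (flp_f L38270) L28044 L38270 L52269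
theorem L52279 : sm gh N4833 = N6617 := rfl
theorem L52281 : sm ga N6617 = N4904 := ded_15_1 (flp_h L38838) (flp_a L38272) L52279
theorem L52283 : sm gb N6617 = N4837 := ded_22_1 (flp_h L38306) (flp_b L38274) L52279
theorem L52285 : sm gc N6617 = N6617 := ded_28_1 (flp_h L52279) L38276 L52279
theorem L52286 : sm gf N6617 = N4834 := ded_40_1 (flp_h L38279) L38270 L52279
theorem L52288 : sm gd N4834 = N6618 := rfl
theorem L52290 : sm ga N6618 = N4905 := ded_11_1 (flp_d L38845) (flp_a L38281) L52288
theorem L52292 : sm gb N6618 = N4838 := ded_18_1 (flp_d L38314) (flp_b L38283) L52288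
theorem L52294 : sm gg N6618 = N6618 := ded_32_2 (flp_d L52288) L38287 L52288
theorem L52295 : sm gi N4834 = N6619 := rfl
theorem L52297 : sm ga N6619 = N4906 := ded_16_1 (flp_i L38850) (flp_a L38281) L52295
theorem L52299 : sm gb N6619 = N4839 := ded_23_1 (flp_i L38319) (flp_b L38283) L52295
theorem L52301 : sm gc N6619 = N6619 := ded_29_1 (flp_i L52295) L38285 L52295
theorem L52302 : sm ge N6619 = N6619 := ded_38_1 (flp_i L52295) L38286 L52295
theorem L52303 : sm gg N6619 = N6619 := ded_43_1 (flp_i L52295) L38287 L52295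
theorem L52304 : sm gh N6619 = N4866 := ded_44_1 (flp_i L38541) (flp_h L28224) (flp_i L28045) L38279 L52295
theorem L52306 : sm gd N4835 = N6620 := rfl
theorem L52308 : sm ga N6620 = N4844 := ded_11_1 (flp_d L38364) (flp_a L38290) L52306
theorem L52310 : sm gf N6620 = N6620 := ded_31_2 (flp_d L52306) L38296 L52306
theorem L52311 : sm gi N6620 = N4867 := ded_34_2 (flp_d L38550) (flp_i L38294) L52306
theorem L52313 : sm gc N6620 = N6620 := ded_24_1 (flp_d L52306) L38292 L28073 (flp_c L38292) L52306
theorem L52314 : sm gg N4835 = N6621 := rfl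
theorem L52316 : sm ga N6621 = N4845 := ded_14_1 (flp_g L38372) (flp_a L38290) L52314
theorem L52320 : sm ge N6621 = N4836 := ded_36_1 (flp_g L38297) L38288 L52314
theorem L52322 : sm gi N6621 = N4868 := ded_43_2 (flp_g L38556) (flp_i L38294) L52314
theorem L52324 : sm gh N4835 = N6622 := rfl
theorem L52328 : sm gc N6622 = N4841 := ded_28_1 (flp_h L38339) (flp_c L38292) L52324
theorem L52330 : sm ge N6622 = N4837 := ded_37_1 (flp_h L38306) L38288 L52324
theorem L52333 : sm gh N4836 = N6623 := rfl
theorem L52335 : sm ga N6623 = N4847 := ded_15_1 (flp_h L38391) (flp_a L38299) L52333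
theorem L52340 : sm gg N6623 = N4837 := ded_42_1 (flp_h L38306) L38297 L52333
theorem L52342 : sm gd N4837 = N6624 := rfl
theorem L52344 : sm ga N6624 = N4848 := ded_11_1 (flp_d L38400) (flp_a L38308) L52342
theorem L52346 : sm gf N6624 = N4838 := ded_31_2 (flp_d L38314) (flp_f L38312) L52342
theorem L52348 : sm gi N4837 = N6625 := rfl
theorem L52352 : sm gc N6625 = N4843 := ded_29_1 (flp_i L38355) (flp_c L38310) L52348
theorem L52354 : sm gf N6625 = N4839 := ded_41_1 (flp_i L38319) (flp_f L38312) L52348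
theorem L52358 : sm ge N4838 = N6626 := rfl
theorem L52360 : sm ga N6626 = N4850 := ded_12_1 (flp_e L38416) (flp_a L38316) L52358
theorem L52362 : sm gg N6626 = N6626 := ded_36_2 (flp_e L52358) L38318 L52358
theorem L52363 : sm gd N6626 = N6626 := ded_30_1 (flp_e L52358) (flp_d L38314) L28064 L38314 L52358
theorem L52364 : sm gi N4838 = N6627 := rfl
theorem L52366 : sm ga N6627 = N4851 := ded_16_1 (flp_i L38422) (flp_a L38316) L52364
theorem L52368 : sm gd N6627 = N4839 := ded_34_1 (flp_i L38319) L38314 L52364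
theorem L52370 : sm gg N6627 = N6627 := ded_43_1 (flp_i L52364) L38318 L52364
theorem L52397 : sm gi N4841 = N6631 := rfl
theorem L52402 : sm ge N6631 = N4843 := ded_38_1 (flp_i L38355) (flp_e L38344) L52397
theorem L52417 : sm gg N4844 = N6633 := rfl
theorem L52419 : sm gb N6633 = N4920 := ded_21_1 (flp_g L38978) (flp_b L38366) L52417
theorem L52422 : sm gd N6633 = N4845 := ded_32_1 (flp_g L38372) L38364 L52417
theorem L52424 : sm gi N6633 = N4880 := ded_43_2 (flp_g L38654) (flp_i L38369) L52417
theorem L52426 : sm gh N4844 = N6634 := rfl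
theorem L52428 : sm gb N6634 = N4921 := ded_22_1 (flp_h L38986) (flp_b L38366) L52426
theorem L52442 : sm gh N4845 = N6636 := rfl
theorem L52448 : sm ge N6636 = N4847 := ded_37_1 (flp_h L38391) (flp_e L38378) L52442
theorem L52452 : sm gd N4846 = N6637 := rfl
theorem L52457 : sm gi N4846 = N6638 := rfl
theorem L52466 : sm gh N6638 = N4885 := ded_44_1 (flp_i L38690) (flp_h L28316) (flp_i L28107) L38382 L52457
theorem L52468 : sm gd N4847 = N6639 := rfl
theorem L52473 : sm gg N6639 = N4848 := ded_32_2 (flp_d L38400) (flp_g L38398) L52468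
theorem L52475 : sm gi N4847 = N6640 := rfl
theorem L52479 : sm gc N6640 = N4856 := ded_29_1 (flp_i L38461) (flp_c L38395) L52475
theorem L52482 : sm gg N6640 = N4849 := ded_43_1 (flp_i L38406) (flp_g L38398) L52475
theorem L52486 : sm ge N4848 = N6641 := rfl
theorem L52488 : sm gb N6641 = N4928 := ded_19_1 (flp_e L39034) (flp_b L38402) L52486
theorem L52490 : sm gi N4848 = N6642 := rfl
theorem L52492 : sm gb N6642 = N4929 := ded_23_1 (flp_i L39037) (flp_b L38402) L52490
theorem L52494 : sm gd N6642 = N4849 := ded_34_1 (flp_i L38406) L38400 L52490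
theorem L52496 : sm gf N6642 = N4851 := ded_41_1 (flp_i L38422) (flp_f L38404) L52490
theorem L52498 : sm gf N4850 = N6643 := rfl
theorem L52500 : sm gb N6643 = N4930 := ded_20_1 (flp_f L39044) (flp_b L38418) L52498
theorem L52502 : sm gd N6643 = N6643 := ded_31_1 (flp_f L52498) L38421 L52498
theorem L52503 : sm gi N4850 = N6644 := rfl
theorem L52505 : sm gb N6644 = N4931 := ded_23_1 (flp_i L39048) (flp_b L38418) L52503
theorem L52507 : sm gd N6644 = N6644 := ded_34_1 (flp_i L52503) L38421 L52503
theorem L52508 : sm ge N6644 = N4851 := ded_38_1 (flp_i L38422) L38416 L52503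
theorem L52510 : sm gg N6644 = N6644 := ded_43_1 (flp_i L52503) L38420 L52503
theorem L52511 : sm gh N4851 = N6645 := rfl
theorem L52513 : sm gb N6645 = N4932 := ded_22_1 (flp_h L39055) (flp_b L38424) L52511
theorem L52515 : sm gg N6645 = N6645 := ded_42_1 (flp_h L52511) L38428 L52511
theorem L52516 : sm gd N6645 = N4892 := ded_33_1 (flp_h L38745) L28361 (flp_h L28140) (flp_d L38426) L52511
theorem L52518 : sm gh N4852 = N6646 := rfl
theorem L52520 : sm gb N6646 = N4857 := ded_22_1 (flp_h L38470) (flp_b L38431) L52518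
theorem L52522 : sm ge N6646 = N6646 := ded_37_1 (flp_h L52518) L38436 L52518
theorem L52523 : sm gf N6646 = N4853 := ded_40_1 (flp_h L38438) L38429 L52518
theorem L52526 : sm gd N4853 = N6647 := rfl
theorem L52530 : sm gg N6647 = N4854 := ded_32_2 (flp_d L38446) (flp_g L38444) L52526
theorem L52547 : sm gi N4854 = N6650 := rfl
theorem L52551 : sm gd N6650 = N4855 := ded_34_1 (flp_i L38452) L38446 L52547
theorem L52561 : sm gi N4857 = N6652 := rfl
theorem L52593 : sm gi N4860 = N6656 := rfl
theorem L52598 : sm gd N6656 = N4943 := ded_34_1 (flp_i L39143) (flp_d L38501) L52593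
theorem L52608 : sm gd N4862 = N6658 := rfl
theorem L52610 : sm ga N6658 = N4944 := ded_11_1 (flp_d L39151) (flp_a L38511) L52608
theorem L52612 : sm gb N6658 = N4867 := ded_18_1 (flp_d L38550) (flp_b L38513) L52608
theorem L52614 : sm gf N6658 = N6658 := ded_31_2 (flp_d L52608) L38516 L52608
theorem L52615 : sm gg N4862 = N6659 := rfl
theorem L52617 : sm ga N6659 = N4945 := ded_14_1 (flp_g L39156) (flp_a L38511) L52615
theorem L52619 : sm gb N6659 = N4868 := ded_21_1 (flp_g L38556) (flp_b L38513) L52615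
theorem L52621 : sm gc N6659 = N6659 := ded_27_1 (flp_g L52615) L38515 L52615
theorem L52622 : sm ge N6659 = N4863 := ded_36_1 (flp_g L38517) L38509 L52615
theorem L52624 : sm gh N4862 = N6660 := rfl
theorem L52626 : sm ga N6660 = N4946 := ded_15_1 (flp_h L39163) (flp_a L38511) L52624
theorem L52628 : sm gb N6660 = N4869 := ded_22_1 (flp_h L38564) (flp_b L38513) L52624
theorem L52630 : sm gc N6660 = N6660 := ded_28_1 (flp_h L52624) L38515 L52624
theorem L52631 : sm ge N6660 = N4864 := ded_37_1 (flp_h L38525) L38509 L52624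
theorem L52633 : sm gf N6660 = N6660 := ded_40_1 (flp_h L52624) L38516 L52624
theorem L52634 : sm gh N4863 = N6661 := rfl
theorem L52636 : sm ga N6661 = N4947 := ded_15_1 (flp_h L39171) (flp_a L38519) L52634
theorem L52638 : sm gb N6661 = N4870 := ded_22_1 (flp_h L38573) (flp_b L38521) L52634
theorem L52640 : sm gc N6661 = N6661 := ded_28_1 (flp_h L52634) L38523 L52634
theorem L52641 : sm gf N6661 = N6661 := ded_40_1 (flp_h L52634) L38524 L52634
theorem L52642 : sm gg N6661 = N4864 := ded_42_1 (flp_h L38525) L38517 L52634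
theorem L52644 : sm gd N4864 = N6662 := rfl
theorem L52646 : sm ga N6662 = N4948 := ded_11_1 (flp_d L39179) (flp_a L38527) L52644
theorem L52648 : sm gb N6662 = N4871 := ded_18_1 (flp_d L38582) (flp_b L38529) L52644
theorem L52650 : sm gf N6662 = N4865 := ded_31_2 (flp_d L38534) (flp_f L38532) L52644
theorem L52652 : sm gi N4864 = N6663 := rfl
theorem L52654 : sm ga N6663 = N4949 := ded_16_1 (flp_i L39185) (flp_a L38527) L52652
theorem L52656 : sm gb N6663 = N4872 := ded_23_1 (flp_i L38589) (flp_b L38529) L52652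
theorem L52658 : sm gc N6663 = N6663 := ded_29_1 (flp_i L52652) L38531 L52652
theorem L52659 : sm gf N6663 = N4866 := ded_41_1 (flp_i L38541) (flp_f L38532) L52652
theorem L52661 : sm gc N4865 = N6664 := rfl
theorem L52663 : sm ga N6664 = N4950 := ded_10_1 (flp_c L39192) (flp_a L38536) L52661
theorem L52665 : sm gg N6664 = N6664 := ded_27_2 (flp_c L52661) L38540 L52661
theorem L52666 : sm gb N6664 = N6664 := ded_17_1 (flp_c L52661) L38538 L28260 (flp_b L38538) L52661
theorem L52667 : sm gd N6664 = N6664 := ded_24_2 (flp_c L52661) (flp_d L38534) L28230 L38534 L52661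
theorem L52668 : sm ge N4865 = N6665 := rfl
theorem L52670 : sm ga N6665 = N4951 := ded_12_1 (flp_e L39198) (flp_a L38536) L52668
theorem L52672 : sm gb N6665 = N4873 := ded_19_1 (flp_e L38597) (flp_b L38538) L52668
theorem L52674 : sm gg N6665 = N6665 := ded_36_2 (flp_e L52668) L38540 L52668
theorem L52675 : sm gd N6665 = N6665 := ded_30_1 (flp_e L52668) (flp_d L38534) L28231 L38534 L52668
theorem L52676 : sm gi N4865 = N6666 := rfl
theorem L52678 : sm ga N6666 = N4952 := ded_16_1 (flp_i L39204) (flp_a L38536) L52676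
theorem L52680 : sm gb N6666 = N4874 := ded_23_1 (flp_i L38604) (flp_b L38538) L52676
theorem L52682 : sm gd N6666 = N4866 := ded_34_1 (flp_i L38541) L38534 L52676
theorem L52684 : sm gg N6666 = N6666 := ded_43_1 (flp_i L52676) L38540 L52676
theorem L52685 : sm gg N4867 = N6667 := rfl
theorem L52687 : sm ga N6667 = N4880 := ded_14_1 (flp_g L38654) (flp_a L38552) L52685
theorem L52689 : sm gc N6667 = N6667 := ded_27_1 (flp_g L52685) L38555 L52685
theorem L52690 : sm gd N6667 = N4868 := ded_32_1 (flp_g L38556) L38550 L52685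
theorem L52692 : sm gh N4867 = N6668 := rfl
theorem L52694 : sm ga N6668 = N4881 := ded_15_1 (flp_h L38661) (flp_a L38552) L52692
theorem L52696 : sm gc N6668 = N6668 := ded_28_1 (flp_h L52692) L38555 L52692
theorem L52697 : sm gf N6668 = N6668 := ded_40_1 (flp_h L52692) L38554 L52692
theorem L52698 : sm gf N4868 = N6669 := rfl
theorem L52702 : sm gc N6669 = N4875 := ded_26_1 (flp_f L38612) (flp_c L38560) L52698
theorem L52706 : sm gh N4868 = N6670 := rfl
theorem L52708 : sm ga N6670 = N4883 := ded_15_1 (flp_h L38675) (flp_a L38558) L52706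
theorem L52712 : sm ge N6670 = N4870 := ded_37_1 (flp_h L38573) (flp_e L38562) L52706
theorem L52714 : sm gg N6670 = N4869 := ded_42_1 (flp_h L38564) L38556 L52706
theorem L52716 : sm gd N4869 = N6671 := rfl
theorem L52718 : sm ga N6671 = N4884 := ded_11_1 (flp_d L38685) (flp_a L38566) L52716
theorem L52720 : sm gf N6671 = N6671 := ded_31_2 (flp_d L52716) L38572 L52716
theorem L52721 : sm gi N4869 = N6672 := rfl
theorem L52723 : sm ga N6672 = N4885 := ded_16_1 (flp_i L38690) (flp_a L38566) L52721
theorem L52727 : sm ge N6672 = N4872 := ded_38_1 (flp_i L38589) (flp_e L38570) L52721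
theorem L52730 : sm gd N4870 = N6673 := rfl
theorem L52732 : sm ga N6673 = N4886 := ded_11_1 (flp_d L38699) (flp_a L38575) L52730
theorem L52734 : sm gf N6673 = N6673 := ded_31_2 (flp_d L52730) L38579 L52730
theorem L52735 : sm gg N6673 = N4871 := ded_32_2 (flp_d L38582) (flp_g L38580) L52730
theorem L52737 : sm gc N6673 = N6673 := ded_24_1 (flp_d L52730) L38577 L28293 (flp_c L38577) L52730
theorem L52747 : sm ge N4871 = N6675 := rfl
theorem L52749 : sm ga N6675 = N4888 := ded_12_1 (flp_e L38716) (flp_a L38584) L52747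
theorem L52751 : sm gc N6675 = N6675 := ded_25_1 (flp_e L52747) L38588 L52747
theorem L52752 : sm gi N4871 = N6676 := rfl
theorem L52754 : sm ga N6676 = N4889 := ded_16_1 (flp_i L38721) (flp_a L38584) L52752
theorem L52756 : sm gc N6676 = N6676 := ded_29_1 (flp_i L52752) L38588 L52752
theorem L52757 : sm gd N6676 = N4872 := ded_34_1 (flp_i L38589) L38582 L52752
theorem L52759 : sm gf N6676 = N4874 := ded_41_1 (flp_i L38604) (flp_f L38586) L52752
theorem L52761 : sm gf N4873 = N6677 := rfl
theorem L52763 : sm ga N6677 = N4890 := ded_13_1 (flp_f L38730) (flp_a L38599) L52761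
theorem L52765 : sm gc N6677 = N6677 := ded_26_1 (flp_f L52761) L38601 L52761
theorem L52766 : sm gd N6677 = N6677 := ded_31_1 (flp_f L52761) L38603 L52761
theorem L52767 : sm gi N4873 = N6678 := rfl
theorem L52769 : sm ga N6678 = N4891 := ded_16_1 (flp_i L38736) (flp_a L38599) L52767
theorem L52771 : sm gc N6678 = N6678 := ded_29_1 (flp_i L52767) L38601 L52767
theorem L52772 : sm gd N6678 = N6678 := ded_34_1 (flp_i L52767) L38603 L52767
theorem L52773 : sm ge N6678 = N4874 := ded_38_1 (flp_i L38604) L38597 L52767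
theorem L52775 : sm gg N6678 = N6678 := ded_43_1 (flp_i L52767) L38602 L52767
theorem L52776 : sm gh N4874 = N6679 := rfl
theorem L52778 : sm ga N6679 = N4892 := ded_15_1 (flp_h L38745) (flp_a L38606) L52776
theorem L52780 : sm gc N6679 = N6679 := ded_28_1 (flp_h L52776) L38608 L52776
theorem L52781 : sm gg N6679 = N6679 := ded_42_1 (flp_h L52776) L38611 L52776
theorem L52782 : sm gh N4875 = N6680 := rfl
theorem L52788 : sm gf N6680 = N4876 := ded_40_1 (flp_h L38620) L38612 L52782
theorem L52825 : sm gf N4880 = N6685 := rfl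
theorem L52827 : sm gb N6685 = N4968 := ded_20_1 (flp_f L39337) (flp_b L38656) L52825
theorem L52833 : sm gh N4880 = N6686 := rfl
theorem L52835 : sm gb N6686 = N4969 := ded_22_1 (flp_h L39344) (flp_b L38656) L52833
theorem L52837 : sm gc N6686 = N6686 := ded_28_1 (flp_h L52833) L38658 L52833
theorem L52838 : sm gg N6686 = N4881 := ded_42_1 (flp_h L38661) L38654 L52833
theorem L52840 : sm gd N4881 = N6687 := rfl
theorem L52842 : sm gb N6687 = N4970 := ded_18_1 (flp_d L39350) (flp_b L38663) L52840
theorem L52844 : sm gf N6687 = N6687 := ded_31_2 (flp_d L52840) L38666 L52840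
theorem L52845 : sm gh N6687 = N4884 := ded_33_2 (flp_d L38685) (flp_h L28316) L28302 L38661 L52840
theorem L52847 : sm gi N4881 = N6688 := rfl
theorem L52849 : sm gb N6688 = N4971 := ded_23_1 (flp_i L39356) (flp_b L38663) L52847
theorem L52851 : sm gc N6688 = N6688 := ded_29_1 (flp_i L52847) L38665 L52847
theorem L52852 : sm gf N6688 = N6688 := ded_41_1 (flp_i L52847) L38666 L52847
theorem L52863 : sm gd N4883 = N6690 := rfl
theorem L52867 : sm gg N6690 = N4884 := ded_32_2 (flp_d L38685) (flp_g L38683) L52863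
theorem L52869 : sm gi N4883 = N6691 := rfl
theorem L52877 : sm gg N6691 = N4885 := ded_43_1 (flp_i L38690) (flp_g L38683) L52869
theorem L52879 : sm gc N4884 = N6692 := rfl
theorem L52885 : sm ge N4884 = N6693 := rfl
theorem L52887 : sm gb N6693 = N4975 := ded_19_1 (flp_e L39382) (flp_b L38687) L52885
theorem L52889 : sm gd N6693 = N4888 := ded_30_1 (flp_e L38716) (flp_d L28334) (flp_e L28322) L38685 L52885
theorem L52891 : sm gi N4884 = N6694 := rfl
theorem L52895 : sm gd N6694 = N4885 := ded_34_1 (flp_i L38690) L38685 L52891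
theorem L52898 : sm ge N4886 = N6695 := rfl
theorem L52900 : sm gb N6695 = N4977 := ded_19_1 (flp_e L39393) (flp_b L38701) L52898
theorem L52902 : sm gc N6695 = N6695 := ded_25_1 (flp_e L52898) L38706 L52898
theorem L52903 : sm gg N6695 = N4888 := ded_36_2 (flp_e L38716) (flp_g L38704) L52898
theorem L52905 : sm gi N4886 = N6696 := rfl
theorem L52907 : sm gb N6696 = N4978 := ded_23_1 (flp_i L39399) (flp_b L38701) L52905
theorem L52913 : sm gg N6696 = N4889 := ded_43_1 (flp_i L38721) (flp_g L38704) L52905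
theorem L52915 : sm gf N4888 = N6697 := rfl
theorem L52917 : sm gb N6697 = N4979 := ded_20_1 (flp_f L39408) (flp_b L38718) L52915
theorem L52919 : sm gc N6697 = N6697 := ded_26_1 (flp_f L52915) L38720 L52915
theorem L52920 : sm ge N6697 = N4890 := ded_35_1 (flp_f L38730) (flp_e L28349) (flp_f L28338) L38716 L52915
theorem L52922 : sm gi N4888 = N6698 := rfl
theorem L52924 : sm gb N6698 = N4980 := ded_23_1 (flp_i L39414) (flp_b L38718) L52922
theorem L52926 : sm gc N6698 = N6698 := ded_29_1 (flp_i L52922) L38720 L52922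
theorem L52927 : sm ge N6698 = N4889 := ded_38_1 (flp_i L38721) L38716 L52922
theorem L52929 : sm gh N4889 = N6699 := rfl
theorem L52931 : sm gb N6699 = N4981 := ded_22_1 (flp_h L39420) (flp_b L38723) L52929
theorem L52933 : sm gc N6699 = N6699 := ded_28_1 (flp_h L52929) L38725 L52929
theorem L52934 : sm gf N6699 = N4892 := ded_40_1 (flp_h L38745) (flp_f L38728) L52929
theorem L52936 : sm gg N4890 = N6700 := rfl
theorem L52938 : sm gb N6700 = N4982 := ded_21_1 (flp_g L39426) (flp_b L38732) L52936
theorem L52940 : sm gc N6700 = N6700 := ded_27_1 (flp_g L52936) L38734 L52936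
theorem L52941 : sm gd N6700 = N6700 := ded_32_1 (flp_g L52936) L38735 L52936
theorem L52942 : sm gf N6700 = N6700 := ded_39_1 (flp_g L52936) (flp_f L38730) L28354 L38730 L52936
theorem L52943 : sm gi N4890 = N6701 := rfl
theorem L52945 : sm gb N6701 = N4983 := ded_23_1 (flp_i L39432) (flp_b L38732) L52943
theorem L52947 : sm gc N6701 = N6701 := ded_29_1 (flp_i L52943) L38734 L52943
theorem L52948 : sm gd N6701 = N6701 := ded_34_1 (flp_i L52943) L38735 L52943
theorem L52949 : sm gf N6701 = N4891 := ded_41_1 (flp_i L38736) L38730 L52943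
theorem L52951 : sm gh N4891 = N6702 := rfl
theorem L52953 : sm gb N6702 = N4984 := ded_22_1 (flp_h L39439) (flp_b L38738) L52951
theorem L52955 : sm gc N6702 = N6702 := ded_28_1 (flp_h L52951) L38740 L52951
theorem L52956 : sm ge N6702 = N4892 := ded_37_1 (flp_h L38745) (flp_e L38742) L52951
theorem L52958 : sm gg N6702 = N6702 := ded_42_1 (flp_h L52951) L38744 L52951
theorem L52959 : sm gd N4893 = N6703 := rfl
theorem L52963 : sm gf N6703 = N4894 := ded_31_2 (flp_d L38759) (flp_f L38756) L52959
theorem L52967 : sm gi N4893 = N6704 := rfl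
theorem L52998 : sm gh N4897 = N6708 := rfl
theorem L53030 : sm gd N4902 = N6712 := rfl
theorem L53032 : sm gb N6712 = N4907 := ded_18_1 (flp_d L38859) (flp_b L38824) L53030
theorem L53034 : sm gf N6712 = N6712 := ded_31_2 (flp_d L53030) L38829 L53030
theorem L53035 : sm gi N6712 = N4944 := ded_34_2 (flp_d L39151) (flp_i L38827) L53030
theorem L53037 : sm gg N4902 = N6713 := rfl
theorem L53039 : sm gb N6713 = N4908 := ded_21_1 (flp_g L38868) (flp_b L38824) L53037
theorem L53042 : sm ge N6713 = N4903 := ded_36_1 (flp_g L38830) L38822 L53037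
theorem L53046 : sm gh N4902 = N6714 := rfl
theorem L53051 : sm ge N6714 = N4904 := ded_37_1 (flp_h L38838) L38822 L53046
theorem L53054 : sm gh N4903 = N6715 := rfl
theorem L53060 : sm gg N6715 = N4904 := ded_42_1 (flp_h L38838) L38830 L53054
theorem L53062 : sm gd N4904 = N6716 := rfl
theorem L53064 : sm gb N6716 = N4911 := ded_18_1 (flp_d L38896) (flp_b L38840) L53062
theorem L53066 : sm gf N6716 = N4905 := ded_31_2 (flp_d L38845) (flp_f L38843) L53062
theorem L53068 : sm gi N4904 = N6717 := rfl
theorem L53073 : sm gf N6717 = N4906 := ded_41_1 (flp_i L38850) (flp_f L38843) L53068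
theorem L53075 : sm gh N6717 = N4949 := ded_44_1 (flp_i L39185) (flp_h L28678) (flp_i L28440) L38838 L53068
theorem L53077 : sm gc N4905 = N6718 := rfl
theorem L53079 : sm gg N6718 = N6718 := ded_27_2 (flp_c L53077) L38849 L53077
theorem L53080 : sm gb N6718 = N6718 := ded_17_1 (flp_c L53077) L38847 L28480 (flp_b L38847) L53077
theorem L53081 : sm gd N6718 = N6718 := ded_24_2 (flp_c L53077) (flp_d L38845) L28446 L38845 L53077
theorem L53082 : sm ge N4905 = N6719 := rfl
theorem L53084 : sm gb N6719 = N4913 := ded_19_1 (flp_e L38913) (flp_b L38847) L53082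
theorem L53086 : sm gg N6719 = N6719 := ded_36_2 (flp_e L53082) L38849 L53082
theorem L53087 : sm gd N6719 = N6719 := ded_30_1 (flp_e L53082) (flp_d L38845) L28447 L38845 L53082
theorem L53088 : sm gi N4905 = N6720 := rfl
theorem L53090 : sm gb N6720 = N4914 := ded_23_1 (flp_i L38920) (flp_b L38847) L53088
theorem L53092 : sm gd N6720 = N4906 := ded_34_1 (flp_i L38850) L38845 L53088
theorem L53094 : sm gg N6720 = N6720 := ded_43_1 (flp_i L53088) L38849 L53088
theorem L53095 : sm gg N4907 = N6721 := rfl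
theorem L53097 : sm ga N6721 = N4920 := ded_14_1 (flp_g L38978) (flp_a L38861) L53095
theorem L53099 : sm gc N6721 = N4993 := ded_27_1 (flp_g L39519) (flp_c L38866) L53095
theorem L53101 : sm gd N6721 = N4908 := ded_32_1 (flp_g L38868) L38859 L53095
theorem L53105 : sm gh N4907 = N6722 := rfl
theorem L53107 : sm ga N6722 = N4921 := ded_15_1 (flp_h L38986) (flp_a L38861) L53105
theorem L53109 : sm gc N6722 = N4994 := ded_28_1 (flp_h L39527) (flp_c L38866) L53105
theorem L53111 : sm gf N6722 = N6722 := ded_40_1 (flp_h L53105) L38863 L53105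
theorem L53112 : sm gf N4908 = N6723 := rfl
theorem L53118 : sm gi N6723 = N4955 := ded_41_2 (flp_f L39226) (flp_i L38876) L53112
theorem L53122 : sm gh N4908 = N6724 := rfl
theorem L53132 : sm gd N4909 = N6725 := rfl
theorem L53134 : sm ga N6725 = N4924 := ded_11_1 (flp_d L39007) (flp_a L38880) L53132
theorem L53137 : sm gi N4909 = N6726 := rfl
theorem L53146 : sm gh N6726 = N4958 := ded_44_1 (flp_i L39250) (flp_h L28712) (flp_i L28455) L38878 L53137
theorem L53148 : sm gd N4910 = N6727 := rfl
theorem L53150 : sm ga N6727 = N4926 := ded_11_1 (flp_d L39019) (flp_a L38889) L53148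
theorem L53153 : sm gg N6727 = N4911 := ded_32_2 (flp_d L38896) (flp_g L38894) L53148
theorem L53167 : sm ge N4911 = N6729 := rfl
theorem L53169 : sm ga N6729 = N4928 := ded_12_1 (flp_e L39034) (flp_a L38898) L53167
theorem L53171 : sm gc N6729 = N6729 := ded_25_1 (flp_e L53167) L38902 L53167
theorem L53172 : sm gi N4911 = N6730 := rfl
theorem L53174 : sm ga N6730 = N4929 := ded_16_1 (flp_i L39037) (flp_a L38898) L53172
theorem L53177 : sm gd N6730 = N4912 := ded_34_1 (flp_i L38903) L38896 L53172
theorem L53179 : sm gf N6730 = N4914 := ded_41_1 (flp_i L38920) (flp_f L38900) L53172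
theorem L53181 : sm gf N4913 = N6731 := rfl
theorem L53183 : sm ga N6731 = N4930 := ded_13_1 (flp_f L39044) (flp_a L38915) L53181
theorem L53185 : sm gc N6731 = N6731 := ded_26_1 (flp_f L53181) L38917 L53181
theorem L53186 : sm gd N6731 = N6731 := ded_31_1 (flp_f L53181) L38919 L53181
theorem L53187 : sm gi N4913 = N6732 := rfl
theorem L53189 : sm ga N6732 = N4931 := ded_16_1 (flp_i L39048) (flp_a L38915) L53187
theorem L53191 : sm gc N6732 = N6732 := ded_29_1 (flp_i L53187) L38917 L53187
theorem L53192 : sm gd N6732 = N6732 := ded_34_1 (flp_i L53187) L38919 L53187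
theorem L53193 : sm ge N6732 = N4914 := ded_38_1 (flp_i L38920) L38913 L53187
theorem L53195 : sm gg N6732 = N6732 := ded_43_1 (flp_i L53187) L38918 L53187
theorem L53196 : sm gh N4914 = N6733 := rfl
theorem L53198 : sm ga N6733 = N4932 := ded_15_1 (flp_h L39055) (flp_a L38922) L53196
theorem L53200 : sm gc N6733 = N6733 := ded_28_1 (flp_h L53196) L38924 L53196
theorem L53201 : sm gg N6733 = N6733 := ded_42_1 (flp_h L53196) L38927 L53196
theorem L53202 : sm gd N6733 = N4965 := ded_33_1 (flp_h L39310) L28760 (flp_h L28489) (flp_d L38925) L53196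
theorem L53213 : sm gd N4916 = N6735 := rfl
theorem L53218 : sm gg N6735 = N4917 := ded_32_2 (flp_d L38948) (flp_g L38946) L53213
theorem L53221 : sm gh N6735 = N5002 := ded_33_2 (flp_d L39594) (flp_h L29008) (flp_d L28496) L38939 L53213
theorem L53223 : sm gi N4916 = N6736 := rfl
theorem L53232 : sm gh N6736 = N4967 := ded_44_1 (flp_i L39327) (flp_h L28772) (flp_i L28500) L38939 L53223
theorem L53234 : sm gc N4917 = N6737 := rfl
theorem L53242 : sm gi N4917 = N6738 := rfl
theorem L53252 : sm gf N4920 = N6739 := rfl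
theorem L53254 : sm gc N6739 = N5004 := ded_26_1 (flp_f L39610) (flp_c L38980) L53252
theorem L53261 : sm gh N4920 = N6740 := rfl
theorem L53263 : sm gc N6740 = N5005 := ded_28_1 (flp_h L39618) (flp_c L38980) L53261
theorem L53265 : sm gg N6740 = N4921 := ded_42_1 (flp_h L38986) L38978 L53261
theorem L53267 : sm gd N4921 = N6741 := rfl
theorem L53272 : sm gi N4921 = N6742 := rfl
theorem L53274 : sm gc N6742 = N5007 := ded_29_1 (flp_i L39629) (flp_c L38988) L53272
theorem L53276 : sm gf N6742 = N6742 := ded_41_1 (flp_i L53272) L38990 L53272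
theorem L53277 : sm gh N6742 = N4971 := ded_44_1 (flp_i L39356) (flp_h L28807) (flp_i L28532) L38986 L53272
theorem L53306 : sm ge N4924 = N6747 := rfl
theorem L53308 : sm gd N6747 = N4928 := ded_30_1 (flp_e L39034) (flp_d L28558) (flp_e L28548) L39007 L53306
theorem L53315 : sm ge N4926 = N6749 := rfl
theorem L53318 : sm gg N6749 = N4928 := ded_36_2 (flp_e L39034) (flp_g L39022) L53315
theorem L53320 : sm gi N4926 = N6750 := rfl
theorem L53323 : sm gd N6750 = N4927 := ded_34_1 (flp_i L39025) L39019 L53320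
theorem L53326 : sm gg N6750 = N4929 := ded_43_1 (flp_i L39037) (flp_g L39022) L53320
theorem L53328 : sm gf N4928 = N6751 := rfl
theorem L53330 : sm gc N6751 = N6751 := ded_26_1 (flp_f L53328) L39036 L53328
theorem L53331 : sm ge N6751 = N4930 := ded_35_1 (flp_f L39044) (flp_e L28571) (flp_f L28560) L39034 L53328
theorem L53333 : sm gi N4928 = N6752 := rfl
theorem L53338 : sm gh N4929 = N6753 := rfl
theorem L53341 : sm gf N6753 = N4932 := ded_40_1 (flp_h L39055) (flp_f L39042) L53338
theorem L53343 : sm gd N6753 = N4981 := ded_33_1 (flp_h L39420) L28859 (flp_h L28569) (flp_d L39040) L53338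
theorem L53345 : sm gg N4930 = N6754 := rfl
theorem L53347 : sm gc N6754 = N6754 := ded_27_1 (flp_g L53345) L39046 L53345
theorem L53348 : sm gd N6754 = N6754 := ded_32_1 (flp_g L53345) L39047 L53345
theorem L53349 : sm gf N6754 = N6754 := ded_39_1 (flp_g L53345) (flp_f L39044) L28574 L39044 L53345
theorem L53350 : sm gi N4930 = N6755 := rfl
theorem L53352 : sm gc N6755 = N6755 := ded_29_1 (flp_i L53350) L39046 L53350
theorem L53353 : sm gd N6755 = N6755 := ded_34_1 (flp_i L53350) L39047 L53350
theorem L53354 : sm gf N6755 = N4931 := ded_41_1 (flp_i L39048) L39044 L53350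
theorem L53356 : sm gh N4931 = N6756 := rfl
theorem L53358 : sm gc N6756 = N6756 := ded_28_1 (flp_h L53356) L39050 L53356
theorem L53359 : sm ge N6756 = N4932 := ded_37_1 (flp_h L39055) (flp_e L39052) L53356
theorem L53361 : sm gg N6756 = N6756 := ded_42_1 (flp_h L53356) L39054 L53356
theorem L53362 : sm gd N4933 = N6757 := rfl
theorem L53369 : sm gh N6757 = N5015 := ded_33_2 (flp_d L39686) (flp_h L29082) (flp_d L28586) L39061 L53362
theorem L53371 : sm gi N4933 = N6758 := rfl
theorem L53379 : sm gh N6758 = N4985 := ded_44_1 (flp_i L39446) (flp_h L28881) (flp_i L28588) L39061 L53371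
theorem L53413 : sm gc N4938 = N6763 := rfl
theorem L53419 : sm gh N6763 = N5018 := ded_28_2 (flp_c L39707) (flp_h L39109) L53413
theorem L53461 : sm gi N4942 = N6769 := rfl
theorem L53463 : sm gb N6769 = N4943 := ded_23_1 (flp_i L39143) L39137 L53461
theorem L53468 : sm gc N4944 = N6770 := rfl
theorem L53470 : sm gf N6770 = N6770 := ded_26_2 (flp_c L53468) L39155 L53468
theorem L53471 : sm gb N6770 = N5022 := ded_17_1 (flp_c L39737) L29129 (flp_c L28702) (flp_b L39153) L53468
theorem L53473 : sm gd N6770 = N6770 := ded_24_2 (flp_c L53468) (flp_d L39151) L28670 L39151 L53468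
theorem L53474 : sm gg N4944 = N6771 := rfl
theorem L53476 : sm gb N6771 = N4953 := ded_21_1 (flp_g L39211) (flp_b L39153) L53474
theorem L53478 : sm gd N6771 = N4945 := ded_32_1 (flp_g L39156) L39151 L53474
theorem L53480 : sm gh N4944 = N6772 := rfl
theorem L53482 : sm gb N6772 = N4954 := ded_22_1 (flp_h L39219) (flp_b L39153) L53480
theorem L53484 : sm gf N6772 = N6772 := ded_40_1 (flp_h L53480) L39155 L53480
theorem L53485 : sm gf N4945 = N6773 := rfl
theorem L53492 : sm gh N4945 = N6774 := rfl
theorem L53494 : sm gb N6774 = N4956 := ded_22_1 (flp_h L39234) (flp_b L39158) L53492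
theorem L53497 : sm ge N6774 = N4947 := ded_37_1 (flp_h L39171) (flp_e L39161) L53492
theorem L53499 : sm gg N6774 = N4946 := ded_42_1 (flp_h L39163) L39156 L53492
theorem L53501 : sm gd N4946 = N6775 := rfl
theorem L53503 : sm gb N6775 = N4957 := ded_18_1 (flp_d L39244) (flp_b L39165) L53501
theorem L53505 : sm gf N6775 = N6775 := ded_31_2 (flp_d L53501) L39170 L53501
theorem L53514 : sm gd N4947 = N6777 := rfl
theorem L53516 : sm gb N6777 = N4959 := ded_18_1 (flp_d L39259) (flp_b L39173) L53514
theorem L53518 : sm gf N6777 = N6777 := ded_31_2 (flp_d L53514) L39176 L53514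
theorem L53519 : sm gg N6777 = N4948 := ded_32_2 (flp_d L39179) (flp_g L39177) L53514
theorem L53521 : sm gi N4947 = N6778 := rfl
theorem L53523 : sm gb N6778 = N4960 := ded_23_1 (flp_i L39268) (flp_b L39173) L53521
theorem L53529 : sm gc N4948 = N6779 := rfl
theorem L53531 : sm gf N6779 = N4950 := ded_26_2 (flp_c L39192) (flp_f L39183) L53529
theorem L53533 : sm gb N6779 = N5034 := ded_17_1 (flp_c L39824) L29193 (flp_c L28736) (flp_b L39181) L53529
theorem L53535 : sm gd N6779 = N6779 := ded_24_2 (flp_c L53529) (flp_d L39179) L28682 L39179 L53529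
theorem L53536 : sm ge N4948 = N6780 := rfl
theorem L53538 : sm gb N6780 = N4961 := ded_19_1 (flp_e L39277) (flp_b L39181) L53536
theorem L53540 : sm gi N4948 = N6781 := rfl
theorem L53542 : sm gb N6781 = N4962 := ded_23_1 (flp_i L39283) (flp_b L39181) L53540
theorem L53544 : sm gd N6781 = N4949 := ded_34_1 (flp_i L39185) L39179 L53540
theorem L53546 : sm gf N6781 = N4952 := ded_41_1 (flp_i L39204) (flp_f L39183) L53540
theorem L53548 : sm ge N4950 = N6782 := rfl
theorem L53550 : sm gb N6782 = N5037 := ded_19_1 (flp_e L39845) (flp_b L39195) L53548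
theorem L53552 : sm gc N6782 = N4951 := ded_25_1 (flp_e L39198) L39192 L53548
theorem L53554 : sm gg N6782 = N6782 := ded_36_2 (flp_e L53548) L39194 L53548
theorem L53555 : sm gi N4950 = N6783 := rfl
theorem L53557 : sm gb N6783 = N5038 := ded_23_1 (flp_i L39851) (flp_b L39195) L53555
theorem L53559 : sm gc N6783 = N4952 := ded_29_1 (flp_i L39204) L39192 L53555
theorem L53561 : sm gd N6783 = N6783 := ded_34_1 (flp_i L53555) L39197 L53555
theorem L53562 : sm gg N6783 = N6783 := ded_43_1 (flp_i L53555) L39194 L53555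
theorem L53563 : sm gf N4951 = N6784 := rfl
theorem L53565 : sm gb N6784 = N4963 := ded_20_1 (flp_f L39293) (flp_b L39200) L53563
theorem L53567 : sm gd N6784 = N6784 := ded_31_1 (flp_f L53563) L39203 L53563
theorem L53568 : sm gi N4951 = N6785 := rfl
theorem L53570 : sm gb N6785 = N4964 := ded_23_1 (flp_i L39300) (flp_b L39200) L53568
theorem L53572 : sm gd N6785 = N6785 := ded_34_1 (flp_i L53568) L39203 L53568
theorem L53573 : sm ge N6785 = N4952 := ded_38_1 (flp_i L39204) L39198 L53568
theorem L53575 : sm gg N6785 = N6785 := ded_43_1 (flp_i L53568) L39202 L53568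
theorem L53576 : sm gh N4952 = N6786 := rfl
theorem L53578 : sm gb N6786 = N4965 := ded_22_1 (flp_h L39310) (flp_b L39206) L53576
theorem L53580 : sm gg N6786 = N6786 := ded_42_1 (flp_h L53576) L39210 L53576
theorem L53581 : sm gf N4953 = N6787 := rfl
theorem L53583 : sm ga N6787 = N4968 := ded_13_1 (flp_f L39337) (flp_a L39213) L53581
theorem L53585 : sm gc N6787 = N5026 := ded_26_1 (flp_f L39766) (flp_c L39215) L53581
theorem L53587 : sm gd N6787 = N4955 := ded_31_1 (flp_f L39226) (flp_d L39217) L53581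
theorem L53590 : sm gh N4953 = N6788 := rfl
theorem L53592 : sm ga N6788 = N4969 := ded_15_1 (flp_h L39344) (flp_a L39213) L53590
theorem L53594 : sm gc N6788 = N5027 := ded_28_1 (flp_h L39773) (flp_c L39215) L53590
theorem L53596 : sm gg N6788 = N4954 := ded_42_1 (flp_h L39219) L39211 L53590
theorem L53598 : sm gd N4954 = N6789 := rfl
theorem L53600 : sm ga N6789 = N4970 := ded_11_1 (flp_d L39350) (flp_a L39221) L53598
theorem L53602 : sm gf N6789 = N6789 := ded_31_2 (flp_d L53598) L39225 L53598
theorem L53603 : sm gc N6789 = N6789 := ded_24_1 (flp_d L53598) L39223 L29152 (flp_c L39223) L53598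
theorem L53604 : sm gh N6789 = N4957 := ded_33_2 (flp_d L39244) (flp_h L28712) L28697 L39219 L53598
theorem L53606 : sm gi N4954 = N6790 := rfl
theorem L53608 : sm ga N6790 = N4971 := ded_16_1 (flp_i L39356) (flp_a L39221) L53606
theorem L53610 : sm gc N6790 = N5028 := ded_29_1 (flp_i L39780) (flp_c L39223) L53606
theorem L53612 : sm gf N6790 = N6790 := ded_41_1 (flp_i L53606) L39225 L53606
theorem L53613 : sm gh N4955 = N6791 := rfl
theorem L53620 : sm gf N6791 = N4956 := ded_40_1 (flp_h L39234) L39226 L53613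
theorem L53623 : sm gd N4956 = N6792 := rfl
theorem L53625 : sm ga N6792 = N4973 := ded_11_1 (flp_d L39369) (flp_a L39236) L53623
theorem L53627 : sm gg N6792 = N4957 := ded_32_2 (flp_d L39244) (flp_g L39242) L53623
theorem L53640 : sm ge N4957 = N6794 := rfl
theorem L53642 : sm ga N6794 = N4975 := ded_12_1 (flp_e L39382) (flp_a L39246) L53640
theorem L53644 : sm gc N6794 = N6794 := ded_25_1 (flp_e L53640) L39249 L53640
theorem L53645 : sm gd N6794 = N4961 := ded_30_1 (flp_e L39277) (flp_d L28730) (flp_e L28718) L39244 L53640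
theorem L53647 : sm gi N4957 = N6795 := rfl
theorem L53649 : sm ga N6795 = N4976 := ded_16_1 (flp_i L39387) (flp_a L39246) L53647
theorem L53652 : sm gd N6795 = N4958 := ded_34_1 (flp_i L39250) L39244 L53647
theorem L53655 : sm ge N4959 = N6796 := rfl
theorem L53657 : sm ga N6796 = N4977 := ded_12_1 (flp_e L39393) (flp_a L39261) L53655
theorem L53659 : sm gc N6796 = N5042 := ded_25_1 (flp_e L39882) (flp_c L39266) L53655
theorem L53661 : sm gg N6796 = N4961 := ded_36_2 (flp_e L39277) (flp_g L39264) L53655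
theorem L53663 : sm gi N4959 = N6797 := rfl
theorem L53665 : sm ga N6797 = N4978 := ded_16_1 (flp_i L39399) (flp_a L39261) L53663
theorem L53667 : sm gc N6797 = N5043 := ded_29_1 (flp_i L39889) (flp_c L39266) L53663
theorem L53669 : sm gd N6797 = N4960 := ded_34_1 (flp_i L39268) L39259 L53663
theorem L53672 : sm gg N6797 = N4962 := ded_43_1 (flp_i L39283) (flp_g L39264) L53663
theorem L53674 : sm gf N4961 = N6798 := rfl
theorem L53676 : sm ga N6798 = N4979 := ded_13_1 (flp_f L39408) (flp_a L39279) L53674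
theorem L53678 : sm gc N6798 = N5044 := ded_26_1 (flp_f L39898) (flp_c L39281) L53674
theorem L53680 : sm ge N6798 = N4963 := ded_35_1 (flp_f L39293) (flp_e L28746) (flp_f L28734) L39277 L53674
theorem L53682 : sm gi N4961 = N6799 := rfl
theorem L53684 : sm ga N6799 = N4980 := ded_16_1 (flp_i L39414) (flp_a L39279) L53682
theorem L53686 : sm gc N6799 = N5045 := ded_29_1 (flp_i L39905) (flp_c L39281) L53682
theorem L53688 : sm ge N6799 = N4962 := ded_38_1 (flp_i L39283) L39277 L53682
theorem L53690 : sm gh N4962 = N6800 := rfl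
theorem L53692 : sm ga N6800 = N4981 := ded_15_1 (flp_h L39420) (flp_a L39285) L53690
theorem L53694 : sm gc N6800 = N5046 := ded_28_1 (flp_h L39912) (flp_c L39287) L53690
theorem L53696 : sm gf N6800 = N4965 := ded_40_1 (flp_h L39310) (flp_f L39291) L53690
theorem L53698 : sm gg N4963 = N6801 := rfl
theorem L53700 : sm ga N6801 = N4982 := ded_14_1 (flp_g L39426) (flp_a L39295) L53698
theorem L53702 : sm gc N6801 = N5047 := ded_27_1 (flp_g L39919) (flp_c L39297) L53698
theorem L53704 : sm gd N6801 = N6801 := ded_32_1 (flp_g L53698) L39299 L53698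
theorem L53705 : sm gf N6801 = N6801 := ded_39_1 (flp_g L53698) (flp_f L39293) L28752 L39293 L53698
theorem L53706 : sm gi N4963 = N6802 := rfl
theorem L53708 : sm ga N6802 = N4983 := ded_16_1 (flp_i L39432) (flp_a L39295) L53706
theorem L53710 : sm gc N6802 = N5048 := ded_29_1 (flp_i L39926) (flp_c L39297) L53706
theorem L53712 : sm gd N6802 = N6802 := ded_34_1 (flp_i L53706) L39299 L53706
theorem L53713 : sm gf N6802 = N4964 := ded_41_1 (flp_i L39300) L39293 L53706
theorem L53715 : sm gh N4964 = N6803 := rfl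
theorem L53717 : sm ga N6803 = N4984 := ded_15_1 (flp_h L39439) (flp_a L39302) L53715
theorem L53719 : sm gc N6803 = N5049 := ded_28_1 (flp_h L39934) (flp_c L39304) L53715
theorem L53721 : sm ge N6803 = N4965 := ded_37_1 (flp_h L39310) (flp_e L39307) L53715
theorem L53723 : sm gg N6803 = N6803 := ded_42_1 (flp_h L53715) L39309 L53715
theorem L53734 : sm ge N4968 = N6805 := rfl
theorem L53736 : sm gc N6805 = N5029 := ded_25_1 (flp_e L39786) (flp_c L39339) L53734
theorem L53740 : sm gh N4968 = N6806 := rfl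
theorem L53742 : sm gc N6806 = N5030 := ded_28_1 (flp_h L39792) (flp_c L39339) L53740
theorem L53744 : sm gf N6806 = N4969 := ded_40_1 (flp_h L39344) L39337 L53740
theorem L53747 : sm gd N4969 = N6807 := rfl
theorem L53749 : sm gg N6807 = N4970 := ded_32_2 (flp_d L39350) (flp_g L39348) L53747
theorem L53752 : sm gh N6807 = N4973 := ded_33_2 (flp_d L39369) (flp_h L28818) (flp_d L28805) L39344 L53747
theorem L53754 : sm gi N4969 = N6808 := rfl
theorem L53756 : sm gc N6808 = N5031 := ded_29_1 (flp_i L39799) (flp_c L39346) L53754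
theorem L53758 : sm gg N6808 = N4971 := ded_43_1 (flp_i L39356) (flp_g L39348) L53754
theorem L53760 : sm ge N4970 = N6809 := rfl
theorem L53762 : sm gc N6809 = N6809 := ded_25_1 (flp_e L53760) L39353 L53760
theorem L53763 : sm gh N6809 = N4975 := ded_37_2 (flp_e L39382) (flp_h L39354) L53760
theorem L53765 : sm gi N4970 = N6810 := rfl
theorem L53767 : sm gc N6810 = N6810 := ded_29_1 (flp_i L53765) L39353 L53765
theorem L53768 : sm gd N6810 = N4971 := ded_34_1 (flp_i L39356) L39350 L53765
theorem L53770 : sm gf N6810 = N6810 := ded_41_1 (flp_i L53765) L39352 L53765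
theorem L53785 : sm ge N4973 = N6813 := rfl
theorem L53788 : sm gg N6813 = N4975 := ded_36_2 (flp_e L39382) (flp_g L39371) L53785
theorem L53790 : sm gd N6813 = N4977 := ded_30_1 (flp_e L39393) (flp_d L28837) (flp_e L28822) L39369 L53785
theorem L53799 : sm gf N4975 = N6815 := rfl
theorem L53801 : sm gc N6815 = N6815 := ded_26_1 (flp_f L53799) L39384 L53799
theorem L53802 : sm gd N6815 = N4979 := ded_31_1 (flp_f L39408) (flp_d L39385) L53799
theorem L53804 : sm ge N6815 = N6815 := ded_35_1 (flp_f L53799) (flp_e L39382) L28828 L39382 L53799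
theorem L53805 : sm gi N4975 = N6816 := rfl
theorem L53808 : sm gd N6816 = N4980 := ded_34_1 (flp_i L39414) (flp_d L39385) L53805
theorem L53810 : sm ge N6816 = N4976 := ded_38_1 (flp_i L39387) L39382 L53805
theorem L53812 : sm gh N4976 = N6817 := rfl
theorem L53816 : sm gf N4977 = N6818 := rfl
theorem L53818 : sm gc N6818 = N5050 := ded_26_1 (flp_f L39941) (flp_c L39395) L53816
theorem L53820 : sm ge N6818 = N6818 := ded_35_1 (flp_f L53816) (flp_e L39393) L28839 L39393 L53816
theorem L53821 : sm gi N4977 = N6819 := rfl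
theorem L53823 : sm gc N6819 = N5051 := ded_29_1 (flp_i L39946) (flp_c L39395) L53821
theorem L53827 : sm gg N6819 = N4980 := ded_43_1 (flp_i L39414) (flp_g L39397) L53821
theorem L53829 : sm gh N4978 = N6820 := rfl
theorem L53831 : sm gc N6820 = N5052 := ded_28_1 (flp_h L39954) (flp_c L39401) L53829
theorem L53834 : sm gg N6820 = N4981 := ded_42_1 (flp_h L39420) (flp_g L39406) L53829
theorem L53836 : sm gg N4979 = N6821 := rfl
theorem L53838 : sm gc N6821 = N5053 := ded_27_1 (flp_g L39961) (flp_c L39410) L53836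
theorem L53840 : sm ge N6821 = N4982 := ded_36_1 (flp_g L39426) (flp_e L39412) L53836
theorem L53842 : sm gi N4979 = N6822 := rfl
theorem L53844 : sm gc N6822 = N5054 := ded_29_1 (flp_i L39967) (flp_c L39410) L53842
theorem L53846 : sm ge N6822 = N4983 := ded_38_1 (flp_i L39432) (flp_e L39412) L53842
theorem L53848 : sm gf N6822 = N4980 := ded_41_1 (flp_i L39414) L39408 L53842
theorem L53850 : sm gh N4980 = N6823 := rfl
theorem L53852 : sm gc N6823 = N5055 := ded_28_1 (flp_h L39975) (flp_c L39416) L53850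
theorem L53854 : sm ge N6823 = N4981 := ded_37_1 (flp_h L39420) (flp_e L39418) L53850
theorem L53856 : sm gi N4982 = N6824 := rfl
theorem L53858 : sm gc N6824 = N5056 := ded_29_1 (flp_i L39980) (flp_c L39428) L53856
theorem L53860 : sm gd N6824 = N6824 := ded_34_1 (flp_i L53856) L39430 L53856
theorem L53861 : sm gf N6824 = N6824 := ded_41_1 (flp_i L53856) L39431 L53856
theorem L53862 : sm gg N6824 = N4983 := ded_43_1 (flp_i L39432) L39426 L53856
theorem L53864 : sm gh N4983 = N6825 := rfl
theorem L53866 : sm gc N6825 = N5057 := ded_28_1 (flp_h L39988) (flp_c L39434) L53864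
theorem L53868 : sm gf N6825 = N4984 := ded_40_1 (flp_h L39439) (flp_f L39437) L53864
theorem L53870 : sm gd N4984 = N6826 := rfl
theorem L53872 : sm gg N6826 = N6826 := ded_32_2 (flp_d L53870) L39445 L53870
theorem L53873 : sm gh N6826 = N6826 := ded_33_2 (flp_d L53870) (flp_h L39439) L28872 L39439 L53870
theorem L53874 : sm gc N4986 = N6827 := rfl
theorem L53876 : sm ga N6827 = N6827 := ded_10_1 (flp_c L53874) L39457 L53874
theorem L53877 : sm gf N6827 = N6827 := ded_26_2 (flp_c L53874) L39460 L53874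
theorem L53878 : sm gi N6827 = N5022 := ded_29_2 (flp_c L39737) (flp_i L39461) L53874
theorem L53880 : sm gd N6827 = N6827 := ded_24_2 (flp_c L53874) (flp_d L39455) L28912 L39455 L53874
theorem L53881 : sm gg N4986 = N6828 := rfl
theorem L53883 : sm ga N6828 = N6828 := ded_14_1 (flp_g L53881) L39457 L53881
theorem L53884 : sm gb N6828 = N4993 := ded_21_1 (flp_g L39519) (flp_b L39458) L53881
theorem L53886 : sm gd N6828 = N4987 := ded_32_1 (flp_g L39463) L39455 L53881
theorem L53888 : sm gi N6828 = N5023 := ded_43_2 (flp_g L39742) (flp_i L39461) L53881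
theorem L53890 : sm gh N4986 = N6829 := rfl
theorem L53892 : sm ga N6829 = N6829 := ded_15_1 (flp_h L53890) L39457 L53890
theorem L53893 : sm gb N6829 = N4994 := ded_22_1 (flp_h L39527) (flp_b L39458) L53890
theorem L53895 : sm gf N6829 = N6829 := ded_40_1 (flp_h L53890) L39460 L53890
theorem L53896 : sm gf N4987 = N6830 := rfl
theorem L53902 : sm gi N6830 = N5025 := ded_41_2 (flp_f L39756) (flp_i L39471) L53896
theorem L53904 : sm ge N6830 = N5489 := ded_35_1 (flp_f L43380) L31836 (flp_f L28924) (flp_e L39469) L53896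
theorem L53907 : sm gh N4987 = N6831 := rfl
theorem L53910 : sm gb N6831 = N4996 := ded_22_1 (flp_h L39543) (flp_b L39466) L53907
theorem L53915 : sm gg N6831 = N4988 := ded_42_1 (flp_h L39473) L39463 L53907
theorem L53918 : sm gd N4988 = N6832 := rfl
theorem L53920 : sm ga N6832 = N6832 := ded_11_1 (flp_d L53918) L39475 L53918
theorem L53921 : sm gb N6832 = N4997 := ded_18_1 (flp_d L39554) (flp_b L39476) L53918
theorem L53923 : sm gf N6832 = N6832 := ded_31_2 (flp_d L53918) L39481 L53918
theorem L53924 : sm gi N6832 = N6832 := ded_34_2 (flp_d L53918) L39482 L53918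
theorem L53925 : sm gd N4989 = N6833 := rfl
theorem L53927 : sm ga N6833 = N6833 := ded_11_1 (flp_d L53925) L39485 L53925
theorem L53928 : sm gb N6833 = N4998 := ded_18_1 (flp_d L39560) (flp_b L39486) L53925
theorem L53930 : sm gf N6833 = N5492 := ded_31_2 (flp_d L43407) (flp_f L39489) L53925
theorem L53932 : sm gg N6833 = N4990 := ded_32_2 (flp_d L39494) (flp_g L39491) L53925
theorem L53934 : sm gi N6833 = N6833 := ded_34_2 (flp_d L53925) L39493 L53925
theorem L53935 : sm gc N4990 = N6834 := rfl
theorem L53937 : sm ga N6834 = N6834 := ded_10_1 (flp_c L53935) L39496 L53935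
theorem L53938 : sm gf N6834 = N4991 := ded_26_2 (flp_c L39502) (flp_f L39499) L53935
theorem L53940 : sm gi N6834 = N6834 := ded_29_2 (flp_c L53935) L39501 L53935
theorem L53941 : sm gb N6834 = N6834 := ded_17_1 (flp_c L53935) L39497 L28988 (flp_b L39497) L53935
theorem L53942 : sm gd N6834 = N6834 := ded_24_2 (flp_c L53935) (flp_d L39494) L28931 L39494 L53935
theorem L53943 : sm ge N4990 = N6835 := rfl
theorem L53945 : sm ga N6835 = N6835 := ded_12_1 (flp_e L53943) L39496 L53943
theorem L53946 : sm gb N6835 = N4999 := ded_19_1 (flp_e L39570) (flp_b L39497) L53943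
theorem L53948 : sm gi N6835 = N6835 := ded_38_2 (flp_e L53943) L39501 L53943
theorem L53949 : sm ge N4991 = N6836 := rfl
theorem L53951 : sm ga N6836 = N6836 := ded_12_1 (flp_e L53949) L39504 L53949
theorem L53952 : sm gb N6836 = N6836 := ded_19_1 (flp_e L53949) L39508 L53949
theorem L53953 : sm gc N6836 = N4992 := ded_25_1 (flp_e L39510) L39502 L53949
theorem L53955 : sm gg N6836 = N5495 := ded_36_2 (flp_e L43429) (flp_g L39505) L53949
theorem L53957 : sm gi N6836 = N6836 := ded_38_2 (flp_e L53949) L39507 L53949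
theorem L53958 : sm gf N4992 = N6837 := rfl
theorem L53960 : sm ga N6837 = N6837 := ded_13_1 (flp_f L53958) L39512 L53958
theorem L53961 : sm gb N6837 = N5000 := ded_20_1 (flp_f L39576) (flp_b L39513) L53958
theorem L53963 : sm gd N6837 = N6837 := ded_31_1 (flp_f L53958) L39518 L53958
theorem L53964 : sm gi N6837 = N6837 := ded_41_2 (flp_f L53958) L39517 L53958
theorem L53965 : sm gf N4993 = N6838 := rfl
theorem L53967 : sm ga N6838 = N5004 := ded_13_1 (flp_f L39610) (flp_a L39521) L53965
theorem L53969 : sm gd N6838 = N4995 := ded_31_1 (flp_f L39532) (flp_d L39523) L53965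
theorem L53971 : sm gi N6838 = N5026 := ded_41_2 (flp_f L39766) (flp_i L39525) L53965
theorem L53974 : sm gh N4993 = N6839 := rfl
theorem L53976 : sm ga N6839 = N5005 := ded_15_1 (flp_h L39618) (flp_a L39521) L53974
theorem L53978 : sm gg N6839 = N4994 := ded_42_1 (flp_h L39527) L39519 L53974
theorem L53980 : sm gd N4994 = N6840 := rfl
theorem L53982 : sm ga N6840 = N5006 := ded_11_1 (flp_d L39623) (flp_a L39529) L53980
theorem L53984 : sm gf N6840 = N6840 := ded_31_2 (flp_d L53980) L39531 L53980
theorem L53985 : sm gh N6840 = N4997 := ded_33_2 (flp_d L39554) (flp_h L28960) L28943 L39527 L53980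
theorem L53987 : sm gi N4994 = N6841 := rfl
theorem L53989 : sm ga N6841 = N5007 := ded_16_1 (flp_i L39629) (flp_a L39529) L53987
theorem L53991 : sm gf N6841 = N6841 := ded_41_1 (flp_i L53987) L39531 L53987
theorem L53992 : sm gh N6841 = N5028 := ded_44_1 (flp_i L39780) (flp_h L29147) (flp_i L28948) L39527 L53987
theorem L54006 : sm gd N4996 = N6843 := rfl
theorem L54008 : sm ga N6843 = N5009 := ded_11_1 (flp_d L39646) (flp_a L39545) L54006
theorem L54010 : sm gg N6843 = N4997 := ded_32_2 (flp_d L39554) (flp_g L39551) L54006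
theorem L54013 : sm gc N4997 = N6844 := rfl
theorem L54015 : sm ga N6844 = N5010 := ded_10_1 (flp_c L39652) (flp_a L39556) L54013
theorem L54021 : sm ge N4997 = N6845 := rfl
theorem L54023 : sm ga N6845 = N5011 := ded_12_1 (flp_e L39658) (flp_a L39556) L54021
theorem L54025 : sm gi N6845 = N6845 := ded_38_2 (flp_e L54021) L39559 L54021
theorem L54026 : sm gd N6845 = N4999 := ded_30_1 (flp_e L39570) (flp_d L28981) (flp_e L28966) L39554 L54021
theorem L54028 : sm ge N4998 = N6846 := rfl
theorem L54030 : sm ga N6846 = N5012 := ded_12_1 (flp_e L39664) (flp_a L39562) L54028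
theorem L54032 : sm gc N6846 = N6846 := ded_25_1 (flp_e L54028) L39569 L54028
theorem L54033 : sm gg N6846 = N4999 := ded_36_2 (flp_e L39570) (flp_g L39566) L54028
theorem L54035 : sm gi N6846 = N6846 := ded_38_2 (flp_e L54028) L39568 L54028
theorem L54036 : sm gf N4999 = N6847 := rfl
theorem L54038 : sm ga N6847 = N5013 := ded_13_1 (flp_f L39671) (flp_a L39572) L54036
theorem L54040 : sm gc N6847 = N6847 := ded_26_1 (flp_f L54036) L39574 L54036
theorem L54041 : sm gi N6847 = N6847 := ded_41_2 (flp_f L54036) L39575 L54036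
theorem L54042 : sm ge N6847 = N5000 := ded_35_1 (flp_f L39576) (flp_e L28989) (flp_f L28985) L39570 L54036
theorem L54044 : sm gg N5000 = N6848 := rfl
theorem L54046 : sm ga N6848 = N5014 := ded_14_1 (flp_g L39678) (flp_a L39578) L54044
theorem L54053 : sm gd N5001 = N6849 := rfl
theorem L54055 : sm ga N6849 = N5015 := ded_11_1 (flp_d L39686) (flp_a L39585) L54053
theorem L54058 : sm gf N6849 = N5002 := ded_31_2 (flp_d L39594) (flp_f L39590) L54053
theorem L54062 : sm gc N5002 = N6850 := rfl
theorem L54076 : sm ge N5004 = N6852 := rfl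
theorem L54080 : sm gi N6852 = N5029 := ded_38_2 (flp_e L39786) (flp_i L39615) L54076
theorem L54082 : sm gd N6852 = N5511 := ded_30_1 (flp_e L43556) L31973 (flp_e L29044) (flp_d L39613) L54076
theorem L54084 : sm gh N5004 = N6853 := rfl
theorem L54087 : sm gf N6853 = N5005 := ded_40_1 (flp_h L39618) L39610 L54084
theorem L54090 : sm gd N5005 = N6854 := rfl
theorem L54093 : sm gg N6854 = N5006 := ded_32_2 (flp_d L39623) (flp_g L39621) L54090
theorem L54095 : sm gh N6854 = N5009 := ded_33_2 (flp_d L39646) (flp_h L29047) (flp_d L29029) L39618 L54090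
theorem L54097 : sm gi N5005 = N6855 := rfl
theorem L54099 : sm gb N6855 = N6855 := ded_23_1 (flp_i L54097) L39620 L54097
theorem L54100 : sm gg N6855 = N5007 := ded_43_1 (flp_i L39629) (flp_g L39621) L54097
theorem L54102 : sm gh N6855 = N5031 := ded_44_1 (flp_i L39799) (flp_h L29169) (flp_i L29031) L39618 L54097
theorem L54104 : sm gc N5006 = N6856 := rfl
theorem L54107 : sm gh N6856 = N5010 := ded_28_2 (flp_c L39652) (flp_h L39627) L54104
theorem L54109 : sm ge N5006 = N6857 := rfl
theorem L54111 : sm gb N6857 = N6857 := ded_19_1 (flp_e L54109) L39625 L54109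
theorem L54112 : sm gh N6857 = N5011 := ded_37_2 (flp_e L39658) (flp_h L39627) L54109
theorem L54114 : sm gi N5006 = N6858 := rfl
theorem L54116 : sm gb N6858 = N6858 := ded_23_1 (flp_i L54114) L39625 L54114
theorem L54117 : sm gd N6858 = N5007 := ded_34_1 (flp_i L39629) L39623 L54114
theorem L54119 : sm gf N6858 = N6858 := ded_41_1 (flp_i L54114) L39626 L54114
theorem L54120 : sm gh N6858 = N6858 := ded_44_1 (flp_i L54114) L39627 L29061 (flp_h L39627) L54114
theorem L54121 : sm gd N5008 = N6859 := rfl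
theorem L54124 : sm gf N6859 = N5009 := ded_31_2 (flp_d L39646) (flp_f L39642) L54121
theorem L54128 : sm gc N5009 = N6860 := rfl
theorem L54130 : sm gg N6860 = N5010 := ded_27_2 (flp_c L39652) (flp_g L39649) L54128
theorem L54135 : sm ge N5009 = N6861 := rfl
theorem L54138 : sm gg N6861 = N5011 := ded_36_2 (flp_e L39658) (flp_g L39649) L54135
theorem L54141 : sm gd N6861 = N5012 := ded_30_1 (flp_e L39664) (flp_d L29062) (flp_e L29052) L39646 L54135
theorem L54150 : sm ge N5010 = N6863 := rfl
theorem L54152 : sm gc N6863 = N5011 := ded_25_1 (flp_e L39658) L39652 L54150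
theorem L54156 : sm gf N5011 = N6864 := rfl
theorem L54158 : sm gb N6864 = N6864 := ded_20_1 (flp_f L54156) L39660 L54156
theorem L54159 : sm gd N6864 = N5013 := ded_31_1 (flp_f L39671) (flp_d L39662) L54156
theorem L54161 : sm gi N6864 = N6864 := ded_41_2 (flp_f L54156) L39661 L54156
theorem L54162 : sm ge N6864 = N6864 := ded_35_1 (flp_f L54156) (flp_e L39658) L29060 L39658 L54156
theorem L54163 : sm gf N5012 = N6865 := rfl
theorem L54170 : sm gg N5013 = N6866 := rfl
theorem L54174 : sm ge N6866 = N5014 := ded_36_1 (flp_g L39678) (flp_e L39676) L54170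
theorem L54177 : sm gc N5015 = N6867 := rfl
theorem L54183 : sm ge N5015 = N6868 := rfl
theorem L54189 : sm gd N6868 = N5527 := ded_30_1 (flp_e L43664) (flp_d L32044) (flp_e L29086) L39686 L54183
theorem L54207 : sm gb N5018 = N6871 := rfl
theorem L54210 : sm gf N6871 = N5020 := ded_20_2 (flp_b L39723) (flp_f L39710) L54207
theorem L54214 : sm ge N5018 = N6872 := rfl
theorem L54217 : sm gc N6872 = N5019 := ded_25_1 (flp_e L39715) L39707 L54214
theorem L54230 : sm gg N5022 = N6874 := rfl
theorem L54232 : sm ga N6874 = N6874 := ded_14_1 (flp_g L54230) L39739 L54230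
theorem L54233 : sm gc N6874 = N5023 := ded_27_1 (flp_g L39742) L39737 L54230
theorem L54235 : sm gd N6874 = N6874 := ded_32_1 (flp_g L54230) L39741 L54230
theorem L54236 : sm gh N5022 = N6875 := rfl
theorem L54238 : sm ga N6875 = N6875 := ded_15_1 (flp_h L54236) L39739 L54236
theorem L54239 : sm gc N6875 = N5024 := ded_28_1 (flp_h L39749) L39737 L54236
theorem L54241 : sm gf N6875 = N6875 := ded_40_1 (flp_h L54236) L39740 L54236
theorem L54242 : sm gf N5023 = N6876 := rfl
theorem L54244 : sm ga N6876 = N6876 := ded_13_1 (flp_f L54242) L39744 L54242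
theorem L54245 : sm gb N6876 = N5026 := ded_20_1 (flp_f L39766) (flp_b L39745) L54242
theorem L54247 : sm gd N6876 = N5025 := ded_31_1 (flp_f L39756) (flp_d L39747) L54242
theorem L54249 : sm gg N6876 = N6876 := ded_39_2 (flp_f L54242) (flp_g L39742) L29131 L39742 L54242
theorem L54250 : sm gh N5023 = N6877 := rfl
theorem L54252 : sm ga N6877 = N6877 := ded_15_1 (flp_h L54250) L39744 L54250
theorem L54253 : sm gb N6877 = N5027 := ded_22_1 (flp_h L39773) (flp_b L39745) L54250
theorem L54255 : sm gg N6877 = N5024 := ded_42_1 (flp_h L39749) L39742 L54250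
theorem L54257 : sm gd N6877 = N6877 := ded_33_1 (flp_h L54250) L39747 L29140 (flp_d L39747) L54250
theorem L54258 : sm gi N5024 = N6878 := rfl
theorem L54260 : sm ga N6878 = N6878 := ded_16_1 (flp_i L54258) L39751 L54258
theorem L54261 : sm gb N6878 = N5028 := ded_23_1 (flp_i L39780) (flp_b L39752) L54258
theorem L54263 : sm gd N6878 = N6878 := ded_34_1 (flp_i L54258) L39755 L54258
theorem L54264 : sm gf N6878 = N6878 := ded_41_1 (flp_i L54258) L39754 L54258
theorem L54265 : sm ge N5026 = N6879 := rfl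
theorem L54267 : sm ga N6879 = N5029 := ded_12_1 (flp_e L39786) (flp_a L39768) L54265
theorem L54269 : sm gg N6879 = N6879 := ded_36_2 (flp_e L54265) L39772 L54265
theorem L54270 : sm gd N6879 = N5538 := ded_30_1 (flp_e L43752) L32133 (flp_e L29160) (flp_d L39770) L54265
theorem L54272 : sm gh N5026 = N6880 := rfl
theorem L54274 : sm ga N6880 = N5030 := ded_15_1 (flp_h L39792) (flp_a L39768) L54272
theorem L54276 : sm gf N6880 = N5027 := ded_40_1 (flp_h L39773) L39766 L54272
theorem L54278 : sm gg N6880 = N6880 := ded_42_1 (flp_h L54272) L39772 L54272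
theorem L54279 : sm gd N6880 = N6880 := ded_33_1 (flp_h L54272) L39770 L29159 (flp_d L39770) L54272
theorem L54280 : sm gi N5027 = N6881 := rfl
theorem L54282 : sm ga N6881 = N5031 := ded_16_1 (flp_i L39799) (flp_a L39775) L54280
theorem L54284 : sm gd N6881 = N6881 := ded_34_1 (flp_i L54280) L39779 L54280
theorem L54285 : sm gg N6881 = N5028 := ded_43_1 (flp_i L39780) (flp_g L39777) L54280
theorem L54287 : sm gh N5029 = N6882 := rfl
theorem L54289 : sm gb N6882 = N6882 := ded_22_1 (flp_h L54287) L39788 L54287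
theorem L54290 : sm ge N6882 = N5030 := ded_37_1 (flp_h L39792) L39786 L54287
theorem L54292 : sm gg N6882 = N6882 := ded_42_1 (flp_h L54287) L39789 L54287
theorem L54293 : sm gi N5030 = N6883 := rfl
theorem L54295 : sm gb N6883 = N6883 := ded_23_1 (flp_i L54293) L39794 L54293
theorem L54296 : sm gd N6883 = N6883 := ded_34_1 (flp_i L54293) L39798 L54293
theorem L54297 : sm gf N6883 = N5031 := ded_41_1 (flp_i L39799) (flp_f L39795) L54293
theorem L54299 : sm gg N6883 = N6883 := ded_43_1 (flp_i L54293) L39797 L54293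
theorem L54300 : sm gc N5032 = N6884 := rfl
theorem L54302 : sm ga N6884 = N6884 := ded_10_1 (flp_c L54300) L39807 L54300
theorem L54303 : sm gf N6884 = N6884 := ded_26_2 (flp_c L54300) L39810 L54300
theorem L54304 : sm gg N6884 = N5034 := ded_27_2 (flp_c L39824) (flp_g L39811) L54300
theorem L54306 : sm gd N6884 = N6884 := ded_24_2 (flp_c L54300) (flp_d L39805) L29185 L39805 L54300
theorem L54307 : sm ge N5032 = N6885 := rfl
theorem L54309 : sm ga N6885 = N6885 := ded_12_1 (flp_e L54307) L39807 L54307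
theorem L54310 : sm gb N6885 = N5042 := ded_19_1 (flp_e L39882) (flp_b L39808) L54307
theorem L54312 : sm gg N6885 = N5035 := ded_36_2 (flp_e L39830) (flp_g L39811) L54307
theorem L54314 : sm gd N6885 = N6885 := ded_30_1 (flp_e L54307) (flp_d L39805) L29186 L39805 L54307
theorem L54315 : sm gi N5032 = N6886 := rfl
theorem L54317 : sm ga N6886 = N6886 := ded_16_1 (flp_i L54315) L39807 L54315
theorem L54318 : sm gb N6886 = N5043 := ded_23_1 (flp_i L39889) (flp_b L39808) L54315
theorem L54320 : sm gd N6886 = N5033 := ded_34_1 (flp_i L39813) L39805 L54315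
theorem L54322 : sm gf N6886 = N6886 := ded_41_1 (flp_i L54315) L39810 L54315
theorem L54323 : sm gg N6886 = N5036 := ded_43_1 (flp_i L39836) (flp_g L39811) L54315
theorem L54325 : sm ge N5034 = N6887 := rfl
theorem L54327 : sm ga N6887 = N6887 := ded_12_1 (flp_e L54325) L39826 L54325
theorem L54328 : sm gc N6887 = N5035 := ded_25_1 (flp_e L39830) L39824 L54325
theorem L54330 : sm gi N5034 = N6888 := rfl
theorem L54332 : sm ga N6888 = N6888 := ded_16_1 (flp_i L54330) L39826 L54330
theorem L54333 : sm gc N6888 = N5036 := ded_29_1 (flp_i L39836) L39824 L54330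
theorem L54335 : sm gd N6888 = N6888 := ded_34_1 (flp_i L54330) L39829 L54330
theorem L54336 : sm gf N6888 = N5038 := ded_41_1 (flp_i L39851) (flp_f L39827) L54330
theorem L54338 : sm gf N5035 = N6889 := rfl
theorem L54340 : sm ga N6889 = N6889 := ded_13_1 (flp_f L54338) L39832 L54338
theorem L54341 : sm gb N6889 = N5044 := ded_20_1 (flp_f L39898) (flp_b L39833) L54338
theorem L54343 : sm gd N6889 = N6889 := ded_31_1 (flp_f L54338) L39835 L54338
theorem L54344 : sm ge N6889 = N5039 := ded_35_1 (flp_f L39858) (flp_e L29212) (flp_f L29195) L39830 L54338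
theorem L54346 : sm gi N5035 = N6890 := rfl
theorem L54348 : sm ga N6890 = N6890 := ded_16_1 (flp_i L54346) L39832 L54346
theorem L54349 : sm gb N6890 = N5045 := ded_23_1 (flp_i L39905) (flp_b L39833) L54346
theorem L54351 : sm gd N6890 = N6890 := ded_34_1 (flp_i L54346) L39835 L54346
theorem L54352 : sm ge N6890 = N5036 := ded_38_1 (flp_i L39836) L39830 L54346
theorem L54354 : sm gh N5036 = N6891 := rfl
theorem L54356 : sm ga N6891 = N6891 := ded_15_1 (flp_h L54354) L39838 L54354
theorem L54357 : sm gb N6891 = N5046 := ded_22_1 (flp_h L39912) (flp_b L39839) L54354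
theorem L54359 : sm gf N6891 = N5041 := ded_40_1 (flp_h L39875) (flp_f L39843) L54354
theorem L54361 : sm gd N6891 = N6891 := ded_33_1 (flp_h L54354) L39841 L29206 (flp_d L39841) L54354
theorem L54362 : sm gd N5037 = N6892 := rfl
theorem L54364 : sm ga N6892 = N6892 := ded_11_1 (flp_d L54362) L39847 L54362
theorem L54365 : sm gg N6892 = N6892 := ded_32_2 (flp_d L54362) L39850 L54362
theorem L54366 : sm gc N6892 = N5059 := ded_24_1 (flp_d L40000) L29335 (flp_d L29218) (flp_c L39848) L54362
theorem L54368 : sm ge N6892 = N6892 := ded_30_2 (flp_d L54362) (flp_e L39845) L29211 L39845 L54362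
theorem L54369 : sm gf N5037 = N6893 := rfl
theorem L54371 : sm ga N6893 = N6893 := ded_13_1 (flp_f L54369) L39847 L54369
theorem L54372 : sm gc N6893 = N5039 := ded_26_1 (flp_f L39858) (flp_c L39848) L54369
theorem L54374 : sm gi N5037 = N6894 := rfl
theorem L54376 : sm ga N6894 = N6894 := ded_16_1 (flp_i L54374) L39847 L54374
theorem L54377 : sm gc N6894 = N5040 := ded_29_1 (flp_i L39865) (flp_c L39848) L54374
theorem L54379 : sm ge N6894 = N5038 := ded_38_1 (flp_i L39851) L39845 L54374
theorem L54381 : sm gg N6894 = N6894 := ded_43_1 (flp_i L54374) L39850 L54374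
theorem L54382 : sm gh N5038 = N6895 := rfl
theorem L54384 : sm ga N6895 = N6895 := ded_15_1 (flp_h L54382) L39853 L54382
theorem L54385 : sm gc N6895 = N5041 := ded_28_1 (flp_h L39875) (flp_c L39854) L54382
theorem L54387 : sm gg N6895 = N6895 := ded_42_1 (flp_h L54382) L39857 L54382
theorem L54388 : sm gg N5039 = N6896 := rfl
theorem L54390 : sm ga N6896 = N6896 := ded_14_1 (flp_g L54388) L39860 L54388
theorem L54391 : sm gb N6896 = N5047 := ded_21_1 (flp_g L39919) (flp_b L39861) L54388
theorem L54393 : sm gd N6896 = N5063 := ded_32_1 (flp_g L40032) (flp_d L39863) L54388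
theorem L54395 : sm gf N6896 = N6896 := ded_39_1 (flp_g L54388) (flp_f L39858) L29217 L39858 L54388
theorem L54396 : sm gi N5039 = N6897 := rfl
theorem L54398 : sm ga N6897 = N6897 := ded_16_1 (flp_i L54396) L39860 L54396
theorem L54399 : sm gb N6897 = N5048 := ded_23_1 (flp_i L39926) (flp_b L39861) L54396
theorem L54401 : sm gd N6897 = N5064 := ded_34_1 (flp_i L40040) (flp_d L39863) L54396
theorem L54403 : sm gf N6897 = N5040 := ded_41_1 (flp_i L39865) L39858 L54396
theorem L54405 : sm gh N5040 = N6898 := rfl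
theorem L54407 : sm ga N6898 = N6898 := ded_15_1 (flp_h L54405) L39867 L54405
theorem L54408 : sm gb N6898 = N5049 := ded_22_1 (flp_h L39934) (flp_b L39868) L54405
theorem L54410 : sm ge N6898 = N5041 := ded_37_1 (flp_h L39875) (flp_e L39872) L54405
theorem L54412 : sm gg N6898 = N6898 := ded_42_1 (flp_h L54405) L39874 L54405
theorem L54413 : sm gf N5042 = N6899 := rfl
theorem L54415 : sm ga N6899 = N5050 := ded_13_1 (flp_f L39941) (flp_a L39884) L54413
theorem L54417 : sm gd N6899 = N6899 := ded_31_1 (flp_f L54413) L39888 L54413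
theorem L54418 : sm ge N6899 = N6899 := ded_35_1 (flp_f L54413) (flp_e L39882) L29232 L39882 L54413
theorem L54419 : sm gi N5042 = N6900 := rfl
theorem L54421 : sm ga N6900 = N5051 := ded_16_1 (flp_i L39946) (flp_a L39884) L54419
theorem L54423 : sm gd N6900 = N6900 := ded_34_1 (flp_i L54419) L39888 L54419
theorem L54424 : sm ge N6900 = N5043 := ded_38_1 (flp_i L39889) L39882 L54419
theorem L54426 : sm gg N6900 = N5045 := ded_43_1 (flp_i L39905) (flp_g L39886) L54419
theorem L54428 : sm gh N5043 = N6901 := rfl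
theorem L54430 : sm ga N6901 = N5052 := ded_15_1 (flp_h L39954) (flp_a L39891) L54428
theorem L54432 : sm gf N6901 = N6901 := ded_40_1 (flp_h L54428) L39895 L54428
theorem L54433 : sm gg N6901 = N5046 := ded_42_1 (flp_h L39912) (flp_g L39896) L54428
theorem L54435 : sm gd N6901 = N6901 := ded_33_1 (flp_h L54428) L39893 L29245 (flp_d L39893) L54428
theorem L54436 : sm gg N5044 = N6902 := rfl
theorem L54438 : sm ga N6902 = N5053 := ded_14_1 (flp_g L39961) (flp_a L39900) L54436
theorem L54440 : sm gd N6902 = N6902 := ded_32_1 (flp_g L54436) L39902 L54436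
theorem L54441 : sm ge N6902 = N5047 := ded_36_1 (flp_g L39919) (flp_e L39903) L54436
theorem L54443 : sm gi N5044 = N6903 := rfl
theorem L54445 : sm ga N6903 = N5054 := ded_16_1 (flp_i L39967) (flp_a L39900) L54443
theorem L54447 : sm gd N6903 = N6903 := ded_34_1 (flp_i L54443) L39902 L54443
theorem L54448 : sm ge N6903 = N5048 := ded_38_1 (flp_i L39926) (flp_e L39903) L54443
theorem L54450 : sm gf N6903 = N5045 := ded_41_1 (flp_i L39905) L39898 L54443
theorem L54452 : sm gh N5045 = N6904 := rfl
theorem L54454 : sm ga N6904 = N5055 := ded_15_1 (flp_h L39975) (flp_a L39907) L54452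
theorem L54456 : sm ge N6904 = N5046 := ded_37_1 (flp_h L39912) (flp_e L39910) L54452
theorem L54458 : sm gi N5047 = N6905 := rfl
theorem L54460 : sm ga N6905 = N5056 := ded_16_1 (flp_i L39980) (flp_a L39921) L54458
theorem L54462 : sm gd N6905 = N5066 := ded_34_1 (flp_i L40057) (flp_d L39923) L54458
theorem L54464 : sm gf N6905 = N6905 := ded_41_1 (flp_i L54458) L39925 L54458
theorem L54465 : sm gg N6905 = N5048 := ded_43_1 (flp_i L39926) L39919 L54458
theorem L54467 : sm gh N5048 = N6906 := rfl
theorem L54469 : sm ga N6906 = N5057 := ded_15_1 (flp_h L39988) (flp_a L39928) L54467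
theorem L54471 : sm gf N6906 = N5049 := ded_40_1 (flp_h L39934) (flp_f L39932) L54467
theorem L54473 : sm gd N5049 = N6907 := rfl
theorem L54475 : sm ga N6907 = N5058 := ded_11_1 (flp_d L39993) (flp_a L39936) L54473
theorem L54477 : sm gg N6907 = N6907 := ded_32_2 (flp_d L54473) L39940 L54473
theorem L54478 : sm ge N6907 = N6907 := ded_30_2 (flp_d L54473) L39938 L29279 (flp_e L39938) L54473
theorem L54479 : sm gh N6907 = N5068 := ded_33_2 (flp_d L40075) (flp_h L29388) (flp_d L29269) L39934 L54473
theorem L54481 : sm gg N5050 = N6908 := rfl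
theorem L54483 : sm gb N6908 = N6908 := ded_21_1 (flp_g L54481) L39943 L54481
theorem L54484 : sm gd N6908 = N6908 := ded_32_1 (flp_g L54481) L39944 L54481
theorem L54485 : sm ge N6908 = N6908 := ded_36_1 (flp_g L54481) L39945 L54481
theorem L54486 : sm gf N6908 = N5053 := ded_39_1 (flp_g L39961) (flp_f L29294) (flp_g L29283) L39941 L54481
theorem L54488 : sm gi N5050 = N6909 := rfl
theorem L54490 : sm gb N6909 = N6909 := ded_23_1 (flp_i L54488) L39943 L54488
theorem L54491 : sm gd N6909 = N6909 := ded_34_1 (flp_i L54488) L39944 L54488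
theorem L54492 : sm ge N6909 = N6909 := ded_38_1 (flp_i L54488) L39945 L54488
theorem L54493 : sm gf N6909 = N5051 := ded_41_1 (flp_i L39946) L39941 L54488
theorem L54495 : sm gh N5051 = N6910 := rfl
theorem L54497 : sm gb N6910 = N6910 := ded_22_1 (flp_h L54495) L39948 L54495
theorem L54498 : sm ge N6910 = N5052 := ded_37_1 (flp_h L39954) (flp_e L39950) L54495
theorem L54500 : sm gg N6910 = N5055 := ded_42_1 (flp_h L39975) (flp_g L39952) L54495
theorem L54502 : sm gi N5053 = N6911 := rfl
theorem L54504 : sm gb N6911 = N6911 := ded_23_1 (flp_i L54502) L39963 L54502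
theorem L54505 : sm gd N6911 = N6911 := ded_34_1 (flp_i L54502) L39964 L54502
theorem L54506 : sm ge N6911 = N5056 := ded_38_1 (flp_i L39980) (flp_e L39965) L54502
theorem L54508 : sm gg N6911 = N5054 := ded_43_1 (flp_i L39967) L39961 L54502
theorem L54510 : sm gh N5054 = N6912 := rfl
theorem L54512 : sm gb N6912 = N6912 := ded_22_1 (flp_h L54510) L39969 L54510
theorem L54513 : sm ge N6912 = N5057 := ded_37_1 (flp_h L39988) (flp_e L39971) L54510
theorem L54515 : sm gf N6912 = N5055 := ded_40_1 (flp_h L39975) (flp_f L39973) L54510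
theorem L54517 : sm gd N5055 = N6913 := rfl
theorem L54519 : sm gb N6913 = N6913 := ded_18_1 (flp_d L54517) L39977 L54517
theorem L54520 : sm ge N6913 = N6913 := ded_30_2 (flp_d L54517) L39978 L29311 (flp_e L39978) L54517
theorem L54521 : sm gh N6913 = N6913 := ded_33_2 (flp_d L54517) (flp_h L39975) L29303 L39975 L54517
theorem L54522 : sm gh N5056 = N6914 := rfl
theorem L54524 : sm gb N6914 = N6914 := ded_22_1 (flp_h L54522) L39982 L54522
theorem L54525 : sm gf N6914 = N6914 := ded_40_1 (flp_h L54522) L39985 L54522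
theorem L54526 : sm gg N6914 = N5057 := ded_42_1 (flp_h L39988) (flp_g L39986) L54522
theorem L54528 : sm gd N5057 = N6915 := rfl
theorem L54530 : sm gb N6915 = N6915 := ded_18_1 (flp_d L54528) L39990 L54528
theorem L54531 : sm gf N6915 = N5058 := ded_31_2 (flp_d L39993) (flp_f L39991) L54528
theorem L54533 : sm gh N6915 = N5070 := ded_33_2 (flp_d L40091) (flp_h L29405) (flp_d L29321) L39988 L54528
theorem L54535 : sm gc N5058 = N6916 := rfl
theorem L54537 : sm ge N6916 = N6916 := ded_25_2 (flp_c L54535) L39997 L54535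
theorem L54538 : sm gg N6916 = N6916 := ded_27_2 (flp_c L54535) L39996 L54535
theorem L54539 : sm gh N6916 = N5071 := ded_28_2 (flp_c L40097) (flp_h L39998) L54535
theorem L54541 : sm gf N5059 = N6917 := rfl
theorem L54543 : sm ga N6917 = N6917 := ded_13_1 (flp_f L54541) L40002 L54541
theorem L54544 : sm gb N6917 = N6917 := ded_20_1 (flp_f L54541) L40003 L54541
theorem L54545 : sm gd N6917 = N5060 := ded_31_1 (flp_f L40006) L40000 L54541
theorem L54547 : sm gh N5059 = N6918 := rfl
theorem L54549 : sm ga N6918 = N6918 := ded_15_1 (flp_h L54547) L40002 L54547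
theorem L54550 : sm gb N6918 = N6918 := ded_22_1 (flp_h L54547) L40003 L54547
theorem L54551 : sm ge N6918 = N6918 := ded_37_1 (flp_h L54547) L40005 L54547
theorem L54552 : sm gg N6918 = N6918 := ded_42_1 (flp_h L54547) L40004 L54547
theorem L54553 : sm gd N6918 = N6918 := ded_33_1 (flp_h L54547) (flp_d L40000) L29338 L40000 L54547
theorem L54554 : sm gi N5059 = N6919 := rfl
theorem L54556 : sm ga N6919 = N6919 := ded_16_1 (flp_i L54554) L40002 L54554
theorem L54557 : sm gb N6919 = N6919 := ded_23_1 (flp_i L54554) L40003 L54554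
theorem L54558 : sm gd N6919 = N5061 := ded_34_1 (flp_i L40014) L40000 L54554
theorem L54560 : sm ge N6919 = N6919 := ded_38_1 (flp_i L54554) L40005 L54554
theorem L54561 : sm gg N6919 = N6919 := ded_43_1 (flp_i L54554) L40004 L54554
theorem L54562 : sm gg N5060 = N6920 := rfl
theorem L54564 : sm ga N6920 = N6920 := ded_14_1 (flp_g L54562) L40008 L54562
theorem L54565 : sm gb N6920 = N6920 := ded_21_1 (flp_g L54562) L40009 L54562
theorem L54566 : sm gc N6920 = N5063 := ded_27_1 (flp_g L40032) (flp_c L40010) L54562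
theorem L54568 : sm ge N6920 = N6920 := ded_36_1 (flp_g L54562) L40013 L54562
theorem L54569 : sm gh N6920 = N6920 := ded_42_2 (flp_g L54562) L40012 L54562
theorem L54570 : sm gf N6920 = N6920 := ded_39_1 (flp_g L54562) (flp_f L40006) L29337 L40006 L54562
theorem L54571 : sm gi N5060 = N6921 := rfl
theorem L54573 : sm ga N6921 = N6921 := ded_16_1 (flp_i L54571) L40008 L54571
theorem L54574 : sm gb N6921 = N6921 := ded_23_1 (flp_i L54571) L40009 L54571
theorem L54575 : sm gc N6921 = N5064 := ded_29_1 (flp_i L40040) (flp_c L40010) L54571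
theorem L54577 : sm ge N6921 = N6921 := ded_38_1 (flp_i L54571) L40013 L54571
theorem L54578 : sm gf N6921 = N5061 := ded_41_1 (flp_i L40014) L40006 L54571
theorem L54580 : sm gh N5061 = N6922 := rfl
theorem L54582 : sm ga N6922 = N6922 := ded_15_1 (flp_h L54580) L40016 L54580
theorem L54583 : sm gb N6922 = N6922 := ded_22_1 (flp_h L54580) L40017 L54580
theorem L54584 : sm gc N6922 = N5065 := ded_28_1 (flp_h L40048) (flp_c L40018) L54580
theorem L54586 : sm ge N6922 = N5062 := ded_37_1 (flp_h L40023) (flp_e L40020) L54580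
theorem L54588 : sm gg N6922 = N6922 := ded_42_1 (flp_h L54580) L40022 L54580
theorem L54589 : sm gi N6922 = N6922 := ded_44_2 (flp_h L54580) (flp_i L40014) L29338 L40014 L54580
theorem L54590 : sm gd N5062 = N6923 := rfl
theorem L54592 : sm ga N6923 = N6923 := ded_11_1 (flp_d L54590) L40025 L54590
theorem L54593 : sm gb N6923 = N6923 := ded_18_1 (flp_d L54590) L40026 L54590
theorem L54594 : sm gf N6923 = N6923 := ded_31_2 (flp_d L54590) L40029 L54590
theorem L54595 : sm gg N6923 = N6923 := ded_32_2 (flp_d L54590) L40030 L54590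
theorem L54596 : sm gi N6923 = N6923 := ded_34_2 (flp_d L54590) L40031 L54590
theorem L54597 : sm gc N6923 = N6923 := ded_24_1 (flp_d L54590) L40027 L29370 (flp_c L40027) L54590
theorem L54598 : sm gh N6923 = N6923 := ded_33_2 (flp_d L54590) (flp_h L40023) L29345 L40023 L54590
theorem L54599 : sm gi N5063 = N6924 := rfl
theorem L54601 : sm ga N6924 = N6924 := ded_16_1 (flp_i L54599) L40034 L54599
theorem L54602 : sm gb N6924 = N5066 := ded_23_1 (flp_i L40057) (flp_b L40035) L54599
theorem L54604 : sm ge N6924 = N6924 := ded_38_1 (flp_i L54599) L40037 L54599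
theorem L54605 : sm gf N6924 = N6924 := ded_41_1 (flp_i L54599) L40039 L54599
theorem L54606 : sm gg N6924 = N5064 := ded_43_1 (flp_i L40040) L40032 L54599
theorem L54608 : sm gh N5064 = N6925 := rfl
theorem L54610 : sm ga N6925 = N6925 := ded_15_1 (flp_h L54608) L40042 L54608
theorem L54611 : sm gb N6925 = N5067 := ded_22_1 (flp_h L40066) (flp_b L40043) L54608
theorem L54613 : sm ge N6925 = N6925 := ded_37_1 (flp_h L54608) L40045 L54608
theorem L54614 : sm gf N6925 = N5065 := ded_40_1 (flp_h L40048) (flp_f L40046) L54608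
theorem L54616 : sm gi N6925 = N6925 := ded_44_2 (flp_h L54608) (flp_i L40040) L29353 L40040 L54608
theorem L54617 : sm gd N5065 = N6926 := rfl
theorem L54619 : sm ga N6926 = N6926 := ded_11_1 (flp_d L54617) L40050 L54617
theorem L54620 : sm gb N6926 = N5068 := ded_18_1 (flp_d L40075) (flp_b L40051) L54617
theorem L54622 : sm gg N6926 = N6926 := ded_32_2 (flp_d L54617) L40055 L54617
theorem L54623 : sm gi N6926 = N6926 := ded_34_2 (flp_d L54617) L40056 L54617
theorem L54624 : sm ge N6926 = N6926 := ded_30_2 (flp_d L54617) L40053 L29370 (flp_e L40053) L54617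
theorem L54625 : sm gh N5066 = N6927 := rfl
theorem L54627 : sm ga N6927 = N5069 := ded_15_1 (flp_h L40082) (flp_a L40059) L54625
theorem L54629 : sm gc N6927 = N6927 := ded_28_1 (flp_h L54625) L40061 L54625
theorem L54630 : sm ge N6927 = N6927 := ded_37_1 (flp_h L54625) L40062 L54625
theorem L54631 : sm gf N6927 = N6927 := ded_40_1 (flp_h L54625) L40063 L54625
theorem L54632 : sm gg N6927 = N5067 := ded_42_1 (flp_h L40066) (flp_g L40064) L54625
theorem L54634 : sm gi N6927 = N6927 := ded_44_2 (flp_h L54625) (flp_i L40057) L29378 L40057 L54625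
theorem L54635 : sm gd N5067 = N6928 := rfl
theorem L54637 : sm ga N6928 = N5070 := ded_11_1 (flp_d L40091) (flp_a L40068) L54635
theorem L54639 : sm gf N6928 = N5068 := ded_31_2 (flp_d L40075) (flp_f L40072) L54635
theorem L54641 : sm gi N6928 = N6928 := ded_34_2 (flp_d L54635) L40074 L54635
theorem L54642 : sm gc N5068 = N6929 := rfl
theorem L54644 : sm ga N6929 = N5071 := ded_10_1 (flp_c L40097) (flp_a L40077) L54642
theorem L54646 : sm ge N6929 = N6929 := ded_25_2 (flp_c L54642) L40081 L54642
theorem L54647 : sm gg N6929 = N6929 := ded_27_2 (flp_c L54642) L40079 L54642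
theorem L54648 : sm gi N6929 = N6929 := ded_29_2 (flp_c L54642) L40080 L54642
theorem L54649 : sm gd N6929 = N6929 := ded_24_2 (flp_c L54642) (flp_d L40075) L29392 L40075 L54642
theorem L54650 : sm gd N5069 = N6930 := rfl
theorem L54654 : sm gg N6930 = N5070 := ded_32_2 (flp_d L40091) (flp_g L40088) L54650
theorem L54657 : sm gc N5070 = N6931 := rfl
theorem L54659 : sm gf N6931 = N5071 := ded_26_2 (flp_c L40097) (flp_f L40094) L54657
theorem L54663 : sm ge N5070 = N6932 := rfl
theorem L54669 : sm gb N5071 = N6933 := rfl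
theorem L54676 : sm gc N5072 = N6934 := rfl
theorem L54681 : sm gd N6934 = N5379 := ded_24_2 (flp_c L42573) (flp_d L31225) (flp_c L29424) L40103 L54676
theorem L54683 : sm gg N5072 = N6935 := rfl
theorem L54688 : sm gd N6935 = N5073 := ded_32_1 (flp_g L40109) L40103 L54683
theorem L54691 : sm gh N5072 = N6936 := rfl
theorem L54694 : sm gb N6936 = N5081 := ded_22_1 (flp_h L40177) (flp_b L40106) L54691
theorem L54697 : sm gf N5073 = N6937 := rfl
theorem L54702 : sm gc N6937 = N5382 := ded_26_1 (flp_f L42595) (flp_c L40114) L54697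
theorem L54720 : sm gi N5074 = N6940 := rfl
theorem L54771 : sm gi N5078 = N6946 := rfl
theorem L54777 : sm ge N6946 = N5079 := ded_38_1 (flp_i L40161) L40154 L54771
theorem L54779 : sm gh N5079 = N6947 := rfl
theorem L54793 : sm gh N5080 = N6949 := rfl
theorem L54795 : sm ga N6949 = N5099 := ded_15_1 (flp_h L40319) (flp_a L40171) L54793
theorem L54799 : sm gg N6949 = N5081 := ded_42_1 (flp_h L40177) L40169 L54793
theorem L54807 : sm gi N5081 = N6951 := rfl
theorem L54813 : sm gh N5082 = N6952 := rfl
theorem L54815 : sm ga N6952 = N5102 := ded_15_1 (flp_h L40336) (flp_a L40185) L54813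
theorem L54849 : sm gi N5084 = N6957 := rfl
theorem L54851 : sm ga N6957 = N5107 := ded_16_1 (flp_i L40366) (flp_a L40201) L54849
theorem L54874 : sm gf N5088 = N6960 := rfl
theorem L54881 : sm ge N6960 = N5090 := ded_35_1 (flp_f L40245) (flp_e L29504) (flp_f L29491) L40228 L54874
theorem L54883 : sm gi N5088 = N6961 := rfl
theorem L54887 : sm gc N6961 = N5145 := ded_29_1 (flp_i L40670) (flp_c L40232) L54883
theorem L54907 : sm gi N5090 = N6964 := rfl
theorem L54925 : sm gd N5093 = N6966 := rfl
theorem L54931 : sm gf N6966 = N5094 := ded_31_2 (flp_d L40275) (flp_f L40273) L54925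
theorem L54951 : sm gi N5094 = N6969 := rfl
theorem L54957 : sm gd N6969 = N5095 := ded_34_1 (flp_i L40286) L40275 L54951
theorem L54961 : sm gg N6969 = N5097 := ded_43_1 (flp_i L40303) (flp_g L40281) L54951
theorem L54978 : sm gh N5097 = N6972 := rfl
theorem L55005 : sm gi N5099 = N6976 := rfl
theorem L55023 : sm gi N5100 = N6979 := rfl
theorem L55033 : sm gi N5102 = N6981 := rfl
theorem L55046 : sm ge N5103 = N6983 := rfl
theorem L55049 : sm gg N6983 = N5106 := ded_36_2 (flp_e L40361) (flp_g L40346) L55046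
theorem L55051 : sm gd N6983 = N5108 := ded_30_1 (flp_e L40371) (flp_d L29599) (flp_e L29585) L40343 L55046
theorem L55053 : sm gi N5103 = N6984 := rfl
theorem L55077 : sm gf N5106 = N6988 := rfl
theorem L55080 : sm gd N6988 = N5110 := ded_31_1 (flp_f L40388) (flp_d L40364) L55077
theorem L55082 : sm gi N5106 = N6989 := rfl
theorem L55089 : sm gh N5107 = N6990 := rfl
theorem L55092 : sm gf N5108 = N6991 := rfl
theorem L55098 : sm gi N5108 = N6992 := rfl
theorem L55101 : sm gc N6992 = N5176 := ded_29_1 (flp_i L40904) (flp_c L40374) L55098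
theorem L55105 : sm gg N6992 = N5111 := ded_43_1 (flp_i L40396) (flp_g L40376) L55098
theorem L55107 : sm gh N5109 = N6993 := rfl
theorem L55110 : sm gc N6993 = N5177 := ded_28_1 (flp_h L40912) (flp_c L40382) L55107
theorem L55112 : sm gg N6993 = N5112 := ded_42_1 (flp_h L40403) (flp_g L40386) L55107
theorem L55115 : sm gg N5110 = N6994 := rfl
theorem L55120 : sm ge N6994 = N5113 := ded_36_1 (flp_g L40411) (flp_e L40394) L55115
theorem L55123 : sm gi N5110 = N6995 := rfl
theorem L55128 : sm ge N6995 = N5114 := ded_38_1 (flp_i L40417) (flp_e L40394) L55123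
theorem L55130 : sm gf N6995 = N5111 := ded_41_1 (flp_i L40396) L40388 L55123
theorem L55132 : sm gh N5111 = N6996 := rfl
theorem L55140 : sm gi N5113 = N6997 := rfl
theorem L55145 : sm gg N6997 = N5114 := ded_43_1 (flp_i L40417) L40411 L55140
theorem L55147 : sm gh N5114 = N6998 := rfl
theorem L55176 : sm gb N5118 = N7002 := rfl
theorem L55180 : sm gg N7002 = N5120 := ded_21_2 (flp_b L40463) (flp_g L40450) L55176
theorem L55183 : sm gc N7002 = N5126 := ded_17_2 (flp_b L40506) (flp_c L29698) (flp_b L29656) L40446 L55176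
theorem L55209 : sm gi N5120 = N7006 := rfl
theorem L55230 : sm ge N5123 = N7009 := rfl
theorem L55237 : sm gf N7009 = N5194 := ded_35_2 (flp_e L41033) L30077 (flp_e L29702) (flp_f L40487) L55230
theorem L55239 : sm gi N5123 = N7010 := rfl
theorem L55246 : sm gf N7010 = N5127 := ded_41_1 (flp_i L40514) (flp_f L40487) L55239
theorem L55256 : sm gh N5125 = N7012 := rfl
theorem L55258 : sm ga N7012 = N5429 := ded_15_1 (flp_h L42929) (flp_a L40500) L55256
theorem L55273 : sm gi N5126 = N7014 := rfl
theorem L55282 : sm gh N5127 = N7015 := rfl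
theorem L55290 : sm gg N7015 = N5131 := ded_42_1 (flp_h L40549) (flp_g L40523) L55282
theorem L55309 : sm gd N5131 = N7018 := rfl
theorem L55333 : sm gd N5133 = N7021 := rfl
theorem L55338 : sm gg N7021 = N5134 := ded_32_2 (flp_d L40577) (flp_g L40575) L55333
theorem L55340 : sm gh N7021 = N5137 := ded_33_2 (flp_d L40604) (flp_h L29767) (flp_d L29746) L40568 L55333
theorem L55368 : sm gi N5134 = N7025 := rfl
theorem L55395 : sm gc N5137 = N7028 := rfl
theorem L55399 : sm gg N7028 = N5139 := ded_27_2 (flp_c L40623) (flp_g L40609) L55395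
theorem L55403 : sm ge N5137 = N7029 := rfl
theorem L55405 : sm ga N7029 = N5167 := ded_12_1 (flp_e L40844) (flp_a L40606) L55403
theorem L55410 : sm gd N7029 = N5142 := ded_30_1 (flp_e L40645) (flp_d L29795) (flp_e L29774) L40604 L55403
theorem L55427 : sm ge N5139 = N7032 := rfl
theorem L55429 : sm ga N7032 = N5170 := ded_12_1 (flp_e L40867) (flp_a L40625) L55427
theorem L55433 : sm gi N5139 = N7033 := rfl
theorem L55450 : sm gi N5140 = N7035 := rfl
theorem L55452 : sm ga N7035 = N5173 := ded_16_1 (flp_i L40885) (flp_a L40632) L55450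
theorem L55457 : sm ge N7035 = N5141 := ded_38_1 (flp_i L40637) L40630 L55450
theorem L55459 : sm gh N5141 = N7036 := rfl
theorem L55466 : sm gf N5142 = N7037 := rfl
theorem L55490 : sm gg N5144 = N7040 := rfl
theorem L55495 : sm ge N7040 = N5147 := ded_36_1 (flp_g L40686) (flp_e L40668) L55490
theorem L55498 : sm gi N5144 = N7041 := rfl
theorem L55503 : sm ge N7041 = N5148 := ded_38_1 (flp_i L40693) (flp_e L40668) L55498
theorem L55505 : sm gf N7041 = N5145 := ded_41_1 (flp_i L40670) L40662 L55498
theorem L55507 : sm gh N5145 = N7042 := rfl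
theorem L55515 : sm gi N5147 = N7043 := rfl
theorem L55521 : sm gg N7043 = N5148 := ded_43_1 (flp_i L40693) L40686 L55515
theorem L55523 : sm gh N5148 = N7044 := rfl
theorem L55531 : sm gd N5149 = N7045 := rfl
theorem L55548 : sm ge N5150 = N7047 := rfl
theorem L55556 : sm gi N5150 = N7048 := rfl
theorem L55558 : sm ga N7048 = N5186 := ded_16_1 (flp_i L40976) (flp_a L40711) L55556
theorem L55567 : sm gb N5152 = N7049 := rfl
theorem L55569 : sm gg N7049 = N5154 := ded_21_2 (flp_b L40746) (flp_g L40733) L55567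
theorem L55592 : sm ga N5154 = N7052 := rfl
theorem L55594 : sm gc N7052 = N5442 := ded_10_2 (flp_a L43025) (flp_c L40750) L55592
theorem L55615 : sm gh N5157 = N7055 := rfl
theorem L55620 : sm ge N7055 = N5158 := ded_37_1 (flp_h L40776) L40768 L55615
theorem L55633 : sm gi N5158 = N7057 := rfl
theorem L55638 : sm gf N7057 = N5160 := ded_41_1 (flp_i L40792) (flp_f L40781) L55633
theorem L55680 : sm gi N5161 = N7063 := rfl
theorem L55709 : sm gc N5164 = N7067 := rfl
theorem L55711 : sm gf N7067 = N5166 := ded_26_2 (flp_c L40838) (flp_f L40825) L55709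
theorem L55714 : sm gd N7067 = N5184 := ded_24_2 (flp_c L40964) (flp_d L30026) (flp_c L29930) L40821 L55709
theorem L55730 : sm gb N5166 = N7070 := rfl
theorem L55734 : sm gg N7070 = N5169 := ded_21_2 (flp_b L40860) (flp_g L40840) L55730
theorem L55752 : sm gf N5167 = N7073 := rfl
theorem L55788 : sm gi N5169 = N7078 := rfl
theorem L55790 : sm gb N7078 = N5171 := ded_23_1 (flp_i L40871) L40860 L55788
theorem L55802 : sm gi N5170 = N7080 := rfl
theorem L55808 : sm gh N5171 = N7081 := rfl
theorem L55813 : sm gg N5172 = N7082 := rfl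
theorem L55815 : sm gb N7082 = N5231 := ded_21_1 (flp_g L41312) (flp_b L40880) L55813
theorem L55820 : sm gi N5172 = N7083 := rfl
theorem L55822 : sm gb N7083 = N5232 := ded_23_1 (flp_i L41318) (flp_b L40880) L55820
theorem L55827 : sm gf N7083 = N5173 := ded_41_1 (flp_i L40885) L40878 L55820
theorem L55829 : sm gh N5173 = N7084 := rfl
theorem L55848 : sm gh N5176 = N7087 := rfl
theorem L55896 : sm gb N5184 = N7093 := rfl
theorem L55898 : sm gf N7093 = N5187 := ded_20_2 (flp_b L40985) (flp_f L40966) L55896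
theorem L55910 : sm gi N5184 = N7095 := rfl
theorem L55912 : sm gc N7095 = N5186 := ded_29_1 (flp_i L40976) L40964 L55910
theorem L55924 : sm gh N5186 = N7097 := rfl
theorem L55933 : sm ga N5187 = N7098 := rfl
theorem L55985 : sm ge N5193 = N7105 := rfl
theorem L55991 : sm gi N5193 = N7106 := rfl
theorem L55997 : sm gf N7106 = N5199 := ded_41_1 (flp_i L41077) (flp_f L41029) L55991
theorem L56000 : sm gd N5194 = N7107 := rfl
theorem L56002 : sm ga N7107 = N5459 := ded_11_1 (flp_d L43154) (flp_a L41035) L56000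
theorem L56005 : sm ge N7107 = N5257 := ded_30_2 (flp_d L41522) (flp_e L30422) (flp_d L30081) L41033 L56000
theorem L56007 : sm gi N5194 = N7108 := rfl
theorem L56013 : sm ge N7108 = N5195 := ded_38_1 (flp_i L41041) L41033 L56007
theorem L56016 : sm gh N5195 = N7109 := rfl
theorem L56022 : sm gf N7109 = N5200 := ded_40_1 (flp_h L41085) (flp_f L41049) L56016
theorem L56044 : sm gh N5199 = N7112 := rfl
theorem L56048 : sm gg N7112 = N5202 := ded_42_1 (flp_h L41103) (flp_g L41083) L56044
theorem L56077 : sm ge N5203 = N7116 := rfl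
theorem L56079 : sm ga N7116 = N5468 := ded_12_1 (flp_e L43217) (flp_a L41111) L56077
theorem L56110 : sm ge N5205 = N7120 := rfl
theorem L56114 : sm gh N7120 = N5217 := ded_37_2 (flp_e L41218) (flp_h L41133) L56110
theorem L56116 : sm gi N5205 = N7121 := rfl
theorem L56200 : sm gf N5211 = N7132 := rfl
theorem L56203 : sm gc N7132 = N5213 := ded_26_1 (flp_f L41190) (flp_c L41178) L56200
theorem L56205 : sm gh N7132 = N5228 := ded_40_2 (flp_f L41291) (flp_h L41180) L56200
theorem L56215 : sm gh N5212 = N7134 := rfl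
theorem L56221 : sm gi N7134 = N5230 := ded_44_2 (flp_h L41306) (flp_i L30245) (flp_h L30182) L41182 L56215
theorem L56223 : sm gg N5213 = N7135 := rfl
theorem L56228 : sm gh N7135 = N5231 := ded_42_2 (flp_g L41312) (flp_h L41194) L56223
theorem L56237 : sm gh N5214 = N7137 := rfl
theorem L56242 : sm gi N7137 = N5233 := ded_44_2 (flp_h L41326) (flp_i L30259) (flp_h L30189) L41197 L56237
theorem L56251 : sm ge N5216 = N7139 := rfl
theorem L56257 : sm gi N5216 = N7140 := rfl
theorem L56264 : sm gf N7140 = N5221 := ded_41_1 (flp_i L41244) (flp_f L41213) L56257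
theorem L56267 : sm gf N5217 = N7141 := rfl
theorem L56270 : sm ge N7141 = N5222 := ded_35_1 (flp_f L41253) (flp_e L30220) (flp_f L30201) L41218 L56267
theorem L56278 : sm gh N5218 = N7143 := rfl
theorem L56281 : sm gf N7143 = N5224 := ded_40_1 (flp_h L41267) (flp_f L41227) L56278
theorem L56337 : sm gi N5222 = N7151 := rfl
theorem L56342 : sm gf N7151 = N5223 := ded_41_1 (flp_i L41258) L41253 L56337
theorem L56344 : sm gh N5223 = N7152 := rfl
theorem L56349 : sm gg N7152 = N5233 := ded_42_1 (flp_h L41326) (flp_g L41265) L56344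
theorem L56390 : sm gi N5228 = N7159 := rfl
theorem L56393 : sm gc N7159 = N5232 := ded_29_1 (flp_i L41318) (flp_c L41294) L56390
theorem L56421 : sm gh N5232 = N7163 := rfl
theorem L56427 : sm gd N5233 = N7164 := rfl
theorem L56433 : sm gi N5234 = N7165 := rfl
theorem L56437 : sm gf N7165 = N5237 := ded_41_1 (flp_i L41353) (flp_f L41336) L56433
theorem L56441 : sm gh N5235 = N7166 := rfl
theorem L56445 : sm gf N7166 = N5236 := ded_40_1 (flp_h L41344) (flp_f L41342) L56441
theorem L56448 : sm gd N5236 = N7167 := rfl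
theorem L56455 : sm gh N5237 = N7168 := rfl
theorem L56459 : sm ge N7168 = N5240 := ded_37_1 (flp_h L41375) (flp_e L41357) L56455
theorem L56518 : sm gi N5243 = N7176 := rfl
theorem L56527 : sm gd N5244 = N7177 := rfl
theorem L56532 : sm gi N5244 = N7178 := rfl
theorem L56551 : sm gh N5246 = N7180 := rfl
theorem L56560 : sm gi N7180 = N5607 := ded_44_2 (flp_h L44289) (flp_i L32495) (flp_h L30348) L41423 L56551
theorem L56616 : sm ge N5254 = N7187 := rfl
theorem L56620 : sm gb N7187 = N5469 := ded_19_1 (flp_e L43223) (flp_b L41505) L56616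
theorem L56626 : sm gi N5254 = N7188 := rfl
theorem L56635 : sm gd N5255 = N7189 := rfl
theorem L56658 : sm gh N5257 = N7192 := rfl
theorem L56664 : sm gd N7192 = N5619 := ded_33_1 (flp_h L44382) (flp_d L32583) (flp_h L30429) L41522 L56658
theorem L56666 : sm gi N5257 = N7193 := rfl
theorem L56674 : sm gh N5258 = N7194 := rfl
theorem L56676 : sm ga N7194 = N5476 := ded_15_1 (flp_h L43277) (flp_a L41530) L56674
theorem L56684 : sm gi N7194 = N5621 := ded_44_2 (flp_h L44400) (flp_i L32591) (flp_h L30429) L41528 L56674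
theorem L56705 : sm gh N5261 = N7197 := rfl
theorem L56712 : sm gg N7197 = N5264 := ded_42_1 (flp_h L41586) (flp_g L41566) L56705
theorem L56714 : sm gi N7197 = N5624 := ded_44_2 (flp_h L44427) (flp_i L32618) (flp_h L30464) L41559 L56705
theorem L56765 : sm gc N5267 = N7204 := rfl
theorem L56767 : sm ga N7204 = N7204 := ded_10_1 (flp_c L56765) L41613 L56765
theorem L56768 : sm ge N7204 = N7204 := ded_25_2 (flp_c L56765) L41620 L56765
theorem L56769 : sm gf N7204 = N5379 := ded_26_2 (flp_c L42573) (flp_f L41616) L56765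
theorem L56771 : sm gi N7204 = N6934 := ded_29_2 (flp_c L54676) (flp_i L41618) L56765
theorem L56773 : sm gb N7204 = N7204 := ded_17_1 (flp_c L56765) L41614 L30558 (flp_b L41614) L56765
theorem L56774 : sm gg N5267 = N7205 := rfl
theorem L56784 : sm gh N5267 = N7206 := rfl
theorem L56787 : sm gb N7206 = N5276 := ded_22_1 (flp_h L41687) (flp_b L41614) L56784
theorem L56792 : sm gf N5268 = N7207 := rfl
theorem L56795 : sm gb N7207 = N5277 := ded_20_1 (flp_f L41695) (flp_b L41624) L56792
theorem L56797 : sm gi N7207 = N6937 := ded_41_2 (flp_f L54697) (flp_i L41628) L56792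
theorem L56799 : sm gg N7207 = N5382 := ded_39_2 (flp_f L42595) (flp_g L31232) (flp_f L30517) L41621 L56792
theorem L56801 : sm gh N5268 = N7208 := rfl
theorem L56806 : sm ge N7208 = N5270 := ded_37_1 (flp_h L41639) (flp_e L41626) L56801
theorem L56808 : sm gg N7208 = N5269 := ded_42_1 (flp_h L41630) L41621 L56801
theorem L56817 : sm gi N5269 = N7210 := rfl
theorem L56822 : sm ge N7210 = N5272 := ded_38_1 (flp_i L41654) (flp_e L41635) L56817
theorem L56826 : sm gh N7210 = N6940 := ded_44_1 (flp_i L54720) (flp_h L40118) (flp_i L30515) L41630 L56817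
theorem L56828 : sm gd N5270 = N7211 := rfl
theorem L56833 : sm gg N7211 = N5271 := ded_32_2 (flp_d L41646) (flp_g L41644) L56828
theorem L56845 : sm gc N5271 = N7213 := rfl
theorem L56847 : sm ga N7213 = N7213 := ded_10_1 (flp_c L56845) L41648 L56845
theorem L56848 : sm gf N7213 = N5273 := ded_26_2 (flp_c L41663) (flp_f L41651) L56845
theorem L56850 : sm gh N7213 = N7213 := ded_28_2 (flp_c L56845) L41653 L56845
theorem L56851 : sm gb N7213 = N7213 := ded_17_1 (flp_c L56845) L41649 L30594 (flp_b L41649) L56845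
theorem L56859 : sm gi N5271 = N7215 := rfl
theorem L56864 : sm gd N7215 = N5272 := ded_34_1 (flp_i L41654) L41646 L56859
theorem L56866 : sm gf N7215 = N5274 := ded_41_1 (flp_i L41669) (flp_f L41651) L56859
theorem L56868 : sm gi N5273 = N7216 := rfl
theorem L56872 : sm gc N7216 = N5274 := ded_29_1 (flp_i L41669) L41663 L56868
theorem L56911 : sm gi N5276 = N7221 := rfl
theorem L56917 : sm gf N7221 = N5390 := ded_41_1 (flp_i L42653) (flp_f L41693) L56911
theorem L56919 : sm gh N7221 = N6951 := ded_44_1 (flp_i L54807) (flp_h L40177) (flp_i L30556) L41687 L56911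
theorem L56980 : sm gi N5281 = N7229 := rfl
theorem L56985 : sm gd N7229 = N5282 := ded_34_1 (flp_i L41741) L41733 L56980
theorem L56989 : sm gi N5283 = N7230 := rfl
theorem L56991 : sm ga N7230 = N5303 := ded_16_1 (flp_i L41911) (flp_a L41753) L56989
theorem L57068 : sm ge N5291 = N7239 := rfl
theorem L57072 : sm gg N7239 = N5403 := ded_36_2 (flp_e L42751) (flp_g L41827) L57068
theorem L57077 : sm gh N5291 = N7240 := rfl
theorem L57081 : sm gf N7240 = N5292 := ded_40_1 (flp_h L41829) L41819 L57077
theorem L57083 : sm gg N7240 = N5404 := ded_42_1 (flp_h L42757) (flp_g L41827) L57077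
theorem L57092 : sm gi N5292 = N7242 := rfl
theorem L57099 : sm gh N7242 = N6976 := ded_44_1 (flp_i L55005) (flp_h L40319) (flp_i L30665) L41829 L57092
theorem L57129 : sm gi N5295 = N7247 := rfl
theorem L57138 : sm gh N7247 = N6981 := ded_44_1 (flp_i L55033) (flp_h L40336) (flp_i L30679) L41852 L57129
theorem L57196 : sm gf N5301 = N7256 := rfl
theorem L57200 : sm gh N7256 = N7256 := ded_40_2 (flp_f L57196) L41902 L57196
theorem L57202 : sm gi N5301 = N7257 := rfl
theorem L57208 : sm gg N7257 = N5303 := ded_43_1 (flp_i L41911) (flp_g L41900) L57202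
theorem L57252 : sm gb N5307 = N7263 := rfl
theorem L57258 : sm gc N7263 = N5315 := ded_17_2 (flp_b L42008) (flp_c L30803) (flp_b L30756) L41946 L57252
theorem L57260 : sm gi N5307 = N7264 := rfl
theorem L57265 : sm gg N7264 = N5310 := ded_43_1 (flp_i L41969) (flp_g L41949) L57260
theorem L57294 : sm gh N5310 = N7268 := rfl
theorem L57299 : sm gf N7268 = N5424 := ded_40_1 (flp_h L42896) (flp_f L41974) L57294
theorem L57327 : sm gi N5313 = N7272 := rfl
theorem L57329 : sm ge N7272 = N5314 := ded_38_1 (flp_i L42000) L41994 L57327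
theorem L57334 : sm gh N5314 = N7273 := rfl
theorem L57338 : sm gg N7273 = N5429 := ded_42_1 (flp_h L42929) (flp_g L42006) L57334
theorem L57340 : sm gd N7273 = N7012 := ded_33_1 (flp_h L55256) L40502 (flp_h L30801) (flp_d L42002) L57334
theorem L57374 : sm gh N5319 = N7278 := rfl
theorem L57379 : sm gf N7278 = N5434 := ded_40_1 (flp_h L42967) (flp_f L42044) L57374
theorem L57390 : sm gc N5321 = N7280 := rfl
theorem L57393 : sm ge N7280 = N5486 := ded_25_2 (flp_c L43357) (flp_e L42063) L57390
theorem L57397 : sm gi N7280 = N5379 := ded_29_2 (flp_c L42573) (flp_i L42061) L57390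
theorem L57400 : sm gd N7280 = N7204 := ded_24_2 (flp_c L56765) (flp_d L41611) (flp_c L30845) L42054 L57390
theorem L57402 : sm gg N5321 = N7281 := rfl
theorem L57405 : sm gb N7281 = N5330 := ded_21_1 (flp_g L42141) (flp_b L42057) L57402
theorem L57409 : sm ge N7281 = N5487 := ded_36_1 (flp_g L43365) (flp_e L42063) L57402
theorem L57422 : sm gf N5322 = N7283 := rfl
theorem L57427 : sm gc N7283 = N7207 := ded_26_1 (flp_f L56792) (flp_c L42070) L57422
theorem L57431 : sm gg N7283 = N6937 := ded_39_2 (flp_f L54697) (flp_g L40109) (flp_f L30849) L42065 L57422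
theorem L57451 : sm gi N5323 = N7286 := rfl
theorem L57456 : sm gc N7286 = N7210 := ded_29_1 (flp_i L56817) (flp_c L42081) L57451
theorem L57460 : sm gf N7286 = N6940 := ded_41_1 (flp_i L54720) (flp_f L42085) L57451
theorem L57464 : sm gd N5324 = N7287 := rfl
theorem L57471 : sm gh N7287 = N5492 := ded_33_2 (flp_d L43407) (flp_h L31850) (flp_d L30858) L42087 L57464
theorem L57484 : sm gc N5325 = N7289 := rfl
theorem L57487 : sm gf N7289 = N5327 := ded_26_2 (flp_c L42116) (flp_f L42101) L57484
theorem L57489 : sm gh N7289 = N5493 := ded_28_2 (flp_c L43415) (flp_h L42103) L57484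
theorem L57492 : sm gd N7289 = N7213 := ded_24_2 (flp_c L56845) (flp_d L41646) (flp_c L30867) L42096 L57484
theorem L57511 : sm ge N5327 = N7292 := rfl
theorem L57517 : sm gh N7292 = N5495 := ded_37_2 (flp_e L43429) (flp_h L42119) L57511
theorem L57519 : sm gd N7292 = N7292 := ded_30_1 (flp_e L57511) L42122 L41666 (flp_d L42122) L57511
theorem L57520 : sm gi N5327 = N7293 := rfl
theorem L57524 : sm gc N7293 = N5329 := ded_29_1 (flp_i L42133) L42116 L57520
theorem L57538 : sm gi N5328 = N7295 := rfl
theorem L57543 : sm gd N7295 = N6946 := ded_34_1 (flp_i L54771) (flp_d L42131) L57538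
theorem L57547 : sm gh N7295 = N7295 := ded_44_1 (flp_i L57538) L42129 L31878 (flp_h L42129) L57538
theorem L57568 : sm gd N5331 = N7298 := rfl
theorem L57574 : sm gh N7298 = N5334 := ded_33_2 (flp_d L42181) (flp_h L30910) L30889 L42152 L57568
theorem L57587 : sm gh N5332 = N7300 := rfl
theorem L57595 : sm gg N7300 = N6952 := ded_42_1 (flp_h L54813) (flp_g L42169) L57587
theorem L57629 : sm gi N5334 = N7305 := rfl
theorem L57635 : sm gf N7305 = N6957 := ded_41_1 (flp_i L54849) (flp_f L42185) L57629
theorem L57682 : sm gi N5340 = N7311 := rfl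
theorem L57684 : sm ga N7311 = N5362 := ded_16_1 (flp_i L42423) (flp_a L42237) L57682
theorem L57687 : sm gd N7311 = N6964 := ded_34_1 (flp_i L54907) (flp_d L42240) L57682
theorem L57692 : sm gd N5342 = N7312 := rfl
theorem L57698 : sm gf N7312 = N5343 := ded_31_2 (flp_d L42264) (flp_f L42260) L57692
theorem L57700 : sm gg N7312 = N6966 := ded_32_2 (flp_d L54925) (flp_g L42262) L57692
theorem L57703 : sm gi N5342 = N7313 := rfl
theorem L57713 : sm gh N7313 = N5397 := ded_44_1 (flp_i L42706) (flp_h L31316) (flp_i L30971) L42254 L57703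
theorem L57751 : sm gh N5346 = N7318 := rfl
theorem L57758 : sm gf N7318 = N6972 := ded_40_1 (flp_h L54978) (flp_f L42303) L57751
theorem L57763 : sm ge N5347 = N7319 := rfl
theorem L57769 : sm gi N7319 = N5403 := ded_38_2 (flp_e L42751) (flp_i L42311) L57763
theorem L57771 : sm gf N7319 = N5511 := ded_35_2 (flp_e L43556) (flp_f L31969) (flp_e L31024) L42305 L57763
theorem L57805 : sm ge N5349 = N7324 := rfl
theorem L57808 : sm gh N7324 = N5355 := ded_37_2 (flp_e L42371) (flp_h L42328) L57805
theorem L57810 : sm gd N7324 = N5516 := ded_30_1 (flp_e L43591) (flp_d L31984) (flp_e L31032) L42323 L57805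
theorem L57826 : sm gi N5351 = N7327 := rfl
theorem L57831 : sm gf N7327 = N5353 := ded_41_1 (flp_i L42354) (flp_f L42345) L57826
theorem L57833 : sm gg N7327 = N6981 := ded_43_1 (flp_i L55033) (flp_g L42347) L57826
theorem L57884 : sm gi N5355 = N7335 := rfl
theorem L57887 : sm gd N7335 = N5360 := ded_34_1 (flp_i L42408) (flp_d L42374) L57884
theorem L57898 : sm gf N5357 = N7337 := rfl
theorem L57904 : sm gi N5357 = N7338 := rfl
theorem L57910 : sm gg N7338 = N5360 := ded_43_1 (flp_i L42408) (flp_g L42387) L57904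
theorem L57964 : sm gb N5365 = N7345 := rfl
theorem L57967 : sm gg N7345 = N5367 := ded_21_2 (flp_b L42466) (flp_g L42454) L57964
theorem L57970 : sm gc N7345 = N5373 := ded_17_2 (flp_b L42519) (flp_c L31180) (flp_b L31129) L42451 L57964
theorem L58043 : sm gi N5371 = N7354 := rfl
theorem L58045 : sm ga N7354 = N7272 := ded_16_1 (flp_i L57327) (flp_a L42503) L58043
theorem L58072 : sm gi N5373 = N7357 := rfl
theorem L58078 : sm gg N7357 = N5377 := ded_43_1 (flp_i L42555) (flp_g L42523) L58072
theorem L58090 : sm gi N5376 = N7359 := rfl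
theorem L58092 : sm ga N7359 = N5377 := ded_16_1 (flp_i L42555) L42546 L58090
theorem L58118 : sm gg N5379 = N7362 := rfl
theorem L58124 : sm ge N7362 = N5533 := ded_36_1 (flp_g L43715) (flp_e L42576) L58118
theorem L58201 : sm ge N5387 = N7373 := rfl
theorem L58203 : sm ga N7373 = N5403 := ded_12_1 (flp_e L42751) (flp_a L42632) L58201
theorem L58206 : sm gf N7373 = N5538 := ded_35_2 (flp_e L43752) (flp_f L32128) (flp_e L31269) L42630 L58201
theorem L58215 : sm gd N5388 = N7375 := rfl
theorem L58222 : sm gh N7375 = N5392 := ded_33_2 (flp_d L42668) (flp_h L31284) (flp_d L31267) L42637 L58215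
theorem L58224 : sm gi N5388 = N7376 := rfl
theorem L58229 : sm ge N7376 = N5540 := ded_38_1 (flp_i L43767) (flp_e L42642) L58224
theorem L58231 : sm gg N7376 = N5390 := ded_43_1 (flp_i L42653) (flp_g L42644) L58224
theorem L58299 : sm gc N5396 = N7386 := rfl
theorem L58301 : sm ga N7386 = N5416 := ded_10_1 (flp_c L42835) (flp_a L42701) L58299
theorem L58303 : sm gf N7386 = N5398 := ded_26_2 (flp_c L42712) (flp_f L42703) L58299
theorem L58360 : sm gh N5401 = N7394 := rfl
theorem L58362 : sm ga N7394 = N5424 := ded_15_1 (flp_h L42896) (flp_a L42738) L58360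
theorem L58369 : sm gh N5403 = N7395 := rfl
theorem L58373 : sm ge N7395 = N5404 := ded_37_1 (flp_h L42757) L42751 L58369
theorem L58406 : sm gb N5407 = N7400 := rfl
theorem L58410 : sm gh N7400 = N5413 := ded_22_2 (flp_b L42818) (flp_h L42782) L58406
theorem L58413 : sm gi N5407 = N7401 := rfl
theorem L58415 : sm gc N7401 = N5408 := ded_29_1 (flp_i L42785) L42779 L58413
theorem L58419 : sm gh N5408 = N7402 := rfl
theorem L58423 : sm gi N7402 = N5415 := ded_44_2 (flp_h L42831) (flp_i L31407) (flp_h L31372) L42785 L58419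
theorem L58491 : sm ge N5416 = N7413 := rfl
theorem L58496 : sm gf N7413 = N5446 := ded_35_2 (flp_e L43055) L31579 (flp_e L31428) (flp_f L42837) L58491
theorem L58512 : sm gh N5418 = N7416 := rfl
theorem L58514 : sm gb N7416 = N5429 := ded_22_1 (flp_h L42929) (flp_b L42849) L58512
theorem L58623 : sm gh N5431 = N7431 := rfl
theorem L58629 : sm gg N7431 = N5434 := ded_42_1 (flp_h L42967) (flp_g L42949) L58623
theorem L58638 : sm gh N5433 = N7433 := rfl
theorem L58642 : sm ge N7433 = N5466 := ded_37_1 (flp_h L43203) (flp_e L42965) L58638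
theorem L58722 : sm gi N5442 = N7444 := rfl
theorem L58726 : sm gb N7444 = N5453 := ded_23_1 (flp_i L43109) (flp_b L43030) L58722
theorem L58761 : sm gi N5445 = N7449 := rfl
theorem L58768 : sm gf N7449 = N5451 := ded_41_1 (flp_i L43093) (flp_f L43049) L58761
theorem L58880 : sm gh N5459 = N7465 := rfl
theorem L58901 : sm gd N5461 = N7468 := rfl
theorem L58903 : sm gf N7468 = N5465 := ded_31_2 (flp_d L43195) (flp_f L43170) L58901
theorem L58908 : sm gh N7468 = N5477 := ded_33_2 (flp_d L43287) (flp_h L31757) (flp_d L31661) L43166 L58901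
theorem L58910 : sm gd N5462 = N7469 := rfl
theorem L58915 : sm gh N5463 = N7470 := rfl
theorem L58919 : sm gg N7470 = N5466 := ded_42_1 (flp_h L43203) (flp_g L43186) L58915
theorem L58961 : sm gf N5468 = N7476 := rfl
theorem L58964 : sm gh N7476 = N5485 := ded_40_2 (flp_f L43350) (flp_h L43220) L58961
theorem L58974 : sm gi N5469 = N7478 := rfl
theorem L59014 : sm gh N5472 = N7483 := rfl
theorem L59023 : sm gi N7483 = N5637 := ded_44_2 (flp_h L44526) (flp_i L32687) (flp_h L31734) L43246 L59014
theorem L59044 : sm gd N5476 = N7487 := rfl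
theorem L59048 : sm gi N7487 = N5641 := ded_34_2 (flp_d L44555) (flp_i L43285) L59044
theorem L59079 : sm ge N5480 = N7492 := rfl
theorem L59081 : sm gb N7492 = N5481 := ded_19_1 (flp_e L43321) (flp_b L43315) L59079
theorem L59083 : sm gg N7492 = N5484 := ded_36_2 (flp_e L43343) (flp_g L43317) L59079
theorem L59124 : sm gg N5485 = N7498 := rfl
theorem L59129 : sm gi N7498 = N5652 := ded_43_2 (flp_g L44623) (flp_i L43354) L59124
theorem L59131 : sm gg N5486 = N7499 := rfl
theorem L59133 : sm ga N7499 = N7499 := ded_14_1 (flp_g L59131) L43359 L59131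
theorem L59134 : sm gb N7499 = N7499 := ded_21_1 (flp_g L59131) L43363 L59131
theorem L59135 : sm gc N7499 = N5487 := ded_27_1 (flp_g L43365) L43357 L59131
theorem L59137 : sm gd N7499 = N7499 := ded_32_1 (flp_g L59131) L43364 L59131
theorem L59138 : sm gi N7499 = N5533 := ded_43_2 (flp_g L43715) (flp_i L43361) L59131
theorem L59140 : sm gh N5486 = N7500 := rfl
theorem L59144 : sm gc N7500 = N5488 := ded_28_1 (flp_h L43374) L43357 L59140
theorem L59147 : sm gf N5487 = N7501 := rfl
theorem L59149 : sm ga N7501 = N7501 := ded_13_1 (flp_f L59147) L43367 L59147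
theorem L59150 : sm gb N7501 = N5497 := ded_20_1 (flp_f L43443) (flp_b L43368) L59147
theorem L59152 : sm gd N7501 = N5489 := ded_31_1 (flp_f L43380) (flp_d L43370) L59147
theorem L59154 : sm gi N7501 = N5535 := ded_41_2 (flp_f L43729) (flp_i L43372) L59147
theorem L59156 : sm gg N7501 = N7501 := ded_39_2 (flp_f L59147) (flp_g L43365) L31827 L43365 L59147
theorem L59157 : sm gh N5487 = N7502 := rfl
theorem L59160 : sm gb N7502 = N5498 := ded_22_1 (flp_h L43453) (flp_b L43368) L59157
theorem L59180 : sm gh N5489 = N7505 := rfl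
theorem L59183 : sm gb N7505 = N5501 := ded_22_1 (flp_h L43475) (flp_b L43383) L59180
theorem L59186 : sm gf N7505 = N5490 := ded_40_1 (flp_h L43389) L43380 L59180
theorem L59190 : sm gd N5490 = N7506 := rfl
theorem L59195 : sm gg N7506 = N5491 := ded_32_2 (flp_d L43400) (flp_g L43397) L59190
theorem L59212 : sm gc N5492 = N7509 := rfl
theorem L59214 : sm ga N7509 = N7509 := ded_10_1 (flp_c L59212) L43409 L59212
theorem L59215 : sm gg N7509 = N5493 := ded_27_2 (flp_c L43415) (flp_g L43412) L59212
theorem L59217 : sm gi N7509 = N7509 := ded_29_2 (flp_c L59212) L43414 L59212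
theorem L59218 : sm gb N7509 = N7509 := ded_17_1 (flp_c L59212) L43410 L31928 (flp_b L43410) L59212
theorem L59219 : sm gd N7509 = N7509 := ded_24_2 (flp_c L59212) (flp_d L43407) L31855 L43407 L59212
theorem L59220 : sm ge N5492 = N7510 := rfl
theorem L59223 : sm gb N7510 = N5505 := ded_19_1 (flp_e L43507) (flp_b L43410) L59220
theorem L59225 : sm gg N7510 = N5494 := ded_36_2 (flp_e L43423) (flp_g L43412) L59220
theorem L59228 : sm ge N5493 = N7511 := rfl
theorem L59232 : sm gc N7511 = N5494 := ded_25_1 (flp_e L43423) L43415 L59228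
theorem L59234 : sm gi N7511 = N7511 := ded_38_2 (flp_e L59228) L43420 L59228
theorem L59235 : sm gf N5494 = N7512 := rfl
theorem L59241 : sm ge N7512 = N5496 := ded_35_1 (flp_f L43436) (flp_e L31873) (flp_f L31864) L43423 L59235
theorem L59243 : sm gd N5495 = N7513 := rfl
theorem L59245 : sm ga N7513 = N7513 := ded_11_1 (flp_d L59243) L43431 L59243
theorem L59246 : sm gb N7513 = N7513 := ded_18_1 (flp_d L59243) L43432 L59243
theorem L59247 : sm gi N7513 = N7513 := ded_34_2 (flp_d L59243) L43435 L59243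
theorem L59248 : sm gc N7513 = N7513 := ded_24_1 (flp_d L59243) L43433 L31879 (flp_c L43433) L59243
theorem L59249 : sm ge N7513 = N7513 := ded_30_2 (flp_d L59243) (flp_e L43429) L31872 L43429 L59243
theorem L59250 : sm gh N7513 = N7513 := ded_33_2 (flp_d L59243) (flp_h L57517) L57519 L57517 L59243
theorem L59251 : sm gf N5495 = N7514 := rfl
theorem L59255 : sm gc N7514 = N5496 := ded_26_1 (flp_f L43436) (flp_c L43433) L59251
theorem L59258 : sm gg N5496 = N7515 := rfl
theorem L59265 : sm ge N5497 = N7516 := rfl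
theorem L59267 : sm ga N7516 = N5511 := ded_12_1 (flp_e L43556) (flp_a L43445) L59265
theorem L59269 : sm gc N7516 = N7516 := ded_25_1 (flp_e L59265) L43447 L59265
theorem L59270 : sm gg N7516 = N7516 := ded_36_2 (flp_e L59265) L43452 L59265
theorem L59271 : sm gi N7516 = N5538 := ded_38_2 (flp_e L43752) (flp_i L43450) L59265
theorem L59273 : sm gh N5497 = N7517 := rfl
theorem L59278 : sm gf N7517 = N5498 := ded_40_1 (flp_h L43453) L43443 L59273
theorem L59289 : sm gi N5498 = N7519 := rfl
theorem L59296 : sm gh N7519 = N5540 := ded_44_1 (flp_i L43767) (flp_h L32136) (flp_i L31887) L43453 L59289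
theorem L59337 : sm ge N5502 = N7525 := rfl
theorem L59341 : sm gg N7525 = N5504 := ded_36_2 (flp_e L43500) (flp_g L43489) L59337
theorem L59344 : sm gd N7525 = N5505 := ded_30_1 (flp_e L43507) (flp_d L31921) (flp_e L31910) L43485 L59337
theorem L59360 : sm gf N5504 = N7528 := rfl
theorem L59362 : sm ga N7528 = N5523 := ded_13_1 (flp_f L43638) (flp_a L43502) L59360
theorem L59408 : sm ga N5510 = N7534 := rfl
theorem L59415 : sm gb N7534 = N5529 := ded_9_2 (flp_a L43681) (flp_b L32060) (flp_a L31963) L43549 L59408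
theorem L59417 : sm gh N5511 = N7535 := rfl
theorem L59421 : sm ge N7535 = N5512 := ded_37_1 (flp_h L43563) L43556 L59417
theorem L59455 : sm gi N5513 = N7540 := rfl
theorem L59460 : sm gg N7540 = N5517 := ded_43_1 (flp_i L43596) (flp_g L43573) L59455
theorem L59489 : sm gi N5516 = N7545 := rfl
theorem L59492 : sm ge N7545 = N5517 := ded_38_1 (flp_i L43596) L43591 L59489
theorem L59544 : sm gf N5522 = N7553 := rfl
theorem L59546 : sm gc N7553 = N5523 := ded_26_1 (flp_f L43638) (flp_c L43634) L59544
theorem L59608 : sm gd N5531 = N7561 := rfl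
theorem L59615 : sm gf N5533 = N7562 := rfl
theorem L59617 : sm ga N7562 = N7562 := ded_13_1 (flp_f L59615) L43717 L59615
theorem L59618 : sm gb N7562 = N7562 := ded_20_1 (flp_f L59615) L43718 L59615
theorem L59619 : sm gc N7562 = N5535 := ded_26_1 (flp_f L43729) (flp_c L43719) L59615
theorem L59621 : sm gd N7562 = N7562 := ded_31_1 (flp_f L59615) L43721 L59615
theorem L59622 : sm gg N7562 = N7562 := ded_39_2 (flp_f L59615) (flp_g L43715) L32103 L43715 L59615
theorem L59623 : sm gh N5533 = N7563 := rfl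
theorem L59627 : sm gc N7563 = N5536 := ded_28_1 (flp_h L43737) (flp_c L43719) L59623
theorem L59631 : sm gd N5534 = N7564 := rfl
theorem L59635 : sm gf N7564 = N7564 := ded_31_2 (flp_d L59631) L43728 L59631
theorem L59645 : sm ge N5535 = N7566 := rfl
theorem L59647 : sm ga N7566 = N7566 := ded_12_1 (flp_e L59645) L43731 L59645
theorem L59648 : sm gb N7566 = N5538 := ded_19_1 (flp_e L43752) (flp_b L43732) L59645
theorem L59650 : sm gg N7566 = N7566 := ded_36_2 (flp_e L59645) L43736 L59645
theorem L59651 : sm gh N5535 = N7567 := rfl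
theorem L59656 : sm gf N7567 = N5536 := ded_40_1 (flp_h L43737) L43729 L59651
theorem L59668 : sm gh N5538 = N7569 := rfl
theorem L59685 : sm gd N5541 = N7571 := rfl
theorem L59719 : sm gb N5545 = N7576 := rfl
theorem L59721 : sm gf N7576 = N5548 := ded_20_2 (flp_b L43830) (flp_f L43809) L59719
theorem L59724 : sm gh N7576 = N5564 := ded_22_2 (flp_b L43950) (flp_h L43812) L59719
theorem L59735 : sm gi N5545 = N7578 := rfl
theorem L59738 : sm gc N7578 = N5547 := ded_29_1 (flp_i L43821) L43806 L59735
theorem L59740 : sm gf N7578 = N5550 := ded_41_1 (flp_i L43846) (flp_f L43809) L59735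
theorem L59792 : sm gd N5549 = N7585 := rfl
theorem L59795 : sm gg N7585 = N5557 := ded_32_2 (flp_d L43898) (flp_g L43842) L59792
theorem L59799 : sm gf N5549 = N7586 := rfl
theorem L59804 : sm gh N7586 = N5573 := ded_40_2 (flp_f L44022) (flp_h L43844) L59799
theorem L59815 : sm gh N5550 = N7588 := rfl
theorem L59822 : sm gi N7588 = N5575 := ded_44_2 (flp_h L44038) (flp_i L32300) (flp_h L32201) L43846 L59815
theorem L59824 : sm gg N5551 = N7589 := rfl
theorem L59829 : sm gh N7589 = N5576 := ded_42_2 (flp_g L44045) (flp_h L43858) L59824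
theorem L59831 : sm gf N7589 = N5561 := ded_39_1 (flp_g L43926) (flp_f L32239) (flp_g L32207) L43853 L59824
theorem L59885 : sm gh N5556 = N7597 := rfl
theorem L59891 : sm gi N7597 = N5583 := ded_44_2 (flp_h L44100) (flp_i L32345) (flp_h L32223) L43892 L59885
theorem L59900 : sm gi N5557 = N7599 := rfl
theorem L59904 : sm gd N7599 = N5559 := ded_34_1 (flp_i L43911) L43898 L59900
theorem L59922 : sm gh N5559 = N7602 := rfl
theorem L59929 : sm gi N7602 = N5586 := ded_44_2 (flp_h L44122) (flp_i L32360) (flp_h L32231) L43911 L59922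
theorem L59938 : sm gi N5561 = N7604 := rfl
theorem L59944 : sm gg N7604 = N5562 := ded_43_1 (flp_i L43934) L43926 L59938
theorem L59946 : sm gh N5562 = N7605 := rfl
theorem L59953 : sm gi N7605 = N5589 := ded_44_2 (flp_h L44145) (flp_i L32381) (flp_h L32244) L43934 L59946
theorem L59972 : sm ge N5564 = N7608 := rfl
theorem L59974 : sm gb N7608 = N5565 := ded_19_1 (flp_e L43958) L43950 L59972
theorem L60002 : sm gi N5565 = N7612 := rfl
theorem L60007 : sm ge N7612 = N5566 := ded_38_1 (flp_i L43964) L43958 L60002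
theorem L60010 : sm gh N5566 = N7613 := rfl
theorem L60015 : sm gf N7613 = N5575 := ded_40_1 (flp_h L44038) (flp_f L43971) L60010
theorem L60042 : sm ge N5570 = N7617 := rfl
theorem L60044 : sm ga N7617 = N5571 := ded_12_1 (flp_e L44005) L43997 L60042
theorem L60051 : sm gi N5570 = N7618 := rfl
theorem L60059 : sm gg N7618 = N5580 := ded_43_1 (flp_i L44076) (flp_g L44002) L60051
theorem L60092 : sm gi N5573 = N7623 := rfl
theorem L60095 : sm gc N7623 = N5577 := ded_29_1 (flp_i L44053) (flp_c L44025) L60092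
theorem L60117 : sm gi N5576 = N7626 := rfl
theorem L60125 : sm gg N7626 = N5577 := ded_43_1 (flp_i L44053) L44045 L60117
theorem L60189 : sm gd N5583 = N7635 := rfl
theorem L60194 : sm gh N7635 = N5612 := ded_33_2 (flp_d L44332) (flp_h L32548) (flp_d L32350) L44100 L60189
theorem L60375 : sm gh N5603 = N7659 := rfl
theorem L60398 : sm gh N5605 = N7662 := rfl
theorem L60469 : sm gd N5614 = N7672 := rfl
theorem L60471 : sm ga N7672 = N5616 := ded_11_1 (flp_d L44360) (flp_a L44344) L60469
theorem L60473 : sm gb N7672 = N5631 := ded_18_1 (flp_d L44479) (flp_b L44346) L60469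
theorem L60488 : sm gh N5615 = N7674 := rfl
theorem L60494 : sm gf N7674 = N5624 := ded_40_1 (flp_h L44427) (flp_f L44357) L60488
theorem L60503 : sm gh N5616 = N7676 := rfl
theorem L60729 : sm gh N5639 = N7706 := rfl
theorem L60735 : sm gi N7706 = N5640 := ded_44_2 (flp_h L44549) (flp_i L32710) L32704 L44543 L60729
theorem L60737 : sm gd N5640 = N7707 := rfl
theorem L60741 : sm gh N7707 = N5641 := ded_33_2 (flp_d L44555) (flp_h L32718) (flp_d L32713) L44549 L60737
theorem L60836 : sm gg N5651 = N7722 := rfl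
theorem L60838 : sm gb N7722 = N5652 := ded_21_1 (flp_g L44623) (flp_b L44618) L60836
theorem L60843 : sm ge N5653 = N7723 := rfl
theorem L60845 : sm ga N7723 = N5682 := ded_12_1 (flp_e L44857) (flp_a L44631) L60843
theorem L60847 : sm gb N7723 = N5655 := ded_19_1 (flp_e L44647) (flp_b L44633) L60843
theorem L60849 : sm gc N7723 = N6178 := ded_25_1 (flp_e L48848) (flp_c L44635) L60843
theorem L60851 : sm gg N5653 = N7724 := rfl
theorem L60853 : sm ga N7724 = N5683 := ded_14_1 (flp_g L44863) (flp_a L44631) L60851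
theorem L60855 : sm gb N7724 = N5656 := ded_21_1 (flp_g L44653) (flp_b L44633) L60851
theorem L60857 : sm gc N7724 = N6179 := ded_27_1 (flp_g L48854) (flp_c L44635) L60851
theorem L60861 : sm gh N5653 = N7725 := rfl
theorem L60863 : sm ga N7725 = N5684 := ded_15_1 (flp_h L44871) (flp_a L44631) L60861
theorem L60865 : sm gb N7725 = N5657 := ded_22_1 (flp_h L44661) (flp_b L44633) L60861
theorem L60867 : sm gc N7725 = N6180 := ded_28_1 (flp_h L48863) (flp_c L44635) L60861
theorem L60869 : sm gf N7725 = N5654 := ded_40_1 (flp_h L44638) L44629 L60861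
theorem L60871 : sm gd N5654 = N7726 := rfl
theorem L60873 : sm ga N7726 = N5685 := ded_11_1 (flp_d L44879) (flp_a L44640) L60871
theorem L60875 : sm gb N7726 = N5658 := ded_18_1 (flp_d L44669) (flp_b L44642) L60871
theorem L60877 : sm gg N7726 = N7726 := ded_32_2 (flp_d L60871) L44646 L60871
theorem L60878 : sm gh N7726 = N7726 := ded_33_2 (flp_d L60871) (flp_h L44638) L32788 L44638 L60871
theorem L60879 : sm gi N5654 = N7727 := rfl
theorem L60881 : sm ga N7727 = N5686 := ded_16_1 (flp_i L44885) (flp_a L44640) L60879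
theorem L60883 : sm gb N7727 = N5659 := ded_23_1 (flp_i L44676) (flp_b L44642) L60879
theorem L60885 : sm gc N7727 = N6182 := ded_29_1 (flp_i L48880) (flp_c L44644) L60879
theorem L60887 : sm gg N7727 = N7727 := ded_43_1 (flp_i L60879) L44646 L60879
theorem L60888 : sm gd N5655 = N7728 := rfl
theorem L60890 : sm ga N7728 = N5664 := ded_11_1 (flp_d L44719) (flp_a L44649) L60888
theorem L60892 : sm gc N7728 = N7728 := ded_24_1 (flp_d L60888) L44651 L32814 (flp_c L44651) L60888
theorem L60893 : sm ge N7728 = N7728 := ded_30_2 (flp_d L60888) (flp_e L44647) L32800 L44647 L60888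
theorem L60902 : sm gh N5655 = N7730 := rfl
theorem L60904 : sm ga N7730 = N5666 := ded_15_1 (flp_h L44733) (flp_a L44649) L60902
theorem L60906 : sm gc N7730 = N5661 := ded_28_1 (flp_h L44692) (flp_c L44651) L60902
theorem L60908 : sm ge N7730 = N5657 := ded_37_1 (flp_h L44661) L44647 L60902
theorem L60910 : sm gh N5656 = N7731 := rfl
theorem L60914 : sm gc N7731 = N5662 := ded_28_1 (flp_h L44700) (flp_c L44657) L60910
theorem L60917 : sm gg N7731 = N5657 := ded_42_1 (flp_h L44661) L44653 L60910
theorem L60919 : sm gd N5657 = N7732 := rfl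
theorem L60921 : sm ga N7732 = N5668 := ded_11_1 (flp_d L44750) (flp_a L44663) L60919
theorem L60923 : sm gf N7732 = N5658 := ded_31_2 (flp_d L44669) (flp_f L44667) L60919
theorem L60925 : sm gc N7732 = N7732 := ded_24_1 (flp_d L60919) L44665 L32832 (flp_c L44665) L60919
theorem L60926 : sm gh N7732 = N7732 := ded_33_2 (flp_d L60919) (flp_h L44661) L32800 L44661 L60919
theorem L60927 : sm gi N5657 = N7733 := rfl
theorem L60929 : sm ga N7733 = N5669 := ded_16_1 (flp_i L44758) (flp_a L44663) L60927
theorem L60931 : sm gc N7733 = N5663 := ded_29_1 (flp_i L44710) (flp_c L44665) L60927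
theorem L60933 : sm gf N7733 = N5659 := ded_41_1 (flp_i L44676) (flp_f L44667) L60927
theorem L60935 : sm ge N5658 = N7734 := rfl
theorem L60937 : sm ga N7734 = N5670 := ded_12_1 (flp_e L44766) (flp_a L44671) L60935
theorem L60939 : sm gc N7734 = N7734 := ded_25_1 (flp_e L60935) L44674 L60935
theorem L60940 : sm gg N7734 = N7734 := ded_36_2 (flp_e L60935) L44673 L60935
theorem L60941 : sm gh N7734 = N7734 := ded_37_2 (flp_e L60935) L44675 L60935
theorem L60942 : sm gi N5658 = N7735 := rfl
theorem L60944 : sm ga N7735 = N5671 := ded_16_1 (flp_i L44773) (flp_a L44671) L60942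
theorem L60946 : sm gc N7735 = N7735 := ded_29_1 (flp_i L60942) L44674 L60942
theorem L60947 : sm gd N7735 = N5659 := ded_34_1 (flp_i L44676) L44669 L60942
theorem L60949 : sm gg N7735 = N7735 := ded_43_1 (flp_i L60942) L44673 L60942
theorem L60950 : sm gf N5660 = N7736 := rfl
theorem L60952 : sm ga N7736 = N5672 := ded_13_1 (flp_f L44781) (flp_a L44685) L60950
theorem L60954 : sm gb N7736 = N6191 := ded_20_1 (flp_f L48952) (flp_b L44687) L60950
theorem L60958 : sm gh N5660 = N7737 := rfl
theorem L60960 : sm ga N7737 = N5673 := ded_15_1 (flp_h L44787) (flp_a L44685) L60958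
theorem L60962 : sm gb N7737 = N6192 := ded_22_1 (flp_h L48958) (flp_b L44687) L60958
theorem L60966 : sm gg N7737 = N5661 := ded_42_1 (flp_h L44692) L44683 L60958
theorem L60968 : sm gd N5661 = N7738 := rfl
theorem L60970 : sm ga N7738 = N5674 := ded_11_1 (flp_d L44795) (flp_a L44694) L60968
theorem L60972 : sm gb N7738 = N6193 := ded_18_1 (flp_d L48966) (flp_b L44696) L60968
theorem L60974 : sm ge N7738 = N7738 := ded_30_2 (flp_d L60968) L44698 L32832 (flp_e L44698) L60968
theorem L60975 : sm gh N7738 = N7738 := ded_33_2 (flp_d L60968) (flp_h L44692) L32814 L44692 L60968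
theorem L60976 : sm gi N5661 = N7739 := rfl
theorem L60978 : sm ga N7739 = N5675 := ded_16_1 (flp_i L44801) (flp_a L44694) L60976
theorem L60980 : sm gb N7739 = N6194 := ded_23_1 (flp_i L48972) (flp_b L44696) L60976
theorem L60982 : sm ge N7739 = N5663 := ded_38_1 (flp_i L44710) (flp_e L44698) L60976
theorem L60984 : sm gi N5662 = N7740 := rfl
theorem L60988 : sm gb N7740 = N6195 := ded_23_1 (flp_i L48978) (flp_b L44704) L60984
theorem L60992 : sm gg N7740 = N5663 := ded_43_1 (flp_i L44710) (flp_g L44707) L60984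
theorem L60994 : sm gg N5664 = N7741 := rfl
theorem L60999 : sm gd N7741 = N5665 := ded_32_1 (flp_g L44725) L44719 L60994
theorem L61002 : sm gh N5664 = N7742 := rfl
theorem L61004 : sm gb N7742 = N5701 := ded_22_1 (flp_h L45013) (flp_b L44721) L61002
theorem L61006 : sm gc N7742 = N7742 := ded_28_1 (flp_h L61002) L44723 L61002
theorem L61007 : sm ge N7742 = N7742 := ded_37_1 (flp_h L61002) L44724 L61002
theorem L61015 : sm gh N5665 = N7744 := rfl
theorem L61017 : sm gb N7744 = N5703 := ded_22_1 (flp_h L45023) (flp_b L44727) L61015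
theorem L61023 : sm gg N7744 = N5666 := ded_42_1 (flp_h L44733) L44725 L61015
theorem L61025 : sm gd N5666 = N7745 := rfl
theorem L61027 : sm gb N7745 = N5704 := ded_18_1 (flp_d L45031) (flp_b L44735) L61025
theorem L61029 : sm gi N5666 = N7746 := rfl
theorem L61031 : sm gb N7746 = N5705 := ded_23_1 (flp_i L45033) (flp_b L44735) L61029
theorem L61033 : sm gc N7746 = N5675 := ded_29_1 (flp_i L44801) (flp_c L44737) L61029
theorem L61035 : sm ge N7746 = N5669 := ded_38_1 (flp_i L44758) (flp_e L44739) L61029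
theorem L61037 : sm gd N5667 = N7747 := rfl
theorem L61042 : sm gg N7747 = N5668 := ded_32_2 (flp_d L44750) (flp_g L44748) L61037
theorem L61046 : sm gi N5667 = N7748 := rfl
theorem L61055 : sm ge N5668 = N7749 := rfl
theorem L61057 : sm gb N7749 = N5708 := ded_19_1 (flp_e L45054) (flp_b L44752) L61055
theorem L61059 : sm gc N7749 = N7749 := ded_25_1 (flp_e L61055) L44756 L61055
theorem L61060 : sm gh N7749 = N7749 := ded_37_2 (flp_e L61055) L44757 L61055
theorem L61061 : sm gi N5668 = N7750 := rfl
theorem L61063 : sm gb N7750 = N5709 := ded_23_1 (flp_i L45059) (flp_b L44752) L61061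
theorem L61065 : sm gc N7750 = N7750 := ded_29_1 (flp_i L61061) L44756 L61061
theorem L61066 : sm gd N7750 = N5669 := ded_34_1 (flp_i L44758) L44750 L61061
theorem L61068 : sm gf N7750 = N5671 := ded_41_1 (flp_i L44773) (flp_f L44754) L61061
theorem L61070 : sm gf N5670 = N7751 := rfl
theorem L61072 : sm gb N7751 = N5710 := ded_20_1 (flp_f L45067) (flp_b L44768) L61070
theorem L61074 : sm gc N7751 = N7751 := ded_26_1 (flp_f L61070) L44770 L61070
theorem L61075 : sm gh N7751 = N7751 := ded_40_2 (flp_f L61070) L44772 L61070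
theorem L61076 : sm gi N5670 = N7752 := rfl
theorem L61078 : sm gb N7752 = N5711 := ded_23_1 (flp_i L45072) (flp_b L44768) L61076
theorem L61080 : sm gc N7752 = N7752 := ded_29_1 (flp_i L61076) L44770 L61076
theorem L61081 : sm ge N7752 = N5671 := ded_38_1 (flp_i L44773) L44766 L61076
theorem L61083 : sm gg N7752 = N7752 := ded_43_1 (flp_i L61076) L44771 L61076
theorem L61084 : sm gh N5671 = N7753 := rfl
theorem L61086 : sm gb N7753 = N5712 := ded_22_1 (flp_h L45079) (flp_b L44775) L61084
theorem L61088 : sm gc N7753 = N7753 := ded_28_1 (flp_h L61084) L44777 L61084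
theorem L61089 : sm gg N7753 = N7753 := ded_42_1 (flp_h L61084) L44780 L61084
theorem L61090 : sm gi N7753 = N7753 := ded_44_2 (flp_h L61084) (flp_i L44773) L32869 L44773 L61084
theorem L61098 : sm gd N5673 = N7755 := rfl
theorem L61102 : sm gg N7755 = N5674 := ded_32_2 (flp_d L44795) (flp_g L44793) L61098
theorem L61106 : sm gi N5673 = N7756 := rfl
theorem L61110 : sm ge N7756 = N5676 := ded_38_1 (flp_i L44807) (flp_e L44791) L61106
theorem L61112 : sm gg N7756 = N5675 := ded_43_1 (flp_i L44801) (flp_g L44793) L61106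
theorem L61114 : sm gc N5674 = N7757 := rfl
theorem L61116 : sm ge N7757 = N7757 := ded_25_2 (flp_c L61114) L44799 L61114
theorem L61117 : sm gh N7757 = N7757 := ded_28_2 (flp_c L61114) L44800 L61114
theorem L61118 : sm gi N5674 = N7758 := rfl
theorem L61120 : sm gb N7758 = N5681 := ded_23_1 (flp_i L44850) (flp_b L44797) L61118
theorem L61122 : sm gd N7758 = N5675 := ded_34_1 (flp_i L44801) L44795 L61118
theorem L61124 : sm ge N7758 = N7758 := ded_38_1 (flp_i L61118) L44799 L61118
theorem L61125 : sm gd N5677 = N7759 := rfl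
theorem L61127 : sm ga N7759 = N6214 := ded_11_1 (flp_d L49123) (flp_a L44817) L61125
theorem L61132 : sm gi N5677 = N7760 := rfl
theorem L61134 : sm ga N7760 = N6215 := ded_16_1 (flp_i L49128) (flp_a L44817) L61132
theorem L61136 : sm gc N7760 = N5719 := ded_29_1 (flp_i L45132) (flp_c L44819) L61132
theorem L61151 : sm gi N5678 = N7762 := rfl
theorem L61158 : sm gg N7762 = N5681 := ded_43_1 (flp_i L44850) (flp_g L44828) L61151
theorem L61160 : sm gb N5680 = N7763 := rfl
theorem L61162 : sm gd N7763 = N5722 := ded_18_2 (flp_b L45159) (flp_d L44848) L61160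
theorem L61166 : sm gi N5680 = N7764 := rfl
theorem L61168 : sm ga N7764 = N6219 := ded_16_1 (flp_i L49156) (flp_a L44844) L61166
theorem L61170 : sm gc N7764 = N5681 := ded_29_1 (flp_i L44850) L44842 L61166
theorem L61172 : sm gd N7764 = N5723 := ded_34_1 (flp_i L45165) (flp_d L44848) L61166
theorem L61175 : sm gh N5681 = N7765 := rfl
theorem L61177 : sm ga N7765 = N6220 := ded_15_1 (flp_h L49163) (flp_a L44852) L61175
theorem L61179 : sm ge N7765 = N7765 := ded_37_1 (flp_h L61175) L44856 L61175
theorem L61180 : sm gi N7765 = N7765 := ded_44_2 (flp_h L61175) (flp_i L44850) L32928 L44850 L61175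
theorem L61181 : sm gd N5682 = N7766 := rfl
theorem L61183 : sm gb N7766 = N5687 := ded_18_1 (flp_d L44892) (flp_b L44859) L61181
theorem L61185 : sm ge N7766 = N7766 := ded_30_2 (flp_d L61181) (flp_e L44857) L32953 L44857 L61181
theorem L61186 : sm gg N5682 = N7767 := rfl
theorem L61190 : sm gc N7767 = N6265 := ded_27_1 (flp_g L49567) (flp_c L44861) L61186
theorem L61194 : sm gh N5682 = N7768 := rfl
theorem L61196 : sm gb N7768 = N5689 := ded_22_1 (flp_h L44907) (flp_b L44859) L61194
theorem L61198 : sm gc N7768 = N6266 := ded_28_1 (flp_h L49573) (flp_c L44861) L61194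
theorem L61200 : sm ge N7768 = N5684 := ded_37_1 (flp_h L44871) L44857 L61194
theorem L61202 : sm gh N5683 = N7769 := rfl
theorem L61206 : sm gc N7769 = N6267 := ded_28_1 (flp_h L49579) (flp_c L44867) L61202
theorem L61211 : sm gd N5684 = N7770 := rfl
theorem L61213 : sm gb N7770 = N5691 := ded_18_1 (flp_d L44924) (flp_b L44873) L61211
theorem L61215 : sm gf N7770 = N5685 := ded_31_2 (flp_d L44879) (flp_f L44877) L61211
theorem L61217 : sm gh N7770 = N7770 := ded_33_2 (flp_d L61211) (flp_h L44871) L32953 L44871 L61211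
theorem L61218 : sm gi N5684 = N7771 := rfl
theorem L61220 : sm gb N7771 = N5692 := ded_23_1 (flp_i L44933) (flp_b L44873) L61218
theorem L61222 : sm gc N7771 = N6269 := ded_29_1 (flp_i L49594) (flp_c L44875) L61218
theorem L61224 : sm gf N7771 = N5686 := ded_41_1 (flp_i L44885) (flp_f L44877) L61218
theorem L61226 : sm gc N5685 = N7772 := rfl
theorem L61228 : sm gg N7772 = N7772 := ded_27_2 (flp_c L61226) L44883 L61226
theorem L61229 : sm gh N7772 = N7772 := ded_28_2 (flp_c L61226) L44884 L61226
theorem L61230 : sm gb N7772 = N5791 := ded_17_1 (flp_c L45706) L33537 (flp_c L32988) (flp_b L44881) L61226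
theorem L61232 : sm gd N7772 = N6270 := ded_24_2 (flp_c L49600) (flp_d L36324) (flp_c L32958) L44879 L61226
theorem L61234 : sm ge N5685 = N7773 := rfl
theorem L61236 : sm gb N7773 = N5693 := ded_19_1 (flp_e L44941) (flp_b L44881) L61234
theorem L61238 : sm gg N7773 = N7773 := ded_36_2 (flp_e L61234) L44883 L61234
theorem L61239 : sm gh N7773 = N7773 := ded_37_2 (flp_e L61234) L44884 L61234
theorem L61240 : sm gi N5685 = N7774 := rfl
theorem L61242 : sm gb N7774 = N5694 := ded_23_1 (flp_i L44949) (flp_b L44881) L61240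
theorem L61244 : sm gd N7774 = N5686 := ded_34_1 (flp_i L44885) L44879 L61240
theorem L61246 : sm gg N7774 = N7774 := ded_43_1 (flp_i L61240) L44883 L61240
theorem L61247 : sm gg N5687 = N7775 := rfl
theorem L61256 : sm gh N5687 = N7776 := rfl
theorem L61258 : sm ga N7776 = N5701 := ded_15_1 (flp_h L45013) (flp_a L44894) L61256
theorem L61260 : sm gc N7776 = N5734 := ded_28_1 (flp_h L45260) (flp_c L44896) L61256
theorem L61262 : sm ge N7776 = N7776 := ded_37_1 (flp_h L61256) L44898 L61256
theorem L61270 : sm gh N5688 = N7778 := rfl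
theorem L61274 : sm gc N7778 = N5696 := ded_28_1 (flp_h L44967) (flp_c L44903) L61270
theorem L61278 : sm gg N7778 = N5689 := ded_42_1 (flp_h L44907) L44899 L61270
theorem L61280 : sm gd N5689 = N7779 := rfl
theorem L61282 : sm ga N7779 = N5704 := ded_11_1 (flp_d L45031) (flp_a L44909) L61280
theorem L61284 : sm gi N5689 = N7780 := rfl
theorem L61286 : sm ga N7780 = N5705 := ded_16_1 (flp_i L45033) (flp_a L44909) L61284
theorem L61288 : sm gc N7780 = N5698 := ded_29_1 (flp_i L44987) (flp_c L44911) L61284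
theorem L61290 : sm ge N7780 = N5692 := ded_38_1 (flp_i L44933) (flp_e L44913) L61284
theorem L61292 : sm gd N5690 = N7781 := rfl
theorem L61297 : sm gg N7781 = N5691 := ded_32_2 (flp_d L44924) (flp_g L44922) L61292
theorem L61302 : sm gi N5690 = N7782 := rfl
theorem L61311 : sm ge N5691 = N7783 := rfl
theorem L61313 : sm ga N7783 = N5708 := ded_12_1 (flp_e L45054) (flp_a L44926) L61311
theorem L61315 : sm gc N7783 = N5802 := ded_25_1 (flp_e L45799) (flp_c L44930) L61311
theorem L61317 : sm gh N7783 = N7783 := ded_37_2 (flp_e L61311) L44932 L61311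
theorem L61318 : sm gi N5691 = N7784 := rfl
theorem L61320 : sm ga N7784 = N5709 := ded_16_1 (flp_i L45059) (flp_a L44926) L61318
theorem L61322 : sm gc N7784 = N5803 := ded_29_1 (flp_i L45804) (flp_c L44930) L61318
theorem L61324 : sm gd N7784 = N5692 := ded_34_1 (flp_i L44933) L44924 L61318
theorem L61326 : sm gf N7784 = N5694 := ded_41_1 (flp_i L44949) (flp_f L44928) L61318
theorem L61328 : sm gf N5693 = N7785 := rfl
theorem L61330 : sm ga N7785 = N5710 := ded_13_1 (flp_f L45067) (flp_a L44943) L61328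
theorem L61332 : sm gc N7785 = N5804 := ded_26_1 (flp_f L45812) (flp_c L44945) L61328
theorem L61334 : sm gh N7785 = N7785 := ded_40_2 (flp_f L61328) L44948 L61328
theorem L61335 : sm gi N5693 = N7786 := rfl
theorem L61337 : sm ga N7786 = N5711 := ded_16_1 (flp_i L45072) (flp_a L44943) L61335
theorem L61339 : sm gc N7786 = N5805 := ded_29_1 (flp_i L45818) (flp_c L44945) L61335
theorem L61341 : sm ge N7786 = N5694 := ded_38_1 (flp_i L44949) L44941 L61335
theorem L61343 : sm gg N7786 = N7786 := ded_43_1 (flp_i L61335) L44947 L61335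
theorem L61344 : sm gh N5694 = N7787 := rfl
theorem L61346 : sm ga N7787 = N5712 := ded_15_1 (flp_h L45079) (flp_a L44951) L61344
theorem L61348 : sm gc N7787 = N5806 := ded_28_1 (flp_h L45826) (flp_c L44953) L61344
theorem L61350 : sm gg N7787 = N7787 := ded_42_1 (flp_h L61344) L44957 L61344
theorem L61351 : sm gi N7787 = N7787 := ded_44_2 (flp_h L61344) (flp_i L44949) L32990 L44949 L61344
theorem L61352 : sm gh N5695 = N7788 := rfl
theorem L61359 : sm gf N7788 = N5696 := ded_40_1 (flp_h L44967) L44958 L61352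
theorem L61373 : sm gi N5696 = N7790 := rfl
theorem L61381 : sm gg N7790 = N5698 := ded_43_1 (flp_i L44987) (flp_g L44975) L61373
theorem L61383 : sm gc N5697 = N7791 := rfl
theorem L61391 : sm gi N5697 = N7792 := rfl
theorem L61395 : sm gb N7792 = N6290 := ded_23_1 (flp_i L49765) (flp_b L44981) L61391
theorem L61397 : sm gd N7792 = N5698 := ded_34_1 (flp_i L44987) L44977 L61391
theorem L61399 : sm ge N7792 = N5811 := ded_38_1 (flp_i L45871) (flp_e L44983) L61391
theorem L61401 : sm gf N5700 = N7793 := rfl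
theorem L61403 : sm gc N7793 = N5751 := ded_26_1 (flp_f L45405) (flp_c L45008) L61401
theorem L61414 : sm gd N5701 = N7795 := rfl
theorem L61416 : sm gh N7795 = N5704 := ded_33_2 (flp_d L45031) (flp_h L33048) L33037 L45013 L61414
theorem L61418 : sm gi N5701 = N7796 := rfl
theorem L61420 : sm gc N7796 = N5754 := ded_29_1 (flp_i L45421) (flp_c L45015) L61418
theorem L61422 : sm ge N7796 = N7796 := ded_38_1 (flp_i L61418) L45017 L61418
theorem L61430 : sm gd N5703 = N7798 := rfl
theorem L61432 : sm gg N7798 = N5704 := ded_32_2 (flp_d L45031) (flp_g L45029) L61430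
theorem L61434 : sm gi N5703 = N7799 := rfl
theorem L61442 : sm gc N5704 = N7800 := rfl
theorem L61444 : sm gd N7800 = N5716 := ded_24_2 (flp_c L45110) (flp_d L33102) (flp_c L33050) L45031 L61442
theorem L61446 : sm ge N5704 = N7801 := rfl
theorem L61448 : sm gd N7801 = N5708 := ded_30_1 (flp_e L45054) (flp_d L33061) (flp_e L33052) L45031 L61446
theorem L61450 : sm gi N5704 = N7802 := rfl
theorem L61452 : sm gd N7802 = N5705 := ded_34_1 (flp_i L45033) L45031 L61450
theorem L61470 : sm gf N5708 = N7805 := rfl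
theorem L61472 : sm gc N7805 = N5824 := ded_26_1 (flp_f L45965) (flp_c L45056) L61470
theorem L61474 : sm gh N7805 = N7805 := ded_40_2 (flp_f L61470) L45058 L61470
theorem L61475 : sm ge N7805 = N5710 := ded_35_1 (flp_f L45067) (flp_e L33074) (flp_f L33063) L45054 L61470
theorem L61477 : sm gi N5708 = N7806 := rfl
theorem L61479 : sm gc N7806 = N5825 := ded_29_1 (flp_i L45971) (flp_c L45056) L61477
theorem L61481 : sm ge N7806 = N5709 := ded_38_1 (flp_i L45059) L45054 L61477
theorem L61483 : sm gh N5709 = N7807 := rfl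
theorem L61485 : sm gc N7807 = N5826 := ded_28_1 (flp_h L45976) (flp_c L45061) L61483
theorem L61487 : sm gf N7807 = N5712 := ded_40_1 (flp_h L45079) (flp_f L45065) L61483
theorem L61489 : sm gi N7807 = N7807 := ded_44_2 (flp_h L61483) (flp_i L45059) L33067 L45059 L61483
theorem L61490 : sm gg N5710 = N7808 := rfl
theorem L61492 : sm gc N7808 = N5827 := ded_27_1 (flp_g L45983) (flp_c L45069) L61490
theorem L61494 : sm gh N7808 = N7808 := ded_42_2 (flp_g L61490) L45071 L61490
theorem L61495 : sm gf N7808 = N7808 := ded_39_1 (flp_g L61490) (flp_f L45067) L33078 L45067 L61490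
theorem L61496 : sm gi N5710 = N7809 := rfl
theorem L61498 : sm gc N7809 = N5828 := ded_29_1 (flp_i L45989) (flp_c L45069) L61496
theorem L61500 : sm gf N7809 = N5711 := ded_41_1 (flp_i L45072) L45067 L61496
theorem L61502 : sm gh N5711 = N7810 := rfl
theorem L61504 : sm gc N7810 = N5829 := ded_28_1 (flp_h L45995) (flp_c L45074) L61502
theorem L61506 : sm ge N7810 = N5712 := ded_37_1 (flp_h L45079) (flp_e L45076) L61502
theorem L61508 : sm gg N7810 = N7810 := ded_42_1 (flp_h L61502) L45078 L61502
theorem L61509 : sm gi N7810 = N7810 := ded_44_2 (flp_h L61502) (flp_i L45072) L33079 L45072 L61502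
theorem L61518 : sm gi N5713 = N7812 := rfl
theorem L61520 : sm gb N7812 = N5719 := ded_23_1 (flp_i L45132) (flp_b L45087) L61518
theorem L61533 : sm gi N5714 = N7814 := rfl
theorem L61539 : sm ge N7814 = N5833 := ded_38_1 (flp_i L46026) (flp_e L45098) L61533
theorem L61541 : sm gg N7814 = N5717 := ded_43_1 (flp_i L45116) (flp_g L45096) L61533
theorem L61551 : sm gi N5716 = N7816 := rfl
theorem L61555 : sm ge N7816 = N5835 := ded_38_1 (flp_i L46041) (flp_e L45112) L61551
theorem L61557 : sm gh N5717 = N7817 := rfl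
theorem L61565 : sm gc N5718 = N7818 := rfl
theorem L61571 : sm gh N7818 = N5776 := ded_28_2 (flp_c L45578) (flp_h L45130) L61565
theorem L61590 : sm gb N5720 = N7821 := rfl
theorem L61594 : sm gg N7821 = N5722 := ded_21_2 (flp_b L45159) (flp_g L45145) L61590
theorem L61596 : sm gh N7821 = N5779 := ded_22_2 (flp_b L45601) (flp_h L45147) L61590
theorem L61598 : sm gi N5720 = N7822 := rfl
theorem L61604 : sm ge N7822 = N5841 := ded_38_1 (flp_i L46088) (flp_e L45143) L61598
theorem L61606 : sm gg N7822 = N5723 := ded_43_1 (flp_i L45165) (flp_g L45145) L61598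
theorem L61642 : sm gc N5725 = N7827 := rfl
theorem L61644 : sm ga N7827 = N7827 := ded_10_1 (flp_c L61642) L45183 L61642
theorem L61645 : sm ge N7827 = N7827 := ded_25_2 (flp_c L61642) L45186 L61642
theorem L61646 : sm gd N7827 = N6383 := ded_24_2 (flp_c L50537) (flp_d L37014) (flp_c L33171) L45181 L61642
theorem L61648 : sm gg N5725 = N7828 := rfl
theorem L61656 : sm gh N5725 = N7829 := rfl
theorem L61658 : sm ga N7829 = N7829 := ded_15_1 (flp_h L61656) L45183 L61656
theorem L61659 : sm gb N7829 = N5734 := ded_22_1 (flp_h L45260) (flp_b L45184) L61656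
theorem L61661 : sm ge N7829 = N7829 := ded_37_1 (flp_h L61656) L45186 L61656
theorem L61662 : sm gf N5726 = N7830 := rfl
theorem L61669 : sm ge N7830 = N6937 := ded_35_1 (flp_f L54697) L40116 (flp_f L33181) (flp_e L45194) L61662
theorem L61687 : sm gi N5727 = N7833 := rfl
theorem L61690 : sm gb N7833 = N5738 := ded_23_1 (flp_i L45287) (flp_b L45199) L61687
theorem L61707 : sm gi N5728 = N7835 := rfl
theorem L61752 : sm gh N5732 = N7840 := rfl
theorem L61758 : sm gg N7840 = N6947 := ded_42_1 (flp_h L54779) (flp_g L45251) L61752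
theorem L61761 : sm gf N5733 = N7841 := rfl
theorem L61763 : sm ga N7841 = N5751 := ded_13_1 (flp_f L45405) (flp_a L45255) L61761
theorem L61774 : sm gd N5734 = N7843 := rfl
theorem L61780 : sm gi N5734 = N7844 := rfl
theorem L61782 : sm ga N7844 = N5754 := ded_16_1 (flp_i L45421) (flp_a L45262) L61780
theorem L61784 : sm ge N7844 = N7844 := ded_38_1 (flp_i L61780) L45264 L61780
theorem L61838 : sm gi N5739 = N7852 := rfl
theorem L61842 : sm gc N7852 = N5857 := ded_29_1 (flp_i L46223) (flp_c L45303) L61838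
theorem L61848 : sm gg N7852 = N5742 := ded_43_1 (flp_i L45323) (flp_g L45301) L61838
theorem L61913 : sm gi N5746 = N7860 := rfl
theorem L61915 : sm ga N7860 = N5770 := ded_16_1 (flp_i L45536) (flp_a L45361) L61913
theorem L61921 : sm gf N7860 = N5748 := ded_41_1 (flp_i L45379) (flp_f L45367) L61913
theorem L61943 : sm gb N5749 = N7863 := rfl
theorem L61945 : sm ge N7863 = N5868 := ded_19_2 (flp_b L46322) (flp_e L45393) L61943
theorem L61947 : sm gc N7863 = N6404 := ded_17_2 (flp_b L50697) (flp_c L37133) (flp_b L33299) L45389 L61943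
theorem L61965 : sm ge N5751 = N7866 := rfl
theorem L61971 : sm gh N5751 = N7867 := rfl
theorem L61983 : sm gi N5752 = N7869 := rfl
theorem L61987 : sm gg N7869 = N5754 := ded_43_1 (flp_i L45421) (flp_g L45414) L61983
theorem L61999 : sm gi N5753 = N7872 := rfl
theorem L62002 : sm gd N7872 = N5754 := ded_34_1 (flp_i L45421) L45416 L61999
theorem L62060 : sm gi N5759 = N7882 := rfl
theorem L62063 : sm gd N7882 = N5764 := ded_34_1 (flp_i L45489) (flp_d L45455) L62060
theorem L62065 : sm ge N7882 = N5760 := ded_38_1 (flp_i L45457) L45452 L62060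
theorem L62067 : sm gh N5760 = N7883 := rfl
theorem L62070 : sm gf N5761 = N7884 := rfl
theorem L62076 : sm ge N7884 = N6991 := ded_35_1 (flp_f L55092) (flp_e L40371) (flp_f L33362) L45462 L62070
theorem L62131 : sm gh N5767 = N7891 := rfl
theorem L62134 : sm gc N7891 = N5896 := ded_28_1 (flp_h L46529) (flp_c L45515) L62131
theorem L62136 : sm gf N7891 = N5768 := ded_40_1 (flp_h L45519) (flp_f L45517) L62131
theorem L62138 : sm gd N7891 = N7891 := ded_33_1 (flp_h L62131) (flp_d L50397) L50401 L50397 L62131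
theorem L62198 : sm gh N5774 = N7900 := rfl
theorem L62202 : sm ge N7900 = N5906 := ded_37_1 (flp_h L46598) (flp_e L45570) L62198
theorem L62217 : sm gi N5776 = N7903 := rfl
theorem L62226 : sm gi N5777 = N7904 := rfl
theorem L62234 : sm gf N7904 = N5910 := ded_41_1 (flp_i L46628) (flp_f L45591) L62226
theorem L62251 : sm gi N5779 = N7907 := rfl
theorem L62258 : sm gg N7907 = N5783 := ded_43_1 (flp_i L45634) (flp_g L45606) L62251
theorem L62335 : sm gi N5787 = N7917 := rfl
theorem L62340 : sm gc N7917 = N6443 := ded_29_1 (flp_i L50958) (flp_c L45673) L62335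
theorem L62342 : sm ge N7917 = N5790 := ded_38_1 (flp_i L45696) (flp_e L45675) L62335
theorem L62355 : sm gi N5788 = N7919 := rfl
theorem L62360 : sm gc N7919 = N6445 := ded_29_1 (flp_i L50977) (flp_c L45683) L62355
theorem L62363 : sm gg N7919 = N5790 := ded_43_1 (flp_i L45696) (flp_g L45686) L62355
theorem L62366 : sm gc N5789 = N7920 := rfl
theorem L62368 : sm ga N7920 = N7920 := ded_10_1 (flp_c L62366) L45690 L62366
theorem L62369 : sm gf N7920 = N5791 := ded_26_2 (flp_c L45706) (flp_f L45693) L62366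
theorem L62371 : sm gh N7920 = N7920 := ded_28_2 (flp_c L62366) L45695 L62366
theorem L62372 : sm gd N7920 = N6446 := ded_24_2 (flp_c L50986) (flp_d L37335) (flp_c L33530) L45688 L62366
theorem L62374 : sm ge N5789 = N7921 := rfl
theorem L62376 : sm ga N7921 = N7921 := ded_12_1 (flp_e L62374) L45690 L62374
theorem L62377 : sm gb N7921 = N5802 := ded_19_1 (flp_e L45799) (flp_b L45691) L62374
theorem L62379 : sm gh N7921 = N7921 := ded_37_2 (flp_e L62374) L45695 L62374
theorem L62380 : sm gi N5789 = N7922 := rfl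
theorem L62382 : sm ga N7922 = N7922 := ded_16_1 (flp_i L62380) L45690 L62380
theorem L62383 : sm gb N7922 = N5803 := ded_23_1 (flp_i L45804) (flp_b L45691) L62380
theorem L62385 : sm gd N7922 = N5790 := ded_34_1 (flp_i L45696) L45688 L62380
theorem L62387 : sm gf N7922 = N5793 := ded_41_1 (flp_i L45721) (flp_f L45693) L62380
theorem L62389 : sm ge N5791 = N7923 := rfl
theorem L62391 : sm ga N7923 = N7923 := ded_12_1 (flp_e L62389) L45708 L62389
theorem L62392 : sm gc N7923 = N5792 := ded_25_1 (flp_e L45713) L45706 L62389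
theorem L62394 : sm gg N7923 = N7923 := ded_36_2 (flp_e L62389) L45709 L62389
theorem L62395 : sm gh N7923 = N7923 := ded_37_2 (flp_e L62389) L45710 L62389
theorem L62396 : sm gi N5791 = N7924 := rfl
theorem L62398 : sm ga N7924 = N7924 := ded_16_1 (flp_i L62396) L45708 L62396
theorem L62399 : sm gc N7924 = N5793 := ded_29_1 (flp_i L45721) L45706 L62396
theorem L62401 : sm gd N7924 = N6450 := ded_34_1 (flp_i L51017) (flp_d L45711) L62396
theorem L62403 : sm gg N7924 = N7924 := ded_43_1 (flp_i L62396) L45709 L62396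
theorem L62404 : sm gf N5792 = N7925 := rfl
theorem L62406 : sm ga N7925 = N7925 := ded_13_1 (flp_f L62404) L45715 L62404
theorem L62407 : sm gb N7925 = N5804 := ded_20_1 (flp_f L45812) (flp_b L45716) L62404
theorem L62409 : sm gd N7925 = N7925 := ded_31_1 (flp_f L62404) L45720 L62404
theorem L62410 : sm gh N7925 = N7925 := ded_40_2 (flp_f L62404) L45719 L62404
theorem L62411 : sm gi N5792 = N7926 := rfl
theorem L62413 : sm ga N7926 = N7926 := ded_16_1 (flp_i L62411) L45715 L62411
theorem L62414 : sm gb N7926 = N5805 := ded_23_1 (flp_i L45818) (flp_b L45716) L62411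
theorem L62416 : sm gd N7926 = N7926 := ded_34_1 (flp_i L62411) L45720 L62411
theorem L62417 : sm ge N7926 = N5793 := ded_38_1 (flp_i L45721) L45713 L62411
theorem L62419 : sm gg N7926 = N7926 := ded_43_1 (flp_i L62411) L45718 L62411
theorem L62420 : sm gh N5793 = N7927 := rfl
theorem L62422 : sm ga N7927 = N7927 := ded_15_1 (flp_h L62420) L45723 L62420
theorem L62423 : sm gb N7927 = N5806 := ded_22_1 (flp_h L45826) (flp_b L45724) L62420
theorem L62425 : sm gg N7927 = N7927 := ded_42_1 (flp_h L62420) L45728 L62420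
theorem L62426 : sm gd N7927 = N7927 := ded_33_1 (flp_h L62420) L45726 L33550 (flp_d L45726) L62420
theorem L62427 : sm gi N7927 = N7927 := ded_44_2 (flp_h L62420) (flp_i L45721) L33540 L45721 L62420
theorem L62428 : sm gf N5794 = N7928 := rfl
theorem L62434 : sm gd N7928 = N5796 := ded_31_1 (flp_f L45747) (flp_d L45735) L62428
theorem L62438 : sm gh N5794 = N7929 := rfl
theorem L62445 : sm gg N7929 = N5795 := ded_42_1 (flp_h L45739) L45729 L62438
theorem L62454 : sm gi N5795 = N7931 := rfl
theorem L62456 : sm ga N7931 = N5815 := ded_16_1 (flp_i L45903) (flp_a L45741) L62454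
theorem L62458 : sm gc N7931 = N5849 := ded_29_1 (flp_i L46154) (flp_c L45743) L62454
theorem L62497 : sm ge N5798 = N7936 := rfl
theorem L62501 : sm gd N7936 = N5802 := ded_30_1 (flp_e L45799) (flp_d L33587) (flp_e L33575) L45766 L62497
theorem L62517 : sm gi N5800 = N7939 := rfl
theorem L62519 : sm ga N7939 = N5823 := ded_16_1 (flp_i L45957) (flp_a L45783) L62517
theorem L62521 : sm gd N7939 = N5801 := ded_34_1 (flp_i L45789) L45781 L62517
theorem L62524 : sm gg N7939 = N5803 := ded_43_1 (flp_i L45804) (flp_g L45786) L62517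
theorem L62526 : sm gf N5802 = N7940 := rfl
theorem L62528 : sm ga N7940 = N5824 := ded_13_1 (flp_f L45965) (flp_a L45801) L62526
theorem L62530 : sm gh N7940 = N7940 := ded_40_2 (flp_f L62526) L45803 L62526
theorem L62531 : sm ge N7940 = N5804 := ded_35_1 (flp_f L45812) (flp_e L33603) (flp_f L33591) L45799 L62526
theorem L62533 : sm gi N5802 = N7941 := rfl
theorem L62535 : sm ga N7941 = N5825 := ded_16_1 (flp_i L45971) (flp_a L45801) L62533
theorem L62537 : sm ge N7941 = N5803 := ded_38_1 (flp_i L45804) L45799 L62533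
theorem L62539 : sm gh N5803 = N7942 := rfl
theorem L62541 : sm ga N7942 = N5826 := ded_15_1 (flp_h L45976) (flp_a L45806) L62539
theorem L62543 : sm gf N7942 = N5806 := ded_40_1 (flp_h L45826) (flp_f L45810) L62539
theorem L62545 : sm gd N7942 = N7942 := ded_33_1 (flp_h L62539) L45808 L33602 (flp_d L45808) L62539
theorem L62546 : sm gi N7942 = N7942 := ded_44_2 (flp_h L62539) (flp_i L45804) L33593 L45804 L62539
theorem L62547 : sm gg N5804 = N7943 := rfl
theorem L62549 : sm ga N7943 = N5827 := ded_14_1 (flp_g L45983) (flp_a L45814) L62547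
theorem L62551 : sm gd N7943 = N7943 := ded_32_1 (flp_g L62547) L45816 L62547
theorem L62552 : sm gh N7943 = N7943 := ded_42_2 (flp_g L62547) L45817 L62547
theorem L62553 : sm gf N7943 = N7943 := ded_39_1 (flp_g L62547) (flp_f L45812) L33607 L45812 L62547
theorem L62554 : sm gi N5804 = N7944 := rfl
theorem L62556 : sm ga N7944 = N5828 := ded_16_1 (flp_i L45989) (flp_a L45814) L62554
theorem L62558 : sm gd N7944 = N7944 := ded_34_1 (flp_i L62554) L45816 L62554
theorem L62559 : sm gf N7944 = N5805 := ded_41_1 (flp_i L45818) L45812 L62554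
theorem L62561 : sm gh N5805 = N7945 := rfl
theorem L62563 : sm ga N7945 = N5829 := ded_15_1 (flp_h L45995) (flp_a L45820) L62561
theorem L62565 : sm ge N7945 = N5806 := ded_37_1 (flp_h L45826) (flp_e L45823) L62561
theorem L62567 : sm gg N7945 = N7945 := ded_42_1 (flp_h L62561) L45825 L62561
theorem L62568 : sm gi N7945 = N7945 := ded_44_2 (flp_h L62561) (flp_i L45818) L33608 L45818 L62561
theorem L62580 : sm gi N5807 = N7947 := rfl
theorem L62582 : sm ga N7947 = N5831 := ded_16_1 (flp_i L46011) (flp_a L45835) L62580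
theorem L62609 : sm gb N5810 = N7950 := rfl
theorem L62612 : sm gh N7950 = N5868 := ded_22_2 (flp_b L46322) (flp_h L45869) L62609
theorem L62614 : sm gc N7950 = N6472 := ded_17_2 (flp_b L51197) (flp_c L37492) (flp_b L33642) L45864 L62609
theorem L62623 : sm gh N5811 = N7952 := rfl
theorem L62627 : sm gb N7952 = N6474 := ded_22_1 (flp_h L51209) (flp_b L45875) L62623
theorem L62631 : sm gi N7952 = N5870 := ded_44_2 (flp_h L46334) (flp_i L34006) (flp_h L33645) L45871 L62623
theorem L62679 : sm gi N5814 = N7959 := rfl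
theorem L62682 : sm gd N7959 = N5815 := ded_34_1 (flp_i L45903) L45897 L62679
theorem L62691 : sm gi N5816 = N7961 := rfl
theorem L62694 : sm gc N7961 = N5831 := ded_29_1 (flp_i L46011) (flp_c L45914) L62691
theorem L62697 : sm gf N7961 = N5818 := ded_41_1 (flp_i L45925) (flp_f L45917) L62691
theorem L62738 : sm gf N5820 = N7968 := rfl
theorem L62741 : sm gd N7968 = N5824 := ded_31_1 (flp_f L45965) (flp_d L45943) L62738
theorem L62744 : sm gi N5820 = N7969 := rfl
theorem L62747 : sm gd N7969 = N5825 := ded_34_1 (flp_i L45971) (flp_d L45943) L62744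
theorem L62749 : sm ge N7969 = N5821 := ded_38_1 (flp_i L45945) L45940 L62744
theorem L62761 : sm gi N5822 = N7972 := rfl
theorem L62766 : sm gg N7972 = N5825 := ded_43_1 (flp_i L45971) (flp_g L45954) L62761
theorem L62768 : sm gh N5823 = N7973 := rfl
theorem L62772 : sm gg N7973 = N5826 := ded_42_1 (flp_h L45976) (flp_g L45963) L62768
theorem L62776 : sm gg N5824 = N7974 := rfl
theorem L62778 : sm gb N7974 = N7974 := ded_21_1 (flp_g L62776) L45967 L62776
theorem L62779 : sm ge N7974 = N5827 := ded_36_1 (flp_g L45983) (flp_e L45969) L62776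
theorem L62781 : sm gh N7974 = N7974 := ded_42_2 (flp_g L62776) L45968 L62776
theorem L62782 : sm gi N5824 = N7975 := rfl
theorem L62784 : sm gb N7975 = N7975 := ded_23_1 (flp_i L62782) L45967 L62782
theorem L62785 : sm ge N7975 = N5828 := ded_38_1 (flp_i L45989) (flp_e L45969) L62782
theorem L62787 : sm gf N7975 = N5825 := ded_41_1 (flp_i L45971) L45965 L62782
theorem L62789 : sm gh N5825 = N7976 := rfl
theorem L62791 : sm gb N7976 = N7976 := ded_22_1 (flp_h L62789) L45973 L62789
theorem L62792 : sm ge N7976 = N5826 := ded_37_1 (flp_h L45976) (flp_e L45974) L62789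
theorem L62794 : sm gi N7976 = N7976 := ded_44_2 (flp_h L62789) (flp_i L45971) L33732 L45971 L62789
theorem L62795 : sm gi N5827 = N7977 := rfl
theorem L62797 : sm gb N7977 = N7977 := ded_23_1 (flp_i L62795) L45985 L62795
theorem L62798 : sm gd N7977 = N7977 := ded_34_1 (flp_i L62795) L45986 L62795
theorem L62799 : sm gf N7977 = N7977 := ded_41_1 (flp_i L62795) L45988 L62795
theorem L62800 : sm gg N7977 = N5828 := ded_43_1 (flp_i L45989) L45983 L62795
theorem L62802 : sm gh N5828 = N7978 := rfl
theorem L62804 : sm gb N7978 = N7978 := ded_22_1 (flp_h L62802) L45991 L62802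
theorem L62805 : sm gf N7978 = N5829 := ded_40_1 (flp_h L45995) (flp_f L45993) L62802
theorem L62807 : sm gi N7978 = N7978 := ded_44_2 (flp_h L62802) (flp_i L45989) L33744 L45989 L62802
theorem L62808 : sm gd N5829 = N7979 := rfl
theorem L62810 : sm gb N7979 = N7979 := ded_18_1 (flp_d L62808) L45997 L62808
theorem L62811 : sm gg N7979 = N7979 := ded_32_2 (flp_d L62808) L46000 L62808
theorem L62812 : sm gi N7979 = N7979 := ded_34_2 (flp_d L62808) L46001 L62808
theorem L62813 : sm ge N7979 = N7979 := ded_30_2 (flp_d L62808) L45998 L33756 (flp_e L45998) L62808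
theorem L62814 : sm gh N7979 = N7979 := ded_33_2 (flp_d L62808) (flp_h L45995) L33748 L45995 L62808
theorem L62876 : sm gh N5835 = N7988 := rfl
theorem L62881 : sm gi N7988 = N5906 := ded_44_2 (flp_h L46598) (flp_i L34186) (flp_h L33786) L46041 L62876
theorem L62954 : sm gi N5843 = N7997 := rfl
theorem L62958 : sm gb N7997 = N6512 := ded_23_1 (flp_i L51487) (flp_b L46112) L62954
theorem L62969 : sm gd N5845 = N7999 := rfl
theorem L62971 : sm ga N7999 = N6514 := ded_11_1 (flp_d L51500) (flp_a L46122) L62969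
theorem L63005 : sm gi N5847 = N8003 := rfl
theorem L63007 : sm ga N8003 = N5874 := ded_16_1 (flp_i L46366) (flp_a L46140) L63005
theorem L63011 : sm gg N8003 = N5849 := ded_43_1 (flp_i L46154) (flp_g L46144) L63005
theorem L63146 : sm gh N5857 = N8020 := rfl
theorem L63153 : sm gg N8020 = N5860 := ded_42_1 (flp_h L46249) (flp_g L46232) L63146
theorem L63200 : sm gd N5863 = N8026 := rfl
theorem L63202 : sm ga N8026 = N5897 := ded_11_1 (flp_d L46536) (flp_a L46277) L63200
theorem L63205 : sm gg N8026 = N7045 := ded_32_2 (flp_d L55531) (flp_g L46282) L63200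
theorem L63227 : sm gi N5864 = N8029 := rfl
theorem L63233 : sm gd N8029 = N5865 := ded_34_1 (flp_i L46294) L46285 L63227
theorem L63235 : sm gf N8029 = N5867 := ded_41_1 (flp_i L46312) (flp_f L46291) L63227
theorem L63252 : sm gh N5867 = N8032 := rfl
theorem L63258 : sm gg N8032 = N5870 := ded_42_1 (flp_h L46334) (flp_g L46320) L63252
theorem L63261 : sm ga N5868 = N8033 := rfl
theorem L63263 : sm gc N8033 = N6521 := ded_10_2 (flp_a L51552) (flp_c L46325) L63261
theorem L63282 : sm gh N5871 = N8036 := rfl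
theorem L63286 : sm ge N8036 = N5872 := ded_37_1 (flp_h L46351) L46342 L63282
theorem L63330 : sm gb N5875 = N8042 := rfl
theorem L63333 : sm gh N8042 = N5883 := ded_22_2 (flp_b L46434) (flp_h L46377) L63330
theorem L63335 : sm gc N8042 = N5924 := ded_17_2 (flp_b L46738) (flp_c L34297) (flp_b L34032) L46374 L63330
theorem L63363 : sm gh N5877 = N8047 := rfl
theorem L63369 : sm gi N8047 = N5888 := ded_44_2 (flp_h L46467) (flp_i L34083) (flp_h L34035) L46386 L63363
theorem L63385 : sm gi N5878 = N8050 := rfl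
theorem L63389 : sm gd N8050 = N5879 := ded_34_1 (flp_i L46400) L46393 L63385
theorem L63391 : sm gf N8050 = N5882 := ded_41_1 (flp_i L46426) (flp_f L46397) L63385
theorem L63452 : sm gi N5883 = N8059 := rfl
theorem L63458 : sm gd N8059 = N5905 := ded_34_1 (flp_i L46591) (flp_d L46436) L63452
theorem L63484 : sm gi N5886 = N8064 := rfl
theorem L63491 : sm gf N8064 = N5887 := ded_41_1 (flp_i L46459) L46452 L63484
theorem L63493 : sm gh N5887 = N8065 := rfl
theorem L63497 : sm ge N8065 = N5888 := ded_37_1 (flp_h L46467) (flp_e L46465) L63493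
theorem L63557 : sm gd N5896 = N8073 := rfl
theorem L63559 : sm gb N8073 = N5955 := ded_18_1 (flp_d L46958) (flp_b L46531) L63557
theorem L63564 : sm gc N8073 = N8073 := ded_24_1 (flp_d L63557) (flp_c L62134) L62138 L62134 L63557
theorem L63585 : sm gi N5899 = N8077 := rfl
theorem L63587 : sm gb N8077 = N5910 := ded_23_1 (flp_i L46628) (flp_b L46553) L63585
theorem L63608 : sm gi N5901 = N8080 := rfl
theorem L63610 : sm gb N8080 = N5902 := ded_23_1 (flp_i L46573) L46567 L63608
theorem L63614 : sm gg N8080 = N5905 := ded_43_1 (flp_i L46591) (flp_g L46569) L63608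
theorem L63722 : sm gh N5915 = N8095 := rfl
theorem L63726 : sm gb N8095 = N6545 := ded_22_1 (flp_h L51719) (flp_b L46673) L63722
theorem L63759 : sm gc N5919 = N8100 := rfl
theorem L63762 : sm gf N8100 = N5921 := ded_26_2 (flp_c L46715) (flp_f L46702) L63759
theorem L63774 : sm gi N5919 = N8102 := rfl
theorem L63779 : sm gf N8102 = N5923 := ded_41_1 (flp_i L46731) (flp_f L46702) L63774
theorem L63820 : sm gh N5923 = N8108 := rfl
theorem L63826 : sm gi N8108 = N5938 := ded_44_2 (flp_h L46837) (flp_i L34347) (flp_h L34287) L46731 L63820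
theorem L63841 : sm gi N5924 = N8111 := rfl
theorem L63843 : sm gb N8111 = N5926 := ded_23_1 (flp_i L46751) L46738 L63841
theorem L63853 : sm gf N5925 = N8113 := rfl
theorem L63856 : sm gc N8113 = N5927 := ded_26_1 (flp_f L46758) (flp_c L46747) L63853
theorem L63858 : sm gh N8113 = N5942 := ded_40_2 (flp_f L46861) (flp_h L46749) L63853
theorem L63868 : sm gh N5926 = N8115 := rfl
theorem L63874 : sm gi N8115 = N5944 := ded_44_2 (flp_h L46876) (flp_i L34365) (flp_h L34301) L46751 L63868
theorem L64001 : sm gh N5937 = N8133 := rfl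
theorem L64004 : sm ge N8133 = N5938 := ded_37_1 (flp_h L46837) (flp_e L46833) L64001
theorem L64008 : sm ge N5939 = N8134 := rfl
theorem L64010 : sm ga N8134 = N5940 := ded_12_1 (flp_e L46849) L46843 L64008
theorem L64014 : sm gi N5939 = N8135 := rfl
theorem L64019 : sm gd N8135 = N5965 := ded_34_1 (flp_i L47047) (flp_d L46845) L64014
theorem L64022 : sm gf N5940 = N8136 := rfl
theorem L64024 : sm gb N8136 = N5942 := ded_20_1 (flp_f L46861) (flp_b L46851) L64022
theorem L64100 : sm gh N5949 = N8147 := rfl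
theorem L64104 : sm ge N8147 = N7166 := ded_37_1 (flp_h L56441) (flp_e L46914) L64100
theorem L64146 : sm gc N5955 = N8153 := rfl
theorem L64153 : sm gb N8153 = N8153 := ded_17_1 (flp_c L64146) (flp_b L63559) L63564 L63559 L64146
theorem L64250 : sm gh N5965 = N8165 := rfl
theorem L64255 : sm gc N8165 = N5978 := ded_28_1 (flp_h L47155) (flp_c L47052) L64250
theorem L64361 : sm gh N5975 = N8178 := rfl
theorem L64368 : sm gg N8178 = N5978 := ded_42_1 (flp_h L47155) (flp_g L47137) L64361
theorem L64414 : sm gf N5981 = N8185 := rfl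
theorem L64416 : sm ga N8185 = N8185 := ded_13_1 (flp_f L64414) L47183 L64414
theorem L64417 : sm gb N8185 = N5982 := ded_20_1 (flp_f L47184) L47177 L64414
theorem L64419 : sm gd N8185 = N8185 := ded_31_1 (flp_f L64414) L47179 L64414
theorem L64420 : sm gi N8185 = N8185 := ded_41_2 (flp_f L64414) L47182 L64414
theorem L64421 : sm gh N5981 = N8186 := rfl
theorem L64423 : sm ga N8186 = N8186 := ded_15_1 (flp_h L64421) L47183 L64421
theorem L64424 : sm gb N8186 = N5983 := ded_22_1 (flp_h L47192) L47177 L64421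
theorem L64426 : sm ge N8186 = N8186 := ded_37_1 (flp_h L64421) L47180 L64421
theorem L64427 : sm gg N8186 = N8186 := ded_42_1 (flp_h L64421) L47181 L64421
theorem L64428 : sm ge N5982 = N8187 := rfl
theorem L64430 : sm ga N8187 = N5988 := ded_12_1 (flp_e L47232) (flp_a L47186) L64428
theorem L64432 : sm gc N8187 = N5984 := ded_25_1 (flp_e L47200) (flp_c L47188) L64428
theorem L64434 : sm gi N8187 = N8187 := ded_38_2 (flp_e L64428) L47191 L64428
theorem L64435 : sm gf N8187 = N8187 := ded_35_2 (flp_e L64428) (flp_f L47184) L34633 L47184 L64428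
theorem L64436 : sm gg N5982 = N8188 := rfl
theorem L64438 : sm ga N8188 = N5989 := ded_14_1 (flp_g L47239) (flp_a L47186) L64436
theorem L64440 : sm gc N8188 = N5985 := ded_27_1 (flp_g L47207) (flp_c L47188) L64436
theorem L64442 : sm gd N8188 = N8188 := ded_32_1 (flp_g L64436) L47190 L64436
theorem L64443 : sm gi N8188 = N8188 := ded_43_2 (flp_g L64436) L47191 L64436
theorem L64444 : sm gf N8188 = N8188 := ded_39_1 (flp_g L64436) (flp_f L47184) L34634 L47184 L64436
theorem L64445 : sm gh N5982 = N8189 := rfl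
theorem L64447 : sm ga N8189 = N5990 := ded_15_1 (flp_h L47247) (flp_a L47186) L64445
theorem L64449 : sm gc N8189 = N5986 := ded_28_1 (flp_h L47215) (flp_c L47188) L64445
theorem L64451 : sm gf N8189 = N5983 := ded_40_1 (flp_h L47192) L47184 L64445
theorem L64453 : sm gd N5983 = N8190 := rfl
theorem L64455 : sm ga N8190 = N5991 := ded_11_1 (flp_d L47254) (flp_a L47194) L64453
theorem L64457 : sm gg N8190 = N8190 := ded_32_2 (flp_d L64453) L47199 L64453
theorem L64458 : sm gc N8190 = N6007 := ded_24_1 (flp_d L47384) L34760 (flp_d L34650) (flp_c L47196) L64453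
theorem L64460 : sm gh N8190 = N8190 := ded_33_2 (flp_d L64453) (flp_h L47192) L34636 L47192 L64453
theorem L64461 : sm gi N5983 = N8191 := rfl
theorem L64463 : sm ga N8191 = N5992 := ded_16_1 (flp_i L47261) (flp_a L47194) L64461
theorem L64465 : sm gc N8191 = N5987 := ded_29_1 (flp_i L47223) (flp_c L47196) L64461
theorem L64467 : sm ge N8191 = N8191 := ded_38_1 (flp_i L64461) L47198 L64461
theorem L64468 : sm gg N8191 = N8191 := ded_43_1 (flp_i L64461) L47199 L64461
theorem L64469 : sm gh N8191 = N8191 := ded_44_1 (flp_i L64461) (flp_h L47192) L34635 L47192 L64461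
theorem L64470 : sm gg N5984 = N8192 := rfl
theorem L64472 : sm ga N8192 = N5993 := ded_14_1 (flp_g L47269) (flp_a L47202) L64470
theorem L64474 : sm gd N8192 = N8192 := ded_32_1 (flp_g L64470) L47205 L64470
theorem L64475 : sm ge N8192 = N5985 := ded_36_1 (flp_g L47207) L47200 L64470
theorem L64477 : sm gi N8192 = N8192 := ded_43_2 (flp_g L64470) L47204 L64470
theorem L64478 : sm gh N5984 = N8193 := rfl
theorem L64480 : sm ga N8193 = N5994 := ded_15_1 (flp_h L47277) (flp_a L47202) L64478
theorem L64482 : sm ge N8193 = N5986 := ded_37_1 (flp_h L47215) L47200 L64478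
theorem L64484 : sm gf N8193 = N8193 := ded_40_1 (flp_h L64478) L47206 L64478
theorem L64485 : sm gh N5985 = N8194 := rfl
theorem L64487 : sm ga N8194 = N5995 := ded_15_1 (flp_h L47284) (flp_a L47209) L64485
theorem L64489 : sm gf N8194 = N8194 := ded_40_1 (flp_h L64485) L47214 L64485
theorem L64490 : sm gg N8194 = N5986 := ded_42_1 (flp_h L47215) L47207 L64485
theorem L64492 : sm gd N8194 = N6011 := ded_33_1 (flp_h L47418) L34778 (flp_h L34658) (flp_d L47211) L64485
theorem L64494 : sm gi N5986 = N8195 := rfl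
theorem L64496 : sm ga N8195 = N5996 := ded_16_1 (flp_i L47293) (flp_a L47217) L64494
theorem L64498 : sm gd N8195 = N6012 := ded_34_1 (flp_i L47425) (flp_d L47221) L64494
theorem L64500 : sm gf N8195 = N5987 := ded_41_1 (flp_i L47223) (flp_f L47219) L64494
theorem L64502 : sm gh N8195 = N8195 := ded_44_1 (flp_i L64494) (flp_h L47215) L34643 L47215 L64494
theorem L64503 : sm gd N5988 = N8196 := rfl
theorem L64510 : sm gg N5988 = N8197 := rfl
theorem L64513 : sm gc N8197 = N5993 := ded_27_1 (flp_g L47269) (flp_c L47235) L64510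
theorem L64515 : sm ge N8197 = N5989 := ded_36_1 (flp_g L47239) L47232 L64510
theorem L64518 : sm gh N5988 = N8198 := rfl
theorem L64520 : sm gb N8198 = N8198 := ded_22_1 (flp_h L64518) L47234 L64518
theorem L64521 : sm gc N8198 = N5994 := ded_28_1 (flp_h L47277) (flp_c L47235) L64518
theorem L64523 : sm ge N8198 = N5990 := ded_37_1 (flp_h L47247) L47232 L64518
theorem L64525 : sm gf N8198 = N8198 := ded_40_1 (flp_h L64518) L47238 L64518
theorem L64526 : sm gh N5989 = N8199 := rfl
theorem L64528 : sm gb N8199 = N8199 := ded_22_1 (flp_h L64526) L47241 L64526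
theorem L64529 : sm gc N8199 = N5995 := ded_28_1 (flp_h L47284) (flp_c L47242) L64526
theorem L64531 : sm gf N8199 = N8199 := ded_40_1 (flp_h L64526) L47246 L64526
theorem L64532 : sm gg N8199 = N5990 := ded_42_1 (flp_h L47247) L47239 L64526
theorem L64534 : sm gd N5990 = N8200 := rfl
theorem L64536 : sm gb N8200 = N8200 := ded_18_1 (flp_d L64534) L47249 L64534
theorem L64537 : sm gf N8200 = N5991 := ded_31_2 (flp_d L47254) (flp_f L47252) L64534
theorem L64539 : sm gc N8200 = N6017 := ded_24_1 (flp_d L47472) L34822 (flp_d L34697) (flp_c L47250) L64534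
theorem L64541 : sm gh N8200 = N8200 := ded_33_2 (flp_d L64534) (flp_h L47247) L34667 L47247 L64534
theorem L64542 : sm gi N5990 = N8201 := rfl
theorem L64544 : sm gb N8201 = N8201 := ded_23_1 (flp_i L64542) L47249 L64542
theorem L64545 : sm gc N8201 = N5996 := ded_29_1 (flp_i L47293) (flp_c L47250) L64542
theorem L64547 : sm gf N8201 = N5992 := ded_41_1 (flp_i L47261) (flp_f L47252) L64542
theorem L64549 : sm gh N8201 = N8201 := ded_44_1 (flp_i L64542) (flp_h L47247) L34668 L47247 L64542
theorem L64550 : sm ge N5991 = N8202 := rfl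
theorem L64552 : sm gb N8202 = N8202 := ded_19_1 (flp_e L64550) L47256 L64550
theorem L64553 : sm gc N8202 = N6019 := ded_25_1 (flp_e L47489) (flp_c L47258) L64550
theorem L64555 : sm gg N8202 = N8202 := ded_36_2 (flp_e L64550) L47257 L64550
theorem L64556 : sm gh N8202 = N8202 := ded_37_2 (flp_e L64550) L47260 L64550
theorem L64557 : sm gd N8202 = N8202 := ded_30_1 (flp_e L64550) (flp_d L47254) L34674 L47254 L64550
theorem L64558 : sm gi N5991 = N8203 := rfl
theorem L64560 : sm gb N8203 = N8203 := ded_23_1 (flp_i L64558) L47256 L64558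
theorem L64561 : sm gc N8203 = N6020 := ded_29_1 (flp_i L47497) (flp_c L47258) L64558
theorem L64563 : sm gd N8203 = N5992 := ded_34_1 (flp_i L47261) L47254 L64558
theorem L64565 : sm gg N8203 = N8203 := ded_43_1 (flp_i L64558) L47257 L64558
theorem L64566 : sm gf N5993 = N8204 := rfl
theorem L64568 : sm gb N8204 = N5997 := ded_20_1 (flp_f L47302) (flp_b L47271) L64566
theorem L64574 : sm gh N5993 = N8205 := rfl
theorem L64576 : sm gb N8205 = N5998 := ded_22_1 (flp_h L47309) (flp_b L47271) L64574
theorem L64578 : sm ge N8205 = N5995 := ded_37_1 (flp_h L47284) (flp_e L47274) L64574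
theorem L64580 : sm gg N8205 = N5994 := ded_42_1 (flp_h L47277) L47269 L64574
theorem L64582 : sm gd N5994 = N8206 := rfl
theorem L64584 : sm gb N8206 = N5999 := ded_18_1 (flp_d L47316) (flp_b L47279) L64582
theorem L64586 : sm gf N8206 = N8206 := ded_31_2 (flp_d L64582) L47283 L64582
theorem L64587 : sm ge N8206 = N6023 := ded_30_2 (flp_d L47522) L34856 (flp_d L34697) (flp_e L47281) L64582
theorem L64589 : sm gh N8206 = N8206 := ded_33_2 (flp_d L64582) (flp_h L47277) L34681 L47277 L64582
theorem L64590 : sm gi N5994 = N8207 := rfl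
theorem L64592 : sm gb N8207 = N6000 := ded_23_1 (flp_i L47322) (flp_b L47279) L64590
theorem L64594 : sm ge N8207 = N5996 := ded_38_1 (flp_i L47293) (flp_e L47281) L64590
theorem L64596 : sm gf N8207 = N8207 := ded_41_1 (flp_i L64590) L47283 L64590
theorem L64597 : sm gh N8207 = N8207 := ded_44_1 (flp_i L64590) (flp_h L47277) L34680 L47277 L64590
theorem L64598 : sm gi N5995 = N8208 := rfl
theorem L64600 : sm gb N8208 = N6001 := ded_23_1 (flp_i L47329) (flp_b L47286) L64598
theorem L64602 : sm gd N8208 = N6025 := ded_34_1 (flp_i L47539) (flp_d L47291) L64598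
theorem L64604 : sm gf N8208 = N8208 := ded_41_1 (flp_i L64598) L47288 L64598
theorem L64605 : sm gg N8208 = N5996 := ded_43_1 (flp_i L47293) (flp_g L47289) L64598
theorem L64607 : sm gh N8208 = N8208 := ded_44_1 (flp_i L64598) (flp_h L47284) L34689 L47284 L64598
theorem L64608 : sm gh N5997 = N8209 := rfl
theorem L64610 : sm gc N8209 = N8209 := ded_28_1 (flp_h L64608) L47304 L64608
theorem L64611 : sm ge N8209 = N8209 := ded_37_1 (flp_h L64608) L47307 L64608
theorem L64612 : sm gf N8209 = N5998 := ded_40_1 (flp_h L47309) L47302 L64608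
theorem L64614 : sm gg N8209 = N8209 := ded_42_1 (flp_h L64608) L47308 L64608
theorem L64615 : sm gd N5998 = N8210 := rfl
theorem L64617 : sm gg N8210 = N5999 := ded_32_2 (flp_d L47316) (flp_g L47314) L64615
theorem L64619 : sm ge N8210 = N6027 := ded_30_2 (flp_d L47557) L34889 (flp_d L34727) (flp_e L47312) L64615
theorem L64621 : sm gh N8210 = N8210 := ded_33_2 (flp_d L64615) (flp_h L47309) L34711 L47309 L64615
theorem L64622 : sm gi N5998 = N8211 := rfl
theorem L64624 : sm gc N8211 = N8211 := ded_29_1 (flp_i L64622) L47311 L64622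
theorem L64625 : sm ge N8211 = N6001 := ded_38_1 (flp_i L47329) (flp_e L47312) L64622
theorem L64627 : sm gg N8211 = N6000 := ded_43_1 (flp_i L47322) (flp_g L47314) L64622
theorem L64629 : sm gh N8211 = N8211 := ded_44_1 (flp_i L64622) (flp_h L47309) L34714 L47309 L64622
theorem L64630 : sm gc N5999 = N8212 := rfl
theorem L64632 : sm ge N8212 = N6029 := ded_25_2 (flp_c L47572) (flp_e L47319) L64630
theorem L64634 : sm gf N8212 = N8212 := ded_26_2 (flp_c L64630) L47318 L64630
theorem L64635 : sm gh N8212 = N8212 := ded_28_2 (flp_c L64630) L47321 L64630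
theorem L64636 : sm gd N8212 = N8212 := ded_24_2 (flp_c L64630) (flp_d L47316) L34717 L47316 L64630
theorem L64637 : sm gi N5999 = N8213 := rfl
theorem L64639 : sm gd N8213 = N6000 := ded_34_1 (flp_i L47322) L47316 L64637
theorem L64641 : sm ge N8213 = N6030 := ded_38_1 (flp_i L47579) (flp_e L47319) L64637
theorem L64643 : sm gf N8213 = N8213 := ded_41_1 (flp_i L64637) L47318 L64637
theorem L64644 : sm ge N6002 = N8214 := rfl
theorem L64646 : sm ga N8214 = N6031 := ded_12_1 (flp_e L47585) (flp_a L47340) L64644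
theorem L64648 : sm gb N8214 = N6004 := ded_19_1 (flp_e L47356) (flp_b L47342) L64644
theorem L64650 : sm gi N8214 = N7723 := ded_38_2 (flp_e L60843) (flp_i L47345) L64644
theorem L64652 : sm gf N8214 = N6178 := ded_35_2 (flp_e L48848) (flp_f L35829) (flp_e L34740) L47338 L64644
theorem L64654 : sm gg N6002 = N8215 := rfl
theorem L64656 : sm ga N8215 = N6032 := ded_14_1 (flp_g L47593) (flp_a L47340) L64654
theorem L64658 : sm gb N8215 = N6005 := ded_21_1 (flp_g L47366) (flp_b L47342) L64654
theorem L64660 : sm gd N8215 = N8215 := ded_32_1 (flp_g L64654) L47344 L64654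
theorem L64663 : sm gf N8215 = N8215 := ded_39_1 (flp_g L64654) (flp_f L47338) L34742 L47338 L64654
theorem L64664 : sm gh N6002 = N8216 := rfl
theorem L64666 : sm ga N8216 = N6033 := ded_15_1 (flp_h L47601) (flp_a L47340) L64664
theorem L64668 : sm gb N8216 = N6006 := ded_22_1 (flp_h L47376) (flp_b L47342) L64664
theorem L64670 : sm gf N8216 = N6003 := ded_40_1 (flp_h L47347) L47338 L64664
theorem L64672 : sm gd N6003 = N8217 := rfl
theorem L64674 : sm ga N8217 = N6034 := ded_11_1 (flp_d L47607) (flp_a L47349) L64672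
theorem L64676 : sm gb N8217 = N6007 := ded_18_1 (flp_d L47384) (flp_b L47351) L64672
theorem L64678 : sm gg N8217 = N8217 := ded_32_2 (flp_d L64672) L47355 L64672
theorem L64679 : sm gh N8217 = N8217 := ded_33_2 (flp_d L64672) (flp_h L47347) L34739 L47347 L64672
theorem L64680 : sm gi N6003 = N8218 := rfl
theorem L64682 : sm ga N8218 = N6035 := ded_16_1 (flp_i L47613) (flp_a L47349) L64680
theorem L64684 : sm gb N8218 = N6008 := ded_23_1 (flp_i L47390) (flp_b L47351) L64680
theorem L64686 : sm ge N8218 = N6182 := ded_38_1 (flp_i L48880) (flp_e L47353) L64680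
theorem L64688 : sm gg N8218 = N8218 := ded_43_1 (flp_i L64680) L47355 L64680
theorem L64689 : sm gh N8218 = N7727 := ded_44_1 (flp_i L60879) (flp_h L44638) (flp_i L34743) L47347 L64680
theorem L64691 : sm gd N6004 = N8219 := rfl
theorem L64693 : sm ga N8219 = N6013 := ded_11_1 (flp_d L47433) (flp_a L47358) L64691
theorem L64695 : sm gf N8219 = N6183 := ded_31_2 (flp_d L48887) (flp_f L47364) L64691
theorem L64697 : sm gi N8219 = N7728 := ded_34_2 (flp_d L60888) (flp_i L47362) L64691
theorem L64699 : sm gc N8219 = N8219 := ded_24_1 (flp_d L64691) L47360 L34771 (flp_c L47360) L64691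
theorem L64700 : sm ge N8219 = N8219 := ded_30_2 (flp_d L64691) (flp_e L47356) L34753 L47356 L64691
theorem L64701 : sm gg N6004 = N8220 := rfl
theorem L64703 : sm ga N8220 = N6014 := ded_14_1 (flp_g L47443) (flp_a L47358) L64701
theorem L64705 : sm gc N8220 = N6009 := ded_27_1 (flp_g L47401) (flp_c L47360) L64701
theorem L64707 : sm ge N8220 = N6005 := ded_36_1 (flp_g L47366) L47356 L64701
theorem L64711 : sm gh N6004 = N8221 := rfl
theorem L64713 : sm ga N8221 = N6015 := ded_15_1 (flp_h L47453) (flp_a L47358) L64711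
theorem L64715 : sm gc N8221 = N6010 := ded_28_1 (flp_h L47410) (flp_c L47360) L64711
theorem L64717 : sm ge N8221 = N6006 := ded_37_1 (flp_h L47376) L47356 L64711
theorem L64719 : sm gf N8221 = N6185 := ded_40_1 (flp_h L48902) (flp_f L47364) L64711
theorem L64721 : sm gh N6005 = N8222 := rfl
theorem L64723 : sm ga N8222 = N6016 := ded_15_1 (flp_h L47463) (flp_a L47368) L64721
theorem L64725 : sm gc N8222 = N6011 := ded_28_1 (flp_h L47418) (flp_c L47370) L64721
theorem L64727 : sm gf N8222 = N8222 := ded_40_1 (flp_h L64721) L47375 L64721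
theorem L64728 : sm gg N8222 = N6006 := ded_42_1 (flp_h L47376) L47366 L64721
theorem L64730 : sm gd N6006 = N8223 := rfl
theorem L64732 : sm ga N8223 = N6017 := ded_11_1 (flp_d L47472) (flp_a L47378) L64730
theorem L64734 : sm gf N8223 = N6007 := ded_31_2 (flp_d L47384) (flp_f L47382) L64730
theorem L64736 : sm gh N8223 = N8223 := ded_33_2 (flp_d L64730) (flp_h L47376) L34753 L47376 L64730
theorem L64737 : sm gi N6006 = N8224 := rfl
theorem L64739 : sm ga N8224 = N6018 := ded_16_1 (flp_i L47479) (flp_a L47378) L64737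
theorem L64741 : sm gc N8224 = N6012 := ded_29_1 (flp_i L47425) (flp_c L47380) L64737
theorem L64743 : sm gf N8224 = N6008 := ded_41_1 (flp_i L47390) (flp_f L47382) L64737
theorem L64745 : sm gh N8224 = N7733 := ded_44_1 (flp_i L60927) (flp_h L44661) (flp_i L34754) L47376 L64737
theorem L64747 : sm ge N6007 = N8225 := rfl
theorem L64749 : sm ga N8225 = N6019 := ded_12_1 (flp_e L47489) (flp_a L47386) L64747
theorem L64751 : sm gg N8225 = N8225 := ded_36_2 (flp_e L64747) L47388 L64747
theorem L64752 : sm gh N8225 = N8225 := ded_37_2 (flp_e L64747) L47389 L64747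
theorem L64753 : sm gd N8225 = N6189 := ded_30_1 (flp_e L48936) (flp_d L35867) (flp_e L34762) L47384 L64747
theorem L64755 : sm gi N6007 = N8226 := rfl
theorem L64757 : sm ga N8226 = N6020 := ded_16_1 (flp_i L47497) (flp_a L47386) L64755
theorem L64759 : sm gd N8226 = N6008 := ded_34_1 (flp_i L47390) L47384 L64755
theorem L64761 : sm gg N8226 = N8226 := ded_43_1 (flp_i L64755) L47388 L64755
theorem L64762 : sm gf N6009 = N8227 := rfl
theorem L64764 : sm ga N8227 = N6021 := ded_13_1 (flp_f L47504) (flp_a L47403) L64762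
theorem L64766 : sm gd N8227 = N8227 := ded_31_1 (flp_f L64762) L47405 L64762
theorem L64767 : sm gi N8227 = N7736 := ded_41_2 (flp_f L60950) (flp_i L47408) L64762
theorem L64769 : sm ge N8227 = N8227 := ded_35_1 (flp_f L64762) L47406 L34782 (flp_e L47406) L64762
theorem L64770 : sm gg N8227 = N6191 := ded_39_2 (flp_f L48952) (flp_g L35882) (flp_f L34772) L47401 L64762
theorem L64772 : sm gh N6009 = N8228 := rfl
theorem L64774 : sm ga N8228 = N6022 := ded_15_1 (flp_h L47514) (flp_a L47403) L64772
theorem L64776 : sm ge N8228 = N6011 := ded_37_1 (flp_h L47418) (flp_e L47406) L64772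
theorem L64778 : sm gg N8228 = N6010 := ded_42_1 (flp_h L47410) L47401 L64772
theorem L64780 : sm gd N6010 = N8229 := rfl
theorem L64782 : sm ga N8229 = N6023 := ded_11_1 (flp_d L47522) (flp_a L47412) L64780
theorem L64784 : sm gf N8229 = N6193 := ded_31_2 (flp_d L48966) (flp_f L47416) L64780
theorem L64786 : sm gh N8229 = N8229 := ded_33_2 (flp_d L64780) (flp_h L47410) L34771 L47410 L64780
theorem L64787 : sm gi N6010 = N8230 := rfl
theorem L64789 : sm ga N8230 = N6024 := ded_16_1 (flp_i L47529) (flp_a L47412) L64787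
theorem L64791 : sm ge N8230 = N6012 := ded_38_1 (flp_i L47425) (flp_e L47414) L64787
theorem L64793 : sm gf N8230 = N6194 := ded_41_1 (flp_i L48972) (flp_f L47416) L64787
theorem L64795 : sm gh N8230 = N7739 := ded_44_1 (flp_i L60976) (flp_h L44692) (flp_i L34769) L47410 L64787
theorem L64797 : sm gi N6011 = N8231 := rfl
theorem L64799 : sm ga N8231 = N6025 := ded_16_1 (flp_i L47539) (flp_a L47420) L64797
theorem L64801 : sm gf N8231 = N8231 := ded_41_1 (flp_i L64797) L47422 L64797
theorem L64802 : sm gg N8231 = N6012 := ded_43_1 (flp_i L47425) (flp_g L47423) L64797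
theorem L64804 : sm gh N8231 = N7740 := ded_44_1 (flp_i L60984) (flp_h L44700) (flp_i L34780) L47418 L64797
theorem L64806 : sm gg N6013 = N8232 := rfl
theorem L64808 : sm gb N8232 = N6049 := ded_21_1 (flp_g L47745) (flp_b L47435) L64806
theorem L64810 : sm gc N8232 = N8232 := ded_27_1 (flp_g L64806) L47441 L64806
theorem L64811 : sm gd N8232 = N6014 := ded_32_1 (flp_g L47443) L47433 L64806
theorem L64813 : sm ge N8232 = N8232 := ded_36_1 (flp_g L64806) L47442 L64806
theorem L64814 : sm gi N8232 = N7741 := ded_43_2 (flp_g L60994) (flp_i L47439) L64806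
theorem L64816 : sm gh N6013 = N8233 := rfl
theorem L64818 : sm gb N8233 = N6050 := ded_22_1 (flp_h L47754) (flp_b L47435) L64816
theorem L64820 : sm gc N8233 = N8233 := ded_28_1 (flp_h L64816) L47441 L64816
theorem L64821 : sm ge N8233 = N8233 := ded_37_1 (flp_h L64816) L47442 L64816
theorem L64822 : sm gf N8233 = N6197 := ded_40_1 (flp_h L48995) (flp_f L47437) L64816
theorem L64824 : sm gf N6014 = N8234 := rfl
theorem L64826 : sm gb N8234 = N6051 := ded_20_1 (flp_f L47761) (flp_b L47445) L64824
theorem L64828 : sm gc N8234 = N6021 := ded_26_1 (flp_f L47504) (flp_c L47447) L64824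
theorem L64832 : sm ge N8234 = N8234 := ded_35_1 (flp_f L64824) L47449 L34817 (flp_e L47449) L64824
theorem L64833 : sm gg N8234 = N6198 := ded_39_2 (flp_f L49002) (flp_g L35917) (flp_f L34806) L47443 L64824
theorem L64835 : sm gh N6014 = N8235 := rfl
theorem L64837 : sm gb N8235 = N6052 := ded_22_1 (flp_h L47770) (flp_b L47445) L64835
theorem L64839 : sm gc N8235 = N6022 := ded_28_1 (flp_h L47514) (flp_c L47447) L64835
theorem L64841 : sm ge N8235 = N6016 := ded_37_1 (flp_h L47463) (flp_e L47449) L64835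
theorem L64843 : sm gg N8235 = N6015 := ded_42_1 (flp_h L47453) L47443 L64835
theorem L64845 : sm gd N6015 = N8236 := rfl
theorem L64847 : sm gb N8236 = N6053 := ded_18_1 (flp_d L47778) (flp_b L47455) L64845
theorem L64849 : sm gf N8236 = N6200 := ded_31_2 (flp_d L49019) (flp_f L47461) L64845
theorem L64851 : sm gi N6015 = N8237 := rfl
theorem L64853 : sm gb N8237 = N6054 := ded_23_1 (flp_i L47782) (flp_b L47455) L64851
theorem L64855 : sm gc N8237 = N6024 := ded_29_1 (flp_i L47529) (flp_c L47457) L64851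
theorem L64857 : sm ge N8237 = N6018 := ded_38_1 (flp_i L47479) (flp_e L47459) L64851
theorem L64859 : sm gf N8237 = N6201 := ded_41_1 (flp_i L49023) (flp_f L47461) L64851
theorem L64861 : sm gh N8237 = N7746 := ded_44_1 (flp_i L61029) (flp_h L44733) (flp_i L34804) L47453 L64851
theorem L64863 : sm gd N6016 = N8238 := rfl
theorem L64865 : sm gb N8238 = N6055 := ded_18_1 (flp_d L47792) (flp_b L47465) L64863
theorem L64867 : sm gf N8238 = N8238 := ded_31_2 (flp_d L64863) L47469 L64863
theorem L64868 : sm gg N8238 = N6017 := ded_32_2 (flp_d L47472) (flp_g L47470) L64863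
theorem L64870 : sm gh N8238 = N8238 := ded_33_2 (flp_d L64863) (flp_h L47463) L34814 L47463 L64863
theorem L64871 : sm gi N6016 = N8239 := rfl
theorem L64873 : sm gb N8239 = N6056 := ded_23_1 (flp_i L47799) (flp_b L47465) L64871
theorem L64875 : sm gc N8239 = N6025 := ded_29_1 (flp_i L47539) (flp_c L47467) L64871
theorem L64877 : sm gf N8239 = N8239 := ded_41_1 (flp_i L64871) L47469 L64871
theorem L64878 : sm gg N8239 = N6018 := ded_43_1 (flp_i L47479) (flp_g L47470) L64871
theorem L64880 : sm gh N8239 = N7748 := ded_44_1 (flp_i L61046) (flp_h L44741) (flp_i L34815) L47463 L64871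
theorem L64882 : sm ge N6017 = N8240 := rfl
theorem L64884 : sm gb N8240 = N6057 := ded_19_1 (flp_e L47808) (flp_b L47474) L64882
theorem L64886 : sm gh N8240 = N8240 := ded_37_2 (flp_e L64882) L47478 L64882
theorem L64887 : sm gi N6017 = N8241 := rfl
theorem L64889 : sm gb N8241 = N6058 := ded_23_1 (flp_i L47812) (flp_b L47474) L64887
theorem L64891 : sm gd N8241 = N6018 := ded_34_1 (flp_i L47479) L47472 L64887
theorem L64893 : sm gf N8241 = N6020 := ded_41_1 (flp_i L47497) (flp_f L47476) L64887
theorem L64895 : sm gf N6019 = N8242 := rfl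
theorem L64897 : sm gb N8242 = N6059 := ded_20_1 (flp_f L47819) (flp_b L47491) L64895
theorem L64899 : sm gd N8242 = N6206 := ded_31_1 (flp_f L49066) (flp_d L47495) L64895
theorem L64901 : sm gh N8242 = N8242 := ded_40_2 (flp_f L64895) L47494 L64895
theorem L64902 : sm gi N6019 = N8243 := rfl
theorem L64904 : sm gb N8243 = N6060 := ded_23_1 (flp_i L47825) (flp_b L47491) L64902
theorem L64906 : sm gd N8243 = N6207 := ded_34_1 (flp_i L49073) (flp_d L47495) L64902
theorem L64908 : sm ge N8243 = N6020 := ded_38_1 (flp_i L47497) L47489 L64902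
theorem L64910 : sm gg N8243 = N8243 := ded_43_1 (flp_i L64902) L47493 L64902
theorem L64911 : sm gh N6020 = N8244 := rfl
theorem L64913 : sm gb N8244 = N6061 := ded_22_1 (flp_h L47833) (flp_b L47499) L64911
theorem L64915 : sm gg N8244 = N8244 := ded_42_1 (flp_h L64911) L47503 L64911
theorem L64916 : sm gd N8244 = N7753 := ded_33_1 (flp_h L61084) L44778 (flp_h L34841) (flp_d L47501) L64911
theorem L64918 : sm gi N8244 = N8244 := ded_44_2 (flp_h L64911) (flp_i L47497) L34831 L47497 L64911
theorem L64919 : sm gh N6021 = N8245 := rfl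
theorem L64921 : sm gb N8245 = N6026 := ded_22_1 (flp_h L47548) (flp_b L47506) L64919
theorem L64923 : sm ge N8245 = N8245 := ded_37_1 (flp_h L64919) L47511 L64919
theorem L64924 : sm gf N8245 = N6022 := ded_40_1 (flp_h L47514) L47504 L64919
theorem L64926 : sm gg N8245 = N6209 := ded_42_1 (flp_h L49089) (flp_g L47512) L64919
theorem L64928 : sm gd N6022 = N8246 := rfl
theorem L64930 : sm gb N8246 = N6027 := ded_18_1 (flp_d L47557) (flp_b L47516) L64928
theorem L64932 : sm gg N8246 = N6023 := ded_32_2 (flp_d L47522) (flp_g L47520) L64928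
theorem L64934 : sm gh N8246 = N8246 := ded_33_2 (flp_d L64928) (flp_h L47514) L34847 L47514 L64928
theorem L64935 : sm gi N6022 = N8247 := rfl
theorem L64937 : sm gb N8247 = N6028 := ded_23_1 (flp_i L47562) (flp_b L47516) L64935
theorem L64939 : sm ge N8247 = N6025 := ded_38_1 (flp_i L47539) (flp_e L47518) L64935
theorem L64941 : sm gg N8247 = N6024 := ded_43_1 (flp_i L47529) (flp_g L47520) L64935
theorem L64943 : sm gh N8247 = N7756 := ded_44_1 (flp_i L61106) (flp_h L44787) (flp_i L34850) L47514 L64935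
theorem L64945 : sm gc N6023 = N8248 := rfl
theorem L64947 : sm gf N8248 = N6212 := ded_26_2 (flp_c L49112) (flp_f L47526) L64945
theorem L64949 : sm gh N8248 = N8248 := ded_28_2 (flp_c L64945) L47528 L64945
theorem L64950 : sm gi N6023 = N8249 := rfl
theorem L64952 : sm gb N8249 = N6030 := ded_23_1 (flp_i L47579) (flp_b L47524) L64950
theorem L64954 : sm gd N8249 = N6024 := ded_34_1 (flp_i L47529) L47522 L64950
theorem L64956 : sm gf N8249 = N6213 := ded_41_1 (flp_i L49116) (flp_f L47526) L64950
theorem L64958 : sm gd N6026 = N8250 := rfl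
theorem L64960 : sm gf N8250 = N6027 := ded_31_2 (flp_d L47557) (flp_f L47553) L64958
theorem L64964 : sm gh N8250 = N8250 := ded_33_2 (flp_d L64958) (flp_h L47548) L34879 L47548 L64958
theorem L64965 : sm gi N6026 = N8251 := rfl
theorem L64967 : sm gc N8251 = N6068 := ded_29_1 (flp_i L47892) (flp_c L47550) L64965
theorem L64969 : sm ge N8251 = N8251 := ded_38_1 (flp_i L64965) L47552 L64965
theorem L64970 : sm gf N8251 = N6028 := ded_41_1 (flp_i L47562) (flp_f L47553) L64965
theorem L64972 : sm gg N8251 = N6215 := ded_43_1 (flp_i L49128) (flp_g L47555) L64965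
theorem L64974 : sm gh N8251 = N7760 := ded_44_1 (flp_i L61132) (flp_h L44815) (flp_i L34880) L47548 L64965
theorem L64976 : sm gc N6027 = N8252 := rfl
theorem L64978 : sm gg N8252 = N6029 := ded_27_2 (flp_c L47572) (flp_g L47559) L64976
theorem L64980 : sm gh N8252 = N8252 := ded_28_2 (flp_c L64976) L47561 L64976
theorem L64981 : sm gd N8252 = N6069 := ded_24_2 (flp_c L47901) (flp_d L35126) (flp_c L34887) L47557 L64976
theorem L64983 : sm gi N6027 = N8253 := rfl
theorem L64985 : sm gd N8253 = N6028 := ded_34_1 (flp_i L47562) L47557 L64983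
theorem L64987 : sm gg N8253 = N6030 := ded_43_1 (flp_i L47579) (flp_g L47559) L64983
theorem L64989 : sm gb N6029 = N8254 := rfl
theorem L64991 : sm gd N8254 = N6071 := ded_18_2 (flp_b L47915) (flp_d L47577) L64989
theorem L64993 : sm gf N8254 = N6218 := ded_20_2 (flp_b L49150) (flp_f L47574) L64989
theorem L64995 : sm gh N8254 = N8254 := ded_22_2 (flp_b L64989) L47576 L64989
theorem L64996 : sm gi N6029 = N8255 := rfl
theorem L64998 : sm gc N8255 = N6030 := ded_29_1 (flp_i L47579) L47572 L64996
theorem L65000 : sm gd N8255 = N6072 := ded_34_1 (flp_i L47922) (flp_d L47577) L64996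
theorem L65002 : sm gf N8255 = N6219 := ded_41_1 (flp_i L49156) (flp_f L47574) L64996
theorem L65004 : sm gh N6030 = N8256 := rfl
theorem L65006 : sm gf N8256 = N6220 := ded_40_1 (flp_h L49163) (flp_f L47583) L65004
theorem L65008 : sm gd N8256 = N7765 := ded_33_1 (flp_h L61175) L44854 (flp_h L34906) (flp_d L47581) L65004
theorem L65010 : sm gi N8256 = N8256 := ded_44_2 (flp_h L65004) (flp_i L47579) L34897 L47579 L65004
theorem L65011 : sm gd N6031 = N8257 := rfl
theorem L65013 : sm gb N8257 = N6036 := ded_18_1 (flp_d L47622) (flp_b L47587) L65011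
theorem L65015 : sm gf N8257 = N6264 := ded_31_2 (flp_d L49561) (flp_f L47591) L65011
theorem L65017 : sm gi N8257 = N7766 := ded_34_2 (flp_d L61181) (flp_i L47589) L65011
theorem L65019 : sm ge N8257 = N8257 := ded_30_2 (flp_d L65011) (flp_e L47585) L34921 L47585 L65011
theorem L65020 : sm gg N6031 = N8258 := rfl
theorem L65022 : sm gb N8258 = N6037 := ded_21_1 (flp_g L47633) (flp_b L47587) L65020
theorem L65024 : sm ge N8258 = N6032 := ded_36_1 (flp_g L47593) L47585 L65020
theorem L65026 : sm gi N8258 = N7767 := ded_43_2 (flp_g L61186) (flp_i L47589) L65020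
theorem L65028 : sm gh N6031 = N8259 := rfl
theorem L65030 : sm gb N8259 = N6038 := ded_22_1 (flp_h L47643) (flp_b L47587) L65028
theorem L65032 : sm ge N8259 = N6033 := ded_37_1 (flp_h L47601) L47585 L65028
theorem L65034 : sm gf N8259 = N6266 := ded_40_1 (flp_h L49573) (flp_f L47591) L65028
theorem L65036 : sm gh N6032 = N8260 := rfl
theorem L65038 : sm gb N8260 = N6039 := ded_22_1 (flp_h L47653) (flp_b L47595) L65036
theorem L65040 : sm gf N8260 = N8260 := ded_40_1 (flp_h L65036) L47600 L65036
theorem L65041 : sm gg N8260 = N6033 := ded_42_1 (flp_h L47601) L47593 L65036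
theorem L65043 : sm gd N6033 = N8261 := rfl
theorem L65045 : sm gb N8261 = N6040 := ded_18_1 (flp_d L47662) (flp_b L47603) L65043
theorem L65047 : sm gf N8261 = N6034 := ded_31_2 (flp_d L47607) (flp_f L47605) L65043
theorem L65049 : sm gh N8261 = N8261 := ded_33_2 (flp_d L65043) (flp_h L47601) L34921 L47601 L65043
theorem L65050 : sm gi N6033 = N8262 := rfl
theorem L65052 : sm gb N8262 = N6041 := ded_23_1 (flp_i L47670) (flp_b L47603) L65050
theorem L65054 : sm gf N8262 = N6035 := ded_41_1 (flp_i L47613) (flp_f L47605) L65050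
theorem L65056 : sm gh N8262 = N7771 := ded_44_1 (flp_i L61218) (flp_h L44871) (flp_i L34922) L47601 L65050
theorem L65058 : sm gc N6034 = N8263 := rfl
theorem L65060 : sm gg N8263 = N8263 := ded_27_2 (flp_c L65058) L47611 L65058
theorem L65061 : sm gh N8263 = N8263 := ded_28_2 (flp_c L65058) L47612 L65058
theorem L65062 : sm gb N8263 = N8263 := ded_17_1 (flp_c L65058) L47609 L34964 (flp_b L47609) L65058
theorem L65063 : sm ge N6034 = N8264 := rfl
theorem L65065 : sm gb N8264 = N6042 := ded_19_1 (flp_e L47680) (flp_b L47609) L65063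
theorem L65067 : sm gg N8264 = N8264 := ded_36_2 (flp_e L65063) L47611 L65063
theorem L65068 : sm gh N8264 = N8264 := ded_37_2 (flp_e L65063) L47612 L65063
theorem L65069 : sm gd N8264 = N6271 := ded_30_1 (flp_e L49607) (flp_d L36324) (flp_e L34928) L47607 L65063
theorem L65071 : sm gi N6034 = N8265 := rfl
theorem L65073 : sm gb N8265 = N6043 := ded_23_1 (flp_i L47689) (flp_b L47609) L65071
theorem L65075 : sm gd N8265 = N6035 := ded_34_1 (flp_i L47613) L47607 L65071
theorem L65077 : sm gg N8265 = N8265 := ded_43_1 (flp_i L65071) L47611 L65071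
theorem L65078 : sm gg N6036 = N8266 := rfl
theorem L65080 : sm ga N8266 = N6049 := ded_14_1 (flp_g L47745) (flp_a L47624) L65078
theorem L65082 : sm gc N8266 = N6082 := ded_27_1 (flp_g L48010) (flp_c L47630) L65078
theorem L65084 : sm gd N8266 = N6037 := ded_32_1 (flp_g L47633) L47622 L65078
theorem L65086 : sm ge N8266 = N8266 := ded_36_1 (flp_g L65078) L47632 L65078
theorem L65087 : sm gi N8266 = N7775 := ded_43_2 (flp_g L61247) (flp_i L47628) L65078
theorem L65089 : sm gh N6036 = N8267 := rfl
theorem L65091 : sm ga N8267 = N6050 := ded_15_1 (flp_h L47754) (flp_a L47624) L65089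
theorem L65093 : sm gc N8267 = N6083 := ded_28_1 (flp_h L48019) (flp_c L47630) L65089
theorem L65095 : sm ge N8267 = N8267 := ded_37_1 (flp_h L65089) L47632 L65089
theorem L65096 : sm gf N8267 = N6274 := ded_40_1 (flp_h L49631) (flp_f L47626) L65089
theorem L65098 : sm gf N6037 = N8268 := rfl
theorem L65100 : sm ga N8268 = N6051 := ded_13_1 (flp_f L47761) (flp_a L47635) L65098
theorem L65102 : sm gc N8268 = N6044 := ded_26_1 (flp_f L47697) (flp_c L47637) L65098
theorem L65106 : sm ge N8268 = N8268 := ded_35_1 (flp_f L65098) L47639 L34950 (flp_e L47639) L65098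
theorem L65107 : sm gg N8268 = N6275 := ded_39_2 (flp_f L49639) (flp_g L36344) (flp_f L34939) L47633 L65098
theorem L65109 : sm gh N6037 = N8269 := rfl
theorem L65111 : sm ga N8269 = N6052 := ded_15_1 (flp_h L47770) (flp_a L47635) L65109
theorem L65113 : sm gc N8269 = N6045 := ded_28_1 (flp_h L47708) (flp_c L47637) L65109
theorem L65115 : sm ge N8269 = N6039 := ded_37_1 (flp_h L47653) (flp_e L47639) L65109
theorem L65117 : sm gg N8269 = N6038 := ded_42_1 (flp_h L47643) L47633 L65109
theorem L65119 : sm gd N6038 = N8270 := rfl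
theorem L65121 : sm ga N8270 = N6053 := ded_11_1 (flp_d L47778) (flp_a L47645) L65119
theorem L65123 : sm gf N8270 = N6277 := ded_31_2 (flp_d L49656) (flp_f L47651) L65119
theorem L65125 : sm gi N6038 = N8271 := rfl
theorem L65127 : sm ga N8271 = N6054 := ded_16_1 (flp_i L47782) (flp_a L47645) L65125
theorem L65129 : sm gc N8271 = N6047 := ded_29_1 (flp_i L47725) (flp_c L47647) L65125
theorem L65131 : sm ge N8271 = N6041 := ded_38_1 (flp_i L47670) (flp_e L47649) L65125
theorem L65133 : sm gf N8271 = N6278 := ded_41_1 (flp_i L49660) (flp_f L47651) L65125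
theorem L65135 : sm gh N8271 = N7780 := ded_44_1 (flp_i L61284) (flp_h L44907) (flp_i L34937) L47643 L65125
theorem L65137 : sm gd N6039 = N8272 := rfl
theorem L65139 : sm ga N8272 = N6055 := ded_11_1 (flp_d L47792) (flp_a L47655) L65137
theorem L65141 : sm gf N8272 = N8272 := ded_31_2 (flp_d L65137) L47659 L65137
theorem L65142 : sm gg N8272 = N6040 := ded_32_2 (flp_d L47662) (flp_g L47660) L65137
theorem L65144 : sm gc N8272 = N8272 := ded_24_1 (flp_d L65137) L47657 L35002 (flp_c L47657) L65137
theorem L65145 : sm gh N8272 = N8272 := ded_33_2 (flp_d L65137) (flp_h L47653) L34947 L47653 L65137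
theorem L65146 : sm gi N6039 = N8273 := rfl
theorem L65148 : sm ga N8273 = N6056 := ded_16_1 (flp_i L47799) (flp_a L47655) L65146
theorem L65150 : sm gc N8273 = N6048 := ded_29_1 (flp_i L47735) (flp_c L47657) L65146
theorem L65152 : sm gf N8273 = N8273 := ded_41_1 (flp_i L65146) L47659 L65146
theorem L65153 : sm gg N8273 = N6041 := ded_43_1 (flp_i L47670) (flp_g L47660) L65146
theorem L65155 : sm gh N8273 = N7782 := ded_44_1 (flp_i L61302) (flp_h L44915) (flp_i L34948) L47653 L65146
theorem L65157 : sm ge N6040 = N8274 := rfl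
theorem L65159 : sm ga N8274 = N6057 := ded_12_1 (flp_e L47808) (flp_a L47664) L65157
theorem L65161 : sm gc N8274 = N8274 := ded_25_1 (flp_e L65157) L47668 L65157
theorem L65162 : sm gh N8274 = N8274 := ded_37_2 (flp_e L65157) L47669 L65157
theorem L65163 : sm gi N6040 = N8275 := rfl
theorem L65165 : sm ga N8275 = N6058 := ded_16_1 (flp_i L47812) (flp_a L47664) L65163
theorem L65167 : sm gc N8275 = N8275 := ded_29_1 (flp_i L65163) L47668 L65163
theorem L65168 : sm gd N8275 = N6041 := ded_34_1 (flp_i L47670) L47662 L65163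
theorem L65170 : sm gf N8275 = N6043 := ded_41_1 (flp_i L47689) (flp_f L47666) L65163
theorem L65172 : sm gf N6042 = N8276 := rfl
theorem L65174 : sm ga N8276 = N6059 := ded_13_1 (flp_f L47819) (flp_a L47682) L65172
theorem L65176 : sm gc N8276 = N8276 := ded_26_1 (flp_f L65172) L47684 L65172
theorem L65177 : sm gd N8276 = N6283 := ded_31_1 (flp_f L49706) (flp_d L47687) L65172
theorem L65179 : sm gh N8276 = N8276 := ded_40_2 (flp_f L65172) L47686 L65172
theorem L65180 : sm gi N6042 = N8277 := rfl
theorem L65182 : sm ga N8277 = N6060 := ded_16_1 (flp_i L47825) (flp_a L47682) L65180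
theorem L65184 : sm gc N8277 = N8277 := ded_29_1 (flp_i L65180) L47684 L65180
theorem L65185 : sm gd N8277 = N6284 := ded_34_1 (flp_i L49714) (flp_d L47687) L65180
theorem L65187 : sm ge N8277 = N6043 := ded_38_1 (flp_i L47689) L47680 L65180
theorem L65189 : sm gg N8277 = N8277 := ded_43_1 (flp_i L65180) L47685 L65180
theorem L65190 : sm gh N6043 = N8278 := rfl
theorem L65192 : sm ga N8278 = N6061 := ded_15_1 (flp_h L47833) (flp_a L47691) L65190
theorem L65194 : sm gc N8278 = N8278 := ded_28_1 (flp_h L65190) L47693 L65190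
theorem L65195 : sm gg N8278 = N8278 := ded_42_1 (flp_h L65190) L47696 L65190
theorem L65196 : sm gd N8278 = N7787 := ded_33_1 (flp_h L61344) L44955 (flp_h L34975) (flp_d L47694) L65190
theorem L65198 : sm gi N8278 = N8278 := ded_44_2 (flp_h L65190) (flp_i L47689) L34965 L47689 L65190
theorem L65199 : sm gh N6044 = N8279 := rfl
theorem L65201 : sm ga N8279 = N6062 := ded_15_1 (flp_h L47840) (flp_a L47699) L65199
theorem L65203 : sm ge N8279 = N8279 := ded_37_1 (flp_h L65199) L47705 L65199
theorem L65204 : sm gf N8279 = N6045 := ded_40_1 (flp_h L47708) L47697 L65199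
theorem L65208 : sm gd N6045 = N8280 := rfl
theorem L65210 : sm ga N8280 = N6063 := ded_11_1 (flp_d L47849) (flp_a L47710) L65208
theorem L65212 : sm gg N8280 = N6046 := ded_32_2 (flp_d L47716) (flp_g L47714) L65208
theorem L65214 : sm ge N8280 = N8280 := ded_30_2 (flp_d L65208) L47712 L35002 (flp_e L47712) L65208
theorem L65215 : sm gh N8280 = N6094 := ded_33_2 (flp_d L48125) (flp_h L35278) (flp_d L34981) L47708 L65208
theorem L65217 : sm gi N6045 = N8281 := rfl
theorem L65219 : sm ga N8281 = N6064 := ded_16_1 (flp_i L47858) (flp_a L47710) L65217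
theorem L65221 : sm ge N8281 = N6048 := ded_38_1 (flp_i L47735) (flp_e L47712) L65217
theorem L65223 : sm gg N8281 = N6047 := ded_43_1 (flp_i L47725) (flp_g L47714) L65217
theorem L65225 : sm gh N8281 = N7790 := ded_44_1 (flp_i L61373) (flp_h L44967) (flp_i L34985) L47708 L65217
theorem L65227 : sm gc N6046 = N8282 := rfl
theorem L65229 : sm ga N8282 = N6065 := ded_10_1 (flp_c L47868) (flp_a L47718) L65227
theorem L65231 : sm ge N8282 = N8282 := ded_25_2 (flp_c L65227) L47722 L65227
theorem L65232 : sm gf N8282 = N6289 := ded_26_2 (flp_c L49757) (flp_f L47720) L65227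
theorem L65234 : sm gh N8282 = N6096 := ded_28_2 (flp_c L48142) (flp_h L47723) L65227
theorem L65236 : sm gi N6046 = N8283 := rfl
theorem L65238 : sm ga N8283 = N6066 := ded_16_1 (flp_i L47875) (flp_a L47718) L65236
theorem L65240 : sm gd N8283 = N6047 := ded_34_1 (flp_i L47725) L47716 L65236
theorem L65242 : sm ge N8283 = N8283 := ded_38_1 (flp_i L65236) L47722 L65236
theorem L65243 : sm gf N8283 = N6290 := ded_41_1 (flp_i L49765) (flp_f L47720) L65236
theorem L65245 : sm gf N6049 = N8284 := rfl
theorem L65247 : sm gc N8284 = N6098 := ded_26_1 (flp_f L48158) (flp_c L47747) L65245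
theorem L65249 : sm gd N8284 = N6051 := ded_31_1 (flp_f L47761) (flp_d L47749) L65245
theorem L65251 : sm gi N8284 = N7793 := ded_41_2 (flp_f L61401) (flp_i L47752) L65245
theorem L65253 : sm gg N8284 = N6291 := ded_39_2 (flp_f L49773) (flp_g L36443) (flp_f L35014) L47745 L65245
theorem L65255 : sm gh N6049 = N8285 := rfl
theorem L65257 : sm gc N8285 = N6099 := ded_28_1 (flp_h L48167) (flp_c L47747) L65255
theorem L65259 : sm ge N8285 = N8285 := ded_37_1 (flp_h L65255) L47751 L65255
theorem L65260 : sm gg N8285 = N6050 := ded_42_1 (flp_h L47754) L47745 L65255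
theorem L65262 : sm gd N6050 = N8286 := rfl
theorem L65264 : sm gf N8286 = N6293 := ded_31_2 (flp_d L49787) (flp_f L47759) L65262
theorem L65266 : sm gh N8286 = N6053 := ded_33_2 (flp_d L47778) (flp_h L35029) L35012 L47754 L65262
theorem L65268 : sm gi N6050 = N8287 := rfl
theorem L65270 : sm gc N8287 = N6101 := ded_29_1 (flp_i L48180) (flp_c L47756) L65268
theorem L65272 : sm ge N8287 = N8287 := ded_38_1 (flp_i L65268) L47758 L65268
theorem L65273 : sm gf N8287 = N6294 := ded_41_1 (flp_i L49791) (flp_f L47759) L65268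
theorem L65275 : sm gh N8287 = N7796 := ded_44_1 (flp_i L61418) (flp_h L45013) (flp_i L35016) L47754 L65268
theorem L65277 : sm gh N6051 = N8288 := rfl
theorem L65279 : sm gc N8288 = N6062 := ded_28_1 (flp_h L47840) (flp_c L47763) L65277
theorem L65281 : sm ge N8288 = N8288 := ded_37_1 (flp_h L65277) L47767 L65277
theorem L65282 : sm gf N8288 = N6052 := ded_40_1 (flp_h L47770) L47761 L65277
theorem L65284 : sm gg N8288 = N6295 := ded_42_1 (flp_h L49797) (flp_g L47768) L65277
theorem L65286 : sm gd N6052 = N8289 := rfl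
theorem L65288 : sm gg N8289 = N6053 := ded_32_2 (flp_d L47778) (flp_g L47776) L65286
theorem L65290 : sm gi N6052 = N8290 := rfl
theorem L65292 : sm gc N8290 = N6064 := ded_29_1 (flp_i L47858) (flp_c L47772) L65290
theorem L65294 : sm ge N8290 = N6056 := ded_38_1 (flp_i L47799) (flp_e L47774) L65290
theorem L65296 : sm gg N8290 = N6054 := ded_43_1 (flp_i L47782) (flp_g L47776) L65290
theorem L65298 : sm gh N8290 = N7799 := ded_44_1 (flp_i L61434) (flp_h L45023) (flp_i L35027) L47770 L65290
theorem L65300 : sm gc N6053 = N8291 := rfl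
theorem L65302 : sm gf N8291 = N6298 := ded_26_2 (flp_c L49816) (flp_f L47780) L65300
theorem L65304 : sm gd N8291 = N6065 := ded_24_2 (flp_c L47868) (flp_d L35090) (flp_c L35031) L47778 L65300
theorem L65306 : sm ge N6053 = N8292 := rfl
theorem L65308 : sm gd N8292 = N6057 := ded_30_1 (flp_e L47808) (flp_d L35044) (flp_e L35033) L47778 L65306
theorem L65310 : sm gi N6053 = N8293 := rfl
theorem L65312 : sm gd N8293 = N6054 := ded_34_1 (flp_i L47782) L47778 L65310
theorem L65314 : sm gf N8293 = N6300 := ded_41_1 (flp_i L49824) (flp_f L47780) L65310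
theorem L65316 : sm ge N6055 = N8294 := rfl
theorem L65318 : sm gc N8294 = N8294 := ded_25_1 (flp_e L65316) L47797 L65316
theorem L65319 : sm gg N8294 = N6057 := ded_36_2 (flp_e L47808) (flp_g L47795) L65316
theorem L65321 : sm gh N8294 = N8294 := ded_37_2 (flp_e L65316) L47798 L65316
theorem L65322 : sm gi N6055 = N8295 := rfl
theorem L65324 : sm gc N8295 = N8295 := ded_29_1 (flp_i L65322) L47797 L65322
theorem L65325 : sm gd N8295 = N6056 := ded_34_1 (flp_i L47799) L47792 L65322
theorem L65327 : sm gf N8295 = N8295 := ded_41_1 (flp_i L65322) L47794 L65322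
theorem L65328 : sm gg N8295 = N6058 := ded_43_1 (flp_i L47812) (flp_g L47795) L65322
theorem L65330 : sm gf N6057 = N8296 := rfl
theorem L65332 : sm gc N8296 = N8296 := ded_26_1 (flp_f L65330) L47810 L65330
theorem L65333 : sm gh N8296 = N8296 := ded_40_2 (flp_f L65330) L47811 L65330
theorem L65334 : sm ge N8296 = N6059 := ded_35_1 (flp_f L47819) (flp_e L35058) (flp_f L35046) L47808 L65330
theorem L65336 : sm gi N6057 = N8297 := rfl
theorem L65338 : sm gc N8297 = N8297 := ded_29_1 (flp_i L65336) L47810 L65336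
theorem L65339 : sm ge N8297 = N6058 := ded_38_1 (flp_i L47812) L47808 L65336
theorem L65341 : sm gh N6058 = N8298 := rfl
theorem L65343 : sm gc N8298 = N8298 := ded_28_1 (flp_h L65341) L47814 L65341
theorem L65344 : sm gf N8298 = N6061 := ded_40_1 (flp_h L47833) (flp_f L47817) L65341
theorem L65346 : sm gd N8298 = N7807 := ded_33_1 (flp_h L61483) L45063 (flp_h L35056) (flp_d L47815) L65341
theorem L65348 : sm gi N8298 = N8298 := ded_44_2 (flp_h L65341) (flp_i L47812) L35049 L47812 L65341
theorem L65349 : sm gg N6059 = N8299 := rfl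
theorem L65351 : sm gc N8299 = N8299 := ded_27_1 (flp_g L65349) L47821 L65349
theorem L65352 : sm gd N8299 = N6306 := ded_32_1 (flp_g L49867) (flp_d L47822) L65349
theorem L65354 : sm gh N8299 = N8299 := ded_42_2 (flp_g L65349) L47824 L65349
theorem L65355 : sm gf N8299 = N8299 := ded_39_1 (flp_g L65349) (flp_f L47819) L35061 L47819 L65349
theorem L65356 : sm gi N6059 = N8300 := rfl
theorem L65358 : sm gc N8300 = N8300 := ded_29_1 (flp_i L65356) L47821 L65356
theorem L65359 : sm gd N8300 = N6307 := ded_34_1 (flp_i L49874) (flp_d L47822) L65356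
theorem L65361 : sm gf N8300 = N6060 := ded_41_1 (flp_i L47825) L47819 L65356
theorem L65363 : sm gh N6060 = N8301 := rfl
theorem L65365 : sm gc N8301 = N8301 := ded_28_1 (flp_h L65363) L47827 L65363
theorem L65366 : sm ge N8301 = N6061 := ded_37_1 (flp_h L47833) (flp_e L47830) L65363
theorem L65368 : sm gg N8301 = N8301 := ded_42_1 (flp_h L65363) L47832 L65363
theorem L65369 : sm gi N8301 = N8301 := ded_44_2 (flp_h L65363) (flp_i L47825) L35062 L47825 L65363
theorem L65370 : sm gd N6062 = N8302 := rfl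
theorem L65380 : sm gi N6062 = N8303 := rfl
theorem L65382 : sm gb N8303 = N6068 := ded_23_1 (flp_i L47892) (flp_b L47842) L65380
theorem L65384 : sm ge N8303 = N8303 := ded_38_1 (flp_i L65380) L47844 L65380
theorem L65385 : sm gf N8303 = N6064 := ded_41_1 (flp_i L47858) (flp_f L47845) L65380
theorem L65389 : sm gh N8303 = N7812 := ded_44_1 (flp_i L61518) (flp_h L45085) (flp_i L35077) L47840 L65380
theorem L65391 : sm gc N6063 = N8304 := rfl
theorem L65393 : sm ge N8304 = N8304 := ded_25_2 (flp_c L65391) L47855 L65391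
theorem L65394 : sm gg N8304 = N6065 := ded_27_2 (flp_c L47868) (flp_g L47853) L65391
theorem L65396 : sm gh N8304 = N6114 := ded_28_2 (flp_c L48287) (flp_h L47856) L65391
theorem L65398 : sm gi N6063 = N8305 := rfl
theorem L65400 : sm gb N8305 = N6070 := ded_23_1 (flp_i L47908) (flp_b L47851) L65398
theorem L65402 : sm gd N8305 = N6064 := ded_34_1 (flp_i L47858) L47849 L65398
theorem L65404 : sm ge N8305 = N8305 := ded_38_1 (flp_i L65398) L47855 L65398
theorem L65405 : sm gg N8305 = N6066 := ded_43_1 (flp_i L47875) (flp_g L47853) L65398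
theorem L65407 : sm gb N6065 = N8306 := rfl
theorem L65409 : sm ge N8306 = N8306 := ded_19_2 (flp_b L65407) L47870 L65407
theorem L65410 : sm gf N8306 = N6313 := ded_20_2 (flp_b L49922) (flp_f L47871) L65407
theorem L65412 : sm gh N8306 = N6116 := ded_22_2 (flp_b L48301) (flp_h L47873) L65407
theorem L65414 : sm gc N8306 = N6071 := ded_17_2 (flp_b L47915) (flp_c L35141) (flp_b L35092) L47868 L65407
theorem L65416 : sm gi N6065 = N8307 := rfl
theorem L65418 : sm gc N8307 = N6066 := ded_29_1 (flp_i L47875) L47868 L65416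
theorem L65420 : sm ge N8307 = N8307 := ded_38_1 (flp_i L65416) L47870 L65416
theorem L65421 : sm gf N8307 = N6314 := ded_41_1 (flp_i L49930) (flp_f L47871) L65416
theorem L65450 : sm gi N6067 = N8311 := rfl
theorem L65452 : sm gd N8311 = N6068 := ded_34_1 (flp_i L47892) L47884 L65450
theorem L65456 : sm gg N8311 = N6318 := ded_43_1 (flp_i L49957) (flp_g L47888) L65450
theorem L65458 : sm gb N6069 = N8312 := rfl
theorem L65460 : sm ge N8312 = N8312 := ded_19_2 (flp_b L65458) L47903 L65458
theorem L65461 : sm gg N8312 = N6071 := ded_21_2 (flp_b L47915) (flp_g L47904) L65458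
theorem L65463 : sm gh N8312 = N6122 := ded_22_2 (flp_b L48346) (flp_h L47906) L65458
theorem L65465 : sm gi N6069 = N8313 := rfl
theorem L65467 : sm gc N8313 = N6070 := ded_29_1 (flp_i L47908) L47901 L65465
theorem L65469 : sm ge N8313 = N8313 := ded_38_1 (flp_i L65465) L47903 L65465
theorem L65470 : sm gg N8313 = N6072 := ded_43_1 (flp_i L47922) (flp_g L47904) L65465
theorem L65472 : sm gh N6070 = N8314 := rfl
theorem L65475 : sm gg N8314 = N6073 := ded_42_1 (flp_h L47929) (flp_g L47913) L65472
theorem L65479 : sm gi N8314 = N6124 := ded_44_2 (flp_h L48360) (flp_i L35472) (flp_h L35131) L47908 L65472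
theorem L65481 : sm ga N6071 = N8315 := rfl
theorem L65483 : sm ge N8315 = N8315 := ded_12_2 (flp_a L65481) L47917 L65481
theorem L65484 : sm gf N8315 = N6322 := ded_13_2 (flp_a L49987) (flp_f L47918) L65481
theorem L65486 : sm gh N8315 = N6125 := ded_15_2 (flp_a L48367) (flp_h L47920) L65481
theorem L65488 : sm gi N6071 = N8316 := rfl
theorem L65490 : sm gb N8316 = N6072 := ded_23_1 (flp_i L47922) L47915 L65488
theorem L65492 : sm ge N8316 = N8316 := ded_38_1 (flp_i L65488) L47917 L65488
theorem L65493 : sm gf N8316 = N6323 := ded_41_1 (flp_i L49993) (flp_f L47918) L65488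
theorem L65495 : sm gh N6072 = N8317 := rfl
theorem L65502 : sm gi N8317 = N6127 := ded_44_2 (flp_h L48381) (flp_i L35485) (flp_h L35146) L47922 L65495
theorem L65504 : sm gc N6074 = N8318 := rfl
theorem L65506 : sm ga N8318 = N8318 := ded_10_1 (flp_c L65504) L47940 L65504
theorem L65507 : sm ge N8318 = N8318 := ded_25_2 (flp_c L65504) L47947 L65504
theorem L65508 : sm gf N8318 = N6383 := ded_26_2 (flp_c L50537) (flp_f L47943) L65504
theorem L65510 : sm gi N8318 = N7827 := ded_29_2 (flp_c L61642) (flp_i L47945) L65504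
theorem L65512 : sm gg N6074 = N8319 := rfl
theorem L65514 : sm ga N8319 = N8319 := ded_14_1 (flp_g L65512) L47940 L65512
theorem L65515 : sm gb N8319 = N6082 := ded_21_1 (flp_g L48010) (flp_b L47941) L65512
theorem L65517 : sm gd N8319 = N6075 := ded_32_1 (flp_g L47948) L47938 L65512
theorem L65519 : sm ge N8319 = N8319 := ded_36_1 (flp_g L65512) L47947 L65512
theorem L65520 : sm gi N8319 = N7828 := ded_43_2 (flp_g L61648) (flp_i L47945) L65512
theorem L65522 : sm gh N6074 = N8320 := rfl
theorem L65524 : sm ga N8320 = N8320 := ded_15_1 (flp_h L65522) L47940 L65522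
theorem L65525 : sm gb N8320 = N6083 := ded_22_1 (flp_h L48019) (flp_b L47941) L65522
theorem L65527 : sm ge N8320 = N8320 := ded_37_1 (flp_h L65522) L47947 L65522
theorem L65528 : sm gf N8320 = N6385 := ded_40_1 (flp_h L50551) (flp_f L47943) L65522
theorem L65530 : sm gf N6075 = N8321 := rfl
theorem L65532 : sm ga N8321 = N8321 := ded_13_1 (flp_f L65530) L47950 L65530
theorem L65533 : sm gb N8321 = N6084 := ded_20_1 (flp_f L48026) (flp_b L47951) L65530
theorem L65535 : sm gi N8321 = N7830 := ded_41_2 (flp_f L61662) (flp_i L47955) L65530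
theorem L65537 : sm ge N8321 = N7207 := ded_35_1 (flp_f L56792) L41626 (flp_f L35172) (flp_e L47953) L65530
theorem L65539 : sm gg N8321 = N6386 := ded_39_2 (flp_f L50558) (flp_g L37021) (flp_f L35162) L47948 L65530
theorem L65541 : sm gh N6075 = N8322 := rfl
theorem L65543 : sm ga N8322 = N8322 := ded_15_1 (flp_h L65541) L47950 L65541
theorem L65544 : sm gb N8322 = N6085 := ded_22_1 (flp_h L48038) (flp_b L47951) L65541
theorem L65546 : sm ge N8322 = N6077 := ded_37_1 (flp_h L47966) (flp_e L47953) L65541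
theorem L65548 : sm gg N8322 = N6076 := ded_42_1 (flp_h L47957) L47948 L65541
theorem L65550 : sm gd N6076 = N8323 := rfl
theorem L65552 : sm ga N8323 = N8323 := ded_11_1 (flp_d L65550) L47959 L65550
theorem L65553 : sm gb N8323 = N6086 := ded_18_1 (flp_d L48048) (flp_b L47960) L65550
theorem L65555 : sm gf N8323 = N6388 := ded_31_2 (flp_d L50574) (flp_f L47964) L65550
theorem L65557 : sm gi N6076 = N8324 := rfl
theorem L65562 : sm ge N8324 = N6079 := ded_38_1 (flp_i L47983) (flp_e L47962) L65557
theorem L65566 : sm gh N8324 = N7833 := ded_44_1 (flp_i L61687) (flp_h L45196) (flp_i L35160) L47957 L65557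
theorem L65568 : sm gd N6077 = N8325 := rfl
theorem L65570 : sm ga N8325 = N8325 := ded_11_1 (flp_d L65568) L47968 L65568
theorem L65571 : sm gb N8325 = N6088 := ded_18_1 (flp_d L48066) (flp_b L47969) L65568
theorem L65573 : sm gf N8325 = N7211 := ded_31_2 (flp_d L56828) (flp_f L47971) L65568
theorem L65575 : sm gg N8325 = N6078 := ded_32_2 (flp_d L47975) (flp_g L47973) L65568
theorem L65577 : sm gh N8325 = N8325 := ded_33_2 (flp_d L65568) (flp_h L47966) L35169 L47966 L65568
theorem L65578 : sm gi N6077 = N8326 := rfl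
theorem L65581 : sm gb N8326 = N6089 := ded_23_1 (flp_i L48076) (flp_b L47969) L65578
theorem L65585 : sm gg N8326 = N6079 := ded_43_1 (flp_i L47983) (flp_g L47973) L65578
theorem L65587 : sm gh N8326 = N7835 := ded_44_1 (flp_i L61707) (flp_h L45205) (flp_i L35170) L47966 L65578
theorem L65589 : sm gc N6078 = N8327 := rfl
theorem L65591 : sm ga N8327 = N8327 := ded_10_1 (flp_c L65589) L47977 L65589
theorem L65592 : sm gf N8327 = N6080 := ded_26_2 (flp_c L47992) (flp_f L47980) L65589
theorem L65594 : sm gh N8327 = N8327 := ded_28_2 (flp_c L65589) L47982 L65589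
theorem L65595 : sm gb N8327 = N8327 := ded_17_1 (flp_c L65589) L47978 L35246 (flp_b L47978) L65589
theorem L65596 : sm ge N6078 = N8328 := rfl
theorem L65598 : sm ga N8328 = N8328 := ded_12_1 (flp_e L65596) L47977 L65596
theorem L65599 : sm gb N8328 = N6090 := ded_19_1 (flp_e L48088) (flp_b L47978) L65596
theorem L65601 : sm gh N8328 = N8328 := ded_37_2 (flp_e L65596) L47982 L65596
theorem L65602 : sm gf N8328 = N8328 := ded_35_2 (flp_e L65596) L47980 L35188 (flp_f L47980) L65596
theorem L65603 : sm gi N6078 = N8329 := rfl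
theorem L65605 : sm ga N8329 = N8329 := ded_16_1 (flp_i L65603) L47977 L65603
theorem L65606 : sm gb N8329 = N6091 := ded_23_1 (flp_i L48095) (flp_b L47978) L65603
theorem L65608 : sm gd N8329 = N6079 := ded_34_1 (flp_i L47983) L47975 L65603
theorem L65610 : sm gf N8329 = N6081 := ded_41_1 (flp_i L48000) (flp_f L47980) L65603
theorem L65612 : sm gi N6080 = N8330 := rfl
theorem L65614 : sm ga N8330 = N8330 := ded_16_1 (flp_i L65612) L47994 L65612
theorem L65615 : sm gb N8330 = N8330 := ded_23_1 (flp_i L65612) L47999 L65612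
theorem L65616 : sm gc N8330 = N6081 := ded_29_1 (flp_i L48000) L47992 L65612
theorem L65618 : sm ge N8330 = N8330 := ded_38_1 (flp_i L65612) L47995 L65612
theorem L65619 : sm gg N8330 = N7216 := ded_43_1 (flp_i L56868) (flp_g L47996) L65612
theorem L65621 : sm gh N6081 = N8331 := rfl
theorem L65624 : sm gb N8331 = N6092 := ded_22_1 (flp_h L48104) (flp_b L48003) L65621
theorem L65629 : sm gd N8331 = N7840 := ded_33_1 (flp_h L61752) L45249 (flp_h L35199) (flp_d L48005) L65621
theorem L65632 : sm gf N6082 = N8332 := rfl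
theorem L65634 : sm ga N8332 = N6098 := ded_13_1 (flp_f L48158) (flp_a L48012) L65632
theorem L65636 : sm gd N8332 = N6084 := ded_31_1 (flp_f L48026) (flp_d L48014) L65632
theorem L65638 : sm gi N8332 = N7841 := ded_41_2 (flp_f L61761) (flp_i L48017) L65632
theorem L65640 : sm gg N8332 = N6391 := ded_39_2 (flp_f L50597) (flp_g L37053) (flp_f L35205) L48010 L65632
theorem L65642 : sm gh N6082 = N8333 := rfl
theorem L65644 : sm ga N8333 = N6099 := ded_15_1 (flp_h L48167) (flp_a L48012) L65642
theorem L65646 : sm ge N8333 = N8333 := ded_37_1 (flp_h L65642) L48016 L65642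
theorem L65647 : sm gg N8333 = N6083 := ded_42_1 (flp_h L48019) L48010 L65642
theorem L65649 : sm gd N6083 = N8334 := rfl
theorem L65651 : sm ga N8334 = N6100 := ded_11_1 (flp_d L48173) (flp_a L48021) L65649
theorem L65653 : sm gf N8334 = N6393 := ded_31_2 (flp_d L50611) (flp_f L48024) L65649
theorem L65655 : sm gh N8334 = N6086 := ded_33_2 (flp_d L48048) (flp_h L35220) L35201 L48019 L65649
theorem L65657 : sm gi N6083 = N8335 := rfl
theorem L65659 : sm ga N8335 = N6101 := ded_16_1 (flp_i L48180) (flp_a L48021) L65657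
theorem L65661 : sm ge N8335 = N8335 := ded_38_1 (flp_i L65657) L48023 L65657
theorem L65662 : sm gf N8335 = N6394 := ded_41_1 (flp_i L50618) (flp_f L48024) L65657
theorem L65664 : sm gh N8335 = N7844 := ded_44_1 (flp_i L61780) (flp_h L45260) (flp_i L35207) L48019 L65657
theorem L65678 : sm gd N6085 = N8337 := rfl
theorem L65680 : sm ga N8337 = N6103 := ded_11_1 (flp_d L48199) (flp_a L48040) L65678
theorem L65682 : sm gg N8337 = N6086 := ded_32_2 (flp_d L48048) (flp_g L48046) L65678
theorem L65696 : sm gc N6086 = N8339 := rfl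
theorem L65698 : sm ga N8339 = N6105 := ded_10_1 (flp_c L48215) (flp_a L48050) L65696
theorem L65700 : sm gf N8339 = N6398 := ded_26_2 (flp_c L50651) (flp_f L48052) L65696
theorem L65702 : sm gd N8339 = N6096 := ded_24_2 (flp_c L48142) (flp_d L35286) (flp_c L35224) L48048 L65696
theorem L65704 : sm ge N6086 = N8340 := rfl
theorem L65706 : sm ga N8340 = N6106 := ded_12_1 (flp_e L48221) (flp_a L48050) L65704
theorem L65708 : sm gd N8340 = N6090 := ded_30_1 (flp_e L48088) (flp_d L35240) (flp_e L35226) L48048 L65704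
theorem L65710 : sm gf N8340 = N8340 := ded_35_2 (flp_e L65704) L48052 L37089 (flp_f L48052) L65704
theorem L65719 : sm ge N6088 = N8342 := rfl
theorem L65721 : sm ga N8342 = N6108 := ded_12_1 (flp_e L48234) (flp_a L48068) L65719
theorem L65723 : sm gc N8342 = N8342 := ded_25_1 (flp_e L65719) L48074 L65719
theorem L65724 : sm gg N8342 = N6090 := ded_36_2 (flp_e L48088) (flp_g L48072) L65719
theorem L65726 : sm gh N8342 = N8342 := ded_37_2 (flp_e L65719) L48075 L65719
theorem L65727 : sm gi N6088 = N8343 := rfl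
theorem L65736 : sm gg N8343 = N6091 := ded_43_1 (flp_i L48095) (flp_g L48072) L65727
theorem L65738 : sm gi N6090 = N8344 := rfl
theorem L65740 : sm ga N8344 = N6110 := ded_16_1 (flp_i L48251) (flp_a L48090) L65738
theorem L65742 : sm gc N8344 = N8344 := ded_29_1 (flp_i L65738) L48092 L65738
theorem L65743 : sm ge N8344 = N6091 := ded_38_1 (flp_i L48095) L48088 L65738
theorem L65745 : sm gf N8344 = N8344 := ded_41_1 (flp_i L65738) L48094 L65738
theorem L65746 : sm gh N6091 = N8345 := rfl
theorem L65756 : sm gd N6093 = N8346 := rfl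
theorem L65760 : sm gf N8346 = N6094 := ded_31_2 (flp_d L48125) (flp_f L48121) L65756
theorem L65776 : sm gc N6094 = N8348 := rfl
theorem L65778 : sm ga N8348 = N6114 := ded_10_1 (flp_c L48287) (flp_a L48127) L65776
theorem L65780 : sm ge N8348 = N8348 := ded_25_2 (flp_c L65776) L48131 L65776
theorem L65781 : sm gg N8348 = N6096 := ded_27_2 (flp_c L48142) (flp_g L48129) L65776
theorem L65783 : sm gi N6094 = N8349 := rfl
theorem L65787 : sm gd N8349 = N6095 := ded_34_1 (flp_i L48132) L48125 L65783
theorem L65792 : sm gb N6096 = N8350 := rfl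
theorem L65794 : sm ge N8350 = N8350 := ded_19_2 (flp_b L65792) L48146 L65792
theorem L65795 : sm gf N8350 = N6404 := ded_20_2 (flp_b L50697) (flp_f L48147) L65792
theorem L65797 : sm gi N6096 = N8351 := rfl
theorem L65799 : sm ga N8351 = N6117 := ded_16_1 (flp_i L48308) (flp_a L48144) L65797
theorem L65815 : sm ge N6098 = N8353 := rfl
theorem L65817 : sm gb N8353 = N8353 := ded_19_1 (flp_e L65815) L48160 L65815
theorem L65818 : sm gg N8353 = N6407 := ded_36_2 (flp_e L50715) (flp_g L48165) L65815
theorem L65820 : sm gi N8353 = N7866 := ded_38_2 (flp_e L61965) (flp_i L48163) L65815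
theorem L65822 : sm gd N8353 = N7239 := ded_30_1 (flp_e L57068) L41823 (flp_e L35335) (flp_d L48161) L65815
theorem L65824 : sm gf N8353 = N8353 := ded_35_2 (flp_e L65815) (flp_f L48158) L35319 L48158 L65815
theorem L65825 : sm gh N6098 = N8354 := rfl
theorem L65827 : sm gb N8354 = N8354 := ded_22_1 (flp_h L65825) L48160 L65825
theorem L65828 : sm gf N8354 = N6099 := ded_40_1 (flp_h L48167) L48158 L65825
theorem L65830 : sm gg N8354 = N6408 := ded_42_1 (flp_h L50722) (flp_g L48165) L65825
theorem L65832 : sm gd N6099 = N8355 := rfl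
theorem L65834 : sm gb N8355 = N8355 := ded_18_1 (flp_d L65832) L48169 L65832
theorem L65835 : sm gg N8355 = N6100 := ded_32_2 (flp_d L48173) (flp_g L48171) L65832
theorem L65837 : sm gh N8355 = N6103 := ded_33_2 (flp_d L48199) (flp_h L35339) (flp_d L35317) L48167 L65832
theorem L65839 : sm gi N6099 = N8356 := rfl
theorem L65841 : sm gb N8356 = N8356 := ded_23_1 (flp_i L65839) L48169 L65839
theorem L65842 : sm ge N8356 = N8356 := ded_38_1 (flp_i L65839) L48170 L65839
theorem L65843 : sm gg N8356 = N6101 := ded_43_1 (flp_i L48180) (flp_g L48171) L65839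
theorem L65845 : sm gh N8356 = N7869 := ded_44_1 (flp_i L61983) (flp_h L45410) (flp_i L35320) L48167 L65839
theorem L65847 : sm gc N6100 = N8357 := rfl
theorem L65849 : sm gf N8357 = N6411 := ded_26_2 (flp_c L50742) (flp_f L48176) L65847
theorem L65851 : sm gh N8357 = N6105 := ded_28_2 (flp_c L48215) (flp_h L48178) L65847
theorem L65853 : sm ge N6100 = N8358 := rfl
theorem L65855 : sm gb N8358 = N8358 := ded_19_1 (flp_e L65853) L48175 L65853
theorem L65856 : sm gh N8358 = N6106 := ded_37_2 (flp_e L48221) (flp_h L48178) L65853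
theorem L65858 : sm gd N8358 = N8358 := ded_30_1 (flp_e L65853) (flp_d L48173) L35325 L48173 L65853
theorem L65859 : sm gf N8358 = N8358 := ded_35_2 (flp_e L65853) L48176 L37162 (flp_f L48176) L65853
theorem L65860 : sm gi N6100 = N8359 := rfl
theorem L65862 : sm gb N8359 = N8359 := ded_23_1 (flp_i L65860) L48175 L65860
theorem L65863 : sm gd N8359 = N6101 := ded_34_1 (flp_i L48180) L48173 L65860
theorem L65865 : sm gf N8359 = N6412 := ded_41_1 (flp_i L50747) (flp_f L48176) L65860
theorem L65867 : sm gd N6102 = N8360 := rfl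
theorem L65870 : sm gf N8360 = N6103 := ded_31_2 (flp_d L48199) (flp_f L48195) L65867
theorem L65872 : sm gg N8360 = N6413 := ded_32_2 (flp_d L50753) (flp_g L48197) L65867
theorem L65887 : sm gc N6103 = N8362 := rfl
theorem L65889 : sm gg N8362 = N6105 := ded_27_2 (flp_c L48215) (flp_g L48202) L65887
theorem L65891 : sm gd N8362 = N6114 := ded_24_2 (flp_c L48287) (flp_d L35418) (flp_c L35342) L48199 L65887
theorem L65893 : sm ge N6103 = N8363 := rfl
theorem L65895 : sm gb N8363 = N8363 := ded_19_1 (flp_e L65893) L48201 L65893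
theorem L65896 : sm gg N8363 = N6106 := ded_36_2 (flp_e L48221) (flp_g L48202) L65893
theorem L65898 : sm gd N8363 = N6108 := ded_30_1 (flp_e L48234) (flp_d L35364) (flp_e L35344) L48199 L65893
theorem L65900 : sm gi N6103 = N8364 := rfl
theorem L65903 : sm gd N8364 = N6104 := ded_34_1 (flp_i L48204) L48199 L65900
theorem L65907 : sm gb N6105 = N8365 := rfl
theorem L65909 : sm gd N8365 = N6116 := ded_18_2 (flp_b L48301) (flp_d L48219) L65907
theorem L65911 : sm gf N8365 = N6417 := ded_20_2 (flp_b L50782) (flp_f L48217) L65907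
theorem L65913 : sm gc N8365 = N8365 := ded_17_2 (flp_b L65907) (flp_c L48215) L35350 L48215 L65907
theorem L65914 : sm ge N6105 = N8366 := rfl
theorem L65916 : sm gc N8366 = N6106 := ded_25_1 (flp_e L48221) L48215 L65914
theorem L65918 : sm gd N8366 = N8366 := ded_30_1 (flp_e L65914) L48219 L35437 (flp_d L48219) L65914
theorem L65919 : sm gf N8366 = N8366 := ded_35_2 (flp_e L65914) L48217 L37196 (flp_f L48217) L65914
theorem L65928 : sm gi N6106 = N8368 := rfl
theorem L65931 : sm gd N8368 = N6110 := ded_34_1 (flp_i L48251) (flp_d L48224) L65928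
theorem L65936 : sm gh N6107 = N8369 := rfl
theorem L65939 : sm gf N8369 = N6419 := ded_40_1 (flp_h L50795) (flp_f L48232) L65936
theorem L65941 : sm gd N8369 = N7883 := ded_33_1 (flp_h L62067) L45460 (flp_h L35362) (flp_d L48230) L65936
theorem L65943 : sm gf N6108 = N8370 := rfl
theorem L65948 : sm ge N8370 = N7256 := ded_35_1 (flp_f L57196) (flp_e L41896) (flp_f L35367) L48234 L65943
theorem L65951 : sm gi N6108 = N8371 := rfl
theorem L65955 : sm ge N8371 = N6109 := ded_38_1 (flp_i L48241) L48234 L65951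
theorem L65957 : sm gg N8371 = N6110 := ded_43_1 (flp_i L48251) (flp_g L48238) L65951
theorem L65959 : sm gh N6109 = N8372 := rfl
theorem L65965 : sm gg N8372 = N6111 := ded_42_1 (flp_h L48258) (flp_g L48249) L65959
theorem L65970 : sm gh N6110 = N8373 := rfl
theorem L65974 : sm ge N8373 = N6111 := ded_37_1 (flp_h L48258) (flp_e L48255) L65970
theorem L65978 : sm gc N6112 = N8374 := rfl
theorem L65980 : sm gf N8374 = N6114 := ded_26_2 (flp_c L48287) (flp_f L48271) L65978
theorem L65982 : sm gg N8374 = N6420 := ded_27_2 (flp_c L50799) (flp_g L48273) L65978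
theorem L65993 : sm gi N6112 = N8376 := rfl
theorem L65997 : sm gd N8376 = N6113 := ded_34_1 (flp_i L48275) L48267 L65993
theorem L66003 : sm gb N6114 = N8377 := rfl
theorem L66005 : sm ge N8377 = N8377 := ded_19_2 (flp_b L66003) L48289 L66003
theorem L66006 : sm gg N8377 = N6116 := ded_21_2 (flp_b L48301) (flp_g L48290) L66003
theorem L66008 : sm gc N8377 = N6122 := ded_17_2 (flp_b L48346) (flp_c L35466) (flp_b L35420) L48287 L66003
theorem L66010 : sm gi N6114 = N8378 := rfl
theorem L66015 : sm gg N8378 = N6117 := ded_43_1 (flp_i L48308) (flp_g L48290) L66010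
theorem L66026 : sm ga N6116 = N8380 := rfl
theorem L66028 : sm gc N8380 = N6125 := ded_10_2 (flp_a L48367) (flp_c L48306) L66026
theorem L66030 : sm ge N8380 = N8380 := ded_12_2 (flp_a L66026) L48303 L66026
theorem L66031 : sm gf N8380 = N6426 := ded_13_2 (flp_a L50843) (flp_f L48304) L66026
theorem L66033 : sm gi N6116 = N8381 := rfl
theorem L66035 : sm gb N8381 = N6117 := ded_23_1 (flp_i L48308) L48301 L66033
theorem L66056 : sm ge N6119 = N8384 := rfl
theorem L66060 : sm gg N8384 = N6430 := ded_36_2 (flp_e L50868) (flp_g L48328) L66056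
theorem L66063 : sm gi N6119 = N8385 := rfl
theorem L66081 : sm gh N6121 = N8387 := rfl
theorem L66083 : sm gf N8387 = N6124 := ded_40_1 (flp_h L48360) (flp_f L48342) L66081
theorem L66085 : sm gg N8387 = N6433 := ded_42_1 (flp_h L50889) (flp_g L48344) L66081
theorem L66089 : sm ga N6122 = N8388 := rfl
theorem L66091 : sm gd N8388 = N8388 := ded_11_2 (flp_a L66089) L48348 L66089
theorem L66092 : sm ge N8388 = N8388 := ded_12_2 (flp_a L66089) L48349 L66089
theorem L66093 : sm gg N8388 = N6125 := ded_14_2 (flp_a L48367) (flp_g L48350) L66089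
theorem L66103 : sm gh N6123 = N8390 := rfl
theorem L66105 : sm gc N8390 = N6124 := ded_28_1 (flp_h L48360) (flp_c L48354) L66103
theorem L66108 : sm gg N8390 = N6127 := ded_42_1 (flp_h L48381) (flp_g L48358) L66103
theorem L66132 : sm gf N6128 = N8394 := rfl
theorem L66134 : sm ga N8394 = N8394 := ded_13_1 (flp_f L66132) L48395 L66132
theorem L66135 : sm gb N8394 = N6129 := ded_20_1 (flp_f L48398) L48388 L66132
theorem L66137 : sm gc N8394 = N8185 := ded_26_1 (flp_f L64414) (flp_c L48396) L66132
theorem L66139 : sm gd N8394 = N6586 := ded_31_1 (flp_f L52037) (flp_d L48390) L66132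
theorem L66141 : sm gi N8394 = N8394 := ded_41_2 (flp_f L66132) L48394 L66132
theorem L66142 : sm gh N6128 = N8395 := rfl
theorem L66144 : sm ga N8395 = N8395 := ded_15_1 (flp_h L66142) L48395 L66142
theorem L66145 : sm gb N8395 = N6130 := ded_22_1 (flp_h L48407) L48388 L66142
theorem L66147 : sm gc N8395 = N8186 := ded_28_1 (flp_h L64421) (flp_c L48396) L66142
theorem L66149 : sm ge N8395 = N8395 := ded_37_1 (flp_h L66142) L48392 L66142
theorem L66150 : sm gg N8395 = N8395 := ded_42_1 (flp_h L66142) L48393 L66142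
theorem L66151 : sm ge N6129 = N8396 := rfl
theorem L66153 : sm ga N8396 = N6135 := ded_12_1 (flp_e L48455) (flp_a L48400) L66151
theorem L66155 : sm gc N8396 = N6131 := ded_25_1 (flp_e L48415) (flp_c L48402) L66151
theorem L66157 : sm gi N8396 = N8396 := ded_38_2 (flp_e L66151) L48406 L66151
theorem L66158 : sm gf N8396 = N8396 := ded_35_2 (flp_e L66151) (flp_f L48398) L35504 L48398 L66151
theorem L66159 : sm gg N6129 = N8397 := rfl
theorem L66169 : sm gh N6129 = N8398 := rfl
theorem L66171 : sm ga N8398 = N6137 := ded_15_1 (flp_h L48471) (flp_a L48400) L66169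
theorem L66173 : sm gc N8398 = N6133 := ded_28_1 (flp_h L48434) (flp_c L48402) L66169
theorem L66175 : sm gf N8398 = N6130 := ded_40_1 (flp_h L48407) L48398 L66169
theorem L66177 : sm gd N6130 = N8399 := rfl
theorem L66179 : sm ga N8399 = N6138 := ded_11_1 (flp_d L48478) (flp_a L48409) L66177
theorem L66181 : sm gg N8399 = N8399 := ded_32_2 (flp_d L66177) L48414 L66177
theorem L66182 : sm gc N8399 = N6154 := ded_24_1 (flp_d L48625) L35652 (flp_d L35526) (flp_c L48411) L66177
theorem L66184 : sm gh N8399 = N6591 := ded_33_2 (flp_d L52074) (flp_h L38126) (flp_d L35507) L48407 L66177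
theorem L66186 : sm gi N6130 = N8400 := rfl
theorem L66188 : sm ga N8400 = N6139 := ded_16_1 (flp_i L48486) (flp_a L48409) L66186
theorem L66190 : sm gc N8400 = N6134 := ded_29_1 (flp_i L48444) (flp_c L48411) L66186
theorem L66192 : sm ge N8400 = N8400 := ded_38_1 (flp_i L66186) L48413 L66186
theorem L66193 : sm gg N8400 = N8400 := ded_43_1 (flp_i L66186) L48414 L66186
theorem L66194 : sm gh N8400 = N8400 := ded_44_1 (flp_i L66186) (flp_h L48407) L35506 L48407 L66186
theorem L66195 : sm gg N6131 = N8401 := rfl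
theorem L66197 : sm ga N8401 = N6140 := ded_14_1 (flp_g L48494) (flp_a L48417) L66195
theorem L66199 : sm gb N8401 = N8192 := ded_21_1 (flp_g L64470) (flp_b L48419) L66195
theorem L66201 : sm gd N8401 = N8401 := ded_32_1 (flp_g L66195) L48422 L66195
theorem L66202 : sm ge N8401 = N6132 := ded_36_1 (flp_g L48424) L48415 L66195
theorem L66204 : sm gi N8401 = N8401 := ded_43_2 (flp_g L66195) L48421 L66195
theorem L66205 : sm gh N6131 = N8402 := rfl
theorem L66207 : sm ga N8402 = N6141 := ded_15_1 (flp_h L48502) (flp_a L48417) L66205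
theorem L66209 : sm gb N8402 = N8193 := ded_22_1 (flp_h L64478) (flp_b L48419) L66205
theorem L66211 : sm ge N8402 = N6133 := ded_37_1 (flp_h L48434) L48415 L66205
theorem L66213 : sm gf N8402 = N8402 := ded_40_1 (flp_h L66205) L48423 L66205
theorem L66214 : sm gh N6132 = N8403 := rfl
theorem L66216 : sm ga N8403 = N6142 := ded_15_1 (flp_h L48509) (flp_a L48426) L66214
theorem L66218 : sm gb N8403 = N8194 := ded_22_1 (flp_h L64485) (flp_b L48428) L66214
theorem L66220 : sm gf N8403 = N8403 := ded_40_1 (flp_h L66214) L48433 L66214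
theorem L66221 : sm gg N8403 = N6133 := ded_42_1 (flp_h L48434) L48424 L66214
theorem L66223 : sm gd N8403 = N6158 := ded_33_1 (flp_h L48664) L35674 (flp_h L35537) (flp_d L48430) L66214
theorem L66225 : sm gi N6133 = N8404 := rfl
theorem L66227 : sm ga N8404 = N6143 := ded_16_1 (flp_i L48518) (flp_a L48436) L66225
theorem L66229 : sm gb N8404 = N8195 := ded_23_1 (flp_i L64494) (flp_b L48438) L66225
theorem L66231 : sm gd N8404 = N6159 := ded_34_1 (flp_i L48673) (flp_d L48442) L66225
theorem L66233 : sm gf N8404 = N6134 := ded_41_1 (flp_i L48444) (flp_f L48440) L66225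
theorem L66235 : sm gh N8404 = N8404 := ded_44_1 (flp_i L66225) (flp_h L48434) L35517 L48434 L66225
theorem L66236 : sm gd N6135 = N8405 := rfl
theorem L66242 : sm ge N8405 = N6597 := ded_30_2 (flp_d L52125) (flp_e L38167) (flp_d L35546) L48455 L66236
theorem L66244 : sm gg N6135 = N8406 := rfl
theorem L66247 : sm gc N8406 = N6140 := ded_27_1 (flp_g L48494) (flp_c L48458) L66244
theorem L66252 : sm gh N6135 = N8407 := rfl
theorem L66254 : sm gb N8407 = N8407 := ded_22_1 (flp_h L66252) L48457 L66252
theorem L66255 : sm gc N8407 = N6141 := ded_28_1 (flp_h L48502) (flp_c L48458) L66252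
theorem L66257 : sm ge N8407 = N6137 := ded_37_1 (flp_h L48471) L48455 L66252
theorem L66259 : sm gf N8407 = N8407 := ded_40_1 (flp_h L66252) L48461 L66252
theorem L66260 : sm gh N6136 = N8408 := rfl
theorem L66263 : sm gc N8408 = N6142 := ded_28_1 (flp_h L48509) (flp_c L48465) L66260
theorem L66266 : sm gg N8408 = N6137 := ded_42_1 (flp_h L48471) L48462 L66260
theorem L66268 : sm gd N6137 = N8409 := rfl
theorem L66273 : sm gc N8409 = N6164 := ded_24_1 (flp_d L48723) L35723 (flp_d L35577) (flp_c L48474) L66268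
theorem L66277 : sm gi N6137 = N8410 := rfl
theorem L66279 : sm gb N8410 = N8410 := ded_23_1 (flp_i L66277) L48473 L66277
theorem L66280 : sm gc N8410 = N6143 := ded_29_1 (flp_i L48518) (flp_c L48474) L66277
theorem L66282 : sm gf N8410 = N6139 := ded_41_1 (flp_i L48486) (flp_f L48476) L66277
theorem L66284 : sm gh N8410 = N8410 := ded_44_1 (flp_i L66277) (flp_h L48471) L35548 L48471 L66277
theorem L66285 : sm ge N6138 = N8411 := rfl
theorem L66287 : sm gb N8411 = N8411 := ded_19_1 (flp_e L66285) L48480 L66285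
theorem L66288 : sm gc N8411 = N6166 := ded_25_1 (flp_e L48741) (flp_c L48482) L66285
theorem L66290 : sm gg N8411 = N8411 := ded_36_2 (flp_e L66285) L48481 L66285
theorem L66291 : sm gh N8411 = N6603 := ded_37_2 (flp_e L52168) (flp_h L48484) L66285
theorem L66293 : sm gd N8411 = N8411 := ded_30_1 (flp_e L66285) (flp_d L48478) L35554 L48478 L66285
theorem L66294 : sm gi N6138 = N8412 := rfl
theorem L66296 : sm gb N8412 = N8412 := ded_23_1 (flp_i L66294) L48480 L66294
theorem L66297 : sm gc N8412 = N6167 := ded_29_1 (flp_i L48750) (flp_c L48482) L66294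
theorem L66299 : sm gd N8412 = N6139 := ded_34_1 (flp_i L48486) L48478 L66294
theorem L66301 : sm gg N8412 = N8412 := ded_43_1 (flp_i L66294) L48481 L66294
theorem L66302 : sm gf N6140 = N8413 := rfl
theorem L66304 : sm gb N8413 = N6144 := ded_20_1 (flp_f L48527) (flp_b L48496) L66302
theorem L66306 : sm gd N8413 = N8413 := ded_31_1 (flp_f L66302) L48498 L66302
theorem L66307 : sm gi N8413 = N8413 := ded_41_2 (flp_f L66302) L48501 L66302
theorem L66308 : sm ge N8413 = N8413 := ded_35_1 (flp_f L66302) L48499 L35570 (flp_e L48499) L66302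
theorem L66309 : sm gg N8413 = N8413 := ded_39_2 (flp_f L66302) (flp_g L48494) L35562 L48494 L66302
theorem L66310 : sm gh N6140 = N8414 := rfl
theorem L66312 : sm gb N8414 = N6145 := ded_22_1 (flp_h L48536) (flp_b L48496) L66310
theorem L66314 : sm ge N8414 = N6142 := ded_37_1 (flp_h L48509) (flp_e L48499) L66310
theorem L66316 : sm gg N8414 = N6141 := ded_42_1 (flp_h L48502) L48494 L66310
theorem L66318 : sm gd N6141 = N8415 := rfl
theorem L66320 : sm gb N8415 = N6146 := ded_18_1 (flp_d L48545) (flp_b L48504) L66318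
theorem L66322 : sm gf N8415 = N8415 := ded_31_2 (flp_d L66318) L48508 L66318
theorem L66323 : sm ge N8415 = N6170 := ded_30_2 (flp_d L48775) L35758 (flp_d L35577) (flp_e L48506) L66318
theorem L66325 : sm gh N8415 = N8415 := ded_33_2 (flp_d L66318) (flp_h L48502) L35561 L48502 L66318
theorem L66326 : sm gi N6141 = N8416 := rfl
theorem L66328 : sm gb N8416 = N6147 := ded_23_1 (flp_i L48553) (flp_b L48504) L66326
theorem L66330 : sm ge N8416 = N6143 := ded_38_1 (flp_i L48518) (flp_e L48506) L66326
theorem L66332 : sm gf N8416 = N8416 := ded_41_1 (flp_i L66326) L48508 L66326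
theorem L66333 : sm gh N8416 = N8416 := ded_44_1 (flp_i L66326) (flp_h L48502) L35560 L48502 L66326
theorem L66334 : sm gi N6142 = N8417 := rfl
theorem L66336 : sm gb N8417 = N6148 := ded_23_1 (flp_i L48562) (flp_b L48511) L66334
theorem L66338 : sm gd N8417 = N6172 := ded_34_1 (flp_i L48792) (flp_d L48516) L66334
theorem L66340 : sm gf N8417 = N8417 := ded_41_1 (flp_i L66334) L48513 L66334
theorem L66341 : sm gg N8417 = N6143 := ded_43_1 (flp_i L48518) (flp_g L48514) L66334
theorem L66343 : sm gh N8417 = N8417 := ded_44_1 (flp_i L66334) (flp_h L48509) L35569 L48509 L66334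
theorem L66344 : sm gh N6144 = N8418 := rfl
theorem L66346 : sm ga N8418 = N8209 := ded_15_1 (flp_h L64608) (flp_a L48529) L66344
theorem L66348 : sm gc N8418 = N8418 := ded_28_1 (flp_h L66344) L48531 L66344
theorem L66349 : sm ge N8418 = N8418 := ded_37_1 (flp_h L66344) L48534 L66344
theorem L66350 : sm gf N8418 = N6145 := ded_40_1 (flp_h L48536) L48527 L66344
theorem L66352 : sm gg N8418 = N8418 := ded_42_1 (flp_h L66344) L48535 L66344
theorem L66353 : sm gd N6145 = N8419 := rfl
theorem L66355 : sm ga N8419 = N8210 := ded_11_1 (flp_d L64615) (flp_a L48538) L66353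
theorem L66357 : sm gg N8419 = N6146 := ded_32_2 (flp_d L48545) (flp_g L48543) L66353
theorem L66359 : sm ge N8419 = N6174 := ded_30_2 (flp_d L48812) L35795 (flp_d L35613) (flp_e L48541) L66353
theorem L66361 : sm gh N8419 = N8419 := ded_33_2 (flp_d L66353) (flp_h L48536) L35593 L48536 L66353
theorem L66362 : sm gi N6145 = N8420 := rfl
theorem L66364 : sm ga N8420 = N8211 := ded_16_1 (flp_i L64622) (flp_a L48538) L66362
theorem L66366 : sm gc N8420 = N8420 := ded_29_1 (flp_i L66362) L48540 L66362
theorem L66367 : sm ge N8420 = N6148 := ded_38_1 (flp_i L48562) (flp_e L48541) L66362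
theorem L66369 : sm gg N8420 = N6147 := ded_43_1 (flp_i L48553) (flp_g L48543) L66362
theorem L66371 : sm gh N8420 = N8420 := ded_44_1 (flp_i L66362) (flp_h L48536) L35596 L48536 L66362
theorem L66372 : sm gc N6146 = N8421 := rfl
theorem L66374 : sm ga N8421 = N8212 := ded_10_1 (flp_c L64630) (flp_a L48547) L66372
theorem L66376 : sm ge N8421 = N6176 := ded_25_2 (flp_c L48831) (flp_e L48550) L66372
theorem L66378 : sm gf N8421 = N8421 := ded_26_2 (flp_c L66372) L48549 L66372
theorem L66379 : sm gh N8421 = N8421 := ded_28_2 (flp_c L66372) L48552 L66372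
theorem L66380 : sm gd N8421 = N8421 := ded_24_2 (flp_c L66372) (flp_d L48545) L35601 L48545 L66372
theorem L66381 : sm gi N6146 = N8422 := rfl
theorem L66383 : sm ga N8422 = N8213 := ded_16_1 (flp_i L64637) (flp_a L48547) L66381
theorem L66385 : sm gd N8422 = N6147 := ded_34_1 (flp_i L48553) L48545 L66381
theorem L66387 : sm ge N8422 = N6177 := ded_38_1 (flp_i L48840) (flp_e L48550) L66381
theorem L66389 : sm gf N8422 = N8422 := ded_41_1 (flp_i L66381) L48549 L66381
theorem L66390 : sm ge N6149 = N8423 := rfl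
theorem L66392 : sm ga N8423 = N6221 := ded_12_1 (flp_e L49167) (flp_a L48575) L66390
theorem L66394 : sm gb N8423 = N6151 := ded_19_1 (flp_e L48596) (flp_b L48577) L66390
theorem L66396 : sm gc N8423 = N8214 := ded_25_1 (flp_e L64644) (flp_c L48579) L66390
theorem L66398 : sm gi N8423 = N6178 := ded_38_2 (flp_e L48848) (flp_i L48583) L66390
theorem L66400 : sm gf N8423 = N7723 := ded_35_2 (flp_e L60843) (flp_f L44629) (flp_e L35629) L48573 L66390
theorem L66402 : sm gg N6149 = N8424 := rfl
theorem L66404 : sm ga N8424 = N6222 := ded_14_1 (flp_g L49177) (flp_a L48575) L66402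
theorem L66406 : sm gb N8424 = N6152 := ded_21_1 (flp_g L48606) (flp_b L48577) L66402
theorem L66408 : sm gc N8424 = N8215 := ded_27_1 (flp_g L64654) (flp_c L48579) L66402
theorem L66410 : sm gd N8424 = N6616 := ded_32_1 (flp_g L52269) (flp_d L48581) L66402
theorem L66412 : sm gi N8424 = N6179 := ded_43_2 (flp_g L48854) (flp_i L48583) L66402
theorem L66414 : sm gf N8424 = N8424 := ded_39_1 (flp_g L66402) (flp_f L48573) L35631 L48573 L66402
theorem L66415 : sm gh N6149 = N8425 := rfl
theorem L66417 : sm ga N8425 = N6223 := ded_15_1 (flp_h L49188) (flp_a L48575) L66415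
theorem L66419 : sm gb N8425 = N6153 := ded_22_1 (flp_h L48617) (flp_b L48577) L66415
theorem L66421 : sm gc N8425 = N8216 := ded_28_1 (flp_h L64664) (flp_c L48579) L66415
theorem L66423 : sm gf N8425 = N6150 := ded_40_1 (flp_h L48585) L48573 L66415
theorem L66425 : sm gd N6150 = N8426 := rfl
theorem L66427 : sm ga N8426 = N6224 := ded_11_1 (flp_d L49196) (flp_a L48587) L66425
theorem L66429 : sm gb N8426 = N6154 := ded_18_1 (flp_d L48625) (flp_b L48589) L66425
theorem L66431 : sm gg N8426 = N8426 := ded_32_2 (flp_d L66425) L48595 L66425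
theorem L66432 : sm gh N8426 = N6618 := ded_33_2 (flp_d L52288) (flp_h L38279) (flp_d L35627) L48585 L66425
theorem L66434 : sm gi N6150 = N8427 := rfl
theorem L66436 : sm ga N8427 = N6225 := ded_16_1 (flp_i L49203) (flp_a L48587) L66434
theorem L66438 : sm gb N8427 = N6155 := ded_23_1 (flp_i L48632) (flp_b L48589) L66434
theorem L66440 : sm gc N8427 = N8218 := ded_29_1 (flp_i L64680) (flp_c L48591) L66434
theorem L66442 : sm ge N8427 = N7727 := ded_38_1 (flp_i L60879) (flp_e L48593) L66434
theorem L66444 : sm gg N8427 = N8427 := ded_43_1 (flp_i L66434) L48595 L66434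
theorem L66445 : sm gh N8427 = N6182 := ded_44_1 (flp_i L48880) (flp_h L35837) (flp_i L35632) L48585 L66434
theorem L66447 : sm gd N6151 = N8428 := rfl
theorem L66449 : sm ga N8428 = N6160 := ded_11_1 (flp_d L48683) (flp_a L48598) L66447
theorem L66451 : sm gf N8428 = N7728 := ded_31_2 (flp_d L60888) (flp_f L48604) L66447
theorem L66453 : sm gi N8428 = N6183 := ded_34_2 (flp_d L48887) (flp_i L48602) L66447
theorem L66455 : sm gc N8428 = N8428 := ded_24_1 (flp_d L66447) L48600 L35665 (flp_c L48600) L66447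
theorem L66456 : sm ge N8428 = N6620 := ded_30_2 (flp_d L52306) (flp_e L38288) (flp_d L35644) L48596 L66447
theorem L66458 : sm gg N6151 = N8429 := rfl
theorem L66460 : sm ga N8429 = N6161 := ded_14_1 (flp_g L48694) (flp_a L48598) L66458
theorem L66462 : sm gc N8429 = N6156 := ded_27_1 (flp_g L48643) (flp_c L48600) L66458
theorem L66464 : sm ge N8429 = N6152 := ded_36_1 (flp_g L48606) L48596 L66458
theorem L66466 : sm gi N8429 = N6184 := ded_43_2 (flp_g L48894) (flp_i L48602) L66458
theorem L66468 : sm gh N6151 = N8430 := rfl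
theorem L66470 : sm ga N8430 = N6162 := ded_15_1 (flp_h L48704) (flp_a L48598) L66468
theorem L66472 : sm gc N8430 = N6157 := ded_28_1 (flp_h L48654) (flp_c L48600) L66468
theorem L66474 : sm ge N8430 = N6153 := ded_37_1 (flp_h L48617) L48596 L66468
theorem L66476 : sm gf N8430 = N7730 := ded_40_1 (flp_h L60902) (flp_f L48604) L66468
theorem L66478 : sm gh N6152 = N8431 := rfl
theorem L66480 : sm ga N8431 = N6163 := ded_15_1 (flp_h L48714) (flp_a L48608) L66478
theorem L66482 : sm gc N8431 = N6158 := ded_28_1 (flp_h L48664) (flp_c L48610) L66478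
theorem L66484 : sm gf N8431 = N8431 := ded_40_1 (flp_h L66478) L48616 L66478
theorem L66485 : sm gg N8431 = N6153 := ded_42_1 (flp_h L48617) L48606 L66478
theorem L66487 : sm gd N6153 = N8432 := rfl
theorem L66489 : sm ga N8432 = N6164 := ded_11_1 (flp_d L48723) (flp_a L48619) L66487
theorem L66491 : sm gf N8432 = N6154 := ded_31_2 (flp_d L48625) (flp_f L48623) L66487
theorem L66493 : sm gh N8432 = N6624 := ded_33_2 (flp_d L52342) (flp_h L38306) (flp_d L35644) L48617 L66487
theorem L66495 : sm gi N6153 = N8433 := rfl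
theorem L66497 : sm ga N8433 = N6165 := ded_16_1 (flp_i L48731) (flp_a L48619) L66495
theorem L66499 : sm gc N8433 = N6159 := ded_29_1 (flp_i L48673) (flp_c L48621) L66495
theorem L66501 : sm gf N8433 = N6155 := ded_41_1 (flp_i L48632) (flp_f L48623) L66495
theorem L66503 : sm gh N8433 = N6188 := ded_44_1 (flp_i L48928) (flp_h L35859) (flp_i L35646) L48617 L66495
theorem L66505 : sm ge N6154 = N8434 := rfl
theorem L66507 : sm ga N8434 = N6166 := ded_12_1 (flp_e L48741) (flp_a L48627) L66505
theorem L66509 : sm gg N8434 = N8434 := ded_36_2 (flp_e L66505) L48629 L66505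
theorem L66510 : sm gh N8434 = N6626 := ded_37_2 (flp_e L52358) (flp_h L48630) L66505
theorem L66512 : sm gd N8434 = N7734 := ded_30_1 (flp_e L60935) (flp_d L44669) (flp_e L35654) L48625 L66505
theorem L66514 : sm gi N6154 = N8435 := rfl
theorem L66516 : sm ga N8435 = N6167 := ded_16_1 (flp_i L48750) (flp_a L48627) L66514
theorem L66518 : sm gd N8435 = N6155 := ded_34_1 (flp_i L48632) L48625 L66514
theorem L66520 : sm gg N8435 = N8435 := ded_43_1 (flp_i L66514) L48629 L66514
theorem L66521 : sm gf N6156 = N8436 := rfl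
theorem L66525 : sm gb N8436 = N8227 := ded_20_1 (flp_f L64762) (flp_b L48647) L66521
theorem L66528 : sm gi N8436 = N6191 := ded_41_2 (flp_f L48952) (flp_i L48652) L66521
theorem L66533 : sm gh N6156 = N8437 := rfl
theorem L66535 : sm ga N8437 = N6169 := ded_15_1 (flp_h L48767) (flp_a L48645) L66533
theorem L66537 : sm gb N8437 = N8228 := ded_22_1 (flp_h L64772) (flp_b L48647) L66533
theorem L66539 : sm ge N8437 = N6158 := ded_37_1 (flp_h L48664) (flp_e L48650) L66533
theorem L66541 : sm gg N8437 = N6157 := ded_42_1 (flp_h L48654) L48643 L66533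
theorem L66543 : sm gd N6157 = N8438 := rfl
theorem L66545 : sm ga N8438 = N6170 := ded_11_1 (flp_d L48775) (flp_a L48656) L66543
theorem L66547 : sm gb N8438 = N8229 := ded_18_1 (flp_d L64780) (flp_b L48658) L66543
theorem L66549 : sm gf N8438 = N7738 := ded_31_2 (flp_d L60968) (flp_f L48662) L66543
theorem L66551 : sm gh N8438 = N8438 := ded_33_2 (flp_d L66543) (flp_h L48654) L35665 L48654 L66543
theorem L66552 : sm gi N6157 = N8439 := rfl
theorem L66554 : sm ga N8439 = N6171 := ded_16_1 (flp_i L48782) (flp_a L48656) L66552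
theorem L66556 : sm gb N8439 = N8230 := ded_23_1 (flp_i L64787) (flp_b L48658) L66552
theorem L66558 : sm ge N8439 = N6159 := ded_38_1 (flp_i L48673) (flp_e L48660) L66552
theorem L66560 : sm gf N8439 = N7739 := ded_41_1 (flp_i L60976) (flp_f L48662) L66552
theorem L66562 : sm gh N8439 = N6194 := ded_44_1 (flp_i L48972) (flp_h L35889) (flp_i L35663) L48654 L66552
theorem L66564 : sm gi N6158 = N8440 := rfl
theorem L66566 : sm ga N8440 = N6172 := ded_16_1 (flp_i L48792) (flp_a L48666) L66564
theorem L66568 : sm gb N8440 = N8231 := ded_23_1 (flp_i L64797) (flp_b L48668) L66564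
theorem L66570 : sm gf N8440 = N8440 := ded_41_1 (flp_i L66564) L48670 L66564
theorem L66571 : sm gg N8440 = N6159 := ded_43_1 (flp_i L48673) (flp_g L48671) L66564
theorem L66573 : sm gh N8440 = N6195 := ded_44_1 (flp_i L48978) (flp_h L35895) (flp_i L35676) L48664 L66564
theorem L66575 : sm gg N6160 = N8441 := rfl
theorem L66577 : sm gb N8441 = N6239 := ded_21_1 (flp_g L49350) (flp_b L48685) L66575
theorem L66580 : sm gd N8441 = N6161 := ded_32_1 (flp_g L48694) L48683 L66575
theorem L66584 : sm gi N8441 = N6196 := ded_43_2 (flp_g L48986) (flp_i L48689) L66575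
theorem L66586 : sm gh N6160 = N8442 := rfl
theorem L66588 : sm gb N8442 = N6240 := ded_22_1 (flp_h L49360) (flp_b L48685) L66586
theorem L66590 : sm gc N8442 = N8442 := ded_28_1 (flp_h L66586) L48691 L66586
theorem L66591 : sm ge N8442 = N6634 := ded_37_1 (flp_h L52426) (flp_e L48692) L66586
theorem L66593 : sm gf N8442 = N7742 := ded_40_1 (flp_h L61002) (flp_f L48687) L66586
theorem L66595 : sm gf N6161 = N8443 := rfl
theorem L66597 : sm gb N8443 = N6241 := ded_20_1 (flp_f L49368) (flp_b L48696) L66595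
theorem L66601 : sm gi N8443 = N6198 := ded_41_2 (flp_f L49002) (flp_i L48702) L66595
theorem L66606 : sm gh N6161 = N8444 := rfl
theorem L66608 : sm gb N8444 = N6242 := ded_22_1 (flp_h L49377) (flp_b L48696) L66606
theorem L66610 : sm gc N8444 = N6169 := ded_28_1 (flp_h L48767) (flp_c L48698) L66606
theorem L66612 : sm ge N8444 = N6163 := ded_37_1 (flp_h L48714) (flp_e L48700) L66606
theorem L66614 : sm gg N8444 = N6162 := ded_42_1 (flp_h L48704) L48694 L66606
theorem L66616 : sm gd N6162 = N8445 := rfl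
theorem L66618 : sm gb N8445 = N6243 := ded_18_1 (flp_d L49385) (flp_b L48706) L66616
theorem L66620 : sm gf N8445 = N7745 := ded_31_2 (flp_d L61025) (flp_f L48712) L66616
theorem L66622 : sm gi N6162 = N8446 := rfl
theorem L66624 : sm gb N8446 = N6244 := ded_23_1 (flp_i L49389) (flp_b L48706) L66622
theorem L66626 : sm gc N8446 = N6171 := ded_29_1 (flp_i L48782) (flp_c L48708) L66622
theorem L66628 : sm ge N8446 = N6165 := ded_38_1 (flp_i L48731) (flp_e L48710) L66622
theorem L66630 : sm gf N8446 = N7746 := ded_41_1 (flp_i L61029) (flp_f L48712) L66622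
theorem L66632 : sm gh N8446 = N6201 := ded_44_1 (flp_i L49023) (flp_h L35925) (flp_i L35704) L48704 L66622
theorem L66634 : sm gd N6163 = N8447 := rfl
theorem L66636 : sm gb N8447 = N6245 := ded_18_1 (flp_d L49399) (flp_b L48716) L66634
theorem L66639 : sm gg N8447 = N6164 := ded_32_2 (flp_d L48723) (flp_g L48721) L66634
theorem L66643 : sm gi N6163 = N8448 := rfl
theorem L66645 : sm gb N8448 = N6246 := ded_23_1 (flp_i L49407) (flp_b L48716) L66643
theorem L66647 : sm gc N8448 = N6172 := ded_29_1 (flp_i L48792) (flp_c L48718) L66643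
theorem L66649 : sm gf N8448 = N8448 := ded_41_1 (flp_i L66643) L48720 L66643
theorem L66650 : sm gg N8448 = N6165 := ded_43_1 (flp_i L48731) (flp_g L48721) L66643
theorem L66652 : sm gh N8448 = N6203 := ded_44_1 (flp_i L49041) (flp_h L35933) (flp_i L35716) L48714 L66643
theorem L66654 : sm ge N6164 = N8449 := rfl
theorem L66656 : sm gb N8449 = N6247 := ded_19_1 (flp_e L49416) (flp_b L48725) L66654
theorem L66658 : sm gh N8449 = N6641 := ded_37_2 (flp_e L52486) (flp_h L48729) L66654
theorem L66660 : sm gi N6164 = N8450 := rfl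
theorem L66662 : sm gb N8450 = N6248 := ded_23_1 (flp_i L49421) (flp_b L48725) L66660
theorem L66664 : sm gd N8450 = N6165 := ded_34_1 (flp_i L48731) L48723 L66660
theorem L66666 : sm gf N8450 = N6167 := ded_41_1 (flp_i L48750) (flp_f L48727) L66660
theorem L66668 : sm gf N6166 = N8451 := rfl
theorem L66670 : sm gb N8451 = N6249 := ded_20_1 (flp_f L49428) (flp_b L48743) L66668
theorem L66672 : sm gd N8451 = N7751 := ded_31_1 (flp_f L61070) (flp_d L48748) L66668
theorem L66674 : sm gh N8451 = N6643 := ded_40_2 (flp_f L52498) (flp_h L48746) L66668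
theorem L66676 : sm gi N6166 = N8452 := rfl
theorem L66678 : sm gb N8452 = N6250 := ded_23_1 (flp_i L49435) (flp_b L48743) L66676
theorem L66680 : sm gd N8452 = N7752 := ded_34_1 (flp_i L61076) (flp_d L48748) L66676
theorem L66682 : sm ge N8452 = N6167 := ded_38_1 (flp_i L48750) L48741 L66676
theorem L66684 : sm gg N8452 = N8452 := ded_43_1 (flp_i L66676) L48745 L66676
theorem L66685 : sm gh N6167 = N8453 := rfl
theorem L66687 : sm gb N8453 = N6251 := ded_22_1 (flp_h L49443) (flp_b L48752) L66685
theorem L66689 : sm gg N8453 = N8453 := ded_42_1 (flp_h L66685) L48756 L66685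
theorem L66690 : sm gd N8453 = N6208 := ded_33_1 (flp_h L49081) L35972 (flp_h L35743) (flp_d L48754) L66685
theorem L66692 : sm gi N8453 = N6645 := ded_44_2 (flp_h L52511) (flp_i L38422) (flp_h L35732) L48750 L66685
theorem L66694 : sm gh N6168 = N8454 := rfl
theorem L66699 : sm gf N8454 = N6169 := ded_40_1 (flp_h L48767) L48757 L66694
theorem L66703 : sm gd N6169 = N8455 := rfl
theorem L66705 : sm gb N8455 = N6174 := ded_18_1 (flp_d L48812) (flp_b L48769) L66703
theorem L66707 : sm gg N8455 = N6170 := ded_32_2 (flp_d L48775) (flp_g L48773) L66703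
theorem L66709 : sm gh N8455 = N8455 := ded_33_2 (flp_d L66703) (flp_h L48767) L35749 L48767 L66703
theorem L66710 : sm gi N6169 = N8456 := rfl
theorem L66712 : sm gb N8456 = N6175 := ded_23_1 (flp_i L48819) (flp_b L48769) L66710
theorem L66714 : sm ge N8456 = N6172 := ded_38_1 (flp_i L48792) (flp_e L48771) L66710
theorem L66716 : sm gg N8456 = N6171 := ded_43_1 (flp_i L48782) (flp_g L48773) L66710
theorem L66718 : sm gh N8456 = N6211 := ded_44_1 (flp_i L49104) (flp_h L35981) (flp_i L35752) L48767 L66710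
theorem L66720 : sm gc N6170 = N8457 := rfl
theorem L66722 : sm gf N8457 = N7757 := ded_26_2 (flp_c L61114) (flp_f L48779) L66720
theorem L66724 : sm gh N8457 = N8457 := ded_28_2 (flp_c L66720) L48781 L66720
theorem L66725 : sm gi N6170 = N8458 := rfl
theorem L66727 : sm gb N8458 = N6177 := ded_23_1 (flp_i L48840) (flp_b L48777) L66725
theorem L66729 : sm gd N8458 = N6171 := ded_34_1 (flp_i L48782) L48775 L66725
theorem L66731 : sm gf N8458 = N7758 := ded_41_1 (flp_i L61118) (flp_f L48779) L66725
theorem L66733 : sm gd N6173 = N8459 := rfl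
theorem L66737 : sm gf N8459 = N6174 := ded_31_2 (flp_d L48812) (flp_f L48808) L66733
theorem L66739 : sm gg N8459 = N7759 := ded_32_2 (flp_d L61125) (flp_g L48810) L66733
theorem L66742 : sm gi N6173 = N8460 := rfl
theorem L66744 : sm ga N8460 = N8251 := ded_16_1 (flp_i L64965) (flp_a L48803) L66742
theorem L66749 : sm gf N8460 = N6175 := ded_41_1 (flp_i L48819) (flp_f L48808) L66742
theorem L66753 : sm gh N8460 = N6215 := ded_44_1 (flp_i L49128) (flp_h L36009) (flp_i L35784) L48801 L66742
theorem L66755 : sm gc N6174 = N8461 := rfl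
theorem L66757 : sm ga N8461 = N8252 := ded_10_1 (flp_c L64976) (flp_a L48814) L66755
theorem L66759 : sm gg N8461 = N6176 := ded_27_2 (flp_c L48831) (flp_g L48816) L66755
theorem L66762 : sm gd N8461 = N6259 := ded_24_2 (flp_c L49516) (flp_d L36270) (flp_c L35793) L48812 L66755
theorem L66764 : sm gi N6174 = N8462 := rfl
theorem L66766 : sm ga N8462 = N8253 := ded_16_1 (flp_i L64983) (flp_a L48814) L66764
theorem L66768 : sm gd N8462 = N6175 := ded_34_1 (flp_i L48819) L48812 L66764
theorem L66770 : sm gg N8462 = N6177 := ded_43_1 (flp_i L48840) (flp_g L48816) L66764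
theorem L66772 : sm gb N6176 = N8463 := rfl
theorem L66774 : sm gd N8463 = N6261 := ded_18_2 (flp_b L49534) (flp_d L48838) L66772
theorem L66776 : sm gf N8463 = N7763 := ded_20_2 (flp_b L61160) (flp_f L48835) L66772
theorem L66778 : sm gh N8463 = N8463 := ded_22_2 (flp_b L66772) L48837 L66772
theorem L66779 : sm gi N6176 = N8464 := rfl
theorem L66781 : sm ga N8464 = N8255 := ded_16_1 (flp_i L64996) (flp_a L48833) L66779
theorem L66783 : sm gc N8464 = N6177 := ded_29_1 (flp_i L48840) L48831 L66779
theorem L66785 : sm gd N8464 = N6262 := ded_34_1 (flp_i L49541) (flp_d L48838) L66779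
theorem L66789 : sm gh N6177 = N8465 := rfl
theorem L66791 : sm ga N8465 = N8256 := ded_15_1 (flp_h L65004) (flp_a L48842) L66789
theorem L66793 : sm gf N8465 = N7765 := ded_40_1 (flp_h L61175) (flp_f L48846) L66789
theorem L66795 : sm gd N8465 = N6220 := ded_33_1 (flp_h L49163) L36038 (flp_h L35816) (flp_d L48844) L66789
theorem L66797 : sm gi N8465 = N8465 := ded_44_2 (flp_h L66789) (flp_i L48840) L35805 L48840 L66789
theorem L66798 : sm gd N6178 = N8466 := rfl
theorem L66800 : sm ga N8466 = N6264 := ded_11_1 (flp_d L49561) (flp_a L48850) L66798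
theorem L66802 : sm gb N8466 = N6183 := ded_18_1 (flp_d L48887) (flp_b L48852) L66798
theorem L66804 : sm ge N8466 = N6658 := ded_30_2 (flp_d L52608) (flp_e L38509) (flp_d L35835) L48848 L66798
theorem L66806 : sm gg N6178 = N8467 := rfl
theorem L66808 : sm ga N8467 = N6265 := ded_14_1 (flp_g L49567) (flp_a L48850) L66806
theorem L66810 : sm gb N8467 = N6184 := ded_21_1 (flp_g L48894) (flp_b L48852) L66806
theorem L66812 : sm ge N8467 = N6179 := ded_36_1 (flp_g L48854) L48848 L66806
theorem L66814 : sm gh N6178 = N8468 := rfl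
theorem L66816 : sm ga N8468 = N6266 := ded_15_1 (flp_h L49573) (flp_a L48850) L66814
theorem L66818 : sm gb N8468 = N6185 := ded_22_1 (flp_h L48902) (flp_b L48852) L66814
theorem L66820 : sm ge N8468 = N6180 := ded_37_1 (flp_h L48863) L48848 L66814
theorem L66822 : sm gh N6179 = N8469 := rfl
theorem L66824 : sm ga N8469 = N6267 := ded_15_1 (flp_h L49579) (flp_a L48856) L66822
theorem L66826 : sm gb N8469 = N6186 := ded_22_1 (flp_h L48910) (flp_b L48858) L66822
theorem L66828 : sm gf N8469 = N8469 := ded_40_1 (flp_h L66822) L48862 L66822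
theorem L66829 : sm gg N8469 = N6180 := ded_42_1 (flp_h L48863) L48854 L66822
theorem L66831 : sm gd N6180 = N8470 := rfl
theorem L66833 : sm ga N8470 = N6268 := ded_11_1 (flp_d L49586) (flp_a L48865) L66831
theorem L66835 : sm gb N8470 = N6187 := ded_18_1 (flp_d L48919) (flp_b L48867) L66831
theorem L66837 : sm gf N8470 = N6181 := ded_31_2 (flp_d L48871) (flp_f L48869) L66831
theorem L66839 : sm gh N8470 = N6662 := ded_33_2 (flp_d L52644) (flp_h L38525) (flp_d L35835) L48863 L66831
theorem L66841 : sm gi N6180 = N8471 := rfl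
theorem L66843 : sm ga N8471 = N6269 := ded_16_1 (flp_i L49594) (flp_a L48865) L66841
theorem L66845 : sm gb N8471 = N6188 := ded_23_1 (flp_i L48928) (flp_b L48867) L66841
theorem L66847 : sm gf N8471 = N6182 := ded_41_1 (flp_i L48880) (flp_f L48869) L66841
theorem L66849 : sm gc N6181 = N8472 := rfl
theorem L66851 : sm ga N8472 = N6270 := ded_10_1 (flp_c L49600) (flp_a L48873) L66849
theorem L66853 : sm gg N8472 = N8472 := ded_27_2 (flp_c L66849) L48877 L66849
theorem L66854 : sm gh N8472 = N6664 := ded_28_2 (flp_c L52661) (flp_h L48878) L66849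
theorem L66856 : sm gb N8472 = N8472 := ded_17_1 (flp_c L66849) L48875 L35872 (flp_b L48875) L66849
theorem L66857 : sm ge N6181 = N8473 := rfl
theorem L66859 : sm ga N8473 = N6271 := ded_12_1 (flp_e L49607) (flp_a L48873) L66857
theorem L66861 : sm gb N8473 = N6189 := ded_19_1 (flp_e L48936) (flp_b L48875) L66857
theorem L66863 : sm gg N8473 = N8473 := ded_36_2 (flp_e L66857) L48877 L66857
theorem L66864 : sm gh N8473 = N6665 := ded_37_2 (flp_e L52668) (flp_h L48878) L66857
theorem L66866 : sm gi N6181 = N8474 := rfl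
theorem L66868 : sm ga N8474 = N6272 := ded_16_1 (flp_i L49614) (flp_a L48873) L66866
theorem L66870 : sm gb N8474 = N6190 := ded_23_1 (flp_i L48944) (flp_b L48875) L66866
theorem L66872 : sm gd N8474 = N6182 := ded_34_1 (flp_i L48880) L48871 L66866
theorem L66874 : sm gg N8474 = N8474 := ded_43_1 (flp_i L66866) L48877 L66866
theorem L66875 : sm gg N6183 = N8475 := rfl
theorem L66877 : sm ga N8475 = N6196 := ded_14_1 (flp_g L48986) (flp_a L48889) L66875
theorem L66879 : sm gc N8475 = N8475 := ded_27_1 (flp_g L66875) L48891 L66875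
theorem L66880 : sm gd N8475 = N6184 := ded_32_1 (flp_g L48894) L48887 L66875
theorem L66882 : sm ge N8475 = N6667 := ded_36_1 (flp_g L52685) (flp_e L48892) L66875
theorem L66884 : sm gh N6183 = N8476 := rfl
theorem L66886 : sm ga N8476 = N6197 := ded_15_1 (flp_h L48995) (flp_a L48889) L66884
theorem L66888 : sm gc N8476 = N8476 := ded_28_1 (flp_h L66884) L48891 L66884
theorem L66889 : sm ge N8476 = N6668 := ded_37_1 (flp_h L52692) (flp_e L48892) L66884
theorem L66891 : sm gf N6184 = N8477 := rfl
theorem L66893 : sm ga N8477 = N6198 := ded_13_1 (flp_f L49002) (flp_a L48896) L66891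
theorem L66895 : sm gc N8477 = N6191 := ded_26_1 (flp_f L48952) (flp_c L48898) L66891
theorem L66897 : sm ge N8477 = N8477 := ded_35_1 (flp_f L66891) L48900 L35858 (flp_e L48900) L66891
theorem L66898 : sm gh N6184 = N8478 := rfl
theorem L66900 : sm ga N8478 = N6199 := ded_15_1 (flp_h L49009) (flp_a L48896) L66898
theorem L66902 : sm gc N8478 = N6192 := ded_28_1 (flp_h L48958) (flp_c L48898) L66898
theorem L66904 : sm ge N8478 = N6186 := ded_37_1 (flp_h L48910) (flp_e L48900) L66898
theorem L66906 : sm gg N8478 = N6185 := ded_42_1 (flp_h L48902) L48894 L66898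
theorem L66908 : sm gd N6185 = N8479 := rfl
theorem L66910 : sm ga N8479 = N6200 := ded_11_1 (flp_d L49019) (flp_a L48904) L66908
theorem L66912 : sm gi N6185 = N8480 := rfl
theorem L66914 : sm ga N8480 = N6201 := ded_16_1 (flp_i L49023) (flp_a L48904) L66912
theorem L66916 : sm gc N8480 = N6194 := ded_29_1 (flp_i L48972) (flp_c L48906) L66912
theorem L66918 : sm ge N8480 = N6188 := ded_38_1 (flp_i L48928) (flp_e L48908) L66912
theorem L66920 : sm gd N6186 = N8481 := rfl
theorem L66922 : sm ga N8481 = N6202 := ded_11_1 (flp_d L49031) (flp_a L48912) L66920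
theorem L66924 : sm gf N8481 = N8481 := ded_31_2 (flp_d L66920) L48916 L66920
theorem L66925 : sm gg N8481 = N6187 := ded_32_2 (flp_d L48919) (flp_g L48917) L66920
theorem L66927 : sm gc N8481 = N8481 := ded_24_1 (flp_d L66920) L48914 L35902 (flp_c L48914) L66920
theorem L66928 : sm gh N8481 = N6673 := ded_33_2 (flp_d L52730) (flp_h L38573) (flp_d L35856) L48910 L66920
theorem L66930 : sm gi N6186 = N8482 := rfl
theorem L66932 : sm ga N8482 = N6203 := ded_16_1 (flp_i L49041) (flp_a L48912) L66930
theorem L66934 : sm gc N8482 = N6195 := ded_29_1 (flp_i L48978) (flp_c L48914) L66930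
theorem L66936 : sm gf N8482 = N8482 := ded_41_1 (flp_i L66930) L48916 L66930
theorem L66937 : sm gg N8482 = N6188 := ded_43_1 (flp_i L48928) (flp_g L48917) L66930
theorem L66939 : sm ge N6187 = N8483 := rfl
theorem L66941 : sm ga N8483 = N6204 := ded_12_1 (flp_e L49050) (flp_a L48921) L66939
theorem L66943 : sm gc N8483 = N8483 := ded_25_1 (flp_e L66939) L48925 L66939
theorem L66944 : sm gh N8483 = N6675 := ded_37_2 (flp_e L52747) (flp_h L48926) L66939
theorem L66946 : sm gi N6187 = N8484 := rfl
theorem L66948 : sm ga N8484 = N6205 := ded_16_1 (flp_i L49057) (flp_a L48921) L66946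
theorem L66950 : sm gc N8484 = N8484 := ded_29_1 (flp_i L66946) L48925 L66946
theorem L66951 : sm gd N8484 = N6188 := ded_34_1 (flp_i L48928) L48919 L66946
theorem L66953 : sm gf N8484 = N6190 := ded_41_1 (flp_i L48944) (flp_f L48923) L66946
theorem L66955 : sm gf N6189 = N8485 := rfl
theorem L66957 : sm ga N8485 = N6206 := ded_13_1 (flp_f L49066) (flp_a L48938) L66955
theorem L66959 : sm gc N8485 = N8485 := ded_26_1 (flp_f L66955) L48940 L66955
theorem L66960 : sm gh N8485 = N6677 := ded_40_2 (flp_f L52761) (flp_h L48942) L66955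
theorem L66962 : sm gi N6189 = N8486 := rfl
theorem L66964 : sm ga N8486 = N6207 := ded_16_1 (flp_i L49073) (flp_a L48938) L66962
theorem L66966 : sm gc N8486 = N8486 := ded_29_1 (flp_i L66962) L48940 L66962
theorem L66967 : sm ge N8486 = N6190 := ded_38_1 (flp_i L48944) L48936 L66962
theorem L66969 : sm gg N8486 = N8486 := ded_43_1 (flp_i L66962) L48941 L66962
theorem L66970 : sm gh N6190 = N8487 := rfl
theorem L66972 : sm ga N8487 = N6208 := ded_15_1 (flp_h L49081) (flp_a L48946) L66970
theorem L66974 : sm gc N8487 = N8487 := ded_28_1 (flp_h L66970) L48948 L66970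
theorem L66975 : sm gg N8487 = N8487 := ded_42_1 (flp_h L66970) L48951 L66970
theorem L66976 : sm gi N8487 = N6679 := ded_44_2 (flp_h L52776) (flp_i L38604) (flp_h L35873) L48944 L66970
theorem L66978 : sm gh N6191 = N8488 := rfl
theorem L66980 : sm ga N8488 = N6209 := ded_15_1 (flp_h L49089) (flp_a L48954) L66978
theorem L66982 : sm ge N8488 = N8488 := ded_37_1 (flp_h L66978) L48957 L66978
theorem L66983 : sm gf N8488 = N6192 := ded_40_1 (flp_h L48958) L48952 L66978
theorem L66985 : sm gd N6192 = N8489 := rfl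
theorem L66987 : sm ga N8489 = N6210 := ded_11_1 (flp_d L49096) (flp_a L48960) L66985
theorem L66989 : sm gg N8489 = N6193 := ded_32_2 (flp_d L48966) (flp_g L48964) L66985
theorem L66991 : sm ge N8489 = N8489 := ded_30_2 (flp_d L66985) L48962 L35902 (flp_e L48962) L66985
theorem L66992 : sm gh N8489 = N8489 := ded_33_2 (flp_d L66985) (flp_h L48958) L35886 L48958 L66985
theorem L66993 : sm gi N6192 = N8490 := rfl
theorem L66995 : sm ga N8490 = N6211 := ded_16_1 (flp_i L49104) (flp_a L48960) L66993
theorem L66997 : sm ge N8490 = N6195 := ded_38_1 (flp_i L48978) (flp_e L48962) L66993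
theorem L66999 : sm gg N8490 = N6194 := ded_43_1 (flp_i L48972) (flp_g L48964) L66993
theorem L67001 : sm gc N6193 = N8491 := rfl
theorem L67003 : sm ga N8491 = N6212 := ded_10_1 (flp_c L49112) (flp_a L48968) L67001
theorem L67005 : sm ge N8491 = N8491 := ded_25_2 (flp_c L67001) L48970 L67001
theorem L67006 : sm gh N8491 = N8491 := ded_28_2 (flp_c L67001) L48971 L67001
theorem L67007 : sm gi N6193 = N8492 := rfl
theorem L67009 : sm ga N8492 = N6213 := ded_16_1 (flp_i L49116) (flp_a L48968) L67007
theorem L67011 : sm gd N8492 = N6194 := ded_34_1 (flp_i L48972) L48966 L67007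
theorem L67013 : sm ge N8492 = N8492 := ded_38_1 (flp_i L67007) L48970 L67007
theorem L67014 : sm gf N6196 = N8493 := rfl
theorem L67016 : sm gb N8493 = N6291 := ded_20_1 (flp_f L49773) (flp_b L48988) L67014
theorem L67018 : sm gc N8493 = N8493 := ded_26_1 (flp_f L67014) L48990 L67014
theorem L67019 : sm gd N8493 = N6198 := ded_31_1 (flp_f L49002) (flp_d L48991) L67014
theorem L67021 : sm gh N6196 = N8494 := rfl
theorem L67023 : sm gb N8494 = N6292 := ded_22_1 (flp_h L49779) (flp_b L48988) L67021
theorem L67025 : sm gc N8494 = N8494 := ded_28_1 (flp_h L67021) L48990 L67021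
theorem L67026 : sm ge N8494 = N6686 := ded_37_1 (flp_h L52833) (flp_e L48993) L67021
theorem L67028 : sm gg N8494 = N6197 := ded_42_1 (flp_h L48995) L48986 L67021
theorem L67030 : sm gd N6197 = N8495 := rfl
theorem L67032 : sm gb N8495 = N6293 := ded_18_1 (flp_d L49787) (flp_b L48997) L67030
theorem L67034 : sm gh N8495 = N6200 := ded_33_2 (flp_d L49019) (flp_h L35925) L35910 L48995 L67030
theorem L67036 : sm gi N6197 = N8496 := rfl
theorem L67038 : sm gb N8496 = N6294 := ded_23_1 (flp_i L49791) (flp_b L48997) L67036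
theorem L67040 : sm gc N8496 = N8496 := ded_29_1 (flp_i L67036) L48999 L67036
theorem L67041 : sm ge N8496 = N6688 := ded_38_1 (flp_i L52847) (flp_e L49000) L67036
theorem L67043 : sm gh N6198 = N8497 := rfl
theorem L67045 : sm gb N8497 = N6295 := ded_22_1 (flp_h L49797) (flp_b L49004) L67043
theorem L67047 : sm gc N8497 = N6209 := ded_28_1 (flp_h L49089) (flp_c L49006) L67043
theorem L67049 : sm ge N8497 = N8497 := ded_37_1 (flp_h L67043) L49008 L67043
theorem L67050 : sm gf N8497 = N6199 := ded_40_1 (flp_h L49009) L49002 L67043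
theorem L67052 : sm gd N6199 = N8498 := rfl
theorem L67054 : sm gb N8498 = N6296 := ded_18_1 (flp_d L49804) (flp_b L49011) L67052
theorem L67056 : sm gg N8498 = N6200 := ded_32_2 (flp_d L49019) (flp_g L49017) L67052
theorem L67058 : sm gi N6199 = N8499 := rfl
theorem L67060 : sm gb N8499 = N6297 := ded_23_1 (flp_i L49808) (flp_b L49011) L67058
theorem L67062 : sm gc N8499 = N6211 := ded_29_1 (flp_i L49104) (flp_c L49013) L67058
theorem L67064 : sm ge N8499 = N6203 := ded_38_1 (flp_i L49041) (flp_e L49015) L67058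
theorem L67066 : sm gg N8499 = N6201 := ded_43_1 (flp_i L49023) (flp_g L49017) L67058
theorem L67068 : sm gc N6200 = N8500 := rfl
theorem L67070 : sm gd N8500 = N6212 := ded_24_2 (flp_c L49112) (flp_d L35989) (flp_c L35929) L49019 L67068
theorem L67072 : sm ge N6200 = N8501 := rfl
theorem L67074 : sm gb N8501 = N6299 := ded_19_1 (flp_e L49820) (flp_b L49021) L67072
theorem L67076 : sm gd N8501 = N6204 := ded_30_1 (flp_e L49050) (flp_d L35942) (flp_e L35931) L49019 L67072
theorem L67078 : sm gi N6200 = N8502 := rfl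
theorem L67080 : sm gb N8502 = N6300 := ded_23_1 (flp_i L49824) (flp_b L49021) L67078
theorem L67082 : sm gd N8502 = N6201 := ded_34_1 (flp_i L49023) L49019 L67078
theorem L67084 : sm ge N6202 = N8503 := rfl
theorem L67086 : sm gb N8503 = N6301 := ded_19_1 (flp_e L49828) (flp_b L49033) L67084
theorem L67088 : sm gc N8503 = N8503 := ded_25_1 (flp_e L67084) L49038 L67084
theorem L67089 : sm gg N8503 = N6204 := ded_36_2 (flp_e L49050) (flp_g L49036) L67084
theorem L67091 : sm gh N8503 = N6695 := ded_37_2 (flp_e L52898) (flp_h L49039) L67084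
theorem L67093 : sm gi N6202 = N8504 := rfl
theorem L67095 : sm gb N8504 = N6302 := ded_23_1 (flp_i L49836) (flp_b L49033) L67093
theorem L67097 : sm gc N8504 = N8504 := ded_29_1 (flp_i L67093) L49038 L67093
theorem L67098 : sm gd N8504 = N6203 := ded_34_1 (flp_i L49041) L49031 L67093
theorem L67100 : sm gf N8504 = N8504 := ded_41_1 (flp_i L67093) L49035 L67093
theorem L67101 : sm gg N8504 = N6205 := ded_43_1 (flp_i L49057) (flp_g L49036) L67093
theorem L67103 : sm gf N6204 = N8505 := rfl
theorem L67105 : sm gb N8505 = N6303 := ded_20_1 (flp_f L49845) (flp_b L49052) L67103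
theorem L67107 : sm gc N8505 = N8505 := ded_26_1 (flp_f L67103) L49054 L67103
theorem L67108 : sm gh N8505 = N6697 := ded_40_2 (flp_f L52915) (flp_h L49055) L67103
theorem L67110 : sm ge N8505 = N6206 := ded_35_1 (flp_f L49066) (flp_e L35959) (flp_f L35946) L49050 L67103
theorem L67112 : sm gi N6204 = N8506 := rfl
theorem L67114 : sm gb N8506 = N6304 := ded_23_1 (flp_i L49853) (flp_b L49052) L67112
theorem L67116 : sm gc N8506 = N8506 := ded_29_1 (flp_i L67112) L49054 L67112
theorem L67117 : sm ge N8506 = N6205 := ded_38_1 (flp_i L49057) L49050 L67112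
theorem L67119 : sm gh N6205 = N8507 := rfl
theorem L67121 : sm gb N8507 = N6305 := ded_22_1 (flp_h L49859) (flp_b L49059) L67119
theorem L67123 : sm gc N8507 = N8507 := ded_28_1 (flp_h L67119) L49061 L67119
theorem L67124 : sm gf N8507 = N6208 := ded_40_1 (flp_h L49081) (flp_f L49064) L67119
theorem L67126 : sm gi N8507 = N6699 := ded_44_2 (flp_h L52929) (flp_i L38721) (flp_h L35949) L49057 L67119
theorem L67128 : sm gg N6206 = N8508 := rfl
theorem L67130 : sm gb N8508 = N6306 := ded_21_1 (flp_g L49867) (flp_b L49068) L67128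
theorem L67132 : sm gc N8508 = N8508 := ded_27_1 (flp_g L67128) L49070 L67128
theorem L67133 : sm gh N8508 = N6700 := ded_42_2 (flp_g L52936) (flp_h L49071) L67128
theorem L67135 : sm gf N8508 = N8508 := ded_39_1 (flp_g L67128) (flp_f L49066) L35964 L49066 L67128
theorem L67136 : sm gi N6206 = N8509 := rfl
theorem L67138 : sm gb N8509 = N6307 := ded_23_1 (flp_i L49874) (flp_b L49068) L67136
theorem L67140 : sm gc N8509 = N8509 := ded_29_1 (flp_i L67136) L49070 L67136
theorem L67141 : sm gf N8509 = N6207 := ded_41_1 (flp_i L49073) L49066 L67136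
theorem L67143 : sm gh N6207 = N8510 := rfl
theorem L67145 : sm gb N8510 = N6308 := ded_22_1 (flp_h L49880) (flp_b L49075) L67143
theorem L67147 : sm gc N8510 = N8510 := ded_28_1 (flp_h L67143) L49077 L67143
theorem L67148 : sm ge N8510 = N6208 := ded_37_1 (flp_h L49081) (flp_e L49078) L67143
theorem L67150 : sm gg N8510 = N8510 := ded_42_1 (flp_h L67143) L49080 L67143
theorem L67151 : sm gi N8510 = N6702 := ded_44_2 (flp_h L52951) (flp_i L38736) (flp_h L35965) L49073 L67143
theorem L67153 : sm gd N6209 = N8511 := rfl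
theorem L67155 : sm gb N8511 = N6214 := ded_18_1 (flp_d L49123) (flp_b L49091) L67153
theorem L67160 : sm gi N6209 = N8512 := rfl
theorem L67162 : sm gb N8512 = N6215 := ded_23_1 (flp_i L49128) (flp_b L49091) L67160
theorem L67164 : sm ge N8512 = N8512 := ded_38_1 (flp_i L67160) L49093 L67160
theorem L67165 : sm gf N8512 = N6211 := ded_41_1 (flp_i L49104) (flp_f L49094) L67160
theorem L67167 : sm gc N6210 = N8513 := rfl
theorem L67169 : sm ge N8513 = N8513 := ded_25_2 (flp_c L67167) L49102 L67167
theorem L67170 : sm gg N8513 = N6212 := ded_27_2 (flp_c L49112) (flp_g L49100) L67167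
theorem L67172 : sm gh N8513 = N8513 := ded_28_2 (flp_c L67167) L49103 L67167
theorem L67173 : sm gi N6210 = N8514 := rfl
theorem L67175 : sm gb N8514 = N6217 := ded_23_1 (flp_i L49143) (flp_b L49098) L67173
theorem L67177 : sm gd N8514 = N6211 := ded_34_1 (flp_i L49104) L49096 L67173
theorem L67179 : sm ge N8514 = N8514 := ded_38_1 (flp_i L67173) L49102 L67173
theorem L67180 : sm gg N8514 = N6213 := ded_43_1 (flp_i L49116) (flp_g L49100) L67173
theorem L67182 : sm gb N6212 = N8515 := rfl
theorem L67184 : sm ge N8515 = N8515 := ded_19_2 (flp_b L67182) L49114 L67182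
theorem L67185 : sm gh N8515 = N8515 := ded_22_2 (flp_b L67182) L49115 L67182
theorem L67186 : sm gc N8515 = N6218 := ded_17_2 (flp_b L49150) (flp_c L36030) (flp_b L35991) L49112 L67182
theorem L67188 : sm gi N6212 = N8516 := rfl
theorem L67190 : sm gc N8516 = N6213 := ded_29_1 (flp_i L49116) L49112 L67188
theorem L67192 : sm ge N8516 = N8516 := ded_38_1 (flp_i L67188) L49114 L67188
theorem L67193 : sm gh N6213 = N8517 := rfl
theorem L67195 : sm gb N8517 = N6220 := ded_22_1 (flp_h L49163) (flp_b L49118) L67193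
theorem L67197 : sm ge N8517 = N8517 := ded_37_1 (flp_h L67193) L49122 L67193
theorem L67198 : sm gi N8517 = N8517 := ded_44_2 (flp_h L67193) (flp_i L49116) L35994 L49116 L67193
theorem L67211 : sm gi N6214 = N8520 := rfl
theorem L67213 : sm gd N8520 = N6215 := ded_34_1 (flp_i L49128) L49123 L67211
theorem L67215 : sm gf N8520 = N6217 := ded_41_1 (flp_i L49143) (flp_f L49125) L67211
theorem L67225 : sm gi N6216 = N8522 := rfl
theorem L67232 : sm gg N8522 = N6219 := ded_43_1 (flp_i L49156) (flp_g L49138) L67225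
theorem L67234 : sm gh N6217 = N8523 := rfl
theorem L67236 : sm ge N8523 = N8523 := ded_37_1 (flp_h L67234) L49147 L67234
theorem L67237 : sm gg N8523 = N6220 := ded_42_1 (flp_h L49163) (flp_g L49148) L67234
theorem L67239 : sm gi N8523 = N8523 := ded_44_2 (flp_h L67234) (flp_i L49143) L36021 L49143 L67234
theorem L67240 : sm ga N6218 = N8524 := rfl
theorem L67242 : sm gd N8524 = N6322 := ded_11_2 (flp_a L49987) (flp_d L49152) L67240
theorem L67244 : sm ge N8524 = N8524 := ded_12_2 (flp_a L67240) L49154 L67240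
theorem L67245 : sm gh N8524 = N8524 := ded_15_2 (flp_a L67240) L49155 L67240
theorem L67246 : sm gi N6218 = N8525 := rfl
theorem L67248 : sm gb N8525 = N6219 := ded_23_1 (flp_i L49156) L49150 L67246
theorem L67250 : sm gd N8525 = N6323 := ded_34_1 (flp_i L49993) (flp_d L49152) L67246
theorem L67252 : sm ge N8525 = N8525 := ded_38_1 (flp_i L67246) L49154 L67246
theorem L67253 : sm gh N6219 = N8526 := rfl
theorem L67255 : sm gc N8526 = N6220 := ded_28_1 (flp_h L49163) (flp_c L49158) L67253
theorem L67257 : sm ge N8526 = N8526 := ded_37_1 (flp_h L67253) L49162 L67253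
theorem L67258 : sm gi N8526 = N8526 := ded_44_2 (flp_h L67253) (flp_i L49156) L36033 L49156 L67253
theorem L67259 : sm gd N6221 = N8527 := rfl
theorem L67261 : sm gb N8527 = N6226 := ded_18_1 (flp_d L49214) (flp_b L49169) L67259
theorem L67263 : sm gf N8527 = N7766 := ded_31_2 (flp_d L61181) (flp_f L49175) L67259
theorem L67265 : sm gi N8527 = N6264 := ded_34_2 (flp_d L49561) (flp_i L49173) L67259
theorem L67267 : sm ge N8527 = N6712 := ded_30_2 (flp_d L53030) (flp_e L38822) (flp_d L36047) L49167 L67259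
theorem L67269 : sm gg N6221 = N8528 := rfl
theorem L67271 : sm gb N8528 = N6227 := ded_21_1 (flp_g L49226) (flp_b L49169) L67269
theorem L67273 : sm gc N8528 = N8258 := ded_27_1 (flp_g L65020) (flp_c L49171) L67269
theorem L67275 : sm ge N8528 = N6222 := ded_36_1 (flp_g L49177) L49167 L67269
theorem L67277 : sm gi N8528 = N6265 := ded_43_2 (flp_g L49567) (flp_i L49173) L67269
theorem L67279 : sm gh N6221 = N8529 := rfl
theorem L67281 : sm gb N8529 = N6228 := ded_22_1 (flp_h L49236) (flp_b L49169) L67279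
theorem L67283 : sm gc N8529 = N8259 := ded_28_1 (flp_h L65028) (flp_c L49171) L67279
theorem L67285 : sm ge N8529 = N6223 := ded_37_1 (flp_h L49188) L49167 L67279
theorem L67287 : sm gf N8529 = N7768 := ded_40_1 (flp_h L61194) (flp_f L49175) L67279
theorem L67289 : sm gh N6222 = N8530 := rfl
theorem L67291 : sm gb N8530 = N6229 := ded_22_1 (flp_h L49246) (flp_b L49179) L67289
theorem L67293 : sm gc N8530 = N8260 := ded_28_1 (flp_h L65036) (flp_c L49181) L67289
theorem L67295 : sm gf N8530 = N8530 := ded_40_1 (flp_h L67289) L49187 L67289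
theorem L67296 : sm gg N8530 = N6223 := ded_42_1 (flp_h L49188) L49177 L67289
theorem L67298 : sm gd N6223 = N8531 := rfl
theorem L67300 : sm gb N8531 = N6230 := ded_18_1 (flp_d L49255) (flp_b L49190) L67298
theorem L67302 : sm gf N8531 = N6224 := ded_31_2 (flp_d L49196) (flp_f L49194) L67298
theorem L67304 : sm gh N8531 = N6716 := ded_33_2 (flp_d L53062) (flp_h L38838) (flp_d L36047) L49188 L67298
theorem L67306 : sm gi N6223 = N8532 := rfl
theorem L67308 : sm gb N8532 = N6231 := ded_23_1 (flp_i L49264) (flp_b L49190) L67306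
theorem L67310 : sm gc N8532 = N8262 := ded_29_1 (flp_i L65050) (flp_c L49192) L67306
theorem L67312 : sm gf N8532 = N6225 := ded_41_1 (flp_i L49203) (flp_f L49194) L67306
theorem L67314 : sm gh N8532 = N6269 := ded_44_1 (flp_i L49594) (flp_h L36318) (flp_i L36049) L49188 L67306
theorem L67316 : sm gc N6224 = N8533 := rfl
theorem L67318 : sm gg N8533 = N8533 := ded_27_2 (flp_c L67316) L49200 L67316
theorem L67319 : sm gh N8533 = N6718 := ded_28_2 (flp_c L53077) (flp_h L49201) L67316
theorem L67321 : sm gb N8533 = N8533 := ded_17_1 (flp_c L67316) L49198 L36094 (flp_b L49198) L67316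
theorem L67322 : sm gd N8533 = N8263 := ded_24_2 (flp_c L65058) (flp_d L47607) (flp_c L36055) L49196 L67316
theorem L67324 : sm ge N6224 = N8534 := rfl
theorem L67326 : sm gb N8534 = N6232 := ded_19_1 (flp_e L49274) (flp_b L49198) L67324
theorem L67328 : sm gg N8534 = N8534 := ded_36_2 (flp_e L67324) L49200 L67324
theorem L67329 : sm gh N8534 = N6719 := ded_37_2 (flp_e L53082) (flp_h L49201) L67324
theorem L67331 : sm gd N8534 = N7773 := ded_30_1 (flp_e L61234) (flp_d L44879) (flp_e L36057) L49196 L67324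
theorem L67333 : sm gi N6224 = N8535 := rfl
theorem L67335 : sm gb N8535 = N6233 := ded_23_1 (flp_i L49284) (flp_b L49198) L67333
theorem L67337 : sm gd N8535 = N6225 := ded_34_1 (flp_i L49203) L49196 L67333
theorem L67339 : sm gg N8535 = N8535 := ded_43_1 (flp_i L67333) L49200 L67333
theorem L67340 : sm gg N6226 = N8536 := rfl
theorem L67342 : sm ga N8536 = N6239 := ded_14_1 (flp_g L49350) (flp_a L49216) L67340
theorem L67344 : sm gc N8536 = N6334 := ded_27_1 (flp_g L50102) (flp_c L49222) L67340
theorem L67346 : sm gd N8536 = N6227 := ded_32_1 (flp_g L49226) L49214 L67340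
theorem L67350 : sm gi N8536 = N6273 := ded_43_2 (flp_g L49621) (flp_i L49220) L67340
theorem L67352 : sm gh N6226 = N8537 := rfl
theorem L67354 : sm ga N8537 = N6240 := ded_15_1 (flp_h L49360) (flp_a L49216) L67352
theorem L67356 : sm gc N8537 = N6335 := ded_28_1 (flp_h L50112) (flp_c L49222) L67352
theorem L67358 : sm ge N8537 = N6722 := ded_37_1 (flp_h L53105) (flp_e L49224) L67352
theorem L67360 : sm gf N8537 = N7776 := ded_40_1 (flp_h L61256) (flp_f L49218) L67352
theorem L67362 : sm gf N6227 = N8538 := rfl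
theorem L67366 : sm gc N8538 = N6234 := ded_26_1 (flp_f L49292) (flp_c L49230) L67362
theorem L67368 : sm gi N8538 = N6275 := ded_41_2 (flp_f L49639) (flp_i L49234) L67362
theorem L67373 : sm gh N6227 = N8539 := rfl
theorem L67375 : sm ga N8539 = N6242 := ded_15_1 (flp_h L49377) (flp_a L49228) L67373
theorem L67377 : sm gc N8539 = N6235 := ded_28_1 (flp_h L49305) (flp_c L49230) L67373
theorem L67379 : sm ge N8539 = N6229 := ded_37_1 (flp_h L49246) (flp_e L49232) L67373
theorem L67381 : sm gg N8539 = N6228 := ded_42_1 (flp_h L49236) L49226 L67373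
theorem L67383 : sm gd N6228 = N8540 := rfl
theorem L67385 : sm ga N8540 = N6243 := ded_11_1 (flp_d L49385) (flp_a L49238) L67383
theorem L67387 : sm gf N8540 = N7779 := ded_31_2 (flp_d L61280) (flp_f L49244) L67383
theorem L67389 : sm gi N6228 = N8541 := rfl
theorem L67391 : sm ga N8541 = N6244 := ded_16_1 (flp_i L49389) (flp_a L49238) L67389
theorem L67393 : sm gc N8541 = N6237 := ded_29_1 (flp_i L49326) (flp_c L49240) L67389
theorem L67395 : sm ge N8541 = N6231 := ded_38_1 (flp_i L49264) (flp_e L49242) L67389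
theorem L67397 : sm gf N8541 = N7780 := ded_41_1 (flp_i L61284) (flp_f L49244) L67389
theorem L67399 : sm gh N8541 = N6278 := ded_44_1 (flp_i L49660) (flp_h L36352) (flp_i L36066) L49236 L67389
theorem L67401 : sm gd N6229 = N8542 := rfl
theorem L67403 : sm ga N8542 = N6245 := ded_11_1 (flp_d L49399) (flp_a L49248) L67401
theorem L67405 : sm gf N8542 = N8542 := ded_31_2 (flp_d L67401) L49252 L67401
theorem L67406 : sm gg N8542 = N6230 := ded_32_2 (flp_d L49255) (flp_g L49253) L67401
theorem L67408 : sm gc N8542 = N8542 := ded_24_1 (flp_d L67401) L49250 L36139 (flp_c L49250) L67401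
theorem L67411 : sm gi N6229 = N8543 := rfl
theorem L67413 : sm ga N8543 = N6246 := ded_16_1 (flp_i L49407) (flp_a L49248) L67411
theorem L67415 : sm gc N8543 = N6238 := ded_29_1 (flp_i L49338) (flp_c L49250) L67411
theorem L67417 : sm gf N8543 = N8543 := ded_41_1 (flp_i L67411) L49252 L67411
theorem L67418 : sm gg N8543 = N6231 := ded_43_1 (flp_i L49264) (flp_g L49253) L67411
theorem L67420 : sm gh N8543 = N6280 := ded_44_1 (flp_i L49679) (flp_h L36360) (flp_i L36078) L49246 L67411
theorem L67422 : sm ge N6230 = N8544 := rfl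
theorem L67424 : sm ga N8544 = N6247 := ded_12_1 (flp_e L49416) (flp_a L49257) L67422
theorem L67426 : sm gc N8544 = N8544 := ded_25_1 (flp_e L67422) L49261 L67422
theorem L67427 : sm gh N8544 = N6729 := ded_37_2 (flp_e L53167) (flp_h L49262) L67422
theorem L67429 : sm gi N6230 = N8545 := rfl
theorem L67431 : sm ga N8545 = N6248 := ded_16_1 (flp_i L49421) (flp_a L49257) L67429
theorem L67433 : sm gc N8545 = N8545 := ded_29_1 (flp_i L67429) L49261 L67429
theorem L67434 : sm gd N8545 = N6231 := ded_34_1 (flp_i L49264) L49255 L67429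
theorem L67436 : sm gf N8545 = N6233 := ded_41_1 (flp_i L49284) (flp_f L49259) L67429
theorem L67438 : sm gf N6232 = N8546 := rfl
theorem L67440 : sm ga N8546 = N6249 := ded_13_1 (flp_f L49428) (flp_a L49276) L67438
theorem L67442 : sm gc N8546 = N8546 := ded_26_1 (flp_f L67438) L49278 L67438
theorem L67443 : sm gd N8546 = N7785 := ded_31_1 (flp_f L61328) (flp_d L49282) L67438
theorem L67445 : sm gh N8546 = N6731 := ded_40_2 (flp_f L53181) (flp_h L49280) L67438
theorem L67447 : sm gi N6232 = N8547 := rfl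
theorem L67449 : sm ga N8547 = N6250 := ded_16_1 (flp_i L49435) (flp_a L49276) L67447
theorem L67451 : sm gc N8547 = N8547 := ded_29_1 (flp_i L67447) L49278 L67447
theorem L67452 : sm gd N8547 = N7786 := ded_34_1 (flp_i L61335) (flp_d L49282) L67447
theorem L67454 : sm ge N8547 = N6233 := ded_38_1 (flp_i L49284) L49274 L67447
theorem L67456 : sm gg N8547 = N8547 := ded_43_1 (flp_i L67447) L49279 L67447
theorem L67457 : sm gh N6233 = N8548 := rfl
theorem L67459 : sm ga N8548 = N6251 := ded_15_1 (flp_h L49443) (flp_a L49286) L67457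
theorem L67461 : sm gc N8548 = N8548 := ded_28_1 (flp_h L67457) L49288 L67457
theorem L67462 : sm gg N8548 = N8548 := ded_42_1 (flp_h L67457) L49291 L67457
theorem L67463 : sm gd N8548 = N6285 := ded_33_1 (flp_h L49723) L36402 (flp_h L36106) (flp_d L49289) L67457
theorem L67465 : sm gi N8548 = N6733 := ded_44_2 (flp_h L53196) (flp_i L38920) (flp_h L36095) L49284 L67457
theorem L67467 : sm gh N6234 = N8549 := rfl
theorem L67471 : sm gb N8549 = N8279 := ded_22_1 (flp_h L65199) (flp_b L49296) L67467
theorem L67474 : sm gf N8549 = N6235 := ded_40_1 (flp_h L49305) L49292 L67467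
theorem L67476 : sm gg N8549 = N7788 := ded_42_1 (flp_h L61352) (flp_g L49303) L67467
theorem L67478 : sm gd N6235 = N8550 := rfl
theorem L67482 : sm gb N8550 = N8280 := ded_18_1 (flp_d L65208) (flp_b L49309) L67478
theorem L67484 : sm gg N8550 = N6236 := ded_32_2 (flp_d L49315) (flp_g L49313) L67478
theorem L67489 : sm gi N6235 = N8551 := rfl
theorem L67491 : sm ga N8551 = N6254 := ded_16_1 (flp_i L49469) (flp_a L49307) L67489
theorem L67493 : sm gb N8551 = N8281 := ded_23_1 (flp_i L65217) (flp_b L49309) L67489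
theorem L67495 : sm ge N8551 = N6238 := ded_38_1 (flp_i L49338) (flp_e L49311) L67489
theorem L67497 : sm gg N8551 = N6237 := ded_43_1 (flp_i L49326) (flp_g L49313) L67489
theorem L67499 : sm gh N8551 = N6288 := ded_44_1 (flp_i L49749) (flp_h L36412) (flp_i L36118) L49305 L67489
theorem L67501 : sm gc N6236 = N8552 := rfl
theorem L67503 : sm ga N8552 = N6255 := ded_10_1 (flp_c L49479) (flp_a L49317) L67501
theorem L67505 : sm ge N8552 = N8552 := ded_25_2 (flp_c L67501) L49323 L67501
theorem L67506 : sm gf N8552 = N7791 := ded_26_2 (flp_c L61383) (flp_f L49321) L67501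
theorem L67508 : sm gh N8552 = N6349 := ded_28_2 (flp_c L50254) (flp_h L49324) L67501
theorem L67510 : sm gi N6236 = N8553 := rfl
theorem L67512 : sm ga N8553 = N6256 := ded_16_1 (flp_i L49486) (flp_a L49317) L67510
theorem L67514 : sm gb N8553 = N8283 := ded_23_1 (flp_i L65236) (flp_b L49319) L67510
theorem L67516 : sm gd N8553 = N6237 := ded_34_1 (flp_i L49326) L49315 L67510
theorem L67518 : sm ge N8553 = N8553 := ded_38_1 (flp_i L67510) L49323 L67510
theorem L67519 : sm gf N8553 = N7792 := ded_41_1 (flp_i L61391) (flp_f L49321) L67510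
theorem L67521 : sm gf N6239 = N8554 := rfl
theorem L67523 : sm gc N8554 = N6351 := ded_26_1 (flp_f L50272) (flp_c L49352) L67521
theorem L67527 : sm gi N8554 = N6291 := ded_41_2 (flp_f L49773) (flp_i L49358) L67521
theorem L67531 : sm gh N6239 = N8555 := rfl
theorem L67533 : sm gc N8555 = N6352 := ded_28_1 (flp_h L50281) (flp_c L49352) L67531
theorem L67535 : sm ge N8555 = N6740 := ded_37_1 (flp_h L53261) (flp_e L49356) L67531
theorem L67537 : sm gg N8555 = N6240 := ded_42_1 (flp_h L49360) L49350 L67531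
theorem L67539 : sm gd N6240 = N8556 := rfl
theorem L67541 : sm gf N8556 = N7795 := ded_31_2 (flp_d L61414) (flp_f L49366) L67539
theorem L67543 : sm gh N8556 = N6243 := ded_33_2 (flp_d L49385) (flp_h L36169) L36151 L49360 L67539
theorem L67545 : sm gi N6240 = N8557 := rfl
theorem L67547 : sm gc N8557 = N6354 := ded_29_1 (flp_i L50295) (flp_c L49362) L67545
theorem L67549 : sm ge N8557 = N6742 := ded_38_1 (flp_i L53272) (flp_e L49364) L67545
theorem L67551 : sm gf N8557 = N7796 := ded_41_1 (flp_i L61418) (flp_f L49366) L67545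
theorem L67553 : sm gh N8557 = N6294 := ded_44_1 (flp_i L49791) (flp_h L36451) (flp_i L36155) L49360 L67545
theorem L67555 : sm gh N6241 = N8558 := rfl
theorem L67560 : sm gf N8558 = N6242 := ded_40_1 (flp_h L49377) L49368 L67555
theorem L67564 : sm gd N6242 = N8559 := rfl
theorem L67566 : sm gg N8559 = N6243 := ded_32_2 (flp_d L49385) (flp_g L49383) L67564
theorem L67568 : sm gi N6242 = N8560 := rfl
theorem L67570 : sm gc N8560 = N6254 := ded_29_1 (flp_i L49469) (flp_c L49379) L67568
theorem L67572 : sm ge N8560 = N6246 := ded_38_1 (flp_i L49407) (flp_e L49381) L67568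
theorem L67574 : sm gg N8560 = N6244 := ded_43_1 (flp_i L49389) (flp_g L49383) L67568
theorem L67576 : sm gh N8560 = N6297 := ded_44_1 (flp_i L49808) (flp_h L36462) (flp_i L36167) L49377 L67568
theorem L67578 : sm gc N6243 = N8561 := rfl
theorem L67580 : sm gf N8561 = N7800 := ded_26_2 (flp_c L61442) (flp_f L49387) L67578
theorem L67582 : sm gd N8561 = N6255 := ded_24_2 (flp_c L49479) (flp_d L36232) (flp_c L36171) L49385 L67578
theorem L67584 : sm ge N6243 = N8562 := rfl
theorem L67586 : sm gd N8562 = N6247 := ded_30_1 (flp_e L49416) (flp_d L36184) (flp_e L36173) L49385 L67584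
theorem L67588 : sm gi N6243 = N8563 := rfl
theorem L67590 : sm gd N8563 = N6244 := ded_34_1 (flp_i L49389) L49385 L67588
theorem L67592 : sm gf N8563 = N7802 := ded_41_1 (flp_i L61450) (flp_f L49387) L67588
theorem L67594 : sm ge N6245 = N8564 := rfl
theorem L67597 : sm gg N8564 = N6247 := ded_36_2 (flp_e L49416) (flp_g L49402) L67594
theorem L67601 : sm gi N6245 = N8565 := rfl
theorem L67603 : sm gc N8565 = N8565 := ded_29_1 (flp_i L67601) L49404 L67601
theorem L67604 : sm gd N8565 = N6246 := ded_34_1 (flp_i L49407) L49399 L67601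
theorem L67606 : sm gf N8565 = N8565 := ded_41_1 (flp_i L67601) L49401 L67601
theorem L67607 : sm gg N8565 = N6248 := ded_43_1 (flp_i L49421) (flp_g L49402) L67601
theorem L67609 : sm gf N6247 = N8566 := rfl
theorem L67611 : sm gc N8566 = N8566 := ded_26_1 (flp_f L67609) L49418 L67609
theorem L67612 : sm gh N8566 = N6751 := ded_40_2 (flp_f L53328) (flp_h L49419) L67609
theorem L67614 : sm ge N8566 = N6249 := ded_35_1 (flp_f L49428) (flp_e L36199) (flp_f L36186) L49416 L67609
theorem L67616 : sm gi N6247 = N8567 := rfl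
theorem L67618 : sm gc N8567 = N8567 := ded_29_1 (flp_i L67616) L49418 L67616
theorem L67619 : sm ge N8567 = N6248 := ded_38_1 (flp_i L49421) L49416 L67616
theorem L67621 : sm gh N6248 = N8568 := rfl
theorem L67623 : sm gc N8568 = N8568 := ded_28_1 (flp_h L67621) L49423 L67621
theorem L67624 : sm gf N8568 = N6251 := ded_40_1 (flp_h L49443) (flp_f L49426) L67621
theorem L67626 : sm gd N8568 = N6305 := ded_33_1 (flp_h L49859) L36504 (flp_h L36197) (flp_d L49424) L67621
theorem L67628 : sm gi N8568 = N6753 := ded_44_2 (flp_h L53338) (flp_i L39037) (flp_h L36189) L49421 L67621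
theorem L67630 : sm gg N6249 = N8569 := rfl
theorem L67632 : sm gc N8569 = N8569 := ded_27_1 (flp_g L67630) L49430 L67630
theorem L67633 : sm gd N8569 = N7808 := ded_32_1 (flp_g L61490) (flp_d L49431) L67630
theorem L67635 : sm gh N8569 = N6754 := ded_42_2 (flp_g L53345) (flp_h L49433) L67630
theorem L67637 : sm gf N8569 = N8569 := ded_39_1 (flp_g L67630) (flp_f L49428) L36202 L49428 L67630
theorem L67638 : sm gi N6249 = N8570 := rfl
theorem L67640 : sm gc N8570 = N8570 := ded_29_1 (flp_i L67638) L49430 L67638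
theorem L67641 : sm gd N8570 = N7809 := ded_34_1 (flp_i L61496) (flp_d L49431) L67638
theorem L67643 : sm gf N8570 = N6250 := ded_41_1 (flp_i L49435) L49428 L67638
theorem L67645 : sm gh N6250 = N8571 := rfl
theorem L67647 : sm gc N8571 = N8571 := ded_28_1 (flp_h L67645) L49437 L67645
theorem L67648 : sm ge N8571 = N6251 := ded_37_1 (flp_h L49443) (flp_e L49440) L67645
theorem L67650 : sm gg N8571 = N8571 := ded_42_1 (flp_h L67645) L49442 L67645
theorem L67651 : sm gi N8571 = N6756 := ded_44_2 (flp_h L53356) (flp_i L39048) (flp_h L36203) L49435 L67645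
theorem L67663 : sm gi N6252 = N8573 := rfl
theorem L67668 : sm gf N8573 = N6254 := ded_41_1 (flp_i L49469) (flp_f L49456) L67663
theorem L67672 : sm gh N8573 = N6310 := ded_44_1 (flp_i L49897) (flp_h L36528) (flp_i L36219) L49451 L67663
theorem L67674 : sm gc N6253 = N8574 := rfl
theorem L67679 : sm gh N8574 = N6369 := ded_28_2 (flp_c L50422) (flp_h L49467) L67674
theorem L67681 : sm gi N6253 = N8575 := rfl
theorem L67683 : sm gb N8575 = N6260 := ded_23_1 (flp_i L49525) (flp_b L49462) L67681
theorem L67685 : sm gd N8575 = N6254 := ded_34_1 (flp_i L49469) L49460 L67681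
theorem L67688 : sm gg N8575 = N6256 := ded_43_1 (flp_i L49486) (flp_g L49464) L67681
theorem L67690 : sm gb N6255 = N8576 := rfl
theorem L67695 : sm gh N8576 = N6371 := ded_22_2 (flp_b L50436) (flp_h L49484) L67690
theorem L67697 : sm gc N8576 = N6261 := ded_17_2 (flp_b L49534) (flp_c L36289) (flp_b L36234) L49479 L67690
theorem L67699 : sm gi N6255 = N8577 := rfl
theorem L67701 : sm gc N8577 = N6256 := ded_29_1 (flp_i L49486) L49479 L67699
theorem L67703 : sm ge N8577 = N8577 := ded_38_1 (flp_i L67699) L49481 L67699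
theorem L67704 : sm gf N8577 = N7816 := ded_41_1 (flp_i L61551) (flp_f L49482) L67699
theorem L67706 : sm gh N6256 = N8578 := rfl
theorem L67711 : sm gf N8578 = N7817 := ded_40_1 (flp_h L61557) (flp_f L49493) L67706
theorem L67713 : sm gd N8578 = N6315 := ded_33_1 (flp_h L49936) L36563 (flp_h L36249) (flp_d L49490) L67706
theorem L67717 : sm gc N6257 = N8579 := rfl
theorem L67721 : sm gf N8579 = N6259 := ded_26_2 (flp_c L49516) (flp_f L49499) L67717
theorem L67723 : sm gg N8579 = N7818 := ded_27_2 (flp_c L61565) (flp_g L49501) L67717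
theorem L67754 : sm gi N6259 = N8583 := rfl
theorem L67756 : sm ga N8583 = N8313 := ded_16_1 (flp_i L65465) (flp_a L49518) L67754
theorem L67758 : sm gc N8583 = N6260 := ded_29_1 (flp_i L49525) L49516 L67754
theorem L67774 : sm ga N6261 = N8585 := rfl
theorem L67781 : sm gb N8585 = N8315 := ded_9_2 (flp_a L65481) (flp_b L47915) (flp_a L36291) L49534 L67774
theorem L67790 : sm gh N6262 = N8587 := rfl
theorem L67792 : sm ga N8587 = N8317 := ded_15_1 (flp_h L65495) (flp_a L49543) L67790
theorem L67801 : sm gc N6264 = N8588 := rfl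
theorem L67803 : sm ge N8588 = N6770 := ded_25_2 (flp_c L53468) (flp_e L49565) L67801
theorem L67805 : sm gb N8588 = N6383 := ded_17_1 (flp_c L50537) L37017 (flp_c L36340) (flp_b L49563) L67801
theorem L67807 : sm gg N6264 = N8589 := rfl
theorem L67809 : sm gb N8589 = N6273 := ded_21_1 (flp_g L49621) (flp_b L49563) L67807
theorem L67811 : sm gd N8589 = N6265 := ded_32_1 (flp_g L49567) L49561 L67807
theorem L67813 : sm ge N8589 = N6771 := ded_36_1 (flp_g L53474) (flp_e L49565) L67807
theorem L67815 : sm gh N6264 = N8590 := rfl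
theorem L67817 : sm gb N8590 = N6274 := ded_22_1 (flp_h L49631) (flp_b L49563) L67815
theorem L67819 : sm ge N8590 = N6772 := ded_37_1 (flp_h L53480) (flp_e L49565) L67815
theorem L67821 : sm gf N6265 = N8591 := rfl
theorem L67823 : sm gb N8591 = N6275 := ded_20_1 (flp_f L49639) (flp_b L49569) L67821
theorem L67825 : sm ge N8591 = N8591 := ded_35_1 (flp_f L67821) L49571 L36317 (flp_e L49571) L67821
theorem L67826 : sm gh N6265 = N8592 := rfl
theorem L67828 : sm gb N8592 = N6276 := ded_22_1 (flp_h L49646) (flp_b L49569) L67826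
theorem L67830 : sm ge N8592 = N6267 := ded_37_1 (flp_h L49579) (flp_e L49571) L67826
theorem L67832 : sm gg N8592 = N6266 := ded_42_1 (flp_h L49573) L49567 L67826
theorem L67834 : sm gd N6266 = N8593 := rfl
theorem L67836 : sm gb N8593 = N6277 := ded_18_1 (flp_d L49656) (flp_b L49575) L67834
theorem L67838 : sm gi N6266 = N8594 := rfl
theorem L67840 : sm gb N8594 = N6278 := ded_23_1 (flp_i L49660) (flp_b L49575) L67838
theorem L67842 : sm ge N8594 = N6269 := ded_38_1 (flp_i L49594) (flp_e L49577) L67838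
theorem L67844 : sm gd N6267 = N8595 := rfl
theorem L67846 : sm gb N8595 = N6279 := ded_18_1 (flp_d L49668) (flp_b L49581) L67844
theorem L67848 : sm gf N8595 = N8595 := ded_31_2 (flp_d L67844) L49583 L67844
theorem L67849 : sm gg N8595 = N6268 := ded_32_2 (flp_d L49586) (flp_g L49584) L67844
theorem L67851 : sm gh N8595 = N6777 := ded_33_2 (flp_d L53514) (flp_h L39171) (flp_d L36315) L49579 L67844
theorem L67853 : sm gi N6267 = N8596 := rfl
theorem L67855 : sm gb N8596 = N6280 := ded_23_1 (flp_i L49679) (flp_b L49581) L67853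
theorem L67857 : sm gf N8596 = N8596 := ded_41_1 (flp_i L67853) L49583 L67853
theorem L67858 : sm gg N8596 = N6269 := ded_43_1 (flp_i L49594) (flp_g L49584) L67853
theorem L67860 : sm gc N6268 = N8597 := rfl
theorem L67862 : sm gf N8597 = N6270 := ded_26_2 (flp_c L49600) (flp_f L49590) L67860
theorem L67864 : sm gh N8597 = N6779 := ded_28_2 (flp_c L53529) (flp_h L49592) L67860
theorem L67866 : sm gb N8597 = N6446 := ded_17_1 (flp_c L50986) L37338 (flp_c L36375) (flp_b L49588) L67860
theorem L67868 : sm ge N6268 = N8598 := rfl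
theorem L67870 : sm gb N8598 = N6281 := ded_19_1 (flp_e L49688) (flp_b L49588) L67868
theorem L67872 : sm gh N8598 = N6780 := ded_37_2 (flp_e L53536) (flp_h L49592) L67868
theorem L67874 : sm gi N6268 = N8599 := rfl
theorem L67876 : sm gb N8599 = N6282 := ded_23_1 (flp_i L49696) (flp_b L49588) L67874
theorem L67878 : sm gd N8599 = N6269 := ded_34_1 (flp_i L49594) L49586 L67874
theorem L67880 : sm gf N8599 = N6272 := ded_41_1 (flp_i L49614) (flp_f L49590) L67874
theorem L67882 : sm ge N6270 = N8600 := rfl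
theorem L67884 : sm gb N8600 = N6449 := ded_19_1 (flp_e L51009) (flp_b L49605) L67882
theorem L67886 : sm gc N8600 = N6271 := ded_25_1 (flp_e L49607) L49600 L67882
theorem L67888 : sm gg N8600 = N8600 := ded_36_2 (flp_e L67882) L49602 L67882
theorem L67889 : sm gh N8600 = N6782 := ded_37_2 (flp_e L53548) (flp_h L49603) L67882
theorem L67891 : sm gi N6270 = N8601 := rfl
theorem L67893 : sm gb N8601 = N6450 := ded_23_1 (flp_i L51017) (flp_b L49605) L67891
theorem L67895 : sm gc N8601 = N6272 := ded_29_1 (flp_i L49614) L49600 L67891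
theorem L67897 : sm gg N8601 = N8601 := ded_43_1 (flp_i L67891) L49602 L67891
theorem L67898 : sm gf N6271 = N8602 := rfl
theorem L67900 : sm gb N8602 = N6283 := ded_20_1 (flp_f L49706) (flp_b L49609) L67898
theorem L67902 : sm gh N8602 = N6784 := ded_40_2 (flp_f L53563) (flp_h L49612) L67898
theorem L67904 : sm gi N6271 = N8603 := rfl
theorem L67906 : sm gb N8603 = N6284 := ded_23_1 (flp_i L49714) (flp_b L49609) L67904
theorem L67908 : sm ge N8603 = N6272 := ded_38_1 (flp_i L49614) L49607 L67904
theorem L67910 : sm gg N8603 = N8603 := ded_43_1 (flp_i L67904) L49611 L67904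
theorem L67911 : sm gh N6272 = N8604 := rfl
theorem L67913 : sm gb N8604 = N6285 := ded_22_1 (flp_h L49723) (flp_b L49616) L67911
theorem L67915 : sm gg N8604 = N8604 := ded_42_1 (flp_h L67911) L49620 L67911
theorem L67916 : sm gi N8604 = N6786 := ded_44_2 (flp_h L53576) (flp_i L39204) (flp_h L36329) L49614 L67911
theorem L67918 : sm gf N6273 = N8605 := rfl
theorem L67920 : sm ga N8605 = N6291 := ded_13_1 (flp_f L49773) (flp_a L49623) L67918
theorem L67922 : sm gc N8605 = N6391 := ded_26_1 (flp_f L50597) (flp_c L49625) L67918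
theorem L67924 : sm gd N8605 = N6275 := ded_31_1 (flp_f L49639) (flp_d L49627) L67918
theorem L67926 : sm gh N6273 = N8606 := rfl
theorem L67928 : sm ga N8606 = N6292 := ded_15_1 (flp_h L49779) (flp_a L49623) L67926
theorem L67930 : sm gc N8606 = N6392 := ded_28_1 (flp_h L50603) (flp_c L49625) L67926
theorem L67932 : sm ge N8606 = N6788 := ded_37_1 (flp_h L53590) (flp_e L49629) L67926
theorem L67934 : sm gg N8606 = N6274 := ded_42_1 (flp_h L49631) L49621 L67926
theorem L67936 : sm gd N6274 = N8607 := rfl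
theorem L67938 : sm ga N8607 = N6293 := ded_11_1 (flp_d L49787) (flp_a L49633) L67936
theorem L67940 : sm gh N8607 = N6277 := ded_33_2 (flp_d L49656) (flp_h L36352) L36336 L49631 L67936
theorem L67942 : sm gi N6274 = N8608 := rfl
theorem L67944 : sm ga N8608 = N6294 := ded_16_1 (flp_i L49791) (flp_a L49633) L67942
theorem L67946 : sm gc N8608 = N6394 := ded_29_1 (flp_i L50618) (flp_c L49635) L67942
theorem L67948 : sm ge N8608 = N6790 := ded_38_1 (flp_i L53606) (flp_e L49637) L67942
theorem L67950 : sm gh N6275 = N8609 := rfl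
theorem L67957 : sm gf N8609 = N6276 := ded_40_1 (flp_h L49646) L49639 L67950
theorem L67959 : sm gd N6276 = N8610 := rfl
theorem L67961 : sm ga N8610 = N6296 := ded_11_1 (flp_d L49804) (flp_a L49648) L67959
theorem L67963 : sm gg N8610 = N6277 := ded_32_2 (flp_d L49656) (flp_g L49654) L67959
theorem L67965 : sm gi N6276 = N8611 := rfl
theorem L67967 : sm ga N8611 = N6297 := ded_16_1 (flp_i L49808) (flp_a L49648) L67965
theorem L67969 : sm gc N8611 = N6288 := ded_29_1 (flp_i L49749) (flp_c L49650) L67965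
theorem L67971 : sm ge N8611 = N6280 := ded_38_1 (flp_i L49679) (flp_e L49652) L67965
theorem L67973 : sm gg N8611 = N6278 := ded_43_1 (flp_i L49660) (flp_g L49654) L67965
theorem L67975 : sm gc N6277 = N8612 := rfl
theorem L67977 : sm ga N8612 = N6298 := ded_10_1 (flp_c L49816) (flp_a L49658) L67975
theorem L67979 : sm gd N8612 = N6289 := ded_24_2 (flp_c L49757) (flp_d L36420) (flp_c L36356) L49656 L67975
theorem L67981 : sm ge N6277 = N8613 := rfl
theorem L67983 : sm ga N8613 = N6299 := ded_12_1 (flp_e L49820) (flp_a L49658) L67981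
theorem L67985 : sm gd N8613 = N6281 := ded_30_1 (flp_e L49688) (flp_d L36369) (flp_e L36358) L49656 L67981
theorem L67987 : sm gi N6277 = N8614 := rfl
theorem L67989 : sm ga N8614 = N6300 := ded_16_1 (flp_i L49824) (flp_a L49658) L67987
theorem L67991 : sm gd N8614 = N6278 := ded_34_1 (flp_i L49660) L49656 L67987
theorem L67993 : sm ge N6279 = N8615 := rfl
theorem L67995 : sm ga N8615 = N6301 := ded_12_1 (flp_e L49828) (flp_a L49670) L67993
theorem L67997 : sm gc N8615 = N6460 := ded_25_1 (flp_e L51099) (flp_c L49675) L67993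
theorem L67999 : sm gg N8615 = N6281 := ded_36_2 (flp_e L49688) (flp_g L49673) L67993
theorem L68001 : sm gh N8615 = N6796 := ded_37_2 (flp_e L53655) (flp_h L49677) L67993
theorem L68003 : sm gi N6279 = N8616 := rfl
theorem L68005 : sm ga N8616 = N6302 := ded_16_1 (flp_i L49836) (flp_a L49670) L68003
theorem L68007 : sm gc N8616 = N6461 := ded_29_1 (flp_i L51107) (flp_c L49675) L68003
theorem L68009 : sm gd N8616 = N6280 := ded_34_1 (flp_i L49679) L49668 L68003
theorem L68011 : sm gf N8616 = N8616 := ded_41_1 (flp_i L68003) L49672 L68003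
theorem L68012 : sm gg N8616 = N6282 := ded_43_1 (flp_i L49696) (flp_g L49673) L68003
theorem L68014 : sm gf N6281 = N8617 := rfl
theorem L68016 : sm ga N8617 = N6303 := ded_13_1 (flp_f L49845) (flp_a L49690) L68014
theorem L68018 : sm gc N8617 = N6462 := ded_26_1 (flp_f L51116) (flp_c L49692) L68014
theorem L68020 : sm gh N8617 = N6798 := ded_40_2 (flp_f L53674) (flp_h L49694) L68014
theorem L68022 : sm ge N8617 = N6283 := ded_35_1 (flp_f L49706) (flp_e L36387) (flp_f L36373) L49688 L68014
theorem L68024 : sm gi N6281 = N8618 := rfl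
theorem L68026 : sm ga N8618 = N6304 := ded_16_1 (flp_i L49853) (flp_a L49690) L68024
theorem L68028 : sm gc N8618 = N6463 := ded_29_1 (flp_i L51124) (flp_c L49692) L68024
theorem L68030 : sm ge N8618 = N6282 := ded_38_1 (flp_i L49696) L49688 L68024
theorem L68032 : sm gh N6282 = N8619 := rfl
theorem L68034 : sm ga N8619 = N6305 := ded_15_1 (flp_h L49859) (flp_a L49698) L68032
theorem L68036 : sm gc N8619 = N6464 := ded_28_1 (flp_h L51130) (flp_c L49700) L68032
theorem L68038 : sm gf N8619 = N6285 := ded_40_1 (flp_h L49723) (flp_f L49704) L68032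
theorem L68040 : sm gi N8619 = N6800 := ded_44_2 (flp_h L53690) (flp_i L39283) (flp_h L36377) L49696 L68032
theorem L68042 : sm gg N6283 = N8620 := rfl
theorem L68044 : sm ga N8620 = N6306 := ded_14_1 (flp_g L49867) (flp_a L49708) L68042
theorem L68046 : sm gc N8620 = N6465 := ded_27_1 (flp_g L51139) (flp_c L49710) L68042
theorem L68048 : sm gh N8620 = N6801 := ded_42_2 (flp_g L53698) (flp_h L49712) L68042
theorem L68050 : sm gf N8620 = N8620 := ded_39_1 (flp_g L68042) (flp_f L49706) L36393 L49706 L68042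
theorem L68051 : sm gi N6283 = N8621 := rfl
theorem L68053 : sm ga N8621 = N6307 := ded_16_1 (flp_i L49874) (flp_a L49708) L68051
theorem L68055 : sm gc N8621 = N6466 := ded_29_1 (flp_i L51147) (flp_c L49710) L68051
theorem L68057 : sm gf N8621 = N6284 := ded_41_1 (flp_i L49714) L49706 L68051
theorem L68059 : sm gh N6284 = N8622 := rfl
theorem L68061 : sm ga N8622 = N6308 := ded_15_1 (flp_h L49880) (flp_a L49716) L68059
theorem L68063 : sm gc N8622 = N6467 := ded_28_1 (flp_h L51154) (flp_c L49718) L68059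
theorem L68065 : sm ge N8622 = N6285 := ded_37_1 (flp_h L49723) (flp_e L49720) L68059
theorem L68067 : sm gg N8622 = N8622 := ded_42_1 (flp_h L68059) L49722 L68059
theorem L68068 : sm gi N8622 = N6803 := ded_44_2 (flp_h L53715) (flp_i L39300) (flp_h L36394) L49714 L68059
theorem L68095 : sm gi N6287 = N8626 := rfl
theorem L68103 : sm gg N8626 = N6290 := ded_43_1 (flp_i L49765) (flp_g L49743) L68095
theorem L68105 : sm gb N6289 = N8627 := rfl
theorem L68107 : sm ge N8627 = N6472 := ded_19_2 (flp_b L51197) (flp_e L49761) L68105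
theorem L68109 : sm gh N8627 = N6404 := ded_22_2 (flp_b L50697) (flp_h L49763) L68105
theorem L68111 : sm gi N6289 = N8628 := rfl
theorem L68113 : sm ga N8628 = N6314 := ded_16_1 (flp_i L49930) (flp_a L49759) L68111
theorem L68115 : sm gc N8628 = N6290 := ded_29_1 (flp_i L49765) L49757 L68111
theorem L68117 : sm ge N8628 = N6473 := ded_38_1 (flp_i L51202) (flp_e L49761) L68111
theorem L68119 : sm gh N6290 = N8629 := rfl
theorem L68125 : sm gi N8629 = N6406 := ded_44_2 (flp_h L50709) (flp_i L37139) (flp_h L36426) L49765 L68119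
theorem L68127 : sm ge N6291 = N8630 := rfl
theorem L68129 : sm gc N8630 = N6407 := ded_25_1 (flp_e L50715) (flp_c L49775) L68127
theorem L68131 : sm gd N8630 = N8630 := ded_30_1 (flp_e L68127) L49777 L36461 (flp_d L49777) L68127
theorem L68132 : sm gf N8630 = N6805 := ded_35_2 (flp_e L53734) (flp_f L39337) (flp_e L36449) L49773 L68127
theorem L68134 : sm gh N6291 = N8631 := rfl
theorem L68136 : sm gc N8631 = N6408 := ded_28_1 (flp_h L50722) (flp_c L49775) L68134
theorem L68138 : sm gf N8631 = N6292 := ded_40_1 (flp_h L49779) L49773 L68134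
theorem L68140 : sm gd N6292 = N8632 := rfl
theorem L68142 : sm gg N8632 = N6293 := ded_32_2 (flp_d L49787) (flp_g L49785) L68140
theorem L68144 : sm gh N8632 = N6296 := ded_33_2 (flp_d L49804) (flp_h L36462) (flp_d L36447) L49779 L68140
theorem L68146 : sm gi N6292 = N8633 := rfl
theorem L68148 : sm gc N8633 = N6410 := ded_29_1 (flp_i L50735) (flp_c L49781) L68146
theorem L68150 : sm ge N8633 = N6808 := ded_38_1 (flp_i L53754) (flp_e L49783) L68146
theorem L68152 : sm gg N8633 = N6294 := ded_43_1 (flp_i L49791) (flp_g L49785) L68146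
theorem L68154 : sm gc N6293 = N8634 := rfl
theorem L68156 : sm gh N8634 = N6298 := ded_28_2 (flp_c L49816) (flp_h L49789) L68154
theorem L68158 : sm gd N8634 = N6411 := ded_24_2 (flp_c L50742) (flp_d L37159) (flp_c L36453) L49787 L68154
theorem L68160 : sm ge N6293 = N8635 := rfl
theorem L68162 : sm gh N8635 = N6299 := ded_37_2 (flp_e L49820) (flp_h L49789) L68160
theorem L68164 : sm gd N8635 = N6809 := ded_30_1 (flp_e L53760) (flp_d L39350) (flp_e L36455) L49787 L68160
theorem L68166 : sm gi N6293 = N8636 := rfl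
theorem L68168 : sm gd N8636 = N6294 := ded_34_1 (flp_i L49791) L49787 L68166
theorem L68170 : sm gd N6295 = N8637 := rfl
theorem L68172 : sm gf N8637 = N6296 := ded_31_2 (flp_d L49804) (flp_f L49802) L68170
theorem L68181 : sm gc N6296 = N8639 := rfl
theorem L68187 : sm ge N6296 = N8640 := rfl
theorem L68189 : sm gg N8640 = N6299 := ded_36_2 (flp_e L49820) (flp_g L49806) L68187
theorem L68191 : sm gd N8640 = N6301 := ded_30_1 (flp_e L49828) (flp_d L36478) (flp_e L36466) L49804 L68187
theorem L68193 : sm gi N6296 = N8641 := rfl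
theorem L68195 : sm gd N8641 = N6297 := ded_34_1 (flp_i L49808) L49804 L68193
theorem L68197 : sm gg N8641 = N6300 := ded_43_1 (flp_i L49824) (flp_g L49806) L68193
theorem L68199 : sm gb N6298 = N8642 := rfl
theorem L68201 : sm gd N8642 = N6313 := ded_18_2 (flp_b L49922) (flp_d L49818) L68199
theorem L68203 : sm ge N6298 = N8643 := rfl
theorem L68205 : sm gc N8643 = N6299 := ded_25_1 (flp_e L49820) L49816 L68203
theorem L68207 : sm gd N8643 = N6481 := ded_30_1 (flp_e L51263) L37535 (flp_e L36555) (flp_d L49818) L68203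
theorem L68209 : sm gi N6298 = N8644 := rfl
theorem L68211 : sm gc N8644 = N6300 := ded_29_1 (flp_i L49824) L49816 L68209
theorem L68213 : sm gd N8644 = N6314 := ded_34_1 (flp_i L49930) (flp_d L49818) L68209
theorem L68215 : sm gf N6299 = N8645 := rfl
theorem L68217 : sm gd N8645 = N6303 := ded_31_1 (flp_f L49845) (flp_d L49822) L68215
theorem L68219 : sm gi N6299 = N8646 := rfl
theorem L68221 : sm gd N8646 = N6304 := ded_34_1 (flp_i L49853) (flp_d L49822) L68219
theorem L68223 : sm ge N8646 = N6300 := ded_38_1 (flp_i L49824) L49820 L68219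
theorem L68225 : sm gh N6300 = N8647 := rfl
theorem L68227 : sm gf N6301 = N8648 := rfl
theorem L68229 : sm gc N8648 = N6486 := ded_26_1 (flp_f L51295) (flp_c L49830) L68227
theorem L68231 : sm gh N8648 = N6818 := ded_40_2 (flp_f L53816) (flp_h L49834) L68227
theorem L68233 : sm ge N8648 = N8648 := ded_35_1 (flp_f L68227) (flp_e L49828) L36480 L49828 L68227
theorem L68234 : sm gi N6301 = N8649 := rfl
theorem L68236 : sm gc N8649 = N6487 := ded_29_1 (flp_i L51301) (flp_c L49830) L68234
theorem L68238 : sm ge N8649 = N6302 := ded_38_1 (flp_i L49836) L49828 L68234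
theorem L68240 : sm gg N8649 = N6304 := ded_43_1 (flp_i L49853) (flp_g L49832) L68234
theorem L68242 : sm gh N6302 = N8650 := rfl
theorem L68244 : sm gc N8650 = N6488 := ded_28_1 (flp_h L51308) (flp_c L49838) L68242
theorem L68246 : sm gf N8650 = N8650 := ded_40_1 (flp_h L68242) L49842 L68242
theorem L68247 : sm gg N8650 = N6305 := ded_42_1 (flp_h L49859) (flp_g L49843) L68242
theorem L68249 : sm gi N8650 = N6820 := ded_44_2 (flp_h L53829) (flp_i L39399) (flp_h L36485) L49836 L68242
theorem L68251 : sm gg N6303 = N8651 := rfl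
theorem L68253 : sm gc N8651 = N6489 := ded_27_1 (flp_g L51317) (flp_c L49847) L68251
theorem L68255 : sm ge N8651 = N6306 := ded_36_1 (flp_g L49867) (flp_e L49851) L68251
theorem L68257 : sm gh N8651 = N6821 := ded_42_2 (flp_g L53836) (flp_h L49849) L68251
theorem L68259 : sm gi N6303 = N8652 := rfl
theorem L68261 : sm gc N8652 = N6490 := ded_29_1 (flp_i L51324) (flp_c L49847) L68259
theorem L68263 : sm ge N8652 = N6307 := ded_38_1 (flp_i L49874) (flp_e L49851) L68259
theorem L68265 : sm gf N8652 = N6304 := ded_41_1 (flp_i L49853) L49845 L68259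
theorem L68267 : sm gh N6304 = N8653 := rfl
theorem L68269 : sm gc N8653 = N6491 := ded_28_1 (flp_h L51331) (flp_c L49855) L68267
theorem L68271 : sm ge N8653 = N6305 := ded_37_1 (flp_h L49859) (flp_e L49857) L68267
theorem L68273 : sm gi N8653 = N6823 := ded_44_2 (flp_h L53850) (flp_i L39414) (flp_h L36498) L49853 L68267
theorem L68275 : sm gi N6306 = N8654 := rfl
theorem L68277 : sm gc N8654 = N6492 := ded_29_1 (flp_i L51338) (flp_c L49869) L68275
theorem L68279 : sm gf N8654 = N8654 := ded_41_1 (flp_i L68275) L49873 L68275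
theorem L68280 : sm gg N8654 = N6307 := ded_43_1 (flp_i L49874) L49867 L68275
theorem L68282 : sm gh N6307 = N8655 := rfl
theorem L68284 : sm gc N8655 = N6493 := ded_28_1 (flp_h L51345) (flp_c L49876) L68282
theorem L68286 : sm gf N8655 = N6308 := ded_40_1 (flp_h L49880) (flp_f L49878) L68282
theorem L68288 : sm gi N8655 = N6825 := ded_44_2 (flp_h L53864) (flp_i L39432) (flp_h L36512) L49874 L68282
theorem L68290 : sm gd N6308 = N8656 := rfl
theorem L68292 : sm gg N8656 = N8656 := ded_32_2 (flp_d L68290) L49886 L68290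
theorem L68293 : sm gi N8656 = N6826 := ded_34_2 (flp_d L53870) (flp_i L49887) L68290
theorem L68328 : sm gi N6311 = N8661 := rfl
theorem L68332 : sm ge N8661 = N6499 := ded_38_1 (flp_i L51392) (flp_e L49906) L68328
theorem L68334 : sm gg N8661 = N6314 := ded_43_1 (flp_i L49930) (flp_g L49908) L68328
theorem L68346 : sm ga N6313 = N8663 := rfl
theorem L68348 : sm gc N8663 = N6322 := ded_10_2 (flp_a L49987) (flp_c L49928) L68346
theorem L68350 : sm ge N8663 = N6501 := ded_12_2 (flp_a L51407) (flp_e L49924) L68346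
theorem L68352 : sm gh N8663 = N6426 := ded_15_2 (flp_a L50843) (flp_h L49926) L68346
theorem L68354 : sm gi N6313 = N8664 := rfl
theorem L68356 : sm gb N8664 = N6314 := ded_23_1 (flp_i L49930) L49922 L68354
theorem L68358 : sm gc N8664 = N6323 := ded_29_1 (flp_i L49993) (flp_c L49928) L68354
theorem L68360 : sm ge N8664 = N6502 := ded_38_1 (flp_i L51414) (flp_e L49924) L68354
theorem L68362 : sm gh N6314 = N8665 := rfl
theorem L68368 : sm gi N8665 = N6428 := ded_44_2 (flp_h L50857) (flp_i L37241) (flp_h L36557) L49930 L68362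
theorem L68411 : sm gi N6319 = N8672 := rfl
theorem L68417 : sm gg N8672 = N6323 := ded_43_1 (flp_i L49993) (flp_g L49967) L68411
theorem L68429 : sm gi N6322 = N8674 := rfl
theorem L68431 : sm ga N8674 = N6323 := ded_16_1 (flp_i L49993) L49987 L68429
theorem L68433 : sm ge N8674 = N6512 := ded_38_1 (flp_i L51487) (flp_e L49989) L68429
theorem L68435 : sm gh N6323 = N8675 := rfl
theorem L68439 : sm ge N8675 = N6513 := ded_37_1 (flp_h L51493) (flp_e L49997) L68435
theorem L68441 : sm gi N8675 = N6438 := ded_44_2 (flp_h L50924) (flp_i L37297) (flp_h L36598) L49993 L68435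
theorem L68447 : sm gc N6325 = N8677 := rfl
theorem L68449 : sm ga N8677 = N8677 := ded_10_1 (flp_c L68447) L50009 L68447
theorem L68450 : sm ge N8677 = N6827 := ded_25_2 (flp_c L53874) (flp_e L50016) L68447
theorem L68452 : sm gf N8677 = N7827 := ded_26_2 (flp_c L61642) (flp_f L50012) L68447
theorem L68454 : sm gi N8677 = N6383 := ded_29_2 (flp_c L50537) (flp_i L50014) L68447
theorem L68456 : sm gd N8677 = N8318 := ded_24_2 (flp_c L65504) (flp_d L47938) (flp_c L36617) L50007 L68447
theorem L68458 : sm gg N6325 = N8678 := rfl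
theorem L68460 : sm ga N8678 = N8678 := ded_14_1 (flp_g L68458) L50009 L68458
theorem L68461 : sm gb N8678 = N6334 := ded_21_1 (flp_g L50102) (flp_b L50010) L68458
theorem L68463 : sm gd N8678 = N6326 := ded_32_1 (flp_g L50018) L50007 L68458
theorem L68465 : sm ge N8678 = N6828 := ded_36_1 (flp_g L53881) (flp_e L50016) L68458
theorem L68467 : sm gi N8678 = N6384 := ded_43_2 (flp_g L50542) (flp_i L50014) L68458
theorem L68469 : sm gh N6325 = N8679 := rfl
theorem L68471 : sm ga N8679 = N8679 := ded_15_1 (flp_h L68469) L50009 L68469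
theorem L68472 : sm gb N8679 = N6335 := ded_22_1 (flp_h L50112) (flp_b L50010) L68469
theorem L68474 : sm ge N8679 = N6829 := ded_37_1 (flp_h L53890) (flp_e L50016) L68469
theorem L68476 : sm gf N8679 = N7829 := ded_40_1 (flp_h L61656) (flp_f L50012) L68469
theorem L68478 : sm gf N6326 = N8680 := rfl
theorem L68483 : sm gc N8680 = N8321 := ded_26_1 (flp_f L65530) (flp_c L50023) L68478
theorem L68491 : sm gh N6326 = N8681 := rfl
theorem L68496 : sm gc N8681 = N8322 := ded_28_1 (flp_h L65541) (flp_c L50023) L68491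
theorem L68502 : sm gd N6327 = N8682 := rfl
theorem L68504 : sm ga N8682 = N8682 := ded_11_1 (flp_d L68502) L50031 L68502
theorem L68505 : sm gb N8682 = N6338 := ded_18_1 (flp_d L50142) (flp_b L50032) L68502
theorem L68509 : sm gi N6327 = N8683 := rfl
theorem L68518 : sm gf N8683 = N7833 := ded_41_1 (flp_i L61687) (flp_f L50038) L68509
theorem L68522 : sm gd N6328 = N8684 := rfl
theorem L68525 : sm gb N8684 = N6340 := ded_18_1 (flp_d L50160) (flp_b L50043) L68522
theorem L68527 : sm gf N8684 = N7287 := ded_31_2 (flp_d L57464) (flp_f L50047) L68522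
theorem L68529 : sm gg N8684 = N6329 := ded_32_2 (flp_d L50051) (flp_g L50049) L68522
theorem L68531 : sm gh N8684 = N6833 := ded_33_2 (flp_d L53925) (flp_h L39483) (flp_d L36630) L50040 L68522
theorem L68546 : sm gc N6329 = N8686 := rfl
theorem L68548 : sm ga N8686 = N8686 := ded_10_1 (flp_c L68546) L50053 L68546
theorem L68549 : sm gf N8686 = N6331 := ded_26_2 (flp_c L50071) (flp_f L50056) L68546
theorem L68551 : sm gh N8686 = N6834 := ded_28_2 (flp_c L53935) (flp_h L50058) L68546
theorem L68553 : sm gb N8686 = N8686 := ded_17_1 (flp_c L68546) L50054 L36713 (flp_b L50054) L68546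
theorem L68554 : sm gd N8686 = N8327 := ded_24_2 (flp_c L65589) (flp_d L47975) (flp_c L36641) L50051 L68546
theorem L68556 : sm ge N6329 = N8687 := rfl
theorem L68558 : sm ga N8687 = N8687 := ded_12_1 (flp_e L68556) L50053 L68556
theorem L68559 : sm gb N8687 = N6342 := ded_19_1 (flp_e L50183) (flp_b L50054) L68556
theorem L68561 : sm gh N8687 = N6835 := ded_37_2 (flp_e L53943) (flp_h L50058) L68556
theorem L68563 : sm gi N6329 = N8688 := rfl
theorem L68566 : sm gb N8688 = N6343 := ded_23_1 (flp_i L50190) (flp_b L50054) L68563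
theorem L68573 : sm ge N6331 = N8689 := rfl
theorem L68581 : sm gh N8689 = N6836 := ded_37_2 (flp_e L53949) (flp_h L50076) L68573
theorem L68583 : sm gd N8689 = N8689 := ded_30_1 (flp_e L68573) L50079 L47995 (flp_d L50079) L68573
theorem L68584 : sm gi N6331 = N8690 := rfl
theorem L68586 : sm ga N8690 = N8690 := ded_16_1 (flp_i L68584) L50073 L68584
theorem L68587 : sm gb N8690 = N8690 := ded_23_1 (flp_i L68584) L50078 L68584
theorem L68588 : sm gc N8690 = N6333 := ded_29_1 (flp_i L50092) L50071 L68584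
theorem L68590 : sm gd N8690 = N8330 := ded_34_1 (flp_i L65612) (flp_d L50079) L68584
theorem L68592 : sm gg N8690 = N7293 := ded_43_1 (flp_i L57520) (flp_g L50074) L68584
theorem L68594 : sm gh N8690 = N8690 := ded_44_1 (flp_i L68584) L50076 L39507 (flp_h L50076) L68584
theorem L68595 : sm gf N6332 = N8691 := rfl
theorem L68602 : sm gh N8691 = N6837 := ded_40_2 (flp_f L53958) (flp_h L50088) L68595
theorem L68616 : sm gf N6334 = N8693 := rfl
theorem L68618 : sm ga N8693 = N6351 := ded_13_1 (flp_f L50272) (flp_a L50104) L68616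
theorem L68622 : sm gi N8693 = N6391 := ded_41_2 (flp_f L50597) (flp_i L50110) L68616
theorem L68626 : sm gh N6334 = N8694 := rfl
theorem L68628 : sm ga N8694 = N6352 := ded_15_1 (flp_h L50281) (flp_a L50104) L68626
theorem L68630 : sm ge N8694 = N6839 := ded_37_1 (flp_h L53974) (flp_e L50108) L68626
theorem L68632 : sm gg N8694 = N6335 := ded_42_1 (flp_h L50112) L50102 L68626
theorem L68634 : sm gd N6335 = N8695 := rfl
theorem L68636 : sm ga N8695 = N6353 := ded_11_1 (flp_d L50288) (flp_a L50114) L68634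
theorem L68638 : sm gf N8695 = N7843 := ded_31_2 (flp_d L61774) (flp_f L50118) L68634
theorem L68640 : sm gh N8695 = N6338 := ded_33_2 (flp_d L50142) (flp_h L36687) L36667 L50112 L68634
theorem L68642 : sm gi N6335 = N8696 := rfl
theorem L68644 : sm ga N8696 = N6354 := ded_16_1 (flp_i L50295) (flp_a L50114) L68642
theorem L68646 : sm ge N8696 = N6841 := ded_38_1 (flp_i L53987) (flp_e L50116) L68642
theorem L68648 : sm gf N8696 = N7844 := ded_41_1 (flp_i L61780) (flp_f L50118) L68642
theorem L68650 : sm gh N8696 = N6394 := ded_44_1 (flp_i L50618) (flp_h L37061) (flp_i L36673) L50112 L68642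
theorem L68664 : sm gd N6337 = N8698 := rfl
theorem L68668 : sm gg N8698 = N6338 := ded_32_2 (flp_d L50142) (flp_g L50140) L68664
theorem L68682 : sm gc N6338 = N8700 := rfl
theorem L68688 : sm gd N8700 = N6349 := ded_24_2 (flp_c L50254) (flp_d L36769) (flp_c L36691) L50142 L68682
theorem L68690 : sm ge N6338 = N8701 := rfl
theorem L68692 : sm ga N8701 = N6359 := ded_12_1 (flp_e L50337) (flp_a L50144) L68690
theorem L68694 : sm gd N8701 = N6342 := ded_30_1 (flp_e L50183) (flp_d L36707) (flp_e L36693) L50142 L68690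
theorem L68696 : sm gi N6338 = N8702 := rfl
theorem L68704 : sm ge N6340 = N8703 := rfl
theorem L68709 : sm gg N8703 = N6342 := ded_36_2 (flp_e L50183) (flp_g L50166) L68704
theorem L68711 : sm gh N8703 = N6846 := ded_37_2 (flp_e L54028) (flp_h L50169) L68704
theorem L68713 : sm gi N6340 = N8704 := rfl
theorem L68722 : sm gg N8704 = N6343 := ded_43_1 (flp_i L50190) (flp_g L50166) L68713
theorem L68725 : sm gf N6342 = N8705 := rfl
theorem L68730 : sm gh N8705 = N6847 := ded_40_2 (flp_f L54036) (flp_h L50188) L68725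
theorem L68734 : sm gi N6342 = N8706 := rfl
theorem L68739 : sm ge N8706 = N6343 := ded_38_1 (flp_i L50190) L50183 L68734
theorem L68773 : sm gi N6346 = N8710 := rfl
theorem L68779 : sm ge N8710 = N7313 := ded_38_1 (flp_i L57703) (flp_e L50227) L68773
theorem L68787 : sm gc N6347 = N8711 := rfl
theorem L68789 : sm ga N8711 = N6369 := ded_10_1 (flp_c L50422) (flp_a L50235) L68787
theorem L68792 : sm gg N8711 = N6349 := ded_27_2 (flp_c L50254) (flp_g L50239) L68787
theorem L68805 : sm gb N6349 = N8713 := rfl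
theorem L68808 : sm gf N8713 = N7863 := ded_20_2 (flp_b L61943) (flp_f L50259) L68805
theorem L68810 : sm gc N8713 = N8350 := ded_17_2 (flp_b L65792) (flp_c L48142) (flp_b L36773) L50254 L68805
theorem L68832 : sm ge N6351 = N8716 := rfl
theorem L68841 : sm gf N8716 = N6852 := ded_35_2 (flp_e L54076) (flp_f L39610) (flp_e L36808) L50272 L68832
theorem L68843 : sm gh N6351 = N8717 := rfl
theorem L68846 : sm gf N8717 = N6352 := ded_40_1 (flp_h L50281) L50272 L68843
theorem L68848 : sm gg N8717 = N7867 := ded_42_1 (flp_h L61971) (flp_g L50279) L68843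
theorem L68850 : sm gd N6352 = N8718 := rfl
theorem L68857 : sm gi N6352 = N8719 := rfl
theorem L68859 : sm gb N8719 = N8719 := ded_23_1 (flp_i L68857) L50283 L68857
theorem L68860 : sm ge N8719 = N6855 := ded_38_1 (flp_i L54097) (flp_e L50284) L68857
theorem L68862 : sm gg N8719 = N6354 := ded_43_1 (flp_i L50295) (flp_g L50286) L68857
theorem L68864 : sm gh N8719 = N6410 := ded_44_1 (flp_i L50735) (flp_h L37152) (flp_i L36810) L50281 L68857
theorem L68872 : sm ge N6353 = N8721 := rfl
theorem L68874 : sm gb N8721 = N8721 := ded_19_1 (flp_e L68872) L50290 L68872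
theorem L68875 : sm gh N8721 = N6359 := ded_37_2 (flp_e L50337) (flp_h L50293) L68872
theorem L68877 : sm gd N8721 = N6857 := ded_30_1 (flp_e L54109) (flp_d L39623) (flp_e L36815) L50288 L68872
theorem L68879 : sm gi N6353 = N8722 := rfl
theorem L68881 : sm gb N8722 = N8722 := ded_23_1 (flp_i L68879) L50290 L68879
theorem L68882 : sm gd N8722 = N6354 := ded_34_1 (flp_i L50295) L50288 L68879
theorem L68884 : sm gf N8722 = N7872 := ded_41_1 (flp_i L61999) (flp_f L50291) L68879
theorem L68893 : sm gi N6355 = N8724 := rfl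
theorem L68900 : sm gf N8724 = N6357 := ded_41_1 (flp_i L50320) (flp_f L50311) L68893
theorem L68904 : sm gh N8724 = N6414 := ded_44_1 (flp_i L50758) (flp_h L37170) (flp_i L36824) L50304 L68893
theorem L68946 : sm gf N6359 = N8731 := rfl
theorem L68953 : sm gi N6359 = N8732 := rfl
theorem L68956 : sm gd N8732 = N6364 := ded_34_1 (flp_i L50376) (flp_d L50340) L68953
theorem L68967 : sm gf N6361 = N8734 := rfl
theorem L68971 : sm gh N8734 = N6865 := ded_40_2 (flp_f L54163) (flp_h L50355) L68967
theorem L68973 : sm ge N8734 = N7337 := ded_35_1 (flp_f L57898) (flp_e L42383) (flp_f L36858) L50349 L68967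
theorem L68992 : sm gi N6363 = N8737 := rfl
theorem L68996 : sm ge N8737 = N6366 := ded_38_1 (flp_i L50393) (flp_e L50374) L68992
theorem L68998 : sm gf N8737 = N6364 := ded_41_1 (flp_i L50376) L50368 L68992
theorem L69067 : sm gi N6371 = N8746 := rfl
theorem L69069 : sm gb N8746 = N6372 := ded_23_1 (flp_i L50443) L50436 L69067
theorem L69076 : sm gh N6372 = N8747 := rfl
theorem L69081 : sm gf N8747 = N7900 := ded_40_1 (flp_h L62198) (flp_f L50448) L69076
theorem L69099 : sm gi N6374 = N8750 := rfl
theorem L69101 : sm ga N8750 = N8385 := ded_16_1 (flp_i L66063) (flp_a L50461) L69099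
theorem L69108 : sm gg N8750 = N7903 := ded_43_1 (flp_i L62217) (flp_g L50465) L69099
theorem L69131 : sm ga N6377 = N8753 := rfl
theorem L69135 : sm gg N8753 = N6380 := ded_14_2 (flp_a L50512) (flp_g L50491) L69131
theorem L69137 : sm gb N8753 = N8388 := ded_9_2 (flp_a L66089) (flp_b L48346) (flp_a L36974) L50487 L69131
theorem L69182 : sm gg N6383 = N8759 := rfl
theorem L69184 : sm ga N8759 = N8759 := ded_14_1 (flp_g L69182) L50539 L69182
theorem L69185 : sm gc N8759 = N6384 := ded_27_1 (flp_g L50542) L50537 L69182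
theorem L69187 : sm ge N8759 = N6874 := ded_36_1 (flp_g L54230) (flp_e L50540) L69182
theorem L69189 : sm gh N6383 = N8760 := rfl
theorem L69191 : sm ga N8760 = N8760 := ded_15_1 (flp_h L69189) L50539 L69189
theorem L69192 : sm gc N8760 = N6385 := ded_28_1 (flp_h L50551) L50537 L69189
theorem L69194 : sm ge N8760 = N6875 := ded_37_1 (flp_h L54236) (flp_e L50540) L69189
theorem L69196 : sm gf N6384 = N8761 := rfl
theorem L69199 : sm gb N8761 = N6391 := ded_20_1 (flp_f L50597) (flp_b L50545) L69196
theorem L69203 : sm gh N6384 = N8762 := rfl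
theorem L69205 : sm ga N8762 = N8762 := ded_15_1 (flp_h L69203) L50544 L69203
theorem L69206 : sm gb N8762 = N6392 := ded_22_1 (flp_h L50603) (flp_b L50545) L69203
theorem L69208 : sm ge N8762 = N6877 := ded_37_1 (flp_h L54250) (flp_e L50549) L69203
theorem L69210 : sm gg N8762 = N6385 := ded_42_1 (flp_h L50551) L50542 L69203
theorem L69212 : sm gd N6385 = N8763 := rfl
theorem L69214 : sm ga N8763 = N8763 := ded_11_1 (flp_d L69212) L50553 L69212
theorem L69215 : sm gb N8763 = N6393 := ded_18_1 (flp_d L50611) (flp_b L50554) L69212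
theorem L69217 : sm ge N8763 = N8763 := ded_30_2 (flp_d L69212) L50556 L39755 (flp_e L50556) L69212
theorem L69218 : sm gh N8763 = N6388 := ded_33_2 (flp_d L50574) (flp_h L37028) L37014 L50551 L69212
theorem L69220 : sm gi N6385 = N8764 := rfl
theorem L69222 : sm ga N8764 = N8764 := ded_16_1 (flp_i L69220) L50553 L69220
theorem L69223 : sm gb N8764 = N6394 := ded_23_1 (flp_i L50618) (flp_b L50554) L69220
theorem L69225 : sm ge N8764 = N6878 := ded_38_1 (flp_i L54258) (flp_e L50556) L69220
theorem L69236 : sm gd N6387 = N8766 := rfl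
theorem L69239 : sm gb N8766 = N6396 := ded_18_1 (flp_d L50634) (flp_b L50568) L69236
theorem L69241 : sm gg N8766 = N6388 := ded_32_2 (flp_d L50574) (flp_g L50572) L69236
theorem L69253 : sm gc N6388 = N8768 := rfl
theorem L69255 : sm ga N8768 = N8768 := ded_10_1 (flp_c L69253) L50576 L69253
theorem L69256 : sm ge N8768 = N8768 := ded_25_2 (flp_c L69253) L50579 L69253
theorem L69257 : sm gi N6388 = N8769 := rfl
theorem L69265 : sm ge N6391 = N8770 := rfl
theorem L69271 : sm gf N8770 = N6879 := ded_35_2 (flp_e L54265) (flp_f L39766) (flp_e L37059) L50597 L69265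
theorem L69273 : sm gh N6391 = N8771 := rfl
theorem L69277 : sm gf N8771 = N6392 := ded_40_1 (flp_h L50603) L50597 L69273
theorem L69279 : sm gd N6392 = N8772 := rfl
theorem L69281 : sm ga N8772 = N6409 := ded_11_1 (flp_d L50727) (flp_a L50605) L69279
theorem L69283 : sm gg N8772 = N6393 := ded_32_2 (flp_d L50611) (flp_g L50609) L69279
theorem L69288 : sm gi N6392 = N8773 := rfl
theorem L69290 : sm ga N8773 = N6410 := ded_16_1 (flp_i L50735) (flp_a L50605) L69288
theorem L69292 : sm ge N8773 = N6881 := ded_38_1 (flp_i L54280) (flp_e L50607) L69288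
theorem L69294 : sm gg N8773 = N6394 := ded_43_1 (flp_i L50618) (flp_g L50609) L69288
theorem L69296 : sm gc N6393 = N8774 := rfl
theorem L69298 : sm ga N8774 = N6411 := ded_10_1 (flp_c L50742) (flp_a L50613) L69296
theorem L69300 : sm ge N8774 = N8774 := ded_25_2 (flp_c L69296) L50615 L69296
theorem L69301 : sm gh N8774 = N6398 := ded_28_2 (flp_c L50651) (flp_h L50616) L69296
theorem L69303 : sm gi N6393 = N8775 := rfl
theorem L69305 : sm ga N8775 = N6412 := ded_16_1 (flp_i L50747) (flp_a L50613) L69303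
theorem L69307 : sm gd N8775 = N6394 := ded_34_1 (flp_i L50618) L50611 L69303
theorem L69309 : sm ge N8775 = N8775 := ded_38_1 (flp_i L69303) L50615 L69303
theorem L69326 : sm gc N6396 = N8778 := rfl
theorem L69331 : sm gg N8778 = N6398 := ded_27_2 (flp_c L50651) (flp_g L50638) L69326
theorem L69344 : sm gb N6398 = N8780 := rfl
theorem L69346 : sm gd N8780 = N6404 := ded_18_2 (flp_b L50697) (flp_d L50656) L69344
theorem L69348 : sm ge N8780 = N8780 := ded_19_2 (flp_b L69344) L50655 L69344
theorem L69349 : sm gi N6398 = N8781 := rfl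
theorem L69369 : sm ge N6400 = N8784 := rfl
theorem L69375 : sm gf N8784 = N6516 := ded_35_2 (flp_e L51515) L37722 (flp_e L37123) (flp_f L50669) L69369
theorem L69385 : sm gb N6402 = N8786 := rfl
theorem L69387 : sm ge N8786 = N6518 := ded_19_2 (flp_b L51531) (flp_e L50683) L69385
theorem L69389 : sm gg N8786 = N6404 := ded_21_2 (flp_b L50697) (flp_g L50685) L69385
theorem L69401 : sm gh N6403 = N8788 := rfl
theorem L69407 : sm gg N8788 = N6406 := ded_42_1 (flp_h L50709) (flp_g L50695) L69401
theorem L69409 : sm ga N6404 = N8789 := rfl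
theorem L69411 : sm ge N8789 = N6521 := ded_12_2 (flp_a L51552) (flp_e L50699) L69409
theorem L69413 : sm gb N8789 = N6426 := ded_9_2 (flp_a L50843) (flp_b L37235) (flp_a L37135) L50697 L69409
theorem L69415 : sm gi N6404 = N8790 := rfl
theorem L69419 : sm ge N8790 = N6522 := ded_38_1 (flp_i L51558) (flp_e L50699) L69415
theorem L69429 : sm gh N6407 = N8792 := rfl
theorem L69434 : sm gf N8792 = N6882 := ded_40_1 (flp_h L54287) (flp_f L50720) L69429
theorem L69436 : sm gd N6408 = N8793 := rfl
theorem L69439 : sm gf N8793 = N6409 := ded_31_2 (flp_d L50727) (flp_f L50725) L69436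
theorem L69441 : sm gh N8793 = N6413 := ded_33_2 (flp_d L50753) (flp_h L37170) (flp_d L37150) L50722 L69436
theorem L69443 : sm gi N6408 = N8794 := rfl
theorem L69446 : sm gf N8794 = N6410 := ded_41_1 (flp_i L50735) (flp_f L50725) L69443
theorem L69448 : sm gc N6409 = N8795 := rfl
theorem L69451 : sm gg N8795 = N6411 := ded_27_2 (flp_c L50742) (flp_g L50730) L69448
theorem L69455 : sm gi N6409 = N8796 := rfl
theorem L69458 : sm gd N8796 = N6410 := ded_34_1 (flp_i L50735) L50727 L69455
theorem L69461 : sm gg N8796 = N6412 := ded_43_1 (flp_i L50747) (flp_g L50730) L69455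
theorem L69463 : sm gb N6411 = N8797 := rfl
theorem L69465 : sm ge N8797 = N8797 := ded_19_2 (flp_b L69463) L50744 L69463
theorem L69466 : sm gh N8797 = N6417 := ded_22_2 (flp_b L50782) (flp_h L50745) L69463
theorem L69468 : sm gc N8797 = N8797 := ded_17_2 (flp_b L69463) (flp_c L50742) L37161 L50742 L69463
theorem L69469 : sm gi N6411 = N8798 := rfl
theorem L69471 : sm gc N8798 = N6412 := ded_29_1 (flp_i L50747) L50742 L69469
theorem L69473 : sm ge N8798 = N8798 := ded_38_1 (flp_i L69469) L50744 L69469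
theorem L69474 : sm gh N6412 = N8799 := rfl
theorem L69478 : sm gi N8799 = N6419 := ded_44_2 (flp_h L50795) (flp_i L37199) (flp_h L37163) L50747 L69474
theorem L69492 : sm gi N6413 = N8802 := rfl
theorem L69495 : sm gd N8802 = N6414 := ded_34_1 (flp_i L50758) L50753 L69492
theorem L69499 : sm gb N6415 = N8803 := rfl
theorem L69501 : sm gd N8803 = N6423 := ded_18_2 (flp_b L50819) (flp_d L50772) L69499
theorem L69504 : sm gg N8803 = N6417 := ded_21_2 (flp_b L50782) (flp_g L50770) L69499
theorem L69522 : sm ga N6417 = N8806 := rfl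
theorem L69524 : sm gc N8806 = N8806 := ded_10_2 (flp_a L69522) L50787 L69522
theorem L69525 : sm gd N8806 = N6426 := ded_11_2 (flp_a L50843) (flp_d L50784) L69522
theorem L69527 : sm ge N8806 = N8806 := ded_12_2 (flp_a L69522) L50786 L69522
theorem L69528 : sm gi N6417 = N8807 := rfl
theorem L69541 : sm gb N6420 = N8809 := rfl
theorem L69543 : sm gf N8809 = N6423 := ded_20_2 (flp_b L50819) (flp_f L50801) L69541
theorem L69575 : sm ga N6423 = N8814 := rfl
theorem L69581 : sm gg N8814 = N6426 := ded_14_2 (flp_a L50843) (flp_g L50823) L69575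
theorem L69583 : sm gi N6423 = N8815 := rfl
theorem L69587 : sm gc N8815 = N6435 := ded_29_1 (flp_i L50900) (flp_c L50825) L69583
theorem L69601 : sm gi N6426 = N8817 := rfl
theorem L69607 : sm ge N8817 = N6532 := ded_38_1 (flp_i L51631) (flp_e L50847) L69601
theorem L69644 : sm gi N6430 = N8824 := rfl
theorem L69650 : sm gf N8824 = N6539 := ded_41_1 (flp_i L51679) (flp_f L50872) L69644
theorem L69673 : sm gh N6435 = N8828 := rfl
theorem L69679 : sm gg N8828 = N6438 := ded_42_1 (flp_h L50924) (flp_g L50907) L69673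
theorem L69711 : sm gd N6441 = N8834 := rfl
theorem L69714 : sm gb N8834 = N6455 := ded_18_1 (flp_d L51059) (flp_b L50945) L69711
theorem L69716 : sm gg N8834 = N6442 := ded_32_2 (flp_d L50951) (flp_g L50949) L69711
theorem L69719 : sm gi N6441 = N8835 := rfl
theorem L69726 : sm gg N8835 = N6443 := ded_43_1 (flp_i L50958) (flp_g L50949) L69719
theorem L69729 : sm gc N6442 = N8836 := rfl
theorem L69731 : sm ga N8836 = N8836 := ded_10_1 (flp_c L69729) L50953 L69729
theorem L69732 : sm gf N8836 = N8836 := ded_26_2 (flp_c L69729) L50956 L69729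
theorem L69733 : sm gh N8836 = N8836 := ded_28_2 (flp_c L69729) L50957 L69729
theorem L69734 : sm ge N6442 = N8837 := rfl
theorem L69736 : sm ga N8837 = N8837 := ded_12_1 (flp_e L69734) L50953 L69734
theorem L69737 : sm gb N8837 = N6458 := ded_19_1 (flp_e L51085) (flp_b L50954) L69734
theorem L69739 : sm gh N8837 = N8837 := ded_37_2 (flp_e L69734) L50957 L69734
theorem L69740 : sm gd N8837 = N6447 := ded_30_1 (flp_e L50993) (flp_d L37335) (flp_e L37324) L50951 L69734
theorem L69742 : sm gi N6442 = N8838 := rfl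
theorem L69744 : sm ga N8838 = N8838 := ded_16_1 (flp_i L69742) L50953 L69742
theorem L69745 : sm gb N8838 = N6459 := ded_23_1 (flp_i L51092) (flp_b L50954) L69742
theorem L69747 : sm gd N8838 = N6443 := ded_34_1 (flp_i L50958) L50951 L69742
theorem L69749 : sm gf N8838 = N8838 := ded_41_1 (flp_i L69742) L50956 L69742
theorem L69750 : sm gc N6444 = N8839 := rfl
theorem L69752 : sm ga N8839 = N8839 := ded_10_1 (flp_c L69750) L50969 L69750
theorem L69753 : sm gf N8839 = N8839 := ded_26_2 (flp_c L69750) L50972 L69750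
theorem L69754 : sm gg N8839 = N6446 := ded_27_2 (flp_c L50986) (flp_g L50973) L69750
theorem L69756 : sm gh N8839 = N6884 := ded_28_2 (flp_c L54300) (flp_h L50975) L69750
theorem L69758 : sm ge N6444 = N8840 := rfl
theorem L69760 : sm ga N8840 = N8840 := ded_12_1 (flp_e L69758) L50969 L69758
theorem L69761 : sm gb N8840 = N6460 := ded_19_1 (flp_e L51099) (flp_b L50970) L69758
theorem L69763 : sm gg N8840 = N6447 := ded_36_2 (flp_e L50993) (flp_g L50973) L69758
theorem L69765 : sm gh N8840 = N6885 := ded_37_2 (flp_e L54307) (flp_h L50975) L69758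
theorem L69767 : sm gi N6444 = N8841 := rfl
theorem L69769 : sm ga N8841 = N8841 := ded_16_1 (flp_i L69767) L50969 L69767
theorem L69770 : sm gb N8841 = N6461 := ded_23_1 (flp_i L51107) (flp_b L50970) L69767
theorem L69772 : sm gd N8841 = N6445 := ded_34_1 (flp_i L50977) L50967 L69767
theorem L69774 : sm gf N8841 = N8841 := ded_41_1 (flp_i L69767) L50972 L69767
theorem L69775 : sm gg N8841 = N6448 := ded_43_1 (flp_i L51000) (flp_g L50973) L69767
theorem L69777 : sm ge N6446 = N8842 := rfl
theorem L69779 : sm ga N8842 = N8842 := ded_12_1 (flp_e L69777) L50988 L69777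
theorem L69780 : sm gc N8842 = N6447 := ded_25_1 (flp_e L50993) L50986 L69777
theorem L69782 : sm gh N8842 = N6887 := ded_37_2 (flp_e L54325) (flp_h L50991) L69777
theorem L69784 : sm gi N6446 = N8843 := rfl
theorem L69786 : sm ga N8843 = N8843 := ded_16_1 (flp_i L69784) L50988 L69784
theorem L69787 : sm gc N8843 = N6448 := ded_29_1 (flp_i L51000) L50986 L69784
theorem L69789 : sm gf N8843 = N6450 := ded_41_1 (flp_i L51017) (flp_f L50989) L69784
theorem L69791 : sm gf N6447 = N8844 := rfl
theorem L69793 : sm ga N8844 = N8844 := ded_13_1 (flp_f L69791) L50995 L69791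
theorem L69794 : sm gb N8844 = N6462 := ded_20_1 (flp_f L51116) (flp_b L50996) L69791
theorem L69796 : sm gh N8844 = N6889 := ded_40_2 (flp_f L54338) (flp_h L50998) L69791
theorem L69798 : sm ge N8844 = N6451 := ded_35_1 (flp_f L51023) (flp_e L37358) (flp_f L37340) L50993 L69791
theorem L69800 : sm gi N6447 = N8845 := rfl
theorem L69802 : sm ga N8845 = N8845 := ded_16_1 (flp_i L69800) L50995 L69800
theorem L69803 : sm gb N8845 = N6463 := ded_23_1 (flp_i L51124) (flp_b L50996) L69800
theorem L69805 : sm ge N8845 = N6448 := ded_38_1 (flp_i L51000) L50993 L69800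
theorem L69807 : sm gh N6448 = N8846 := rfl
theorem L69809 : sm ga N8846 = N8846 := ded_15_1 (flp_h L69807) L51002 L69807
theorem L69810 : sm gb N8846 = N6464 := ded_22_1 (flp_h L51130) (flp_b L51003) L69807
theorem L69812 : sm gf N8846 = N6453 := ded_40_1 (flp_h L51040) (flp_f L51007) L69807
theorem L69814 : sm gd N8846 = N8846 := ded_33_1 (flp_h L69807) L51005 L37351 (flp_d L51005) L69807
theorem L69815 : sm gi N8846 = N6891 := ded_44_2 (flp_h L54354) (flp_i L39836) (flp_h L37342) L51000 L69807
theorem L69817 : sm gd N6449 = N8847 := rfl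
theorem L69819 : sm ga N8847 = N8847 := ded_11_1 (flp_d L69817) L51011 L69817
theorem L69820 : sm gg N8847 = N8847 := ded_32_2 (flp_d L69817) L51014 L69817
theorem L69821 : sm gc N8847 = N8847 := ded_24_1 (flp_d L69817) L51012 L37366 (flp_c L51012) L69817
theorem L69822 : sm gf N6449 = N8848 := rfl
theorem L69824 : sm ga N8848 = N8848 := ded_13_1 (flp_f L69822) L51011 L69822
theorem L69825 : sm gc N8848 = N6451 := ded_26_1 (flp_f L51023) (flp_c L51012) L69822
theorem L69827 : sm gh N8848 = N6893 := ded_40_2 (flp_f L54369) (flp_h L51015) L69822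
theorem L69829 : sm gi N6449 = N8849 := rfl
theorem L69831 : sm ga N8849 = N8849 := ded_16_1 (flp_i L69829) L51011 L69829
theorem L69832 : sm gc N8849 = N6452 := ded_29_1 (flp_i L51031) (flp_c L51012) L69829
theorem L69834 : sm ge N8849 = N6450 := ded_38_1 (flp_i L51017) L51009 L69829
theorem L69836 : sm gg N8849 = N8849 := ded_43_1 (flp_i L69829) L51014 L69829
theorem L69837 : sm gh N6450 = N8850 := rfl
theorem L69839 : sm ga N8850 = N8850 := ded_15_1 (flp_h L69837) L51019 L69837
theorem L69840 : sm gc N8850 = N6453 := ded_28_1 (flp_h L51040) (flp_c L51020) L69837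
theorem L69842 : sm gg N8850 = N8850 := ded_42_1 (flp_h L69837) L51022 L69837
theorem L69843 : sm gi N8850 = N6895 := ded_44_2 (flp_h L54382) (flp_i L39851) (flp_h L37356) L51017 L69837
theorem L69845 : sm gg N6451 = N8851 := rfl
theorem L69847 : sm ga N8851 = N8851 := ded_14_1 (flp_g L69845) L51025 L69845
theorem L69848 : sm gb N8851 = N6465 := ded_21_1 (flp_g L51139) (flp_b L51026) L69845
theorem L69850 : sm gd N8851 = N8851 := ded_32_1 (flp_g L69845) L51028 L69845
theorem L69851 : sm gh N8851 = N6896 := ded_42_2 (flp_g L54388) (flp_h L51029) L69845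
theorem L69853 : sm gf N8851 = N8851 := ded_39_1 (flp_g L69845) (flp_f L51023) L37363 L51023 L69845
theorem L69854 : sm gi N6451 = N8852 := rfl
theorem L69856 : sm ga N8852 = N8852 := ded_16_1 (flp_i L69854) L51025 L69854
theorem L69857 : sm gb N8852 = N6466 := ded_23_1 (flp_i L51147) (flp_b L51026) L69854
theorem L69859 : sm gd N8852 = N8852 := ded_34_1 (flp_i L69854) L51028 L69854
theorem L69860 : sm gf N8852 = N6452 := ded_41_1 (flp_i L51031) L51023 L69854
theorem L69862 : sm gh N6452 = N8853 := rfl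
theorem L69864 : sm ga N8853 = N8853 := ded_15_1 (flp_h L69862) L51033 L69862
theorem L69865 : sm gb N8853 = N6467 := ded_22_1 (flp_h L51154) (flp_b L51034) L69862
theorem L69867 : sm ge N8853 = N6453 := ded_37_1 (flp_h L51040) (flp_e L51037) L69862
theorem L69869 : sm gg N8853 = N8853 := ded_42_1 (flp_h L69862) L51039 L69862
theorem L69870 : sm gi N8853 = N6898 := ded_44_2 (flp_h L54405) (flp_i L39865) (flp_h L37364) L51031 L69862
theorem L69872 : sm gd N6454 = N8854 := rfl
theorem L69876 : sm gf N8854 = N6455 := ded_31_2 (flp_d L51059) (flp_f L51056) L69872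
theorem L69891 : sm gc N6455 = N8856 := rfl
theorem L69893 : sm ga N8856 = N6477 := ded_10_1 (flp_c L51234) (flp_a L51061) L69891
theorem L69895 : sm gg N8856 = N6457 := ded_27_2 (flp_c L51077) (flp_g L51063) L69891
theorem L69900 : sm ge N6455 = N8857 := rfl
theorem L69902 : sm ga N8857 = N6478 := ded_12_1 (flp_e L51241) (flp_a L51061) L69900
theorem L69904 : sm gg N8857 = N6458 := ded_36_2 (flp_e L51085) (flp_g L51063) L69900
theorem L69907 : sm gd N8857 = N6460 := ded_30_1 (flp_e L51099) (flp_d L37411) (flp_e L37391) L51059 L69900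
theorem L69909 : sm gi N6455 = N8858 := rfl
theorem L69913 : sm gd N8858 = N6456 := ded_34_1 (flp_i L51066) L51059 L69909
theorem L69915 : sm gg N8858 = N6459 := ded_43_1 (flp_i L51092) (flp_g L51063) L69909
theorem L69917 : sm gb N6457 = N8859 := rfl
theorem L69919 : sm gd N8859 = N6472 := ded_18_2 (flp_b L51197) (flp_d L51083) L69917
theorem L69921 : sm gf N8859 = N8859 := ded_20_2 (flp_b L69917) L51081 L69917
theorem L69922 : sm gh N8859 = N8859 := ded_22_2 (flp_b L69917) L51082 L69917
theorem L69923 : sm ge N6457 = N8860 := rfl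
theorem L69925 : sm ga N8860 = N6481 := ded_12_1 (flp_e L51263) (flp_a L51079) L69923
theorem L69927 : sm gc N8860 = N6458 := ded_25_1 (flp_e L51085) L51077 L69923
theorem L69929 : sm gh N8860 = N8860 := ded_37_2 (flp_e L69923) L51082 L69923
theorem L69930 : sm gi N6457 = N8861 := rfl
theorem L69932 : sm ga N8861 = N6482 := ded_16_1 (flp_i L51268) (flp_a L51079) L69930
theorem L69934 : sm gc N8861 = N6459 := ded_29_1 (flp_i L51092) L51077 L69930
theorem L69936 : sm gd N8861 = N6473 := ded_34_1 (flp_i L51202) (flp_d L51083) L69930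
theorem L69938 : sm gf N8861 = N8861 := ded_41_1 (flp_i L69930) L51081 L69930
theorem L69939 : sm gf N6458 = N8862 := rfl
theorem L69941 : sm ga N8862 = N6483 := ded_13_1 (flp_f L51275) (flp_a L51087) L69939
theorem L69943 : sm gd N8862 = N6462 := ded_31_1 (flp_f L51116) (flp_d L51090) L69939
theorem L69945 : sm gh N8862 = N8862 := ded_40_2 (flp_f L69939) L51089 L69939
theorem L69946 : sm ge N8862 = N8862 := ded_35_1 (flp_f L69939) (flp_e L51085) L37399 L51085 L69939
theorem L69947 : sm gi N6458 = N8863 := rfl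
theorem L69949 : sm ga N8863 = N6484 := ded_16_1 (flp_i L51282) (flp_a L51087) L69947
theorem L69951 : sm gd N8863 = N6463 := ded_34_1 (flp_i L51124) (flp_d L51090) L69947
theorem L69953 : sm ge N8863 = N6459 := ded_38_1 (flp_i L51092) L51085 L69947
theorem L69955 : sm gh N6459 = N8864 := rfl
theorem L69957 : sm ga N8864 = N6485 := ded_15_1 (flp_h L51289) (flp_a L51094) L69955
theorem L69959 : sm gf N8864 = N8864 := ded_40_1 (flp_h L69955) L51098 L69955
theorem L69960 : sm gd N8864 = N8864 := ded_33_1 (flp_h L69955) L51096 L37410 (flp_d L51096) L69955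
theorem L69961 : sm gi N8864 = N8864 := ded_44_2 (flp_h L69955) (flp_i L51092) L37400 L51092 L69955
theorem L69962 : sm gf N6460 = N8865 := rfl
theorem L69964 : sm ga N8865 = N6486 := ded_13_1 (flp_f L51295) (flp_a L51101) L69962
theorem L69966 : sm gh N8865 = N6899 := ded_40_2 (flp_f L54413) (flp_h L51105) L69962
theorem L69968 : sm ge N8865 = N8865 := ded_35_1 (flp_f L69962) (flp_e L51099) L37415 L51099 L69962
theorem L69969 : sm gi N6460 = N8866 := rfl
theorem L69971 : sm ga N8866 = N6487 := ded_16_1 (flp_i L51301) (flp_a L51101) L69969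
theorem L69973 : sm ge N8866 = N6461 := ded_38_1 (flp_i L51107) L51099 L69969
theorem L69975 : sm gg N8866 = N6463 := ded_43_1 (flp_i L51124) (flp_g L51103) L69969
theorem L69977 : sm gh N6461 = N8867 := rfl
theorem L69979 : sm ga N8867 = N6488 := ded_15_1 (flp_h L51308) (flp_a L51109) L69977
theorem L69981 : sm gf N8867 = N8867 := ded_40_1 (flp_h L69977) L51113 L69977
theorem L69982 : sm gg N8867 = N6464 := ded_42_1 (flp_h L51130) (flp_g L51114) L69977
theorem L69984 : sm gd N8867 = N8867 := ded_33_1 (flp_h L69977) L51111 L37429 (flp_d L51111) L69977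
theorem L69985 : sm gi N8867 = N6901 := ded_44_2 (flp_h L54428) (flp_i L39889) (flp_h L37418) L51107 L69977
theorem L69987 : sm gg N6462 = N8868 := rfl
theorem L69989 : sm ga N8868 = N6489 := ded_14_1 (flp_g L51317) (flp_a L51118) L69987
theorem L69991 : sm ge N8868 = N6465 := ded_36_1 (flp_g L51139) (flp_e L51122) L69987
theorem L69993 : sm gh N8868 = N6902 := ded_42_2 (flp_g L54436) (flp_h L51120) L69987
theorem L69995 : sm gi N6462 = N8869 := rfl
theorem L69997 : sm ga N8869 = N6490 := ded_16_1 (flp_i L51324) (flp_a L51118) L69995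
theorem L69999 : sm ge N8869 = N6466 := ded_38_1 (flp_i L51147) (flp_e L51122) L69995
theorem L70001 : sm gf N8869 = N6463 := ded_41_1 (flp_i L51124) L51116 L69995
theorem L70003 : sm gh N6463 = N8870 := rfl
theorem L70005 : sm ga N8870 = N6491 := ded_15_1 (flp_h L51331) (flp_a L51126) L70003
theorem L70007 : sm ge N8870 = N6464 := ded_37_1 (flp_h L51130) (flp_e L51128) L70003
theorem L70009 : sm gi N8870 = N6904 := ded_44_2 (flp_h L54452) (flp_i L39905) (flp_h L37434) L51124 L70003
theorem L70011 : sm gi N6465 = N8871 := rfl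
theorem L70013 : sm ga N8871 = N6492 := ded_16_1 (flp_i L51338) (flp_a L51141) L70011
theorem L70015 : sm gd N8871 = N8871 := ded_34_1 (flp_i L70011) L51143 L70011
theorem L70016 : sm gf N8871 = N8871 := ded_41_1 (flp_i L70011) L51146 L70011
theorem L70017 : sm gg N8871 = N6466 := ded_43_1 (flp_i L51147) L51139 L70011
theorem L70019 : sm gh N6466 = N8872 := rfl
theorem L70021 : sm ga N8872 = N6493 := ded_15_1 (flp_h L51345) (flp_a L51149) L70019
theorem L70023 : sm gf N8872 = N6467 := ded_40_1 (flp_h L51154) (flp_f L51152) L70019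
theorem L70025 : sm gi N8872 = N6906 := ded_44_2 (flp_h L54467) (flp_i L39926) (flp_h L37449) L51147 L70019
theorem L70027 : sm gd N6467 = N8873 := rfl
theorem L70029 : sm ga N8873 = N6494 := ded_11_1 (flp_d L51352) (flp_a L51156) L70027
theorem L70031 : sm gg N8873 = N8873 := ded_32_2 (flp_d L70027) L51160 L70027
theorem L70032 : sm gi N8873 = N6907 := ded_34_2 (flp_d L54473) (flp_i L51161) L70027
theorem L70034 : sm ge N8873 = N8873 := ded_30_2 (flp_d L70027) L51158 L37464 (flp_e L51158) L70027
theorem L70035 : sm gh N8873 = N8873 := ded_33_2 (flp_d L70027) (flp_h L51154) L37455 L51154 L70027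
theorem L70062 : sm gb N6470 = N8877 := rfl
theorem L70064 : sm gg N8877 = N6472 := ded_21_2 (flp_b L51197) (flp_g L51185) L70062
theorem L70066 : sm gh N8877 = N6518 := ded_22_2 (flp_b L51531) (flp_h L51187) L70062
theorem L70068 : sm gi N6470 = N8878 := rfl
theorem L70070 : sm ga N8878 = N6499 := ded_16_1 (flp_i L51392) (flp_a L51183) L70068
theorem L70074 : sm gg N8878 = N6473 := ded_43_1 (flp_i L51202) (flp_g L51185) L70068
theorem L70085 : sm ga N6472 = N8880 := rfl
theorem L70087 : sm gf N8880 = N8880 := ded_13_2 (flp_a L70085) L51199 L70085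
theorem L70088 : sm gh N8880 = N6521 := ded_15_2 (flp_a L51552) (flp_h L51200) L70085
theorem L70090 : sm gb N8880 = N6501 := ded_9_2 (flp_a L51407) (flp_b L37637) (flp_a L37494) L51197 L70085
theorem L70092 : sm gi N6472 = N8881 := rfl
theorem L70094 : sm gb N8881 = N6473 := ded_23_1 (flp_i L51202) L51197 L70092
theorem L70096 : sm gf N8881 = N8881 := ded_41_1 (flp_i L70092) L51199 L70092
theorem L70097 : sm gh N6473 = N8882 := rfl
theorem L70104 : sm gi N8882 = N6523 := ded_44_2 (flp_h L51564) (flp_i L37755) (flp_h L37497) L51202 L70097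
theorem L70128 : sm gb N6477 = N8886 := rfl
theorem L70132 : sm gg N8886 = N6480 := ded_21_2 (flp_b L51256) (flp_g L51236) L70128
theorem L70136 : sm ge N6477 = N8887 := rfl
theorem L70138 : sm gc N8887 = N6478 := ded_25_1 (flp_e L51241) L51234 L70136
theorem L70140 : sm gg N8887 = N6481 := ded_36_2 (flp_e L51263) (flp_g L51236) L70136
theorem L70143 : sm gi N6477 = N8888 := rfl
theorem L70147 : sm gd N8888 = N6499 := ded_34_1 (flp_i L51392) (flp_d L51239) L70143
theorem L70149 : sm gg N8888 = N6482 := ded_43_1 (flp_i L51268) (flp_g L51236) L70143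
theorem L70151 : sm gf N6478 = N8889 := rfl
theorem L70154 : sm gd N8889 = N6486 := ded_31_1 (flp_f L51295) (flp_d L51247) L70151
theorem L70157 : sm gi N6478 = N8890 := rfl
theorem L70160 : sm gd N8890 = N6487 := ded_34_1 (flp_i L51301) (flp_d L51247) L70157
theorem L70162 : sm ge N8890 = N6479 := ded_38_1 (flp_i L51249) L51241 L70157
theorem L70164 : sm gg N8890 = N6484 := ded_43_1 (flp_i L51282) (flp_g L51244) L70157
theorem L70166 : sm gh N6479 = N8891 := rfl
theorem L70169 : sm gg N8891 = N6485 := ded_42_1 (flp_h L51289) (flp_g L51254) L70166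
theorem L70173 : sm ga N6480 = N8892 := rfl
theorem L70175 : sm gc N8892 = N8892 := ded_10_2 (flp_a L70173) L51262 L70173
theorem L70176 : sm gd N8892 = N6501 := ded_11_2 (flp_a L51407) (flp_d L51258) L70173
theorem L70178 : sm gf N8892 = N8892 := ded_13_2 (flp_a L70173) L51260 L70173
theorem L70179 : sm gh N8892 = N8892 := ded_15_2 (flp_a L70173) L51261 L70173
theorem L70180 : sm ge N6480 = N8893 := rfl
theorem L70182 : sm gb N8893 = N6481 := ded_19_1 (flp_e L51263) L51256 L70180
theorem L70184 : sm gc N8893 = N8893 := ded_25_1 (flp_e L70180) L51262 L70180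
theorem L70185 : sm gh N8893 = N8893 := ded_37_2 (flp_e L70180) L51261 L70180
theorem L70186 : sm gi N6480 = N8894 := rfl
theorem L70188 : sm gb N8894 = N6482 := ded_23_1 (flp_i L51268) L51256 L70186
theorem L70190 : sm gc N8894 = N8894 := ded_29_1 (flp_i L70186) L51262 L70186
theorem L70191 : sm gd N8894 = N6502 := ded_34_1 (flp_i L51414) (flp_d L51258) L70186
theorem L70193 : sm gf N8894 = N8894 := ded_41_1 (flp_i L70186) L51260 L70186
theorem L70194 : sm gf N6481 = N8895 := rfl
theorem L70196 : sm gc N8895 = N6483 := ded_26_1 (flp_f L51275) (flp_c L51265) L70194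
theorem L70198 : sm gh N8895 = N8895 := ded_40_2 (flp_f L70194) L51267 L70194
theorem L70199 : sm ge N8895 = N8895 := ded_35_1 (flp_f L70194) (flp_e L51263) L37533 L51263 L70194
theorem L70200 : sm gi N6481 = N8896 := rfl
theorem L70202 : sm gc N8896 = N6484 := ded_29_1 (flp_i L51282) (flp_c L51265) L70200
theorem L70204 : sm ge N8896 = N6482 := ded_38_1 (flp_i L51268) L51263 L70200
theorem L70206 : sm gh N6482 = N8897 := rfl
theorem L70208 : sm gc N8897 = N6485 := ded_28_1 (flp_h L51289) (flp_c L51270) L70206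
theorem L70210 : sm gf N8897 = N8897 := ded_40_1 (flp_h L70206) L51274 L70206
theorem L70211 : sm gi N8897 = N8897 := ded_44_2 (flp_h L70206) (flp_i L51268) L37534 L51268 L70206
theorem L70212 : sm gg N6483 = N8898 := rfl
theorem L70214 : sm gb N8898 = N8898 := ded_21_1 (flp_g L70212) L51277 L70212
theorem L70215 : sm gd N8898 = N6489 := ded_32_1 (flp_g L51317) (flp_d L51278) L70212
theorem L70217 : sm ge N8898 = N8898 := ded_36_1 (flp_g L70212) L51281 L70212
theorem L70218 : sm gh N8898 = N8898 := ded_42_2 (flp_g L70212) L51280 L70212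
theorem L70219 : sm gi N6483 = N8899 := rfl
theorem L70221 : sm gb N8899 = N8899 := ded_23_1 (flp_i L70219) L51277 L70219
theorem L70222 : sm gd N8899 = N6490 := ded_34_1 (flp_i L51324) (flp_d L51278) L70219
theorem L70224 : sm ge N8899 = N8899 := ded_38_1 (flp_i L70219) L51281 L70219
theorem L70225 : sm gf N8899 = N6484 := ded_41_1 (flp_i L51282) L51275 L70219
theorem L70227 : sm gh N6484 = N8900 := rfl
theorem L70229 : sm gb N8900 = N8900 := ded_22_1 (flp_h L70227) L51284 L70227
theorem L70230 : sm ge N8900 = N6485 := ded_37_1 (flp_h L51289) (flp_e L51287) L70227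
theorem L70232 : sm gi N8900 = N8900 := ded_44_2 (flp_h L70227) (flp_i L51282) L37540 L51282 L70227
theorem L70233 : sm gg N6486 = N8901 := rfl
theorem L70235 : sm gb N8901 = N8901 := ded_21_1 (flp_g L70233) L51297 L70233
theorem L70236 : sm ge N8901 = N8901 := ded_36_1 (flp_g L70233) L51300 L70233
theorem L70237 : sm gh N8901 = N6908 := ded_42_2 (flp_g L54481) (flp_h L51298) L70233
theorem L70239 : sm gf N8901 = N6489 := ded_39_1 (flp_g L51317) (flp_f L37564) (flp_g L37552) L51295 L70233
theorem L70241 : sm gi N6486 = N8902 := rfl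
theorem L70243 : sm gb N8902 = N8902 := ded_23_1 (flp_i L70241) L51297 L70241
theorem L70244 : sm ge N8902 = N8902 := ded_38_1 (flp_i L70241) L51300 L70241
theorem L70245 : sm gf N8902 = N6487 := ded_41_1 (flp_i L51301) L51295 L70241
theorem L70247 : sm gh N6487 = N8903 := rfl
theorem L70249 : sm gb N8903 = N8903 := ded_22_1 (flp_h L70247) L51303 L70247
theorem L70250 : sm ge N8903 = N6488 := ded_37_1 (flp_h L51308) (flp_e L51304) L70247
theorem L70252 : sm gg N8903 = N6491 := ded_42_1 (flp_h L51331) (flp_g L51306) L70247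
theorem L70254 : sm gi N8903 = N6910 := ded_44_2 (flp_h L54495) (flp_i L39946) (flp_h L37554) L51301 L70247
theorem L70256 : sm gi N6489 = N8904 := rfl
theorem L70258 : sm gb N8904 = N8904 := ded_23_1 (flp_i L70256) L51319 L70256
theorem L70259 : sm ge N8904 = N6492 := ded_38_1 (flp_i L51338) (flp_e L51320) L70256
theorem L70261 : sm gg N8904 = N6490 := ded_43_1 (flp_i L51324) L51317 L70256
theorem L70263 : sm gh N6490 = N8905 := rfl
theorem L70265 : sm gb N8905 = N8905 := ded_22_1 (flp_h L70263) L51326 L70263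
theorem L70266 : sm ge N8905 = N6493 := ded_37_1 (flp_h L51345) (flp_e L51327) L70263
theorem L70268 : sm gf N8905 = N6491 := ded_40_1 (flp_h L51331) (flp_f L51329) L70263
theorem L70270 : sm gi N8905 = N6912 := ded_44_2 (flp_h L54510) (flp_i L39967) (flp_h L37567) L51324 L70263
theorem L70272 : sm gd N6491 = N8906 := rfl
theorem L70274 : sm gb N8906 = N8906 := ded_18_1 (flp_d L70272) L51333 L70272
theorem L70275 : sm gi N8906 = N6913 := ded_34_2 (flp_d L54517) (flp_i L51336) L70272
theorem L70277 : sm ge N8906 = N8906 := ded_30_2 (flp_d L70272) L51334 L37581 (flp_e L51334) L70272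
theorem L70278 : sm gh N6492 = N8907 := rfl
theorem L70280 : sm gb N8907 = N8907 := ded_22_1 (flp_h L70278) L51340 L70278
theorem L70281 : sm gf N8907 = N8907 := ded_40_1 (flp_h L70278) L51342 L70278
theorem L70282 : sm gg N8907 = N6493 := ded_42_1 (flp_h L51345) (flp_g L51343) L70278
theorem L70284 : sm gi N8907 = N6914 := ded_44_2 (flp_h L54522) (flp_i L39980) (flp_h L37588) L51338 L70278
theorem L70286 : sm gd N6493 = N8908 := rfl
theorem L70288 : sm gb N8908 = N8908 := ded_18_1 (flp_d L70286) L51347 L70286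
theorem L70289 : sm gf N8908 = N6494 := ded_31_2 (flp_d L51352) (flp_f L51348) L70286
theorem L70291 : sm gi N8908 = N6915 := ded_34_2 (flp_d L54528) (flp_i L51350) L70286
theorem L70293 : sm gh N8908 = N8908 := ded_33_2 (flp_d L70286) (flp_h L51345) L37594 L51345 L70286
theorem L70294 : sm gc N6494 = N8909 := rfl
theorem L70296 : sm ge N8909 = N8909 := ded_25_2 (flp_c L70294) L51358 L70294
theorem L70297 : sm gg N8909 = N8909 := ded_27_2 (flp_c L70294) L51355 L70294
theorem L70298 : sm gh N8909 = N8909 := ded_28_2 (flp_c L70294) L51359 L70294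
theorem L70299 : sm gi N8909 = N6916 := ded_29_2 (flp_c L54535) (flp_i L51356) L70294
theorem L70310 : sm ge N6495 = N8911 := rfl
theorem L70315 : sm gh N8911 = N6525 := ded_37_2 (flp_e L51579) (flp_h L51365) L70310
theorem L70317 : sm gi N6495 = N8912 := rfl
theorem L70321 : sm gf N8912 = N6499 := ded_41_1 (flp_i L51392) (flp_f L51362) L70317
theorem L70350 : sm gi N6498 = N8916 := rfl
theorem L70352 : sm gb N8916 = N6499 := ded_23_1 (flp_i L51392) L51384 L70350
theorem L70356 : sm gg N8916 = N6502 := ded_43_1 (flp_i L51414) (flp_g L51386) L70350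
theorem L70358 : sm gh N6499 = N8917 := rfl
theorem L70364 : sm gi N8917 = N6531 := ded_44_2 (flp_h L51625) (flp_i L37798) (flp_h L37627) L51392 L70358
theorem L70366 : sm gi N6501 = N8918 := rfl
theorem L70368 : sm ga N8918 = N6502 := ded_16_1 (flp_i L51414) L51407 L70366
theorem L70370 : sm gc N8918 = N6512 := ded_29_1 (flp_i L51487) (flp_c L51409) L70366
theorem L70372 : sm gf N8918 = N8918 := ded_41_1 (flp_i L70366) L51411 L70366
theorem L70373 : sm gh N6502 = N8919 := rfl
theorem L70380 : sm gi N8919 = N6533 := ded_44_2 (flp_h L51639) (flp_i L37818) (flp_h L37640) L51414 L70373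
theorem L70423 : sm gh N6506 = N8926 := rfl
theorem L70430 : sm gi N8926 = N6540 := ded_44_2 (flp_h L51686) (flp_i L37843) (flp_h L37662) L51443 L70423
theorem L70432 : sm gh N6507 = N8927 := rfl
theorem L70437 : sm gi N8927 = N6541 := ded_44_2 (flp_h L51693) (flp_i L37852) (flp_h L37668) L51451 L70432
theorem L70439 : sm gi N6509 = N8928 := rfl
theorem L70444 : sm gg N8928 = N6512 := ded_43_1 (flp_i L51487) (flp_g L51468) L70439
theorem L70462 : sm gh N6512 = N8931 := rfl
theorem L70467 : sm gi N8931 = N6545 := ded_44_2 (flp_h L51719) (flp_i L37885) (flp_h L37703) L51487 L70462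
theorem L70506 : sm gi N6516 = N8937 := rfl
theorem L70508 : sm ga N8937 = N6527 := ded_16_1 (flp_i L51592) (flp_a L51517) L70506
theorem L70523 : sm ga N6518 = N8939 := rfl
theorem L70526 : sm gg N8939 = N6521 := ded_14_2 (flp_a L51552) (flp_g L51534) L70523
theorem L70530 : sm gi N6518 = N8940 := rfl
theorem L70535 : sm gg N8940 = N6522 := ded_43_1 (flp_i L51558) (flp_g L51534) L70530
theorem L70545 : sm gi N6521 = N8942 := rfl
theorem L70549 : sm gb N8942 = N6532 := ded_23_1 (flp_i L51631) (flp_b L51556) L70545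
theorem L70553 : sm gh N6522 = N8943 := rfl
theorem L70555 : sm gb N8943 = N6523 := ded_22_1 (flp_h L51564) (flp_b L51560) L70553
theorem L70558 : sm gd N6523 = N8944 := rfl
theorem L70560 : sm ga N8944 = N6534 := ded_11_1 (flp_d L51646) (flp_a L51566) L70558
theorem L70596 : sm gi N6525 = N8949 := rfl
theorem L70598 : sm gc N8949 = N6527 := ded_29_1 (flp_i L51592) (flp_c L51581) L70596
theorem L70617 : sm gi N6529 = N8952 := rfl
theorem L70621 : sm gc N8952 = N6542 := ded_29_1 (flp_i L51698) (flp_c L51611) L70617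
theorem L70624 : sm gg N8952 = N6532 := ded_43_1 (flp_i L51631) (flp_g L51614) L70617
theorem L70647 : sm gd N6533 = N8956 := rfl
theorem L70649 : sm gb N8956 = N6534 := ded_18_1 (flp_d L51646) (flp_b L51641) L70647
theorem L70678 : sm gi N6536 = N8961 := rfl
theorem L70680 : sm gb N8961 = N6539 := ded_23_1 (flp_i L51679) (flp_b L51660) L70678
theorem L70682 : sm ge N8961 = N6537 := ded_38_1 (flp_i L51663) L51658 L70678
theorem L70715 : sm gd N6540 = N8966 := rfl
theorem L70721 : sm gh N8966 = N6556 := ded_33_2 (flp_d L51800) (flp_h L37940) (flp_d L37847) L51686 L70715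
theorem L70723 : sm gd N6541 = N8967 := rfl
theorem L70727 : sm gh N8967 = N7469 := ded_33_2 (flp_d L58910) (flp_h L43174) (flp_d L37854) L51693 L70723
theorem L70821 : sm gh N6551 = N8981 := rfl
theorem L70823 : sm gb N8981 = N6555 := ded_22_1 (flp_h L51791) (flp_b L51760) L70821
theorem L70826 : sm ge N8981 = N6552 := ded_37_1 (flp_h L51767) (flp_e L51763) L70821
theorem L70929 : sm gf N6565 = N8997 := rfl
theorem L70937 : sm gh N6565 = N8998 := rfl
theorem L70940 : sm gb N8998 = N6567 := ded_22_1 (flp_h L51880) L51863 L70937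
theorem L70943 : sm ge N8998 = N6587 := ded_37_1 (flp_h L52044) (flp_e L51866) L70937
theorem L70946 : sm ge N6566 = N8999 := rfl
theorem L70950 : sm gc N8999 = N6568 := ded_25_1 (flp_e L51889) (flp_c L51876) L70946
theorem L70953 : sm gf N8999 = N6588 := ded_35_2 (flp_e L52051) (flp_f L38119) (flp_e L38002) L51872 L70946
theorem L70955 : sm gg N6566 = N9000 := rfl
theorem L70957 : sm ga N9000 = N6573 := ded_14_1 (flp_g L51933) (flp_a L51874) L70955
theorem L70959 : sm gc N9000 = N6569 := ded_27_1 (flp_g L51898) (flp_c L51876) L70955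
theorem L70972 : sm gd N6567 = N9002 := rfl
theorem L70974 : sm ga N9002 = N6575 := ded_11_1 (flp_d L51948) (flp_a L51882) L70972
theorem L71007 : sm gh N6569 = N9006 := rfl
theorem L71013 : sm gg N9006 = N6570 := ded_42_1 (flp_h L51907) L51898 L71007
theorem L71016 : sm gi N6570 = N9007 := rfl
theorem L71022 : sm gf N9007 = N6571 := ded_41_1 (flp_i L51915) (flp_f L51912) L71016
theorem L71065 : sm gi N6574 = N9013 := rfl
theorem L71070 : sm gf N9013 = N6576 := ded_41_1 (flp_i L51954) (flp_f L51946) L71065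
theorem L71073 : sm ge N6575 = N9014 := rfl
theorem L71079 : sm gd N9014 = N6603 := ded_30_1 (flp_e L52168) (flp_d L38187) (flp_e L38046) L51948 L71073
theorem L71113 : sm gi N6578 = N9019 := rfl
theorem L71119 : sm gf N9019 = N6608 := ded_41_1 (flp_i L52204) (flp_f L51977) L71113
theorem L71147 : sm gi N6582 = N9023 := rfl
theorem L71151 : sm ge N9023 = N6585 := ded_38_1 (flp_i L52028) (flp_e L52008) L71147
theorem L71156 : sm gc N6583 = N9024 := rfl
theorem L71160 : sm gf N9024 = N6613 := ded_26_2 (flp_c L52245) (flp_f L52015) L71156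
theorem L71164 : sm gi N6583 = N9025 := rfl
theorem L71170 : sm gf N9025 = N6614 := ded_41_1 (flp_i L52252) (flp_f L52015) L71164
theorem L71172 : sm ge N6586 = N9026 := rfl
theorem L71175 : sm gb N9026 = N6588 := ded_19_1 (flp_e L52051) (flp_b L52040) L71172
theorem L71179 : sm gg N6586 = N9027 := rfl
theorem L71187 : sm gh N6586 = N9028 := rfl
theorem L71193 : sm gf N9028 = N6587 := ded_40_1 (flp_h L52044) L52037 L71187
theorem L71195 : sm gd N6587 = N9029 := rfl
theorem L71197 : sm ga N9029 = N9029 := ded_11_1 (flp_d L71195) L52046 L71195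
theorem L71198 : sm gb N9029 = N6591 := ded_18_1 (flp_d L52074) (flp_b L52047) L71195
theorem L71200 : sm gg N9029 = N9029 := ded_32_2 (flp_d L71195) L52050 L71195
theorem L71201 : sm gi N6587 = N9030 := rfl
theorem L71209 : sm gd N6588 = N9031 := rfl
theorem L71211 : sm ga N9031 = N6597 := ded_11_1 (flp_d L52125) (flp_a L52053) L71209
theorem L71241 : sm gd N6590 = N9035 := rfl
theorem L71243 : sm ga N9035 = N6601 := ded_11_1 (flp_d L52153) (flp_a L52068) L71241
theorem L71245 : sm gf N9035 = N6591 := ded_31_2 (flp_d L52074) (flp_f L52072) L71241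
theorem L71247 : sm gc N9035 = N6624 := ded_24_1 (flp_d L52342) L38310 (flp_d L38156) (flp_c L52070) L71241
theorem L71258 : sm ge N6591 = N9037 := rfl
theorem L71260 : sm ga N9037 = N6603 := ded_12_1 (flp_e L52168) (flp_a L52076) L71258
theorem L71262 : sm gc N9037 = N6626 := ded_25_1 (flp_e L52358) (flp_c L52079) L71258
theorem L71264 : sm gg N9037 = N9037 := ded_36_2 (flp_e L71258) L52078 L71258
theorem L71265 : sm gi N6591 = N9038 := rfl
theorem L71269 : sm gc N9038 = N6627 := ded_29_1 (flp_i L52364) (flp_c L52079) L71265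
theorem L71282 : sm gh N6593 = N9040 := rfl
theorem L71287 : sm ge N9040 = N6595 := ded_37_1 (flp_h L52105) (flp_e L52095) L71282
theorem L71289 : sm gg N9040 = N6594 := ded_42_1 (flp_h L52098) L52089 L71282
theorem L71299 : sm gi N6594 = N9042 := rfl
theorem L71301 : sm ga N9042 = N6608 := ded_16_1 (flp_i L52204) (flp_a L52100) L71299
theorem L71356 : sm gd N6600 = N9050 := rfl
theorem L71360 : sm gg N9050 = N6601 := ded_32_2 (flp_d L52153) (flp_g L52151) L71356
theorem L71378 : sm gi N6601 = N9053 := rfl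
theorem L71381 : sm gc N9053 = N6642 := ded_29_1 (flp_i L52490) (flp_c L52158) L71378
theorem L71387 : sm gf N6603 = N9054 := rfl
theorem L71390 : sm gc N9054 = N6643 := ded_26_1 (flp_f L52498) (flp_c L52171) L71387
theorem L71392 : sm gi N6603 = N9055 := rfl
theorem L71395 : sm gc N9055 = N6644 := ded_29_1 (flp_i L52503) (flp_c L52171) L71392
theorem L71445 : sm gd N6610 = N9062 := rfl
theorem L71448 : sm gf N9062 = N6611 := ded_31_2 (flp_d L52228) (flp_f L52226) L71445
theorem L71468 : sm gi N6611 = N9065 := rfl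
theorem L71475 : sm gg N9065 = N6614 := ded_43_1 (flp_i L52252) (flp_g L52231) L71468
theorem L71498 : sm gd N6615 = N9069 := rfl
theorem L71500 : sm ga N9069 = N6712 := ded_11_1 (flp_d L53030) (flp_a L52261) L71498
theorem L71502 : sm gb N9069 = N6620 := ded_18_1 (flp_d L52306) (flp_b L52263) L71498
theorem L71504 : sm gf N9069 = N9069 := ded_31_2 (flp_d L71498) L52268 L71498
theorem L71505 : sm gi N9069 = N6658 := ded_34_2 (flp_d L52608) (flp_i L52266) L71498
theorem L71507 : sm gg N6615 = N9070 := rfl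
theorem L71509 : sm ga N9070 = N6713 := ded_14_1 (flp_g L53037) (flp_a L52261) L71507
theorem L71514 : sm ge N9070 = N6616 := ded_36_1 (flp_g L52269) L52259 L71507
theorem L71516 : sm gi N9070 = N6659 := ded_43_2 (flp_g L52615) (flp_i L52266) L71507
theorem L71518 : sm gh N6615 = N9071 := rfl
theorem L71538 : sm gd N6617 = N9073 := rfl
theorem L71540 : sm ga N9073 = N6716 := ded_11_1 (flp_d L53062) (flp_a L52281) L71538
theorem L71542 : sm gb N9073 = N6624 := ded_18_1 (flp_d L52342) (flp_b L52283) L71538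
theorem L71544 : sm gf N9073 = N6618 := ded_31_2 (flp_d L52288) (flp_f L52286) L71538
theorem L71546 : sm gi N6617 = N9074 := rfl
theorem L71548 : sm ga N9074 = N6717 := ded_16_1 (flp_i L53068) (flp_a L52281) L71546
theorem L71555 : sm gh N9074 = N6663 := ded_44_1 (flp_i L52652) (flp_h L38525) (flp_i L38277) L52279 L71546
theorem L71557 : sm gc N6618 = N9075 := rfl
theorem L71559 : sm ga N9075 = N6718 := ded_10_1 (flp_c L53077) (flp_a L52290) L71557
theorem L71561 : sm gg N9075 = N9075 := ded_27_2 (flp_c L71557) L52294 L71557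
theorem L71562 : sm gd N9075 = N9075 := ded_24_2 (flp_c L71557) (flp_d L52288) L38285 L52288 L71557
theorem L71563 : sm ge N6618 = N9076 := rfl
theorem L71565 : sm ga N9076 = N6719 := ded_12_1 (flp_e L53082) (flp_a L52290) L71563
theorem L71567 : sm gb N9076 = N6626 := ded_19_1 (flp_e L52358) (flp_b L52292) L71563
theorem L71569 : sm gg N9076 = N9076 := ded_36_2 (flp_e L71563) L52294 L71563
theorem L71570 : sm gd N9076 = N9076 := ded_30_1 (flp_e L71563) (flp_d L52288) L38286 L52288 L71563
theorem L71571 : sm gi N6618 = N9077 := rfl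
theorem L71573 : sm ga N9077 = N6720 := ded_16_1 (flp_i L53088) (flp_a L52290) L71571
theorem L71575 : sm gb N9077 = N6627 := ded_23_1 (flp_i L52364) (flp_b L52292) L71571
theorem L71577 : sm gd N9077 = N6619 := ded_34_1 (flp_i L52295) L52288 L71571
theorem L71579 : sm gg N9077 = N9077 := ded_43_1 (flp_i L71571) L52294 L71571
theorem L71580 : sm gg N6620 = N9078 := rfl
theorem L71587 : sm gi N9078 = N6667 := ded_43_2 (flp_g L52685) (flp_i L52311) L71580
theorem L71589 : sm gh N6620 = N9079 := rfl
theorem L71591 : sm ga N9079 = N6634 := ded_15_1 (flp_h L52426) (flp_a L52308) L71589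
theorem L71631 : sm gd N6623 = N9084 := rfl
theorem L71636 : sm gg N9084 = N6624 := ded_32_2 (flp_d L52342) (flp_g L52340) L71631
theorem L71649 : sm ge N6624 = N9086 := rfl
theorem L71651 : sm ga N9086 = N6641 := ded_12_1 (flp_e L52486) (flp_a L52344) L71649
theorem L71653 : sm gi N6624 = N9087 := rfl
theorem L71655 : sm ga N9087 = N6642 := ded_16_1 (flp_i L52490) (flp_a L52344) L71653
theorem L71659 : sm gf N9087 = N6627 := ded_41_1 (flp_i L52364) (flp_f L52346) L71653
theorem L71661 : sm gf N6626 = N9088 := rfl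
theorem L71663 : sm ga N9088 = N6643 := ded_13_1 (flp_f L52498) (flp_a L52360) L71661
theorem L71665 : sm gd N9088 = N9088 := ded_31_1 (flp_f L71661) L52363 L71661
theorem L71666 : sm gi N6626 = N9089 := rfl
theorem L71668 : sm ga N9089 = N6644 := ded_16_1 (flp_i L52503) (flp_a L52360) L71666
theorem L71670 : sm gd N9089 = N9089 := ded_34_1 (flp_i L71666) L52363 L71666
theorem L71671 : sm ge N9089 = N6627 := ded_38_1 (flp_i L52364) L52358 L71666
theorem L71673 : sm gg N9089 = N9089 := ded_43_1 (flp_i L71666) L52362 L71666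
theorem L71674 : sm gh N6627 = N9090 := rfl
theorem L71676 : sm ga N9090 = N6645 := ded_15_1 (flp_h L52511) (flp_a L52366) L71674
theorem L71678 : sm gg N9090 = N9090 := ded_42_1 (flp_h L71674) L52370 L71674
theorem L71679 : sm gd N9090 = N6679 := ded_33_1 (flp_h L52776) L38609 (flp_h L38327) (flp_d L52368) L71674
theorem L71723 : sm gf N6633 = N9096 := rfl
theorem L71725 : sm gb N9096 = N6739 := ded_20_1 (flp_f L53252) (flp_b L52419) L71723
theorem L71730 : sm gi N9096 = N6685 := ded_41_2 (flp_f L52825) (flp_i L52424) L71723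
theorem L71740 : sm gd N6634 = N9098 := rfl
theorem L71742 : sm gb N9098 = N6741 := ded_18_1 (flp_d L53267) (flp_b L52428) L71740
theorem L71745 : sm gh N9098 = N6637 := ded_33_2 (flp_d L52452) (flp_h L38382) L38364 L52426 L71740
theorem L71747 : sm gi N6634 = N9099 := rfl
theorem L71749 : sm gb N9099 = N6742 := ded_23_1 (flp_i L53272) (flp_b L52428) L71747
theorem L71753 : sm gh N9099 = N6688 := ded_44_1 (flp_i L52847) (flp_h L38661) (flp_i L38369) L52426 L71747
theorem L71794 : sm gi N6637 = N9105 := rfl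
theorem L71798 : sm gd N9105 = N6638 := ded_34_1 (flp_i L52457) L52452 L71794
theorem L71816 : sm gf N6641 = N9108 := rfl
theorem L71818 : sm gb N9108 = N6751 := ded_20_1 (flp_f L53328) (flp_b L52488) L71816
theorem L71820 : sm ge N9108 = N6643 := ded_35_1 (flp_f L52498) (flp_e L38416) (flp_f L38404) L52486 L71816
theorem L71822 : sm gi N6641 = N9109 := rfl
theorem L71824 : sm gb N9109 = N6752 := ded_23_1 (flp_i L53333) (flp_b L52488) L71822
theorem L71826 : sm ge N9109 = N6642 := ded_38_1 (flp_i L52490) L52486 L71822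
theorem L71828 : sm gh N6642 = N9110 := rfl
theorem L71830 : sm gb N9110 = N6753 := ded_22_1 (flp_h L53338) (flp_b L52492) L71828
theorem L71832 : sm gf N9110 = N6645 := ded_40_1 (flp_h L52511) (flp_f L52496) L71828
theorem L71834 : sm gd N9110 = N6699 := ded_33_1 (flp_h L52929) L38726 (flp_h L38414) (flp_d L52494) L71828
theorem L71836 : sm gg N6643 = N9111 := rfl
theorem L71838 : sm gb N9111 = N6754 := ded_21_1 (flp_g L53345) (flp_b L52500) L71836
theorem L71842 : sm gi N6643 = N9112 := rfl
theorem L71844 : sm gb N9112 = N6755 := ded_23_1 (flp_i L53350) (flp_b L52500) L71842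
theorem L71847 : sm gf N9112 = N6644 := ded_41_1 (flp_i L52503) L52498 L71842
theorem L71849 : sm gh N6644 = N9113 := rfl
theorem L71851 : sm gb N9113 = N6756 := ded_22_1 (flp_h L53356) (flp_b L52505) L71849
theorem L71853 : sm ge N9113 = N6645 := ded_37_1 (flp_h L52511) (flp_e L52508) L71849
theorem L71855 : sm gg N9113 = N9113 := ded_42_1 (flp_h L71849) L52510 L71849
theorem L71856 : sm gd N6646 = N9114 := rfl
theorem L71860 : sm gf N9114 = N6647 := ded_31_2 (flp_d L52526) (flp_f L52523) L71856
theorem L71864 : sm gi N6646 = N9115 := rfl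
theorem L71866 : sm gb N9115 = N6652 := ded_23_1 (flp_i L52561) (flp_b L52520) L71864
theorem L71872 : sm gh N9115 = N6704 := ded_44_1 (flp_i L52967) (flp_h L38751) (flp_i L38434) L52518 L71864
theorem L71879 : sm gi N6647 = N9117 := rfl
theorem L71885 : sm gg N9117 = N6650 := ded_43_1 (flp_i L52547) (flp_g L52530) L71879
theorem L71898 : sm gh N6650 = N9120 := rfl
theorem L71903 : sm gd N9120 = N6708 := ded_33_1 (flp_h L52998) L38785 (flp_h L38459) (flp_d L52551) L71898
theorem L71975 : sm gc N6658 = N9130 := rfl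
theorem L71977 : sm ga N9130 = N6770 := ded_10_1 (flp_c L53468) (flp_a L52610) L71975
theorem L71979 : sm gf N9130 = N9130 := ded_26_2 (flp_c L71975) L52614 L71975
theorem L71980 : sm gb N9130 = N9130 := ded_17_1 (flp_c L71975) L52612 L38555 (flp_b L52612) L71975
theorem L71981 : sm gd N9130 = N9130 := ded_24_2 (flp_c L71975) (flp_d L52608) L38515 L52608 L71975
theorem L71982 : sm gg N6658 = N9131 := rfl
theorem L71984 : sm ga N9131 = N6771 := ded_14_1 (flp_g L53474) (flp_a L52610) L71982
theorem L71986 : sm gb N9131 = N6667 := ded_21_1 (flp_g L52685) (flp_b L52612) L71982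
theorem L71988 : sm gd N9131 = N6659 := ded_32_1 (flp_g L52615) L52608 L71982
theorem L71990 : sm gh N6658 = N9132 := rfl
theorem L71992 : sm ga N9132 = N6772 := ded_15_1 (flp_h L53480) (flp_a L52610) L71990
theorem L71994 : sm gb N9132 = N6668 := ded_22_1 (flp_h L52692) (flp_b L52612) L71990
theorem L71996 : sm gf N9132 = N9132 := ded_40_1 (flp_h L71990) L52614 L71990
theorem L71997 : sm gf N6659 = N9133 := rfl
theorem L71999 : sm ga N9133 = N6773 := ded_13_1 (flp_f L53485) (flp_a L52617) L71997
theorem L72001 : sm gb N9133 = N6669 := ded_20_1 (flp_f L52698) (flp_b L52619) L71997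
theorem L72006 : sm gh N6659 = N9134 := rfl
theorem L72013 : sm ge N9134 = N6661 := ded_37_1 (flp_h L52634) (flp_e L52622) L72006
theorem L72015 : sm gg N9134 = N6660 := ded_42_1 (flp_h L52624) L52615 L72006
theorem L72017 : sm gd N6660 = N9135 := rfl
theorem L72019 : sm ga N9135 = N6775 := ded_11_1 (flp_d L53501) (flp_a L52626) L72017
theorem L72021 : sm gb N9135 = N6671 := ded_18_1 (flp_d L52716) (flp_b L52628) L72017
theorem L72023 : sm gf N9135 = N9135 := ded_31_2 (flp_d L72017) L52633 L72017
theorem L72024 : sm gi N6660 = N9136 := rfl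
theorem L72031 : sm ge N9136 = N6663 := ded_38_1 (flp_i L52652) (flp_e L52631) L72024
theorem L72034 : sm gd N6661 = N9137 := rfl
theorem L72036 : sm ga N9137 = N6777 := ded_11_1 (flp_d L53514) (flp_a L52636) L72034
theorem L72038 : sm gb N9137 = N6673 := ded_18_1 (flp_d L52730) (flp_b L52638) L72034
theorem L72040 : sm gf N9137 = N9137 := ded_31_2 (flp_d L72034) L52641 L72034
theorem L72041 : sm gg N9137 = N6662 := ded_32_2 (flp_d L52644) (flp_g L52642) L72034
theorem L72043 : sm gi N6661 = N9138 := rfl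
theorem L72045 : sm ga N9138 = N6778 := ded_16_1 (flp_i L53521) (flp_a L52636) L72043
theorem L72051 : sm gg N9138 = N6663 := ded_43_1 (flp_i L52652) (flp_g L52642) L72043
theorem L72053 : sm gc N6662 = N9139 := rfl
theorem L72055 : sm ga N9139 = N6779 := ded_10_1 (flp_c L53529) (flp_a L52646) L72053
theorem L72057 : sm gf N9139 = N6664 := ded_26_2 (flp_c L52661) (flp_f L52650) L72053
theorem L72059 : sm gb N9139 = N9139 := ded_17_1 (flp_c L72053) L52648 L38588 (flp_b L52648) L72053
theorem L72060 : sm gd N9139 = N9139 := ded_24_2 (flp_c L72053) (flp_d L52644) L38531 L52644 L72053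
theorem L72061 : sm ge N6662 = N9140 := rfl
theorem L72063 : sm ga N9140 = N6780 := ded_12_1 (flp_e L53536) (flp_a L52646) L72061
theorem L72065 : sm gb N9140 = N6675 := ded_19_1 (flp_e L52747) (flp_b L52648) L72061
theorem L72067 : sm gi N6662 = N9141 := rfl
theorem L72069 : sm ga N9141 = N6781 := ded_16_1 (flp_i L53540) (flp_a L52646) L72067
theorem L72071 : sm gb N9141 = N6676 := ded_23_1 (flp_i L52752) (flp_b L52648) L72067
theorem L72073 : sm gd N9141 = N6663 := ded_34_1 (flp_i L52652) L52644 L72067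
theorem L72075 : sm gf N9141 = N6666 := ded_41_1 (flp_i L52676) (flp_f L52650) L72067
theorem L72077 : sm ge N6664 = N9142 := rfl
theorem L72079 : sm ga N9142 = N6782 := ded_12_1 (flp_e L53548) (flp_a L52663) L72077
theorem L72081 : sm gb N9142 = N9142 := ded_19_1 (flp_e L72077) L52666 L72077
theorem L72082 : sm gc N9142 = N6665 := ded_25_1 (flp_e L52668) L52661 L72077
theorem L72084 : sm gg N9142 = N9142 := ded_36_2 (flp_e L72077) L52665 L72077
theorem L72085 : sm gi N6664 = N9143 := rfl
theorem L72087 : sm ga N9143 = N6783 := ded_16_1 (flp_i L53555) (flp_a L52663) L72085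
theorem L72089 : sm gb N9143 = N9143 := ded_23_1 (flp_i L72085) L52666 L72085
theorem L72090 : sm gc N9143 = N6666 := ded_29_1 (flp_i L52676) L52661 L72085
theorem L72092 : sm gd N9143 = N9143 := ded_34_1 (flp_i L72085) L52667 L72085
theorem L72093 : sm gg N9143 = N9143 := ded_43_1 (flp_i L72085) L52665 L72085
theorem L72094 : sm gf N6665 = N9144 := rfl
theorem L72096 : sm ga N9144 = N6784 := ded_13_1 (flp_f L53563) (flp_a L52670) L72094
theorem L72098 : sm gb N9144 = N6677 := ded_20_1 (flp_f L52761) (flp_b L52672) L72094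
theorem L72100 : sm gd N9144 = N9144 := ded_31_1 (flp_f L72094) L52675 L72094
theorem L72101 : sm gi N6665 = N9145 := rfl
theorem L72103 : sm ga N9145 = N6785 := ded_16_1 (flp_i L53568) (flp_a L52670) L72101
theorem L72105 : sm gb N9145 = N6678 := ded_23_1 (flp_i L52767) (flp_b L52672) L72101
theorem L72107 : sm gd N9145 = N9145 := ded_34_1 (flp_i L72101) L52675 L72101
theorem L72108 : sm ge N9145 = N6666 := ded_38_1 (flp_i L52676) L52668 L72101
theorem L72110 : sm gg N9145 = N9145 := ded_43_1 (flp_i L72101) L52674 L72101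
theorem L72111 : sm gh N6666 = N9146 := rfl
theorem L72113 : sm ga N9146 = N6786 := ded_15_1 (flp_h L53576) (flp_a L52678) L72111
theorem L72115 : sm gb N9146 = N6679 := ded_22_1 (flp_h L52776) (flp_b L52680) L72111
theorem L72117 : sm gg N9146 = N9146 := ded_42_1 (flp_h L72111) L52684 L72111
theorem L72118 : sm gf N6667 = N9147 := rfl
theorem L72120 : sm ga N9147 = N6685 := ded_13_1 (flp_f L52825) (flp_a L52687) L72118
theorem L72126 : sm gh N6667 = N9148 := rfl
theorem L72128 : sm ga N9148 = N6686 := ded_15_1 (flp_h L52833) (flp_a L52687) L72126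
theorem L72130 : sm gc N9148 = N9148 := ded_28_1 (flp_h L72126) L52689 L72126

end Cfsg.Agent.Helper28.FibA
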